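import Cfsg.Statements.S0991
import Cfsg.Agent.Lib.SmallGroups.Basic

set_option autoImplicit false
open Cfsg

namespace Cfsg.Agent.S0991

/-- Embedding Theorem: if a non-abelian finite simple group has a proper subgroup of index n, then it is isomorphic to a subgroup of the alternating group of degree n. -/
theorem result {G : Type*} [Group G] [Finite G] [IsSimpleGroup G] (hG : ¬ IsMulCommutative G) (H : Subgroup G) (hH : H ≠ ⊤) : ∃ f : G →* ↥(alternatingGroup (Fin H.index)), Function.Injective f := by
  classical
  have : Fintype (G ⧸ H) := Fintype.ofFinite _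
  let e : G ⧸ H ≃ Fin H.index := (Finite.equivFinOfCardEq H.index_eq_card.symm)
  let f₀ : G →* Equiv.Perm (Fin H.index) :=
    e.permCongrHom.toMonoidHom.comp (MulAction.toPermHom G (G ⧸ H))
  refine ⟨f₀.codRestrict _ fun g => Equiv.Perm.mem_alternatingGroup.mpr
    (Cfsg.Agent.SmallGroups.sign_hom_eq_one hG f₀ g), fun a b hab => ?_⟩
  exact Cfsg.Agent.SmallGroups.toPerm_injective hH
    (e.permCongrHom.injective (congrArg Subtype.val hab))

end Cfsg.Agent.S0991
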