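import Cfsg.Statements.S0494
import Cfsg.Agent.S0991

set_option autoImplicit false
open Cfsg

namespace Cfsg.Agent.S0494

/-- A simple group of order 60 is isomorphic to the alternating group of degree 5. -/
theorem result {G : Type*} [Group G] [Finite G] [IsSimpleGroup G]
    (h : Nat.card G = 60) : Nonempty (G ≃* alternatingGroup (Fin 5)) := by
  have hne : ¬ IsMulCommutative G := SmallGroups.not_comm_of_not_prime (by rw [h]; norm_num)
  have h2 : Fact (Nat.Prime 2) := ⟨Nat.prime_two⟩
  have hG2 : Nat.card G = 2 ^ 2 * 15 := by norm_num [h]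
  obtain ⟨P⟩ : Nonempty (Sylow 2 G) := inferInstance
  have hP := SmallGroups.card_sylow_eq hG2 (by norm_num) P
  have hn := SmallGroups.card_sylow_mem_list (G := G) hG2 (by norm_num)
  have hdvd : 2 ∣ Nat.card G := by rw [h]; norm_num
  have h1 := SmallGroups.card_sylow_ne_one hne hdvd
  have hfac := SmallGroups.two_mul_card_dvd_sylow hne hdvd
  have hn5 : Nat.card (Sylow 2 G) = 5 := by
    have hl : (15 : ℕ).divisors.filter (fun d => d % 2 = 1) = {1, 3, 5, 15} := by decide
    rw [hl] at hn
    simp only [Finset.mem_insert, Finset.mem_singleton] at hn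
    rcases hn with hn | hn | hn | hn
    · exact absurd hn h1
    · rw [hn, h] at hfac; exact absurd hfac (by decide)
    · exact hn
    · exfalso
      refine SmallGroups.not_normalizer_le_centralizer hne hdvd P ?_
      have hN := SmallGroups.normalizer_conj_eq_card P hn (k := 4) (by rw [h])
      rw [← Subgroup.eq_of_le_of_card_ge (Subgroup.le_normalizer : (P : Subgroup G) ≤ _) (by rw [hN, hP]; norm_num)]
      have := IsPGroup.isMulCommutative_of_card_eq_prime_sq hP
      exact Subgroup.le_centralizer_iff_isMulCommutative.mpr this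
  have hn5' : (Subgroup.normalizer ((P : Subgroup G) : Set G)).index = 5 :=
    P.card_eq_index_normalizer.symm.trans hn5
  have hne' : Subgroup.normalizer ((P : Subgroup G) : Set G) ≠ ⊤ := fun h' => by
    rw [h', Subgroup.index_top] at hn5'; norm_num at hn5'
  obtain ⟨f, hf⟩ := S0991.result hne _ hne'
  revert f
  rw [hn5']
  intro f hf
  refine ⟨MulEquiv.ofBijective f ((Nat.bijective_iff_injective_and_card f).mpr ⟨hf, ?_⟩)⟩
  have h60 := two_mul_nat_card_alternatingGroup (α := Fin 5)
  rw [Nat.card_perm, Nat.card_fin, show Nat.factorial 5 = 120 from rfl] at h60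
  omega

end Cfsg.Agent.S0494
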