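import Cfsg.Statements.S1080
-- import your own Cfsg.Agent.* helpers here

set_option autoImplicit false
open Cfsg

namespace Cfsg.Agent.S1080

lemma xMat_map {F K : Type*} [Field F] [Field K] (D : Cfsg.Lie.ChevalleyDatum) (f : F →+* K)
    (r : Fin D.nroots) (t : F) : (D.xMat F r t).map f = D.xMat K r (f t) := by
  ext row col
  rcases col with i | s <;> rcases row with i' | u <;>
    simp only [Cfsg.Lie.ChevalleyDatum.xMat, Matrix.map_apply, Matrix.of_apply]
  · split <;> simp
  · split <;> simp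
  · split_ifs <;> simp
  · split_ifs <;> simp [map_list_sum, List.map_map, Function.comp_def]

lemma map_group_le {F K : Type*} [Field F] [Field K] (D : Cfsg.Lie.ChevalleyDatum) (f : F →+* K) :
    (D.group F).map (Matrix.GeneralLinearGroup.map (n := D.Idx) f) ≤ D.group K := by
  rw [Cfsg.Lie.ChevalleyDatum.group, MonoidHom.map_closure, Subgroup.closure_le]
  rintro _ ⟨g, ⟨r, t, hg⟩, rfl⟩
  refine Subgroup.subset_closure ⟨r, f t, ?_⟩
  rw [← xMat_map]
  ext i j
  simp [hg]

/-- Field automorphisms: for every field automorphism `f` there is a group automorphism sending each `x_r(t)` to `x_r(f t)`. -/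
theorem result {F : Type*} [Field F] (D : Cfsg.Lie.ChevalleyDatum) (hD : D ∈ [Cfsg.Lie.chevG2, Cfsg.Lie.chevB2, Cfsg.Lie.chevD4, Cfsg.Lie.chevF4, Cfsg.Lie.chevE6, Cfsg.Lie.chevE7, Cfsg.Lie.chevE8]) (f : F ≃+* F) :
    ∃ α : ↥(D.group F) ≃* ↥(D.group F), ∀ (g : ↥(D.group F)) (r : ℕ) (t : F), r < D.nroots →
      ((g : GL D.Idx F) : Matrix D.Idx D.Idx F) = D.x F r t → ((α g : GL D.Idx F) : Matrix D.Idx D.Idx F) = D.x F r (f t) := by
  let G := D.group F
  let m : (f' : F →+* F) → G →* G := fun f' =>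
    MonoidHom.codRestrict ((Matrix.GeneralLinearGroup.map (n := D.Idx) f').comp G.subtype) G
      fun g => map_group_le D f' ⟨g.1, g.2, rfl⟩
  have hm : ∀ (a b : F →+* F) (_ : ∀ x, a (b x) = x) (g : G), m a (m b g) = g := by
    intro a b hab g
    ext i j
    simp [m, hab]
  refine ⟨MonoidHom.toMulEquiv (m f.toRingHom) (m f.symm.toRingHom) ?_ ?_, ?_⟩
  · exact MonoidHom.ext (hm _ _ fun x => f.symm_apply_apply x)
  · exact MonoidHom.ext (hm _ _ fun x => f.apply_symm_apply x)
  · intro g r t hr hg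
    simp only [Cfsg.Lie.ChevalleyDatum.x, dif_pos hr] at hg ⊢
    have := xMat_map D f.toRingHom ⟨r, hr⟩ t
    rw [← hg] at this
    exact this

end Cfsg.Agent.S1080
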