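import Cfsg.Statements.S1074
import Cfsg.Agent.ChevGroup.Tits.Simple
-- import your own Cfsg.Agent.* helpers here

set_option autoImplicit false
set_option maxRecDepth 4000
set_option maxHeartbeats 300000
open Cfsg

namespace Cfsg.Agent.S1074

/-- ²F₄(2)′ has index 2 in ²F₄(2), is simple, and has order `2¹¹ · 3³ · 5² · 13`. -/
theorem result : (commutator ↥(Cfsg.Lie.twistedF4 (ZMod 2) 1)).index = 2 ∧ IsSimpleGroup Cfsg.Lie.TitsGroup ∧ ¬ IsMulCommutative Cfsg.Lie.TitsGroup ∧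
    Nat.card Cfsg.Lie.TitsGroup = 2 ^ 11 * 3 ^ 3 * 5 ^ 2 * 13 := by
  let e : ↥(Agent.Twisted.genG Agent.Twisted.TypeF4.MT
      (Agent.ChevGroup.relsOfCommGood Agent.ChevCore.commGoodF4 (ZMod 2)) (Cfsg.Lie.f4Words (ZMod 2) (2 ^ 0))) ≃*
      ↥(Cfsg.Lie.twistedF4 (ZMod 2) 1) := Agent.Twisted.genEquiv Agent.Twisted.TypeF4.MT
    (Agent.ChevGroup.relsOfCommGood Agent.ChevCore.commGoodF4 (ZMod 2)) (Cfsg.Lie.f4Words (ZMod 2) (2 ^ 0))
  have h := ChevGroup.TitsIdx.facts_of_equiv e ChevGroup.TitsIdx.index_commutator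
    ChevGroup.TitsIdx.isSimple_comm ChevGroup.TitsIdx.not_comm_comm ChevGroup.TitsIdx.card_comm
  rw [show 2 ^ 11 * 3 ^ 3 * 5 ^ 2 * 13 = 2 ^ 11 * 8775 by norm_num]
  exact h

end Cfsg.Agent.S1074
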