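import Cfsg.Statements.S0293
import Cfsg.Agent.Lib.UnitaryOrthogonal.OmegaStandard

set_option autoImplicit false
open Cfsg Cfsg.Agent.UnitaryOrthogonal

namespace Cfsg.Agent.S0293

/-- gcd(4, q^m - 1) |PΩ^+_{2m}(q)| = q^(m(m-1)) (q^m - 1) prod_{i=1}^{m-1} (q^(2i) - 1), m at least 4 (type D_m). -/
theorem result {F : Type*} [Field F] [Fintype F] {q : ℕ} (hF : Fintype.card F = q) (m : ℕ) (hm : 4 ≤ m) : Nat.gcd 4 (q ^ m - 1) * Nat.card (Cfsg.POmega F (Cfsg.quadFormPlus m F)) = q ^ (m * (m - 1)) * (q ^ m - 1) * ∏ i ∈ Finset.range (m - 1), (q ^ (2 * (i + 1)) - 1) := by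
  subst hF
  obtain ⟨k, rfl⟩ : ∃ k, m = k + 2 := ⟨m - 2, by omega⟩
  have h := (pomega_plus (F := F) k (by omega)).2
  rw [card_orth_plus (k + 1), Nat.card_eq_fintype_card (α := F)] at h
  show _ = Fintype.card F ^ ((k + 2) * (k + 1)) * (Fintype.card F ^ (k + 2) - 1) *
    ∏ i ∈ Finset.range (k + 1), (Fintype.card F ^ (2 * (i + 1)) - 1)
  refine Nat.eq_of_mul_eq_mul_left two_pos ?_
  simp only [← mul_assoc]
  exact h

end Cfsg.Agent.S0293
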