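import Cfsg.Statements.S2363
import Cfsg.Agent.LieTypeBound.Families

set_option autoImplicit false
open Cfsg

namespace Cfsg.Agent.S2363

/-- Let G be a finite simple group of Lie type in characteristic p and let p^k be the exact power of p dividing the order of G. Then the order of G is less than p^(3k); and unless G is isomorphic to PSL(2, F) for the field F with p^k elements, the cube of the order of G is less than p^(8k) (that is, the order is below p^(8k/3)). -/
theorem result {G : Type*} [Group G] [Finite G] (p : ℕ) (hp : p.Prime) (hG : Cfsg.IsLieTypeChar p G) :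
    Nat.card G < p ^ (3 * (Nat.card G).factorization p) ∧
      ((¬ ∃ (F : Type) (_ : Field F) (_ : Fintype F), Fintype.card F = p ^ (Nat.card G).factorization p ∧
          Nonempty (G ≃* Matrix.ProjectiveSpecialLinearGroup (Fin 2) F)) →
        Nat.card G ^ 3 < p ^ (8 * (Nat.card G).factorization p)) := by
  have fin : LieTypeBound.Bnd p (Nat.card G) →
      Nat.card G < p ^ (3 * (Nat.card G).factorization p) ∧
      ((¬ ∃ (F : Type) (_ : Field F) (_ : Fintype F), Fintype.card F = p ^ (Nat.card G).factorization p ∧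
          Nonempty (G ≃* Matrix.ProjectiveSpecialLinearGroup (Fin 2) F)) →
        Nat.card G ^ 3 < p ^ (8 * (Nat.card G).factorization p)) := fun h => ⟨h.1, fun _ => h.2⟩
  rcases hG with hG | hG | hG | hG | hG | hG | hG | hG | hG | hG | hG
  · obtain ⟨F, i1, i2, i3, n, hn, -, ⟨e⟩⟩ := hG
    obtain ⟨k, rfl⟩ : ∃ k, n = k + 1 := ⟨n - 1, by omega⟩
    obtain ⟨f, hf, hF⟩ := LieTypeBound.exists_pow hp F
    obtain ⟨A, h, e1, e2, hA, hA1⟩ := LieTypeBound.psl_data hp hf hF k (by omega)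
    rw [← Nat.card_congr e.toEquiv] at h
    have hq : 2 ≤ p ^ f := hp.two_le.trans (Nat.le_self_pow (by omega) p)
    have hd : Nat.gcd (k + 1) (p ^ f - 1) ≠ 0 := (Nat.gcd_pos_of_pos_left _ (by omega)).ne'
    have hc : Nat.Coprime (p ^ f) (Nat.gcd (k + 1) (p ^ f - 1)) := by
      simpa using LieTypeBound.cop_sub_one (q := p ^ f) (M := 1) (by omega) le_rfl (k + 1)
    by_cases hk : k = 1
    · subst hk
      rw [hA1 rfl] at h
      obtain ⟨h1, h2⟩ := LieTypeBound.two_facts hp hf hd hc Nat.card_pos.ne' h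
      exact ⟨h1, fun hno => absurd ⟨F, i1, i2, by rw [h2, hF], ⟨e⟩⟩ hno⟩
    · refine fin (LieTypeBound.bnd_of hp hf Nat.card_pos.ne' hd hc h hA ?_)
      have : 2 * k ≤ k * k := Nat.mul_le_mul_right k (show 2 ≤ k by omega)
      rw [add_mul, one_mul] at e1
      rw [mul_add] at e2
      rw [add_mul, one_mul, mul_add]
      omega
  · obtain ⟨F, i1, i2, i3, m, hm, -, ⟨e⟩⟩ := hG
    exact fin (Nat.card_congr e.toEquiv ▸ LieTypeBound.psp_bnd hp hm)
  · obtain ⟨F, i1, i2, i3, n, q, hF, hn, -, ⟨e⟩⟩ := hG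
    exact fin (Nat.card_congr e.toEquiv ▸ LieTypeBound.psu_bnd hp hF hn)
  · obtain ⟨F, i1, i2, i3, m, hm, ho, ⟨e⟩⟩ := hG
    exact fin (Nat.card_congr e.toEquiv ▸ LieTypeBound.odd_bnd hp hm ho)
  · obtain ⟨F, i1, i2, i3, m, hm, ⟨e⟩⟩ := hG
    exact fin (Nat.card_congr e.toEquiv ▸ LieTypeBound.plus_bnd hp hm)
  · obtain ⟨F, i1, i2, i3, m, a, b, hm, hab, ⟨e⟩⟩ := hG
    exact fin (Nat.card_congr e.toEquiv ▸ LieTypeBound.minus_bnd hp hm a b hab)
  · obtain ⟨F, i1, i2, i3, h⟩ := hG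
    refine fin (LieTypeBound.chev_bnd hp ?_ (F := F))
    tauto
  · obtain ⟨K, i1, i2, i3, q, hq, h⟩ := hG
    exact fin (LieTypeBound.twisted_bnd hp hq h)
  · obtain ⟨rfl, h⟩ := hG
    exact fin (LieTypeBound.sz_bnd h)
  · obtain ⟨rfl, h⟩ := hG
    exact fin (LieTypeBound.f4_bnd h)
  · obtain ⟨rfl, h⟩ := hG
    exact fin (LieTypeBound.ree_bnd h)

end Cfsg.Agent.S2363
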