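import Cfsg.Statements.S2530
-- import your own Cfsg.Agent.* helpers here

set_option autoImplicit false
open Cfsg

namespace Cfsg.Agent.S2530

open CoxeterMatrix

section
variable (n : ℕ)

/-- the simple generators, indexed by `ℕ` -/
def gen (j : ℕ) : (CoxeterMatrix.A n).Group :=
  if h : j < n then (CoxeterMatrix.A n).simple ⟨j, h⟩ else 1

theorem gen_sq (j : ℕ) : gen n j * gen n j = 1 := by
  unfold gen
  split
  · exact (CoxeterMatrix.A n).toCoxeterSystem.simple_mul_simple_self _
  · exact one_mul 1

theorem gen_rel {i j : ℕ} (hi : i < n) (hj : j < n) :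
    (gen n i * gen n j) ^ ((CoxeterMatrix.A n) ⟨i, hi⟩ ⟨j, hj⟩) = 1 := by
  rw [gen, gen, dif_pos hi, dif_pos hj]
  exact (CoxeterMatrix.A n).toCoxeterSystem.simple_mul_simple_pow _ _

theorem gen_comm {i j : ℕ} (h : i + 2 ≤ j) : Commute (gen n i) (gen n j) := by
  by_cases hj : j < n
  · have h2 := gen_rel n (i := i) (j := j) (by omega) hj
    have hM : (CoxeterMatrix.A n) ⟨i, by omega⟩ ⟨j, hj⟩ = 2 := by
      show (if _ then _ else _) = _
      rw [if_neg (by simp; omega), if_neg (by simp; omega)]
    rw [hM, sq] at h2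
    have e : ∀ x, (gen n x)⁻¹ = gen n x := fun x => inv_eq_of_mul_eq_one_right (gen_sq n x)
    show gen n i * gen n j = gen n j * gen n i
    rw [eq_inv_of_mul_eq_one_left h2, mul_inv_rev, e, e]
  · rw [gen, gen, dif_neg hj]; exact Commute.one_right _

theorem gen_braid {j : ℕ} (hj : j + 1 < n) :
    gen n (j + 1) * gen n j * gen n (j + 1) = gen n j * gen n (j + 1) * gen n j := by
  have h3 := gen_rel n (i := j + 1) (j := j) hj (by omega)
  have hM : (CoxeterMatrix.A n) ⟨j + 1, hj⟩ ⟨j, by omega⟩ = 3 := by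
    show (if _ then _ else _) = _
    rw [if_neg (by simp), if_pos (by simp)]
  rw [hM] at h3
  have e : ∀ x, (gen n x)⁻¹ = gen n x := fun x => inv_eq_of_mul_eq_one_right (gen_sq n x)
  set a := gen n (j + 1)
  set b := gen n j
  have h4 : (a * b * a) * (b * a * b) = 1 := by
    rw [← h3, pow_succ, pow_succ, pow_one]; simp only [mul_assoc]
  rw [eq_inv_of_mul_eq_one_left h4, mul_inv_rev, mul_inv_rev, e (j + 1), e j, mul_assoc]

/-- `s_(n-1) s_(n-2) ⋯ s_(n-d)` -/
def tail : ℕ → (CoxeterMatrix.A n).Group
  | 0 => 1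
  | d + 1 => tail d * gen n (n - 1 - d)

theorem tail_comm {j : ℕ} : ∀ {d : ℕ}, j + 1 + d < n → Commute (gen n j) (tail n d)
  | 0, _ => Commute.one_right _
  | d + 1, h => (tail_comm (by omega)).mul_right (gen_comm n (by omega))

theorem tail_shift : ∀ {d j : ℕ}, d ≤ n → n - d ≤ j → j + 1 < n →
    tail n d * gen n (j + 1) = gen n j * tail n d
  | 0, j, _, h1, h2 => by omega
  | d + 1, j, hd, h1, h2 => by
    rcases Nat.lt_or_ge j (n - d) with h | h
    · -- `j = n - d - 1`
      obtain ⟨d, rfl⟩ : ∃ d', d = d' + 1 := ⟨d - 1, by omega⟩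
      show tail n d * gen n (n - 1 - d) * gen n (n - 1 - (d + 1)) * gen n (j + 1) = _ * (tail n d * gen n (n - 1 - d) * gen n (n - 1 - (d + 1)))
      rw [show n - 1 - d = j + 1 by omega, show n - 1 - (d + 1) = j by omega, mul_assoc (tail n d),
        mul_assoc (tail n d), gen_braid n h2]
      simp only [← mul_assoc]
      rw [(tail_comm n (d := d) (j := j) (by omega)).eq]
    · show tail n d * gen n (n - 1 - d) * gen n (j + 1) = _ * (tail n d * gen n (n - 1 - d))
      rw [mul_assoc, (gen_comm n (i := n - 1 - d) (j := j + 1) (by omega)).eq, ← mul_assoc,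
        tail_shift (by omega) h h2, mul_assoc]

end

/-- `A_(n) → A_(n+1)` -/
def up (n : ℕ) : (CoxeterMatrix.A n).Group →* (CoxeterMatrix.A (n + 1)).Group :=
  (CoxeterMatrix.A n).toCoxeterSystem.lift ⟨fun i => (CoxeterMatrix.A (n + 1)).simple i.castSucc, fun i j => by
    have : (CoxeterMatrix.A n) i j = (CoxeterMatrix.A (n + 1)) i.castSucc j.castSucc := by
      show (if _ then _ else _) = (if _ then _ else _)
      simp only [Fin.castSucc_inj, Fin.val_castSucc]
    rw [this]
    exact (CoxeterMatrix.A (n + 1)).toCoxeterSystem.simple_mul_simple_pow _ _⟩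

theorem up_gen (n : ℕ) {j : ℕ} (hj : j < n) : up n (gen n j) = gen (n + 1) j := by
  rw [gen, gen, dif_pos hj, dif_pos (by omega)]
  exact (CoxeterMatrix.A n).toCoxeterSystem.lift_apply_simple _ ⟨j, hj⟩

/-- the candidate normal forms -/
def nf (n : ℕ) : (CoxeterMatrix.A n).Group × Fin (n + 2) → (CoxeterMatrix.A (n + 1)).Group :=
  fun p => up n p.1 * tail (n + 1) p.2

theorem nf_surjective (n : ℕ) : Function.Surjective (nf n) := by
  intro w
  induction w using (CoxeterMatrix.A (n + 1)).toCoxeterSystem.simple_induction_right with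
  | one => exact ⟨(1, 0), by simp [nf, tail]⟩
  | mul_simple_right w i hw =>
    obtain ⟨⟨h, ⟨d, hd⟩⟩, rfl⟩ := hw
    have hs : (CoxeterMatrix.A (n + 1)).toCoxeterSystem.simple i = gen (n + 1) i := by
      rw [gen, dif_pos i.2]; rfl
    rw [hs]
    show ∃ p, nf n p = up n h * tail (n + 1) d * gen (n + 1) i
    obtain ⟨j, hj⟩ := i
    show ∃ p, nf n p = up n h * tail (n + 1) d * gen (n + 1) j
    by_cases h1 : j + d = n
    · exact ⟨(h, ⟨d + 1, by omega⟩), by rw [nf, mul_assoc]; show _ = up n h * (_ * gen (n+1) j); rw [tail, show n + 1 - 1 - d = j by omega]⟩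
    by_cases h2 : j + d = n + 1
    · obtain ⟨d, rfl⟩ : ∃ d', d = d' + 1 := ⟨d - 1, by omega⟩
      refine ⟨(h, ⟨d, by omega⟩), ?_⟩
      rw [nf, mul_assoc, tail, show n + 1 - 1 - d = j by omega, mul_assoc (tail (n + 1) d), gen_sq, mul_one]
    by_cases h3 : j + d < n
    · refine ⟨(h * gen n j, ⟨d, hd⟩), ?_⟩
      rw [nf, map_mul, up_gen n (by omega), mul_assoc, (tail_comm (n + 1) (d := d) (j := j) (by omega)).eq, ← mul_assoc]
    · obtain ⟨j, rfl⟩ : ∃ j', j = j' + 1 := ⟨j - 1, by omega⟩
      refine ⟨(h * gen n j, ⟨d, hd⟩), ?_⟩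
      rw [nf, map_mul, up_gen n (by omega), mul_assoc, ← tail_shift (n + 1) (d := d) (j := j) (by omega) (by omega) hj,
        ← mul_assoc]

theorem finite_card : ∀ n : ℕ, Finite (CoxeterMatrix.A n).Group ∧ Nat.card (CoxeterMatrix.A n).Group ≤ (n + 1).factorial
  | 0 => by
    have : Subsingleton (CoxeterMatrix.A 0).Group := ⟨fun a b => by
      have : ∀ x : (CoxeterMatrix.A 0).Group, x = 1 := fun x => by
        induction x using (CoxeterMatrix.A 0).toCoxeterSystem.simple_induction_right with
        | one => rfl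
        | mul_simple_right w i _ => exact Fin.elim0 i
      rw [this a, this b]⟩
    exact ⟨inferInstance, by simp⟩
  | n + 1 => by
    obtain ⟨hf, hc⟩ := finite_card n
    haveI := Finite.of_surjective _ (nf_surjective n)
    refine ⟨inferInstance, (Nat.card_le_card_of_surjective _ (nf_surjective n)).trans ?_⟩
    rw [Nat.card_prod, Nat.card_fin, Nat.factorial_succ (n + 1), Nat.mul_comm]
    exact Nat.mul_le_mul_left _ hc


/-- The Coxeter presentation of the symmetric group: for every n, the symmetric group on n+1 letters is the Coxeter group of type A_n with the adjacent transpositions (i, i+1) as simple reflections; that is, it is presented by generators r_1, …, r_n subject to r_i² = 1, (r_i r_j)² = 1 for |i − j| > 1 and (r_i r_{i+1})³ = 1, with r_i mapping to (i, i+1). -/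
theorem result (n : ℕ) :
    ∃ cs : CoxeterSystem (CoxeterMatrix.A n) (Equiv.Perm (Fin (n + 1))), ∀ i : Fin n, cs.simple i = Equiv.swap i.castSucc i.succ := by
  classical
  let M := CoxeterMatrix.A n
  let f : Fin n → Equiv.Perm (Fin (n + 1)) := fun i => Equiv.swap i.castSucc i.succ
  have hmul : ∀ i j : Fin n, (i : ℕ) + 1 = j → (f i * f j) ^ 3 = 1 ∧ (f j * f i) ^ 3 = 1 := by
    intro i j h
    have hb : i.succ = j.castSucc := Fin.ext (by simp [h])
    have h3 : (f i * f j).IsThreeCycle := by
      show (Equiv.swap i.castSucc i.succ * Equiv.swap j.castSucc j.succ).IsThreeCycle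
      rw [← hb, Equiv.swap_comm i.castSucc]
      apply Equiv.Perm.isThreeCycle_swap_mul_swap_same
      · exact (Fin.castSucc_lt_succ (i := i)).ne'
      · intro e
        have := congrArg Fin.val e
        simp at this; omega
      · intro e
        have := congrArg Fin.val e
        simp at this; omega
    have e : (f i * f j) ^ 3 = 1 := by rw [← h3.orderOf, pow_orderOf_eq_one]
    refine ⟨e, ?_⟩
    rw [show f j * f i = (f i * f j)⁻¹ by simp [f, Equiv.swap_inv], inv_pow, e, inv_one]
  have hlift : M.IsLiftable f := by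
    intro i j
    show (f i * f j) ^ (if _ then _ else _) = 1
    by_cases hij : i = j
    · subst hij; rw [if_pos rfl, pow_one]; exact Equiv.swap_mul_self _ _
    have hij' : (i : ℕ) ≠ j := fun h => hij (Fin.ext h)
    rw [if_neg hij]
    by_cases h : (j : ℕ) + 1 = i ∨ (i : ℕ) + 1 = j
    · rw [if_pos h]
      rcases h with h | h
      · exact (hmul j i h).2
      · exact (hmul i j h).1
    · rw [if_neg h]
      obtain ⟨h1, h2⟩ := not_or.mp h
      have hd : Equiv.Perm.Disjoint (f i) (f j) := by
        intro x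
        by_cases hx : x = i.castSucc ∨ x = i.succ
        · right
          apply Equiv.swap_apply_of_ne_of_ne <;>
          · intro e
            rcases hx with hx | hx <;> (rw [hx] at e; have := congrArg Fin.val e; simp at this; omega)
        · left
          exact Equiv.swap_apply_of_ne_of_ne (fun e => hx (Or.inl e)) (fun e => hx (Or.inr e))
      rw [sq, mul_assoc, ← mul_assoc (f j), ← hd.commute.eq, mul_assoc (f i), Equiv.swap_mul_self, mul_one,
        Equiv.swap_mul_self]
  let φ := M.toCoxeterSystem.lift ⟨f, hlift⟩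
  have hsurj : Function.Surjective φ := by
    rw [← MonoidHom.mrange_eq_top, eq_top_iff, ← Equiv.Perm.mclosure_swap_castSucc_succ, Submonoid.closure_le]
    rintro _ ⟨i, rfl⟩
    exact ⟨M.toCoxeterSystem.simple i, M.toCoxeterSystem.lift_apply_simple hlift i⟩
  obtain ⟨hf, hc⟩ := finite_card n
  haveI := hf
  have hbij : Function.Bijective φ := by
    refine Function.Surjective.bijective_of_nat_card_le hsurj ?_
    rw [Nat.card_eq_fintype_card (α := Equiv.Perm (Fin (n + 1))), Fintype.card_perm, Fintype.card_fin]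
    exact hc
  refine ⟨⟨(MulEquiv.ofBijective φ hbij).symm⟩, fun i => ?_⟩
  exact M.toCoxeterSystem.lift_apply_simple hlift i

end Cfsg.Agent.S2530
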