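import Cfsg.Statements.S3335
import Cfsg.Agent.S2530

set_option autoImplicit false
open Cfsg

namespace Cfsg.Agent.S3335

open CoxeterMatrix in
theorem entry (m : ℕ) (i j : Fin m) :
    (CoxeterMatrix.A m) i j = if i = j then 1 else if (j : ℕ) + 1 = i ∨ (i : ℕ) + 1 = j then 3 else 2 :=
  rfl

abbrev rels (m : ℕ) : Set (FreeGroup (Fin m)) :=
  {g : FreeGroup (Fin m) | ∃ i : Fin m, i.val = 0 ∧ g = FreeGroup.of i ^ 3} ∪
    {g | ∃ i : Fin m, 1 ≤ i.val ∧ g = FreeGroup.of i ^ 2} ∪
    {g | ∃ i j : Fin m, j.val = i.val + 1 ∧ g = (FreeGroup.of i * FreeGroup.of j) ^ 3} ∪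
    {g | ∃ i j : Fin m, i.val + 1 < j.val ∧ g = (FreeGroup.of i * FreeGroup.of j) ^ 2}

theorem lift_rels {m : ℕ} {G : Type*} [Group G] (f : Fin m → G)
    (h1 : ∀ i : Fin m, i.val = 0 → f i ^ 3 = 1)
    (h2 : ∀ i : Fin m, 1 ≤ i.val → f i ^ 2 = 1)
    (h3 : ∀ i j : Fin m, j.val = i.val + 1 → (f i * f j) ^ 3 = 1)
    (h4 : ∀ i j : Fin m, i.val + 1 < j.val → (f i * f j) ^ 2 = 1) :
    ∀ r ∈ rels m, FreeGroup.lift f r = 1 := by
  rintro r (((⟨i, hi, rfl⟩ | ⟨i, hi, rfl⟩) | ⟨i, j, hij, rfl⟩) | ⟨i, j, hij, rfl⟩)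
  · simpa using h1 i hi
  · simpa using h2 i hi
  · simpa using h3 i j hij
  · simpa using h4 i j hij

section
variable {m : ℕ}

abbrev P (m : ℕ) := PresentedGroup (rels m)

theorem pr (r : FreeGroup (Fin m)) (hr : r ∈ rels m) : PresentedGroup.mk (rels m) r = 1 :=
  PresentedGroup.one_of_mem hr

abbrev gx (i : Fin m) : P m := PresentedGroup.of i

theorem gx_pow3 {i : Fin m} (hi : i.val = 0) : gx i ^ 3 = 1 := by
  rw [show gx i ^ 3 = PresentedGroup.mk (rels m) (FreeGroup.of i ^ 3) from (map_pow _ _ _).symm]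
  exact pr _ (Or.inl (Or.inl (Or.inl ⟨i, hi, rfl⟩)))

theorem gx_pow2 {i : Fin m} (hi : 1 ≤ i.val) : gx i ^ 2 = 1 := by
  rw [show gx i ^ 2 = PresentedGroup.mk (rels m) (FreeGroup.of i ^ 2) from (map_pow _ _ _).symm]
  exact pr _ (Or.inl (Or.inl (Or.inr ⟨i, hi, rfl⟩)))

theorem gx_inv {i : Fin m} (hi : 1 ≤ i.val) : (gx i)⁻¹ = gx i :=
  inv_eq_of_mul_eq_one_right (by rw [← pow_two]; exact gx_pow2 hi)

theorem gx_adj {i j : Fin m} (hij : j.val = i.val + 1) : (gx i * gx j) ^ 3 = 1 := by
  rw [show (gx i * gx j) ^ 3 = PresentedGroup.mk (rels m) ((FreeGroup.of i * FreeGroup.of j) ^ 3) by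
    rw [map_pow, map_mul]; rfl]
  exact pr _ (Or.inl (Or.inr ⟨i, j, hij, rfl⟩))

theorem gx_far {i j : Fin m} (hij : i.val + 1 < j.val) : (gx i * gx j) ^ 2 = 1 := by
  rw [show (gx i * gx j) ^ 2 = PresentedGroup.mk (rels m) ((FreeGroup.of i * FreeGroup.of j) ^ 2) by
    rw [map_pow, map_mul]; rfl]
  exact pr _ (Or.inr ⟨i, j, hij, rfl⟩)

/-- the twisted generators -/
def tw (i : Fin m) : P m := if i.val = 0 then (gx i)⁻¹ else gx i

theorem inv_mul_pow_one {G : Type*} [Group G] (a b : G) (n : ℕ) (hb : b⁻¹ = b)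
    (h : (a * b) ^ n = 1) : (a⁻¹ * b) ^ n = 1 := by
  have h2 : (b * a) ^ n = 1 := by
    rw [show b * a = b * (a * b) * b⁻¹ by group, conj_pow, h, mul_one, mul_inv_cancel]
  have h3 : a⁻¹ * b = (b * a)⁻¹ := by rw [mul_inv_rev, hb]
  rw [h3, inv_pow, h2, inv_one]

theorem tw_rels : ∀ r ∈ rels m, FreeGroup.lift (tw (m := m)) r = 1 := by
  refine lift_rels _ ?_ ?_ ?_ ?_
  · intro i hi; rw [tw, if_pos hi, inv_pow, gx_pow3 hi, inv_one]
  · intro i hi; rw [tw, if_neg (by omega)]; exact gx_pow2 hi
  · intro i j hij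
    rw [tw, tw, if_neg (show ¬ j.val = 0 by omega)]
    split
    · exact inv_mul_pow_one _ _ _ (gx_inv (by omega)) (gx_adj hij)
    · exact gx_adj hij
  · intro i j hij
    rw [tw, tw, if_neg (show ¬ j.val = 0 by omega)]
    split
    · exact inv_mul_pow_one _ _ _ (gx_inv (by omega)) (gx_far hij)
    · exact gx_far hij

def τ₀ : P m →* P m := PresentedGroup.toGroup tw_rels

theorem τ₀_τ₀ (p : P m) : τ₀ (τ₀ p) = p := by
  have : (τ₀ (m := m)).comp τ₀ = MonoidHom.id _ := PresentedGroup.ext fun i => by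
    simp only [MonoidHom.comp_apply, MonoidHom.id_apply, τ₀, PresentedGroup.toGroup.of]
    by_cases hi : i.val = 0
    · rw [tw, if_pos hi, map_inv, PresentedGroup.toGroup.of, tw, if_pos hi, inv_inv]
    · rw [tw, if_neg hi, PresentedGroup.toGroup.of, tw, if_neg hi]
  exact DFunLike.congr_fun this p

def τ : MulAut (P m) :=
  { toFun := τ₀, invFun := τ₀, left_inv := τ₀_τ₀, right_inv := τ₀_τ₀, map_mul' := map_mul _ }

theorem τ_of (i : Fin m) : (τ : MulAut (P m)) (gx i) = tw i := PresentedGroup.toGroup.of tw_rels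

theorem τ_mul_τ : (τ : MulAut (P m)) * τ = 1 := MulEquiv.ext fun p => τ₀_τ₀ p

abbrev C2 := Multiplicative (ZMod 2)

theorem C2_cases (c : C2) : c = 1 ∨ c = Multiplicative.ofAdd 1 := by revert c; decide

def act : C2 →* MulAut (P m) where
  toFun c := if c = 1 then 1 else τ
  map_one' := if_pos rfl
  map_mul' a b := by
    rcases C2_cases a with rfl | rfl <;> rcases C2_cases b with rfl | rfl
    · simp
    · simp
    · simp
    · rw [if_pos (by decide), if_neg (by decide), τ_mul_τ]

theorem act_one : act (m := m) (Multiplicative.ofAdd 1) = τ := by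
  simp [act]

abbrev W (m : ℕ) := P m ⋊[act] C2

def u : W m := SemidirectProduct.inr (Multiplicative.ofAdd 1)

theorem u_mul_u : (u : W m) * u = 1 := by
  rw [u, ← map_mul, show (Multiplicative.ofAdd 1 * Multiplicative.ofAdd 1 : C2) = 1 from by decide,
    map_one]

theorem u_conj (p : P m) : (u : W m) * SemidirectProduct.inl p = SemidirectProduct.inl (τ p) * u := by
  have h := SemidirectProduct.inl_aut (φ := act (m := m)) (Multiplicative.ofAdd 1) p
  rw [act_one] at h
  rw [h, u, map_inv, inv_mul_cancel_right]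

theorem u_sq_conj (p p' : P m) :
    (u * SemidirectProduct.inl p) * (u * SemidirectProduct.inl p')
      = (SemidirectProduct.inl (τ p * p') : W m) := by
  rw [u_conj p, mul_assoc, ← mul_assoc u u, u_mul_u, one_mul, ← map_mul]

end

theorem main (k : ℕ) : Nonempty (P (k + 1) ≃* alternatingGroup (Fin (k + 3))) := by
  classical
  obtain ⟨cs, hcs⟩ := Cfsg.Agent.S2530.result (k + 2)
  have h00 : ((0 : Fin (k + 2)) : ℕ) = 0 := rfl
  set s : Fin (k + 2) → Equiv.Perm (Fin (k + 3)) := fun i => cs.simple i with hs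
  have hrel : ∀ i j : Fin (k + 2), (s i * s j) ^ (CoxeterMatrix.A (k + 2)) i j = 1 := fun i j =>
    cs.simple_mul_simple_pow i j
  have hss : ∀ i, s i * s i = 1 := fun i => cs.simple_mul_simple_self i
  have hinv : ∀ i, (s i)⁻¹ = s i := fun i => inv_eq_of_mul_eq_one_right (hss i)
  have hcomm : ∀ i j : Fin (k + 2), (i : ℕ) + 1 < j → Commute (s i) (s j) := by
    intro i j hij
    have h := hrel i j
    rw [entry, if_neg (by omega), if_neg (by omega), pow_two] at h
    have h' := eq_inv_of_mul_eq_one_left h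
    rwa [mul_inv_rev, hinv, hinv] at h'
  have hadj : ∀ i j : Fin (k + 2), (i : ℕ) + 1 = j → (s i * s j) ^ 3 = 1 := by
    intro i j hij
    have h := hrel i j
    rwa [entry, if_neg (by omega), if_pos (Or.inr hij)] at h
  have hfar : ∀ i j : Fin (k + 2), (i : ℕ) + 1 < j → (s i * s j) ^ 2 = 1 := by
    intro i j hij
    rw [(hcomm i j hij).mul_pow, pow_two, pow_two, hss, hss, one_mul]
  let f : Fin (k + 1) → Equiv.Perm (Fin (k + 3)) := fun i => s 0 * s i.succ
  have hf : ∀ r ∈ rels (k + 1), FreeGroup.lift f r = 1 := by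
    refine lift_rels _ ?_ ?_ ?_ ?_
    · intro i hi
      exact hadj 0 i.succ (by simp only [Fin.val_succ, h00]; omega)
    · intro i hi
      exact hfar 0 i.succ (by simp only [Fin.val_succ, h00]; omega)
    all_goals
      intro i j hij
      have hj : Commute (s 0) (s j.succ) := hcomm 0 j.succ (by simp only [Fin.val_succ, h00]; omega)
      have e : f i * f j = s 0 * (s i.succ * s j.succ) * (s 0)⁻¹ := by
        simp only [f]
        rw [hinv, mul_assoc (s 0) (s i.succ * s j.succ), mul_assoc (s i.succ), ← hj.eq]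
        simp only [mul_assoc]
      rw [e, conj_pow]
    · rw [hadj i.succ j.succ (by simp only [Fin.val_succ, h00]; omega), mul_one, mul_inv_cancel]
    · rw [hfar i.succ j.succ (by simp only [Fin.val_succ, h00]; omega), mul_one, mul_inv_cancel]
  let ψ₀ : P (k + 1) →* Equiv.Perm (Fin (k + 3)) := PresentedGroup.toGroup hf
  let ψC : C2 →* Equiv.Perm (Fin (k + 3)) :=
    { toFun := fun c => if c = 1 then 1 else s 0
      map_one' := if_pos rfl
      map_mul' := fun a b => by
        rcases C2_cases a with rfl | rfl <;> rcases C2_cases b with rfl | rfl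
        · simp
        · simp
        · simp
        · rw [if_pos (by decide), if_neg (by decide), hss] }
  have hψC : ψC (Multiplicative.ofAdd 1) = s 0 := by
    simp only [ψC, MonoidHom.coe_mk, OneHom.coe_mk]
    exact if_neg (by decide)
  have hcond : ∀ c : C2, ψ₀.comp (act c).toMonoidHom = (MulAut.conj (ψC c)).toMonoidHom.comp ψ₀ := by
    intro c
    refine PresentedGroup.ext fun i => ?_
    simp only [MonoidHom.comp_apply, MulEquiv.coe_toMonoidHom, MulAut.conj_apply]
    rcases C2_cases c with rfl | rfl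
    · simp
    · rw [hψC, act_one, τ_of,
        show ψ₀ (PresentedGroup.of i) = f i from PresentedGroup.toGroup.of hf, tw]
      split
      · rw [map_inv, show ψ₀ (gx i) = f i from PresentedGroup.toGroup.of hf]
        simp only [f]
        rw [mul_inv_rev, hinv, hinv, ← mul_assoc (s 0) (s 0), hss, one_mul]
      · rw [show ψ₀ (gx i) = f i from PresentedGroup.toGroup.of hf]
        simp only [f]
        rw [hinv, ← mul_assoc (s 0) (s 0), hss, one_mul]
        exact (hcomm 0 i.succ (by simp only [Fin.val_succ, h00]; omega)).eq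
  let ψ : W (k + 1) →* Equiv.Perm (Fin (k + 3)) := SemidirectProduct.lift ψ₀ ψC hcond
  let F : Fin (k + 2) → W (k + 1) := Fin.cases u (fun i => u * SemidirectProduct.inl (gx i))
  have hF0 : F 0 = u := rfl
  have hFs : ∀ i : Fin (k + 1), F i.succ = u * SemidirectProduct.inl (gx i) := fun i => by
    simp [F]
  have hFsq : ∀ i, F i * F i = 1 := by
    intro i
    induction i using Fin.cases with
    | zero => rw [hF0]; exact u_mul_u
    | succ i =>
      rw [hFs, u_sq_conj, τ_of, tw]
      split
      · rw [inv_mul_cancel, map_one]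
      · rw [← pow_two, gx_pow2 (by omega), map_one]
  have hsym : ∀ (a b : W (k + 1)) (n : ℕ), (a * b) ^ n = 1 → (b * a) ^ n = 1 := by
    intro a b n h
    rw [show b * a = b * (a * b) * b⁻¹ by group, conj_pow, h, mul_one, mul_inv_cancel]
  have hlt : ∀ i j : Fin (k + 2), i < j →
      (F i * F j) ^ (if (i : ℕ) + 1 = j then 3 else 2) = 1 := by
    intro i j hij
    induction j using Fin.cases with
    | zero => exact absurd hij (Fin.not_lt_zero i)
    | succ j =>
      induction i using Fin.cases with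
      | zero =>
        rw [hF0, hFs, ← mul_assoc, u_mul_u, one_mul, ← map_pow]
        split <;> rename_i h <;> simp at h
        · rw [gx_pow3 (by simp [h]), map_one]
        · rw [gx_pow2 (Nat.pos_of_ne_zero (fun h0 => h (Fin.ext h0))), map_one]
      | succ i =>
        have hij' : i.val < j.val := by simpa using hij
        rw [hFs, hFs, u_sq_conj, τ_of, tw, ← map_pow]
        split <;> rename_i h <;> split <;> rename_i h' <;> simp at h'
        all_goals
          first
            | (rw [inv_mul_pow_one _ _ _ (gx_inv (by omega)) (gx_adj (by omega)), map_one]; done)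
            | (rw [inv_mul_pow_one _ _ _ (gx_inv (by omega)) (gx_far (by omega)), map_one]; done)
            | (rw [gx_adj (by omega), map_one]; done)
            | (rw [gx_far (by omega), map_one]; done)
  have hlift : (CoxeterMatrix.A (k + 2)).IsLiftable F := by
    intro i j
    rw [entry]
    rcases lt_trichotomy i j with h | h | h
    · rw [if_neg h.ne]
      have hh := hlt i j h
      have : ((j : ℕ) + 1 = i ∨ (i : ℕ) + 1 = j) ↔ (i : ℕ) + 1 = j := by
        constructor
        · rintro (h' | h') <;> omega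
        · exact Or.inr
      simp only [this]
      exact hh
    · subst h
      rw [if_pos rfl, pow_one]; exact hFsq i
    · rw [if_neg h.ne']
      have hh := hsym _ _ _ (hlt j i h)
      have : ((j : ℕ) + 1 = i ∨ (i : ℕ) + 1 = j) ↔ (j : ℕ) + 1 = i := by
        constructor
        · rintro (h' | h') <;> omega
        · exact Or.inl
      simp only [this]
      exact hh
  let Φ : Equiv.Perm (Fin (k + 3)) →* W (k + 1) := cs.lift ⟨F, hlift⟩
  have hΦ : ∀ i, Φ (s i) = F i := cs.lift_apply_simple hlift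
  have hψu : ψ u = s 0 := by rw [u, SemidirectProduct.lift_inr]; exact hψC
  have hψx : ∀ i, ψ (SemidirectProduct.inl (gx i)) = s 0 * s i.succ := fun i => by
    rw [SemidirectProduct.lift_inl]; exact PresentedGroup.toGroup.of hf
  have h1 : ψ.comp Φ = MonoidHom.id _ := cs.ext_simple fun i => by
    show ψ (Φ (s i)) = s i
    rw [hΦ]
    induction i using Fin.cases with
    | zero => rw [hF0, hψu]
    | succ i => rw [hFs, map_mul, hψu, hψx, ← mul_assoc, hss, one_mul]
  have h2 : Φ.comp ψ = MonoidHom.id _ := by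
    refine SemidirectProduct.hom_ext (PresentedGroup.ext fun i => ?_) ?_
    · show Φ (ψ (SemidirectProduct.inl (gx i))) = SemidirectProduct.inl (gx i)
      rw [hψx, map_mul, hΦ, hΦ, hF0, hFs, ← mul_assoc, u_mul_u, one_mul]
    · refine MonoidHom.ext fun c => ?_
      show Φ (ψ (SemidirectProduct.inr c)) = SemidirectProduct.inr c
      rcases C2_cases c with rfl | rfl
      · simp
      · show Φ (ψ u) = u
        rw [hψu, hΦ, hF0]
  have hinj : Function.Injective ψ₀ := by
    intro p p' h
    apply SemidirectProduct.inl_injective (φ := act (m := k + 1))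
    have hh := congrArg Φ h
    rw [← SemidirectProduct.lift_inl ψ₀ ψC hcond p, ← SemidirectProduct.lift_inl ψ₀ ψC hcond p']
      at hh
    exact (DFunLike.congr_fun h2 _).symm.trans (hh.trans (DFunLike.congr_fun h2 _))
  have hsign : ∀ i, Equiv.Perm.sign (s i) = -1 := fun i => by
    show Equiv.Perm.sign (cs.simple i) = -1
    rw [hcs]
    exact Equiv.Perm.sign_swap (Fin.castSucc_lt_succ (i := i)).ne
  have hrange : ψ₀.range = alternatingGroup (Fin (k + 3)) := by
    have hle : ψ₀.range ≤ alternatingGroup (Fin (k + 3)) := by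
      rintro _ ⟨p, rfl⟩
      rw [Equiv.Perm.mem_alternatingGroup]
      have : (Equiv.Perm.sign.comp ψ₀) = 1 := PresentedGroup.ext fun i => by
        show Equiv.Perm.sign (ψ₀ (PresentedGroup.of i)) = 1
        rw [show ψ₀ (PresentedGroup.of i) = f i from PresentedGroup.toGroup.of hf]
        simp [f, hsign]
      exact DFunLike.congr_fun this p
    refine le_antisymm hle fun g hg => ?_
    have hg' : ψ (Φ g) = g := DFunLike.congr_fun h1 g
    rw [← SemidirectProduct.inl_left_mul_inr_right (Φ g), map_mul, SemidirectProduct.lift_inl,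
      SemidirectProduct.lift_inr] at hg'
    rcases C2_cases (Φ g).right with h | h
    · rw [h, map_one, mul_one] at hg'
      exact ⟨_, hg'⟩
    · exfalso
      rw [h, hψC] at hg'
      have hh := congrArg Equiv.Perm.sign hg'
      rw [map_mul, Equiv.Perm.mem_alternatingGroup.mp hg,
        Equiv.Perm.mem_alternatingGroup.mp (hle ⟨_, rfl⟩), hsign, one_mul] at hh
      exact absurd hh (by decide)
  exact ⟨(MonoidHom.ofInjective hinj).trans (MulEquiv.subgroupCongr hrange)⟩


/-- A presentation of the alternating group of degree n ≥ 3 on generators x_1, …, x_{n−2} (indexed here by 0, …, n−3): the first generator cubes to 1, every other generator squares to 1, the product of two consecutive generators has order dividing 3, and the product of two generators at distance at least 2 has order dividing 2. The group so presented is isomorphic to the alternating group of degree n. -/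
theorem result (n : ℕ) (hn : 3 ≤ n) :
    Nonempty (PresentedGroup
      ({g : FreeGroup (Fin (n - 2)) | ∃ i : Fin (n - 2), i.val = 0 ∧ g = FreeGroup.of i ^ 3} ∪
       {g | ∃ i : Fin (n - 2), 1 ≤ i.val ∧ g = FreeGroup.of i ^ 2} ∪
       {g | ∃ i j : Fin (n - 2), j.val = i.val + 1 ∧ g = (FreeGroup.of i * FreeGroup.of j) ^ 3} ∪
       {g | ∃ i j : Fin (n - 2), i.val + 1 < j.val ∧ g = (FreeGroup.of i * FreeGroup.of j) ^ 2})
      ≃* alternatingGroup (Fin n)) := by
  obtain ⟨k, rfl⟩ : ∃ k, n = k + 3 := ⟨n - 3, by omega⟩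
  exact main k

end Cfsg.Agent.S3335
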