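import Cfsg.Statements.S0017
import Cfsg.Agent.Lib.Fitting.Minimal

set_option autoImplicit false
open Cfsg

namespace Cfsg.Agent.S0017

/-- In a finite solvable group whose largest normal subgroup of order prime to p is trivial, the centralizer of the p-core is contained in the p-core. -/
theorem result {G : Type*} [Group G] [Finite G] [Group.IsSolvable G] (p : ℕ) [Fact p.Prime]
    (h : Cfsg.pPrimeCore p G = ⊥) :
    Subgroup.centralizer (Cfsg.pCore p G : Set G) ≤ Cfsg.pCore p G := by
  have hF : Cfsg.fittingSubgroup G = Cfsg.pCore p G := by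
    refine le_antisymm ?_ (Fitting.pCore_le_fitting p)
    rw [Fitting.fitting_eq_iSup_pCore]
    refine iSup_le fun q => ?_
    by_cases hq : (q : ℕ) = p
    · rw [hq]
    · haveI : Fact (q : ℕ).Prime := ⟨q.2⟩
      obtain ⟨k, hk⟩ := IsPGroup.iff_card.mp (Fitting.pCore_isPGroup (G := G) (q : ℕ))
      have : Cfsg.pCore (q : ℕ) G ≤ Cfsg.pPrimeCore p G := le_sSup ⟨Fitting.pCore_normal _, by
        rw [hk]; exact Nat.Coprime.pow_left k ((Nat.coprime_primes q.2 Fact.out).mpr hq)⟩
      rw [h] at this
      exact this.trans bot_le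
  rw [← hF]
  exact Fitting.centralizer_fitting_le

end Cfsg.Agent.S0017
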