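import Cfsg.Statements.S0018
import Cfsg.Agent.S0017
import Cfsg.Agent.Lib.Thompson.Cores

set_option autoImplicit false
open Cfsg

namespace Cfsg.Agent.S0018

/-- A finite solvable group whose Sylow p-subgroups are abelian has p-length one: a Sylow p-subgroup together with the largest normal subgroup of order prime to p generates a normal subgroup. -/
theorem result {G : Type*} [Group G] [Finite G] [Group.IsSolvable G]
    (p : ℕ) [Fact p.Prime] (P : Sylow p G) (hP : IsMulCommutative P) :
    ((P : Subgroup G) ⊔ Cfsg.pPrimeCore p G).Normal := by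
  let O := Cfsg.pPrimeCore p G
  let q := QuotientGroup.mk' O
  let Q := P.mapSurjective (QuotientGroup.mk'_surjective O)
  have hQ : (Q : Subgroup (G ⧸ O)) = Cfsg.pCore p (G ⧸ O) := by
    refine le_antisymm ?_ (Thompson.pCore_le_sylow Q)
    refine le_trans ?_ (S0017.result p Thompson.pPrimeCore_quotient_pPrimeCore)
    intro x hx
    refine Subgroup.mem_centralizer_iff.mpr fun y hy => ?_
    obtain ⟨a, ha, rfl⟩ := hx
    obtain ⟨b, hb, rfl⟩ := Thompson.pCore_le_sylow Q hy
    show q b * q a = q a * q b
    rw [← map_mul, ← map_mul]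
    exact congrArg q (congrArg Subtype.val (mul_comm' (⟨b, hb⟩ : P) ⟨a, ha⟩))
  have hn : ((P : Subgroup G).map q).Normal := by
    rw [show (P : Subgroup G).map q = Cfsg.pCore p (G ⧸ O) from hQ]
    infer_instance
  have : (P : Subgroup G) ⊔ O = ((P : Subgroup G).map q).comap q := by
    rw [Subgroup.comap_map_eq, QuotientGroup.ker_mk']
  rw [this]
  exact hn.comap q

end Cfsg.Agent.S0018
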