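import Cfsg.Statements.S1546
import Mathlib.Algebra.Ring.GeomSum
import Mathlib.GroupTheory.OrderOfElement
import Mathlib.Data.ZMod.Basic
import Mathlib.FieldTheory.Finite.Basic

set_option autoImplicit false
open Cfsg

namespace Cfsg.Agent.S1546

/-- Let p and q be odd primes and N = (p ^ q − 1) / (p − 1) = 1 + p + ⋯ + p^(q−1). Then N is odd; if p ≡ 1 (mod q) then q ∣ N; and if p is not ≡ 1 (mod q) then N is coprime to p − 1 and every divisor of N is ≡ 1 (mod q). -/
theorem result (p q : ℕ) (hp : p.Prime) (hq : q.Prime) (hp2 : p ≠ 2) (hq2 : q ≠ 2) : Odd ((p ^ q - 1) / (p - 1)) ∧ (p % q = 1 → q ∣ (p ^ q - 1) / (p - 1)) ∧ (p % q ≠ 1 → Nat.Coprime ((p ^ q - 1) / (p - 1)) (p - 1) ∧ ∀ x : ℕ, x ∣ (p ^ q - 1) / (p - 1) → x % q = 1) := by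
  have hp2' := hp.two_le
  rw [← Nat.geomSum_eq hp2' q]
  set N := ∑ i ∈ Finset.range q, p ^ i with hN
  have hN0 : 0 < N := by
    rw [hN]
    exact Finset.sum_pos (fun i _ => by positivity) ⟨0, Finset.mem_range.2 hq.pos⟩
  have hgeo : N * (p - 1) + 1 = p ^ q := by
    have h := geom_sum_mul_add (p - 1) q
    rwa [Nat.sub_add_cancel hp.one_le] at h
  have hmod : ∀ r : ℕ, (p : ZMod r) = 1 → (N : ZMod r) = q := fun r h => by
    rw [hN]; push_cast; simp [h]
  have hodd : Odd N := by
    have hpo : (p : ZMod 2) = 1 := ZMod.natCast_eq_one_iff_odd.2 (hp.odd_of_ne_two hp2)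
    refine ZMod.natCast_eq_one_iff_odd.1 ?_
    rw [hmod 2 hpo]
    exact ZMod.natCast_eq_one_iff_odd.2 (hq.odd_of_ne_two hq2)
  refine ⟨hodd, fun h => ?_, fun h => ?_⟩
  · refine (ZMod.natCast_eq_zero_iff N q).1 ?_
    rw [hmod q ?_, ZMod.natCast_self]
    rw [← ZMod.natCast_mod p q, h, Nat.cast_one]
  · have hkey : ∀ r : ℕ, r.Prime → r ∣ N → ¬ r ∣ p - 1 ∧ r % q = 1 := by
      intro r hr hrN
      haveI : Fact r.Prime := ⟨hr⟩
      haveI : Fact q.Prime := ⟨hq⟩
      have hN0' : (N : ZMod r) = 0 := (ZMod.natCast_eq_zero_iff N r).2 hrN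
      have hne : (p : ZMod r) ≠ 1 := by
        intro h1
        have hq0 := hmod r h1
        rw [hN0'] at hq0
        have hrq := (Nat.prime_dvd_prime_iff_eq hr hq).1 ((ZMod.natCast_eq_zero_iff q r).1 hq0.symm)
        subst hrq
        refine h ?_
        have := congrArg ZMod.val h1
        rwa [ZMod.val_natCast, ZMod.val_one] at this
      have hnd : ¬ r ∣ p - 1 := fun hd => hne (by
        have := (ZMod.natCast_eq_zero_iff (p - 1) r).2 hd
        rw [Nat.cast_sub hp.one_le, Nat.cast_one, sub_eq_zero] at this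
        exact this)
      have hpow : (p : ZMod r) ^ q = 1 := by
        have := congrArg (Nat.cast : ℕ → ZMod r) hgeo
        push_cast at this
        rw [hN0', zero_mul, zero_add] at this
        exact this.symm
      have hp0 : (p : ZMod r) ≠ 0 := fun h0 => by
        rw [h0, zero_pow hq.ne_zero] at hpow; exact zero_ne_one hpow
      have hord : orderOf (p : ZMod r) = q := orderOf_eq_prime hpow hne
      have hdvd : q ∣ r - 1 := by
        rw [← hord]; exact orderOf_dvd_of_pow_eq_one (ZMod.pow_card_sub_one_eq_one hp0)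
      refine ⟨hnd, ?_⟩
      obtain ⟨c, hc⟩ := hdvd
      have : r = q * c + 1 := by have := hr.two_le; omega
      rw [this, Nat.mul_add_mod, Nat.mod_eq_of_lt hq.one_lt]
    refine ⟨?_, fun x hx => ?_⟩
    · exact Nat.coprime_of_dvd fun r hr hrN hrp => (hkey r hr hrN).1 hrp
    · induction x using Nat.recOnMul with
      | zero =>
        rw [zero_dvd_iff] at hx
        exact absurd hx hN0.ne'
      | one => exact Nat.mod_eq_of_lt hq.one_lt
      | prime r hr => exact (hkey r hr hx).2
      | mul a b ha hb =>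
        rw [Nat.mul_mod, ha ((dvd_mul_right a b).trans hx), hb ((dvd_mul_left b a).trans hx), one_mul,
          Nat.mod_eq_of_lt hq.one_lt]


end Cfsg.Agent.S1546
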