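import Cfsg.Statements.S1459
import Mathlib.GroupTheory.Nilpotent
import Mathlib.GroupTheory.SchurZassenhaus

set_option autoImplicit false
open Cfsg
open scoped commutatorElement

namespace Cfsg.Agent.S1459

/-- Elements of coprime orders of a finite nilpotent group commute. -/
lemma commute_of_coprime {H : Type*} [Group H] [Finite H] (hH : Group.IsNilpotent H) (x y : H)
    (h : (orderOf x).Coprime (orderOf y)) : Commute x y := by
  obtain ⟨e⟩ := ((Group.isNilpotent_of_finite_tfae (G := H)).out 0 4).1 hH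
  obtain ⟨a, rfl⟩ := e.surjective x
  obtain ⟨b, rfl⟩ := e.surjective y
  rw [e.orderOf_eq, e.orderOf_eq] at h
  refine Commute.map ?_ e.toMonoidHom
  refine Pi.commute_iff.2 fun p => Pi.commute_iff.2 fun P => ?_
  haveI : Fact (p : ℕ).Prime := ⟨Nat.prime_of_mem_primeFactors p.2⟩
  obtain ⟨i, hi⟩ := IsPGroup.iff_orderOf.1 P.2 (a p P)
  obtain ⟨j, hj⟩ := IsPGroup.iff_orderOf.1 P.2 (b p P)
  let π : (∀ p : (Nat.card H).primeFactors, ∀ P : Sylow p H, (↑P : Subgroup H)) →* ↥(P : Subgroup H) :=
    { toFun := fun f => f p P, map_one' := rfl, map_mul' := fun _ _ => rfl }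
  have hab : (orderOf (a p P)).Coprime (orderOf (b p P)) :=
    Nat.Coprime.of_dvd (orderOf_map_dvd π a) (orderOf_map_dvd π b) h
  rcases Nat.eq_zero_or_pos i with rfl | hi'
  · rw [pow_zero, orderOf_eq_one_iff] at hi
    rw [hi]; exact Commute.one_left _
  rcases Nat.eq_zero_or_pos j with rfl | hj'
  · rw [pow_zero, orderOf_eq_one_iff] at hj
    rw [hj]; exact Commute.one_right _
  rw [hi, hj] at hab
  exact absurd ((Nat.coprime_pow_left_iff hi' _ _).1 hab |> (Nat.coprime_pow_right_iff hj' _ _).1)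
    (by simp [(Nat.prime_of_mem_primeFactors p.2).ne_one])

/-- In a nilpotent group, if the quotient by the derived subgroup is cyclic then it is trivial. -/
lemma derived_eq_bot {H : Type*} [Group H] [Group.IsNilpotent H]
    (h : IsCyclic (H ⧸ ⁅(⊤ : Subgroup H), (⊤ : Subgroup H)⁆)) : ⁅(⊤ : Subgroup H), (⊤ : Subgroup H)⁆ = ⊥ := by
  have key : ∀ n, ⁅(⊤ : Subgroup H), (⊤ : Subgroup H)⁆ ≤ Subgroup.lowerCentralSeries (⊤ : Subgroup H) (n + 1) := by
    intro n
    induction n with
    | zero => exact le_rfl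
    | succ n ih =>
      set L := Subgroup.lowerCentralSeries (⊤ : Subgroup H) (n + 2) with hL
      haveI : L.Normal := inferInstance
      have hsub : L ≤ ⁅(⊤ : Subgroup H), (⊤ : Subgroup H)⁆ := by
        rw [hL]
        exact Subgroup.commutator_mono le_top le_rfl
      let f : H ⧸ L →* H ⧸ ⁅(⊤ : Subgroup H), (⊤ : Subgroup H)⁆ :=
        QuotientGroup.map L _ (MonoidHom.id H) (by simpa using hsub)
      have hker : f.ker ≤ Subgroup.center (H ⧸ L) := by
        intro a ha
        obtain ⟨x, rfl⟩ := QuotientGroup.mk'_surjective L a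
        have hx : x ∈ ⁅(⊤ : Subgroup H), (⊤ : Subgroup H)⁆ := (QuotientGroup.eq_one_iff x).1 ha
        rw [Subgroup.mem_center_iff]
        intro b
        obtain ⟨y, rfl⟩ := QuotientGroup.mk'_surjective L b
        rw [← map_mul, ← map_mul, QuotientGroup.mk'_apply, QuotientGroup.mk'_apply, QuotientGroup.eq]
        have h1 : ⁅x⁻¹, y⁻¹⁆ ∈ L :=
          Subgroup.commutator_mem_commutator
            ((Subgroup.lowerCentralSeries (⊤ : Subgroup H) (n + 1)).inv_mem (ih hx)) (Subgroup.mem_top _)
        simpa [commutatorElement_def, mul_assoc] using h1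
      haveI := h
      have hc := fun a b => commutative_of_cyclic_center_quotient f hker a b
      rw [Subgroup.commutator_le]
      intro a _ b _
      refine (QuotientGroup.eq_one_iff _).1 ?_
      show QuotientGroup.mk' L ⁅a, b⁆ = 1
      rw [map_commutatorElement, commutatorElement_eq_one_iff_mul_comm]
      exact hc _ _
  obtain ⟨n, hn⟩ := Subgroup.nilpotent_iff_lowerCentralSeries.1 (inferInstance : Group.IsNilpotent H)
  refine le_bot_iff.1 ((key n).trans ?_)
  rw [← hn]
  exact Subgroup.lowerCentralSeries_antitone _ (Nat.le_succ n)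

section
variable {G : Type*} [Group G]

/-- A subgroup with normalizer containing two subgroups that generate `G` is normal. -/
lemma commutator_normal_of_sup_eq_top {H K : Subgroup G} (h : H ⊔ K = ⊤) : (⁅H, K⁆).Normal := by
  rw [← Subgroup.normalizer_eq_top_iff, eq_top_iff, ← h, sup_le_iff]
  refine ⟨Subgroup.normalizer_commutator_ge_left _ _, Subgroup.normalizer_commutator_ge_right _ _⟩

lemma eq_commutator_of_le_commutator [Group.IsSolvable G] {H K : Subgroup G} [hHn : H.Normal]
    (hsup : H ⊔ K = ⊤) (hinf : H ⊓ K = ⊥) (hH : H ≤ _root_.commutator G) : H = ⁅H, K⁆ := by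
  refine le_antisymm ?_ (Subgroup.commutator_le_left H K)
  haveI : (⁅H, K⁆).Normal := commutator_normal_of_sup_eq_top hsup
  set f := QuotientGroup.mk' ⁅H, K⁆ with hf
  have hfs : Function.Surjective f := QuotientGroup.mk'_surjective _
  have hHK : H.map f ⊔ K.map f = ⊤ := by
    rw [← Subgroup.map_sup, hsup, Subgroup.map_top_of_surjective _ hfs]
  have hcomm : ⁅H.map f, K.map f⁆ = ⊥ := by
    rw [← Subgroup.map_commutator, Subgroup.map_eq_bot_iff, hf, QuotientGroup.ker_mk']
  have hcentK : H.map f ≤ Subgroup.centralizer (K.map f : Set (G ⧸ ⁅H, K⁆)) :=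
    Subgroup.commutator_eq_bot_iff_le_centralizer.1 hcomm
  haveI hn : (⁅H.map f, H.map f⁆).Normal :=
    haveI := Subgroup.Normal.map hHn f hfs
    inferInstance
  -- the quotient is the direct product, so its derived subgroup is the product of the derived groups
  have hder : ⁅(⊤ : Subgroup (G ⧸ ⁅H, K⁆)), (⊤ : Subgroup (G ⧸ ⁅H, K⁆))⁆ ≤ ⁅H.map f, H.map f⁆ ⊔ K.map f := by
    haveI : (K.map f).Normal := by
      rw [← Subgroup.normalizer_eq_top_iff, eq_top_iff, ← hHK, sup_le_iff]
      exact ⟨fun h hh => Subgroup.centralizer_le_normalizer _ (hcentK hh), Subgroup.le_normalizer⟩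
    rw [Subgroup.commutator_le]
    intro a _ b _
    obtain ⟨h₁, hh₁, k₁, hk₁, rfl⟩ :=
      Subgroup.mem_sup_of_normal_right.1 (hHK.ge (Subgroup.mem_top a))
    obtain ⟨h₂, hh₂, k₂, hk₂, rfl⟩ :=
      Subgroup.mem_sup_of_normal_right.1 (hHK.ge (Subgroup.mem_top b))
    let g := QuotientGroup.mk' (⁅H.map f, H.map f⁆ ⊔ K.map f)
    have hgk : ∀ k ∈ K.map f, g k = 1 := fun k hk =>
      (QuotientGroup.eq_one_iff k).2 ((le_sup_right (a := ⁅H.map f, H.map f⁆)) hk)
    refine (QuotientGroup.eq_one_iff _).1 ?_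
    show g ⁅h₁ * k₁, h₂ * k₂⁆ = 1
    rw [map_commutatorElement, map_mul, map_mul, hgk k₁ hk₁, hgk k₂ hk₂, mul_one, mul_one,
      ← map_commutatorElement]
    exact (QuotientGroup.eq_one_iff _).2
      (le_sup_left (b := K.map f) (Subgroup.commutator_mem_commutator hh₁ hh₂))
  -- elements of `H` in `H'K[H,K]` lie in `H'[H,K]`
  have hHle : H ≤ ⁅H, H⁆ ⊔ ⁅H, K⁆ := by
    intro h hh
    have h1 : f h ∈ ⁅(⊤ : Subgroup (G ⧸ ⁅H, K⁆)), (⊤ : Subgroup (G ⧸ ⁅H, K⁆))⁆ := by
      rw [← Subgroup.map_top_of_surjective f hfs, ← Subgroup.map_commutator]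
      exact Subgroup.mem_map_of_mem f (hH hh)
    obtain ⟨x, hx, y, hy, hxy⟩ := Subgroup.mem_sup_of_normal_left.1 (hder h1)
    rw [← Subgroup.map_commutator] at hx
    obtain ⟨x₀, hx₀, rfl⟩ := hx
    obtain ⟨y₀, hy₀, rfl⟩ := hy
    rw [← map_mul, hf, QuotientGroup.mk'_apply, QuotientGroup.mk'_apply, QuotientGroup.eq] at hxy
    have hy₀H : y₀ ∈ H := by
      have h2 : (x₀ * y₀)⁻¹ * h ∈ H := Subgroup.commutator_le_left H K hxy
      have hx₀H : x₀ ∈ H := Subgroup.commutator_le_left H H hx₀
      have h3 : x₀ * y₀ ∈ H := by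
        simpa using H.inv_mem (H.mul_mem h2 (H.inv_mem hh))
      simpa using H.mul_mem (H.inv_mem hx₀H) h3
    have hy1 : y₀ = 1 := Subgroup.mem_bot.1 (hinf ▸ ⟨hy₀H, hy₀⟩)
    subst hy1
    rw [mul_one] at hxy
    simpa using (⁅H, H⁆ ⊔ ⁅H, K⁆).mul_mem (le_sup_left (b := ⁅H, K⁆) hx₀)
      (le_sup_right (a := ⁅H, H⁆) hxy)
  have hseries : ∀ n, H ≤ (Subgroup.map H.subtype (derivedSeries H n)) ⊔ ⁅H, K⁆ := by
    intro n
    induction n with
    | zero => rw [derivedSeries_zero, ← MonoidHom.range_eq_map, Subgroup.range_subtype]; exact le_sup_left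
    | succ n ih =>
      haveI : ((derivedSeries H n).map H.subtype).Normal := by
        haveI := derivedSeries_characteristic H n
        exact inferInstance
      refine hHle.trans (sup_le ?_ le_sup_right)
      set D := (derivedSeries H n).map H.subtype
      haveI : ⁅D, D⁆.Normal := inferInstance
      have : ⁅D ⊔ ⁅H, K⁆, D ⊔ ⁅H, K⁆⁆ ≤ ⁅D, D⁆ ⊔ ⁅H, K⁆ := by
        rw [Subgroup.commutator_le]
        intro a ha b hb
        obtain ⟨a₁, ha₁, a₂, ha₂, rfl⟩ := Subgroup.mem_sup_of_normal_right.1 ha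
        obtain ⟨b₁, hb₁, b₂, hb₂, rfl⟩ := Subgroup.mem_sup_of_normal_right.1 hb
        let g := QuotientGroup.mk' (⁅D, D⁆ ⊔ ⁅H, K⁆)
        have hgc : ∀ c ∈ ⁅H, K⁆, g c = 1 := fun c hc =>
          (QuotientGroup.eq_one_iff c).2 ((le_sup_right (a := ⁅D, D⁆)) hc)
        refine (QuotientGroup.eq_one_iff _).1 ?_
        show g ⁅a₁ * a₂, b₁ * b₂⁆ = 1
        rw [map_commutatorElement, map_mul, map_mul, hgc a₂ ha₂, hgc b₂ hb₂, mul_one, mul_one,
          ← map_commutatorElement]
        exact (QuotientGroup.eq_one_iff _).2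
          (le_sup_left (b := ⁅H, K⁆) (Subgroup.commutator_mem_commutator ha₁ hb₁))
      refine ((Subgroup.commutator_mono ih ih).trans this).trans ?_
      rw [derivedSeries_succ, Subgroup.map_commutator]
  obtain ⟨n, hn⟩ := (Group.isSolvable_def (G := H)).1 inferInstance
  simpa [hn] using hseries n

lemma inf_centralizer_le_commutator [Finite G] {H K : Subgroup G} [hHn : H.Normal]
    (hcop : (Nat.card H).Coprime (Nat.card K)) (hHK : H = ⁅H, K⁆) :
    H ⊓ Subgroup.centralizer (K : Set G) ≤ ⁅H, H⁆ := by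
  rintro c ⟨hc, hcK⟩
  let conjK : K → H →* H := fun k => (MulAut.conjNormal (k : G) : MulAut H).toMonoidHom
  let abK : K → H →* Abelianization H := fun k => Abelianization.of.comp (conjK k)
  haveI : Fintype K := Fintype.ofFinite K
  let φ : H →* Abelianization H :=
    { toFun := fun h => ∏ k : K, abK k h
      map_one' := by simp
      map_mul' := fun a b => by simp [Finset.prod_mul_distrib] }
  have hcoe : ∀ (k : K) (h : H), ((conjK k h : H) : G) = k * h * (k : G)⁻¹ := fun k h =>
    MulAut.conjNormal_apply _ _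
  have hinvariant : ∀ (k₀ : K) (h : H), φ (conjK k₀ h) = φ h := by
    intro k₀ h
    refine Fintype.prod_equiv (Equiv.mulRight k₀) _ _ fun k => ?_
    show Abelianization.of (conjK k (conjK k₀ h)) = Abelianization.of (conjK (k * k₀) h)
    congr 1
    ext
    simp [hcoe, mul_assoc]
  have hker : ⁅H, K⁆ ≤ φ.ker.map H.subtype := by
    rw [Subgroup.commutator_le]
    intro h hh k hk
    refine ⟨⟨h, hh⟩ * conjK ⟨k, hk⟩ ⟨h⁻¹, H.inv_mem hh⟩, ?_, ?_⟩
    · show φ _ = 1
      rw [map_mul, hinvariant, ← map_mul,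
        show (⟨h, hh⟩ * ⟨h⁻¹, H.inv_mem hh⟩ : H) = 1 from Subtype.ext (mul_inv_cancel h), map_one]
    · simp [hcoe, commutatorElement_def, mul_assoc]
  obtain ⟨c', hc', hcc'⟩ := hker (hHK.le hc)
  have hφc : φ c' = Abelianization.of c' ^ Fintype.card K := by
    show ∏ k : K, Abelianization.of (conjK k c') = _
    rw [Fintype.card, ← Finset.prod_const]
    refine Finset.prod_congr rfl fun k _ => ?_
    congr 1
    ext
    rw [hcoe, show (c' : G) = c from hcc', Subgroup.mem_centralizer_iff.1 hcK k k.2,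
      mul_inv_cancel_right]
  have hpow : Abelianization.of c' ^ Nat.card K = 1 := by
    rw [Nat.card_eq_fintype_card, ← hφc]; exact hc'
  have hord : Abelianization.of c' = 1 := by
    have hdvd : Nat.card (Abelianization H) ∣ Nat.card H := Subgroup.card_quotient_dvd_card _
    have h1 := pow_gcd_eq_one.2 ⟨pow_card_eq_one' (x := Abelianization.of c'), hpow⟩
    rwa [Nat.Coprime.gcd_eq_one (Nat.Coprime.of_dvd_left hdvd hcop), pow_one] at h1
  have hmem : c' ∈ _root_.commutator H := by
    rwa [← Abelianization.ker_of, MonoidHom.mem_ker]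
  rw [← hcc', ← Subgroup.map_subtype_commutator]
  exact Subgroup.mem_map_of_mem _ hmem

lemma coprime_of_nilpotent_commutator [Finite G] (hnil : Group.IsNilpotent ↥(_root_.commutator G))
    (hpr : (_root_.commutator G).index.Prime) :
    (Nat.card ↥(_root_.commutator G)).Coprime (_root_.commutator G).index := by
  set N := _root_.commutator G with hN
  set q := N.index with hq
  haveI : Fact q.Prime := ⟨hpr⟩
  rw [Nat.coprime_comm, hpr.coprime_iff_not_dvd]
  intro hdvd
  -- `O^q`-part: the elements of `N` of order prime to `q`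
  let M : Subgroup G := Subgroup.closure {x : G | x ∈ N ∧ (orderOf x).Coprime q}
  have hMN : M ≤ N := (Subgroup.closure_le _).2 fun x hx => hx.1
  haveI hMn : M.Normal := by
    rw [← Subgroup.normalizer_eq_top_iff, eq_top_iff]
    have hgen : ∀ g : G, ∀ b ∈ M, g * b * g⁻¹ ∈ M := by
      intro g b hb
      have : M ≤ M.comap (MulAut.conj g).toMonoidHom := by
        rw [Subgroup.closure_le]
        rintro x ⟨hxN, hx⟩
        refine Subgroup.subset_closure ⟨Subgroup.Normal.conj_mem inferInstance x hxN g, ?_⟩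
        rwa [MulEquiv.coe_toMonoidHom, MulEquiv.orderOf_eq]
      exact this hb
    intro g _
    rw [Subgroup.mem_normalizer_iff]
    refine fun b => ⟨hgen g b, fun h => ?_⟩
    simpa [mul_assoc] using hgen g⁻¹ _ h
  have hqgrp : IsPGroup q (G ⧸ M) := by
    intro a
    obtain ⟨x, rfl⟩ := QuotientGroup.mk'_surjective M a
    have hxN : x ^ q ∈ N := N.pow_index_mem x
    obtain ⟨k, m, hm, hkm⟩ := Nat.exists_eq_pow_mul_and_not_dvd (orderOf_pos (x ^ q)).ne' q hpr.ne_one
    refine ⟨1 + k, ?_⟩
    rw [← map_pow, pow_add, pow_one, pow_mul]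
    refine (QuotientGroup.eq_one_iff _).2 (Subgroup.subset_closure ⟨N.pow_mem hxN _, ?_⟩)
    rw [orderOf_pow' _ (pow_ne_zero _ hpr.ne_zero), hkm,
      Nat.gcd_mul_right_left]
    rw [Nat.mul_div_cancel_left _ (pow_pos hpr.pos k)]
    exact ((Nat.Prime.coprime_iff_not_dvd hpr).2 hm).symm
  have hMne : ¬ q ∣ Nat.card M := by
    intro hd
    obtain ⟨y, hy⟩ := exists_prime_orderOf_dvd_card' q hd
    let y' : N := ⟨y, hMN y.2⟩
    have hy' : orderOf y' = q := by
      rw [← Subgroup.orderOf_coe, Subgroup.coe_mk, Subgroup.orderOf_coe, hy]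
    obtain ⟨P, hP⟩ := (show IsPGroup q (Subgroup.zpowers y') from
      IsPGroup.of_card (n := 1) (by rw [Nat.card_zpowers, hy', pow_one])).exists_le_sylow
    haveI := hnil
    haveI : Unique (Sylow q N) := Sylow.unique_of_normal P inferInstance
    obtain ⟨R, hR⟩ := Subgroup.exists_left_complement'_of_coprime P.card_coprime_index
    have hRn : R.Normal := by
      rw [← Subgroup.normalizer_eq_top_iff, eq_top_iff]
      intro z _
      obtain ⟨r, hr, s, hs, rfl⟩ : ∃ r ∈ R, ∃ s ∈ (P : Subgroup N), r * s = z := by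
        obtain ⟨⟨r, s⟩, hrs⟩ := (hR.existsUnique z).exists
        exact ⟨r, r.2, s, s.2, hrs⟩
      refine mul_mem (Subgroup.le_normalizer hr) (Subgroup.centralizer_le_normalizer _ ?_)
      rw [Subgroup.mem_centralizer_iff]
      intro r' hr'
      refine (commute_of_coprime hnil s r' ?_).symm.eq
      obtain ⟨j, hj⟩ := IsPGroup.iff_orderOf.1 P.2 ⟨s, hs⟩
      rw [← Subgroup.orderOf_coe] at hj
      rw [hj]
      refine Nat.Coprime.pow_left _ ((hpr.coprime_iff_not_dvd).2 fun hd' => ?_)
      have h1 : q ∣ Nat.card R := hd'.trans ((Subgroup.orderOf_coe ⟨r', hr'⟩).dvd.trans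
        (orderOf_dvd_natCard _))
      exact P.not_dvd_index (by rw [hR.index_eq_card]; exact h1)
    have hMR : M ≤ R.map N.subtype := by
      rw [Subgroup.closure_le]
      rintro x ⟨hxN, hx⟩
      refine ⟨⟨x, hxN⟩, ?_, rfl⟩
      haveI := hRn
      rw [SetLike.mem_coe, ← QuotientGroup.eq_one_iff, ← orderOf_eq_one_iff]
      refine Nat.eq_one_of_dvd_coprimes ?_
        (orderOf_map_dvd (QuotientGroup.mk' R) (⟨x, hxN⟩ : N)) (orderOf_dvd_natCard _)
      rw [← Subgroup.orderOf_coe]
      have : Nat.card (N ⧸ R) = Nat.card (P : Subgroup N) := hR.symm.index_eq_card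
      rw [this]
      obtain ⟨j, hj⟩ := IsPGroup.iff_card.1 P.2
      rw [hj]
      exact hx.pow_right j
    obtain ⟨y'', hy'', hyy⟩ := hMR y.2
    have : y'' = y' := Subtype.ext hyy
    subst this
    exact P.not_dvd_index (by
      rw [hR.index_eq_card, ← hy', ← Subgroup.orderOf_mk _ hy'']
      exact orderOf_dvd_natCard _)
  -- a `q`-group whose derived subgroup has prime index is abelian
  haveI : Group.IsNilpotent (G ⧸ M) := hqgrp.isNilpotent
  haveI : (N.map (QuotientGroup.mk' M)).Normal :=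
    Subgroup.Normal.map inferInstance _ (QuotientGroup.mk'_surjective M)
  have hidx : (N.map (QuotientGroup.mk' M)).index = q := by
    rw [Subgroup.index_map_eq _ (QuotientGroup.mk'_surjective M) (by rwa [QuotientGroup.ker_mk'])]
  have hder : ⁅(⊤ : Subgroup (G ⧸ M)), (⊤ : Subgroup (G ⧸ M))⁆ = N.map (QuotientGroup.mk' M) := by
    rw [hN, _root_.commutator, Subgroup.map_commutator,
      Subgroup.map_top_of_surjective _ (QuotientGroup.mk'_surjective M)]
  have hbot : N.map (QuotientGroup.mk' M) = ⊥ := by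
    rw [← hder]
    refine derived_eq_bot ?_
    exact isCyclic_of_prime_card (p := q) (by rw [← Subgroup.index_eq_card, hder, hidx])
  rw [Subgroup.map_eq_bot_iff, QuotientGroup.ker_mk'] at hbot
  exact hMne (hdvd.trans (dvd_of_eq (congrArg (fun X : Subgroup G => Nat.card X) (le_antisymm hbot hMN))))

end

/-- Let G be a finite solvable group. (a) If H is a normal subgroup of order coprime to its index, K is a complement to H, and H ≤ G', then H = [H, K] and H ∩ C_G(K) ≤ [H, H]. (b) If G' is nilpotent and has prime index in G, then the order of G' is coprime to its index and G' = [G, K] (the subgroup generated by commutators of elements of G with elements of K) for every complement K of G'. -/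
theorem result {G : Type*} [Group G] [Finite G] [Group.IsSolvable G] :
    (∀ (H K : Subgroup G), H.Normal → (Nat.card H).Coprime H.index → Subgroup.IsComplement' H K → H ≤ commutator G →
        H = ⁅H, K⁆ ∧ H ⊓ Subgroup.centralizer (K : Set G) ≤ ⁅H, H⁆) ∧
      (Group.IsNilpotent ↥(commutator G) → (commutator G).index.Prime →
        (Nat.card ↥(commutator G)).Coprime (commutator G).index ∧
        ∀ K : Subgroup G, Subgroup.IsComplement' (commutator G) K → commutator G = ⁅(⊤ : Subgroup G), K⁆) := by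
  refine ⟨fun H K hHn hcop hcompl hle => ?_, fun hnil hpr => ?_⟩
  · haveI := hHn
    have h := eq_commutator_of_le_commutator hcompl.sup_eq_top hcompl.disjoint.eq_bot hle
    refine ⟨h, inf_centralizer_le_commutator ?_ h⟩
    rwa [← hcompl.symm.index_eq_card]
  · refine ⟨coprime_of_nilpotent_commutator hnil hpr, fun K hK => ?_⟩
    refine le_antisymm ?_ (Subgroup.commutator_mono le_rfl le_top)
    exact (eq_commutator_of_le_commutator hK.sup_eq_top hK.disjoint.eq_bot le_rfl).le.trans
      (Subgroup.commutator_mono le_top le_rfl)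

end Cfsg.Agent.S1459
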