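import Cfsg.Statements.S1450
import Cfsg.Agent.OddLocal43.RankTwoSolvable

set_option autoImplicit false
open Cfsg

namespace Cfsg.Agent.S1450

/-- Let G be a solvable group of odd order, p a prime dividing its order with G having no elementary abelian subgroup of order p ^ 3. Then every prime dividing the index of O_{p'}(G) is at most p; if p = 3 or p is the smallest prime divisor of #G then G has a normal p-complement; the derived subgroup G' has a normal p-complement; every subgroup of G' of order coprime to p lies in O_{p'}(G'); and G/O_{p',p}(G) is abelian of order coprime to p. -/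
theorem result {G : Type*} [Group G] [Finite G] [Group.IsSolvable G] (hodd : Odd (Nat.card G)) (p : ℕ) [Fact p.Prime] (hpG : p ∣ Nat.card G) (hr : Cfsg.PRankLE p 2 G) :
    (∀ q : ℕ, q.Prime → q ∣ (Cfsg.pPrimeCore p G).index → q ≤ p) ∧
      ((p = 3 ∨ ∀ q : ℕ, q.Prime → q ∣ Nat.card G → p ≤ q) → Cfsg.HasNormalPComplement p G) ∧
      Cfsg.HasNormalPComplement p ↥(commutator G) ∧
      (∀ L : Subgroup ↥(commutator G), (Nat.card L).Coprime p → L ≤ Cfsg.pPrimeCore p ↥(commutator G)) ∧
      commutator G ≤ Cfsg.pPrimePCore p G ∧ ((Cfsg.pPrimePCore p G).index).Coprime p := by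
  have hp2 : p ≠ 2 := OddLocal43.ne_two_of_dvd_odd hodd hpG
  set N := Cfsg.pPrimeCore p G with hN
  have hNc : (Nat.card N).Coprime p := Thompson.card_pPrimeCore_coprime
  have hoddQ : Odd (Nat.card (G ⧸ N)) := hodd.of_dvd_nat N.card_quotient_dvd_card
  obtain ⟨hd, hle, hidx, hq⟩ := OddLocal43.reduced_rank_two (G := G ⧸ N) hoddQ hp2
    (OddLocal43.prankLE_quotient N hNc hr) Thompson.pPrimeCore_quotient_pPrimeCore
  have hmap : (commutator G).map (QuotientGroup.mk' N) = commutator (G ⧸ N) := by
    rw [commutator_def, commutator_def, Subgroup.map_commutator,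
      Subgroup.map_top_of_surjective _ (QuotientGroup.mk'_surjective N)]
  -- the kernel inside the derived subgroup
  set M := N.subgroupOf (commutator G) with hM
  have hMc : (Nat.card M).Coprime p := by
    refine hNc.coprime_dvd_left ?_
    rw [hM, Nat.card_congr (Subgroup.equivMapOfInjective _ (commutator G).subtype
      (commutator G).subtype_injective).toEquiv, Subgroup.subgroupOf_map_subtype]
    exact Subgroup.card_dvd_of_le inf_le_left
  have hMq : ∀ x : ↥(commutator G), ∃ k, x ^ p ^ k ∈ M := by
    intro x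
    obtain ⟨k, hk⟩ := hd ⟨QuotientGroup.mk' N x, hmap ▸ Subgroup.mem_map_of_mem _ x.2⟩
    refine ⟨k, ?_⟩
    rw [Subgroup.mem_subgroupOf, Subgroup.coe_pow, ← QuotientGroup.eq_one_iff, QuotientGroup.mk_pow]
    exact congrArg Subtype.val hk
  refine ⟨fun q hqp hdvd => hq q hqp (by rwa [← Subgroup.index_eq_card]), ?_, ?_, ?_, ?_, ?_⟩
  · intro h
    refine OddLocal43.hasNormalPComplement_of_quotient N hNc ?_
    have hall : ∀ q : ℕ, q.Prime → q ∣ Nat.card (G ⧸ N) → q = p := fun q hqp hdvd => by
      have h1 := hq q hqp hdvd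
      rcases h with rfl | h
      · have := OddLocal43.ne_two_of_dvd_odd hoddQ hdvd
        have := hqp.two_le
        omega
      · exact le_antisymm h1 (h q hqp (hdvd.trans N.card_quotient_dvd_card))
    exact IsPGroup.of_card (Nat.eq_prime_pow_of_unique_prime_dvd Nat.card_pos.ne' (hall _))
  · refine OddLocal43.hasNormalPComplement_of_quotient M hMc fun x => ?_
    obtain ⟨y, rfl⟩ := QuotientGroup.mk'_surjective M x
    obtain ⟨k, hk⟩ := hMq y
    exact ⟨k, by rw [← map_pow]; exact (QuotientGroup.eq_one_iff _).mpr hk⟩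
  · intro L hL x hx
    refine Thompson.le_pPrimeCore (N := M) inferInstance hMc ?_
    obtain ⟨k, hk⟩ := hMq x
    obtain ⟨m, hm⟩ := exists_pow_eq_self_of_coprime
      (((hL.coprime_dvd_left (Subgroup.orderOf_dvd_natCard L hx)).pow_right k).symm)
    exact hm ▸ pow_mem hk m
  · intro x hx
    exact hle (hmap ▸ Subgroup.mem_map_of_mem _ hx)
  · show (((Cfsg.pCore p (G ⧸ N)).comap (QuotientGroup.mk' N)).index).Coprime p
    rwa [Subgroup.index_comap_of_surjective _ (QuotientGroup.mk'_surjective N)]

end Cfsg.Agent.S1450
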