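import Cfsg.Statements.S1451
import Cfsg.Agent.OddLocal43.RankTwoSolvable

set_option autoImplicit false
open Cfsg

namespace Cfsg.Agent.S1451

open scoped commutatorElement

/-- Let G be a solvable group of odd order such that G, or its Fitting subgroup, has no elementary abelian subgroup of order q ^ 3 for any prime q. Then G' is nilpotent; for every Sylow subgroup S of G, every characteristic subgroup T of S with T ≤ [S, S] is normal in G; and for every prime p, G has a characteristic subgroup that is a Hall subgroup for the set of primes greater than p. -/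
theorem result {G : Type*} [Group G] [Finite G] [Group.IsSolvable G] (hodd : Odd (Nat.card G)) (hr : Cfsg.RankLE 2 G ∨ Cfsg.RankLE 2 (Cfsg.fittingSubgroup G)) :
    Group.IsNilpotent ↥(commutator G) ∧
      (∀ (q : ℕ) [Fact q.Prime] (S : Sylow q G) (T : Subgroup ↥(S : Subgroup G)), T.Characteristic → T.map (S : Subgroup G).subtype ≤ ⁅(S : Subgroup G), (S : Subgroup G)⁆ →
        (T.map (S : Subgroup G).subtype).Normal) ∧
      ∀ p : ℕ, ∃ N : Subgroup G, N.Characteristic ∧ Cfsg.IsPiHall {q | q.Prime ∧ p < q} N := by
  classical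
  have hrF : Cfsg.RankLE 2 (Cfsg.fittingSubgroup G) := hr.elim
    (fun h p hp => OddLocal43.prankLE_of_injective _ (Cfsg.fittingSubgroup G).subtype_injective (h p hp)) id
  set F := Cfsg.fittingSubgroup G with hF
  -- a Fitting element of prime power order lies in the corresponding core
  have hFr : ∀ (r k : ℕ), r.Prime → ∀ x ∈ F, orderOf x = r ^ k → x ∈ Cfsg.pCore r G := by
    intro r k hr' x hx hxo
    have : Fact r.Prime := ⟨hr'⟩
    have : Group.IsNilpotent F := Fitting.fitting_isNilpotent
    have hz : IsPGroup r (Subgroup.zpowers (⟨x, hx⟩ : F)) := by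
      refine IsPGroup.of_card (n := k) ?_
      rw [Nat.card_zpowers, Subgroup.orderOf_mk, hxo]
    obtain ⟨S, hS⟩ := hz.exists_le_sylow
    have : (S : Subgroup F).Normal := inferInstance
    have := Sylow.characteristic_of_normal S this
    exact Thompson.le_pCore (inferInstance : ((S : Subgroup F).map F.subtype).Normal)
      (S.isPGroup'.map _) ⟨_, hS (Subgroup.mem_zpowers _), rfl⟩
  have htriv : ∀ (r : ℕ), r.Prime → ¬ r ∣ Nat.card G → Cfsg.pCore r G = ⊥ := by
    intro r hr' hdvd
    have : Fact r.Prime := ⟨hr'⟩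
    refine (Cfsg.pCore r G).eq_bot_of_card_eq ((Thompson.isPGroup_pCore (p := r) (G := G)).card_eq_or_dvd.resolve_right
      fun h => hdvd (h.trans (Subgroup.card_subgroup_dvd_card _)))
  have hrank : ∀ (r : ℕ), r.Prime → Cfsg.PRankLE r 2 (Cfsg.pCore r G) := by
    intro r hr'
    have : Fact r.Prime := ⟨hr'⟩
    exact OddLocal43.prankLE_mono (Fitting.pCore_le_fitting r) (hrF r hr')
  have hcent1 : ∀ (r : ℕ), r.Prime → ∀ b ∈ commutator G, (orderOf b).Coprime r →
      b ∈ Subgroup.centralizer (Cfsg.pCore r G : Set G) := by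
    intro r hr' b hb hcop
    have : Fact r.Prime := ⟨hr'⟩
    by_cases hd : r ∣ Nat.card G
    · exact OddLocal43.commutator_coprime_le_centralizer (OddLocal43.ne_two_of_dvd_odd hodd hd)
        Thompson.isPGroup_pCore (hrank r hr') (A := ⊤) Subgroup.le_normalizer_of_normal
        (Group.isSolvable_of_surjective (f := (Subgroup.topEquiv (G := G)).symm.toMonoidHom)
          (Subgroup.topEquiv (G := G)).symm.surjective)
        (by rwa [Subgroup.card_top]) (by rwa [← commutator_def]) hcop
    · exact Subgroup.mem_centralizer_iff.mpr fun y hy => by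
        rw [htriv r hr' hd] at hy
        rw [show y = 1 from hy, mul_one, one_mul]
  have hcent2 : ∀ (q k r : ℕ), q.Prime → r.Prime → r < q → ∀ b : G, orderOf b = q ^ k →
      b ∈ Subgroup.centralizer (Cfsg.pCore r G : Set G) := by
    intro q k r hq hr' hrq b hb
    have : Fact r.Prime := ⟨hr'⟩
    rcases Nat.eq_zero_or_pos k with rfl | hk
    · rw [pow_zero, orderOf_eq_one_iff] at hb
      rw [hb]
      exact one_mem _
    by_cases hd : r ∣ Nat.card G
    · have hqG : q ∣ Nat.card G := (hb ▸ dvd_pow_self q hk.ne').trans (orderOf_dvd_natCard b)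
      exact OddLocal43.prime_pow_mem_centralizer (OddLocal43.ne_two_of_dvd_odd hodd hd)
        Thompson.isPGroup_pCore (hrank r hr') (Subgroup.le_normalizer_of_normal (K := ⊤) (Subgroup.mem_top b))
        hq (OddLocal43.ne_two_of_dvd_odd hodd hqG) hrq (k := k) hb.dvd
    · exact Subgroup.mem_centralizer_iff.mpr fun y hy => by
        rw [htriv r hr' hd] at hy
        rw [show y = 1 from hy, mul_one, one_mul]
  -- the derived subgroup lies in the Fitting subgroup
  have hDF : commutator G ≤ F := by
    rw [← Subgroup.subgroupOf_eq_top]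
    refine OddLocal43.eq_top_of_prime_pow_mem fun q k hq g hg => ?_
    rw [Subgroup.mem_subgroupOf]
    have : Fact q.Prime := ⟨hq⟩
    set H := commutator G ⊓ ⨅ r : {r : Nat.Primes // (r : ℕ) ≠ q},
      Subgroup.centralizer (Cfsg.pCore ((r : Nat.Primes) : ℕ) G : Set G) with hH
    have : (⨅ r : {r : Nat.Primes // (r : ℕ) ≠ q},
        Subgroup.centralizer (Cfsg.pCore ((r : Nat.Primes) : ℕ) G : Set G)).Normal :=
      Subgroup.normal_iInf_normal fun _ => inferInstance
    have hHn : H.Normal := inferInstance
    have hgH : (g : G) ∈ H := ⟨g.2, Subgroup.mem_iInf.mpr fun r => hcent1 _ r.1.2 _ g.2 (by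
      rw [Subgroup.orderOf_coe, hg]
      exact Nat.Coprime.pow_left k ((Nat.coprime_primes hq r.1.2).mpr (Ne.symm r.2)))⟩
    have hq' : ∀ (r j : ℕ), r.Prime → r ≠ q → ∀ x : H, orderOf x = r ^ j → x ∈ Subgroup.center H := by
      intro r j hr' hrq x hx
      have : Fact r.Prime := ⟨hr'⟩
      have hxo : orderOf (x : G) = r ^ j := by rw [Subgroup.orderOf_coe, hx]
      have hxF : (x : G) ∈ F := by
        refine Fitting.centralizer_fitting_le ?_
        have : F ≤ Subgroup.centralizer ({(x : G)} : Set G) := by
          rw [hF, Fitting.fitting_eq_iSup_pCore]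
          refine iSup_le fun s y hy => Subgroup.mem_centralizer_singleton_iff.mpr ?_
          by_cases hs : (s : ℕ) = q
          · rw [hs] at hy
            exact Subgroup.mem_centralizer_iff.mp (hcent1 q hq _ x.2.1 (by
              rw [hxo]; exact Nat.Coprime.pow_left j ((Nat.coprime_primes hr' hq).mpr hrq))) y hy
          · exact Subgroup.mem_centralizer_iff.mp (Subgroup.mem_iInf.mp x.2.2 ⟨s, hs⟩) y hy
        exact Subgroup.mem_centralizer_iff.mpr fun y hy =>
          Subgroup.mem_centralizer_singleton_iff.mp (this hy)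
      have hxr := hFr r j hr' _ hxF hxo
      refine Subgroup.mem_center_iff.mpr fun h => Subtype.ext ?_
      exact (Subgroup.mem_centralizer_iff.mp (Subgroup.mem_iInf.mp h.2.2 ⟨⟨r, hr'⟩, hrq⟩) _ hxr).symm
    have hpg : IsPGroup q (H ⧸ Subgroup.center H) := by
      refine IsPGroup.of_card (Nat.eq_prime_pow_of_unique_prime_dvd Nat.card_pos.ne' ?_)
      intro r hr' hdvd
      by_contra hrq
      have : Fact r.Prime := ⟨hr'⟩
      obtain ⟨S⟩ : Nonempty (Sylow r H) := inferInstance
      rw [← Subgroup.index_eq_card] at hdvd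
      refine S.not_dvd_index' Subgroup.index_ne_zero_of_finite (hdvd.trans (Subgroup.index_dvd_of_le ?_))
      intro x hx
      obtain ⟨m, hm⟩ := S.isPGroup' ⟨x, hx⟩
      obtain ⟨j, -, hj⟩ := (Nat.dvd_prime_pow hr').mp (orderOf_dvd_of_pow_eq_one (congrArg Subtype.val hm))
      exact hq' r j hr' hrq x hj
    have := hpg.isNilpotent
    have hnil : Group.IsNilpotent H := Subgroup.isNilpotent_of_ker_le_center
      (QuotientGroup.mk' (Subgroup.center H)) (QuotientGroup.ker_mk' _).le
    exact Fitting.le_fitting hHn hnil hgH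
  have hD : Group.IsNilpotent ↥(commutator G) := Fitting.isNilpotent_of_le Fitting.fitting_isNilpotent hDF
  refine ⟨hD, ?_, ?_⟩
  · intro q hq S T hT hTS
    set T' := T.map (S : Subgroup G).subtype with hT'
    have hT'q : T' ≤ Cfsg.pCore q G := by
      intro x hx
      obtain ⟨m, hm⟩ := S.isPGroup' ⟨x, Subgroup.map_subtype_le _ hx⟩
      obtain ⟨j, -, hj⟩ := (Nat.dvd_prime_pow hq.out).mp
        (orderOf_dvd_of_pow_eq_one (congrArg Subtype.val hm))
      refine hFr q j hq.out x (hDF ?_) hj
      have hle : ⁅(S : Subgroup G), (S : Subgroup G)⁆ ≤ commutator G := by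
        rw [commutator_def]
        exact Subgroup.commutator_mono le_top le_top
      exact hle (hTS hx)
    rw [← Subgroup.normalizer_eq_top_iff, eq_top_iff]
    set M := F ⊔ (S : Subgroup G) with hM
    have : M.Normal := Subgroup.Normal.of_commutator_le G (hDF.trans le_sup_left)
    rw [← Sylow.normalizer_sup_eq_top' S (le_sup_right : (S : Subgroup G) ≤ M)]
    have hNS : Subgroup.normalizer ((S : Subgroup G) : Set G) ≤ Subgroup.normalizer (T' : Set G) :=
      OddLocal43.normalizes_map_characteristic T
    refine sup_le hNS (sup_le ?_ (Subgroup.le_normalizer.trans hNS))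
    rw [hF, Fitting.fitting_eq_iSup_pCore]
    refine iSup_le fun s => ?_
    have : Fact (s : ℕ).Prime := ⟨s.2⟩
    by_cases hs : (s : ℕ) = q
    · rw [hs]
      exact (Thompson.pCore_le_sylow S).trans (Subgroup.le_normalizer.trans hNS)
    · refine le_trans (fun y hy => ?_) (Subgroup.centralizer_le_normalizer (s := (T' : Set G)))
      exact Subgroup.mem_centralizer_iff.mpr fun z hz =>
        (Fitting.pCore_commute hs hy (hT'q hz)).eq.symm
  · intro p
    set X : Set G := {g | ∃ q k : ℕ, q.Prime ∧ p < q ∧ orderOf g = q ^ k} with hX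
    set M := Subgroup.closure X with hM
    have hMchar : M.Characteristic := by
      refine Subgroup.characteristic_iff_map_le.mpr fun φ => ?_
      rw [hM, MonoidHom.map_closure]
      refine Subgroup.closure_mono ?_
      rintro _ ⟨g, ⟨q, k, hq, hpq, hg⟩, rfl⟩
      exact ⟨q, k, hq, hpq, by rw [MulEquiv.coe_toMonoidHom, MulEquiv.orderOf_eq, hg]⟩
    refine ⟨M, hMchar, ?_, ?_⟩
    · intro r hr' hdvd
      by_contra hrp
      simp only [Set.mem_ofPred_eq, hr', true_and, not_lt] at hrp
      have : Fact r.Prime := ⟨hr'⟩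
      have hcop : ∀ g ∈ X, (orderOf g).Coprime r := by
        rintro g ⟨q, k, hq, hpq, hg⟩
        rw [hg]
        exact Nat.Coprime.pow_left k ((Nat.coprime_primes hq hr').mpr (by omega))
      have hMc : M ≤ Subgroup.centralizer (Cfsg.pCore r G : Set G) := by
        rw [hM, Subgroup.closure_le]
        rintro g ⟨q, k, hq, hpq, hg⟩
        exact hcent2 q k r hq hr' (by omega) g hg
      have hMF : ∀ g ∈ M, ∀ j : ℕ, orderOf g = r ^ j → g ∈ F := by
        intro g hg j hgj
        have hcomm : ∀ a b : G ⧸ F, Commute a b := by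
          intro a b
          obtain ⟨a, rfl⟩ := QuotientGroup.mk'_surjective _ a
          obtain ⟨b, rfl⟩ := QuotientGroup.mk'_surjective _ b
          rw [← commutatorElement_eq_one_iff_commute, ← map_commutatorElement]
          exact (QuotientGroup.eq_one_iff _).mpr (hDF (by
            rw [commutator_def]
            exact Subgroup.commutator_mem_commutator (Subgroup.mem_top a) (Subgroup.mem_top b)))
        let T : Subgroup G :=
          { carrier := {a | (orderOf (QuotientGroup.mk' F a)).Coprime r}
            one_mem' := by simp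
            inv_mem' := fun {a} ha => by simpa using ha
            mul_mem' := fun {a b} ha hb => by
              simp only [Set.mem_ofPred_eq, map_mul] at ha hb ⊢
              exact Nat.Coprime.coprime_dvd_left
                ((hcomm _ _).orderOf_mul_dvd_mul_orderOf) (Nat.Coprime.mul_left ha hb) }
        have hMT : M ≤ T := (Subgroup.closure_le _).mpr fun a ha =>
          (hcop a ha).coprime_dvd_left (orderOf_map_dvd _ a)
        have h1 : orderOf (QuotientGroup.mk' F g) = 1 := by
          refine Nat.eq_one_of_dvd_coprimes (Nat.Coprime.pow_right j (hMT hg : (orderOf (QuotientGroup.mk' F g)).Coprime r))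
            dvd_rfl ?_
          rw [← hgj]
          exact orderOf_map_dvd _ g
        exact (QuotientGroup.eq_one_iff g).mp (orderOf_eq_one_iff.mp h1)
      obtain ⟨P⟩ : Nonempty (Sylow r M) := inferInstance
      have hPc : (P : Subgroup M) ≤ Subgroup.center M := by
        intro x hx
        obtain ⟨m, hm⟩ := P.isPGroup' ⟨x, hx⟩
        obtain ⟨j, -, hj⟩ := (Nat.dvd_prime_pow hr').mp (orderOf_dvd_of_pow_eq_one (congrArg Subtype.val hm))
        have hxo : orderOf (x : G) = r ^ j := by rw [Subgroup.orderOf_coe, hj]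
        refine Subgroup.mem_center_iff.mpr fun y => Subtype.ext ?_
        exact (Subgroup.mem_centralizer_iff.mp (hMc y.2) _ (hFr r j hr' _ (hMF _ x.2 j hxo) hxo)).symm
      have hP : Subgroup.normalizer ((P : Subgroup M) : Set M) ≤ Subgroup.centralizer ((P : Subgroup M) : Set M) :=
        fun a _ => Subgroup.mem_centralizer_iff.mpr fun b hb => (Subgroup.mem_center_iff.mp (hPc hb) a).symm
      set f := MonoidHom.transferSylow P hP with hf
      have hker : ∀ a : M, (a : G) ∈ X → a ∈ f.ker := by
        intro a ha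
        rw [MonoidHom.mem_ker]
        obtain ⟨m, hm⟩ := P.isPGroup' (f a)
        rw [← orderOf_eq_one_iff]
        refine Nat.eq_one_of_dvd_coprimes ((hcop a ha).pow_right m) ?_ (orderOf_dvd_of_pow_eq_one hm)
        rw [Subgroup.orderOf_coe]
        exact orderOf_map_dvd f a
      have hMker : M ≤ f.ker.map M.subtype := by
        refine (Subgroup.closure_le _).mpr ?_
        intro a ha
        exact ⟨⟨a, Subgroup.subset_closure ha⟩, hker _ ha, rfl⟩
      refine MonoidHom.not_dvd_card_ker_transferSylow P hP ?_
      refine hdvd.trans ((Subgroup.card_dvd_of_le hMker).trans ?_)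
      rw [← Nat.card_congr (Subgroup.equivMapOfInjective _ M.subtype M.subtype_injective).toEquiv]
    · intro r hr' hrp hdvd
      have : Fact r.Prime := ⟨hr'⟩
      obtain ⟨P⟩ : Nonempty (Sylow r G) := inferInstance
      refine P.not_dvd_index' Subgroup.index_ne_zero_of_finite (hdvd.trans (Subgroup.index_dvd_of_le ?_))
      intro x hx
      obtain ⟨m, hm⟩ := P.isPGroup' ⟨x, hx⟩
      obtain ⟨j, -, hj⟩ := (Nat.dvd_prime_pow hr').mp (orderOf_dvd_of_pow_eq_one (congrArg Subtype.val hm))
      exact Subgroup.subset_closure ⟨r, j, hr', hrp.2, hj⟩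

end Cfsg.Agent.S1451
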