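import Cfsg.Statements.S1443
import Cfsg.Agent.OddLocal43.Coprime

set_option autoImplicit false
open Cfsg

namespace Cfsg.Agent.S1443

/-- Let G be a finite group, p an odd prime, H a p-subgroup, E an elementary abelian subgroup of H, and A a subgroup of order coprime to p normalizing H. If A centralizes every element of order p in H ∩ C_G(E), then A centralizes H. -/
theorem result {G : Type*} [Group G] [Finite G] (p : ℕ) [Fact p.Prime] (hp : p ≠ 2) (H E A : Subgroup G) (hH : IsPGroup p H) (hE : E ≤ H) (hEe : Cfsg.IsElementaryAbelian p E)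
    (hA : (A ≤ Subgroup.normalizer (H : Set G))) (hcop : (Nat.card A).Coprime p)
    (hfix : ∀ x ∈ (H ⊓ Subgroup.centralizer (E : Set G)), orderOf x = p → A ≤ Subgroup.centralizer ({x} : Set G)) :
    A ≤ Subgroup.centralizer (H : Set G) := by
  refine OddLocal43.le_centralizer_symm ?_
  obtain ⟨k, hk⟩ := IsPGroup.iff_card.mp hH
  set D := H ⊓ Subgroup.centralizer (E : Set G) with hD
  have hEC : E ≤ Subgroup.centralizer (A : Set G) := by
    intro e he
    by_cases he1 : e = 1
    · rw [he1]; exact one_mem _
    have := hEe.1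
    have heD : e ∈ D := ⟨hE he, Subgroup.mem_centralizer_iff.mpr fun f hf =>
      congrArg Subtype.val (mul_comm' (⟨f, hf⟩ : E) ⟨e, he⟩)⟩
    exact Subgroup.mem_centralizer_iff.mpr fun a ha =>
      (Subgroup.mem_centralizer_iff.mp (hfix e heD (orderOf_eq_prime (hEe.2 e he) he1) ha) e rfl).symm
  have hAD : A ≤ Subgroup.normalizer (D : Set G) := by
    refine (le_inf hA ?_).trans Subgroup.inf_normalizer_le_normalizer_inf
    exact (OddLocal43.le_centralizer_symm hEC).trans Subgroup.le_normalizer
  have hDC : D ≤ H ⊓ Subgroup.centralizer (A : Set G) :=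
    le_inf inf_le_left (OddLocal43.le_centralizer_of_order_p hp hcop (hH.to_le inf_le_left) hAD
      fun x hx hxo => Subgroup.mem_centralizer_iff.mpr fun a ha =>
        (Subgroup.mem_centralizer_iff.mp (hfix x hx hxo ha) x rfl).symm)
  refine OddLocal43.le_centralizer_of_self_centralizing hH.isNilpotent hA
    (hk ▸ hcop.pow_right k) ?_
  refine le_trans ?_ hDC
  exact inf_le_inf_left _ (Subgroup.centralizer_le (le_inf hE hEC))

end Cfsg.Agent.S1443
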