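import Cfsg.Statements.S1462
import Cfsg.Agent.BGSigma.SmallRank
import Cfsg.Agent.Lib.Thompson.PSolvable
import Cfsg.Agent.OddLocal44.Stability
import Cfsg.Agent.S1443

set_option autoImplicit false
open Cfsg
open scoped commutatorElement

namespace Cfsg.Agent.S1462

/-- Let G be a finite solvable group, p an odd prime with G = O_{p',p,p'}(G), E an elementary abelian p-subgroup contained in no larger elementary abelian p-subgroup of G, and L a subgroup of order coprime to p normalized by E. Then L ≤ O_{p'}(G). -/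
theorem result {G : Type*} [Group G] [Finite G] [Group.IsSolvable G] (p : ℕ) [Fact p.Prime] (hp : p ≠ 2) (hpl : Cfsg.PLengthLE p 1 G) (E L : Subgroup G) (hE : Cfsg.IsElementaryAbelian p E)
    (hEmax : ∀ B : Subgroup G, Cfsg.IsElementaryAbelian p B → E ≤ B → B = E) (hL : (Nat.card L).Coprime p) (hEL : E ≤ Subgroup.normalizer (L : Set G)) :
    L ≤ Cfsg.pPrimeCore p G := by
  have hidx := BGSigma.plengthLE_one_iff.1 hpl
  set O := Cfsg.pPrimeCore p G with hO
  set f := QuotientGroup.mk' O with hf
  have hfs : Function.Surjective f := QuotientGroup.mk'_surjective _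
  haveI : Group.IsSolvable (G ⧸ O) := Group.isSolvable_of_surjective hfs
  have hEp : IsPGroup p E := fun e => ⟨1, Subtype.ext (by simpa using hE.2 e e.2)⟩
  obtain ⟨S, hS⟩ := hEp.exists_le_sylow
  set T := Cfsg.pCore p (G ⧸ O) with hT
  have hTS : T = (S : Subgroup G).map f := by
    have h1 : T ≤ (S : Subgroup G).map f := by
      rw [← Sylow.coe_mapSurjective hfs S]
      exact Thompson.pCore_le_sylow _
    refine le_antisymm h1 ?_
    have hi : ¬ p ∣ T.index := by
      rw [← Subgroup.index_comap_of_surjective T hfs]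
      exact hidx
    let R : Sylow p (G ⧸ O) := Thompson.isPGroup_pCore.toSylow hi
    exact (R.3 (S.2.map f) h1).le
  haveI : IsMulCommutative (E.map f) := haveI := hE.1; inferInstance
  have hLc : (Nat.card (L.map f)).Coprime p := hL.coprime_dvd_left (Subgroup.card_map_dvd _ _)
  have hET : E.map f ≤ T := hTS ▸ Subgroup.map_mono hS
  have hLT : L.map f ≤ Subgroup.normalizer (T : Set (G ⧸ O)) := by
    rw [Subgroup.normalizer_eq_top_iff.2 inferInstance]; exact le_top
  -- `L` centralizes the image of `E`
  have hcomm : L.map f ≤ Subgroup.centralizer (E.map f : Set (G ⧸ O)) := by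
    rintro _ ⟨l, hl, rfl⟩
    rw [Subgroup.mem_centralizer_iff]
    rintro _ ⟨e, he, rfl⟩
    have h1 : e * l * e⁻¹ * l⁻¹ ∈ L :=
      L.mul_mem ((Subgroup.mem_normalizer_iff.1 (hEL he) l).1 hl) (L.inv_mem hl)
    have h2 : f e * f l * (f e)⁻¹ * (f l)⁻¹ ∈ T := by
      have h3 := T.mul_mem (hET (Subgroup.mem_map_of_mem f he))
        ((inferInstance : T.Normal).conj_mem _ (T.inv_mem (hET (Subgroup.mem_map_of_mem f he))) (f l))
      simpa [mul_assoc] using h3
    have h4 : f e * f l * (f e)⁻¹ * (f l)⁻¹ ∈ T ⊓ L.map f :=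
      ⟨h2, ⟨_, h1, by simp only [map_mul, map_inv]⟩⟩
    rw [Thompson.inf_eq_bot_of_isPGroup_of_coprime Thompson.isPGroup_pCore hLc, Subgroup.mem_bot] at h4
    calc f e * f l = f e * f l * (f e)⁻¹ * (f l)⁻¹ * (f l * f e) := by group
      _ = _ := by rw [h4, one_mul]
  have hfix := S1443.result p hp T (E.map f) (L.map f) Thompson.isPGroup_pCore hET
    ⟨inferInstance, by rintro _ ⟨e, he, rfl⟩; rw [← map_pow, hE.2 e he, map_one]⟩ hLT hLc
    (by
      rintro x ⟨hxT, hxC⟩ hxo
      rw [hTS] at hxT
      obtain ⟨s, hs, rfl⟩ := hxT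
      have hinj : ∀ y ∈ (S : Subgroup G), f y = 1 → y = 1 := fun y hy hy1 => by
        have h : y ∈ (S : Subgroup G) ⊓ O := ⟨hy, (QuotientGroup.eq_one_iff y).1 hy1⟩
        rwa [Thompson.inf_eq_bot_of_isPGroup_of_coprime S.2 Thompson.card_pPrimeCore_coprime,
          Subgroup.mem_bot] at h
      have hsp : s ^ p = 1 := hinj _ (pow_mem hs p) (by rw [map_pow]; exact (congrArg ((f s) ^ ·) hxo.symm).trans (pow_orderOf_eq_one _))
      have hse : ∀ e ∈ E, e * s = s * e := by
        intro e he
        have h1 := Subgroup.mem_centralizer_iff.1 hxC _ (Subgroup.mem_map_of_mem f he)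
        refine mul_inv_eq_one.1 (hinj _ ?_ ?_)
        · exact mul_mem (mul_mem (hS he) hs) (inv_mem (mul_mem hs (hS he)))
        · rw [map_mul, map_inv, map_mul, map_mul, h1, mul_inv_cancel]
      have hgen : Cfsg.IsElementaryAbelian p (Subgroup.closure (insert s (E : Set G))) := by
        have hc : ∀ a ∈ insert s (E : Set G), ∀ b ∈ insert s (E : Set G), a * b = b * a := by
          intro a ha b hb
          rcases ha with rfl | ha <;> rcases hb with rfl | hb
          · rfl
          · exact (hse b hb).symm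
          · exact hse a ha
          · exact congrArg Subtype.val (hE.1.is_comm.comm (⟨a, ha⟩ : E) ⟨b, hb⟩)
        have hcl : IsMulCommutative (Subgroup.closure (insert s (E : Set G))) :=
          Subgroup.isMulCommutative_closure hc
        refine ⟨hcl, fun a ha => ?_⟩
        induction ha using Subgroup.closure_induction with
        | mem z hz =>
          rcases hz with rfl | hz
          · exact hsp
          · exact hE.2 z hz
        | one => exact one_pow p
        | mul a b ha hb iha ihb =>
          rw [Commute.mul_pow (congrArg Subtype.val (hcl.is_comm.comm (⟨a, ha⟩ :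
            Subgroup.closure (insert s (E : Set G))) ⟨b, hb⟩)), iha, ihb, one_mul]
        | inv a _ iha => rw [inv_pow, iha, inv_one]
      have hEeq := hEmax _ hgen fun e he => Subgroup.subset_closure (Set.mem_insert_of_mem _ he)
      have hsE : s ∈ E := hEeq ▸ Subgroup.subset_closure (Set.mem_insert _ _)
      intro l hl
      rw [Subgroup.mem_centralizer_iff]
      rintro z rfl
      exact Subgroup.mem_centralizer_iff.1 (hcomm hl) _ (Subgroup.mem_map_of_mem f hsE))
  have hcl : Subgroup.centralizer (T : Set (G ⧸ O)) ≤ T :=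
    Thompson.centralizer_pCore_le OddLocal44.isPSolvable_of_isSolvable
      Thompson.pPrimeCore_quotient_pPrimeCore
  have h5 : L.map f ≤ T ⊓ L.map f := le_inf (hfix.trans hcl) le_rfl
  rw [Thompson.inf_eq_bot_of_isPGroup_of_coprime Thompson.isPGroup_pCore hLc, le_bot_iff,
    Subgroup.map_eq_bot_iff, hf, QuotientGroup.ker_mk'] at h5
  exact h5

end Cfsg.Agent.S1462
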