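import Cfsg.Statements.S1396
import Cfsg.Agent.BGUniq.SCN
import Cfsg.Agent.S1462

set_option autoImplicit false
open Cfsg

namespace Cfsg.Agent.S1396

open Cfsg.Agent BGUniq in
/-- The two criteria give `A ≠ ⊥` and the key containment. -/
theorem criterion_aux {G : Type*} [Group G] [Finite G] (hG : Cfsg.IsMinSimpleOddOrder G)
    (p : ℕ) [Fact p.Prime] (hp : p ∣ Nat.card G) (A : Subgroup G)
    (h : (∀ x ∈ Subgroup.centralizer (A : Set G), x ^ p = 1 ↔ x ∈ A) ∧ (∀ H : Subgroup G, H ≠ ⊤ → Cfsg.PLengthLE p 1 H) ∨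
      ∃ P : Sylow p G, Cfsg.IsSCN (P : Subgroup G) A ∧ ¬ Cfsg.PRankLE p 1 A)
    (hAc : IsMulCommutative A) :
    A ≠ ⊥ ∧ ∀ X : Subgroup G, X ≠ ⊤ → A ≤ X → ∀ W : Subgroup G, W ≤ X →
      (Nat.card W).Coprime p → A ≤ Subgroup.normalizer (W : Set G) → W ≤ opp p X := by
  rcases h with ⟨hA, hpl⟩ | ⟨P, hP, h2⟩
  · have hAe : IsElementaryAbelian p A := ⟨hAc, fun a ha =>
      (hA a (Subgroup.mem_centralizer_iff.mpr fun b hb =>
        congrArg Subtype.val (hAc.is_comm.comm (⟨b, hb⟩ : A) ⟨a, ha⟩))).mpr ha⟩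
    refine ⟨?_, fun X hX hAX W hWX hW hAW => ?_⟩
    · rintro rfl
      obtain ⟨x, hx⟩ := exists_prime_orderOf_dvd_card' p hp
      have hx1 := (hA x (Subgroup.mem_centralizer_iff.mpr fun b hb => by
        rw [Subgroup.mem_bot.mp hb, one_mul, mul_one])).mp (hx ▸ pow_orderOf_eq_one x)
      rw [Subgroup.mem_bot.mp hx1, orderOf_one] at hx
      exact (Fact.out : p.Prime).one_lt.ne hx
    haveI := BGSigma.isSolvable_of_ne_top hG hX
    refine (le_map_subtype_iff hWX).mpr (S1462.result p (prime_ne_two hG hp) (hpl X hX)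
      (A.subgroupOf X) (W.subgroupOf X) ⟨?_, fun a ha => Subtype.ext (hAe.2 a ha)⟩ ?_
      (card_subgroupOf_coprime X hW) ?_)
    · haveI := hAc
      exact Subgroup.subgroupOf_isMulCommutative X A
    · intro B hB hle
      refine le_antisymm (fun b hb => ?_) hle
      refine (hA b (Subgroup.mem_centralizer_iff.mpr fun a ha => ?_)).mp
        (congrArg Subtype.val (hB.2 b hb))
      exact congrArg (Subtype.val ∘ Subtype.val)
        (hB.1.is_comm.comm (⟨⟨a, hAX ha⟩, hle ha⟩ : B) ⟨b, hb⟩)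
    · intro t ht
      have h' := Subgroup.mem_normalizer_iff.mp (hAW (show (t : G) ∈ A from ht))
      rw [Subgroup.mem_normalizer_iff]
      intro x
      exact h' x
  · refine ⟨?_, fun X hX hAX W hWX hW hAW => le_opp_of_scn hG P hP h2 hX hAX hWX hW hAW⟩
    rintro rfl
    refine h2 fun E _ _ => ?_
    have hE : Nat.card E ≤ 1 := (Subgroup.card_le_card_group E).trans (by simp)
    exact hE.trans (Nat.one_le_pow _ _ (Fact.out : p.Prime).pos)

/-- Let G be a minimal simple group of odd order, p a prime dividing the order of G and A an abelian p-subgroup. Suppose either (1) A consists exactly of the elements x of C_G(A) with x^p = 1, and every proper subgroup of G has p-length at most one, or (2) A is normal and self-centralizing in some Sylow p-subgroup of G and has rank at least 2. Then A satisfies the transitivity hypothesis. -/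
theorem result {G : Type*} [Group G] [Finite G] (hG : Cfsg.IsMinSimpleOddOrder G)
    (p : ℕ) [Fact p.Prime] (hp : p ∣ Nat.card G) (A : Subgroup G) (hAp : IsPGroup p A) (hAc : IsMulCommutative A)
    (h : (∀ x ∈ Subgroup.centralizer (A : Set G), x ^ p = 1 ↔ x ∈ A) ∧ (∀ H : Subgroup G, H ≠ ⊤ → Cfsg.PLengthLE p 1 H) ∨
      ∃ P : Sylow p G, Cfsg.IsSCN (P : Subgroup G) A ∧ ¬ Cfsg.PRankLE p 1 A) :
    Cfsg.TransitivityHypothesis A := by
  obtain ⟨hA0, hkey⟩ := criterion_aux hG p hp A h hAc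
  refine ⟨hA0, fun h => ?_, fun X hX hAX => ?_⟩
  · subst h
    exact hG.2.2.1 ⟨⟨fun a b => congrArg Subtype.val
      (hAc.is_comm.comm (⟨a, trivial⟩ : (⊤ : Subgroup G)) ⟨b, trivial⟩)⟩⟩
  obtain ⟨k, hk⟩ := hAp.exists_card_eq
  have hk0 : k ≠ 0 := fun h => hA0 (Subgroup.eq_bot_of_card_eq _ (by rw [hk, h, pow_zero]))
  have hpp : p.Prime := Fact.out
  rw [hk, BGUniq.primesNotDvd_pow hpp hk0]
  refine le_antisymm (sSup_le ?_) (le_sSup ⟨BGSigma.piCoreOf_le X, BGSigma.isPiSub_piCoreOf X,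
    hAX.trans (Subgroup.le_normalizer.trans (BGSigma.piCoreOf_normalized X))⟩)
  rintro W ⟨hWX, hW, hAW⟩
  rw [BGUniq.piCoreOf_primesNotDvd hpp]
  exact hkey X hX hAX W hWX ((BGUniq.coprime_iff_forall_prime hpp).mpr hW) hAW

end Cfsg.Agent.S1396
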