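import Cfsg.Statements.S1444
import Cfsg.Agent.OddLocal43.PLengthOne

set_option autoImplicit false
open Cfsg

namespace Cfsg.Agent.S1444

/-- Let G be a solvable group of odd order, H a normal subgroup of order coprime to its index, R a complement to H in G, and R₀ ≤ R a subgroup of prime order such that every Sylow subgroup of H ∩ C_G(R₀) is cyclic. Then for every prime p the commutator subgroup [H, R] satisfies [H,R] = O_{p',p,p'}([H,R]). -/
theorem result {G : Type*} [Group G] [Finite G] [Group.IsSolvable G] (hodd : Odd (Nat.card G)) (H R R₀ : Subgroup G) [H.Normal] (hHall : (Nat.card H).Coprime H.index)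
    (hR : Subgroup.IsComplement' H R) (hR₀ : R₀ ≤ R) (hR₀p : (Nat.card R₀).Prime) (hZ : IsZGroup ↥(H ⊓ Subgroup.centralizer (R₀ : Set G)))
    (p : ℕ) [Fact p.Prime] :
    Cfsg.PLengthLE p 1 ↥⁅H, R⁆ := by
  have hRc : Nat.card R = H.index := hR.symm.index_eq_card.symm
  have hn : H ≤ Subgroup.normalizer ((H : Subgroup G) : Set G) := Subgroup.le_normalizer
  have hRH : R ≤ Subgroup.normalizer (H : Set G) := OddLocal43.le_normalizer_of_normal H R
  have hcop : (Nat.card H).Coprime (Nat.card R) := hRc ▸ hHall
  haveI hN : (⁅H, R⁆ : Subgroup G).Normal := by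
    rw [← Subgroup.normalizer_eq_top_iff, eq_top_iff, ← hR.sup_eq_top]
    exact sup_le (Coprime.le_normalizer_commutator_left R H) (Coprime.le_normalizer_commutator_right R H)
  have hle : ⁅H, R⁆ ≤ H := Coprime.commutator_le_of_le_normalizer hRH
  refine OddLocal43.plengthLE_one_of_zgroup_centralizer hR₀p hodd ⁅H, R⁆ R R₀ inferInstance
    (hcop.coprime_dvd_left (Subgroup.card_dvd_of_le hle))
    (Coprime.commutator_commutator_eq R H hRH hcop.symm (Or.inr inferInstance)) hR₀ rfl ?_
  haveI := hZ
  exact IsZGroup.of_injective (f := Subgroup.inclusion (inf_le_inf_right _ hle))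
    (Subgroup.inclusion_injective _)

end Cfsg.Agent.S1444
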