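import Cfsg.Statements.S1448
import Cfsg.Agent.OddLocal43.Blackburn
import Cfsg.Agent.OddLocal43.RankTwoSolvable

set_option autoImplicit false
open Cfsg
open Subgroup
open scoped commutatorElement

namespace Cfsg.Agent.S1448

/-- Let G be a finite group, p an odd prime, R a nontrivial p-subgroup with no elementary abelian subgroup of order p ^ 3, and A a subgroup of odd order coprime to p normalizing R with [R, A] = R. Then 3 < p, and either R is abelian or R is generated by two elementwise-commuting subgroups R₁, R₂ with R₁ non-abelian of order p ^ 3 and exponent p, R₂ cyclic, and the elements of R₂ of order dividing p generating exactly [R₁, R₁]. -/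
theorem result {G : Type*} [Group G] [Finite G] (p : ℕ) [Fact p.Prime] (hp : p ≠ 2) (R A : Subgroup G) (hR : IsPGroup p R) (hR1 : R ≠ ⊥) (hr : Cfsg.PRankLE p 2 R)
    (hA : (A ≤ Subgroup.normalizer (R : Set G))) (hcop : (Nat.card A).Coprime p) (hAodd : Odd (Nat.card A)) (hRA : ⁅R, A⁆ = R) :
    3 < p ∧ (IsMulCommutative R ∨ ∃ R₁ R₂ : Subgroup G, R₁ ⊔ R₂ = R ∧ (∀ a ∈ R₁, ∀ b ∈ R₂, a * b = b * a) ∧
        ¬ IsMulCommutative R₁ ∧ Nat.card R₁ = p ^ 3 ∧ Monoid.exponent R₁ = p ∧ IsCyclic R₂ ∧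
        Subgroup.closure {x : G | x ∈ R₂ ∧ x ^ p = 1} = ⁅R₁, R₁⁆) := by
  have hp3 : 3 < p := by
    by_contra hle
    have hKtop : (centralizer (R : Set G)).subgroupOf A = ⊤ := by
      refine OddLocal43.eq_top_of_prime_pow_mem fun q k hq g hg => ?_
      rw [mem_subgroupOf]
      rcases Nat.eq_zero_or_pos k with rfl | hk
      · rw [pow_zero, orderOf_eq_one_iff] at hg
        rw [hg]
        exact one_mem _
      · have hqA : q ∣ Nat.card A := (dvd_pow_self q hk.ne').trans (hg ▸ orderOf_dvd_natCard g)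
        have hq2 := OddLocal43.ne_two_of_dvd_odd hAodd hqA
        have hqp : q ≠ p := fun h => (Fact.out : p.Prime).ne_one
          (Nat.eq_one_of_dvd_coprimes hcop (h ▸ hqA) dvd_rfl)
        refine OddLocal43.prime_pow_mem_centralizer hp hR hr (hA g.2) hq hq2 ?_
          (by rw [orderOf_coe, hg] : orderOf (g : G) ∣ q ^ k)
        have := hq.two_le
        have := (Fact.out : p.Prime).two_le
        omega
    rw [subgroupOf_eq_top] at hKtop
    rw [commutator_eq_bot_iff_le_centralizer.mpr (OddLocal43.le_centralizer_symm hKtop)] at hRA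
    exact hR1 hRA.symm
  let φ : A →* MulAut R := (normalizerMonoidHom R).comp (inclusion hA)
  have hgen : closure {z : R | ∃ a v, z = φ a v * v⁻¹} = ⊤ := by
    rw [eq_top_iff]
    intro z _
    have h1 : ⁅R, A⁆ ≤ (closure {z : R | ∃ a v, z = φ a v * v⁻¹}).map R.subtype := by
      refine commutator_le.mpr fun v hv a ha => ?_
      refine ⟨(φ ⟨a, ha⟩ ⟨v, hv⟩ * (⟨v, hv⟩ : R)⁻¹)⁻¹,
        inv_mem (subset_closure ⟨⟨a, ha⟩, ⟨v, hv⟩, rfl⟩), ?_⟩
      simp [φ, commutatorElement_def, mul_assoc]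
    obtain ⟨z', hz', he⟩ := h1 (hRA.ge z.2)
    rwa [← R.subtype_injective he]
  refine ⟨hp3, ?_⟩
  by_cases hsm : OddLocal43.HasSmallOmega p R
  · exact Or.inl ⟨⟨OddLocal43.commute_of_smallOmega_aux hp3 hcop _ le_rfl hR hsm φ hgen⟩⟩
  · obtain ⟨S, C, hsup, hcomm, hnab, hcard, hexp, hcyc, hom⟩ :=
      OddLocal43.blackburn_central_product hp3 hR hr φ hAodd hgen hsm
    refine Or.inr ⟨S.map R.subtype, C.map R.subtype, ?_, ?_, ?_, ?_, ?_, ?_, ?_⟩
    · rw [← Subgroup.map_sup, hsup, ← MonoidHom.range_eq_map, range_subtype]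
    · rintro _ ⟨a, ha, rfl⟩ _ ⟨b, hb, rfl⟩
      exact congrArg Subtype.val (hcomm a ha b hb)
    · intro h
      refine hnab ⟨⟨fun a b => Subtype.ext (R.subtype_injective ?_)⟩⟩
      exact congrArg Subtype.val (h.is_comm.comm
        (⟨_, mem_map_of_mem R.subtype a.2⟩ : S.map R.subtype) ⟨_, mem_map_of_mem R.subtype b.2⟩)
    · rw [card_map_of_injective R.subtype_injective, hcard]
    · rw [← Monoid.exponent_eq_of_mulEquiv (equivMapOfInjective S _ R.subtype_injective)]
      haveI : Nontrivial S := Finite.one_lt_card_iff_nontrivial.mp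
        (by rw [hcard]; exact Nat.one_lt_pow (by norm_num) (Fact.out : p.Prime).one_lt)
      exact Monoid.exponent_eq_prime_iff (Fact.out : p.Prime) |>.mpr fun a ha =>
        orderOf_eq_prime (Subtype.ext (hexp a a.2)) ha
    · exact (equivMapOfInjective C _ R.subtype_injective).isCyclic.mp hcyc
    · rw [← map_commutator, ← hom, MonoidHom.map_closure]
      congr 1
      ext x
      constructor
      · rintro ⟨⟨c, hc, rfl⟩, hx⟩
        exact ⟨c, ⟨hc, R.subtype_injective (by simpa using hx)⟩, rfl⟩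
      · rintro ⟨c, ⟨hc, hcp⟩, rfl⟩
        exact ⟨⟨c, hc, rfl⟩, by rw [← map_pow, hcp, map_one]⟩

end Cfsg.Agent.S1448
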