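import Cfsg.Statements.S1453
import Cfsg.Agent.OddLocal44.RankThree
import Cfsg.Agent.Lib.PGroup.Commutator

set_option autoImplicit false
open Cfsg
open scoped commutatorElement

namespace Cfsg.Agent.S1453

/-- Let p be an odd prime and R a finite p-group with an elementary abelian subgroup of order p ^ 3 and an elementary abelian subgroup E of order p ^ 2 contained in no larger elementary abelian subgroup. Let Z₂ be the second centre of R, W the subgroup generated by the elements of Z₂ of order dividing p, and T = C_R(W). Then E is not contained in T; the elements of order dividing p of the centre of R generate a group of order p; W is elementary abelian of order p ^ 2; and T is characteristic in R of index p. -/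
theorem result {R : Type*} [Group R] [Finite R] (p : ℕ) [Fact p.Prime] (hp : p ≠ 2) (hR : IsPGroup p R) (hr : ¬ Cfsg.PRankLE p 2 R)
    (E : Subgroup R) (hE : Cfsg.IsElementaryAbelian p E) (hE2 : Nat.card E = p ^ 2)
    (hEmax : ∀ B : Subgroup R, Cfsg.IsElementaryAbelian p B → E ≤ B → B = E) :
    ¬ E ≤ Subgroup.centralizer ((Subgroup.closure {x : R | x ∈ Subgroup.upperCentralSeries R 2 ∧ x ^ p = 1} : Subgroup R) : Set R) ∧
      Nat.card ↥(Subgroup.closure {x : R | x ∈ Subgroup.center R ∧ x ^ p = 1}) = p ∧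
      (Cfsg.IsElementaryAbelian p (Subgroup.closure {x : R | x ∈ Subgroup.upperCentralSeries R 2 ∧ x ^ p = 1}) ∧
        Nat.card ↥(Subgroup.closure {x : R | x ∈ Subgroup.upperCentralSeries R 2 ∧ x ^ p = 1}) = p ^ 2) ∧
      (Subgroup.centralizer ((Subgroup.closure {x : R | x ∈ Subgroup.upperCentralSeries R 2 ∧ x ^ p = 1} : Subgroup R) : Set R)).Characteristic ∧
      (Subgroup.centralizer ((Subgroup.closure {x : R | x ∈ Subgroup.upperCentralSeries R 2 ∧ x ^ p = 1} : Subgroup R) : Set R)).index = p := by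
  have hpr : p.Prime := Fact.out
  set Z := Subgroup.center R with hZ
  set Z₂ := Subgroup.upperCentralSeries R 2 with hZ₂
  have hcen : ∀ x ∈ Z₂, ∀ g : R, ⁅x, g⁆ ∈ Z := fun x hx g => by
    rw [hZ, ← Subgroup.upperCentralSeries_one]
    exact Subgroup.mem_upperCentralSeries_succ_iff.1 hx g
  have hZ2c : commutator ↥Z₂ ≤ Subgroup.center ↥Z₂ := by
    rw [commutator_def, Subgroup.commutator_le]
    intro a _ b _
    rw [Subgroup.mem_center_iff]
    intro c
    refine Subtype.ext ?_
    exact Subgroup.mem_center_iff.1 (hcen a a.2 b) c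
  -- the elements of `Z₂` of order dividing `p` form a subgroup
  let W : Subgroup R :=
    { carrier := {x : R | x ∈ Z₂ ∧ x ^ p = 1}
      one_mem' := ⟨Z₂.one_mem, one_pow p⟩
      mul_mem' := fun {a b} ha hb => ⟨Z₂.mul_mem ha.1 hb.1, congrArg Subtype.val
        (PGroup.pow_eq_one_mul_classTwo hZ2c hpr hp (a := ⟨a, ha.1⟩) (b := ⟨b, hb.1⟩)
          (Subtype.ext ha.2) (Subtype.ext hb.2))⟩
      inv_mem' := fun {a} ha => ⟨Z₂.inv_mem ha.1, by rw [inv_pow, ha.2, inv_one]⟩ }
  have hWeq : Subgroup.closure {x : R | x ∈ Subgroup.upperCentralSeries R 2 ∧ x ^ p = 1} = W :=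
    le_antisymm ((Subgroup.closure_le W).2 fun x hx => hx) fun x hx => Subgroup.subset_closure hx
  rw [hWeq]
  let Z0 : Subgroup R :=
    { carrier := {x : R | x ∈ Z ∧ x ^ p = 1}
      one_mem' := ⟨Z.one_mem, one_pow p⟩
      mul_mem' := fun {a b} ha hb => ⟨Z.mul_mem ha.1 hb.1, by
        rw [Commute.mul_pow (Subgroup.mem_center_iff.1 hb.1 a : a * b = b * a), ha.2, hb.2, one_mul]⟩
      inv_mem' := fun {a} ha => ⟨Z.inv_mem ha.1, by rw [inv_pow, ha.2, inv_one]⟩ }
  have hZ0eq : Subgroup.closure {x : R | x ∈ Subgroup.center R ∧ x ^ p = 1} = Z0 :=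
    le_antisymm ((Subgroup.closure_le Z0).2 fun x hx => hx) fun x hx => Subgroup.subset_closure hx
  rw [hZ0eq]
  -- elements of order `p` centralizing `E` are in `E`
  have hmaxE : ∀ x : R, x ^ p = 1 → (∀ e ∈ E, e * x = x * e) → x ∈ E := by
    intro x hx hxe
    have h1 := H40.elementary_sup hE (H40.elementary_zpowers hx) (fun a ha b hb => by
      obtain ⟨k, rfl⟩ := hb
      exact (Commute.zpow_right (hxe a ha : Commute a x) k).eq)
    exact (hEmax _ h1 le_sup_left).le (Subgroup.mem_sup_right (Subgroup.mem_zpowers x))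
  obtain ⟨B, hBn, hB, hB3, hBmax⟩ := OddLocal44.exists_normal_elementary_cube hR hp hr
  haveI := hBn
  have hBp : p ^ 3 ≤ Nat.card B := hB3
  have hlt23 : p ^ 2 < p ^ 3 := Nat.pow_lt_pow_right hpr.one_lt (by norm_num)
  have hZ0E : Z0 ≤ E := fun x hx => hmaxE x hx.2 fun e _ => Subgroup.mem_center_iff.1 hx.1 e
  -- `E` is not normal, indeed not centralized by a subgroup of index `p`
  have hEbig : ¬ (Subgroup.centralizer (E : Set R)).index ≤ p := by
    intro hi
    have h1 := OddLocal44.card_le_mul_inf (H := B) hi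
    have h2 : p ^ 2 ≤ Nat.card (B ⊓ Subgroup.centralizer (E : Set R) : Subgroup R) := by
      refine Nat.le_of_mul_le_mul_left ?_ hpr.pos
      calc p * p ^ 2 = p ^ 3 := by ring
        _ ≤ Nat.card B := hB3
        _ ≤ _ := h1
    have h3 : B ⊓ Subgroup.centralizer (E : Set R) ≤ E := fun x hx =>
      hmaxE x (hB.2 x hx.1) fun e he => Subgroup.mem_centralizer_iff.1 hx.2 e he
    have h4 := Subgroup.eq_of_le_of_card_ge h3 (hE2.le.trans h2)
    have h5 := hEmax B hB (h4.ge.trans inf_le_left)
    rw [h5, hE2] at hBp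
    omega
  have hne : (⊤ : Subgroup R) ≠ ⊥ := fun h => by
    have h1 := Subgroup.card_le_of_le (le_top : B ≤ ⊤)
    rw [h, Subgroup.card_bot] at h1
    have h2 := Nat.one_le_pow 2 p hpr.pos
    omega
  have hZ0card : Nat.card Z0 = p := by
    obtain ⟨z, -, hzc, hzo⟩ := H40.exists_central_orderOf_eq hR ⊤ hne
    have hzZ0 : z ∈ Z0 := ⟨hzc, by rw [← hzo, pow_orderOf_eq_one]⟩
    have hge : p ≤ Nat.card Z0 := by
      have h := Subgroup.card_le_of_le (Subgroup.zpowers_le.2 hzZ0)
      rwa [Nat.card_zpowers, hzo] at h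
    obtain ⟨n, hn⟩ := PGroup.exists_card_eq_pow hR Z0
    have hle := Subgroup.card_le_of_le hZ0E
    rw [hE2, hn] at hle
    rw [hn] at hge
    rcases (by
      have := (Nat.pow_le_pow_iff_right hpr.one_lt).1 hle
      omega : n = 0 ∨ n = 1 ∨ n = 2) with rfl | rfl | rfl
    · rw [pow_zero] at hge
      exact absurd hge (not_le.2 hpr.one_lt)
    · rw [hn, pow_one]
    · exfalso
      apply hEbig
      have heq : Z0 = E := Subgroup.eq_of_le_of_card_ge hZ0E (by rw [hE2, hn])
      have : Subgroup.centralizer (E : Set R) = ⊤ := by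
        rw [Subgroup.centralizer_eq_top_iff_subset]
        exact fun e he => (heq ▸ he : e ∈ Z0).1
      rw [this, Subgroup.index_top]
      exact hpr.one_lt.le
  haveI : Z0.Normal := H40.normal_of_le_center' (fun x hx => hx.1)
  have hWcomm : ∀ x ∈ W, ∀ g : R, ⁅x, g⁆ ∈ Z0 := by
    intro x hx g
    have hc := hcen x hx.1 g
    refine ⟨hc, ?_⟩
    have hcomm : Commute ⁅x, g⁆ x := (Subgroup.mem_center_iff.1 hc x).symm
    rw [← PGroup.commutatorElement_pow_left hcomm, hx.2, commutatorElement_one_left]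
  -- a subgroup of `W` containing `Z0` is normal
  have hnormal : ∀ N : Subgroup R, N ≤ W → Z0 ≤ N → N.Normal := fun N hNW hN => ⟨fun x hx g => by
    have h1 : g * x * g⁻¹ = ⁅x, g⁆⁻¹ * x := by rw [commutatorElement_def]; group
    rw [h1]
    exact N.mul_mem (N.inv_mem (hN (hWcomm x (hNW hx) g))) hx⟩
  haveI : W.Normal := hnormal W le_rfl fun x hx => ⟨by
    rw [hZ₂, Subgroup.mem_upperCentralSeries_succ_iff]
    intro g
    rw [Subgroup.upperCentralSeries_one, ← hZ,
      (commutatorElement_eq_one_iff_mul_comm).2 (Subgroup.mem_center_iff.1 hx.1 g).symm]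
    exact one_mem _, hx.2⟩
  -- `W` contains a normal subgroup of order `p²`
  have hWbig : p ^ 2 ≤ Nat.card W := by
    obtain ⟨n, hn⟩ := PGroup.exists_card_eq_pow hR B
    rw [hn] at hBp
    have h3n : 3 ≤ n := (Nat.pow_le_pow_iff_right hpr.one_lt).1 hBp
    obtain ⟨U, hUB, hUn, hUc⟩ := PGroup.exists_normal_le_card hR B 2 hn (by omega)
    obtain ⟨L, hLU, hLn, hLc⟩ := PGroup.exists_normal_le_card hR U 1 hUc (by norm_num)
    rw [← hUc]
    refine Subgroup.card_le_of_le fun x hx => ⟨?_, hB.2 x (hUB hx)⟩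
    rw [hZ₂, Subgroup.mem_upperCentralSeries_succ_iff]
    intro g
    rw [Subgroup.upperCentralSeries_one]
    haveI := hUn; haveI := hLn
    have h1 : g * x * g⁻¹ * x⁻¹ ∈ L := H40.commutator_mem_of_card_eq_mul hR L U hLU
      (by rw [hUc, hLc]; ring) hx g
    have h2 : L ≤ Subgroup.center R := PGroup.le_center_of_card_eq_prime hR (by rw [hLc, pow_one])
    have h3 : ⁅x, g⁆ = (g * x * g⁻¹ * x⁻¹)⁻¹ := by rw [commutatorElement_def]; group
    rw [h3]
    exact (Subgroup.center R).inv_mem (h2 h1)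
  have hEW : ¬ E ≤ W := by
    intro hle
    haveI := hnormal E hle hZ0E
    exact hEbig (OddLocal44.index_centralizer_le_of_card_le hR E hE2.le)
  obtain ⟨e, heE, heW⟩ := SetLike.not_le_iff_exists.1 hEW
  have heZ0 : e ∉ Z0 := fun h => heW ⟨by
    rw [hZ₂, Subgroup.mem_upperCentralSeries_succ_iff]
    intro g
    rw [Subgroup.upperCentralSeries_one, ← hZ,
      (commutatorElement_eq_one_iff_mul_comm).2 (Subgroup.mem_center_iff.1 h.1 g).symm]
    exact one_mem _, h.2⟩
  have hEgen : ∀ N : Subgroup R, Z0 ≤ N → e ∈ N → N ≤ E → N = E := by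
    intro N hN heN hNE
    obtain ⟨n, hn⟩ := PGroup.exists_card_eq_pow hR N
    refine Subgroup.eq_of_le_of_card_ge hNE ?_
    rw [hE2, hn]
    refine Nat.pow_le_pow_right hpr.pos ?_
    by_contra! hlt
    have h1 : Nat.card N ≤ p := by
      rw [hn]
      calc p ^ n ≤ p ^ 1 := Nat.pow_le_pow_right hpr.pos (by omega)
        _ = p := pow_one p
    exact heZ0 ((Subgroup.eq_of_le_of_card_ge hN (by rw [hZ0card]; exact h1)).ge heN)
  -- `W` meets `C(E)` in at most `Z0`, and `w ↦ ⁅w, e⁆` embeds `W / Z0` in `Z0`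
  have hker : ∀ w ∈ W, w * e = e * w → w ∈ Z0 := by
    intro w hw hwe
    have hwC : ∀ x ∈ E, x * w = w * x := by
      have : E ≤ Subgroup.centralizer ({w} : Set R) := by
        have h := hEgen (E ⊓ Subgroup.centralizer ({w} : Set R)) (le_inf hZ0E fun z hz =>
          Subgroup.mem_centralizer_singleton_iff.2 (Subgroup.mem_center_iff.1 hz.1 w).symm)
          ⟨heE, Subgroup.mem_centralizer_singleton_iff.2 hwe.symm⟩ inf_le_left
        exact h.ge.trans inf_le_right
      exact fun x hx => Subgroup.mem_centralizer_singleton_iff.1 (this hx)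
    have hwE : w ∈ E := hmaxE w hw.2 hwC
    by_contra hw0
    refine hEW ?_
    obtain ⟨n, hn⟩ := PGroup.exists_card_eq_pow hR (E ⊓ W)
    have hZ0W : Z0 ≤ E ⊓ W := le_inf hZ0E fun z hz => ⟨by
      rw [hZ₂, Subgroup.mem_upperCentralSeries_succ_iff]
      intro g
      rw [Subgroup.upperCentralSeries_one, ← hZ,
        (commutatorElement_eq_one_iff_mul_comm).2 (Subgroup.mem_center_iff.1 hz.1 g).symm]
      exact one_mem _, hz.2⟩
    have : E ⊓ W = E := by
      refine Subgroup.eq_of_le_of_card_ge inf_le_left ?_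
      rw [hE2, hn]
      refine Nat.pow_le_pow_right hpr.pos ?_
      by_contra! hlt
      have h1 : Nat.card (E ⊓ W : Subgroup R) ≤ p := by
        rw [hn]
        calc p ^ n ≤ p ^ 1 := Nat.pow_le_pow_right hpr.pos (by omega)
          _ = p := pow_one p
      exact hw0 ((Subgroup.eq_of_le_of_card_ge hZ0W (by rw [hZ0card]; exact h1)).ge ⟨hwE, hw⟩)
    exact this.ge.trans inf_le_right
  have hWcard : Nat.card W = p ^ 2 := by
    refine le_antisymm ?_ hWbig
    let φ : W →* Z0 :=
      { toFun := fun w => ⟨⁅(w : R), e⁆, hWcomm w w.2 e⟩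
        map_one' := Subtype.ext (by simp)
        map_mul' := fun a b => Subtype.ext (by
          show ⁅(a : R) * b, e⁆ = ⁅(a : R), e⁆ * ⁅(b : R), e⁆
          rw [PGroup.commutatorElement_mul_left_of_mem_center (hcen b b.2.1 e)]) }
    have hk : φ.ker ≤ Z0.subgroupOf W := by
      intro w hw
      exact hker w w.2 ((commutatorElement_eq_one_iff_mul_comm).1 (congrArg Subtype.val hw))
    calc Nat.card W = Nat.card φ.ker * φ.ker.index := (Subgroup.card_mul_index _).symm
      _ ≤ Nat.card (Z0.subgroupOf W) * Nat.card Z0 := by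
          refine Nat.mul_le_mul (Subgroup.card_le_of_le hk) ?_
          rw [Subgroup.index_ker]
          exact Subgroup.card_le_card_group _
      _ ≤ p * p := by
          rw [hZ0card]
          refine Nat.mul_le_mul_right _ ?_
          rw [← hZ0card]
          exact Nat.card_le_card_of_injective (fun z : Z0.subgroupOf W => (⟨(z : W), z.2⟩ : Z0))
            fun a b h => Subtype.ext (Subtype.ext (congrArg Subtype.val h :))
      _ = p ^ 2 := (pow_two p).symm
  have hWE : IsElementaryAbelian p W := by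
    refine ⟨?_, fun w hw => hw.2⟩
    obtain ⟨e'⟩ : Nonempty (Nat.card W = p ^ 2) := ⟨hWcard⟩
    exact ⟨⟨IsPGroup.commutative_of_card_eq_prime_sq e'⟩⟩
  set T := Subgroup.centralizer (W : Set R) with hT
  haveI hWchar : W.Characteristic := by
    rw [Subgroup.characteristic_iff_map_le]
    rintro φ _ ⟨x, hx, rfl⟩
    refine ⟨?_, ?_⟩
    · have hch : Z₂.Characteristic := inferInstance
      exact Subgroup.characteristic_iff_map_le.1 hch φ (Subgroup.mem_map_of_mem _ hx.1)
    · show φ x ^ p = 1
      rw [← map_pow, hx.2, map_one]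
  have hET : ¬ E ≤ T := by
    intro h
    have hsub : W ≤ Z0 := fun w hw =>
      hker w hw (Subgroup.mem_centralizer_iff.1 (h heE) w hw)
    have := Subgroup.card_le_of_le hsub
    rw [hWcard, hZ0card] at this
    exact absurd this (not_le.2 (by
      calc p = p * 1 := (mul_one p).symm
        _ < p * p := Nat.mul_lt_mul_of_pos_left hpr.one_lt hpr.pos
        _ = p ^ 2 := (pow_two p).symm))
  refine ⟨hET, hZ0card, ⟨hWE, hWcard⟩, inferInstance, ?_⟩
  have hi := OddLocal44.index_centralizer_le_of_card_le hR W hWcard.le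
  obtain ⟨n, hn⟩ := hR.index T
  rw [hn] at hi
  have hn1 : n = 1 := by
    rcases n with _ | _ | n
    · exact absurd ((Subgroup.index_eq_one.1 (hn.trans (pow_zero p))).ge.trans' le_top) hET
    · rfl
    · exfalso
      have hlt : p < p ^ (n + 2) := lt_self_pow₀ hpr.one_lt (by omega)
      exact absurd hi (not_le.2 hlt)
  rw [hn, hn1, pow_one]

end Cfsg.Agent.S1453
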