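import Cfsg.Statements.S3769
import Cfsg.Agent.OddLocal43.OddFixedPointFree
import Cfsg.Agent.OddLocal43.FrobeniusAction
import Cfsg.Agent.Lib.Coprime.Action

set_option autoImplicit false
open Cfsg
open scoped commutatorElement

namespace Cfsg.Agent.S3769

/-- Let G and V be subgroups of a finite group with G solvable of odd order normalizing V, V an elementary abelian ℓ-group for a prime ℓ not dividing the order of G, and suppose G has a normal Hall subgroup K with a complement R of prime order. If C_V(R) = 1, then [R, K] centralizes V. -/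
theorem result {X : Type*} [Group X] [Finite X] (G : Subgroup X) (hsolv : Group.IsSolvable G) (hodd : Odd (Nat.card G)) (V : Subgroup X) {ℓ : ℕ} (hℓ : ℓ.Prime) (hV : Cfsg.IsElementaryAbelian ℓ V) (hℓG : ¬ ℓ ∣ Nat.card G) (hGV : G ≤ Subgroup.normalizer (V : Set X)) (K R : Subgroup X) (hKG : K ≤ G) (hKn : G ≤ Subgroup.normalizer (K : Set X)) (hHall : (Nat.card K).Coprime (K.relIndex G)) (hRG : R ≤ G) (hR : (Nat.card R).Prime) (hKR : K ⊓ R = ⊥) (hKRG : K ⊔ R = G) (hCV : V ⊓ Subgroup.centralizer (R : Set X) = ⊥) : ⁅R, K⁆ ≤ Subgroup.centralizer (V : Set X) := by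
  haveI := Fact.mk hℓ
  set r := Nat.card R with hrdef
  have hRK : R ≤ Subgroup.normalizer (K : Set X) := hRG.trans hKn
  have hKV : K ≤ Subgroup.normalizer (V : Set X) := hKG.trans hGV
  have hrel : K.relIndex G = r := by
    have h := OddLocal43.isComplement'_subgroupOf_sup hRK hKR
    rw [hKRG] at h
    rw [Subgroup.relIndex, h.symm.index_eq_card, Nat.card_congr (Subgroup.subgroupOfEquivOfLe hRG).toEquiv]
  rw [hrel] at hHall
  have hcopRK : (Nat.card R).Coprime (Nat.card K) := hHall.symm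
  have hRgen : ∀ x : X, x ∈ R → x ≠ 1 → Subgroup.zpowers x = R := fun x hx hx1 => by
    refine Subgroup.eq_of_le_of_card_ge (Subgroup.zpowers_le.mpr hx) ?_
    rw [Nat.card_zpowers]
    haveI := Fact.mk hR
    have : orderOf x = r := orderOf_eq_prime
      (by rw [hrdef]; exact congrArg Subtype.val (pow_card_eq_one' (x := (⟨x, hx⟩ : R)))) hx1
    rw [this]
  set C := Subgroup.centralizer (V : Set X) with hC
  have hKC : K ≤ Subgroup.normalizer (C : Set X) := Coprime.le_normalizer_centralizer hKV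
  let S : Subgroup X :=
    { carrier := {k | k ∈ K ∧ ∀ x ∈ R, ⁅x, k⁆ ∈ C}
      one_mem' := ⟨one_mem _, fun x _ => by rw [commutatorElement_one_right]; exact one_mem _⟩
      mul_mem' := fun {a b} ha hb => ⟨mul_mem ha.1 hb.1, fun x hx => by
        rw [show ⁅x, a * b⁆ = ⁅x, a⁆ * (a * ⁅x, b⁆ * a⁻¹) by simp only [commutatorElement_def]; group]
        exact mul_mem (ha.2 x hx) ((Subgroup.mem_normalizer_iff.mp (hKC ha.1) _).mp (hb.2 x hx))⟩
      inv_mem' := fun {a} ha => ⟨inv_mem ha.1, fun x hx => by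
        rw [show ⁅x, a⁻¹⁆ = a⁻¹ * ⁅x, a⁆⁻¹ * a by simp only [commutatorElement_def]; group]
        have := (Subgroup.mem_normalizer_iff.mp (hKC (inv_mem ha.1)) _).mp (inv_mem (ha.2 x hx))
        rwa [inv_inv] at this⟩ }
  have hSK : S ≤ K := fun k hk => hk.1
  suffices hKS : K ≤ S from Subgroup.commutator_le.mpr fun x hx k hk => (hKS hk).2 x hx
  -- each invariant Sylow subgroup lies in `S`
  have hsyl : ∀ q : ℕ, q.Prime → q ∣ Nat.card K → ∃ P : Sylow q K, (P : Subgroup K).map K.subtype ≤ S := by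
    intro q hqp hdvd
    haveI := Fact.mk hqp
    obtain ⟨P, hP⟩ := Coprime.exists_invariant_sylow R K hRK hcopRK
      (Or.inr (Coprime.solvable_of_le hKG hsolv)) q
    refine ⟨P, ?_⟩
    set Q := (P : Subgroup K).map K.subtype with hQdef
    have hQK : Q ≤ K := Subgroup.map_subtype_le _
    have hqG : q ∣ Nat.card G := hdvd.trans (Subgroup.card_dvd_of_le hKG)
    have hq2 : q ≠ 2 := by
      rintro rfl
      exact Nat.not_even_iff_odd.mpr hodd (even_iff_two_dvd.mpr hqG)
    have hℓq : ℓ ≠ q := fun h => hℓG (h ▸ hqG)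
    have hℓr : ℓ ≠ r := fun h => hℓG (h ▸ Subgroup.card_dvd_of_le hRG)
    have hqr : q ≠ r := fun h => by
      subst h
      exact hR.ne_one (Nat.eq_one_of_dvd_coprimes hHall hdvd dvd_rfl)
    intro k hk
    refine ⟨hQK hk, fun x hx => ?_⟩
    by_cases hx1 : x = 1
    · rw [hx1, commutatorElement_one_left]; exact one_mem _
    have hxV : x ∈ Subgroup.normalizer (V : Set X) := hGV (hRG hx)
    let φ : ↥Q →* MulAut V := (Subgroup.normalizerMonoidHom V).comp (Subgroup.inclusion (hQK.trans hKV))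
    let τ : MulAut V := Subgroup.normalizerMonoidHom V ⟨x, hxV⟩
    have hφv : ∀ (u : Q) (v : V), ((φ u v : V) : X) = (u : X) * v * (u : X)⁻¹ := fun u v => by simp [φ]
    have hτv : ∀ v : V, ((τ v : V) : X) = x * v * x⁻¹ := fun v => by simp [τ]
    have hcomm := OddLocal43.autCommute_of_fixedPointFree_odd (ℓ := ℓ) (q := q) hR hℓq hℓr hqr hq2
      (fun a b => hV.1.is_comm.comm a b) (fun v => Subtype.ext (hV.2 v v.2))
      (P.isPGroup'.map K.subtype) φ τ
      (by
        show Subgroup.normalizerMonoidHom V _ ^ r = 1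
        rw [← map_pow, show (⟨x, hxV⟩ : Subgroup.normalizer (V : Set X)) ^ r = 1 from Subtype.ext
          (show x ^ Nat.card R = 1 from congrArg Subtype.val (pow_card_eq_one' (x := (⟨x, hx⟩ : R)))),
          map_one])
      (fun v hv => by
        have h1 : (v : X) ∈ V ⊓ Subgroup.centralizer (R : Set X) := by
          refine ⟨v.2, ?_⟩
          rw [← hRgen x hx hx1, Subgroup.zpowers_eq_closure, Subgroup.centralizer_closure]
          refine Subgroup.mem_centralizer_singleton_iff.mpr ?_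
          have h := congrArg Subtype.val hv
          rw [hτv] at h
          exact (mul_inv_eq_iff_eq_mul.mp h).symm
        rw [hCV] at h1
        exact Subtype.ext (Subgroup.mem_bot.mp h1))
      (fun u => by
        refine ⟨⟨x * u * x⁻¹, (Subgroup.mem_normalizer_iff.mp (hP hx) u).mp u.2⟩, MulEquiv.ext fun v => Subtype.ext ?_⟩
        obtain ⟨w, rfl⟩ := τ.surjective v
        rw [MulAut.mul_apply, MulAut.mul_apply, MulAut.inv_def, MulEquiv.symm_apply_apply, hφv, hτv, hτv, hφv]
        group) ⟨k, hk⟩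
    rw [hC, Subgroup.mem_centralizer_iff]
    intro v hv
    obtain ⟨w, hw⟩ := (φ ⟨k, hk⟩).surjective (τ⁻¹ ⟨v, hv⟩)
    have h1 := congrArg Subtype.val (DFunLike.congr_fun hcomm w)
    rw [MulAut.mul_apply, MulAut.mul_apply, hw] at h1
    have hvv : τ (τ⁻¹ (⟨v, hv⟩ : V)) = ⟨v, hv⟩ := τ.apply_symm_apply _
    rw [hvv, hφv, hτv] at h1
    have h2 := congrArg (fun t : V => (t : X)) hw
    simp only [hφv] at h2
    have h3 : x * ((τ⁻¹ (⟨v, hv⟩ : V) : V) : X) * x⁻¹ = v := by rw [← hτv, hvv]
    simp only at h1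
    rw [← h2] at h3
    refine (eq_mul_inv_iff_mul_eq.mp ?_)
    rw [commutatorElement_def]
    calc v = x * k * x⁻¹ * k⁻¹ * (k * (x * (w : X) * x⁻¹) * k⁻¹) * (x * k * x⁻¹ * k⁻¹)⁻¹ := by
          rw [← h3]; group
      _ = _ := by rw [← h1]
  have hdvd : Nat.card K ∣ Nat.card S := by
    rw [Nat.dvd_iff_prime_pow_dvd_dvd]
    intro q j hqp hj
    rcases Nat.eq_zero_or_pos j with rfl | hj0
    · simp
    obtain ⟨P, hP⟩ := hsyl q hqp ((dvd_pow_self q hj0.ne').trans hj)
    haveI := Fact.mk hqp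
    refine dvd_trans ?_ (Subgroup.card_dvd_of_le hP)
    rw [Nat.card_congr ((P : Subgroup K).equivMapOfInjective _ K.subtype_injective).symm.toEquiv,
      P.card_eq_multiplicity]
    exact pow_dvd_pow q ((hqp.pow_dvd_iff_le_factorization Nat.card_pos.ne').mp hj)
  exact (Subgroup.eq_of_le_of_card_ge hSK (Nat.le_of_dvd Nat.card_pos hdvd)).ge

end Cfsg.Agent.S3769
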