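import Cfsg.Statements.S1517
import Cfsg.Agent.Coherence.Subcoherent

set_option autoImplicit false
open Cfsg

namespace Cfsg.Agent.S1517

/-- Let (S, τ, R) be a coherence system from L to G such that φ 1 = ψ 1 for all φ, ψ ∈ S. Then (S, L minus 1, τ) is coherent. -/
theorem result {L : Type*} [Group L] [Fintype L] {G : Type*} [Group G] [Fintype G] (S : Set (L → ℂ)) (τ : (L → ℂ) → (G → ℂ)) (R : (L → ℂ) → Finset (G → ℂ)) (hS : Cfsg.IsCoherenceSystem S τ R) (hdeg : ∀ φ ∈ S, ∀ ψ ∈ S, φ 1 = ψ 1) : Cfsg.IsCoherent S {1}ᶜ τ := by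
  classical
  obtain ⟨χ, hχ⟩ := hS.nonempty
  obtain ⟨n, hnpos, hn⟩ := Coherence.char_norm_pos (hS.isCharacter χ hχ) (Coherence.sys_ne_zero hS hχ)
  have hconj : conjFun χ ∈ S := hS.conj_mem χ hχ
  have key : ∃ P : G → ℂ, IsGeneralizedCharacter G P ∧ classInner P P = classInner χ χ ∧
      ∀ ψ ∈ S, ψ ≠ χ → classInner (τ (χ - ψ)) P = classInner χ χ := by
    by_cases hex : ∃ φ ∈ S, φ ≠ χ ∧ φ ≠ conjFun χ
    · obtain ⟨φ, hφ, h1, h2⟩ := hex
      obtain ⟨hd, hPP, hPs⟩ := Coherence.pair_decomp hS hχ hφ h1 h2 (hdeg χ hχ φ hφ)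
      have hξ := hS.isometry.2.2.2 _ (Coherence.sys_sub_mem hS hχ hφ (hdeg χ hχ φ hφ))
      set P := Coherence.proj (R χ) (τ (χ - φ)) with hP
      set Q := Coherence.proj (R φ) (τ (χ - φ)) with hQ
      have hQP : classInner Q P = 0 :=
        Coherence.inner_proj_of_orth fun β hβ => by
          rw [hP, ← Coherence.inner_conj_symm, Coherence.inner_proj_of_orth
            (fun α hα => Coherence.sys_disjoint hS hφ hχ h1.symm (Coherence.pair_ne_symm h2) hα hβ),
            map_zero]
      refine ⟨P, Coherence.proj_gen (hS.virtual χ hχ) hξ, hPP, fun ψ hψ hne => ?_⟩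
      by_cases hc : ψ = conjFun χ
      · subst hc
        rw [hS.sum_eq χ hχ, ← Coherence.inner_conj_symm, hPs, Coherence.inner_conj_symm]
      by_cases hψφ : ψ = φ
      · subst hψφ
        rw [hd, Coherence.inner_add_left, hPP, hQP, add_zero]
      by_cases hψφ' : ψ = conjFun φ
      · subst hψφ'
        have hm1 := Coherence.sys_sub_mem hS hχ hφ (hdeg χ hχ φ hφ)
        have hm2 := Coherence.sys_sub_conj_mem hS hφ
        have e : χ - conjFun φ = (χ - φ) + (φ - conjFun φ) := by abel
        rw [e, hS.isometry.1 _ hm1 _ hm2, Coherence.inner_add_left, hd, Coherence.inner_add_left,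
          hPP, hQP, hS.sum_eq φ hφ]
        have : classInner (∑ α ∈ R φ, α) P = 0 := by
          rw [Coherence.inner_sum_left]
          exact Finset.sum_eq_zero fun α hα => by
            rw [hP, ← Coherence.inner_conj_symm, Coherence.inner_proj_of_orth
              (fun β hβ => Coherence.sys_disjoint hS hφ hχ h1.symm (Coherence.pair_ne_symm h2) hβ hα),
              map_zero]
        rw [this]; ring
      obtain ⟨hd', hPP', -⟩ := Coherence.pair_decomp hS hχ hψ hne hc (hdeg χ hχ ψ hψ)
      set P' := Coherence.proj (R χ) (τ (χ - ψ)) with hP'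
      set Q' := Coherence.proj (R ψ) (τ (χ - ψ)) with hQ'
      have z1 : classInner Q' P = 0 :=
        Coherence.inner_proj_of_orth fun β hβ => by
          rw [hP, ← Coherence.inner_conj_symm, Coherence.inner_proj_of_orth
            (fun α hα => Coherence.sys_disjoint hS hψ hχ (Ne.symm hne) (Coherence.pair_ne_symm hc) hα hβ),
            map_zero]
      have z2 : classInner P' Q = 0 :=
        Coherence.inner_proj_of_orth fun α hα => by
          rw [hQ, ← Coherence.inner_conj_symm, Coherence.inner_proj_of_orth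
            (fun β hβ => Coherence.sys_disjoint hS hχ hφ h1 h2 hβ hα), map_zero]
      have z3 : classInner Q' Q = 0 :=
        Coherence.inner_proj_of_orth fun β hβ => by
          rw [hQ, ← Coherence.inner_conj_symm, Coherence.inner_proj_of_orth
            (fun α hα => Coherence.sys_disjoint hS hψ hφ (Ne.symm hψφ)
              (Coherence.pair_ne_symm hψφ') hα hβ), map_zero]
      have hiso := hS.isometry.2.2.1 _ (Coherence.sys_sub_mem hS hχ hψ (hdeg χ hχ ψ hψ))
        _ (Coherence.sys_sub_mem hS hχ hφ (hdeg χ hχ φ hφ))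
      rw [hd', hd] at hiso
      simp only [Coherence.inner_add_left, Coherence.inner_add_right, Coherence.inner_sub_left,
        Coherence.inner_sub_right, z1, z2, z3, hS.orthogonal χ hχ φ hφ (Ne.symm h1),
        hS.orthogonal ψ hψ χ hχ hne, hS.orthogonal ψ hψ φ hφ hψφ] at hiso
      rw [hd', Coherence.inner_add_left, z1, add_zero]
      simpa using hiso
    · push Not at hex
      have hR := Coherence.sys_orthonormal hS hχ
      have hcard : ((R χ).card : ℂ) = 2 * (n : ℂ) := by
        have h := hS.isometry.2.2.1 _ (Coherence.sys_sub_conj_mem hS hχ) _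
          (Coherence.sys_sub_conj_mem hS hχ)
        obtain ⟨m, -, hm⟩ :=
          Coherence.char_norm_pos (hS.isCharacter _ hconj) (Coherence.sys_ne_zero hS hconj)
        have hnm : classInner (conjFun χ) (conjFun χ) = classInner χ χ := by
          simp [classInner, conjFun, mul_comm]
        have o1 := Coherence.sys_orth_conj hS hχ
        have o2 := hS.orthogonal _ hconj χ hχ (hS.conj_ne χ hχ)
        simp only [hS.sum_eq χ hχ, Coherence.inner_sub_left, Coherence.inner_sub_right, o1, o2,
          hnm, hn] at h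
        rw [Coherence.inner_sum_sum hR (subset_refl _) (subset_refl _)] at h
        rw [h]; ring
      have hcard' : (R χ).card = 2 * n := by exact_mod_cast hcard
      obtain ⟨A, hA, hAc⟩ := Finset.exists_subset_card_eq (by omega : n ≤ (R χ).card)
      have hsum : classInner (∑ α ∈ A, α) (∑ α ∈ R χ, α) = classInner χ χ := by
        rw [Coherence.inner_sum_sum hR hA (subset_refl _), hAc, hn]
      refine ⟨∑ α ∈ A, α, Coherence.gen_sum _ _ fun α hα => hS.virtual χ hχ α (hA hα), ?_, ?_⟩
      · rw [Coherence.inner_sum_sum hR (subset_refl _) hA, hAc, hn]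
      · intro ψ hψ hne
        rw [hex ψ hψ hne, hS.sum_eq χ hχ, ← Coherence.inner_conj_symm, hsum,
          Coherence.inner_conj_symm]
  obtain ⟨P, hPgen, hPP, hPψ⟩ := key
  set s := (Coherence.sys_finite hS).toFinset
  have hs : (↑s : Set (L → ℂ)) = S := (Coherence.sys_finite hS).coe_toFinset
  have hms : ∀ φ, φ ∈ s ↔ φ ∈ S := fun φ => (Coherence.sys_finite hS).mem_toFinset
  have hχ0 := Coherence.sys_ne_zero hS hχ
  rw [← hs]
  refine Coherence.coherent_extend (S₀ := {χ}) (by simp [hms, hχ])
    (fun φ h => Coherence.sys_ne_zero hS ((hms φ).1 h))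
    (fun φ h ψ h' => hS.orthogonal φ ((hms φ).1 h) ψ ((hms ψ).1 h')) (by rw [hs]; exact hS.isometry)
    (τ₁ := Coherence.orthExt {χ} (fun _ => P))
    (Coherence.orthExt_isometry {χ} (fun _ => P) (by simp [hχ0])
      (fun φ h ψ h' hne => absurd (by rw [Finset.mem_singleton.1 h, Finset.mem_singleton.1 h']) hne)
      (fun φ h ψ h' => by rw [Finset.mem_singleton.1 h, Finset.mem_singleton.1 h', hPP])
      (fun c => Coherence.gen_sum _ _ fun φ _ => Coherence.gen_zsmul hPgen _))
    ?_ (Finset.mem_singleton_self χ) ?_ ?_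
  · intro α hα
    obtain ⟨hα', hα1⟩ := Coherence.mem_zspanOn_one.1 hα
    obtain ⟨c, rfl⟩ := Coherence.mem_zspan_finset.1 hα'
    simp only [Finset.sum_singleton] at hα1 ⊢
    have hc : c χ = 0 := by
      simpa [Coherence.char_one_ne_zero (hS.isCharacter χ hχ) hχ0] using hα1
    rw [hc, zero_smul, Coherence.orthExt_zero,
      Coherence.iso_map_zero hS.isometry (Coherence.zspanOn_zero S _)]
  · intro φ hφ hne
    have hne' : φ ≠ χ := fun e => hne (by simp [e])
    refine ⟨1, by simp [hdeg χ hχ φ ((hms φ).1 hφ)], fun ψ hψ => ?_⟩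
    rw [Finset.mem_singleton.1 hψ, one_smul, Coherence.orthExt_apply _ (by simp [hχ0])
      (fun a h b h' hne => absurd (by rw [Finset.mem_singleton.1 h, Finset.mem_singleton.1 h']) hne)
      (Finset.mem_singleton_self χ), hPψ φ ((hms φ).1 hφ) hne', Coherence.inner_sub_left,
      hS.orthogonal φ ((hms φ).1 hφ) χ hχ hne', sub_zero]
  · refine ⟨χ - conjFun χ, ?_, sub_ne_zero.2 (hS.conj_ne χ hχ).symm⟩
    rw [hs]; exact Coherence.sys_sub_conj_mem hS hχ


end Cfsg.Agent.S1517
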