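import Cfsg.Statements.S1519
import Cfsg.Agent.Coherence.Grow

set_option autoImplicit false
open Cfsg

namespace Cfsg.Agent.S1519

/-- Let K be a solvable normal subgroup of the finite group L and (S, τ, R) a coherence system from L to G where S is the set of functions induced from non-principal irreducible characters of K; write S(A) for those induced from characters whose kernel contains A. Let A, B, C, D be normal subgroups of L with A < K, B < K, B ≤ D ≤ C ≤ K and every commutator of D with C in B. If S(A) is coherent and 4 * [L:C]^2 * [C:D] < ([K:A] − 1)^2, then S(B) is coherent. -/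
theorem result {L : Type*} [Group L] [Fintype L] {G : Type*} [Group G] [Fintype G] (K : Subgroup L) [hK : K.Normal] (hsolv : Group.IsSolvable K) (τ : (L → ℂ) → (G → ℂ)) (R : (L → ℂ) → Finset (G → ℂ)) (hS : Cfsg.IsCoherenceSystem (Cfsg.inducedIrrAbove K ⊥) τ R) (A B C D : Subgroup L) [A.Normal] [B.Normal] [C.Normal] [D.Normal] (hAK : A < K) (hBK : B < K) (hBD : B ≤ D) (hDC : D ≤ C) (hCK : C ≤ K) (hcent : ∀ x ∈ D, ∀ y ∈ C, x * y * x⁻¹ * y⁻¹ ∈ B) (hA : Cfsg.IsCoherent (Cfsg.inducedIrrAbove K A) {1}ᶜ τ) (hlt : 4 * C.index ^ 2 * D.relIndex C < (A.relIndex K - 1) ^ 2) : Cfsg.IsCoherent (Cfsg.inducedIrrAbove K B) {1}ᶜ τ := by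
  classical
  obtain ⟨θ₁, hθ₁, hθ₁1⟩ := Coherence.exists_linear K hsolv A (fun h => hAK.not_ge h)
  set χ₁ := indFun K (θ₁ : K → ℂ) with hχ₁
  have hSA : ∀ C' : Subgroup L, (↑(Coherence.seqFinset K C') : Set (L → ℂ)) ⊆
      inducedIrrAbove K ⊥ := fun C' => by
    rw [Coherence.coe_seqFinset]; exact Coherence.seq_subset_bot K C'
  have hcl : ∀ C' : Subgroup L, ∀ φ ∈ Coherence.seqFinset K C',
      conjFun φ ∈ Coherence.seqFinset K C' := fun C' φ h => by
    rw [← Finset.mem_coe, Coherence.coe_seqFinset] at h ⊢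
    exact Coherence.seq_conj K h
  set U := Coherence.seqFinset K A ∪ Coherence.seqFinset K B with hU
  have hUS : (↑U : Set (L → ℂ)) ⊆ inducedIrrAbove K ⊥ := by
    rw [hU, Finset.coe_union]; exact Set.union_subset (hSA A) (hSA B)
  have hUc : ∀ φ ∈ U, conjFun φ ∈ U := fun φ h => by
    rcases Finset.mem_union.1 h with h | h
    · exact Finset.mem_union_left _ (hcl A φ h)
    · exact Finset.mem_union_right _ (hcl B φ h)
  have hcohU : IsCoherent (↑U : Set (L → ℂ)) {1}ᶜ τ := by
    refine Coherence.coherent_grow hS hUS hUc Finset.subset_union_left (hcl A)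
      (by rw [Coherence.coe_seqFinset]; exact hA) ?_
    intro T h0T hTU _ hne
    obtain ⟨χ, hχU, hχT⟩ : ∃ χ ∈ U, χ ∉ T := by
      by_contra hall
      push Not at hall
      exact hne (subset_antisymm hTU hall)
    have hχB : χ ∈ Coherence.seqFinset K B :=
      (Finset.mem_union.1 hχU).resolve_left fun h => hχT (h0T h)
    obtain ⟨θ, hθ, rfl⟩ := (Coherence.mem_seqFinset K).1 hχB
    obtain ⟨t, ht, -⟩ := Coherence.char_one_nat (Coherence.irr_isCharacter θ.2)
    refine ⟨_, hχU, hχT, χ₁, h0T ((Coherence.mem_seqFinset K).2 ⟨θ₁, hθ₁, rfl⟩), t, ?_, ?_⟩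
    · rw [hχ₁, CharInd.indFun_apply_one, CharInd.indFun_apply_one, ht, hθ₁1]; ring
    · haveI := Fintype.ofFinite K
      have hb := Coherence.degree_bound θ.2 (B.subgroupOf K) (D.subgroupOf K) (C.subgroupOf K)
        (fun x hx => hDC hx) (fun x hx y hy => hcent x hx y hy)
        (fun b hb => ((Coherence.mem_irrNP K).1 hθ).2 b hb)
      rw [ht, Complex.natCast_re,
        Nat.card_congr (Subgroup.subgroupOfEquivOfLe hCK).toEquiv,
        Nat.card_congr (Subgroup.subgroupOfEquivOfLe (hDC.trans hCK)).toEquiv] at hb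
      have hw : (K.index : ℝ) * ((A.relIndex K : ℝ) - 1) ≤ Coherence.weight T := by
        refine le_trans (le_of_eq ?_) (Coherence.weight_mono h0T)
        rw [Coherence.weight, Coherence.sum_seq, Coherence.sum_irrNP]
      refine lt_of_lt_of_le ?_ hw
      rw [hχ₁, Coherence.ind_one_re, Coherence.ind_one_re, ht, hθ₁1, Complex.natCast_re,
        Complex.one_re]
      set e := (K.index : ℝ) with he
      have hepos : 0 < e := Nat.cast_pos.2 (Nat.pos_of_ne_zero Subgroup.index_ne_zero_of_finite)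
      have h1 : e * Nat.card K = (Nat.card L : ℝ) := by
        rw [he]; exact_mod_cast K.index_mul_card
      have h2 : (C.index : ℝ) * Nat.card C = (Nat.card L : ℝ) := by exact_mod_cast C.index_mul_card
      have h3 : (D.relIndex C : ℝ) * Nat.card D = (Nat.card C : ℝ) := by
        have := (D.subgroupOf C).index_mul_card
        rw [Nat.card_congr (Subgroup.subgroupOfEquivOfLe hDC).toEquiv] at this
        exact_mod_cast this
      have ha1 : 1 ≤ A.relIndex K := Nat.one_le_iff_ne_zero.2 Subgroup.index_ne_zero_of_finite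
      have h4 : 4 * (C.index : ℝ) ^ 2 * (D.relIndex C : ℝ) < ((A.relIndex K : ℝ) - 1) ^ 2 := by
        have : ((4 * C.index ^ 2 * D.relIndex C : ℕ) : ℝ) < (((A.relIndex K - 1) ^ 2 : ℕ) : ℝ) :=
          Nat.cast_lt.2 hlt
        push_cast [Nat.cast_sub ha1] at this
        exact this
      have hCD : 0 < (Nat.card C : ℝ) * Nat.card D :=
        mul_pos (Nat.cast_pos.2 Nat.card_pos) (Nat.cast_pos.2 Nat.card_pos)
      have h5 : (2 * e * t) ^ 2 ≤ 4 * (C.index : ℝ) ^ 2 * (D.relIndex C : ℝ) := by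
        refine le_of_mul_le_mul_right ?_ hCD
        calc (2 * e * t) ^ 2 * ((Nat.card C : ℝ) * Nat.card D)
            = 4 * e ^ 2 * ((t : ℝ) ^ 2 * Nat.card C * Nat.card D) := by ring
          _ ≤ 4 * e ^ 2 * (Nat.card K : ℝ) ^ 2 := by gcongr
          _ = 4 * ((C.index : ℝ) * Nat.card C) ^ 2 := by rw [h2, ← h1]; ring
          _ = 4 * (C.index : ℝ) ^ 2 * Nat.card C * ((D.relIndex C : ℝ) * Nat.card D) := by
              rw [h3]; ring
          _ = _ := by ring
      have h6 : 2 * e * t < (A.relIndex K : ℝ) - 1 := by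
        refine lt_of_pow_lt_pow_left₀ 2 ?_ (lt_of_le_of_lt h5 h4)
        have : (1 : ℝ) ≤ (A.relIndex K : ℝ) := by exact_mod_cast ha1
        linarith
      calc 2 * (e * t) * (e * 1) = e * (2 * e * t) := by ring
        _ < e * ((A.relIndex K : ℝ) - 1) := mul_lt_mul_of_pos_left h6 hepos
  have hsub : inducedIrrAbove K B ⊆ (↑U : Set (L → ℂ)) := by
    rw [← Coherence.coe_seqFinset, hU, Finset.coe_union]; exact Set.subset_union_right
  obtain ⟨θ₂, hθ₂, -⟩ := Coherence.exists_linear K hsolv B (fun h => hBK.not_ge h)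
  exact Coherence.sys_coherent_subset hS hUS hsub
    ⟨_, (Coherence.mem_seq_iff K).2 ⟨θ₂, hθ₂, rfl⟩⟩ (fun χ h => Coherence.seq_conj K h) hcohU


end Cfsg.Agent.S1519
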