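import Cfsg.Statements.S1520
import Cfsg.Agent.S1519

set_option autoImplicit false
open Cfsg

namespace Cfsg.Agent.S1520

/-- Let K be a solvable normal subgroup of the finite group L and (S, τ, R) a coherence system from L to G with S the functions induced from non-principal irreducible characters of K; S(A) the members of S induced from characters whose kernel contains A. Let M ≤ H₁ ≤ H ≤ K be normal subgroups of L such that every term of the lower central series of H eventually lies in M (H/M nilpotent), S(H₁) is coherent and [H:H₁] > 4 * [L:K]^2 + 1. Then S(M) is coherent. -/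
theorem result {L : Type*} [Group L] [Fintype L] {G : Type*} [Group G] [Fintype G] (K : Subgroup L) [hK : K.Normal] (hsolv : Group.IsSolvable K) (τ : (L → ℂ) → (G → ℂ)) (R : (L → ℂ) → Finset (G → ℂ)) (hS : Cfsg.IsCoherenceSystem (Cfsg.inducedIrrAbove K ⊥) τ R) (M H₁ H : Subgroup L) [M.Normal] [H₁.Normal] [H.Normal] (hMH₁ : M ≤ H₁) (hH₁H : H₁ ≤ H) (hHK : H ≤ K) [(M.subgroupOf H).Normal] (hnil : Group.IsNilpotent (↥H ⧸ M.subgroupOf H)) (hcoh : Cfsg.IsCoherent (Cfsg.inducedIrrAbove K H₁) {1}ᶜ τ) (hbig : 4 * K.index ^ 2 + 1 < H₁.relIndex H) : Cfsg.IsCoherent (Cfsg.inducedIrrAbove K M) {1}ᶜ τ := by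
  classical
  set P : Subgroup L → Prop := fun A => A.Normal ∧ M ≤ A ∧ A ≤ H₁ ∧
    IsCoherent (inducedIrrAbove K A) {1}ᶜ τ with hP
  obtain ⟨A, hAP, hAmin⟩ := (Set.toFinite {A : Subgroup L | P A}).exists_minimal
    ⟨H₁, inferInstance, hMH₁, le_refl _, hcoh⟩
  obtain ⟨hAn, hMA, hAH₁, hAcoh⟩ := hAP
  by_cases hAM : A = M
  · rwa [← hAM]
  exfalso
  haveI := hAn
  obtain ⟨B, hBP, hBmax⟩ :=
    (Set.toFinite {B : Subgroup L | B.Normal ∧ M ≤ B ∧ B < A}).exists_maximal
      ⟨M, inferInstance, le_refl _, lt_of_le_of_ne hMA (Ne.symm hAM)⟩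
  obtain ⟨hBn, hMB, hBA⟩ := hBP
  haveI := hBn
  have hAH : A ≤ H := hAH₁.trans hH₁H
  have hH₁lt : H₁ ≠ H := fun e => by
    rw [e, Subgroup.relIndex_self] at hbig; omega
  have hAKlt : A < K := lt_of_le_of_lt hAH₁ (lt_of_lt_of_le (lt_of_le_of_ne hH₁H hH₁lt) hHK)
  have hcomm : ⁅A, H⁆ ≤ B := by
    by_contra hne
    have hle : ⁅A, H⁆ ≤ A := Subgroup.commutator_le_left A H
    have htop : ⁅A, H⁆ ⊔ B = A := by
      by_contra hne'
      have hlt : ⁅A, H⁆ ⊔ B < A := lt_of_le_of_ne (sup_le hle hBA.le) hne'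
      haveI : (⁅A, H⁆).Normal := Subgroup.commutator_normal A H
      exact hne (le_trans le_sup_left
        (hBmax ⟨Subgroup.sup_normal _ _, hMB.trans le_sup_right, hlt⟩ le_sup_right))
    obtain ⟨n, hn⟩ := (Subgroup.nilpotent_iff_lowerCentralSeries).1 hnil
    have hlcs : H.lowerCentralSeries n ≤ M := by
      intro x hx
      rw [← Subgroup.top_subtype_lowerCentralSeries] at hx
      obtain ⟨y, hy, rfl⟩ := hx
      have hq : QuotientGroup.mk' (M.subgroupOf H) y ∈
          ((⊤ : Subgroup H).lowerCentralSeries n).map (QuotientGroup.mk' (M.subgroupOf H)) :=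
        Subgroup.mem_map_of_mem _ hy
      rw [Subgroup.map_lowerCentralSeries,
        Subgroup.map_top_of_surjective _ (QuotientGroup.mk'_surjective _), hn,
        Subgroup.mem_bot] at hq
      exact (QuotientGroup.eq_one_iff y).1 hq
    set q := QuotientGroup.mk' B with hq
    have hfix : A.map q = ⁅A.map q, H.map q⁆ := by
      have hBbot : B.map q = ⊥ := by
        rw [Subgroup.map_eq_bot_iff, hq, QuotientGroup.ker_mk']
      conv_lhs => rw [← htop, Subgroup.map_sup, hBbot, sup_bot_eq, Subgroup.map_commutator]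
    have hind : ∀ m, A.map q ≤ (H.map q).lowerCentralSeries m := by
      intro m
      induction m with
      | zero => exact Subgroup.map_mono hAH
      | succ m ih =>
        rw [hfix, Subgroup.lowerCentralSeries_succ]
        exact Subgroup.commutator_mono ih le_rfl
    have hbot : A.map q = ⊥ := by
      refine le_bot_iff.1 ((hind n).trans (le_of_eq ?_))
      rw [← Subgroup.map_lowerCentralSeries, Subgroup.map_eq_bot_iff, hq, QuotientGroup.ker_mk']
      exact hlcs.trans hMB
    rw [Subgroup.map_eq_bot_iff, hq, QuotientGroup.ker_mk'] at hbot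
    exact hBA.not_ge hbot
  haveI : H.Normal := inferInstance
  have hlt : 4 * H.index ^ 2 * A.relIndex H < (A.relIndex K - 1) ^ 2 := by
    rw [← Subgroup.relIndex_mul_relIndex A H K hAH hHK, ← Subgroup.relIndex_mul_index hHK]
    set x := A.relIndex H with hx
    set k := H.relIndex K
    set e := K.index
    have hx1 : 4 * e ^ 2 + 2 ≤ x := by
      have h1 : H₁.relIndex H ∣ x := Dvd.intro_left _ (Subgroup.relIndex_mul_relIndex A H₁ H hAH₁ hH₁H)
      have h2 : x ≠ 0 := Subgroup.index_ne_zero_of_finite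
      have := Nat.le_of_dvd (Nat.pos_of_ne_zero h2) h1
      omega
    have hk : 0 < k := Nat.pos_of_ne_zero Subgroup.index_ne_zero_of_finite
    have hxk : 1 ≤ x * k := Nat.mul_pos (by omega) hk
    obtain ⟨m, hm⟩ : ∃ m, x * k = m + 1 := ⟨x * k - 1, by omega⟩
    rw [hm, Nat.add_sub_cancel]
    have h3 : (4 * e ^ 2 + 2) * (x * k * k) ≤ x * (x * k * k) := Nat.mul_le_mul_right _ hx1
    have h4 : (m + 1) * 1 ≤ (m + 1) * k := Nat.mul_le_mul_left _ hk
    nlinarith
  refine hBA.not_ge (hAmin ⟨hBn, hMB, hBA.le.trans hAH₁, ?_⟩ hBA.le)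
  exact S1519.result K hsolv τ R hS A B H A hAKlt (hBA.trans hAKlt) hBA.le hAH hHK
    (fun x hx y hy => hcomm (Subgroup.commutator_mem_commutator hx hy)) hAcoh hlt


end Cfsg.Agent.S1520
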