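import Cfsg.Statements.S1496
import Cfsg.Agent.OddChar.Coprime
open Cfsg.Agent.OddChar

set_option autoImplicit false
open Cfsg

namespace Cfsg.Agent.S1496

/-- Let H be a subgroup of the finite group G and g an element normalising H whose order is coprime to the order of H. Then for every h ∈ H there are x ∈ H and c ∈ H commuting with g such that x * (h * g) * x⁻¹ = c * g. -/
theorem result {G : Type*} [Group G] [Finite G] (H : Subgroup G) (g : G) (hg : g ∈ Subgroup.normalizer (H : Set G)) (hcop : Nat.Coprime (orderOf g) (Nat.card H)) (h : G) (hh : h ∈ H) : ∃ x ∈ H, ∃ c ∈ H, c * g = g * c ∧ x * (h * g) * x⁻¹ = c * g := by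
  classical
  have := Fintype.ofFinite G
  let C : Subgroup G := H ⊓ Subgroup.centralizer ({g} : Set G)
  have hC : ∀ {c : G}, c ∈ C ↔ c ∈ H ∧ c * g = g * c := by
    intro c
    simp [C, Subgroup.mem_centralizer_iff, eq_comm]
  have hn : ∀ y ∈ H, g * y * g⁻¹ ∈ H := fun y hy => ((Subgroup.mem_normalizer_iff.mp hg) y).mp hy
  let f : H × C → H := fun p => ⟨(p.1 : G)⁻¹ * (p.2 : G) * (g * p.1 * g⁻¹),
    H.mul_mem (H.mul_mem (H.inv_mem p.1.2) (hC.mp p.2.2).1) (hn _ p.1.2)⟩
  have hf : ∀ p : H × C, (f p : G) * g = (p.1 : G)⁻¹ * ((p.2 : G) * g) * p.1 := fun p => by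
    simp only [f]; group
  have hfib : ∀ p q : H × C, f p = f q → ((q.1 : G) * (p.1 : G)⁻¹) ∈ C := by
    intro p q hpq
    have h1 : (p.1 : G)⁻¹ * ((p.2 : G) * g) * p.1 = (q.1 : G)⁻¹ * ((q.2 : G) * g) * q.1 := by
      rw [← hf, ← hf, hpq]
    have hp := hC.mp p.2.2
    have hq := hC.mp q.2.2
    have h2 : ((q.1 : G) * (p.1 : G)⁻¹) * ((p.2 : G) * g) * ((q.1 : G) * (p.1 : G)⁻¹)⁻¹
        = (q.2 : G) * g := by
      have := congrArg (fun t => (q.1 : G) * t * (q.1 : G)⁻¹) h1
      simp only [mul_assoc, mul_inv_rev, inv_inv, mul_inv_cancel_left, mul_inv_cancel, mul_one]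
        at this ⊢
      exact this
    rw [hp.2, hq.2] at h2
    have h3 := conj_eq_of_coprime hcop hp.2.symm hq.2.symm (pow_orderOf_eq_one g)
      (pow_card_eq_one_of_mem H hp.1) (pow_orderOf_eq_one g) (pow_card_eq_one_of_mem H hq.1) h2
    exact hC.mpr ⟨H.mul_mem q.1.2 (H.inv_mem p.1.2), mul_inv_eq_iff_eq_mul.mp h3⟩
  have hle : (Finset.univ : Finset (H × C)).card ≤
      Fintype.card C * (Finset.univ.image f).card := by
    refine Finset.card_le_mul_card_image Finset.univ _ fun b _ => ?_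
    rcases (Finset.univ.filter fun a => f a = b).eq_empty_or_nonempty with he | ⟨p, hp⟩
    · simp [he]
    · rw [← Finset.card_univ]
      refine Finset.card_le_card_of_injOn
        (fun q => if hq : f p = f q then ⟨_, hfib p q hq⟩ else 1) (fun _ _ => Finset.mem_univ _) ?_
      intro q hq r hr hqr
      rw [Finset.mem_coe, Finset.mem_filter] at hq hr
      simp only [Finset.mem_filter] at hp
      have e1 : f p = f q := hp.2.trans hq.2.symm
      have e2 : f p = f r := hp.2.trans hr.2.symm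
      simp only [dif_pos e1, dif_pos e2, Subtype.mk.injEq, mul_left_inj] at hqr
      have h1 : q.1 = r.1 := Subtype.ext hqr
      have h2 : (f q : G) = f r := by rw [← e1, e2]
      simp only [f, h1, mul_left_inj, mul_right_inj] at h2
      exact Prod.ext h1 (Subtype.ext h2)
  simp only [Finset.card_univ, Fintype.card_prod] at hle
  have hsurj : Finset.univ.image f = Finset.univ := Finset.eq_univ_of_card _ (le_antisymm
    (Finset.card_le_univ _) (Nat.le_of_mul_le_mul_left (by rwa [Nat.mul_comm] at hle)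
      Fintype.card_pos))
  obtain ⟨p, -, hp⟩ := Finset.mem_image.mp (hsurj ▸ Finset.mem_univ (⟨h, hh⟩ : H))
  refine ⟨p.1, p.1.2, p.2, (hC.mp p.2.2).1, (hC.mp p.2.2).2, ?_⟩
  have := hf p
  rw [hp] at this
  rw [show (h : G) * g = _ from this]
  group

end Cfsg.Agent.S1496
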