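import Cfsg.Statements.S1512
import Cfsg.Agent.S1496
open Cfsg.Agent.OddChar

set_option autoImplicit false
open Cfsg

namespace Cfsg.Agent.S1512

/-- Let K be a normal subgroup of the finite group L and x a non-identity element whose order is coprime to the order of K, such that K ⊓ C_L(y) = W₂ for every non-identity element y of the cyclic group generated by x. Then the number of conjugacy classes of K mapped to themselves by conjugation by x is at most Nat.card W₂. -/
theorem result {L : Type*} [Group L] [Finite L] (K W₂ : Subgroup L) [hK : K.Normal] (x : L) (hx1 : x ≠ 1) (hx : Nat.Coprime (orderOf x) (Nat.card K)) (hC : ∀ y ∈ Subgroup.zpowers x, y ≠ 1 → K ⊓ Subgroup.centralizer ({y} : Set L) = W₂) : Nat.card {C : ConjClasses K // ConjClasses.map (MulEquiv.toMonoidHom ((MulAut.conjNormal x : MulAut K))) C = C} ≤ Nat.card W₂ := by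
  classical
  have : Fintype L := Fintype.ofFinite L
  have hW : K ⊓ Subgroup.centralizer ({x} : Set L) = W₂ := hC x (Subgroup.mem_zpowers x) hx1
  have hWK : W₂ ≤ K := hW ▸ inf_le_left
  have key : ∀ k : K, ConjClasses.map (MulEquiv.toMonoidHom ((MulAut.conjNormal x : MulAut K)))
      (ConjClasses.mk k) = ConjClasses.mk k →
      ∃ w : W₂, ConjClasses.mk (⟨(w : L), hWK w.2⟩ : K) = ConjClasses.mk k := by
    intro k hk
    obtain ⟨y, hy⟩ := isConj_iff.mp (ConjClasses.mk_eq_mk_iff_isConj.mp hk)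
    have hy' : (y : L) * (x * k * x⁻¹) * (y : L)⁻¹ = k := congrArg Subtype.val hy
    obtain ⟨z, hz, c, hc, hcx, he⟩ := Cfsg.Agent.S1496.result K x
      (Subgroup.mem_normalizer_iff.mpr fun n => ⟨fun hn => hK.conj_mem n hn x,
        fun hn => by simpa [mul_assoc] using hK.conj_mem _ hn x⁻¹⟩) hx (y : L) y.2
    have h1 : (c * x) * (z * k * z⁻¹) = (z * k * z⁻¹) * (c * x) := by
      calc (c * x) * (z * k * z⁻¹) = z * ((y * (x * k * x⁻¹) * (y : L)⁻¹) * (y * x)) * z⁻¹ := by
            rw [← he]; group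
        _ = (z * k * z⁻¹) * (c * x) := by rw [hy', ← he]; group
    obtain ⟨j, hj⟩ := exists_pow_kill_fix hx
    have h2 : (c * x) ^ j = x := by
      rw [hcx]; exact hj x c hcx.symm (pow_orderOf_eq_one x) (pow_card_eq_one_of_mem K hc)
    have h3 : z * k * z⁻¹ ∈ W₂ := by
      rw [← hW]
      refine ⟨K.mul_mem (K.mul_mem hz k.2) (K.inv_mem hz), ?_⟩
      refine Subgroup.mem_centralizer_singleton_iff.mpr ?_
      have := (show Commute (c * x) (z * k * z⁻¹) from h1).pow_left j
      rw [h2] at this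
      exact this.eq.symm
    refine ⟨⟨_, h3⟩, ConjClasses.mk_eq_mk_iff_isConj.mpr (isConj_iff.mpr ⟨⟨z, hz⟩⁻¹, ?_⟩)⟩
    ext
    simp [mul_assoc]
  have hk' : ∀ C : {C : ConjClasses K //
      ConjClasses.map (MulEquiv.toMonoidHom ((MulAut.conjNormal x : MulAut K))) C = C},
      ∃ w : W₂, ConjClasses.mk (⟨(w : L), hWK w.2⟩ : K) = C.1 := by
    rintro ⟨C, hCfix⟩
    obtain ⟨k, rfl⟩ := ConjClasses.mk_surjective C
    exact key k hCfix
  choose w hw using hk'
  exact Nat.card_le_card_of_injective w fun C D h =>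
    Subtype.ext ((hw C).symm.trans (h ▸ hw D))

end Cfsg.Agent.S1512
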