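import Cfsg.Statements.S1446
import Cfsg.Agent.OddLocal43.NilpotentAction

set_option autoImplicit false
open Cfsg

namespace Cfsg.Agent.S1446

/-- Let X be a finite group with subgroups K, R, M such that: K and R are nontrivial, K ∩ R = 1, R normalizes K, no non-identity element of R centralizes a non-identity element of K, K ⊔ R is solvable of odd order; M is nilpotent and nontrivial, normalized by K and by R, with order coprime to that of K ⊔ R, M ∩ C(K) = 1, and M ∩ C(x) = M ∩ C(R) for all non-identity x ∈ R. Then R has prime order p, #M = #(M ∩ C(R)) ^ p, and if M ∩ C(R) is cyclic then [K, K] centralizes M. -/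
theorem result {X : Type*} [Group X] [Finite X] (K R M : Subgroup X) (hK1 : K ≠ ⊥) (hR1 : R ≠ ⊥) (hKR : K ⊓ R = ⊥)
    (hRK : R ≤ Subgroup.normalizer (K : Set X)) (hfrob : ∀ r ∈ R, r ≠ 1 → K ⊓ Subgroup.centralizer ({r} : Set X) = ⊥)
    (hsolv : Group.IsSolvable ↥(K ⊔ R)) (hodd : Odd (Nat.card ↥(K ⊔ R)))
    (hM1 : M ≠ ⊥) (hMn : Group.IsNilpotent M) (hKM : K ≤ Subgroup.normalizer (M : Set X)) (hRM : R ≤ Subgroup.normalizer (M : Set X))
    (hcop : (Nat.card ↥(K ⊔ R)).Coprime (Nat.card M)) (hCK : M ⊓ Subgroup.centralizer (K : Set X) = ⊥)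
    (hpr : ∀ x ∈ R, x ≠ 1 → M ⊓ Subgroup.centralizer ({x} : Set X) = M ⊓ Subgroup.centralizer (R : Set X)) :
    (Nat.card R).Prime ∧ Nat.card M = Nat.card ↥(M ⊓ Subgroup.centralizer (R : Set X)) ^ Nat.card R ∧
      (IsCyclic ↥(M ⊓ Subgroup.centralizer (R : Set X)) → ⁅K, K⁆ ≤ Subgroup.centralizer (M : Set X)) := by
  obtain ⟨hcard, hcyc⟩ := OddLocal43.frobenius_nilpotent_action K R M hRK hKR hfrob hMn hcop hKM hRM hCK
  set C := M ⊓ Subgroup.centralizer (R : Set X) with hC
  have hC1 : 1 < Nat.card C := by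
    rw [Subgroup.one_lt_card_iff_ne_bot]
    intro h
    rw [h, Subgroup.card_bot, one_pow] at hcard
    exact hM1 (M.eq_bot_of_card_eq hcard)
  refine ⟨?_, hcard, fun h => hcyc h (OddLocal43.isNilpotent_of_frobenius K R hK1 hR1 hRK hKR hfrob)⟩
  obtain ⟨p, hp, hdvd⟩ := Nat.exists_prime_and_dvd (fun h : Nat.card R = 1 => hR1 (R.eq_bot_of_card_eq h))
  have := Fact.mk hp
  obtain ⟨x, hx⟩ := exists_prime_orderOf_dvd_card' (G := R) p hdvd
  have hle : Subgroup.zpowers (x : X) ≤ R := Subgroup.zpowers_le.mpr x.2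
  have hx1 : (x : X) ≠ 1 := fun h => by
    rw [Subtype.ext (h.trans R.coe_one.symm), orderOf_one] at hx
    exact hp.ne_one hx.symm
  obtain ⟨hcard', -⟩ := OddLocal43.frobenius_nilpotent_action K (Subgroup.zpowers (x : X)) M (hle.trans hRK)
    (le_bot_iff.mp ((inf_le_inf_left K hle).trans hKR.le)) (fun r hr hr1 => hfrob r (hle hr) hr1) hMn
    (hcop.coprime_dvd_left (Subgroup.card_dvd_of_le (sup_le_sup_left hle K))) hKM (hle.trans hRM) hCK
  rw [Subgroup.zpowers_eq_closure, Subgroup.centralizer_closure, hpr _ x.2 hx1,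
    ← Subgroup.zpowers_eq_closure, Nat.card_zpowers, Subgroup.orderOf_coe, hx] at hcard'
  rw [Nat.pow_right_injective hC1 (hcard.symm.trans hcard')]
  exact hp

end Cfsg.Agent.S1446
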