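import Cfsg.Statements.S1521
import Cfsg.Agent.S1520
import Cfsg.Agent.S1517
import Cfsg.Agent.Coherence.FrobQuot

set_option autoImplicit false
open Cfsg

namespace Cfsg.Agent.S1521

/-- Let K be a solvable normal subgroup of the finite group L of odd order and (S, τ, R) a coherence system from L to G with S the functions induced from non-principal irreducible characters of K; S(A) as before. Let M ≤ K be normal in L with K/M nilpotent, H₁ = [K, K] ⊔ M, H₁ < K < L, and suppose every element of K outside H₁ is centralised modulo H₁ only from inside K (L/H₁ is a Frobenius group with kernel K/H₁). Suppose one of the following: some normal subgroup of L lies strictly between H₁ and K; or [K:H₁] > 4[L:K]^2 + 1; or [K:M] is not a prime power; or [K,K] ≤ M; or [K:M] is a power of a prime p with [L:K] dividing p − 1. Then S(M) is coherent. -/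
theorem result {L : Type*} [Group L] [Fintype L] {G : Type*} [Group G] [Fintype G] (K : Subgroup L) [hK : K.Normal] (hsolv : Group.IsSolvable K) (τ : (L → ℂ) → (G → ℂ)) (R : (L → ℂ) → Finset (G → ℂ)) (hS : Cfsg.IsCoherenceSystem (Cfsg.inducedIrrAbove K ⊥) τ R) (hodd : Odd (Nat.card L)) (M : Subgroup L) [M.Normal] (hMK : M ≤ K) [(M.subgroupOf K).Normal] (hnil : Group.IsNilpotent (↥K ⧸ M.subgroupOf K)) (H₁ : Subgroup L) (hH₁ : H₁ = ⁅K, K⁆ ⊔ M) (hH₁K : H₁ < K) (hKL : K < ⊤) (hfrob : ∀ k ∈ K, k ∉ H₁ → ∀ x : L, x * k * x⁻¹ * k⁻¹ ∈ H₁ → x ∈ K) (hgood : (∃ N : Subgroup L, N.Normal ∧ H₁ < N ∧ N < K) ∨ 4 * K.index ^ 2 + 1 < H₁.relIndex K ∨ (¬ ∃ p m : ℕ, p.Prime ∧ M.relIndex K = p ^ m) ∨ ⁅K, K⁆ ≤ M ∨ (∃ p m : ℕ, p.Prime ∧ M.relIndex K = p ^ m ∧ K.index ∣ p - 1)) : Cfsg.IsCoherent (Cfsg.inducedIrrAbove K M) {1}ᶜ τ := by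
  classical
  subst hH₁
  haveI : (⁅K, K⁆).Normal := Subgroup.commutator_normal K K
  set H₁ : Subgroup L := ⁅K, K⁆ ⊔ M with hH₁
  haveI : H₁.Normal := Subgroup.sup_normal _ _
  have hMH₁ : M ≤ H₁ := le_sup_right
  have hH₁le : H₁ ≤ K := hH₁K.le
  -- coherence of the bottom layer
  have hsub := Coherence.seq_subset_bot K H₁
  obtain ⟨θ₀, hθ₀, -⟩ := Coherence.exists_linear K hsolv H₁ (fun h => hH₁K.not_ge h)
  have hdeg : ∀ φ ∈ inducedIrrAbove K H₁, φ 1 = (K.index : ℂ) := by
    intro φ hφ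
    obtain ⟨θ, hθ, rfl⟩ := (Coherence.mem_seq_iff K).1 hφ
    haveI := Fintype.ofFinite K
    have hb := Coherence.degree_bound θ.2 (H₁.subgroupOf K) ⊤ ⊤ le_rfl
      (fun x _ y _ => (le_sup_left : ⁅K, K⁆ ≤ H₁) (by
        simpa [commutatorElement_def] using Subgroup.commutator_mem_commutator x.2 y.2))
      (fun b hb => ((Coherence.mem_irrNP K).1 hθ).2 b hb)
    obtain ⟨t, ht, htp⟩ := Coherence.char_one_nat (Coherence.irr_isCharacter θ.2)
    rw [ht, Complex.natCast_re, Nat.card_congr (Subgroup.topEquiv (G := K)).toEquiv] at hb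
    have hb' : t ^ 2 * Nat.card K * Nat.card K ≤ Nat.card K ^ 2 := by exact_mod_cast hb
    have hK : 0 < Nat.card K * Nat.card K := Nat.mul_pos Nat.card_pos Nat.card_pos
    have ht2 : t ^ 2 ≤ 1 := by nlinarith
    have ht1 : t = 1 := by
      have := htp (Coherence.irr_ne_zero θ.2)
      nlinarith
    rw [CharInd.indFun_apply_one, ht, ht1, Nat.cast_one, mul_one]
  have hcoh₁ : IsCoherent (inducedIrrAbove K H₁) {1}ᶜ τ :=
    S1517.result _ τ R
      (Coherence.sys_subset hS hsub ⟨_, (Coherence.mem_seq_iff K).2 ⟨θ₀, hθ₀, rfl⟩⟩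
        (fun χ h => Coherence.seq_conj K h))
      (fun φ hφ ψ hψ => by rw [hdeg φ hφ, hdeg ψ hψ])
  have bigcase : 4 * K.index ^ 2 + 1 < H₁.relIndex K →
      IsCoherent (inducedIrrAbove K M) {1}ᶜ τ := fun h =>
    S1520.result K hsolv τ R hS M H₁ K hMH₁ hH₁le le_rfl hnil hcoh₁ h
  -- the Frobenius quotient
  set q := QuotientGroup.mk' H₁ with hq
  have hcent : ∀ x ∈ K.map q, x ≠ 1 → Subgroup.centralizer ({x} : Set (L ⧸ H₁)) = K.map q := by
    rintro _ ⟨k, hk, rfl⟩ hne
    have hk1 : k ∉ H₁ := fun h => hne ((QuotientGroup.eq_one_iff k).2 h)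
    ext y
    obtain ⟨x, rfl⟩ := QuotientGroup.mk'_surjective H₁ y
    rw [Subgroup.mem_centralizer_singleton_iff]
    constructor
    · intro h
      refine ⟨x, hfrob k hk hk1 x ((QuotientGroup.eq_one_iff _).1 ?_), rfl⟩
      show q (x * k * x⁻¹ * k⁻¹) = 1
      rw [map_mul, map_mul, map_mul, map_inv, map_inv, h, mul_assoc (q k) (q x), mul_inv_cancel,
        mul_one, mul_inv_cancel]
    · rintro ⟨x', hx', he⟩
      rw [← he]
      have h1 : q (x' * k * x'⁻¹ * k⁻¹) = 1 := (QuotientGroup.eq_one_iff _).2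
        ((le_sup_left : ⁅K, K⁆ ≤ H₁) (Subgroup.commutator_mem_commutator hx' hk))
      rw [map_mul, map_mul, map_mul, map_inv, map_inv] at h1
      exact mul_inv_eq_iff_eq_mul.1 (mul_inv_eq_one.1 h1)
  have hidx : (K.map q).index = K.index :=
    Subgroup.index_map_eq _ (QuotientGroup.mk'_surjective H₁)
      (by rw [hq, QuotientGroup.ker_mk']; exact hH₁le)
  have hmod : ∀ N : Subgroup L, N.Normal → H₁ ≤ N → N ≤ K → K.index ∣ H₁.relIndex N - 1 := by
    intro N hN _ hNK
    haveI := hN
    haveI : (N.map q).Normal := Subgroup.Normal.map hN q (QuotientGroup.mk'_surjective H₁)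
    have h := Coherence.index_dvd_card_sub_one (K.map q) (N.map q)
      (fun x hx hx1 => hcent x (Subgroup.map_mono hNK hx) hx1)
    rw [hidx, ← Subgroup.relIndex_ker, hq, QuotientGroup.ker_mk'] at h
    exact h
  have hoddL : ∀ n, n ∣ Nat.card L → Odd n := fun n h => hodd.of_dvd_nat h
  have hrel : ∀ X Y : Subgroup L, X.relIndex Y ∣ Nat.card L := fun X Y =>
    ((X.subgroupOf Y).index_dvd_card).trans Y.card_subgroup_dvd_card
  have he1 : 1 < K.index := by
    have h0 := Subgroup.index_ne_zero_of_finite (H := K)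
    have h1 : K.index ≠ 1 := fun h => hKL.ne (Subgroup.index_eq_one.1 h)
    omega
  have heodd : Odd K.index := hoddL _ K.index_dvd_card
  have hgt1 : ∀ X Y : Subgroup L, X < Y → 1 < X.relIndex Y := fun X Y h => by
    have h0 : X.relIndex Y ≠ 0 := Subgroup.index_ne_zero_of_finite
    have h1 : X.relIndex Y ≠ 1 := fun e => h.not_ge (Subgroup.relIndex_eq_one.1 e)
    omega
  have midcase : (∃ N : Subgroup L, N.Normal ∧ H₁ < N ∧ N < K) →
      IsCoherent (inducedIrrAbove K M) {1}ᶜ τ := by
    rintro ⟨N, hN, h1, h2⟩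
    refine bigcase ?_
    have hmul := Subgroup.relIndex_mul_relIndex H₁ N K h1.le h2.le
    have ha := hmod N hN h1.le h2.le
    have hab := hmod K hK hH₁le le_rfl
    rw [← hmul] at hab ⊢
    set a := H₁.relIndex N
    set b := N.relIndex K
    have hb : K.index ∣ b - 1 := by
      have ha1 : a - 1 + 1 = a := by have := hgt1 _ _ h1; omega
      have hb1 : 1 ≤ b := (hgt1 _ _ h2).le
      have : a * b - 1 = (a - 1) * b + (b - 1) := by
        conv_lhs => rw [← ha1, add_mul, one_mul]
        omega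
      rw [this] at hab
      exact (Nat.dvd_add_right (Dvd.dvd.mul_right ha b)).1 hab
    exact Coherence.sq_lt_mul heodd (hoddL _ (hrel _ _)) (hoddL _ (hrel _ _)) (hgt1 _ _ h1)
      (hgt1 _ _ h2) ha hb
  have comcase : ⁅K, K⁆ ≤ M → IsCoherent (inducedIrrAbove K M) {1}ᶜ τ := fun h => by
    have : H₁ = M := sup_eq_right.2 h
    rwa [← this]
  -- the nilpotent quotient K / M
  set Y := ↥K ⧸ M.subgroupOf K
  haveI : Finite Y := inferInstance
  set qM := QuotientGroup.mk' (M.subgroupOf K)
  have hcomY : commutator Y = (H₁.subgroupOf K).map qM := by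
    have e1 : (H₁.subgroupOf K) = commutator K ⊔ M.subgroupOf K := by
      apply Subgroup.map_injective K.subtype_injective
      rw [Subgroup.map_sup, Subgroup.map_subgroupOf_eq_of_le hH₁le,
        Subgroup.map_subgroupOf_eq_of_le hMK, Subgroup.map_subtype_commutator]
    have e2 : (M.subgroupOf K).map qM = ⊥ := by
      rw [Subgroup.map_eq_bot_iff, QuotientGroup.ker_mk']
    rw [e1, Subgroup.map_sup, e2, sup_bot_eq, commutator_def, commutator_def,
      Subgroup.map_commutator, Subgroup.map_top_of_surjective _ (QuotientGroup.mk'_surjective _)]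
  have hcomidx : (commutator Y).index = H₁.relIndex K := by
    rw [hcomY]
    exact Subgroup.index_map_eq _ (QuotientGroup.mk'_surjective _)
      (by rw [QuotientGroup.ker_mk']; exact fun x hx => hMH₁ hx)
  have hab1 := hgt1 _ _ hH₁K
  -- either `K/H₁` is a `p`-group or there is an intermediate normal subgroup
  have hsplit : (∃ N : Subgroup L, N.Normal ∧ H₁ < N ∧ N < K) ∨
      ∃ p j : ℕ, p.Prime ∧ H₁.relIndex K = p ^ j := by
    set n := H₁.relIndex K with hn
    obtain ⟨p, hp, hpn⟩ := Nat.exists_prime_and_dvd (show n ≠ 1 by omega)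
    set a := n.factorization p with ha
    by_cases hm : n = p ^ a
    · exact Or.inr ⟨p, a, hp, hm⟩
    left
    haveI hQK : (K.map q).Normal :=
      Subgroup.Normal.map hK q (QuotientGroup.mk'_surjective H₁)
    have hcommK : ∀ x ∈ K.map q, ∀ y ∈ K.map q, Commute x y := fun x hx y hy => by
      by_cases hy1 : y = 1
      · subst hy1; exact Commute.one_right x
      · have h := hx
        rw [← hcent y hy hy1, Subgroup.mem_centralizer_singleton_iff] at h
        exact h
    let Nb : Subgroup (L ⧸ H₁) :=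
      { carrier := {x | x ∈ K.map q ∧ x ^ p ^ a = 1}
        one_mem' := ⟨one_mem _, one_pow _⟩
        mul_mem' := fun {x y} hx hy => ⟨mul_mem hx.1 hy.1, by
          rw [(hcommK x hx.1 y hy.1).mul_pow, hx.2, hy.2, one_mul]⟩
        inv_mem' := fun {x} hx => ⟨inv_mem hx.1, by rw [inv_pow, hx.2, inv_one]⟩ }
    haveI : Nb.Normal := ⟨fun x hx g => ⟨hQK.conj_mem x hx.1 g, by
      rw [conj_pow, hx.2, mul_one, mul_inv_cancel]⟩⟩
    have hcardK : Nat.card (K.map q) = n := by
      rw [hn, ← Subgroup.relIndex_ker, hq, QuotientGroup.ker_mk']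
    have hmap : Subgroup.map q (Nb.comap q) = Nb :=
      Subgroup.map_comap_eq_self_of_surjective (QuotientGroup.mk'_surjective H₁) _
    have hNbK : Nb ≤ K.map q := fun x hx => hx.1
    have hle1 : H₁ ≤ Nb.comap q := fun x hx => by
      show q x ∈ Nb
      have h1 : q x = 1 := (QuotientGroup.eq_one_iff x).2 hx
      rw [h1]; exact one_mem _
    have hle2 : Nb.comap q ≤ K := fun x hx => by
      obtain ⟨k, hk, hkx⟩ := hNbK hx
      have hkx' : k⁻¹ * x ∈ H₁ := QuotientGroup.eq.1 hkx
      simpa using K.mul_mem hk (hH₁le hkx')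
    refine ⟨Nb.comap q, inferInstance, lt_of_le_of_ne hle1 ?_, lt_of_le_of_ne hle2 ?_⟩
    · intro e
      haveI := Fact.mk hp
      obtain ⟨y, hy⟩ := exists_prime_orderOf_dvd_card' (G := K.map q) p (by rw [hcardK]; exact hpn)
      have hy1 : (y : L ⧸ H₁) ∈ Nb := ⟨y.2, by
        have h1 : 1 ≤ a := (hp.dvd_iff_one_le_factorization (by omega)).1 hpn
        obtain ⟨c, hc⟩ := dvd_pow_self p (show a ≠ 0 by omega)
        rw [hc, pow_mul, ← hy, ← Subgroup.orderOf_coe, pow_orderOf_eq_one, one_pow]⟩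
      have hb : Nb = ⊥ := by rw [← hmap, ← e, hq, QuotientGroup.map_mk'_self]
      rw [hb, Subgroup.mem_bot] at hy1
      rw [← Subgroup.orderOf_coe, hy1, orderOf_one] at hy
      exact hp.one_lt.ne hy
    · intro e
      have hdvd : p ^ a * (n / p ^ a) = n := Nat.ordProj_mul_ordCompl_eq_self n p
      have hne1 : n / p ^ a ≠ 1 := fun h => hm (by rw [h, mul_one] at hdvd; exact hdvd.symm)
      obtain ⟨r, hr, hrd⟩ := Nat.exists_prime_and_dvd hne1
      haveI := Fact.mk hr
      obtain ⟨y, hy⟩ := exists_prime_orderOf_dvd_card' (G := K.map q) r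
        (by rw [hcardK]; exact hrd.trans (Nat.div_dvd_of_dvd (Nat.ordProj_dvd n p)))
      have hy1 : (y : L ⧸ H₁) ∈ Nb := by rw [← hmap, e]; exact y.2
      have hdo : r ∣ p ^ a := by
        rw [← hy, ← Subgroup.orderOf_coe]; exact orderOf_dvd_of_pow_eq_one hy1.2
      have hrp : r = p := (Nat.prime_dvd_prime_iff_eq hr hp).1 (hr.dvd_of_dvd_pow hdo)
      rw [hrp] at hrd
      exact Nat.not_dvd_ordCompl hp (show n ≠ 0 by omega) hrd
  rcases hgood with h | h | h | h | h
  · exact midcase h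
  · exact bigcase h
  · rcases hsplit with hN | ⟨p, j, hp, hj⟩
    · exact midcase hN
    · exfalso
      haveI := Fact.mk hp
      refine h ?_
      let P : Sylow p Y := default
      have hPtop : (P : Subgroup Y) = ⊤ := by
        refine Coherence.eq_top_of_sup_commutator hnil _ (Subgroup.index_eq_one.1 ?_)
        refine Nat.eq_one_of_dvd_coprimes (Nat.Coprime.pow_right j
          ((hp.coprime_iff_not_dvd.2 P.not_dvd_index).symm)) (Subgroup.index_dvd_of_le le_sup_left) ?_
        rw [← hj, ← hcomidx]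
        exact Subgroup.index_dvd_of_le le_sup_right
      obtain ⟨m, hm⟩ := IsPGroup.iff_card.1 P.2
      refine ⟨p, m, hp, ?_⟩
      rw [← hm, hPtop, Subgroup.card_top]
      rfl
  · exact comcase h
  · obtain ⟨p, m, hp, hm, hdvd⟩ := h
    have hdvdn : H₁.relIndex K ∣ p ^ m := by
      rw [← hm]; exact Dvd.intro_left _ (Subgroup.relIndex_mul_relIndex M H₁ K hMH₁ hH₁le)
    obtain ⟨j, -, hj⟩ := (Nat.dvd_prime_pow hp).1 hdvdn
    have hpodd : Odd p := hoddL p ((dvd_pow_self p (show j ≠ 0 from fun e => by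
      rw [e, pow_zero] at hj; omega)).trans (hj ▸ hrel _ _))
    rcases Nat.lt_or_ge j 2 with hj2 | hj2
    · have hj1 : j = 1 := by
        rcases j with _ | _ | j
        · rw [pow_zero] at hj; omega
        · rfl
        · omega
      rw [hj1, pow_one] at hj
      refine comcase ?_
      obtain ⟨y, hy⟩ : ∃ y : Y, y ∉ commutator Y := by
        by_contra hall
        push Not at hall
        rw [(Subgroup.eq_top_iff' _).2 hall, Subgroup.index_top] at hcomidx
        omega
      have htop : Subgroup.zpowers y = ⊤ := by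
        refine Coherence.eq_top_of_sup_commutator hnil _ ?_
        by_contra hne
        have h1 : (Subgroup.zpowers y ⊔ commutator Y).index ∣ p := by
          rw [← hj, ← hcomidx]; exact Subgroup.index_dvd_of_le le_sup_right
        rcases (Nat.dvd_prime hp).1 h1 with h2 | h2
        · exact hne (Subgroup.index_eq_one.1 h2)
        · have h3 := Subgroup.relIndex_mul_index
            (le_sup_right : commutator Y ≤ Subgroup.zpowers y ⊔ commutator Y)
          rw [h2, hcomidx, hj] at h3
          have h4 : (commutator Y).relIndex (Subgroup.zpowers y ⊔ commutator Y) = 1 :=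
            Nat.eq_of_mul_eq_mul_right hp.pos (by rw [h3, one_mul])
          exact hy ((Subgroup.relIndex_eq_one.1 h4)
            ((le_sup_left : Subgroup.zpowers y ≤ _) (Subgroup.mem_zpowers y)))
      rw [Subgroup.commutator_le]
      intro u hu v hv
      obtain ⟨i, hi⟩ := Subgroup.mem_zpowers_iff.1
        (htop ▸ Subgroup.mem_top (qM ⟨u, hu⟩) : qM ⟨u, hu⟩ ∈ Subgroup.zpowers y)
      obtain ⟨i', hi'⟩ := Subgroup.mem_zpowers_iff.1
        (htop ▸ Subgroup.mem_top (qM ⟨v, hv⟩) : qM ⟨v, hv⟩ ∈ Subgroup.zpowers y)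
      have hone : qM ((⟨u, hu⟩ : K) * ⟨v, hv⟩ * ⟨u, hu⟩⁻¹ * ⟨v, hv⟩⁻¹) = 1 := by
        rw [map_mul, map_mul, map_mul, map_inv, map_inv, ← hi, ← hi',
          (Commute.zpow_zpow_self y i i').eq, mul_inv_cancel_right, mul_inv_cancel]
      rw [commutatorElement_def]
      have h1 := (QuotientGroup.eq_one_iff _).1 hone
      exact h1
    · refine bigcase ?_
      have hp1 : 1 < p := hp.one_lt
      have h2 := Coherence.sq_lt_mul heodd hpodd hpodd hp1 hp1 hdvd hdvd
      rw [hj]
      calc 4 * K.index ^ 2 + 1 < p * p := h2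
        _ = p ^ 2 := (sq p).symm
        _ ≤ p ^ j := Nat.pow_le_pow_right hp.pos hj2


end Cfsg.Agent.S1521
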