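import Cfsg.Statements.S0015
import Cfsg.Agent.Lib.Fitting.Minimal

set_option autoImplicit false
open Cfsg

namespace Cfsg.Agent.S0015

/-- In a finite nilpotent group, an abelian normal subgroup that is maximal among abelian normal subgroups equals its own centralizer. -/
theorem result {G : Type*} [Group G] [Finite G] [Group.IsNilpotent G]
    (N : Subgroup G) [N.Normal] [IsMulCommutative N]
    (hmax : ∀ M : Subgroup G, M.Normal → IsMulCommutative M → N ≤ M → M = N) :
    Subgroup.centralizer (N : Set G) = N := by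
  let C := Subgroup.centralizer (N : Set G)
  have hNC : N ≤ C := fun x hx => Subgroup.mem_centralizer_iff.mpr fun y hy =>
    congrArg Subtype.val (mul_comm' (⟨y, hy⟩ : N) ⟨x, hx⟩)
  haveI : C.Normal := inferInstance
  refine le_antisymm ?_ hNC
  by_contra hne
  let q := QuotientGroup.mk' N
  haveI : (C.map q).Normal := (inferInstance : C.Normal).map q (QuotientGroup.mk'_surjective N)
  have hmap : C.map q ≠ ⊥ := fun h => hne (by
    simpa [q, Subgroup.map_eq_bot_iff] using h)
  haveI := (Subgroup.nontrivial_iff_ne_bot _).mpr (Fitting.inf_center_ne_bot hmap)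
  obtain ⟨⟨y, hy1, hy2⟩, hy⟩ := exists_ne (1 : (C.map q ⊓ Subgroup.center (G ⧸ N) : Subgroup _))
  obtain ⟨x, hx, rfl⟩ := hy1
  let M := N ⊔ Subgroup.zpowers x
  have hM : M.Normal := by
    refine Subgroup.Normal.mk fun m hm g => ?_
    have hMeq : M = ((Subgroup.zpowers x).map q).comap q := by
      rw [Subgroup.comap_map_eq, QuotientGroup.ker_mk', sup_comm]
    rw [hMeq] at hm ⊢
    show q (g * m * g⁻¹) ∈ (Subgroup.zpowers x).map q
    have hc : q m ∈ Subgroup.center (G ⧸ N) := by
      obtain ⟨_, ⟨k, rfl⟩, e⟩ := hm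
      rw [← e, map_zpow]
      exact Subgroup.zpow_mem _ hy2 k
    rw [map_mul, map_mul, map_inv, Subgroup.mem_center_iff.mp hc (q g)]
    simpa using hm
  have hcomm : IsMulCommutative M := by
    have h : M ≤ Subgroup.centralizer (M : Set G) := by
      have hz : ∀ a ∈ M, a * x = x * a := by
        intro a ha
        refine Subgroup.mem_centralizer_singleton_iff.mp ((sup_le ?_ ?_ : M ≤ Subgroup.centralizer {x}) ha)
        · exact fun n hn => Subgroup.mem_centralizer_singleton_iff.mpr
            (Subgroup.mem_centralizer_iff.mp hx n hn)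
        · exact Subgroup.zpowers_le.mpr (Subgroup.mem_centralizer_singleton_iff.mpr rfl)
      refine sup_le (fun n hn => ?_) (Subgroup.zpowers_le.mpr ?_)
      · refine Subgroup.mem_centralizer_iff.mpr fun a ha => ?_
        exact ((Subgroup.mem_centralizer_iff.mp ((sup_le hNC (Subgroup.zpowers_le.mpr hx) : M ≤ C) ha)) n hn).symm
      · exact Subgroup.mem_centralizer_iff.mpr fun a ha => hz a ha
    exact ⟨⟨fun a b => Subtype.ext (Subgroup.mem_centralizer_iff.mp (h b.2) a a.2)⟩⟩
  have hxN : x ∈ N := hmax M hM hcomm le_sup_left ▸ Subgroup.mem_sup_right (Subgroup.mem_zpowers x)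
  exact hy (Subtype.ext ((QuotientGroup.eq_one_iff x).mpr hxN))

end Cfsg.Agent.S0015
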