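import Cfsg.Statements.S0597
import Cfsg.Agent.Lib.Thompson.Quadratic
import Cfsg.Agent.Lib.Thompson.Cores
import Cfsg.Agent.LAE65.Subnormal
-- import your own Cfsg.Agent.* helpers here

set_option autoImplicit false
open Cfsg
open scoped commutatorElement

namespace Cfsg.Agent.S0597

/-- If two subnormal subgroups of a faithful group on an elementary abelian p-group satisfy [V, E₁, E₂] = 1, then their commutator lies in the largest normal p-subgroup. -/
theorem result {G : Type*} [Group G] [Finite G] {p : ℕ} [Fact p.Prime] (V H : Subgroup G) (hV : Cfsg.IsElementaryAbelian p V) (hHV : H ≤ Subgroup.normalizer (V : Set G)) (hf : H ⊓ Subgroup.centralizer (V : Set G) = ⊥) (E₁ E₂ : Subgroup G) (h₁ : E₁ ≤ H) (h₂ : E₂ ≤ H) (hs₁ : (E₁.subgroupOf H).IsSubnormal) (hs₂ : (E₂.subgroupOf H).IsSubnormal) (hc : ⁅⁅V, E₁⁆, E₂⁆ = ⊥) : ⁅E₁, E₂⁆ ≤ (Cfsg.pCore p H).map H.subtype := by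
  have hT : ∀ x ∈ E₁, ∀ y ∈ E₂, ∀ v ∈ V, ⁅v, ⁅x, y⁆⁆ ∈ ⁅V, E₁⁆ ∧
      ∀ w ∈ ⁅V, E₁⁆, ⁅x, y⁆ * w = w * ⁅x, y⁆ := by
    intro x hx y hy v hv
    have hW : ⁅V, E₁⁆ ≤ V := Thompson.commutator_le_of_le_normalizer (h₁.trans hHV)
    have hcW : ∀ e ∈ E₂, ∀ w ∈ ⁅V, E₁⁆, e * w * e⁻¹ = w := fun e he w hw => by
      rw [Subgroup.mem_centralizer_iff.mp
        (Subgroup.commutator_eq_bot_iff_le_centralizer.mp hc hw) e he, mul_inv_cancel_right]
    have hab : ∀ u ∈ V, ∀ w ∈ V, u * w = w * u := fun u hu w hw =>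
      Thompson.elemAb_comm hV.1 hu hw
    have hnx : ∀ e ∈ E₁, ∀ w ∈ ⁅V, E₁⁆, e * w * e⁻¹ ∈ ⁅V, E₁⁆ := fun e he w hw => by
      have h0 : ⁅w, e⁆ ∈ ⁅V, E₁⁆ := Subgroup.commutator_mem_commutator (hW hw) he
      rw [Thompson.conj_eq_mul_commutator]
      exact mul_mem (inv_mem h0) hw
    constructor
    · -- `v, [x, y]`: the action on `V / [V, E₁]` of `x` is trivial
      have k1 : ∀ u ∈ V, ∀ e ∈ E₁, u⁻¹ * (e * u * e⁻¹) ∈ ⁅V, E₁⁆ := fun u hu e he => by
        have h0 : ⁅u⁻¹, e⁆ ∈ ⁅V, E₁⁆ := Subgroup.commutator_mem_commutator (inv_mem hu) he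
        simpa [commutatorElement_def, mul_assoc] using inv_mem (inv_mem h0)
      have k2 : ∀ u ∈ V, ∀ e ∈ E₁, e * u * e⁻¹ = u * (u⁻¹ * (e * u * e⁻¹)) := fun u _ e _ => by group
      have hy2 : ∀ e ∈ E₂, ∀ u ∈ V, e * u * e⁻¹ ∈ V := fun e he u hu =>
        Thompson.conj_mem_of_le_normalizer (h₂.trans hHV) he hu
      set u1 := x⁻¹ * v * x⁻¹⁻¹ with hu1
      have d1 : v⁻¹ * (y⁻¹ * v * y) ∈ V := by
        have := hy2 y⁻¹ (inv_mem hy) v hv
        simp only [inv_inv] at this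
        exact mul_mem (inv_mem hv) this
      have hv1 : y⁻¹ * v * y ∈ V := by simpa using hy2 y⁻¹ (inv_mem hy) v hv
      have hw1 := k1 _ hv1 x⁻¹ (inv_mem hx)
      set w1 := (y⁻¹ * v * y)⁻¹ * (x⁻¹ * (y⁻¹ * v * y) * x⁻¹⁻¹) with hw1d
      have hv3 : y * (x⁻¹ * (y⁻¹ * v * y) * x) * y⁻¹ = v * w1 := by
        rw [← hcW y hy w1 hw1, hw1d]; group
      have hw2 := k1 _ (mul_mem hv (hW hw1)) x hx
      have hfin : ⁅x, y⁆ * v * ⁅x, y⁆⁻¹ = v * (w1 * ((v * w1)⁻¹ * (x * (v * w1) * x⁻¹))) := by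
        rw [← mul_assoc, ← mul_assoc, mul_inv_cancel, one_mul, ← hv3]
        simp [commutatorElement_def, mul_assoc]
      have e : ⁅v, ⁅x, y⁆⁆ = v * (⁅x, y⁆ * v * ⁅x, y⁆⁻¹)⁻¹ := by
        simp [commutatorElement_def, mul_assoc]
      rw [e, hfin, mul_inv_rev, ← mul_assoc]
      have hz := mul_mem hw1 hw2
      rw [hab v hv _ (hW (inv_mem hz)), mul_assoc, mul_inv_cancel, mul_one]
      exact inv_mem hz
    · intro w hw
      have e1 : y⁻¹ * w * y = w := by simpa using hcW y⁻¹ (inv_mem hy) w hw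
      have e2 : y * (x⁻¹ * w * x) * y⁻¹ = x⁻¹ * w * x :=
        hcW y hy _ (by simpa using hnx x⁻¹ (inv_mem hx) w hw)
      refine (mul_inv_eq_iff_eq_mul.mp ?_)
      calc ⁅x, y⁆ * w * ⁅x, y⁆⁻¹ = x * (y * (x⁻¹ * (y⁻¹ * w * y) * x) * y⁻¹) * x⁻¹ := by
            simp [commutatorElement_def, mul_assoc]
        _ = w := by rw [e1, e2]; group
  have hTH : ⁅E₁, E₂⁆ ≤ H := Subgroup.commutator_le.mpr fun x hx y hy => by
    rw [commutatorElement_def]
    exact mul_mem (mul_mem (mul_mem (h₁ hx) (h₂ hy)) (inv_mem (h₁ hx))) (inv_mem (h₂ hy))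
  have hWV : ⁅V, E₁⁆ ≤ V := Thompson.commutator_le_of_le_normalizer (h₁.trans hHV)
  have hq : ⁅⁅V, ⁅E₁, E₂⁆⁆, ⁅E₁, E₂⁆⁆ = ⊥ := by
    rw [Subgroup.commutator_eq_bot_iff_le_centralizer]
    refine le_trans (Subgroup.commutator_le.mpr fun v hv c hc' => ?_)
      (?_ : ⁅V, E₁⁆ ≤ _)
    · suffices h : c ∈ ({ carrier := {z | z ∈ H ∧ ∀ u ∈ V, ⁅u, z⁆ ∈ ⁅V, E₁⁆ ∧
          ∀ w ∈ ⁅V, E₁⁆, z * w = w * z}
                          one_mem' := ⟨one_mem _, fun u _ => ⟨by simp, fun w _ => by simp⟩⟩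
                          mul_mem' := fun {z z'} hz hz' => ⟨mul_mem hz.1 hz'.1, fun u hu => ⟨by
                            rw [commutatorElement_mul_right_eq_mul_conj, mul_assoc ⁅u, z⁆ z,
                              (hz.2 u hu).2 _ (hz'.2 u hu).1, ← mul_assoc ⁅u, z⁆, mul_inv_cancel_right]
                            exact mul_mem (hz.2 u hu).1 (hz'.2 u hu).1, fun w hw => by
                            rw [mul_assoc, (hz'.2 u hu).2 w hw, ← mul_assoc, (hz.2 u hu).2 w hw,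
                              mul_assoc]⟩⟩
                          inv_mem' := fun {z} hz => ⟨inv_mem hz.1, fun u hu => by
                            have hc0 : ∀ w ∈ ⁅V, E₁⁆, z⁻¹ * w = w * z⁻¹ := fun w hw =>
                              (Commute.inv_left ((hz.2 u hu).2 w hw))
                            refine ⟨?_, hc0⟩
                            rw [commutatorElement_inv_right, ← commutatorElement_inv u z,
                              hc0 _ (inv_mem (hz.2 u hu).1), inv_mul_cancel_right]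
                            exact inv_mem (hz.2 u hu).1⟩ } : Subgroup G) from (h.2 v hv).1
      revert hc'
      revert c
      refine Subgroup.commutator_le.mpr fun x hx y hy => ?_
      exact ⟨hTH (Subgroup.commutator_mem_commutator hx hy), fun u hu => hT x hx y hy u hu⟩
    · intro w hw
      rw [Subgroup.mem_centralizer_iff]
      intro c hc'
      revert hc'
      revert c
      suffices h : ⁅E₁, E₂⁆ ≤ Subgroup.centralizer {w} from fun c hc' =>
        (Subgroup.mem_centralizer_singleton_iff.mp (h hc'))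
      refine Subgroup.commutator_le.mpr fun x hx y hy => Subgroup.mem_centralizer_singleton_iff.mpr ?_
      exact (hT x hx y hy 1 (one_mem V)).2 w hw
  have hTp : IsPGroup p (⁅E₁, E₂⁆ : Subgroup G) := fun c => ⟨1, by
    have h1 := Thompson.quadratic_pow_mem_centralizer hV (hTH.trans hHV) hq c.2
    have h2 : (c : G) ^ p ∈ (⊥ : Subgroup G) := hf ▸ ⟨H.pow_mem (hTH c.2) p, h1⟩
    rw [pow_one]
    exact Subtype.ext h2⟩
  have hsub := LAE65.isSubnormal_sup hs₁ hs₂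
  have hn : E₁.subgroupOf H ⊔ E₂.subgroupOf H ≤
      Subgroup.normalizer ((⁅E₁, E₂⁆.subgroupOf H : Subgroup H) : Set H) := by
    rw [← Subgroup.subgroupOf_sup h₁ h₂]
    intro g hg
    have hg' : (g : G) ∈ Subgroup.normalizer ((⁅E₁, E₂⁆ : Subgroup G) : Set G) := by
      exact (sup_le (Subgroup.normalizer_commutator_ge_left E₁ E₂)
        (Subgroup.normalizer_commutator_ge_right E₁ E₂) :
        E₁ ⊔ E₂ ≤ Subgroup.normalizer ((⁅E₁, E₂⁆ : Subgroup G) : Set G))
        (Subgroup.mem_subgroupOf.mp hg)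
    rw [Subgroup.mem_normalizer_iff] at hg' ⊢
    exact fun z => hg' z
  have hTle : ⁅E₁, E₂⁆.subgroupOf H ≤ E₁.subgroupOf H ⊔ E₂.subgroupOf H := by
    rw [← Subgroup.subgroupOf_sup h₁ h₂]
    refine Subgroup.comap_mono (Subgroup.commutator_le.mpr fun x hx y hy => ?_)
    rw [commutatorElement_def]
    exact mul_mem (mul_mem (mul_mem (Subgroup.mem_sup_left hx) (Subgroup.mem_sup_right hy))
      (inv_mem (Subgroup.mem_sup_left hx))) (inv_mem (Subgroup.mem_sup_right hy))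
  have hTsub : (⁅E₁, E₂⁆.subgroupOf H).IsSubnormal :=
    Subgroup.IsSubnormal.step _ _ hTle hsub
      (Subgroup.normal_subgroupOf_of_le_normalizer hn)
  intro c hc'
  exact ⟨⟨c, hTH hc'⟩, Thompson.le_pCore_of_isSubnormal hTsub hTp.comap_subtype hc', rfl⟩

end Cfsg.Agent.S0597
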