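import Cfsg.Prelude.Def_Local
import Cfsg.Agent.Lib.Thompson.Offender.Model
import Cfsg.Agent.Lib.Thompson.QuadApply
import Cfsg.Agent.Lib.Coprime.Action
import Cfsg.Agent.Lib.Coprime.Hall

/-!
Automizers that are `p`-solvable: a prime dividing some automizer of a `p`-subgroup divides the
automizer of a normal subgroup of a Sylow `p`-subgroup.
-/

set_option autoImplicit false
set_option linter.unusedSectionVars false

namespace Cfsg.Agent.AutomizerPrime

open Cfsg Subgroup Thompson
open scoped commutatorElement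

universe u

variable {p q : ℕ}

/-- A `q`-element normalizes `K` without centralizing it. -/
def Moves {G : Type*} [Group G] (q : ℕ) (K : Subgroup G) : Prop :=
  ∃ y : G, (∃ i, y ^ (q ^ i) = 1) ∧ y ∈ normalizer (K : Set G) ∧ y ∉ centralizer (K : Set G)

/-- A `q`-element of the image lifts to a `q`-element. -/
theorem exists_qPart {G H : Type*} [Group G] [Group H] [Finite G] [hq : Fact q.Prime] (f : G →* H)
    {x : G} {i : ℕ} (hx : f x ^ (q ^ i) = 1) :
    ∃ m : ℕ, (∃ j, (x ^ m) ^ (q ^ j) = 1) ∧ f (x ^ m) = f x := by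
  obtain ⟨a, m, hm, ho⟩ :=
    Nat.exists_eq_pow_mul_and_not_dvd (orderOf_pos x).ne' q hq.out.ne_one
  have hco : m.Coprime (q ^ i) := ((hq.out.coprime_iff_not_dvd.mpr hm).pow_left i).symm
  obtain ⟨c, hc⟩ := exists_pow_eq_self_of_coprime (hco.coprime_dvd_right (orderOf_dvd_of_pow_eq_one hx))
  refine ⟨m * c, ⟨a, ?_⟩, ?_⟩
  · rw [← pow_mul, show m * c * q ^ a = (q ^ a * m) * c by ring, pow_mul, ← ho, pow_orderOf_eq_one,
      one_pow]
  · rw [map_pow, pow_mul, hc]

/-- In a `p`-solvable group a Sylow `p`-subgroup lies in a `{p, q}`-subgroup of order divisible by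
any given prime `q` dividing the group order. -/
theorem exists_two_prime_sub [hp : Fact p.Prime] [hq : Fact q.Prime] (hpq : p ≠ q) :
    ∀ (n : ℕ) (A : Type u) [Group A] [Finite A], Nat.card A ≤ n → IsPSolvable p A →
      ∀ S : Sylow p A, q ∣ Nat.card A →
      ∃ B : Subgroup A, (S : Subgroup A) ≤ B ∧ q ∣ Nat.card B ∧
        ∀ r : ℕ, r.Prime → r ∣ Nat.card B → r = p ∨ r = q := by
  intro n
  induction n with
  | zero =>
    intro A _ _ h
    exact absurd h (by simp [Nat.card_pos.ne'])
  | succ n ih =>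
    intro A _ _ hn hA S hqA
    have hSp : ∀ r : ℕ, r.Prime → r ∣ Nat.card S → r = p := fun r hr hd => by
      obtain ⟨k, hk⟩ := S.isPGroup'.exists_card_eq
      rw [hk] at hd
      exact (Nat.prime_dvd_prime_iff_eq hr hp.out).mp (hr.dvd_of_dvd_pow hd)
    haveI : Nontrivial A := Finite.one_lt_card_iff_nontrivial.mp
      (hq.out.one_lt.trans_le (Nat.le_of_dvd Nat.card_pos hqA))
    obtain ⟨N, hNn, hN1, hN⟩ := exists_minimal_step_of_isPSolvable hA
    haveI := hNn
    -- an invariant Sylow `q`-subgroup of a normal `p'`-subgroup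
    have hQ : (Nat.card N).Coprime p → q ∣ Nat.card N →
        ∃ B : Subgroup A, (S : Subgroup A) ≤ B ∧ q ∣ Nat.card B ∧
          ∀ r : ℕ, r.Prime → r ∣ Nat.card B → r = p ∨ r = q := by
      intro hNc hqN
      have hSN : (S : Subgroup A) ≤ normalizer (N : Set A) :=
        le_top.trans_eq (normalizer_eq_top _).symm
      obtain ⟨k, hk⟩ := S.isPGroup'.exists_card_eq
      obtain ⟨Q, hQS⟩ := Coprime.exists_invariant_sylow (S : Subgroup A) N hSN
        (by rw [hk]; exact hNc.symm.pow_left k)
        (Or.inl (Coprime.isSolvable_of_isNilpotent' S.isPGroup'.isNilpotent)) q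
      set Q' := (Q : Subgroup N).map N.subtype with hQ'
      refine ⟨(S : Subgroup A) ⊔ Q', le_sup_left, ?_, fun r hr hd => ?_⟩
      · refine dvd_trans ?_ (card_dvd_of_le (le_sup_right : Q' ≤ (S : Subgroup A) ⊔ Q'))
        rw [← Nat.card_congr ((Q : Subgroup N).equivMapOfInjective _ N.subtype_injective).toEquiv]
        exact Q.dvd_card_of_dvd_card hqN
      · have h := card_sup_mul_card_inf (H := Q') (K := (S : Subgroup A)) hQS
        rw [sup_comm, inf_comm, mul_comm (Nat.card Q')] at h
        have h2 : r ∣ Nat.card S * Nat.card Q' := hd.trans (h ▸ dvd_mul_right _ _)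
        rcases hr.dvd_mul.mp h2 with h3 | h3
        · exact Or.inl (hSp r hr h3)
        · right
          obtain ⟨j, hj⟩ := (Q.isPGroup'.map N.subtype).exists_card_eq
          rw [hj] at h3
          exact (Nat.prime_dvd_prime_iff_eq hr hq.out).mp (hr.dvd_of_dvd_pow h3)
    by_cases hqi : q ∣ N.index
    swap
    · have hqN : q ∣ Nat.card N :=
        (hq.out.dvd_mul.mp (N.card_mul_index ▸ hqA)).resolve_right hqi
      rcases hN with hN | hN
      · obtain ⟨k, hk⟩ := hN.exists_card_eq
        rw [hk] at hqN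
        exact absurd ((Nat.prime_dvd_prime_iff_eq hq.out hp.out).mp (hq.out.dvd_of_dvd_pow hqN))
          hpq.symm
      · exact hQ hN hqN
    set f := QuotientGroup.mk' N with hf
    have hfs := QuotientGroup.mk'_surjective N
    have hlt : Nat.card (A ⧸ N) ≤ n := by
      have h2 : 1 < Nat.card N := (one_lt_card_iff_ne_bot _).mpr hN1
      have h3 := N.card_mul_index
      rw [← index_eq_card]
      have h4 : 0 < N.index := Nat.pos_of_ne_zero index_ne_zero_of_finite
      nlinarith
    obtain ⟨B', hSB', hqB', hB'⟩ := ih (A ⧸ N) hlt (isPSolvable_quotient N hA)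
      (S.mapSurjective hfs) (by rw [← index_eq_card]; exact hqi)
    set B := B'.comap f with hB
    have hSB : (S : Subgroup A) ≤ B := fun s hs => hSB' (by
      rw [Sylow.coe_mapSurjective]; exact mem_map_of_mem f hs)
    have hqB : q ∣ Nat.card B := by
      refine hqB'.trans ?_
      have := card_map_dvd B f
      rwa [hB, map_comap_eq_self_of_surjective hfs] at this
    rcases eq_or_ne B ⊤ with hBt | hBt
    swap
    · have hlt' : Nat.card B ≤ n := by
        have h3 := B.card_mul_index
        have h4 : 1 < B.index := by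
          have := index_ne_zero_of_finite (H := B)
          have : B.index ≠ 1 := fun h => hBt (index_eq_one.mp h)
          omega
        have h5 : 0 < Nat.card B := Nat.card_pos
        nlinarith
      obtain ⟨C, hSC, hqC, hC⟩ := ih B hlt' (isPSolvable_subgroup B hA) (S.subtype hSB) hqB
      refine ⟨C.map B.subtype, fun s hs => ⟨⟨s, hSB hs⟩, hSC hs, rfl⟩, ?_, fun r hr hd => hC r hr ?_⟩
      · rwa [← Nat.card_congr (C.equivMapOfInjective _ B.subtype_injective).toEquiv]
      · rwa [← Nat.card_congr (C.equivMapOfInjective _ B.subtype_injective).toEquiv] at hd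
    have hidx : ∀ r : ℕ, r.Prime → r ∣ N.index → r = p ∨ r = q := by
      intro r hr hd
      refine hB' r hr ?_
      have : B' = ⊤ := by
        rw [← map_comap_eq_self_of_surjective hfs B', ← hB, hBt, map_top_of_surjective f hfs]
      rwa [this, card_top, ← index_eq_card]
    rcases hN with hN | hN
    · refine ⟨⊤, le_top, by rwa [card_top], fun r hr hd => ?_⟩
      rw [card_top, ← N.card_mul_index] at hd
      rcases hr.dvd_mul.mp hd with h | h
      · obtain ⟨k, hk⟩ := hN.exists_card_eq
        rw [hk] at h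
        exact Or.inl ((Nat.prime_dvd_prime_iff_eq hr hp.out).mp (hr.dvd_of_dvd_pow h))
      · exact hidx r hr h
    by_cases hqN : q ∣ Nat.card N
    · exact hQ hN hqN
    have hcop : (Nat.card N).Coprime N.index := Nat.coprime_of_dvd fun r hr hrN hri => by
      rcases hidx r hr hri with rfl | rfl
      · exact hr.ne_one (Nat.eq_one_of_dvd_coprimes hN hrN dvd_rfl)
      · exact hqN hrN
    obtain ⟨C, hC⟩ := Subgroup.exists_right_complement'_of_coprime hcop
    have hCc : Nat.card C = N.index := by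
      have h1 := hC.card_mul
      rw [← N.card_mul_index] at h1
      exact Nat.eq_of_mul_eq_mul_left Nat.card_pos h1
    have hCi : ¬ p ∣ C.index := by
      rw [hC.index_eq_card]
      exact fun h => hp.out.ne_one (Nat.eq_one_of_dvd_coprimes hN h dvd_rfl)
    obtain ⟨P⟩ : Nonempty (Sylow p C) := inferInstance
    have hP' : IsPGroup p ((P : Subgroup C).map C.subtype) := P.isPGroup'.map _
    obtain ⟨P₁, hP₁⟩ := hP'.exists_le_sylow
    have hPeq : ((P : Subgroup C).map C.subtype) = (P₁ : Subgroup A) := by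
      refine Subgroup.eq_of_le_of_card_ge hP₁ ?_
      rw [← Nat.card_congr ((P : Subgroup C).equivMapOfInjective _ C.subtype_injective).toEquiv,
        P₁.card_eq_multiplicity, P.card_eq_multiplicity]
      refine le_of_eq (congrArg (p ^ ·) ?_)
      rw [← C.card_mul_index, Nat.factorization_mul Nat.card_pos.ne' index_ne_zero_of_finite,
        Finsupp.add_apply, Nat.factorization_eq_zero_of_not_dvd hCi, add_zero]
    obtain ⟨g, hg⟩ := MulAction.exists_smul_eq A P₁ S
    refine ⟨C.map (MulAut.conj g).toMonoidHom, ?_, ?_, fun r hr hd => hidx r hr ?_⟩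
    · rw [← hg, coe_smul_sylow, ← hPeq]
      exact map_mono (map_subtype_le _)
    · rwa [← Nat.card_congr (C.equivMapOfInjective _ (MulAut.conj g).injective).toEquiv, hCc]
    · rwa [← Nat.card_congr (C.equivMapOfInjective _ (MulAut.conj g).injective).toEquiv, hCc] at hd

theorem characteristic_comap {X Y : Type*} [Group X] [Group Y] (f : X →* Y)
    (hf : Function.Surjective f) [hk : f.ker.Characteristic] (K : Subgroup Y) [hK : K.Characteristic] :
    (K.comap f).Characteristic := by
  refine characteristic_iff_le_comap.mpr fun φ => ?_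
  let e := QuotientGroup.quotientKerEquivOfSurjective f hf
  let ψ : MulAut Y := e.symm.trans ((QuotientGroup.congr f.ker f.ker φ
    (characteristic_iff_map_eq.mp hk φ)).trans e)
  have hψ : ∀ x, ψ (f x) = f (φ x) := fun x => by
    have h1 : e.symm (f x) = QuotientGroup.mk x := by
      rw [MulEquiv.symm_apply_eq]; rfl
    simp only [ψ, MulEquiv.trans_apply, h1]
    rfl
  intro x hx
  show f (φ x) ∈ K
  rw [← hψ]
  exact (characteristic_iff_le_comap.mp hK ψ) hx

/-- A group with Sylow `p`-subgroup `S` factorizes unless `{p, q} = {2, 3}`. -/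
theorem factorizable {M : Type u} [Group M] [Finite M] [hp : Fact p.Prime] [hq : Fact q.Prime]
    (hpq : p ≠ q) (h23 : ¬ ((p = 2 ∧ q = 3) ∨ (p = 3 ∧ q = 2))) (hps : IsPSolvable p M)
    (hO : pPrimeCore p M = ⊥) (hpr : ∀ r : ℕ, r.Prime → r ∣ Nat.card M → r = p ∨ r = q) :
    IsThompsonFactorizable p M := by
  by_contra hnf
  obtain ⟨h2, E, -, -, -, hn, ⟨e⟩⟩ := Off.failure_structure hps hO hnf
  haveI := hn
  have hdvd : Nat.card (Matrix.SpecialLinearGroup (Fin 2) (ZMod p)) ∣ Nat.card M := by
    rw [← Nat.card_congr e.toEquiv, ← index_eq_card]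
    exact (index_dvd_card _).trans (card_subgroup_dvd_card E)
  rcases h2 with rfl | rfl
  · have h6 : Nat.card (Matrix.SpecialLinearGroup (Fin 2) (ZMod 2)) = 6 := by
      rw [Nat.card_eq_fintype_card]; decide
    rw [h6] at hdvd
    rcases hpr 3 Nat.prime_three ((show 3 ∣ 6 by norm_num).trans hdvd) with h | h
    · norm_num at h
    · exact h23 (Or.inl ⟨rfl, h.symm⟩)
  · have h24 : Nat.card (Matrix.SpecialLinearGroup (Fin 2) (ZMod 3)) = 24 := by
      rw [Nat.card_eq_fintype_card]; decide
    rw [h24] at hdvd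
    rcases hpr 2 Nat.prime_two ((show 2 ∣ 24 by norm_num).trans hdvd) with h | h
    · norm_num at h
    · exact h23 (Or.inr ⟨rfl, h.symm⟩)

theorem pPrimeCore_eq_bot_of_centralizer {M : Type*} [Group M] [Finite M] [Fact p.Prime]
    (hC : centralizer (pCore p M : Set M) ≤ pCore p M) : pPrimeCore p M = ⊥ :=
  le_bot_iff.mp (pCore_inf_pPrimeCore (p := p) (G := M) ▸
    le_inf (pPrimeCore_le_centralizer_pCore.trans hC) le_rfl)

/-- In a `{p, q}`-group with self-centralizing `O_p`, some characteristic subgroup of a Sylow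
`p`-subgroup is moved by a `q`-element. -/
theorem exists_moved_char [hp : Fact p.Prime] [hq : Fact q.Prime] (hpq : p ≠ q)
    (h23 : ¬ ((p = 2 ∧ q = 3) ∨ (p = 3 ∧ q = 2))) :
    ∀ (n : ℕ) (M : Type u) [Group M] [Finite M], Nat.card M ≤ n → IsPSolvable p M →
      (∀ r : ℕ, r.Prime → r ∣ Nat.card M → r = p ∨ r = q) → q ∣ Nat.card M →
      centralizer (pCore p M : Set M) ≤ pCore p M → ∀ S : Sylow p M,
      ∃ K : Subgroup (S : Subgroup M), K.Characteristic ∧
        Moves q (K.map (S : Subgroup M).subtype) := by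
  intro n
  induction n with
  | zero =>
    intro M _ _ h
    exact absurd h (by simp [Nat.card_pos.ne'])
  | succ n ih =>
    intro M _ _ hn hps hpr hqM hC S
    set S' := (S : Subgroup M)
    set Z := omegaOne p (S' ⊓ centralizer (S' : Set M)) with hZ
    set L := centralizer (Z : Set M) with hL
    have hO := pPrimeCore_eq_bot_of_centralizer hC
    have hOS : pCore p M ≤ S' := pCore_le_sylow S
    have hSL : S' ≤ L := le_centralizer_iff.mp (omegaCenter_le_centralizer S')
    have hZe : IsElementaryAbelian p Z := isElementaryAbelian_omegaCenter S'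
    have hpS : p ∣ Nat.card S' := by
      obtain ⟨k, hk⟩ := S.isPGroup'.exists_card_eq
      refine hk ▸ dvd_pow_self p fun h0 => ?_
      have hS1 : S' = ⊥ := Subgroup.eq_bot_of_card_eq _ (by rw [hk, h0, pow_zero])
      have h1 : pCore p M = ⊥ := le_bot_iff.mp (hS1 ▸ hOS)
      rw [h1] at hC
      have h2 : (⊤ : Subgroup M) ≤ ⊥ := le_trans (fun x _ => mem_centralizer_iff.mpr fun y hy => by
        rw [mem_bot.mp hy, one_mul, mul_one]) hC
      rw [← card_top, le_bot_iff.mp h2, card_bot] at hqM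
      exact hq.out.ne_one (Nat.dvd_one.mp hqM)
    haveI : Nontrivial S' := Finite.one_lt_card_iff_nontrivial.mp
      (hp.out.one_lt.trans_le (Nat.le_of_dvd Nat.card_pos hpS))
    have hZne : Z ≠ ⊥ := by
      refine omegaOne_ne_bot (S.isPGroup'.to_le inf_le_left) fun h => ?_
      haveI := S.isPGroup'.center_nontrivial
      obtain ⟨⟨z, hz⟩, hz1⟩ := exists_ne (1 : center S')
      refine hz1 (Subtype.ext (Subtype.ext ?_))
      show (z : M) = 1
      rw [← mem_bot, ← h]
      refine ⟨z.2, mem_centralizer_iff.mpr fun s hs => ?_⟩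
      exact congrArg Subtype.val (mem_center_iff.mp hz ⟨s, hs⟩)
    by_cases hqL : q ∣ Nat.card L
    · -- pass to `C(Z)/Z`
      have hZL : Z ≤ L := le_centralizer_iff_isMulCommutative.mpr hZe.1
      set Z₁ := Z.subgroupOf L with hZ₁
      haveI : Z₁.Normal := ⟨fun z hz l => by
        show (l : M) * z * (l : M)⁻¹ ∈ Z
        rw [← mem_centralizer_iff.mp l.2 (z : M) hz, mul_inv_cancel_right]
        exact hz⟩
      set f := QuotientGroup.mk' Z₁ with hf
      have hfs := QuotientGroup.mk'_surjective Z₁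
      set S₁ := S.subtype hSL with hS₁
      set T := S₁.mapSurjective hfs with hT
      have hlt : Nat.card (L ⧸ Z₁) ≤ n := by
        have h2 : 1 < Nat.card Z₁ := by
          rw [hZ₁, Nat.card_congr (subgroupOfEquivOfLe hZL).toEquiv]
          exact (one_lt_card_iff_ne_bot _).mpr hZne
        have h3 := Z₁.card_mul_index
        rw [← index_eq_card]
        have h4 : 0 < Z₁.index := Nat.pos_of_ne_zero index_ne_zero_of_finite
        have h5 : Nat.card L ≤ Nat.card M := card_le_card_group L
        nlinarith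
      have hprZ : IsPGroup p Z₁ := fun z => ⟨1, Subtype.ext (Subtype.ext (by
        simpa using hZe.2 _ z.2))⟩
      have hC' : centralizer (pCore p (L ⧸ Z₁) : Set (L ⧸ Z₁)) ≤ pCore p (L ⧸ Z₁) := by
        have hk : ∀ x : L, f x ∈ centralizer (pCore p (L ⧸ Z₁) : Set (L ⧸ Z₁)) →
            (orderOf x).Coprime p → x = 1 := by
          intro x hx hxo
          refine Subtype.ext ?_
          have hxC : (x : M) ∈ pCore p M := by
            refine hC (mem_centralizer_iff.mpr fun h hh => ?_)
            have hhL : h ∈ L := hSL (hOS hh)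
            have h1 : f ⟨h, hhL⟩ ∈ pCore p (L ⧸ Z₁) :=
              Thompson.map_pCore_le_of_surjective f hfs
                ⟨⟨h, hhL⟩, Thompson.subgroupOf_pCore_le L hh, rfl⟩
            have h2 : f ⁅x, ⟨h, hhL⟩⁆ = 1 := by
              rw [map_commutatorElement, commutatorElement_eq_one_iff_mul_comm]
              exact (mem_centralizer_iff.mp hx _ h1).symm
            set z := ⁅(x : M), h⁆ with hz
            have hzZ : z ∈ Z := by
              have := (QuotientGroup.eq_one_iff _).mp h2
              exact this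
            have hconj : ∀ j : ℕ, (x : M) ^ j * h * ((x : M) ^ j)⁻¹ = z ^ j * h := by
              intro j
              induction j with
              | zero => simp
              | succ j ihj =>
                have hzx : (x : M) * z ^ j = z ^ j * x :=
                  (mem_centralizer_iff.mp x.2 _ (pow_mem hzZ j)).symm
                calc (x : M) ^ (j + 1) * h * ((x : M) ^ (j + 1))⁻¹
                    = (x : M) * ((x : M) ^ j * h * ((x : M) ^ j)⁻¹) * (x : M)⁻¹ := by
                      rw [pow_succ']; group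
                  _ = z ^ j * ((x : M) * h * (x : M)⁻¹) := by rw [ihj, ← mul_assoc, hzx]; group
                  _ = z ^ (j + 1) * h := by
                    rw [show (x : M) * h * (x : M)⁻¹ = z * h by rw [hz, commutatorElement_def]; group,
                      pow_succ, mul_assoc]
            have hz1 : z ^ orderOf x = 1 := by
              have h3 := hconj (orderOf x)
              rw [← Subgroup.coe_pow, pow_orderOf_eq_one] at h3
              simpa [right_eq_mul] using h3.symm
            have hz2 : z = 1 := orderOf_eq_one_iff.mp (Nat.eq_one_of_dvd_coprimes hxo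
              (orderOf_dvd_of_pow_eq_one hz1) (orderOf_dvd_of_pow_eq_one (hZe.2 z hzZ)))
            exact (commutatorElement_eq_one_iff_mul_comm.mp hz2).symm
          obtain ⟨k, hk⟩ := (isPGroup_pCore (p := p) (G := M)).exists_card_eq
          refine orderOf_eq_one_iff.mp (Nat.eq_one_of_dvd_coprimes (hxo.pow_right k) ?_ ?_)
          · rw [Subgroup.orderOf_coe]
          · rw [← hk, ← Subgroup.orderOf_mk _ hxC]; exact orderOf_dvd_natCard _
        refine le_pCore inferInstance ?_
        intro c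
        obtain ⟨x, hx⟩ := hfs c
        obtain ⟨a, m, hm, ho⟩ :=
          Nat.exists_eq_pow_mul_and_not_dvd (orderOf_pos x).ne' p hp.out.ne_one
        refine ⟨a, Subtype.ext ?_⟩
        have h1 : x ^ p ^ a = 1 := hk _ (by rw [map_pow, hx]; exact pow_mem c.2 _) (by
          refine Nat.Coprime.coprime_dvd_left (orderOf_dvd_of_pow_eq_one ?_)
            (hp.out.coprime_iff_not_dvd.mpr hm).symm
          rw [← pow_mul, ← ho, pow_orderOf_eq_one])
        push_cast
        rw [← hx, ← map_pow, h1, map_one]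
      have hqQ : q ∣ Nat.card (L ⧸ Z₁) := by
        obtain ⟨k, hk⟩ := hprZ.exists_card_eq
        rw [← Z₁.card_mul_index, hk] at hqL
        rw [← index_eq_card]
        exact (hq.out.dvd_mul.mp hqL).resolve_left fun h =>
          hpq.symm ((Nat.prime_dvd_prime_iff_eq hq.out hp.out).mp (hq.out.dvd_of_dvd_pow h))
      obtain ⟨K', hK', y', ⟨i, hy'⟩, hyn, hyc⟩ := ih (L ⧸ Z₁) hlt
        (isPSolvable_quotient Z₁ (isPSolvable_subgroup L hps))
        (fun r hr hd => hpr r hr ((hd.trans (index_eq_card (H := Z₁) ▸ index_dvd_card Z₁)).trans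
          (card_subgroup_dvd_card L))) hqQ hC' T
      -- the preimage in `S`
      let g : S' →* (T : Subgroup (L ⧸ Z₁)) :=
        (f.comp (Subgroup.inclusion hSL)).codRestrict _ fun s => by
          rw [hT, Sylow.coe_mapSurjective]
          exact mem_map_of_mem f (show Subgroup.inclusion hSL s ∈ (S₁ : Subgroup L) from s.2)
      have hgs : Function.Surjective g := by
        rintro ⟨t, ht⟩
        rw [hT, Sylow.coe_mapSurjective] at ht
        obtain ⟨l, hl, rfl⟩ := ht
        exact ⟨⟨l, hl⟩, Subtype.ext (congrArg f (Subtype.ext rfl))⟩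
      have hgker : g.ker = omegaOne p (center S') := by
        have h1 : g.ker = Z.subgroupOf S' := by
          ext s
          rw [MonoidHom.mem_ker, mem_subgroupOf, ← Subtype.coe_inj]
          exact (QuotientGroup.eq_one_iff _)
        rw [h1]
        refine map_injective S'.subtype_injective ?_
        rw [map_subgroupOf_eq_of_le (omegaCenter_le S'), map_omegaOne _ _
          (S'.subtype_injective.injOn)]
        congr 1
        ext z
        constructor
        · exact fun hz => ⟨⟨z, hz.1⟩, mem_center_iff.mpr fun s => Subtype.ext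
            (mem_centralizer_iff.mp hz.2 s s.2), rfl⟩
        · rintro ⟨w, hw, rfl⟩
          exact ⟨w.2, mem_centralizer_iff.mpr fun s hs =>
            congrArg Subtype.val (mem_center_iff.mp hw ⟨s, hs⟩)⟩
      haveI : g.ker.Characteristic := by
        rw [hgker, characteristic_iff_map_eq]
        intro φ
        rw [map_omegaOne _ _ φ.injective.injOn, characteristic_iff_map_eq.mp inferInstance φ]
      haveI := hK'
      refine ⟨K'.comap g, characteristic_comap g hgs K', ?_⟩
      obtain ⟨y₀, hy₀⟩ := hfs y'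
      obtain ⟨m, hm, hmy⟩ := exists_qPart (q := q) f (x := y₀) (i := i) (by rw [hy₀, hy'])
      rw [hy₀] at hmy
      set y := y₀ ^ m with hyd
      refine ⟨(y : M), ?_, ?_, fun hcy => hyc ?_⟩
      · obtain ⟨j, hj⟩ := hm
        exact ⟨j, by rw [← Subgroup.coe_pow, hj, OneMemClass.coe_one]⟩
      · refine mem_normalizer_iff_map_conj_eq.mpr (Subgroup.eq_of_le_of_card_ge ?_
          (Nat.card_congr (equivMapOfInjective _ _ (MulAut.conj (y : M)).injective).toEquiv).le)
        rintro _ ⟨_, ⟨s, hs, rfl⟩, rfl⟩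
        have hsl : f (y * Subgroup.inclusion hSL s * y⁻¹) ∈ K'.map (T : Subgroup (L ⧸ Z₁)).subtype := by
          rw [map_mul, map_mul, map_inv, hmy]
          exact Coprime.conj_mem_of_mem_normalizer hyn ⟨g s, hs, rfl⟩
        obtain ⟨t, ht, htf⟩ := hsl
        obtain ⟨s', hs'⟩ := hgs t
        have hmem : ((y * Subgroup.inclusion hSL s * y⁻¹ : L) : M) ∈ S' := by
          have h1 : f (Subgroup.inclusion hSL s') = f (y * Subgroup.inclusion hSL s * y⁻¹) := by
            rw [← htf, ← hs']; rfl
          have h2 := QuotientGroup.eq.mp h1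
          have h3 : ((Subgroup.inclusion hSL s' : L) : M)⁻¹ *
              ((y * Subgroup.inclusion hSL s * y⁻¹ : L) : M) ∈ Z := h2
          have h4 := mul_mem s'.2 (omegaCenter_le S' h3)
          rwa [coe_inclusion, mul_inv_cancel_left] at h4
        refine ⟨⟨_, hmem⟩, ?_, by simp⟩
        show g ⟨_, hmem⟩ ∈ K'
        have : g ⟨_, hmem⟩ = t := Subtype.ext htf.symm
        rwa [this]
      · rw [← hmy]
        refine mem_centralizer_iff.mpr ?_
        rintro _ ⟨t, ht, rfl⟩
        obtain ⟨s, rfl⟩ := hgs t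
        show f (Subgroup.inclusion hSL s) * f y = f y * f (Subgroup.inclusion hSL s)
        rw [← map_mul, ← map_mul]
        exact congrArg f (Subtype.ext (mem_centralizer_iff.mp hcy _ ⟨s, ht, rfl⟩))
    · -- `M = N(J(S))`
      have hLS : L = S' := by
        obtain ⟨k, hk⟩ : ∃ k, Nat.card L = p ^ k :=
          ⟨_, Nat.eq_prime_pow_of_unique_prime_dvd Nat.card_pos.ne' fun {r} hr hd =>
            (hpr r hr (hd.trans (card_subgroup_dvd_card L))).resolve_right fun h => hqL (h ▸ hd)⟩
        exact S.is_maximal' (IsPGroup.of_card hk) hSL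
      set J := thompsonSubgroupOf p S' with hJ
      have hJn : ∀ g : M, g ∈ normalizer (J : Set M) := by
        intro g
        obtain ⟨x, hx, c, hc, m, hm, rfl⟩ := factorizable hpq h23 hps hO hpr S g
        rw [hO, mem_bot] at hx
        subst hx
        rw [one_mul]
        refine mul_mem (normalizer_le_normalizer_thompsonSubgroupOf S'
          (Subgroup.le_normalizer (hLS ▸ (hc : c ∈ L)))) hm
      refine ⟨thompsonSubgroup p S', inferInstance, ?_⟩
      obtain ⟨y, hy⟩ := exists_prime_orderOf_dvd_card' q hqM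
      refine ⟨y, ⟨1, by rw [pow_one, ← hy, pow_orderOf_eq_one]⟩, hJn y, fun hcy => hqL ?_⟩
      have hZJ : Z ≤ J := fun z hz => by
        refine ⟨⟨z, omegaCenter_le S' hz⟩, mem_thompsonSubgroup_of_centralizes
          (mem_centralizer_iff.mpr fun s _ => Subtype.ext ?_) (Subtype.ext (hZe.2 z hz)), rfl⟩
        exact mem_centralizer_iff.mp (omegaCenter_le_centralizer S' hz) s s.2
      have hyL : y ∈ L := centralizer_le hZJ hcy
      rw [← hy, ← Subgroup.orderOf_mk y hyL]
      exact orderOf_dvd_natCard _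

/-- A prime divides the automizer order exactly when some element of that prime's power order
moves the subgroup. -/
theorem moves_iff {G : Type*} [Group G] [Finite G] [hq : Fact q.Prime] (H : Subgroup G) :
    q ∣ ((centralizer (H : Set G)).subgroupOf (normalizer (H : Set G))).index ↔ Moves q H := by
  set N := normalizer (H : Set G)
  set C := (centralizer (H : Set G)).subgroupOf N with hC
  rw [index_eq_card]
  constructor
  · intro h
    obtain ⟨c, hc⟩ := exists_prime_orderOf_dvd_card' q h
    obtain ⟨x, rfl⟩ := QuotientGroup.mk'_surjective C c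
    obtain ⟨m, ⟨j, hj⟩, hm⟩ := exists_qPart (q := q) (QuotientGroup.mk' C) (x := x) (i := 1)
      (by rw [pow_one, ← hc, pow_orderOf_eq_one])
    refine ⟨((x ^ m : N) : G), ⟨j, by rw [← Subgroup.coe_pow, hj, OneMemClass.coe_one]⟩,
      (x ^ m).2, fun hx => ?_⟩
    have h1 : QuotientGroup.mk' C (x ^ m) = 1 := (QuotientGroup.eq_one_iff _).mpr hx
    rw [hm] at h1
    rw [h1, orderOf_one] at hc
    exact hq.out.ne_one hc.symm
  · rintro ⟨y, ⟨i, hi⟩, hyN, hyC⟩
    set c := QuotientGroup.mk' C ⟨y, hyN⟩ with hc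
    have h1 : c ^ q ^ i = 1 := by
      rw [hc, ← map_pow, show (⟨y, hyN⟩ : N) ^ q ^ i = 1 from Subtype.ext hi, map_one]
    obtain ⟨k, -, hk⟩ := (Nat.dvd_prime_pow hq.out).mp (orderOf_dvd_of_pow_eq_one h1)
    rcases Nat.eq_zero_or_pos k with rfl | hk0
    · rw [pow_zero, orderOf_eq_one_iff] at hk
      exact absurd ((QuotientGroup.eq_one_iff _).mp hk) hyC
    · exact ((dvd_pow_self q hk0.ne').trans (dvd_of_eq hk.symm)).trans (orderOf_dvd_natCard c)

theorem Moves.conj {G : Type*} [Group G] {K : Subgroup G} (h : Moves q K) (g : G) :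
    Moves q (K.map (MulAut.conj g).toMonoidHom) := by
  obtain ⟨y, ⟨i, hi⟩, hn, hc⟩ := h
  refine ⟨MulAut.conj g y, ⟨i, by rw [← map_pow, hi, map_one]⟩, ?_, fun hy => hc ?_⟩
  · exact le_normalizer_map (MulAut.conj g).toMonoidHom (mem_map_of_mem _ hn)
  · exact mem_centralizer_iff.mpr fun k hk => (MulAut.conj g).injective (by
      rw [map_mul, map_mul]
      exact mem_centralizer_iff.mp hy _ ⟨k, hk, rfl⟩)

/-- The intersection of a Sylow subgroup with a normal subgroup is Sylow there. -/
theorem exists_sylow_inf_normal {G : Type*} [Group G] [Finite G] [hp : Fact p.Prime]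
    (T : Sylow p G) (L : Subgroup G) [L.Normal] :
    ∃ R : Sylow p L, (R : Subgroup L).map L.subtype = (T : Subgroup G) ⊓ L := by
  set T' := (T : Subgroup G)
  have hd : T'.relIndex L ∣ T'.index := by
    have h1 := Thompson.card_sup_mul_card_inf (H := L) (K := T')
      (le_top.trans_eq (normalizer_eq_top L).symm)
    have h2 : Nat.card T' * T'.relIndex (T' ⊔ L) = Nat.card ↥(T' ⊔ L) := by
      rw [← relIndex_bot_left, ← relIndex_bot_left,
        relIndex_mul_relIndex _ _ _ bot_le le_sup_left]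
    have h3 : Nat.card ↥(T' ⊓ L) * T'.relIndex L = Nat.card L := by
      rw [← inf_relIndex_right, ← relIndex_bot_left, ← relIndex_bot_left,
        relIndex_mul_relIndex _ _ _ bot_le inf_le_right]
    rw [sup_comm, inf_comm, ← h2, ← h3] at h1
    have h4 : T'.relIndex (T' ⊔ L) = T'.relIndex L := by
      have h5 : 0 < Nat.card T' * Nat.card ↥(T' ⊓ L) := Nat.mul_pos Nat.card_pos Nat.card_pos
      refine Nat.eq_of_mul_eq_mul_left h5 ?_
      calc Nat.card T' * Nat.card ↥(T' ⊓ L) * T'.relIndex (T' ⊔ L)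
          = Nat.card T' * T'.relIndex (T' ⊔ L) * Nat.card ↥(T' ⊓ L) := by ring
        _ = Nat.card ↥(T' ⊓ L) * T'.relIndex L * Nat.card T' := h1
        _ = Nat.card T' * Nat.card ↥(T' ⊓ L) * T'.relIndex L := by ring
    exact h4 ▸ relIndex_dvd_index_of_le le_sup_left
  refine ⟨(T.isPGroup'.comap_subtype (K := L)).toSylow
    fun h => T.not_dvd_index (h.trans hd), ?_⟩
  rw [IsPGroup.toSylow_coe]
  exact (subgroupOf_map_subtype _ _)

theorem frattini_moves {N : Type*} [Group N] [Finite N] [hp : Fact p.Prime] [hq : Fact q.Prime]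
    (T : Sylow p N) (H C : Subgroup N) [H.Normal] [C.Normal] (hHT : H ≤ T)
    {y : N} {i : ℕ} (hy : y ^ q ^ i = 1) (hyC : y ∉ C) :
    ∃ n : N, (∃ j, n ^ q ^ j = 1) ∧
      n ∈ normalizer (((T : Subgroup N) ⊓ (H ⊔ C) : Subgroup N) : Set N) ∧ n ∉ C := by
  obtain ⟨R, hR⟩ := exists_sylow_inf_normal T (H ⊔ C)
  have hf := Sylow.normalizer_sup_eq_top R
  rw [hR] at hf
  set R' := (T : Subgroup N) ⊓ (H ⊔ C)
  have hH : H ≤ normalizer (R' : Set N) :=
    (le_inf hHT le_sup_left).trans Subgroup.le_normalizer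
  have htop : normalizer (R' : Set N) ⊔ C = ⊤ := by
    rw [← hf, ← sup_assoc, sup_eq_left.mpr hH]
  obtain ⟨n, hn, c, hc, rfl⟩ := mem_sup_of_normal_right.mp (htop ▸ mem_top y)
  have hfy : QuotientGroup.mk' C (n * c) = QuotientGroup.mk' C n := by
    rw [map_mul, show QuotientGroup.mk' C c = 1 from (QuotientGroup.eq_one_iff c).mpr hc, mul_one]
  obtain ⟨m, hm, hmn⟩ := exists_qPart (q := q) (QuotientGroup.mk' C) (x := n) (i := i)
    (by rw [← hfy, ← map_pow, hy, map_one])
  refine ⟨n ^ m, hm, pow_mem hn m, fun h => hyC (mul_mem ?_ hc)⟩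
  exact (QuotientGroup.eq_one_iff n).mp (hmn.symm.trans ((QuotientGroup.eq_one_iff _).mpr h))

/-- A characteristic subgroup of a Sylow `p`-subgroup moved by a `q`-element, in a group with a
normal self-centralizing `p`-subgroup modulo the `p`-solvable automizer. -/
theorem exists_moved_local {N : Type u} [Group N] [Finite N] [hp : Fact p.Prime]
    [hq : Fact q.Prime] (hpq : p ≠ q) (h23 : ¬ ((p = 2 ∧ q = 3) ∨ (p = 3 ∧ q = 2)))
    (H C : Subgroup N) [H.Normal] [C.Normal] (hH : IsPGroup p H)
    (hC : C = centralizer (H : Set N)) (T : Sylow p N) (hTC : (T : Subgroup N) ⊓ C ≤ H)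
    (hsol : IsPSolvable p (N ⧸ C)) (hqN : q ∣ Nat.card (N ⧸ C)) :
    ∃ K : Subgroup (T : Subgroup N), K.Characteristic ∧
      Moves q (K.map (T : Subgroup N).subtype) := by
  set D := pPrimeCore p N
  have hHD : D ≤ C := hC ▸ pPrimeCore_le_centralizer_pCore.trans
    (centralizer_le (le_pCore inferInstance hH))
  have hPH : ∀ P : Subgroup N, IsPGroup p P → P ≤ C → P ≤ H := by
    intro P hP hPC
    obtain ⟨T₁, hT₁⟩ := hP.exists_le_sylow
    obtain ⟨g, hg⟩ := MulAction.exists_smul_eq N T T₁
    intro x hx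
    have hx1 : x ∈ (T₁ : Subgroup N) := hT₁ hx
    rw [← hg, coe_smul_sylow, mem_map] at hx1
    obtain ⟨t, ht, rfl⟩ := hx1
    have htC : t ∈ C := by
      simpa [mul_assoc] using Normal.conj_mem' ‹C.Normal› _ (hPC hx) g
    exact Normal.conj_mem inferInstance t (hTC ⟨ht, htC⟩) g
  have hCD : C ≤ D ⊔ H := by
    obtain ⟨P⟩ : Nonempty (Sylow p C) := inferInstance
    have hPle : (P : Subgroup C).map C.subtype ≤ H :=
      hPH _ (P.isPGroup'.map _) (map_subtype_le _)
    have hPc : normalizer ((P : Subgroup C) : Set C) ≤ centralizer ((P : Subgroup C) : Set C) :=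
      fun x _ => mem_centralizer_iff.mpr fun u hu => Subtype.ext
        (mem_centralizer_iff.mp (hC ▸ x.2 : (x : N) ∈ centralizer (H : Set N)) _
          (hPle ⟨u, hu, rfl⟩))
    have hcomp := MonoidHom.ker_transferSylow_isComplement' P hPc
    have hk : (MonoidHom.transferSylow P hPc).ker ≤ pPrimeCore p C :=
      le_pPrimeCore inferInstance
        (hp.out.coprime_iff_not_dvd.mpr (MonoidHom.not_dvd_card_ker_transferSylow P hPc)).symm
    intro c hc
    have hc' : (⟨c, hc⟩ : C) ∈ (MonoidHom.transferSylow P hPc).ker ⊔ (P : Subgroup C) := by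
      rw [hcomp.sup_eq_top]; exact mem_top _
    have h1 := mem_map_of_mem C.subtype hc'
    rw [Subgroup.map_sup] at h1
    exact sup_le_sup ((map_mono hk).trans (map_pPrimeCore_normal_le C)) hPle h1
  set f := QuotientGroup.mk' D
  have hfs : Function.Surjective f := QuotientGroup.mk'_surjective D
  have hX : IsPSolvable p (N ⧸ D) := by
    refine isPSolvable_of_quotient (C.map f) (Or.inl ((hH.map f).to_le ?_))
      (isPSolvable_of_equiv (QuotientGroup.quotientQuotientEquivQuotient D C hHD).symm hsol)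
    refine (map_mono hCD).trans ?_
    rw [Subgroup.map_sup, show D.map f = ⊥ from QuotientGroup.map_mk'_self D, bot_sup_eq]
  have hXO : pPrimeCore p (N ⧸ D) = ⊥ := pPrimeCore_quotient_pPrimeCore
  have hqX : q ∣ Nat.card (N ⧸ D) := by
    rw [← index_eq_card] at hqN ⊢
    exact hqN.trans (index_dvd_of_le hHD)
  obtain ⟨B, hTB, hqB, hB⟩ :=
    exists_two_prime_sub hpq _ (N ⧸ D) le_rfl hX (T.mapSurjective hfs) hqX
  have hCX := centralizer_pCore_le hX hXO
  have hPB : pCore p (N ⧸ D) ≤ B := (pCore_le_sylow _).trans hTB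
  have hCB : centralizer (pCore p B : Set B) ≤ pCore p B := by
    intro b hb
    refine subgroupOf_pCore_le B (hCX (mem_centralizer_iff.mpr fun x hx => ?_))
    exact congrArg Subtype.val
      (mem_centralizer_iff.mp hb ⟨x, hPB hx⟩ (subgroupOf_pCore_le B hx))
  set SB := (T.mapSurjective hfs).subtype hTB
  obtain ⟨K, hK, y, ⟨i, hi⟩, hyn, hyc⟩ :=
    exists_moved_char hpq h23 _ B le_rfl (isPSolvable_subgroup B hX) hB hqB hCB SB
  have hfT : ∀ t : (T : Subgroup N), f t ∈ ((T.mapSurjective hfs : Sylow p (N ⧸ D)) : Subgroup (N ⧸ D)) :=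
    fun t => by rw [Sylow.coe_mapSurjective]; exact mem_map_of_mem f t.2
  let g : (T : Subgroup N) →* (SB : Subgroup B) :=
    { toFun := fun t => ⟨⟨f t, hTB (hfT t)⟩, hfT t⟩
      map_one' := Subtype.ext (Subtype.ext (map_one f))
      map_mul' := fun a b => Subtype.ext (Subtype.ext (map_mul f (a : N) b)) }
  have hgs : Function.Surjective g := by
    rintro ⟨⟨x, hxB⟩, hx⟩
    have hx' : x ∈ (T : Subgroup N).map f := by rw [← Sylow.coe_mapSurjective hfs]; exact hx
    obtain ⟨t, ht, rfl⟩ := hx'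
    exact ⟨⟨t, ht⟩, rfl⟩
  haveI : g.ker.Characteristic := by
    have h1 : g.ker = ⊥ := by
      refine (eq_bot_iff_forall _).mpr fun t ht => Subtype.ext ?_
      have h2 : f t = 1 := congrArg (fun z : (SB : Subgroup B) => ((z : B) : N ⧸ D)) ht
      have h3 : (t : N) ∈ (T : Subgroup N) ⊓ D := ⟨t.2, (QuotientGroup.eq_one_iff _).mp h2⟩
      rwa [inf_eq_bot_of_isPGroup_of_coprime T.isPGroup' card_pPrimeCore_coprime, mem_bot] at h3
    rw [h1]
    infer_instance
  refine ⟨K.comap g, characteristic_comap g hgs K, ?_⟩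
  set K₀ := (K.comap g).map (T : Subgroup N).subtype with hK₀
  set Kb := K.map (SB : Subgroup B).subtype with hKb
  have hfK : ∀ s ∈ K₀, ∃ u ∈ Kb, (u : N ⧸ D) = f s := by
    rintro _ ⟨t, ht, rfl⟩
    exact ⟨_, mem_map_of_mem _ ht, rfl⟩
  have hKf : ∀ u ∈ Kb, ∃ s ∈ K₀, f s = (u : N ⧸ D) := by
    rintro _ ⟨k, hk, rfl⟩
    obtain ⟨t, rfl⟩ := hgs k
    exact ⟨t, ⟨t, hk, rfl⟩, rfl⟩
  obtain ⟨y₀, hy₀⟩ := hfs (y : N ⧸ D)
  set A := K₀.map (MulAut.conj y₀).toMonoidHom
  have hA : A ≤ D ⊔ K₀ := by
    rintro _ ⟨s, hs, rfl⟩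
    obtain ⟨u, hu, hus⟩ := hfK s hs
    obtain ⟨s', hs', hs''⟩ := hKf _ (Coprime.conj_mem_of_mem_normalizer hyn hu)
    have h1 : f s' = f (y₀ * s * y₀⁻¹) := by
      rw [hs'', map_mul, map_mul, map_inv, hy₀, ← hus]
      rfl
    have h2 : s'⁻¹ * (y₀ * s * y₀⁻¹) ∈ D := QuotientGroup.eq.mp h1
    show y₀ * s * y₀⁻¹ ∈ D ⊔ K₀
    rw [← mul_inv_cancel_left s' (y₀ * s * y₀⁻¹)]
    exact mul_mem (mem_sup_right hs') (mem_sup_left h2)
  have hAp : IsPGroup p A :=
    ((T.isPGroup'.to_le (map_subtype_le _)) : IsPGroup p K₀).map _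
  have hDn : (normalizer (D : Set N)) = ⊤ := normalizer_eq_top _
  obtain ⟨k, hk⟩ := hAp.exists_card_eq
  obtain ⟨d, hd, hdA⟩ := Coprime.exists_conj_le_of_le_sup A D K₀ (le_top.trans_eq hDn.symm)
    (le_top.trans_eq hDn.symm) (by rw [hk]; exact card_pPrimeCore_coprime.symm.pow_left k)
    (Or.inl (Coprime.isSolvable_of_isNilpotent' hAp.isNilpotent)) hA
  have hfn : f (d * y₀) = y := by
    rw [map_mul, show f d = 1 from (QuotientGroup.eq_one_iff d).mpr hd, one_mul, hy₀]
  have hnK : d * y₀ ∈ normalizer (K₀ : Set N) := by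
    refine mem_normalizer_iff_map_conj_eq.mpr (Subgroup.eq_of_le_of_card_ge ?_
      (Nat.card_congr (equivMapOfInjective _ _ (MulAut.conj (d * y₀)).injective).toEquiv).le)
    rintro _ ⟨s, hs, rfl⟩
    have := hdA (y₀ * s * y₀⁻¹) ⟨s, hs, rfl⟩
    simpa [mul_assoc] using this
  obtain ⟨m, hm, hmy⟩ := exists_qPart (q := q) f (x := d * y₀) (i := i)
    (by rw [hfn, ← Subgroup.coe_pow, hi, OneMemClass.coe_one])
  rw [hfn] at hmy
  refine ⟨(d * y₀) ^ m, hm, pow_mem hnK m, fun hcy => hyc (mem_centralizer_iff.mpr fun u hu => ?_)⟩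
  obtain ⟨s, hs, hsu⟩ := hKf u hu
  refine Subtype.ext ?_
  push_cast
  rw [← hsu, ← hmy, ← map_mul, ← map_mul]
  exact congrArg f (mem_centralizer_iff.mp hcy _ hs)

/-- A prime dividing some automizer of a `p`-subgroup divides the automizer of a normal subgroup
of a Sylow `p`-subgroup. -/
theorem exists_moved_normal_in_sylow {G : Type u} [Group G] [Finite G] [hp : Fact p.Prime]
    [hq : Fact q.Prime] (hpq : p ≠ q) (h23 : ¬ ((p = 2 ∧ q = 3) ∨ (p = 3 ∧ q = 2)))
    (hsol : ∀ H : Subgroup G, IsPGroup p ↥H →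
      IsPSolvable p (↥(normalizer (H : Set G)) ⧸
        (centralizer (H : Set G)).subgroupOf (normalizer (H : Set G))))
    (H₀ : Subgroup G) (hH₀ : IsPGroup p H₀) (hmov : Moves q H₀) (Gp : Sylow p G) :
    ∃ K : Subgroup G, K ≤ (Gp : Subgroup G) ∧ (Gp : Subgroup G) ≤ normalizer (K : Set G) ∧
      Moves q K := by
  set P := (Gp : Subgroup G) with hP
  let key : Subgroup G → ℕ := fun K =>
    Nat.card ↥(normalizer (K : Set G) ⊓ P) * (Nat.card P + 1) + Nat.card K
  have hne : {K : Subgroup G | K ≤ P ∧ Moves q K}.Nonempty := by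
    obtain ⟨P₁, hP₁⟩ := hH₀.exists_le_sylow
    obtain ⟨g, hg⟩ := MulAction.exists_smul_eq G P₁ Gp
    refine ⟨H₀.map (MulAut.conj g).toMonoidHom, ?_, hmov.conj g⟩
    rw [hP, ← hg, coe_smul_sylow]
    exact map_mono hP₁
  obtain ⟨H, ⟨hHP, hHm⟩, hmax⟩ := Set.exists_max_image _ key (Set.toFinite _) hne
  set N := normalizer (H : Set G) with hN
  have hmax₁ : ∀ K : Subgroup G, K ≤ P → Moves q K →
      Nat.card ↥(normalizer (K : Set G) ⊓ P) ≤ Nat.card ↥(N ⊓ P) := by
    intro K hK hKm
    by_contra hlt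
    have h1 : key K ≤ key H := hmax K ⟨hK, hKm⟩
    have h2 : Nat.card H ≤ Nat.card P := card_le_of_le hHP
    have h3 : (Nat.card ↥(N ⊓ P) + 1) * (Nat.card P + 1) ≤
        Nat.card ↥(normalizer (K : Set G) ⊓ P) * (Nat.card P + 1) :=
      Nat.mul_le_mul_right _ (by omega)
    rw [add_mul, one_mul] at h3
    simp only [key, ← hN] at h1
    omega
  have hH : IsPGroup p H := Gp.isPGroup'.to_le hHP
  have hHS : H ≤ N ⊓ P := le_inf Subgroup.le_normalizer hHP
  -- `S₀ := N ⊓ P` is a Sylow subgroup of `N`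
  obtain ⟨T, hT⟩ := ((Gp.isPGroup'.to_le (inf_le_right : N ⊓ P ≤ P)).comap_subtype (K := N)).exists_le_sylow
  set T' := (T : Subgroup N).map N.subtype with hT'
  have hS0 : T' = N ⊓ P := by
    refine (Subgroup.eq_of_le_of_card_ge (H := N ⊓ P) (K := T') (fun x hx => mem_map_of_mem N.subtype (hT (show (⟨x, hx.1⟩ : N) ∈ (N ⊓ P).comap N.subtype from hx))) ?_).symm
    obtain ⟨P₁, hP₁⟩ := (T.isPGroup'.map N.subtype).exists_le_sylow
    obtain ⟨g, hg⟩ := MulAction.exists_smul_eq G P₁ Gp
    have hsub : T'.map (MulAut.conj g).toMonoidHom ≤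
        normalizer ((H.map (MulAut.conj g).toMonoidHom : Subgroup G) : Set G) ⊓ P := by
      refine le_inf ((map_mono (map_subtype_le _)).trans (le_normalizer_map _)) ?_
      rw [hP, ← hg, coe_smul_sylow]
      exact map_mono hP₁
    have hHT : H ≤ T' := fun x hx =>
      mem_map_of_mem N.subtype (hT (show (⟨x, (hHS hx).1⟩ : N) ∈ (N ⊓ P).comap N.subtype from hHS hx))
    calc Nat.card T' = Nat.card (T'.map (MulAut.conj g).toMonoidHom) :=
          Nat.card_congr (equivMapOfInjective _ _ (MulAut.conj g).injective).toEquiv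
      _ ≤ _ := card_le_of_le hsub
      _ ≤ _ := hmax₁ _ ((map_mono hHT).trans (hsub.trans inf_le_right)) (hHm.conj g)
  set C := (centralizer (H : Set G)).subgroupOf N with hC
  set H' := H.subgroupOf N with hH'
  haveI : H'.Normal := normal_subgroupOf_of_le_normalizer le_rfl
  haveI : C.Normal := by infer_instance
  have hH'T : H' ≤ (T : Subgroup N) := fun x hx => hT ⟨x.2, hHP hx⟩
  -- no `S₀`-element outside `H` centralizes `H`
  have hTC : (T : Subgroup N) ⊓ C ≤ H' := by
    obtain ⟨y, ⟨i, hi⟩, hyN, hyC⟩ := hHm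
    obtain ⟨n, ⟨j, hj⟩, hnR, hnC⟩ := frattini_moves (q := q) T H' C hH'T (y := ⟨y, hyN⟩) (i := i)
      (Subtype.ext hi) hyC
    set R' := (T : Subgroup N) ⊓ (H' ⊔ C) with hR'
    set R := R'.map N.subtype with hR
    have hHR : H ≤ R := fun x hx =>
      ⟨⟨x, Subgroup.le_normalizer hx⟩, ⟨hH'T hx, mem_sup_left hx⟩, rfl⟩
    have hRP : R ≤ P := (map_mono inf_le_left).trans (hS0.trans_le inf_le_right)
    have hRm : Moves q R := ⟨(n : G), ⟨j, by rw [← Subgroup.coe_pow, hj, OneMemClass.coe_one]⟩,
      le_normalizer_map N.subtype (mem_map_of_mem _ hnR), fun h => hnC (centralizer_le hHR h)⟩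
    have hTR : (T : Subgroup N) ≤ normalizer (R' : Set N) :=
      Coprime.le_normalizer_inf Subgroup.le_normalizer (le_top.trans_eq (normalizer_eq_top _).symm)
    have hSR : N ⊓ P ≤ normalizer (R : Set G) ⊓ P := le_inf
      (hS0 ▸ (map_mono hTR).trans (le_normalizer_map N.subtype)) inf_le_right
    have h1 : key R ≤ key H := hmax R ⟨hRP, hRm⟩
    have h2 : Nat.card ↥(N ⊓ P) * (Nat.card P + 1) ≤
        Nat.card ↥(normalizer (R : Set G) ⊓ P) * (Nat.card P + 1) :=
      Nat.mul_le_mul_right _ (card_le_of_le hSR)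
    simp only [key, ← hN] at h1
    have hRH : H = R := Subgroup.eq_of_le_of_card_ge hHR (by omega)
    intro x hx
    show (x : G) ∈ H
    rw [hRH]
    exact ⟨x, ⟨hx.1, mem_sup_right hx.2⟩, rfl⟩
  by_cases hPN : P ≤ N
  · exact ⟨H, hHP, hPN, hHm⟩
  exfalso
  have hCc : C = centralizer (H' : Set N) := by
    ext x
    simp only [hC, mem_subgroupOf, mem_centralizer_iff]
    exact ⟨fun h z hz => Subtype.ext (h z hz),
      fun h z hz => congrArg Subtype.val (h ⟨z, Subgroup.le_normalizer hz⟩ hz)⟩
  obtain ⟨K, hK, hKm⟩ := exists_moved_local hpq h23 H' C hH.comap_subtype hCc T hTC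
    (hsol H hH) (by rw [← index_eq_card]; exact (moves_iff H).mpr hHm)
  set K₀ := (K.map (T : Subgroup N).subtype).map N.subtype with hK₀
  have hKP : K₀ ≤ P :=
    (map_mono (map_subtype_le _)).trans (hS0.trans_le inf_le_right)
  have hK₀m : Moves q K₀ := by
    obtain ⟨y, ⟨i, hi⟩, hn, hc⟩ := hKm
    refine ⟨(y : G), ⟨i, by rw [← Subgroup.coe_pow, hi, OneMemClass.coe_one]⟩,
      le_normalizer_map N.subtype (mem_map_of_mem _ hn), fun h => hc ?_⟩
    exact mem_centralizer_iff.mpr fun z hz => Subtype.ext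
      (mem_centralizer_iff.mp h _ (mem_map_of_mem N.subtype hz))
  -- the normalizer in `P` of `S₀` normalizes the characteristic subgroup
  haveI := hK
  let e : (T : Subgroup N) ≃* ↥(N ⊓ P) :=
    ((T : Subgroup N).equivMapOfInjective N.subtype N.subtype_injective).trans
      (MulEquiv.subgroupCongr hS0)
  haveI : e.symm.toMonoidHom.ker.Characteristic := by
    rw [(MonoidHom.ker_eq_bot_iff _).mpr e.symm.injective]
    infer_instance
  haveI : (K.map e.toMonoidHom).Characteristic := by
    rw [map_equiv_eq_comap_symm']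
    exact characteristic_comap e.symm.toMonoidHom e.symm.surjective K
  have hKe : (K.map e.toMonoidHom).map (N ⊓ P).subtype = K₀ := by
    rw [hK₀, Subgroup.map_map, Subgroup.map_map]
    rfl
  have hle : normalizer ((N ⊓ P : Subgroup G) : Set G) ⊓ P ≤
      normalizer (K₀ : Set G) ⊓ P :=
    inf_le_inf_right P (hKe ▸ Coprime.normalizer_le_normalizer_map _ _)
  have hlt : Nat.card ↥(N ⊓ P) < Nat.card ↥(normalizer ((N ⊓ P : Subgroup G) : Set G) ⊓ P) := by
    refine lt_of_le_of_ne (card_le_of_le (le_inf Subgroup.le_normalizer inf_le_right)) fun he => ?_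
    have heq : N ⊓ P = normalizer ((N ⊓ P : Subgroup G) : Set G) ⊓ P :=
      Subgroup.eq_of_le_of_card_ge (le_inf Subgroup.le_normalizer inf_le_right) he.ge
    haveI : Group.IsNilpotent P := Gp.isPGroup'.isNilpotent
    set S := (N ⊓ P).subgroupOf P with hS
    have hlt' : S < ⊤ := lt_of_le_of_ne le_top fun h =>
      hPN fun x hx => ((show (⟨x, hx⟩ : P) ∈ S by rw [h]; exact mem_top _) : x ∈ N ⊓ P).1
    refine (Group.normalizerCondition_of_isNilpotent S hlt').2 fun x hx => ?_
    show (x : G) ∈ N ⊓ P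
    rw [heq]
    refine ⟨?_, x.2⟩
    have := le_normalizer_map P.subtype (mem_map_of_mem P.subtype hx)
    rwa [hS, map_subgroupOf_eq_of_le inf_le_right] at this
  exact absurd (hmax₁ K₀ hKP hK₀m)
    (not_le.mpr (hlt.trans_le (card_le_of_le hle)))

end Cfsg.Agent.AutomizerPrime
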