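import Cfsg.Statements.S5083
import Cfsg.Agent.Lib.Fusion.Alperin

set_option autoImplicit false
open Cfsg

namespace Cfsg.Agent.S5083

/-- If F is a saturated fusion system over a finite p-group S in which Aut_F(P) is a p-group for every P ≤ S, then F is the inner fusion system of S (all its maps are conjugations by elements of S). -/
theorem result {Ω : Type*} [Group Ω] {S : Subgroup Ω} [Finite S] (p : ℕ) [Fact p.Prime] (hS : IsPGroup p S) (F : Cfsg.FusionSystem S) (hF : F.IsSaturated p) (h : ∀ P : Subgroup Ω, P ≤ S → IsPGroup p (F.autGroup P)) : F = Cfsg.innerFusionSystem S := by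
  refine Fusion.fusion_antisymm ?_ ?_
  · refine Fusion.le_of_autGroup_le hS hF _ fun P hP => ?_
    rcases hP with rfl | hP
    · intro α hα
      haveI := Fusion.finite_mulAut P
      obtain ⟨R, hR⟩ := (Fusion.fullyAutomized_of_fullyNormalized hS hF
        (Fusion.fullyNormalized_self (F := F))).2
      have htop : (⊤ : Subgroup ↥(F.autGroup P)) = (R : Subgroup ↥(F.autGroup P)) :=
        R.is_maximal' ((h P le_rfl).to_subgroup ⊤) le_top
      have hmem : (⟨α, hα⟩ : ↥(F.autGroup P)) ∈ (autInducedBy P P).subgroupOf (F.autGroup P) := by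
        rw [← hR, ← htop]; exact Subgroup.mem_top _
      exact Fusion.autInducedBy_le_autGroup le_rfl hmem
    · exfalso
      obtain ⟨hc, -, hn, E, hE⟩ := hP
      haveI := Fusion.finite_of_le hc.1
      haveI := Fusion.finite_mulAut P
      exact Fusion.not_exists_spe_of_isPGroup ((h P hc.1).to_quotient _) E hE
  · intro P φ hφ
    obtain ⟨hP, g, hg, hφg⟩ := hφ
    exact (Fusion.isMap_conj hP hg).mem_hom hφg

end Cfsg.Agent.S5083
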