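import Cfsg.Statements.S0924
import Cfsg.Agent.Lib.BlocksCore.SecondMain
import Cfsg.Agent.Lib.BlocksDefect.Basic

set_option autoImplicit false
open Cfsg

namespace Cfsg.Agent.S0924

/-- Let χ be an irreducible character of the finite group G and g ∈ G, and fix a maximal ideal M of the algebraic integers containing the prime p. If the p-part of g is contained in no defect group of the block of χ, then χ g = 0. -/
theorem result {G : Type*} [Group G] [Finite G] (p : ℕ) [Fact p.Prime] (M : Ideal Cfsg.AlgInt) (hM : Cfsg.IsPModular p M) (χ : Cfsg.IrrCharacter G) (g x : G) (hx : Cfsg.IsPPart p g x) (hD : ∀ D : Subgroup G, Cfsg.IsDefectGroup p M (Cfsg.blockOf M (χ : G → ℂ)) D → x ∉ D) : (χ : G → ℂ) g = 0 := by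
  haveI := Fintype.ofFinite G
  have := BlocksCore.isPrime hM
  have hB : Cfsg.IsPBlock M (Cfsg.blockOf M (χ : G → ℂ)) := BlocksCore.isPBlock_blockOf χ
  obtain ⟨D, hDd⟩ := BlocksDefect.exists_isDefectGroup hM hB
  refine BlocksCore.char_eq_zero_of_brauer hM hB (BlocksCore.mem_blockOf_self χ) hx fun c hc => ?_
  by_contra hno
  obtain ⟨y, -, -, ⟨k, hk⟩, -⟩ := hx
  have hQ : IsPGroup p (Subgroup.zpowers x) := IsPGroup.of_card (n := k) (by rw [Nat.card_zpowers, hk])
  have hcQ : c ∈ Subgroup.centralizer ((Subgroup.zpowers x : Subgroup G) : Set G) := by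
    rw [Subgroup.mem_centralizer_iff]
    rintro u hu
    obtain ⟨i, rfl⟩ := Subgroup.mem_zpowers_iff.mp hu
    exact ((show Commute x c from (Subgroup.mem_centralizer_singleton_iff.mp hc).symm).zpow_left i).eq
  obtain ⟨a, ha⟩ := BlocksDefect.subConj_defectGroup_of_coeff hM hB hDd hQ hcQ hno
  exact hD _ (BlocksDefect.isDefectGroup_map_conj hM hB hDd a⁻¹)
    (BlocksDefect.map_conj_inv_le ha (Subgroup.mem_zpowers x))

end Cfsg.Agent.S0924
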