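import Cfsg.Statements.S4733
import Cfsg.Agent.BC86.Deg
import Cfsg.Agent.Lib.BlocksCore.DefectZero
import Cfsg.Prelude.Def_BlockRank
import Mathlib.LinearAlgebra.Dimension.OrzechProperty

set_option autoImplicit false
open Cfsg

namespace Cfsg.Agent.S4733

/-- Let p be a prime, M a maximal ideal of the algebraic integers containing p, and B a p-block of the finite group G with k irreducible characters and p-regular rank l (the number of irreducible Brauer characters). Then l ≤ k, and the following are equivalent: B has defect 0; k = l = 1; k = l. -/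
theorem result {G : Type*} [Group G] [Finite G] (p : ℕ) [Fact p.Prime] (M : Ideal Cfsg.AlgInt) (hM : Cfsg.IsPModular p M) (B : Set (Cfsg.IrrCharacter G)) (hB : Cfsg.IsPBlock M B) : Cfsg.blockRank p B ≤ Nat.card B ∧ (Cfsg.blockDefect p B = 0 ↔ (Nat.card B = 1 ∧ Cfsg.blockRank p B = 1)) ∧ (Cfsg.blockDefect p B = 0 ↔ Nat.card B = Cfsg.blockRank p B) := by
  classical
  have := Fintype.ofFinite G
  have := BlocksCore.isPrime hM
  have hp : p.Prime := Fact.out
  set f : B → G → ℂ := fun χ => Cfsg.pRegularPart p ((χ : Cfsg.IrrCharacter G) : G → ℂ) with hf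
  have hrange : (fun χ : Cfsg.IrrCharacter G => Cfsg.pRegularPart p (χ : G → ℂ)) '' B
      = Set.range f := Set.image_eq_range _ _
  have hrank : Cfsg.blockRank p B = (Set.range f).finrank ℂ := by
    rw [Cfsg.blockRank, hrange]; rfl
  have hle : Cfsg.blockRank p B ≤ Nat.card B := by
    rw [hrank, Nat.card_eq_fintype_card]
    exact finrank_range_le_card f
  obtain ⟨χ₀, hχ₀⟩ := BlocksCore.isPBlock_nonempty hB
  have hfac : ∀ χ : Cfsg.IrrCharacter G,
      ¬ p ∣ Nat.card G / Cfsg.charDegree (χ : G → ℂ) ↔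
        (Nat.card G).factorization p ≤ (Cfsg.charDegree (χ : G → ℂ)).factorization p := by
    intro χ
    have hne : Nat.card G / Cfsg.charDegree (χ : G → ℂ) ≠ 0 :=
      (Nat.div_pos (Nat.le_of_dvd Nat.card_pos (BC86.degree_dvd_card χ))
        (BC86.charDegree_pos χ)).ne'
    rw [hp.dvd_iff_one_le_factorization hne, Nat.factorization_div (BC86.degree_dvd_card χ)]
    simp only [Finsupp.tsub_apply]
    omega
  have hd0 : Cfsg.blockDefect p B = 0 ↔ B = {χ₀} := by
    constructor
    · intro h
      rw [Cfsg.blockDefect, Nat.sub_eq_zero_iff_le] at h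
      have h2 : (Nat.card G).factorization p ≤ (Cfsg.charDegree (χ₀ : G → ℂ)).factorization p :=
        h.trans (Nat.sInf_le ⟨χ₀, hχ₀, rfl⟩)
      rw [BlocksCore.isPBlock_eq_of_mem hB (BlocksCore.isPBlock_blockOf χ₀) hχ₀
        (BlocksCore.mem_blockOf_self χ₀)]
      exact BlocksCore.blockOf_eq_singleton_of_not_dvd hM χ₀ ((hfac χ₀).mpr h2)
    · intro h
      have h1 : Cfsg.blockOf M (χ₀ : G → ℂ) = {χ₀} :=
        (BlocksCore.isPBlock_eq_of_mem hB (BlocksCore.isPBlock_blockOf χ₀) hχ₀
          (BlocksCore.mem_blockOf_self χ₀)).symm.trans h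
      have h2 := (hfac χ₀).mp ((BlocksCore.blockOf_eq_singleton_iff hM χ₀).mp h1)
      rw [Cfsg.blockDefect, h, Set.image_singleton, csInf_singleton]
      omega
  have hone : B = {χ₀} → Nat.card B = 1 ∧ Cfsg.blockRank p B = 1 := by
    intro h
    refine ⟨by rw [h]; simp, ?_⟩
    rw [Cfsg.blockRank, h, Set.image_singleton]
    refine finrank_span_singleton fun h0 => ?_
    have h1 := congrFun h0 1
    simp [Cfsg.pRegularPart, Cfsg.IsPRegular, hp.ne_one, CharCore.irr_apply_one_ne_zero] at h1
  have hzero : Nat.card B = Cfsg.blockRank p B → Cfsg.blockDefect p B = 0 := by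
    intro h
    rw [hrank, Nat.card_eq_fintype_card] at h
    have hind := linearIndependent_iff_card_eq_finrank_span.mpr h
    have hvan : ∀ y : G, p ∣ orderOf y → (χ₀ : G → ℂ) y = 0 := by
      intro y hy
      have hsum : ∑ χ : B, (starRingEnd ℂ) ((χ.1 : G → ℂ) y) • f χ = 0 := by
        funext x
        simp only [Finset.sum_apply, Pi.smul_apply, smul_eq_mul, Pi.zero_apply, hf,
          Cfsg.pRegularPart, Cfsg.IsPRegular]
        by_cases hx : p ∣ orderOf x
        · simp [hx]
        · simp only [hx, not_false_eq_true, if_true]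
          have h1 := BlocksCore.weakOrth hM hB hx hy
          rw [← finsum_set_coe_eq_finsum_mem, finsum_eq_sum_of_fintype] at h1
          rw [← h1]
          exact Finset.sum_congr rfl fun χ _ => mul_comm _ _
      have := Fintype.linearIndependent_iff.mp hind _ hsum ⟨χ₀, hχ₀⟩
      simpa using this
    rw [hd0]
    rw [BlocksCore.isPBlock_eq_of_mem hB (BlocksCore.isPBlock_blockOf χ₀) hχ₀
      (BlocksCore.mem_blockOf_self χ₀)]
    refine (BlocksCore.blockOf_eq_singleton_iff hM χ₀).mpr
      (BlocksCore.not_dvd_of_vanishes χ₀ fun g hg ⟨k, hk⟩ => hvan g ?_)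
    rcases Nat.eq_zero_or_pos k with rfl | hk0
    · exact absurd (orderOf_eq_one_iff.mp (by simpa using hk)) hg
    · exact hk ▸ dvd_pow_self p hk0.ne'
  exact ⟨hle, ⟨fun h => hone (hd0.mp h), fun h => hzero (h.1.trans h.2.symm)⟩,
    ⟨fun h => (hone (hd0.mp h)).1.trans (hone (hd0.mp h)).2.symm, hzero⟩⟩

end Cfsg.Agent.S4733
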