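import Cfsg.Statements.S0916
import Cfsg.Agent.Lib.BlocksDefect.SylowCent
import Mathlib.GroupTheory.Nilpotent

set_option autoImplicit false
open Cfsg

namespace Cfsg.Agent.S0916

/-- Let P be a p-subgroup of the finite group G, C its centralizer and N its normalizer. Say that a conjugacy class (of G, or of N) has defect group P when P is a Sylow p-subgroup of the centralizer (in G, respectively in N) of some element of the class. Then: (i) if the class of g in G has defect group P, the elements of that class lying in C form a single N-class, again with defect group P; (ii) every N-class with defect group P arises this way from exactly one G-class with defect group P. -/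
theorem result {G : Type*} [Group G] [Finite G] (p : ℕ) [Fact p.Prime] (P : Subgroup G) (hP : IsPGroup p P) : (∀ g : G, (∃ S : Sylow p (Subgroup.centralizer ({g} : Set G)), (S : Subgroup (Subgroup.centralizer ({g} : Set G))).map (Subgroup.centralizer ({g} : Set G)).subtype = P) → (∃ c : G, IsConj g c ∧ c ∈ Subgroup.centralizer (P : Set G)) ∧ (∀ c₁ c₂ : G, IsConj g c₁ → IsConj g c₂ → c₁ ∈ Subgroup.centralizer (P : Set G) → c₂ ∈ Subgroup.centralizer (P : Set G) → ∃ n ∈ Subgroup.normalizer (P : Set G), n * c₁ * n⁻¹ = c₂)) ∧ (∀ c : G, c ∈ Subgroup.centralizer (P : Set G) → (∃ S : Sylow p (Subgroup.centralizer ({c} : Set G) ⊓ Subgroup.normalizer (P : Set G) : Subgroup G), (S : Subgroup ↥(Subgroup.centralizer ({c} : Set G) ⊓ Subgroup.normalizer (P : Set G))).map (Subgroup.centralizer ({c} : Set G) ⊓ Subgroup.normalizer (P : Set G)).subtype = P) → ∃ S : Sylow p (Subgroup.centralizer ({c} : Set G)), (S : Subgroup (Subgroup.centralizer ({c} : Set G))).map (Subgroup.centralizer ({c} : Set G)).subtype = P) := by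
  classical
  refine ⟨?_, ?_⟩
  · intro g hg
    have hg' : BlocksDefect.IsSylowCent p g P := hg
    refine ⟨⟨g, IsConj.refl g, hg'.mem_centralizer⟩, ?_⟩
    have key : ∀ c : G, IsConj g c → c ∈ Subgroup.centralizer (P : Set G) →
        ∃ n ∈ Subgroup.normalizer (P : Set G), n * g * n⁻¹ = c := by
      intro c hc hcP
      obtain ⟨x, rfl⟩ := isConj_iff.mp hc
      have hS := hg'.map_conj x
      obtain ⟨y, hy, hy2⟩ := hS.exists_map_conj_le hP
        (BlocksDefect.le_centralizer_singleton_iff.mpr hcP)
      have heq := Subgroup.eq_of_le_of_card_ge hy2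
        (by rw [BlocksDefect.natCard_map_conj, BlocksDefect.natCard_map_conj])
      have h3 := congrArg (fun Q => Subgroup.map (MulAut.conj y⁻¹).toMonoidHom Q) heq
      simp only [BlocksDefect.map_conj_map_conj, inv_mul_cancel, BlocksDefect.map_conj_one] at h3
      refine ⟨y⁻¹ * x, ?_, ?_⟩
      · rw [Subgroup.mem_normalizer_iff]
        intro u
        conv_rhs => rw [h3, BlocksDefect.map_conj_mem_iff]
        rw [show (y⁻¹ * x)⁻¹ * (y⁻¹ * x * u * (y⁻¹ * x)⁻¹) * (y⁻¹ * x) = u by group]
      · have hy' : y * (x * g * x⁻¹) = x * g * x⁻¹ * y := Subgroup.mem_centralizer_singleton_iff.mp hy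
        calc y⁻¹ * x * g * (y⁻¹ * x)⁻¹ = y⁻¹ * (x * g * x⁻¹ * y) := by group
          _ = x * g * x⁻¹ := by rw [← hy', inv_mul_cancel_left]
    intro c₁ c₂ h₁ h₂ hc₁ hc₂
    obtain ⟨n₁, hn₁, e₁⟩ := key c₁ h₁ hc₁
    obtain ⟨n₂, hn₂, e₂⟩ := key c₂ h₂ hc₂
    refine ⟨n₂ * n₁⁻¹, mul_mem hn₂ (inv_mem hn₁), ?_⟩
    rw [← e₁, ← e₂]
    group
  · intro c hc hS
    set L := Subgroup.centralizer ({c} : Set G) ⊓ Subgroup.normalizer (P : Set G) with hL
    obtain ⟨S, hSP⟩ := hS
    have hPc : P ≤ Subgroup.centralizer ({c} : Set G) :=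
      BlocksDefect.le_centralizer_singleton_iff.mpr hc
    obtain ⟨Q, hQ⟩ := (hP.comap_of_injective (Subgroup.centralizer ({c} : Set G)).subtype
      Subtype.val_injective).exists_le_sylow
    set Q' := (Q : Subgroup (Subgroup.centralizer ({c} : Set G))).map
      (Subgroup.centralizer ({c} : Set G)).subtype with hQ'
    have hPQ : P ≤ Q' := by
      refine le_trans ?_ (Subgroup.map_mono hQ)
      rw [← Subgroup.subgroupOf, Subgroup.map_subgroupOf_eq_of_le hPc]
    refine ⟨Q, ?_⟩
    by_contra hne
    have hQp : IsPGroup p Q' := Q.isPGroup'.map _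
    haveI : Group.IsNilpotent Q' := hQp.isNilpotent
    have hlt : P.subgroupOf Q' < ⊤ := lt_top_iff_ne_top.mpr fun h =>
      hne (le_antisymm (Subgroup.subgroupOf_eq_top.mp h) hPQ)
    obtain ⟨q, hq, hqP⟩ := SetLike.exists_of_lt
      (normalizerCondition_of_isNilpotent (P.subgroupOf Q') hlt)
    have hqN : (q : G) ∈ Subgroup.normalizer (P : Set G) := by
      rw [Subgroup.mem_normalizer_iff]
      intro u
      constructor
      · intro hu
        have h := (Subgroup.mem_normalizer_iff.mp hq ⟨u, hPQ hu⟩).mp hu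
        exact h
      · intro hu
        have hmem : u ∈ Q' := by
          have h5 := Q'.mul_mem (Q'.mul_mem (Q'.inv_mem q.2) (hPQ hu)) q.2
          simpa [mul_assoc] using h5
        exact (Subgroup.mem_normalizer_iff.mp hq ⟨u, hmem⟩).mpr hu
    set R := Q' ⊓ L with hR
    have hPR : P ≤ R := le_inf hPQ (le_inf hPc (fun u hu => Subgroup.le_normalizer hu))
    have hqR : (q : G) ∈ R := ⟨q.2, Subgroup.map_subtype_le _ q.2, hqN⟩
    have hRp : IsPGroup p R := hQp.to_le inf_le_left
    obtain ⟨T, hT⟩ := (hRp.comap_of_injective L.subtype Subtype.val_injective).exists_le_sylow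
    have hle : Nat.card R ≤ Nat.card P := by
      have h1 : Nat.card R = Nat.card (R.comap L.subtype) :=
        (Nat.card_congr (Subgroup.subgroupOfEquivOfLe inf_le_right).toEquiv).symm
      rw [h1, ← hSP, Nat.card_congr ((S : Subgroup L).equivMapOfInjective L.subtype
        Subtype.val_injective).toEquiv.symm, S.card_eq_multiplicity, ← T.card_eq_multiplicity]
      exact Subgroup.card_le_of_le hT
    exact hqP ((Subgroup.eq_of_le_of_card_ge hPR hle) ▸ hqR : (q : G) ∈ P)

end Cfsg.Agent.S0916
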