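import Cfsg.Statements.S4428
import Cfsg.Agent.Lib.BlocksCore.Height
import Cfsg.Agent.Lib.CharCore.Complete
import Cfsg.Agent.Lib.BlocksDefect.Induced
import Cfsg.Agent.Lib.BlocksCore.Inflate

set_option autoImplicit false
open Cfsg Cfsg.Agent Cfsg.Agent.BlocksDefect Cfsg.Agent.BlocksCore

namespace Cfsg.Agent.S4428

/-- Let χ be an irreducible character of height zero in the p-block B of the finite group G (relative to a maximal ideal M of the algebraic integers containing p). Let x be a p-element of G with centralizer C, and let b be a block of C that induces B. Form the class function ϑ(c) = χ(x c) on C and its b-part (the sum over ψ ∈ b of the inner product of ϑ with ψ, times ψ). Then the b-part of ϑ does not vanish identically on the p-regular elements of C. (Compare the second main Theorem, which gives vanishing when b does not induce B.) -/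
theorem result {G : Type*} [Group G] [Finite G] (p : ℕ) [Fact p.Prime] (M : Ideal Cfsg.AlgInt) (hM : Cfsg.IsPModular p M) (B : Set (Cfsg.IrrCharacter G)) (hB : Cfsg.IsPBlock M B) (χ : Cfsg.IrrCharacter G) (hχ : χ ∈ B) (h0 : Cfsg.blockHeight p B (χ : G → ℂ) = 0) (x : G) (hx : ∃ k : ℕ, orderOf x = p ^ k) (b : Set (Cfsg.IrrCharacter (Subgroup.centralizer ({x} : Set G)))) (hb : Cfsg.IsInducedBlock M (Subgroup.centralizer ({x} : Set G)) b B) : ∃ y : Subgroup.centralizer ({x} : Set G), ¬ p ∣ orderOf y ∧ Cfsg.blockPart b (fun c : Subgroup.centralizer ({x} : Set G) => (χ : G → ℂ) (x * (c : G))) y ≠ 0 := by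
  classical
  have := isPrime hM
  have := Fintype.ofFinite G
  have := Fintype.ofFinite (Subgroup.centralizer ({x} : Set G))
  obtain ⟨k, hk⟩ := hx
  have hcx : ∀ c : (Subgroup.centralizer ({x} : Set G)), (c : G) * x = x * c := fun c => mem_centralizer_singleton.mp c.2
  set ϑ : (Subgroup.centralizer ({x} : Set G)) → ℂ := fun c => (χ : G → ℂ) (x * (c : G)) with hϑ
  have hϑc : IsClassFunction (Subgroup.centralizer ({x} : Set G)) ϑ := fun c d => by
    simp only [hϑ, Subgroup.coe_mul, InvMemClass.coe_inv]
    rw [← irr_class χ (x * (c : G)) (d : G)]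
    congr 1
    rw [← mul_assoc, ← mul_assoc, ← mul_assoc, hcx d]
  obtain ⟨ξ, hξ⟩ := isPBlock_nonempty hb.1
  by_contra hno
  push Not at hno
  have h1 : omega (ξ : (Subgroup.centralizer ({x} : Set G)) → ℂ) (regInv p ϑ) = 0 := by
    have hsub : ∀ v : (Subgroup.centralizer ({x} : Set G)) → ℂ, regInv p v = fun c => if p ∣ orderOf c then 0 else v c⁻¹ :=
      fun v => rfl
    have hdec : regInv p ϑ = ∑ θ : IrrCharacter (Subgroup.centralizer ({x} : Set G)),
        classInner ϑ (θ : (Subgroup.centralizer ({x} : Set G)) → ℂ) • regInv p (θ : (Subgroup.centralizer ({x} : Set G)) → ℂ) := by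
      funext c
      simp only [hsub, Finset.sum_apply, Pi.smul_apply, smul_eq_mul]
      by_cases hc : p ∣ orderOf c
      · simp [hc]
      · simp only [hc, if_false]
        conv_lhs => rw [CharCore.eq_sum_classInner hϑc]
        simp
    have hpart : regInv p (blockPart b ϑ) = ∑ θ : IrrCharacter (Subgroup.centralizer ({x} : Set G)),
        if θ ∈ b then classInner ϑ (θ : (Subgroup.centralizer ({x} : Set G)) → ℂ) • regInv p (θ : (Subgroup.centralizer ({x} : Set G)) → ℂ) else 0 := by
      funext c
      simp only [hsub, Finset.sum_apply, ite_apply, Pi.smul_apply, smul_eq_mul, Pi.zero_apply]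
      by_cases hc : p ∣ orderOf c
      · simp [hc]
      · simp only [hc, if_false, blockPart, finsum_mem_def, finsum_eq_sum_of_fintype,
          Set.indicator_apply]
        exact Finset.sum_congr rfl fun θ _ => by
          by_cases h : θ ∈ b
          · simp [h]
            left
            congr!
          · simp [h]
    have hzero : regInv p (blockPart b ϑ) = 0 := by
      funext c
      simp only [hsub, Pi.zero_apply]
      split_ifs with hc
      · rfl
      · exact hno c⁻¹ (by rwa [orderOf_inv])
    rw [hdec, omega_sum]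
    refine Eq.trans ?_ (((congrArg (omega (ξ : (Subgroup.centralizer ({x} : Set G)) → ℂ)) hpart).symm.trans
      (congrArg _ hzero)).trans (omega_zero _))
    rw [omega_sum]
    refine Finset.sum_congr rfl fun θ _ => ?_
    by_cases hθ : θ ∈ b
    · rw [if_pos hθ]
    · rw [if_neg hθ, omega_zero, omega_smul]
      have h0 := regPair_eq_zero hM (χ := ξ) (θ := θ) (fun h => hθ (by
        rw [isPBlock_eq_blockOf hb.1 hξ]; exact h))
      rw [regPair] at h0
      rw [h0, mul_zero]
  have hI := isIntClassFun_regInv (p := p) (M := M) χ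
  have hres : IsClassFunction (Subgroup.centralizer ({x} : Set G)) (res (Subgroup.centralizer ({x} : Set G)) (regInv p (χ : G → ℂ))) := isClassFunction_res (Subgroup.centralizer ({x} : Set G)) hI.1
  have h2 : MemLocalIdeal M (omega (ξ : (Subgroup.centralizer ({x} : Set G)) → ℂ)
      (regInv p ϑ + (-1 : ℂ) • res (Subgroup.centralizer ({x} : Set G)) (regInv p (χ : G → ℂ)))) := by
    refine omega_memLocalIdeal ξ (fun c d => ?_) fun c => ?_
    · simp only [Pi.add_apply, Pi.smul_apply, hres c d, isClassFunction_regInv hϑc c d]
    · simp only [Pi.add_apply, Pi.smul_apply, regInv, res, Subgroup.orderOf_coe, smul_eq_mul]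
      split_ifs with hc
      · simp [memLocalIdeal_zero]
      · simp only [hϑ, InvMemClass.coe_inv]
        rw [neg_one_mul, ← sub_eq_add_neg]
        exact char_mul_sub_memLocalIdeal hM χ ((show Commute (c : G) x from hcx c).inv_left.symm)
          hk (by rwa [orderOf_inv, Subgroup.orderOf_coe])
  rw [omega_add, omega_smul, h1, zero_add] at h2
  refine (regPair_unit_iff hM hB hχ hχ).mpr h0 ?_
  have h3 := omega_induced hM hb hξ hχ hI
  have h4 := memLocalIdeal_neg (memLocalIdeal_add h2 h3)
  simpa [regPair] using h4

end Cfsg.Agent.S4428
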