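import Cfsg.Statements.S4937
import Cfsg.Agent.Blocks88.RelativeOmega
import Cfsg.Agent.Lib.CharCore.Linear
import Mathlib.RingTheory.Polynomial.Cyclotomic.Basic
-- import your own Cfsg.Agent.* helpers here

set_option autoImplicit false
open Cfsg

namespace Cfsg.Agent.S4937

open BlocksCore Blocks88

variable {G : Type*} [Group G] {p : ℕ} {M : Ideal AlgInt}

/-- Roots of unity of order prime to `p` congruent modulo `M` are equal. -/
theorem eq_of_congr (hM : IsPModular p M) {q : ℕ} (hq : ¬ p ∣ q) {a b : ℂ}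
    (ha : a ^ q = 1) (hb : b ^ q = 1) (h : MemLocalIdeal M (b - a)) : a = b := by
  have := isPrime hM
  have hq0 : q ≠ 0 := fun h0 => hq (h0 ▸ dvd_zero p)
  have hint : ∀ z : ℂ, z ^ q = 1 → IsIntegral ℤ z := fun z hz =>
    IsIntegral.of_pow (Nat.pos_of_ne_zero hq0) (hz ▸ isIntegral_one)
  have haa : a * a ^ (q - 1) = 1 := by rw [← pow_succ', Nat.sub_add_cancel (Nat.pos_of_ne_zero hq0), ha]
  let z : AlgInt := ⟨b * a ^ (q - 1), (hint b hb).mul ((hint a ha).pow _)⟩
  have hz : z ^ q = 1 := Subtype.ext (by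
    show (b * a ^ (q - 1)) ^ q = 1
    rw [mul_pow, hb, ← pow_mul, mul_comm (q - 1), pow_mul, ha, one_pow, one_mul])
  have hz1 : z = 1 := eq_one_of_sub_one_mem hM hq hz ((memLocalIdeal_coe_iff _).mp (by
    have h2 := memLocalIdeal_mul_right h (memLocalRing_of_isIntegral ((hint a ha).pow (q - 1)))
    rw [sub_mul, haa] at h2
    simpa [z] using h2))
  have h3 : b * a ^ (q - 1) = 1 := congrArg Subtype.val hz1
  calc a = (b * a ^ (q - 1)) * a := by rw [h3, one_mul]
    _ = b * (a * a ^ (q - 1)) := by ring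
    _ = b := by rw [haa, mul_one]

/-- A unit whose `|G|`-th power is congruent to one is congruent to a root of unity of order
prime to `p`. -/
theorem exists_root (hM : IsPModular p M) [Fact p.Prime] {z : ℂ} (hz : MemLocalRing M z) {N : ℕ}
    (hN : N ≠ 0) (h : MemLocalIdeal M (z ^ N - 1)) :
    ∃ ζ : ℂ, ζ ^ (N / p ^ N.factorization p) = 1 ∧ MemLocalIdeal M (z - ζ) := by
  classical
  have := isPrime hM
  set q := N / p ^ N.factorization p with hq
  have hqp : 0 < q := Nat.ordCompl_pos p hN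
  have hsplit : q * p ^ N.factorization p = N := by
    rw [mul_comm]; exact Nat.ordProj_mul_ordCompl_eq_self N p
  have h1 : MemLocalIdeal M (z ^ q - 1) := by
    have := charP_residue hM
    let zz : localRing M := ⟨z, hz⟩
    have e : Ideal.Quotient.mk (localIdeal M) (zz ^ N - 1) = 0 :=
      Ideal.Quotient.eq_zero_iff_mem.mpr h
    rw [map_sub, map_pow, map_one, ← hsplit, pow_mul, ← one_pow (p ^ N.factorization p),
      ← sub_pow_char_pow] at e
    have e2 := pow_eq_zero_iff (pow_ne_zero _ (Fact.out : p.Prime).ne_zero) |>.mp e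
    rw [← map_pow, ← map_one (Ideal.Quotient.mk (localIdeal M)), ← map_sub,
      Ideal.Quotient.eq_zero_iff_mem] at e2
    exact e2
  have hprim := Complex.isPrimitiveRoot_exp q hqp.ne'
  have heq := congrArg (Polynomial.eval z) (Polynomial.X_pow_sub_one_eq_prod hqp hprim)
  simp only [Polynomial.eval_sub, Polynomial.eval_pow, Polynomial.eval_X, Polynomial.eval_one,
    Polynomial.eval_prod, Polynomial.eval_C] at heq
  rw [heq] at h1
  have key : ∀ S : Finset ℂ, (∀ ζ ∈ S, ζ ^ q = 1) → MemLocalIdeal M (∏ ζ ∈ S, (z - ζ)) →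
      ∃ ζ : ℂ, ζ ^ q = 1 ∧ MemLocalIdeal M (z - ζ) := by
    intro S
    induction S using Finset.induction with
    | empty => intro _ h; exact absurd (by simpa using h) not_memLocalIdeal_one
    | insert a S ha ih =>
      intro hS h
      rw [Finset.prod_insert ha] at h
      have hint : ∀ ζ ∈ insert a S, MemLocalRing M (z - ζ) := fun ζ hζ =>
        (localRing M).sub_mem hz (memLocalRing_of_isIntegral
          (IsIntegral.of_pow hqp (hS ζ hζ ▸ isIntegral_one)))
      rcases memLocalIdeal_mem_or_mem (hint a (Finset.mem_insert_self a S))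
        (memLocalRing_prod fun ζ hζ => hint ζ (Finset.mem_insert_of_mem hζ)) h with h | h
      · exact ⟨a, hS a (Finset.mem_insert_self a S), h⟩
      · exact ih (fun ζ hζ => hS ζ (Finset.mem_insert_of_mem hζ)) h
  exact key _ (fun ζ hζ => (Polynomial.mem_nthRootsFinset hqp (1 : ℂ)).mp hζ) h1

/-- A representation which is irreducible on the image of a homomorphism is irreducible. -/
theorem irreducible_of_restrict {K L : Type*} [Group K] [Group L] {n : ℕ}
    (σ : Representation ℂ K (Fin n → ℂ)) (φ : L →* K)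
    (h : Representation.IsIrreducible (σ.comp φ : Representation ℂ L (Fin n → ℂ))) :
    σ.IsIrreducible :=
  { exists_pair_ne := ⟨⊥, ⊤, fun he => by
      exact (bot_ne_top : (⊥ : Subrepresentation (σ.comp φ : Representation ℂ L (Fin n → ℂ))) ≠ ⊤)
        (Subrepresentation.toSubmodule_injective (congrArg Subrepresentation.toSubmodule he :))⟩
    eq_bot_or_eq_top := fun S => by
      have hbot : ∀ x : Subrepresentation (σ.comp φ : Representation ℂ L (Fin n → ℂ)), x = ⊥ ∨ x = ⊤ :=
        IsSimpleOrder.eq_bot_or_eq_top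
      rcases hbot ⟨S.toSubmodule, fun g v hv => S.apply_mem_toSubmodule (φ g) hv⟩ with h | h
      · exact Or.inl (Subrepresentation.toSubmodule_injective
          (congrArg Subrepresentation.toSubmodule h :))
      · exact Or.inr (Subrepresentation.toSubmodule_injective
          (congrArg Subrepresentation.toSubmodule h :)) }

/-- The principal block criterion for the extension. -/
theorem mem_principal [Fintype G] {N : Subgroup G} [N.Normal] [Fact p.Prime] {n : ℕ}
    (ρ : Representation ℂ G (Fin n → ℂ))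
    [hirr : Representation.IsIrreducible (ρ.comp N.subtype : Representation ℂ N (Fin n → ℂ))]
    (hM : IsPModular p M) (hpr : PrincipalOn M ρ N) {Q : Subgroup (conjN N)} (hQ : IsPGroup p Q)
    (h1 : ∀ x ∈ Fix Q, MemLocalIdeal M (ratio ρ x - 1))
    {K : Type*} [Group K] [Finite K] (ι : K →* G) (hι : Function.Injective ι) (hN : N ≤ ι.range) :
    ∃ ξ : IrrCharacter K, ξ ∈ principalBlock M K ∧ ∀ y, (ξ : K → ℂ) y = ρ.character (ι y) := by
  classical
  have := isPrime hM
  have := Fintype.ofFinite K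
  let φ : N →* K := (MonoidHom.ofInjective hι).symm.toMonoidHom.comp (Subgroup.inclusion hN)
  have hφ : ∀ a : N, ι (φ a) = a := fun a => MonoidHom.apply_ofInjective_symm hι ⟨(a : G), hN a.2⟩
  let σ : Representation ℂ K (Fin n → ℂ) := ρ.comp ι
  have hσ : σ.IsIrreducible := irreducible_of_restrict σ φ (by
    have e : (σ.comp φ : Representation ℂ N (Fin n → ℂ)) = ρ.comp N.subtype :=
      MonoidHom.ext fun a => congrArg ρ (hφ a)
    rw [e]; exact hirr)
  let ξ : IrrCharacter K := ⟨σ.character, CharCore.isIrrCharacter_character σ⟩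
  refine ⟨ξ, fun y => ?_, fun y => rfl⟩
  have hc : ∀ f : K → ℂ, IsClassFunction K f → centralChar f y =
      (∑ j ∈ Finset.univ.filter (fun j => IsConj y j), f j) / f 1 := by
    intro f hf
    rw [← omega_classInd hf y, omega_eq_sum, Finset.sum_filter]
    congr 1
    refine Finset.sum_congr rfl fun j _ => ?_
    by_cases h : IsConj y j
    · rw [if_pos h, classInd_apply_of_isConj h, one_mul]
    · rw [if_neg h, classInd_apply_of_not_isConj h, zero_mul]
  rw [hc _ (fun _ _ => rfl), hc _ (CharCore.irr_isClassFunction ξ)]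
  let S : Finset G := (Finset.univ.filter (fun j => IsConj y j)).map ⟨ι, hι⟩
  have hS := sum_ratio_sub_one_mem ρ hM hpr hQ h1 S (by
    rintro t ht ⟨_, g, hg, rfl⟩
    obtain ⟨j, hj, rfl⟩ := Finset.mem_map.mp ht
    obtain ⟨k, rfl⟩ := hN hg
    refine Finset.mem_map.mpr ⟨k * j * k⁻¹, ?_, ?_⟩
    · exact Finset.mem_filter.mpr ⟨Finset.mem_univ _,
        (Finset.mem_filter.mp hj).2.trans (isConj_iff.mpr ⟨k, rfl⟩)⟩
    · show ι (k * j * k⁻¹) = ι k * ι j * (ι k)⁻¹
      rw [map_mul, map_mul, map_inv])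
  refine (congrArg (MemLocalIdeal M) ?_).mp (memLocalIdeal_neg hS)
  have hξ : ∀ j, (ξ : K → ℂ) j = ρ.character (ι j) := fun j => rfl
  simp only [S, Finset.sum_map, Finset.sum_sub_distrib, hξ, map_one, ratio, Finset.sum_div,
    Function.Embedding.coeFn_mk, div_one, neg_sub]

theorem main [Fintype G] [Fact p.Prime] (hM : IsPModular p M) (N : Subgroup G) [N.Normal]
    (P : Sylow p N)
    (hcov : N ⊔ Subgroup.centralizer (((P : Subgroup N).map N.subtype : Subgroup G) : Set G) = ⊤)
    (θ : IrrCharacter N) (hθ : θ ∈ principalBlock M N)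
    (ψ : IrrCharacter G) (hψ : ∀ x : N, (ψ : G → ℂ) x = (θ : N → ℂ) x) :
    ∃ χ : IrrCharacter G, χ ∈ principalBlock M G ∧ (∀ x : N, (χ : G → ℂ) x = (θ : N → ℂ) x) ∧
      ∀ J : Subgroup G, N ≤ J → ∃ ξ : IrrCharacter J, ξ ∈ principalBlock M J ∧
        ∀ y : J, (ξ : J → ℂ) y = (χ : G → ℂ) y := by
  classical
  have := isPrime hM
  have := Fintype.ofFinite N
  have hp : p.Prime := Fact.out
  let φ : N →* conjN N :=
    { toFun := fun a => ⟨ConjAct.toConjAct (a : G), Subgroup.mem_map_of_mem _ a.2⟩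
      map_one' := Subtype.ext (map_one _)
      map_mul' := fun a b => Subtype.ext (map_mul ConjAct.toConjAct (a : G) b) }
  have hφ : Function.Surjective φ := fun ⟨_, a, ha, rfl⟩ => ⟨⟨a, ha⟩, rfl⟩
  let Q : Subgroup (conjN N) := (P : Subgroup N).map φ
  have hQ : IsPGroup p Q := P.isPGroup'.map φ
  have hQi : ¬ p ∣ Q.index := fun h => P.not_dvd_index (h.trans ((P : Subgroup N).index_map_dvd hφ))
  have hfix : ∀ x : G, x ∈ Fix Q ↔
      x ∈ Subgroup.centralizer (((P : Subgroup N).map N.subtype : Subgroup G) : Set G) := by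
    intro x
    constructor
    · rintro h _ ⟨a, ha, rfl⟩
      have h2 : (a : G) * x * (a : G)⁻¹ = x := h ⟨φ a, Subgroup.mem_map_of_mem φ ha⟩
      exact mul_inv_eq_iff_eq_mul.mp h2
    · rintro h ⟨_, a, ha, rfl⟩
      show (a : G) * x * (a : G)⁻¹ = x
      rw [h (a : G) ⟨a, ha, rfl⟩, mul_inv_cancel_right]
  have hdec : ∀ g : G, ∃ h ∈ Fix Q, g⁻¹ * h ∈ N := by
    intro g
    have hg : g ∈ N ⊔ Subgroup.centralizer (((P : Subgroup N).map N.subtype : Subgroup G) : Set G) :=
      hcov ▸ Subgroup.mem_top g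
    obtain ⟨a, ha, h, hh, rfl⟩ := Subgroup.mem_sup_of_normal_left.mp hg
    refine ⟨h, (hfix h).mpr hh, ?_⟩
    rw [mul_inv_rev, mul_assoc]
    simpa [mul_assoc] using ‹N.Normal›.conj_mem _ (N.inv_mem ha) h⁻¹
  -- facts about any extension
  have hprinc : ∀ {n : ℕ} (ρ : Representation ℂ G (Fin n → ℂ)),
      (∀ x : N, ρ.character x = (θ : N → ℂ) x) →
      Representation.IsIrreducible (ρ.comp N.subtype : Representation ℂ N (Fin n → ℂ)) ∧
        PrincipalOn M ρ N := by
    intro n ρ hρ
    have hchar : Representation.character (ρ.comp N.subtype : Representation ℂ N (Fin n → ℂ)) = (θ : N → ℂ) :=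
      funext hρ
    refine ⟨(CharCore.isIrreducible_iff _).mpr (by rw [hchar, CharCore.classInner_irr_self]),
      fun K hK => ?_⟩
    let a : N → ℂ := fun z => (K (z : G) : ℂ)
    have ha : IsIntClassFun M a := ⟨fun g h => by
      show ((K ((h : G) * g * (h : G)⁻¹) : ℕ) : ℂ) = K (g : G)
      rw [← hK (φ h) (g : G)]
      rfl, fun g => memLocalRing_natCast _⟩
    let one : IrrCharacter N := ⟨fun _ => 1, CharCore.isIrrCharacter_one⟩
    have h1 : SameBlock M ((one : IrrCharacter N) : N → ℂ) (θ : N → ℂ) := hθ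
    have key := memLocalIdeal_neg (omega_sub_memLocalIdeal h1 ha)
    refine (congrArg (MemLocalIdeal M) ?_).mp key
    rw [omega_eq_sum, omega_eq_sum, neg_sub, Finset.sum_sub_distrib,
      Finset.sum_subtype (Finset.univ.filter (· ∈ N)) (p := (· ∈ N)) (F := this) (by simp),
      Finset.sum_subtype (Finset.univ.filter (· ∈ N)) (p := (· ∈ N)) (F := this) (by simp)]
    congr 1
    · rw [Finset.sum_div]
      refine Finset.sum_congr rfl fun z _ => ?_
      rw [ratio, hρ z, show ρ.character 1 = (θ : N → ℂ) 1 from hρ 1, mul_div_assoc]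
    · simp [a, one]
  obtain ⟨n, ρ, -, hρ⟩ := ψ.2
  obtain ⟨hirr, hpr⟩ := hprinc ρ (fun x => by rw [hρ, hψ])
  set q := Nat.card G / p ^ (Nat.card G).factorization p with hq
  have hqp : ¬ p ∣ q := Nat.not_dvd_ordCompl hp Nat.card_pos.ne'
  have hq0 : q ≠ 0 := (Nat.ordCompl_pos p Nat.card_pos.ne').ne'
  have hroot : ∀ x : Fix Q, ∃ ζ : ℂ, ζ ^ q = 1 ∧ MemLocalIdeal M (ratio ρ (x : G) - ζ) := by
    intro x
    have hloc : ∀ y : Fix Q, MemLocalRing M (ratio ρ (y : G)) := fun y =>
      ratio_fix_memLocalRing ρ hM hQi y.2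
    refine exists_root hM (hloc x) Nat.card_pos.ne' ?_
    have hpow : ∀ k : ℕ, MemLocalIdeal M (ratio ρ (x : G) ^ k - ratio ρ ((x : G) ^ k)) := by
      intro k
      induction k with
      | zero =>
        have h0 : ratio ρ (1 : G) = 1 := div_self (character_one_ne_zero ρ (N := N))
        rw [pow_zero, pow_zero, h0, sub_self]
        exact memLocalIdeal_zero
      | succ k ih =>
        have h2 := ratio_congr_mul ρ hM hpr hQ hQi ((Fix Q).pow_mem x.2 k) x.2
        refine (congrArg (MemLocalIdeal M) ?_).mp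
          (memLocalIdeal_add (memLocalIdeal_mul_right ih (hloc x)) h2)
        rw [pow_succ, pow_succ]
        ring
    have h3 := hpow (Nat.card G)
    rwa [pow_card_eq_one', show ratio ρ (1 : G) = 1 from div_self (character_one_ne_zero ρ (N := N))] at h3
  choose r hr1 hr2 using hroot
  have hrunique : ∀ x y : Fix Q, MemLocalIdeal M (ratio ρ (x : G) - ratio ρ (y : G)) → r x = r y := by
    intro x y h
    refine eq_of_congr hM hqp (hr1 x) (hr1 y) ?_
    refine (congrArg (MemLocalIdeal M) ?_).mp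
      (memLocalIdeal_sub (memLocalIdeal_sub (hr2 x) (hr2 y)) h)
    ring
  have hrmul : ∀ x y : Fix Q, r (x * y) = r x * r y := by
    intro x y
    refine eq_of_congr hM hqp (hr1 (x * y)) (by rw [mul_pow, hr1, hr1, one_mul]) ?_
    have h := ratio_congr_mul ρ hM hpr hQ hQi x.2 y.2
    have hy : MemLocalRing M (r y) := memLocalRing_of_isIntegral
      (IsIntegral.of_pow (Nat.pos_of_ne_zero hq0) (hr1 y ▸ isIntegral_one))
    have hx := ratio_fix_memLocalRing ρ hM hQi x.2
    refine (congrArg (MemLocalIdeal M) ?_).mp (memLocalIdeal_sub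
      (memLocalIdeal_sub h (memLocalIdeal_mul_left hx (hr2 y)))
      (memLocalIdeal_sub (memLocalIdeal_mul_right (hr2 x) hy) (hr2 (x * y))))
    simp only [Subgroup.coe_mul]
    ring
  choose hh hh1 hh2 using hdec
  let lamf : G → ℂ := fun g => r ⟨hh g, hh1 g⟩
  have hlam : ∀ (g : G) (x : Fix Q), g⁻¹ * (x : G) ∈ N → lamf g = r x := by
    intro g x hx
    refine hrunique _ _ (ratio_congr_coset ρ hM hpr hQ hQi x.2 (hh1 g) ?_)
    have := N.mul_mem (N.inv_mem hx) (hh2 g)
    simpa [mul_assoc] using this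
  have hr1' : r 1 = 1 := by
    have h := hrmul 1 1
    rw [mul_one] at h
    have hne : r 1 ≠ 0 := fun h0 => by
      have := hr1 1
      rw [h0, zero_pow hq0] at this
      exact zero_ne_one this
    exact (mul_eq_left₀ hne).mp h.symm
  let lam : G →* ℂ :=
    { toFun := lamf
      map_one' := by rw [hlam 1 1 (by simp), hr1']
      map_mul' := fun a b => by
        rw [hlam (a * b) (⟨hh a, hh1 a⟩ * ⟨hh b, hh1 b⟩), hrmul]
        have := N.mul_mem (‹N.Normal›.conj_mem _ (hh2 a) b⁻¹) (hh2 b)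
        simpa [mul_assoc] using this }
  let μ : G →* ℂˣ := lam.toHomUnits⁻¹
  let χ : IrrCharacter G := ⟨fun g => (μ g : ℂ) * (ψ : G → ℂ) g,
    CharCore.isIrrCharacter_hom_mul μ ψ.2⟩
  have hμN : ∀ x : N, (μ (x : G) : ℂ) = 1 := by
    intro x
    have h1 : lam (x : G) = 1 := by
      show lamf x = 1
      rw [hlam x 1 (by simp), hr1']
    simp [μ, h1]
  have hχN : ∀ x : N, (χ : G → ℂ) x = (θ : N → ℂ) x := fun x => by
    show (μ (x : G) : ℂ) * (ψ : G → ℂ) x = _
    rw [hμN, one_mul, hψ]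
  obtain ⟨n', ρ', -, hρ'⟩ := χ.2
  obtain ⟨hirr', hpr'⟩ := hprinc ρ' (fun x => by rw [hρ', hχN])
  have h1 : ∀ x ∈ Fix Q, MemLocalIdeal M (ratio ρ' x - 1) := by
    intro x hx
    have hl : lam x = r ⟨x, hx⟩ := hlam x ⟨x, hx⟩ (by simp)
    have hrne : r ⟨x, hx⟩ ≠ 0 := fun h0 => by
      have := hr1 ⟨x, hx⟩
      rw [h0, zero_pow hq0] at this
      exact zero_ne_one this
    have hval : (μ x : ℂ) = (r ⟨x, hx⟩)⁻¹ := by simp [μ, hl]
    have hratio : ratio ρ' x = (r ⟨x, hx⟩)⁻¹ * ratio ρ x := by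
      rw [ratio, ratio, hρ', hρ]
      show (μ x : ℂ) * (ψ : G → ℂ) x / ((μ 1 : ℂ) * (ψ : G → ℂ) 1) = _
      rw [hval, map_one, Units.val_one, one_mul, mul_div_assoc]
    rw [hratio]
    have hinv : MemLocalRing M (r ⟨x, hx⟩)⁻¹ := memLocalRing_of_isIntegral
      (IsIntegral.of_pow (Nat.pos_of_ne_zero hq0)
        (by rw [inv_pow, hr1, inv_one]; exact isIntegral_one))
    refine (congrArg (MemLocalIdeal M) ?_).mp (memLocalIdeal_mul_left hinv (hr2 ⟨x, hx⟩))
    rw [mul_sub, inv_mul_cancel₀ hrne]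
  refine ⟨χ, ?_, hχN, fun J hJ => ?_⟩
  · obtain ⟨ξ, hξ, he⟩ := mem_principal ρ' hM hpr' hQ h1 (MonoidHom.id G) Function.injective_id
      (fun x _ => ⟨x, rfl⟩)
    have : ξ = χ := Subtype.ext (funext fun y => (he y).trans (congrFun hρ' y))
    exact this ▸ hξ
  · obtain ⟨ξ, hξ, he⟩ := mem_principal ρ' hM hpr' hQ h1 J.subtype J.subtype_injective
      (fun x hx => ⟨⟨x, hJ hx⟩, rfl⟩)
    exact ⟨ξ, hξ, fun y => (he y).trans (congrFun hρ' _)⟩

/-- Let G be a finite group, p a prime, M a maximal ideal of the algebraic integers containing p, N a normal subgroup of G and P a Sylow p-subgroup of N such that G = N·C_G(P). Let θ be an irreducible character in the principal p-block of N that is the restriction of some irreducible character of G. Then θ is the restriction of an irreducible character χ of G lying in the principal p-block of G such that, for every subgroup J of G containing N, the restriction of χ to J is an irreducible character of J lying in the principal p-block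 of J. -/
theorem result {G : Type*} [Group G] [Finite G] (p : ℕ) [Fact p.Prime] (M : Ideal Cfsg.AlgInt) (hM : Cfsg.IsPModular p M) (N : Subgroup G) [N.Normal] (P : Sylow p ↥N)
    (hcov : N ⊔ Subgroup.centralizer (((P : Subgroup ↥N).map N.subtype : Subgroup G) : Set G) = ⊤)
    (θ : Cfsg.IrrCharacter ↥N) (hθ : θ ∈ Cfsg.principalBlock M ↥N)
    (hext : ∃ ψ : Cfsg.IrrCharacter G, ∀ x : ↥N, (ψ : G → ℂ) x = (θ : ↥N → ℂ) x) :
    ∃ χ : Cfsg.IrrCharacter G, χ ∈ Cfsg.principalBlock M G ∧ (∀ x : ↥N, (χ : G → ℂ) x = (θ : ↥N → ℂ) x) ∧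
      ∀ J : Subgroup G, N ≤ J → ∃ ξ : Cfsg.IrrCharacter ↥J, ξ ∈ Cfsg.principalBlock M ↥J ∧ ∀ y : ↥J, (ξ : ↥J → ℂ) y = (χ : G → ℂ) y := by
  obtain ⟨ψ, hψ⟩ := hext
  have := Fintype.ofFinite G
  exact main hM N P hcov θ hθ ψ hψ

end Cfsg.Agent.S4937
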