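import Cfsg.Statements.S0936
import Cfsg.Agent.Lib.BlocksDefect.Induced
-- import your own Cfsg.Agent.* helpers here

set_option autoImplicit false
open Cfsg

namespace Cfsg.Agent.S0936

/-- Brauer's Third Main Theorem. Let H be a subgroup of the finite group G and b a block of H (relative to a maximal ideal M of the algebraic integers containing the prime p) whose induced block in G is defined. Then b induces the principal block of G if and only if b is the principal block of H. -/
theorem result {G : Type*} [Group G] [Finite G] (p : ℕ) [Fact p.Prime] (M : Ideal Cfsg.AlgInt) (hM : Cfsg.IsPModular p M) (H : Subgroup G) (b : Set (Cfsg.IrrCharacter H)) (hdef : Cfsg.InducedBlockDefined M H b) : Cfsg.IsInducedBlock M H b (Cfsg.principalBlock M G) ↔ b = Cfsg.principalBlock M H := by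
  have := BlocksCore.isPrime hM
  have := Fintype.ofFinite G
  have hirr : Cfsg.IsIrrCharacter G (fun _ : G => (1 : ℂ)) := CharCore.isIrrCharacter_one
  have hres : Cfsg.IsIrrCharacter H (fun h : H => ((⟨_, hirr⟩ : Cfsg.IrrCharacter G) : G → ℂ) h) :=
    CharCore.isIrrCharacter_one
  have hG : Cfsg.blockHeight p (Cfsg.principalBlock M G) (fun _ : G => (1 : ℂ)) = 0 := by
    simp [Cfsg.blockHeight, Cfsg.charDegree]
  have hH : Cfsg.blockHeight p b (fun _ : H => (1 : ℂ)) = 0 := by
    simp [Cfsg.blockHeight, Cfsg.charDegree]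
  constructor
  · intro hind
    exact BlocksDefect.eq_blockOf_res hM hind
      (BlocksCore.mem_blockOf_self (⟨_, hirr⟩ : Cfsg.IrrCharacter G)) hG hres
  · intro hb
    obtain ⟨B, hB⟩ := hdef
    obtain ⟨hχB, -⟩ := BlocksDefect.mem_of_res_mem hM hB ⟨_, hirr⟩ hres
      (hb ▸ BlocksCore.mem_blockOf_self (⟨_, hres⟩ : Cfsg.IrrCharacter H)) hH
    have e : Cfsg.principalBlock M G = B := (BlocksCore.isPBlock_eq_blockOf hB.2.1 hχB).symm
    rw [e]
    exact hB

end Cfsg.Agent.S0936
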