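import Cfsg.Statements.S4646
import Cfsg.Agent.ZStar.SectionCount
import Cfsg.Agent.BC85.Pairs.Nilpotent
import Cfsg.Agent.BC87.Basic
import Cfsg.Agent.Lib.BlocksDefect.Kernel

set_option autoImplicit false
set_option linter.style.haveILetI false
open Cfsg

namespace Cfsg.Agent.S4646

universe u

variable {G : Type u} [Group G] [Finite G] {p : ℕ} [Fact p.Prime] {M : Ideal AlgInt}

/-- Rank one forces every member of the principal block to be trivial on the regular elements. -/
theorem apply_regular (hM : IsPModular p M) (h : blockRank p (principalBlock M G) = 1)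
    {χ : IrrCharacter G} (hχ : χ ∈ principalBlock M G) {x : G} (hx : ¬ p ∣ orderOf x) :
    (χ : G → ℂ) x = (χ : G → ℂ) 1 := by
  haveI := BlocksCore.isPrime hM
  haveI := Fintype.ofFinite G
  set one : IrrCharacter G := BlocksDefect.oneIrr G
  set V := Submodule.span ℂ ((fun θ : IrrCharacter G => pRegularPart p (θ : G → ℂ)) ''
    principalBlock M G)
  have h1 : pRegularPart p (one : G → ℂ) ≠ 0 := by
    intro h0
    have := congrFun h0 1
    rw [BC85.pRegularPart_pos (by rw [orderOf_one]; exact hM.1.not_dvd_one)] at this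
    exact BlocksCore.irr_one_ne_zero one this
  have hle : ℂ ∙ pRegularPart p (one : G → ℂ) ≤ V :=
    (Submodule.span_singleton_le_iff_mem _ _).mpr
      (Submodule.subset_span ⟨one, BlocksDefect.oneIrr_mem, rfl⟩)
  have heq : ℂ ∙ pRegularPart p (one : G → ℂ) = V :=
    Submodule.eq_of_le_of_finrank_eq hle (by rw [finrank_span_singleton h1]; exact h.symm)
  have hmem : pRegularPart p (χ : G → ℂ) ∈ V := Submodule.subset_span ⟨χ, hχ, rfl⟩
  rw [← heq, Submodule.mem_span_singleton] at hmem
  obtain ⟨c, hc⟩ := hmem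
  have hx1 := congrFun hc x
  have h11 := congrFun hc 1
  rw [Pi.smul_apply, BC85.pRegularPart_pos hx, BC85.pRegularPart_pos hx] at hx1
  rw [Pi.smul_apply, BC85.pRegularPart_pos (by rw [orderOf_one]; exact hM.1.not_dvd_one),
    BC85.pRegularPart_pos (by rw [orderOf_one]; exact hM.1.not_dvd_one)] at h11
  rw [← hx1, ← h11]
  rfl

/-- The kernel of the principal block is a `p'`-group. -/
theorem not_dvd_card_ker (hM : IsPModular p M) (N : Subgroup G)
    (hN : ∀ χ ∈ principalBlock M G, ∀ x ∈ N, (χ : G → ℂ) x = (χ : G → ℂ) 1) :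
    ¬ p ∣ Nat.card N := by
  classical
  intro hd
  haveI := BlocksCore.isPrime hM
  haveI := Fintype.ofFinite G
  haveI := Fintype.ofFinite (IrrCharacter G)
  obtain ⟨y, hy⟩ := exists_prime_orderOf_dvd_card' (G := N) p hd
  set x : G := (y : G)⁻¹
  have hxp : p ∣ orderOf x := by rw [orderOf_inv, Subgroup.orderOf_coe, hy]
  have h1 := BlocksDefect.sum_degree_mul_eq_blockCoeff (principalBlock M G) (y : G)
  rw [BlocksCore.blockCoeff_eq_zero_of_dvd_orderOf hM BlocksDefect.isPBlock_principal hxp,
    mul_zero] at h1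
  have h2 := BlocksDefect.sum_degree_mul_eq_blockCoeff (principalBlock M G) (1 : G)
  have h3 : ∑ χ : IrrCharacter G, (principalBlock M G).indicator 1 χ *
      ((χ : G → ℂ) 1 * (χ : G → ℂ) y) =
      ∑ χ : IrrCharacter G, (principalBlock M G).indicator 1 χ *
      ((χ : G → ℂ) 1 * (χ : G → ℂ) 1) := by
    refine Finset.sum_congr rfl fun χ _ => ?_
    by_cases hχ : χ ∈ principalBlock M G
    · rw [hN χ hχ _ y.2]
    · rw [Set.indicator_of_notMem hχ, zero_mul, zero_mul]
  rw [h1, h2, inv_one] at h3
  exact BlocksDefect.blockCoeff_one_ne_zero ⟨_, BlocksDefect.oneIrr_mem⟩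
    ((mul_eq_zero.1 h3.symm).resolve_left (Nat.cast_ne_zero.mpr Nat.card_pos.ne'))

/-- Let G be a finite group, p a prime and M an ideal of the algebraic integers that is p-modular. The principal p-block is nilpotent if and only if it has exactly one irreducible Brauer character, that is, its p-regular rank is 1. (Equivalently, G has a normal p-complement.) -/
theorem result {G : Type*} [Group G] [Finite G] (p : ℕ) [Fact p.Prime] (M : Ideal Cfsg.AlgInt) (hM : Cfsg.IsPModular p M) : Cfsg.IsNilpotentBlock p M (Cfsg.principalBlock M G) ↔ Cfsg.blockRank p (Cfsg.principalBlock M G) = 1 := by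
  classical
  haveI := Fintype.ofFinite G
  rw [← BC85.hasNormalPComplement_iff_nilpotentBlock hM]
  constructor
  · rintro ⟨P, N, hN, hc⟩
    haveI := hN
    have hidx : N.index = Nat.card P := by rw [hc.symm.index_eq_card]
    have hnot : ¬ p ∣ Nat.card N := fun hd => by
      have h1 : Nat.card (P : Subgroup G) * p ∣ Nat.card G := by
        rw [← hc.card_mul, mul_comm (Nat.card N)]
        exact mul_dvd_mul_left _ hd
      rw [P.card_eq_multiplicity, ← pow_succ] at h1
      exact Nat.pow_succ_factorization_not_dvd Nat.card_pos.ne' Fact.out h1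
    refine ZStar.blockRank_principal_eq_one hM N hnot fun x hx => ?_
    rw [P.card_eq_multiplicity] at hidx
    exact BlocksDefect.mem_of_not_dvd_orderOf hidx hx
  · intro h
    set N : Subgroup G := ⨅ χ ∈ principalBlock M G, BC87.kerChar χ
    haveI hN : N.Normal := Subgroup.normal_iInf_normal fun χ =>
      Subgroup.normal_iInf_normal fun _ => BC87.kerChar_normal χ
    have hmem : ∀ x, x ∈ N ↔ ∀ χ ∈ principalBlock M G, (χ : G → ℂ) x = (χ : G → ℂ) 1 := fun x => by
      simp only [N, Subgroup.mem_iInf, BC87.mem_kerChar]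
    have hnot := not_dvd_card_ker hM N fun χ hχ x hx => (hmem x).1 hx χ hχ
    have hreg : ∀ x : G, ¬ p ∣ orderOf x → x ∈ N := fun x hx =>
      (hmem x).2 fun χ hχ => apply_regular hM h hχ hx
    obtain ⟨P⟩ := (inferInstance : Nonempty (Sylow p G))
    have hq : IsPGroup p (G ⧸ N) := by
      intro q
      obtain ⟨z, rfl⟩ := QuotientGroup.mk'_surjective N q
      obtain ⟨k, m, hm, hkm⟩ := Nat.exists_eq_pow_mul_and_not_dvd (orderOf_pos z).ne' p
        (Fact.out : p.Prime).ne_one
      refine ⟨k, ?_⟩
      rw [← map_pow]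
      refine (QuotientGroup.eq_one_iff _).2 (hreg _ ?_)
      rw [orderOf_pow' _ (pow_ne_zero k (Fact.out : p.Prime).ne_zero), hkm,
        Nat.gcd_eq_right (dvd_mul_right _ _), Nat.mul_div_cancel_left _
          (pow_pos (Fact.out : p.Prime).pos k)]
      exact hm
    obtain ⟨k, hk⟩ := IsPGroup.iff_card.1 hq
    have hPk : Nat.card P = p ^ k := by
      rw [P.card_eq_multiplicity]
      congr 1
      have hG : Nat.card G = p ^ k * Nat.card N := by
        rw [← hk]; exact N.card_eq_card_quotient_mul_card_subgroup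
      rw [hG, Nat.factorization_mul (pow_ne_zero k (Fact.out : p.Prime).ne_zero) Nat.card_pos.ne',
        Finsupp.add_apply, (Fact.out : p.Prime).factorization_pow,
        Nat.factorization_eq_zero_of_not_dvd hnot, Finsupp.single_eq_same, add_zero]
    refine ⟨P, N, hN, Subgroup.isComplement'_of_coprime ?_ ?_⟩
    · rw [hPk, ← hk, N.card_eq_card_quotient_mul_card_subgroup, mul_comm]
    · rw [hPk]
      exact (((Fact.out : p.Prime).coprime_iff_not_dvd.2 hnot).pow_left k).symm

end Cfsg.Agent.S4646
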