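import Cfsg.Statements.S2202
import Cfsg.Agent.CharDeep.CA.AbInvolMain

set_option autoImplicit false
open Cfsg

namespace Cfsg.Agent.S2202

/-- Finite groups in which the centralizer of every involution is abelian. Let G be a finite group of even order in which the centralizer of every element of order 2 is abelian. Then the Sylow 2-subgroups of G are cyclic, or a Sylow 2-subgroup of G is normal, or G is isomorphic to the direct product of SL₂(F) for a finite field F of characteristic two and an abelian group of odd order. -/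
theorem result {G : Type*} [Group G] [Finite G] (heven : Even (Nat.card G)) (h : ∀ t : G, orderOf t = 2 → IsMulCommutative ↥(Subgroup.centralizer ({t} : Set G))) :
    (∀ P : Sylow 2 G, IsCyclic ↥P) ∨ (∀ P : Sylow 2 G, (P : Subgroup G).Normal) ∨
    (∃ (F : Type) (_ : Field F) (_ : Fintype F) (A : Type) (_ : CommGroup A) (_ : Finite A), CharP F 2 ∧ Odd (Nat.card A) ∧ Nonempty (G ≃* Matrix.SpecialLinearGroup (Fin 2) F × A)) := by
  have hinv : Agent.CharDeep.CA.AbInv G := fun x hx hx1 a ha b hb => by
    haveI := h x (orderOf_eq_prime (by rw [pow_two, hx]) hx1)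
    exact congrArg Subtype.val (mul_comm' (⟨a, ha⟩ : Subgroup.centralizer ({x} : Set G)) ⟨b, hb⟩)
  rcases Agent.CharDeep.CA.good_of_abInv hinv with hc | hc |
    ⟨F, iF, iFF, f, A, iA, iAf, -, hf, hA, he⟩
  · exact Or.inl hc
  · exact Or.inr (Or.inl hc)
  · exact Or.inr (Or.inr ⟨F, iF, iFF, A, iA, iAf, Agent.CharDeep.OrderP.charP_two_of_card hf, hA, he⟩)

end Cfsg.Agent.S2202
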