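import Cfsg.Statements.S4433
import Cfsg.Agent.Lib.BlocksDefect.Basic
import Cfsg.Agent.Lib.BlocksDefect.Kernel

set_option autoImplicit false
open Cfsg

namespace Cfsg.Agent.S4433

open BlocksCore BlocksDefect

variable {G : Type*} [Group G] [Finite G] {p : ℕ} [Fact p.Prime] {M : Ideal AlgInt}

/-- The image of a Sylow subgroup of a centralizer, when the index into the preimage of the
centralizer of the image is prime to `p`. -/
theorem isSylowCent_map (N : Subgroup G) [N.Normal] {x : G} {P : Subgroup G}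
    (hP : IsSylowCent p x P)
    (hrel : ¬ p ∣ (Subgroup.centralizer ({x} : Set G)).relIndex
      ((Subgroup.centralizer ({(x : G ⧸ N)} : Set (G ⧸ N))).comap (QuotientGroup.mk' N))) :
    IsSylowCent p (x : G ⧸ N) (P.map (QuotientGroup.mk' N)) := by
  set C := Subgroup.centralizer ({x} : Set G) with hC
  set Cbar := Subgroup.centralizer ({(x : G ⧸ N)} : Set (G ⧸ N)) with hCbar
  set f := QuotientGroup.mk' N with hf
  have hCC : C ≤ Cbar.comap f := by
    intro y hy
    rw [hC, mem_centralizer_singleton] at hy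
    rw [Subgroup.mem_comap, hCbar, mem_centralizer_singleton, hf]
    exact congrArg QuotientGroup.mk hy
  have hPp := hP.isPGroup
  have hPC : P ≤ C := hP.le_centralizer
  obtain ⟨S, hS⟩ := hP
  have hidx : ¬ p ∣ P.relIndex C := by
    have h1 : P.subgroupOf C = (S : Subgroup C) := by
      rw [← hS]; exact Subgroup.comap_map_eq_self_of_injective C.subtype_injective _
    rw [Subgroup.relIndex, h1]
    exact S.not_dvd_index
  have hPC' : P.map f ≤ Cbar := Subgroup.map_le_iff_le_comap.mpr (hPC.trans hCC)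
  have hmain : ¬ p ∣ (P.map f).relIndex Cbar := by
    intro hdvd
    have h2 : (P.map f).relIndex Cbar = (P ⊔ f.ker).relIndex (Cbar.comap f ⊔ f.ker) := by
      conv_lhs => rw [← Subgroup.map_comap_eq_self_of_surjective
        (QuotientGroup.mk'_surjective N) Cbar]
      exact Subgroup.relIndex_map_map f P _
    rw [h2, sup_eq_left.mpr (Subgroup.ker_le_comap f Cbar)] at hdvd
    have h3 := hdvd.trans (Subgroup.relIndex_dvd_of_le_left (L := Cbar.comap f)
      (le_sup_left : P ≤ P ⊔ f.ker))
    rw [← Subgroup.relIndex_mul_relIndex P C (Cbar.comap f) hPC hCC] at h3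
    rcases (Fact.out : p.Prime).dvd_mul.mp h3 with h | h
    exacts [hidx h, hrel h]
  refine ⟨((hPp.map f).comap_of_injective Cbar.subtype Cbar.subtype_injective).toSylow ?_, ?_⟩
  · exact hmain
  · exact Subgroup.map_subgroupOf_eq_of_le hPC'

/-- A block of the quotient inside `B` has its defect group inside the image of one of `B`. -/
theorem lift_defect (hM : IsPModular p M) (N : Subgroup G) [N.Normal]
    {Bbar : Set (IrrCharacter (G ⧸ N))} (hBbar : IsPBlock M Bbar)
    {B : Set (IrrCharacter G)} (hB : IsPBlock M B)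
    (hsub : ∀ χ ∈ Bbar, ∀ ψ : IrrCharacter G,
      (ψ : G → ℂ) = (χ : G ⧸ N → ℂ) ∘ QuotientGroup.mk → ψ ∈ B)
    {Dbar : Subgroup (G ⧸ N)} (hDbar : IsDefectGroup p M Bbar Dbar) :
    ∃ P : Subgroup G, IsDefectGroup p M B P ∧ Dbar ≤ P.map (QuotientGroup.mk' N) := by
  have := isPrime hM
  have := Fintype.ofFinite G
  have := Fintype.ofFinite (G ⧸ N)
  obtain ⟨χb, hχb⟩ := isPBlock_nonempty hBbar
  have hχ : BlocksDefect.inflate N χb ∈ B := hsub χb hχb _ rfl
  obtain ⟨x, hx⟩ := exists_isDefectClass hM hB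
  obtain ⟨P, hP⟩ := exists_isSylowCent p x
  have hdef : IsDefectGroup p M B P := isDefectGroup_iff.mpr ⟨x, hx, hP⟩
  have hu := hx.2.2 _ hχ
  set C := Subgroup.centralizer ({x} : Set G) with hC
  set Cbar := Subgroup.centralizer ({(x : G ⧸ N)} : Set (G ⧸ N)) with hCbar
  have hCC : C ≤ Cbar.comap (QuotientGroup.mk' N) := by
    intro y hy
    rw [hC, mem_centralizer_singleton] at hy
    rw [Subgroup.mem_comap, hCbar, mem_centralizer_singleton]
    exact congrArg QuotientGroup.mk hy
  have hcc : centralChar (BlocksDefect.inflate N χb : G → ℂ) x =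
      (C.relIndex (Cbar.comap (QuotientGroup.mk' N)) : ℂ) *
        centralChar (χb : G ⧸ N → ℂ) (x : G ⧸ N) := by
    show (C.index : ℂ) * (χb : G ⧸ N → ℂ) (x : G ⧸ N) / (χb : G ⧸ N → ℂ) ((1 : G) : G ⧸ N) = _
    rw [← Subgroup.relIndex_mul_index hCC,
      Subgroup.index_comap_of_surjective _ (QuotientGroup.mk'_surjective N), QuotientGroup.mk_one,
      centralChar, ← hCbar]
    push_cast
    ring
  rw [hcc] at hu
  have hrel : ¬ p ∣ C.relIndex (Cbar.comap (QuotientGroup.mk' N)) := fun h =>
    hu (memLocalIdeal_mul_right ((memLocalIdeal_natCast_iff hM _).mpr h)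
      (centralChar_memLocalRing χb _))
  have hub : ¬ MemLocalIdeal M (centralChar (χb : G ⧸ N → ℂ) (x : G ⧸ N)) := fun h =>
    hu (memLocalIdeal_mul_left (memLocalRing_of_isIntegral (isIntegral_natCast _)) h)
  obtain ⟨q, hq⟩ := defectGroup_subConj_of_centralChar hM hBbar hDbar hχb
    (isSylowCent_map N hP hrel) hub
  obtain ⟨g, rfl⟩ := QuotientGroup.mk_surjective q
  refine ⟨P.map (MulAut.conj g⁻¹).toMonoidHom, isDefectGroup_map_conj hM hB hdef _, ?_⟩
  have := map_conj_inv_le hq
  refine this.trans (le_of_eq ?_)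
  rw [Subgroup.map_map, Subgroup.map_map]
  congr 1


/-- Let N be a normal subgroup of the finite group G and write Ḡ = G/N; fix a maximal ideal M of the algebraic integers containing p. Let B̄ be a block of Ḡ contained in the block B of G, in the sense that the inflation of every member of B̄ lies in B, and let D̄ be a defect group of B̄. Then B has a defect group P whose image in Ḡ contains D̄. -/
theorem result {G : Type*} [Group G] [Finite G] (p : ℕ) [Fact p.Prime] (M : Ideal Cfsg.AlgInt) (hM : Cfsg.IsPModular p M) (N : Subgroup G) [N.Normal] (Bbar : Set (Cfsg.IrrCharacter (G ⧸ N))) (hBbar : Cfsg.IsPBlock M Bbar) (B : Set (Cfsg.IrrCharacter G)) (hB : Cfsg.IsPBlock M B) (hsub : ∀ χ ∈ Bbar, ∀ ψ : Cfsg.IrrCharacter G, (ψ : G → ℂ) = (χ : G ⧸ N → ℂ) ∘ QuotientGroup.mk → ψ ∈ B) (Dbar : Subgroup (G ⧸ N)) (hDbar : Cfsg.IsDefectGroup p M Bbar Dbar) : ∃ P : Subgroup G, Cfsg.IsDefectGroup p M B P ∧ Dbar ≤ P.map (QuotientGroup.mk' N) := by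
  exact lift_defect hM N hBbar hB hsub hDbar

end Cfsg.Agent.S4433
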