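import Cfsg.Statements.S4434
import Cfsg.Agent.S4433

set_option autoImplicit false
open Cfsg

namespace Cfsg.Agent.S4434

open BlocksCore BlocksDefect


/-- Let N be a normal p-subgroup of the finite group G and write Ḡ = G/N; fix a maximal ideal M of the algebraic integers containing p. Then every block B of G contains a block B̄ of Ḡ (the inflation of every member of B̄ lies in B) whose defect groups are exactly the images in Ḡ of the defect groups of B. -/
theorem result {G : Type*} [Group G] [Finite G] (p : ℕ) [Fact p.Prime] (M : Ideal Cfsg.AlgInt) (hM : Cfsg.IsPModular p M) (N : Subgroup G) [N.Normal] (hN : IsPGroup p N) (B : Set (Cfsg.IrrCharacter G)) (hB : Cfsg.IsPBlock M B) : ∃ Bbar : Set (Cfsg.IrrCharacter (G ⧸ N)), Cfsg.IsPBlock M Bbar ∧ (∀ χ ∈ Bbar, ∀ ψ : Cfsg.IrrCharacter G, (ψ : G → ℂ) = (χ : G ⧸ N → ℂ) ∘ QuotientGroup.mk → ψ ∈ B) ∧ ∀ Dbar : Subgroup (G ⧸ N), Cfsg.IsDefectGroup p M Bbar Dbar ↔ ∃ P : Subgroup G, Cfsg.IsDefectGroup p M B P ∧ Dbar = P.map (QuotientGroup.mk'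 N) := by
  classical
  have := isPrime hM
  have := Fintype.ofFinite G
  have := Fintype.ofFinite (G ⧸ N)
  obtain ⟨g, hg, hP⟩ : ∃ g, IsDefectClass M B g ∧ ∃ P, IsSylowCent p g P := by
    obtain ⟨g, hg⟩ := exists_isDefectClass hM hB
    exact ⟨g, hg, exists_isSylowCent p g⟩
  obtain ⟨P, hP⟩ := hP
  have hdef : IsDefectGroup p M B P := isDefectGroup_iff.mpr ⟨g, hg, hP⟩
  have hNP : N ≤ P := le_defectGroup N hM hN hB hdef
  have hgN : g ∈ Subgroup.centralizer (N : Set G) :=
    Subgroup.centralizer_le hNP hP.mem_centralizer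
  have hreg : ¬ p ∣ orderOf g := fun h =>
    hg.2.1 (by rw [blockCoeff_eq_zero_of_dvd_orderOf hM hB h]; exact memLocalIdeal_zero)
  set e := blockCoeff B with he
  -- the pushed idempotent has a unit coefficient at the image of `g`
  have hpush : BlocksDefect.pushFun N e (g : G ⧸ N) = e g := by
    rw [BlocksDefect.pushFun_eq_sum, Finset.sum_eq_single g]
    · intro x hx hne
      refine blockCoeff_eq_zero_of_dvd_orderOf hM hB ?_
      have hn : g⁻¹ * x ∈ N := QuotientGroup.eq.mp (Finset.mem_filter.mp hx).2.symm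
      by_contra hxr
      have hne' : g⁻¹ * x ≠ 1 := fun h => hne (by rwa [inv_mul_eq_one, eq_comm] at h)
      have hd : p ∣ orderOf (g⁻¹ * x) := dvd_orderOf_of_isPGroup hN hn hne'
      have hcomm : Commute g (g⁻¹ * x) := (hgN _ hn).symm
      have hcop : (orderOf g).Coprime (orderOf (g⁻¹ * x)) := by
        obtain ⟨k, hk⟩ := IsPGroup.iff_orderOf.mp hN ⟨_, hn⟩
        rw [← Subgroup.orderOf_coe] at hk
        rw [show orderOf (g⁻¹ * x) = p ^ k from hk]
        exact Nat.Coprime.pow_right _ ((Fact.out : p.Prime).coprime_iff_not_dvd.mpr hreg).symm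
      have h2 := hcomm.orderOf_mul_eq_mul_orderOf_of_coprime hcop
      rw [mul_inv_cancel_left] at h2
      exact hxr (h2 ▸ hd.mul_left _)
    · intro h; exact (h (by simp)).elim
  have hu : ¬ MemLocalIdeal M (BlocksDefect.pushFun N e (g : G ⧸ N)) := hpush ▸ hg.2.1
  -- some block of the quotient inside `B` has a unit coefficient there
  obtain ⟨Bbar, hBbar, hsub, hcoef⟩ : ∃ Bbar : Set (IrrCharacter (G ⧸ N)), IsPBlock M Bbar ∧
      (∀ χ ∈ Bbar, BlocksDefect.inflate N χ ∈ B) ∧
      ∃ y, IsConj (g : G ⧸ N) y ∧ ¬ MemLocalIdeal M (blockCoeff Bbar y) := by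
    by_contra hno
    push Not at hno
    apply hu
    have hpc : BlocksDefect.pushFun N e = ∑ b ∈ (Set.toFinite
        {b : Set (IrrCharacter (G ⧸ N)) | IsPBlock M b ∧ ∀ χ ∈ b, BlocksDefect.inflate N χ ∈ B}).toFinset,
        blockCoeff b := by
      refine eq_of_omega_eq (BlocksDefect.isClassFunction_pushFun N (isClassFunction_blockCoeff B))
        (fun a c => ?_) fun θ => ?_
      · simp only [Finset.sum_apply]
        exact Finset.sum_congr rfl fun b _ => isClassFunction_blockCoeff b a c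
      · rw [← omega_comp_mk N, omega_sum, Finset.sum_congr rfl (fun b _ => omega_blockCoeff b θ)]
        rw [show omega ((θ : G ⧸ N → ℂ) ∘ QuotientGroup.mk) e = _ from
          omega_blockCoeff B (BlocksDefect.inflate N θ)]
        by_cases hθ : BlocksDefect.inflate N θ ∈ B
        · rw [Set.indicator_of_mem hθ, Finset.sum_eq_single (blockOf M (θ : G ⧸ N → ℂ))]
          · rw [Set.indicator_of_mem (mem_blockOf_self θ)]; rfl
          · intro b hb hne
            rw [Set.indicator_of_notMem]
            intro hθb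
            exact hne (isPBlock_eq_blockOf ((Set.Finite.mem_toFinset _).mp hb).1 hθb)
          · intro h
            refine (h ?_).elim
            rw [Set.Finite.mem_toFinset]
            refine ⟨isPBlock_blockOf θ, fun χ hχ => ?_⟩
            rw [isPBlock_eq_blockOf hB hθ]
            exact sameBlock_inflate N hM hχ
        · rw [Set.indicator_of_notMem hθ, Finset.sum_eq_zero]
          intro b hb
          rw [Set.indicator_of_notMem]
          exact fun hθb => hθ (((Set.Finite.mem_toFinset _).mp hb).2 θ hθb)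
    rw [hpc, Finset.sum_apply]
    exact memLocalIdeal_sum fun b hb =>
      hno b ((Set.Finite.mem_toFinset _).mp hb).1 ((Set.Finite.mem_toFinset _).mp hb).2 _ (IsConj.refl _)
  obtain ⟨y, hy, hcy⟩ := hcoef
  rw [classFun_eq_of_isConj (isClassFunction_blockCoeff Bbar) hy] at hcy
  have hsub' : ∀ χ ∈ Bbar, ∀ ψ : IrrCharacter G,
      (ψ : G → ℂ) = (χ : G ⧸ N → ℂ) ∘ QuotientGroup.mk → ψ ∈ B := fun χ hχ ψ h => by
    rw [show ψ = BlocksDefect.inflate N χ from Subtype.ext h]; exact hsub χ hχ
  refine ⟨Bbar, hBbar, hsub', ?_⟩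
  obtain ⟨E, hE⟩ := exists_isDefectGroup hM hBbar
  obtain ⟨P', hP', hEP⟩ := Cfsg.Agent.S4433.lift_defect hM N hBbar hB hsub' hE
  have hge : SubConj (P.map (QuotientGroup.mk' N)) E :=
    subConj_defectGroup_of_coeff hM hBbar hE (hP.isPGroup.map _) (h := (g : G ⧸ N)) (by
      rw [Subgroup.mem_centralizer_iff]
      rintro _ ⟨u, hu, rfl⟩
      exact congrArg QuotientGroup.mk (hP.mem_centralizer u hu)) hcy
  have hmapconj : ∀ (Q : Subgroup G) (a : G),
      (Q.map (MulAut.conj a).toMonoidHom).map (QuotientGroup.mk' N) =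
        (Q.map (QuotientGroup.mk' N)).map (MulAut.conj (a : G ⧸ N)).toMonoidHom := by
    intro Q a
    rw [Subgroup.map_map, Subgroup.map_map]
    congr 1
  -- `E` is the image of a defect group of `B`
  have hE' : P'.map (QuotientGroup.mk' N) = E := by
    refine (Subgroup.eq_of_le_of_card_ge hEP ?_).symm
    obtain ⟨a, ha⟩ := isConj_defectGroup hM hB hdef hP'
    rw [← ha, hmapconj, natCard_map_conj]
    exact Nat.le_of_dvd Nat.card_pos hge.card_dvd
  intro Dbar
  constructor
  · intro hD
    obtain ⟨q, hq⟩ := isConj_defectGroup hM hBbar hE hD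
    obtain ⟨a, rfl⟩ := QuotientGroup.mk_surjective q
    exact ⟨P'.map (MulAut.conj a).toMonoidHom, isDefectGroup_map_conj hM hB hP' a, by
      rw [hmapconj, hE', hq]⟩
  · rintro ⟨Q, hQ, rfl⟩
    obtain ⟨a, ha⟩ := isConj_defectGroup hM hB hP' hQ
    rw [← ha, hmapconj, hE']
    exact isDefectGroup_map_conj hM hBbar hE _

end Cfsg.Agent.S4434
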