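import Cfsg.Statements.S1292
import Cfsg.Agent.Lib.Components.Local

set_option autoImplicit false
open Cfsg

namespace Cfsg.Agent.S1292

set_option linter.style.haveILetI false
open Subgroup
open scoped commutatorElement

theorem generalizedFitting_eq_pCore_of_centralizer_le {p : ℕ} [Fact p.Prime] {G : Type*} [Group G]
    [Finite G] (h : Subgroup.centralizer (Cfsg.pCore p G : Set G) ≤ Cfsg.pCore p G) :
    Cfsg.generalizedFittingSubgroup G = Cfsg.pCore p G := by
  have hE : Cfsg.layer G = ⊥ := Components.layer_eq_bot_iff.mpr fun L hL => by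
    have h1 : L ≤ Cfsg.pCore p G := (Components.component_le_layer hL).trans
      ((Components.layer_le_centralizer_fitting.trans
        (Subgroup.centralizer_le (Fitting.pCore_le_fitting p))).trans h)
    exact Components.component_not_isSolvable hL <| Coprime.isSolvable_of_isNilpotent'
      (Thompson.isPGroup_pCore.to_le h1).isNilpotent
  rw [Cfsg.generalizedFittingSubgroup, hE, bot_sup_eq]
  refine le_antisymm ?_ (Fitting.pCore_le_fitting p)
  rw [Fitting.fitting_eq_iSup_pCore]
  refine iSup_le fun q => ?_
  haveI : Fact (q : ℕ).Prime := ⟨q.2⟩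
  rcases eq_or_ne (q : ℕ) p with hq | hq
  · rw [hq]
  · refine le_trans ?_ h
    intro x hx
    exact mem_centralizer_iff.mpr fun y hy => (Fitting.pCore_commute hq hx hy).eq.symm


/-- Let G be a finite group such that F*(C_G(t)) = O_2(C_G(t)) for every involution t. Then F*(N_G(T)) = O_2(N_G(T)) for every nontrivial 2-subgroup T of G. -/
theorem result {G : Type*} [Group G] [Finite G] (h : ∀ t : G, orderOf t = 2 → Cfsg.generalizedFittingSubgroup ↥(Subgroup.centralizer ({t} : Set G)) = Cfsg.pCore 2 ↥(Subgroup.centralizer ({t} : Set G))) (T : Subgroup G) (hT : IsPGroup 2 ↥T) (hT1 : T ≠ ⊥) : Cfsg.generalizedFittingSubgroup ↥(Subgroup.normalizer (T : Set G)) = Cfsg.pCore 2 ↥(Subgroup.normalizer (T : Set G)) := by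
  haveI : Fact (Nat.Prime 2) := ⟨Nat.prime_two⟩
  haveI : Nontrivial T := (Subgroup.nontrivial_iff_ne_bot T).mpr hT1
  haveI : Nontrivial (center T) := hT.center_nontrivial
  obtain ⟨z, hz⟩ := exists_prime_orderOf_dvd_card' 2
    (((hT.to_subgroup (center T)).card_eq_or_dvd).resolve_left Finite.one_lt_card.ne')
  set t : G := ((z : T) : G) with ht
  have hto : orderOf t = 2 := by rw [ht, Subgroup.orderOf_coe, Subgroup.orderOf_coe, hz]
  set H := Subgroup.centralizer ({t} : Set G) with hH
  have hTH : T ≤ H := fun x hx =>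
    mem_centralizer_singleton_iff.mpr (congrArg Subtype.val (mem_center_iff.mp z.2 ⟨x, hx⟩))
  set C := Subgroup.centralizer (T : Set G) with hC
  have hCH : C ≤ H := fun x hx =>
    mem_centralizer_singleton_iff.mpr (mem_centralizer_iff.mp hx t (z : T).2).symm
  set M := Subgroup.normalizer ((T.subgroupOf H : Subgroup H) : Set H) with hM
  have hFM := Components.generalizedFitting_normalizer_eq (h t hto)
    (P := T.subgroupOf H) (hT.of_equiv (Subgroup.subgroupOfEquivOfLe hTH).symm)
  set C' := C.subgroupOf H with hC'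
  have hC'M : C' ≤ M := by
    intro c hc
    rw [hM, mem_normalizer_iff]
    intro y
    have hc' : ∀ u ∈ T, u * (c : G) = c * u := mem_centralizer_iff.mp hc
    constructor
    · intro hy
      show (c : G) * y * (c : G)⁻¹ ∈ T
      rw [← hc' _ (Subgroup.mem_subgroupOf.mp hy), mul_inv_cancel_right]
      exact hy
    · intro hy
      have hy' : (c : G) * y * (c : G)⁻¹ ∈ T := hy
      have h2 := hc' _ hy'
      show (y : G) ∈ T
      rw [inv_mul_cancel_right] at h2
      rwa [← mul_left_cancel h2] at hy'
  haveI hCn : (C'.subgroupOf M).Normal := by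
    refine ⟨fun c hc m => ?_⟩
    show ((m : H) : G) * ((c : H) : G) * ((m : H) : G)⁻¹ ∈ C
    rw [hC, mem_centralizer_iff]
    intro u hu
    have hc' : ∀ u ∈ T, u * ((c : H) : G) = (c : H) * u := mem_centralizer_iff.mp hc
    have h3 := hc' _ (show ((m : H) : G)⁻¹ * u * ((m : H) : G) ∈ T from by
      have := (mem_normalizer_iff.mp (inv_mem m.2) (⟨u, hTH hu⟩ : H)).mp hu
      simpa [Subgroup.mem_subgroupOf] using this)
    calc u * (((m : H) : G) * ((c : H) : G) * ((m : H) : G)⁻¹)
        = ((m : H) : G) * ((((m : H) : G)⁻¹ * u * ((m : H) : G)) * ((c : H) : G)) *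
          ((m : H) : G)⁻¹ := by group
      _ = _ := by rw [h3]; group
  have hp : IsPGroup 2 (Cfsg.generalizedFittingSubgroup ↥C) := by
    have h1 : IsPGroup 2 (Cfsg.generalizedFittingSubgroup ↥(C'.subgroupOf M)) := by
      have h2 := Components.map_generalizedFitting_isSubnormal_le hCn.isSubnormal
      rw [hFM] at h2
      exact (Thompson.isPGroup_pCore.to_le h2).of_equiv
        (Subgroup.equivMapOfInjective _ _ (C'.subgroupOf M).subtype_injective).symm
    let e : ↥(C'.subgroupOf M) ≃* ↥C :=
      (Subgroup.subgroupOfEquivOfLe hC'M).trans (Subgroup.subgroupOfEquivOfLe hCH)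
    rw [← Components.map_generalizedFitting_equiv e]
    exact h1.map _
  apply generalizedFitting_eq_pCore_of_centralizer_le
  set N := Subgroup.normalizer (T : Set G) with hN
  have hT2 : T.subgroupOf N ≤ Cfsg.pCore 2 ↥N :=
    Thompson.le_pCore Subgroup.normal_in_normalizer
      (hT.of_equiv (Subgroup.subgroupOfEquivOfLe Subgroup.le_normalizer).symm)
  intro x hx
  have hxC : (x : G) ∈ C := mem_centralizer_iff.mpr fun u hu =>
    congrArg Subtype.val (mem_centralizer_iff.mp hx ⟨u, Subgroup.le_normalizer hu⟩ (hT2 hu))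
  have hCN : C ≤ N := Subgroup.centralizer_le_normalizer _
  let j : ↥C →* ↥N := Subgroup.inclusion hCN
  have hjn : j.range.Normal := by
    rw [Subgroup.inclusion_range]
    exact Subgroup.normal_subgroupOf_centralizer_normalizer _
  have hFC : (Cfsg.generalizedFittingSubgroup ↥C).map j ≤ Cfsg.pCore 2 ↥N :=
    Thompson.le_pCore_of_isSubnormal
      (by
        have hni : (Cfsg.generalizedFittingSubgroup ↥C).IsSubnormal :=
          (inferInstance : (Cfsg.generalizedFittingSubgroup ↥C).Normal).isSubnormal
        have h5 : ((Cfsg.generalizedFittingSubgroup ↥C).map j.rangeRestrict).IsSubnormal :=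
          hni.map j.rangeRestrict_surjective
        have h6 := h5.trans' hjn.isSubnormal
        rwa [Subgroup.map_map, MonoidHom.subtype_comp_rangeRestrict] at h6)
      (hp.map j)
  have hxF : (⟨x, hxC⟩ : C) ∈ Cfsg.generalizedFittingSubgroup ↥C := by
    refine Components.centralizer_generalizedFitting_le (mem_centralizer_iff.mpr fun y hy => ?_)
    have h7 := congrArg Subtype.val (mem_centralizer_iff.mp hx (j y) (hFC ⟨y, hy, rfl⟩))
    exact Subtype.ext h7
  exact hFC ⟨_, hxF, Subtype.ext rfl⟩

end Cfsg.Agent.S1292
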