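import Cfsg.Statements.S0547
import Cfsg.Agent.Lib.Solvable.Maximal

set_option autoImplicit false
open Cfsg

namespace Cfsg.Agent.S0547

/-- Let a finite solvable group G act faithfully and primitively on a set, and let M be a minimal normal subgroup of G. Then M is transitive with trivial point stabilizers, and the number of points equals the order of M, which is a prime power p ^ d with d ≥ 1. -/
theorem result {G : Type*} [Group G] [Finite G] [Group.IsSolvable G] {Ω : Type*} [Nonempty Ω] [MulAction G Ω] [FaithfulSMul G Ω] (hprim : MulAction.IsPreprimitive G Ω) (M : Subgroup G) [M.Normal] (hM : M ≠ ⊥) (hmin : ∀ K : Subgroup G, K.Normal → K ≤ M → K = ⊥ ∨ K = M) : MulAction.IsPretransitive M Ω ∧ (∀ ω : Ω, MulAction.stabilizer M ω = ⊥) ∧ ∃ p d : ℕ, p.Prime ∧ 0 < d ∧ Nat.card Ω = p ^ d ∧ Nat.card M = p ^ d := by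
  obtain ⟨p, hp, -, hab, -, d, hd0, hd⟩ := Cfsg.Agent.Solvable.exists_prime_of_minimal_normal M hM hmin
  have := Cfsg.Agent.Solvable.nontrivial_of_faithful (Ω := Ω) hM
  have hU : ∀ ω : Ω, Subgroup.IsComplement' M (MulAction.stabilizer G ω) := fun ω =>
    Cfsg.Agent.Solvable.isComplement'_of_abelian_minimal
      (MulAction.IsPreprimitive.isCoatom_stabilizer_of_isPreprimitive G ω)
      (Cfsg.Agent.Solvable.normalCore_stabilizer_eq_bot ω) M hM
  obtain ⟨ω₀⟩ := ‹Nonempty Ω›
  have hcard : Nat.card Ω = Nat.card M := by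
    rw [← MulAction.index_stabilizer_of_transitive G ω₀, (hU ω₀).index_eq_card]
  refine ⟨⟨fun a b => ?_⟩, fun ω => ?_, p, d, hp, hd0, hcard.trans hd, hd⟩
  · obtain ⟨g, hg⟩ := MulAction.exists_smul_eq G a b
    have hgm : g ∈ M ⊔ MulAction.stabilizer G a := by
      rw [(hU a).sup_eq_top]; exact Subgroup.mem_top g
    rw [Subgroup.mem_sup_of_normal_left] at hgm
    obtain ⟨m, hm, u, hu, rfl⟩ := hgm
    refine ⟨⟨m, hm⟩, ?_⟩
    rw [mul_smul, MulAction.mem_stabilizer_iff.1 hu] at hg
    exact hg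
  · refine eq_bot_iff.2 fun m hm => Subgroup.mem_bot.2 (Subtype.ext ?_)
    exact Subgroup.disjoint_def.1 (hU ω).disjoint m.2 (MulAction.mem_stabilizer_iff.2 hm)

end Cfsg.Agent.S0547
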