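import Cfsg.Statements.S0188
import Cfsg.Agent.Lib.CharCore.Complete
-- import your own Cfsg.Agent.* helpers here

set_option autoImplicit false
open Cfsg

namespace Cfsg.Agent.S0188

open Cfsg.Agent.CharCore in
theorem classInner_prod {G H : Type*} [Group G] [Group H] [Fintype G] [Fintype H]
    (φ φ' : G → ℂ) (ψ ψ' : H → ℂ) :
    Cfsg.classInner (fun x : G × H => φ x.1 * ψ x.2) (fun x => φ' x.1 * ψ' x.2) =
      Cfsg.classInner φ φ' * Cfsg.classInner ψ ψ' := by
  simp only [Cfsg.classInner, Nat.card_prod, Nat.cast_mul, map_mul, mul_inv]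
  rw [Fintype.sum_prod_type, mul_mul_mul_comm ((Nat.card G : ℂ)⁻¹), Finset.sum_mul_sum]
  congr 1
  refine Finset.sum_congr rfl fun a _ => Finset.sum_congr rfl fun b _ => ?_
  ring

open Cfsg.Agent.CharCore in
theorem isIrrCharacter_prod {G H : Type*} [Group G] [Group H] [Finite G] [Finite H]
    {φ : G → ℂ} {ψ : H → ℂ} (hφ : Cfsg.IsIrrCharacter G φ) (hψ : Cfsg.IsIrrCharacter H ψ) :
    Cfsg.IsIrrCharacter (G × H) (fun x => φ x.1 * ψ x.2) := by
  have := Fintype.ofFinite G
  have := Fintype.ofFinite H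
  rw [isIrrCharacter_iff] at hφ hψ ⊢
  exact ⟨isCharacter_mul (isCharacter_comp hφ.1 (MonoidHom.fst G H))
      (isCharacter_comp hψ.1 (MonoidHom.snd G H)),
    by rw [classInner_prod, hφ.2, hψ.2, mul_one]⟩

/-- The irreducible complex characters of G × H are precisely the functions (g, h) ↦ φ g * ψ h with φ, ψ irreducible characters of G and H. -/
theorem result {G : Type*} [Group G] [Finite G] {H : Type*} [Group H] [Finite H] (θ : G × H → ℂ) : Cfsg.IsIrrCharacter (G × H) θ ↔ ∃ (φ : G → ℂ) (ψ : H → ℂ), Cfsg.IsIrrCharacter G φ ∧ Cfsg.IsIrrCharacter H ψ ∧ θ = fun x => φ x.1 * ψ x.2 := by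
  classical
  have := Fintype.ofFinite G
  have := Fintype.ofFinite H
  constructor
  · intro hθ
    by_contra hne
    push Not at hne
    have hc := Cfsg.Agent.CharCore.IsCharacter.isClassFunction
      (Cfsg.Agent.CharCore.IsIrrCharacter.isCharacter hθ)
    have h0 : ∀ (φ : Cfsg.IrrCharacter G) (ψ : Cfsg.IrrCharacter H),
        Cfsg.classInner θ (fun x : G × H => (φ : G → ℂ) x.1 * (ψ : H → ℂ) x.2) = 0 := fun φ ψ =>
      Cfsg.Agent.CharCore.classInner_irr_of_ne (χ := ⟨θ, hθ⟩)
        (ψ := ⟨_, isIrrCharacter_prod φ.2 ψ.2⟩) fun e => hne _ _ φ.2 ψ.2 (congrArg Subtype.val e)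
    have hf : ∀ ψ : Cfsg.IrrCharacter H,
        (fun g : G => Cfsg.classInner (fun h : H => θ (g, h)) ψ) = 0 := by
      intro ψ
      refine Cfsg.Agent.CharCore.eq_zero_of_classInner_irr_eq_zero (fun g x => ?_) fun φ => ?_
      · change Cfsg.classInner (fun h : H => θ (x * g * x⁻¹, h)) ψ =
          Cfsg.classInner (fun h : H => θ (g, h)) ψ
        congr 1
        funext h
        simpa using hc (g, h) (x, 1)
      · rw [← h0 φ ψ]
        simp only [Cfsg.classInner, Fintype.sum_prod_type, Nat.card_prod, Nat.cast_mul, map_mul,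
          Finset.mul_sum, Finset.sum_mul]
        refine Finset.sum_congr rfl fun g _ => Finset.sum_congr rfl fun h _ => ?_
        ring
    have hz : θ = 0 := by
      funext x
      have hrow : (fun h : H => θ (x.1, h)) = 0 :=
        Cfsg.Agent.CharCore.eq_zero_of_classInner_irr_eq_zero
          (fun h y => by simpa using hc (x.1, h) (1, y)) fun ψ => congrFun (hf ψ) x.1
      exact congrFun hrow x.2
    exact Cfsg.Agent.CharCore.irr_apply_one_ne_zero ⟨θ, hθ⟩ (congrFun hz 1)
  · rintro ⟨φ, ψ, hφ, hψ, rfl⟩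
    exact isIrrCharacter_prod hφ hψ

end Cfsg.Agent.S0188
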