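import Cfsg.Statements.S0169
import Cfsg.Agent.Lib.CharInd.Imprimitive
import Cfsg.Agent.Lib.CharClifford.Central

set_option autoImplicit false
open Cfsg

namespace Cfsg.Agent.S0169

/-- Itô's Theorem on character degrees: the degree of an irreducible complex representation of a finite group divides the index of any abelian normal subgroup. -/
theorem result {G : Type*} [Group G] [Finite G] {V : Type*} [AddCommGroup V] [Module ℂ V] [FiniteDimensional ℂ V] (ρ : Representation ℂ G V) [ρ.IsIrreducible] (H : Subgroup G) [H.Normal] (hH : ∀ a ∈ H, ∀ b ∈ H, a * b = b * a) : Module.finrank ℂ V ∣ H.index := by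
  haveI := Fintype.ofFinite G
  obtain ⟨T, W, hW, hAT, hirr, hscal, -, hfin, -⟩ :=
    CharInd.exists_induced_of_abelian_normal ρ H hH
  haveI := hirr
  let σ : Representation ℂ T W := CharInd.restRep ρ T W hW
  let K : Subgroup T := MonoidHom.ker σ
  let τ : Representation ℂ (T ⧸ K) W := QuotientGroup.lift K σ le_rfl
  haveI : τ.IsIrreducible := CharClifford.irreducible_of_comp σ (QuotientGroup.mk' K)
    (QuotientGroup.mk'_surjective K) τ (fun _ => rfl)
  have h1 := CharClifford.finrank_dvd_index_center τ
  have h2 : (H.subgroupOf T).map (QuotientGroup.mk' K) ≤ Subgroup.center (T ⧸ K) := by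
    rintro _ ⟨a, ha, rfl⟩
    refine Subgroup.mem_center_iff.2 fun q => ?_
    obtain ⟨g, rfl⟩ := QuotientGroup.mk'_surjective K q
    obtain ⟨c, hc⟩ := hscal a ha
    rw [← map_mul, ← map_mul, QuotientGroup.mk'_apply, QuotientGroup.mk'_apply, QuotientGroup.eq]
    show σ ((g * a)⁻¹ * (a * g)) = 1
    have hga : σ (g * a) = σ (a * g) := by
      apply LinearMap.ext
      intro w
      apply Subtype.ext
      show ρ ((g : G) * a) w = ρ ((a : G) * g) w
      rw [map_mul, map_mul, Module.End.mul_apply, Module.End.mul_apply, hc w w.2,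
        hc _ (hW g g.2 w w.2), map_smul]
    rw [map_mul, ← hga, ← map_mul, inv_mul_cancel, map_one]
  have h3 : Module.finrank ℂ W ∣ H.relIndex T :=
    h1.trans ((Subgroup.index_dvd_of_le h2).trans
      ((H.subgroupOf T).index_map_dvd (QuotientGroup.mk'_surjective K)))
  rw [hfin, mul_comm, ← Subgroup.relIndex_mul_index hAT]
  exact Nat.mul_dvd_mul_right h3 T.index

end Cfsg.Agent.S0169
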