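import Cfsg.Statements.S0158
import Cfsg.Agent.Lib.CharCore.Complete
import Mathlib.LinearAlgebra.TensorProduct.Basis
import Mathlib.LinearAlgebra.FreeModule.Finite.Matrix

set_option autoImplicit false
open Cfsg

namespace Cfsg.Agent.S0158

open scoped TensorProduct ComplexConjugate

/-- The Frobenius–Schur indicator of an irreducible complex representation of a finite group — the average over s of the character at s * s — is 0, 1 or −1, and it vanishes exactly when some character value is not real. -/
theorem result {G : Type*} [Group G] [Fintype G] {V : Type*} [AddCommGroup V] [Module ℂ V] [FiniteDimensional ℂ V] (ρ : Representation ℂ G V) [ρ.IsIrreducible] : ((Nat.card G : ℂ)⁻¹ * ∑ s : G, ρ.character (s * s) = 0 ∨ (Nat.card G : ℂ)⁻¹ * ∑ s : G, ρ.character (s * s) = 1 ∨ (Nat.card G : ℂ)⁻¹ * ∑ s : G, ρ.character (s * s) = -1) ∧ ((Nat.card G : ℂ)⁻¹ * ∑ s : G, ρ.character (s * s) = 0 ↔ ∃ s : G, (ρ.character s).im ≠ 0) := by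
  classical
  haveI : Invertible (Nat.card G : ℂ) := invertibleOfNonzero (Nat.cast_ne_zero.2 Nat.card_pos.ne')
  haveI : Invertible (Fintype.card G : ℂ) := by rw [Fintype.card_eq_nat_card]; infer_instance
  let σ : Representation ℂ G (V ⊗[ℂ] V) := ρ.tprod ρ
  let τ : V ⊗[ℂ] V →ₗ[ℂ] V ⊗[ℂ] V := (TensorProduct.comm ℂ V V).toLinearMap
  let P := σ.averageMap
  set ν : ℂ := (Nat.card G : ℂ)⁻¹ * ∑ s : G, ρ.character (s * s) with hν
  have htr : ∀ s : G, LinearMap.trace ℂ _ (τ ∘ₗ σ s) = ρ.character (s * s) := by
    intro s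
    set b := Module.finBasis ℂ V with hb
    rw [Representation.character, map_mul, LinearMap.trace_eq_matrix_trace ℂ (b.tensorProduct b),
      LinearMap.trace_eq_matrix_trace ℂ b, LinearMap.toMatrix_mul]
    simp only [Matrix.trace, Matrix.diag, Matrix.mul_apply, LinearMap.toMatrix_apply]
    rw [Fintype.sum_prod_type]
    refine Finset.sum_congr rfl fun i _ => Finset.sum_congr rfl fun j _ => ?_
    simp [σ, τ, Representation.tprod, Module.Basis.tensorProduct_apply,
      Module.Basis.tensorProduct_repr_tmul_apply, mul_comm]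
  have hP : LinearMap.trace ℂ _ (τ ∘ₗ P) = ν := by
    rw [hν, Nat.card_eq_fintype_card]
    simp only [P, Representation.averageMap, GroupAlgebra.average, map_smul, map_sum,
      LinearMap.comp_smul, Representation.asAlgebraHom_single, one_smul,
      smul_eq_mul, invOf_eq_inv, MonoidAlgebra.of_apply]
    congr 1
    show LinearMap.trace ℂ _ ((τ : Module.End ℂ (V ⊗[ℂ] V)) * ∑ s : G, σ s) = _
    rw [Finset.mul_sum, map_sum]
    exact Finset.sum_congr rfl fun s _ => htr s
  have hproj := Representation.isProj_averageMap σ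
  have hc : (Module.finrank ℂ σ.invariants : ℂ)
      = Cfsg.classInner ρ.character (fun g => conj (ρ.character g)) := by
    rw [← σ.card_inv_mul_sum_char_eq_finrank]
    simp only [Cfsg.classInner, Complex.conj_conj, σ, Representation.char_tensor, Pi.mul_apply]
  let x : Cfsg.IrrCharacter G := ⟨ρ.character, CharCore.isIrrCharacter_character ρ⟩
  let y : Cfsg.IrrCharacter G := ⟨fun g => conj (ρ.character g), CharCore.isIrrCharacter_star x.2⟩
  have hcxy : (Module.finrank ℂ σ.invariants : ℂ) = if x = y then 1 else 0 :=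
    hc.trans (CharCore.classInner_irr x y)
  have hreal : (∃ s : G, (ρ.character s).im ≠ 0) ↔ x ≠ y := by
    rw [Ne, Subtype.ext_iff, funext_iff, not_forall]
    exact exists_congr fun s => not_congr (Complex.conj_eq_iff_im.symm.trans eq_comm)
  by_cases hxy : x = y
  · rw [if_pos hxy] at hcxy
    have h1 : Module.finrank ℂ σ.invariants = 1 := by exact_mod_cast hcxy
    obtain ⟨w, hw0, hwspan⟩ := finrank_eq_one_iff'.1 h1
    have hτinv : ∀ v ∈ σ.invariants, τ v ∈ σ.invariants := by
      intro v hv
      rw [Representation.mem_invariants] at hv ⊢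
      intro g
      have hcomm : σ g ∘ₗ τ = τ ∘ₗ σ g := by
        apply TensorProduct.ext'
        intro a b
        simp [σ, τ, Representation.tprod]
      rw [← LinearMap.comp_apply, hcomm, LinearMap.comp_apply, hv g]
    obtain ⟨c, hc'⟩ := hwspan ⟨τ w, hτinv w w.2⟩
    have hτw : τ (w : V ⊗[ℂ] V) = c • (w : V ⊗[ℂ] V) := (congrArg Subtype.val hc').symm
    have hττ : ∀ z, τ (τ z) = z := fun z => (TensorProduct.comm ℂ V V).symm_apply_apply z |> fun h => by
      simpa [τ] using h
    have hc2 : c * c = 1 := by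
      have h := hττ (w : V ⊗[ℂ] V)
      rw [hτw, map_smul, hτw, smul_smul] at h
      exact smul_left_injective ℂ (fun e => hw0 (Subtype.ext e))
        (show (c * c) • (w : V ⊗[ℂ] V) = (1 : ℂ) • (w : V ⊗[ℂ] V) by rw [h, one_smul])
    have hτP : τ ∘ₗ P = c • P := by
      apply LinearMap.ext
      intro v
      obtain ⟨a, ha⟩ := hwspan ⟨P v, hproj.map_mem v⟩
      have ha' : P v = a • (w : V ⊗[ℂ] V) := (congrArg Subtype.val ha).symm
      rw [LinearMap.comp_apply, LinearMap.smul_apply, ha', map_smul, hτw, smul_smul, smul_smul,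
        mul_comm]
    have hν1 : ν = c := by
      rw [← hP, hτP, map_smul, hproj.trace, h1, Nat.cast_one, smul_eq_mul, mul_one]
    refine ⟨?_, ?_⟩
    · rw [hν1]
      exact Or.inr (mul_self_eq_one_iff.1 hc2)
    · rw [hν1, hreal]
      refine iff_of_false (fun h => ?_) (fun h => h hxy)
      rw [h, mul_zero] at hc2
      exact zero_ne_one hc2
  · rw [if_neg hxy] at hcxy
    have h0 : σ.invariants = ⊥ := Submodule.finrank_eq_zero.1 (by exact_mod_cast hcxy)
    have hP0 : P = 0 := by
      apply LinearMap.ext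
      intro v
      have h := hproj.map_mem v
      rw [h0, Submodule.mem_bot] at h
      exact h
    have hν0 : ν = 0 := by rw [← hP, hP0, LinearMap.comp_zero, map_zero]
    exact ⟨Or.inl hν0, iff_of_true hν0 (hreal.2 hxy)⟩

end Cfsg.Agent.S0158
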