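import Cfsg.Statements.S0915
import Cfsg.Agent.Lib.BlocksDefect.Kernel
import Cfsg.Agent.Lib.Thompson.PSolvable
import Cfsg.Prelude.Def_CaseTheorems

set_option autoImplicit false
open Cfsg

namespace Cfsg.Agent.S0915

/-- Let G be a finite p-solvable group with trivial largest normal subgroup of order prime to p. Then any two irreducible characters of G lie in the same block relative to every maximal ideal M of the algebraic integers containing p: G has a single p-block. -/
theorem result {G : Type*} [Group G] [Finite G] (p : ℕ) [Fact p.Prime] (M : Ideal Cfsg.AlgInt) (hM : Cfsg.IsPModular p M) (hsolv : Cfsg.IsPSolvable p G) (hcore : Cfsg.pPrimeCore p G = ⊥) (χ ψ : Cfsg.IrrCharacter G) : Cfsg.SameBlock M (χ : G → ℂ) (ψ : G → ℂ) := by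
  have := BlocksCore.isPrime hM
  haveI := Fintype.ofFinite G
  have hQ : IsPGroup p (pCore p G) := Thompson.isPGroup_pCore
  have hle := Thompson.centralizer_pCore_le hsolv hcore
  intro g
  by_cases hg : ∀ x, IsConj g x → x ∉ Subgroup.centralizer (pCore p G : Set G)
  · exact BlocksCore.memLocalIdeal_sub
      (BlocksDefect.centralChar_memLocalIdeal_of_notMem (pCore p G) hM hQ hg χ)
      (BlocksDefect.centralChar_memLocalIdeal_of_notMem (pCore p G) hM hQ hg ψ)
  push Not at hg
  obtain ⟨x, hx, hxC⟩ := hg
  have hgQ : g ∈ pCore p G := by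
    obtain ⟨c, hc⟩ := isConj_iff.mp hx.symm
    rw [← hc]
    exact Subgroup.Normal.conj_mem inferInstance x (hle hxC) c
  have key : ∀ φ : IrrCharacter G, MemLocalIdeal M (centralChar (φ : G → ℂ) g -
      ((Subgroup.centralizer ({g} : Set G)).index : ℂ)) := by
    intro φ
    obtain ⟨η, hη, hk⟩ := BlocksDefect.exists_mem_kernel_pSubgroup hM
      (BlocksCore.isPBlock_blockOf φ) (pCore p G) hQ
    have h1 : centralChar (η : G → ℂ) g = ((Subgroup.centralizer ({g} : Set G)).index : ℂ) := by
      rw [centralChar, hk g hgQ, mul_div_assoc, div_self (BlocksCore.irr_one_ne_zero η), mul_one]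
    rw [← h1]
    exact BlocksCore.sameBlock_of_mem (BlocksCore.isPBlock_blockOf φ)
      (BlocksCore.mem_blockOf_self φ) hη g
  simpa using BlocksCore.memLocalIdeal_sub (key χ) (key ψ)

end Cfsg.Agent.S0915
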