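import Cfsg.Statements.S4669
import Cfsg.Agent.BC85.Counting

set_option autoImplicit false
open Cfsg

namespace Cfsg.Agent.S4669

/-- Fix a prime p and a maximal ideal M of the algebraic integers containing p. If the p-block B of the finite group G has a defect group P contained in the centre of G, then B has p-regular rank one (a single irreducible Brauer character). -/
theorem result {G : Type*} [Group G] [Fintype G] (p : ℕ) [Fact p.Prime] (M : Ideal Cfsg.AlgInt) (hM : Cfsg.IsPModular p M) (B : Set (Cfsg.IrrCharacter G)) (hB : Cfsg.IsPBlock M B) (P : Subgroup G) (hD : Cfsg.IsDefectGroup p M B P) (hPZ : P ≤ Subgroup.center G) : Cfsg.blockRank p B = 1 := by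
  classical
  haveI := BlocksCore.finite_irr (G := G)
  haveI := Fintype.ofFinite B
  haveI : Fintype P := Fintype.ofFinite _
  have hp := hM.1
  have hN0 : (Nat.card G : ℂ) ≠ 0 := Nat.cast_ne_zero.2 Nat.card_pos.ne'
  have hPg : IsPGroup p P := BlocksDefect.isPGroup_of_isDefectGroup hD
  -- central elements act by scalars
  have hscal : ∀ (χ : B) (u : P) (x : G), ((χ : Cfsg.IrrCharacter G) : G → ℂ) ((u : G) * x) =
      ((χ : Cfsg.IrrCharacter G) : G → ℂ) (u : G) / ((χ : Cfsg.IrrCharacter G) : G → ℂ) 1 *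
        ((χ : Cfsg.IrrCharacter G) : G → ℂ) x := by
    intro χ u x
    have h := BlocksCore.sum_char_conj_mul (χ : Cfsg.IrrCharacter G) (u : G) x
    have hc : ∀ h' : G, h'⁻¹ * (u : G) * h' = u := fun h' => by
      rw [mul_assoc, ← Subgroup.mem_center_iff.1 (hPZ u.2) h', inv_mul_cancel_left]
    simp only [hc, Finset.sum_const, Finset.card_univ, nsmul_eq_mul,
      Fintype.card_eq_nat_card] at h
    rw [div_mul_eq_mul_div]
    apply mul_left_cancel₀ hN0
    rw [h]; ring
  -- the regular part of the kernel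
  set lam : B → P → ℂ := fun χ u =>
    ((χ : Cfsg.IrrCharacter G) : G → ℂ) (u : G) / ((χ : Cfsg.IrrCharacter G) : G → ℂ) 1 with hlam
  have hlam1 : ∀ χ, lam χ 1 = 1 := fun χ => div_self (BlocksCore.irr_one_ne_zero _)
  have hlammul : ∀ χ u w, lam χ (u * w) = lam χ u * lam χ w := fun χ u w => by
    simp only [hlam, Subgroup.coe_mul, hscal χ u (w : G)]
    ring
  set R := Finset.univ.filter fun χ : B => ∀ u, lam χ u = 1 with hR
  have hsum : ∀ χ : B, ∑ u : P, lam χ u = if χ ∈ R then (Nat.card P : ℂ) else 0 := by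
    intro χ
    by_cases hχ : χ ∈ R
    · rw [if_pos hχ]
      rw [Finset.sum_congr rfl fun u _ => (Finset.mem_filter.1 hχ).2 u, Finset.sum_const,
        Finset.card_univ, nsmul_eq_mul, mul_one, Fintype.card_eq_nat_card]
    · rw [if_neg hχ]
      obtain ⟨u, hu⟩ : ∃ u, lam χ u ≠ 1 := by
        by_contra h
        push Not at h
        exact hχ (Finset.mem_filter.2 ⟨Finset.mem_univ _, h⟩)
      have h : lam χ u * ∑ w : P, lam χ w = ∑ w : P, lam χ w := by
        rw [Finset.mul_sum]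
        simp only [← hlammul]
        exact Fintype.sum_equiv (Equiv.mulLeft u) _ _ fun w => rfl
      by_contra h0
      exact hu (mul_right_cancel₀ h0 (h.trans (one_mul _).symm))
  have hK : ∀ x y : G, ¬ p ∣ orderOf x → ¬ p ∣ orderOf y →
      ∑ χ : B, ((χ : Cfsg.IrrCharacter G) : G → ℂ) x * starRingEnd ℂ (((χ : Cfsg.IrrCharacter G) : G → ℂ) y) =
      (Nat.card P : ℂ) * ∑ χ ∈ R, ((χ : Cfsg.IrrCharacter G) : G → ℂ) x *
        starRingEnd ℂ (((χ : Cfsg.IrrCharacter G) : G → ℂ) y) := by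
    intro x y hx hy
    set T : P → ℂ := fun u => ∑ χ : B, ((χ : Cfsg.IrrCharacter G) : G → ℂ) x *
        starRingEnd ℂ (((χ : Cfsg.IrrCharacter G) : G → ℂ) ((u : G) * y)) with hT
    have h0 : ∀ u : P, u ≠ 1 → T u = 0 := by
      intro u hu
      have hd : p ∣ orderOf ((u : G) * y) := by
        obtain ⟨j, hj⟩ := (IsPGroup.iff_orderOf.1 hPg) u
        have hcom : Commute (u : G) y := (Subgroup.mem_center_iff.1 (hPZ u.2) y).symm
        have hcop : Nat.Coprime (orderOf (u : G)) (orderOf y) := by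
          rw [Subgroup.orderOf_coe, hj]
          exact Nat.Coprime.pow_left _ ((hp.coprime_iff_not_dvd).2 hy)
        rw [hcom.orderOf_mul_eq_mul_orderOf_of_coprime hcop, Subgroup.orderOf_coe, hj]
        refine dvd_mul_of_dvd_left (dvd_pow_self p fun hj0 => hu ?_) _
        rw [hj0, pow_zero, orderOf_eq_one_iff] at hj
        exact hj
      rw [hT, ← BlocksCore.weakOrth hM hB hx hd, BC85.finsum_block]
    have h1 : ∑ u : P, T u = T 1 := Finset.sum_eq_single 1 (fun u _ hu => h0 u hu)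
      (fun h => absurd (Finset.mem_univ _) h)
    have h2 : ∀ u, T u = ∑ χ : B, starRingEnd ℂ (lam χ u) *
        (((χ : Cfsg.IrrCharacter G) : G → ℂ) x * starRingEnd ℂ (((χ : Cfsg.IrrCharacter G) : G → ℂ) y)) := by
      intro u
      refine Finset.sum_congr rfl fun χ _ => ?_
      rw [hscal χ u y, map_mul]
      ring
    have h3 : T 1 = ∑ χ : B, ((χ : Cfsg.IrrCharacter G) : G → ℂ) x *
        starRingEnd ℂ (((χ : Cfsg.IrrCharacter G) : G → ℂ) y) := by simp [hT]
    rw [← h3, ← h1]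
    simp only [h2]
    rw [Finset.sum_comm, Finset.mul_sum, hR, Finset.sum_filter]
    refine Finset.sum_congr rfl fun χ _ => ?_
    rw [← Finset.sum_mul, ← map_sum, hsum]
    by_cases hχ : χ ∈ R
    · rw [if_pos hχ, map_natCast, if_pos (Finset.mem_filter.1 hχ).2]
    · rw [if_neg hχ, map_zero, zero_mul, if_neg fun h => hχ (Finset.mem_filter.2 ⟨Finset.mem_univ _, h⟩)]
  obtain ⟨m, hm, hsy, hi, hdv, hu, -⟩ := BC85.exists_matrix hM hB
  obtain ⟨θ, hθ, hθ0⟩ := BlocksDefect.exists_height_zero hM hB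
  obtain ⟨hrow, hdiag, -⟩ := BC85.row_facts p hp (Cfsg.blockDefect p B)
    (fun χ : B => Cfsg.blockHeight p B ((χ : Cfsg.IrrCharacter G) : G → ℂ)) m hsy hi hdv hu
    (o := ⟨θ, hθ⟩) hθ0
  have hcardP : (Nat.card P : ℂ) = (p : ℂ) ^ Cfsg.blockDefect p B := by
    rw [BlocksDefect.defectGroup_natCard hM hB hD, Nat.cast_pow]
  -- the elements `u * x`
  set S : Finset (P × G) := Finset.univ.filter fun w => ¬ p ∣ orderOf w.2 with hS
  have hinj : Set.InjOn (fun w : P × G => (w.1 : G) * w.2) S := by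
    rintro ⟨u, x⟩ hx ⟨w, y⟩ hy h
    simp only [hS, Finset.coe_filter, Finset.mem_univ, true_and, Set.mem_setOf_eq] at hx hy
    simp only at h
    have hyx : y = (((w⁻¹ * u : P)) : G) * x := by
      rw [Subgroup.coe_mul, InvMemClass.coe_inv, mul_assoc, h, inv_mul_cancel_left]
    obtain ⟨j, hj⟩ := (IsPGroup.iff_orderOf.1 hPg) (w⁻¹ * u)
    have hcom : Commute (((w⁻¹ * u : P)) : G) x :=
      (Subgroup.mem_center_iff.1 (hPZ (w⁻¹ * u).2) x).symm
    rw [← Subgroup.orderOf_coe] at hj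
    have hcop : Nat.Coprime (orderOf (((w⁻¹ * u : P)) : G)) (orderOf x) := by
      rw [hj]; exact Nat.Coprime.pow_left _ ((hp.coprime_iff_not_dvd).2 hx)
    have hj0 : j = 0 := by
      by_contra hne
      apply hy
      rw [hyx, hcom.orderOf_mul_eq_mul_orderOf_of_coprime hcop, hj]
      exact dvd_mul_of_dvd_left (dvd_pow_self p hne) _
    rw [hj0, pow_zero, orderOf_eq_one_iff, OneMemClass.coe_eq_one, inv_mul_eq_one] at hj
    subst hj
    exact Prod.ext rfl (mul_left_cancel h)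
  have hsumR : ∀ (χ ψ : B), χ ∈ R → ψ ∈ R →
      ∑ z ∈ S.image (fun w : P × G => (w.1 : G) * w.2), ((χ : Cfsg.IrrCharacter G) : G → ℂ) z *
        starRingEnd ℂ (((ψ : Cfsg.IrrCharacter G) : G → ℂ) z) =
      (Nat.card G : ℂ) * (m χ ψ : ℂ) := by
    intro χ ψ hχ hψ
    rw [Finset.sum_image hinj, hm, ← hcardP, BC85.prj_def, Cfsg.classInner]
    have hS' : S = (Finset.univ : Finset P) ×ˢ Finset.univ.filter fun x : G => ¬ p ∣ orderOf x := by
      ext w; simp [hS]
    have h1 : ∀ (η : B), η ∈ R → ∀ (u : P) (x : G),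
        ((η : Cfsg.IrrCharacter G) : G → ℂ) ((u : G) * x) = ((η : Cfsg.IrrCharacter G) : G → ℂ) x := by
      intro η hη u x
      rw [hscal η u x]
      have := (Finset.mem_filter.1 hη).2 u
      simp only [hlam] at this
      rw [this, one_mul]
    rw [hS', Finset.sum_product]
    simp only [h1 χ hχ, h1 ψ hψ, Finset.sum_const, Finset.card_univ, nsmul_eq_mul,
      Fintype.card_eq_nat_card, Finset.sum_filter]
    rw [mul_left_comm (Nat.card G : ℂ), ← mul_assoc (Nat.card G : ℂ),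
      mul_inv_cancel₀ hN0, one_mul]
    congr 1
    refine Finset.sum_congr rfl fun x _ => ?_
    by_cases hx : p ∣ orderOf x
    · rw [if_neg (not_not.2 hx), BC85.pRegularPart_neg hx, zero_mul]
    · rw [if_pos hx, BC85.pRegularPart_pos hx]
  have htot : ∀ (χ ψ : B), ∑ z : G, ((χ : Cfsg.IrrCharacter G) : G → ℂ) z *
      starRingEnd ℂ (((ψ : Cfsg.IrrCharacter G) : G → ℂ) z) =
      if χ = ψ then (Nat.card G : ℂ) else 0 := by
    intro χ ψ
    simp only [BlocksCore.conj_irr, BlocksCore.sum_char_mul_inv]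
    simp [Subtype.coe_inj]
  -- members trivial on `P` are unique
  have hdiag1 : ∀ χ ∈ R, m χ χ = 1 ∧ ∀ z ∉ S.image (fun w : P × G => (w.1 : G) * w.2),
      ((χ : Cfsg.IrrCharacter G) : G → ℂ) z = 0 := by
    intro χ hχ
    have h1 := hsumR χ χ hχ hχ
    have h2 := htot χ χ
    rw [if_pos rfl, ← Finset.sum_add_sum_compl (S.image fun w : P × G => (w.1 : G) * w.2), h1] at h2
    set rest := ∑ z ∈ (S.image fun w : P × G => (w.1 : G) * w.2)ᶜ,
      ((χ : Cfsg.IrrCharacter G) : G → ℂ) z * starRingEnd ℂ (((χ : Cfsg.IrrCharacter G) : G → ℂ) z)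
      with hrest
    have h3 : (Nat.card G : ℝ) * (m χ χ : ℝ) + ∑ z ∈ (S.image fun w : P × G => (w.1 : G) * w.2)ᶜ,
        Complex.normSq (((χ : Cfsg.IrrCharacter G) : G → ℂ) z) = (Nat.card G : ℝ) := by
      have : rest = ((∑ z ∈ (S.image fun w : P × G => (w.1 : G) * w.2)ᶜ,
          Complex.normSq (((χ : Cfsg.IrrCharacter G) : G → ℂ) z) : ℝ) : ℂ) := by
        rw [hrest]; push_cast; exact Finset.sum_congr rfl fun z _ => Complex.mul_conj _
      rw [this] at h2
      exact_mod_cast h2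
    have h4 : 0 ≤ ∑ z ∈ (S.image fun w : P × G => (w.1 : G) * w.2)ᶜ,
        Complex.normSq (((χ : Cfsg.IrrCharacter G) : G → ℂ) z) :=
      Finset.sum_nonneg fun z _ => Complex.normSq_nonneg _
    have hG : (0 : ℝ) < Nat.card G := by exact_mod_cast Nat.card_pos
    have h5 : m χ χ = 1 := by
      have : (m χ χ : ℝ) ≤ 1 := by nlinarith
      have := hdiag χ
      have : (m χ χ : ℤ) ≤ 1 := by exact_mod_cast ‹(m χ χ : ℝ) ≤ 1›
      omega
    refine ⟨h5, fun z hz => ?_⟩
    rw [h5, Int.cast_one, mul_one, add_eq_left] at h3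
    exact Complex.normSq_eq_zero.1
      ((Finset.sum_eq_zero_iff_of_nonneg fun z _ => Complex.normSq_nonneg _).1 h3 z
        (Finset.mem_compl.2 hz))
  have huniq : ∀ χ ∈ R, ∀ ψ ∈ R, χ = ψ := by
    intro χ hχ ψ hψ
    by_contra hne
    have h0 : ∀ η ∈ R, Cfsg.blockHeight p B ((η : Cfsg.IrrCharacter G) : G → ℂ) = 0 := by
      intro η hη
      by_contra hh
      have h := (dvd_pow_self (p : ℤ) hh).trans (hdv η η)
      rw [(hdiag1 η hη).1] at h
      have := Int.le_of_dvd one_pos h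
      have := hp.two_le
      omega
    apply hu χ ψ (h0 ψ hψ)
    have h1 := hsumR χ ψ hχ hψ
    have h2 := htot χ ψ
    rw [if_neg hne, ← Finset.sum_add_sum_compl (S.image fun w : P × G => (w.1 : G) * w.2), h1,
      Finset.sum_eq_zero fun z hz => by
        rw [(hdiag1 χ hχ).2 z (Finset.mem_compl.1 hz), zero_mul], add_zero, mul_eq_zero] at h2
    have : m χ ψ = 0 := by exact_mod_cast h2.resolve_left hN0
    rw [this]
    exact dvd_zero _
  -- existence
  have h11 := hK 1 1 (by rw [orderOf_one]; exact hp.not_dvd_one) (by rw [orderOf_one]; exact hp.not_dvd_one)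
  obtain ⟨χ₀, hχ₀⟩ : R.Nonempty := by
    rw [Finset.nonempty_iff_ne_empty]
    intro he
    rw [he, Finset.sum_empty, mul_zero] at h11
    simp only [BlocksCore.irr_one_eq, map_natCast, ← Nat.cast_mul, ← Nat.cast_sum,
      Nat.cast_eq_zero, Finset.sum_eq_zero_iff, Finset.mem_univ, true_implies, mul_self_eq_zero] at h11
    exact (BlocksCore.charDegree_pos θ).ne' (h11 ⟨θ, hθ⟩)
  have hR1 : R = {χ₀} := Finset.eq_singleton_iff_unique_mem.2 ⟨hχ₀, fun ψ hψ => huniq ψ hψ χ₀ hχ₀⟩
  -- every regular part is a multiple of that of `χ₀`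
  have hspan : Submodule.span ℂ ((fun χ : Cfsg.IrrCharacter G => Cfsg.pRegularPart p (χ : G → ℂ)) '' B) =
      ℂ ∙ Cfsg.pRegularPart p ((χ₀ : Cfsg.IrrCharacter G) : G → ℂ) := by
    refine le_antisymm (Submodule.span_le.2 ?_)
      ((Submodule.span_singleton_le_iff_mem _ _).2 (Submodule.subset_span ⟨_, χ₀.2, rfl⟩))
    rintro _ ⟨χ, hχ, rfl⟩
    rw [SetLike.mem_coe, Submodule.mem_span_singleton]
    refine ⟨(Nat.card G : ℂ)⁻¹ * ∑ y : G, Cfsg.pRegularPart p (χ : G → ℂ) y *
      ((Nat.card P : ℂ) * starRingEnd ℂ (((χ₀ : Cfsg.IrrCharacter G) : G → ℂ) y)), ?_⟩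
    funext x
    by_cases hx : p ∣ orderOf x
    · simp [BC85.pRegularPart_neg hx]
    rw [Pi.smul_apply, smul_eq_mul, BC85.pRegularPart_pos hx]
    show _ = Cfsg.pRegularPart p (χ : G → ℂ) x
    rw [BC85.pRegularPart_eq_finsum hM hB hχ, BC85.finsum_block]
    simp only [BC85.prj_def, Cfsg.classInner, Finset.mul_sum, Finset.sum_mul]
    rw [Finset.sum_comm (s := (Finset.univ : Finset B))]
    refine Finset.sum_congr rfl fun y _ => ?_
    by_cases hy : p ∣ orderOf y
    · simp [BC85.pRegularPart_neg hy]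
    have h := hK x y hx hy
    rw [hR1, Finset.sum_singleton] at h
    calc _ = (Nat.card G : ℂ)⁻¹ * Cfsg.pRegularPart p (χ : G → ℂ) y * ((Nat.card P : ℂ) *
          (((χ₀ : Cfsg.IrrCharacter G) : G → ℂ) x * starRingEnd ℂ (((χ₀ : Cfsg.IrrCharacter G) : G → ℂ) y))) := by ring
      _ = _ := by
          rw [← h, Finset.mul_sum]
          exact Finset.sum_congr rfl fun ψ _ => by ring
  rw [Cfsg.blockRank, hspan]
  refine finrank_span_singleton fun h0 => ?_
  have := congrFun h0 1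
  rw [BC85.pRegularPart_pos (by rw [orderOf_one]; exact hp.not_dvd_one)] at this
  exact BlocksCore.irr_one_ne_zero _ this

end Cfsg.Agent.S4669
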