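import Cfsg.Statements.S4675
import Cfsg.Agent.BC85.Counting

set_option autoImplicit false
open Cfsg

namespace Cfsg.Agent.S4675

/-- Fix a prime p and a maximal ideal M of the algebraic integers containing p. Let B be a p-block of the finite group G with defect group P and p-regular rank one (a single irreducible Brauer character). Then there are a function φ on G that is, on the p-regular elements, an integer combination of the members of B, and natural numbers d_χ (χ ∈ B), such that every χ ∈ B agrees with d_χ·φ on the p-regular elements and Σ_{χ ∈ B} d_χ² equals the order of P (the single Cartan invariant of B is the order of P). -/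
theorem result {G : Type*} [Group G] [Fintype G] (p : ℕ) [Fact p.Prime] (M : Ideal Cfsg.AlgInt) (hM : Cfsg.IsPModular p M) (B : Set (Cfsg.IrrCharacter G)) (hB : Cfsg.IsPBlock M B) (P : Subgroup G) (hP : Cfsg.IsDefectGroup p M B P) (hl : Cfsg.blockRank p B = 1) : ∃ φ : G → ℂ, ∃ d : Cfsg.IrrCharacter G → ℕ, (∃ n : Cfsg.IrrCharacter G → ℤ, ∀ x : G, Cfsg.IsPRegular p x → φ x = ∑ᶠ ψ ∈ B, (n ψ : ℂ) * (ψ : G → ℂ) x) ∧ (∀ χ ∈ B, ∀ x : G, Cfsg.IsPRegular p x → (χ : G → ℂ) x = (d χ : ℂ) * φ x) ∧ ∑ᶠ χ ∈ B, d χ ^ 2 = Nat.card P := by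
  classical
  haveI := BlocksCore.finite_irr (G := G)
  haveI := Fintype.ofFinite B
  haveI := BlocksCore.isPrime hM
  haveI : Nonempty B := (BlocksCore.isPBlock_nonempty hB).to_subtype
  set e : B → ℕ := fun χ => Cfsg.charDegree ((χ : Cfsg.IrrCharacter G) : G → ℂ) with he
  have he1 : ∀ χ : B, ((χ : Cfsg.IrrCharacter G) : G → ℂ) 1 = (e χ : ℂ) := fun χ =>
    BlocksCore.irr_one_eq _
  have hepos : ∀ χ : B, 0 < e χ := fun χ => BlocksCore.charDegree_pos _
  set F : Cfsg.IrrCharacter G → G → ℂ := fun χ => Cfsg.pRegularPart p (χ : G → ℂ) with hF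
  have hF1 : ∀ χ : B, F χ 1 = (e χ : ℂ) := fun χ => by
    rw [← he1]; exact BC85.pRegularPart_pos (by rw [orderOf_one]; exact hM.1.not_dvd_one)
  -- all regular parts are proportional to the degrees
  have hprop : ∀ χ ψ : B, ∀ x, (e ψ : ℂ) * F χ x = (e χ : ℂ) * F ψ x := by
    intro χ ψ x
    have hne : F ψ ≠ 0 := fun h0 => (hepos ψ).ne' (by
      have h7 := hF1 ψ; rw [h0, Pi.zero_apply] at h7; exact_mod_cast h7.symm)
    set S := Submodule.span ℂ (F '' B) with hS
    have hψS : F ψ ∈ S := Submodule.subset_span ⟨_, ψ.2, rfl⟩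
    have hχS : F χ ∈ S := Submodule.subset_span ⟨_, χ.2, rfl⟩
    obtain ⟨c, hc⟩ := (finrank_eq_one_iff_of_nonzero' (⟨F ψ, hψS⟩ : S)
      (fun h => hne (congrArg Subtype.val h))).1 hl ⟨F χ, hχS⟩
    have hc' : ∀ y, c * F ψ y = F χ y := fun y => congrFun (congrArg Subtype.val hc) y
    rw [← hc', ← hF1 χ, ← hc' 1, hF1]
    ring
  obtain ⟨m, hm, hsy, hi, -, hu, -⟩ := BC85.exists_matrix hM hB
  obtain ⟨θ, hθ, hθ0⟩ := BlocksDefect.exists_height_zero hM hB
  set o : B := ⟨θ, hθ⟩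
  -- the primitive vector
  set g := Finset.univ.gcd fun χ : B => (e χ : ℤ) with hg
  have hg0 : g ≠ 0 := fun h0 => (hepos o).ne' (by
    exact_mod_cast Finset.gcd_eq_zero_iff.1 h0 o (Finset.mem_univ _))
  have hgdiv : ∀ χ : B, g ∣ (e χ : ℤ) := fun χ => Finset.gcd_dvd (Finset.mem_univ χ)
  choose v hv using hgdiv
  obtain ⟨z, hz⟩ := Finset.gcd_eq_sum_mul Finset.univ (fun χ : B => (e χ : ℤ))
  have hzv : ∑ χ : B, v χ * z χ = 1 := by
    apply mul_left_cancel₀ hg0
    rw [Finset.mul_sum, mul_one]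
    conv_rhs => rw [hg, hz]
    exact Finset.sum_congr rfl fun χ _ => by rw [← mul_assoc, ← hv]
  have hgC : (g : ℂ) ≠ 0 := by exact_mod_cast hg0
  have hvC : ∀ χ : B, (e χ : ℂ) = (g : ℂ) * (v χ : ℂ) := fun χ => by exact_mod_cast hv χ
  have hprop' : ∀ χ ψ : B, ∀ x, (v ψ : ℂ) * F χ x = (v χ : ℂ) * F ψ x := fun χ ψ x => by
    have := hprop χ ψ x
    rw [hvC, hvC, mul_assoc, mul_assoc] at this
    exact mul_left_cancel₀ hgC this
  set φ : G → ℂ := fun x => ∑ ψ : B, (z ψ : ℂ) * F ψ x with hφ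
  have hFφ : ∀ χ : B, ∀ x, F χ x = (v χ : ℂ) * φ x := by
    intro χ x
    rw [hφ, Finset.mul_sum]
    calc F χ x = (∑ ψ : B, (v ψ : ℂ) * (z ψ : ℂ)) * F χ x := by
          rw [show (∑ ψ : B, (v ψ : ℂ) * (z ψ : ℂ)) = 1 by exact_mod_cast hzv, one_mul]
      _ = _ := by
          rw [Finset.sum_mul]
          refine Finset.sum_congr rfl fun ψ _ => ?_
          rw [mul_right_comm, hprop' χ ψ x]
          ring
  -- the matrix is `c * v * v`
  have hmc : ∀ χ χ' ψ : B, v χ' * m χ ψ = v χ * m χ' ψ := by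
    intro χ χ' ψ
    apply Int.cast_injective (α := ℂ)
    push_cast
    rw [hm, hm, BC85.prj_def, BC85.prj_def, Cfsg.classInner, Cfsg.classInner]
    simp only [show ∀ (η : B) x, Cfsg.pRegularPart p ((η : Cfsg.IrrCharacter G) : G → ℂ) x =
      (v η : ℂ) * φ x from hFφ, mul_assoc, ← Finset.mul_sum]
    ring
  set c := ∑ χ : B, ∑ ψ : B, z χ * z ψ * m χ ψ with hc
  have hmv : ∀ χ ψ : B, m χ ψ = c * (v χ * v ψ) := by
    intro χ ψ
    calc m χ ψ = (∑ η : B, v η * z η) * m χ ψ := by rw [hzv, one_mul]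
      _ = ∑ η : B, v χ * (z η * m η ψ) := by
          rw [Finset.sum_mul]
          exact Finset.sum_congr rfl fun η _ => by rw [mul_right_comm, hmc χ η ψ]; ring
      _ = v χ * ∑ η : B, z η * ((∑ ζ : B, v ζ * z ζ) * m η ψ) := by
          rw [hzv, Finset.mul_sum]; simp
      _ = _ := by
          rw [hc, Finset.sum_mul, Finset.mul_sum]
          refine Finset.sum_congr rfl fun η _ => ?_
          rw [Finset.sum_mul, Finset.mul_sum, Finset.mul_sum, Finset.sum_mul]
          refine Finset.sum_congr rfl fun ζ _ => ?_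
          have h5 : v ζ * m η ψ = v ψ * m η ζ := by rw [hsy η ψ, hsy η ζ, hmc ψ ζ η]
          rw [mul_right_comm (v ζ), h5]
          ring
  have hvpos : ∀ χ : B, v χ ≠ 0 := fun χ h0 => (hepos χ).ne' (by
    have := hv χ; rw [h0, mul_zero] at this; exact_mod_cast this)
  have hmoo : m o o ≠ 0 := fun h0 => hu o o hθ0 (by rw [h0]; exact dvd_zero _)
  have hc0 : c ≠ 0 := fun h0 => hmoo (by rw [hmv, h0, zero_mul])
  have hcn : c * ∑ χ : B, v χ ^ 2 = (p : ℤ) ^ Cfsg.blockDefect p B := by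
    have h1 := hi o o
    have hne : c * (v o * v o) ≠ 0 := by rw [← hmv]; exact hmoo
    apply mul_right_cancel₀ hne
    rw [← hmv o o, ← h1, Finset.mul_sum, Finset.sum_mul]
    refine Finset.sum_congr rfl fun χ _ => ?_
    rw [hmv o χ, hmv χ o, hmv o o]; ring
  have hsum0 : 0 ≤ ∑ χ : B, v χ ^ 2 := Finset.sum_nonneg fun χ _ => sq_nonneg _
  have hc1 : c = 1 := by
    have hdvd : c ∣ (p : ℤ) ^ Cfsg.blockDefect p B := ⟨_, hcn.symm⟩
    have hcpos : 0 < c := by
      by_contra hle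
      have hp0 : (0 : ℤ) < (p : ℤ) ^ Cfsg.blockDefect p B := pow_pos (by exact_mod_cast hM.1.pos) _
      nlinarith
    obtain ⟨N, hN⟩ := Int.eq_ofNat_of_zero_le hcpos.le
    rw [hN] at hdvd
    have hd' : N ∣ p ^ Cfsg.blockDefect p B := by exact_mod_cast hdvd
    obtain ⟨i, -, hi'⟩ := (Nat.dvd_prime_pow hM.1).1 hd'
    rcases Nat.eq_zero_or_pos i with rfl | hipos
    · rw [hN, hi', pow_zero]; rfl
    · exfalso
      refine hu o o hθ0 ?_
      rw [hθ0, zero_add, pow_one, hmv, hN, hi']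
      push_cast
      exact dvd_mul_of_dvd_left (dvd_pow_self _ hipos.ne') _
  -- signs
  have hvnat : ∀ χ : B, 0 < g → 0 ≤ v χ := fun χ hg' => by
    by_contra hlt
    have : (e χ : ℤ) < 0 := by rw [hv]; exact mul_neg_of_pos_of_neg hg' (by omega)
    omega
  have hgpos : 0 < g := lt_of_le_of_ne (by
    rw [hg, ← Finset.normalize_gcd]; exact Int.nonneg_iff_normalize_eq_self _ |>.1 (by simp)) hg0.symm
  refine ⟨φ, fun χ => if h : χ ∈ B then (v ⟨χ, h⟩).toNat else 0,
    ⟨fun ψ => if h : ψ ∈ B then z ⟨ψ, h⟩ else 0, fun x hx => ?_⟩, fun χ hχ x hx => ?_, ?_⟩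
  · rw [BC85.finsum_block]
    refine Finset.sum_congr rfl fun ψ _ => ?_
    simp only [Subtype.coe_prop, dite_true, Subtype.coe_eta]
    rw [hF]
    simp only [BC85.pRegularPart_pos hx]
  · have h6 := hFφ ⟨χ, hχ⟩ x
    rw [hF] at h6
    simp only [BC85.pRegularPart_pos hx] at h6
    rw [h6]
    simp only [dif_pos hχ]
    congr 1
    exact_mod_cast (Int.toNat_of_nonneg (hvnat _ hgpos)).symm
  · rw [BC85.finsum_block, BlocksDefect.defectGroup_natCard hM hB hP]
    apply Int.natCast_inj.1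
    push_cast
    rw [← hcn, hc1, one_mul]
    refine Finset.sum_congr rfl fun χ _ => ?_
    simp only [Subtype.coe_prop, dite_true, Subtype.coe_eta]
    rw [Int.toNat_of_nonneg (hvnat χ hgpos)]

end Cfsg.Agent.S4675
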