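import Cfsg.Statements.S0497
import Cfsg.Agent.Classification.SimpleOrder360
import Cfsg.Agent.Classification.SmallPSLUnique

set_option autoImplicit false
open Cfsg

namespace Cfsg.Agent.S0497

/-- A simple group of order 360 is isomorphic to the alternating group of degree 6. -/
theorem result {G : Type*} [Group G] [Finite G] [IsSimpleGroup G]
    (h : Nat.card G = 360) : Nonempty (G ≃* alternatingGroup (Fin 6)) := by
  have : IsSimpleGroup (alternatingGroup (Fin 6)) := alternatingGroup.isSimpleGroup (by simp)
  have hA : Nat.card (alternatingGroup (Fin 6)) = 360 := by
    have h6 := two_mul_nat_card_alternatingGroup (α := Fin 6)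
    rw [Nat.card_perm, Nat.card_fin, show Nat.factorial 6 = 720 from rfl] at h6
    omega
  obtain ⟨f, x, t, R⟩ := Classification.exists_realises_360 h
  obtain ⟨f', x', t', R'⟩ := Classification.exists_realises_360 hA
  exact Classification.equiv_of_realises R R' (by decide) (by decide) (by decide) Classification.check9
    (fun w _ _ => Classification.skip_ne_of_eq_m R rfl Classification.move9 w)
    (fun w _ _ => Classification.skip_ne_of_eq_m R' rfl Classification.move9 w)

end Cfsg.Agent.S0497
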