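import Cfsg.Statements.S0016
import Cfsg.Agent.Lib.PGroup.NormalAbelian
import Cfsg.Agent.Lib.Coprime.Generation
import Mathlib.GroupTheory.SpecificGroups.Quaternion
import Mathlib.Algebra.Ring.GeomSum
import Mathlib.RingTheory.Coprime.Lemmas

set_option autoImplicit false
open Cfsg

namespace Cfsg.Agent.S0016


section helpers

variable {G : Type*} [Group G]

theorem geom_sq_dvd (p : ℕ) (k : ℤ) (hk : (p : ℤ) ∣ k - 1) (m : ℕ) :
    ((p : ℤ) ^ 2 ∣ k ^ m - 1 - m * (k - 1)) ∧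
    ((p : ℤ) ^ 2 ∣ 2 * (∑ i ∈ Finset.range m, k ^ i) - (2 * m + (k - 1) * m * (m - 1))) := by
  induction m with
  | zero => simp
  | succ m ih =>
    obtain ⟨h1, h2⟩ := ih
    have hsq : (p : ℤ) ^ 2 ∣ (k - 1) ^ 2 := pow_dvd_pow_of_dvd hk 2
    constructor
    · have e : k ^ (m + 1) - 1 - ((m + 1 : ℕ) : ℤ) * (k - 1) =
          k * (k ^ m - 1 - m * (k - 1)) + m * (k - 1) ^ 2 := by push_cast; ring
      rw [e]
      exact dvd_add (h1.mul_left k) (hsq.mul_left _)
    · have e : 2 * (∑ i ∈ Finset.range (m + 1), k ^ i) -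
          (2 * ((m + 1 : ℕ) : ℤ) + (k - 1) * ((m + 1 : ℕ) : ℤ) * (((m + 1 : ℕ) : ℤ) - 1)) =
          (2 * (∑ i ∈ Finset.range m, k ^ i) - (2 * m + (k - 1) * m * (m - 1))) +
            2 * (k ^ m - 1 - m * (k - 1)) := by
        rw [Finset.sum_range_succ]; push_cast; ring
      rw [e]
      exact dvd_add h2 (h1.mul_left 2)

theorem exists_dvd_add_mul (c u M : ℤ) (h : IsCoprime u M) : ∃ b, M ∣ c + b * u := by
  obtain ⟨s, t, hst⟩ := h
  exact ⟨-c * s, c * t, by linear_combination (-c) * hst⟩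

variable {g x : G} {k : ℤ}

theorem conj_zpow_eq (hk : x * g * x⁻¹ = g ^ k) (i : ℤ) : x * g ^ i * x⁻¹ = g ^ (k * i) := by
  rw [zpow_mul, ← hk, conj_zpow]

theorem conj_pow_eq (hk : x * g * x⁻¹ = g ^ k) (m : ℕ) :
    x ^ m * g * (x ^ m)⁻¹ = g ^ (k ^ m) := by
  induction m with
  | zero => simp
  | succ m ih =>
    rw [pow_succ', pow_succ' k, ← conj_zpow_eq hk, ← ih]
    group

theorem mul_pow_eq (hk : x * g * x⁻¹ = g ^ k) (b : ℤ) (m : ℕ) :
    (g ^ b * x) ^ m = g ^ (b * ∑ i ∈ Finset.range m, k ^ i) * x ^ m := by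
  induction m with
  | zero => simp
  | succ m ih =>
    rw [pow_succ', ih, geom_sum_succ, pow_succ', mul_add, mul_one, add_comm, zpow_add,
      ← mul_assoc b k, mul_comm b k, mul_assoc k b, ← conj_zpow_eq hk]
    group

/-- The key step: an element `x` outside the cyclic self-centralising subgroup `⟨g⟩` whose
`p`-th power lies inside. -/
theorem step [Finite G] (p n j : ℕ) [hp : Fact p.Prime]
    (huniq : ∀ H K : Subgroup G, Nat.card H = p → Nat.card K = p → H = K)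
    (hord : orderOf g = p ^ n) (hn : 1 ≤ n)
    (hself : Subgroup.centralizer (Subgroup.zpowers g : Set G) = Subgroup.zpowers g)
    (hx : x ∉ Subgroup.zpowers g) (hj : x ^ p = g ^ j) (hk : x * g * x⁻¹ = g ^ k) :
    p = 2 ∧ 2 ≤ n ∧ x * g * x⁻¹ = g⁻¹ ∧ x ^ 2 = g ^ (2 ^ (n - 1)) := by
  have hP : Prime (p : ℤ) := Nat.prime_iff_prime_int.mp hp.out
  have hg : ∀ z : ℤ, g ^ z = 1 ↔ ((p : ℤ) ^ n) ∣ z := fun z => by
    rw [← orderOf_dvd_iff_zpow_eq_one, hord]; push_cast; rfl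
  have hxcomm : ∀ z : ℤ, Commute x (g ^ z) → ¬ (p : ℤ) ∣ z → False := by
    intro z hz hndvd
    obtain ⟨s, t, hst⟩ : IsCoprime z ((p : ℤ) ^ n) :=
      ((hP.coprime_iff_not_dvd).mpr hndvd).symm.pow_right
    have h1 : g = (g ^ z) ^ s := by
      have : g ^ (t * (p : ℤ) ^ n) = 1 := (hg _).mpr (dvd_mul_left _ _)
      rw [← zpow_mul, show z * s = 1 - t * (p : ℤ) ^ n by linarith, zpow_sub, this]
      simp
    have h2 : Commute x g := h1 ▸ hz.zpow_right s
    apply hx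
    rw [← hself]
    refine Subgroup.mem_centralizer_iff.mpr ?_
    rintro _ ⟨i, rfl⟩
    exact (h2.zpow_right i).eq.symm
  -- no element outside `⟨g⟩` of order `p`
  have hno : ∀ b : ℤ, ¬ ((p : ℤ) ^ n) ∣ (j + b * ∑ i ∈ Finset.range p, k ^ i) := by
    intro b hb
    have hy : (g ^ b * x) ^ p = 1 := by
      rw [mul_pow_eq hk, hj, ← zpow_natCast, ← zpow_add, hg]
      rwa [add_comm]
    have hy1 : g ^ b * x ∉ Subgroup.zpowers g := fun h => hx (by
      simpa using mul_mem (inv_mem (zpow_mem (Subgroup.mem_zpowers g) b)) h)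
    have hoy : orderOf (g ^ b * x) = p :=
      orderOf_eq_prime hy fun h => hy1 (h ▸ one_mem _)
    have hog : orderOf (g ^ p ^ (n - 1)) = p := by
      rw [orderOf_pow' _ (pow_ne_zero _ hp.out.ne_zero), hord,
        Nat.gcd_eq_right (pow_dvd_pow p (Nat.sub_le n 1)), Nat.pow_div (Nat.sub_le n 1) hp.out.pos,
        show n - (n - 1) = 1 by omega, pow_one]
    have h := huniq _ _ ((Nat.card_zpowers _).trans hoy) ((Nat.card_zpowers _).trans hog)
    have h3 : g ^ b * x ∈ Subgroup.zpowers (g ^ p ^ (n - 1)) := h ▸ Subgroup.mem_zpowers _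
    exact hy1 (Subgroup.zpowers_le.mpr (pow_mem (Subgroup.mem_zpowers g) _) h3)
  have hpj : p ∣ j := by
    by_contra hpj
    refine hxcomm j ?_ (by exact_mod_cast hpj)
    rw [zpow_natCast, ← hj]
    exact Commute.self_pow x p
  have hkp : ((p : ℤ) ^ n) ∣ k ^ p - 1 := by
    rw [← hg, zpow_sub, ← conj_pow_eq hk, hj, zpow_one]
    group
  have hkj : ((p : ℤ) ^ n) ∣ (k - 1) * j := by
    rw [← hg, sub_mul, zpow_sub, ← conj_zpow_eq hk, one_mul, zpow_natCast, ← hj]
    group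
  have hpk : (p : ℤ) ∣ k - 1 := by
    have h1 : (p : ℤ) ∣ k ^ p - 1 := (dvd_pow_self _ (by omega)).trans hkp
    rw [← ZMod.intCast_zmod_eq_zero_iff_dvd] at h1 ⊢
    push_cast at h1 ⊢
    rwa [ZMod.pow_card] at h1
  obtain ⟨j', rfl⟩ := hpj
  rcases hp.out.eq_two_or_odd with rfl | hodd
  · have hS : (∑ i ∈ Finset.range 2, k ^ i) = 1 + k := by simp [Finset.sum_range_succ]
    rw [hS] at hno
    push_cast at hno hkp hkj hg hpk
    have hn2 : 2 ≤ n := by
      by_contra hlt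
      obtain rfl : n = 1 := by omega
      refine hxcomm 1 ?_ (by norm_num)
      rw [zpow_one]
      have : g ^ k = g := by
        have : g ^ (k - 1) = 1 := (hg _).mpr (by simpa using hpk)
        rwa [zpow_sub, zpow_one, mul_inv_eq_one] at this
      rw [this] at hk
      exact mul_inv_eq_iff_eq_mul.mp hk
    obtain ⟨t, ht⟩ := hpk
    have hk1 : k = 2 * t + 1 := by linarith
    subst hk1
    have hpn : (2 : ℤ) ^ n = 2 * 2 ^ (n - 1) := by rw [← pow_succ']; congr 1; omega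
    rcases Int.even_or_odd t with ⟨t', ht'⟩ | ⟨t', ht'⟩
    · exfalso
      obtain ⟨b, d, hb⟩ := exists_dvd_add_mul (j' : ℤ) (t + 1) ((2 : ℤ) ^ (n - 1))
        (IsCoprime.pow_right ⟨1, -t', by rw [ht']; ring⟩)
      exact hno b ⟨d, by push_cast; rw [hpn]; linear_combination 2 * hb⟩
    · have hcop : IsCoprime ((2 : ℤ) ^ (n - 1)) t :=
        IsCoprime.pow_left ⟨-t', 1, by rw [ht']; ring⟩
      -- `2 ^ (n - 1)` divides `k + 1` and `j`
      have h1 : (2 : ℤ) ^ (n - 1) ∣ (2 * t + 2) := by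
        obtain ⟨c, hc⟩ := hkp
        refine hcop.dvd_of_dvd_mul_left ⟨c, ?_⟩
        rw [hpn] at hc
        linarith [show (2 * t + 1) ^ 2 - 1 = 2 * (t * (2 * t + 2)) by ring]
      have h2 : (2 : ℤ) ^ (n - 1) ∣ 2 * (j' : ℤ) := by
        obtain ⟨c, hc⟩ := hkj
        refine hcop.dvd_of_dvd_mul_left ⟨c, ?_⟩
        rw [hpn] at hc
        push_cast at hc
        linarith [show (2 * t + 1 - 1) * (2 * (j' : ℤ)) = 2 * (t * (2 * (j' : ℤ))) by ring]
      obtain ⟨w, hw⟩ := h1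
      obtain ⟨v, hv⟩ := h2
      have hweven : ∃ w', w = 2 * w' := by
        rcases Int.even_or_odd w with ⟨w', hw'⟩ | ⟨w', hw'⟩
        · exact ⟨w', by linarith⟩
        · exfalso
          refine hno v ⟨v * (w' + 1), ?_⟩
          push_cast
          rw [hpn]
          subst hw'
          linear_combination hv + v * hw
      obtain ⟨w', rfl⟩ := hweven
      have hinv : x * g * x⁻¹ = g⁻¹ := by
        rw [hk, eq_inv_iff_mul_eq_one, ← zpow_add_one, hg]
        exact ⟨w', by rw [hpn]; linarith⟩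
      refine ⟨rfl, hn2, hinv, ?_⟩
      rcases Int.even_or_odd v with ⟨v', hv'⟩ | ⟨v', hv'⟩
      · exfalso
        refine hno 0 ⟨v', ?_⟩
        push_cast
        rw [hpn]
        subst hv'
        linear_combination hv
      · rw [hj, ← zpow_natCast, ← zpow_natCast g (2 ^ (n - 1)), ← mul_inv_eq_one, ← zpow_sub, hg]
        refine ⟨v', ?_⟩
        push_cast
        rw [hpn]
        subst hv'
        linear_combination hv
  · exfalso
    have hS : (p : ℤ) ^ 2 ∣ (∑ i ∈ Finset.range p, k ^ i) - p := by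
      have h1 := (geom_sq_dvd p k hpk p).2
      obtain ⟨t, ht⟩ := hpk
      have h2 : (p : ℤ) ^ 2 ∣ (k - 1) * p * (p - 1) := ⟨t * (p - 1), by rw [ht]; ring⟩
      have h3 : (p : ℤ) ^ 2 ∣ 2 * ((∑ i ∈ Finset.range p, k ^ i) - p) := by
        have := dvd_add h1 h2
        refine (dvd_of_eq rfl).trans (this.trans (dvd_of_eq ?_))
        ring
      refine IsCoprime.dvd_of_dvd_mul_left (IsCoprime.pow_left ?_) h3
      refine (hP.coprime_iff_not_dvd).mpr fun h => ?_
      have := Nat.le_of_dvd two_pos (Int.natCast_dvd_natCast.mp h)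
      have := hp.out.two_le
      omega
    obtain ⟨c, hc⟩ := hS
    have hu : IsCoprime (1 + (p : ℤ) * c) ((p : ℤ) ^ (n - 1)) :=
      IsCoprime.pow_right ⟨1, -c, by ring⟩
    obtain ⟨b, d, hb⟩ := exists_dvd_add_mul (j' : ℤ) _ _ hu
    refine hno b ⟨d, ?_⟩
    push_cast
    rw [show (∑ i ∈ Finset.range p, k ^ i) = p * (1 + p * c) by linarith,
      show (p : ℤ) ^ n = p * p ^ (n - 1) by rw [← pow_succ']; congr 1; omega]
    linear_combination (p : ℤ) * hb

end helpers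

/-- A finite p-group in which only one subgroup has order p is either cyclic or (with p = 2) isomorphic to a generalized quaternion group. -/
theorem result {G : Type*} [Group G] [Finite G] (p : ℕ) [Fact p.Prime]
    (hG : IsPGroup p G) (huniq : ∀ H K : Subgroup G, Nat.card H = p → Nat.card K = p → H = K) :
    IsCyclic G ∨ (p = 2 ∧ ∃ n : ℕ, Nonempty (G ≃* QuaternionGroup (2 ^ n))) := by
  obtain ⟨A, hAn, hAc, hself⟩ := PGroup.exists_selfCentralizing_normal_abelian hG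
  have hcyc : IsCyclic A := by
    by_contra hA
    obtain ⟨r, hr, hrA, a, ha, b, hb, har, hbr, ha1, hba⟩ :=
      Coprime.exists_independent_of_not_isCyclic A hA
    obtain ⟨k, hk⟩ := IsPGroup.iff_card.mp (hG.to_subgroup A)
    obtain rfl : r = p := (Nat.prime_dvd_prime_iff_eq hr Fact.out).mp (hr.dvd_of_dvd_pow (hk ▸ hrA))
    apply hba
    rw [huniq (Subgroup.zpowers a) (Subgroup.zpowers b)
      ((Nat.card_zpowers a).trans (orderOf_eq_prime har ha1))
      ((Nat.card_zpowers b).trans (orderOf_eq_prime hbr fun h => hba (h ▸ one_mem _)))]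
    exact Subgroup.mem_zpowers b
  obtain ⟨g, rfl⟩ := A.isCyclic_iff_exists_zpowers_eq_top.mp hcyc
  have hconj : ∀ y : G, ∃ k : ℤ, y * g * y⁻¹ = g ^ k := fun y => by
    obtain ⟨k, hk⟩ := Subgroup.mem_zpowers_iff.mp (hAn.conj_mem g (Subgroup.mem_zpowers g) y)
    exact ⟨k, hk.symm⟩
  have hpow : ∀ y ∈ Subgroup.zpowers g, ∃ j : ℕ, y = g ^ j := fun y hy => by
    obtain ⟨j, hj⟩ := (mem_powers_iff_mem_zpowers (x := g)).mpr hy
    exact ⟨j, hj.symm⟩
  by_cases hall : ∀ y : G, y ∈ Subgroup.zpowers g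
  · exact Or.inl ⟨g, hall⟩
  push Not at hall
  obtain ⟨y₀, hy₀⟩ := hall
  obtain ⟨n, hord⟩ := IsPGroup.iff_orderOf.mp hG g
  have hn : 1 ≤ n := by
    by_contra hlt
    obtain rfl : n = 0 := by omega
    apply hy₀
    rw [← hself]
    refine Subgroup.mem_centralizer_iff.mpr ?_
    rintro _ ⟨i, rfl⟩
    simp [orderOf_eq_one_iff.mp (by simpa using hord)]
  have hlast : ∀ y : G, y ∉ Subgroup.zpowers g →
      ∃ s, y ^ p ^ s ∉ Subgroup.zpowers g ∧ y ^ p ^ (s + 1) ∈ Subgroup.zpowers g := by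
    intro y hy
    obtain ⟨e, he⟩ := hG y
    have key : ∀ e, y ^ p ^ e ∈ Subgroup.zpowers g →
        ∃ s, y ^ p ^ s ∉ Subgroup.zpowers g ∧ y ^ p ^ (s + 1) ∈ Subgroup.zpowers g := by
      intro e
      induction e with
      | zero => intro h; exact absurd (by simpa using h) hy
      | succ e ih =>
        intro h
        by_cases h' : y ^ p ^ e ∈ Subgroup.zpowers g
        · exact ih h'
        · exact ⟨e, h', h⟩
    exact key e (he ▸ one_mem _)
  have hstep : ∀ x : G, x ∉ Subgroup.zpowers g → x ^ p ∈ Subgroup.zpowers g →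
      p = 2 ∧ 2 ≤ n ∧ x * g * x⁻¹ = g⁻¹ ∧ x ^ 2 = g ^ (2 ^ (n - 1)) := by
    intro x hx hxp
    obtain ⟨j, hj⟩ := hpow _ hxp
    obtain ⟨k, hk⟩ := hconj x
    exact step p n j huniq hord hn hself hx hj hk
  obtain ⟨s₀, hs₀, hs₀'⟩ := hlast y₀ hy₀
  obtain ⟨rfl, hn2, -, -⟩ := hstep _ hs₀ (by rwa [← pow_mul, ← pow_succ])
  have hinv : ∀ y : G, y ∉ Subgroup.zpowers g →
      y * g * y⁻¹ = g⁻¹ ∧ y ^ 2 = g ^ (2 ^ (n - 1)) := by
    intro y hy
    obtain ⟨s, hs, hs'⟩ := hlast y hy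
    cases s with
    | zero =>
      obtain ⟨-, -, h1, h2⟩ := hstep y hy (by simpa using hs')
      exact ⟨h1, h2⟩
    | succ s =>
      exfalso
      obtain ⟨k, hk⟩ := hconj (y ^ 2 ^ s)
      obtain ⟨-, -, h1, -⟩ := hstep (y ^ 2 ^ (s + 1)) hs (by rwa [← pow_mul, ← pow_succ])
      rw [pow_succ 2 s, pow_mul, conj_pow_eq hk, eq_inv_iff_mul_eq_one, ← zpow_add_one,
        ← orderOf_dvd_iff_zpow_eq_one, hord] at h1
      have h4 : (4 : ℤ) ∣ k ^ 2 + 1 := by
        refine Dvd.dvd.trans ?_ h1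
        exact_mod_cast (pow_dvd_pow 2 hn2 : 2 ^ 2 ∣ 2 ^ n)
      rcases Int.even_or_odd k with ⟨t, rfl⟩ | ⟨t, rfl⟩
      · obtain ⟨d, hd⟩ := h4
        have : (4 : ℤ) * (t * t - d) = -1 := by linear_combination hd
        omega
      · obtain ⟨d, hd⟩ := h4
        have : (4 : ℤ) * (t * t + t - d) = -2 := by linear_combination hd
        omega
  refine Or.inr ⟨rfl, n - 1, ?_⟩
  obtain ⟨hxinv, hx2⟩ := hinv y₀ hy₀
  haveI : NeZero (2 * 2 ^ (n - 1)) := ⟨by positivity⟩
  have hN : 2 * 2 ^ (n - 1) = 2 ^ n := by rw [← pow_succ']; congr 1; omega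
  have hgN : g ^ (2 * 2 ^ (n - 1)) = 1 := by rw [hN, ← hord, pow_orderOf_eq_one]
  let u : ZMod (2 * 2 ^ (n - 1)) → G := fun i => g ^ i.val
  have hu : ∀ i j, u (i + j) = u i * u j := fun i j => Coprime.pow_val_add hgN i j
  have hu0 : u 0 = 1 := by simp [u]
  have hun : ∀ i, u (-i) = (u i)⁻¹ := fun i => eq_inv_of_mul_eq_one_left (by
    rw [← hu, neg_add_cancel, hu0])
  have huh : u ((2 ^ (n - 1) : ℕ) : ZMod (2 * 2 ^ (n - 1))) = y₀ ^ 2 := by
    rw [hx2]
    show g ^ _ = _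
    rw [ZMod.val_natCast, Nat.mod_eq_of_lt]
    have : 0 < 2 ^ (n - 1) := by positivity
    omega
  have hsw : ∀ i, u i * y₀ = y₀ * u (-i) := fun i => by
    have h1 : y₀ * u i * y₀⁻¹ = u (-i) := by
      rw [hun]
      show y₀ * g ^ i.val * y₀⁻¹ = _
      rw [← conj_pow, hxinv, inv_pow]
    have h2 : y₀ * u (-i) * y₀⁻¹ = u i := by
      rw [hun, ← conj_inv, h1, hun, inv_inv]
    rw [← h2]
    group
  let f : QuaternionGroup (2 ^ (n - 1)) → G := fun z => match z with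
    | .a i => u i
    | .xa i => y₀ * u i
  have hmul : ∀ z w, f (z * w) = f z * f w := by
    rintro (i | i) (j | j)
    · exact hu i j
    · show y₀ * u (j - i) = u i * (y₀ * u j)
      rw [← mul_assoc, hsw, mul_assoc, ← hu, neg_add_eq_sub]
    · show y₀ * u (i + j) = y₀ * u i * u j
      rw [hu, mul_assoc]
    · show u ((2 ^ (n - 1) : ℕ) + j - i) = y₀ * u i * (y₀ * u j)
      rw [← mul_assoc, mul_assoc y₀, hsw, ← mul_assoc, mul_assoc, ← hu, ← pow_two, ← huh, ← hu]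
      congr 1
      ring
  have hmem : ∀ i, u i ∈ Subgroup.zpowers g := fun i => pow_mem (Subgroup.mem_zpowers g) _
  have huinj : Function.Injective u := fun i j h => by
    apply ZMod.val_injective
    exact pow_injOn_Iio_orderOf (x := g) (by simpa [hord, ← hN] using ZMod.val_lt i)
      (by simpa [hord, ← hN] using ZMod.val_lt j) h
  have hinj : Function.Injective f := by
    rintro (i | i) (j | j) h
    · exact congrArg _ (huinj h)
    · exact absurd (eq_mul_inv_of_mul_eq (show y₀ * u j = u i from h.symm) ▸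
        mul_mem (hmem i) (inv_mem (hmem j))) hy₀
    · exact absurd (eq_mul_inv_of_mul_eq (show y₀ * u i = u j from h) ▸
        mul_mem (hmem j) (inv_mem (hmem i))) hy₀
    · exact congrArg _ (huinj (mul_left_cancel (show y₀ * u i = y₀ * u j from h)))
  have hsurjA : ∀ y ∈ Subgroup.zpowers g, ∃ i, u i = y := fun y hy => by
    obtain ⟨j, rfl⟩ := hpow y hy
    refine ⟨j, ?_⟩
    show g ^ _ = _
    rw [ZMod.val_natCast, hN, ← hord, pow_mod_orderOf]
  have hsurj : Function.Surjective f := by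
    intro y
    by_cases hy : y ∈ Subgroup.zpowers g
    · obtain ⟨i, hi⟩ := hsurjA y hy
      exact ⟨.a i, hi⟩
    · have hc : y₀⁻¹ * y ∈ Subgroup.zpowers g := by
        rw [← hself]
        refine Subgroup.mem_centralizer_iff.mpr ?_
        rintro _ ⟨i, rfl⟩
        refine Commute.zpow_left ?_ i
        show g * (y₀⁻¹ * y) = y₀⁻¹ * y * g
        have h1 := hxinv.trans (hinv y hy).1.symm
        calc g * (y₀⁻¹ * y) = y₀⁻¹ * (y₀ * g * y₀⁻¹) * y := by group
          _ = y₀⁻¹ * y * g := by rw [h1]; group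
      obtain ⟨i, hi⟩ := hsurjA _ hc
      refine ⟨.xa i, ?_⟩
      show y₀ * u i = y
      rw [hi, mul_inv_cancel_left]
  exact ⟨(MulEquiv.ofBijective (MonoidHom.mk' f hmul) ⟨hinj, hsurj⟩).symm⟩

end Cfsg.Agent.S0016
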