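import Cfsg.Statements.S1012
import Cfsg.Agent.Lib.SmallGroups.Counting

set_option autoImplicit false
open Cfsg

namespace Cfsg.Agent.S1012

/-- A group of order 24 containing no element of order 6 is isomorphic to the symmetric group of degree 4. -/
theorem result {G : Type*} [Group G] [Finite G] (h : Nat.card G = 24) (h6 : ∀ g : G, orderOf g ≠ 6) : Nonempty (G ≃* Equiv.Perm (Fin 4)) := by
  classical
  have : Fact (Nat.Prime 3) := ⟨by norm_num⟩
  have : Fact (Nat.Prime 2) := ⟨by norm_num⟩
  have hP : ∀ P : Sylow 3 G, Nat.card ↥(P : Subgroup G) = 3 := fun P => by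
    simpa using Cfsg.Agent.SmallGroups.card_sylow_eq (p := 3) (a := 1) (m := 8)
      (by rw [h]; norm_num) (by norm_num) P
  have hno : ∀ z y : G, orderOf z = 2 → orderOf y = 3 → z * y = y * z → False := by
    intro z y hz hy hzy
    refine h6 (z * y) ?_
    rw [(show Commute z y from hzy).orderOf_mul_eq_mul_orderOf_of_coprime
      (by rw [hz, hy]; norm_num), hz, hy]
  have hn : Nat.card (Sylow 3 G) = 4 := by
    have hm := Cfsg.Agent.SmallGroups.card_sylow_mem_list (G := G) (p := 3) (a := 1) (m := 8)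
      (by rw [h]; norm_num) (by norm_num)
    rw [show (Nat.divisors 8).filter (fun d => d % 3 = 1) = {1, 4} by decide] at hm
    simp only [Finset.mem_insert, Finset.mem_singleton] at hm
    refine hm.resolve_left fun h1 => ?_
    obtain ⟨P⟩ := (inferInstance : Nonempty (Sylow 3 G))
    have := Cfsg.Agent.SmallGroups.normal_of_card_sylow_eq_one h1 P
    have hC : (Subgroup.centralizer ((P : Subgroup G) : Set G)).index ∣ 2 := by
      have h := Cfsg.Agent.SmallGroups.relIndex_centralizer_dvd_of_prime _ (hP P)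
      rwa [Subgroup.normalizer_eq_top, Subgroup.relIndex_top_right] at h
    have h12 : 2 ∣ Nat.card ↥(Subgroup.centralizer ((P : Subgroup G) : Set G)) := by
      have hmul := (Subgroup.centralizer ((P : Subgroup G) : Set G)).card_mul_index
      rcases (Nat.dvd_prime Nat.prime_two).mp hC with hi | hi <;> rw [hi, h] at hmul <;> omega
    obtain ⟨z, hz⟩ := exists_prime_orderOf_dvd_card' 2 h12
    obtain ⟨y, hy⟩ := exists_prime_orderOf_dvd_card' (G := ↥(P : Subgroup G)) 3 (by rw [hP P])
    exact hno z y ((Subgroup.orderOf_coe z).trans hz) ((Subgroup.orderOf_coe y).trans hy)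
      (Subgroup.mem_centralizer_iff.mp z.2 y y.2).symm
  set φ := MulAction.toPermHom G (Sylow 3 G)
  have hinj : Function.Injective φ := by
    rw [← MonoidHom.ker_eq_bot_iff]
    have hK : ∀ (P : Sylow 3 G), φ.ker ≤ Subgroup.normalizer ((P : Subgroup G) : Set G) := by
      intro P g hg
      exact Sylow.smul_eq_iff_mem_normalizer.mp
        (by simpa [φ] using congrArg (fun e : Equiv.Perm (Sylow 3 G) => e P) hg)
    obtain ⟨P⟩ := (inferInstance : Nonempty (Sylow 3 G))
    have hN := Cfsg.Agent.SmallGroups.normalizer_conj_eq_card P hn (k := 6) (by rw [h])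
    have h3 : ¬ 3 ∣ Nat.card ↥φ.ker := by
      intro h3
      obtain ⟨y, hy⟩ := exists_prime_orderOf_dvd_card' 3 h3
      obtain ⟨Q, hQ⟩ := Cfsg.Agent.SmallGroups.exists_mem_sylow
        ((Subgroup.orderOf_coe y).trans hy)
      have hy1 : (y : G) ≠ 1 := by
        intro h1
        rw [← Subgroup.orderOf_coe, h1, orderOf_one] at hy
        norm_num at hy
      have hQK : (Q : Subgroup G) ≤ φ.ker := by
        rw [← Cfsg.Agent.SmallGroups.zpowers_eq_of_card_prime (hP Q) hQ hy1]
        exact Subgroup.zpowers_le.mpr y.2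
      have : ∀ S : Sylow 3 G, S = Q := by
        intro S
        have hle : (Q : Subgroup G) ≤ Subgroup.normalizer ((S : Subgroup G) : Set G) :=
          hQK.trans (hK S)
        refine (Sylow.ext (Subgroup.eq_of_le_of_card_ge ?_ (by rw [hP, hP]))).symm
        have h1 := Q.2.inf_normalizer_sylow S
        exact (le_inf le_rfl hle).trans (h1.le.trans inf_le_right)
      have : Nat.card (Sylow 3 G) = 1 :=
        Nat.card_eq_one_iff_unique.mpr ⟨⟨fun a b => (this a).trans (this b).symm⟩, ⟨Q⟩⟩
      omega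
    have hd : Nat.card ↥φ.ker ∣ 6 := hN ▸ Subgroup.card_dvd_of_le (hK P)
    have hle : Nat.card ↥φ.ker ≤ 6 := Nat.le_of_dvd (by norm_num) hd
    refine Subgroup.card_eq_one.mp ?_
    by_contra hne
    have hk2 : Nat.card ↥φ.ker = 2 := by
      interval_cases hk : Nat.card ↥φ.ker <;> simp_all
    obtain ⟨z, hz⟩ := exists_prime_orderOf_dvd_card' (G := ↥φ.ker) 2 (by rw [hk2])
    obtain ⟨y, hy⟩ := exists_prime_orderOf_dvd_card' (G := ↥(P : Subgroup G)) 3 (by rw [hP P])
    have hz2 : orderOf (z : G) = 2 := (Subgroup.orderOf_coe z).trans hz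
    have hz1 : z ≠ 1 := fun h1 => by rw [h1, orderOf_one] at hz; norm_num at hz
    have hu := Nat.card_eq_two_iff' (1 : ↥φ.ker) |>.mp hk2
    refine hno z y hz2 ((Subgroup.orderOf_coe y).trans hy) ?_
    have hconj : (⟨y * z * (y : G)⁻¹, φ.normal_ker.conj_mem _ z.2 _⟩ : ↥φ.ker) = z := by
      refine hu.unique (fun h1 => hz1 (Subtype.ext ?_)) hz1
      simpa using congrArg Subtype.val h1
    have := congrArg Subtype.val hconj
    exact (mul_inv_eq_iff_eq_mul.mp this).symm
  have hcard : Nat.card G = Nat.card (Equiv.Perm (Sylow 3 G)) := by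
    rw [h, Nat.card_perm, hn]; rfl
  exact ⟨(MulEquiv.ofBijective φ ((Nat.bijective_iff_injective_and_card φ).mpr ⟨hinj, hcard⟩)).trans
    (Finite.equivFinOfCardEq hn).permCongrHom⟩

end Cfsg.Agent.S1012
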