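import Cfsg.Statements.S1467
-- import your own Cfsg.Agent.* helpers here

set_option autoImplicit false
open Cfsg

namespace Cfsg.Agent.S1467

section
variable {G : Type*} [Group G]

lemma puigStep_antitone {X Y : Subgroup G} (h : X ≤ Y) :
    Cfsg.puigStep Y ≤ Cfsg.puigStep X :=
  sSup_le_sSup fun _ hA => ⟨hA.1, h.trans hA.2⟩

lemma puigStep_bot : Cfsg.puigStep (⊥ : Subgroup G) = ⊤ := by
  rw [eq_top_iff]
  intro x _
  exact Subgroup.mem_sSup_of_mem (S := {A : Subgroup G | IsMulCommutative A ∧ ⊥ ≤ _})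
    (s := Subgroup.zpowers x) ⟨inferInstance, bot_le⟩ (Subgroup.mem_zpowers x)

lemma puigSeq_zero : Cfsg.puigSeq G 0 = ⊥ := rfl

lemma puigSeq_succ (n : ℕ) : Cfsg.puigSeq G (n + 1) = Cfsg.puigStep (Cfsg.puigSeq G n) := rfl

lemma puigSeq_one : Cfsg.puigSeq G 1 = ⊤ := puigStep_bot

lemma puigSeq_even_odd_step (n : ℕ) :
    Cfsg.puigSeq G (2 * n) ≤ Cfsg.puigSeq G (2 * n + 2) ∧
    Cfsg.puigSeq G (2 * n + 3) ≤ Cfsg.puigSeq G (2 * n + 1) := by
  induction n with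
  | zero => exact ⟨bot_le, puigStep_antitone bot_le⟩
  | succ n ih =>
    have h : Cfsg.puigSeq G (2 * n + 2) ≤ Cfsg.puigSeq G (2 * n + 4) := puigStep_antitone ih.2
    exact ⟨h, puigStep_antitone h⟩

lemma puigSeq_even_monotone : Monotone fun n => Cfsg.puigSeq G (2 * n) :=
  monotone_nat_of_le_succ fun n => (puigSeq_even_odd_step n).1

lemma puigSeq_odd_antitone : Antitone fun n => Cfsg.puigSeq G (2 * n + 1) :=
  antitone_nat_of_succ_le fun n => (puigSeq_even_odd_step n).2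

lemma puigSeq_even_le_succ (n : ℕ) : Cfsg.puigSeq G (2 * n) ≤ Cfsg.puigSeq G (2 * n + 1) := by
  induction n with
  | zero => exact bot_le
  | succ n ih =>
    exact puigStep_antitone (puigStep_antitone ih)

lemma puigSeq_even_le_odd (n m : ℕ) : Cfsg.puigSeq G (2 * n) ≤ Cfsg.puigSeq G (2 * m + 1) :=
  ((puigSeq_even_monotone (le_max_left n m)).trans (puigSeq_even_le_succ _)).trans
    (puigSeq_odd_antitone (le_max_right n m))

lemma puig_stabilize [Finite G] :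
    ∃ k : ℕ, ∀ n : ℕ, k ≤ n → Cfsg.puigSeq G (2 * n) = Cfsg.puigLower G ∧
      Cfsg.puigSeq G (2 * n + 1) = Cfsg.puigSubgroup G := by
  obtain ⟨k, hk⟩ := WellFoundedGT.monotone_chain_condition
    (⟨_, puigSeq_even_monotone (G := G)⟩ : ℕ →o Subgroup G)
  have hk' : ∀ n, k ≤ n → Cfsg.puigSeq G (2 * k) = Cfsg.puigSeq G (2 * n) := hk
  have hodd : ∀ n, k ≤ n → Cfsg.puigSeq G (2 * k + 1) = Cfsg.puigSeq G (2 * n + 1) := fun n hn => by
    rw [puigSeq_succ, puigSeq_succ, hk' n hn]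
  refine ⟨k, fun n hn => ⟨?_, ?_⟩⟩
  · refine le_antisymm (le_iSup (fun m => Cfsg.puigSeq G (2 * m)) n) (iSup_le fun m => ?_)
    rw [← hk' n hn]
    exact (puigSeq_even_monotone (le_max_left m k)).trans (hk' _ (le_max_right m k)).ge
  · refine le_antisymm (le_iInf fun m => ?_) (iInf_le (fun m => Cfsg.puigSeq G (2 * m + 1)) n)
    rw [← hodd n hn, hodd _ (le_max_right m k)]
    exact puigSeq_odd_antitone (le_max_left m k)

lemma puigLower_le_puigSubgroup : Cfsg.puigLower G ≤ Cfsg.puigSubgroup G :=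
  iSup_le fun n => le_iInf fun m => puigSeq_even_le_odd n m

lemma puigStep_puigLower [Finite G] : Cfsg.puigStep (Cfsg.puigLower G) = Cfsg.puigSubgroup G := by
  obtain ⟨k, hk⟩ := puig_stabilize (G := G)
  rw [← (hk k le_rfl).1, ← (hk k le_rfl).2]
  rfl

lemma puigStep_puigSubgroup [Finite G] : Cfsg.puigStep (Cfsg.puigSubgroup G) = Cfsg.puigLower G := by
  obtain ⟨k, hk⟩ := puig_stabilize (G := G)
  rw [← (hk (k + 1) (by omega)).1, ← (hk k le_rfl).2]
  rfl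

end

/-- Let G be a finite group with Puig series L_n(G). Then L_0 = 1, L_1 = G; L_{2n} ≤ L_{2n+2} ≤ L_{2m+3} ≤ L_{2m+1} for all n, m; there is k with L_{2n}(G) = L_*(G) and L_{2n+1}(G) = L(G) for all n ≥ k; L_*(G) ≤ L(G); and applying one Puig step to L_*(G) gives L(G) and to L(G) gives L_*(G). -/
theorem result {G : Type*} [Group G] [Finite G] :
    Cfsg.puigSeq G 0 = ⊥ ∧ Cfsg.puigSeq G 1 = ⊤ ∧
      (∀ n m : ℕ, Cfsg.puigSeq G (2 * n) ≤ Cfsg.puigSeq G (2 * n + 2) ∧ Cfsg.puigSeq G (2 * n) ≤ Cfsg.puigSeq G (2 * m + 1) ∧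
        Cfsg.puigSeq G (2 * m + 3) ≤ Cfsg.puigSeq G (2 * m + 1)) ∧
      (∃ k : ℕ, ∀ n : ℕ, k ≤ n → Cfsg.puigSeq G (2 * n) = Cfsg.puigLower G ∧ Cfsg.puigSeq G (2 * n + 1) = Cfsg.puigSubgroup G) ∧
      Cfsg.puigLower G ≤ Cfsg.puigSubgroup G ∧
      Cfsg.puigStep (Cfsg.puigLower G) = Cfsg.puigSubgroup G ∧ Cfsg.puigStep (Cfsg.puigSubgroup G) = Cfsg.puigLower G := by
  obtain ⟨k, hk⟩ := puig_stabilize (G := G)
  exact ⟨rfl, puigSeq_one, fun n m => ⟨(puigSeq_even_odd_step n).1, puigSeq_even_le_odd n m,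
    (puigSeq_even_odd_step m).2⟩, ⟨k, hk⟩, puigLower_le_puigSubgroup, puigStep_puigLower,
    puigStep_puigSubgroup⟩

end Cfsg.Agent.S1467
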