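import Cfsg.Statements.S0514
import Cfsg.Agent.Classification.AutTwoGroup
import Cfsg.Agent.Classification.FourGroup
import Cfsg.Agent.S0071

set_option autoImplicit false
open Cfsg

namespace Cfsg.Agent.S0514

/-- In a finite group whose Sylow 2-subgroups are dihedral of order at least 4, the centralizer of any involution has a
normal subgroup of odd order whose index in the centralizer is a power of 2. -/
theorem result {X : Type*} [Group X] [Finite X]
    (S : Sylow 2 X) (n : ℕ) (hn : 2 ≤ n) (hS : Nonempty ((S : Subgroup X) ≃* DihedralGroup n)) (t : X)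
    (ht : orderOf t = 2) :
    ∃ N : Subgroup (Subgroup.centralizer ({t} : Set X)), N.Normal ∧ Odd (Nat.card N) ∧ ∃ k : ℕ, N.index = 2 ^ k := by
  let C₀ : Subgroup X := Subgroup.centralizer ({t} : Set X)
  obtain ⟨P⟩ : Nonempty (Sylow 2 C₀) := inferInstance
  suffices hcrit : ∀ Q : Subgroup C₀, Q ≤ (P : Subgroup C₀) → ∀ g ∈ Subgroup.normalizer (Q : Set C₀),
      Nat.Coprime (orderOf g) 2 → g ∈ Subgroup.centralizer (Q : Set C₀) by
    obtain ⟨N, hNn, hN⟩ := (S0071.result P).mpr hcrit
    obtain ⟨k, hk⟩ := IsPGroup.iff_card.mp P.isPGroup'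
    refine ⟨N, hNn, ?_, k, ?_⟩
    · rw [← hN.index_eq_card, ← Nat.not_even_iff_odd]
      exact fun h => P.not_dvd_index h.two_dvd
    · rw [hN.symm.index_eq_card, hk]
  intro Q hQP g hg hcop
  have hgodd : Odd (orderOf (g : X)) := by
    rw [Subgroup.orderOf_coe]; exact Nat.coprime_two_right.mp hcop
  have hgt : (g : X) * t = t * g := Subgroup.mem_centralizer_singleton_iff.mp g.2
  have htc : ∀ c : C₀, (c : X) * t = t * c := fun c => Subgroup.mem_centralizer_singleton_iff.mp c.2
  have htT : IsPGroup 2 (Subgroup.zpowers t) := IsPGroup.of_card (n := 1) (by rw [Nat.card_zpowers, ht, pow_one])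
  let Q' : Subgroup X := Q.map C₀.subtype ⊔ Subgroup.zpowers t
  have hQ' : IsPGroup 2 Q' := by
    refine IsPGroup.to_sup_of_normal_right' ((P.isPGroup'.to_le hQP).map C₀.subtype) htT ?_
    rintro _ ⟨q, -, rfl⟩
    refine Subgroup.centralizer_le_normalizer _ ?_
    rw [Subgroup.mem_centralizer_iff]
    rintro _ ⟨i, rfl⟩
    exact ((show Commute (q : X) t from htc q).zpow_right i).eq.symm
  have htQ : t ∈ Q' := Subgroup.mem_sup_right (Subgroup.mem_zpowers t)
  have hgQ : (g : X) ∈ Subgroup.normalizer (Q' : Set X) := by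
    rw [Subgroup.mem_normalizer_iff_map_conj_eq, Subgroup.map_sup]
    have h1 : (g : X) ∈ Subgroup.normalizer ((Q.map C₀.subtype : Subgroup X) : Set X) :=
      Subgroup.le_normalizer_map _ ⟨g, hg, rfl⟩
    have h2 : (g : X) ∈ Subgroup.normalizer ((Subgroup.zpowers t : Subgroup X) : Set X) := by
      refine Subgroup.centralizer_le_normalizer _ ?_
      rw [Subgroup.mem_centralizer_iff]
      rintro _ ⟨i, rfl⟩
      exact ((show Commute (g : X) t from hgt).zpow_right i).eq.symm
    rw [Subgroup.mem_normalizer_iff_map_conj_eq.mp h1, Subgroup.mem_normalizer_iff_map_conj_eq.mp h2]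
  -- the rotations
  obtain ⟨h, hh⟩ := Classification.exists_le_cj_sylow S hQ'
  obtain ⟨f⟩ := hS
  have : NeZero n := ⟨by omega⟩
  let R : Subgroup X := Classification.cj h
    (((Subgroup.zpowers (DihedralGroup.r 1 : DihedralGroup n)).map f.symm.toMonoidHom).map (S : Subgroup X).subtype)
  have hmem : ∀ x ∈ Classification.cj h (S : Subgroup X), ∀ d : DihedralGroup n,
      ((f.symm d : (S : Subgroup X)) : X) = h⁻¹ * x * h → (x ∈ R ↔ d ∈ Subgroup.zpowers (DihedralGroup.r 1 : DihedralGroup n)) := by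
    intro x _ d hd
    show x ∈ Classification.cj h _ ↔ _
    rw [Classification.mem_cj, ← hd]
    constructor
    · rintro ⟨y, ⟨z, hz, rfl⟩, hy⟩
      have : z = d := f.symm.injective (Subtype.ext hy)
      exact this ▸ hz
    · exact fun hd' => ⟨_, ⟨d, hd', rfl⟩, rfl⟩
  have hrep : ∀ x ∈ Q', ∃ d : DihedralGroup n, ((f.symm d : (S : Subgroup X)) : X) = h⁻¹ * x * h := by
    intro x hx
    exact ⟨f ⟨_, Classification.mem_cj.mp (hh hx)⟩, by simp⟩
  have hrot : ∀ i : ZMod n, DihedralGroup.r i ∈ Subgroup.zpowers (DihedralGroup.r 1 : DihedralGroup n) := by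
    intro i
    exact ⟨(i.val : ℤ), by simp⟩
  have hrefl : ∀ i : ZMod n, DihedralGroup.sr i ∉ Subgroup.zpowers (DihedralGroup.r 1 : DihedralGroup n) := by
    rintro i ⟨j, hj⟩
    simp at hj
  have hord : ∀ x ∈ Q', x ∉ R → x * x = 1 := by
    intro x hx hxR
    obtain ⟨d, hd⟩ := hrep x hx
    rcases d with i | i
    · exact absurd ((hmem x (hh hx) _ hd).mpr (hrot i)) hxR
    · have h1 : (h⁻¹ * x * h) * (h⁻¹ * x * h) = 1 := by
        rw [← hd, ← Subgroup.coe_mul, ← map_mul, DihedralGroup.sr_mul_self, map_one, Subgroup.coe_one]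
      calc x * x = h * ((h⁻¹ * x * h) * (h⁻¹ * x * h)) * h⁻¹ := by group
        _ = 1 := by rw [h1]; group
  have hidx : ∀ x ∈ Q', ∀ y ∈ Q', x ∉ R → y ∉ R → x * y⁻¹ ∈ R := by
    intro x hx y hy hxR hyR
    obtain ⟨d, hd⟩ := hrep x hx
    obtain ⟨e, he⟩ := hrep y hy
    have hmul : ((f.symm (d * e⁻¹) : (S : Subgroup X)) : X) = h⁻¹ * (x * y⁻¹) * h := by
      rw [map_mul, map_inv, Subgroup.coe_mul, Subgroup.coe_inv, hd, he]; group
    rw [hmem _ (hh (Q'.mul_mem hx (Q'.inv_mem hy))) _ hmul]
    rcases d with i | i <;> rcases e with j | j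
    · exact absurd ((hmem x (hh hx) _ hd).mpr (hrot i)) hxR
    · exact absurd ((hmem x (hh hx) _ hd).mpr (hrot i)) hxR
    · exact absurd ((hmem y (hh hy) _ he).mpr (hrot j)) hyR
    · rw [DihedralGroup.inv_sr, DihedralGroup.sr_mul_sr]; exact hrot _
  have hRc : IsCyclic R := by
    let e := ((Subgroup.zpowers (DihedralGroup.r 1 : DihedralGroup n)).equivMapOfInjective f.symm.toMonoidHom
      f.symm.injective).trans ((Subgroup.equivMapOfInjective _ (S : Subgroup X).subtype (Subgroup.subtype_injective _)).trans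
      (Subgroup.equivMapOfInjective _ (MulAut.conj h).toMonoidHom (MulAut.conj h).injective))
    exact isCyclic_of_surjective e e.surjective
  have hcyc : IsCyclic (Q' ⊓ R : Subgroup X) := Subgroup.isCyclic_of_le inf_le_right
  obtain ⟨c, hc⟩ := (Subgroup.isCyclic_iff_exists_zpowers_eq_top _).mp hcyc
  have hcQ : c ∈ Q' ⊓ R := hc ▸ Subgroup.mem_zpowers c
  have hmain : ∀ b ∈ Q', Commute (g : X) b := by
    by_cases hc2 : c * c = 1
    · refine Classification.commute_of_index_two hgodd hQ' hgQ (C := Subgroup.zpowers t)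
        (Subgroup.zpowers_le.mpr htQ) ?_ ?_
      · have h1 : Nat.card (Subgroup.zpowers c) ≤ 2 := by
          rw [Nat.card_zpowers]
          exact Nat.le_of_dvd two_pos (orderOf_dvd_of_pow_eq_one (by rw [pow_two, hc2]))
        have h2 : ((Q' ⊓ R).subgroupOf Q').index ≤ 2 := by
          by_cases hall : ∀ x ∈ Q', x ∈ R
          · rw [Subgroup.subgroupOf_eq_top.mpr (le_inf le_rfl hall), Subgroup.index_top]; norm_num
          · push Not at hall
            obtain ⟨a, ha, haR⟩ := hall
            refine le_of_eq (Subgroup.index_eq_two_iff'.mpr ⟨⟨a, ha⟩, fun b => ?_⟩)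
            simp only [Subgroup.mem_subgroupOf, Subgroup.mem_inf, Subgroup.coe_mul]
            by_cases hb : (b : X) ∈ R
            · refine Or.inr ⟨⟨b.2, hb⟩, fun h' => haR ?_⟩
              simpa using R.mul_mem h'.2 (R.inv_mem hb)
            · refine Or.inl ⟨⟨Q'.mul_mem ha b.2, ?_⟩, fun h' => hb h'.2⟩
              simpa using hidx a ha _ (Q'.inv_mem b.2) haR (fun h' => hb (by simpa using R.inv_mem h'))
        have h3 : Nat.card Q' ≤ 4 := by
          have := ((Q' ⊓ R).subgroupOf Q').card_mul_index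
          rw [Nat.card_congr (Subgroup.subgroupOfEquivOfLe (inf_le_left : Q' ⊓ R ≤ Q')).toEquiv, ← hc] at this
          rw [← hc] at h2
          have := Nat.mul_le_mul h1 h2
          omega
        have h4 : ((Subgroup.zpowers t).subgroupOf Q').index ≤ 2 := by
          have := ((Subgroup.zpowers t).subgroupOf Q').card_mul_index
          rw [Nat.card_congr (Subgroup.subgroupOfEquivOfLe (Subgroup.zpowers_le.mpr htQ)).toEquiv,
            Nat.card_zpowers, ht] at this
          omega
        intro x hx y hy hxt hyt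
        have h5 : ((Subgroup.zpowers t).subgroupOf Q').index = 2 := by
          have h6 : ((Subgroup.zpowers t).subgroupOf Q').index ≠ 1 := fun h' =>
            hxt (Subgroup.subgroupOf_eq_top.mp (Subgroup.index_eq_one.mp h') hx)
          have := Subgroup.index_ne_zero_of_finite (H := (Subgroup.zpowers t).subgroupOf Q')
          omega
        have := (Subgroup.mul_mem_iff_of_index_two h5 (a := ⟨x, hx⟩) (b := (⟨y, hy⟩ : Q')⁻¹)).mpr (by
          simp [Subgroup.mem_subgroupOf, hxt, hyt])
        simpa [Subgroup.mem_subgroupOf] using this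
      · rintro _ ⟨i, rfl⟩
        exact (show Commute (g : X) t from hgt).zpow_right i
    · have hconj : (g : X) * c * (g : X)⁻¹ ∈ Subgroup.zpowers c := by
        rw [hc]
        have hQm := (Subgroup.mem_normalizer_iff.mp hgQ c).mp hcQ.1
        refine ⟨hQm, ?_⟩
        by_contra hR
        apply hc2
        have := hord _ hQm hR
        calc c * c = (g : X)⁻¹ * (((g : X) * c * (g : X)⁻¹) * ((g : X) * c * (g : X)⁻¹)) * g := by group
          _ = 1 := by rw [this]; group
      obtain ⟨m, hm⟩ := IsPGroup.iff_orderOf.mp hQ' ⟨c, hcQ.1⟩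
      rw [Subgroup.orderOf_mk] at hm
      have hgc := Classification.commute_of_zpowers_two_pow hgodd m c hm hconj
      refine Classification.commute_of_index_two hgodd hQ' hgQ (C := Q' ⊓ R) inf_le_left ?_ ?_
      · intro x hx y hy hxC hyC
        exact ⟨Q'.mul_mem hx (Q'.inv_mem hy), hidx x hx y hy (fun h' => hxC ⟨hx, h'⟩) (fun h' => hyC ⟨hy, h'⟩)⟩
      · rw [← hc]
        rintro _ ⟨i, rfl⟩
        exact hgc.zpow_right i
  rw [Subgroup.mem_centralizer_iff]
  intro q hq
  exact Subtype.ext (hmain q (Subgroup.mem_sup_left ⟨q, hq, rfl⟩)).eq.symm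

end Cfsg.Agent.S0514
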