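import Cfsg.Statements.S0496
import Cfsg.Agent.Classification.SimpleOrderSieve
import Cfsg.Agent.Classification.SimpleOrderExceptions
import Cfsg.Agent.Classification.SimpleOrder1040
import Cfsg.Agent.Classification.SimpleOrder720
-- import your own Cfsg.Agent.* helpers here

set_option autoImplicit false
open Cfsg

namespace Cfsg.Agent.S0496

/-- A non-abelian finite simple group of order at most 1092 has order 60, 168, 360, 504, 660 or 1092. -/
theorem result {G : Type*} [Group G] [Finite G] [IsSimpleGroup G]
    (hG : ¬ IsMulCommutative G) (h : Nat.card G ≤ 1092) :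
    Nat.card G = 60 ∨ Nat.card G = 168 ∨ Nat.card G = 360 ∨ Nat.card G = 504 ∨ Nat.card G = 660 ∨
      Nat.card G = 1092 := by
  have hmem := Classification.Sieve.card_mem_survivors hG h
  simp only [Classification.Sieve.survivors, List.mem_cons, List.not_mem_nil, or_false] at hmem
  have h1 : Nat.card G ≠ 612 := Classification.card_ne_612
  have h2 : Nat.card G ≠ 720 := Classification.Order720.card_ne_720
  have h3 : Nat.card G ≠ 756 := Classification.card_ne_756
  have h4 : Nat.card G ≠ 1008 := Classification.card_ne_1008
  have h5 : Nat.card G ≠ 1040 := Classification.card_ne_1040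
  have h6 : Nat.card G ≠ 1080 := Classification.card_ne_1080
  omega

end Cfsg.Agent.S0496
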