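import Cfsg.Statements.S4198
import Mathlib
import Mathlib.Combinatorics.Enumerative.Partition.Basic

set_option autoImplicit false
open Cfsg

namespace Cfsg.Agent.S4198

open Equiv Equiv.Perm in
theorem card_conjClasses_perm (n : ℕ) : Nat.card (ConjClasses (Equiv.Perm (Fin n))) ≤ Nat.card (Nat.Partition n) := by
  let f : ConjClasses (Equiv.Perm (Fin n)) → Nat.Partition (Fintype.card (Fin n)) :=
    Quotient.lift Equiv.Perm.partition (fun a b h => Equiv.Perm.partition_eq_of_isConj.mp h)
  have hf : Function.Injective f := by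
    intro a b
    induction a using Quotient.inductionOn with | _ a => ?_
    induction b using Quotient.inductionOn with | _ b => ?_
    intro h
    exact Quotient.sound (Equiv.Perm.partition_eq_of_isConj.mpr h)
  have := Nat.card_le_card_of_injective f hf
  rwa [Fintype.card_fin] at this

theorem erase_min_inj (s t : Multiset ℕ) (k l : ℕ) (hs : ∀ x ∈ s, k ≤ x) (ht : ∀ x ∈ t, l ≤ x) (hk : 1 ≤ k) (hl : 1 ≤ l)
    (h : (k - 1) ::ₘ s = (l - 1) ::ₘ t) : k = l ∧ s = t := by
  have hkl : k = l := by
    by_contra hne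
    have h1 : k - 1 ∈ (l - 1) ::ₘ t := h ▸ Multiset.mem_cons_self _ _
    have h2 : l - 1 ∈ (k - 1) ::ₘ s := h.symm ▸ Multiset.mem_cons_self _ _
    rcases Multiset.mem_cons.mp h1 with e | e
    · omega
    · rcases Multiset.mem_cons.mp h2 with e' | e'
      · omega
      · have := ht _ e; have := hs _ e'; omega
  subst hkl
  exact ⟨rfl, (Multiset.cons_inj_right _).mp h⟩

theorem card_partition_succ_le (n : ℕ) (hn : 1 ≤ n) : Nat.card (Nat.Partition (n + 1)) ≤ 2 * Nat.card (Nat.Partition n) := by
  classical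
  have hex : ∀ P : Nat.Partition (n+1), ∃ k ∈ P.parts, ∀ x ∈ P.parts, k ≤ x := by
    intro P
    have hne : P.parts ≠ 0 := fun e => by have := P.parts_sum; rw [e] at this; simp at this
    obtain ⟨m, hm⟩ := Multiset.exists_mem_of_ne_zero hne
    have hf : P.parts.toFinset.Nonempty := ⟨m, Multiset.mem_toFinset.mpr hm⟩
    exact ⟨P.parts.toFinset.min' hf, Multiset.mem_toFinset.mp (Finset.min'_mem _ hf),
      fun x hx => Finset.min'_le _ _ (Multiset.mem_toFinset.mpr hx)⟩
  choose k hk hkmin using hex
  have hsum : ∀ P : Nat.Partition (n+1), k P + (P.parts.erase (k P)).sum = n + 1 := fun P => by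
    rw [← Multiset.sum_cons, Multiset.cons_erase (hk P), P.parts_sum]
  have hpos : ∀ P : Nat.Partition (n+1), ∀ x ∈ P.parts.erase (k P), 0 < x := fun P x hx => P.parts_pos (Multiset.mem_of_mem_erase hx)
  -- `true` : a part equal to one is dropped; `false` : the least part is decreased
  let f : Nat.Partition (n+1) → Bool × Nat.Partition n := fun P =>
    if h : k P = 1 then
      (true, ⟨P.parts.erase (k P), @hpos P, by have := hsum P; omega⟩)
    else
      (false, ⟨(k P - 1) ::ₘ P.parts.erase (k P), by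
        intro i hi
        have h0 := P.parts_pos (hk P)
        rcases Multiset.mem_cons.mp hi with rfl | hi
        · omega
        · exact hpos P i hi, by
        have h0 := P.parts_pos (hk P)
        have := hsum P
        rw [Multiset.sum_cons]; omega⟩)
  have hf : Function.Injective f := by
    intro P Q h
    apply Nat.Partition.ext
    rw [← Multiset.cons_erase (hk P), ← Multiset.cons_erase (hk Q)]
    simp only [f] at h
    split_ifs at h with h1 h2 h2
    · rw [h1, h2]
      have := congrArg (fun z => z.2.parts) h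
      simp only [h1, h2] at this
      rw [this]
    · simp at h
    · simp at h
    · have h' := congrArg (fun z => z.2.parts) h
      obtain ⟨e1, e2⟩ := erase_min_inj _ _ _ _ (fun x hx => hkmin P x (Multiset.mem_of_mem_erase hx))
        (fun x hx => hkmin Q x (Multiset.mem_of_mem_erase hx)) (P.parts_pos (hk P)) (Q.parts_pos (hk Q)) h'
      rw [e2, e1]
  calc Nat.card (Nat.Partition (n + 1)) ≤ Nat.card (Bool × Nat.Partition n) := Nat.card_le_card_of_injective f hf
    _ = 2 * Nat.card (Nat.Partition n) := by rw [Nat.card_prod, Nat.card_eq_fintype_card (α := Bool), Fintype.card_bool]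

theorem card_partition_le (n : ℕ) (hn : 5 ≤ n) : Nat.card (Nat.Partition n) ≤ 2 ^ (n - 2) := by
  induction n, hn using Nat.le_induction with
  | base =>
    have hb : ∀ (P : Nat.Partition 5) (a : ℕ), P.parts.count a ≤ 5 := fun P a => by
      refine (Multiset.count_le_card a _).trans ?_
      have := Multiset.card_nsmul_le_sum (s := P.parts) (a := 1) (fun x hx => P.parts_pos hx)
      rw [P.parts_sum] at this; simpa using this
    let f : Nat.Partition 5 → {c : Fin 6 × Fin 6 × Fin 6 × Fin 6 × Fin 6 //
        c.1.val + 2 * c.2.1.val + 3 * c.2.2.1.val + 4 * c.2.2.2.1.val + 5 * c.2.2.2.2.val = 5} := fun P =>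
      ⟨(⟨P.parts.count 1, by have := hb P 1; omega⟩, ⟨P.parts.count 2, by have := hb P 2; omega⟩,
        ⟨P.parts.count 3, by have := hb P 3; omega⟩, ⟨P.parts.count 4, by have := hb P 4; omega⟩,
        ⟨P.parts.count 5, by have := hb P 5; omega⟩), by
        have hsub : P.parts.toFinset ⊆ Finset.Icc 1 5 := fun x hx => by
          rw [Multiset.mem_toFinset] at hx
          exact Finset.mem_Icc.mpr ⟨P.parts_pos hx, (Multiset.le_sum_of_mem hx).trans P.parts_sum.le⟩
        have h := (Finset.sum_multiset_count_of_subset P.parts (Finset.Icc 1 5) hsub).symm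
        rw [P.parts_sum] at h
        simp [Finset.sum_Icc_succ_top, smul_eq_mul] at h
        simp only
        omega⟩
    have hf : Function.Injective f := by
      intro P Q h
      apply Nat.Partition.ext
      ext a
      have h' := congrArg Subtype.val h
      simp only [f, Prod.mk.injEq, Fin.mk.injEq] at h'
      have hz : ∀ (R : Nat.Partition 5) b, (b = 0 ∨ 5 < b) → R.parts.count b = 0 := fun R b hb' =>
        Multiset.count_eq_zero.mpr fun hm => by
          have := R.parts_pos hm
          have := (Multiset.le_sum_of_mem hm).trans R.parts_sum.le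
          omega
      rcases (by omega : a = 1 ∨ a = 2 ∨ a = 3 ∨ a = 4 ∨ a = 5 ∨ (a = 0 ∨ 5 < a)) with rfl | rfl | rfl | rfl | rfl | ha
      · exact h'.1
      · exact h'.2.1
      · exact h'.2.2.1
      · exact h'.2.2.2.1
      · exact h'.2.2.2.2
      · rw [hz P a ha, hz Q a ha]
    refine (Nat.card_le_card_of_injective f hf).trans ?_
    rw [Nat.card_eq_fintype_card]
    decide +kernel
  | succ n hn ih =>
    calc _ ≤ 2 * Nat.card (Nat.Partition n) := card_partition_succ_le n (by omega)
      _ ≤ 2 * 2 ^ (n - 2) := by omega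
      _ = 2 ^ (n + 1 - 2) := by rw [← pow_succ']; congr 1; omega

theorem isConj_or_centralizer_le {n : ℕ} (σ τ : alternatingGroup (Fin n)) (h : IsConj (σ : Equiv.Perm (Fin n)) τ) :
    IsConj σ τ ∨ (Subgroup.centralizer {(σ : Equiv.Perm (Fin n))} ≤ alternatingGroup (Fin n) ∧
      ∃ c : Equiv.Perm (Fin n), Equiv.Perm.sign c = -1 ∧ c * σ * c⁻¹ = τ) := by
  obtain ⟨c, hc⟩ := isConj_iff.mp h
  rcases Int.units_eq_one_or (Equiv.Perm.sign c) with hs | hs
  · exact Or.inl (isConj_iff.mpr ⟨⟨c, hs⟩, Subtype.ext hc⟩)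
  by_cases hC : Subgroup.centralizer {(σ : Equiv.Perm (Fin n))} ≤ alternatingGroup (Fin n)
  · exact Or.inr ⟨hC, c, hs, hc⟩
  obtain ⟨d, hd, hd'⟩ := SetLike.not_le_iff_exists.mp hC
  rw [Subgroup.mem_centralizer_singleton_iff] at hd
  rw [Equiv.Perm.mem_alternatingGroup] at hd'
  refine Or.inl (isConj_iff.mpr ⟨⟨c * d, ?_⟩, Subtype.ext ?_⟩)
  · rw [Equiv.Perm.mem_alternatingGroup, map_mul, hs, (Int.units_eq_one_or _).resolve_left hd']; rfl
  · show (c * d) * (σ : Equiv.Perm (Fin n)) * (c * d)⁻¹ = τ
    rw [mul_assoc c d, hd, ← hc]; group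

open Equiv Equiv.Perm in
theorem card_conj_alternating_lt (n : ℕ) (hn : 5 ≤ n) :
    Nat.card (ConjClasses (alternatingGroup (Fin n))) < Nat.card (ConjClasses (Equiv.Perm (Fin n))) := by
  classical
  set A := alternatingGroup (Fin n)
  let φ : ConjClasses A → ConjClasses (Equiv.Perm (Fin n)) := ConjClasses.map A.subtype
  let g := Function.invFun φ
  have hg : ∀ a, φ (g (φ a)) = φ a := fun a => Function.invFun_eq ⟨a, rfl⟩
  choose r hr using fun a : ConjClasses A => ConjClasses.mk_surjective a
  let Split : ConjClasses A → Prop := fun a => Subgroup.centralizer {(r a : Equiv.Perm (Fin n))} ≤ A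
  have hψ : ∀ a, ∃ (τ : Equiv.Perm (Fin n)) (m : ℕ), Split a →
      m ∈ (r a : Equiv.Perm (Fin n)).cycleType ∧ τ.cycleType = (m - 1) ::ₘ (r a : Equiv.Perm (Fin n)).cycleType.erase m := by
    intro a
    by_cases hs : Split a
    swap
    · exact ⟨1, 0, fun h => absurd h hs⟩
    obtain ⟨hodd, hcard, -⟩ := Equiv.Perm.centralizer_le_alternating_iff.mp hs
    rw [Fintype.card_fin] at hcard
    obtain ⟨m, hm⟩ : ∃ m, m ∈ (r a : Equiv.Perm (Fin n)).cycleType := by
      apply Multiset.exists_mem_of_ne_zero
      intro h0; rw [h0] at hcard; simp at hcard; omega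
    have hm2 := Equiv.Perm.two_le_of_mem_cycleType hm
    have hm3 : 3 ≤ m := by obtain ⟨t, ht⟩ := hodd m hm; omega
    obtain ⟨τ, hτ⟩ := (Equiv.Perm.exists_with_cycleType_iff (α := Fin n)
      (m := (m - 1) ::ₘ (r a : Equiv.Perm (Fin n)).cycleType.erase m)).mpr ⟨by
        have h1 : m + ((r a : Equiv.Perm (Fin n)).cycleType.erase m).sum = (r a : Equiv.Perm (Fin n)).cycleType.sum := by
          rw [← Multiset.sum_cons, Multiset.cons_erase hm]
        have h2 := Equiv.Perm.sum_cycleType (r a : Equiv.Perm (Fin n))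
        have h3 := Finset.card_le_univ (r a : Equiv.Perm (Fin n)).support
        rw [Multiset.sum_cons, Fintype.card_fin] at *
        omega, fun x hx => by
        rcases Multiset.mem_cons.mp hx with rfl | hx
        · omega
        · exact Equiv.Perm.two_le_of_mem_cycleType (Multiset.mem_of_mem_erase hx)⟩
    exact ⟨τ, m, fun _ => ⟨hm, hτ⟩⟩
  choose τ m hτm using hψ
  let Φ : ConjClasses A → ConjClasses (Equiv.Perm (Fin n)) := fun a =>
    if a = g (φ a) then φ a else ConjClasses.mk (τ (g (φ a)))
  have hkey : ∀ a, a ≠ g (φ a) → Split (g (φ a)) ∧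
      ∃ c : Equiv.Perm (Fin n), Equiv.Perm.sign c = -1 ∧ c * r (g (φ a)) * c⁻¹ = r a := by
    intro a ha
    have hc : IsConj (r (g (φ a)) : Equiv.Perm (Fin n)) (r a) := by
      rw [← ConjClasses.mk_eq_mk_iff_isConj]
      have h : φ (g (φ a)) = φ a := hg a
      conv at h => lhs; rw [← hr (g (φ a))]
      conv at h => rhs; rw [← hr a]
      exact h
    rcases isConj_or_centralizer_le _ _ hc with h | h
    · exact absurd ((hr a).symm.trans ((ConjClasses.mk_eq_mk_iff_isConj.mpr h).symm.trans (hr _))) ha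
    · exact h
  have heven : ∀ a, Even ((r a : Equiv.Perm (Fin n)).cycleType.sum + Multiset.card (r a : Equiv.Perm (Fin n)).cycleType) := by
    intro a
    have h := (r a).2
    rw [Equiv.Perm.mem_alternatingGroup, Equiv.Perm.sign_of_cycleType] at h
    exact (neg_one_pow_eq_one_iff_even (by decide)).mp h
  have hτodd : ∀ a, Split a → Equiv.Perm.sign (τ a) = -1 := by
    intro a hs
    obtain ⟨hm, ht⟩ := hτm a hs
    have h2 := Equiv.Perm.two_le_of_mem_cycleType hm
    have h1 : m a + ((r a : Equiv.Perm (Fin n)).cycleType.erase (m a)).sum = (r a : Equiv.Perm (Fin n)).cycleType.sum := by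
      rw [← Multiset.sum_cons, Multiset.cons_erase hm]
    have h3 := Multiset.card_erase_add_one hm
    obtain ⟨t, ht'⟩ := heven a
    rw [Equiv.Perm.sign_of_cycleType, ht, Multiset.sum_cons, Multiset.card_cons]
    apply Odd.neg_one_pow
    exact ⟨t - 1, by omega⟩
  have hsign : ∀ a c, φ a = c → ∀ x, ConjClasses.mk x = c → Equiv.Perm.sign x = 1 := by
    intro a c hac x hx
    subst hac
    rw [← hr a] at hx
    obtain ⟨d, hd⟩ := isConj_iff.mp (ConjClasses.mk_eq_mk_iff_isConj.mp hx.symm)
    have h := (r a).2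
    rw [Equiv.Perm.mem_alternatingGroup] at h
    rw [← hd]
    simp only [map_mul, map_inv]
    show _ * Equiv.Perm.sign (r a : Equiv.Perm (Fin n)) * _ = 1
    rw [h]; simp
  have hτinj : ∀ a b, Split a → Split b → (τ a).cycleType = (τ b).cycleType →
      IsConj (r a : Equiv.Perm (Fin n)) (r b) := by
    intro a b ha hb h
    obtain ⟨hma, hta⟩ := hτm a ha
    obtain ⟨hmb, htb⟩ := hτm b hb
    obtain ⟨hoa, -, -⟩ := Equiv.Perm.centralizer_le_alternating_iff.mp ha
    obtain ⟨hob, -, -⟩ := Equiv.Perm.centralizer_le_alternating_iff.mp hb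
    have h2a := Equiv.Perm.two_le_of_mem_cycleType hma
    have h2b := Equiv.Perm.two_le_of_mem_cycleType hmb
    rw [hta, htb] at h
    have hmem := h ▸ Multiset.mem_cons_self (m a - 1) _
    have heq : m a - 1 = m b - 1 := by
      rcases Multiset.mem_cons.mp hmem with e | e
      · exact e
      · obtain ⟨t, ht⟩ := hob _ (Multiset.mem_of_mem_erase e)
        obtain ⟨s, hs⟩ := hoa _ hma
        omega
    rw [Equiv.Perm.isConj_iff_cycleType_eq, ← Multiset.cons_erase hma, ← Multiset.cons_erase hmb,
      (by omega : m a = m b)]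
    rw [heq] at h
    have h' := (Multiset.cons_inj_right _).mp h
    rw [(by omega : m a = m b)] at h'
    rw [h']
  have hinj : Function.Injective Φ := by
    intro a b h
    simp only [Φ] at h
    split_ifs at h with ha hb hb
    · rw [ha, hb, h]
    · have := hsign a _ rfl _ h.symm
      rw [hτodd _ (hkey b hb).1] at this
      exact absurd this (by decide)
    · have := hsign b _ rfl _ h
      rw [hτodd _ (hkey a ha).1] at this
      exact absurd this (by decide)
    · obtain ⟨sa, ca, hca, ea⟩ := hkey a ha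
      obtain ⟨sb, cb, hcb, eb⟩ := hkey b hb
      have hconj := hτinj _ _ sa sb (Equiv.Perm.isConj_iff_cycleType_eq.mp (ConjClasses.mk_eq_mk_iff_isConj.mp h))
      have hφ : φ a = φ b := by
        rw [← hg a, ← hg b, ← hr (g (φ a)), ← hr (g (φ b))]
        exact ConjClasses.mk_eq_mk_iff_isConj.mpr hconj
      rw [hφ] at ea
      rw [← hr a, ← hr b, ConjClasses.mk_eq_mk_iff_isConj, isConj_iff]
      refine ⟨⟨cb * ca⁻¹, ?_⟩, Subtype.ext ?_⟩
      · rw [Equiv.Perm.mem_alternatingGroup, map_mul, map_inv, hca, hcb]; rfl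
      · show (cb * ca⁻¹) * (r a : Equiv.Perm (Fin n)) * (cb * ca⁻¹)⁻¹ = r b
        rw [← ea, ← eb]; group
  refine lt_of_le_of_ne (Nat.card_le_card_of_injective Φ hinj) fun hcard => ?_
  let s : Equiv.Perm (Fin n) := Equiv.swap ⟨0, by omega⟩ ⟨1, by omega⟩
  have hs : s.IsSwap := ⟨_, _, by simp, rfl⟩
  obtain ⟨a, ha⟩ := (hinj.bijective_of_nat_card_le hcard.ge).2 (ConjClasses.mk s)
  simp only [Φ] at ha
  split_ifs at ha with hp
  · have := hsign a _ rfl _ ha.symm
    rw [hs.sign_eq] at this
    exact absurd this (by decide)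
  · obtain ⟨sa, -, -, -⟩ := hkey a hp
    obtain ⟨hma, hta⟩ := hτm _ sa
    obtain ⟨-, hcard', -⟩ := Equiv.Perm.centralizer_le_alternating_iff.mp sa
    have hct := Equiv.Perm.isConj_iff_cycleType_eq.mp (ConjClasses.mk_eq_mk_iff_isConj.mp ha)
    rw [hta, Equiv.Perm.isSwap_iff_cycleType.mp hs] at hct
    rw [Fintype.card_fin] at hcard'
    have hc1 := congrArg Multiset.sum hct
    have h1 : m (g (φ a)) + ((r (g (φ a)) : Equiv.Perm (Fin n)).cycleType.erase (m (g (φ a)))).sum = (r (g (φ a)) : Equiv.Perm (Fin n)).cycleType.sum := by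
      rw [← Multiset.sum_cons, Multiset.cons_erase hma]
    rw [Multiset.sum_cons, Multiset.sum_singleton] at hc1
    omega

/-- For n ≥ 5 the alternating group of degree n has strictly fewer conjugacy classes than the symmetric group of degree n, and the symmetric group of degree n (whose classes correspond to the partitions of n) has at most 2^(n−2) conjugacy classes. -/
theorem result (n : ℕ) (hn : 5 ≤ n) : Nat.card (ConjClasses (alternatingGroup (Fin n))) < Nat.card (ConjClasses (Equiv.Perm (Fin n))) ∧ Nat.card (ConjClasses (Equiv.Perm (Fin n))) ≤ 2 ^ (n - 2) := by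
  exact ⟨card_conj_alternating_lt n hn, (card_conjClasses_perm n).trans (card_partition_le n hn)⟩

end Cfsg.Agent.S4198
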