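import Cfsg.Statements.S0216
import Cfsg.Agent.Lib.Involution.Dihedral
import Cfsg.Agent.Lib.Involution.BaerSuzuki

set_option autoImplicit false
open Cfsg

namespace Cfsg.Agent.S0216

/-- For an involution u in a Sylow 2-subgroup P of a finite group G, the following are equivalent: no G-conjugate of u other than u lies in P; every commutator of u with an element of G has odd order. -/
theorem result {G : Type*} [Group G] [Finite G] (P : Sylow 2 G) (u : G) (hu : orderOf u = 2) (huP : u ∈ P) : (∀ g : G, g * u * g⁻¹ ∈ P → g * u * g⁻¹ = u) ↔ (∀ g : G, Odd (orderOf (u * g * u⁻¹ * g⁻¹))) := by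
  haveI : Fact (Nat.Prime 2) := ⟨Nat.prime_two⟩
  have hx := Involution.mul_self_of_orderOf hu
  constructor
  · intro hiso g
    set v := g * u⁻¹ * g⁻¹ with hv
    have hv' : v = g * u * g⁻¹ := by rw [hv, Involution.inv_of_orderOf hu]
    have hy : v * v = 1 := by
      rw [hv']; calc g * u * g⁻¹ * (g * u * g⁻¹) = g * (u * u) * g⁻¹ := by group
        _ = 1 := by rw [hx]; group
    have he : u * g * u⁻¹ * g⁻¹ = u * v := by rw [hv]; group
    rw [he]
    obtain ⟨a, m, hm, hn⟩ := Nat.exists_eq_two_pow_mul_odd (orderOf_pos (u * v)).ne'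
    -- the conjugate `u * (u * v) ^ m` of `v` lies in a 2-group with `u`
    set r := (u * v) ^ m with hr
    have hr2 : r ^ (2 ^ a) = 1 := by rw [hr, ← pow_mul, mul_comm, ← hn, pow_orderOf_eq_one]
    have hw : u * r * (u * r) = 1 := by
      have h1 := Involution.left_mul_zpow_sq hx hy (m : ℤ)
      rw [zpow_natCast] at h1
      exact h1
    have hL : IsPGroup 2 (Subgroup.closure ({u, u * r} : Set G)) := by
      intro d
      obtain ⟨k, hk | hk⟩ := (Involution.mem_closure_pair_involutions hx hw).mp d.2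
      · refine ⟨a, Subtype.ext ?_⟩
        rw [← mul_assoc, hx, one_mul] at hk
        simp only [Subgroup.coe_pow, Subgroup.coe_one, hk]
        rw [← zpow_natCast (r ^ k), ← zpow_mul, mul_comm, zpow_mul, zpow_natCast, hr2, one_zpow]
      · refine ⟨1, Subtype.ext ?_⟩
        simp only [pow_one, pow_two, Subgroup.coe_mul, Subgroup.coe_one, hk]
        exact Involution.left_mul_zpow_sq hx hw k
    obtain ⟨Q, hQ⟩ := hL.exists_le_sylow
    obtain ⟨c, hc⟩ := MulAction.exists_smul_eq G Q P
    have hmem : ∀ z ∈ Q, c * z * c⁻¹ ∈ P := by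
      intro z hz
      rw [← hc]
      exact Involution.conj_mem_sylow_smul c hz
    -- `u * r` is a conjugate of `u`
    obtain ⟨j, hj⟩ := hm
    obtain ⟨g', hg'⟩ : ∃ g' : G, g' * u * g'⁻¹ = u * r := by
      refine ⟨(u * v) ^ (-(j : ℤ)) * g, ?_⟩
      calc (u * v) ^ (-(j : ℤ)) * g * u * ((u * v) ^ (-(j : ℤ)) * g)⁻¹
          = (u * v) ^ (-(j : ℤ)) * (u * (u * v)) * ((u * v) ^ (-(j : ℤ)))⁻¹ := by
            rw [← mul_assoc u u v, hx, one_mul, hv']; group
        _ = ((u * v) ^ (-(j : ℤ)) * u * ((u * v) ^ (-(j : ℤ)))⁻¹) *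
              ((u * v) ^ (-(j : ℤ)) * (u * v) * ((u * v) ^ (-(j : ℤ)))⁻¹) := by group
        _ = ((u * v) ^ (-(j : ℤ)) * u * ((u * v) ^ (-(j : ℤ)))⁻¹) * (u * v) := by
            rw [(Commute.zpow_self (u * v) _).eq, mul_inv_cancel_right]
        _ = u * r := by
            rw [Involution.conj_zpow_left hx hy, mul_assoc, ← zpow_add_one, hr, hj, ← zpow_natCast]
            congr 2
            push_cast
            ring
    have hQu : u ∈ Q := hQ (Subgroup.subset_closure (by simp))
    have hQw : u * r ∈ Q := hQ (Subgroup.subset_closure (by simp))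
    have e1 := hiso c (hmem u hQu)
    have e2 := hiso (c * g') (by
      have := hmem _ hQw
      rw [← hg'] at this
      rw [show c * g' * u * (c * g')⁻¹ = c * (g' * u * g'⁻¹) * c⁻¹ by group]
      exact this)
    have e3 : c * (u * r) * c⁻¹ = c * u * c⁻¹ := by
      rw [e1, ← hg', show c * (g' * u * g'⁻¹) * c⁻¹ = c * g' * u * (c * g')⁻¹ by group, e2]
    have e4 : r = 1 := by simpa [mul_assoc] using e3
    exact Odd.of_dvd_nat ⟨j, hj⟩ (orderOf_dvd_of_pow_eq_one e4)
  · intro hodd g hg
    have h1 := hodd g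
    have he : u * g * u⁻¹ * g⁻¹ = u * (g * u * g⁻¹) := by
      rw [Involution.inv_of_orderOf hu]; group
    rw [he] at h1
    obtain ⟨k, hk⟩ := IsPGroup.iff_orderOf.mp P.isPGroup' ⟨_, mul_mem huP hg⟩
    rw [Subgroup.orderOf_mk] at hk
    rw [hk] at h1
    rcases Nat.eq_zero_or_pos k with h0 | h0
    · rw [h0, pow_zero, orderOf_eq_one_iff] at hk
      exact (mul_eq_one_iff_eq_inv'.mp hk).trans (Involution.inv_of_orderOf hu)
    · exact absurd h1 (Nat.not_odd_iff_even.mpr (Nat.even_pow.mpr ⟨even_two, h0.ne'⟩))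

end Cfsg.Agent.S0216
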