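import Cfsg.Statements.S1119
import Cfsg.Agent.Lib.RankOne.Basic

set_option autoImplicit false
open Cfsg

namespace Cfsg.Agent.S1119

open MulAction Cfsg.Agent.RankOne

/-- In the rank-one set-up (`G` finite and doubly transitive on `Ω`, `t` an involution moving `a`, `Q` normal in `G_a` with `G_a = Q D`, `Q ⊓ D = 1` for the two-point stabiliser `D = G_a ⊓ G_{t • a}`, `|Q|` even, `|D|` odd): `Q` acts regularly on `Ω` minus `a`; hence `|Ω| = |Q| + 1`, `|G| = |Q| |D| (|Q| + 1)`, some Sylow 2-subgroup of `G` lies in `Q`, and each `g ∉ G_a` is uniquely `x t y` with `x ∈ G_a`, `y ∈ Q` (canonical form). -/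
theorem result {G Ω : Type*} [Group G] [Finite G] [MulAction G Ω] {a : Ω} {t : G} {Q : Subgroup G}
    (hS : Cfsg.IsRankOneSetup G Ω a t Q) :
    (∀ b c : Ω, b ≠ a → c ≠ a → ∃! x : Q, (x : G) • b = c) ∧
      Nat.card Ω = Nat.card Q + 1 ∧
      Nat.card G = Nat.card Q * Nat.card ↥(MulAction.stabilizer G a ⊓ MulAction.stabilizer G (t • a)) * (Nat.card Q + 1) ∧
      (∃ P : Sylow 2 G, (P : Subgroup G) ≤ Q) ∧
      ∀ g : G, g ∉ MulAction.stabilizer G a → ∃! p : G × G, p.1 ∈ MulAction.stabilizer G a ∧ p.2 ∈ Q ∧ g = p.1 * t * p.2 := by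
  refine ⟨?_, card_omega hS, card_group hS, ?_, ?_⟩
  · intro b c hb hc
    obtain ⟨x, hx, h⟩ := regular hS hb hc
    exact ⟨⟨x, hx⟩, h, fun y hy => Subtype.ext (regular_unique hS hb y.2 hx (hy.trans h.symm))⟩
  · obtain ⟨P⟩ : Nonempty (Sylow 2 Q) := inferInstance
    haveI : Fact (Nat.Prime 2) := ⟨Nat.prime_two⟩
    have hf : ∀ n : ℕ, Odd n → n.factorization 2 = 0 := fun n hn =>
      Nat.factorization_eq_zero_of_not_dvd hn.not_two_dvd_nat
    refine ⟨Sylow.ofCard ((P : Subgroup Q).map Q.subtype) ?_, ?_⟩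
    · rw [Subgroup.card_map_of_injective Q.subtype_injective]
      have hq : Nat.card Q ≠ 0 := Nat.card_pos.ne'
      have hd : Nat.card (twoStab G a t) ≠ 0 := Nat.card_pos.ne'
      rw [Sylow.card_eq_multiplicity, card_group hS, Nat.factorization_mul (mul_ne_zero hq hd)
        (by omega), Nat.factorization_mul hq hd, Finsupp.add_apply, Finsupp.add_apply,
        hf _ hS.odd_card, hf _ hS.even_card.add_one, add_zero, add_zero]
    · intro x hx
      obtain ⟨y, -, rfl⟩ := Subgroup.mem_map.1 hx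
      exact y.2
  · intro g hg
    have hga : g⁻¹ • a ≠ a := fun h => hg (by
      rw [mem_stabilizer_iff]; exact (inv_smul_eq_iff.1 h).symm)
    obtain ⟨q, hq, hqa⟩ := regular hS hga (ta_ne hS)
    have hp : g * q⁻¹ * t ∈ stabilizer G a := by
      rw [mem_stabilizer_iff, mul_smul, mul_smul, ← hqa, inv_smul_smul, smul_inv_smul]
    refine ⟨(g * q⁻¹ * t, q), ⟨hp, hq, ?_⟩, ?_⟩
    · show g = g * q⁻¹ * t * t * q
      rw [mul_assoc (g * q⁻¹) t t, hS.mul_self]; group
    · rintro ⟨p', q'⟩ ⟨hp', hq', h⟩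
      have hq'' : q' = q := by
        refine regular_unique hS hga hq' hq ?_
        have e : q' * g⁻¹ = t * p'⁻¹ := by
          conv_rhs => rw [← t_inv hS]
          rw [h]; group
        rw [hqa, ← mul_smul, e, mul_smul, show p'⁻¹ • a = a from inv_mem hp']
      subst hq''
      refine Prod.ext ?_ rfl
      show p' = g * q'⁻¹ * t
      rw [h]
      calc p' = p' * (t * t) := by rw [hS.mul_self, mul_one]
        _ = _ := by group

end Cfsg.Agent.S1119
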