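import Cfsg.Statements.S1120
import Cfsg.Agent.Lib.RankOne.Fixed

set_option autoImplicit false
open Cfsg

namespace Cfsg.Agent.S1120

open MulAction Cfsg.Agent.RankOne

/-- In the rank-one set-up (`G` finite and doubly transitive on `Ω`, `t` an involution moving `a`, `Q` normal in `G_a` with `G_a = Q D`, `Q ⊓ D = 1` for the two-point stabiliser `D = G_a ⊓ G_{t • a}`, `|Q|` even, `|D|` odd), if `G` has 2-rank at least 2 then `O_{2'}(G)` equals the normal core of `G_a`. -/
theorem result {G Ω : Type*} [Group G] [Finite G] [MulAction G Ω] {a : Ω} {t : G} {Q : Subgroup G}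
    (hS : Cfsg.IsRankOneSetup G Ω a t Q)
    (h2 : ∃ x y : G, x ≠ 1 ∧ y ≠ 1 ∧ x ≠ y ∧ x * x = 1 ∧ y * y = 1 ∧ x * y = y * x) :
    Cfsg.pPrimeCore 2 G = (MulAction.stabilizer G a).normalCore := by
  have hker : ∀ {N : Subgroup G}, N.Normal → N ≤ stabilizer G a → N ≤ (stabilizer G a).normalCore :=
    fun hN h => by haveI := hN; exact Subgroup.normal_le_normalCore.2 h
  refine le_antisymm (sSup_le ?_) (le_sSup ⟨inferInstance, ?_⟩)
  · rintro N ⟨hN, hcop⟩
    have hodd : Odd (Nat.card N) := Nat.coprime_two_right.1 hcop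
    refine hker hN ?_
    obtain ⟨s, hs, s', hs', hne, hc⟩ := exists_two_invol hS h2
    have hc' : (s * s') * (s * s') = 1 := by
      calc (s * s') * (s * s') = (s * s') * (s' * s) := by rw [← hc]
        _ = s * (s' * s') * s := by group
        _ = 1 := by rw [hs'.2.2, mul_one, hs.2.2]
    have h3 : IsInv (s * s') := ⟨fun h => hne (by
      rw [mul_eq_one_iff_eq_inv, inv_eq_self hs'.2.2] at h; exact h), hc'⟩
    have h3a : (s * s') • a = a := by
      rw [mul_smul, show s' • a = a from hs'.1, show s • a = a from hs.1]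
    exact le_of_four_group hodd hs.2.2 hs'.2.2 hc (fun n hn => hN.conj_mem n hn s)
      (fun n hn => hN.conj_mem n hn s')
      (fun n _ h => comm_fix hS ⟨hs.2.1, hs.2.2⟩ hs.1 h)
      (fun n _ h => comm_fix hS ⟨hs'.2.1, hs'.2.2⟩ hs'.1 h)
      (fun n _ h => comm_fix hS h3 h3a h)
  · have hle : (stabilizer G a).normalCore ≤ twoStab G a t := by
      intro x hx
      refine Subgroup.mem_inf.2 ⟨Subgroup.normalCore_le _ hx, ?_⟩
      have h := Subgroup.normalCore_le _
        ((inferInstance : (stabilizer G a).normalCore.Normal).conj_mem x hx t⁻¹)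
      rw [mem_stabilizer_iff, inv_inv, mul_smul, mul_smul, inv_smul_eq_iff] at h
      exact h
    exact Nat.coprime_two_right.2 (hS.odd_card.of_dvd_nat (Subgroup.card_dvd_of_le hle))

end Cfsg.Agent.S1120
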