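import Cfsg.Statements.S1127
import Cfsg.Agent.Lib.RankOne.Fixed

set_option autoImplicit false
open Cfsg

namespace Cfsg.Agent.S1127

open MulAction Cfsg.Agent.RankOne

/-- In the rank-one set-up (`G` finite and doubly transitive on `Ω`, `t` an involution moving `a`, `Q` normal in `G_a` with `G_a = Q D`, `Q ⊓ D = 1` for the two-point stabiliser `D = G_a ⊓ G_{t • a}`, `|Q|` even, `|D|` odd): if `s` is an involution of `G_a` and `r ∈ Q` satisfy `t s t = r⁻¹ t r`, then `C_D(t) = C_D(s)`; moreover `C_D(t) ⊓ C_D(K) = C_D(I ∩ G_a)`, where `K` is the set of elements of `D` inverted by `t` and `I ∩ G_a` the set of involutions of `G_a`. -/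
theorem result {G Ω : Type*} [Group G] [Finite G] [MulAction G Ω] {a : Ω} {t : G} {Q : Subgroup G}
    (hS : Cfsg.IsRankOneSetup G Ω a t Q) :
    (∀ s r : G, s ∈ Cfsg.involutionsIn (MulAction.stabilizer G a : Set G) → r ∈ Q → t * s * t = r⁻¹ * t * r →
        (MulAction.stabilizer G a ⊓ MulAction.stabilizer G (t • a)) ⊓ Subgroup.centralizer {t} = (MulAction.stabilizer G a ⊓ MulAction.stabilizer G (t • a)) ⊓ Subgroup.centralizer {s}) ∧
      (MulAction.stabilizer G a ⊓ MulAction.stabilizer G (t • a)) ⊓ Subgroup.centralizer {t} ⊓ Subgroup.centralizer (Cfsg.invertedBy (MulAction.stabilizer G a ⊓ MulAction.stabilizer G (t • a)) t) =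
        (MulAction.stabilizer G a ⊓ MulAction.stabilizer G (t • a)) ⊓ Subgroup.centralizer (Cfsg.involutionsIn (MulAction.stabilizer G a : Set G)) := by
  refine ⟨fun s r hs hr h => centralizer_t_eq hS hs hr h, ?_⟩
  obtain ⟨s, r, hs, hr, h⟩ := structure_exists hS
  have hC := centralizer_t_eq hS hs hr h
  ext d
  simp only [Subgroup.mem_inf]
  constructor
  · rintro ⟨⟨hd, hdt⟩, hdK⟩
    refine ⟨hd, Subgroup.mem_centralizer_iff.2 fun s' hs' => ?_⟩
    obtain ⟨k, hk, rfl⟩ := inverted_transitive hS hs hs'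
    have hds : d ∈ twoStab G a t ⊓ Subgroup.centralizer {s} :=
      hC ▸ Subgroup.mem_inf.2 ⟨hd, hdt⟩
    have h1 : Commute d s := Subgroup.mem_centralizer_singleton_iff.1 (Subgroup.mem_inf.1 hds).2
    have h2 : Commute d k := (Subgroup.mem_centralizer_iff.1 hdK k hk).symm
    exact ((h2.inv_right.mul_right h1).mul_right h2).symm.eq
  · rintro ⟨hd, hdI⟩
    have key : ∀ k ∈ Cfsg.invertedBy (twoStab G a t) t, (k * d * k⁻¹) * t = t * (k * d * k⁻¹) := by
      intro k hk
      have hsk : k⁻¹ * s * k ∈ Cfsg.involutionsIn (stabilizer G a : Set G) :=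
        ⟨mul_mem (mul_mem (inv_mem hk.1.1) hs.1) hk.1.1,
          by simpa using (IsInv.conj (⟨hs.2.1, hs.2.2⟩ : IsInv s) k⁻¹).1,
          by simpa using (IsInv.conj (⟨hs.2.1, hs.2.2⟩ : IsInv s) k⁻¹).2⟩
      have h1 := Subgroup.mem_centralizer_iff.1 hdI _ hsk
      have hm : k * d * k⁻¹ ∈ twoStab G a t ⊓ Subgroup.centralizer {s} := by
        refine Subgroup.mem_inf.2 ⟨mul_mem (mul_mem hk.1 hd) (inv_mem hk.1),
          Subgroup.mem_centralizer_singleton_iff.2 ?_⟩
        calc k * d * k⁻¹ * s = k * (d * (k⁻¹ * s * k)) * k⁻¹ := by group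
          _ = _ := by rw [← h1]; group
      rw [← hC] at hm
      exact Subgroup.mem_centralizer_singleton_iff.1 (Subgroup.mem_inf.1 hm).2
    have hdt : d * t = t * d := by
      have := key 1 ⟨one_mem _, by group⟩
      simpa using this
    refine ⟨⟨hd, Subgroup.mem_centralizer_singleton_iff.2 hdt⟩,
      Subgroup.mem_centralizer_iff.2 fun k hk => ?_⟩
    have hk2 := key k hk
    have e : k⁻¹ * d * k = k * d * k⁻¹ := by
      have e2 : t * (k * d * k⁻¹) * t⁻¹ = k * d * k⁻¹ := by rw [← hk2]; group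
      have e3 : t * d * t⁻¹ = d := by rw [← hdt]; group
      calc k⁻¹ * d * k = (t * k * t⁻¹) * (t * d * t⁻¹) * (t * k * t⁻¹)⁻¹ := by
            rw [hk.2, e3, inv_inv]
        _ = t * (k * d * k⁻¹) * t⁻¹ := by group
        _ = _ := e2
    have h4 : Commute d (k * k) := by
      show d * (k * k) = k * k * d
      calc d * (k * k) = k * (k⁻¹ * d * k) * k := by group
        _ = _ := by rw [e]; group
    have ho := odd_orderOf_of_mem hS.odd_card hk.1
    have h5 := sqrt_commute h4
    have e5 : sqrt (k * k) = k := by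
      refine eq_of_mul_self_eq (odd_orderOf_of_mem hS.odd_card (sqrt_mem (mul_mem hk.1 hk.1))) ho ?_
      exact sqrt_mul_self (odd_orderOf_of_mem hS.odd_card (mul_mem hk.1 hk.1))
    rw [e5] at h5
    exact h5.symm.eq

end Cfsg.Agent.S1127
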