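import Cfsg.Statements.S5737
import Cfsg.Agent.LocalEven64.SzBinary.Main
import Cfsg.Agent.Lib.RankOne.SzBridge

set_option autoImplicit false
open Cfsg

namespace Cfsg.Agent.S5737

/-- Let G = Sz(q) be a Suzuki group, q = 2^(2a+1) with a ≥ 1 (realised inside Sp₄ over the field with q elements), and let H be a proper subgroup of G. Then the action of G on the cosets of H is binary if and only if H is trivial or H is the centre of a Sylow 2-subgroup of G. Here an action is binary (relational complexity 2) when, for every n ≥ 2 and all n-tuples I, J of points, if for every pair of positions some group element carries the corresponding pair of entries of I to those of J, then a single group element carries I to J. -/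
theorem result {F : Type*} [Field F] [Fintype F] (a : ℕ) (ha : 1 ≤ a) (hF : Fintype.card F = 2 ^ (2 * a + 1))
    (H : Subgroup (Cfsg.Lie.Sz F (2 ^ (a + 1)))) (hH : H ≠ ⊤) :
    (∀ (n : ℕ) (I J : Fin n → (Cfsg.Lie.Sz F (2 ^ (a + 1))) ⧸ H), 2 ≤ n →
        (∀ i j : Fin n, i ≠ j → ∃ g : (Cfsg.Lie.Sz F (2 ^ (a + 1))), g • I i = J i ∧ g • I j = J j) → ∃ g : (Cfsg.Lie.Sz F (2 ^ (a + 1))), ∀ i, g • I i = J i) ↔
      (H = ⊥ ∨ ∃ P : Sylow 2 (Cfsg.Lie.Sz F (2 ^ (a + 1))), H = (Subgroup.center (P : Subgroup (Cfsg.Lie.Sz F (2 ^ (a + 1))))).map (P : Subgroup (Cfsg.Lie.Sz F (2 ^ (a + 1)))).subtype) := by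
  haveI : Fact (Nat.Prime 2) := ⟨Nat.prime_two⟩
  set e := Cfsg.Agent.RankOne.SzBridge.szEquiv hF ha
  obtain ⟨K, rfl⟩ : ∃ K : Subgroup (Cfsg.Sz F a), K.map e.toMonoidHom = H :=
    ⟨H.comap e.toMonoidHom, Subgroup.map_comap_eq_self_of_surjective e.surjective H⟩
  have hK : K ≠ ⊤ := fun h => hH (by rw [h]; exact Subgroup.map_top_of_surjective _ e.surjective)
  refine (LocalEven64.SzBinary.isBinary_map_iff (H := K) e).trans
    ((LocalEven64.SzBinary.binary_iff hF ha hK).trans (or_congr ?_ ?_))
  · exact (Subgroup.map_eq_bot_iff_of_injective K e.injective).symm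
  · have hcov : ∀ {A B : Type _} [Group A] [Group B] (f : A ≃* B) (P : Subgroup A),
        ((Subgroup.center P).map P.subtype).map f.toMonoidHom
          = (Subgroup.center (P.map f.toMonoidHom)).map (P.map f.toMonoidHom).subtype := by
      intro A B _ _ f P
      rw [LocalEven64.SzBinary.center_map_eq, LocalEven64.SzBinary.center_map_eq]
      ext x
      rw [Subgroup.mem_map_equiv, Subgroup.mem_inf, Subgroup.mem_inf, Subgroup.mem_map_equiv,
        Subgroup.mem_centralizer_iff, Subgroup.mem_centralizer_iff]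
      refine and_congr_right fun _ => ⟨fun h y hy => f.symm.injective ?_, fun h y hy => f.injective ?_⟩
      · rw [map_mul, map_mul]
        exact h _ (Subgroup.mem_map_equiv.1 hy)
      · have := h (f y) ⟨y, hy, rfl⟩
        rwa [map_mul, map_mul, f.apply_symm_apply]
    constructor
    · rintro ⟨P, rfl⟩
      exact ⟨P.mapSurjective (f := e.toMonoidHom) e.surjective, hcov e _⟩
    · rintro ⟨P, hP⟩
      refine ⟨P.mapSurjective (f := e.symm.toMonoidHom) e.symm.surjective, ?_⟩
      refine Eq.trans ?_ (hcov e.symm (P : Subgroup _))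
      rw [← hP, Subgroup.map_map,
        show e.symm.toMonoidHom.comp e.toMonoidHom = MonoidHom.id _ by ext; simp, Subgroup.map_id]

end Cfsg.Agent.S5737
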