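import Cfsg.Statements.S0923
import Cfsg.Agent.Lib.BlocksCore.SecondBlock

set_option autoImplicit false
open Cfsg

namespace Cfsg.Agent.S0923

/-- Brauer's Second Main Theorem, in terms of ordinary characters. Let x be a p-element of the finite group G with centralizer C, let χ lie in the block B of G and let b be a block of C that does not induce B (relative to a maximal ideal M of the algebraic integers containing p). Form the class function ϑ(c) = χ(x c) on C and its b-part (the sum over ψ ∈ b of the inner product of ϑ with ψ, times ψ). Then the b-part of ϑ vanishes at every p-regular element of C. (Equivalently, the generalized decomposition numbers of χ with respect to b are zero.) -/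
theorem result {G : Type*} [Group G] [Finite G] (p : ℕ) [Fact p.Prime] (M : Ideal Cfsg.AlgInt) (hM : Cfsg.IsPModular p M) (x : G) (hx : ∃ k : ℕ, orderOf x = p ^ k) (B : Set (Cfsg.IrrCharacter G)) (hB : Cfsg.IsPBlock M B) (χ : Cfsg.IrrCharacter G) (hχ : χ ∈ B) (b : Set (Cfsg.IrrCharacter (Subgroup.centralizer ({x} : Set G)))) (hb : Cfsg.IsPBlock M b) (hnot : ¬ Cfsg.IsInducedBlock M (Subgroup.centralizer ({x} : Set G)) b B) (y : Subgroup.centralizer ({x} : Set G)) (hy : ¬ p ∣ orderOf y) : Cfsg.blockPart b (fun c : Subgroup.centralizer ({x} : Set G) => (χ : G → ℂ) (x * (c : G))) y = 0 := by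
  classical
  haveI := Fintype.ofFinite G
  have := BlocksCore.isPrime hM
  haveI := Fintype.ofFinite (Subgroup.centralizer ({x} : Set G))
  obtain ⟨k, hk⟩ := hx
  have hP := BlocksCore.isPGroup_zpowers (p := p) hk
  have hPH : Subgroup.zpowers x ≤ (Subgroup.centralizer ({x} : Set G)) :=
    Subgroup.zpowers_le.mpr (Subgroup.mem_centralizer_singleton_iff.mpr rfl)
  have hxH : x ∈ (Subgroup.centralizer ({x} : Set G)) := hPH (Subgroup.mem_zpowers x)
  have hHN : (Subgroup.centralizer ({x} : Set G)) ≤ Subgroup.normalizer ((Subgroup.zpowers x : Subgroup G) : Set G) := by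
    intro h hh
    rw [Subgroup.mem_normalizer_iff]
    intro u
    have hc : ∀ v ∈ Subgroup.zpowers x, h * v * h⁻¹ = v := by
      intro v hv
      rw [← BlocksCore.centralizer_zpowers] at hh
      rw [mul_inv_eq_iff_eq_mul]
      exact (Subgroup.mem_centralizer_iff.mp hh v hv).symm
    refine ⟨fun hu => by rw [hc u hu]; exact hu, fun hu => ?_⟩
    have h2 := hc _ hu
    rw [mul_left_inj, mul_right_inj] at h2
    rwa [h2] at hu
  obtain ⟨B₀, hB₀⟩ := BlocksCore.inducedBlockDefined hM hP hPH
    (by rw [BlocksCore.centralizer_zpowers]) hHN hb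
  have hne : B₀ ≠ B := fun e => hnot (e ▸ hB₀)
  have hf : Cfsg.IsClassFunction (Subgroup.centralizer ({x} : Set G)) (fun c : (Subgroup.centralizer ({x} : Set G)) => (χ : G → ℂ) (x * (c : G))) := by
    intro c d
    show (χ : G → ℂ) _ = (χ : G → ℂ) _
    have hd : (d : G) * x = x * d := Subgroup.mem_centralizer_singleton_iff.mp d.2
    have h1 := BlocksCore.irr_class χ (x * (c : G)) (d : G)
    rw [← h1]
    push_cast
    refine congrArg (χ : G → ℂ) ?_
    calc x * ((d : G) * c * (d : G)⁻¹) = (x * d) * c * (d : G)⁻¹ := by group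
      _ = _ := by rw [← hd, mul_assoc (d : G) x]
  rw [BlocksCore.blockPart_eq_sum_blockCoeff b hf]
  have hxy : Commute x (y : G) := (Subgroup.mem_centralizer_singleton_iff.mp y.2).symm
  have hz : Cfsg.IsPPart p (((⟨x, hxH⟩ : (Subgroup.centralizer ({x} : Set G))) * y : (Subgroup.centralizer ({x} : Set G))) : G) x :=
    ⟨(y : G), rfl, hxy, ⟨k, hk⟩, by rwa [Subgroup.orderOf_coe]⟩
  have key := BlocksCore.sum_blockCoeff_mul_eq_zero hM hb hB ((⟨x, hxH⟩ : (Subgroup.centralizer ({x} : Set G))) * y) hz le_rfl
    (fun η hη => ?_) hχ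
  · rw [← key]
    refine Finset.sum_congr rfl fun c _ => ?_
    congr 2
    have hc : (c : G) * x = x * c := Subgroup.mem_centralizer_singleton_iff.mp c.2
    push_cast
    rw [← mul_assoc, ← mul_assoc, hc]
  · obtain ⟨ζ, hζ⟩ := BlocksCore.isPBlock_nonempty hB₀.2.1
    have h1 := BlocksDefect.omega_induced hM hB₀ hη hζ (BlocksCore.isIntClassFun_blockCoeff hM hB)
    rw [BlocksCore.omega_blockCoeff, Set.indicator_of_notMem, sub_zero] at h1
    · exact h1
    · exact fun hc => hne (BlocksCore.isPBlock_eq_of_mem hB₀.2.1 hB hζ hc)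

end Cfsg.Agent.S0923
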