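import Cfsg.Statements.S4444
import Cfsg.Agent.Lib.CharCore.ConjAut

set_option autoImplicit false
open Cfsg

namespace Cfsg.Agent.S4444

/-- The Glauberman correspondence for a p-group of operators. Inside a finite group Γ let S normalise G with the orders of G and S coprime, S a p-group, and let C = G ⊓ C(S) be the fixed points. Call an irreducible character χ of G S-invariant when χ(s g s⁻¹) = χ(g) for s ∈ S, g ∈ G. Then: (i) for every S-invariant χ there is exactly one irreducible character β of C whose multiplicity [χ_C, β] in the restriction of χ is not divisible by p; (ii) that multiplicity is ≡ 1 or ≡ −1 (mod p); (iii) distinct S-invariant χ give distinct β; (iv) every irreducible character of C arises in this way. So χ ↦ β is a bijection from the S-invariant irreducible characters of G onto the irreducible characters of C. -/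
theorem result {Γ : Type*} [Group Γ] [Fintype Γ] (G S : Subgroup Γ) [Fintype G] (hnorm : ∀ s ∈ S, ∀ g ∈ G, s * g * s⁻¹ ∈ G) (hcop : (Nat.card G).Coprime (Nat.card S)) (p : ℕ) (hp : p.Prime) (hS : IsPGroup p S) (C : Subgroup Γ) [Fintype C] (hC : C = G ⊓ Subgroup.centralizer (S : Set Γ)) (hCG : C ≤ G) : (∀ χ : Cfsg.IrrCharacter G, (∀ s ∈ S, ∀ g g' : G, (g' : Γ) = s * g * s⁻¹ → (χ : G → ℂ) g' = (χ : G → ℂ) g) → ∃! β : Cfsg.IrrCharacter C, ∃ m : ℕ, Cfsg.classInner (fun c : C => (χ : G → ℂ) ⟨c, hCG c.2⟩) (β : C → ℂ) = (m : ℂ) ∧ ¬ p ∣ m) ∧ (∀ χ : Cfsg.IrrCharacter G, (∀ s ∈ S, ∀ g g' : G, (g' : Γ) = s * g * s⁻¹ → (χ : G → ℂ) g' = (χ : G → ℂ) g) → ∀ β : Cfsg.IrrCharacter C, ∀ m : ℕ, Cfsg.classInner (fun c : C => (χ : G → ℂ) ⟨c, hCG c.2⟩) (β : C → ℂ) = (m : ℂ) → ¬ p ∣ m → ((m : ℤ) ≡ 1 [ZMOD p] ∨ (m : ℤ) ≡ -1 [ZMOD p])) ∧ (∀ χ χ' : Cfsg.IrrCharacter G, (∀ s ∈ S, ∀ g g' : G, (g' : Γ) = s * g * s⁻¹ → (χ : G → ℂ) g' =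 (χ : G → ℂ) g) → (∀ s ∈ S, ∀ g g' : G, (g' : Γ) = s * g * s⁻¹ → (χ' : G → ℂ) g' = (χ' : G → ℂ) g) → ∀ β : Cfsg.IrrCharacter C, ∀ m m' : ℕ, Cfsg.classInner (fun c : C => (χ : G → ℂ) ⟨c, hCG c.2⟩) (β : C → ℂ) = (m : ℂ) → ¬ p ∣ m → Cfsg.classInner (fun c : C => (χ' : G → ℂ) ⟨c, hCG c.2⟩) (β : C → ℂ) = (m' : ℂ) → ¬ p ∣ m' → χ = χ') ∧ (∀ β : Cfsg.IrrCharacter C, ∃ χ : Cfsg.IrrCharacter G, (∀ s ∈ S, ∀ g g' : G, (g' : Γ) = s * g * s⁻¹ → (χ : G → ℂ) g' = (χ : G → ℂ) g) ∧ ∃ m : ℕ, Cfsg.classInner (fun c : C => (χ : G → ℂ) ⟨c, hCG c.2⟩) (β : C → ℂ) = (m : ℂ) ∧ ¬ p ∣ m) := by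
  classical
  have := Fact.mk hp
  set φ := CharCore.conjAut G S hnorm
  set ι := Subgroup.inclusion hCG
  have hι : Function.Injective ι := Subgroup.inclusion_injective hCG
  have hfix := CharCore.mem_range_inclusion_iff hnorm hC hCG
  have hinv := CharCore.isInvFun_conjAut hnorm
  by_cases hpG : p ∣ Nat.card G
  · have hS1 : ∀ s ∈ S, s = 1 := by
      obtain ⟨n, hn⟩ := IsPGroup.iff_card.mp hS
      rcases Nat.eq_zero_or_pos n with rfl | h0
      · rw [pow_zero] at hn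
        exact (Subgroup.eq_bot_iff_forall S).mp (Subgroup.card_eq_one.mp hn)
      · exact absurd (Nat.dvd_gcd hpG (hn ▸ dvd_pow_self p h0.ne')) (by rw [hcop.gcd_eq_one]; exact hp.not_dvd_one)
    have hsurj : Function.Surjective ι := fun g => (hfix g).mpr fun s => Subtype.ext (by
      simp [CharCore.coe_conjAut, hS1 s s.2])
    have hall : ∀ χ : Cfsg.IrrCharacter G, ∀ s ∈ S, ∀ g g' : G, (g' : Γ) = s * g * s⁻¹ →
        (χ : G → ℂ) g' = (χ : G → ℂ) g := fun χ s hs g g' he => by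
      rw [show g' = g from Subtype.ext (by simp [he, hS1 s hs])]
    let e : C ≃* G := MulEquiv.ofBijective ι ⟨hι, hsurj⟩
    let R : Cfsg.IrrCharacter G → Cfsg.IrrCharacter C := fun χ =>
      ⟨fun c => (χ : G → ℂ) (ι c), CharCore.isIrrCharacter_comp_surjective χ.2 ι hsurj⟩
    have hR : ∀ (χ : Cfsg.IrrCharacter G) (β : Cfsg.IrrCharacter C) (m : ℕ),
        Cfsg.classInner (fun c : C => (χ : G → ℂ) ⟨c, hCG c.2⟩) (β : C → ℂ) = (m : ℂ) →
        ¬ p ∣ m → β = R χ ∧ m = 1 := by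
      intro χ β m hm hpm
      have h := CharCore.classInner_irr (R χ) β
      rw [show Cfsg.classInner (R χ : C → ℂ) β = (m : ℂ) from hm] at h
      split_ifs at h with he
      · exact ⟨he.symm, by exact_mod_cast h⟩
      · exact absurd (dvd_zero p) (by rwa [show m = 0 by exact_mod_cast h] at hpm)
    refine ⟨fun χ _ => ⟨R χ, ⟨1, ?_, hp.not_dvd_one⟩, fun β ⟨m, hm, hpm⟩ => (hR χ β m hm hpm).1⟩,
      fun χ _ β m hm hpm => Or.inl (by rw [(hR χ β m hm hpm).2]; exact Int.ModEq.refl _), ?_, ?_⟩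
    · rw [Nat.cast_one]; exact CharCore.classInner_irr_self (R χ)
    · intro χ χ' _ _ β m m' hm hpm hm' hpm'
      refine Subtype.ext (funext fun g => ?_)
      obtain ⟨c, rfl⟩ := hsurj g
      exact congrFun (congrArg Subtype.val ((hR χ β m hm hpm).1.symm.trans (hR χ' β m' hm' hpm').1)) c
    · intro β
      refine ⟨⟨fun g => (β : C → ℂ) (e.symm g),
        CharCore.isIrrCharacter_comp_surjective β.2 e.symm.toMonoidHom e.symm.surjective⟩,
        hall _, 1, ?_, hp.not_dvd_one⟩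
      rw [Nat.cast_one]
      convert CharCore.classInner_irr_self β using 2
      funext c
      show (β : C → ℂ) (e.symm (e c)) = _
      rw [e.symm_apply_apply]
  · refine ⟨fun χ hχ => ?_, fun χ hχ β m hm hpm => ?_, ?_, fun β => ?_⟩
    · have h1 := (hinv _).mpr hχ
      obtain ⟨β, hβ⟩ := CharCore.exists_glauber hι hfix hS hpG h1
      exact ⟨β, hβ, fun γ hγ => CharCore.glauber_unique hι hfix hS hpG h1 hγ hβ⟩
    · exact CharCore.glauber_mult hι hfix hS hpG ((hinv _).mpr hχ) hm hpm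
    · exact fun χ χ' hχ hχ' β m m' hm hpm hm' hpm' => CharCore.glauber_injective hι hfix hS hpG
        ((hinv _).mpr hχ) ((hinv _).mpr hχ') (β := β) ⟨m, hm, hpm⟩ ⟨m', hm', hpm'⟩
    · obtain ⟨χ, h1, h2⟩ := CharCore.glauber_surjective hι hfix hS hpG β
      exact ⟨χ, (hinv _).mp h1, h2⟩

end Cfsg.Agent.S4444
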