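import Cfsg.Statements.S0910
import Cfsg.Agent.Lib.CharCore.Burnside
import Cfsg.Agent.Lib.BlocksCore.DefectZero

set_option autoImplicit false
open Cfsg

namespace Cfsg.Agent.S0910

/-- Let G be a non-abelian finite simple group and p a prime. If an irreducible character χ lies in the principal block (relative to a maximal ideal of the algebraic integers containing p) and χ 1 is a power of p, then χ is the principal character. -/
theorem result {G : Type*} [Group G] [Finite G] (p : ℕ) [Fact p.Prime] (M : Ideal Cfsg.AlgInt) (hM : Cfsg.IsPModular p M) [IsSimpleGroup G] (hna : ∃ a b : G, a * b ≠ b * a) (χ : Cfsg.IrrCharacter G) (hχ : χ ∈ Cfsg.principalBlock M G) (k : ℕ) (hdeg : (χ : G → ℂ) 1 = (p : ℂ) ^ k) : (χ : G → ℂ) = fun _ => 1 := by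
  classical
  haveI := Fintype.ofFinite G
  have := BlocksCore.isPrime hM
  have hp : p.Prime := Fact.out
  rcases Nat.eq_zero_or_pos k with rfl | hk
  · obtain ⟨f, hf⟩ := CharCore.IsCharacter.exists_hom_of_degree_one
      (CharCore.irr_isCharacter χ) (by simpa using hdeg)
    rcases Subgroup.Normal.eq_bot_or_eq_top (inferInstance : f.ker.Normal) with h | h
    · obtain ⟨a, b, hab⟩ := hna
      exact absurd ((MonoidHom.ker_eq_bot_iff f).mp h
        (by rw [map_mul, map_mul, mul_comm])) hab
    · rw [hf]
      funext g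
      have : f g = 1 := MonoidHom.mem_ker.mp (h ▸ Subgroup.mem_top g)
      simp [this]
  exfalso
  have hd : charDegree (χ : G → ℂ) = p ^ k := by
    have := BlocksCore.irr_one_eq χ
    rw [hdeg] at this
    exact_mod_cast this.symm
  have hpG : p ∣ Nat.card G :=
    (dvd_pow_self p hk.ne').trans (hd ▸ BlocksCore.charDegree_dvd_card χ)
  let S : Sylow p G := default
  haveI : Nontrivial S := Finite.one_lt_card_iff_nontrivial.mp (Nat.lt_of_lt_of_le hp.one_lt
    (Nat.le_of_dvd Nat.card_pos (S.dvd_card_of_dvd_card hpG)))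
  haveI := S.isPGroup'.center_nontrivial
  obtain ⟨⟨⟨g, hgS⟩, hgc⟩, hg1'⟩ := exists_ne (1 : Subgroup.center S)
  have hg1 : g ≠ 1 := fun h => hg1' (Subtype.ext (Subtype.ext h))
  have hle : (S : Subgroup G) ≤ Subgroup.centralizer ({g} : Set G) := fun x hx => by
    rw [Subgroup.mem_centralizer_singleton_iff]
    exact congrArg Subtype.val (Subgroup.mem_center_iff.mp hgc ⟨x, hx⟩)
  have hidx : ¬ p ∣ (Subgroup.centralizer ({g} : Set G)).index := fun h =>
    S.not_dvd_index (h.trans (Subgroup.index_dvd_of_le hle))
  obtain ⟨f, n, ρ, hρ, rfl⟩ := χ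
  have hn : n = p ^ k := by
    have : ρ.character 1 = (p : ℂ) ^ k := hdeg
    rw [Representation.char_one, Module.finrank_fin_fun] at this
    exact_mod_cast this
  have hcop : Nat.Coprime (Module.finrank ℂ (Fin n → ℂ))
      (Subgroup.centralizer ({g} : Set G)).index := by
    rw [Module.finrank_fin_fun, hn]
    exact Nat.Coprime.pow_left _ ((hp.coprime_iff_not_dvd).mpr hidx)
  rcases CharCore.eq_zero_or_norm_eq_of_coprime ρ g hcop with h0 | hnorm
  · refine hidx ((BlocksCore.memLocalIdeal_natCast_iff hM _).mp ?_)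
    have h1 : MemLocalIdeal M (centralChar (fun _ : G => (1 : ℂ)) g -
        centralChar ρ.character g) := hχ g
    simpa [centralChar, h0] using h1
  · obtain ⟨c, hc⟩ := (CharCore.norm_character_eq_iff ρ g).mp (by simpa using hnorm)
    rcases Subgroup.Normal.eq_bot_or_eq_top (inferInstance : (MonoidHom.ker ρ).Normal) with hk' | hk'
    · have hinj : Function.Injective ρ := (MonoidHom.ker_eq_bot_iff ρ).mp hk'
      have hgZ : g ∈ Subgroup.center G := Subgroup.mem_center_iff.mpr fun x => hinj (by
        rw [map_mul, map_mul, hc]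
        ext v
        simp)
      obtain ⟨a, b, hab⟩ := hna
      have hpr := CharCore.prime_card_of_mem_center hg1 hgZ
      haveI : Fact (Nat.card G).Prime := ⟨hpr⟩
      haveI : IsCyclic G := isCyclic_of_prime_card rfl
      exact hab (IsCyclic.commGroup.mul_comm a b)
    · have hall : ∀ x, ρ.character x = (n : ℂ) := fun x => by
        have := (CharCore.character_eq_finrank_iff ρ x).mpr
          (MonoidHom.mem_ker.mp (hk' ▸ Subgroup.mem_top x : x ∈ MonoidHom.ker ρ))
        simpa using this
      have h1 := CharCore.classInner_irr_self (⟨ρ.character, n, ρ, hρ, rfl⟩ : IrrCharacter G)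
      simp only [Cfsg.classInner, hall, Complex.conj_natCast, Finset.sum_const, Finset.card_univ,
        nsmul_eq_mul, ← Nat.card_eq_fintype_card] at h1
      rw [inv_mul_cancel_left₀ (Nat.cast_ne_zero.mpr Nat.card_pos.ne')] at h1
      have hn1 : n = 1 := by
        have : n * n = 1 := by exact_mod_cast h1
        exact Nat.eq_one_of_mul_eq_one_left this
      rw [hn] at hn1
      exact (Nat.one_lt_pow hk.ne' hp.one_lt).ne' hn1

end Cfsg.Agent.S0910
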