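import Cfsg.Statements.S0904
import Cfsg.Agent.S0910
import Cfsg.Agent.Blocks88.Modular
import Cfsg.Agent.Lib.BlocksCore.DefectZero
import Cfsg.Agent.Lib.BlocksDefect.Kernel

set_option autoImplicit false
open Cfsg

namespace Cfsg.Agent.S0904

/-- Let G be a finite simple group of order p ^ a * q ^ b * r with p, q, r distinct primes. Then every Sylow r-subgroup S of G satisfies C_G(S) = S. -/
theorem result {G : Type*} [Group G] [Finite G] [IsSimpleGroup G] (p q r a b : ℕ) (hp : p.Prime) (hq : q.Prime) [Fact r.Prime] (hpq : p ≠ q) (hpr : p ≠ r) (hqr : q ≠ r) (hcard : Nat.card G = p ^ a * q ^ b * r) (S : Sylow r G) : Subgroup.centralizer (S : Set G) = (S : Subgroup G) := by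
  classical
  haveI := Fintype.ofFinite G
  haveI := BlocksCore.finite_irr (G := G)
  haveI := Fintype.ofFinite (IrrCharacter G)
  have hr : r.Prime := Fact.out
  have hr2 : (Nat.card G).factorization r = 1 := by
    rw [hcard, Nat.factorization_mul (Nat.mul_ne_zero (pow_ne_zero a hp.ne_zero)
      (pow_ne_zero b hq.ne_zero)) hr.ne_zero,
      Nat.factorization_mul (pow_ne_zero a hp.ne_zero) (pow_ne_zero b hq.ne_zero),
      hp.factorization_pow, hq.factorization_pow, hr.factorization]
    simp [hpr, hqr]
  have hS : Nat.card (S : Subgroup G) = r := by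
    rw [S.card_eq_multiplicity, hr2, pow_one]
  -- no element of order `p * r` in the centralizer of `S`
  have key : ∀ (p q a b : ℕ), p.Prime → q.Prime → p ≠ q → p ≠ r →
      Nat.card G = p ^ a * q ^ b * r →
      ¬ p ∣ Nat.card (Subgroup.centralizer (S : Set G)) := by
    intro p q a b hp hq hpq hpr hcard hdvd
    haveI : Fact p.Prime := ⟨hp⟩
    obtain ⟨x, hx⟩ := exists_prime_orderOf_dvd_card' (G := Subgroup.centralizer (S : Set G)) p hdvd
    obtain ⟨s, hs⟩ := exists_prime_orderOf_dvd_card' (G := (S : Subgroup G)) r (dvd_of_eq hS.symm)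
    rw [← Subgroup.orderOf_coe] at hx hs
    have hcomm : Commute (x : G) (s : G) :=
      (Subgroup.mem_centralizer_iff.mp x.2 (s : G) s.2).symm
    have hg : orderOf ((x : G) * s) = p * r := by
      rw [hcomm.orderOf_mul_eq_mul_orderOf_of_coprime, hx, hs]
      rw [hx, hs]
      exact (Nat.coprime_primes hp hr).mpr hpr
    have hna : ∃ a b : G, a * b ≠ b * a := by
      by_contra hno
      push Not at hno
      letI : CommGroup G := { ‹Group G› with mul_comm := hno }
      have hpr' := IsSimpleGroup.prime_card (α := G)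
      have h1 : p * r ∣ Nat.card G := hg ▸ orderOf_dvd_natCard _
      rcases hpr'.eq_one_or_self_of_dvd p (dvd_of_mul_right_dvd h1) with h | h
      · exact hp.one_lt.ne' h
      rcases hpr'.eq_one_or_self_of_dvd r (dvd_of_mul_left_dvd h1) with h' | h'
      · exact hr.one_lt.ne' h'
      exact hpr (h.trans h'.symm)
    obtain ⟨Mp, hMp⟩ := Blocks88.exists_isPModular hp
    obtain ⟨Mr, hMr⟩ := Blocks88.exists_isPModular hr
    haveI := BlocksCore.isPrime hMp
    set g : G := (x : G) * s with hgdef
    let χ₀ : IrrCharacter G := ⟨fun _ => 1, CharCore.isIrrCharacter_one⟩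
    have hB : IsPBlock Mp (principalBlock Mp G) := ⟨χ₀, rfl⟩
    have h0 : χ₀ ∈ principalBlock Mp G := BlocksCore.mem_blockOf_self χ₀
    have hsum := BlocksDefect.sum_degree_mul_eq_blockCoeff (principalBlock Mp G) g
    rw [BlocksCore.blockCoeff_eq_zero_of_dvd_orderOf hMp hB
      (by rw [orderOf_inv, hg]; exact dvd_mul_right p r), mul_zero,
      ← Finset.add_sum_erase _ _ (Finset.mem_univ χ₀), Set.indicator_of_mem h0] at hsum
    have hterm : ∀ χ : IrrCharacter G, χ ≠ χ₀ → χ ∈ principalBlock Mp G → (χ : G → ℂ) g ≠ 0 →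
        q ∣ charDegree (χ : G → ℂ) := by
      intro χ hne hχ hg0
      have h1 : r ∣ Nat.card G / charDegree (χ : G → ℂ) := by
        by_contra hn
        exact hg0 (BlocksCore.eq_zero_of_blockOf_eq_singleton hMr χ
          (BlocksCore.blockOf_eq_singleton_of_not_dvd hMr χ hn) (hg ▸ dvd_mul_left r p))
      have hdd := BlocksCore.charDegree_dvd_card χ
      have hrd : ¬ r ∣ charDegree (χ : G → ℂ) := fun hd => by
        have h2 : r ^ 2 ∣ Nat.card G := by
          rw [sq, ← Nat.div_mul_cancel hdd]
          exact mul_dvd_mul h1 hd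
        have := (hr.pow_dvd_iff_le_factorization Nat.card_pos.ne').mp h2
        omega
      by_contra hqd
      have h3 : charDegree (χ : G → ℂ) ∣ p ^ a := by
        have h4 : charDegree (χ : G → ℂ) ∣ p ^ a * q ^ b := by
          rw [hcard] at hdd
          exact ((hr.coprime_iff_not_dvd).mpr hrd).symm.dvd_of_dvd_mul_right hdd
        exact (Nat.Coprime.pow_right b ((hq.coprime_iff_not_dvd).mpr hqd).symm).dvd_of_dvd_mul_right h4
      obtain ⟨k, -, hk⟩ := (Nat.dvd_prime_pow hp).mp h3
      refine hne (Subtype.ext (Cfsg.Agent.S0910.result p Mp hMp hna χ hχ k ?_))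
      rw [BlocksCore.irr_one_eq, hk]
      push_cast
      rfl
    have hint : IsIntegral ℤ ((1 : ℂ) / q) := by
      have h1 : (1 : ℂ) / q = - ∑ χ ∈ Finset.univ.erase χ₀,
          (principalBlock Mp G).indicator 1 χ * ((χ : G → ℂ) 1 * (χ : G → ℂ) g) / q := by
        rw [← Finset.sum_div, ← neg_div]
        congr 1
        simp only [Pi.one_apply, χ₀, mul_one] at hsum
        linear_combination hsum
      rw [h1]
      refine (IsIntegral.sum _ fun χ hχ => ?_).neg
      by_cases hmem : χ ∈ principalBlock Mp G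
      · by_cases hg0 : (χ : G → ℂ) g = 0
        · simp [hg0, isIntegral_zero]
        obtain ⟨e, he⟩ := hterm χ (Finset.mem_erase.mp hχ).1 hmem hg0
        rw [Set.indicator_of_mem hmem, Pi.one_apply, one_mul, BlocksCore.irr_one_eq, he]
        have : ((q * e : ℕ) : ℂ) * (χ : G → ℂ) g / q = ((e : ℤ) : ℂ) * (χ : G → ℂ) g := by
          push_cast
          field_simp [Nat.cast_ne_zero.mpr hq.ne_zero]
        rw [this]
        exact isIntegral_algebraMap.mul (BlocksCore.isIntegral_irr χ g)
      · simp [Set.indicator_of_notMem hmem, isIntegral_zero]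
    exact hq.not_dvd_one (CharClifford.dvd_of_mul_isIntegral (a := q) (b := 1) hint
      (by push_cast; field_simp [Nat.cast_ne_zero.mpr hq.ne_zero]))
  have hnp := key p q a b hp hq hpq hpr hcard
  have hnq := key q p b a hq hp hpq.symm hqr (by rw [hcard]; ring)
  have hle : (S : Subgroup G) ≤ Subgroup.centralizer (S : Set G) := by
    haveI : IsCyclic (S : Subgroup G) := isCyclic_of_prime_card hS
    intro u hu
    rw [Subgroup.mem_centralizer_iff]
    intro v hv
    exact congrArg Subtype.val (IsCyclic.commGroup.mul_comm (⟨v, hv⟩ : (S : Subgroup G)) ⟨u, hu⟩)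
  refine (Subgroup.eq_of_le_of_card_ge hle ?_).symm
  rw [hS]
  refine Nat.le_of_dvd hr.pos ?_
  have h := Subgroup.card_subgroup_dvd_card (Subgroup.centralizer (S : Set G))
  rw [hcard] at h
  exact ((Nat.Coprime.pow_right a ((hp.coprime_iff_not_dvd).mpr hnp).symm).mul_right
    (Nat.Coprime.pow_right b ((hq.coprime_iff_not_dvd).mpr hnq).symm)).dvd_of_dvd_mul_left h

end Cfsg.Agent.S0904
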