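import Cfsg.Statements.S0992
import Cfsg.Agent.Lib.SmallGroups.Basic
import Mathlib.GroupTheory.SpecificGroups.KleinFour

set_option autoImplicit false
open Cfsg

namespace Cfsg.Agent.S0992

/-- Let G be a non-abelian finite simple group of even order not divisible by 8, and T a Sylow 2-subgroup. Then T is a Klein four-group and the centralizer of T has index 3 in the normalizer of T. -/
theorem result {G : Type*} [Group G] [Finite G] [IsSimpleGroup G] (hG : ¬ IsMulCommutative G) (h2 : Even (Nat.card G)) (h8 : ¬ 8 ∣ Nat.card G) (T : Sylow 2 G) : IsKleinFour ↥(T : Subgroup G) ∧ (Subgroup.centralizer ((T : Subgroup G) : Set G)).relIndex (Subgroup.normalizer ((T : Subgroup G) : Set G)) = 3 := by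
  classical
  have hdT : Nat.card ↥(T : Subgroup G) ∣ Nat.card G := Subgroup.card_subgroup_dvd_card _
  obtain ⟨a, ha⟩ := T.2.exists_card_eq
  have ha2 : a ≤ 2 := by
    by_contra h
    exact h8 ((pow_dvd_pow 2 (show 3 ≤ a by omega)).trans (ha ▸ hdT))
  have hmin : (Nat.card G).minFac = 2 := (Nat.minFac_eq_two_iff _).mpr h2.two_dvd
  have hnc := Cfsg.Agent.SmallGroups.not_isCyclic_sylow_minFac hG hmin T
  have ha' : a = 2 := by
    interval_cases a
    · exact absurd (@isCyclic_of_subsingleton _ _ (Nat.card_eq_one_iff_unique.mp (by simpa using ha)).1) hnc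
    · exact absurd (isCyclic_of_prime_card (p := 2) (by simpa using ha)) hnc
    · rfl
  subst ha'
  have h4 : Nat.card ↥(T : Subgroup G) = 4 := by simpa using ha
  have hK : IsKleinFour ↥(T : Subgroup G) :=
    ⟨h4, (not_isCyclic_iff_exponent_eq_prime Nat.prime_two (by simpa using h4)).mp hnc⟩
  refine ⟨hK, ?_⟩
  set H := (T : Subgroup G)
  set k := (Subgroup.centralizer (H : Set G)).relIndex (Subgroup.normalizer (H : Set G))
  have hab : H ≤ Subgroup.centralizer (H : Set G) := by
    intro a haH
    rw [Subgroup.mem_centralizer_iff]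
    intro b hb
    exact congrArg Subtype.val (mul_comm_of_exponent_two (IsKleinFour.exponent_two (G := H))
      (⟨b, hb⟩ : H) ⟨a, haH⟩)
  have hodd : ¬ 2 ∣ k := fun h =>
    T.not_dvd_index (h.trans ((Subgroup.relIndex_dvd_of_le_left _ hab).trans
      (Subgroup.relIndex_dvd_index_of_le Subgroup.le_normalizer)))
  have h24 : k ∣ 24 := by
    have key := Subgroup.card_dvd_of_injective _
      (QuotientGroup.kerLift_injective H.normalizerMonoidHom)
    rw [Subgroup.normalizerMonoidHom_ker, ← Subgroup.index, ← Subgroup.relIndex] at key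
    refine key.trans ((Subgroup.card_dvd_of_injective
      (MulAut.toPerm (H : Type _)) MulEquiv.toEquiv_injective).trans ?_)
    rw [Nat.card_perm, h4]
    decide
  have hne : k ≠ 1 := fun h =>
    Cfsg.Agent.SmallGroups.not_normalizer_le_centralizer hG h2.two_dvd T
      (Subgroup.relIndex_eq_one.mp h)
  have hle : k ≤ 24 := Nat.le_of_dvd (by norm_num) h24
  clear_value k
  interval_cases k <;> omega

end Cfsg.Agent.S0992
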