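import Cfsg.Statements.S4500
import Cfsg.Agent.BC85.Counting
import Cfsg.Agent.Lib.BlocksDefect.PrincipalSection
import Cfsg.Agent.Lib.BlocksDefect.Kernel
import Cfsg.Agent.Blocks88.Modular
import Cfsg.Agent.Lib.CharClifford.Burnside
import Cfsg.Agent.Lib.CharClifford.Separation
import Cfsg.Agent.Lib.CharCore.ModP

set_option autoImplicit false
open Cfsg

namespace Cfsg.Agent.S4500

open BlocksCore BlocksDefect
open scoped ComplexConjugate

universe u

theorem exists_prime_power_degree {G : Type u} [Group G] [Finite G] [Nontrivial G]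
    (p q r a b c : ℕ) (hp : p.Prime) (hq : q.Prime) (hr : r.Prime) (hpr : p ≠ r) (ha : a ≤ 2)
    (hpq : p ≠ q) (hG : Nat.card G = p ^ a * q ^ b * r ^ c) :
    ∃ χ : Cfsg.IrrCharacter G, (χ : G → ℂ) ≠ (fun _ => 1) ∧
      ∃ k : ℕ, Cfsg.charDegree (χ : G → ℂ) = q ^ k := by
  classical
  have := Fintype.ofFinite G
  rcases Nat.eq_zero_or_pos a with rfl | hapos
  · -- two primes: a nonprincipal linear character
    obtain ⟨N, ⟨hN, hNne⟩, hmax⟩ := (Set.toFinite {N : Subgroup G | N.Normal ∧ N ≠ ⊤}).exists_maximal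
      ⟨⊥, inferInstance, bot_ne_top⟩
    haveI : N.Normal := hN
    haveI : Nontrivial (G ⧸ N) := QuotientGroup.nontrivial_iff.mpr hNne
    haveI : IsSimpleGroup (G ⧸ N) := ⟨fun K hK => by
      by_cases h : K.comap (QuotientGroup.mk' N) = ⊤
      · exact Or.inr (eq_top_iff.mpr fun q _ => by
          obtain ⟨g, rfl⟩ := QuotientGroup.mk_surjective q
          exact (h ▸ Subgroup.mem_top g : g ∈ K.comap (QuotientGroup.mk' N)))
      · have hle : N ≤ K.comap (QuotientGroup.mk' N) := fun n hn => by
          show (n : G ⧸ N) ∈ K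
          rw [(QuotientGroup.eq_one_iff n).mpr hn]; exact one_mem _
        have := hmax ⟨hK.comap _, h⟩ hle
        refine Or.inl ((Subgroup.eq_bot_iff_forall K).mpr fun q hq => ?_)
        obtain ⟨g, rfl⟩ := QuotientGroup.mk_surjective q
        exact (QuotientGroup.eq_one_iff g).mpr (this hq)⟩
    have hdvd : Nat.card (G ⧸ N) ∣ q ^ b * r ^ c := by
      rw [← Subgroup.index_eq_card, show q ^ b * r ^ c = Nat.card G by rw [hG, pow_zero, one_mul]]
      exact N.index_dvd_card
    obtain ⟨x, y, hx, hy, hxy⟩ := Nat.dvd_mul.mp hdvd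
    obtain ⟨i, -, rfl⟩ := (Nat.dvd_prime_pow hq).mp hx
    obtain ⟨j, -, rfl⟩ := (Nat.dvd_prime_pow hr).mp hy
    have hab := CharClifford.isSolvable_of_two_prime_divisors_simple hq hr hxy.symm
    obtain ⟨g, hg⟩ := exists_ne (1 : G ⧸ N)
    obtain ⟨n, ρ, hρ, hρg⟩ := CharClifford.exists_irreducible_ne_one hg
    have hχ : Cfsg.IsIrrCharacter (G ⧸ N) ρ.character := ⟨n, ρ, hρ, rfl⟩
    obtain ⟨d, hd0, hd, hdeg⟩ := CharClifford.exists_degree_dvd_index_center hχ
    rw [show Subgroup.center (G ⧸ N) = ⊤ from eq_top_iff.mpr fun z _ =>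
      Subgroup.mem_center_iff.mpr fun w => hab w z, Subgroup.index_top, Nat.dvd_one] at hd
    subst hd
    let θ : IrrCharacter (G ⧸ N) := ⟨ρ.character, hχ⟩
    refine ⟨BlocksDefect.inflate N θ, fun h1 => hρg ?_, 0, ?_⟩
    · obtain ⟨g', rfl⟩ := QuotientGroup.mk_surjective g
      refine CharClifford.eq_one_of_character_eq_finrank ρ _ ?_
      rw [← Representation.char_one ρ, hdeg]
      have h2 : ρ.character (g' : G ⧸ N) = 1 := congrFun h1 g'
      simpa using h2
    · show Cfsg.charDegree ((ρ.character) ∘ QuotientGroup.mk) = q ^ 0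
      rw [Cfsg.charDegree, Function.comp_apply, QuotientGroup.mk_one, hdeg]
      simp
  · haveI := Fact.mk hp
    haveI := Fact.mk hr
    by_contra hno
    push Not at hno
    obtain ⟨M, hM⟩ := Blocks88.exists_isPModular hp
    have := isPrime hM
    set B := principalBlock M G
    have hB : IsPBlock M B := isPBlock_principal
    have h1B : oneIrr G ∈ B := oneIrr_mem
    obtain ⟨y, hy⟩ := exists_prime_orderOf_dvd_card' (G := G) p
      (hG ▸ ((dvd_pow_self p hapos.ne').mul_right _).mul_right _)
    have hva : (Nat.card G).factorization p ≤ 2 := by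
      have hc : (q ^ b * r ^ c).factorization p = 0 :=
        Nat.factorization_eq_zero_of_not_dvd fun h => by
          rcases hp.dvd_mul.mp h with h | h
          · exact hpq ((Nat.prime_dvd_prime_iff_eq hp hq).mp (hp.dvd_of_dvd_pow h))
          · exact hpr ((Nat.prime_dvd_prime_iff_eq hp hr).mp (hp.dvd_of_dvd_pow h))
      rw [hG, mul_assoc, Nat.factorization_mul (pow_ne_zero _ hp.ne_zero)
        (mul_ne_zero (pow_ne_zero _ hq.ne_zero) (pow_ne_zero _ hr.ne_zero)), Finsupp.add_apply, hc,
        Nat.factorization_pow, Finsupp.smul_apply, hp.factorization_self]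
      simpa using ha
    have hmin : sInf ((fun χ : IrrCharacter G => (charDegree (χ : G → ℂ)).factorization p) '' B)
        = 0 := by
      refine Nat.eq_zero_of_le_zero (Nat.sInf_le ⟨oneIrr G, h1B, ?_⟩)
      simp [oneIrr, Cfsg.charDegree]
    have hdvd : ∀ χ ∈ B, χ ≠ oneIrr G → r ∣ charDegree (χ : G → ℂ) := by
      intro χ hχ hne
      by_contra hr'
      have hp' : ¬ p ∣ charDegree (χ : G → ℂ) := by
        intro hpd
        have hpos : 0 < blockHeight p B (χ : G → ℂ) := by
          rw [blockHeight, hmin, Nat.sub_zero]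
          exact hp.factorization_pos_of_dvd (charDegree_pos χ).ne' hpd
        have := (BC85.height_bound hM hB).2 χ hχ hpos
        have hd : blockDefect p B ≤ 2 := (Nat.sub_le _ _).trans hva
        omega
      have hq' : charDegree (χ : G → ℂ) ∣ q ^ b := by
        have h := charDegree_dvd_card χ
        rw [hG] at h
        have c1 : (charDegree (χ : G → ℂ)).Coprime (p ^ a) :=
          Nat.Coprime.pow_right _ ((hp.coprime_iff_not_dvd.mpr hp').symm)
        have c2 : (charDegree (χ : G → ℂ)).Coprime (r ^ c) :=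
          Nat.Coprime.pow_right _ ((hr.coprime_iff_not_dvd.mpr hr').symm)
        exact c1.dvd_of_dvd_mul_left (c2.dvd_of_dvd_mul_right h)
      obtain ⟨k, -, hk⟩ := (Nat.dvd_prime_pow hq).mp hq'
      exact hno χ (fun h => hne (Subtype.ext h)) k hk
    have h0 := weakOrth hM hB (x := (1 : G)) (y := y) (by rw [orderOf_one]; exact hp.not_dvd_one)
      (by rw [hy])
    have hBf : B.Finite := Set.toFinite B
    rw [finsum_mem_eq_finite_toFinset_sum _ hBf,
      ← Finset.add_sum_erase _ _ (hBf.mem_toFinset.mpr h1B)] at h0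
    have hmod : CharCore.ModP r (∑ χ ∈ hBf.toFinset.erase (oneIrr G),
        (χ : G → ℂ) 1 * conj ((χ : G → ℂ) y)) := by
      refine CharCore.ModP.sum _ _ fun χ hχ => ?_
      obtain ⟨hne, hχB⟩ := Finset.mem_erase.mp hχ
      rw [irr_one_eq]
      refine CharCore.ModP.mul_right ?_ (CharCore.ModP.of_dvd (hdvd χ (hBf.mem_toFinset.mp hχB) hne))
      rw [← CharCore.irr_apply_inv]
      exact CharCore.IsCharacter.isIntegral (CharCore.irr_isCharacter χ) _
    have h1 : CharCore.ModP r ((1 : ℕ) : ℂ) := by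
      have := hmod.neg
      rw [← (eq_neg_of_add_eq_zero_left h0)] at this
      simpa [oneIrr] using this
    exact hr.not_dvd_one ((CharCore.modP_natCast_iff).mp h1)


/-- Let G be a non-trivial finite group of order p^a · q^b · r^c with p, q, r distinct primes and a ≤ 2. Then G has a non-principal irreducible character whose degree is a power of q, and a non-principal irreducible character whose degree is a power of r; the power may be the zeroth, so a non-principal linear character serves for both. -/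
theorem result {G : Type*} [Group G] [Finite G] [Nontrivial G] (p q r a b c : ℕ) (hp : p.Prime) (hq : q.Prime) (hr : r.Prime) (hpq : p ≠ q) (hpr : p ≠ r) (hqr : q ≠ r) (ha : a ≤ 2) (hG : Nat.card G = p ^ a * q ^ b * r ^ c) : (∃ χ : Cfsg.IrrCharacter G, (χ : G → ℂ) ≠ (fun _ => 1) ∧ ∃ k : ℕ, Cfsg.charDegree (χ : G → ℂ) = q ^ k) ∧ ∃ χ : Cfsg.IrrCharacter G, (χ : G → ℂ) ≠ (fun _ => 1) ∧ ∃ k : ℕ, Cfsg.charDegree (χ : G → ℂ) = r ^ k := by
  refine ⟨Cfsg.Agent.S4500.exists_prime_power_degree p q r a b c hp hq hr hpr ha hpq hG,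
    Cfsg.Agent.S4500.exists_prime_power_degree p r q a c b hp hr hq hpq ha hpr ?_⟩
  rw [hG]; ring

end Cfsg.Agent.S4500
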