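import Cfsg.Statements.S0801
import Cfsg.Agent.Lib.Dickson.Transvections

set_option autoImplicit false
open Cfsg

namespace Cfsg.Agent.S0801

open Cfsg.Agent.Dickson

theorem exists_orderOf_two {F : Type*} [Field F] (h2 : (2 : F) ≠ 0) : ∃ g : PSL2 F, orderOf g = 2 := by
  obtain ⟨J, hJ⟩ : ∃ J : Matrix.SpecialLinearGroup (Fin 2) F,
      (J : Matrix (Fin 2) (Fin 2) F) = !![0, -1; 1, 0] := ⟨⟨_, by simp [Matrix.det_fin_two_of]⟩, rfl⟩
  haveI : Fact (Nat.Prime 2) := ⟨Nat.prime_two⟩
  refine ⟨QuotientGroup.mk J, orderOf_eq_prime ?_ fun e => ?_⟩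
  · refine SL2Tor.psl_pow_eq_one_of_eq_smul J 2 (-1) ?_
    rw [pow_two, hJ]
    ext i j; fin_cases i <;> fin_cases j <;> simp
  · have := ((SL2Tor.psl_mk_eq_one_iff J).mp e).2.1
    simp [hJ] at this

/-- Let F be a finite field of odd characteristic and λ ≠ 0 an element generating F as a field. Then the lower and upper unitriangular matrices with off-diagonal entries 1 and λ generate SL_2(F), unless |F| = 9 and λ² = −1, in which case they generate a subgroup of order 120. -/
theorem result {F : Type*} [Field F] [Fintype F] (h2 : (2 : F) ≠ 0) (lam : F) (hlam : lam ≠ 0) (hgen : Subfield.closure ({lam} : Set F) = ⊤) : (Subgroup.closure {g : Matrix.SpecialLinearGroup (Fin 2) F | (g : Matrix (Fin 2) (Fin 2) F) = !![1, 0; 1, 1] ∨ (g : Matrix (Fin 2) (Fin 2) F) = !![1, lam; 0, 1]} = ⊤ ∧ ¬ (Fintype.card F = 9 ∧ lam ^ 2 = -1)) ∨ (Fintype.card F = 9 ∧ lam ^ 2 = -1 ∧ Nat.card ↥(Subgroup.closure {g : Matrix.SpecialLinearGroup (Fin 2) F | (g : Matrix (Fin 2) (Fin 2)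 F) = !![1, 0; 1, 1] ∨ (g : Matrix (Fin 2) (Fin 2) F) = !![1, lam; 0, 1]}) = 120) := by
  classical
  obtain ⟨L, hL⟩ : ∃ L : Matrix.SpecialLinearGroup (Fin 2) F,
      (L : Matrix (Fin 2) (Fin 2) F) = !![1, 0; 1, 1] := ⟨⟨_, by simp [Matrix.det_fin_two_of]⟩, rfl⟩
  obtain ⟨U, hU⟩ : ∃ U : Matrix.SpecialLinearGroup (Fin 2) F,
      (U : Matrix (Fin 2) (Fin 2) F) = !![1, lam; 0, 1] := ⟨⟨_, by simp [Matrix.det_fin_two_of]⟩, rfl⟩
  set S : Set (Matrix.SpecialLinearGroup (Fin 2) F) := {g | (g : Matrix (Fin 2) (Fin 2) F) = !![1, 0; 1, 1] ∨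
    (g : Matrix (Fin 2) (Fin 2) F) = !![1, lam; 0, 1]} with hS
  have hSeq : S = {L, U} := by
    ext g
    rw [hS, Set.mem_setOf_eq, ← hL, ← hU, Set.mem_insert_iff, Set.mem_singleton_iff]
    exact or_congr Subtype.ext_iff.symm Subtype.ext_iff.symm
  obtain ⟨f, hf⟩ : ∃ f : Matrix.SpecialLinearGroup (Fin 2) F →* PSL2 F,
      f = QuotientGroup.mk' (Subgroup.center _) := ⟨_, rfl⟩
  have hfs : Function.Surjective f := hf ▸ QuotientGroup.mk'_surjective _
  set K := Subgroup.closure S with hK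
  have hLK : L ∈ K := Subgroup.subset_closure (hSeq ▸ Or.inl rfl)
  have hUK : U ∈ K := Subgroup.subset_closure (hSeq ▸ Or.inr rfl)
  have himg := transvection_image L U lam h2 hlam hgen hL hU (K.map f)
    ⟨L, hLK, by rw [hf]; rfl⟩ ⟨U, hUK, by rw [hf]; rfl⟩
  haveI : Finite (PSL2 F) := Finite.of_surjective _ hfs
  haveI : Fact (Nat.Prime 2) := ⟨Nat.prime_two⟩
  have hGc := card_psl_eq (F := F)
  have hq2 : Fintype.card F % 2 = 1 := by
    by_contra h
    exact h2 (by
      have : ringChar F = 2 := FiniteField.even_card_iff_char_two.mpr (by omega)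
      exact_mod_cast (ringChar.spec F 2).mpr (by rw [this]))
  have hd : Nat.gcd 2 (Fintype.card F - 1) = 2 := by
    rcases d_even_or_odd (F := F) with ⟨-, h⟩ | ⟨h, -⟩
    · omega
    · exact h
  rw [hd] at hGc
  have hSL : Nat.card (Matrix.SpecialLinearGroup (Fin 2) F) = 2 * Nat.card (PSL2 F) := by
    rw [LinearGroup.card_SL_two, ← LinearGroup.gcd_mul_card_PSL_two, Nat.card_eq_fintype_card (α := F), hd]
  -- `-1` lies in `K`
  have heven : 2 ∣ Nat.card (K.map f) := by
    rcases himg with h | ⟨-, -, h⟩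
    · rw [h, Subgroup.card_top]
      obtain ⟨g, hg⟩ := exists_orderOf_two h2 (F := F)
      exact hg ▸ orderOf_dvd_natCard g
    · rw [h]; norm_num
  obtain ⟨⟨g, hg⟩, hgo⟩ := exists_prime_orderOf_dvd_card' 2 heven
  rw [Subgroup.orderOf_mk] at hgo
  obtain ⟨x, hx, rfl⟩ := hg
  have hneg : -1 ∈ K := by
    have h2' : f x ^ 2 = 1 := orderOf_dvd_iff_pow_eq_one.mp (dvd_of_eq hgo)
    rw [← map_pow, hf, QuotientGroup.mk'_apply, SL2Tor.psl_mk_eq_one_iff] at h2'
    rcases eq_or_eq_neg_of_isScalar h2' with e | e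
    · exfalso
      have hx1 : f x ≠ 1 := fun e => by rw [e, orderOf_one] at hgo; omega
      obtain ⟨A, hA, hA0⟩ := lift_two hgo
      have : x = A ∨ x = -A := mk_eq_mk_iff.mp (by rw [hA, hf]; rfl)
      have hxx : (x : Matrix (Fin 2) (Fin 2) F) * x = -1 := by
        rw [sl_sq, show str x = 0 by
          rcases this with rfl | rfl
          · exact hA0
          · rw [str_neg, hA0, neg_zero], zero_smul, zero_sub]
      have := congrArg (fun X : Matrix.SpecialLinearGroup (Fin 2) F => (X : Matrix (Fin 2) (Fin 2) F) 0 0) e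
      simp only [pow_two, Matrix.SpecialLinearGroup.coe_mul, hxx] at this
      simp at this
      exact h2 (by linear_combination -this)
    · exact e ▸ pow_mem hx 2
  have hker : f.ker ≤ K := by
    intro z hz
    rw [hf, QuotientGroup.ker_mk'] at hz
    rcases eq_or_eq_neg_of_isScalar ((SL2Tor.psl_mk_eq_one_iff z).mp
      ((QuotientGroup.eq_one_iff z).mpr hz)) with rfl | rfl
    · exact one_mem _
    · exact hneg
  have hKc : K = (K.map f).comap f := (Subgroup.comap_map_eq_self hker).symm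
  rcases himg with h | ⟨hq, hl, h⟩
  · refine Or.inl ⟨by rw [hKc, h, Subgroup.comap_top], ?_⟩
    rintro ⟨hq, hl⟩
    haveI : CharP F 3 := by
      obtain ⟨p, hp⟩ := CharP.exists F
      obtain ⟨k, hpp, hk⟩ := FiniteField.card F p
      have h3 : p = 3 := by
        have h9 : p ∣ 3 ^ 2 := by
          rw [show (3 : ℕ) ^ 2 = Fintype.card F by rw [hq]; norm_num, hk]
          exact dvd_pow_self p k.pos.ne'
        exact (Nat.prime_dvd_prime_iff_eq hpp Nat.prime_three).mp (hpp.dvd_of_dvd_pow h9)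
      exact h3 ▸ hp
    obtain ⟨H, hH, hLH, hUH⟩ := le_A5 L U lam hq hL hU hl
    have hle : K.map f ≤ H := by
      rw [hK, MonoidHom.map_closure, Subgroup.closure_le, hSeq, Set.image_pair, hf]
      rintro _ (rfl | rfl)
      · exact hLH
      · exact hUH
    have := Subgroup.card_le_of_le hle
    rw [h, Subgroup.card_top, hH] at this
    rw [hq] at hGc
    omega
  · refine Or.inr ⟨hq, hl, ?_⟩
    rw [hKc]
    have hi := Subgroup.index_comap_of_surjective (K.map f) hfs
    have h1 := Subgroup.card_mul_index ((K.map f).comap f)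
    have h2' := Subgroup.card_mul_index (K.map f)
    rw [hi, hSL, ← h2', h] at h1
    have hpos : 0 < (K.map f).index := Nat.pos_of_ne_zero Subgroup.index_ne_zero_of_finite
    exact Nat.eq_of_mul_eq_mul_right hpos (h1.trans (by ring))

end Cfsg.Agent.S0801
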