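import Cfsg.Statements.S0265
import Cfsg.Agent.Lib.LinearGroup.Card
import Mathlib.Tactic
import Mathlib.LinearAlgebra.Center
-- import your own Cfsg.Agent.* helpers here

set_option autoImplicit false
open Cfsg

namespace Cfsg.Agent.S0265

/-- |PGL_n(q)| = |SL_n(q)|: GL_n modulo its centre (the q-1 non-zero scalars) has the same order as the kernel of det. -/
theorem result {F : Type*} [Field F] [Fintype F] (n : ℕ) : Nat.card (Matrix.ProjGenLinGroup (Fin n) F) = Nat.card (Matrix.SpecialLinearGroup (Fin n) F) := by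
  classical
  rcases Nat.eq_zero_or_pos n with rfl | hn
  · have : Subsingleton (Matrix.GeneralLinearGroup (Fin 0) F) :=
      ⟨fun a b => Units.ext (Subsingleton.elim _ _)⟩
    have : Subsingleton (Matrix.SpecialLinearGroup (Fin 0) F) :=
      ⟨fun a b => Subtype.ext (Subsingleton.elim _ _)⟩
    show Nat.card (Matrix.GeneralLinearGroup (Fin 0) F ⧸
      Subgroup.center (Matrix.GeneralLinearGroup (Fin 0) F)) = _
    have : Subsingleton (Matrix.GeneralLinearGroup (Fin 0) F ⧸
        Subgroup.center (Matrix.GeneralLinearGroup (Fin 0) F)) :=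
      Quotient.instSubsingletonQuotient _
    rw [Nat.card_of_subsingleton 1, Nat.card_of_subsingleton 1]
  have : Nonempty (Fin n) := ⟨⟨0, hn⟩⟩
  have hc : Nat.card (Subgroup.center (Matrix.GeneralLinearGroup (Fin n) F)) = Nat.card Fˣ := by
    rw [Matrix.GeneralLinearGroup.center_eq_range_scalar]
    refine (Nat.card_congr (MonoidHom.ofInjective
      (fun a b hab => ?_)).toEquiv).symm
    refine Units.ext ?_
    have h2 : Matrix.scalar (Fin n) (a : F) = Matrix.scalar (Fin n) (b : F) := by
      rw [← Matrix.GeneralLinearGroup.coe_scalar, ← Matrix.GeneralLinearGroup.coe_scalar, hab]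
    exact Matrix.scalar_inj.1 h2
  have h1 := LinearGroup.card_GL_eq_units_mul_SL (n := Fin n) (R := F)
  rw [Subgroup.card_eq_card_quotient_mul_card_subgroup
    (Subgroup.center (Matrix.GeneralLinearGroup (Fin n) F)), hc, mul_comm] at h1
  exact Nat.eq_of_mul_eq_mul_left Nat.card_pos h1

end Cfsg.Agent.S0265
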