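import Cfsg.Statements.S0813
import Cfsg.Agent.AutPSL.Main
import Cfsg.Agent.CG26.FieldAutCard

set_option autoImplicit false
open Cfsg

namespace Cfsg.Agent.S0813

open Matrix

variable {F : Type*} [Field F] [Fintype F] {n : ℕ}

/-- the semilinear automorphisms -/
abbrev Semis (n : ℕ) (F : Type*) [Field F] :=
  {β : MulAut (Matrix.ProjectiveSpecialLinearGroup (Fin n) F) //
    ∃ (g : GL (Fin n) F) (σ : F ≃+* F), AutPSL.IsSemi g σ β}

theorem exists_scalar {z : GL (Fin n) F} (hz : z ∈ Subgroup.center (GL (Fin n) F)) :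
    ∃ c : F, (z : Matrix (Fin n) (Fin n) F) = c • 1 := by
  obtain ⟨c, hc⟩ := Matrix.GeneralLinearGroup.mem_center_iff_val_mem_range_scalar.1 hz
  exact ⟨c, by rw [← hc, Matrix.scalar_apply, Matrix.smul_one_eq_diagonal]⟩

theorem card_semis (hn : 2 ≤ n) :
    Nat.card (Semis n F) = Nat.card (Matrix.ProjGenLinGroup (Fin n) F) * Nat.card (F ≃+* F) := by
  have hex : ∀ x : Matrix.ProjGenLinGroup (Fin n) F × (F ≃+* F), ∃ β : Semis n F,
      AutPSL.IsSemi (Function.surjInv Matrix.ProjGenLinGroup.mk_surjective x.1) x.2 β.1 := by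
    intro x
    obtain ⟨β, hβ⟩ := AutPSL.exists_induced (S := Matrix.SpecialLinearGroup (Fin n) F) AutPSL.rho_injective
      (AutPSL.normalises_psl (Function.surjInv Matrix.ProjGenLinGroup.mk_surjective x.1) x.2)
    exact ⟨⟨β, _, _, hβ⟩, hβ⟩
  choose f hf using hex
  have hsep := Function.surjInv_eq (Matrix.ProjGenLinGroup.mk_surjective (n := Fin n) (R := F))
  have hinj : Function.Injective f := by
    intro x y hxy
    have hy := hf y
    rw [← hxy] at hy
    obtain ⟨hσ, c, hc, hgc⟩ := AutPSL.IsSemi.unique hn (hf x) hy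
    refine Prod.ext ?_ hσ
    rw [← hsep x.1, ← hsep y.1, Matrix.ProjGenLinGroup.mk_eq_mk_iff]
    refine ⟨(Units.mk0 c hc)⁻¹, Units.ext ?_⟩
    rw [Units.val_mul, hgc, map_inv]
    have hs : (((Matrix.GeneralLinearGroup.scalar (Fin n)) (Units.mk0 c hc) : GL (Fin n) F)⁻¹ :
        GL (Fin n) F).val = c⁻¹ • 1 := by
      rw [← map_inv]
      show Matrix.scalar (Fin n) (c⁻¹ : F) = _
      rw [Matrix.scalar_apply, Matrix.smul_one_eq_diagonal]
    rw [hs, smul_mul_assoc, mul_smul_comm, mul_one, smul_smul, mul_inv_cancel₀ hc, one_smul]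
  have hsurj : Function.Surjective f := by
    rintro ⟨β, g, σ, hg⟩
    refine ⟨(Matrix.ProjGenLinGroup.mk g, σ), Subtype.ext ?_⟩
    obtain ⟨z, hz, hgz⟩ := Matrix.ProjGenLinGroup.mk_eq_mk_iff'.1
      (hsep (Matrix.ProjGenLinGroup.mk g)).symm
    obtain ⟨c, hc⟩ := exists_scalar hz
    have h := AutPSL.Induced.comp (AutPSL.normalises_psl g σ) (AutPSL.scalar_semi (n := n) hc) hg
    rw [one_mul, one_mul, AutPSL.fieldMap_one, ← Subgroup.mem_center_iff.1 hz g, hgz] at h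
    exact AutPSL.Induced.ext (AutPSL.normalises_psl _ _) (hf (Matrix.ProjGenLinGroup.mk g, σ)) h
  rw [← Nat.card_prod]
  exact (Nat.card_eq_of_bijective f ⟨hinj, hsurj⟩).symm


/-- |Aut(PSL_n(q))|, q = p^f: for n ≥ 3 it is 2 f |PGL_n(q)|, and for n = 2 (q ≥ 4) it is f |PGL_2(q)|. -/
theorem result {F : Type*} [Field F] [Fintype F] (p f : ℕ) [Fact p.Prime] (hf : 1 ≤ f) (hF : Fintype.card F = p ^ f) (n : ℕ) (hn : 2 ≤ n) (h2 : n = 2 → 4 ≤ p ^ f) : Nat.card (MulAut (Matrix.ProjectiveSpecialLinearGroup (Fin n) F)) = (if n = 2 then 1 else 2) * f * Nat.card (Matrix.ProjGenLinGroup (Fin n) F) := by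
  rw [← CG26.card_fieldAut (F := F) p f hF, mul_assoc, mul_comm (Nat.card (F ≃+* F)), ← card_semis hn]
  by_cases h : n = 2
  · subst h
    rw [if_pos rfl, one_mul]
    refine (Nat.card_eq_of_bijective (fun β : Semis 2 F => β.1) ⟨Subtype.val_injective, fun α => ?_⟩).symm
    obtain ⟨g, σ, β, hβ, hα⟩ := AutPSL.exists_semi hn α
    rcases hα with hα | ⟨h3, -⟩
    · exact ⟨⟨β, g, σ, hβ⟩, hα.symm⟩
    · omega
  · rw [if_neg h, show (2 : ℕ) = Nat.card Bool by simp, ← Nat.card_prod]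
    refine (Nat.card_eq_of_bijective
      (fun x : Bool × Semis n F => if x.1 then x.2.1 * AutPSL.itAut n F else x.2.1) ⟨?_, fun α => ?_⟩).symm
    · rintro ⟨a, β, g, σ, hβ⟩ ⟨b, γ, h', τ, hγ⟩ he
      cases a <;> cases b <;> simp at he
      · subst he; rfl
      · exact absurd he (AutPSL.semi_not_eq_mul_it (by omega) hβ hγ)
      · exact absurd he.symm (AutPSL.semi_not_eq_mul_it (by omega) hγ hβ)
      · subst he; rfl
    · obtain ⟨g, σ, β, hβ, hα⟩ := AutPSL.exists_semi hn α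
      rcases hα with hα | ⟨-, hα⟩
      · exact ⟨(false, ⟨β, g, σ, hβ⟩), by simpa using hα.symm⟩
      · exact ⟨(true, ⟨β, g, σ, hβ⟩), by simpa using hα.symm⟩

end Cfsg.Agent.S0813
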