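import Cfsg.Statements.S1011
import Cfsg.Agent.Lib.SmallGroups.ThreePrimes
import Cfsg.Agent.Lib.SmallGroups.SelfCent.PSLFinish
import Cfsg.Agent.Lib.LinearGroup.SmallPSL

set_option autoImplicit false
open Cfsg

namespace Cfsg.Agent.S1011

/-- A simple group of order 504 is isomorphic to the projective special linear group of dimension 2 over the field with 8 elements. -/
theorem result {G : Type*} [Group G] [Finite G] [IsSimpleGroup G] (h : Nat.card G = 504) {F : Type*} [Field F] [Fintype F] (hF : Fintype.card F = 8) : Nonempty (G ≃* Matrix.ProjectiveSpecialLinearGroup (Fin 2) F) := by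
  haveI : Fact (Nat.Prime 7) := ⟨by norm_num⟩
  have hG : ¬ IsMulCommutative G :=
    SmallGroups.not_comm_of_not_prime (by rw [h]; norm_num)
  have hfac : Nat.card G = 2 ^ 3 * 3 ^ 2 * 7 := by rw [h]; norm_num
  have hS : ∀ P : Sylow 7 G, Nat.card ↥(P : Subgroup G) = 7 ∧
      Subgroup.centralizer ((P : Subgroup G) : Set G) = (P : Subgroup G) ∧
      ∃ e, 2 ≤ e ∧ e ∣ 7 - 1 ∧
        Nat.card ↥(Subgroup.normalizer ((P : Subgroup G) : Set G)) = e * 7 ∧
        e * Nat.card (Sylow 7 G) = 2 ^ 3 * 3 ^ 2 := fun P =>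
    SmallGroups.exists_index_three_primes hG Nat.prime_two Nat.prime_three (by norm_num)
      (by norm_num) (by norm_num) hfac P
  obtain ⟨P⟩ := (inferInstance : Nonempty (Sylow 7 G))
  obtain ⟨hPc, hCP, e, he2, he6, hN, hen⟩ := hS P
  have hmod : Nat.card (Sylow 7 G) % 7 = 1 :=
    (SmallGroups.card_sylow_mem (p := 7) (a := 1) (m := 72) (by rw [h]; norm_num)
      (by norm_num)).2
  have hn : Nat.card (Sylow 7 G) = 36 ∧ e = 2 := by
    have hle := Nat.le_of_dvd (by norm_num) he6
    interval_cases e <;> omega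
  obtain ⟨hn, rfl⟩ := hn
  obtain ⟨a, b, δ, ε, hδ, hε, ha2, had, hbd, hma, hmb, hab, hsq, x, S, hx, hx1, hclass, hS1,
    hS2, hS4, hb4, hcol, heq⟩ := SmallGroups.SelfCent.exists_two_class hG (p := 7) (by norm_num)
      (P : Subgroup G) hPc hCP hN
  rw [h] at had hbd hsq
  norm_num at had hbd hsq
  have ha : a = 8 ∧ b = 9 ∧ δ = 1 := by
    have ha22 : a ≤ 22 := by nlinarith
    have hb13 : b ≤ 13 := by nlinarith
    obtain ⟨ka, hka⟩ := had
    obtain ⟨kb, hkb⟩ := hbd
    rcases hδ with rfl | rfl <;> rcases hε with rfl | rfl <;> interval_cases a <;>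
      interval_cases b <;> omega
  obtain ⟨rfl, rfl, rfl⟩ := ha
  have hidx : ((Subgroup.centralizer ({x} : Set G)).index : ℤ) *
      (Nat.card (Subgroup.centralizer ({x} : Set G)) : ℤ) = 504 := by
    have hh := Subgroup.index_mul_card (Subgroup.centralizer ({x} : Set G))
    rw [h] at hh
    exact_mod_cast hh
  rw [h] at heq
  set C : ℤ := (Nat.card (Subgroup.centralizer ({x} : Set G)) : ℤ) with hC
  set i : ℤ := ((Subgroup.centralizer ({x} : Set G)).index : ℤ) with hi
  push_cast at heq hcol hS1 hS2 hS4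
  have hC2 : C ^ 2 = (8 - S) ^ 2 := by
    have h1 : (504 : ℤ) ^ 2 * (8 - S) ^ 2 = 504 ^ 2 * C ^ 2 := by
      linear_combination C ^ 2 * heq - (8 - S) ^ 2 * (i * C + 504) * hidx
    linarith
  have hCS : C = 8 - S := (sq_eq_sq₀ (by rw [hC]; positivity) (by omega)).mp hC2
  have hxC : Nat.card (Subgroup.centralizer ({x} : Set G)) = 2 ^ 3 := by
    have hS0 : S = 0 := by
      rw [hCS] at hcol
      norm_num at hcol
      interval_cases S <;> omega
    rw [hS0] at hCS
    omega
  obtain ⟨F', hF1, hF2, hcard, ⟨φ⟩⟩ := SmallGroups.SelfCent.iso_psl_two_of_count (p := 7)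
    (k := 3) (m := 9) (by norm_num) (by norm_num) (by decide) (by norm_num) (by rw [h]; norm_num)
    (fun Q => (hS Q).2.1) hx hx1 hclass hxC (fun a b hab => by rw [h, hn] at hab; omega)
  exact ⟨φ.trans (LinearGroup.pslCongr (FiniteField.ringEquivOfCardEq
    (by rw [hcard, hF]; norm_num)))⟩

end Cfsg.Agent.S1011
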