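import Cfsg.Statements.S2589
import Cfsg.Agent.Forms59.SemisimpleConj
import Cfsg.Agent.Lib.Forms.Symp

set_option autoImplicit false
open Cfsg

namespace Cfsg.Agent.S2589

/-- Two semisimple elements of the finite symplectic group Sp_2m(F) (elements of order prime to the characteristic) are conjugate in Sp_2m(F) if and only if they are conjugate in GL_2m(F). -/
theorem result {F : Type*} [Field F] [Fintype F] {p : ℕ} [Fact p.Prime] [CharP F p] {m : ℕ} (A B : Matrix.symplecticGroup (Fin m) F) (hA : (orderOf A).Coprime p) : IsConj A B ↔ IsConj (A : Matrix (Fin m ⊕ Fin m) (Fin m ⊕ Fin m) F) (B : Matrix (Fin m ⊕ Fin m) (Fin m ⊕ Fin m) F) := by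
  constructor
  · intro h
    exact (Matrix.symplecticGroup (Fin m) F).subtype.map_isConj h
  rintro ⟨u, hu⟩
  set a : Matrix (Fin m ⊕ Fin m) (Fin m ⊕ Fin m) F := (A : Matrix (Fin m ⊕ Fin m) (Fin m ⊕ Fin m) F)
  set b : Matrix (Fin m ⊕ Fin m) (Fin m ⊕ Fin m) F := (B : Matrix (Fin m ⊕ Fin m) (Fin m ⊕ Fin m) F)
  set T := (Matrix.toLinAlgEquiv' : Matrix (Fin m ⊕ Fin m) (Fin m ⊕ Fin m) F ≃ₐ[F] _)
  have haN : a ^ orderOf A = 1 := by
    show ((A ^ orderOf A : Matrix.symplecticGroup (Fin m) F) : Matrix (Fin m ⊕ Fin m) (Fin m ⊕ Fin m) F) = _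
    rw [pow_orderOf_eq_one]
    rfl
  have hbN : b ^ orderOf A = 1 := by
    have h := (SemiconjBy.pow_right hu (orderOf A)).eq
    rw [haN, mul_one] at h
    exact (u.mul_left_inj).1 (by rw [one_mul]; exact h.symm)
  have hNF : ((orderOf A : ℕ) : F) ≠ 0 := fun h0 =>
    (Fact.out : p.Prime).coprime_iff_not_dvd.1 (Nat.Coprime.symm hA) ((CharP.cast_eq_zero_iff F p _).1 h0)
  have hpres : ∀ (X : Matrix.symplecticGroup (Fin m) F) (v w : Symplectic.Vec m F),
      Forms.sympBilin m F (T (X : Matrix (Fin m ⊕ Fin m) (Fin m ⊕ Fin m) F) v) (T (X : Matrix (Fin m ⊕ Fin m) (Fin m ⊕ Fin m) F) w) =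
        Forms.sympBilin m F v w := by
    intro X v w
    simp only [Forms.sympBilin_apply, T, Matrix.toLinAlgEquiv'_apply]
    exact (Symplectic.mem_iff_form _).1 X.2 v w
  have hg : Function.Bijective (T (u : Matrix (Fin m ⊕ Fin m) (Fin m ⊕ Fin m) F)) :=
    (Module.End.isUnit_iff _).1 (u.isUnit.map T.toMonoidHom)
  obtain ⟨G, hG, hcomm⟩ := Forms59.symp_conj (Forms.sympBilin m F) Forms.sympBilin_nondegenerate
    Forms.sympBilin_isAlt (T a) (T b) (T (u : Matrix (Fin m ⊕ Fin m) (Fin m ⊕ Fin m) F)) hg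
    (by rw [← map_mul, ← map_mul]; exact congr_arg T hu.eq) (hpres A) (hpres B)
    (by rw [← map_pow, haN, map_one]) (by rw [← map_pow, hbN, map_one]) hNF
  let g : Matrix.symplecticGroup (Fin m) F := ⟨T.symm G.toLinearMap, by
    rw [Symplectic.mem_iff_form]
    intro v w
    rw [← Matrix.toLinAlgEquiv'_apply, ← Matrix.toLinAlgEquiv'_apply, AlgEquiv.apply_symm_apply,
      ← Forms.sympBilin_apply, ← Forms.sympBilin_apply]
    exact hG v w⟩
  refine isConj_iff.2 ⟨g, ?_⟩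
  rw [mul_inv_eq_iff_eq_mul]
  refine Subtype.ext (T.injective ?_)
  show T (T.symm G.toLinearMap * a) = T (b * T.symm G.toLinearMap)
  rw [map_mul, map_mul, AlgEquiv.apply_symm_apply]
  exact LinearMap.ext hcomm

end Cfsg.Agent.S2589
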