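import Cfsg.Statements.S5635
import Cfsg.Agent.MaxSub.Alt

set_option autoImplicit false
open Cfsg

namespace Cfsg.Agent.S5635

open Matrix Cfsg.Agent.MaxSub

variable {F : Type*} [Field F] {n t m : ℕ} {D : Fin t → Submodule F (Fin n → F)}

/-- Coordinates adapted to a decomposition. -/
theorem exists_coords (hD : Geo.IsMDecomposition m D) :
    ∃ Φ : (Fin n → F) ≃ₗ[F] (Fin t → Fin m → F),
      ∀ i, ∀ x, x ∈ D i ↔ ∀ j, j ≠ i → Φ x j = 0 := by
  classical
  let e : ∀ i, D i ≃ₗ[F] (Fin m → F) := fun i =>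
    (Module.finBasisOfFinrankEq F (D i) (hD.finrank_eq i)).equivFun
  let L : (Fin t → Fin m → F) →ₗ[F] (Fin n → F) :=
    ∑ i, (D i).subtype ∘ₗ (e i).symm.toLinearMap ∘ₗ LinearMap.proj i
  have hL : ∀ c, L c = ∑ i, ((e i).symm (c i) : Fin n → F) := fun c => by simp [L]
  have hone : ∀ i (w : D i), L (Pi.single i (e i w)) = w := fun i w => by
    rw [hL, Finset.sum_eq_single i]
    · simp
    · intro j _ hj; simp [Pi.single_eq_of_ne hj]
    · simp
  have hzero : ∀ c, L c = 0 → c = 0 := fun c hc => funext fun i => by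
    have hsum : ((e i).symm (c i) : Fin n → F) +
        ∑ j ∈ Finset.univ.erase i, ((e j).symm (c j) : Fin n → F) = 0 := by
      rw [Finset.add_sum_erase Finset.univ (fun j => ((e j).symm (c j) : Fin n → F))
        (Finset.mem_univ i), ← hL, hc]
    have h1 : ((e i).symm (c i) : Fin n → F) ∈ ⨆ j, ⨆ (_ : j ≠ i), D j := by
      rw [eq_neg_of_add_eq_zero_left hsum]
      refine neg_mem (Submodule.sum_mem _ fun j hj => ?_)
      exact Submodule.mem_iSup_of_mem j
        (Submodule.mem_iSup_of_mem (Finset.ne_of_mem_erase hj) ((e j).symm (c j)).2)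
    have h2 := Submodule.disjoint_def.mp (hD.indep i) _ ((e i).symm (c i)).2 h1
    exact (e i).symm.map_eq_zero_iff.mp (Subtype.ext h2)
  have hsur : Function.Surjective L := by
    rw [← LinearMap.range_eq_top, eq_top_iff, ← hD.iSup_eq_top, iSup_le_iff]
    exact fun i w hw => ⟨_, hone i ⟨w, hw⟩⟩
  let Ψ := LinearEquiv.ofBijective L ⟨(injective_iff_map_eq_zero L).mpr hzero, hsur⟩
  refine ⟨Ψ.symm, fun i x => ⟨fun hx j hj => ?_, fun h => ?_⟩⟩
  · have : Ψ.symm x = Pi.single i (e i ⟨x, hx⟩) :=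
      Ψ.symm_apply_eq.mpr (hone i ⟨x, hx⟩).symm
    rw [this, Pi.single_eq_of_ne hj]
  · have hx : x = ((e i).symm (Ψ.symm x i) : Fin n → F) := by
      conv_lhs => rw [← Ψ.apply_symm_apply x]
      show L _ = _
      rw [hL]
      exact Finset.sum_eq_single i (fun j _ hj => by simp [h j hj]) (by simp)
    rw [hx]
    exact ((e i).symm _).2

variable (Φ : (Fin n → F) ≃ₗ[F] (Fin t → Fin m → F))

/-- A linear map of the coordinates as a matrix. -/
noncomputable def toGL (L : (Fin t → Fin m → F) ≃ₗ[F] (Fin t → Fin m → F)) : GL (Fin n) F :=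
  Matrix.GeneralLinearGroup.toLin.symm
    (LinearMap.GeneralLinearGroup.ofLinearEquiv (Φ.trans (L.trans Φ.symm)))

theorem toGL_mulVec (L : (Fin t → Fin m → F) ≃ₗ[F] (Fin t → Fin m → F)) (x : Fin n → F) :
    Φ ((toGL Φ L : Matrix (Fin n) (Fin n) F) *ᵥ x) = L (Φ x) := by
  have h : (Matrix.toLin' (toGL Φ L : Matrix (Fin n) (Fin n) F)) x = (Φ.trans (L.trans Φ.symm)) x :=
    congrArg (fun g : LinearMap.GeneralLinearGroup F (Fin n → F) => g.1 x)
      (Matrix.GeneralLinearGroup.toLin.apply_symm_apply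
        (LinearMap.GeneralLinearGroup.ofLinearEquiv (Φ.trans (L.trans Φ.symm))))
  rw [Matrix.toLin'_apply] at h
  rw [h]
  simp

theorem det_sq (L : (Fin t → Fin m → F) ≃ₗ[F] (Fin t → Fin m → F)) (hL : ∀ c, L (L c) = c) :
    Matrix.GeneralLinearGroup.det (toGL Φ L) * Matrix.GeneralLinearGroup.det (toGL Φ L) = 1 := by
  rw [← map_mul]
  have h : toGL Φ L * toGL Φ L = 1 := gl_ext fun x => Φ.injective (by
    rw [Units.val_mul, ← mulVec_mulVec, toGL_mulVec, toGL_mulVec, hL, Units.val_one, one_mulVec])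
  rw [h, map_one]

/-- An element permuting the members permutes the supports of the components. -/
theorem exists_perm_comp (hΦ : ∀ i, ∀ x, x ∈ D i ↔ ∀ j, j ≠ i → Φ x j = 0) {g : GL (Fin n) F}
    (hg : g ∈ Geo.decompositionStabilizer D) :
    ∃ σ : Equiv.Perm (Fin t), ∃ T : Fin t → ((Fin m → F) →ₗ[F] (Fin m → F)),
      (∀ i, Function.Injective (T i)) ∧
      ∀ x i, Φ ((g : Matrix (Fin n) (Fin n) F) *ᵥ x) (σ i) = T i (Φ x i) := by
  classical
  obtain ⟨σ, hσ⟩ := hg
  let G : (Fin t → Fin m → F) →ₗ[F] (Fin t → Fin m → F) :=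
    Φ.toLinearMap ∘ₗ Matrix.toLin' (g : Matrix (Fin n) (Fin n) F) ∘ₗ Φ.symm.toLinearMap
  have hG : ∀ x, Φ ((g : Matrix (Fin n) (Fin n) F) *ᵥ x) = G (Φ x) := fun x => by simp [G]
  have hoff : ∀ i (v : Fin m → F) j, j ≠ σ i → G (Pi.single i v) j = 0 := fun i v j hj => by
    have h1 : Φ.symm (Pi.single i v) ∈ D i := (hΦ i _).mpr fun l hl => by
      simp [Pi.single_eq_of_ne hl]
    have h2 : Matrix.toLin' (g : Matrix (Fin n) (Fin n) F) (Φ.symm (Pi.single i v)) ∈ D (σ i) := by
      rw [← hσ i]; exact Submodule.mem_map_of_mem h1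
    exact (hΦ _ _).mp h2 j hj
  refine ⟨σ, fun i => LinearMap.proj (σ i) ∘ₗ G ∘ₗ LinearMap.single F (fun _ : Fin t => Fin m → F) i,
    fun i => (injective_iff_map_eq_zero _).mpr fun v hv => ?_, fun x i => ?_⟩
  · have h0 : G (Pi.single i v) = 0 := funext fun j => by
      by_cases hj : j = σ i
      · subst hj; simpa using hv
      · exact hoff i v j hj
    have h1 : (Φ.symm (Pi.single i v) : Fin n → F) = 0 := by
      apply MaxSub.mulVec_injective g
      apply Φ.injective
      show Φ _ = Φ _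
      rw [hG, Φ.apply_symm_apply, h0]
      simp
    simpa using congrFun (Φ.symm.map_eq_zero_iff.mp h1) i
  · rw [hG]
    conv_lhs => rw [← Finset.univ_sum_single (Φ x), map_sum]
    rw [Finset.sum_apply, Finset.sum_eq_single i]
    · simp
    · intro j _ hj
      exact hoff j _ _ fun h => hj (σ.injective h).symm
    · simp

/-- The general construction. -/
theorem exists_between_of_form [Finite F] (hD : Geo.IsMDecomposition m D) (ht : 5 ≤ t)
    (hΦ : ∀ i, ∀ x, x ∈ D i ↔ ∀ j, j ≠ i → Φ x j = 0)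
    (P : (Fin t → Fin m → F) → (Fin t → Fin m → F) → F)
    (hP : ∀ (σ : Equiv.Perm (Fin t)) (T : Fin t → ((Fin m → F) →ₗ[F] (Fin m → F))),
      (∀ i, Function.Injective (T i)) → ∀ c d c' d' : Fin t → Fin m → F,
      (∀ i, c' (σ i) = T i (c i)) → (∀ i, d' (σ i) = T i (d i)) → P c' d' = P c d)
    (R : (Fin t → Fin m → F) ≃ₗ[F] (Fin t → Fin m → F)) (hRR : ∀ c, R (R c) = c)
    (hR : ∀ c d, P (R c) (R d) = P c d) (s : Fin m) (a : Fin t) (b b' : Fin t) (hbb' : b ≠ b')
    (hmix : ∀ H : (Fin t → Fin m → F) ≃ₗ[F] (Fin t → Fin m → F),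
      H = LinearEquiv.funCongrLeft F (Fin m → F)
        (Equiv.swap (⟨3, by omega⟩ : Fin t) ⟨4, by omega⟩) →
      R (H (R (H (Pi.single a (Pi.single s 1))))) b ≠ 0 ∧
        R (H (R (H (Pi.single a (Pi.single s 1))))) b' ≠ 0)
    (i₀ i₁ : Fin t) (hne : i₀ ≠ i₁) (s₁ : Fin m)
    (htop : P (Pi.single i₀ (Pi.single s 1) + Pi.single i₁ (Pi.single s₁ 1))
        (Pi.single i₀ (Pi.single s 1) + Pi.single i₁ (Pi.single s₁ 1)) ≠
      P (Pi.single i₀ (Pi.single s 1)) (Pi.single i₀ (Pi.single s 1))) :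
    ∃ K : Subgroup (GL (Fin n) F), Geo.decompositionStabilizer D ⊓ Geo.specialLinear (Fin n) F < K ∧
      K < Geo.specialLinear (Fin n) F := by
  classical
  set f : (Fin n → F) → (Fin n → F) → F := fun x y => P (Φ x) (Φ y) with hf
  refine ⟨isom f ⊓ Geo.specialLinear (Fin n) F, lt_of_le_not_ge ?_ fun hge => ?_,
    lt_of_le_not_ge inf_le_right fun hge => ?_⟩
  · rintro g ⟨hg, hg'⟩
    obtain ⟨σ, T, hT, hgT⟩ := exists_perm_comp Φ hΦ hg
    exact ⟨mem_isom.mpr fun x y => hP σ T hT _ _ _ _ (hgT x) (hgT y), hg'⟩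
  · set p : Fin t ≃ Fin t := Equiv.swap ⟨3, by omega⟩ ⟨4, by omega⟩
    set H := LinearEquiv.funCongrLeft F (Fin m → F) p
    have hHH : ∀ c, H (H c) = c := fun c => funext fun i => by
      simp [H, LinearEquiv.funCongrLeft_apply, LinearMap.funLeft_apply, p]
    have hH : ∀ c d, P (H c) (H d) = P c d := fun c d =>
      hP p (fun _ => LinearMap.id) (fun _ => Function.injective_id) c d _ _
        (fun i => by simp [H, LinearEquiv.funCongrLeft_apply, LinearMap.funLeft_apply, p])
        (fun i => by simp [H, LinearEquiv.funCongrLeft_apply, LinearMap.funLeft_apply, p])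
    set g := toGL Φ R * toGL Φ H * toGL Φ R * toGL Φ H with hg
    have hgx : ∀ x, Φ ((g : Matrix (Fin n) (Fin n) F) *ᵥ x) = R (H (R (H (Φ x)))) := fun x => by
      simp only [hg, Units.val_mul, ← mulVec_mulVec, toGL_mulVec]
    have hmem : g ∈ isom f ⊓ Geo.specialLinear (Fin n) F := by
      refine ⟨mem_isom.mpr fun x y => ?_, ?_⟩
      · show P (Φ _) (Φ _) = _
        rw [hgx, hgx, hR, hH, hR, hH]
      · show Matrix.GeneralLinearGroup.det g = 1
        rw [hg, map_mul, map_mul, map_mul]
        rw [show ∀ x y : Fˣ, x * y * x * y = x * x * (y * y) from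
          fun x y => by rw [mul_assoc (x * y), mul_mul_mul_comm], det_sq Φ R hRR, det_sq Φ H hHH,
          one_mul]
    obtain ⟨σ, T, hT, hgT⟩ := exists_perm_comp Φ hΦ (hge hmem).1
    set x := Φ.symm (Pi.single a (Pi.single s 1)) with hx
    have key : ∀ j, j ≠ σ a → Φ ((g : Matrix (Fin n) (Fin n) F) *ᵥ x) j = 0 := fun j hj => by
      rw [← σ.apply_symm_apply j, hgT, hx, Φ.apply_symm_apply,
        Pi.single_eq_of_ne (fun h => hj (by rw [← h, Equiv.apply_symm_apply])), map_zero]
    rw [hgx, hx, Φ.apply_symm_apply] at key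
    obtain ⟨h1, h2⟩ := hmix H rfl
    by_cases hb : b = σ a
    · exact h2 (key b' (hb ▸ hbb'.symm))
    · exact h1 (key b hb)
  · set u := Φ.symm (Pi.single i₀ (Pi.single s 1)) with hu
    set w := Φ.symm (Pi.single i₁ (Pi.single s₁ 1)) with hw
    have huw : u ∉ Submodule.span F {w} := fun h => by
      obtain ⟨r, hr⟩ := Submodule.mem_span_singleton.mp h
      have := congrFun (congrFun (congrArg Φ hr) i₀) s
      simp [hu, hw, Pi.single_eq_of_ne hne] at this
    obtain ⟨φ, hφ, hφu⟩ := exists_annihilator huw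
    have hφw : φ ⬝ᵥ w = 0 := hφ w (Submodule.mem_span_singleton_self w)
    have h := mem_isom.mp (hge (tv_mem_specialLinear w φ)).1 u u
    rw [tv_mulVec hφw, hφu, one_smul] at h
    simp only [hf, map_add, hu, hw, Φ.apply_symm_apply] at h
    exact htop h

/-- `(Σ xᵢ yᵢ^k)` on coordinates. -/
def diagForm (k : ℕ) (c d : Fin t → Fin 1 → F) : F := ∑ i, c i 0 * d i 0 ^ k

/-- The number of non-zero components, as a scalar. -/
def countForm (c _d : Fin t → Fin 2 → F) : F :=
  ∑ i, (c i 0 * c i 0 + c i 0 * c i 1 + c i 1 * c i 1)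

/-- For a finite field F with q elements and n ≥ 13, let D be a decomposition of F^n into t ≥ 2 independent subspaces of equal dimension m spanning F^n, where m = 1 and q ≤ 4, or m = 2 and q = 2. Then the elements of SL_n(F) permuting the members of D form a subgroup that is not maximal: some subgroup lies strictly between it and SL_n(F). -/
theorem result {F : Type*} [Field F] [Fintype F] (n : ℕ) (hn : 13 ≤ n) {t : ℕ} (m : ℕ) (D : Fin t → Submodule F (Fin n → F)) (hD : Cfsg.Geo.IsMDecomposition m D) (h : (m = 1 ∧ Fintype.card F ≤ 4) ∨ (m = 2 ∧ Fintype.card F = 2)) : ∃ K : Subgroup (Matrix.GeneralLinearGroup (Fin n) F), Cfsg.Geo.decompositionStabilizer D ⊓ Cfsg.Geo.specialLinear (Fin n) F < K ∧ K < Cfsg.Geo.specialLinear (Fin n) F := by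
  classical
  obtain ⟨Φ, hΦ⟩ := exists_coords hD
  have hmt : t * m = n := by
    have := Φ.finrank_eq
    rw [Module.finrank_fintype_fun_eq_card, Fintype.card_fin, Module.finrank_pi_fintype] at this
    simpa [mul_comm] using this.symm
  have h1q := Fintype.one_lt_card (α := F)
  rcases h with ⟨rfl, hq⟩ | ⟨rfl, hq⟩
  · -- monomial groups
    have ht : 5 ≤ t := by omega
    obtain ⟨k, hk, hnorm, h3⟩ : ∃ k : ℕ, (∀ x y : F, (x + y) ^ k = x ^ k + y ^ k) ∧
        (∀ u : F, u ≠ 0 → u * u ^ k = 1) ∧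
        ((2 : F) = 0 ∧ (∀ x : F, (x ^ k) ^ k = x) ∨ (3 : F) = 0 ∧ k = 1) := by
      have hp : ∀ u : F, u ≠ 0 → u ^ (Fintype.card F - 1) = 1 := fun u hu =>
        FiniteField.pow_card_sub_one_eq_one u hu
      have hc : (Fintype.card F : F) = 0 := Nat.cast_card_eq_zero F
      have hpow : ∀ x : F, x ^ Fintype.card F = x := FiniteField.pow_card
      obtain h | h | h : Fintype.card F = 2 ∨ Fintype.card F = 3 ∨ Fintype.card F = 4 := by omega
      · rw [h] at hp hc hpow
        exact ⟨1, by simp, fun u hu => by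
          have e : u = 1 := by simpa using hp u hu
          rw [e]; simp, Or.inl ⟨by exact_mod_cast hc, by simp⟩⟩
      · rw [h] at hp hc hpow
        exact ⟨1, by simp, fun u hu => by rw [pow_one, ← pow_two]; exact hp u hu,
          Or.inr ⟨by exact_mod_cast hc, rfl⟩⟩
      · rw [h] at hp hc hpow
        have h2 : (2 : F) = 0 := by
          have : (2 : F) * 2 = 0 := by norm_num; exact_mod_cast hc
          exact mul_self_eq_zero.mp this
        exact ⟨2, fun x y => by linear_combination x * y * h2,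
          fun u hu => by rw [← pow_succ']; exact hp u hu,
          Or.inl ⟨h2, fun x => by rw [← pow_mul]; exact hpow x⟩⟩
    set A : Finset (Fin t) := {⟨0, by omega⟩, ⟨1, by omega⟩, ⟨2, by omega⟩, ⟨3, by omega⟩} with hA
    let L : (Fin t → Fin 1 → F) →ₗ[F] (Fin t → Fin 1 → F) :=
      { toFun := fun c i _ => c i 0 + if i ∈ A then ∑ j ∈ A, c j 0 else 0
        map_add' := fun c d => by
          funext i _; simp only [Pi.add_apply, Finset.sum_add_distrib]; split_ifs <;> ring
        map_smul' := fun r c => by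
          funext i _; simp only [Pi.smul_apply, smul_eq_mul, ← Finset.mul_sum, RingHom.id_apply]
          split_ifs <;> ring }
    have hAc : A.card = 4 := by simp [hA, Fin.ext_iff]
    have hsumL : ∀ c, ∑ j ∈ A, L c j 0 = 5 * ∑ j ∈ A, c j 0 := fun c => by
      show ∑ j ∈ A, (c j 0 + if j ∈ A then ∑ l ∈ A, c l 0 else 0) = _
      rw [Finset.sum_add_distrib, Finset.sum_congr rfl (g := fun _ => ∑ l ∈ A, c l 0)
        fun j hj => if_pos hj, Finset.sum_const, hAc]
      ring
    have h60 : (6 : F) = 0 := by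
      rcases h3 with ⟨h, -⟩ | ⟨h, -⟩
      · linear_combination (3 : F) * h
      · linear_combination (2 : F) * h
    have hLL : ∀ c, L (L c) = c := fun c => by
      funext i s
      rw [Subsingleton.elim s 0]
      show L c i 0 + (if i ∈ A then ∑ j ∈ A, L c j 0 else 0) = c i 0
      rw [hsumL]
      show (c i 0 + if i ∈ A then ∑ j ∈ A, c j 0 else 0) + _ = _
      split_ifs
      · linear_combination (∑ j ∈ A, c j 0) * h60
      · ring
    have hk0 : (0 : F) ^ k = 0 := by
      rcases h3 with ⟨-, h⟩ | ⟨-, h⟩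
      · have := hk 0 0; rw [add_zero] at this; simpa using this
      · simp [h]
    have hksum : ∀ (s : Finset (Fin t)) (g : Fin t → F), (∑ j ∈ s, g j) ^ k = ∑ j ∈ s, g j ^ k := by
      intro s g
      induction s using Finset.induction with
      | empty => simpa using hk0
      | insert a s ha ih => rw [Finset.sum_insert ha, Finset.sum_insert ha, hk, ih]
    refine exists_between_of_form Φ hD ht hΦ (diagForm k)
      (fun σ T hT c d c' d' hc hd => ?_)
      (LinearEquiv.ofInvolutive L hLL) hLL (fun c d => ?_) 0 ⟨0, by omega⟩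
      ⟨2, by omega⟩ ⟨4, by omega⟩ (by simp [Fin.ext_iff]) ?_
      ⟨0, by omega⟩ ⟨1, by omega⟩ (by simp [Fin.ext_iff]) 0 ?_
    · unfold diagForm
      rw [← Equiv.sum_comp σ (fun i => c' i 0 * d' i 0 ^ k)]
      refine Finset.sum_congr rfl fun i _ => ?_
      have e : ∀ v : Fin 1 → F, T i v 0 = T i (fun _ => 1) 0 * v 0 := fun v => by
        conv_lhs => rw [show v = v 0 • (fun _ => (1 : F)) from funext fun s => by
          rw [Subsingleton.elim s 0]; simp, map_smul]
        simp [mul_comm]
      have hu : T i (fun _ => 1) 0 ≠ 0 := fun h0 => one_ne_zero (α := F) (congrFun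
        ((injective_iff_map_eq_zero _).mp (hT i) (fun _ => (1 : F))
          (funext fun s => by rw [Subsingleton.elim s 0]; exact h0)) 0)
      rw [hc, hd, e, e (d i), mul_pow]
      linear_combination (c i 0 * d i 0 ^ k) * hnorm _ hu
    · show ∑ i, L c i 0 * L d i 0 ^ k = ∑ i, c i 0 * d i 0 ^ k
      set S := ∑ j ∈ A, c j 0
      set S' := ∑ j ∈ A, d j 0
      have e : ∀ i, L c i 0 * L d i 0 ^ k = c i 0 * d i 0 ^ k +
          if i ∈ A then S * d i 0 ^ k + c i 0 * S' ^ k + S * S' ^ k else 0 := fun i => by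
        show (c i 0 + if i ∈ A then S else 0) * (d i 0 + if i ∈ A then S' else 0) ^ k = _
        split_ifs
        · rw [hk]; ring
        · simp
      simp only [e]
      rw [Finset.sum_add_distrib, Finset.sum_ite_mem, Finset.univ_inter, Finset.sum_add_distrib,
        Finset.sum_add_distrib, ← Finset.mul_sum, ← Finset.sum_mul, ← hksum, Finset.sum_const, hAc]
      simp only [nsmul_eq_mul, Nat.cast_ofNat]
      linear_combination (S * S' ^ k) * h60
    · rintro H rfl
      set p0 : Fin t := ⟨0, by omega⟩ with hp0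
      set H := LinearEquiv.funCongrLeft F (Fin 1 → F)
        (Equiv.swap (⟨3, by omega⟩ : Fin t) ⟨4, by omega⟩) with hH'
      set e : Fin t → Fin 1 → F := Pi.single p0 (Pi.single 0 1) with he
      have hH : ∀ c i, H c i = c (Equiv.swap (⟨3, by omega⟩ : Fin t) ⟨4, by omega⟩ i) :=
        fun _ _ => rfl
      have hR : ∀ c i, LinearEquiv.ofInvolutive L hLL c i 0 =
          c i 0 + if i ∈ A then ∑ j ∈ A, c j 0 else 0 := fun _ _ => rfl
      have he' : ∀ i, H e i 0 = if i = p0 then 1 else 0 := fun i => by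
        rw [hH, he]
        by_cases hi : i = p0
        · subst hi; simp [Equiv.swap_apply_def, Fin.ext_iff, hp0]
        · rw [if_neg hi, Pi.single_eq_of_ne]
          · rfl
          · intro h; apply hi
            exact (Equiv.swap_apply_eq_iff.mp h).trans (Equiv.swap_apply_of_ne_of_ne
              (by simp [Fin.ext_iff, hp0]) (by simp [Fin.ext_iff, hp0]))
      have h1 : ∀ i, LinearEquiv.ofInvolutive L hLL (H e) i 0 =
          (if i = p0 then 1 else 0) + if i ∈ A then 1 else 0 := fun i => by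
        rw [hR]
        simp only [he']
        rw [Finset.sum_ite_eq' A p0, if_pos (show p0 ∈ A by simp [hA, hp0])]
      constructor <;> intro h0 <;> have h := congrFun h0 0
      · rw [hR, if_pos (by simp [hA])] at h
        simp [hH, h1, hA, hp0, Finset.sum_insert, Equiv.swap_apply_def, Fin.ext_iff] at h
        rcases h3 with ⟨h', -⟩ | ⟨h', -⟩
        · exact one_ne_zero (α := F) (by linear_combination h - (2 : F) * h')
        · exact one_ne_zero (α := F) (by linear_combination (2 : F) * h - (3 : F) * h')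
      · rw [hR, if_neg (by simp [hA, Fin.ext_iff])] at h
        simp [hH, h1, hA, hp0, Equiv.swap_apply_def, Fin.ext_iff] at h
    · unfold diagForm
      have hne : (⟨0, by omega⟩ : Fin t) ≠ ⟨1, by omega⟩ := by simp [Fin.ext_iff]
      rw [Finset.sum_eq_add (⟨0, by omega⟩ : Fin t) ⟨1, by omega⟩ hne,
        Finset.sum_eq_single (⟨0, by omega⟩ : Fin t)]
      · simp [Pi.single_eq_of_ne hne, Pi.single_eq_of_ne hne.symm, hk0]
      all_goals intros
      all_goals simp_all [Pi.single_apply]
  · -- quadratic form counting components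
    have ht : 5 ≤ t := by omega
    have h2 : (2 : F) = 0 := by
      have hc : (Fintype.card F : F) = 0 := Nat.cast_card_eq_zero F
      rw [hq] at hc; exact_mod_cast hc
    have h01 : ∀ x : F, x = 0 ∨ x = 1 := fun x => by
      by_cases hx : x = 0
      · exact Or.inl hx
      · have := FiniteField.pow_card_sub_one_eq_one x hx
        rw [hq] at this; exact Or.inr (by simpa using this)
    set A : Finset (Fin t) := {⟨0, by omega⟩, ⟨1, by omega⟩, ⟨3, by omega⟩} with hA
    let L : (Fin t → Fin 2 → F) →ₗ[F] (Fin t → Fin 2 → F) :=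
      { toFun := fun c i s => c i s + if i ∈ A ∧ s = 0 then ∑ j ∈ A, c j 1 else 0
        map_add' := fun c d => by
          funext i s; simp only [Pi.add_apply, Finset.sum_add_distrib]; split_ifs <;> ring
        map_smul' := fun r c => by
          funext i s; simp only [Pi.smul_apply, smul_eq_mul, ← Finset.mul_sum, RingHom.id_apply]
          split_ifs <;> ring }
    have hAc : A.card = 3 := by simp [hA, Fin.ext_iff]
    have hL1 : ∀ c i, L c i 1 = c i 1 := fun c i => by simp [L]
    have hLL : ∀ c, L (L c) = c := fun c => by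
      funext i s
      show L c i s + (if i ∈ A ∧ s = 0 then ∑ j ∈ A, L c j 1 else 0) = c i s
      simp only [hL1]
      show (c i s + if i ∈ A ∧ s = 0 then ∑ j ∈ A, c j 1 else 0) + _ = _
      split_ifs
      · linear_combination (∑ j ∈ A, c j 1) * h2
      · ring
    refine exists_between_of_form Φ hD ht hΦ countForm
      (fun σ T hT c d c' d' hc _ => ?_)
      (LinearEquiv.ofInvolutive L hLL) hLL (fun c d => ?_) 1 ⟨0, by omega⟩
      ⟨3, by omega⟩ ⟨4, by omega⟩ (by simp [Fin.ext_iff]) ?_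
      ⟨0, by omega⟩ ⟨1, by omega⟩ (by simp [Fin.ext_iff]) 1 ?_
    · unfold countForm
      rw [← Equiv.sum_comp σ (fun i => c' i 0 * c' i 0 + c' i 0 * c' i 1 + c' i 1 * c' i 1)]
      refine Finset.sum_congr rfl fun i _ => ?_
      have one : ∀ v : Fin 2 → F, v ≠ 0 → v 0 * v 0 + v 0 * v 1 + v 1 * v 1 = 1 := fun v hv => by
        rcases h01 (v 0) with r | r <;> rcases h01 (v 1) with r' | r'
        · exact absurd (funext (Fin.forall_fin_two.mpr ⟨r, r'⟩)) hv
        · rw [r, r']; ring
        · rw [r, r']; ring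
        · rw [r, r']; linear_combination h2
      rw [hc]
      by_cases hv : c i = 0
      · rw [hv, map_zero]
      · rw [one _ hv, one _ fun h0 => hv ((injective_iff_map_eq_zero _).mp (hT i) _ h0)]
    · show countForm (L c) (L d) = countForm c d
      unfold countForm
      set S := ∑ j ∈ A, c j 1 with hS
      have e : ∀ i, L c i 0 * L c i 0 + L c i 0 * L c i 1 + L c i 1 * L c i 1 =
          (c i 0 * c i 0 + c i 0 * c i 1 + c i 1 * c i 1) +
            if i ∈ A then S * S + S * c i 1 else 0 := fun i => by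
        rw [hL1]
        show (c i 0 + if i ∈ A ∧ (0 : Fin 2) = 0 then S else 0) *
          (c i 0 + if i ∈ A ∧ (0 : Fin 2) = 0 then S else 0) +
          (c i 0 + if i ∈ A ∧ (0 : Fin 2) = 0 then S else 0) * c i 1 + c i 1 * c i 1 = _
        by_cases hi : i ∈ A
        · rw [if_pos ⟨hi, rfl⟩, if_pos hi]; linear_combination (c i 0 * S) * h2
        · rw [if_neg (fun h => hi h.1), if_neg hi]; simp
      simp only [e]
      have e2 : ∑ i ∈ A, (S * S + S * c i 1) = 3 * (S * S) + S * S := by
        rw [Finset.sum_add_distrib, Finset.sum_const, hAc, ← Finset.mul_sum, ← hS]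
        simp
      rw [Finset.sum_add_distrib, Finset.sum_ite_mem, Finset.univ_inter, e2]
      linear_combination (2 * (S * S)) * h2
    · rintro H rfl
      set p0 : Fin t := ⟨0, by omega⟩ with hp0
      set H := LinearEquiv.funCongrLeft F (Fin 2 → F)
        (Equiv.swap (⟨3, by omega⟩ : Fin t) ⟨4, by omega⟩) with hH'
      set e : Fin t → Fin 2 → F := Pi.single p0 (Pi.single 1 1) with he
      have hH : ∀ c i, H c i = c (Equiv.swap (⟨3, by omega⟩ : Fin t) ⟨4, by omega⟩ i) :=
        fun _ _ => rfl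
      have hR : ∀ c i s, LinearEquiv.ofInvolutive L hLL c i s =
          c i s + if i ∈ A ∧ s = 0 then ∑ j ∈ A, c j 1 else 0 := fun _ _ _ => rfl
      set q3 : Fin t := ⟨3, by omega⟩ with hq3
      set q4 : Fin t := ⟨4, by omega⟩ with hq4
      set q1 : Fin t := ⟨1, by omega⟩ with hq1
      have n01 : p0 ≠ q1 := by simp [Fin.ext_iff, hp0, hq1]
      have n03 : p0 ≠ q3 := by simp [Fin.ext_iff, hp0, hq3]
      have n04 : p0 ≠ q4 := by simp [Fin.ext_iff, hp0, hq4]
      have n13 : q1 ≠ q3 := by simp [Fin.ext_iff, hq1, hq3]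
      have n14 : q1 ≠ q4 := by simp [Fin.ext_iff, hq1, hq4]
      have n34 : q3 ≠ q4 := by simp [Fin.ext_iff, hq3, hq4]
      have s0 : Equiv.swap q3 q4 p0 = p0 := Equiv.swap_apply_of_ne_of_ne n03 n04
      have s1 : Equiv.swap q3 q4 q1 = q1 := Equiv.swap_apply_of_ne_of_ne n13 n14
      constructor <;> intro h0 <;> have h := congrFun h0 0 <;>
        simp [hR, hH, hA, he, Finset.sum_insert, s0, s1, n01, n03, n04, n13, n14, n34, n01.symm,
          n03.symm, n04.symm, n13.symm, n14.symm, n34.symm] at h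
    · unfold countForm
      have hne : (⟨0, by omega⟩ : Fin t) ≠ ⟨1, by omega⟩ := by simp [Fin.ext_iff]
      rw [Finset.sum_eq_add (⟨0, by omega⟩ : Fin t) ⟨1, by omega⟩ hne,
        Finset.sum_eq_single (⟨0, by omega⟩ : Fin t)]
      · simp [Pi.single_eq_of_ne hne, Pi.single_eq_of_ne hne.symm]
      all_goals intros
      all_goals simp_all [Pi.single_apply]

end Cfsg.Agent.S5635
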