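import Cfsg.Statements.S5634
import Cfsg.Agent.S5635
import Cfsg.Agent.MaxSub.Frame.Transport

set_option autoImplicit false
open Cfsg

namespace Cfsg.Agent.S5634

open Cfsg.Agent.MaxSub Cfsg.Agent.MaxSub.Frame Matrix

/-- For a finite field F with q elements and n ≥ 13, let D be a decomposition of F^n into t ≥ 2 independent subspaces of equal dimension m ≥ 1 spanning F^n. Unless m = 1 and q ≤ 4, or m = 2 and q = 2, the elements of SL_n(F) permuting the members of D form a maximal subgroup of SL_n(F). -/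
theorem result {F : Type*} [Field F] [Fintype F] (n : ℕ) (hn : 13 ≤ n) {t : ℕ} (m : ℕ) (D : Fin t → Submodule F (Fin n → F)) (hD : Cfsg.Geo.IsMDecomposition m D) (h1 : ¬ (m = 1 ∧ Fintype.card F ≤ 4)) (h2 : ¬ (m = 2 ∧ Fintype.card F = 2)) : Cfsg.Geo.IsMaximalIn (Cfsg.Geo.specialLinear (Fin n) F) (Cfsg.Geo.decompositionStabilizer D ⊓ Cfsg.Geo.specialLinear (Fin n) F) := by
  classical
  obtain ⟨Φ, hΦ⟩ := Cfsg.Agent.S5635.exists_coords hD
  set Ψ := Φ.trans pairCoords with hΨdef
  have hΨ : ∀ i x, x ∈ D i ↔ ∀ y : Fin m × Fin t, y.2 ≠ i → Ψ x y = 0 := fun i x =>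
    (hΦ i x).trans ⟨fun h y hy => congrFun (h y.2 hy) y.1, fun h j hj => funext fun a => h (a, j) hj⟩
  have hmt : t * m = n := by
    have := Φ.finrank_eq
    rw [Module.finrank_fintype_fun_eq_card, Fintype.card_fin, Module.finrank_pi_fintype] at this
    simpa [mul_comm] using this.symm
  have hm0 : m ≠ 0 := by rintro rfl; simp at hmt; omega
  haveI : NeZero m := ⟨hm0⟩
  have ht2 : 2 ≤ t := hD.two_le
  set e := chart Ψ with he
  have hmem := map_mem_iff Ψ hD hΨ
  refine isMaximalIn_of inf_le_right ?_ ?_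
  · set y₀ : Fin m × Fin t := (0, ⟨0, by omega⟩)
    set y₁ : Fin m × Fin t := (0, ⟨1, by omega⟩)
    have hne : y₀ ≠ y₁ := by simp [y₀, y₁, Fin.ext_iff]
    refine ⟨e.symm (el y₀ y₁ 1), ?_, fun h => ?_⟩
    · show Matrix.GeneralLinearGroup.det _ = 1
      rw [← det_chart Ψ, ← he, MulEquiv.apply_symm_apply]
      exact det_tv _ _
    · obtain ⟨σ, hσ⟩ := (hmem _).mp h.1
      rw [← he, MulEquiv.apply_symm_apply, el_coe hne] at hσ
      have e1 : y₀.2 = σ y₁.2 := by
        by_contra hh
        have := hσ y₀ y₁ hh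
        simp [transvection, hne] at this
      have e2 : y₁.2 = σ y₁.2 := by
        by_contra hh
        have := hσ y₁ y₁ hh
        simp [transvection, hne] at this
      exact hne (by simpa [y₀, y₁] using e1.trans e2.symm)
  · intro M hHM hMK g hg hgH
    set M' := M.map e.toMonoidHom with hM'
    have hB : HasBlocks M' := fun k hk hdet => by
      refine ⟨e.symm k, hHM ⟨(hmem _).mpr (by rwa [← he, MulEquiv.apply_symm_apply]), ?_⟩,
        e.apply_symm_apply k⟩
      show Matrix.GeneralLinearGroup.det _ = 1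
      rw [← det_chart Ψ, ← he, MulEquiv.apply_symm_apply, hdet]
    have hsl : M' ≤ Geo.specialLinear (Fin m × Fin t) F := by
      rintro - ⟨k, hk, rfl⟩
      show Matrix.GeneralLinearGroup.det (chart Ψ k) = 1
      rw [det_chart]
      exact hMK hk
    have hgn : ¬ BlockPerm (e g) := fun h => hgH ⟨(hmem g).mpr h, hMK hg⟩
    have hg' : e g ∈ M' := ⟨g, hg, rfl⟩
    have hle : Geo.specialLinear (Fin m × Fin t) F ≤ M' := by
      by_cases hm1 : m = 1
      · subst hm1
        have hmon : HasMon M' := fun k ⟨σ, hσ⟩ hdet => hB k ⟨fun l => (σ (0, l)).2, fun x y hxy =>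
          hσ x y fun e => hxy (by rw [e, show y = (0, y.2) from Prod.ext (Subsingleton.elim _ _) rfl])⟩ hdet
        refine specialLinear_le_of_mon hmon hsl (by simp; omega) ?_ hg' fun ⟨σ, hσ⟩ => hgn
          ⟨fun l => (σ (0, l)).2, fun x y hxy =>
            hσ x y fun e => hxy (by rw [e, show y = (0, y.2) from Prod.ext (Subsingleton.elim _ _) rfl])⟩
        rw [Nat.card_eq_fintype_card]
        by_contra hq
        exact h1 ⟨rfl, by omega⟩
      · refine hB.specialLinear_le_of_cross (by omega) (hB.hasCross (by omega) (fun h => ⟨?_, ?_⟩) hg' hgn)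
        · subst h; omega
        · rw [Nat.card_eq_fintype_card]
          have := Fintype.one_lt_card (α := F)
          by_contra hq
          exact h2 ⟨h, by omega⟩
    intro k hk
    obtain ⟨k', hk', hkk⟩ := hle (show e k ∈ Geo.specialLinear (Fin m × Fin t) F from by
      show Matrix.GeneralLinearGroup.det (chart Ψ k) = 1
      rw [det_chart]; exact hk)
    exact e.injective hkk ▸ hk'

end Cfsg.Agent.S5634
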