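import Cfsg.Statements.S5637
import Cfsg.Agent.TensorMax.Linear

set_option autoImplicit false
open Cfsg

namespace Cfsg.Agent.S5637

open Matrix Cfsg.Agent.MaxSub Cfsg.Agent.TensorMax

section
variable {F : Type*} [Field F] {n a b : ℕ}

/-- The change of coordinates of a tensor decomposition. -/
def phi (e : Fin n ≃ Fin a × Fin b) (P : GL (Fin n) F) : GL (Fin a × Fin b) F ≃* GL (Fin n) F :=
  (Cfsg.Geo.glReindex e.symm).trans (MulAut.conj P)

theorem mem_tensor_iff (e : Fin n ≃ Fin a × Fin b) (P : GL (Fin n) F) (g : GL (Fin a × Fin b) F) :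
    phi e P g ∈ Cfsg.Geo.tensorProductSubgroup a b e P ↔ g ∈ Cfsg.Geo.kroneckerSubgroup a b F := by
  constructor
  · rintro ⟨-, ⟨k, hk, rfl⟩, h⟩
    exact (phi e P).injective (show phi e P k = phi e P g from h) ▸ hk
  · exact fun h => ⟨_, ⟨g, h, rfl⟩, rfl⟩

theorem det_phi (e : Fin n ≃ Fin a × Fin b) (P : GL (Fin n) F) (g : GL (Fin a × Fin b) F) :
    Matrix.GeneralLinearGroup.det (phi e P g) = Matrix.GeneralLinearGroup.det g := by
  rw [show phi e P g = P * Cfsg.Geo.glReindex e.symm g * P⁻¹ from rfl, map_mul, map_mul, map_inv,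
    mul_comm _ (Matrix.GeneralLinearGroup.det (Cfsg.Geo.glReindex e.symm g)), mul_inv_cancel_right]
  exact Units.ext (Matrix.det_reindex_self e.symm _)

theorem exists_not_mem (ha : 2 ≤ a) (hb : 2 ≤ b) (e : Fin n ≃ Fin a × Fin b) (P : GL (Fin n) F) :
    ∃ g : GL (Fin n) F, g ∈ Cfsg.Geo.specialLinear (Fin n) F ∧
      g ∉ Cfsg.Geo.tensorProductSubgroup a b e P := by
  set p := e.symm (⟨0, by omega⟩, ⟨0, by omega⟩)
  set q := e.symm (⟨1, by omega⟩, ⟨0, by omega⟩)
  have hpq : p ≠ q := fun h => by have := e.symm.injective h; simp at this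
  refine ⟨Frame.el p q 1, tv_mem_specialLinear _ _, fun hm => ?_⟩
  have hd : Pi.single q (1 : F) ⬝ᵥ (Pi.single p 1 : Fin n → F) = 0 := Frame.el_ortho hpq 1
  have hr : ((Frame.el p q (1 : F) : GL (Fin n) F).1 - (1 : F) • 1).rank = 1 := by
    rw [Frame.el, tv_coe hd, one_smul, add_sub_cancel_left]
    refine le_antisymm (rank_vecMulVec_le _ _) (Nat.one_le_iff_ne_zero.mpr fun h => ?_)
    have h2 := LinearMap.range_eq_bot.mp (Submodule.finrank_eq_zero.mp (h :
      Module.finrank F (LinearMap.range (vecMulVec (Pi.single p 1 : Fin n → F) (Pi.single q 1)).mulVecLin) = 0))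
    have := congrFun (LinearMap.congr_fun h2 (Pi.single q 1)) p
    simp [vecMulVec_apply] at this
  refine Cfsg.Agent.ClMax99.TensorRank.not_conj_mem (g₀ := 1) (c := (1 : F)) (c' := (1 : F)) ?_ ?_
    (by simpa using hm)
  · rw [hr]; omega
  · rw [hr]; intro h; exact absurd (Nat.le_of_dvd one_pos h) (by omega)

end

/-- For a finite field F with q elements and n = n₁ n₂ ≥ 13 with 2 ≤ n₁ < n₂, excluding n₁ = q = 2, the stabiliser in SL_n(F) of a tensor decomposition F^n ≅ F^(n₁) ⊗ F^(n₂) (the conjugate by any P of the Kronecker-product subgroup transported along any bijection Fin n ≃ Fin n₁ × Fin n₂, intersected with SL_n(F)) is a maximal subgroup of SL_n(F). -/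
theorem result {F : Type*} [Field F] [Fintype F] (n : ℕ) (hn : 13 ≤ n) (n₁ n₂ : ℕ) (h1 : 2 ≤ n₁) (h12 : n₁ < n₂) (hex : ¬ (n₁ = 2 ∧ Fintype.card F = 2)) (e : Fin n ≃ Fin n₁ × Fin n₂) (P : Matrix.GeneralLinearGroup (Fin n) F) : Cfsg.Geo.IsMaximalIn (Cfsg.Geo.specialLinear (Fin n) F) (Cfsg.Geo.tensorProductSubgroup n₁ n₂ e P ⊓ Cfsg.Geo.specialLinear (Fin n) F) := by
  have h2 : 2 ≤ n₂ := by omega
  have hq : 3 ≤ n₁ ∨ 3 ≤ Nat.card F := by
    rw [Nat.card_eq_fintype_card]
    have := Fintype.one_lt_card (α := F)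
    omega
  obtain ⟨g, hg, hgT⟩ := exists_not_mem h1 h2 e P
  refine ⟨lt_of_le_not_ge inf_le_right fun hc => hgT (hc hg).1, fun M hM hMK => ?_⟩
  by_contra hne
  push Not at hne
  obtain ⟨g₀, hg₀, hgn⟩ := SetLike.exists_of_lt (lt_of_le_of_ne hM (Ne.symm hne.1))
  have hg₁ : g₀ ∉ Cfsg.Geo.tensorProductSubgroup n₁ n₂ e P := fun h => hgn ⟨h, hMK hg₀⟩
  refine hne.2 (le_antisymm hMK fun x hx => ?_)
  have hdet : ∀ y, Matrix.GeneralLinearGroup.det ((phi e P).symm y) = Matrix.GeneralLinearGroup.det y :=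
    fun y => by rw [← det_phi e P, MulEquiv.apply_symm_apply]
  have hle := specialLinear_le (M.comap (phi e P).toMonoidHom)
    (fun k l hkl => hM ⟨(mem_tensor_iff e P _).mpr (kr_mem k l),
      show Matrix.GeneralLinearGroup.det (phi e P (kr k l)) = 1 by rw [det_phi, hkl]⟩)
    h1 h12 hq (g₀ := (phi e P).symm g₀) (by simpa using hg₀)
    (by rw [hdet]; exact hMK hg₀)
    (fun hm => hg₁ (by simpa using (mem_tensor_iff e P _).mpr hm))
  have := hle (show (phi e P).symm x ∈ Cfsg.Geo.specialLinear _ F by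
    show Matrix.GeneralLinearGroup.det _ = 1
    rw [hdet]; exact hx)
  simpa using this

end Cfsg.Agent.S5637
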