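import Cfsg.Statements.S5639
import Cfsg.Agent.MaxSub.SubfieldMax.Linear
-- import your own Cfsg.Agent.* helpers here

set_option autoImplicit false
open Cfsg

namespace Cfsg.Agent.S5639

/-- For a finite field F, a subfield F₀ with |F| = |F₀| ^ r for a prime r, and n ≥ 13, the subfield group (the conjugate by any P of the product of GL_n(F₀) with the non-zero scalars of F, intersected with SL_n(F)) is a maximal subgroup of SL_n(F). -/
theorem result {F : Type*} [Field F] [Fintype F] (n : ℕ) (hn : 13 ≤ n) (F₀ : Subfield F) (r : ℕ) (hr : r.Prime) (hcard : Fintype.card F = Nat.card F₀ ^ r) (P : Matrix.GeneralLinearGroup (Fin n) F) : Cfsg.Geo.IsMaximalIn (Cfsg.Geo.specialLinear (Fin n) F) (Cfsg.Geo.subfieldSubgroup F₀ P ⊓ Cfsg.Geo.specialLinear (Fin n) F) := by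
  classical
  open Cfsg.Agent.MaxSub Cfsg.Agent.MaxSub.SubfieldMax Matrix in
  exact (by
    have hq : Nat.card F = Nat.card F₀ ^ r := by rw [Nat.card_eq_fintype_card]; exact hcard
    have hq₀ : 2 ≤ Nat.card F₀ := Finite.one_lt_card
    have htop : ∀ T : Subfield F, F₀ ≤ T → T = F₀ ∨ T = ⊤ := by
      intro T hT
      letI : Algebra F₀ T := (Subfield.inclusion hT).toAlgebra
      haveI : IsScalarTower F₀ T F := IsScalarTower.of_algebraMap_eq fun x => rfl
      have hF : Module.finrank F₀ F = r := by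
        have := Module.natCard_eq_pow_finrank (K := F₀) (V := F)
        rw [hq] at this
        exact (Nat.pow_right_injective hq₀ this).symm
      have hmul := Module.finrank_mul_finrank F₀ T F
      rw [hF] at hmul
      rcases hr.eq_one_or_self_of_dvd _ ⟨_, hmul.symm⟩ with h1 | h1
      · left
        refine le_antisymm (fun x hx => ?_) hT
        obtain ⟨c, hc⟩ := (finrank_eq_one_iff_of_nonzero' (1 : T) one_ne_zero).1 h1 ⟨x, hx⟩
        have := congrArg Subtype.val hc
        rw [Algebra.smul_def] at this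
        simp at this
        rw [← this]; exact c.2
      · right
        rw [h1] at hmul
        have h2 : Module.finrank T F = 1 := by
          have := hr.pos
          exact Nat.eq_of_mul_eq_mul_left this (by rw [hmul, mul_one])
        refine eq_top_iff.2 fun x _ => ?_
        obtain ⟨c, hc⟩ := (finrank_eq_one_iff_of_nonzero' (1 : F) one_ne_zero).1 h2 x
        rw [← hc, Algebra.smul_def]
        simp
        exact c.2
    let S := Cfsg.Geo.specialLinear (Fin n) F
    let M₀ := (Matrix.GeneralLinearGroup.map (F₀.subtype : F₀ →+* F)).range ⊔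
      Cfsg.Geo.scalars (Fin n) F
    have hM : ∀ x : Matrix.GeneralLinearGroup (Fin n) F,
        x ∈ Cfsg.Geo.subfieldSubgroup F₀ P ↔ P⁻¹ * x * P ∈ M₀ := by
      intro x
      refine ⟨?_, fun h => ⟨_, h, by simp [mul_assoc]⟩⟩
      rintro ⟨y, hy, rfl⟩
      simpa [mul_assoc] using hy
    have hdetS : ∀ x y : Matrix.GeneralLinearGroup (Fin n) F, y ∈ S → x * y * x⁻¹ ∈ S := by
      intro x y hy
      exact (inferInstance : (MonoidHom.ker
        (Matrix.GeneralLinearGroup.det (n := Fin n) (R := F))).Normal).conj_mem y hy x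
    have hratM : ∀ v φ : Fin n → F, IsRat F₀ v → IsRat F₀ φ → φ ⬝ᵥ v = 0 → tv v φ ∈ M₀ := by
      intro v φ hv hφ h0
      refine Subgroup.mem_sup_left ⟨tv (fun i => (⟨v i, hv i⟩ : F₀)) (fun i => ⟨φ i, hφ i⟩), ?_⟩
      refine Units.ext ?_
      have h0' : (fun i => (⟨φ i, hφ i⟩ : F₀)) ⬝ᵥ (fun i => (⟨v i, hv i⟩ : F₀)) = 0 := by
        refine Subtype.val_injective ?_
        rw [show ((0 : F₀) : F) = 0 from rfl, ← h0]
        exact (map_sum F₀.subtype _ _).trans rfl
      show (tv (fun i => (⟨v i, hv i⟩ : F₀)) (fun i => (⟨φ i, hφ i⟩ : F₀))).1.map F₀.subtype = _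
      rw [tv_coe h0, tv_coe h0']
      ext a b
      simp [Matrix.map_apply, Matrix.one_apply, vecMulVec_apply]
      split_ifs <;> simp
    refine isMaximalIn_of inf_le_right ?_ ?_
    · obtain ⟨c, hc⟩ : ∃ c : F, c ∉ F₀ := by
        by_contra hall
        push Not at hall
        have : Nat.card F ≤ Nat.card F₀ := Nat.card_le_card_of_injective
          (fun x => (⟨x, hall x⟩ : F₀)) fun x y h => congrArg Subtype.val h
        rw [hq] at this
        have h2 : Nat.card F₀ ^ 1 < Nat.card F₀ ^ r := Nat.pow_lt_pow_right hq₀ hr.one_lt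
        rw [pow_one] at h2
        omega
      let a : Fin n := ⟨0, by omega⟩
      let b : Fin n := ⟨1, by omega⟩
      have hab : a ≠ b := by simp [a, b]
      let T := tv (Pi.single a (1 : F)) (Pi.single b c)
      have h0 : Pi.single b c ⬝ᵥ Pi.single a (1 : F) = 0 := by simp [Pi.single_eq_of_ne hab]
      refine ⟨P * T * P⁻¹, hdetS P T (tv_mem_specialLinear _ _), fun hm => ?_⟩
      have hm' : T ∈ M₀ := by
        have := (hM _).1 (Subgroup.mem_inf.1 hm).1
        simpa [mul_assoc] using this
      haveI := Cfsg.Geo.scalars_normal (ι := Fin n) (F := F)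
      obtain ⟨y, hy, z, hz, hyz⟩ := Subgroup.mem_sup_of_normal_right.1 hm'
      obtain ⟨B, rfl⟩ := hy
      obtain ⟨s, hs⟩ := (Cfsg.Geo.mem_scalars_iff z).1 hz
      have hmat := congrArg Units.val hyz
      rw [Units.val_mul, hs, tv_coe h0, Matrix.mul_smul, Matrix.mul_one] at hmat
      have e1 := congrFun (congrFun hmat a) a
      have e2 := congrFun (congrFun hmat a) b
      simp [vecMulVec_apply, Matrix.one_apply, Pi.single_eq_of_ne hab, hab] at e1 e2
      refine hc ?_
      have hs1 : (s : F) ∈ F₀ := by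
        rw [eq_inv_of_mul_eq_one_left e1]; exact inv_mem (SetLike.coe_mem _)
      rw [← e2]
      exact mul_mem hs1 (SetLike.coe_mem _)
    intro M hMM hMS g hg hgM
    let L := M.comap (MulAut.conj P).toMonoidHom
    have hL : HasRat F₀ L := fun v φ hv hφ h0 => by
      show P * tv v φ * P⁻¹ ∈ M
      refine hMM (Subgroup.mem_inf.2 ⟨(hM _).2 ?_, hdetS P _ (tv_mem_specialLinear _ _)⟩)
      simpa [mul_assoc] using hratM v φ hv hφ h0
    set h := P⁻¹ * g * P with hh
    have hhL : h ∈ L := by show P * h * P⁻¹ ∈ M; simpa [hh, mul_assoc] using hg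
    have hhM : h ∉ M₀ := fun hm => hgM (Subgroup.mem_inf.2 ⟨(hM g).2 hm, hMS hg⟩)
    have hn4 : 4 ≤ Fintype.card (Fin n) := by rw [Fintype.card_fin]; omega
    obtain ⟨i, j, a, c, hij, hnr⟩ : ∃ i j a c, i ≠ j ∧
        (h : Matrix (Fin n) (Fin n) F) a i *
          ((h⁻¹ : Matrix.GeneralLinearGroup (Fin n) F) : Matrix (Fin n) (Fin n) F) j c ∉ F₀ := by
      by_contra hall
      push Not at hall
      obtain ⟨s, hs, hsr⟩ := rational_of_conj (by omega) h fun i j a c hij => hall i j a c hij
      refine hhM ?_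
      let B : Matrix (Fin n) (Fin n) F₀ := fun a b => ⟨_, hsr a b⟩
      have hB : B.map F₀.subtype = s⁻¹ • (h : Matrix (Fin n) (Fin n) F) := by
        ext a b; simp only [B, Matrix.map_apply, Matrix.smul_apply, smul_eq_mul]
        exact div_eq_inv_mul _ _
      have hBdet : B.det ≠ 0 := fun e => by
        have := congrArg Matrix.det hB
        rw [← RingHom.mapMatrix_apply, ← RingHom.map_det, e, map_zero, Matrix.det_smul] at this
        rcases mul_eq_zero.1 this.symm with h1 | h1
        · exact hs (by simpa using eq_zero_of_pow_eq_zero h1)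
        · exact (Matrix.isUnit_iff_isUnit_det _).1 h.isUnit |>.ne_zero h1
      have hsc : Units.map (Matrix.scalar (Fin n) : F →+* _).toMonoidHom (Units.mk0 s hs) ∈
          Cfsg.Geo.scalars (Fin n) F := ⟨_, rfl⟩
      have hB' : Matrix.GeneralLinearGroup.map (F₀.subtype : F₀ →+* F)
          (Matrix.GeneralLinearGroup.mkOfDetNeZero B hBdet) ∈ M₀ :=
        Subgroup.mem_sup_left ⟨_, rfl⟩
      convert mul_mem hB' (Subgroup.mem_sup_right hsc) using 1
      refine Units.ext ?_
      show (h : Matrix (Fin n) (Fin n) F) = B.map F₀.subtype * Matrix.scalar (Fin n) s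
      rw [hB, Matrix.scalar_apply, ← Matrix.smul_eq_mul_diagonal, smul_smul,
        mul_inv_cancel₀ hs, one_smul]
    have h0 : Pi.single j (1 : F) ⬝ᵥ Pi.single i (1 : F) = 0 := by simp [Pi.single_eq_of_ne hij]
    have hconj := mul_mem (mul_mem hhL
      (hL _ _ (isRat_single i (one_mem _)) (isRat_single j (one_mem _)) h0)) (inv_mem hhL)
    rw [tv_conj h h0] at hconj
    have hfull := full_of_tv htop hn4 hL (by rw [Fintype.card_fin]; omega) hq
      (by rw [vecMul_inv_dotProduct]; exact h0) hconj (i := a) (j := c) (by simpa using hnr)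
    intro x hx
    have := hfull (hdetS P⁻¹ x hx)
    have h2 : P * (P⁻¹ * x * P⁻¹⁻¹) * P⁻¹ ∈ M := this
    simpa [mul_assoc] using h2)

end Cfsg.Agent.S5639
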