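import Cfsg.Statements.S5642
import Cfsg.Agent.MaxSub.Alt

set_option autoImplicit false
open Cfsg

namespace Cfsg.Agent.S5642

open Matrix Cfsg.Agent.MaxSub

variable {ι : Type} [Fintype ι] [DecidableEq ι] {F : Type*} [Field F]
variable {f : (ι → F) → (ι → F) → F}

/-- A linear map sending every vector to a multiple of itself is a scalar. -/
theorem eq_smul_of_forall (L : (ι → F) →ₗ[F] (ι → F)) (h : ∀ v, ∃ c : F, L v = c • v) :
    ∃ c : F, ∀ v, L v = c • v := by
  rcases subsingleton_or_nontrivial (ι → F) with hs | hn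
  · exact ⟨0, fun v => Subsingleton.elim _ _⟩
  obtain ⟨v₀, hv₀⟩ := exists_ne (0 : ι → F)
  obtain ⟨c, hc⟩ := h v₀
  refine ⟨c, fun v => ?_⟩
  obtain ⟨a, ha⟩ := h v
  by_cases hli : ∃ r : F, v = r • v₀
  · obtain ⟨r, rfl⟩ := hli
    rw [map_smul, hc, smul_comm]
  · obtain ⟨b, hb⟩ := h (v + v₀)
    rw [map_add, ha, hc] at hb
    have hab : (a - b) • v = (b - c) • v₀ := by linear_combination (norm := module) hb
    by_cases hne : a - b = 0
    · rw [hne, zero_smul, eq_comm, smul_eq_zero] at hab
      rw [ha, sub_eq_zero.mp hne, sub_eq_zero.mp (hab.resolve_right hv₀)]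
    · exact absurd ⟨(a - b)⁻¹ * (b - c), by rw [← smul_smul, ← hab, smul_smul,
        inv_mul_cancel₀ hne, one_smul]⟩ hli

theorem foreign_of_notMem (hf : Geo.IsSymplecticForm f) {g : GL ι F}
    (hg : g ∉ Geo.similarityGroup f) :
    ∃ v : ι → F, v ≠ 0 ∧
      ∀ a : F, rep f v ᵥ* ((g⁻¹ : GL ι F) : Matrix ι ι F) ≠ a • rep f ((g : Matrix ι ι F) *ᵥ v) := by
  by_contra hc
  simp only [not_exists, not_and, not_forall, not_not] at hc
  -- `L` represents the pulled back form
  obtain ⟨L, hL⟩ : ∃ L : (ι → F) →ₗ[F] (ι → F), ∀ x v, f x (L v) =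
      f ((g : Matrix ι ι F) *ᵥ x) ((g : Matrix ι ι F) *ᵥ v) := by
    choose L hL using fun v => exists_rep hf.bilinear hf.nondegenerate
      (rep f ((g : Matrix ι ι F) *ᵥ v) ᵥ* (g : Matrix ι ι F))
    have key : ∀ x v, f x (L v) = f ((g : Matrix ι ι F) *ᵥ x) ((g : Matrix ι ι F) *ᵥ v) := by
      intro x v
      rw [← rep_dot hf.bilinear, hL, ← dotProduct_mulVec, rep_dot hf.bilinear]
    have inj : ∀ a b, (∀ x, f x a = f x b) → a = b := by
      intro a b h
      by_contra hne
      obtain ⟨x, hx⟩ := (hf.nondegenerate (a - b) (sub_ne_zero.mpr hne)).1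
      exact hx (by rw [form_sub_right hf.bilinear, h, sub_self])
    refine ⟨{ toFun := L, map_add' := fun u v => inj _ _ fun x => ?_,
              map_smul' := fun c v => inj _ _ fun x => ?_ }, key⟩
    · rw [hf.bilinear.add_right, key, key, key, mulVec_add, hf.bilinear.add_right]
    · rw [RingHom.id_apply, hf.bilinear.smul_right, key, key, mulVec_smul, hf.bilinear.smul_right]
  have hscal : ∀ v, ∃ c : F, L v = c • v := by
    intro v
    by_cases hv : v = 0
    · exact ⟨0, by simp [hv]⟩
    obtain ⟨a, ha⟩ := hc v hv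
    have hv' : v = a • L v := by
      by_contra hne
      obtain ⟨x, hx⟩ := (hf.nondegenerate (v - a • L v) (sub_ne_zero.mpr hne)).1
      apply hx
      rw [form_sub_right hf.bilinear, hf.bilinear.smul_right, hL, sub_eq_zero,
        ← rep_dot hf.bilinear, ← rep_dot hf.bilinear, ← smul_eq_mul, ← smul_dotProduct, ← ha,
        vecMul_inv_dotProduct]
    have ha0 : a ≠ 0 := fun h => hv (by rw [hv', h, zero_smul])
    exact ⟨a⁻¹, by conv_rhs => rw [hv', smul_smul, inv_mul_cancel₀ ha0, one_smul]⟩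
  obtain ⟨c, hcs⟩ := eq_smul_of_forall L hscal
  have hfg : ∀ u v, f ((g : Matrix ι ι F) *ᵥ u) ((g : Matrix ι ι F) *ᵥ v) = c * f u v := fun u v => by
    rw [← hL, hcs, hf.bilinear.smul_right]
  rcases subsingleton_or_nontrivial (ι → F) with hs | hn
  · exact hg ⟨1, fun u v => by
      simp [Subsingleton.elim u 0, Subsingleton.elim v 0, form_zero_left hf.bilinear]⟩
  obtain ⟨v₀, hv₀⟩ := exists_ne (0 : ι → F)
  obtain ⟨x, hx⟩ := (hf.nondegenerate _ (mulVec_ne_zero g hv₀)).1
  have hc0 : c ≠ 0 := fun h => hx (by rw [← mulVec_inv_mulVec g x, hfg, h, zero_mul])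
  exact hg ⟨Units.mk0 c hc0, hfg⟩

theorem dualSet_full (hf : Geo.IsSymplecticForm f) {M : Subgroup (GL ι F)}
    (hM : ∀ v c, st f v c ∈ M) {v : ι → F} {φ : ι → F} (hφ : φ ∈ dualSet M v)
    (hfor : ∀ a : F, φ ≠ a • rep f v) (ψ : ι → F) (hψ : ψ ⬝ᵥ v = 0) : ψ ∈ dualSet M v := by
  obtain ⟨w, rfl⟩ := exists_rep hf.bilinear hf.nondegenerate φ
  obtain ⟨z, rfl⟩ := exists_rep hf.bilinear hf.nondegenerate ψ
  have hw : f v w = 0 := by rw [← rep_dot hf.bilinear]; exact hφ.1
  rw [rep_dot hf.bilinear] at hψ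
  have step : ∀ z, f v z = 0 → f w z ≠ 0 → rep f z ∈ dualSet M v := by
    intro z hz hne
    have h1 := conj_mem_dualSet (hM z (f w z)⁻¹) hφ
    rw [rep_vecMul_inv hf.bilinear (st_mem_isom hf _ _), st_mulVec hf, st_mulVec hf, hz,
      inv_mul_cancel₀ hne, one_smul, mul_zero, zero_smul, add_zero, rep_add hf.bilinear] at h1
    simpa using add_mem (neg_mem hφ) h1
  have h0 : ∃ z₀, f v z₀ = 0 ∧ f w z₀ ≠ 0 := by
    by_contra hall
    simp only [not_exists, not_and, not_not] at hall
    have hv0 : v ≠ 0 := fun h => by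
      by_cases hw0 : w = 0
      · exact hfor 0 (by rw [hw0, rep_zero hf.bilinear, zero_smul])
      obtain ⟨x, hx⟩ := (hf.nondegenerate w hw0).2
      exact hx (hall x (by rw [h, form_zero_left hf.bilinear]))
    obtain ⟨y, hy⟩ := (hf.nondegenerate v hv0).2
    apply hfor (f w y / f v y)
    rw [← rep_smul hf.bilinear]
    congr 1
    by_contra hne
    obtain ⟨x, hx⟩ := (hf.nondegenerate _ (sub_ne_zero.mpr hne)).2
    apply hx
    rw [form_sub_left hf.bilinear, hf.bilinear.smul_left]
    have := hall (x - (f v x / f v y) • y) (by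
      rw [form_sub_right hf.bilinear, hf.bilinear.smul_right, div_mul_cancel₀ _ hy, sub_self])
    rw [form_sub_right hf.bilinear, hf.bilinear.smul_right] at this
    field_simp at this ⊢
    linear_combination this
  obtain ⟨z₀, hz₀, hne₀⟩ := h0
  by_cases hne : f w z = 0
  · have h1 := step (z + z₀) (by rw [hf.bilinear.add_right, hψ, hz₀, add_zero])
      (by rwa [hf.bilinear.add_right, hne, zero_add])
    rw [rep_add hf.bilinear] at h1
    simpa using add_mem h1 (neg_mem (step z₀ hz₀ hne₀))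
  · exact step z hψ hne

theorem specialLinear_le (hf : Geo.IsSymplecticForm f) {M : Subgroup (GL ι F)}
    (hM : ∀ v c, st f v c ∈ M) {g : GL ι F} (hg : g ∈ M) (hgn : g ∉ Geo.similarityGroup f) :
    Geo.specialLinear ι F ≤ M := by
  obtain ⟨v, hv, hfor⟩ := foreign_of_notMem hf hgn
  set v' := (g : Matrix ι ι F) *ᵥ v
  have h1 : rep f v ∈ dualSet M v :=
    ⟨by rw [rep_dot hf.bilinear, hf.alternating], by simpa [st] using hM v 1⟩
  have hfull := dualSet_full hf hM (conj_mem_dualSet hg h1) hfor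
  refine specialLinear_le_of_tv_mem fun u φ hφ => ?_
  by_cases hu : u = 0
  · rw [hu, tv_zero_left]; exact one_mem M
  obtain ⟨k, hk, -, hku⟩ := exists_mem_mulVec_eq hf hM (mulVec_ne_zero g hv) hu
  have h2 : φ ᵥ* (k : Matrix ι ι F) ∈ dualSet M v' :=
    hfull _ (by rw [← dotProduct_mulVec, hku, hφ])
  have := conj_mem_dualSet hk h2
  rw [hku, vecMul_vecMul, Units.mul_inv, vecMul_one] at this
  exact this.2


/-- For a finite field F and n ≥ 13, let f be a non-degenerate symplectic form on F^n (so n is even). Then the elements of SL_n(F) that are similarities of f (f(gu, gv) = c f(u, v) for a non-zero scalar c depending on g) form a maximal subgroup of SL_n(F). -/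
theorem result {F : Type*} [Field F] [Fintype F] (n : ℕ) (hn : 13 ≤ n) (f : (Fin n → F) → (Fin n → F) → F) (hf : Cfsg.Geo.IsSymplecticForm f) : Cfsg.Geo.IsMaximalIn (Cfsg.Geo.specialLinear (Fin n) F) (Cfsg.Geo.similarityGroup f ⊓ Cfsg.Geo.specialLinear (Fin n) F) := by
  refine isMaximalIn_of inf_le_right ?_ fun M hHM hMK g hg hgH => ?_
  · -- some transvection is not a similitude
    have h0 : NeZero n := ⟨by omega⟩
    set v : Fin n → F := Pi.single 0 1 with hv
    have hv0 : v ≠ 0 := by simp [hv]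
    -- `φ` kills `v` and is not a multiple of `rep f v`
    obtain ⟨i, hi⟩ := Function.ne_iff.mp (rep_ne_zero hf.bilinear hf.nondegenerate hv0)
    have hi0 : i ≠ 0 := fun h => hi (by
      subst h
      show f (Pi.single 0 1) v = 0
      exact hf.alternating v)
    obtain ⟨j, hj0, hji⟩ : ∃ j : Fin n, j ≠ 0 ∧ j ≠ i := by
      by_contra hc
      simp only [not_exists, not_and, not_not] at hc
      have : Finset.univ ⊆ ({0, i} : Finset (Fin n)) := fun j _ => by
        simp only [Finset.mem_insert, Finset.mem_singleton]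
        exact (Classical.em (j = 0)).imp id (hc j)
      have h2 := (Finset.card_le_card this).trans Finset.card_le_two
      simp at h2
      omega
    set φ : Fin n → F := Pi.single j 1 with hφ
    have hφv : φ ⬝ᵥ v = 0 := by simp [hφ, hv, hj0]
    have hφn : ∀ a : F, φ ≠ a • rep f v := by
      intro a h
      have h1 := congrFun h i
      simp [hφ, Ne.symm hji] at h1
      rcases h1 with h1 | h1
      · have h2 := congrFun h j
        simp [hφ, h1] at h2
      · exact hi h1
    refine ⟨tv v φ, tv_mem_specialLinear v φ, fun hmem => ?_⟩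
    obtain ⟨c, hc⟩ := hmem.1
    have key : ∀ x y, f x y + (φ ⬝ᵥ y) * f x v + (φ ⬝ᵥ x) * f v y = (c : F) * f x y := by
      intro x y
      rw [← hc x y, tv_mulVec hφv, tv_mulVec hφv]
      simp only [hf.bilinear.add_left, hf.bilinear.add_right, hf.bilinear.smul_left,
        hf.bilinear.smul_right, hf.alternating]
      ring
    obtain ⟨y, hy⟩ := (hf.nondegenerate v hv0).2
    have hc1 : (c : F) = 1 := by
      have h := key v y
      rw [hf.alternating, hφv] at h
      simp only [mul_zero, add_zero, zero_mul] at h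
      exact (mul_eq_right₀ hy).mp h.symm
    apply hφn (-(φ ⬝ᵥ y) / f v y)
    refine dotProduct_eq _ _ fun x => ?_
    rw [smul_dotProduct, rep_dot hf.bilinear, smul_eq_mul]
    have h := key x y
    rw [hc1, one_mul] at h
    field_simp
    linear_combination h
  · refine specialLinear_le hf (fun v c => hHM ⟨⟨1, fun u w => ?_⟩, tv_mem_specialLinear _ _⟩) hg
      fun hs => hgH ⟨hs, hMK hg⟩
    exact (st_mem_isom hf v c u w).trans (one_mul _).symm

end Cfsg.Agent.S5642
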