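import Cfsg.Statements.S5886
import Cfsg.Agent.ExtFieldMax.Main

set_option autoImplicit false
open Cfsg

namespace Cfsg.Agent.S5886

open Cfsg.Agent.ExtFieldMax in
open Cfsg.Agent.MaxSub in
/-- Let F be a finite field, n a positive integer and r a prime that divides n with r < n. Let K be a subalgebra of the algebra of n × n matrices over F which is a field of degree r over F (commutative, every non-zero element invertible, of dimension r over F; it contains the scalars). Then the normaliser N of K in GL_n(F) — the invertible F-linear maps that are semilinear over the field K, a group of type ΓL_{n/r}(F_{q^r}) for |F| = q — is a maximal subgroup of GL_n(F), and N ∩ SL_n(F) is a maximal subgroup of SL_n(F). No lower bound on n is assumed. -/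
theorem result {F : Type*} [Field F]
    [Fintype F] (n r : ℕ) (hr : r.Prime) (hrn : r ∣ n) (hlt : r < n) (K : Subalgebra F (Matrix (Fin n) (Fin n) F))
    (hK : Cfsg.Geo.IsFieldSubalgebra r K) :
    IsCoatom (Cfsg.Geo.subalgebraNormalizer K) ∧
      Cfsg.Geo.IsMaximalIn (Cfsg.Geo.specialLinear (Fin n) F)
        (Cfsg.Geo.subalgebraNormalizer K ⊓ Cfsg.Geo.specialLinear (Fin n) F) := by
  have hcard : r < Fintype.card (Fin n) := by rwa [Fintype.card_fin]
  have hdvd : r ∣ Fintype.card (Fin n) := by rwa [Fintype.card_fin]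
  have hC : ∀ H : Subgroup (GL (Fin n) F),
      Geo.subalgebraNormalizer K ⊓ Geo.specialLinear (Fin n) F ≤ H →
      H ≤ Geo.subalgebraNormalizer K ∨ Geo.specialLinear (Fin n) F ≤ H := fun H hH =>
    le_normalizer_or_specialLinear_le hK hr hdvd hcard H
      fun g hg hgc => hH ⟨mem_normalizer_of_comm hgc, hg⟩
  obtain ⟨t, htS, htN⟩ := exists_tv_not_mem hK hr hcard
  refine ⟨⟨fun he => htN (he ▸ Subgroup.mem_top t), fun M hM => ?_⟩,
    isMaximalIn_of inf_le_right ⟨t, htS, fun h => htN h.1⟩ fun M hHM hMS g hg hgH => ?_⟩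
  · rcases hC M (inf_le_left.trans hM.le) with h | hSL
    · exact absurd (hM.trans_le h) (lt_irrefl _)
    rw [eq_top_iff]
    intro g _
    letI : Field K := (isField_of hK hr.one_lt.le).toField
    haveI : Module.Finite F K := Module.finite_of_finrank_pos (by rw [hK.finrank_eq]; exact hr.pos)
    obtain ⟨u, hu⟩ := FiniteField.unitsMap_norm_surjective F K (Matrix.GeneralLinearGroup.det g)
    haveI : Nonempty (Fin n) := ⟨⟨0, by omega⟩⟩
    obtain ⟨v, hv⟩ : ∃ v : Fin n → F, v ≠ 0 := exists_ne 0
    obtain ⟨φ, hφ, hφv⟩ := exists_one hK hr hcard hv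
    have e : 1 + (LinearMap.mulLeft F ((u : K) - 1) ∘ₗ φ) v = u := by
      show 1 + ((u : K) - 1) * φ v = u
      rw [hφv, mul_one, add_sub_cancel]
    have hkl := isKLin_smul mul_comm hφ ((u : K) - 1)
    have hunit : IsUnit (1 + (LinearMap.mulLeft F ((u : K) - 1) ∘ₗ φ) v) := by
      rw [e]; exact u.isUnit
    set d := el hK _ hkl v hunit
    have hd : Matrix.GeneralLinearGroup.det d = Matrix.GeneralLinearGroup.det g := by
      refine Units.ext ?_
      rw [← hu, el_det hK _ hkl v hunit, e]
      rfl
    have hdM : d ∈ M := hM.le (mem_normalizer_of_comm (el_comm hK _ hkl v hunit))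
    have h1 : g * d⁻¹ ∈ M := hSL (show Matrix.GeneralLinearGroup.det (g * d⁻¹) = 1 by
      rw [map_mul, map_inv, hd, mul_inv_cancel])
    simpa using mul_mem h1 hdM
  · rcases hC M hHM with h | h
    · exact absurd ⟨h hg, hMS hg⟩ hgH
    · exact h

end Cfsg.Agent.S5886
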