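import Cfsg.Statements.S0225
import Cfsg.Agent.ZStar.Main
import Cfsg.Agent.S0216

set_option autoImplicit false
open Cfsg

namespace Cfsg.Agent.S0225

/-- If a finite group G has even order but contains no Klein four-subgroup (2-rank 1), then some involution z of G is central modulo a normal subgroup of odd order: there is a normal subgroup N of odd order containing every commutator z g z⁻¹ g⁻¹. -/
theorem result {G : Type*} [Group G] [Finite G] (heven : Even (Nat.card G)) (hrank : ∀ E : Subgroup G, ¬ IsKleinFour E) : ∃ z : G, orderOf z = 2 ∧ ∃ N : Subgroup G, N.Normal ∧ Odd (Nat.card N) ∧ ∀ g : G, z * g * z⁻¹ * g⁻¹ ∈ N := by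
  haveI : Fact (Nat.Prime 2) := ⟨Nat.prime_two⟩
  obtain ⟨P⟩ : Nonempty (Sylow 2 G) := inferInstance
  haveI : Nontrivial (P : Subgroup G) := Finite.one_lt_card_iff_nontrivial.mp
    (lt_of_lt_of_le one_lt_two (Nat.le_of_dvd Nat.card_pos
      (P.dvd_card_of_dvd_card (even_iff_two_dvd.mp heven))))
  haveI := IsPGroup.center_nontrivial P.2
  obtain ⟨k, hk⟩ := IsPGroup.iff_card.mp ((P.2.to_subgroup (Subgroup.center (P : Subgroup G))))
  obtain ⟨z', hz'⟩ : ∃ z : Subgroup.center (P : Subgroup G), orderOf z = 2 :=
    exists_prime_orderOf_dvd_card' 2 (by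
      have h1 := Finite.one_lt_card (α := Subgroup.center (P : Subgroup G))
      rw [hk] at h1 ⊢
      exact dvd_pow_self 2 fun h => by simp [h] at h1)
  set z : G := ((z' : (P : Subgroup G)) : G) with hzdef
  have hz : orderOf z = 2 := by rw [hzdef, Subgroup.orderOf_coe, Subgroup.orderOf_coe, hz']
  have hiso : ∀ g : G, g * z * g⁻¹ ∈ P → g * z * g⁻¹ = z := by
    intro g hg
    by_contra hne
    generalize hx : g * z * g⁻¹ = x at hg hne
    have hx2 : orderOf x = 2 := by rw [← hx, Involution.orderOf_conj, hz]
    have hcomm : Commute z x :=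
      (congrArg Subtype.val (Subgroup.mem_center_iff.mp z'.2 ⟨x, hg⟩)).symm
    have ez := Involution.mul_self_of_orderOf hz
    have ex := Involution.mul_self_of_orderOf hx2
    have hmem : ∀ y, y ∈ Subgroup.closure ({z, x} : Set G) ↔ y = 1 ∨ y = z ∨ y = x ∨ y = z * x := by
      intro y
      constructor
      · intro hy
        obtain ⟨i, hi⟩ := (Involution.mem_closure_pair_involutions ez ex).mp hy
        have h2 : (z * x) ^ (2 : ℤ) = 1 := by
          rw [zpow_two, mul_assoc, ← mul_assoc x, ← hcomm.eq, mul_assoc z x, ex, mul_one, ez]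
        rcases Int.even_or_odd i with ⟨j, rfl⟩ | ⟨j, rfl⟩
        · rw [← two_mul, zpow_mul, h2, one_zpow] at hi
          rcases hi with hi | hi
          · exact Or.inl hi
          · exact Or.inr (Or.inl (hi.trans (mul_one z)))
        · rw [zpow_add, zpow_mul, h2, one_zpow, one_mul, zpow_one] at hi
          rcases hi with hi | hi
          · exact Or.inr (Or.inr (Or.inr hi))
          · exact Or.inr (Or.inr (Or.inl (hi.trans (by rw [← mul_assoc, ez, one_mul]))))
      · rintro (rfl | rfl | rfl | rfl)
        · exact one_mem _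
        · exact Subgroup.subset_closure (by simp)
        · exact Subgroup.subset_closure (by simp)
        · exact mul_mem (Subgroup.subset_closure (by simp)) (Subgroup.subset_closure (by simp))
    refine hrank (Subgroup.closure ({z, x} : Set G)) ⟨?_, ?_⟩
    · classical
      rw [← SetLike.coe_sort_coe, Nat.card_coe_set_eq,
        show ((Subgroup.closure ({z, x} : Set G) : Subgroup G) : Set G) =
          (({1, z, x, z * x} : Finset G) : Set G) by ext y; simp [hmem], Set.ncard_coe_finset]
      have n1 := Involution.ne_one_of_orderOf hz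
      have n2 := Involution.ne_one_of_orderOf hx2
      have n3 : z ≠ x := fun h => hne h.symm
      have n4 : z * x ≠ 1 := fun h => n3 (by
        rw [← inv_eq_of_mul_eq_one_right h, Involution.inv_of_orderOf hz])
      rw [Finset.card_insert_of_notMem (by simp [n1.symm, n2.symm, n4.symm]),
        Finset.card_insert_of_notMem (by simp [n3, n2]),
        Finset.card_insert_of_notMem (by simp [n1]), Finset.card_singleton]
    · refine le_antisymm (Nat.le_of_dvd two_pos (Monoid.exponent_dvd_of_forall_pow_eq_one
        fun y => Subtype.ext ?_)) ?_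
      · rw [SubgroupClass.coe_pow, Subgroup.coe_one, pow_two]
        rcases (hmem y).mp y.2 with h | h | h | h <;> rw [h]
        · exact one_mul 1
        · exact ez
        · exact ex
        · rw [mul_assoc, ← mul_assoc x, ← hcomm.eq, mul_assoc z x, ex, mul_one, ez]
      · have h1 : orderOf (⟨z, (hmem z).mpr (Or.inr (Or.inl rfl))⟩ :
            Subgroup.closure ({z, x} : Set G)) = 2 := by rw [Subgroup.orderOf_mk, hz]
        exact h1 ▸ Nat.le_of_dvd (Monoid.ExponentExists.of_finite.exponent_pos)
          (Monoid.order_dvd_exponent _)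
  exact ⟨z, hz, ZStar.zStar hz ((S0216.result P z hz (z' : (P : Subgroup G)).2).mp hiso)⟩

end Cfsg.Agent.S0225
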