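import Cfsg.Statements.S0938
import Cfsg.Agent.Lib.BlocksDefect.Kernel
-- import your own Cfsg.Agent.* helpers here

set_option autoImplicit false
open Cfsg

namespace Cfsg.Agent.S0938

/-- Let B be a block of the finite group G relative to a maximal ideal M of the algebraic integers containing the prime p, and let χ ∈ B. Then the kernel of B (the set of g with ψ g = ψ 1 for all ψ ∈ B) is a normal subgroup of order prime to p contained in the kernel of χ, and it contains every normal subgroup of order prime to p on which χ takes the value χ(1); that is, it is O_p' of the kernel of χ. -/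
theorem result {G : Type*} [Group G] [Finite G] (p : ℕ) [Fact p.Prime] (M : Ideal Cfsg.AlgInt) (hM : Cfsg.IsPModular p M) (B : Set (Cfsg.IrrCharacter G)) (hB : Cfsg.IsPBlock M B) (χ : Cfsg.IrrCharacter G) (hχ : χ ∈ B) : ∃ K : Subgroup G, K.Normal ∧ (K : Set G) = Cfsg.blockKer B ∧ ¬ p ∣ Nat.card K ∧ (∀ g ∈ K, (χ : G → ℂ) g = (χ : G → ℂ) 1) ∧ ∀ N : Subgroup G, N.Normal → ¬ p ∣ Nat.card N → (∀ g ∈ N, (χ : G → ℂ) g = (χ : G → ℂ) 1) → N ≤ K := by
  classical
  have := BlocksCore.isPrime hM
  have := Fintype.ofFinite G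
  let K : Subgroup G := ⨅ φ : B, CharCore.charKernel (CharCore.irr_isCharacter (φ : Cfsg.IrrCharacter G))
  have hmem : ∀ g, g ∈ K ↔ g ∈ Cfsg.blockKer B := fun g => by
    simp [K, Cfsg.blockKer, Subgroup.mem_iInf, CharCore.mem_charKernel]
  have hKn : K.Normal := Subgroup.normal_iInf_normal fun φ =>
    CharCore.charKernel_normal (CharCore.irr_isCharacter (φ : Cfsg.IrrCharacter G))
  refine ⟨K, hKn, Set.ext hmem, ?_, fun g hg => (hmem g).mp hg χ hχ, ?_⟩
  · intro hdvd
    obtain ⟨u, hu⟩ := exists_prime_orderOf_dvd_card' p hdvd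
    have hu' : p ∣ orderOf ((u : G))⁻¹ := by rw [orderOf_inv, Subgroup.orderOf_coe, hu]
    have h0 := BlocksCore.blockCoeff_eq_zero_of_dvd_orderOf hM hB hu'
    refine BlocksDefect.blockCoeff_one_ne_zero ⟨χ, hχ⟩ ?_
    rw [← h0, BlocksCore.blockCoeff_eq_sum, BlocksCore.blockCoeff_eq_sum, inv_inv, inv_one]
    congr 1
    refine Finset.sum_congr rfl fun φ _ => ?_
    by_cases h : φ ∈ B
    · rw [(hmem u).mp u.2 φ h]
    · simp [Set.indicator_of_notMem h]
  · intro N hN hpN hk n hn
    exact (hmem n).mpr fun φ hφ =>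
      BlocksDefect.kernel_of_sameBlock hM (BlocksCore.sameBlock_of_mem hB hχ hφ) N hpN hk n hn

end Cfsg.Agent.S0938
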