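import Cfsg.Statements.S0810
import Cfsg.Agent.Lib.Dickson.Solvable

set_option autoImplicit false
open Cfsg

namespace Cfsg.Agent.S0810

open Cfsg.Agent.Dickson

attribute [local instance] Cfsg.Agent.PLocalB.lineAction Cfsg.Agent.Dickson.pslLine

/-- PSL_2(q) is minimal simple iff q is 2^r (r prime), 3^r (r an odd prime), a prime greater than 5 congruent to 2 or 3 mod 5, or 5. -/
theorem result {F : Type*} [Field F] [Fintype F] {q : ℕ} (hF : Fintype.card F = q) : Cfsg.IsMinimalSimple (Matrix.ProjectiveSpecialLinearGroup (Fin 2) F) ↔ ((∃ r : ℕ, r.Prime ∧ q = 2 ^ r) ∨ (∃ r : ℕ, r.Prime ∧ r ≠ 2 ∧ q = 3 ^ r) ∨ (q.Prime ∧ 5 < q ∧ (q % 5 = 2 ∨ q % 5 = 3)) ∨ q = 5) := by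
  subst hF
  obtain ⟨p, hp⟩ := CharP.exists F
  obtain ⟨⟨n, hn0⟩, hpp, hqn⟩ := FiniteField.card F p
  replace hqn : Fintype.card F = p ^ n := hqn
  haveI := Fact.mk hpp
  haveI : Finite (PSL2 F) := Finite.of_surjective _ QuotientGroup.mk_surjective
  have hG : Nat.gcd 2 (Nat.card F - 1) * Nat.card (PSL2 F) = _ := LinearGroup.gcd_mul_card_PSL_two
  rw [Nat.card_eq_fintype_card (α := F)] at hG
  have hq1 := Fintype.one_lt_card (α := F)
  have hsubT : ∀ r, r ∣ n → 2 * r ≤ n → 4 ≤ p ^ r →
      ∃ H : Subgroup (PSL2 F), H ≠ ⊤ ∧ ¬ Group.IsSolvable H := fun r hr h2r h4 => by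
    obtain ⟨T, hT⟩ := exists_subfield_dvd (F := F) hqn hr
      (by rcases Nat.eq_zero_or_pos r with rfl | h <;> [norm_num at h4; exact h])
    refine exists_subfield_not_solvable T (hT ▸ h4) ?_
    rw [hT, hqn, ← pow_mul]
    exact Nat.pow_le_pow_right hpp.pos (by omega)
  have hA5 : 5 ∣ Fintype.card F * (Fintype.card F ^ 2 - 1) → 6 ≤ Fintype.card F →
      ∃ H : Subgroup (PSL2 F), H ≠ ⊤ ∧ ¬ Group.IsSolvable H := fun h5 h6 => by
    obtain ⟨H, ⟨e⟩⟩ := exists_A5_of_dvd h5
    refine ⟨H, fun htop => ?_, fun hs => ?_⟩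
    · have hc := Nat.card_congr e.toEquiv
      rw [htop, Subgroup.card_top, card_A5] at hc
      rw [hc] at hG
      have h36 : 35 ≤ Fintype.card F ^ 2 - 1 := by have := Nat.pow_le_pow_left h6 2; omega
      have := Nat.mul_le_mul h6 h36
      rcases d_even_or_odd (F := F) with ⟨hd, -⟩ | ⟨hd, -⟩ <;> rw [hd] at hG <;> omega
    · haveI := hs
      haveI : IsSimpleGroup (alternatingGroup (Fin 5)) := alternatingGroup.isSimpleGroup_five
      have := IsSimpleGroup.comm_iff_isSolvable.mpr
        (Group.isSolvable_of_isSolvable_injective (f := e.symm.toMonoidHom) e.symm.injective)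
      obtain ⟨a, b, hab⟩ : ∃ a b : alternatingGroup (Fin 5), a * b ≠ b * a :=
        ⟨⟨Equiv.swap 0 1 * Equiv.swap 2 3, Equiv.Perm.mem_alternatingGroup.mpr (by decide +kernel)⟩,
          ⟨Equiv.swap 1 2 * Equiv.swap 3 4, Equiv.Perm.mem_alternatingGroup.mpr (by decide +kernel)⟩,
          by decide +kernel⟩
      exact hab (this a b)
  constructor
  · rintro ⟨hsimp, hnc, hsol⟩
    have no : ¬ ∃ H : Subgroup (PSL2 F), H ≠ ⊤ ∧ ¬ Group.IsSolvable H :=
      fun ⟨H, h1, h2⟩ => h2 (hsol H h1)
    have h4 : 4 ≤ Fintype.card F := by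
      by_contra h4
      haveI := hsimp
      apply hnc
      refine ⟨⟨IsSimpleGroup.comm_iff_isSolvable.mpr (isSolvable_of_card_two_three
        (show Nat.card (PSL2 F) = 6 ∨ Nat.card (PSL2 F) = 12 ∨ Nat.card (PSL2 F) = 24 from ?_))⟩⟩
      rcases (by omega : Fintype.card F = 2 ∨ Fintype.card F = 3) with e | e <;> rw [e] at hG <;>
        norm_num at hG <;> omega
    rcases (show n = 1 ∨ 1 < n by omega) with rfl | hn
    · rw [pow_one] at hqn
      have hp23 : p ≠ 2 ∧ p ≠ 3 := by omega
      by_cases hp5 : p = 5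
      · exact Or.inr (Or.inr (Or.inr (hqn.trans hp5)))
      · have hp6 : 6 ≤ p := by
          have := hpp.two_le
          rcases (by omega : p = 4 ∨ 6 ≤ p) with rfl | h
          · norm_num at hpp
          · exact h
        refine Or.inr (Or.inr (Or.inl ⟨hqn ▸ hpp, by omega, ?_⟩))
        rw [hqn]
        have hm0 : p % 5 ≠ 0 := fun h => hp5
          ((Nat.prime_dvd_prime_iff_eq Nat.prime_five hpp).mp (Nat.dvd_of_mod_eq_zero h)).symm
        by_contra h23
        refine no (hA5 ?_ (by omega))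
        rw [hqn]
        refine dvd_mul_of_dvd_right (Nat.dvd_of_mod_eq_zero ?_) _
        have h1 : p ^ 2 % 5 = 1 := by
          rw [Nat.pow_mod]
          rcases (by omega : p % 5 = 1 ∨ p % 5 = 4) with e | e <;> rw [e]
        omega
    · by_cases hnp : n.Prime
      · rcases (show p = 2 ∨ p = 3 ∨ 4 ≤ p by have := hpp.two_le; omega) with rfl | rfl | h4p
        · exact Or.inl ⟨n, hnp, hqn⟩
        · refine Or.inr (Or.inl ⟨n, hnp, fun e => ?_, hqn⟩)
          subst e
          exact no (hA5 (by rw [hqn]; norm_num) (by rw [hqn]; norm_num))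
        · exact absurd (hsubT 1 (one_dvd n) (by omega) (by rwa [pow_one])) no
      · obtain ⟨r, hr, h2r, hlt⟩ := Nat.exists_dvd_of_not_prime2 hn hnp
        refine absurd (hsubT r hr ?_ ?_) no
        · obtain ⟨c, rfl⟩ := hr
          have : 2 ≤ c := by
            by_contra hc
            interval_cases c <;> omega
          rw [mul_comm 2]
          exact Nat.mul_le_mul_left r this
        · exact le_trans (by norm_num : 4 ≤ 2 ^ 2)
            ((Nat.pow_le_pow_left hpp.two_le 2).trans (Nat.pow_le_pow_right hpp.pos h2r))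
  · intro hcond
    obtain ⟨h4, hexp, h5cond⟩ : 4 ≤ Fintype.card F ∧
        (∃ (b r : ℕ), b.Prime ∧ (r = 1 ∨ r.Prime) ∧ Fintype.card F = b ^ r) ∧
        (5 ∣ Fintype.card F * (Fintype.card F ^ 2 - 1) →
          Fintype.card F = 4 ∨ Fintype.card F = 5) := by
      have cop : ∀ {x : ℕ}, ¬ 5 ∣ x → (x ^ 2) % 5 = 4 → ¬ 5 ∣ x * (x ^ 2 - 1) := fun h1 h2 h => by
        rcases Nat.prime_five.dvd_mul.mp h with h | h
        · exact h1 h
        · omega
      rcases hcond with ⟨r, hr, e⟩ | ⟨r, hr, hr2, e⟩ | ⟨hq, h5, hm⟩ | e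
      · refine ⟨e ▸ le_trans (by norm_num : 4 ≤ 2 ^ 2) (Nat.pow_le_pow_right (by norm_num) hr.two_le),
          ⟨2, r, Nat.prime_two, Or.inr hr, e⟩, fun h => ?_⟩
        rcases hr.eq_two_or_odd' with rfl | ⟨j, rfl⟩
        · exact Or.inl (by rw [e]; norm_num)
        · refine absurd h (cop (fun hd => ?_) ?_)
          · rw [e] at hd
            exact absurd (Nat.prime_five.dvd_of_dvd_pow hd) (by norm_num)
          · rw [e, ← pow_mul, show (2 * j + 1) * 2 = 4 * j + 2 by ring, pow_add, pow_mul, Nat.mul_mod,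
              Nat.pow_mod]
            norm_num
      · refine ⟨e ▸ le_trans (by norm_num : 4 ≤ 3 ^ 2) (Nat.pow_le_pow_right (by norm_num) hr.two_le),
          ⟨3, r, Nat.prime_three, Or.inr hr, e⟩, fun h => ?_⟩
        obtain ⟨j, rfl⟩ := hr.odd_of_ne_two hr2
        refine absurd h (cop (fun hd => ?_) ?_)
        · rw [e] at hd
          exact absurd (Nat.prime_five.dvd_of_dvd_pow hd) (by norm_num)
        · rw [e, ← pow_mul, show (2 * j + 1) * 2 = 4 * j + 2 by ring, pow_add, pow_mul, Nat.mul_mod,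
            Nat.pow_mod]
          norm_num
      · refine ⟨by omega, ⟨_, 1, hq, Or.inl rfl, (pow_one _).symm⟩, fun h => ?_⟩
        refine absurd h (cop (fun hd => by omega) ?_)
        rw [Nat.pow_mod]
        rcases hm with e | e <;> rw [e]
      · exact ⟨by omega, ⟨5, 1, Nat.prime_five, Or.inl rfl, by rw [pow_one, e]⟩, fun _ => Or.inr e⟩
    refine ⟨Matrix.ProjectiveSpecialLinearGroup.rank_two_simple (by rw [Nat.card_eq_fintype_card]; exact h4),
      fun h => simple_not_solvable F (by rw [Nat.card_eq_fintype_card]; exact h4)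
        (isSolvable_of_comm h.is_comm.comm), fun (H : Subgroup (PSL2 F)) hH => ?_⟩
    rcases subgroup_cases p H with ⟨w, hw⟩ | ⟨N, k, hN, hle⟩ | h | h | h | ⟨T, hT⟩
    · haveI := isSolvable_stabilizer w
      exact Group.isSolvable_of_isSolvable_injective (Subgroup.inclusion_injective hw)
    · obtain ⟨e⟩ := hN.2.1
      haveI := isSolvable_dihedral k
      exact Group.isSolvable_of_isSolvable_injective (f := e.toMonoidHom.comp (Subgroup.inclusion hle))
        (e.injective.comp (Subgroup.inclusion_injective hle))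
    · exact isSolvable_of_card_two_three
        (Or.inr (Or.inl (by rw [Nat.card_congr h.some.toEquiv, card_A4])))
    · exact isSolvable_of_card_two_three
        (Or.inr (Or.inr (by rw [Nat.card_congr h.some.toEquiv, card_S4])))
    · exfalso
      have hc : Nat.card H = 60 := by rw [Nat.card_congr h.some.toEquiv, card_A5]
      refine hH (Subgroup.eq_top_of_card_eq H (show Nat.card H = Nat.card (PSL2 F) from ?_))
      rw [hc]
      rcases h5cond (five_dvd_of_A5 H h) with e | e <;> rw [e] at hG <;> norm_num at hG <;> omega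
    · obtain ⟨b, r, hb, hr, he⟩ := hexp
      obtain ⟨m, hm2, hTm, -⟩ := big_proper hT hH
      rw [he] at hTm
      obtain ⟨a, -, ha⟩ := (Nat.dvd_prime_pow hb).mp
        ((dvd_pow_self (Nat.card T) (show m ≠ 0 by omega)).trans (dvd_of_eq hTm))
      rw [ha, ← pow_mul] at hTm
      have ham : a * m = r := Nat.pow_right_injective hb.two_le hTm
      have ht3 := hT.1
      have hrp : r.Prime := by
        rcases hr with rfl | hr
        · exfalso
          have := Nat.eq_one_of_mul_eq_one_left ham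
          omega
        · exact hr
      obtain rfl : a = 1 := by
        rcases hrp.eq_one_or_self_of_dvd a ⟨m, ham.symm⟩ with h | h
        · exact h
        · exfalso
          rw [h] at ham
          have : m = 1 := Nat.eq_of_mul_eq_mul_left hrp.pos (by rw [ham, mul_one])
          omega
      rw [pow_one] at ha
      obtain rfl : b = 3 := by
        rcases hcond with ⟨s, hs, e⟩ | ⟨s, hs, -, e⟩ | ⟨hq, -, -⟩ | e
        · exfalso
          have h2 := he.symm.trans e
          have : b ∣ 2 ^ s := h2 ▸ dvd_pow_self b hrp.ne_zero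
          have := (Nat.prime_dvd_prime_iff_eq hb Nat.prime_two).mp (hb.dvd_of_dvd_pow this)
          omega
        · have h2 := he.symm.trans e
          exact (Nat.prime_dvd_prime_iff_eq hb Nat.prime_three).mp
            (hb.dvd_of_dvd_pow (h2 ▸ dvd_pow_self b hrp.ne_zero))
        · exfalso
          rw [he] at hq
          exact hrp.one_lt.ne' hq.eq_one_of_pow
        · exfalso
          rw [he] at e
          have h5p : Nat.Prime (b ^ r) := e ▸ Nat.prime_five
          exact hrp.one_lt.ne' h5p.eq_one_of_pow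
      refine isSolvable_of_card_two_three ?_
      rcases card_big hT with ⟨hc, -⟩ | ⟨hc, -⟩ <;> rw [ha] at hc <;> norm_num at hc
      · exact Or.inr (Or.inl (Nat.eq_of_mul_eq_mul_left two_pos (hc.trans (by norm_num))))
      · exact Or.inr (Or.inr hc)

end Cfsg.Agent.S0810
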