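import Cfsg.Statements.S4487
import Cfsg.Agent.Lib.BlocksDefect.Kernel
import Cfsg.Agent.Lib.BlocksCore.Inflate
import Cfsg.Agent.Lib.Fitting

set_option autoImplicit false
open Cfsg

namespace Cfsg.Agent.S4487

/-- Let G be a finite group and p a prime such that G has no non-trivial normal subgroup of order prime to p and C_G(O_p(G)) ≤ O_p(G). Then G has a single p-block: any two irreducible characters lie in the same block relative to every maximal ideal M of the algebraic integers containing p. -/
theorem result {G : Type*} [Group G] [Finite G] (p : ℕ) [Fact p.Prime] (M : Ideal Cfsg.AlgInt) (hM : Cfsg.IsPModular p M) (hcore : Cfsg.pPrimeCore p G = ⊥) (hconstr : Subgroup.centralizer ((Cfsg.pCore p G) : Set G) ≤ Cfsg.pCore p G) (χ ψ : Cfsg.IrrCharacter G) : Cfsg.SameBlock M (χ : G → ℂ) (ψ : G → ℂ) := by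
  classical
  haveI := Fintype.ofFinite G
  have := BlocksCore.isPrime hM
  haveI hQn : (pCore p G).Normal := Fitting.pCore_normal p
  have hQ : IsPGroup p (pCore p G) := Fitting.pCore_isPGroup p
  intro g
  by_cases hg : ∀ x, IsConj g x → x ∉ Subgroup.centralizer ((pCore p G : Subgroup G) : Set G)
  · exact BlocksCore.memLocalIdeal_sub
      (BlocksDefect.centralChar_memLocalIdeal_of_notMem (pCore p G) hM hQ hg χ)
      (BlocksDefect.centralChar_memLocalIdeal_of_notMem (pCore p G) hM hQ hg ψ)
  push Not at hg
  obtain ⟨x, hgx, hx⟩ := hg
  have hmem : ∀ y, IsConj g y → y ∈ pCore p G := by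
    intro y hy
    obtain ⟨c, hc⟩ := isConj_iff.mp (hgx.symm.trans hy)
    rw [← hc]
    exact hQn.conj_mem x (hconstr hx) c
  set k : ℂ := ((Subgroup.centralizer ({g} : Set G)).index : ℂ) with hk
  set a : G → ℂ := BlocksCore.classInd g + (-k) • BlocksCore.classInd 1 with ha
  have haI : BlocksCore.IsIntClassFun M a :=
    BlocksCore.isIntClassFun_add (BlocksCore.isIntClassFun_classInd g)
      (BlocksCore.isIntClassFun_smul (BlocksCore.isIntClassFun_classInd 1)
        ((BlocksCore.localRing M).neg_mem (BlocksCore.memLocalRing_natCast _)))
  have hzero : ∀ q, MemLocalIdeal M (BlocksCore.pushFun (pCore p G) a q) := by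
    intro q
    have h0 : BlocksCore.pushFun (pCore p G) a q = 0 := by
      rw [BlocksCore.pushFun_apply]
      by_cases hq : q = 1
      · subst hq
        have e : ∀ y, (if QuotientGroup.mk' (pCore p G) y = 1 then a y else 0) =
            BlocksCore.classInd g y + (-k) * BlocksCore.classInd 1 y := by
          intro y
          split_ifs with hy
          · rfl
          · have hyQ : y ∉ pCore p G := fun h => hy ((QuotientGroup.eq_one_iff y).mpr h)
            rw [BlocksCore.classInd_apply_of_not_isConj (fun h => hyQ (hmem y h)),
              BlocksCore.classInd_apply_of_not_isConj fun h => hyQ ?_]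
            · simp
            · rw [isConj_one_right.mp h]; exact one_mem _
        rw [Finset.sum_congr rfl fun y _ => e y, Finset.sum_add_distrib, ← Finset.mul_sum,
          BlocksCore.sum_classInd, BlocksCore.sum_classInd, ← hk,
          show Subgroup.centralizer ({1} : Set G) = ⊤ from top_unique fun y _ =>
            Subgroup.mem_centralizer_singleton_iff.mpr (by simp), Subgroup.index_top]
        simp
      · refine Finset.sum_eq_zero fun y _ => ?_
        split_ifs with hy
        · have hyQ : y ∉ pCore p G := fun h => hq (hy ▸ (QuotientGroup.eq_one_iff y).mpr h)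
          show BlocksCore.classInd g y + (-k) * BlocksCore.classInd 1 y = 0
          rw [BlocksCore.classInd_apply_of_not_isConj (fun h => hyQ (hmem y h)),
            BlocksCore.classInd_apply_of_not_isConj fun h => hyQ ?_]
          · simp
          · rw [isConj_one_right.mp h]; exact one_mem _
        · rfl
    rw [h0]; exact BlocksCore.memLocalIdeal_zero
  have key : ∀ θ : IrrCharacter G, MemLocalIdeal M (centralChar (θ : G → ℂ) g - k) := by
    intro θ
    have h := BlocksCore.omega_memLocalIdeal_of_pushFun hM θ (pCore p G) hQ haI hzero
    rw [ha, BlocksCore.omega_add, BlocksCore.omega_smul, BlocksCore.omega_classInd_one,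
      BlocksCore.omega_classInd (BlocksCore.irr_class θ), mul_one, ← sub_eq_add_neg] at h
    exact h
  have := BlocksCore.memLocalIdeal_sub (key χ) (key ψ)
  rwa [sub_sub_sub_cancel_right] at this

end Cfsg.Agent.S4487
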