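import Cfsg.Statements.S0252
import Cfsg.Agent.Lib.LinearGroup.SmallPSL

set_option autoImplicit false
open Cfsg

namespace Cfsg.Agent.S0252

/-- PSL_2(4) is isomorphic to A_5. -/
theorem result {F : Type*} [Field F] [Fintype F] (hF : Fintype.card F = 4) : Nonempty (Matrix.ProjectiveSpecialLinearGroup (Fin 2) F ≃* alternatingGroup (Fin 5)) := by
  have hc : Nat.card F = 4 := by rw [Nat.card_eq_fintype_card, hF]
  have h := Cfsg.Agent.LinearGroup.psl_two_small (F := F) (Or.inr hc)
  rw [hc] at h
  exact h

end Cfsg.Agent.S0252
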