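import Cfsg.Statements.S3704
-- import your own Cfsg.Agent.* helpers here

set_option autoImplicit false
open Cfsg

namespace Cfsg.Agent.S3704

open Matrix in
/-- Two matrices of a 2-transitive incidence structure: the key linear algebra. -/
theorem eq_affine_combination {Ω : Type*} [Fintype Ω] [DecidableEq Ω] (M R : Matrix Ω Ω ℚ)
    (k l a b : ℚ) (hk : k ≠ 0) (hkl : k ≠ l) (hcol : ∀ w, ∑ i, M i w = k)
    (hMM : ∀ v w, ∑ i, M i v * M i w = if v = w then k else l)
    (hMR : ∀ v w, ∑ i, M i v * R i w = if v = w then a else b) :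
    ∃ α β : ℚ, ∀ i w, R i w = α * M i w + β := by
  have hd : k - l ≠ 0 := sub_ne_zero.mpr hkl
  have hinj : Function.Injective M.mulVec := by
    intro u v huv
    have h0 : M *ᵥ (u - v) = 0 := by rw [Matrix.mulVec_sub, huv, sub_self]
    set z := u - v with hz
    have hs : k * ∑ w, z w = 0 := by
      rw [Finset.mul_sum]
      calc ∑ w, k * z w = ∑ w, ∑ i, M i w * z w := by simp_rw [← Finset.sum_mul, hcol]
        _ = ∑ i, ∑ w, M i w * z w := Finset.sum_comm
        _ = 0 := by
          refine Finset.sum_eq_zero fun i _ => ?_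
          exact congrFun h0 i
    have hs' : ∑ w, z w = 0 := by simpa [hk] using hs
    funext x
    have h1 : ∑ i, M i x * (M *ᵥ z) i = (k - l) * z x + l * ∑ w, z w := by
      simp only [Matrix.mulVec, dotProduct, Finset.mul_sum]
      rw [Finset.sum_comm]
      calc ∑ w, ∑ i, M i x * (M i w * z w) = ∑ w, (if x = w then k else l) * z w := by
            refine Finset.sum_congr rfl fun w _ => ?_
            rw [← hMM x w, Finset.sum_mul]
            exact Finset.sum_congr rfl fun i _ => by ring
        _ = ∑ w, ((if x = w then (k - l) * z w else 0) + l * z w) := by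
            refine Finset.sum_congr rfl fun w _ => ?_
            split <;> ring
        _ = _ := by rw [Finset.sum_add_distrib, Finset.sum_ite_eq]; simp [Finset.mul_sum]
    rw [h0, hs'] at h1
    simp [hd, hz, sub_eq_zero] at h1
    exact h1
  have hinjT : Function.Injective (Mᵀ).mulVec := by
    rw [Matrix.mulVec_injective_iff_isUnit] at hinj ⊢
    rwa [Matrix.isUnit_transpose]
  refine ⟨(a - b) / (k - l), (b - (a - b) / (k - l) * l) / k, fun i w => ?_⟩
  set α := (a - b) / (k - l) with hα
  set β := (b - α * l) / k with hβ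
  have : (fun i => R i w) = fun i => α * M i w + β := by
    refine hinjT (funext fun v => ?_)
    simp only [Matrix.mulVec, dotProduct, Matrix.transpose_apply]
    rw [hMR v w]
    simp_rw [mul_add, Finset.sum_add_distrib, ← Finset.sum_mul, hcol, mul_left_comm _ α,
      ← Finset.mul_sum, hMM v w]
    rw [hβ, hα]
    split <;> field_simp <;> ring
  exact congrFun this i

/-- Let G be a finite group acting faithfully and 2-transitively on a finite set Ω of size n, and let H be a subgroup of index n in G which is not transitive on Ω and fixes no point of Ω. Then H has exactly two orbits on Ω. -/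
theorem result {G Ω : Type*} [Group G] [Finite G] [MulAction G Ω] [FaithfulSMul G Ω] [Finite Ω] (h2 : MulAction.IsMultiplyPretransitive G Ω 2) (H : Subgroup G) (hidx : H.index = Nat.card Ω) (hnt : ¬ MulAction.IsPretransitive H Ω) (hfix : ∀ a : Ω, ∃ h : H, h • a ≠ a) : Nat.card (MulAction.orbitRel.Quotient H Ω) = 2 := by
  classical
  haveI := Fintype.ofFinite Ω
  let Q := MulAction.orbitRel.Quotient H Ω
  haveI := Fintype.ofFinite Q
  have hne : Nonempty Ω := by
    by_contra h
    rw [not_nonempty_iff] at h
    exact hnt ⟨fun x => isEmptyElim x⟩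
  have hcard : Nat.card (G ⧸ H) = Nat.card Ω := hidx
  obtain ⟨e⟩ : Nonempty (G ⧸ H ≃ Ω) :=
    ⟨(Finite.equivFinOfCardEq hcard).trans (Finite.equivFin Ω).symm⟩
  haveI : Fintype (G ⧸ H) := Fintype.ofFinite _
  -- the orbit of a point seen from a coset
  let cls : G ⧸ H → Ω → Q := fun c w => (⟦c.out⁻¹ • w⟧ : Q)
  have hcls : ∀ (g : G) (w : Ω), cls g w = (⟦g⁻¹ • w⟧ : Q) := by
    intro g w
    obtain ⟨h, hh⟩ := QuotientGroup.mk_out_eq_mul H g
    show (⟦_⟧ : Q) = _
    rw [hh, mul_inv_rev, mul_smul]
    exact Quotient.sound ⟨h⁻¹, rfl⟩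
  have hequiv : ∀ (g : G) (c : G ⧸ H) (w : Ω), cls (g • c) (g • w) = cls c w := by
    intro g c w
    induction c using QuotientGroup.induction_on with
    | H x =>
      rw [MulAction.Quotient.smul_coe, hcls, hcls, smul_eq_mul, mul_inv_rev, mul_smul,
        inv_smul_smul]
  let f : Q → (G ⧸ H) → Ω → ℚ := fun q c w => if cls c w = q then 1 else 0
  have hf : ∀ q (g : G) c w, f q (g • c) (g • w) = f q c w := fun q g c w => by
    simp only [f, hequiv]
  have h2' : ∀ v w v' w' : Ω, v ≠ w → v' ≠ w' → ∃ g : G, g • v = v' ∧ g • w = w' := by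
    rw [MulAction.is_two_pretransitive_iff] at h2
    intro v w v' w' h h'
    exact h2 h h'
  have htrans : ∀ v v' : Ω, ∃ g : G, g • v = v' := by
    intro v v'
    rcases eq_or_ne v v' with rfl | h
    · exact ⟨1, one_smul _ _⟩
    · obtain ⟨g, hg, -⟩ := h2' v v' v' v h h.symm
      exact ⟨g, hg⟩
  have hinv : ∀ q r (g : G) v w,
      ∑ c, f q c (g • v) * f r c (g • w) = ∑ c, f q c v * f r c w := by
    intro q r g v w
    rw [← Equiv.sum_comp (MulAction.toPerm g : Equiv.Perm (G ⧸ H)) (fun c => f q c (g • v) * f r c (g • w))]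
    simp only [MulAction.toPerm_apply, hf]
  obtain ⟨v₀, w₀, hvw⟩ : ∃ v₀ w₀ : Ω, v₀ ≠ w₀ := by
    by_contra h
    push_neg at h
    exact hnt ⟨fun x y => ⟨1, h _ _⟩⟩
  have hN : ∀ q r v w, ∑ c, f q c v * f r c w =
      if v = w then ∑ c, f q c v₀ * f r c v₀ else ∑ c, f q c v₀ * f r c w₀ := by
    intro q r v w
    split
    · rename_i h
      subst h
      obtain ⟨g, rfl⟩ := htrans v₀ v
      exact hinv q r g v₀ v₀
    · rename_i h
      obtain ⟨g, rfl, rfl⟩ := h2' v₀ w₀ v w hvw h
      exact hinv q r g v₀ w₀
  have hsq : ∀ q c v, f q c v * f q c v = f q c v := fun q c v => by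
    simp only [f]; split <;> norm_num
  have hQ2 : 2 ≤ Nat.card Q := by
    by_contra hc
    have : Subsingleton Q := Finite.card_le_one_iff_subsingleton.mp (by omega)
    refine hnt ⟨fun x y => ?_⟩
    have hxy : (⟦y⟧ : Q) = ⟦x⟧ := Subsingleton.elim _ _
    exact Quotient.exact hxy
  have key : ∀ q r : Q, ∃ α β : ℚ, ∀ c w, f r c w = α * f q c w + β := by
    intro q r
    obtain ⟨x, hx⟩ := Quotient.exists_rep q
    set k := ∑ c, f q c v₀ with hk
    set l := ∑ c, f q c v₀ * f q c w₀ with hl
    have hcolc : ∀ w, ∑ c, f q c w = k := by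
      intro w
      have := hN q q w w
      simpa [hsq] using this
    have hk0 : k ≠ 0 := by
      rw [← hcolc x]
      refine (Finset.sum_pos' (fun c _ => by simp only [f]; split <;> norm_num)
        ⟨((1 : G) : G ⧸ H), Finset.mem_univ _, ?_⟩).ne'
      simp only [f, hcls, inv_one, one_smul]
      rw [if_pos hx]
      norm_num
    have hkl : k ≠ l := by
      intro hkl
      have hall : ∀ v w, v ≠ w → ∀ c, f q c v * f q c w = f q c v := by
        intro v w hne c
        have h1 : ∑ c, f q c v * f q c w = l := by rw [hN q q v w, if_neg hne]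
        have h2 : ∑ c, (f q c v - f q c v * f q c w) = 0 := by
          rw [Finset.sum_sub_distrib, hcolc v, h1, hkl, sub_self]
        rw [Finset.sum_eq_zero_iff_of_nonneg] at h2
        · exact (sub_eq_zero.mp (h2 c (Finset.mem_univ _))).symm
        · intro c _
          simp only [f]
          split <;> split <;> norm_num
      have hbad : ∀ w, cls ((1 : G) : G ⧸ H) w = q := by
        intro w
        rcases eq_or_ne x w with rfl | hne
        · simp [hcls, hx]
        · have := hall x w hne ((1 : G) : G ⧸ H)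
          by_contra hw
          simp [f, hcls, hx] at this
          exact hw (by simpa [hcls] using this)
      have hall' : ∀ r : Q, r = q := by
        intro r
        obtain ⟨y, rfl⟩ := Quotient.exists_rep r
        have := hbad y
        simpa [hcls] using this
      have : Subsingleton Q := ⟨fun r s => (hall' r).trans (hall' s).symm⟩
      have := Finite.card_le_one_iff_subsingleton.mpr this
      omega
    obtain ⟨α, β, h⟩ := eq_affine_combination
      (fun i w => f q (e.symm i) w) (fun i w => f r (e.symm i) w) k l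
      (∑ c, f q c v₀ * f r c v₀) (∑ c, f q c v₀ * f r c w₀) hk0 hkl
      (fun w => (e.symm.sum_comp (fun c => f q c w)).trans (hcolc w))
      (fun v w => by
        rw [e.symm.sum_comp (fun c => f q c v * f q c w), hN q q v w]
        simp only [hsq, ← hk, ← hl])
      (fun v w => by rw [e.symm.sum_comp (fun c => f q c v * f r c w), hN q r v w])
    exact ⟨α, β, fun c w => by simpa using h (e c) w⟩
  refine le_antisymm ?_ hQ2
  by_contra hc
  rw [Nat.card_eq_fintype_card] at hc
  obtain ⟨q, r, s, hqr, hqs, hrs⟩ := Fintype.two_lt_card_iff.mp (lt_of_not_ge hc)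
  obtain ⟨α, β, hab⟩ := key q r
  obtain ⟨y, rfl⟩ := Quotient.exists_rep r
  obtain ⟨z, rfl⟩ := Quotient.exists_rep s
  have hy := hab ((1 : G) : G ⧸ H) y
  have hz := hab ((1 : G) : G ⧸ H) z
  simp only [f, hcls, inv_one, one_smul] at hy hz
  rw [if_neg (Ne.symm hqr)] at hy
  rw [if_neg (Ne.symm hrs), if_neg (Ne.symm hqs)] at hz
  simp only [if_pos trivial] at hy
  linarith

end Cfsg.Agent.S3704
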