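import Cfsg.Statements.S4200
import Mathlib

set_option autoImplicit false
open Cfsg

namespace Cfsg.Agent.S4200

open scoped Classical in
theorem card_commuting_pairs {X : Type*} [Group X] [Finite X] [Fintype X] :
    ∑ x : X, Nat.card {y : X // Commute x y} = Nat.card (ConjClasses X) * Nat.card X := by
  rw [← card_comm_eq_card_conjClasses_mul_card, ← Nat.card_sigma]
  exact Nat.card_congr ⟨fun p => ⟨(p.1, p.2.1), p.2.2⟩, fun p => ⟨p.1.1, p.1.2, p.2⟩,
    fun _ => rfl, fun _ => rfl⟩

theorem card_comm_le {X : Type*} [Group X] [Finite X] (Y : Subgroup X) (x : X) :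
    Nat.card {y : X // Commute x y} ≤ Y.index * Nat.card {y : Y // Commute x y} ∧
    (Nat.card {y : X // Commute x y} = Y.index * Nat.card {y : Y // Commute x y} →
      ∀ g : X, ∃ c : X, Commute x c ∧ c⁻¹ * g ∈ Y) := by
  classical
  set C := Subgroup.centralizer ({x} : Set X)
  have h1 : Nat.card {y : X // Commute x y} = Nat.card C :=
    Nat.card_congr (Equiv.subtypeEquivRight (fun y => by
      rw [Subgroup.mem_centralizer_singleton_iff]; exact ⟨fun h => h.eq.symm, fun h => h.symm⟩))
  have h2 : Nat.card {y : Y // Commute x y} = Nat.card (Y.subgroupOf C) := by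
    refine Nat.card_congr ⟨fun p => ⟨⟨p.1.1, ?_⟩, p.1.2⟩, fun p => ⟨⟨p.1.1, p.2⟩, ?_⟩, fun _ => rfl, fun _ => rfl⟩
    · rw [Subgroup.mem_centralizer_singleton_iff]; exact p.2.eq.symm
    · exact (Subgroup.mem_centralizer_singleton_iff.mp p.1.2).symm
  let f : C ⧸ Y.subgroupOf C → X ⧸ Y := Quotient.map' (fun c => (c : X)) (fun a b hab => by
    rw [QuotientGroup.leftRel_apply] at hab ⊢
    simpa [Subgroup.mem_subgroupOf] using hab)
  have hf : Function.Injective f := by
    intro a b
    induction a using QuotientGroup.induction_on with | _ a => ?_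
    induction b using QuotientGroup.induction_on with | _ b => ?_
    intro h
    have h' := QuotientGroup.eq.mp h
    exact QuotientGroup.eq.mpr (by simpa [Subgroup.mem_subgroupOf] using h')
  have hle := Nat.card_le_card_of_injective f hf
  have hmul := (Y.subgroupOf C).card_eq_card_quotient_mul_card_subgroup
  rw [h1, h2]
  constructor
  · rw [hmul]; exact Nat.mul_le_mul_right _ hle
  · intro heq g
    rw [hmul] at heq
    have hcard := Nat.eq_of_mul_eq_mul_right Nat.card_pos heq
    obtain ⟨q, hq⟩ := (hf.bijective_of_nat_card_le (le_of_eq hcard.symm)).2 (g : X ⧸ Y)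
    induction q using QuotientGroup.induction_on with | _ c => ?_
    refine ⟨c, (Subgroup.mem_centralizer_singleton_iff.mp c.2).symm, QuotientGroup.eq.mp hq⟩

/-- Let Y be a subgroup of the finite group X, of index m. Then the numbers of conjugacy classes satisfy k(Y) ≤ m·k(X) and k(X) ≤ m·k(Y), and the second inequality is strict unless Y is normal in X. -/
theorem result {X : Type*} [Group X] [Finite X] (Y : Subgroup X) : Nat.card (ConjClasses Y) ≤ Y.index * Nat.card (ConjClasses X) ∧ Nat.card (ConjClasses X) ≤ Y.index * Nat.card (ConjClasses Y) ∧ (¬ Y.Normal → Nat.card (ConjClasses X) < Y.index * Nat.card (ConjClasses Y)) := by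
  classical
  haveI : Fintype X := Fintype.ofFinite X
  have hY : Y.index * Nat.card Y = Nat.card X := by rw [mul_comm]; exact Y.card_mul_index
  have hYpos : 0 < Nat.card Y := Nat.card_pos
  have hXX := card_commuting_pairs (X := X)
  have hYY := card_commuting_pairs (X := Y)
  have hswap : ∑ x : X, Nat.card {y : Y // Commute x y} = ∑ y : Y, Nat.card {x : X // Commute (y : X) x} := by
    rw [← Nat.card_sigma, ← Nat.card_sigma]
    exact Nat.card_congr ⟨fun p => ⟨p.2.1, p.1, p.2.2.symm⟩, fun p => ⟨p.2.1, p.1, p.2.2.symm⟩,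
      fun _ => rfl, fun _ => rfl⟩
  have hsub : ∀ y : Y, Nat.card {z : Y // Commute (y : X) z} = Nat.card {z : Y // Commute y z} := fun y =>
    Nat.card_congr (Equiv.subtypeEquivRight (fun z => ⟨fun h => Subtype.ext h.eq, fun h => congrArg Subtype.val h.eq⟩))
  have hub : ∑ y : Y, Nat.card {x : X // Commute (y : X) x} ≤ Y.index * (Nat.card (ConjClasses Y) * Nat.card Y) := by
    rw [← hYY, Finset.mul_sum]
    exact Finset.sum_le_sum (fun y _ => ((card_comm_le Y (y : X)).1).trans (le_of_eq (by rw [hsub])))
  refine ⟨?_, ?_, ?_⟩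
  · have h : Nat.card (ConjClasses Y) * Nat.card Y ≤ Nat.card (ConjClasses X) * Nat.card X := by
      rw [← card_comm_eq_card_conjClasses_mul_card, ← card_comm_eq_card_conjClasses_mul_card]
      refine Nat.card_le_card_of_injective (fun p => ⟨(p.1.1.1, p.1.2.1), congrArg Subtype.val p.2.eq⟩) ?_
      intro p q h
      have h' := Prod.ext_iff.mp (congrArg Subtype.val h)
      exact Subtype.ext (Prod.ext (Subtype.ext h'.1) (Subtype.ext h'.2))
    rw [← hY] at h
    refine Nat.le_of_mul_le_mul_right (c := Nat.card Y) ?_ hYpos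
    calc _ ≤ _ := h
      _ = _ := by ring
  · have h : Nat.card (ConjClasses X) * Nat.card X ≤ Y.index * (Y.index * (Nat.card (ConjClasses Y) * Nat.card Y)) := by
      rw [← hXX]
      calc ∑ x : X, Nat.card {y : X // Commute x y} ≤ ∑ x : X, Y.index * Nat.card {y : Y // Commute x y} :=
            Finset.sum_le_sum (fun x _ => (card_comm_le Y x).1)
        _ = Y.index * ∑ x : X, Nat.card {y : Y // Commute x y} := by rw [Finset.mul_sum]
        _ ≤ _ := by rw [hswap]; exact Nat.mul_le_mul_left _ hub
    rw [← hY] at h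
    refine Nat.le_of_mul_le_mul_right (c := Y.index * Nat.card Y) ?_ (hY ▸ Nat.card_pos)
    calc _ ≤ _ := h
      _ = _ := by ring
  · intro hn
    have hlt : ∑ x : X, Nat.card {y : X // Commute x y} < ∑ x : X, Y.index * Nat.card {y : Y // Commute x y} := by
      refine Finset.sum_lt_sum (fun x _ => (card_comm_le Y x).1) ?_
      by_contra hcon
      push Not at hcon
      apply hn
      refine ⟨fun y hy g => ?_⟩
      obtain ⟨c, hc, hcY⟩ := (card_comm_le Y y).2 (le_antisymm (card_comm_le Y y).1 (hcon y (Finset.mem_univ _))) g⁻¹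
      -- g⁻¹ = c * y'
      have hc' : c⁻¹ * y * c = y := by rw [mul_assoc, hc.eq]; group
      have : g * y * g⁻¹ = (c⁻¹ * g⁻¹)⁻¹ * y * (c⁻¹ * g⁻¹) := by
        calc g * y * g⁻¹ = g * c * (c⁻¹ * y * c) * (c⁻¹ * g⁻¹) := by group
          _ = _ := by rw [hc']; group
      rw [this]
      exact mul_mem (mul_mem (inv_mem hcY) hy) hcY
    have h : Nat.card (ConjClasses X) * Nat.card X < Y.index * (Y.index * (Nat.card (ConjClasses Y) * Nat.card Y)) := by
      rw [← hXX]
      calc _ < _ := hlt
        _ = Y.index * ∑ x : X, Nat.card {y : Y // Commute x y} := by rw [Finset.mul_sum]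
        _ ≤ _ := by rw [hswap]; exact Nat.mul_le_mul_left _ hub
    rw [← hY] at h
    refine Nat.lt_of_mul_lt_mul_right (a := Y.index * Nat.card Y) ?_
    calc _ < _ := h
      _ = _ := by ring

end Cfsg.Agent.S4200
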