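import Cfsg.Statements.S4201
import Mathlib
import Cfsg.Agent.S4200

set_option autoImplicit false
open Cfsg

namespace Cfsg.Agent.S4201

/-- If N is a normal subgroup of the finite group X then k(X) ≤ k(N)·k(X ⧸ N), where k denotes the number of conjugacy classes. -/
theorem result {X : Type*} [Group X] [Finite X] (N : Subgroup X) [N.Normal] : Nat.card (ConjClasses X) ≤ Nat.card (ConjClasses N) * Nat.card (ConjClasses (X ⧸ N)) := by
  classical
  haveI : Fintype X := Fintype.ofFinite X
  have hN : Nat.card (X ⧸ N) * Nat.card N = Nat.card X := N.card_eq_card_quotient_mul_card_subgroup.symm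
  set π := QuotientGroup.mk' N
  have hXX := Cfsg.Agent.S4200.card_commuting_pairs (X := X)
  have hNN := Cfsg.Agent.S4200.card_commuting_pairs (X := N)
  have hQQ := Cfsg.Agent.S4200.card_commuting_pairs (X := X ⧸ N)
  have h1 : ∀ x : X, Nat.card {y : X // Commute x y} ≤
      Nat.card {q : X ⧸ N // Commute (π x) q} * Nat.card {n : N // Commute x n} := by
    intro x
    rw [← Nat.card_prod]
    have hlift : ∀ q : {q : X ⧸ N // Commute (π x) q}, ∃ s : X, (∃ y, Commute x y ∧ π y = q.1) → (Commute x s ∧ π s = q.1) := by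
      intro q
      by_cases h : ∃ y, Commute x y ∧ π y = q.1
      · obtain ⟨y, hy⟩ := h; exact ⟨y, fun _ => hy⟩
      · exact ⟨1, fun h' => absurd h' h⟩
    choose s hs using hlift
    let q : {y : X // Commute x y} → {q : X ⧸ N // Commute (π x) q} := fun y => ⟨π y.1, y.2.map π⟩
    have hsq := fun y : {y : X // Commute x y} => hs (q y) ⟨y.1, y.2, rfl⟩
    refine Nat.card_le_card_of_injective (fun y => (q y, ⟨⟨(s (q y))⁻¹ * y.1,
      QuotientGroup.eq.mp (hsq y).2⟩, ((hsq y).1.inv_right).mul_right y.2⟩)) ?_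
    intro a b hab
    simp only [Prod.mk.injEq, Subtype.mk.injEq] at hab
    rw [hab.1] at hab
    exact Subtype.ext (mul_left_cancel hab.2)
  have h2 : ∀ q : X ⧸ N, ∑ x ∈ Finset.univ.filter (fun x => π x = q), Nat.card {n : N // Commute x n} ≤
      Nat.card (ConjClasses N) * Nat.card N := by
    intro q
    rw [← hNN]
    obtain ⟨x₀, hx₀⟩ := QuotientGroup.mk'_surjective N q
    have key : ∀ n : N, Nat.card {x : {x : X // π x = q} // Commute (x : X) (n : X)} ≤ Nat.card {m : N // Commute n m} := by
      intro n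
      rcases isEmpty_or_nonempty {x : {x : X // π x = q} // Commute (x : X) (n : X)} with h | ⟨⟨x₁⟩⟩
      · simp
      · refine Nat.card_le_card_of_injective (fun x => ⟨⟨x₁.1.1⁻¹ * x.1.1, QuotientGroup.eq.mp ?_⟩, ?_⟩) ?_
        · exact x₁.1.2.trans x.1.2.symm
        · exact Subtype.ext ((x₁.2.inv_left.mul_left x.2).symm.eq)
        · intro a b hab
          have hab' := congrArg (fun z : {m : N // Commute n m} => ((z.1 : N) : X)) hab
          exact Subtype.ext (Subtype.ext (mul_left_cancel hab'))
    calc ∑ x ∈ Finset.univ.filter (fun x => π x = q), Nat.card {n : N // Commute x n}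
        = ∑ x : {x : X // π x = q}, Nat.card {n : N // Commute (x : X) n} := by
          rw [Finset.sum_subtype (p := fun x => π x = q) _ (fun x => by simp)]
      _ = ∑ n : N, Nat.card {x : {x : X // π x = q} // Commute (x : X) (n : X)} := by
          rw [← Nat.card_sigma, ← Nat.card_sigma]
          exact Nat.card_congr ⟨fun p => ⟨p.2.1, p.1, p.2.2⟩, fun p => ⟨p.2.1, p.1, p.2.2⟩,
            fun _ => rfl, fun _ => rfl⟩
      _ ≤ _ := Finset.sum_le_sum (fun n _ => key n)
  have h : Nat.card (ConjClasses X) * Nat.card X ≤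
      Nat.card (ConjClasses N) * Nat.card N * (Nat.card (ConjClasses (X ⧸ N)) * Nat.card (X ⧸ N)) := by
    rw [← hXX, ← hQQ, Finset.mul_sum]
    calc ∑ x : X, Nat.card {y : X // Commute x y}
        ≤ ∑ x : X, Nat.card {q : X ⧸ N // Commute (π x) q} * Nat.card {n : N // Commute x n} :=
          Finset.sum_le_sum (fun x _ => h1 x)
      _ = ∑ q : X ⧸ N, ∑ x ∈ Finset.univ.filter (fun x => π x = q), Nat.card {r : X ⧸ N // Commute (π x) r} * Nat.card {n : N // Commute x n} :=
          (Finset.sum_fiberwise _ _ _).symm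
      _ ≤ _ := Finset.sum_le_sum (fun q _ => by
          rw [mul_comm]
          calc _ = ∑ x ∈ Finset.univ.filter (fun x => π x = q), Nat.card {r : X ⧸ N // Commute q r} * Nat.card {n : N // Commute x n} :=
                Finset.sum_congr rfl (fun x hx => by simp at hx; rw [hx])
            _ ≤ _ := by rw [← Finset.mul_sum]; exact Nat.mul_le_mul_left _ (h2 q))
  rw [← hN] at h
  refine Nat.le_of_mul_le_mul_right (c := Nat.card (X ⧸ N) * Nat.card N) ?_ (hN ▸ Nat.card_pos)
  calc _ ≤ _ := h
    _ = _ := by ring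

end Cfsg.Agent.S4201
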