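import Cfsg.Statements.S4702
import Mathlib

set_option autoImplicit false
open Cfsg
set_option maxHeartbeats 2000000

namespace Cfsg.Agent.S4702


/-- A type with `q` points carrying no algebraic structure. -/
structure Pts (q : ℕ) : Type where
  /-- The label of a point. -/
  val : Fin q

/-- The labelling of the points. -/
def ptsEquiv (q : ℕ) : Pts q ≃ Fin q := ⟨Pts.val, Pts.mk, fun _ => rfl, fun _ => rfl⟩

instance instFintypePts (q : ℕ) : Fintype (Pts q) := Fintype.ofEquiv _ (ptsEquiv q).symm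

instance instDecidableEqPts (q : ℕ) : DecidableEq (Pts q) := (ptsEquiv q).decidableEq

theorem card_pts (q : ℕ) : Fintype.card (Pts q) = q := by
  rw [Fintype.card_congr (ptsEquiv q), Fintype.card_fin]

/-- The data of a sharply `3`-transitive group of odd degree, with three base points. -/
structure Setup {α : Type*} [Fintype α] [DecidableEq α] (G : Subgroup (Equiv.Perm α)) : Prop where
  ext3 : ∀ (g h : G) (a b c : α), a ≠ b → a ≠ c → b ≠ c → (g : Equiv.Perm α) a = (h : Equiv.Perm α) a →
    (g : Equiv.Perm α) b = (h : Equiv.Perm α) b → (g : Equiv.Perm α) c = (h : Equiv.Perm α) c → g = h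
  trans3 : ∀ a b c a' b' c' : α, a ≠ b → a ≠ c → b ≠ c → a' ≠ b' → a' ≠ c' → b' ≠ c' →
    ∃ g : G, (g : Equiv.Perm α) a = a' ∧ (g : Equiv.Perm α) b = b' ∧ (g : Equiv.Perm α) c = c'
  odd : Odd (Fintype.card α)

variable {α : Type*} [Fintype α] [DecidableEq α] {G : Subgroup (Equiv.Perm α)}

theorem Setup.eq_one (S : Setup G) {g : G} {a b c : α} (hab : a ≠ b) (hac : a ≠ c) (hbc : b ≠ c)
    (ha : (g : Equiv.Perm α) a = a) (hb : (g : Equiv.Perm α) b = b) (hc : (g : Equiv.Perm α) c = c) :
    g = 1 := S.ext3 g 1 a b c hab hac hbc (by simpa using ha) (by simpa using hb) (by simpa using hc)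

theorem mul_apply' (g h : G) (a : α) :
    ((g * h : G) : Equiv.Perm α) a = (g : Equiv.Perm α) ((h : Equiv.Perm α) a) := rfl

/-- An involution of `G` fixes exactly one point. -/
theorem Setup.fixed_unique (S : Setup G) {g : G} (hg : g * g = 1) (hg1 : g ≠ 1) {a b : α}
    (ha : (g : Equiv.Perm α) a = a) (hb : (g : Equiv.Perm α) b = b) : a = b := by
  by_contra hab
  set f : Equiv.Perm α := (g : Equiv.Perm α) with hf
  haveI : Fact (Nat.Prime 2) := ⟨Nat.prime_two⟩
  have hf2 : f ^ 2 ^ 1 = 1 := by
    rw [pow_one, pow_two, hf]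
    exact congrArg Subtype.val hg
  by_cases hex : ∃ c, c ≠ a ∧ c ≠ b ∧ f c = c
  · obtain ⟨c, hca, hcb, hc⟩ := hex
    exact hg1 (S.eq_one hab hca.symm hcb.symm ha hb hc)
  · push_neg at hex
    have hs : f.support = ({a, b} : Finset α)ᶜ := by
      ext c
      simp only [Equiv.Perm.mem_support, Finset.mem_compl, Finset.mem_insert, Finset.mem_singleton,
        not_or]
      constructor
      · intro h
        exact ⟨fun he => h (he ▸ ha), fun he => h (he ▸ hb)⟩
      · intro h
        exact hex c h.1 h.2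
    have h2 := Equiv.Perm.card_compl_support_modEq hf2
    rw [hs, compl_compl, Finset.card_pair hab] at h2
    obtain ⟨k, hk⟩ := S.odd
    rw [hk] at h2
    simp [Nat.ModEq, Nat.add_mod] at h2

/-- An element with a transposed pair and a fixed point is an involution. -/
theorem Setup.sq_eq_one (S : Setup G) {g : G} {a b c : α} (hab : a ≠ b) (hac : a ≠ c) (hbc : b ≠ c)
    (ha : (g : Equiv.Perm α) a = a) (hb : (g : Equiv.Perm α) b = c) (hc : (g : Equiv.Perm α) c = b) :
    g * g = 1 :=
  S.eq_one hab hac hbc (by rw [mul_apply', ha, ha]) (by rw [mul_apply', hb, hc])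
    (by rw [mul_apply', hc, hb])

section Derange

variable {o z : α}

/-- The fixed point free elements of the stabiliser of `o`, together with the identity. -/
def IsTrans (o : α) (g : G) : Prop :=
  (g : Equiv.Perm α) o = o ∧ (g = 1 ∨ ∀ y, y ≠ o → (g : Equiv.Perm α) y ≠ y)

theorem Setup.exists_inv_swap (S : Setup G) {a b : α} (hab : a ≠ b) (hoa : o ≠ a) (hob : o ≠ b) :
    ∃ g : G, g * g = 1 ∧ (g : Equiv.Perm α) o = o ∧ (g : Equiv.Perm α) a = b ∧ IsTrans o g := by
  obtain ⟨g, ho, ha, hb⟩ := S.trans3 o a b o b a hoa hob hab hob hoa hab.symm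
  have hg := S.sq_eq_one hoa hob hab ho ha hb
  have hg1 : g ≠ 1 := fun h => hab (by rw [h] at ha; simpa using ha)
  exact ⟨g, hg, ho, ha, ho, Or.inr fun y hy hyf => hy (S.fixed_unique hg hg1 hyf ho)⟩

theorem Setup.isTrans_unique (S : Setup G) (hoz : o ≠ z) {g g' : G} (hg : IsTrans o g)
    (hg' : IsTrans o g') (h : (g : Equiv.Perm α) z = (g' : Equiv.Perm α) z) : g = g' := by
  classical
  haveI : Fintype G := Fintype.ofFinite _
  -- the stabiliser of `o` is sharply two-transitive on the remaining points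
  obtain ⟨e, heo, hez⟩ : ∃ e : α, e ≠ o ∧ e ≠ z := by
    by_contra hno
    push_neg at hno
    have hsub : (Finset.univ : Finset α) ⊆ {o, z} := fun x _ => by
      rw [Finset.mem_insert, Finset.mem_singleton]
      by_cases hx : x = o
      · exact Or.inl hx
      · exact Or.inr (hno x hx)
    have := (Finset.card_le_card hsub).trans Finset.card_le_two
    obtain ⟨k, hk⟩ := S.odd
    rw [Finset.card_univ, hk] at this
    have hk0 : k = 0 := by omega
    have h2 : 2 ≤ Fintype.card α := Fintype.one_lt_card_iff.2 ⟨o, z, hoz⟩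
    omega
  let K : Finset α := Finset.univ.erase o
  let St : Finset G := Finset.univ.filter fun g : G => (g : Equiv.Perm α) o = o
  let D : Finset G := St.filter fun g : G => ∀ y, y ≠ o → (g : Equiv.Perm α) y ≠ y
  let Pr : Finset (α × α) := (K ×ˢ K).filter fun x => x.1 ≠ x.2
  have hK : ∀ x, x ∈ K ↔ x ≠ o := fun x => by simp [K]
  have hStPr : St.card = Pr.card := by
    refine Finset.card_bij (fun g _ => ((g : Equiv.Perm α) z, (g : Equiv.Perm α) e)) ?_ ?_ ?_
    · intro g hg
      simp only [St, Finset.mem_filter] at hg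
      simp only [Pr, Finset.mem_filter, Finset.mem_product, hK]
      refine ⟨⟨fun h => hoz ((g : Equiv.Perm α).injective (hg.2.trans h.symm)), fun h =>
        heo.symm ((g : Equiv.Perm α).injective (hg.2.trans h.symm))⟩, fun h => hez ((g : Equiv.Perm α).injective h).symm⟩
    · intro g₁ h₁ g₂ h₂ he
      simp only [St, Finset.mem_filter] at h₁ h₂
      exact S.ext3 g₁ g₂ o z e hoz heo.symm hez.symm (h₁.2.trans h₂.2.symm) (congrArg Prod.fst he)
        (congrArg Prod.snd he)
    · intro x hx
      simp only [Pr, Finset.mem_filter, Finset.mem_product, hK] at hx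
      obtain ⟨g, h1, h2, h3⟩ := S.trans3 o z e o x.1 x.2 hoz heo.symm hez.symm hx.1.1.symm hx.1.2.symm hx.2
      exact ⟨g, by simp [St, h1], Prod.ext h2 h3⟩
  have hPr : Pr.card = K.card * (K.card - 1) := by
    have : Pr = K.offDiag := by ext x; simp [Pr, Finset.mem_offDiag, and_assoc]
    rw [this, Finset.offDiag_card, Nat.mul_sub_one]
  let Fx : α → Finset G := fun y => (St.filter fun g : G => (g : Equiv.Perm α) y = y).erase 1
  have hFx : ∀ y ∈ K, K.card ≤ (Fx y).card + 2 := by
    intro y hy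
    rw [hK] at hy
    obtain ⟨y', hy'o, hy'y⟩ : ∃ y', y' ≠ o ∧ y' ≠ y := by
      by_cases h : z = y
      · exact ⟨e, heo, fun h' => hez (h'.trans h.symm)⟩
      · exact ⟨z, hoz.symm, h⟩
    -- one non-identity element for every target of `y'`
    have hle : (((Finset.univ.erase o).erase y).erase y').card ≤ (Fx y).card := by
      refine Finset.card_le_card_of_surjOn (fun g : G => (g : Equiv.Perm α) y') ?_
      intro x hx
      simp only [Finset.coe_erase, Set.mem_diff, Finset.coe_univ, Set.mem_univ, Set.mem_singleton_iff,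
        true_and] at hx
      obtain ⟨g, h1, h2, h3⟩ := S.trans3 o y y' o y x hy.symm hy'o.symm hy'y.symm hy.symm
        (fun h => hx.1.1 h.symm) (fun h => hx.1.2 h.symm)
      refine ⟨g, ?_, h3⟩
      simp only [Fx, St, Finset.mem_coe, Finset.mem_erase, Finset.mem_filter, Finset.mem_univ, true_and]
      exact ⟨fun hg1 => hx.2 (by rw [← h3, hg1]; simp), h1, h2⟩
    rw [Finset.card_erase_of_mem, Finset.card_erase_of_mem] at hle
    · show (Finset.univ.erase o).card ≤ _
      omega
    · simp [hy]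
    · simp [hy'o, hy'y]
  have hdisj : (K : Set α).PairwiseDisjoint Fx := by
    intro y hy y' hy' hne
    rw [Finset.mem_coe, hK] at hy hy'
    rw [Function.onFun, Finset.disjoint_left]
    intro g hg hg'
    simp only [Fx, St, Finset.mem_erase, Finset.mem_filter, Finset.mem_univ, true_and] at hg hg'
    exact hg.1 (S.eq_one hy.symm hy'.symm hne hg.2.1 hg.2.2 hg'.2.2)
  have hDcard : D.card + 1 ≤ K.card := by
    have hsub : D ∪ insert 1 (K.biUnion Fx) ⊆ St := by
      refine Finset.union_subset (Finset.filter_subset _ _) (Finset.insert_subset (by simp [St]) ?_)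
      rw [Finset.biUnion_subset]
      intro y _ g hg
      exact (Finset.mem_filter.1 (Finset.mem_of_mem_erase hg)).1
    have hd : Disjoint D (insert 1 (K.biUnion Fx)) := by
      rw [Finset.disjoint_left]
      intro g hg hg'
      simp only [D, Finset.mem_filter] at hg
      rcases Finset.mem_insert.1 hg' with rfl | h
      · exact hg.2 z hoz.symm (by simp)
      · obtain ⟨y, hy, hgy⟩ := Finset.mem_biUnion.1 h
        rw [hK] at hy
        exact hg.2 y hy (Finset.mem_filter.1 (Finset.mem_of_mem_erase hgy)).2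
    have h1 : (1 : G) ∉ K.biUnion Fx := by simp [Fx]
    have hc := Finset.card_le_card hsub
    rw [Finset.card_union_of_disjoint hd, Finset.card_insert_of_notMem h1,
      Finset.card_biUnion hdisj, hStPr, hPr] at hc
    have h2 : K.card * K.card ≤ (∑ y ∈ K, (Fx y).card) + 2 * K.card := by
      have := Finset.sum_le_sum hFx
      rw [Finset.sum_const, smul_eq_mul, Finset.sum_add_distrib, Finset.sum_const, smul_eq_mul] at this
      linarith
    have hK1 : 1 ≤ K.card := Finset.card_pos.2 ⟨z, (hK z).2 hoz.symm⟩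
    rw [Nat.mul_sub_one] at hc
    omega
  have hsurj : Set.SurjOn (fun g : G => (g : Equiv.Perm α) z) D (K.erase z) := by
    intro x hx
    simp only [Finset.coe_erase, Set.mem_diff, Finset.mem_coe, hK, Set.mem_singleton_iff] at hx
    obtain ⟨g, -, ho, hgz, -, hor⟩ := S.exists_inv_swap (Ne.symm hx.2) hoz (Ne.symm hx.1)
    rcases hor with rfl | hor
    · exact absurd (by simpa using hgz) (Ne.symm hx.2)
    · exact ⟨g, Finset.mem_coe.2 (Finset.mem_filter.2 ⟨Finset.mem_filter.2 ⟨Finset.mem_univ _, ho⟩, hor⟩), hgz⟩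
  have hinj := Finset.injOn_of_surjOn_of_card_le (fun g : G => (g : Equiv.Perm α) z)
    (s := D) (t := K.erase z) ?_ hsurj (by
      rw [Finset.card_erase_of_mem ((hK z).2 hoz.symm)]; omega)
  · rcases hg with ⟨hgo, rfl | hgd⟩ <;> rcases hg' with ⟨hg'o, rfl | hg'd⟩
    · rfl
    · exact absurd (by simpa using h.symm) (hg'd z hoz.symm)
    · exact absurd (by simpa using h) (hgd z hoz.symm)
    · exact hinj (by simp [D, St, hgo]; exact hgd) (by simp [D, St, hg'o]; exact hg'd) h
  · intro g hg
    simp only [D, St, Finset.mem_coe, Finset.mem_filter, Finset.mem_univ, true_and] at hg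
    simp only [Finset.coe_erase, Set.mem_diff, Finset.mem_coe, hK, Set.mem_singleton_iff]
    exact ⟨fun h => hoz.symm ((g : Equiv.Perm α).injective (h.trans hg.1.symm)), hg.2 z hoz.symm⟩

theorem Setup.exists_trans (S : Setup G) (hoz : o ≠ z) {x : α} (hx : x ≠ o) :
    ∃ g : G, IsTrans o g ∧ (g : Equiv.Perm α) z = x ∧ g * g = 1 := by
  by_cases h : x = z
  · exact ⟨1, ⟨by simp, Or.inl rfl⟩, by simp [h], one_mul _⟩
  · obtain ⟨g, h1, -, h3, h4⟩ := S.exists_inv_swap (Ne.symm h) hoz hx.symm
    exact ⟨g, h4, h3, h1⟩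

theorem Setup.isTrans_sq (S : Setup G) (hoz : o ≠ z) {g : G} (hg : IsTrans o g) : g * g = 1 := by
  have hx : (g : Equiv.Perm α) z ≠ o := fun h => hoz.symm ((g : Equiv.Perm α).injective (h.trans hg.1.symm))
  obtain ⟨g', h1, h2, h3⟩ := S.exists_trans hoz hx
  rw [S.isTrans_unique hoz hg h1 h2.symm]
  exact h3

theorem isTrans_one : IsTrans o (1 : G) := ⟨by simp, Or.inl rfl⟩

theorem isTrans_conj {g : G} (hg : IsTrans o g) (h : G) (ho : (h : Equiv.Perm α) o = o) :
    IsTrans o (h * g * h⁻¹) := by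
  have ho' : ((h⁻¹ : G) : Equiv.Perm α) o = o := by
    rw [InvMemClass.coe_inv]
    exact (Equiv.Perm.inv_eq_iff_eq).2 ho.symm
  refine ⟨by rw [mul_apply', mul_apply', ho', hg.1, ho], ?_⟩
  rcases hg.2 with rfl | hd
  · left; simp
  right
  intro y hy hyf
  rw [mul_apply', mul_apply'] at hyf
  have hy' : ((h⁻¹ : G) : Equiv.Perm α) y ≠ o := fun he =>
    hy (((h⁻¹ : G) : Equiv.Perm α).injective (he.trans ho'.symm))
  apply hd _ hy'
  have := congrArg ((h⁻¹ : G) : Equiv.Perm α) hyf
  simpa using this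

/-- The translations commute and form a group. -/
theorem Setup.isTrans_mul (S : Setup G) (hoz : o ≠ z) {g g' : G} (hg : IsTrans o g)
    (hg' : IsTrans o g') : IsTrans o (g * g') ∧ g * g' = g' * g := by
  by_cases hg1 : g = 1
  · subst hg1; simpa using hg'
  by_cases hg'1 : g' = 1
  · subst hg'1; simpa using hg
  have hd := hg.2.resolve_left hg1
  -- every element centralising an involution is a translation
  have hcent : ∀ c : G, (c : Equiv.Perm α) o = o → c * g = g * c → IsTrans o c := by
    intro c hco hcg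
    refine ⟨hco, ?_⟩
    by_cases hc1 : c = 1
    · exact Or.inl hc1
    refine Or.inr fun y hy hcy => hc1 ?_
    have hy2 : (c : Equiv.Perm α) ((g : Equiv.Perm α) y) = (g : Equiv.Perm α) y := by
      rw [← mul_apply', hcg, mul_apply', hcy]
    refine S.eq_one hy.symm ?_ (hd y hy).symm hco hcy hy2
    intro he
    exact hy ((g : Equiv.Perm α).injective (hg.1.trans he)).symm
  -- the translations centralise the involution `g`
  have hall : ∀ x : α, x ≠ o → ∃ c : G, (c : Equiv.Perm α) z = x ∧ (c : Equiv.Perm α) o = o ∧ c * g = g * c := by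
    intro x hx
    have h1 : (g : Equiv.Perm α) z ≠ o := fun h =>
      hoz.symm ((g : Equiv.Perm α).injective (h.trans hg.1.symm))
    have h2 : (g : Equiv.Perm α) x ≠ o := fun h =>
      hx ((g : Equiv.Perm α).injective (h.trans hg.1.symm))
    obtain ⟨c, hco, hcz, hcgz⟩ := S.trans3 o z ((g : Equiv.Perm α) z) o x ((g : Equiv.Perm α) x)
      hoz h1.symm (hd z hoz.symm).symm hx.symm h2.symm (hd x hx).symm
    refine ⟨c, hcz, hco, ?_⟩
    have hgg : ∀ a, (g : Equiv.Perm α) ((g : Equiv.Perm α) a) = a := fun a => by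
      rw [← mul_apply', S.isTrans_sq hoz hg]; simp
    refine S.ext3 _ _ o z ((g : Equiv.Perm α) z) hoz h1.symm (hd z hoz.symm).symm ?_ ?_ ?_
    · simp [hco, hg.1]
    · simp [hcz, hcgz]
    · simp [hgg, hcz, hcgz]
  have hcomm : ∀ k : G, IsTrans o k → k * g = g * k := by
    intro k hk
    have hx : (k : Equiv.Perm α) z ≠ o := fun h =>
      hoz.symm ((k : Equiv.Perm α).injective (h.trans hk.1.symm))
    obtain ⟨c, hcz, hco, hcg⟩ := hall _ hx
    rw [S.isTrans_unique hoz hk (hcent c hco hcg) hcz.symm]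
    exact hcg
  have hcg' : g' * g = g * g' := hcomm g' hg'
  refine ⟨hcent _ (by rw [mul_apply', hg'.1, hg.1]) ?_, hcg'.symm⟩
  rw [mul_assoc, hcg', ← mul_assoc]

end Derange

/-- Let G be a triply transitive permutation group on a finite set of odd size m ≥ 3 in which only the identity fixes three or more points. Then m = 2^a + 1 for some a ≥ 1 and G is isomorphic to SL(2, 2^a). -/
theorem result {α : Type*} [Fintype α] [DecidableEq α] (hm : 3 ≤ Fintype.card α) (hodd : Odd (Fintype.card α)) (G : Subgroup (Equiv.Perm α)) (h3 : MulAction.IsMultiplyPretransitive G α 3) (hfix : ∀ g : G, 3 ≤ Nat.card (MulAction.fixedBy α g) → g = 1) : ∃ a : ℕ, 1 ≤ a ∧ Fintype.card α = 2 ^ a + 1 ∧ ∃ (F : Type) (_ : Field F) (_ : Fintype F), Fintype.card F = 2 ^ a ∧ Nonempty (G ≃* Matrix.SpecialLinearGroup (Fin 2) F) := by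
  classical
  have hext : ∀ (g h : G) (a b c : α), a ≠ b → a ≠ c → b ≠ c → (g : Equiv.Perm α) a = (h : Equiv.Perm α) a →
      (g : Equiv.Perm α) b = (h : Equiv.Perm α) b → (g : Equiv.Perm α) c = (h : Equiv.Perm α) c → g = h := by
    intro g h a b c hab hac hbc ha hb hc
    rw [← inv_mul_eq_one]
    refine (inv_mul_eq_one.2 (Eq.symm ?_))
    rw [← inv_mul_eq_one]
    apply hfix
    have hmem : ∀ x ∈ ({a, b, c} : Finset α), x ∈ MulAction.fixedBy α (h⁻¹ * g) := by
      intro x hx
      have hgh : (g : Equiv.Perm α) x = (h : Equiv.Perm α) x := by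
        simp only [Finset.mem_insert, Finset.mem_singleton] at hx
        rcases hx with rfl | rfl | rfl <;> assumption
      show ((h⁻¹ * g : G) : Equiv.Perm α) x = x
      simp [hgh]
    calc 3 = Nat.card ({a, b, c} : Finset α) := by
          rw [Nat.card_eq_fintype_card, Fintype.card_coe]
          simp [hab, hac, hbc]
      _ ≤ _ := Nat.card_le_card_of_injective (fun x => (⟨x.1, hmem x.1 x.2⟩ : MulAction.fixedBy α (h⁻¹ * g)))
          (fun x y hxy => Subtype.ext (Subtype.ext_iff.1 hxy :))
  have htr : ∀ a b c a' b' c' : α, a ≠ b → a ≠ c → b ≠ c → a' ≠ b' → a' ≠ c' → b' ≠ c' →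
      ∃ g : G, (g : Equiv.Perm α) a = a' ∧ (g : Equiv.Perm α) b = b' ∧ (g : Equiv.Perm α) c = c' := by
    intro a b c a' b' c' h1 h2 h3' h4 h5 h6
    let emb : ∀ x y w : α, x ≠ y → x ≠ w → y ≠ w → (Fin 3 ↪ α) := fun x y w p q r =>
      ⟨![x, y, w], fun i j hij => by
        fin_cases i <;> fin_cases j <;>
          first
            | rfl
            | exact absurd hij p
            | exact absurd hij q
            | exact absurd hij r
            | exact absurd hij.symm p
            | exact absurd hij.symm q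
            | exact absurd hij.symm r⟩
    obtain ⟨g, hg⟩ := h3.exists_smul_eq (emb a b c h1 h2 h3') (emb a' b' c' h4 h5 h6)
    exact ⟨g, DFunLike.congr_fun hg 0, DFunLike.congr_fun hg 1, DFunLike.congr_fun hg 2⟩
  have S : Setup G := ⟨hext, htr, hodd⟩
  obtain ⟨o, z, e, hoz, hoe, hze⟩ := Fintype.two_lt_card_iff.1 (by omega : 2 < Fintype.card α)
  -- the additive structure
  have hT := fun x : {x : α // x ≠ o} => S.exists_trans hoz x.2
  choose t ht1 ht2 _ using hT
  have htK : ∀ (x : {x : α // x ≠ o}) (y : α), y ≠ o → ((t x : G) : Equiv.Perm α) y ≠ o := fun x y hy h =>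
    hy ((t x : Equiv.Perm α).injective (h.trans (ht1 x).1.symm))
  have htu : ∀ (x : {x : α // x ≠ o}) (g : G), IsTrans o g → (g : Equiv.Perm α) z = x → t x = g :=
    fun x g hg hgz => S.isTrans_unique hoz (ht1 x) hg (by rw [ht2, hgz])
  -- the multiplicative structure
  have hH : ∀ x : {x : α // x ≠ o}, (x : α) ≠ z → ∃ g : G, (g : Equiv.Perm α) o = o ∧
      (g : Equiv.Perm α) z = z ∧ (g : Equiv.Perm α) e = x := fun x hx =>
    htr o z e o z x hoz hoe hze hoz x.2.symm (Ne.symm hx)
  choose h hho hhz hhe using hH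
  have hhu : ∀ x hx (g : G), (g : Equiv.Perm α) o = o → (g : Equiv.Perm α) z = z →
      (g : Equiv.Perm α) e = (x : {x : α // x ≠ o}) → h x hx = g := fun x hx g h1 h2 h3 =>
    hext _ _ o z e hoz hoe hze ((hho x hx).trans h1.symm) ((hhz x hx).trans h2.symm) ((hhe x hx).trans h3.symm)
  have hhK : ∀ x hx (y : α), y ≠ o → ((h x hx : G) : Equiv.Perm α) y ≠ o := fun x hx y hy he =>
    hy ((h x hx : Equiv.Perm α).injective (he.trans (hho x hx).symm))
  -- the involution exchanging `o` and `z`
  obtain ⟨w, hwe, hwo, hwz⟩ := htr e o z e z o hoe.symm hze.symm hoz hze.symm hoe.symm hoz.symm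
  have hw2 : w * w = 1 := S.sq_eq_one hoe.symm hze.symm hoz hwe hwo hwz
  have hw1 : w ≠ 1 := fun h1 => hoz (by rw [h1] at hwo; simpa using hwo)
  let H : Subgroup G :=
    { carrier := {g | (g : Equiv.Perm α) o = o ∧ (g : Equiv.Perm α) z = z}
      one_mem' := by simp
      mul_mem' := fun {a b} ha hb => ⟨by rw [mul_apply', hb.1, ha.1], by rw [mul_apply', hb.2, ha.2]⟩
      inv_mem' := fun {a} ha => ⟨by
        rw [InvMemClass.coe_inv]; exact (Equiv.Perm.inv_eq_iff_eq).2 ha.1.symm, by
        rw [InvMemClass.coe_inv]; exact (Equiv.Perm.inv_eq_iff_eq).2 ha.2.symm⟩ }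
  have hmemH : ∀ g : G, g ∈ H → w * g * w ∈ H := fun g hg => ⟨by
    rw [mul_apply', mul_apply', hwo, hg.2, hwz], by rw [mul_apply', mul_apply', hwz, hg.1, hwo]⟩
  let φ : H →* H :=
    { toFun := fun g => ⟨w * g * w, hmemH g g.2⟩
      map_one' := Subtype.ext (by simp [hw2])
      map_mul' := fun a b => Subtype.ext (by
        show w * (a * b : G) * w = w * a * w * (w * b * w)
        calc w * (a * b : G) * w = w * a * 1 * b * w := by simp [mul_assoc]
          _ = _ := by rw [← hw2]; simp [mul_assoc]) }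
  have hφfix : MonoidHom.FixedPointFree φ := by
    intro g hg
    have hg' : w * (g : G) * w = g := congrArg Subtype.val hg
    have hge : (w : Equiv.Perm α) (((g : G) : Equiv.Perm α) e) = ((g : G) : Equiv.Perm α) e := by
      conv_rhs => rw [← hg']
      rw [mul_apply', mul_apply', hwe]
    have := S.fixed_unique hw2 hw1 hge hwe
    exact Subtype.ext (S.eq_one hoz hoe hze g.2.1 g.2.2 this)
  have hφinv : Function.Involutive φ := fun g => Subtype.ext (by
    show w * (w * (g : G) * w) * w = g
    calc w * (w * (g : G) * w) * w = (w * w) * g * (w * w) := by simp [mul_assoc]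
      _ = g := by rw [hw2]; simp)
  have hHcomm : ∀ a b : G, a ∈ H → b ∈ H → a * b = b * a := fun a b ha hb =>
    congrArg Subtype.val (hφfix.commute_all_of_involutive hφinv ⟨a, ha⟩ ⟨b, hb⟩).eq
  -- the field, carried by `Pts q`
  set q := Fintype.card {x : α // x ≠ o} with hq
  let en : Pts q ≃ {x : α // x ≠ o} := (ptsEquiv q).trans (Fintype.equivFin _).symm
  let c : Pts q → α := fun i => (en i : α)
  have hc : ∀ i, c i ≠ o := fun i => (en i).2
  have hcinj : Function.Injective c := Subtype.val_injective.comp en.injective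
  let zero : Pts q := en.symm ⟨z, hoz.symm⟩
  let one : Pts q := en.symm ⟨e, hoe.symm⟩
  have hc0 : c zero = z := by simp [c, zero]
  have hc1 : c one = e := by simp [c, one]
  let add : Pts q → Pts q → Pts q := fun i j => en.symm ⟨_, htK (en i) (c j) (hc j)⟩
  have hadd : ∀ i j, c (add i j) = (t (en i) : Equiv.Perm α) (c j) := fun i j => by simp [c, add]
  let mul : Pts q → Pts q → Pts q := fun i j =>
    if hi : c i = z then zero else en.symm ⟨_, hhK (en i) hi (c j) (hc j)⟩
  have hmul0 : ∀ i j, c i = z → mul i j = zero := fun i j hi => by simp [mul, hi]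
  have hmul : ∀ i j (hi : c i ≠ z), c (mul i j) = (h (en i) hi : Equiv.Perm α) (c j) := fun i j hi => by
    simp only [mul, dif_neg hi]; simp [c]
  have htadd : ∀ i j, t (en (add i j)) = t (en i) * t (en j) := by
    intro i j
    refine htu _ _ (S.isTrans_mul hoz (ht1 _) (ht1 _)).1 ?_
    rw [mul_apply', ht2]
    exact (hadd i j).symm
  have htz : t (en zero) = 1 := htu _ 1 isTrans_one (by simpa using hc0.symm)
  have addz : ∀ i, add zero i = i := fun i => hcinj (by rw [hadd, htz]; simp)
  have addcomm : ∀ i j, add i j = add j i := fun i j => hcinj (by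
    have h1 := ht2 (en j)
    rw [hadd, hadd, show c j = (t (en j) : Equiv.Perm α) z from h1.symm,
      show c i = (t (en i) : Equiv.Perm α) z from (ht2 (en i)).symm, ← mul_apply', ← mul_apply',
      (S.isTrans_mul hoz (ht1 _) (ht1 _)).2])
  have addassoc : ∀ i j k, add (add i j) k = add i (add j k) := fun i j k => hcinj (by
    rw [hadd, htadd, hadd, hadd, mul_apply'])
  have addself : ∀ i, add i i = zero := fun i => hcinj (by
    rw [hadd, hc0, show c i = (t (en i) : Equiv.Perm α) z from (ht2 (en i)).symm, ← mul_apply',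
      S.isTrans_sq hoz (ht1 _)]
    simp)
  have hone : ∀ (he : c one ≠ z), h (en one) he = 1 := fun he =>
    hhu _ _ 1 (by simp) (by simp) (by simpa using hc1.symm)
  have onemul : ∀ i, mul one i = i := fun i => hcinj (by
    have he : c one ≠ z := by rw [hc1]; exact hze.symm
    rw [hmul _ _ he, hone he]; simp)
  have mulz : ∀ i, mul i zero = zero := fun i => by
    by_cases hi : c i = z
    · exact hmul0 _ _ hi
    · exact hcinj (by rw [hmul _ _ hi, hc0, hhz])
  have mulne : ∀ i j, c i ≠ z → c j ≠ z → c (mul i j) ≠ z := fun i j hi hj he => by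
    rw [hmul _ _ hi] at he
    exact hj ((h (en i) hi : Equiv.Perm α).injective (he.trans (hhz _ hi).symm))
  have hhmul : ∀ i j (hi : c i ≠ z) (hj : c j ≠ z),
      h (en (mul i j)) (mulne i j hi hj) = h (en i) hi * h (en j) hj := by
    intro i j hi hj
    refine hhu _ _ _ ?_ ?_ ?_
    · rw [mul_apply', hho, hho]
    · rw [mul_apply', hhz, hhz]
    · rw [mul_apply', hhe]
      exact (hmul i j hi).symm
  have zmul : ∀ i, mul zero i = zero := fun i => hmul0 _ _ hc0
  have mulcomm : ∀ i j, mul i j = mul j i := fun i j => by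
    by_cases hi : c i = z
    · rw [hmul0 _ _ hi, show i = zero from hcinj (hi.trans hc0.symm), mulz]
    by_cases hj : c j = z
    · rw [hmul0 _ _ hj, show j = zero from hcinj (hj.trans hc0.symm), mulz]
    apply hcinj
    rw [hmul _ _ hi, hmul _ _ hj, show c j = (h (en j) hj : Equiv.Perm α) e from (hhe _ hj).symm,
      show c i = (h (en i) hi : Equiv.Perm α) e from (hhe _ hi).symm, ← mul_apply', ← mul_apply',
      hHcomm _ _ ⟨hho _ hi, hhz _ hi⟩ ⟨hho _ hj, hhz _ hj⟩]
  have mulassoc : ∀ i j k, mul (mul i j) k = mul i (mul j k) := fun i j k => by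
    by_cases hi : c i = z
    · rw [hmul0 _ _ hi, hmul0 _ _ hi, zmul]
    by_cases hj : c j = z
    · rw [hmul0 j k hj, mulz, show j = zero from hcinj (hj.trans hc0.symm), mulz, zmul]
    apply hcinj
    rw [hmul _ _ (mulne i j hi hj), hhmul i j hi hj, hmul _ _ hi, hmul _ _ hj, mul_apply']
  have muladd : ∀ i j k, mul i (add j k) = add (mul i j) (mul i k) := fun i j k => by
    by_cases hi : c i = z
    · rw [hmul0 _ _ hi, hmul0 _ _ hi, hmul0 _ _ hi, addz]
    apply hcinj
    have hconj : t (en (mul i j)) = h (en i) hi * t (en j) * (h (en i) hi)⁻¹ := by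
      refine htu _ _ (isTrans_conj (ht1 _) _ (hho _ hi)) ?_
      have h2 : (((h (en i) hi)⁻¹ : G) : Equiv.Perm α) z = z := by
        rw [InvMemClass.coe_inv]; exact (Equiv.Perm.inv_eq_iff_eq).2 (hhz _ hi).symm
      rw [mul_apply', mul_apply', h2, ht2]
      exact (hmul i j hi).symm
    rw [hmul _ _ hi, hadd, hadd, hconj, hmul _ _ hi, ← mul_apply', ← mul_apply']
    congr 2
    group
  letI R : CommRing (Pts q) :=
    @CommRing.ofMinimalAxioms _ ⟨add⟩ ⟨mul⟩ ⟨id⟩ ⟨zero⟩ ⟨one⟩ addassoc addz addself mulassoc mulcomm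
      onemul muladd
  have hfield : IsField (Pts q) := by
    refine ⟨⟨zero, one, fun he => hze (by rw [← hc0, ← hc1, he])⟩, mulcomm, fun {i} hi => ?_⟩
    have hi' : c i ≠ z := fun he => hi (hcinj (he.trans hc0.symm))
    have hje : ((h (en i) hi')⁻¹ : G).1 e ≠ o := fun he => hoe (by
      have := congrArg ((h (en i) hi' : G) : Equiv.Perm α) he
      rw [hho] at this
      simpa using this.symm)
    refine ⟨en.symm ⟨_, hje⟩, hcinj ?_⟩
    show c (mul i _) = c one
    rw [hmul _ _ hi', hc1]
    simp [c]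
  letI F : Field (Pts q) := hfield.toField
  have hchar : ∀ x : Pts q, x + x = 0 := addself
  -- the projective line
  let π : Pts q × Pts q → α := fun v => if v.2 = 0 then o else c (v.1 * v.2⁻¹)
  have hπ : ∀ x : α, ∃ v : Pts q × Pts q, v ≠ 0 ∧ π v = x := by
    intro x
    by_cases hx : x = o
    · exact ⟨(1, 0), by simp, by simp [π, hx]⟩
    · exact ⟨(en.symm ⟨x, hx⟩, 1), by simp, by simp [π, c]⟩
  let act : Matrix.SpecialLinearGroup (Fin 2) (Pts q) → Pts q × Pts q → Pts q × Pts q := fun m v =>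
    (m.1 0 0 * v.1 + m.1 0 1 * v.2, m.1 1 0 * v.1 + m.1 1 1 * v.2)
  have act_mul : ∀ m n v, act (m * n) v = act m (act n v) := fun m n v => by
    simp [act, Matrix.mul_apply, Fin.sum_univ_two]
    constructor <;> ring
  have act_one : ∀ v, act 1 v = v := fun v => by simp [act]
  have act_ne : ∀ m v, v ≠ 0 → act m v ≠ 0 := fun m v hv h0 => hv (by
    rw [← act_one v, ← inv_mul_cancel m, act_mul, h0]
    simp [act])
  let Rel : Matrix.SpecialLinearGroup (Fin 2) (Pts q) → G → Prop := fun m g =>
    ∀ v : Pts q × Pts q, v ≠ 0 → (g : Equiv.Perm α) (π v) = π (act m v)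
  have Rel_mul : ∀ m n g g', Rel m g → Rel n g' → Rel (m * n) (g * g') := fun m n g g' h1 h2 v hv => by
    rw [mul_apply', h2 v hv, h1 _ (act_ne n v hv), act_mul]
  have Rel_uniq : ∀ m g g', Rel m g → Rel m g' → g = g' := fun m g g' h1 h2 => by
    refine Subtype.ext (Equiv.ext fun x => ?_)
    obtain ⟨v, hv, rfl⟩ := hπ x
    rw [h1 v hv, h2 v hv]
  have cneg : ∀ x : Pts q, -x = x := fun x => neg_eq_of_add_eq_zero_left (hchar x)
  -- the three kinds of generators
  let U : Pts q → Matrix.SpecialLinearGroup (Fin 2) (Pts q) := fun x =>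
    ⟨!![1, x; 0, 1], by simp [Matrix.det_fin_two]⟩
  let W : Matrix.SpecialLinearGroup (Fin 2) (Pts q) :=
    ⟨!![0, 1; 1, 0], by simp [Matrix.det_fin_two, cneg]⟩
  let D : (Pts q)ˣ → Matrix.SpecialLinearGroup (Fin 2) (Pts q) := fun s =>
    ⟨!![(s : Pts q), 0; 0, ((s⁻¹ : (Pts q)ˣ) : Pts q)], by simp [Matrix.det_fin_two]⟩
  have RelU : ∀ x, Rel (U x) (t (en x)) := by
    intro x v hv
    simp only [act, U, π]
    by_cases h0 : v.2 = 0
    · simpa [h0] using (ht1 (en x)).1
    · simp [h0, add_mul]
      rw [add_comm]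
      exact (hadd _ _).symm
  have hwinv : ∀ x : Pts q, x ≠ 0 → (w : Equiv.Perm α) (c x) = c x⁻¹ := by
    intro x hx
    have hi : c x ≠ z := fun he => hx (hcinj (he.trans hc0.symm))
    have hcx : c x = (h (en x) hi : Equiv.Perm α) e := (hhe _ hi).symm
    have h1 : (w : Equiv.Perm α) (c x) = ((w * h (en x) hi * w : G) : Equiv.Perm α) e := by
      rw [mul_apply', mul_apply', hwe, ← hcx]
    have h2 : (w * h (en x) hi * w : G) = (h (en x) hi)⁻¹ :=
      congrArg Subtype.val (congrFun (hφfix.coe_eq_inv_of_involutive hφinv) ⟨_, hho _ hi, hhz _ hi⟩)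
    rw [h1, h2]
    apply (h (en x) hi : Equiv.Perm α).injective
    rw [← hmul x x⁻¹ hi]
    show _ = c (x * x⁻¹)
    rw [mul_inv_cancel₀ hx]
    simp [hc1]
    exact hc1.symm
  have RelW : Rel W w := by
    intro v hv
    simp only [act, W, π]
    by_cases h0 : v.2 = 0
    · have hv1 : v.1 ≠ 0 := fun h1 => hv (Prod.ext h1 h0)
      simp [h0, hv1, hwo]
      exact hc0.symm
    · by_cases h1 : v.1 = 0
      · simp [h0, h1]
        exact (congrArg _ hc0).trans hwz
      · simp [h0, h1, hwinv _ (mul_ne_zero h1 (inv_ne_zero h0)), mul_comm]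
  have hunit : ∀ x : Pts q, x ≠ 0 → c x ≠ z := fun x hx he => hx (hcinj (he.trans hc0.symm))
  have RelD : ∀ s : (Pts q)ˣ, Rel (D s) (h (en (s * s : Pts q)) (hunit _ (mul_ne_zero s.ne_zero s.ne_zero))) := by
    intro s v hv
    simp only [act, D, π]
    by_cases h0 : v.2 = 0
    · simp [h0, hho]
    · simp [h0]
      rw [← hmul]
      congr 1
      show (s * s : Pts q) * (v.1 * v.2⁻¹) = _
      ring
  have hex : ∀ m, ∃ g, Rel m g := by
    intro m
    have hdet : m.1 0 0 * m.1 1 1 - m.1 0 1 * m.1 1 0 = 1 := by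
      have := m.2
      rwa [Matrix.det_fin_two] at this
    by_cases hc' : m.1 1 0 = 0
    · have ha : m.1 0 0 ≠ 0 := fun ha => by simp [ha, hc'] at hdet
      have hm : m = D (Units.mk0 _ ha) * U ((m.1 0 0)⁻¹ * m.1 0 1) := by
        rw [hc', mul_zero, sub_zero] at hdet
        have h11 : m.1 1 1 = (m.1 0 0)⁻¹ := eq_inv_of_mul_eq_one_right hdet
        ext i j
        simp only [Matrix.SpecialLinearGroup.coe_mul]
        fin_cases i <;> fin_cases j <;>
          simp [D, U, Matrix.mul_apply, Fin.sum_univ_two, hc', h11, ha]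
      rw [hm]
      exact ⟨_, Rel_mul _ _ _ _ (RelD _) (RelU _)⟩
    · have hm : m = U (m.1 0 0 * (m.1 1 0)⁻¹) * W * D (Units.mk0 _ hc') * U (m.1 1 1 * (m.1 1 0)⁻¹) := by
        have h01 : m.1 0 1 = (m.1 0 0 * m.1 1 1 + 1) * (m.1 1 0)⁻¹ := by
          rw [eq_mul_inv_iff_mul_eq₀ hc']
          linear_combination -hdet - hchar (1 : Pts q)
        ext i j
        simp only [Matrix.SpecialLinearGroup.coe_mul]
        fin_cases i <;> fin_cases j <;>
          simp [D, U, W, Matrix.mul_apply, Fin.sum_univ_two, hc', h01] <;> field_simp <;> ring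
      rw [hm]
      exact ⟨_, Rel_mul _ _ _ _ (Rel_mul _ _ _ _ (Rel_mul _ _ _ _ (RelU _) RelW) (RelD _)) (RelU _)⟩
  choose Φ hΦ using hex
  let f : Matrix.SpecialLinearGroup (Fin 2) (Pts q) →* G :=
    MonoidHom.mk' Φ fun m n => Rel_uniq _ _ _ (hΦ _) (Rel_mul _ _ _ _ (hΦ m) (hΦ n))
  haveI hp2 : CharP (Pts q) 2 :=
    CharTwo.of_one_ne_zero_of_two_eq_zero one_ne_zero (by rw [← one_add_one_eq_two]; exact hchar 1)
  have hinj : Function.Injective f := by
    rw [injective_iff_map_eq_one]
    intro m hm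
    have hm' : ∀ v, v ≠ 0 → π (act m v) = π v := fun v hv => by
      rw [← hΦ m v hv]
      show ((f m : G) : Equiv.Perm α) (π v) = π v
      rw [hm]; simp
    have h10 : m.1 1 0 = 0 := by
      have := hm' (1, 0) (by simp)
      by_contra hne
      simp [π, act, hne, hc] at this
    have hdet : m.1 0 0 * m.1 1 1 = 1 := by
      have := m.2
      rwa [Matrix.det_fin_two, h10, mul_zero, sub_zero] at this
    have hd0 : m.1 1 1 ≠ 0 := fun h0 => by simp [h0] at hdet
    have h01 : m.1 0 1 = 0 := by
      have := hm' (0, 1) (by simp)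
      simp [π, act, hd0] at this
      simpa [hd0] using hcinj this
    have h00 : m.1 0 0 = m.1 1 1 := by
      have := hm' (1, 1) (by simp)
      simp [π, act, hd0, h10, h01] at this
      have h2 := hcinj this
      field_simp at h2
      exact h2
    have h11 : m.1 1 1 = 1 := by
      rw [h00] at hdet
      have h3 : (m.1 1 1 - 1) * (m.1 1 1 - 1) = 0 := by
        linear_combination hdet - hchar (m.1 1 1) + hchar 1
      exact sub_eq_zero.1 (mul_self_eq_zero.1 h3)
    apply Subtype.ext
    ext i j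
    fin_cases i <;> fin_cases j <;> simp [h00, h10, h01, h11]
  have hsurj : Function.Surjective f := by
    have hmem : ∀ m g, Rel m g → g ∈ f.range := fun m g hg => ⟨m, Rel_uniq _ _ _ (hΦ m) hg⟩
    have hwm : w ∈ f.range := hmem _ _ RelW
    have htm : ∀ x, t x ∈ f.range := fun x => by
      have := hmem _ _ (RelU (en.symm x))
      rwa [en.apply_symm_apply] at this
    have hfix2 : ∀ g : G, (g : Equiv.Perm α) o = o → g ∈ f.range := by
      intro g hg
      have hgz : (g : Equiv.Perm α) z ≠ o := fun h0 => hoz.symm ((g : Equiv.Perm α).injective (h0.trans hg.symm))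
      set x : {x : α // x ≠ o} := ⟨_, hgz⟩
      suffices h0 : (t x)⁻¹ * g ∈ f.range by simpa using mul_mem (htm x) h0
      set k := (t x)⁻¹ * g
      have hko : (k : Equiv.Perm α) o = o := by
        show ((t x : Equiv.Perm α))⁻¹ ((g : Equiv.Perm α) o) = o
        rw [hg]; exact (Equiv.Perm.inv_eq_iff_eq).2 (ht1 x).1.symm
      have hkz : (k : Equiv.Perm α) z = z := by
        show ((t x : Equiv.Perm α))⁻¹ ((g : Equiv.Perm α) z) = z
        exact (Equiv.Perm.inv_eq_iff_eq).2 (ht2 x).symm
      have hke : (k : Equiv.Perm α) e ≠ o := fun h0 => hoe ((k : Equiv.Perm α).injective (hko.trans h0.symm))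
      set y : Pts q := en.symm ⟨_, hke⟩
      have hy : y ≠ 0 := fun h0 => by
        have : (k : Equiv.Perm α) e = z := by
          have := congrArg c h0
          simp [y, c] at this
          exact this.trans hc0
        exact hze ((k : Equiv.Perm α).injective (this.trans hkz.symm)).symm
      haveI : Fintype (Pts q) := inferInstance
      obtain ⟨r, hr⟩ : ∃ r : Pts q, r * r = y := by
        have hinj : Function.Injective fun r : Pts q => r * r := fun a b hab => by
          have h4 : (a - b) * (a - b) = 0 := by linear_combination (hab : a * a = b * b) + hchar (b * b) - hchar (a * b)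
          exact sub_eq_zero.1 (mul_self_eq_zero.1 h4)
        exact (Finite.injective_iff_surjective.1 hinj) y
      have hr0 : r ≠ 0 := fun h0 => hy (by rw [← hr, h0, mul_zero])
      have h5 := hmem _ _ (RelD (Units.mk0 r hr0))
      have hyz : c y ≠ z := hunit y hy
      have h6 : h (en y) hyz = k := hhu _ _ k hko hkz (by simp [y])
      rw [← h6]
      convert h5 using 3
      simp [hr]
    intro g
    by_cases hgo : (g : Equiv.Perm α) o = o
    · exact hfix2 g hgo
    · set x : {x : α // x ≠ o} := ⟨_, hgo⟩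
      have h7 : w * (t x)⁻¹ * g ∈ f.range := hfix2 _ (by
        rw [mul_apply', mul_apply']
        show (w : Equiv.Perm α) ((t x : Equiv.Perm α)⁻¹ ((g : Equiv.Perm α) o)) = o
        rw [(Equiv.Perm.inv_eq_iff_eq).2 (ht2 x).symm, hwz])
      have h8 := mul_mem (htm x) (mul_mem hwm h7)
      simp [← mul_assoc] at h8
      rwa [mul_assoc (t x) w w, hw2, mul_one, mul_inv_cancel, one_mul] at h8
  obtain ⟨a, ha2, ha⟩ := FiniteField.card (Pts q) 2
  refine ⟨a, a.pos, ?_, Pts q, F, inferInstance, by exact ha,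
    ⟨(MulEquiv.ofBijective f ⟨hinj, hsurj⟩).symm⟩⟩
  rw [← ha, card_pts, hq, Fintype.card_subtype_compl, Fintype.card_subtype_eq]
  omega

end Cfsg.Agent.S4702
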