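import Cfsg.Statements.S4706
import Cfsg.Agent.S4702
import Cfsg.Agent.Lib.Perm.PrimeDegreeOrders
import Cfsg.Agent.Lib.Perm.PrimeDegreeGroups
-- import your own Cfsg.Agent.* helpers here

set_option autoImplicit false
open Cfsg

namespace Cfsg.Agent.S4706

open MulAction

/-- Sum of the falling factorials of the fixed point numbers of a multiply transitive group. -/
theorem sum_descFactorial {α : Type*} [Finite α] {G : Type*} [Group G] [Fintype G] [MulAction G α]
    (k : ℕ) (hk : k ≤ Nat.card α) (h : IsMultiplyPretransitive G α k) :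
    ∑ g : G, (Nat.card (fixedBy α g)).descFactorial k = Nat.card G := by
  classical
  have := Fintype.ofFinite α
  have hne : Nonempty (Fin k ↪ α) :=
    Function.Embedding.nonempty_of_card_le (by simpa [Nat.card_eq_fintype_card] using hk)
  haveI : IsPretransitive G (Fin k ↪ α) := h
  have hfix : ∀ g : G, Fintype.card (fixedBy (Fin k ↪ α) g) =
      (Nat.card (fixedBy α g)).descFactorial k := fun g => by
    have e : fixedBy (Fin k ↪ α) g ≃ (Fin k ↪ fixedBy α g) :=
      { toFun := fun f => ⟨fun i => ⟨f.1 i, by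
            have h1 := f.2
            rw [mem_fixedBy] at h1
            rw [mem_fixedBy]
            exact DFunLike.congr_fun h1 i⟩, fun i j hij =>
              f.1.injective (congrArg Subtype.val hij)⟩
        invFun := fun f => ⟨f.trans (Function.Embedding.subtype _), by
            rw [mem_fixedBy]
            ext i
            exact (f i).2⟩
        left_inv := fun f => rfl
        right_inv := fun f => rfl }
    rw [Fintype.card_congr e, Fintype.card_embedding_eq, Fintype.card_fin,
      Nat.card_eq_fintype_card]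
  have h1 := sum_card_fixedBy_eq_card_orbits_mul_card_group G (Fin k ↪ α)
  have horb : Fintype.card (Quotient (orbitRel G (Fin k ↪ α))) = 1 :=
    Fintype.card_eq_one_iff.mpr ⟨Quotient.mk _ hne.some, fun x => Quotient.inductionOn x fun y =>
      Quotient.sound (by
        obtain ⟨g, hg⟩ := exists_smul_eq G hne.some y
        exact ⟨g, hg⟩)⟩
  rw [horb, one_mul] at h1
  rw [Nat.card_eq_fintype_card, ← h1]
  exact Finset.sum_congr rfl fun g _ => (hfix g).symm

/-- Fixed point moments show that a three-transitive group of odd prime degree `p` with at least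
`(p - 1) |G| / (2 p)` elements of order `p` has trivial three-point stabilisers. -/
theorem eq_one_of_three_fixed {α : Type*} [Fintype α] [DecidableEq α] {p : ℕ} [Fact p.Prime]
    (hp : 2 < p) (hα : Fintype.card α = p) (G : Subgroup (Equiv.Perm α)) [IsPretransitive G α]
    (h3 : IsMultiplyPretransitive G α 3) (P : Sylow p G)
    (hN : Nat.card (Subgroup.normalizer ((P : Subgroup G) : Set G)) = 2 * p) (g₀ : G)
    (hg₀ : 3 ≤ Nat.card (fixedBy α g₀)) : g₀ = 1 := by
  classical
  have hpr : p.Prime := Fact.out
  have hcard3 : 3 ≤ Fintype.card α := by omega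
  have := Fintype.ofFinite G
  haveI := h3
  have hle : ∀ g : G, Nat.card (fixedBy α g) ≤ p := fun g => by
    rw [Nat.card_eq_fintype_card, ← hα]
    exact Fintype.card_subtype_le _
  have hA : ∀ k : ℕ, k ≤ 3 → ∑ g : G, ((Nat.card (fixedBy α g)).descFactorial k : ℤ) =
      (Nat.card G : ℤ) := fun k hk => by
    have h1 := sum_descFactorial (α := α) (G := G) k (by
      rw [Nat.card_eq_fintype_card]; omega) (isMultiplyPretransitive_of_le hk (by
        rw [Nat.card_eq_fintype_card]; exact hcard3))
    exact_mod_cast h1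
  let T : G → ℤ := fun g => ((p : ℤ) - Nat.card (fixedBy α g)) *
    ((Nat.card (fixedBy α g) : ℤ) - 1) * ((Nat.card (fixedBy α g) : ℤ) - 2)
  have hTpoly : ∀ g, T g = -((Nat.card (fixedBy α g)).descFactorial 3 : ℤ) +
      (p : ℤ) * ((Nat.card (fixedBy α g)).descFactorial 2 : ℤ) -
      2 * (p : ℤ) * ((Nat.card (fixedBy α g)).descFactorial 1 : ℤ) + 2 * (p : ℤ) := fun g => by
    simp only [T]
    generalize Nat.card (fixedBy α g) = F
    rcases F with _ | _ | F
    · simp
      ring
    · simp [Nat.descFactorial_succ]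
    · simp [Nat.descFactorial_succ]
      ring
  have hsum : ∑ g, T g = ((p : ℤ) - 1) * Nat.card G := by
    simp only [hTpoly, Finset.sum_add_distrib, Finset.sum_sub_distrib, Finset.sum_neg_distrib,
      ← Finset.mul_sum, hA 3 le_rfl, hA 2 (by omega), hA 1 (by omega), Finset.sum_const,
      Finset.card_univ, nsmul_eq_mul, ← Nat.card_eq_fintype_card]
    ring
  have hT0 : ∀ g, 0 ≤ T g := fun g => by
    have h1 : (Nat.card (fixedBy α g) : ℤ) ≤ p := by exact_mod_cast hle g
    simp only [T]
    generalize Nat.card (fixedBy α g) = F at h1 ⊢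
    rcases F with _ | _ | F
    · simp only [Nat.cast_zero]; linarith
    · simp
    · push_cast at h1 ⊢
      exact mul_nonneg (mul_nonneg (by linarith) (by linarith)) (by linarith)
  -- elements of order `p`
  let S : Finset G := Finset.univ.filter fun g => orderOf g = p
  have hS : ∀ g ∈ S, T g = 2 * (p : ℤ) := fun g hg => by
    have hg' : orderOf g = p := (Finset.mem_filter.mp hg).2
    obtain ⟨e, he⟩ := Perm.PrimeDeg.exists_coord (p := p) (by rw [Nat.card_eq_fintype_card, hα])
      (τ := (g : Equiv.Perm α)) (by rw [Subgroup.orderOf_coe, hg'])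
    have h0 : IsEmpty (fixedBy α g) := ⟨fun ⟨x, hx⟩ => by
      rw [mem_fixedBy, ← e.apply_symm_apply x, Subgroup.smul_def, Equiv.Perm.smul_def, he,
        e.injective.eq_iff] at hx
      exact one_ne_zero (α := ZMod p) (by simpa using hx)⟩
    have h00 : Nat.card (fixedBy α g) = 0 := Nat.card_of_isEmpty
    simp only [T, h00]
    push_cast
    ring
  have hScard : Nat.card G * (p - 1) ≤ 2 * p * S.card := by
    have hQ : ∀ Q : Sylow p G, Nat.card (Q : Subgroup G) = p :=
      fun Q => Perm.PrimeDeg.card_sylow hα Q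
    let f : (Σ Q : Sylow p G, {q : (Q : Subgroup G) // q ≠ 1}) → {g : G // g ∈ S} := fun x =>
      ⟨((x.2.1 : (x.1 : Subgroup G)) : G), Finset.mem_filter.mpr ⟨Finset.mem_univ _, by
        have h1 := orderOf_dvd_natCard x.2.1
        rw [hQ x.1] at h1
        rw [Subgroup.orderOf_coe]
        exact (hpr.eq_one_or_self_of_dvd _ h1).resolve_left
          (fun h => x.2.2 (orderOf_eq_one_iff.mp h))⟩⟩
    have hf : Function.Injective f := by
      rintro ⟨Q, q⟩ ⟨R, r⟩ h
      have hqr : ((q.1 : (Q : Subgroup G)) : G) = ((r.1 : (R : Subgroup G)) : G) :=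
        congrArg Subtype.val h
      have hz : ∀ (U : Sylow p G) (u : (U : Subgroup G)), u ≠ 1 →
          Subgroup.zpowers (u : G) = U := fun U u hu => by
        refine Subgroup.eq_of_le_of_card_ge (Subgroup.zpowers_le.mpr u.2) ?_
        rw [hQ U, Nat.card_zpowers, Subgroup.orderOf_coe]
        have h1 := orderOf_dvd_natCard u
        rw [hQ U] at h1
        exact ((hpr.eq_one_or_self_of_dvd _ h1).resolve_left
          (fun h => hu (orderOf_eq_one_iff.mp h))).ge
      have hQR : Q = R := Sylow.ext (by rw [← hz Q q.1 q.2, hqr, hz R r.1 r.2])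
      subst hQR
      congr 1
      exact Subtype.ext (Subtype.ext hqr)
    have h1 := Nat.card_le_card_of_injective f hf
    rw [Nat.card_sigma, Nat.card_eq_finsetCard] at h1
    rw [Finset.sum_congr rfl (g := fun _ => p - 1) (fun Q _ => by
      rw [Nat.card_eq_fintype_card, Fintype.card_subtype_compl, Fintype.card_subtype_eq,
        ← Nat.card_eq_fintype_card, hQ Q]), Finset.sum_const, Finset.card_univ,
      smul_eq_mul, ← Nat.card_eq_fintype_card] at h1
    have h2 := Sylow.card_eq_index_normalizer P
    have h4 := (Subgroup.normalizer ((P : Subgroup G) : Set G)).card_mul_index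
    rw [hN] at h4
    rw [show (Subgroup.normalizer ((P : Subgroup G) : Set G)).index = Nat.card (Sylow p G) from h2.symm] at h4
    calc Nat.card G * (p - 1) = 2 * p * (Nat.card (Sylow p G) * (p - 1)) := by
          rw [← h4]; ring
      _ ≤ 2 * p * S.card := Nat.mul_le_mul_left _ h1
  have hsplit := Finset.sum_sdiff (f := T) (Finset.subset_univ S)
  rw [Finset.sum_congr rfl hS, Finset.sum_const, nsmul_eq_mul, hsum] at hsplit
  have hp1 : 1 ≤ p := by omega
  have hScard' : (Nat.card G : ℤ) * ((p : ℤ) - 1) ≤ 2 * (p : ℤ) * S.card := by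
    have : ((Nat.card G * (p - 1) : ℕ) : ℤ) ≤ ((2 * p * S.card : ℕ) : ℤ) := by
      exact_mod_cast hScard
    push_cast [Nat.cast_sub hp1] at this
    exact this
  have hz : ∑ g ∈ Finset.univ \ S, T g = 0 :=
    le_antisymm (by linarith) (Finset.sum_nonneg fun g _ => hT0 g)
  have hg₀S : g₀ ∉ S := fun h => by
    have h1 : orderOf g₀ = p := (Finset.mem_filter.mp h).2
    obtain ⟨e, he⟩ := Perm.PrimeDeg.exists_coord (p := p) (by rw [Nat.card_eq_fintype_card, hα])
      (τ := (g₀ : Equiv.Perm α)) (by rw [Subgroup.orderOf_coe, h1])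
    haveI : Nonempty (fixedBy α g₀) := (Nat.card_pos_iff.mp (by omega)).1
    obtain ⟨⟨x, hx⟩⟩ := ‹Nonempty (fixedBy α g₀)›
    rw [mem_fixedBy, ← e.apply_symm_apply x, Subgroup.smul_def, Equiv.Perm.smul_def, he,
      e.injective.eq_iff] at hx
    exact one_ne_zero (α := ZMod p) (by simpa using hx)
  have h5 := (Finset.sum_eq_zero_iff_of_nonneg fun g _ => hT0 g).mp hz g₀
    (Finset.mem_sdiff.mpr ⟨Finset.mem_univ _, hg₀S⟩)
  simp only [T, mul_eq_zero, sub_eq_zero] at h5
  have h6 : Nat.card (fixedBy α g₀) = p := by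
    rcases h5 with (h | h) | h
    · exact_mod_cast h.symm
    · exfalso
      have : Nat.card (fixedBy α g₀) = 1 := by exact_mod_cast h
      omega
    · exfalso
      have : Nat.card (fixedBy α g₀) = 2 := by exact_mod_cast h
      omega
  have h7 : fixedBy α g₀ = Set.univ := by
    refine Set.eq_of_subset_of_ncard_le (Set.subset_univ _) ?_ (Set.toFinite _)
    rw [Set.ncard_univ, ← Nat.card_coe_set_eq, h6, Nat.card_eq_fintype_card, hα]
  apply Subtype.ext
  ext x
  exact Set.eq_univ_iff_forall.mp h7 x

/-- Let p > 2 be a prime and G a permutation group on p letters whose Sylow p-subgroup P has normalizer of order 2p. Then either P is normal in G, or p − 1 = 2^a for some a and G is isomorphic to SL(2, 2^a). -/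
theorem result {α : Type*} [Fintype α] [DecidableEq α] {p : ℕ} [Fact p.Prime] (hp : 2 < p) (hα : Fintype.card α = p) (G : Subgroup (Equiv.Perm α)) (P : Sylow p G) (hN : Nat.card (Subgroup.normalizer ((P : Subgroup G) : Set G)) = 2 * p) : (P : Subgroup G).Normal ∨ ∃ (a : ℕ) (F : Type) (_ : Field F) (_ : Fintype F), p = 2 ^ a + 1 ∧ Fintype.card F = 2 ^ a ∧ Nonempty (G ≃* Matrix.SpecialLinearGroup (Fin 2) F) := by
  classical
  by_cases hnorm : (P : Subgroup G).Normal
  · exact Or.inl hnorm
  refine Or.inr ?_
  have hpr : p.Prime := Fact.out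
  have hp2 : p ≠ 2 := by omega
  have hdvd : p ∣ Nat.card G := dvd_trans (hN ▸ dvd_mul_left p 2)
    (Subgroup.card_subgroup_dvd_card (Subgroup.normalizer ((P : Subgroup G) : Set G)))
  obtain ⟨τ, hτ⟩ := exists_prime_orderOf_dvd_card' p hdvd
  haveI htrans : IsPretransitive G α := by
    obtain ⟨e, he⟩ := Perm.PrimeDeg.exists_coord (p := p) (by rw [Nat.card_eq_fintype_card, hα])
      (τ := (τ : Equiv.Perm α)) (by rw [Subgroup.orderOf_coe, hτ])
    refine (isPretransitive_iff_base (e 0)).mpr fun y => ?_
    have hpow : ∀ n : ℕ, τ ^ n • e 0 = e (n : ZMod p) := fun n => by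
      induction n with
      | zero => simp
      | succ n ih =>
        rw [pow_succ', mul_smul, ih, Subgroup.smul_def, Equiv.Perm.smul_def, he]
        push_cast
        rfl
    exact ⟨τ ^ (e.symm y).val, by rw [hpow, ZMod.natCast_val, ZMod.cast_id, e.apply_symm_apply]⟩
  have hns : ¬ Group.IsSolvable G := fun h =>
    hnorm (Perm.PrimeDeg.normal_sylow_of_isSolvable hα h P)
  have h3 := Perm.PrimeDeg.three_transitive hα hns P (hN ▸ even_two_mul p)
  have hodd : Odd (Fintype.card α) := hα ▸ hpr.odd_of_ne_two hp2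
  obtain ⟨a, -, ha, F, i1, i2, hF, hiso⟩ := S4702.result (by omega) hodd G h3
    (fun g hg => eq_one_of_three_fixed hp hα G h3 P hN g hg)
  exact ⟨a, F, i1, i2, by omega, hF, hiso⟩

end Cfsg.Agent.S4706
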