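import Cfsg.Statements.S3183

set_option autoImplicit false
open Cfsg

namespace Cfsg.Agent.S3183
lemma center_card {G : Type*} [Group G] (U V : Sylow 2 G) [Finite G] :
    Nat.card ↥((Subgroup.center ↥(U : Subgroup G)).map (U : Subgroup G).subtype) =
      Nat.card ↥((Subgroup.center ↥(V : Subgroup G)).map (V : Subgroup G).subtype) := by
  rw [Subgroup.card_map_of_injective (U : Subgroup G).subtype_injective,
    Subgroup.card_map_of_injective (V : Subgroup G).subtype_injective]
  exact Nat.card_congr (Subgroup.centerCongr (U.equiv V)).toEquiv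

lemma mem_map_center {G : Type*} [Group G] (U : Subgroup G) (x : G) :
    x ∈ (Subgroup.center ↥U).map U.subtype ↔ x ∈ U ∧ ∀ u ∈ U, u * x = x * u := by
  constructor
  · rintro ⟨⟨y, hy⟩, hc, rfl⟩
    exact ⟨hy, fun u hu => congrArg Subtype.val (Subgroup.mem_center_iff.1 hc ⟨u, hu⟩)⟩
  · rintro ⟨hx, hc⟩
    exact ⟨⟨x, hx⟩, Subgroup.mem_center_iff.2 fun u => Subtype.ext (hc u u.2), rfl⟩

theorem inf_le_center {G : Type*} [Group G] [Finite G]
    (hCI : ∀ S T : Sylow 2 G, S ≠ T → ∃ U : Sylow 2 G,
      (S : Subgroup G) ⊓ (T : Subgroup G) ≤ (Subgroup.center ↥(U : Subgroup G)).map (U : Subgroup G).subtype)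
    (S T : Sylow 2 G) (hne : T ≠ S) :
    (S : Subgroup G) ⊓ (T : Subgroup G) ≤ (Subgroup.center ↥(S : Subgroup G)).map (S : Subgroup G).subtype := by
  obtain ⟨U, hU⟩ := hCI S T hne.symm
  obtain ⟨D, hD⟩ : ∃ D, D = (S : Subgroup G) ⊓ (T : Subgroup G) := ⟨_, rfl⟩
  rw [← hD] at hU ⊢
  have hUC : (U : Subgroup G) ≤ Subgroup.centralizer (D : Set G) := fun u hu d hd =>
    (((mem_map_center _ d).1 (hU hd)).2 u hu).symm
  by_cases hSC : (S : Subgroup G) ≤ Subgroup.centralizer (D : Set G)
  · intro d hd
    exact (mem_map_center _ d).2 ⟨(hD ▸ hd : d ∈ (S : Subgroup G) ⊓ (T : Subgroup G)).1, fun s hs => (hSC hs d hd).symm⟩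
  · -- a Sylow subgroup of `C(D)` containing `C_S(D)`
    set CS := (S : Subgroup G) ⊓ Subgroup.centralizer (D : Set G) with hCS
    set K := Subgroup.centralizer (D : Set G) with hK
    have hp : IsPGroup 2 ↥(CS.subgroupOf K) :=
      (IsPGroup.to_le S.isPGroup' (inf_le_left : CS ≤ (S : Subgroup G))).of_equiv
        (Subgroup.subgroupOfEquivOfLe (inf_le_right : CS ≤ K)).symm
    obtain ⟨R, hR⟩ := hp.exists_le_sylow
    obtain ⟨V, hV⟩ := (R.isPGroup'.map K.subtype).exists_le_sylow
    have hCV : CS ≤ (V : Subgroup G) := fun c hc => hV ⟨⟨c, hc.2⟩, hR (Subgroup.mem_subgroupOf.2 hc), rfl⟩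
    have hle : Nat.card ↥(U : Subgroup G) ≤ Nat.card ↥R := by
      have e1 : Nat.card ↥(((U : Subgroup G).subgroupOf K)) = Nat.card ↥(U : Subgroup G) :=
        Nat.card_congr (Subgroup.subgroupOfEquivOfLe hUC).toEquiv
      obtain ⟨R', hR'⟩ := (U.isPGroup'.of_equiv (Subgroup.subgroupOfEquivOfLe hUC).symm).exists_le_sylow
      rw [← e1]
      exact le_of_le_of_eq (Subgroup.card_le_of_le hR') (Nat.card_congr (R'.equiv R).toEquiv)
    have hVK : (V : Subgroup G) = (R : Subgroup K).map K.subtype := by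
      refine (Subgroup.eq_of_le_of_card_ge hV ?_).symm
      rw [Subgroup.card_map_of_injective K.subtype_injective, Nat.card_congr (V.equiv U).toEquiv]
      exact hle
    have hVS : S ≠ V := by
      rintro rfl
      exact hSC (hVK ▸ Subgroup.map_subtype_le _)
    obtain ⟨W, hW⟩ := hCI S V hVS
    set Z := (Subgroup.center ↥(S : Subgroup G)).map (S : Subgroup G).subtype with hZ
    have hZC : Z ≤ CS := fun z hz => by
      rw [mem_map_center] at hz
      exact ⟨hz.1, fun d hd => hz.2 d (hD ▸ hd : d ∈ (S : Subgroup G) ⊓ (T : Subgroup G)).1⟩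
    have heq : Z = CS := Subgroup.eq_of_le_of_card_ge hZC (le_trans
      (Subgroup.card_le_of_le (le_trans (le_inf inf_le_left hCV) hW)) (le_of_eq (center_card W S)))
    rw [heq]
    intro d hd
    refine ⟨(hD ▸ hd : d ∈ (S : Subgroup G) ⊓ (T : Subgroup G)).1, fun e he => ?_⟩
    exact ((mem_map_center _ e).1 (hU he)).2 d ((mem_map_center _ d).1 (hU hd)).1 |>.symm


/-- Let G be a finite group in which the intersection of any two distinct Sylow 2-subgroups is contained in the centre of some Sylow 2-subgroup, and let S be a Sylow 2-subgroup. Then for every x in S the centralizer of x in S is a Sylow 2-subgroup of the centralizer of x in G (no 2-subgroup centralizing x is larger), and for every other Sylow 2-subgroup T the intersection S ∩ T lies in both the centre of S and the centre of T. -/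
theorem result {G : Type*} [Group G] [Finite G]
    (hCI : ∀ S T : Sylow 2 G, S ≠ T → ∃ U : Sylow 2 G,
      (S : Subgroup G) ⊓ (T : Subgroup G) ≤ (Subgroup.center ↥(U : Subgroup G)).map (U : Subgroup G).subtype)
    (S : Sylow 2 G) :
    (∀ x ∈ (S : Subgroup G), ∀ P : Subgroup G, IsPGroup 2 ↥P → P ≤ Subgroup.centralizer ({x} : Set G) →
        Nat.card ↥P ≤ Nat.card ↥((S : Subgroup G) ⊓ Subgroup.centralizer ({x} : Set G))) ∧
    (∀ T : Sylow 2 G, T ≠ S →
        (S : Subgroup G) ⊓ (T : Subgroup G) ≤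
          (Subgroup.center ↥(S : Subgroup G)).map (S : Subgroup G).subtype ⊓
            (Subgroup.center ↥(T : Subgroup G)).map (T : Subgroup G).subtype) := by
  refine ⟨fun x hx P hP hPC => ?_, fun T hT => le_inf (inf_le_center hCI S T hT) ?_⟩
  · obtain ⟨T, hT⟩ : ∃ T : Sylow 2 G, P ≤ (T : Subgroup G) ∧ x ∈ (T : Subgroup G) := by
      have hp : IsPGroup 2 ↥(Subgroup.zpowers x) := S.isPGroup'.to_le (Subgroup.zpowers_le.2 hx)
      have hn : P ≤ Subgroup.normalizer (Subgroup.zpowers x : Set G) := by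
        intro q hq
        have hqx : x * q = q * x := hPC hq x rfl
        rw [Subgroup.mem_normalizer_iff]
        intro z
        constructor
        · rintro ⟨k, rfl⟩
          refine ⟨k, ?_⟩
          have : Commute q x := hqx.symm
          show x ^ k = q * x ^ k * q⁻¹
          rw [(this.zpow_right k).eq, mul_inv_cancel_right]
        · rintro ⟨k, hk⟩
          have hqc : Commute q (x ^ k) := Commute.zpow_right hqx.symm k
          refine ⟨k, ?_⟩
          simp only at hk ⊢
          calc x ^ k = q⁻¹ * (x ^ k) * q := by rw [mul_assoc, ← hqc.eq, inv_mul_cancel_left]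
            _ = z := by rw [hk]; group
      obtain ⟨T, hT⟩ := (hP.to_sup_of_normal_right' hp hn).exists_le_sylow
      exact ⟨T, le_sup_left.trans hT, hT (Subgroup.mem_sup_right (Subgroup.mem_zpowers x))⟩
    by_cases hTS : T = S
    · subst hTS
      exact Subgroup.card_le_of_le (le_inf hT.1 hPC)
    · have hxZ := (mem_map_center _ x).1 (inf_le_center hCI S T hTS ⟨hx, hT.2⟩)
      have : (S : Subgroup G) ⊓ Subgroup.centralizer ({x} : Set G) = (S : Subgroup G) :=
        inf_eq_left.2 fun s hs y hy => by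
          rw [Set.mem_singleton_iff.1 hy]
          exact (hxZ.2 s hs).symm
      rw [this, Nat.card_congr (S.equiv T).toEquiv]
      exact Subgroup.card_le_of_le hT.1
  · rw [inf_comm]
    exact inf_le_center hCI T S hT.symm

end Cfsg.Agent.S3183
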