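import Cfsg.Statements.S0508
import Cfsg.Agent.BSW7.DihedralSetup

set_option autoImplicit false
open Cfsg

namespace Cfsg.Agent.S0508

/-- Let G be a finite simple group with a dihedral Sylow 2-subgroup S (of order at least 4), t an involution in the
centre of S, C the centralizer of t and O the core of C (its largest normal subgroup of odd order). Suppose that: if O
is nontrivial then the centralizer of O in S is cyclic of index 2 in S; every element of S not centralizing O inverts
every element of O; and the normalizer of every nontrivial subgroup of O lies in C. Then G is isomorphic to a projective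
special linear group of dimension 2 over a field of odd order. -/
theorem result {G : Type*} [Group G] [Finite G] [IsSimpleGroup G] (S : Sylow 2 G) (n : ℕ)
    (hn : 2 ≤ n) (hS : Nonempty ((S : Subgroup G) ≃* DihedralGroup n)) (t : G) (ht : orderOf t = 2)
    (htS : t ∈ (S : Subgroup G))
    (htZ : ∀ s ∈ (S : Subgroup G), s * t = t * s) (O : Subgroup G)
    (hO : O = (Cfsg.oddCore (Subgroup.centralizer ({t} : Set G))).map (Subgroup.centralizer ({t} : Set G)).subtype)
    (ha : O ≠ ⊥ → IsCyclic ((S : Subgroup G) ⊓ Subgroup.centralizer (O : Set G) : Subgroup G) ∧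
      ((S : Subgroup G) ⊓ Subgroup.centralizer (O : Set G)).relIndex (S : Subgroup G) = 2)
    (hb : ∀ s ∈ (S : Subgroup G), s ∉ Subgroup.centralizer (O : Set G) → ∀ y ∈ O, s * y * s⁻¹ = y⁻¹)
    (hc : ∀ Y : Subgroup G, Y ≤ O → Y ≠ ⊥ → Subgroup.normalizer (Y : Set G) ≤ Subgroup.centralizer ({t} : Set G)) :
    ∃ (F : Type) (_ : Field F) (_ : Fintype F), Odd (Fintype.card F) ∧ Nonempty (G ≃* Matrix.ProjectiveSpecialLinearGroup (Fin 2) F) := by
  have hG : ¬ IsMulCommutative G := by
    intro hab
    obtain ⟨e⟩ := hS
    haveI := hab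
    have h2 : IsMulCommutative (S : Subgroup G) :=
      ⟨⟨fun a b => Subtype.ext (hab.is_comm.comm (a : G) b)⟩⟩
    haveI : IsCyclic G := by
      open scoped IsMulCommutative in exact IsSimpleGroup.isCyclic
    have hc : IsCyclic (DihedralGroup n) :=
      isCyclic_of_surjective e.toMonoidHom e.surjective
    exact DihedralGroup.not_isCyclic (by omega) hc
  obtain ⟨St⟩ := BSW7.exists_setup hG S n hn hS t ht htS htZ O hO ha hb hc
  obtain ⟨Q, D, h1, h2, h3, h4, h5, h6, h7⟩ := St.concl
  obtain ⟨F, hF, hF', hq, hiso⟩ := BSW7.psl_of_frame hG ⟨h1, h2, h3, h4, h5, h6, h7⟩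
  exact ⟨F, hF, hF', by rw [hq, ← h4]; exact odd_two_mul_add_one _, hiso⟩

end Cfsg.Agent.S0508
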