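import Cfsg.Statements.S0031


set_option autoImplicit false
open Cfsg

namespace Cfsg.Agent.S0031

/-- A fixed-point-free automorphism of a finite group maps some Sylow p-subgroup to itself. -/
theorem result {G : Type*} [Group G] [Finite G] (φ : G ≃* G)
    (hφ : MonoidHom.FixedPointFree (φ : G →* G)) (p : ℕ) [Fact p.Prime] :
    ∃ P : Sylow p G, (P : Subgroup G).map (φ : G →* G) = P := by
  obtain ⟨P⟩ := (inferInstance : Nonempty (Sylow p G))
  let Q : Sylow p G := P.comapOfInjective φ.symm.toMonoidHom φ.symm.injective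
    (fun y _ => ⟨φ y, φ.symm_apply_apply y⟩)
  obtain ⟨g, hg⟩ := MulAction.exists_smul_eq G P Q
  have hinj : Function.Injective fun h : G => h⁻¹ * φ h := fun a b hab => by
    have h1 : φ (a * b⁻¹) = a * b⁻¹ := by
      have h2 : a⁻¹ * φ a = b⁻¹ * φ b := hab
      rw [map_mul, map_inv, show φ a = a * (b⁻¹ * φ b) by rw [← h2]; group]
      group
    exact mul_inv_eq_one.mp (hφ _ h1)
  obtain ⟨h, hh⟩ := Finite.surjective_of_injective hinj g⁻¹
  refine ⟨h • P, ?_⟩
  have hQ : (P : Subgroup G).map (φ : G →* G) = (g • P : Sylow p G) := by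
    rw [hg]
    exact Subgroup.map_equiv_eq_comap_symm φ (P : Subgroup G)
  have e : (φ : G →* G).comp ((MulAut.conj h : G ≃* G) : G →* G) =
      ((MulAut.conj (φ h) : G ≃* G) : G →* G).comp (φ : G →* G) := by ext x; simp
  have hφh : φ h * g = h := by
    have : φ h = h * g⁻¹ := by rw [← hh]; simp
    simp [this]
  have e2 : ∀ j : G, ((j • P : Sylow p G) : Subgroup G) =
      (P : Subgroup G).map ((MulAut.conj j : G ≃* G) : G →* G) := fun _ => rfl
  rw [e2 h, Subgroup.map_map, e, ← Subgroup.map_map, hQ, e2 g, Subgroup.map_map]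
  refine congrArg (fun f : G →* G => Subgroup.map f (P : Subgroup G)) (MonoidHom.ext fun x => ?_)
  conv_rhs => rw [← hφh]
  simp [mul_assoc]

end Cfsg.Agent.S0031
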