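import Cfsg.Statements.S0346
import Cfsg.Agent.Lib.Zassenhaus.EvenPSL
import Cfsg.Agent.Lib.Zassenhaus.KernelPrimePow

set_option autoImplicit false
open Cfsg

namespace Cfsg.Agent.S0346

/-- The number of points of a finite simple Zassenhaus group is `p^k + 1` for some prime power `p^k` (the regular normal
subgroup of a point stabiliser is a `p`-group). -/
theorem result {G Ω : Type*} [Group G] [Finite G] [MulAction G Ω] [Fintype Ω]
    (hZ : Cfsg.IsZassenhausGroup G Ω) [IsSimpleGroup G] :
    IsPrimePow (Fintype.card Ω - 1) := by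
  classical
  have := Fintype.ofFinite G
  obtain ⟨g, -, a, b, hab, -⟩ := hZ.2.2.2.1
  obtain ⟨U, hU⟩ := Cfsg.Agent.CharDeep.Zass.exists_kernel hZ hab
  rw [← (Cfsg.Agent.ZassNormal.card_U_pos hZ hab hU).2]
  rcases Nat.even_or_odd (Nat.card ↥(Cfsg.Agent.CharDeep.Zass.two G a b)) with heven | hodd
  · obtain ⟨F, i1, i2, hc, -⟩ := Cfsg.Agent.ZassNormal.exists_psl hZ hab hU heven
      (Cfsg.Agent.ZassNormal.card_two_mul_two hZ hab hU heven)
    rw [(Cfsg.Agent.ZassNormal.card_U_pos hZ hab hU).2,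
      show Fintype.card Ω - 1 = Fintype.card F by omega]
    exact FiniteField.isPrimePow_card F
  · exact Cfsg.Agent.ZassNormal.isPrimePow_kernel hZ hab hU hodd

end Cfsg.Agent.S0346
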