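import Cfsg.Statements.S3050
import Cfsg.Agent.LocalEvenD.SLTwo.Decompose

set_option autoImplicit false
open Cfsg

namespace Cfsg.Agent.S3050

/-- Let G be a finite group with a normal 2-subgroup Q such that G/Q is isomorphic to SL(2, 2ⁿ) with n ≥ 2, and suppose some element of G of order 3 fixes no nonidentity element of Q under conjugation. Then Q is elementary abelian and is the direct product of normal subgroups of G on each of which G acts as SL(2, 2ⁿ) acts on its natural two-dimensional module (a Galois twist of the natural action allowed). -/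
theorem result {G : Type*} [Group G] [Finite G]
    (Q : Subgroup G) [Q.Normal] (hQ : IsPGroup 2 ↥Q) (n : ℕ) (hn : 2 ≤ n)
    (K : Type*) [Field K] [Fintype K] (hK : Fintype.card K = 2 ^ n)
    (e : G ⧸ Q ≃* Matrix.SpecialLinearGroup (Fin 2) K)
    (x : G) (hx : orderOf x = 3) (hfpf : ∀ q ∈ Q, x * q * x⁻¹ = q → q = 1) :
    Cfsg.IsElementaryAbelian 2 Q ∧
      ∃ (k : ℕ) (V : Fin k → Subgroup G), (∀ i, V i ≤ Q ∧ (V i).Normal ∧
        Cfsg.ActsAsSL2OnSection K ⊤ ⊤ (V i) ⊥) ∧ iSupIndep V ∧ ⨆ i, V i = Q := by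
  haveI : CharP K 2 := by
    obtain ⟨q, hq⟩ := CharP.exists K
    haveI := hq
    obtain ⟨m, hqp, hm⟩ := FiniteField.card K q
    have h2 : q ∣ 2 ^ n := hK ▸ hm ▸ dvd_pow_self q m.ne_zero
    rwa [(Nat.prime_dvd_prime_iff_eq hqp Nat.prime_two).1 (hqp.dvd_of_dvd_pow h2)] at hq
  have hs : ∃ s : K, s ≠ 0 ∧ s ≠ 1 := by
    classical
    by_contra h
    push Not at h
    have hle := Finset.card_le_card (s := (Finset.univ : Finset K)) (t := {0, 1}) fun s _ => by
      by_cases h0 : s = 0
      · simp [h0]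
      · simp [h s h0]
    rw [Finset.card_univ, hK, Finset.card_pair zero_ne_one] at hle
    have : 2 ^ 2 ≤ 2 ^ n := Nat.pow_le_pow_right (by norm_num) hn
    omega
  have hfree := LocalEvenD.SLTwo.Free.mk' (e := e) hQ hx hfpf
  obtain ⟨hab, h2⟩ := LocalEvenD.SLTwo.elementary hs (Nat.card G) e x le_rfl hfree
  haveI := hab
  exact ⟨⟨hab, fun a ha => by rw [pow_two]; exact h2 a ha⟩,
    LocalEvenD.SLTwo.decompose hfree hs h2⟩

end Cfsg.Agent.S3050
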