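import Cfsg.Statements.S0731
import Cfsg.Agent.PermB.AbMain

set_option autoImplicit false
open Cfsg

namespace Cfsg.Agent.S0731

/-- A finite Zassenhaus group whose point stabiliser has an abelian regular normal subgroup on the remaining points is sharply triply transitive or isomorphic to `PSL(2, F)` for a finite field `F` of odd characteristic. -/
theorem result {G Ω : Type*} [Group G] [Finite G] [MulAction G Ω] [Finite Ω] (hZ : Cfsg.IsZassenhausGroup G Ω) (x : Ω) (F : Subgroup G) (hFle : F ≤ MulAction.stabilizer G x) (hFn : (F.subgroupOf (MulAction.stabilizer G x)).Normal) (hFab : IsMulCommutative F) (hreg : ∀ y z : Ω, y ≠ x → z ≠ x → ∃! u : F, (u : G) • y = z) : (MulAction.IsMultiplyPretransitive G Ω 3 ∧ ∀ t : Fin 3 ↪ Ω, MulAction.stabilizer G t = ⊥) ∨ ∃ (K : Type) (_ : Field K) (_ : Fintype K), ringChar K ≠ 2 ∧ Nonempty (G ≃* Matrix.ProjectiveSpecialLinearGroup (Fin 2) K) := by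
  classical
  have := Fintype.ofFinite G
  have := Fintype.ofFinite Ω
  obtain ⟨-, -, c, d, hcd, -⟩ := hZ.2.2.2.1
  obtain ⟨b, hb⟩ : ∃ b : Ω, b ≠ x := by
    by_contra h
    push Not at h
    exact hcd ((h c).trans (h d).symm)
  have hne : ∀ (u : F) (y : Ω), y ≠ x → (u : G) • y ≠ x := fun u y hy h =>
    hy (MulAction.injective (u : G) (h.trans (MulAction.mem_stabilizer_iff.1 (hFle u.2)).symm))
  have hU : Cfsg.Agent.CharDeep.Zass.IsKernel x F := by
    refine ⟨hFle, ?_, fun u hu hu1 z hz => ?_⟩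
    · have e : F ≃ {y : Ω // y ≠ x} := Equiv.ofBijective (fun u => ⟨(u : G) • b, hne u b hb⟩)
        ⟨fun u v h => (hreg b _ hb (hne v b hb)).unique (congrArg Subtype.val h) rfl,
          fun y => ⟨(hreg b y hb y.2).choose, Subtype.ext (hreg b y hb y.2).choose_spec.1⟩⟩
      rw [Nat.card_congr e, Nat.card_eq_fintype_card, Fintype.card_subtype_compl,
        Fintype.card_subtype_eq]
      have := Fintype.card_pos_iff.2 ⟨x⟩
      omega
    · by_contra hzx
      refine hu1 (congrArg Subtype.val ((hreg z z hzx hzx).unique (y₁ := ⟨u, hu⟩) (y₂ := 1) hz ?_))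
      exact one_smul G z
  have := hFab
  rcases PermB.AbMain.classify_card hZ hb.symm hU (fun u hu v hv =>
    congrArg Subtype.val (hFab.is_comm.comm (⟨u, hu⟩ : F) ⟨v, hv⟩)) with
    ⟨-, h⟩ | ⟨K, i1, i2, -, -, h1, h2⟩
  · exact Or.inl h
  · exact Or.inr ⟨K, i1, i2, h1, h2⟩

end Cfsg.Agent.S0731
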