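import Cfsg.Statements.S1897
import Cfsg.Agent.ClassTech.UnitaryKlein
import Cfsg.Agent.Lib.LinearGroup.SmallPSL
import Mathlib.FieldTheory.Finite.GaloisField

set_option autoImplicit false
open Cfsg

namespace Cfsg.Agent.S1897

/-- The projective special unitary group PSU₃(3) (realised over the field with 9 elements) has a subgroup isomorphic to PSL₂(7). -/
theorem result {F : Type*} [Field F] [Fintype F] (hF : Fintype.card F = 9)
    {K : Type*} [Field K] [Fintype K] (hK : Fintype.card K = 7) :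
    ∃ H : Subgroup (Cfsg.PSU 3 F 3), Nonempty (H ≃* Matrix.ProjectiveSpecialLinearGroup (Fin 2) K) := by
  haveI : Fact (Nat.Prime 3) := ⟨Nat.prime_three⟩
  haveI : Fact (Nat.Prime 7) := ⟨by decide⟩
  haveI : CharP F 3 := charP_of_card_eq_prime_pow (f := 2) (by rw [hF]; rfl)
  have hsq : IsSquare (-1 : F) := by
    rw [FiniteField.isSquare_neg_one_iff, hF]
    decide
  obtain ⟨s, hs⟩ := hsq
  obtain ⟨ψ, hψ⟩ := ClassTech.UnitaryKlein.psu_contains (s := s) hs.symm
  let e : K ≃+* ZMod 7 :=
    FiniteField.ringEquivOfCardEq (hK.trans (ZMod.card 7).symm)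
  exact ⟨ψ.range, ⟨(MonoidHom.ofInjective hψ).symm.trans (LinearGroup.pslCongr e).symm⟩⟩

end Cfsg.Agent.S1897
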