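import Cfsg.Statements.S2507
import Cfsg.Agent.KnownSimple58.PSLTwoClasses

set_option autoImplicit false
open Cfsg

namespace Cfsg.Agent.S2507

open KS58 SL2Tor


/-- Let F be a finite field with q = 2^f ≥ 4 elements. The conjugacy class sizes of PSL(2,F) are exactly 1, q(q − 1), q² − 1 and q(q + 1). -/
theorem result {F : Type*} [Field F] [Fintype F]
    (h2 : 2 ∣ Fintype.card F) (h4 : 4 ≤ Fintype.card F) :
    Set.range (fun g : (Matrix.ProjectiveSpecialLinearGroup (Fin 2) F) => (Subgroup.centralizer ({g} : Set (Matrix.ProjectiveSpecialLinearGroup (Fin 2) F))).index) =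
      {1, Fintype.card F * (Fintype.card F - 1), Fintype.card F ^ 2 - 1, Fintype.card F * (Fintype.card F + 1)} := by
  classical
  set q := Fintype.card F with hq
  have h20 : (2 : F) = 0 := by
    obtain ⟨p, hp⟩ := CharP.exists F
    obtain ⟨n, hpp, hn⟩ := FiniteField.card F p
    rw [← hq] at hn
    have hp2 : p = 2 := ((Nat.prime_dvd_prime_iff_eq Nat.prime_two hpp).mp
      (Nat.prime_two.dvd_of_dvd_pow (hn ▸ h2))).symm
    subst hp2
    exact_mod_cast CharP.cast_eq_zero F 2
  have hsemi : ∀ A : Matrix.SpecialLinearGroup (Fin 2) F, (A : Matrix (Fin 2) (Fin 2) F).trace ^ 2 ≠ 4 →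
      (Subgroup.centralizer ({(QuotientGroup.mk A : Matrix.ProjectiveSpecialLinearGroup (Fin 2) F)} : Set _)).index =
        q * (q - 1) + q * nRoots (A : Matrix (Fin 2) (Fin 2) F).trace := fun A h => by
    rw [index_psl_of_trace_ne_zero A (Or.inr h20), index_sl_semisimple A h]
  have hpar : ∀ A : Matrix.SpecialLinearGroup (Fin 2) F, ¬ IsScalar (A : Matrix (Fin 2) (Fin 2) F) →
      (A : Matrix (Fin 2) (Fin 2) F).trace ^ 2 = 4 →
      (Subgroup.centralizer ({(QuotientGroup.mk A : Matrix.ProjectiveSpecialLinearGroup (Fin 2) F)} : Set _)).index =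
        q ^ 2 - 1 := fun A h h' => by
    have := index_psl_parabolic A h h'
    rwa [card_sq_eq_one_even h20, Nat.mul_one] at this
  have hqq : q * (q - 1) + q * 2 = q * (q + 1) := by rw [← Nat.mul_add]; congr 1; omega
  apply Set.Subset.antisymm
  · rintro _ ⟨g, rfl⟩
    obtain ⟨A, rfl⟩ := QuotientGroup.mk_surjective g
    rcases index_psl_cases A with h | ⟨hs, h⟩ | ⟨h, hN⟩
    · simp [h]
    · simp [hpar A hs h]
    · rcases hN with hN | hN
      · simp [hsemi A h, hN]
      · simp [hsemi A h, hN, hqq]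
  · rintro x (rfl | rfl | rfl | rfl)
    · refine ⟨1, ?_⟩
      show (Subgroup.centralizer _).index = 1
      rw [Subgroup.index_eq_one, Subgroup.centralizer_eq_top_iff_subset, Set.singleton_subset_iff]
      exact one_mem _
    · obtain ⟨t, -, ht4, ha⟩ := exists_nonsplit_trace (F := F) h4
      obtain ⟨A, hA, -⟩ := exists_sl_trace t
      exact ⟨QuotientGroup.mk A, (hsemi A (by rw [hA]; exact ht4)).trans (by rw [hA, nRoots_eq_zero ha]; simp [q])⟩
    · obtain ⟨A, hA, hs⟩ := exists_sl_trace (0 : F)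
      exact ⟨QuotientGroup.mk A, hpar A hs (by rw [hA]; linear_combination (-2 : F) * h20)⟩
    · obtain ⟨ζ, hζ⟩ := IsCyclic.exists_generator (α := Fˣ)
      have hord : orderOf ζ = q - 1 := by
        rw [orderOf_eq_card_of_forall_mem_zpowers hζ, Nat.card_eq_fintype_card, Fintype.card_units]
      have hsq : (ζ : F) ^ 2 ≠ 1 := fun h => by
        have := Nat.le_of_dvd (by norm_num) (orderOf_dvd_of_pow_eq_one (show ζ ^ 2 = 1 from Units.ext (by rw [Units.val_pow_eq_pow_val, h, Units.val_one])))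
        omega
      obtain ⟨A, hA, -⟩ := exists_sl_trace ((ζ : F) + (ζ : F)⁻¹)
      have h4' : ((ζ : F) + (ζ : F)⁻¹) ^ 2 ≠ 4 := fun h => by
        have hz := ζ.ne_zero
        have e : ((ζ : F) ^ 2 - 1) * ((ζ : F) ^ 2 - 1) = 0 := by
          field_simp at h
          linear_combination h
        exact hsq (sub_eq_zero.mp (mul_self_eq_zero.mp e))
      refine ⟨QuotientGroup.mk A, (hsemi A (by rw [hA]; exact h4')).trans ?_⟩
      rw [hA, nRoots_eq_two (a := (ζ : F)) (by simp) h4', hqq]

end Cfsg.Agent.S2507
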