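import Cfsg.Statements.S2508
import Cfsg.Agent.KnownSimple58.PSLTwoClasses

set_option autoImplicit false
open Cfsg

namespace Cfsg.Agent.S2508

open KS58 SL2Tor


/-- Let F be a finite field with q elements, q odd and q ≥ 7. If q ≡ 1 (mod 4) the conjugacy class sizes of PSL(2,F) are exactly 1, (q² − 1)/2, q(q + 1)/2, q(q − 1) and q(q + 1); if q ≡ 3 (mod 4) they are exactly 1, (q² − 1)/2, q(q − 1)/2, q(q + 1) and q(q − 1). -/
theorem result {F : Type*} [Field F] [Fintype F]
    (hodd : ¬ 2 ∣ Fintype.card F) (h7 : 7 ≤ Fintype.card F) :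
    (Fintype.card F % 4 = 1 →
      Set.range (fun g : (Matrix.ProjectiveSpecialLinearGroup (Fin 2) F) => (Subgroup.centralizer ({g} : Set (Matrix.ProjectiveSpecialLinearGroup (Fin 2) F))).index) =
        {1, (Fintype.card F ^ 2 - 1) / 2, Fintype.card F * (Fintype.card F + 1) / 2,
          Fintype.card F * (Fintype.card F - 1), Fintype.card F * (Fintype.card F + 1)}) ∧
    (Fintype.card F % 4 = 3 →
      Set.range (fun g : (Matrix.ProjectiveSpecialLinearGroup (Fin 2) F) => (Subgroup.centralizer ({g} : Set (Matrix.ProjectiveSpecialLinearGroup (Fin 2) F))).index) =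
        {1, (Fintype.card F ^ 2 - 1) / 2, Fintype.card F * (Fintype.card F - 1) / 2,
          Fintype.card F * (Fintype.card F + 1), Fintype.card F * (Fintype.card F - 1)}) := by
  classical
  set q := Fintype.card F with hq
  have h20 : (2 : F) ≠ 0 := fun h => by
    have := FiniteField.even_card_iff_char_two.mp (CharP.ringChar_of_prime_eq_zero Nat.prime_two h)
    omega
  have hsemi : ∀ A : Matrix.SpecialLinearGroup (Fin 2) F, (A : Matrix (Fin 2) (Fin 2) F).trace ^ 2 ≠ 4 →
      (A : Matrix (Fin 2) (Fin 2) F).trace ≠ 0 →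
      (Subgroup.centralizer ({(QuotientGroup.mk A : Matrix.ProjectiveSpecialLinearGroup (Fin 2) F)} : Set _)).index =
        q * (q - 1) + q * nRoots (A : Matrix (Fin 2) (Fin 2) F).trace := fun A h h0 => by
    rw [index_psl_of_trace_ne_zero A (Or.inl fun e => h0 ((mul_eq_zero.mp (show (2 : F) * _ = 0 by
      linear_combination e)).resolve_left h20)), index_sl_semisimple A h]
  have hinv : ∀ A : Matrix.SpecialLinearGroup (Fin 2) F, (A : Matrix (Fin 2) (Fin 2) F).trace = 0 →
      (Subgroup.centralizer ({(QuotientGroup.mk A : Matrix.ProjectiveSpecialLinearGroup (Fin 2) F)} : Set _)).index =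
        (q * (q - 1) + q * nRoots (0 : F)) / 2 := fun A h0 => by
    have h := index_psl_trace_zero A h0 h20
    rw [index_sl_semisimple A (by rw [h0]; intro e; exact h20 (mul_self_eq_zero.mp (by linear_combination -e))), h0] at h
    simp only [← hq] at h ⊢
    omega
  have hpar : ∀ A : Matrix.SpecialLinearGroup (Fin 2) F, ¬ IsScalar (A : Matrix (Fin 2) (Fin 2) F) →
      (A : Matrix (Fin 2) (Fin 2) F).trace ^ 2 = 4 →
      (Subgroup.centralizer ({(QuotientGroup.mk A : Matrix.ProjectiveSpecialLinearGroup (Fin 2) F)} : Set _)).index =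
        (q ^ 2 - 1) / 2 := fun A h h' => by
    have := index_psl_parabolic A h h'
    rw [card_sq_eq_one_odd h20] at this
    simp only [← hq] at this ⊢
    omega
  have hqq : q * (q - 1) + q * 2 = q * (q + 1) := by rw [← Nat.mul_add]; congr 1; omega
  have h4 : (0 : F) ^ 2 ≠ 4 := fun e => h20 (mul_self_eq_zero.mp (by linear_combination -e))
  have h1 : q % 4 = 1 → nRoots (0 : F) = 2 := fun h => by
    obtain ⟨c, hc⟩ := FiniteField.isSquare_neg_one_iff.mpr (by omega : Fintype.card F % 4 ≠ 3)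
    exact nRoots_eq_two (a := c) (by linear_combination hc) h4
  have h3 : q % 4 = 3 → nRoots (0 : F) = 0 := fun h =>
    nRoots_eq_zero fun a ha => FiniteField.isSquare_neg_one_iff.mp ⟨a, by linear_combination ha⟩ h
  have hcases : ∀ A : Matrix.SpecialLinearGroup (Fin 2) F,
      (Subgroup.centralizer ({(QuotientGroup.mk A : Matrix.ProjectiveSpecialLinearGroup (Fin 2) F)} : Set _)).index ∈
        ({1, (q ^ 2 - 1) / 2, (q * (q - 1) + q * nRoots (0 : F)) / 2, q * (q - 1), q * (q + 1)} : Set ℕ) := by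
    intro A
    rcases index_psl_cases A with h | ⟨hs, h⟩ | ⟨h, hN⟩
    · simp [h]
    · simp [hpar A hs h]
    · by_cases h0 : (A : Matrix (Fin 2) (Fin 2) F).trace = 0
      · simp [hinv A h0]
      · rcases hN with hN | hN
        · simp [hsemi A h h0, hN]
        · simp [hsemi A h h0, hN, hqq]
  have hone : (Subgroup.centralizer ({(1 : Matrix.ProjectiveSpecialLinearGroup (Fin 2) F)} : Set _)).index = 1 := by
    rw [Subgroup.index_eq_one, Subgroup.centralizer_eq_top_iff_subset, Set.singleton_subset_iff]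
    exact one_mem _
  obtain ⟨P, hP, hPs⟩ := exists_sl_trace (2 : F)
  obtain ⟨I, hI, -⟩ := exists_sl_trace (0 : F)
  obtain ⟨t, ht0, ht4, ha⟩ := exists_nonsplit_trace (F := F) (by omega)
  obtain ⟨N, hN, -⟩ := exists_sl_trace t
  obtain ⟨ζ, hζ⟩ := IsCyclic.exists_generator (α := Fˣ)
  have hord : orderOf ζ = q - 1 := by
    rw [orderOf_eq_card_of_forall_mem_zpowers hζ, Nat.card_eq_fintype_card, Fintype.card_units]
  have hpow4 : (ζ : F) ^ 4 ≠ 1 := fun h => by
    have := Nat.le_of_dvd (by norm_num) (orderOf_dvd_of_pow_eq_one (show ζ ^ 4 = 1 from Units.ext (by rw [Units.val_pow_eq_pow_val, h, Units.val_one])))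
    omega
  have hz := ζ.ne_zero
  have hs4 : ((ζ : F) + (ζ : F)⁻¹) ^ 2 ≠ 4 := fun h => by
    field_simp at h
    have e : ((ζ : F) ^ 2 - 1) * ((ζ : F) ^ 2 - 1) = 0 := by linear_combination h
    exact hpow4 (by linear_combination ((ζ : F) ^ 2 + 1) * sub_eq_zero.mp (mul_self_eq_zero.mp e))
  have hs0 : (ζ : F) + (ζ : F)⁻¹ ≠ 0 := fun h => by
    field_simp at h
    exact hpow4 (by linear_combination ((ζ : F) ^ 2 - 1) * h)
  obtain ⟨S, hS, -⟩ := exists_sl_trace ((ζ : F) + (ζ : F)⁻¹)
  have eP := hpar P hPs (by rw [hP]; ring)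
  have eI := hinv I hI
  have eN := hsemi N (by rw [hN]; exact ht4) (by rw [hN]; exact ht0)
  rw [hN, nRoots_eq_zero ha, Nat.mul_zero, Nat.add_zero] at eN
  have eS := hsemi S (by rw [hS]; exact hs4) (by rw [hS]; exact hs0)
  rw [hS, nRoots_eq_two (a := (ζ : F)) (by simp) hs4, hqq] at eS
  constructor
  · intro hm
    rw [h1 hm, hqq] at hcases eI
    apply Set.Subset.antisymm
    · rintro _ ⟨g, rfl⟩
      obtain ⟨A, rfl⟩ := QuotientGroup.mk_surjective g
      exact hcases A
    · rintro x (rfl | rfl | rfl | rfl | rfl)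
      exacts [⟨1, hone⟩, ⟨_, eP⟩, ⟨_, eI⟩, ⟨_, eN⟩, ⟨_, eS⟩]
  · intro hm
    rw [h3 hm, Nat.mul_zero, Nat.add_zero] at hcases eI
    apply Set.Subset.antisymm
    · rintro _ ⟨g, rfl⟩
      obtain ⟨A, rfl⟩ := QuotientGroup.mk_surjective g
      rcases hcases A with h | h | h | h | h <;> simp_all
    · rintro x (rfl | rfl | rfl | rfl | rfl)
      exacts [⟨1, hone⟩, ⟨_, eP⟩, ⟨_, eI⟩, ⟨_, eS⟩, ⟨_, eN⟩]

end Cfsg.Agent.S2508
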