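import Cfsg.Statements.S2401
import Cfsg.Agent.LinSteinberg80.Kernel

set_option autoImplicit false
open Cfsg

namespace Cfsg.Agent.S2401

open scoped commutatorElement

/-- The Steinberg presentation of `SL_n` over a finite field for `n ≥ 3`: the group generated by symbols `x_ij(t)` (`i ≠ j`, `t` in the field) subject to `x_ij(t) x_ij(u) = x_ij(t + u)` and, for `i ≠ l`, `x_ij(t) x_kl(u) x_ij(t)⁻¹ x_kl(u)⁻¹ = x_il(tu)` if `j = k` and `= 1` if `j ≠ k`, is isomorphic to `SL_n` by an isomorphism sending `x_ij(t)` to the elementary matrix `1 + t E_ij`. -/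
theorem result {K : Type*} [Field K] [Finite K] (n : ℕ) (hn : 3 ≤ n) :
    ∃ e : PresentedGroup
        ({g : FreeGroup ({ij : Fin n × Fin n // ij.1 ≠ ij.2} × K) | ∃ (a : {ij : Fin n × Fin n // ij.1 ≠ ij.2}) (t u : K),
            g = FreeGroup.of (a, t) * FreeGroup.of (a, u) * (FreeGroup.of (a, t + u))⁻¹} ∪
          {g | ∃ (a b : {ij : Fin n × Fin n // ij.1 ≠ ij.2}) (t u : K), a.1.1 ≠ b.1.2 ∧ a.1.2 ≠ b.1.1 ∧
            g = FreeGroup.of (a, t) * FreeGroup.of (b, u) * (FreeGroup.of (a, t))⁻¹ * (FreeGroup.of (b, u))⁻¹} ∪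
          {g | ∃ (a b : {ij : Fin n × Fin n // ij.1 ≠ ij.2}) (h : a.1.1 ≠ b.1.2) (t u : K), a.1.2 = b.1.1 ∧
            g = FreeGroup.of (a, t) * FreeGroup.of (b, u) * (FreeGroup.of (a, t))⁻¹ * (FreeGroup.of (b, u))⁻¹ *
              (FreeGroup.of (⟨(a.1.1, b.1.2), h⟩, t * u))⁻¹}) ≃* Matrix.SpecialLinearGroup (Fin n) K,
      ∀ (a : {ij : Fin n × Fin n // ij.1 ≠ ij.2}) (t : K), ((e (PresentedGroup.of (a, t)) : Matrix (Fin n) (Fin n) K)) = Matrix.transvection a.1.1 a.1.2 t := by
  classical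
  let f : {ij : Fin n × Fin n // ij.1 ≠ ij.2} × K → Matrix.SpecialLinearGroup (Fin n) K :=
    fun p => Matrix.SpecialLinearGroup.transvection p.1.2 p.2
  set R : Set (FreeGroup ({ij : Fin n × Fin n // ij.1 ≠ ij.2} × K)) := _ with hR
  show ∃ e : PresentedGroup R ≃* _, _
  have hadd : ∀ (a : {ij : Fin n × Fin n // ij.1 ≠ ij.2}) (t u : K),
      (PresentedGroup.of (a, t) : PresentedGroup R) * PresentedGroup.of (a, u) =
        PresentedGroup.of (a, t + u) := by
    intro a t u
    have h := PresentedGroup.one_of_mem (rels := R) (x := FreeGroup.of (a, t) * FreeGroup.of (a, u) *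
      (FreeGroup.of (a, t + u))⁻¹) (by rw [hR]; exact Or.inl (Or.inl ⟨a, t, u, rfl⟩))
    rw [map_mul, map_mul, map_inv, mul_inv_eq_one] at h
    exact h
  have hlift : ∀ r ∈ R, FreeGroup.lift f r = 1 := by
    intro r hr
    rw [hR] at hr
    rcases hr with (⟨a, t, u, rfl⟩ | ⟨a, b, t, u, h1, h2, rfl⟩) | ⟨a, b, h, t, u, h1, rfl⟩
    · simp only [map_mul, map_inv, FreeGroup.lift_apply_of, mul_inv_eq_one]
      apply Subtype.ext
      simp [f, Matrix.SpecialLinearGroup.transvection_coe, Matrix.add_mul, Matrix.mul_add, a.2.symm, Matrix.single_add]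
      abel
    · simp only [map_mul, map_inv, FreeGroup.lift_apply_of, mul_inv_eq_one]
      rw [mul_inv_eq_iff_eq_mul]
      apply Subtype.ext
      simp [f, Matrix.SpecialLinearGroup.transvection_coe, Matrix.transvection, Matrix.add_mul, Matrix.mul_add, h2, h1.symm]
      abel
    · obtain ⟨⟨i, j⟩, hij⟩ := a
      obtain ⟨⟨j', l⟩, hjl⟩ := b
      obtain rfl : j = j' := h1
      simp only [map_mul, map_inv, FreeGroup.lift_apply_of, mul_inv_eq_one, mul_inv_eq_iff_eq_mul]
      apply Subtype.ext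
      simp only at hij hjl h
      simp [f, Matrix.SpecialLinearGroup.transvection_coe, Matrix.transvection, Matrix.add_mul, Matrix.mul_add, hij.symm, hjl.symm, h.symm]
      abel
  let S : LinSteinberg80.Sys n K (PresentedGroup R) :=
    { x := fun i j t => if h : i ≠ j then PresentedGroup.of (⟨(i, j), h⟩, t) else 1
      π := PresentedGroup.toGroup hlift
      add := fun i j h s t => by simp only [dif_pos h]; exact (hadd _ s t).symm
      comm0 := fun i j k l h h' hil hjk s t => by
        simp only [dif_pos h, dif_pos h']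
        have hr := PresentedGroup.one_of_mem (rels := R)
          (x := FreeGroup.of ((⟨(i, j), h⟩ : {ij : Fin n × Fin n // ij.1 ≠ ij.2}), s) *
            FreeGroup.of (⟨(k, l), h'⟩, t) * (FreeGroup.of (⟨(i, j), h⟩, s))⁻¹ *
            (FreeGroup.of (⟨(k, l), h'⟩, t))⁻¹)
          (by rw [hR]; exact Or.inl (Or.inr ⟨_, _, s, t, hil, hjk, rfl⟩))
        rw [map_mul, map_mul, map_mul, map_inv, map_inv, mul_inv_eq_one,
          mul_inv_eq_iff_eq_mul] at hr
        exact hr
      comm1 := fun i j l h h' h'' s t => by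
        simp only [dif_pos h, dif_pos h', dif_pos h'']
        have hr := PresentedGroup.one_of_mem (rels := R)
          (x := FreeGroup.of ((⟨(i, j), h⟩ : {ij : Fin n × Fin n // ij.1 ≠ ij.2}), s) *
            FreeGroup.of (⟨(j, l), h'⟩, t) * (FreeGroup.of (⟨(i, j), h⟩, s))⁻¹ *
            (FreeGroup.of (⟨(j, l), h'⟩, t))⁻¹ * (FreeGroup.of (⟨(i, l), h''⟩, s * t))⁻¹)
          (by rw [hR]; exact Or.inr ⟨⟨(i, j), h⟩, ⟨(j, l), h'⟩, h'', s, t, rfl, rfl⟩)
        simp only [map_mul, map_inv, mul_inv_eq_one] at hr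
        exact hr
      π_x := fun i j h t => by
        simp only [dif_pos h, PresentedGroup.toGroup.of]
        exact Matrix.SpecialLinearGroup.transvection_coe h t
      gen := by
        rw [eq_top_iff, ← PresentedGroup.closure_range_of, Subgroup.closure_le]
        rintro _ ⟨⟨a, t⟩, rfl⟩
        exact Subgroup.subset_closure ⟨a.1.1, a.1.2, t, a.2, by simp [a.2]⟩ }
  refine ⟨MulEquiv.ofBijective S.π ⟨S.mat_injective hn, S.π_surjective⟩, fun a t => ?_⟩
  show ((PresentedGroup.toGroup hlift (PresentedGroup.of (a, t)) :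
    Matrix.SpecialLinearGroup (Fin n) K) : Matrix (Fin n) (Fin n) K) = _
  rw [PresentedGroup.toGroup.of]
  exact Matrix.SpecialLinearGroup.transvection_coe a.2 t

end Cfsg.Agent.S2401
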