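import Cfsg.Statements.S0002
import Cfsg.Agent.Lib.Coprime.Action

set_option autoImplicit false
open Pointwise
open Cfsg

namespace Cfsg.Agent.S0002

/-- Schur's Theorem, conjugacy part, for an abelian normal subgroup of coprime order and index: any two complements are conjugate by an element of the normal subgroup. -/
theorem result {G : Type*} [Group G] [Finite G] (A : Subgroup G) [A.Normal] [IsMulCommutative A]
    (hA : (Nat.card A).Coprime A.index)
    (H K : Subgroup G) (hH : Subgroup.IsComplement' A H) (hK : Subgroup.IsComplement' A K) :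
    ∃ a ∈ A, MulAut.conj a • H = K := by
  have hc : ∀ L : Subgroup G, Subgroup.IsComplement' A L → (Nat.card L).Coprime (Nat.card A) :=
    fun L hL => by rw [← hL.symm.index_eq_card]; exact hA.symm
  obtain ⟨n, hn, h⟩ := Coprime.exists_conj_le_of_comm A H K Subgroup.le_normalizer_of_normal
    Subgroup.le_normalizer_of_normal (by rw [hK.sup_eq_top]; exact le_top) (hc H hH) (hc K hK)
  refine ⟨n, hn, Subgroup.eq_of_le_of_card_ge ?_ ?_⟩
  · rintro _ ⟨x, hx, rfl⟩
    exact h x hx
  · rw [← hK.symm.index_eq_card, hH.symm.index_eq_card]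
    exact le_of_eq (Nat.card_congr (Subgroup.equivSMul (MulAut.conj n) H).toEquiv)

end Cfsg.Agent.S0002
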