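import Cfsg.Statements.S1526
import Cfsg.Agent.Coherence.Partition

set_option autoImplicit false
open Cfsg Cfsg.Agent
open scoped ComplexConjugate

namespace Cfsg.Agent.S1526

theorem inner_conjFun {X : Type*} [Group X] [Fintype X] (a b : X → ℂ) :
    classInner (conjFun a) (conjFun b) = conj (classInner a b) := by
  simp [classInner, conjFun, map_sum]

/-- The final inequality. -/
theorem no_solution {h n e w g : ℝ} (hn : 2 ≤ n) (he : 2 ≤ e) (hh : h = n * e + 1)
    (hg : h * (h + 2) ≤ g) (hw : 1 - g⁻¹ = w)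
    (hle : w ≤ n / h + e / h + (e - 1) / (h + 2)) : False := by
  have hh5 : 5 ≤ h := by nlinarith
  have hh0 : 0 < h := by linarith
  have hg0 : 0 < g := by nlinarith
  have hginv : g⁻¹ ≤ (h * (h + 2))⁻¹ := by gcongr
  have key : n / h + e / h + (e - 1) / (h + 2) + (h * (h + 2))⁻¹ < 1 := by
    have h20 : 0 < h + 2 := by linarith
    rw [show n / h + e / h + (e - 1) / (h + 2) + (h * (h + 2))⁻¹ =
        ((n + e) * (h + 2) + (e - 1) * h + 1) / (h * (h + 2)) by field_simp,
      div_lt_one (mul_pos hh0 h20)]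
    have hid : h * (h + 2) - ((n + e) * (h + 2) + (e - 1) * h + 1) =
        (e - 1) * ((n - 2) * (h + 2) + 2) - 1 := by rw [hh]; ring
    have h3 : (e - 1) * 2 ≤ (e - 1) * ((n - 2) * (h + 2) + 2) :=
      mul_le_mul_of_nonneg_left (by nlinarith [mul_nonneg (by linarith : (0 : ℝ) ≤ n - 2) h20.le])
        (by linarith)
    linarith
  linarith


set_option maxHeartbeats 1600000 in
/-- Let G be a finite group of odd order and (L i, H i), i in a finite index type with at least two elements, pairs of subgroups with H i a nontrivial proper normal subgroup of L i such that every non-identity element of H i has its centraliser within L i contained in H i (L i is a Frobenius group with kernel H i), the orders of the H i pairwise coprime, and the underlying set of each H i a TI-subset of G with normaliser L i. If every non-identity element of G is conjugate to an element of some H i, we reach a contradiction. -/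
theorem result {G : Type*} [Group G] [Finite G] (hodd : Odd (Nat.card G)) {ι : Type*} [Fintype ι] (hι : 2 ≤ Fintype.card ι) (L H : ι → Subgroup G) (hHL : ∀ i, H i < L i) (hH1 : ∀ i, H i ≠ ⊥) (hHn : ∀ i, ∀ x ∈ L i, ∀ h ∈ H i, x * h * x⁻¹ ∈ H i) (hfrob : ∀ i, ∀ h ∈ H i, h ≠ 1 → L i ⊓ Subgroup.centralizer ({h} : Set G) ≤ H i) (hcop : ∀ i j, i ≠ j → Nat.Coprime (Nat.card (H i)) (Nat.card (H j))) (hTI : ∀ i, Cfsg.IsTISubset (H i : Set G) ∧ Subgroup.normalizer (H i : Set G) = L i) (hcover : ∀ g : G, g ≠ 1 → ∃ i, ∃ x : G, x * g * x⁻¹ ∈ H i) : False := by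
  classical
  haveI := Fintype.ofFinite G
  haveI : ∀ i, Fintype (L i) := fun i => Fintype.ofFinite _
  haveI hnormal : ∀ i, ((H i).subgroupOf (L i)).Normal := fun i =>
    ⟨fun n hn x => Subgroup.mem_subgroupOf.2 (hHn i x x.2 n (Subgroup.mem_subgroupOf.1 hn))⟩
  set K : ∀ i, Subgroup (L i) := fun i => (H i).subgroupOf (L i) with hKdef
  have hKmem : ∀ {i} {x : L i}, x ∈ K i ↔ (x : G) ∈ H i := fun {i x} => Subgroup.mem_subgroupOf
  have hC : ∀ i, ∀ n ∈ K i, n ≠ 1 → Subgroup.centralizer ({n} : Set (L i)) ≤ K i := by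
    intro i n hn hn1 x hx
    rw [Subgroup.mem_centralizer_singleton_iff] at hx
    exact hKmem.2 (hfrob i n (hKmem.1 hn) (fun e => hn1 (Subtype.ext e))
      ⟨x.2, Subgroup.mem_centralizer_singleton_iff.2 (congrArg Subtype.val hx)⟩)
  have hKT : ∀ i, K i < ⊤ := fun i => by
    rw [lt_top_iff_ne_top, Ne]
    exact fun h => (hHL i).not_ge (Subgroup.subgroupOf_eq_top.1 h)
  have hK1 : ∀ i, K i ≠ ⊥ := fun i h => hH1 i (by
    have := Subgroup.subgroupOf_eq_bot.1 h
    rwa [disjoint_iff, inf_eq_left.2 (hHL i).le] at this)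
  have hoddL : ∀ i, Odd (Nat.card (L i)) := fun i =>
    hodd.of_dvd_nat (Subgroup.card_subgroup_dvd_card _)
  have hcardK : ∀ i, Nat.card (K i) = Nat.card (H i) := fun i =>
    Nat.card_congr (Subgroup.subgroupOfEquivOfLe (hHL i).le).toEquiv
  choose τ₁ ε hτ₁ hag hε hirr hinj using fun i => Coherence.exceptional_exists (H i) (L i)
    (hoddL i) (hHL i).le (hH1 i) (hKT i) (hC i) (hTI i).1 (hTI i).2
  set S : ∀ i, Finset (L i → ℂ) := fun i => Coherence.seqFinset (K i) ⊥ with hSdef
  have hScoe : ∀ i, (↑(S i) : Set (L i → ℂ)) = inducedIrrAbove (K i) ⊥ :=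
    fun i => Coherence.coe_seqFinset _ _
  have hmemS : ∀ {i φ}, φ ∈ S i ↔ φ ∈ inducedIrrAbove (K i) (⊥ : Subgroup (L i)) :=
    fun {i φ} => by rw [← hScoe i, Finset.mem_coe]
  obtain ⟨μ, hμdef⟩ : ∃ μ : ∀ i, (L i → ℂ) → G → ℂ, ∀ i φ, μ i φ = ε i • τ₁ i φ :=
    ⟨_, fun _ _ => rfl⟩
  have hμirr : ∀ i, ∀ φ ∈ S i, IsIrrCharacter G (μ i φ) := fun i φ h => hμdef i φ ▸ hirr i φ (hmemS.1 h)
  have hεε : ∀ i, ε i * ε i = 1 := fun i => by rcases hε i with h | h <;> rw [h] <;> norm_num
  have hτμ : ∀ i φ, τ₁ i φ = ε i • μ i φ := fun i φ => by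
    rw [hμdef, smul_smul, hεε i, one_smul]
  have hμinj : ∀ i, ∀ φ ∈ S i, ∀ ψ ∈ S i, μ i φ = μ i ψ → φ = ψ := fun i φ hφ ψ hψ h =>
    hinj i φ (hmemS.1 hφ) ψ (hmemS.1 hψ) (by rw [hτμ, hτμ, h])
  have hSc : ∀ i, ∀ φ ∈ S i, conjFun φ ∈ S i := fun i φ h =>
    hmemS.2 (Coherence.seq_conj _ (hmemS.1 h))
  have hSne : ∀ i, ∀ φ ∈ S i, conjFun φ ≠ φ := fun i φ h =>
    Coherence.frob_seq_conj_ne _ (hoddL i) (hKT i).ne (hC i) (hmemS.1 h)
  have hSirr : ∀ i, ∀ φ ∈ S i, IsIrrCharacter (L i) φ := fun i φ h =>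
    Coherence.frob_seq_irr _ (hC i) (hmemS.1 h)
  have hS1 : ∀ i, ∀ φ ∈ S i, conjFun φ 1 = φ 1 := fun i φ h =>
    Coherence.conjFun_one_of_char (Coherence.irr_isCharacter (hSirr i φ h))
  -- supports of induced functions
  have hsupp : ∀ i, ∀ α ∈ zspanOn (inducedIrrAbove (K i) (⊥ : Subgroup (L i))) ({1}ᶜ : Set (L i)),
      ∀ g, ¬ Coherence.ConjInto (H i) g → indFun (L i) α g = 0 := by
    intro i α hα g hg
    refine Coherence.indFun_conjInto (H i) (L i) α (fun x hx => ?_) hg
    rcases hx with hx | hx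
    · exact Coherence.zspan_seq_supp (K i) hα.1 fun h => hx (hKmem.1 h)
    · rw [hx]; exact (Coherence.mem_zspanOn_one.1 hα).2
  -- exceptional sets of different families are disjoint
  have hdisj : ∀ i j, i ≠ j → ∀ φ ∈ S i, ∀ ψ ∈ S j, μ i φ ≠ μ j ψ := by
    intro i j hij φ hφ ψ hψ heq
    have hd : ∀ k, ∀ θ ∈ S k, θ - conjFun θ ∈
        zspanOn (inducedIrrAbove (K k) (⊥ : Subgroup (L k))) ({1}ᶜ : Set (L k)) := fun k θ hθ =>
      Coherence.mem_zspanOn_one.2 ⟨Coherence.zspan_sub (Coherence.zspan_subset (hmemS.1 hθ))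
        (Coherence.zspan_subset (hmemS.1 (hSc k θ hθ))), by simp [hS1 k θ hθ]⟩
    have h0 := Coherence.inner_eq_zero_of_conjInto (H i) (H j) (hcop i j hij)
      (hsupp i _ (hd i φ hφ)) (hsupp j _ (hd j ψ hψ))
    have e : ∀ k, ∀ θ ∈ S k, indFun (L k) (θ - conjFun θ) =
        ε k • (μ k θ - μ k (conjFun θ)) := by
      intro k θ hθ
      rw [← hag k _ (hd k θ hθ), Coherence.iso_map_sub (hτ₁ k)
        (Coherence.zspan_subset (hmemS.1 hθ)) (Coherence.zspan_subset (hmemS.1 (hSc k θ hθ)))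
        (Coherence.zspan_neg (Coherence.zspan_subset (hmemS.1 (hSc k θ hθ)))), hτμ, hτμ, smul_sub]
    rw [e i φ hφ, e j ψ hψ, Coherence.inner_smul_left, Coherence.inner_smul_right] at h0
    have hne0 : ∀ k, ε k ≠ 0 := fun k he => by simpa [he] using hεε k
    rw [mul_eq_zero, mul_eq_zero, or_iff_right (hne0 i),
      or_iff_right (by simpa using hne0 j)] at h0
    simp only [Coherence.inner_sub_left, Coherence.inner_sub_right] at h0
    rw [← heq] at h0
    have hi := hμirr i φ hφ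
    have hi' := hμirr i _ (hSc i φ hφ)
    have hj' := hμirr j _ (hSc j ψ hψ)
    have h1 : μ i φ ≠ μ i (conjFun φ) := fun h =>
      (hSne i φ hφ) (hμinj i φ hφ _ (hSc i φ hφ) h).symm
    have h2 : μ i φ ≠ μ j (conjFun ψ) := fun h =>
      (hSne j ψ hψ) (hμinj j ψ hψ _ (hSc j ψ hψ) (heq.symm.trans h)).symm
    rw [Coherence.irr_inner_self hi, Coherence.irr_inner_ne hi hj' h2,
      Coherence.irr_inner_ne hi' hi h1.symm] at h0
    by_cases h3 : μ i (conjFun φ) = μ j (conjFun ψ)
    · rw [← h3, Coherence.irr_inner_self hi'] at h0; norm_num at h0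
    · rw [Coherence.irr_inner_ne hi' hj' h3] at h0; norm_num at h0
  -- linear members
  have hlin : ∀ j, ∃ φ ∈ S j, φ 1 = ((K j).index : ℂ) := by
    intro j
    haveI := Coherence.kernel_nilpotent (K j) (hK1 j) (hKT j).ne (hC j)
    obtain ⟨θ, hθ, h1⟩ := Coherence.exists_linear (K j) inferInstance (⊥ : Subgroup (L j))
      (fun h => hK1 j (le_bot_iff.1 h))
    exact ⟨_, (Coherence.mem_seqFinset _).2 ⟨θ, hθ, rfl⟩, by
      rw [CharInd.indFun_apply_one, h1, mul_one]⟩
  choose φ₁ hφ₁ hφ₁1 using hlin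
  -- the smallest kernel
  haveI : Nonempty ι := Fintype.card_pos_iff.1 (by omega)
  obtain ⟨i, -, hmin⟩ := Finset.exists_min_image (Finset.univ : Finset ι)
    (fun j => Nat.card (H j)) Finset.univ_nonempty
  set e : ℕ := (K i).index with hedef
  set h : ℕ := Nat.card (H i) with hhdef
  have he2 : 2 ≤ e := by
    have h0 := Subgroup.index_ne_zero_of_finite (H := K i)
    have h1 : e ≠ 1 := fun h => (hKT i).ne (Subgroup.index_eq_one.1 h)
    omega
  obtain ⟨n, hn, hn2⟩ : ∃ n : ℕ, h = n * e + 1 ∧ 2 ≤ n := by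
    obtain ⟨n, hn⟩ := Coherence.index_dvd_card_sub_one_of_le (K i) (hC i) (K i) le_rfl
    rw [hcardK i] at hn
    have hh : 0 < h := Nat.card_pos
    have hne : h ≠ 1 := fun h1 => hH1 i (Subgroup.card_eq_one.1 h1)
    have hev : n ≠ 0 := fun h0 => by rw [h0, mul_zero] at hn; omega
    refine ⟨n, by rw [mul_comm, ← hn]; omega, ?_⟩
    rcases Nat.lt_or_ge n 2 with hlt | hge
    · exfalso
      have : n = 1 := by omega
      rw [this, mul_one] at hn
      have ho : Odd h := hodd.of_dvd_nat (Subgroup.card_subgroup_dvd_card _)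
      have he : Odd e := (hoddL i).of_dvd_nat (K i).index_dvd_card
      obtain ⟨a, ha⟩ := ho
      obtain ⟨b, hb⟩ := he
      omega
    · exact hge
  have hbig : ∀ j, j ≠ i → h + 2 ≤ Nat.card (H j) := by
    intro j hj
    have h1 : h ≤ Nat.card (H j) := hmin j (Finset.mem_univ j)
    have h2 : h ≠ Nat.card (H j) := fun e => by
      have h3 := hcop i j (Ne.symm hj)
      rw [← e, Nat.coprime_self] at h3
      exact hH1 i (Subgroup.card_eq_one.1 h3)
    obtain ⟨a, ha⟩ := hodd.of_dvd_nat (Subgroup.card_subgroup_dvd_card (H i))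
    obtain ⟨b, hb⟩ := hodd.of_dvd_nat (Subgroup.card_subgroup_dvd_card (H j))
    omega
  have hG : h * (h + 2) ≤ Nat.card G := by
    obtain ⟨j, hj⟩ : ∃ j, j ≠ i := Fintype.exists_ne_of_one_lt_card (by omega) i
    refine le_trans (Nat.mul_le_mul_left h (hbig j hj)) (Nat.le_of_dvd Nat.card_pos ?_)
    exact (hcop i j (Ne.symm hj)).mul_dvd_of_dvd_of_dvd (Subgroup.card_subgroup_dvd_card _)
      (Subgroup.card_subgroup_dvd_card _)
  -- the virtual character `β`
  set U₀ : L i → ℂ := indFun (K i) (fun _ => (1 : ℂ)) with hU₀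
  have hU₀char : IsCharacter (L i) U₀ := CharInd.isCharacter_indFun _ CharCore.isCharacter_one
  have hU₀out : ∀ x : L i, x ∉ K i → U₀ x = 0 := fun x hx =>
    OddChar.indFun_eq_zero_of_notMem (K i) _ hx
  have hU₀K : ∀ x : L i, x ∈ K i → U₀ x = (e : ℂ) := by
    intro x hx
    rw [hU₀, show x = ((⟨x, hx⟩ : K i) : L i) from rfl, OddChar.indFun_coe]
    simp only [OddChar.conjBy, Finset.sum_const, Finset.card_univ, nsmul_eq_mul, mul_one]
    rw [← Nat.card_eq_fintype_card, ← (K i).index_mul_card, Nat.cast_mul, ← hedef,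
      mul_comm (e : ℂ), inv_mul_cancel_left₀ (Nat.cast_ne_zero.2 Nat.card_pos.ne')]
  have hU₀1 : U₀ 1 = (e : ℂ) := hU₀K 1 (K i).one_mem
  have hU₀φ : ∀ φ ∈ S i, classInner U₀ φ = 0 := by
    intro φ hφ
    obtain ⟨θ, hθ, rfl⟩ := (Coherence.mem_seqFinset _).1 hφ
    haveI := Fintype.ofFinite (K i)
    rw [hU₀, OddChar.classInner_indFun_normal, Finset.sum_eq_zero, mul_zero]
    intro g _
    refine Coherence.irr_inner_ne CharCore.isIrrCharacter_one (OddChar.conjBy_isIrr (K i) g θ.2) ?_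
    intro heq
    refine ((Coherence.mem_irrNP _).1 hθ).1 (funext fun k => ?_)
    obtain ⟨k', rfl⟩ := (MulAut.conjNormal g : MulAut (K i)).surjective k
    exact (congrFun heq k').symm
  have hU₀U₀ : classInner U₀ U₀ = (e : ℂ) := by
    haveI := Fintype.ofFinite (K i)
    rw [hU₀, OddChar.classInner_indFun_normal, Finset.sum_congr rfl
      (fun g _ => show classInner (fun _ : K i => (1 : ℂ))
          (OddChar.conjBy (K i) g fun _ => 1) = 1 from
        Coherence.irr_inner_self (χ := fun _ : K i => (1 : ℂ)) CharCore.isIrrCharacter_one),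
      Finset.sum_const, Finset.card_univ, nsmul_eq_mul, mul_one, ← Nat.card_eq_fintype_card,
      ← (K i).index_mul_card, Nat.cast_mul, ← hedef, mul_comm (e : ℂ),
      inv_mul_cancel_left₀ (Nat.cast_ne_zero.2 Nat.card_pos.ne')]
  have hφc := hSc i _ (hφ₁ i)
  obtain ⟨hiso, hone⟩ := Coherence.ti_isometry (H i) (L i) (hTI i).1 (hTI i).2
    (insert U₀ (inducedIrrAbove (K i) (⊥ : Subgroup (L i))))
    (by
      rintro φ (rfl | hφ)
      · exact Coherence.gen_of_char hU₀char
      · exact Coherence.gen_of_char (Coherence.seq_isCharacter _ hφ))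
    (by
      rintro φ (rfl | hφ) x hx
      · exact hU₀out x fun h => hx (hKmem.1 h)
      · exact Coherence.zspan_seq_supp (K i) (Coherence.zspan_subset hφ) fun h => hx (hKmem.1 h))
  set α₀ : L i → ℂ := U₀ - φ₁ i with hα₀
  have hα₀mem : α₀ ∈ zspanOn (insert U₀ (inducedIrrAbove (K i) (⊥ : Subgroup (L i))))
      ({1}ᶜ : Set (L i)) :=
    Coherence.mem_zspanOn_one.2 ⟨Coherence.zspan_sub (Coherence.zspan_subset (Set.mem_insert _ _))
      (Coherence.zspan_subset (Set.mem_insert_of_mem _ (hmemS.1 (hφ₁ i)))),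
      by simp [hα₀, hU₀1, hφ₁1 i, hedef]⟩
  set β : G → ℂ := indFun (L i) α₀ with hβdef
  have hβgen : IsGeneralizedCharacter G β := hiso.2.2.2 _ hα₀mem
  have hsubS : zspanOn (inducedIrrAbove (K i) (⊥ : Subgroup (L i))) ({1}ᶜ : Set (L i)) ⊆
      zspanOn (insert U₀ (inducedIrrAbove (K i) (⊥ : Subgroup (L i)))) ({1}ᶜ : Set (L i)) :=
    Coherence.zspanOn_mono (Set.subset_insert _ _) _
  have hβτ : ∀ α ∈ zspanOn (inducedIrrAbove (K i) (⊥ : Subgroup (L i))) ({1}ᶜ : Set (L i)),
      classInner β (τ₁ i α) = classInner α₀ α := fun α hα => by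
    rw [hag i α hα]
    exact hiso.2.2.1 _ hα₀mem _ (hsubS hα)
  have hα₀out : ∀ x : L i, (x : G) ∉ H i ∨ x = 1 → α₀ x = 0 := by
    rintro x (hx | rfl)
    · have hxK : x ∉ K i := fun h => hx (hKmem.1 h)
      rw [hα₀, Pi.sub_apply, hU₀out x hxK,
        Coherence.zspan_seq_supp (K i) (Coherence.zspan_subset (hmemS.1 (hφ₁ i))) hxK, sub_zero]
    · exact (Coherence.mem_zspanOn_one.1 hα₀mem).2
  have hβsupp : ∀ g, ¬ Coherence.ConjInto (H i) g → β g = 0 := fun g hg =>
    Coherence.indFun_conjInto (H i) (L i) α₀ hα₀out hg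
  have hψ1 : classInner (φ₁ i) (conjFun (φ₁ i)) = 0 :=
    Coherence.irr_inner_ne (hSirr i _ (hφ₁ i)) (hSirr i _ hφc) (hSne i _ (hφ₁ i)).symm
  have hα₀d : classInner α₀ (φ₁ i - conjFun (φ₁ i)) = -1 := by
    rw [hα₀, Coherence.inner_sub_left, Coherence.inner_sub_right, Coherence.inner_sub_right,
      hU₀φ _ (hφ₁ i), hU₀φ _ hφc, Coherence.irr_inner_self (hSirr i _ (hφ₁ i)), hψ1]
    ring
  have hββ : classInner β β = ((e + 1 : ℕ) : ℂ) := by
    rw [hiso.2.2.1 _ hα₀mem _ hα₀mem, hα₀, Coherence.inner_sub_left, Coherence.inner_sub_right,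
      Coherence.inner_sub_right, hU₀U₀, ← Coherence.inner_conj_symm U₀ (φ₁ i),
      hU₀φ _ (hφ₁ i), Coherence.irr_inner_self (hSirr i _ (hφ₁ i)), map_zero]
    push_cast
    ring
  let one : IrrCharacter G := ⟨fun _ => 1, CharCore.isIrrCharacter_one⟩
  have hβone : classInner β one.1 = 1 := by
    have hone1 : ∀ x : L i, (one : G → ℂ) (x : G) = 1 := fun _ => rfl
    rw [hβdef, CharInd.classInner_indFun_left _ _
      (CharInd.isClassFunction_of_isCharacter (Coherence.irr_isCharacter one.2))]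
    show classInner α₀ (fun _ => 1) = 1
    have h1 : classInner U₀ (fun _ : L i => (1 : ℂ)) = 1 := by
      rw [hU₀, CharInd.classInner_indFun_left _ _ (fun _ _ => rfl)]
      exact Coherence.irr_inner_self (χ := fun _ : K i => (1 : ℂ)) CharCore.isIrrCharacter_one
    have h2 : classInner (φ₁ i) (fun _ : L i => (1 : ℂ)) = 0 := by
      refine Coherence.irr_inner_ne (hSirr i _ (hφ₁ i)) CharCore.isIrrCharacter_one fun heq => ?_
      exact hSne i _ (hφ₁ i) (by rw [heq]; funext x; simp [conjFun])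
    rw [hα₀, Coherence.inner_sub_left, h1, h2, sub_zero]
  obtain ⟨z, hz⟩ := Coherence.gen_exists_sum hβgen
  have hzc : ∀ χ : IrrCharacter G, classInner β χ = (z χ : ℂ) := fun χ => by
    rw [hz, CharCore.classInner_sum_all]
  have hnormz : ∑ χ, z χ ^ 2 = (e : ℤ) + 1 := by
    have hh := hββ
    rw [hz, CharCore.classInner_sum_sum] at hh
    simp only [map_intCast] at hh
    have hh' : ((∑ χ, z χ ^ 2 : ℤ) : ℂ) = (((e : ℤ) + 1 : ℤ) : ℂ) := by
      push_cast at hh ⊢
      simpa [sq] using hh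
    exact_mod_cast hh'
  let M : ∀ j, (L j → ℂ) → IrrCharacter G := fun j ψ =>
    if hψ : ψ ∈ S j then ⟨μ j ψ, hμirr j ψ hψ⟩ else one
  have hM : ∀ j ψ, ψ ∈ S j → (M j ψ : G → ℂ) = μ j ψ := fun j ψ hψ => by
    simp only [M, dif_pos hψ]
  set E : ι → Finset (IrrCharacter G) := fun j => (S j).image (M j) with hEdef
  have hEmem : ∀ {j} {χ : IrrCharacter G}, χ ∈ E j ↔ ∃ ψ ∈ S j, (χ : G → ℂ) = μ j ψ := by
    intro j χ
    simp only [hEdef, Finset.mem_image]
    constructor
    · rintro ⟨ψ, hψ, rfl⟩; exact ⟨ψ, hψ, hM j ψ hψ⟩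
    · rintro ⟨ψ, hψ, hh⟩; exact ⟨ψ, hψ, Subtype.ext (by rw [hM j ψ hψ, hh])⟩
  have hEdisj : ∀ j k, j ≠ k → Disjoint (E j) (E k) := fun j k hjk =>
    Finset.disjoint_left.2 fun χ h1 h2 => by
      obtain ⟨ψ, hψ, e1⟩ := hEmem.1 h1
      obtain ⟨ψ', hψ', e2⟩ := hEmem.1 h2
      exact hdisj j k hjk ψ hψ ψ' hψ' (e1.symm.trans e2)
  have hd2 : ∀ j, ∀ θ ∈ S j, θ - conjFun θ ∈
      zspanOn (inducedIrrAbove (K j) (⊥ : Subgroup (L j))) ({1}ᶜ : Set (L j)) := fun j θ hθ =>
    Coherence.mem_zspanOn_one.2 ⟨Coherence.zspan_sub (Coherence.zspan_subset (hmemS.1 hθ))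
      (Coherence.zspan_subset (hmemS.1 (hSc j θ hθ))), by simp [hS1 j θ hθ]⟩
  have hone_notMem : ∀ j, one ∉ E j := by
    intro j hmem
    obtain ⟨ψ, hψ, he⟩ := hEmem.1 hmem
    have h1 : classInner (indFun (L j) (ψ - conjFun ψ)) (fun _ : G => (1 : ℂ)) = 0 := by
      rw [CharInd.classInner_indFun_left _ _ (fun _ _ => rfl)]
      show classInner (ψ - conjFun ψ) (fun _ => (1 : ℂ)) = 0
      have hne' : ∀ θ ∈ S j, classInner θ (fun _ : L j => (1 : ℂ)) = 0 := fun θ hθ =>
        Coherence.irr_inner_ne (hSirr j _ hθ) CharCore.isIrrCharacter_one fun heq =>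
          hSne j _ hθ (by rw [heq]; funext x; simp [conjFun])
      rw [Coherence.inner_sub_left, hne' ψ hψ, hne' _ (hSc j ψ hψ), sub_zero]
    rw [← hag j _ (hd2 j ψ hψ), Coherence.iso_map_sub (hτ₁ j)
        (Coherence.zspan_subset (hmemS.1 hψ)) (Coherence.zspan_subset (hmemS.1 (hSc j ψ hψ)))
        (Coherence.zspan_neg (Coherence.zspan_subset (hmemS.1 (hSc j ψ hψ)))), hτμ, hτμ,
      ← smul_sub, Coherence.inner_smul_left, Coherence.inner_sub_left] at h1
    have he' : (fun _ : G => (1 : ℂ)) = μ j ψ := he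
    rw [he', Coherence.irr_inner_self (hμirr j ψ hψ),
      Coherence.irr_inner_ne (hμirr j _ (hSc j ψ hψ)) (hμirr j ψ hψ)
        (fun h => hSne j ψ hψ (hμinj j _ (hSc j ψ hψ) ψ hψ h)), sub_zero, mul_one] at h1
    have := hεε j
    rw [h1, zero_mul] at this
    exact zero_ne_one this
  -- outside its family a character is orthogonal to the images
  have horth : ∀ j, ∀ χ : IrrCharacter G, χ ∉ E j → ∀ α ∈ zspan (↑(S j) : Set (L j → ℂ)),
      classInner (χ : G → ℂ) (τ₁ j α) = 0 := by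
    intro j χ hχ α hα
    refine Coherence.iso_orth (by rw [hScoe]; exact hτ₁ j) (fun ψ hψ => ?_) hα
    rw [hτμ, Coherence.inner_smul_right,
      Coherence.irr_inner_ne χ.2 (hμirr j ψ hψ) (fun h => hχ (hEmem.2 ⟨ψ, hψ, h⟩)), mul_zero]
  -- invariance of the coefficients under conjugation, outside the family `i`
  let σ : IrrCharacter G → IrrCharacter G := fun χ =>
    ⟨conjFun (χ : G → ℂ), CharCore.isIrrCharacter_star χ.2⟩
  have hzconj : ∀ χ : IrrCharacter G, χ ∉ E i → z (σ χ) = z χ := by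
    intro χ hχ
    have hβc : conjFun β = β + τ₁ i (φ₁ i - conjFun (φ₁ i)) := by
      rw [hag i _ (hd2 i _ (hφ₁ i)), hβdef, Coherence.conjFun_indFun, ← CharInd.indFun_add]
      congr 1
      have hc0 : conjFun U₀ = U₀ := by
        rw [hU₀, Coherence.conjFun_indFun]
        congr 1
        funext k
        simp [conjFun]
      funext x
      have h1 := congrFun hc0 x
      simp only [conjFun] at h1
      simp only [hα₀, conjFun, Pi.sub_apply, Pi.add_apply, map_sub, h1]
      ring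
    have h1 : classInner (conjFun β) χ = (z χ : ℂ) := by
      rw [hβc, Coherence.inner_add_left, hzc,
        ← Coherence.inner_conj_symm (χ : G → ℂ) (τ₁ i _),
        horth i χ hχ _ (by rw [hScoe]; exact (hd2 i _ (hφ₁ i)).1), map_zero, add_zero]
    have h2 : classInner β (σ χ).1 = conj (classInner (conjFun β) χ) := by
      rw [← inner_conjFun, Coherence.conjFun_conjFun]
    rw [hzc, h1, map_intCast] at h2
    exact_mod_cast h2
  -- the coefficients inside another family are proportional to the degrees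
  have hzfam : ∀ j, j ≠ i → ∀ ψ ∈ S j, (z (M j ψ) : ℂ) * (K j).index =
      ψ 1 * z (M j (φ₁ j)) := by
    intro j hj ψ hψ
    obtain ⟨d, hd, -⟩ := Coherence.char_one_nat (Coherence.irr_isCharacter (hSirr j ψ hψ))
    have hmem : ((K j).index : ℤ) • ψ - (d : ℤ) • φ₁ j ∈
        zspanOn (inducedIrrAbove (K j) (⊥ : Subgroup (L j))) ({1}ᶜ : Set (L j)) :=
      Coherence.mem_zspanOn_one.2 ⟨Coherence.zspan_sub
        (Coherence.zspan_zsmul _ (Coherence.zspan_subset (hmemS.1 hψ)))
        (Coherence.zspan_zsmul _ (Coherence.zspan_subset (hmemS.1 (hφ₁ j)))),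
        by simp [hd, hφ₁1 j]; ring⟩
    have h0 : classInner β (τ₁ j (((K j).index : ℤ) • ψ - (d : ℤ) • φ₁ j)) = 0 := by
      rw [hag j _ hmem]
      exact Coherence.inner_eq_zero_of_conjInto (H i) (H j) (hcop i j (Ne.symm hj)) hβsupp
        (hsupp j _ hmem)
    rw [Coherence.iso_map_sub (hτ₁ j)
        (Coherence.zspan_zsmul _ (Coherence.zspan_subset (hmemS.1 hψ)))
        (Coherence.zspan_zsmul _ (Coherence.zspan_subset (hmemS.1 (hφ₁ j))))
        (Coherence.zspan_neg (Coherence.zspan_zsmul _ (Coherence.zspan_subset (hmemS.1 (hφ₁ j))))),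
      (hτ₁ j).2.1 _ (Coherence.zspan_subset (hmemS.1 hψ)),
      (hτ₁ j).2.1 _ (Coherence.zspan_subset (hmemS.1 (hφ₁ j))), hτμ, hτμ,
      Coherence.inner_sub_right, Coherence.inner_zsmul_right, Coherence.inner_zsmul_right,
      Coherence.inner_smul_right, Coherence.inner_smul_right, ← hM j ψ hψ, ← hM j _ (hφ₁ j),
      hzc, hzc] at h0
    push_cast at h0
    have hε0 : conj (ε j) ≠ 0 := by
      simp only [ne_eq, map_eq_zero]
      intro he; simpa [he] using hεε j
    rw [hd]
    refine mul_left_cancel₀ hε0 ?_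
    linear_combination h0
  -- `μ₁`
  set m : IrrCharacter G := M i (φ₁ i) with hmdef
  have hmval : (m : G → ℂ) = μ i (φ₁ i) := hM i _ (hφ₁ i)
  -- `μ₁` does not vanish on the kernels of families with zero coefficient
  have hnonzero : ∀ j, j ≠ i → z (M j (φ₁ j)) = 0 → ∀ x : L j, (x : G) ∈ H j → x ≠ 1 →
      ∃ c : ℤ, c ≠ 0 ∧ (m : G → ℂ) x = c := by
    intro j hj hzj x hx hx1
    have hzE : ∀ χ ∈ E j, z χ = 0 := by
      intro χ hχ
      obtain ⟨ψ, hψ, he⟩ := hEmem.1 hχ
      have h1 := hzfam j hj ψ hψ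
      rw [hzj, Int.cast_zero, mul_zero, mul_eq_zero, or_iff_left
        (Nat.cast_ne_zero.2 Subgroup.index_ne_zero_of_finite), Int.cast_eq_zero] at h1
      rwa [show χ = M j ψ from Subtype.ext (he.trans (hM j ψ hψ).symm)]
    have hint : ∀ χ : IrrCharacter G, χ ∉ E j → ∃ c : ℤ, (χ : G → ℂ) x = c := by
      intro χ hχ
      have hgen : IsGeneralizedCharacter (L j) (fun y : L j => (χ : G → ℂ) y) :=
        Coherence.gen_of_char (CharCore.isCharacter_restrict (Coherence.irr_isCharacter χ.2) (L j))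
      have hcl : IsClassFunction (L j) (fun y : L j => (χ : G → ℂ) y) :=
        CharInd.isClassFunction_of_isCharacter
          (CharCore.isCharacter_restrict (Coherence.irr_isCharacter χ.2) (L j))
      obtain ⟨c, hc⟩ := Coherence.int_of_constant (K j) hgen (hK1 j)
        (fun u hu hu1 v hv hv1 => Coherence.orth_constant (K j) (hC j) hcl (fun α hα => by
          rw [← CharInd.classInner_indFun_right _ _
            (CharInd.isClassFunction_of_isCharacter (Coherence.irr_isCharacter χ.2))]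
          have hb := horth j χ hχ α (by rw [hScoe]; exact hα.1)
          rw [hag j α hα] at hb
          exact hb) hu hu1 hv hv1)
      exact ⟨c, hc x (hKmem.2 hx) hx1⟩
    have hmE : m ∉ E j := fun hh => Finset.disjoint_left.1 (hEdisj i j (Ne.symm hj))
      (hEmem.2 ⟨φ₁ i, hφ₁ i, hmval⟩) hh
    obtain ⟨c, hc⟩ := hint m hmE
    refine ⟨c, fun hc0 => ?_, hc⟩
    rw [hc0, Int.cast_zero, hmval] at hc
    have hxinto : ¬ Coherence.ConjInto (H i) (x : G) := by
      rintro ⟨hg1, y, hy⟩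
      have d1 : orderOf (x : G) ∣ Nat.card (H i) := by
        rw [← show orderOf (y * (x : G) * y⁻¹) = orderOf (x : G) by
          rw [← MulAut.conj_apply, MulEquiv.orderOf_eq], ← Subgroup.orderOf_mk _ hy]
        exact orderOf_dvd_natCard _
      have d2 : orderOf (x : G) ∣ Nat.card (H j) := by
        rw [← Subgroup.orderOf_mk _ hx]; exact orderOf_dvd_natCard _
      exact hg1 (orderOf_eq_one_iff.1 (Nat.dvd_one.1 ((hcop i j (Ne.symm hj)) ▸ Nat.dvd_gcd d1 d2)))
    -- all of family `i` vanishes at `x`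
    have hEi : ∀ χ ∈ E i, (χ : G → ℂ) x = 0 := by
      intro χ hχ
      obtain ⟨ψ, hψ, he⟩ := hEmem.1 hχ
      obtain ⟨d, hd, -⟩ := Coherence.char_one_nat (Coherence.irr_isCharacter (hSirr i ψ hψ))
      have hmem : (e : ℤ) • ψ - (d : ℤ) • φ₁ i ∈
          zspanOn (inducedIrrAbove (K i) (⊥ : Subgroup (L i))) ({1}ᶜ : Set (L i)) :=
        Coherence.mem_zspanOn_one.2 ⟨Coherence.zspan_sub
          (Coherence.zspan_zsmul _ (Coherence.zspan_subset (hmemS.1 hψ)))
          (Coherence.zspan_zsmul _ (Coherence.zspan_subset (hmemS.1 (hφ₁ i)))),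
          by simp [hd, hφ₁1 i, hedef]; ring⟩
      have h0 := hsupp i _ hmem (x : G) hxinto
      rw [← hag i _ hmem, Coherence.iso_map_sub (hτ₁ i)
          (Coherence.zspan_zsmul _ (Coherence.zspan_subset (hmemS.1 hψ)))
          (Coherence.zspan_zsmul _ (Coherence.zspan_subset (hmemS.1 (hφ₁ i))))
          (Coherence.zspan_neg (Coherence.zspan_zsmul _ (Coherence.zspan_subset (hmemS.1 (hφ₁ i))))),
        (hτ₁ i).2.1 _ (Coherence.zspan_subset (hmemS.1 hψ)),
        (hτ₁ i).2.1 _ (Coherence.zspan_subset (hmemS.1 (hφ₁ i)))] at h0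
      simp only [hτμ, Pi.sub_apply, Pi.mul_apply, Pi.intCast_apply, zsmul_eq_mul, Pi.smul_apply,
        smul_eq_mul, hc, mul_zero, sub_zero, mul_eq_zero] at h0
      rw [he]
      rcases h0 with h0 | h0 | h0
      · exact absurd h0 (by exact_mod_cast (show e ≠ 0 by omega))
      · exact absurd h0 (fun he0 => by simpa [he0] using hεε i)
      · exact h0
    choose cf hcf using hint
    set F : IrrCharacter G → ℤ := fun χ =>
      if χ ∈ E i then 0 else if hj' : χ ∈ E j then 0 else z χ * cf χ hj' with hFdef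
    have hF : ∀ χ, (z χ : ℂ) * (χ : G → ℂ) x = (F χ : ℂ) := by
      intro χ
      simp only [hFdef]
      by_cases h1 : χ ∈ E i
      · rw [if_pos h1, hEi χ h1]; simp
      · rw [if_neg h1]
        by_cases h2 : χ ∈ E j
        · rw [dif_pos h2, hzE χ h2]; simp
        · rw [dif_neg h2, hcf χ h2]; simp
    have hFσ : ∀ χ, F (σ χ) = F χ := by
      intro χ
      have hx' : ((σ χ : IrrCharacter G) : G → ℂ) x = conj ((χ : G → ℂ) x) := rfl
      have key : ((F (σ χ) : ℤ) : ℂ) = (F χ : ℤ) := by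
        rw [← hF, ← hF, hx']
        by_cases h1 : χ ∈ E i
        · rw [hEi χ h1]; simp
        by_cases h2 : σ χ ∈ E i
        · have h3 := hEi _ h2
          rw [hx'] at h3
          rw [h3, mul_zero, (map_eq_zero _).1 h3, mul_zero]
        rw [hzconj χ h1]
        by_cases h3 : z χ = 0
        · rw [h3]; simp
        · rw [hcf χ (fun h => h3 (hzE χ h)), map_intCast]
      exact_mod_cast key
    have hFone : F one = 1 := by
      have h1 := hF one
      have hz1 : z one = 1 := by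
        have := hzc one
        rw [hβone] at this
        exact_mod_cast this.symm
      rw [hz1] at h1
      have h2 : ((1 : ℤ) : ℂ) = (F one : ℂ) := by
        rw [← h1]; simp [one]
      exact_mod_cast h2.symm
    have hsum : ∑ χ, F χ = 0 := by
      have h1 : β x = ((∑ χ, F χ : ℤ) : ℂ) := by
        rw [hz, Finset.sum_apply]
        push_cast
        exact Finset.sum_congr rfl fun χ _ => by simp [← hF]
      rw [hβsupp _ hxinto] at h1
      exact_mod_cast h1.symm
    have h2 : (∑ χ ∈ (Finset.univ : Finset (IrrCharacter G)).erase one, (F χ : ZMod 2)) = 0 := by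
      refine Finset.sum_involution (fun χ _ => σ χ) (fun χ _ => ?_) (fun χ hχ _ heq => ?_)
        (fun χ hχ => ?_) (fun χ _ => Subtype.ext (Coherence.conjFun_conjFun _))
      · rw [hFσ]; exact CharTwo.add_self_eq_zero _
      · refine (Finset.mem_erase.1 hχ).1 (Subtype.ext ?_)
        refine S0161.result hodd χ fun g => ?_
        have := congrFun (congrArg Subtype.val heq) g
        exact Complex.conj_eq_iff_im.1 this
      · refine Finset.mem_erase.2 ⟨fun heq => (Finset.mem_erase.1 hχ).1 (Subtype.ext ?_),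
          Finset.mem_univ _⟩
        have h3 : conjFun (χ : G → ℂ) = fun _ => 1 := congrArg Subtype.val heq
        rw [← Coherence.conjFun_conjFun (χ : G → ℂ), h3]
        funext g
        simp [conjFun, one]
    have h3 := congrArg (fun t : ℤ => (t : ZMod 2)) hsum
    simp only [Int.cast_sum, Int.cast_zero] at h3
    rw [← Finset.add_sum_erase _ _ (Finset.mem_univ one), h2, hFone, add_zero, Int.cast_one] at h3
    exact one_ne_zero h3
  -- weights
  set w : ι → ℝ := fun j => ((Nat.card (H j) : ℝ) - 1) / Nat.card (L j) with hwdef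
  set A : ∀ j, Finset (L j) := fun j =>
    Finset.univ.filter (fun x : L j => (x : G) ∈ H j ∧ x ≠ 1) with hAdef
  have hAK : ∀ j, A j = (Finset.univ.filter fun x : L j => x ∈ K j).erase 1 := by
    intro j
    ext x
    simp [hAdef, hKdef, Subgroup.mem_subgroupOf, and_comm]
  have hAcard : ∀ j, ((A j).card : ℝ) = (Nat.card (H j) : ℝ) - 1 := by
    intro j
    rw [hAK, Finset.card_erase_of_mem (by simp [(K j).one_mem]), ← Fintype.card_subtype,
      ← Nat.card_eq_fintype_card, show Nat.card {x // x ∈ K j} = Nat.card (H j) from hcardK j,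
      Nat.cast_sub Nat.card_pos, Nat.cast_one]
  have hw1 : 1 - ((Nat.card G : ℝ))⁻¹ = ∑ j, w j := by
    have h1 := Coherence.cover_sum H L (fun j => (hHL j).le) (fun j => (hTI j).1)
      (fun j => (hTI j).2) hcop hcover (fun _ => (1 : ℂ)) (fun _ _ => rfl)
    have h2 := congrArg Complex.re h1
    simp only [Complex.re_sum] at h2
    have hG0 : (Nat.card G : ℝ) ≠ 0 := Nat.cast_ne_zero.2 Nat.card_pos.ne'
    rw [Finset.sum_const, Finset.card_erase_of_mem (Finset.mem_univ _), Finset.card_univ,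
      ← Nat.card_eq_fintype_card, nsmul_eq_mul, mul_one, ← Complex.ofReal_natCast,
      ← Complex.ofReal_natCast, ← Complex.ofReal_inv, ← Complex.ofReal_mul,
      Complex.ofReal_re, Nat.cast_sub Nat.card_pos, Nat.cast_one, mul_sub, mul_one,
      inv_mul_cancel₀ hG0] at h2
    rw [← h2]
    refine Finset.sum_congr rfl fun j _ => ?_
    rw [Finset.sum_const, nsmul_eq_mul, mul_one, ← Complex.ofReal_natCast,
      ← Complex.ofReal_natCast, ← Complex.ofReal_inv, ← Complex.ofReal_mul, Complex.ofReal_re]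
    simp only [hwdef]
    rw [← hAcard j, div_eq_inv_mul]
  -- the norm of `μ₁`
  have hnorm : ∑ j, (Nat.card (L j) : ℝ)⁻¹ * ∑ x ∈ A j, Complex.normSq ((m : G → ℂ) x) ≤ 1 := by
    have hcl : IsClassFunction G (fun g => ((Complex.normSq ((m : G → ℂ) g) : ℝ) : ℂ)) :=
      fun g u => by
        show ((Complex.normSq ((m : G → ℂ) (u * g * u⁻¹)) : ℝ) : ℂ) = _
        rw [CharCore.irr_isClassFunction m g u]
    have h1 := Coherence.cover_sum H L (fun j => (hHL j).le) (fun j => (hTI j).1)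
      (fun j => (hTI j).2) hcop hcover _ hcl
    have h2 : ∑ j, (Nat.card (L j) : ℝ)⁻¹ * ∑ x ∈ A j, Complex.normSq ((m : G → ℂ) x) =
        (Nat.card G : ℝ)⁻¹ * ∑ g ∈ Finset.univ.erase (1 : G), Complex.normSq ((m : G → ℂ) g) := by
      apply Complex.ofReal_injective
      push_cast
      exact h1
    have h3 : (Nat.card G : ℝ)⁻¹ * ∑ g : G, Complex.normSq ((m : G → ℂ) g) = 1 := by
      apply Complex.ofReal_injective
      push_cast
      rw [← Coherence.irr_inner_self m.2]
      simp [classInner, Complex.mul_conj]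
    rw [h2]
    refine le_of_le_of_eq (mul_le_mul_of_nonneg_left ?_ (by positivity)) h3
    exact Finset.sum_le_sum_of_subset_of_nonneg (Finset.erase_subset _ _)
      fun g _ _ => Complex.normSq_nonneg _
  have hL : (Nat.card (L i) : ℝ) = (e : ℝ) * h := by
    rw [← (K i).index_mul_card, hcardK i]
    push_cast [hedef, hhdef]
    ring
  have hh : (h : ℝ) = (n : ℝ) * e + 1 := by rw [hn]; push_cast; ring
  have hepos : (2 : ℝ) ≤ e := by exact_mod_cast he2
  have hhpos : (0 : ℝ) < h := by rw [hh]; positivity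
  -- the contribution of the kernel `H i`
  have hterm : 1 - (e : ℝ) / h ≤
      (Nat.card (L i) : ℝ)⁻¹ * ∑ x ∈ A i, Complex.normSq ((m : G → ℂ) x) := by
    have hgenf : IsGeneralizedCharacter (L i) (fun y : L i => τ₁ i (φ₁ i) y - φ₁ i y) := by
      obtain ⟨u, v, hu, hv, huv⟩ := (hτ₁ i).2.2.2 _ (Coherence.zspan_subset (hmemS.1 (hφ₁ i)))
      refine Coherence.gen_sub (α := fun y : L i => τ₁ i (φ₁ i) y) ?_
        (Coherence.irr_gen (hSirr i _ (hφ₁ i)))
      exact ⟨_, _, CharCore.isCharacter_restrict hu (L i), CharCore.isCharacter_restrict hv (L i),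
        by funext y; simp [huv]⟩
    have hclτ : IsClassFunction G (τ₁ i (φ₁ i)) := by
      obtain ⟨u, v, hu, hv, huv⟩ := (hτ₁ i).2.2.2 _ (Coherence.zspan_subset (hmemS.1 (hφ₁ i)))
      intro g k
      simp only [huv, Pi.sub_apply]
      rw [CharInd.isClassFunction_of_isCharacter hu g k,
        CharInd.isClassFunction_of_isCharacter hv g k]
    have hclf : IsClassFunction (L i) (fun y : L i => τ₁ i (φ₁ i) y - φ₁ i y) := fun g k => by
      show τ₁ i (φ₁ i) ((k * g * k⁻¹ : L i) : G) - φ₁ i (k * g * k⁻¹) = _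
      rw [CharInd.isClassFunction_of_isCharacter (Coherence.irr_isCharacter (hSirr i _ (hφ₁ i))) g k]
      simp only [Subgroup.coe_mul, InvMemClass.coe_inv]
      rw [hclτ]
    obtain ⟨C, hC'⟩ := Coherence.int_of_constant (K i) hgenf (hK1 i)
      (fun u hu hu1 v hv hv1 => Coherence.orth_constant (K i) (hC i) hclf (fun α hα => by
        rw [show (fun y : L i => τ₁ i (φ₁ i) y - φ₁ i y) =
            (fun y : L i => τ₁ i (φ₁ i) y) - φ₁ i from rfl, Coherence.inner_sub_left,
          ← CharInd.classInner_indFun_right _ _ hclτ, ← hag i α hα,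
          (hτ₁ i).2.2.1 _ (Coherence.zspan_subset (hmemS.1 (hφ₁ i))) _ hα.1, sub_self])
        hu hu1 hv hv1)
    have hval : ∀ x ∈ A i, Complex.normSq ((m : G → ℂ) x) =
        Complex.normSq (φ₁ i x) + 2 * (C : ℝ) * (φ₁ i x).re + (C : ℝ) ^ 2 := by
      intro x hx
      obtain ⟨-, hxH, hx1⟩ := Finset.mem_filter.1 hx
      have h1 := hC' x (hKmem.2 hxH) hx1
      rw [hmval, hμdef]
      show Complex.normSq (ε i * τ₁ i (φ₁ i) x) = _
      rw [map_mul, show Complex.normSq (ε i) = 1 by rcases hε i with h | h <;> rw [h] <;> simp,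
        one_mul, show τ₁ i (φ₁ i) x = φ₁ i x + (C : ℂ) by linear_combination h1]
      simp [Complex.normSq_apply]
      ring
    have hout : ∀ x : L i, x ∉ K i → φ₁ i x = 0 := fun x hx =>
      Coherence.zspan_seq_supp (K i) (Coherence.zspan_subset (hmemS.1 (hφ₁ i))) hx
    have hsplit : ∀ F : L i → ℝ, (∀ x, x ∉ K i → F x = 0) →
        ∑ x ∈ A i, F x = (∑ x, F x) - F 1 := by
      intro F hF
      rw [hAK, Finset.sum_erase_eq_sub (by simp [(K i).one_mem]), Finset.sum_filter]
      congr 1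
      exact Finset.sum_congr rfl fun x _ => by
        by_cases hx : x ∈ K i
        · rw [if_pos hx]
        · rw [if_neg hx, hF x hx]
    have hL0 : (Nat.card (L i) : ℝ) ≠ 0 := Nat.cast_ne_zero.2 Nat.card_pos.ne'
    have hs1 : ∑ x, Complex.normSq (φ₁ i x) = (Nat.card (L i) : ℝ) := by
      apply Complex.ofReal_injective
      have h1 := Coherence.irr_inner_self (hSirr i _ (hφ₁ i))
      simp only [classInner] at h1
      rw [inv_mul_eq_one₀ (Nat.cast_ne_zero.2 Nat.card_pos.ne')] at h1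
      push_cast
      rw [h1]
      simp [Complex.mul_conj]
    have hs2 : ∑ x, (φ₁ i x).re = 0 := by
      have h1 : classInner (φ₁ i) (fun _ : L i => (1 : ℂ)) = 0 :=
        Coherence.irr_inner_ne (hSirr i _ (hφ₁ i)) CharCore.isIrrCharacter_one fun heq =>
          hSne i _ (hφ₁ i) (by rw [heq]; funext x; simp [conjFun])
      simp only [classInner, map_one, mul_one, mul_eq_zero] at h1
      rcases h1 with h1 | h1
      · exact absurd h1 (inv_ne_zero (Nat.cast_ne_zero.2 Nat.card_pos.ne'))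
      · simpa [Complex.re_sum] using congrArg Complex.re h1
    rw [Finset.sum_congr rfl hval, Finset.sum_add_distrib, Finset.sum_add_distrib,
      hsplit (fun x => Complex.normSq (φ₁ i x)) (fun x hx => by simp [hout x hx]),
      hsplit (fun x => 2 * (C : ℝ) * (φ₁ i x).re) (fun x hx => by simp [hout x hx]),
      ← Finset.mul_sum, hs1, hs2, Finset.sum_const, nsmul_eq_mul, hAcard i, hφ₁1 i]
    simp only [Complex.normSq_natCast, Complex.natCast_re, mul_zero, ← hhdef, ← hedef, zero_sub]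
    rw [hL, hh]
    have hCn : 0 ≤ (n : ℝ) * (C : ℝ) ^ 2 - 2 * C := by
      have hC2 : 0 ≤ (n : ℤ) * C ^ 2 - 2 * C := by
        have : (2 : ℤ) ≤ n := by exact_mod_cast hn2
        nlinarith [Int.le_self_sq C, sq_nonneg C]
      exact_mod_cast hC2
    rw [le_inv_mul_iff₀ (by positivity), sub_eq_add_neg]
    field_simp
    nlinarith
  -- families with non-zero coefficient
  set B : Finset ι := Finset.univ.filter fun j => j ≠ i ∧ z (M j (φ₁ j)) ≠ 0 with hBdef
  set B' : Finset ι := Finset.univ.filter fun j => j ≠ i ∧ ¬ z (M j (φ₁ j)) ≠ 0 with hB'def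
  have hMinj : ∀ j, Set.InjOn (M j) ↑(S j) := fun j a ha b hb hab =>
    hμinj j a ha b hb (by rw [← hM j a ha, ← hM j b hb, hab])
  have hfamsum : ∀ j ∈ B,
      ((Nat.card (H j) : ℝ) - 1) / (K j).index ≤ ∑ χ ∈ E j, (z χ : ℝ) ^ 2 := by
    intro j hj
    obtain ⟨-, hji, hb⟩ := Finset.mem_filter.1 hj
    rw [hEdef, Finset.sum_image (hMinj j)]
    have hidx : ((K j).index : ℝ) ≠ 0 := Nat.cast_ne_zero.2 Subgroup.index_ne_zero_of_finite
    have h1 : ∀ ψ ∈ S j, (z (M j ψ) : ℝ) ^ 2 =
        ((ψ 1).re ^ 2 / Coherence.normSqFn ψ) *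
          ((z (M j (φ₁ j)) : ℝ) ^ 2 / (K j).index ^ 2) := by
      intro ψ hψ
      have hn1 : Coherence.normSqFn ψ = 1 := by
        apply Complex.ofReal_injective
        rw [← Coherence.inner_self, Coherence.irr_inner_self (hSirr j ψ hψ)]; simp
      have h2 := congrArg Complex.re (hzfam j hji ψ hψ)
      simp only [Complex.mul_re, Complex.intCast_re, Complex.intCast_im, Complex.natCast_re,
        Complex.natCast_im, mul_zero, sub_zero] at h2
      rw [hn1, div_one, ← mul_div_assoc, eq_div_iff (pow_ne_zero 2 hidx), ← mul_pow, ← mul_pow, h2]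
    rw [Finset.sum_congr rfl h1, ← Finset.sum_mul, hSdef, Coherence.sum_seq, Coherence.sum_irrNP,
      Subgroup.relIndex_bot_left, hcardK j]
    have hb1 : (1 : ℝ) ≤ (z (M j (φ₁ j)) : ℝ) ^ 2 := by
      have : 1 ≤ z (M j (φ₁ j)) ^ 2 := by
        nlinarith [mul_self_pos.2 hb]
      exact_mod_cast this
    have hh1 : (0 : ℝ) ≤ (Nat.card (H j) : ℝ) - 1 := by
      rw [sub_nonneg]; exact_mod_cast Nat.card_pos
    calc ((Nat.card (H j) : ℝ) - 1) / (K j).index
        = ((K j).index : ℝ) * ((Nat.card (H j) : ℝ) - 1) * (1 / (K j).index ^ 2) := by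
          field_simp
      _ ≤ _ := by gcongr
  have hBsum : ∑ j ∈ B, ((Nat.card (H j) : ℝ) - 1) / (K j).index ≤ (e : ℝ) - 1 := by
    set m' : IrrCharacter G := M i (conjFun (φ₁ i)) with hm'def
    have hmE : m ∈ E i := hEmem.2 ⟨_, hφ₁ i, hmval⟩
    have hm'E : m' ∈ E i := hEmem.2 ⟨_, hφc, hM i _ hφc⟩
    have hmm' : m ≠ m' := fun hh => hSne i _ (hφ₁ i) (hMinj i hφc (hφ₁ i) hh.symm)
    have hge1 : 1 ≤ z m ^ 2 + z m' ^ 2 := by
      by_contra hlt
      have hm0 : z m = 0 := by nlinarith [sq_nonneg (z m), sq_nonneg (z m')]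
      have hm0' : z m' = 0 := by nlinarith [sq_nonneg (z m), sq_nonneg (z m')]
      have h1 := hβτ _ (hd2 i _ (hφ₁ i))
      rw [hα₀d, Coherence.iso_map_sub (hτ₁ i) (Coherence.zspan_subset (hmemS.1 (hφ₁ i)))
        (Coherence.zspan_subset (hmemS.1 hφc))
        (Coherence.zspan_neg (Coherence.zspan_subset (hmemS.1 hφc))), hτμ, hτμ,
        Coherence.inner_sub_right, Coherence.inner_smul_right, Coherence.inner_smul_right,
        ← hM i _ (hφ₁ i), ← hM i _ hφc, hzc, hzc, ← hmdef, ← hm'def, hm0, hm0'] at h1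
      simp at h1
    set U := B.biUnion E with hUdef
    have hnotU : ∀ χ ∈ E i, χ ∉ U := by
      intro χ h1 h2
      obtain ⟨j, hj, hjm⟩ := Finset.mem_biUnion.1 h2
      exact Finset.disjoint_left.1 (hEdisj i j (Ne.symm (Finset.mem_filter.1 hj).2.1)) h1 hjm
    have honeU : one ∉ U := fun h2 => by
      obtain ⟨j, -, hjm⟩ := Finset.mem_biUnion.1 h2
      exact hone_notMem j hjm
    have hz1 : z one = 1 := by
      have := hzc one
      rw [hβone] at this
      exact_mod_cast this.symm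
    have h2 : ∑ χ ∈ insert one (insert m (insert m' U)), z χ ^ 2 ≤ (e : ℤ) + 1 := by
      rw [← hnormz]
      exact Finset.sum_le_sum_of_subset_of_nonneg (Finset.subset_univ _) fun χ _ _ => sq_nonneg _
    have hom : one ≠ m := fun hh => hone_notMem i (hh ▸ hmE)
    have hom' : one ≠ m' := fun hh => hone_notMem i (hh ▸ hm'E)
    rw [Finset.sum_insert (by simp [hom, hom', honeU]),
      Finset.sum_insert (by simp [hmm', hnotU m hmE]), Finset.sum_insert (hnotU m' hm'E), hz1,
      one_pow] at h2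
    have h3 : ∑ χ ∈ U, z χ ^ 2 ≤ (e : ℤ) - 1 := by linarith
    have h4 : ∑ χ ∈ U, (z χ : ℝ) ^ 2 ≤ (e : ℝ) - 1 := by exact_mod_cast h3
    refine le_trans (Finset.sum_le_sum hfamsum) ?_
    rwa [← Finset.sum_biUnion fun a _ b _ hab => hEdisj a b hab]
  have hwB : ∑ j ∈ B, w j ≤ ((e : ℝ) - 1) / (h + 2) := by
    rw [le_div_iff₀ (by positivity), Finset.sum_mul]
    refine le_trans (Finset.sum_le_sum fun j hj => ?_) hBsum
    have hjh : (h : ℝ) + 2 ≤ Nat.card (H j) := by
      exact_mod_cast hbig j (Finset.mem_filter.1 hj).2.1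
    simp only [hwdef]
    rw [← (K j).index_mul_card, hcardK j]
    push_cast
    have hi0 : (0 : ℝ) < (K j).index := by
      exact_mod_cast Nat.pos_of_ne_zero Subgroup.index_ne_zero_of_finite
    have hj0 : (0 : ℝ) < Nat.card (H j) := by exact_mod_cast Nat.card_pos
    have hj1 : (1 : ℝ) ≤ Nat.card (H j) := by exact_mod_cast Nat.card_pos
    rw [div_mul_eq_mul_div, div_le_div_iff₀ (by positivity) hi0]
    have h5 := mul_le_mul_of_nonneg_left hjh
      (mul_nonneg (by linarith : (0 : ℝ) ≤ (Nat.card (H j) : ℝ) - 1) hi0.le)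
    linarith
  have hwB' : ∑ j ∈ B', w j ≤ (e : ℝ) / h := by
    set T : ι → ℝ := fun j =>
      (Nat.card (L j) : ℝ)⁻¹ * ∑ x ∈ A j, Complex.normSq ((m : G → ℂ) x) with hTdef
    have hiB : i ∉ B' := fun hh => (Finset.mem_filter.1 hh).2.1 rfl
    have h1 : ∑ j ∈ insert i B', T j ≤ 1 := le_trans
      (Finset.sum_le_sum_of_subset_of_nonneg (Finset.subset_univ _) fun j _ _ =>
        mul_nonneg (by positivity) (Finset.sum_nonneg fun x _ => Complex.normSq_nonneg _)) hnorm
    rw [Finset.sum_insert hiB] at h1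
    have h2 : ∑ j ∈ B', w j ≤ ∑ j ∈ B', T j := by
      refine Finset.sum_le_sum fun j hj => ?_
      obtain ⟨-, hji, hb⟩ := Finset.mem_filter.1 hj
      rw [not_not] at hb
      simp only [hTdef, hwdef]
      rw [div_eq_inv_mul, ← hAcard j]
      refine mul_le_mul_of_nonneg_left ?_ (by positivity)
      rw [← nsmul_one, ← Finset.sum_const]
      refine Finset.sum_le_sum fun x hx => ?_
      obtain ⟨-, hxH, hx1⟩ := Finset.mem_filter.1 hx
      obtain ⟨c, hc0, hc⟩ := hnonzero j hji hb x hxH hx1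
      rw [hc, ← Complex.ofReal_intCast, Complex.normSq_ofReal]
      have : 1 ≤ c * c := by nlinarith [mul_self_pos.2 hc0]
      exact_mod_cast this
    have h3 : 1 - (e : ℝ) / h ≤ T i := hterm
    linarith
  have hwsum : ∑ j, w j = w i + (∑ j ∈ B, w j + ∑ j ∈ B', w j) := by
    rw [← Finset.add_sum_erase _ _ (Finset.mem_univ i),
      ← Finset.sum_filter_add_sum_filter_not (Finset.univ.erase i)
        (fun j => z (M j (φ₁ j)) ≠ 0)]
    congr 2 <;> congr 1 <;> ext j <;> simp [hBdef, hB'def]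
  have hwi : w i = (n : ℝ) / h := by
    simp only [hwdef, ← hhdef]
    rw [hL, hh]
    field_simp
    ring
  refine no_solution (g := (Nat.card G : ℝ)) (by exact_mod_cast hn2) hepos hh
    (by exact_mod_cast hG) hw1 ?_
  rw [hwsum, hwi]
  linarith

end Cfsg.Agent.S1526
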