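import Cfsg.Statements.S0001
import Cfsg.Agent.Lib.Coprime.Action

set_option autoImplicit false
open Pointwise
open Cfsg

namespace Cfsg.Agent.S0001

/-- Conjugacy half of the Schur–Zassenhaus Theorem, under a solvability assumption on the normal Hall subgroup or on its quotient. -/
theorem result {G : Type*} [Group G] [Finite G] (N : Subgroup G) [N.Normal]
    (hN : (Nat.card N).Coprime N.index) (hsolv : Group.IsSolvable N ∨ Group.IsSolvable (G ⧸ N))
    (H K : Subgroup G) (hH : Subgroup.IsComplement' N H) (hK : Subgroup.IsComplement' N K) :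
    ∃ g : G, MulAut.conj g • H = K := by
  have hc : ∀ L : Subgroup G, Subgroup.IsComplement' N L → (Nat.card L).Coprime (Nat.card N) :=
    fun L hL => by rw [← hL.symm.index_eq_card]; exact hN.symm
  have hs : Group.IsSolvable H ∨ Group.IsSolvable N := by
    refine hsolv.symm.imp_left fun (h : Group.IsSolvable (G ⧸ N)) => ?_
    haveI := h
    refine Group.isSolvable_of_isSolvable_injective (f := (QuotientGroup.mk' N).comp H.subtype) ?_
    refine (injective_iff_map_eq_one _).mpr fun x hx => Subtype.ext ?_
    exact Coprime.inf_eq_bot_of_coprime' (hc H hH) x.2 ((QuotientGroup.eq_one_iff _).mp hx)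
  obtain ⟨n, hn, h⟩ := Coprime.exists_conj_le N H K Subgroup.le_normalizer_of_normal
    Subgroup.le_normalizer_of_normal (by rw [hK.sup_eq_top]; exact le_top) (hc H hH) (hc K hK) hs
  refine ⟨n, Subgroup.eq_of_le_of_card_ge ?_ ?_⟩
  · rintro _ ⟨x, hx, rfl⟩
    exact h x hx
  · rw [← hK.symm.index_eq_card, hH.symm.index_eq_card]
    exact le_of_eq (Nat.card_congr (Subgroup.equivSMul (MulAut.conj n) H).toEquiv)

end Cfsg.Agent.S0001
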