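import Cfsg.Statements.S0850
import Cfsg.Agent.CharDeep.IndBasic

set_option autoImplicit false
open Cfsg

namespace Cfsg.Agent.S0850

/-- Let K be a subgroup of the finite group G that meets each conjugate by an element outside its normalizer N trivially, is properly contained in N, and contains the centralizer of each of its non-identity elements (a T.I. subgroup with Frobenius normalizer). Then no element of N outside K is conjugate in G to an element of K, and for every class function ϑ of N that vanishes on N away from K and at the identity, the function induced from ϑ to G agrees with ϑ on all of N. -/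
theorem result {G : Type*} [Group G] [Fintype G] (K : Subgroup G) (hTI : ∀ g : G, g ∉ Subgroup.normalizer (K : Set G) → ∀ k ∈ K, g * k * g⁻¹ ∈ K → k = 1) (hlt : K < Subgroup.normalizer (K : Set G)) (hC : ∀ k ∈ K, k ≠ 1 → Subgroup.centralizer ({k} : Set G) ≤ K) : (∀ x ∈ Subgroup.normalizer (K : Set G), x ∉ K → ∀ g : G, g * x * g⁻¹ ∉ K) ∧ ∀ (ϑ : Subgroup.normalizer (K : Set G) → ℂ), Cfsg.IsClassFunction (Subgroup.normalizer (K : Set G)) ϑ → (∀ x : Subgroup.normalizer (K : Set G), (x : G) ∉ K → ϑ x = 0) → ϑ 1 = 0 → ∀ x : Subgroup.normalizer (K : Set G), Cfsg.indFun (Subgroup.normalizer (K : Set G)) ϑ x = ϑ x := by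
  classical
  set N := Subgroup.normalizer (K : Set G) with hN
  have hKN : K ≤ N := Subgroup.le_normalizer
  haveI : (K.subgroupOf N).Normal := Subgroup.normal_in_normalizer
  have hcop : Nat.Coprime (Nat.card K) (K.subgroupOf N).index := by
    refine Nat.coprime_of_dvd fun p hp hpK hpi => ?_
    haveI := Fact.mk hp
    obtain ⟨P⟩ := (Sylow.nonempty : Nonempty (Sylow p N))
    have hcardK : Nat.card (K.subgroupOf N) = Nat.card K :=
      Nat.card_congr (Subgroup.subgroupOfEquivOfLe hKN).toEquiv
    letI : MulAction (P : Subgroup N) (K.subgroupOf N) :=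
      MulAction.compHom (K.subgroupOf N)
        ((MulAut.conjNormal (H := K.subgroupOf N)).comp (P : Subgroup N).subtype)
    have hone : (1 : K.subgroupOf N) ∈ MulAction.fixedPoints (P : Subgroup N) (K.subgroupOf N) :=
      fun a => map_one (MulAut.conjNormal (H := K.subgroupOf N) (a : N))
    obtain ⟨z, hz, hne⟩ := P.isPGroup'.exists_fixed_point_of_prime_dvd_card_of_fixed_point
      (K.subgroupOf N) (hcardK ▸ hpK) hone
    have hle : (P : Subgroup N) ≤ K.subgroupOf N := by
      intro a ha
      have h := congrArg Subtype.val (hz ⟨a, ha⟩)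
      change ((MulAut.conjNormal (H := K.subgroupOf N) a) z : N) = (z : N) at h
      rw [MulAut.conjNormal_apply, mul_inv_eq_iff_eq_mul] at h
      refine Subgroup.mem_subgroupOf.mpr (hC ((z : N) : G) (Subgroup.mem_subgroupOf.mp z.2) ?_ ?_)
      · intro hz1
        exact hne (Subtype.ext (Subtype.ext hz1)).symm
      · rw [Subgroup.mem_centralizer_singleton_iff]
        exact congrArg Subtype.val h
    exact P.not_dvd_index (hpi.trans (Subgroup.index_dvd_of_le hle))
  have key : ∀ x ∈ N, x ∉ K → ∀ g : G, g * x * g⁻¹ ∉ K := by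
    intro x hx hxK g hg
    apply hxK
    have h1 : orderOf x ∣ Nat.card K := by
      rw [← (MulAut.conj g).orderOf_eq x]
      exact Subgroup.orderOf_dvd_natCard _ hg
    have h2 : orderOf ((⟨x, hx⟩ : N) : N ⧸ K.subgroupOf N) ∣ 1 := by
      rw [← hcop.gcd_eq_one]
      refine Nat.dvd_gcd ((orderOf_map_dvd (QuotientGroup.mk' _) _).trans ?_) ?_
      · rw [Subgroup.orderOf_mk]; exact h1
      · exact orderOf_dvd_natCard _
    rw [Nat.dvd_one, orderOf_eq_one_iff, QuotientGroup.eq_one_iff] at h2
    exact h2
  refine ⟨key, ?_⟩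
  intro ϑ hcf hoff h1 x
  have hterm : ∀ y : G, Cfsg.extendByZero N ϑ (y⁻¹ * (x : G) * y) = if y ∈ N then ϑ x else 0 := by
    intro y
    split_ifs with hy
    · have hm : y⁻¹ * (x : G) * y ∈ N := N.mul_mem (N.mul_mem (N.inv_mem hy) x.2) hy
      rw [CharDeep.extend_mem _ _ hm]
      have := hcf x (⟨y, hy⟩ : N)⁻¹
      rw [← this]
      exact congrArg ϑ (Subtype.ext (by simp))
    · by_cases hm : y⁻¹ * (x : G) * y ∈ N
      · rw [CharDeep.extend_mem _ _ hm]
        by_cases hk : y⁻¹ * (x : G) * y ∈ K
        · have hxK : (x : G) ∈ K := by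
            by_contra hxK
            exact key x x.2 hxK y⁻¹ (by rwa [inv_inv])
          have hyi : y⁻¹ ∉ N := fun h => hy (by simpa using N.inv_mem h)
          have hx1 := hTI y⁻¹ hyi x hxK (by rwa [inv_inv])
          have : (⟨y⁻¹ * (x : G) * y, hm⟩ : N) = 1 := Subtype.ext (by simp [hx1])
          rw [this, h1]
        · exact hoff _ hk
      · exact CharDeep.extend_not_mem _ _ hm
  have hcard : (Finset.univ.filter (· ∈ N)).card = Nat.card N := by
    rw [Nat.card_eq_fintype_card, ← Fintype.card_subtype]
  unfold Cfsg.indFun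
  rw [Finset.sum_congr rfl (fun y _ => hterm y), ← Finset.sum_filter, Finset.sum_const,
    hcard, nsmul_eq_mul, inv_mul_cancel_left₀ CharDeep.natCard_ne_zero]

end Cfsg.Agent.S0850
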