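import Cfsg.Statements.S2371
import Cfsg.Agent.ChevTori.Arith
import Cfsg.Agent.ChevFixed.G2
import Cfsg.Agent.ChevGroup.Mat.OrderG2
import Cfsg.Agent.WeylGroup.G2

set_option autoImplicit false
open Cfsg

namespace Cfsg.Agent.S2371

open Cfsg.Agent.ChevGroup Cfsg.Agent.ChevGroup.TypeG2

set_option maxRecDepth 20000 in
/-- The group G₂(q), q ≥ 3, contains a cyclic subgroup of order q² + q + 1 which is its own centralizer. -/
theorem result {F : Type*} [Field F] [Fintype F] (q : ℕ) (hF : Fintype.card F = q) (hq : 3 ≤ q) :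
    ∃ H : Subgroup ↥(Cfsg.Lie.chevG2.group F), IsCyclic ↥H ∧ Nat.card ↥H = q ^ 2 + q + 1 ∧
      Subgroup.centralizer (H : Set ↥(Cfsg.Lie.chevG2.group F)) = H := by
  obtain ⟨r, hr, hrq, hlt, hdvd, hdvd1⟩ := ChevTori.exists_prime (q := q) (h := 3) (by omega) (by norm_num) (by norm_num)
  haveI := Fact.mk hr
  have hr6 : 6 < r := by
    by_contra h
    interval_cases r <;> first | omega | norm_num at hr
  have hC : ChevCore.CommGood Cfsg.Lie.chevG2 := ChevCore.uGoodG2.toCommGood
  have hA := torusFacts_of_good hC.toGood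
  obtain ⟨C, h1, h2, h3⟩ := ChevTori.exists_cyclic_self_centralizing model ChevCore.uGoodG2 wit_ok
    longest_ok pos_span (F₀ := F) (q := q) (h := 3) (r := r) hF (by norm_num) (by decide) hrq
    (fun h => by
      have h1 : r ∣ 12 := WeylGroup.card_g2 ▸
        h.trans (ChevTori.weyl_card_dvd model (Mx := CoxeterMatrix.G₂) (by decide +kernel))
      have := Nat.le_of_dvd (by norm_num) h1
      interval_cases r <;> first | omega | norm_num at hr)
    (by
      rw [card_group hA (relsOfCommGood hC F) hF]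
      have : q ^ 3 - 1 ∣ q ^ 6 - 1 := Nat.pow_sub_one_dvd_pow_sub_one q (by norm_num)
      exact dvd_mul_of_dvd_right (hdvd.trans this) _)
    (fun K _ _ hK => by
      refine ChevTori.index_of_degrees (ChevTori.cast_pow_eq_one hrq) (Nat.one_le_pow _ _ (by omega))
        (a := 6) [2, 6] (l := 2) rfl ?_ (hK ▸ ChevFixed.TypeG2.card_torus hA (relsOfCommGood hC K)) ?_
      · intro d hd
        simp only [List.mem_cons, List.not_mem_nil, or_false] at hd
        rcases hd with rfl | rfl <;> exact Nat.not_dvd_of_pos_of_lt (by norm_num) (by omega)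
      · rw [card_group hA (relsOfCommGood hC K) hK]
        simp [List.prod_cons, mul_assoc])
    (fun K _ _ => ChevFixed.TypeG2.card_torus hA (relsOfCommGood hC K))
  exact ⟨C, h1, h2.trans (ChevTori.Phi_three q), h3⟩

end Cfsg.Agent.S2371
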