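import Cfsg.Statements.S5979
import Cfsg.Agent.ClMax99.TensorRank
import Cfsg.Agent.ClMax99.SympConj
import Cfsg.Agent.Lib.UnitaryOrthogonal.Basic

set_option autoImplicit false
open scoped MatrixGroups
open Cfsg

namespace Cfsg.Agent.S5979

set_option linter.unusedSectionVars false
open Cfsg.Agent.ClMax99 Module
open scoped Matrix Kronecker

variable {F : Type*} [Field F] [Fintype F]

/-- An element of the special linear group from a matrix of determinant one. -/
theorem exists_sl {n : ℕ} (A : Matrix (Fin n) (Fin n) F) (hA : A.det = 1) :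
    ∃ X : GL (Fin n) F, (X : Matrix (Fin n) (Fin n) F) = A ∧ X ∈ Cfsg.Geo.specialLinear (Fin n) F :=
  ⟨Matrix.GeneralLinearGroup.mk'' A (by rw [hA]; exact isUnit_one), rfl, Units.ext hA⟩

theorem kron_pow {a b : ℕ} (g : Matrix (Fin a) (Fin a) F) (h : Matrix (Fin b) (Fin b) F) (k : ℕ) :
    (g ⊗ₖ h) ^ k = (g ^ k) ⊗ₖ (h ^ k) := by
  induction k with
  | zero => simp
  | succ k ih => rw [pow_succ, ih, pow_succ, pow_succ, ← Matrix.mul_kronecker_mul]

theorem scalar_of_kron_eq_one {a b : ℕ} (hb : 0 < b) {A : Matrix (Fin a) (Fin a) F} {B : Matrix (Fin b) (Fin b) F}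
    (h : A ⊗ₖ B = 1) : ∃ s : F, A = s • 1 := by
  let l : Fin b := ⟨0, hb⟩
  refine ⟨(B l l)⁻¹, Matrix.ext fun i j => ?_⟩
  have hii := congrFun (congrFun h (i, l)) (i, l)
  have hij := congrFun (congrFun h (i, l)) (j, l)
  simp only [Matrix.kroneckerMap_apply, Matrix.one_apply, if_true, Prod.mk.injEq, and_true] at hii hij
  have hB : B l l ≠ 0 := fun e => by simp [e] at hii
  rw [Matrix.smul_apply, Matrix.one_apply, smul_eq_mul]
  split_ifs at hij ⊢ with h'
  · rw [mul_one]; exact eq_inv_of_mul_eq_one_left hij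
  · rw [mul_zero]; exact (mul_eq_zero.1 hij).resolve_right hB

/-- A transvection has displacement of rank one. -/
theorem rank_transvection {n : ℕ} {i j : Fin n} (hij : i ≠ j) :
    (Matrix.transvection i j (1 : F) - (1 : F) • 1).rank = 1 := by
  have e : Matrix.transvection i j (1 : F) - (1 : F) • 1 = Matrix.single i j 1 := by
    simp [Matrix.transvection]
  rw [e, TensorRank.rank_eq]
  have : LinearMap.range (Matrix.toLin' (Matrix.single i j (1 : F))) = Submodule.span F {(Pi.single i 1 : Fin n → F)} := by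
    refine le_antisymm ?_ ((Submodule.span_singleton_le_iff_mem _ _).2 ⟨Pi.single j 1, ?_⟩)
    · rintro _ ⟨v, rfl⟩
      refine Submodule.mem_span_singleton.2 ⟨v j, funext fun k => ?_⟩
      by_cases hk : k = i
      · subst hk; simp [Matrix.toLin'_apply, Matrix.mulVec, dotProduct, Matrix.single_apply, Finset.sum_ite_eq, Pi.single_apply]
      · simp [Matrix.toLin'_apply, Matrix.mulVec, dotProduct, Matrix.single_apply, Ne.symm hk, hk, Pi.single_apply]
    · funext k
      by_cases hk : k = i
      · subst hk; simp [Matrix.toLin'_apply, Matrix.mulVec, dotProduct, Matrix.single_apply, Finset.sum_ite_eq, Pi.single_apply]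
      · simp [Matrix.toLin'_apply, Matrix.mulVec, dotProduct, Matrix.single_apply, Ne.symm hk, hk, Pi.single_apply]
  rw [this, finrank_span_singleton (by simp)]

theorem rank_diag {n : ℕ} [DecidableEq F] (w : Fin n → F) (c : F) :
    (Matrix.diagonal w - c • 1).rank = (Finset.univ.filter fun i => w i ≠ c).card := by
  rw [show Matrix.diagonal w - c • (1 : Matrix (Fin n) (Fin n) F) = Matrix.diagonal (fun i => w i - c) by
    ext i j; by_cases h : i = j <;> simp [h, Matrix.one_apply], Matrix.rank_diagonal, Fintype.card_subtype]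
  simp [sub_ne_zero]

/-- An element of `SL` with a block for a root of order `r` lies in no tensor stabiliser. -/
theorem not_mem_block {n a b r : ℕ} [Fact r.Prime] (ha : 2 ≤ a) (hab : a < b) (hrF : (r : F) ≠ 0)
    (h1 : ¬ r ∣ Fintype.card F - 1) {e : Fin n ≃ Fin a × Fin b} {P : GL (Fin n) F} {Y : GL (Fin n) F}
    (hY : (Y : Matrix (Fin n) (Fin n) F) ^ r = 1)
    (hk : ((Y : Matrix (Fin n) (Fin n) F) - (1 : F) • 1).rank = orderOf (Fintype.card F : ZMod r))
    (hpos : 0 < orderOf (Fintype.card F : ZMod r)) : Y ∉ Cfsg.Geo.tensorProductSubgroup a b e P := fun hm => by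
  obtain ⟨g, h, hr, hp⟩ := TensorRank.cases_of_mem hm
  set i := orderOf (Fintype.card F : ZMod r)
  have hgh := hp r 1 (by rw [hY, one_smul])
  rw [one_smul, kron_pow] at hgh
  by_cases hg : ∃ s : F, (g : Matrix (Fin a) (Fin a) F) = s • 1
  · obtain ⟨s, hs⟩ := hg
    set N := s • (h : Matrix (Fin b) (Fin b) F)
    have hN : ∀ c : F, ((g : Matrix (Fin a) (Fin a) F) ⊗ₖ (h : Matrix (Fin b) (Fin b) F) - c • 1).rank = a * (N - c • 1).rank := by
      intro c
      rw [hs, Matrix.smul_kronecker, ← Matrix.kronecker_smul, ← Matrix.one_kronecker_one (m := Fin a) (n := Fin b),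
        ← Matrix.kronecker_smul, ← TensorRank.rank_one_kronecker]
      congr 1
      ext p p'; simp [N, mul_sub]
    have hNr : (Matrix.toLin' N) ^ r = 1 := by
      rw [← Matrix.toLin'_pow, Module.End.one_eq_id, ← Matrix.toLin'_one]
      congr 1
      rw [smul_pow]
      have h0 := hgh
      rw [hs, smul_pow, one_pow, Matrix.smul_kronecker, ← Matrix.kronecker_smul] at h0
      ext l l'
      have := congrFun (congrFun h0 (⟨0, by omega⟩, l)) (⟨0, by omega⟩, l')
      simpa [Matrix.kroneckerMap_apply, Matrix.one_apply, Matrix.smul_apply] using this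
    obtain ⟨k, hk'⟩ := Inv.dvd_finrank_moved (f := Matrix.toLin' N) hrF hNr (W := ⊤) (by simp)
    rw [Submodule.map_top] at hk'
    have e1 : (N - (1 : F) • 1).rank = i * k := by
      rw [TensorRank.rank_eq, ← hk', one_smul, map_sub, Matrix.toLin'_one]; rfl
    have := hr 1
    rw [hk, hN, e1] at this
    rcases Nat.eq_zero_or_pos k with rfl | hk0
    · simp at this; omega
    · have : a * (i * k) ≥ 2 * i := Nat.mul_le_mul ha (Nat.le_mul_of_pos_right _ hk0)
      omega
  · push Not at hg
    have hb := TensorRank.le_rank_of_nonscalar hg h 1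
    rw [← hr, hk] at hb
    obtain ⟨s, hs⟩ := scalar_of_kron_eq_one (by omega) hgh
    obtain ⟨w, hw⟩ := Inv.exists_root_of_not_dvd h1 (z := s)
    have hw0 : w ≠ 0 := fun e => by
      rw [e, zero_pow (Fact.out : r.Prime).ne_zero] at hw
      rw [← hw, zero_smul, ← Units.val_pow_eq_pow_val] at hs
      haveI : Nonempty (Fin a) := ⟨⟨0, by omega⟩⟩
      exact Units.ne_zero _ hs
    have hfr : (w⁻¹ • Matrix.toLin' (g : Matrix (Fin a) (Fin a) F)) ^ r = 1 :=
      Inv.smul_pow_eq_one hw0 (by rw [hw]; exact Inv.toLin_pow _ hs)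
    obtain ⟨k, hk'⟩ := Inv.dvd_finrank_moved hrF hfr (W := ⊤) (by simp)
    rw [Submodule.map_top] at hk'
    have hle := Submodule.finrank_le (LinearMap.range (w⁻¹ • Matrix.toLin' (g : Matrix (Fin a) (Fin a) F) - 1))
    rw [Module.finrank_fin_fun, hk'] at hle
    rcases Nat.eq_zero_or_pos k with rfl | hk0
    · rw [mul_zero, Submodule.finrank_eq_zero, LinearMap.range_eq_bot, sub_eq_zero] at hk'
      refine hg w (Matrix.toLin'.injective ?_)
      rw [map_smul, Matrix.toLin'_one, ← smul_inv_smul₀ hw0 (Matrix.toLin' (g : Matrix (Fin a) (Fin a) F)), hk']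
      rfl
    · change i * k ≤ a at hle
      have : i ≤ i * k := Nat.le_mul_of_pos_right _ hk0
      omega

/-- A basis of `2 b` vectors adapted to a square root of a scalar. -/
theorem exists_pairs {n : ℕ} (T : Module.End F (Fin n → F)) {z : F} (hz : ∀ w : F, w * w ≠ z)
    (hT : ∀ v, T (T v) = z • v) :
    ∃ (k : ℕ) (f : Fin k → Fin n → F), 2 * k = n ∧
      ⊤ ≤ Submodule.span F (Set.range fun p : Fin 2 × Fin k => if p.1 = 0 then f p.2 else T (f p.2)) := by
  classical
  suffices H : ∀ m : ℕ, ∃ (k : ℕ) (f : Fin k → Fin n → F), 2 * k = finrank F (Submodule.span F (Set.range fun p : Fin 2 × Fin k => if p.1 = 0 then f p.2 else T (f p.2))) ∧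
      (m ≤ k ∨ ⊤ ≤ Submodule.span F (Set.range fun p : Fin 2 × Fin k => if p.1 = 0 then f p.2 else T (f p.2))) by
    obtain ⟨k, f, hk, h⟩ := H (n + 1)
    have hle := Submodule.finrank_le (Submodule.span F (Set.range fun p : Fin 2 × Fin k => if p.1 = 0 then f p.2 else T (f p.2)))
    rw [Module.finrank_fin_fun] at hle
    rcases h with h | h
    · omega
    · refine ⟨k, f, ?_, h⟩
      rw [top_le_iff] at h
      rw [hk, h, finrank_top, Module.finrank_fin_fun]
  intro m
  induction m with
  | zero =>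
    refine ⟨0, Fin.elim0, ?_, Or.inl le_rfl⟩
    rw [Set.range_eq_empty, Submodule.span_empty, finrank_bot]
  | succ m ih =>
    obtain ⟨k, f, hk, h⟩ := ih
    set S := Submodule.span F (Set.range fun p : Fin 2 × Fin k => if p.1 = 0 then f p.2 else T (f p.2))
    by_cases htop : ⊤ ≤ S
    · exact ⟨k, f, hk, Or.inr htop⟩
    have hm := h.resolve_right htop
    obtain ⟨v, -, hv⟩ := SetLike.not_le_iff_exists.1 htop
    have hTS : ∀ w ∈ S, T w ∈ S := by
      intro w hw
      induction hw using Submodule.span_induction with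
      | mem x hx =>
        obtain ⟨⟨i, j⟩, rfl⟩ := hx
        fin_cases i
        · exact Submodule.subset_span ⟨(1, j), by simp⟩
        · simp only [Fin.mk_one, one_ne_zero, if_false, hT]
          exact S.smul_mem _ (Submodule.subset_span ⟨(0, j), by simp⟩)
      | zero => rw [map_zero]; exact S.zero_mem
      | add x y _ _ hx hy => rw [map_add]; exact S.add_mem hx hy
      | smul c x _ hx => rw [map_smul]; exact S.smul_mem _ hx
    have hdis : ∀ a c : F, a • v + c • T v ∈ S → a = 0 ∧ c = 0 := by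
      intro a c hac
      have h1 := hTS _ hac
      rw [map_add, map_smul, map_smul, hT, smul_smul] at h1
      have h2 : (a * a - c * (c * z)) • v ∈ S := by
        have := S.sub_mem (S.smul_mem a hac) (S.smul_mem c h1)
        convert this using 1
        module
      have h3 : a * a - c * (c * z) = 0 := by
        by_contra hne
        exact hv ((S.smul_mem_iff hne).1 h2)
      by_cases hc : c = 0
      · subst hc; exact ⟨by simpa using h3, rfl⟩
      · exfalso; exact hz (a / c) (by field_simp; linear_combination h3)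
    refine ⟨k + 1, Fin.cons v f, ?_, Or.inl (by omega)⟩
    set L := Submodule.span F (Set.range ![v, T v])
    have hLi : LinearIndependent F ![v, T v] := LinearIndependent.pair_iff.2 fun a c e =>
      hdis a c (by rw [e]; exact S.zero_mem)
    have hLd : finrank F L = 2 := by rw [finrank_span_eq_card hLi, Fintype.card_fin]
    have hinf : S ⊓ L = ⊥ := (Submodule.eq_bot_iff _).2 fun w hw => by
      obtain ⟨hwS, hwL⟩ := Submodule.mem_inf.1 hw
      obtain ⟨c, rfl⟩ := (Submodule.mem_span_range_iff_exists_fun F).1 hwL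
      simp only [Fin.sum_univ_two, Matrix.cons_val_zero, Matrix.cons_val_one] at hwS ⊢
      obtain ⟨e0, e1⟩ := hdis _ _ hwS
      rw [e0, e1, zero_smul, zero_smul, add_zero]
    have hdim := Submodule.finrank_sup_add_finrank_inf_eq S L
    rw [hinf, finrank_bot, hLd, ← hk] at hdim
    suffices hSL : Submodule.span F (Set.range fun p : Fin 2 × Fin (k + 1) =>
        if p.1 = 0 then (Fin.cons v f : Fin (k + 1) → Fin n → F) p.2 else T ((Fin.cons v f : Fin (k + 1) → Fin n → F) p.2)) = S ⊔ L by
      rw [hSL]; omega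
    refine le_antisymm (Submodule.span_le.2 ?_) (sup_le (Submodule.span_le.2 ?_) (Submodule.span_le.2 ?_))
    · rintro _ ⟨⟨i, j⟩, rfl⟩
      refine Fin.cases ?_ (fun j => ?_) j
      · refine Submodule.mem_sup_right ?_
        fin_cases i
        · exact Submodule.subset_span ⟨0, by simp⟩
        · exact Submodule.subset_span ⟨1, by simp⟩
      · exact Submodule.mem_sup_left (Submodule.subset_span ⟨(i, j), by simp⟩)
    · rintro _ ⟨⟨i, j⟩, rfl⟩
      exact Submodule.subset_span ⟨(i, j.succ), by simp⟩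
    · rintro _ ⟨i, rfl⟩
      fin_cases i
      · exact Submodule.subset_span ⟨(0, 0), by simp⟩
      · exact Submodule.subset_span ⟨(1, 0), by simp⟩

theorem exists_neg_one_pow {n : ℕ} (hn : 0 < n) (hodd : Odd (Fintype.card F))
    (h : padicValNat 2 n < padicValNat 2 (Fintype.card F - 1)) : ∃ c : F, c ^ n = -1 := by
  have hq : 1 < Fintype.card F := Fintype.one_lt_card
  obtain ⟨g, hg⟩ := IsCyclic.exists_generator (α := Fˣ)
  have ho : orderOf g = Fintype.card F - 1 := by
    rw [orderOf_eq_card_of_forall_mem_zpowers hg, Nat.card_units, Nat.card_eq_fintype_card]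
  obtain ⟨u, hu⟩ : 2 ^ padicValNat 2 n ∣ n := pow_padicValNat_dvd
  have hu_odd : Odd u := by
    rw [← Nat.not_even_iff_odd]
    rintro ⟨w, rfl⟩
    have h1 : 2 ^ (padicValNat 2 n + 1) ∣ n := ⟨w, hu.trans (by ring)⟩
    have := (padicValNat_dvd_iff_le hn.ne').1 h1
    omega
  obtain ⟨t, ht⟩ : 2 ^ (padicValNat 2 n + 1) ∣ Fintype.card F - 1 := (padicValNat_dvd_iff_le (by omega)).2 h
  refine ⟨((g ^ t : Fˣ) : F), ?_⟩
  rw [← Units.val_pow_eq_pow_val, ← pow_mul, hu, ← mul_assoc, pow_mul, Units.val_pow_eq_pow_val]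
  have hsq : ((g ^ (t * 2 ^ padicValNat 2 n) : Fˣ) : F) * ((g ^ (t * 2 ^ padicValNat 2 n) : Fˣ) : F) = 1 := by
    rw [← Units.val_mul, ← pow_add, show t * 2 ^ padicValNat 2 n + t * 2 ^ padicValNat 2 n = Fintype.card F - 1 by
      rw [ht]; ring, ← ho, pow_orderOf_eq_one, Units.val_one]
  rcases mul_self_eq_one_iff.1 hsq with h' | h'
  · exfalso
    rw [Units.val_eq_one, ← orderOf_dvd_iff_pow_eq_one, ho] at h'
    have ht0 : 0 < t := Nat.pos_of_ne_zero fun e => by rw [e, mul_zero] at ht; omega
    have := Nat.le_of_dvd (Nat.mul_pos ht0 (Nat.two_pow_pos _)) h'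
    rw [ht, pow_succ] at this
    have : 0 < t * 2 ^ padicValNat 2 n := Nat.mul_pos ht0 (Nat.two_pow_pos _)
    nlinarith
  · rw [h', hu_odd.neg_one_pow]

theorem not_neg_one_pow {n : ℕ} (hn : 0 < n) (hodd : Odd (Fintype.card F))
    (h : padicValNat 2 (Fintype.card F - 1) ≤ padicValNat 2 n) {c : F} (hc0 : c ≠ 0) : c ^ n ≠ -1 := by
  intro hc
  have hq : 1 < Fintype.card F := Fintype.one_lt_card
  obtain ⟨t, ht⟩ : 2 ^ padicValNat 2 (Fintype.card F - 1) ∣ Fintype.card F - 1 := pow_padicValNat_dvd
  have hto : Odd t := by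
    rw [← Nat.not_even_iff_odd]
    rintro ⟨w, rfl⟩
    have h1 : 2 ^ (padicValNat 2 (Fintype.card F - 1) + 1) ∣ Fintype.card F - 1 := ⟨w, ht.trans (by ring)⟩
    have := (padicValNat_dvd_iff_le (p := 2) (by omega)).1 h1
    omega
  obtain ⟨u, hu⟩ : 2 ^ padicValNat 2 (Fintype.card F - 1) ∣ n := (padicValNat_dvd_iff_le hn.ne').2 h
  have h1 : c ^ (n * t) = 1 := by
    rw [hu, mul_comm (2 ^ _) u, mul_assoc, ← ht, mul_comm, pow_mul, FiniteField.pow_card_sub_one_eq_one c hc0, one_pow]
  rw [pow_mul, hc, hto.neg_one_pow] at h1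
  have h2 : ((2 : ℕ) : F) = 0 := by push_cast; linear_combination -h1
  obtain ⟨p, hp⟩ := CharP.exists F
  haveI := Fact.mk (CharP.char_is_prime F p)
  have hp2 := (Nat.prime_dvd_prime_iff_eq (Fact.out : p.Prime) Nat.prime_two).1 ((CharP.cast_eq_zero_iff F p 2).1 h2)
  subst hp2
  have := FiniteField.even_card_of_char_two (F := F) (ringChar.eq F 2)
  exact Nat.not_odd_iff_even.2 (Nat.even_iff.2 this) hodd

/-- Adjusting the determinant. -/
theorem exists_conj_of_blocks {n b : ℕ} (hb : 0 < b) (e : Fin n ≃ Fin 2 × Fin b) (P : GL (Fin n) F)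
    {x : GL (Fin n) F} (K : Fin b → Matrix (Fin 2) (Fin 2) F) (v : Fin 2 × Fin b → Fin n → F)
    (hspan : ⊤ ≤ Submodule.span F (Set.range v))
    (hv : ∀ k l, (x : Matrix (Fin n) (Fin n) F) *ᵥ v (k, l) = ∑ k', K l k' k • v (k', l))
    (hcomm : ∀ d : F, d ≠ 0 → ∃ C : Matrix (Fin 2) (Fin 2) F, C.det = d ∧ C * K ⟨0, hb⟩ = K ⟨0, hb⟩ * C)
    (hK : ∃ (g : GL (Fin 2) F) (h : GL (Fin b) F),
      Matrix.blockDiagonal K = (g : Matrix (Fin 2) (Fin 2) F) ⊗ₖ (h : Matrix (Fin b) (Fin b) F)) :
    ∃ g ∈ Cfsg.Geo.specialLinear (Fin n) F, g⁻¹ * x * g ∈ Cfsg.Geo.tensorProductSubgroup 2 b e P := by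
  classical
  set P₀ : Matrix (Fin n) (Fin n) F := Matrix.of fun i j => v (e j) i with hP₀
  have hu : IsUnit P₀ := by
    rw [← Matrix.mulVec_surjective_iff_isUnit]
    intro y
    obtain ⟨c, hc⟩ := (Submodule.mem_span_range_iff_exists_fun F).1 (hspan (Submodule.mem_top : y ∈ ⊤))
    refine ⟨c ∘ e, ?_⟩
    funext i
    rw [← hc, Finset.sum_apply, Matrix.mulVec, dotProduct]
    exact Fintype.sum_equiv e _ _ fun j => by simp [hP₀, mul_comm]
  obtain ⟨U, hU⟩ := hu
  obtain ⟨g, h, hgh⟩ := hK
  obtain ⟨y, hy⟩ : ∃ y : GL (Fin 2 × Fin b) F, (y : Matrix (Fin 2 × Fin b) (Fin 2 × Fin b) F) = Matrix.blockDiagonal K :=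
    ⟨Matrix.GeneralLinearGroup.mk'' _ (by
      show IsUnit (Matrix.blockDiagonal K).det
      rw [hgh, Matrix.det_kronecker]
      exact IsUnit.mul (((Matrix.isUnit_iff_isUnit_det _).1 g.isUnit).pow _) (((Matrix.isUnit_iff_isUnit_det _).1 h.isUnit).pow _)), rfl⟩
  have hrel : (x : Matrix (Fin n) (Fin n) F) * P₀ = P₀ * Matrix.reindex e.symm e.symm (Matrix.blockDiagonal K) := by
    ext i j
    obtain ⟨⟨k, l⟩, rfl⟩ := e.symm.surjective j
    have := congrFun (hv k l) i
    simp only [Matrix.mulVec, dotProduct, Finset.sum_apply, Pi.smul_apply, smul_eq_mul] at this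
    rw [Matrix.mul_apply, Matrix.mul_apply]
    simp only [hP₀, Matrix.of_apply, Equiv.apply_symm_apply, this]
    rw [← Fintype.sum_equiv e.symm (fun q => v q i * Matrix.blockDiagonal K q (k, l)) _ (fun q => by simp), Fintype.sum_prod_type]
    refine Finset.sum_congr rfl fun k' _ => ?_
    rw [Fintype.sum_eq_single l fun l' hl' => by simp [Matrix.blockDiagonal_apply, hl']]
    simp [Matrix.blockDiagonal_apply, mul_comm]
  set P' := (P : Matrix (Fin n) (Fin n) F)
  have hd : P'.det * U.1.det⁻¹ ≠ 0 :=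
    mul_ne_zero ((Matrix.isUnit_iff_isUnit_det _).1 P.isUnit).ne_zero (inv_ne_zero ((Matrix.isUnit_iff_isUnit_det _).1 U.isUnit).ne_zero)
  obtain ⟨C, hCd, hC⟩ := hcomm _ hd
  set D := Matrix.blockDiagonal (Function.update (1 : Fin b → Matrix (Fin 2) (Fin 2) F) ⟨0, hb⟩ C) with hD
  have hDd : D.det = C.det := by
    rw [hD, Matrix.det_blockDiagonal, Fintype.prod_eq_single (⟨0, hb⟩ : Fin b) fun l hl => by simp [hl]]
    simp
  obtain ⟨Du, hDu⟩ : ∃ Du : GL (Fin 2 × Fin b) F, (Du : Matrix (Fin 2 × Fin b) (Fin 2 × Fin b) F) = D :=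
    ⟨Matrix.GeneralLinearGroup.mk'' D (by rw [hDd, hCd]; exact isUnit_iff_ne_zero.2 hd), rfl⟩
  have hDy : Commute Du y := Units.ext (by
    rw [Units.val_mul, Units.val_mul, hDu, hy, hD, ← Matrix.blockDiagonal_mul, ← Matrix.blockDiagonal_mul]
    congr 1
    funext l
    by_cases hl : l = ⟨0, hb⟩
    · subst hl; simpa using hC
    · simp [hl])
  set R := (Cfsg.Geo.glReindex (F := F) e.symm).toMonoidHom
  have hxU : U⁻¹ * x * U = R y := by
    rw [mul_assoc, inv_mul_eq_iff_eq_mul]
    refine Units.ext ?_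
    rw [Units.val_mul, Units.val_mul, hU, hrel, ← hy]
    rfl
  refine ⟨U * R Du * P⁻¹, Units.ext ?_, ?_⟩
  · show ((U * R Du * P⁻¹ : GL (Fin n) F) : Matrix (Fin n) (Fin n) F).det = 1
    rw [Units.val_mul, Units.val_mul, Matrix.det_mul, Matrix.det_mul, Matrix.coe_units_inv, Matrix.det_nonsing_inv,
      show ((R Du : GL (Fin n) F) : Matrix (Fin n) (Fin n) F) = Matrix.reindex e.symm e.symm D by rw [← hDu]; rfl,
      Matrix.det_reindex_self, hDd, hCd, Ring.inverse_eq_inv']
    have h1 := ((Matrix.isUnit_iff_isUnit_det _).1 U.isUnit).ne_zero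
    have h2 := ((Matrix.isUnit_iff_isUnit_det _).1 P.isUnit).ne_zero
    field_simp
    rfl
  · refine ⟨R y, ⟨y, ⟨g, h, hy.trans hgh⟩, rfl⟩, ?_⟩
    show P * R y * P⁻¹ = _
    have : (U * R Du * P⁻¹)⁻¹ * x * (U * R Du * P⁻¹) = P * ((R Du)⁻¹ * (U⁻¹ * x * U) * R Du) * P⁻¹ := by group
    rw [this, hxU, ← map_inv, ← map_mul, ← map_mul, mul_assoc Du⁻¹, ← hDy.eq, inv_mul_cancel_left]

/-- The involution case for `a = 2`. -/
theorem exists_conj_two {n b : ℕ} (hn : n = 2 * b) (hb : 0 < b) (hodd : Odd (Fintype.card F))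
    (hv : padicValNat 2 (Fintype.card F - 1) ≤ padicValNat 2 n) (e : Fin n ≃ Fin 2 × Fin b) (P : GL (Fin n) F)
    {x : GL (Fin n) F} (hx : x ∈ Cfsg.Geo.specialLinear (Fin n) F) {z : F}
    (hz : ((x : Matrix (Fin n) (Fin n) F)) ^ 2 = z • 1) :
    ∃ g ∈ Cfsg.Geo.specialLinear (Fin n) F, g⁻¹ * x * g ∈ Cfsg.Geo.tensorProductSubgroup 2 b e P := by
  classical
  have h2 : (2 : F) ≠ 0 := Cfsg.Agent.UnitaryOrthogonal.two_ne_zero_of_card_odd hodd
  have hdet : (x : Matrix (Fin n) (Fin n) F).det = 1 := congrArg Units.val hx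
  have hz0 : z ≠ 0 := Inv.scalar_ne_zero (by omega) hdet hz
  set T := Matrix.toLin' (x : Matrix (Fin n) (Fin n) F) with hT
  have hTT : ∀ v, T (T v) = z • v := fun v => by
    rw [hT, ← Matrix.toLin'_mul_apply, ← pow_two, hz, map_smul, Matrix.toLin'_one]; rfl
  by_cases hsq : ∃ c : F, c * c = z
  · obtain ⟨c, rfl⟩ := hsq
    have hc0 : c ≠ 0 := fun e => hz0 (by rw [e, zero_mul])
    set A := LinearMap.ker (T - c • 1)
    set B := LinearMap.ker (T + c • 1)
    have hA : ∀ v ∈ A, T v = c • v := fun v hv => sub_eq_zero.1 hv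
    have hB : ∀ v ∈ B, T v = -c • v := fun v hv => by rw [neg_smul]; exact eq_neg_of_add_eq_zero_left hv
    have hcompl : IsCompl A B := by
      refine ⟨Submodule.disjoint_def.2 fun v ha hb' => ?_, codisjoint_iff.2 (eq_top_iff.2 fun v _ => ?_)⟩
      · have h1 : (c + c) • v = 0 := by
          have e := (hA v ha).symm.trans (hB v hb')
          linear_combination (norm := module) e
        exact (smul_eq_zero.1 h1).resolve_left (by rw [← two_mul]; exact mul_ne_zero h2 hc0)
      · refine Submodule.mem_sup.2 ⟨(2 * c)⁻¹ • (c • v + T v), ?_, (2 * c)⁻¹ • (c • v - T v), ?_, ?_⟩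
        · show (T - c • 1) _ = 0
          simp only [LinearMap.sub_apply, LinearMap.smul_apply, Module.End.one_apply, map_smul, map_add, hTT]
          module
        · show (T + c • 1) _ = 0
          simp only [LinearMap.add_apply, LinearMap.smul_apply, Module.End.one_apply, map_smul, map_sub, hTT]
          module
        · rw [← smul_add, show c • v + T v + (c • v - T v) = (2 * c) • v by module, inv_smul_smul₀ (mul_ne_zero h2 hc0)]
    set φ := Submodule.prodEquivOfIsCompl A B hcompl
    let bb := ((Module.finBasis F A).prod (Module.finBasis F B)).map φ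
    set s : Fin (finrank F A) ⊕ Fin (finrank F B) → F := Sum.elim (fun _ => c) fun _ => -c
    have hbb : ∀ t, T (bb t) = s t • bb t := fun t => by
      rcases t with i | i
      · simp [bb, s, φ, hA _ (Module.finBasis F A i).2]
      · simp [bb, s, φ, hB _ (Module.finBasis F B i).2]
    have hsum : finrank F A + finrank F B = n := by
      rw [Submodule.finrank_add_eq_of_isCompl hcompl, Module.finrank_fin_fun]
    have hprod : c ^ n * (-1) ^ finrank F B = 1 := by
      have h1 := LinearMap.det_toMatrix bb T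
      rw [show LinearMap.toMatrix bb bb T = Matrix.diagonal s by
        ext i j
        rw [LinearMap.toMatrix_apply, hbb, map_smul, bb.repr_self, Finsupp.smul_single, smul_eq_mul, mul_one]
        by_cases h : i = j
        · subst h; simp
        · simp [h], Matrix.det_diagonal, Fintype.prod_sum_type, hT, LinearMap.det_toLin', hdet] at h1
      simp only [s, Sum.elim_inl, Sum.elim_inr, Finset.prod_const, Finset.card_univ, Fintype.card_fin] at h1
      rw [neg_pow c] at h1
      rw [show c ^ n = c ^ finrank F A * c ^ finrank F B by rw [← pow_add, hsum]]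
      linear_combination h1
    obtain ⟨k, hk⟩ : Even (finrank F B) := by
      rcases Nat.even_or_odd (finrank F B) with h | h
      · exact h
      · rw [h.neg_one_pow] at hprod
        exact absurd (by linear_combination -hprod) (not_neg_one_pow (by omega) hodd hv hc0)
    obtain ⟨k', hk'⟩ : Even (finrank F A) := ⟨b - k, by omega⟩
    let σ : Fin 2 × Fin b ≃ Fin (finrank F A) ⊕ Fin (finrank F B) :=
      (((Equiv.refl (Fin 2)).prodCongr ((finCongr (by omega : b = k' + k)).trans finSumFinEquiv.symm)).trans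
        (Equiv.prodSumDistrib _ _ _)).trans
        ((finProdFinEquiv.trans (finCongr (by omega))).sumCongr (finProdFinEquiv.trans (finCongr (by omega))))
    let t : Fin b → F := fun l => Sum.elim (fun _ => c) (fun _ => -c) (((finCongr (by omega : b = k' + k)).trans finSumFinEquiv.symm) l)
    have ht : ∀ i l, s (σ (i, l)) = t l := fun i l => by
      simp only [σ, t, Equiv.trans_apply, Equiv.prodCongr_apply, Prod.map, Equiv.refl_apply]
      rcases finSumFinEquiv.symm (finCongr (by omega : b = k' + k) l) with m | m <;> simp [s]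
    have ht0 : ∀ l, t l ≠ 0 := fun l => by
      simp only [t]
      rcases ((finCongr (by omega : b = k' + k)).trans finSumFinEquiv.symm) l with m | m <;> simp [hc0]
    refine exists_conj_of_blocks hb e P (fun l => t l • 1) (fun q => bb (σ q)) ?_ (fun i l => ?_) (fun d hd => ?_) ?_
    · rw [show Set.range (fun q => bb (σ q)) = Set.range bb from σ.surjective.range_comp bb]
      exact bb.span_eq.ge
    · rw [← Matrix.toLin'_apply]
      show T (bb (σ (i, l))) = _
      rw [hbb, ht]
      fin_cases i <;> simp [Fin.sum_univ_two, Matrix.one_apply]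
    · exact ⟨Matrix.diagonal ![d, 1], by simp, by rw [Matrix.mul_smul, mul_one, Matrix.smul_mul, one_mul]⟩
    · refine ⟨1, Matrix.GeneralLinearGroup.mk'' (Matrix.diagonal t) (by
        rw [Matrix.det_diagonal]; exact isUnit_iff_ne_zero.2 (Finset.prod_ne_zero_iff.2 fun l _ => ht0 l)), ?_⟩
      ext ⟨i, l⟩ ⟨i', l'⟩
      by_cases h : l = l'
      · subst h; simp [Matrix.blockDiagonal_apply, Matrix.kroneckerMap_apply, Matrix.one_apply, mul_comm]
      · simp [Matrix.blockDiagonal_apply, Matrix.kroneckerMap_apply, h]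
  · push Not at hsq
    obtain ⟨k, f, hk, hspan⟩ := exists_pairs T hsq hTT
    obtain rfl : k = b := by omega
    refine exists_conj_of_blocks hb e P (fun _ => !![0, z; 1, 0]) (fun p => if p.1 = 0 then f p.2 else T (f p.2)) hspan
      (fun i l => ?_) (fun d hd => ?_) ?_
    · rw [← Matrix.toLin'_apply, ← hT]
      fin_cases i <;> simp [Fin.sum_univ_two, hTT]
    · obtain ⟨u, w, huw⟩ := SympConj.exists_form_value (z := z) (d := d) (fun _ => hz0)
      refine ⟨!![u, z * w; w, u], by rw [Matrix.det_fin_two_of]; linear_combination huw, ?_⟩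
      ext i j
      fin_cases i <;> fin_cases j <;> simp [Matrix.mul_apply, Fin.sum_univ_two] <;> ring
    · refine ⟨Matrix.GeneralLinearGroup.mk'' !![0, z; 1, 0] (by
        rw [Matrix.det_fin_two_of]; exact isUnit_iff_ne_zero.2 (by simp [hz0])), 1, ?_⟩
      ext ⟨i, l⟩ ⟨i', l'⟩
      by_cases h : l = l' <;> simp [Matrix.blockDiagonal_apply, Matrix.kroneckerMap_apply, Matrix.one_apply, h]


/-- Elements of prime order of PSL_n(q) and the stabilizers of tensor decompositions with factors of different dimensions. Here `T = PSL_n(F)` for a field `F` with `q` elements and `n = a·b` with `2 ≤ a < b`; a tensor decomposition `F^n ≅ F^a ⊗ F^b` is given by a bijection `e` of index sets and a change of basis `P`, and `H` is the subgroup of matrices of determinant 1 in its stabilizer (the conjugate by `P` of the group of Kronecker products `g₁ ⊗ g₂`) — a subgroup of type GL_a(q) ⊗ GL_b(q) (maximality is not assumed); Ω is the set of cosets of `H` in `T`, so an element of `T` of prime order `r` (a matrix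 `x` of determinant 1 with `x^r` scalar, `x` not scalar) fixes a point of Ω exactly when some conjugate of `x` by a matrix of determinant 1 lies in `H`. Let `r` be a prime dividing the index of `H`. Then every element of `T` of order `r` fixes a point of Ω if and only if `r = 2`, `a = 2`, `q` is odd and `(q − 1)_2 ≤ (n)_2` (2-parts). -/
theorem result {F : Type*} [Field F] [Fintype F] {p : ℕ} [Fact p.Prime] [CharP F p] {q : ℕ} (hq : Fintype.card F = q)
    (n a b : ℕ) (hab : n = a * b) (ha : 2 ≤ a) (hlt : a < b) (e : Fin n ≃ Fin a × Fin b) (P : GL (Fin n) F)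
    (r : ℕ) [Fact r.Prime]
    (hΩ : r ∣ (Cfsg.Geo.tensorProductSubgroup a b e P).relIndex (Cfsg.Geo.specialLinear (Fin n) F)) :
    (∀ x ∈ Cfsg.Geo.specialLinear (Fin n) F, (∃ z : F, ((x ^ r : GL (Fin n) F) : Matrix (Fin n) (Fin n) F) = z • (1 : Matrix (Fin n) (Fin n) F)) →
      (∀ z : F, (x : Matrix (Fin n) (Fin n) F) ≠ z • (1 : Matrix (Fin n) (Fin n) F)) →
      ∃ g ∈ Cfsg.Geo.specialLinear (Fin n) F, g⁻¹ * x * g ∈ Cfsg.Geo.tensorProductSubgroup a b e P) ↔
    (r = 2 ∧ a = 2 ∧ Odd q ∧ padicValNat 2 (q - 1) ≤ padicValNat 2 n) := by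
  classical
  subst hq
  subst hab
  have hn0 : 0 < a * b := Nat.mul_pos (by omega) (by omega)
  have hr' : r.Prime := Fact.out
  constructor
  · intro H
    by_contra hc
    suffices hX : ∃ X : GL (Fin (a * b)) F, X ∈ Cfsg.Geo.specialLinear (Fin (a * b)) F ∧
        (∃ z : F, (X : Matrix (Fin (a * b)) (Fin (a * b)) F) ^ r = z • 1) ∧
        (∀ z : F, (X : Matrix (Fin (a * b)) (Fin (a * b)) F) ≠ z • 1) ∧
        ∀ g : GL (Fin (a * b)) F, g⁻¹ * X * g ∉ Cfsg.Geo.tensorProductSubgroup a b e P by
      obtain ⟨X, hXS, ⟨z, hz⟩, hns, hno⟩ := hX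
      obtain ⟨g, -, hg⟩ := H X hXS ⟨z, by rw [Units.val_pow_eq_pow_val, hz]⟩ hns
      exact hno g hg
    obtain ⟨i0, hi0⟩ : ∃ i : Fin (a * b), i.1 = 0 := ⟨⟨0, hn0⟩, rfl⟩
    have h4 : 4 < a * b := lt_of_lt_of_le (by norm_num) (Nat.mul_le_mul ha (by omega : 3 ≤ b))
    obtain ⟨i1, hi1⟩ : ∃ i : Fin (a * b), i.1 = 1 := ⟨⟨1, by omega⟩, rfl⟩
    obtain ⟨i2, hi2⟩ : ∃ i : Fin (a * b), i.1 = 2 := ⟨⟨2, by omega⟩, rfl⟩
    have h01 : i0 ≠ i1 := fun e => by rw [e] at hi0; omega
    have h20 : i2 ≠ i0 := fun e => by rw [e] at hi2; omega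
    have h21 : i2 ≠ i1 := fun e => by rw [e] at hi2; omega
    by_cases hrF : (r : F) = 0
    · obtain ⟨X, hX, hXS⟩ := exists_sl (Matrix.transvection i0 i1 (1 : F)) (Matrix.det_transvection_of_ne _ _ h01 1)
      have hrk := rank_transvection (F := F) h01
      refine ⟨X, hXS, ⟨1, ?_⟩, fun z hz => ?_, fun g => TensorRank.not_conj_mem (c := 1) (c' := 1)
        (by rw [hX, hrk]; omega) (by rw [hX, hrk, Nat.dvd_one]; omega)⟩
      · have hk : ∀ k : ℕ, Matrix.transvection i0 i1 (1 : F) ^ k = Matrix.transvection i0 i1 (k : F) := by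
          intro k
          induction k with
          | zero => simp
          | succ k ih => rw [pow_succ, ih, Matrix.transvection_mul_transvection_same _ _ h01, Nat.cast_succ]
        rw [hX, hk, hrF, Matrix.transvection_zero, one_smul]
      · have := congrFun (congrFun (hX.symm.trans hz) i0) i1
        simp [Matrix.transvection, h01] at this
    have diag : ∀ w : Fin (a * b) → F, (∏ i, w i = 1) → (∀ i, w i ^ r = w i2 ^ r) → w i0 ≠ w i2 → ∀ c c' : F,
        (Finset.univ.filter fun i => w i ≠ c).card < b → ¬ a ∣ (Finset.univ.filter fun i => w i ≠ c').card →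
        ∃ X : GL (Fin (a * b)) F, X ∈ Cfsg.Geo.specialLinear (Fin (a * b)) F ∧
        (∃ z : F, (X : Matrix (Fin (a * b)) (Fin (a * b)) F) ^ r = z • 1) ∧
        (∀ z : F, (X : Matrix (Fin (a * b)) (Fin (a * b)) F) ≠ z • 1) ∧
        ∀ g : GL (Fin (a * b)) F, g⁻¹ * X * g ∉ Cfsg.Geo.tensorProductSubgroup a b e P := by
      intro w hw hwr hne c c' hc1 hc2
      obtain ⟨X, hX, hXS⟩ := exists_sl (Matrix.diagonal w) (by rw [Matrix.det_diagonal, hw])
      refine ⟨X, hXS, ⟨w i2 ^ r, ?_⟩, fun z hz => ?_, fun g => TensorRank.not_conj_mem (c := c) (c' := c')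
        (by rwa [hX, rank_diag]) (by rwa [hX, rank_diag])⟩
      · rw [hX, Matrix.diagonal_pow]
        ext i j
        by_cases h : i = j
        · subst h; simp [hwr i]
        · simp [h]
      · have e0 := congrFun (congrFun (hX.symm.trans hz) i0) i0
        have e2 := congrFun (congrFun (hX.symm.trans hz) i2) i2
        simp at e0 e2
        exact hne (e0.trans e2.symm)
    have hp2 : ∀ {w : Fin (a * b) → F}, (∀ i, i ≠ i0 → i ≠ i1 → w i = 1) → ∏ i, w i = w i0 * w i1 := fun {w} hw =>
      Fintype.prod_eq_mul i0 i1 h01 fun i hi => hw i hi.1 hi.2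
    by_cases hr2 : r = 2
    · subst hr2
      have h2 : (2 : F) ≠ 0 := by exact_mod_cast hrF
      have hodd : Odd (Fintype.card F) := Nat.odd_iff.2 (FiniteField.odd_card_of_char_ne_two fun e => h2 (by
        haveI := ringChar.charP F; have := CharP.cast_eq_zero F (ringChar F); rw [e] at this; exact_mod_cast this))
      have hne1 : (-1 : F) ≠ 1 := fun e => h2 (by linear_combination -e)
      by_cases ha2 : a = 2
      · have hlt' : padicValNat 2 (a * b) < padicValNat 2 (Fintype.card F - 1) := by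
          by_contra hle
          exact hc ⟨rfl, ha2, hodd, by omega⟩
        obtain ⟨c, hc'⟩ := exists_neg_one_pow hn0 hodd hlt'
        have hc0 : c ≠ 0 := fun e => by rw [e, zero_pow hn0.ne'] at hc'; exact one_ne_zero (neg_eq_zero.1 hc'.symm)
        have hcc : c ≠ -c := fun e => hc0 ((mul_eq_zero.1 (by linear_combination e : (2 : F) * c = 0)).resolve_left h2)
        have hcard : (Finset.univ.filter fun i => Function.update (fun _ => c) i0 (-c) i ≠ c) = {i0} := by
          ext i
          by_cases h : i = i0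
          · subst h; simp [hcc.symm]
          · simp [h]
        refine diag (Function.update (fun _ => c) i0 (-c)) ?_ (fun i => ?_) ?_ c c ?_ ?_
        · rw [Finset.prod_update_of_mem (Finset.mem_univ _), Finset.prod_const,
            Finset.card_univ_diff, Finset.card_singleton, Fintype.card_fin, neg_mul, ← pow_succ', Nat.sub_add_cancel hn0, hc', neg_neg]
        · by_cases h : i = i0
          · subst h; simp [h20]
          · simp [h, h20]
        · simpa [h20] using hcc.symm
        · rw [hcard, Finset.card_singleton]; omega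
        · rw [hcard, Finset.card_singleton, Nat.dvd_one]; omega
      · have hcard : (Finset.univ.filter fun i => (fun i => if i = i0 ∨ i = i1 then (-1 : F) else 1) i ≠ 1) = {i0, i1} := by
          ext i
          by_cases h : i = i0
          · simp [h, hne1]
          · by_cases h' : i = i1 <;> simp [h, h', hne1]
        refine diag (fun i => if i = i0 ∨ i = i1 then -1 else 1) ?_ (fun i => ?_) ?_ 1 1 ?_ ?_
        · rw [hp2 fun i h h' => by simp [h, h']]; simp
        · by_cases h : i = i0 ∨ i = i1 <;> simp [h, h20, h21]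
        · simpa [h20, h21] using hne1
        · rw [hcard, Finset.card_pair h01]; omega
        · rw [hcard, Finset.card_pair h01]
          intro h
          have := Nat.le_of_dvd two_pos h
          omega
    by_cases h1 : r ∣ Fintype.card F - 1
    · obtain ⟨ζ, hζ⟩ := exists_prime_orderOf_dvd_card' (G := Fˣ) r (by rwa [Nat.card_units, Nat.card_eq_fintype_card])
      have hζr : (ζ : F) ^ r = 1 := by rw [← Units.val_pow_eq_pow_val, ← hζ, pow_orderOf_eq_one, Units.val_one]
      have hζ1 : (ζ : F) ≠ 1 := fun e => by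
        rw [Units.val_eq_one] at e; rw [e, orderOf_one] at hζ; exact hr'.one_lt.ne hζ
      have hζ0 : (ζ : F) ≠ 0 := Units.ne_zero ζ
      have hζ2 : (ζ : F)⁻¹ ≠ ζ := fun e => by
        have h' : ζ ^ 2 = 1 := Units.ext (by
          rw [Units.val_pow_eq_pow_val, pow_two, Units.val_one]; nth_rewrite 1 [← e]; exact inv_mul_cancel₀ hζ0)
        have := orderOf_le_of_pow_eq_one two_pos h'
        rw [hζ] at this
        have := hr'.two_le
        omega
      set w : Fin (a * b) → F := fun i => if i = i0 then (ζ : F) else if i = i1 then (ζ : F)⁻¹ else 1 with hw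
      have hc1 : (Finset.univ.filter fun i => w i ≠ 1) = {i0, i1} := by
        ext i
        by_cases h : i = i0
        · simp [hw, h, hζ1]
        · by_cases h' : i = i1 <;> simp [hw, h, h', hζ1, inv_eq_one, h01.symm]
      have hc2 : (Finset.univ.filter fun i => w i ≠ ζ) = Finset.univ \ {i0} := by
        ext i
        by_cases h : i = i0
        · simp [hw, h]
        · by_cases h' : i = i1 <;> simp [hw, h, h', hζ2, Ne.symm hζ1, hζ1.symm, h01.symm]
      refine diag w ?_ (fun i => ?_) ?_ 1 ζ ?_ ?_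
      · rw [hp2 fun i h h' => by simp [hw, h, h']]; simp [hw, h01.symm, hζ0]
      · simp only [hw]; split_ifs <;> simp [hζr]
      · simpa [hw, h20, h21] using hζ1
      · rw [hc1, Finset.card_pair h01]; omega
      · rw [hc2, Finset.card_univ_diff, Finset.card_singleton, Fintype.card_fin]
        intro h
        have := Nat.dvd_sub (dvd_mul_right a b) h
        rw [Nat.sub_sub_self hn0, Nat.dvd_one] at this
        omega
    · have hrp : r ≠ p := fun h => hrF (by rw [h]; exact CharP.cast_eq_zero F p)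
      have hipos := Inv.orderOf_pos_of_ne (F := F) hrp
      set i := orderOf (Fintype.card F : ZMod r)
      have hile : i ≤ a * b := by
        have hS : r ∣ Nat.card (Cfsg.Geo.specialLinear (Fin (a * b)) F) := hΩ.trans (Subgroup.relIndex_dvd_card _ _)
        obtain ⟨g, hg⟩ := exists_prime_orderOf_dvd_card' r hS
        set f := Matrix.toLin' (((g : GL (Fin (a * b)) F)) : Matrix (Fin (a * b)) (Fin (a * b)) F) with hf
        have hgr : (g : GL (Fin (a * b)) F) ^ r = 1 := by rw [← Subgroup.coe_pow, ← hg, pow_orderOf_eq_one, OneMemClass.coe_one]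
        have hfr : f ^ r = 1 := by
          rw [hf, ← Matrix.toLin'_pow, ← Units.val_pow_eq_pow_val, hgr, Units.val_one, Matrix.toLin'_one]; rfl
        obtain ⟨k, hk⟩ := Inv.dvd_finrank_moved hrF hfr (W := ⊤) (by simp)
        rw [Submodule.map_top] at hk
        have hle := Submodule.finrank_le (LinearMap.range (f - 1))
        rw [Module.finrank_fin_fun, hk] at hle
        rcases Nat.eq_zero_or_pos k with rfl | hk0
        · exfalso
          rw [mul_zero, Submodule.finrank_eq_zero, LinearMap.range_eq_bot, sub_eq_zero, hf] at hk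
          have : g = 1 := Subtype.ext (Units.ext (Matrix.toLin'.injective (by rw [hk, OneMemClass.coe_one, Units.val_one, Matrix.toLin'_one]; rfl)))
          rw [this, orderOf_one] at hg
          exact hr'.one_lt.ne hg
        · exact (Nat.le_mul_of_pos_right _ hk0).trans hle
      obtain ⟨A, hAd, hAr, hAk⟩ := Inv.exists_elt_order (F := F) hrF h1 (n := a * b) (s := 1) (by rw [one_mul]; exact hile)
      obtain ⟨X, hX, hXS⟩ := exists_sl A hAd
      have hrk : (A - (1 : F) • 1).rank = i := by
        rw [TensorRank.rank_eq, one_smul, map_sub, Matrix.toLin'_one]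
        have := Inv.finrank_range_add_ker (Module.finrank_fin_fun (R := F) (n := a * b)) (Matrix.toLin' A)
        rw [hAk, one_mul] at this
        show finrank F (LinearMap.range (Matrix.toLin' A - 1)) = i
        omega
      refine ⟨X, hXS, ⟨1, by rw [hX, hAr, one_smul]⟩, fun z => ?_, fun g hg => ?_⟩
      · rw [hX]; exact Inv.not_scalar_of_ker hn0 h1 hAr (by rw [hAk]; omega) z
      · have hYr : ((g⁻¹ * X * g : GL (Fin (a * b)) F) : Matrix (Fin (a * b)) (Fin (a * b)) F) ^ r = 1 := by
          have h := conj_pow (i := r) (a := g⁻¹) (b := X)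
          rw [inv_inv] at h
          have hXr : X ^ r = 1 := Units.ext (by rw [Units.val_pow_eq_pow_val, hX, hAr, Units.val_one])
          rw [← Units.val_pow_eq_pow_val, h, hXr, mul_one, inv_mul_cancel, Units.val_one]
        refine not_mem_block ha hlt hrF h1 hYr ?_ hipos hg
        rw [Units.val_mul, Units.val_mul]
        have h := TensorRank.rank_conj g⁻¹ (X : Matrix (Fin (a * b)) (Fin (a * b)) F) 1
        rw [inv_inv] at h
        rw [h, hX, hrk]
  · rintro ⟨rfl, rfl, hodd, hv⟩ x hx ⟨z, hz⟩ -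
    exact exists_conj_two rfl (by omega) hodd hv e P hx (by rw [← Units.val_pow_eq_pow_val, hz])

end Cfsg.Agent.S5979
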