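import Cfsg.Statements.S0119
import Cfsg.Agent.Lib.PGroup.Commutator
import Cfsg.Agent.Lib.PGroup.Basic

set_option autoImplicit false
open Cfsg
open scoped commutatorElement

namespace Cfsg.Agent.S0119

/-- If a p'-group A of automorphisms of a p-group G satisfies G = [G, A] and acts trivially on every characteristic abelian subgroup, then G is special with centre equal to the fixed points of A. -/
theorem result {G : Type*} [Group G] [Finite G] {p : ℕ} [Fact p.Prime] (hG : IsPGroup p G) (A : Subgroup (MulAut G)) (hA : Nat.Coprime (Nat.card A) p) (hGA : Subgroup.closure {x : G | ∃ g : G, ∃ a ∈ A, x = g⁻¹ * a g} = ⊤) (hchar : ∀ H : Subgroup G, H.Characteristic → IsMulCommutative H → ∀ a ∈ A, ∀ h ∈ H, a h = h) : Cfsg.IsSpecial p G ∧ (∀ g : G, (g ∈ Subgroup.center G ↔ ∀ a ∈ A, a g = g)) := by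
  have hsplit : ∀ H : Subgroup G, H.Characteristic → IsMulCommutative H → H ≤ Subgroup.center G := by
    intro H hH hHc h hh
    refine Subgroup.mem_center_iff.mpr fun g => ?_
    have hg : g ∈ Subgroup.centralizer (H : Set G) := by
      have : Subgroup.closure {x : G | ∃ g : G, ∃ a ∈ A, x = g⁻¹ * a g} ≤
          Subgroup.centralizer (H : Set G) := by
        rw [Subgroup.closure_le]
        rintro _ ⟨g, a, ha, rfl⟩
        refine Subgroup.mem_centralizer_iff.mpr fun x hx => ?_
        have hgx : g * x * g⁻¹ ∈ H := (Subgroup.normal_of_characteristic H).conj_mem x hx g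
        have h4 := hchar H hH hHc a ha _ hgx
        rw [map_mul, map_mul, map_inv, hchar H hH hHc a ha x hx] at h4
        calc x * (g⁻¹ * a g) = g⁻¹ * (g * x * g⁻¹) * a g := by group
          _ = g⁻¹ * (a g * x * (a g)⁻¹) * a g := by rw [h4]
          _ = g⁻¹ * a g * x := by group
      exact this (hGA ▸ Subgroup.mem_top g)
    exact (Subgroup.mem_centralizer_iff.mp hg h hh).symm
  -- class at most two
  have hcl : commutator G ≤ Subgroup.center G := by
    set Z2 := Subgroup.upperCentralSeries G 2 with hZ2
    have hmem2 : ∀ z ∈ Z2, ∀ g : G, ⁅g, z⁆ ∈ Subgroup.center G := by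
      intro z hz g
      rw [hZ2, Subgroup.mem_upperCentralSeries_succ_iff] at hz
      have := hz g
      rw [Subgroup.upperCentralSeries_one] at this
      rw [← commutatorElement_inv z g]
      exact inv_mem this
    have hcen : ∀ z ∈ Z2, ∀ c ∈ commutator G, c * z = z * c := by
      intro z hz c hc
      let f : G →* Subgroup.center G := MonoidHom.mk' (fun g => ⟨⁅g, z⁆, hmem2 z hz g⟩)
        fun a b => Subtype.ext
          (Cfsg.Agent.PGroup.commutatorElement_mul_left_of_mem_center (hmem2 z hz b))
      have h1 : f c = 1 := MonoidHom.mem_ker.mp (@Abelianization.commutator_subset_ker G _ _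
        { (inferInstance : Group (Subgroup.center G)) with mul_comm := fun a b => mul_comm' a b }
        f c hc)
      exact commutatorElement_eq_one_iff_mul_comm.mp (congrArg Subtype.val h1)
    have hab : IsMulCommutative (Z2 ⊓ commutator G : Subgroup G) :=
      ⟨⟨fun a b => Subtype.ext (hcen _ b.2.1 _ a.2.2)⟩⟩
    have hin : Z2 ⊓ commutator G ≤ Subgroup.center G := by
      refine hsplit _ ?_ hab
      rw [Subgroup.characteristic_iff_comap_eq]
      intro φ
      rw [Subgroup.comap_inf, Subgroup.Characteristic.fixed inferInstance φ,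
        Subgroup.Characteristic.fixed inferInstance φ]
    by_contra hnot
    set Q := (commutator G).map (QuotientGroup.mk' (Subgroup.center G)) with hQ
    have hne : Q ≠ ⊥ := fun hb => hnot (by
      rwa [hQ, Subgroup.map_eq_bot_iff, QuotientGroup.ker_mk'] at hb)
    haveI : Q.Normal := Subgroup.Normal.map inferInstance _ (QuotientGroup.mk'_surjective _)
    refine Cfsg.Agent.PGroup.inf_center_ne_bot (hG.to_quotient (Subgroup.center G)) hne ?_
    rw [Subgroup.eq_bot_iff_forall]
    rintro _ ⟨⟨c, hc, rfl⟩, hcc⟩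
    refine (QuotientGroup.eq_one_iff c).mpr (hin ⟨?_, hc⟩)
    show c ∈ Z2
    rw [hZ2, Subgroup.mem_upperCentralSeries_succ_iff]
    intro y
    rw [Subgroup.upperCentralSeries_one, ← QuotientGroup.eq_one_iff]
    show QuotientGroup.mk' (Subgroup.center G) ⁅c, y⁆ = 1
    rw [map_commutatorElement, commutatorElement_eq_one_iff_mul_comm]
    exact (Subgroup.mem_center_iff.mp hcc _).symm
  -- commutators have order dividing `p`
  have hdesc : ∀ e : ℕ, (∀ a b : G, ⁅a, b⁆ ^ p ^ (e + 1) = 1) → ∀ a b : G, ⁅a, b⁆ ^ p = 1 := by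
    intro e
    induction e with
    | zero => intro h; simpa using h
    | succ e ih =>
      intro h
      refine ih fun a b => ?_
      let K : Subgroup G := Subgroup.closure (Set.range fun g : G => g ^ p ^ (e + 1))
      have hKc : IsMulCommutative K := by
        refine Subgroup.isMulCommutative_closure ?_
        rintro _ ⟨u, rfl⟩ _ ⟨v, rfl⟩
        refine commutatorElement_eq_one_iff_mul_comm.mp ?_
        rw [Cfsg.Agent.PGroup.comm_pow_left hcl, Cfsg.Agent.PGroup.comm_pow_right hcl, ← pow_mul,
          ← pow_add]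
        obtain ⟨k, hk⟩ := pow_dvd_pow p (show e + 1 + 1 ≤ e + 1 + (e + 1) by omega)
        rw [hk, pow_mul, h, one_pow]
      have hKchar : K.Characteristic := by
        rw [Subgroup.characteristic_iff_map_le]
        intro φ
        rw [MonoidHom.map_closure, Subgroup.closure_le]
        rintro _ ⟨_, ⟨u, rfl⟩, rfl⟩
        exact Subgroup.subset_closure ⟨φ u, (map_pow φ u _).symm⟩
      have hz : a ^ p ^ (e + 1) ∈ Subgroup.center G :=
        hsplit K hKchar hKc (Subgroup.subset_closure ⟨a, rfl⟩)
      rw [← Cfsg.Agent.PGroup.comm_pow_left hcl, commutatorElement_eq_one_iff_mul_comm]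
      exact (Subgroup.mem_center_iff.mp hz b).symm
  obtain ⟨n, hn⟩ := IsPGroup.iff_card.mp hG
  have hexp : ∀ a b : G, ⁅a, b⁆ ^ p = 1 := hdesc n fun a b => by
    rw [pow_succ, pow_mul, ← hn, pow_card_eq_one', one_pow]
  have hfr : frattini G ≤ Subgroup.center G := by
    rw [Cfsg.Agent.PGroup.frattini_eq hG]
    refine sup_le ((Subgroup.closure_le _).mpr ?_) hcl
    rintro _ ⟨a, rfl⟩
    refine Subgroup.mem_center_iff.mpr fun b => commutatorElement_eq_one_iff_mul_comm.mp ?_
    rw [Cfsg.Agent.PGroup.comm_pow_right hcl, hexp]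
  -- fixed points lie in the derived group
  have hfixed : ∀ g : G, (∀ a ∈ A, a g = g) → g ∈ commutator G := by
    classical
    intro g hg
    haveI : Finite (MulAut G) := Finite.of_injective (fun e : MulAut G => (e : G → G))
      DFunLike.coe_injective
    haveI : Fintype A := Fintype.ofFinite A
    let ν : G →* Abelianization G :=
      ∏ a : A, Abelianization.of.comp ((a : MulAut G) : G ≃* G).toMonoidHom
    have hν : ∀ x : G, ν x = ∏ a : A, Abelianization.of ((a : MulAut G) x) := fun x =>
      MonoidHom.finsetProd_apply _ _ _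
    have hinv : ∀ (b : A) (x : G), ν ((b : MulAut G) x) = ν x := fun b x => by
      rw [hν, hν, ← Equiv.prod_comp (Equiv.mulRight b)
        (fun a : A => Abelianization.of ((a : MulAut G) x))]
      rfl
    have hν1 : ν g = 1 := by
      have hle : Subgroup.closure {x : G | ∃ g : G, ∃ a ∈ A, x = g⁻¹ * a g} ≤ ν.ker := by
        rw [Subgroup.closure_le]
        rintro _ ⟨x, a, ha, rfl⟩
        rw [SetLike.mem_coe, MonoidHom.mem_ker, map_mul, map_inv, hinv ⟨a, ha⟩ x, inv_mul_cancel]
      exact hle (hGA ▸ Subgroup.mem_top g)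
    rw [hν, Finset.prod_congr rfl (fun (a : A) _ => by rw [hg a a.2]), Finset.prod_const,
      Finset.card_univ, ← Nat.card_eq_fintype_card] at hν1
    rw [← Abelianization.ker_of, MonoidHom.mem_ker]
    exact Cfsg.Agent.PGroup.eq_one_of_pow_coprime (hG.to_quotient (commutator G)) hA.symm hν1
  have hZfix : ∀ g ∈ Subgroup.center G, ∀ a ∈ A, a g = g := fun g hg a ha =>
    hchar (Subgroup.center G) inferInstance inferInstance a ha g hg
  have hZle : Subgroup.center G ≤ commutator G := fun g hg => hfixed g (hZfix g hg)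
  refine ⟨⟨hG, le_antisymm hfr ?_, le_antisymm hcl hZle⟩,
    fun g => ⟨hZfix g, fun h => hcl (hfixed g h)⟩⟩
  exact hZle.trans (Cfsg.Agent.PGroup.commutator_le_frattini hG)

end Cfsg.Agent.S0119
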