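import Cfsg.Statements.S0989
import Cfsg.Agent.Lib.SmallGroups.Counting
import Mathlib.GroupTheory.Perm.Centralizer
import Mathlib.Tactic.Ring

set_option autoImplicit false
open Cfsg

namespace Cfsg.Agent.S0989

/-- In the symmetric group on p or p + 1 letters, p a prime, the normalizer of a Sylow p-subgroup has order p * (p - 1). -/
theorem result {α : Type*} [Fintype α] [DecidableEq α] (p : ℕ) [Fact p.Prime] (hα : Fintype.card α = p ∨ Fintype.card α = p + 1) (P : Sylow p (Equiv.Perm α)) : Nat.card ↥(Subgroup.normalizer ((P : Subgroup (Equiv.Perm α)) : Set (Equiv.Perm α))) = p * (p - 1) := by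
  classical
  have hp := (Fact.out : p.Prime)
  set n := Fintype.card α with hn
  have hcardG : Nat.card (Equiv.Perm α) = n.factorial := by
    rw [Nat.card_perm, Nat.card_eq_fintype_card]
  have hpn : p ≤ n := by omega
  have hfac : n.factorial.factorization p = 1 := by
    rcases hα with h | h <;> rw [h]
    · have h1 : p.factorial = p * (p - 1).factorial := (Nat.mul_factorial_pred hp.ne_zero).symm
      rw [h1, Nat.factorization_mul hp.ne_zero (Nat.factorial_ne_zero _), Finsupp.add_apply,
        hp.factorization_self,
        Nat.factorization_eq_zero_of_not_dvd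
          (fun h => absurd (hp.dvd_factorial.mp h) (by have := hp.two_le; omega))] <;> rfl
    · have h1 : p.factorial = p * (p - 1).factorial := (Nat.mul_factorial_pred hp.ne_zero).symm
      rw [Nat.factorial_succ, h1, Nat.factorization_mul (Nat.succ_ne_zero _)
          (mul_ne_zero hp.ne_zero (Nat.factorial_ne_zero _)),
        Nat.factorization_mul hp.ne_zero (Nat.factorial_ne_zero _), Finsupp.add_apply,
        Finsupp.add_apply, hp.factorization_self,
        Nat.factorization_eq_zero_of_not_dvd (n := p + 1)
          (fun h => hp.not_dvd_one (by simpa using Nat.dvd_sub h dvd_rfl)),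
        Nat.factorization_eq_zero_of_not_dvd
          (fun h => absurd (hp.dvd_factorial.mp h) (by have := hp.two_le; omega))] <;> rfl
  have hP : ∀ Q : Sylow p (Equiv.Perm α), Nat.card ↥(Q : Subgroup (Equiv.Perm α)) = p := fun Q => by
    rw [Q.card_eq_multiplicity, hcardG, hfac, pow_one]
  have hiff : ∀ g : Equiv.Perm α, orderOf g = p ↔ g.cycleType = {p} := by
    intro g
    constructor
    · intro hg
      obtain ⟨k, hk⟩ := Equiv.Perm.cycleType_prime_order (hg ▸ hp : (orderOf g).Prime)
      rw [hg] at hk
      have hsum := g.sum_cycleType_le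
      rw [hk, Multiset.sum_replicate, smul_eq_mul, ← hn] at hsum
      rcases k with _ | k
      · simpa using hk
      · exfalso
        have := hp.two_le
        have h1 : 2 * p ≤ (k + 1 + 1) * p := Nat.mul_le_mul_right _ (by omega)
        omega
    · intro hg
      rw [← g.lcm_cycleType, hg, Multiset.lcm_singleton, normalize_eq]
  have hcount : Nat.card {g : Equiv.Perm α // orderOf g = p}
      = (p - 1).factorial * n.choose p := by
    rw [Nat.card_congr (Equiv.subtypeEquivRight hiff), Nat.card_eq_fintype_card,
      Fintype.card_subtype, Equiv.Perm.card_of_cycleType_singleton hp.two_le hpn]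
  rw [Cfsg.Agent.SmallGroups.card_orderOf_eq hP] at hcount
  have hN := Cfsg.Agent.SmallGroups.card_normalizer_mul P
  rw [hcardG] at hN
  have hC := Nat.choose_mul_factorial_mul_factorial hpn
  have hnp : (n - p).factorial = 1 := by
    rcases hα with h | h <;> simp [h]
  rw [hnp, mul_one, ← Nat.mul_factorial_pred hp.ne_zero] at hC
  refine Nat.eq_of_mul_eq_mul_right
    (Nat.mul_pos (Nat.card_pos (α := Sylow p (Equiv.Perm α))) (Nat.factorial_pos (p - 1))) ?_
  rw [← mul_assoc, hN, ← hC]
  calc n.choose p * (p * (p - 1).factorial) * (p - 1).factorial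
      = p * (p - 1).factorial * ((p - 1).factorial * n.choose p) := by ring
    _ = p * (p - 1).factorial * (Nat.card (Sylow p (Equiv.Perm α)) * (p - 1)) := by rw [hcount]
    _ = _ := by ring

end Cfsg.Agent.S0989
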