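import Cfsg.Statements.S0990
import Cfsg.Agent.Lib.SmallGroups.Basic

set_option autoImplicit false
open Cfsg

namespace Cfsg.Agent.S0990

/-- Let p be an odd prime and P a Sylow p-subgroup of the symmetric group on a finite set with at least two elements. Then P is contained in the alternating group, and twice the order of the normalizer of P inside the alternating group equals the order of the normalizer of P in the symmetric group. -/
theorem result {α : Type*} [Fintype α] [DecidableEq α] (hα : 2 ≤ Fintype.card α) (p : ℕ) [Fact p.Prime] (hp : p ≠ 2) (P : Sylow p (Equiv.Perm α)) : (P : Subgroup (Equiv.Perm α)) ≤ alternatingGroup α ∧ 2 * Nat.card ↥(Subgroup.normalizer ((((P : Subgroup (Equiv.Perm α)).subgroupOf (alternatingGroup α) : Subgroup ↥(alternatingGroup α)) : Set ↥(alternatingGroup α)))) = Nat.card ↥(Subgroup.normalizer ((P : Subgroup (Equiv.Perm α)) : Set (Equiv.Perm α))) := by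
  classical
  set S := (P : Subgroup (Equiv.Perm α))
  set A := alternatingGroup α
  have hle : S ≤ A := by
    intro s hs
    rw [Equiv.Perm.mem_alternatingGroup]
    obtain ⟨n, hn⟩ := P.2.exists_card_eq
    have hdvd : orderOf (Equiv.Perm.sign s) ∣ p ^ n :=
      (orderOf_map_dvd Equiv.Perm.sign s).trans (hn ▸ Subgroup.orderOf_dvd_natCard S hs)
    have h2 : orderOf (Equiv.Perm.sign s) ∣ 2 := by
      exact orderOf_dvd_of_pow_eq_one (Int.units_sq _)
    refine orderOf_eq_one_iff.mp (Nat.eq_one_of_dvd_coprimes ?_ h2 hdvd)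
    exact ((Nat.coprime_primes Nat.prime_two (Fact.out : p.Prime)).mpr (Ne.symm hp)).pow_right n
  refine ⟨hle, ?_⟩
  have : Nontrivial α := Fintype.one_lt_card_iff_nontrivial.mp hα
  set N := Subgroup.normalizer (S : Set (Equiv.Perm α))
  have hsup : N ⊔ A = ⊤ := P.normalizer_sup_eq_top' hle
  have hNA : (Subgroup.normalizer ((S.subgroupOf A : Subgroup ↥A) : Set ↥A)) = N.subgroupOf A :=
    (Subgroup.subgroupOf_normalizer_eq hle).symm
  rw [hNA]
  have hcard : Nat.card ↥(N.subgroupOf A) = Nat.card ↥(A.subgroupOf N) := by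
    refine Nat.card_congr ⟨fun x => ⟨⟨x.1.1, x.2⟩, x.1.2⟩, fun x => ⟨⟨x.1.1, x.2⟩, x.1.2⟩,
      fun x => rfl, fun x => rfl⟩
  rw [hcard]
  have hidx : (A.subgroupOf N).index = 2 := by
    have h1 : A.relIndex (N ⊔ A) = A.relIndex N := Subgroup.relIndex_sup_right ..
    rw [hsup, Subgroup.relIndex_top_right] at h1
    change A.relIndex N = 2
    rw [← h1]
    exact alternatingGroup.index_eq_two
  have := (A.subgroupOf N).card_mul_index
  rw [hidx] at this
  rw [← this, mul_comm]

end Cfsg.Agent.S0990
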