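import Cfsg.Statements.S0160
import Cfsg.Agent.Lib.CharInd.Classes

set_option autoImplicit false
open Cfsg

namespace Cfsg.Agent.S0160

open scoped ComplexConjugate

/-- A finite group has as many real-valued irreducible complex characters as conjugacy classes closed under taking inverses. -/
theorem result {G : Type*} [Group G] [Finite G] : Nat.card {χ : Cfsg.IrrCharacter G // ∀ g : G, ((χ : G → ℂ) g).im = 0} = Nat.card {C : ConjClasses G // ∀ g : G, ConjClasses.mk g = C → IsConj g g⁻¹} := by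
  classical
  haveI := Fintype.ofFinite G
  let f : Cfsg.IrrCharacter G → Cfsg.IrrCharacter G := fun χ =>
    ⟨fun g => conj ((χ : G → ℂ) g), CharCore.isIrrCharacter_star χ.2⟩
  have h1 : Nat.card {χ : Cfsg.IrrCharacter G // ∀ g : G, ((χ : G → ℂ) g).im = 0}
      = Nat.card {χ : Cfsg.IrrCharacter G // f χ = χ} := by
    refine Nat.card_congr (Equiv.subtypeEquivRight fun χ => ?_)
    rw [Subtype.ext_iff, funext_iff]
    exact forall_congr' fun g => Complex.conj_eq_iff_im.symm
  rw [h1]
  have h2 : Nat.card {C : ConjClasses G // ∀ g : G, ConjClasses.mk g = C → IsConj g g⁻¹}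
      = Nat.card {C : ConjClasses G // ∃ g : G, ConjClasses.mk g = C ∧ IsConj g g⁻¹} := by
    refine Nat.card_congr (Equiv.subtypeEquivRight fun C => ?_)
    obtain ⟨a, rfl⟩ := ConjClasses.exists_rep C
    constructor
    · exact fun h => ⟨a, rfl, h a rfl⟩
    · rintro ⟨b, hb, hbb⟩ g hg
      have hgb : IsConj g b := ConjClasses.mk_eq_mk_iff_isConj.1 (hg.trans hb.symm)
      obtain ⟨c, hc⟩ := isConj_iff.1 hgb
      exact hgb.trans (hbb.trans (isConj_iff.2 ⟨c, by rw [← hc]; group⟩).symm)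
  rw [h2]
  have key := CharInd.card_fixed_irr f
  have hs : ∀ g : G, ∑ χ : Cfsg.IrrCharacter G, (f χ : G → ℂ) g * conj ((χ : G → ℂ) g)
      = if (∃ x : G, ConjClasses.mk x = ConjClasses.mk g ∧ IsConj x x⁻¹) then
          (Nat.card (Subgroup.centralizer ({g} : Set G)) : ℂ) else 0 := by
    intro g
    have h := CharCore.sum_apply_mul_conj g g⁻¹
    simp only [CharCore.irr_apply_inv, Complex.conj_conj] at h
    have e : ∀ χ : Cfsg.IrrCharacter G, (f χ : G → ℂ) g * conj ((χ : G → ℂ) g)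
        = conj ((χ : G → ℂ) g * (χ : G → ℂ) g) := fun χ => (map_mul _ _ _).symm
    rw [Finset.sum_congr rfl fun χ _ => e χ, ← map_sum, h, apply_ite (starRingEnd ℂ), map_natCast,
      map_zero]
    refine if_congr ⟨fun hg => ⟨g, rfl, hg⟩, ?_⟩ rfl rfl
    rintro ⟨x, hx, hxx⟩
    have hgx : IsConj g x := ConjClasses.mk_eq_mk_iff_isConj.1 hx.symm
    obtain ⟨c, hc⟩ := isConj_iff.1 hgx
    exact hgx.trans (hxx.trans (isConj_iff.2 ⟨c, by rw [← hc]; group⟩).symm)
  rw [Finset.sum_congr rfl fun g _ => hs g, CharInd.sum_card_centralizer_eq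
    (fun C => ∃ x : G, ConjClasses.mk x = C ∧ IsConj x x⁻¹), inv_mul_cancel_left₀
    (Nat.cast_ne_zero.2 Nat.card_pos.ne')] at key
  exact_mod_cast key

end Cfsg.Agent.S0160
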