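import Cfsg.Statements.S0161
import Cfsg.Agent.S0160
import Cfsg.Agent.Lib.CharCore.Basic

set_option autoImplicit false
open Cfsg

namespace Cfsg.Agent.S0161

/-- In a finite group of odd order, a real-valued irreducible complex character is the trivial character. -/
theorem result {G : Type*} [Group G] [Finite G] (hodd : Odd (Nat.card G)) (χ : Cfsg.IrrCharacter G) (hreal : ∀ g : G, ((χ : G → ℂ) g).im = 0) : (χ : G → ℂ) = fun _ => 1 := by
  have hcl : ∀ g : G, IsConj g g⁻¹ → g = 1 := by
    intro g hg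
    obtain ⟨x, hx⟩ := isConj_iff.1 hg
    have hcomm : Commute (x ^ 2) g := by
      have h2 : x ^ 2 * g * (x ^ 2)⁻¹ = g := by
        calc x ^ 2 * g * (x ^ 2)⁻¹ = x * (x * g * x⁻¹) * x⁻¹ := by
              simp only [sq, mul_inv_rev, mul_assoc]
          _ = x * g⁻¹ * x⁻¹ := by rw [hx]
          _ = (x * g * x⁻¹)⁻¹ := by group
          _ = g := by rw [hx, inv_inv]
      exact mul_inv_eq_iff_eq_mul.1 h2
    obtain ⟨m, hm⟩ := exists_pow_eq_self_of_coprime (x := x) (n := 2)
      (Nat.coprime_two_left.2 (hodd.of_dvd_nat (orderOf_dvd_natCard x)))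
    have hxg : Commute x g := hm ▸ hcomm.pow_left m
    have hgg : g * g = 1 := by
      have : g = g⁻¹ := by rw [← hx, hxg.eq, mul_inv_cancel_right]
      nth_rewrite 2 [this]
      rw [mul_inv_cancel]
    rw [← orderOf_eq_one_iff]
    have h2 : orderOf g ∣ 2 := orderOf_dvd_of_pow_eq_one (by rwa [sq])
    have ho : Odd (orderOf g) := hodd.of_dvd_nat (orderOf_dvd_natCard g)
    rcases (Nat.dvd_prime Nat.prime_two).1 h2 with h | h
    · exact h
    · rw [h] at ho; exact absurd ho (by decide)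
  have hone : Subsingleton {C : ConjClasses G // ∀ g : G, ConjClasses.mk g = C → IsConj g g⁻¹} := by
    have key : ∀ C : {C : ConjClasses G // ∀ g : G, ConjClasses.mk g = C → IsConj g g⁻¹},
        C.1 = ConjClasses.mk 1 := fun ⟨C, hC⟩ => by
      obtain ⟨a, rfl⟩ := ConjClasses.exists_rep C
      show ConjClasses.mk a = ConjClasses.mk 1
      rw [hcl a (hC a rfl)]
    exact ⟨fun C D => Subtype.ext ((key C).trans (key D).symm)⟩
  have hle : Nat.card {χ : Cfsg.IrrCharacter G // ∀ g : G, ((χ : G → ℂ) g).im = 0} ≤ 1 := by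
    rw [S0160.result]
    exact Finite.card_le_one_iff_subsingleton.2 hone
  haveI := Finite.card_le_one_iff_subsingleton.1 hle
  have h := Subsingleton.elim (⟨χ, hreal⟩ : {χ : Cfsg.IrrCharacter G // ∀ g : G, ((χ : G → ℂ) g).im = 0})
    ⟨⟨1, CharCore.isIrrCharacter_one⟩, fun g => Complex.one_im⟩
  exact congrArg (fun t => (t.1 : G → ℂ)) h

end Cfsg.Agent.S0161
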