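import Cfsg.Statements.S1514
import Cfsg.Agent.OddChar.SignedIrr
open Cfsg.Agent Cfsg.Agent.OddChar
open scoped ComplexConjugate

set_option autoImplicit false
open Cfsg

namespace Cfsg.Agent.S1514

/-- Let S be a nonempty set of irreducible characters of the finite group L, closed under complex conjugation and containing no real-valued member, and τ a linear isometry on the integer combinations of S vanishing at 1, with values virtual characters of G vanishing at 1. Then there is a choice R making (S, τ, R) a coherence system. -/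
theorem result {L : Type*} [Group L] [Fintype L] {G : Type*} [Group G] [Fintype G] (S : Set (L → ℂ)) (hS : S.Nonempty) (hirr : ∀ χ ∈ S, Cfsg.IsIrrCharacter L χ) (hconj : ∀ χ ∈ S, Cfsg.conjFun χ ∈ S ∧ Cfsg.conjFun χ ≠ χ) (τ : (L → ℂ) → (G → ℂ)) (hτ : Cfsg.IsLinearIsometryOn (Cfsg.zspanOn S {1}ᶜ) τ) (hτ1 : ∀ α ∈ Cfsg.zspanOn S {1}ᶜ, τ α 1 = 0) : ∃ R : (L → ℂ) → Finset (G → ℂ), Cfsg.IsCoherenceSystem S τ R := by
  classical
  have hchar : ∀ χ ∈ S, IsCharacter L χ := fun χ h => CharCore.IsIrrCharacter.isCharacter (hirr χ h)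
  have horth : ∀ χ ∈ S, ∀ φ ∈ S, χ ≠ φ → classInner χ φ = 0 := fun χ hχ φ hφ hne =>
    CharCore.classInner_irr_of_ne (χ := ⟨χ, hirr χ hχ⟩) (ψ := ⟨φ, hirr φ hφ⟩)
      (fun h => hne (congrArg Subtype.val h))
  have hmem : ∀ χ ∈ S, χ - conjFun χ ∈ zspanOn S {1}ᶜ := fun χ hχ =>
    Coherence.mem_zspanOn_one.2 ⟨Coherence.zspan_sub (Coherence.zspan_subset hχ)
      (Coherence.zspan_subset (hconj χ hχ).1), by
      rw [Pi.sub_apply, Coherence.conjFun_one_of_char (hchar χ hχ), sub_self]⟩
  have hex : ∀ χ ∈ S, ∃ α β : G → ℂ, IsSignedIrr α ∧ IsSignedIrr β ∧ classInner α β = 0 ∧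
      τ (χ - conjFun χ) = α - β := by
    intro χ hχ
    refine exists_sub_of_norm_two (hτ.2.2.2 _ (hmem χ hχ)) ?_
    have h1 : ∀ φ ∈ S, classInner φ φ = 1 := fun φ hφ =>
      CharCore.classInner_irr_self ⟨φ, hirr φ hφ⟩
    rw [hτ.2.2.1 _ (hmem χ hχ) _ (hmem χ hχ), CharCore.classInner_sub_left,
      CharCore.classInner_sub_right, CharCore.classInner_sub_right, h1 χ hχ,
      h1 _ (hconj χ hχ).1, horth χ hχ _ (hconj χ hχ).1 (hconj χ hχ).2.symm,
      horth _ (hconj χ hχ).1 χ hχ (hconj χ hχ).2]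
    norm_num
  choose a b ha hb hab he using hex
  let R : (L → ℂ) → Finset (G → ℂ) := fun χ =>
    if h : χ ∈ S then {a χ h, -(b χ h)} else ∅
  have hne : ∀ χ (h : χ ∈ S), a χ h ≠ -(b χ h) := by
    intro χ h e
    have h0 := hab χ h
    rw [e, CharCore.classInner_neg_left, signed_inner_self (hb χ h)] at h0
    norm_num at h0
  refine ⟨R, ⟨hS, hchar, fun χ h => (hconj χ h).1, fun χ h => (hconj χ h).2, hτ, hτ1, horth,
    ?_, ?_, ?_, ?_⟩⟩
  · intro χ h α hα β hβ
    simp only [R, dif_pos h, Finset.mem_insert, Finset.mem_singleton] at hα hβ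
    have hba : classInner (b χ h) (a χ h) = 0 := by
      rw [← CharCore.conj_classInner, hab χ h, map_zero]
    rcases hα with rfl | rfl <;> rcases hβ with rfl | rfl
    · rw [if_pos rfl, signed_inner_self (ha χ h)]
    · rw [if_neg (hne χ h), CharCore.classInner_neg_right, hab χ h, neg_zero]
    · rw [if_neg (hne χ h).symm, CharCore.classInner_neg_left, hba, neg_zero]
    · rw [if_pos rfl, signed_inner_self (hb χ h).neg]
  · intro χ h α hα
    simp only [R, dif_pos h, Finset.mem_insert, Finset.mem_singleton] at hα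
    rcases hα with rfl | rfl
    · exact (ha χ h).isGeneralizedCharacter
    · exact (hb χ h).neg.isGeneralizedCharacter
  · intro χ h
    simp only [R, dif_pos h]
    rw [he χ h, Finset.sum_pair (hne χ h), sub_eq_add_neg]
  · intro χ hχ φ hφ h0 h0' α hα β hβ
    simp only [R, dif_pos hφ, Finset.mem_insert, Finset.mem_singleton] at hα
    simp only [R, dif_pos hχ, Finset.mem_insert, Finset.mem_singleton] at hβ
    have hz : classInner (τ (φ - conjFun φ)) (τ (χ - conjFun χ)) = 0 := by
      have e1 : classInner (conjFun φ) χ = 0 := by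
        have : classInner (conjFun φ) χ = conj (classInner φ (conjFun χ)) := by
          simp [classInner, conjFun, map_sum]
        rw [this, h0', map_zero]
      have e2 : classInner (conjFun φ) (conjFun χ) = 0 := by
        have : classInner (conjFun φ) (conjFun χ) = conj (classInner φ χ) := by
          simp [classInner, conjFun, map_sum]
        rw [this, h0, map_zero]
      rw [hτ.2.2.1 _ (hmem φ hφ) _ (hmem χ hχ), CharCore.classInner_sub_left,
        CharCore.classInner_sub_right, CharCore.classInner_sub_right, h0, h0', e1, e2]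
      simp
    have hone : ∀ ψ (h : ψ ∈ S), a ψ h 1 = b ψ h 1 := fun ψ h => by
      have := hτ1 _ (hmem ψ h)
      rwa [he ψ h, Pi.sub_apply, sub_eq_zero] at this
    rw [he φ hφ, he χ hχ] at hz
    obtain ⟨z1, z2, z3, z4⟩ := orthogonal_of_mixed (ha φ hφ) (hb φ hφ) (ha χ hχ) (hb χ hχ)
      one_ne_zero one_ne_zero (hab φ hφ) (hab χ hχ) (by simpa using hz) (hone φ hφ)
      (by simpa using hone χ hχ)
    rcases hα with rfl | rfl <;> rcases hβ with rfl | rfl <;>
      simp [CharCore.classInner_neg_left, CharCore.classInner_neg_right, z1, z2, z3, z4]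

end Cfsg.Agent.S1514
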