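import Cfsg.Statements.S0198
import Cfsg.Agent.OddChar.SignedIrr
import Cfsg.Agent.Lib.CharCore.Basic
-- import your own Cfsg.Agent.* helpers here

set_option autoImplicit false
open Cfsg

namespace Cfsg.Agent.S0198

open Cfsg.Agent.CharCore in
/-- A norm two generalized character vanishing at `1` is a difference of two irreducibles. -/
theorem exists_irr_sub {G : Type*} [Group G] [Fintype G] {θ : G → ℂ}
    (h : Cfsg.IsGeneralizedCharacter G θ) (h2 : Cfsg.classInner θ θ = 2) (h1 : θ 1 = 0) :
    ∃ a b : Cfsg.IrrCharacter G, a ≠ b ∧ θ = (a : G → ℂ) - (b : G → ℂ) := by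
  obtain ⟨α, β, hα, hβ, h0, rfl⟩ := OddChar.exists_sub_of_norm_two h h2
  have h1' : α 1 = β 1 := sub_eq_zero.mp h1
  have hpos : ∀ χ : G → ℂ, Cfsg.IsIrrCharacter G χ → ∃ d : ℕ, d ≠ 0 ∧ χ 1 = d := fun χ hχ => by
    obtain ⟨d, hd⟩ := IsCharacter.exists_degree (IsIrrCharacter.isCharacter hχ)
    exact ⟨d, fun h => irr_apply_one_ne_zero ⟨χ, hχ⟩ (by simp [hd, h]), hd⟩
  have hne : ∀ a b : Cfsg.IrrCharacter G, Cfsg.classInner (a : G → ℂ) b = 0 → a ≠ b :=
    fun a b hab e => one_ne_zero ((classInner_irr_self b).symm.trans (e ▸ hab))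
  rcases hα with hα | hα <;> rcases hβ with hβ | hβ
  · exact ⟨⟨α, hα⟩, ⟨β, hβ⟩, hne _ _ h0, rfl⟩
  · obtain ⟨d, hd, ed⟩ := hpos α hα
    obtain ⟨e, he, ee⟩ := hpos _ hβ
    rw [Pi.neg_apply, ← h1', ed] at ee
    have hz : ((d + e : ℕ) : ℂ) = 0 := by push_cast; linear_combination (-1) * ee
    have : d + e = 0 := by exact_mod_cast hz
    omega
  · obtain ⟨d, hd, ed⟩ := hpos _ hα
    obtain ⟨e, he, ee⟩ := hpos _ hβ
    rw [Pi.neg_apply, h1', ee] at ed
    have hz : ((d + e : ℕ) : ℂ) = 0 := by push_cast; linear_combination (-1) * ed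
    have : d + e = 0 := by exact_mod_cast hz
    omega
  · refine ⟨⟨-β, hβ⟩, ⟨-α, hα⟩, fun e => ?_, funext fun g => by simp; ring⟩
    have e' : -β = -α := congrArg Subtype.val e
    have e'' : α = β := (neg_inj.mp e').symm
    rw [e''] at h0
    have h4 := classInner_irr_self (⟨-β, hβ⟩ : Cfsg.IrrCharacter G)
    simp only [classInner_neg_left, classInner_neg_right, neg_neg, h0] at h4
    exact zero_ne_one h4

/-- The isometry lemma behind exceptional characters. Let τ be a family of generalized characters of a finite group G indexed by Fin n, with τ i₀ = 0, every τ i vanishing at the identity, and inner products ⟨τ i, τ j⟩ = 2 if i = j and 1 otherwise for i, j ≠ i₀. Then there are a sign ε and pairwise distinct irreducible characters μ i with τ i = ε (μ i − μ i₀) for all i. -/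
theorem result {G : Type*} [Group G] [Fintype G] (n : ℕ) (i₀ : Fin n) (τ : Fin n → (G → ℂ)) (h0 : τ i₀ = 0) (hgen : ∀ i, Cfsg.IsGeneralizedCharacter G (τ i)) (hone : ∀ i, τ i 1 = 0) (hgram : ∀ i j, i ≠ i₀ → j ≠ i₀ → Cfsg.classInner (τ i) (τ j) = if i = j then 2 else 1) : ∃ ε : ℂ, (ε = 1 ∨ ε = -1) ∧ ∃ μ : Fin n → (G → ℂ), (∀ i, Cfsg.IsIrrCharacter G (μ i)) ∧ Function.Injective μ ∧ ∀ i, τ i = ε • (μ i - μ i₀) := by
  classical
  let one : Cfsg.IrrCharacter G := ⟨1, Cfsg.Agent.CharCore.isIrrCharacter_one⟩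
  have hdec : ∀ i, ∃ a b : Cfsg.IrrCharacter G, i ≠ i₀ → a ≠ b ∧ τ i = (a : G → ℂ) - (b : G → ℂ) := by
    intro i
    by_cases hi : i = i₀
    · exact ⟨one, one, fun h => absurd hi h⟩
    · obtain ⟨a, b, h⟩ := exists_irr_sub (hgen i)
        (by rw [hgram i i hi hi, if_pos rfl]) (hone i)
      exact ⟨a, b, fun _ => h⟩
  choose a b hab using hdec
  have hpair : ∀ i j, i ≠ i₀ → j ≠ i₀ → i ≠ j →
      (a i = a j ∧ b i ≠ b j) ∨ (b i = b j ∧ a i ≠ a j) := by
    intro i j hi hj hij
    have h := hgram i j hi hj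
    rw [if_neg hij, (hab i hi).2, (hab j hj).2, Cfsg.Agent.CharCore.classInner_sub_left,
      Cfsg.Agent.CharCore.classInner_sub_right, Cfsg.Agent.CharCore.classInner_sub_right] at h
    simp only [Cfsg.Agent.CharCore.classInner_irr] at h
    have hi' := (hab i hi).1
    have hj' := (hab j hj).1
    by_cases h1 : a i = a j
    · refine Or.inl ⟨h1, fun h2 => ?_⟩
      rw [if_pos h1, if_pos h2, if_neg (fun e : a i = b j => hj' (h1 ▸ e)),
        if_neg (fun e : b i = a j => hi' (h1.trans e.symm))] at h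
      norm_num at h
    · refine Or.inr ⟨?_, h1⟩
      by_contra h2
      rw [if_neg h1, if_neg h2] at h
      split_ifs at h <;> norm_num at h
  -- all differences share their first, or all share their second term
  have hcommon : (∀ i j, i ≠ i₀ → j ≠ i₀ → a i = a j) ∨ (∀ i j, i ≠ i₀ → j ≠ i₀ → b i = b j) := by
    by_contra hc
    push Not at hc
    obtain ⟨⟨i, j, hi, hj, hA⟩, ⟨k, l, hk, hl, hB⟩⟩ := hc
    have hij : i ≠ j := fun e => hA (by rw [e])
    have hkl : k ≠ l := fun e => hB (by rw [e])
    have hb : b i = b j := ((hpair i j hi hj hij).resolve_left fun h => hA h.1).1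
    have hsame : ∀ m, m ≠ i₀ → b m = b i := by
      intro m hm
      by_cases hmi : m = i
      · rw [hmi]
      by_cases hmj : m = j
      · rw [hmj, hb]
      rcases hpair m i hm hi hmi with h1 | h1
      · rcases hpair m j hm hj hmj with h2 | h2
        · exact absurd (h1.1.symm.trans h2.1) hA
        · exact h2.1.trans hb.symm
      · exact h1.1
    exact hB ((hsame k hk).trans (hsame l hl).symm)
  rcases em (∃ i₁, i₁ ≠ i₀) with ⟨i₁, hi₁⟩ | hnone
  · rcases hcommon with hA | hB
    · refine ⟨-1, Or.inr rfl, fun i => if i = i₀ then (a i₁ : G → ℂ) else (b i : G → ℂ),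
        fun i => ?_, fun i j hij => ?_, fun i => ?_⟩
      · dsimp only; split_ifs
        · exact (a i₁).2
        · exact (b i).2
      · dsimp only at hij
        split_ifs at hij with h1 h2 h2
        · exact h1.trans h2.symm
        · exact absurd ((hA j i₁ h2 hi₁).trans (Subtype.ext hij)) (hab j h2).1
        · exact absurd ((hA i i₁ h1 hi₁).trans (Subtype.ext hij.symm)) (hab i h1).1
        · by_contra hne
          rcases hpair i j h1 h2 hne with h | h
          · exact h.2 (Subtype.ext hij)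
          · exact h.2 (hA i j h1 h2)
      · dsimp only
        rw [if_pos rfl]
        split_ifs with h1
        · simp [h1, h0]
        · rw [(hab i h1).2, hA i i₁ h1 hi₁]
          simp
    · refine ⟨1, Or.inl rfl, fun i => if i = i₀ then (b i₁ : G → ℂ) else (a i : G → ℂ),
        fun i => ?_, fun i j hij => ?_, fun i => ?_⟩
      · dsimp only; split_ifs
        · exact (b i₁).2
        · exact (a i).2
      · dsimp only at hij
        split_ifs at hij with h1 h2 h2
        · exact h1.trans h2.symm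
        · exact absurd ((Subtype.ext hij.symm).trans (hB j i₁ h2 hi₁).symm) (hab j h2).1
        · exact absurd ((Subtype.ext hij).trans (hB i i₁ h1 hi₁).symm) (hab i h1).1
        · by_contra hne
          rcases hpair i j h1 h2 hne with h | h
          · exact h.2 (hB i j h1 h2)
          · exact h.2 (Subtype.ext hij)
      · dsimp only
        rw [if_pos rfl]
        split_ifs with h1
        · simp [h1, h0]
        · rw [(hab i h1).2, hB i i₁ h1 hi₁]
          simp
  · push Not at hnone
    refine ⟨1, Or.inl rfl, fun _ => (one : G → ℂ), fun _ => one.2,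
      fun i j _ => (hnone i).trans (hnone j).symm, fun i => by simp [hnone i, h0]⟩

end Cfsg.Agent.S0198
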