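import Cfsg.Statements.S1487
import Cfsg.Agent.OddChar.Normal
open Cfsg.Agent Cfsg.Agent.OddChar

set_option autoImplicit false
open Cfsg

namespace Cfsg.Agent.S1487

/-- Let A ≤ H be normal subgroups of the finite group G and θ an irreducible character of H. Then θ takes the value θ 1 on all of A if and only if the function induced from θ to G takes its value at 1 on all of A. -/
theorem result {G : Type*} [Group G] [Fintype G] (A H : Subgroup G) [A.Normal] [H.Normal] (hAH : A ≤ H) (θ : H → ℂ) (hθ : Cfsg.IsIrrCharacter H θ) : (∀ a : H, (a : G) ∈ A → θ a = θ 1) ↔ (∀ a : G, a ∈ A → Cfsg.indFun H θ a = Cfsg.indFun H θ 1) := by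
  classical
  obtain ⟨d, -, hd⟩ := CharCore.IsIrrCharacter.exists_degree hθ
  have hne : (Nat.card H : ℂ)⁻¹ ≠ 0 := inv_ne_zero (CharInd.natCard_subgroup_ne_zero H)
  constructor
  · intro h a ha
    rw [show a = ((⟨a, hAH ha⟩ : H) : G) from rfl, indFun_coe,
      show (1 : G) = ((1 : H) : G) from rfl, indFun_coe]
    refine congrArg _ (Finset.sum_congr rfl fun g _ => ?_)
    refine (h _ (Subgroup.Normal.conj_mem ‹A.Normal› a ha g)).trans ?_
    exact congrArg θ (Subtype.ext (by simp))
  · intro h a ha
    have he := h a ha
    rw [indFun_coe, show (1 : G) = ((1 : H) : G) from rfl, indFun_coe] at he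
    replace he := congrArg Complex.re (mul_left_cancel₀ hne he)
    rw [Complex.re_sum, Complex.re_sum] at he
    have hone : ∀ g : G, conjBy H g θ 1 = (d : ℂ) := fun g => by
      rw [← hd]; exact congrArg θ (Subtype.ext (by simp))
    have hnorm : ∀ x : H, ‖θ x‖ ≤ d := fun x => by
      have := CharCore.IsCharacter.norm_apply_le (CharCore.IsIrrCharacter.isCharacter hθ) x
      rwa [hd, Complex.norm_natCast] at this
    have hle : ∀ g ∈ (Finset.univ : Finset G), (conjBy H g θ a).re ≤ (conjBy H g θ 1).re := by
      intro g _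
      rw [hone g, Complex.natCast_re]
      exact (Complex.re_le_norm _).trans (hnorm _)
    have := (Finset.sum_eq_sum_iff_of_le hle).mp he 1 (Finset.mem_univ _)
    rw [conjBy_one, hd, Complex.natCast_re] at this
    have h3 := hnorm a
    have h4 := Complex.re_le_norm (θ a)
    have h5 : ‖θ a‖ = (θ a).re := by linarith
    rw [hd]
    apply Complex.ext
    · rw [this, Complex.natCast_re]
    · rw [Complex.natCast_im]
      have h6 := Complex.sq_norm (θ a)
      rw [Complex.normSq_apply, h5, pow_two] at h6
      exact mul_self_eq_zero.mp (by linarith)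

end Cfsg.Agent.S1487
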