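import Cfsg.Statements.S1522
import Cfsg.Agent.S1521
import Cfsg.Agent.S1487

set_option autoImplicit false
open Cfsg

namespace Cfsg.Agent.S1522

/-- Let K be a nilpotent normal subgroup of the finite group L of odd order with [K,K] < K < L and L/[K,K] a Frobenius group with kernel K/[K,K] (elements of K outside [K,K] are centralised modulo [K,K] only from inside K); let (S, τ, R) be a coherence system from L to G with S the functions induced from non-principal irreducible characters of K. Let Z be a nontrivial normal subgroup of L contained in the centre of K, and suppose every member of S outside S(Z) is an irreducible character of L. Then S minus S(Z) is the set of irreducible characters χ of L with χ z ≠ χ 1 for some z ∈ Z, and it is coherent. -/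
theorem result {L : Type*} [Group L] [Fintype L] {G : Type*} [Group G] [Fintype G] (K : Subgroup L) [hK : K.Normal] (hsolv : Group.IsSolvable K) (τ : (L → ℂ) → (G → ℂ)) (R : (L → ℂ) → Finset (G → ℂ)) (hS : Cfsg.IsCoherenceSystem (Cfsg.inducedIrrAbove K ⊥) τ R) (hodd : Odd (Nat.card L)) (hnil : Group.IsNilpotent K) (hH₁K : ⁅K, K⁆ < K) (hKL : K < ⊤) (hfrob : ∀ k ∈ K, k ∉ ⁅K, K⁆ → ∀ x : L, x * k * x⁻¹ * k⁻¹ ∈ ⁅K, K⁆ → x ∈ K) (Z : Subgroup L) [Z.Normal] (hZ1 : Z ≠ ⊥) (hZK : Z ≤ K) (hZc : ∀ z ∈ Z, ∀ k ∈ K, z * k = k * z) (hirr : ∀ χ ∈ Cfsg.inducedIrrAbove K ⊥ \ Cfsg.inducedIrrAbove K Z, Cfsg.IsIrrCharacter L χ) : Cfsg.inducedIrrAbove K ⊥ \ Cfsg.inducedIrrAbove K Z = {χ | Cfsg.IsIrrCharacter L χ ∧ ∃ z ∈ Z, χ z ≠ χ 1} ∧ Cfsg.IsCoherent (Cfsg.inducedIrrAbove K ⊥ \ Cfsg.inducedIrrAbove K Z) {1}ᶜ τ := by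
  classical
  haveI : (⁅K, K⁆).Normal := Subgroup.commutator_normal K K
  haveI := Fintype.ofFinite K
  set X := inducedIrrAbove K ⊥ \ inducedIrrAbove K Z with hX
  have hXmem : ∀ θ : IrrCharacter K, θ ∈ Coherence.irrNP K ⊥ → ¬ Coherence.TrivOn K Z θ →
      indFun K (θ : K → ℂ) ∈ X := by
    refine fun θ h1 h2 => ⟨(Coherence.mem_seq_iff K).2 ⟨θ, h1, rfl⟩, fun h => h2 ?_⟩
    obtain ⟨ψ, hψ, he⟩ := (Coherence.mem_seq_iff K).1 h
    obtain ⟨g, hg⟩ := (Coherence.ind_eq_iff K θ ψ).1 he.symm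
    rw [hg]
    exact ((Coherence.mem_irrNP K).1 (Coherence.conjIrr_mem K hψ g)).2
  have hpart : X = {χ | IsIrrCharacter L χ ∧ ∃ z ∈ Z, χ z ≠ χ 1} := by
    ext χ
    constructor
    · intro hχ
      refine ⟨hirr χ hχ, ?_⟩
      obtain ⟨θ, hθ, rfl⟩ := (Coherence.mem_seq_iff K).1 hχ.1
      by_contra hall
      push Not at hall
      exact hχ.2 ((Coherence.mem_seq_iff K).2 ⟨θ, (Coherence.mem_irrNP K).2
        ⟨((Coherence.mem_irrNP K).1 hθ).1, (S1487.result Z K hZK θ θ.2).2 hall⟩, rfl⟩)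
    · rintro ⟨hχ, z, hz, hne⟩
      set r : K → ℂ := fun x => χ (x : L) with hr
      have hrc : IsCharacter K r :=
        CharCore.isCharacter_restrict (Coherence.irr_isCharacter hχ) K
      obtain ⟨θ, hθr, hθZ⟩ : ∃ θ : IrrCharacter K, classInner r θ ≠ 0 ∧
          ¬ Coherence.TrivOn K Z θ := by
        by_contra hall
        push Not at hall
        refine hne ?_
        have h := CharCore.IsCharacter.eq_sum_classInner hrc
        have h1 := congrFun h ⟨z, hZK hz⟩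
        have h2 := congrFun h 1
        simp only [Finset.sum_apply, Pi.smul_apply, smul_eq_mul] at h1 h2
        have : r ⟨z, hZK hz⟩ = r 1 := by
          rw [h1, h2]
          refine Finset.sum_congr rfl fun ψ _ => ?_
          by_cases h0 : classInner r ψ = 0
          · simp [h0]
          · rw [hall ψ h0 _ hz]
        simpa [hr] using this
      have hθne : (θ : K → ℂ) ≠ fun _ => 1 := fun e => hθZ fun a _ => by rw [e]
      have hmem := hXmem θ ((Coherence.mem_irrNP K).2 ⟨hθne, fun a ha => by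
        rw [show a = 1 from Subtype.ext (Subgroup.mem_bot.1 ha)]⟩) hθZ
      have hind := hirr _ hmem
      by_cases he : indFun K (θ : K → ℂ) = χ
      · exact he ▸ hmem
      exfalso
      refine hθr ?_
      have h := Coherence.irr_inner_ne hind hχ he
      rw [CharInd.classInner_indFun_left K _
        (CharCore.IsCharacter.isClassFunction (Coherence.irr_isCharacter hχ))] at h
      rw [← Coherence.inner_conj_symm, h, map_zero]
  refine ⟨hpart, ?_⟩
  have hXc : ∀ φ ∈ X, conjFun φ ∈ X := fun φ h => ⟨Coherence.seq_conj K h.1, fun h' => h.2 (by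
    simpa [Coherence.conjFun_conjFun] using Coherence.seq_conj K h')⟩
  have hbotrel : (⊥ : Subgroup L).relIndex K = Nat.card K := Subgroup.relIndex_bot_left K
  have hZlt : Z.relIndex K < Nat.card K := by
    rw [← hbotrel, ← Subgroup.relIndex_mul_relIndex ⊥ Z K bot_le hZK]
    refine lt_mul_of_one_lt_left (Nat.pos_of_ne_zero Subgroup.index_ne_zero_of_finite) ?_
    rw [Subgroup.relIndex_bot_left]
    exact (Subgroup.one_lt_card_iff_ne_bot Z).2 hZ1
  have hXne : X.Nonempty := by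
    by_contra hne
    rw [Set.not_nonempty_iff_eq_empty] at hne
    have heq : Coherence.irrNP K ⊥ = Coherence.irrNP K Z := by
      refine subset_antisymm (fun θ hθ => ?_) (fun θ hθ => ?_)
      · by_contra h
        have : indFun K (θ : K → ℂ) ∈ X := hXmem θ hθ fun h' => h ((Coherence.mem_irrNP K).2
          ⟨((Coherence.mem_irrNP K).1 hθ).1, h'⟩)
        rw [hne] at this
        exact this
      · exact (Coherence.mem_irrNP K).2 ⟨((Coherence.mem_irrNP K).1 hθ).1, fun a ha => by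
          rw [show a = 1 from Subtype.ext (Subgroup.mem_bot.1 ha)]⟩
    have h1 := Coherence.sum_irrNP K (⊥ : Subgroup L)
    rw [heq, Coherence.sum_irrNP K Z, hbotrel] at h1
    have : (Z.relIndex K : ℝ) = Nat.card K := by linarith
    exact hZlt.ne (Nat.cast_injective this)
  by_cases hpp : ∃ p m : ℕ, p.Prime ∧ (⊥ : Subgroup L).relIndex K = p ^ m
  swap
  · haveI := hnil
    have hnil' : Group.IsNilpotent (↥K ⧸ (⊥ : Subgroup L).subgroupOf K) :=
      Group.nilpotent_of_surjective (QuotientGroup.mk' _) (QuotientGroup.mk'_surjective _)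
    have hcoh := S1521.result K hsolv τ R hS hodd ⊥ bot_le hnil' ⁅K, K⁆ (sup_bot_eq _).symm hH₁K
      hKL hfrob (Or.inr (Or.inr (Or.inl hpp)))
    exact Coherence.sys_coherent_subset hS (le_refl _) (fun x hx => hx.1) hXne hXc hcoh
  obtain ⟨p, m, hp, hm⟩ := hpp
  rw [hbotrel] at hm
  have hodd' : ∀ n, n ∣ Nat.card L → Odd n := fun n h => hodd.of_dvd_nat h
  set e := K.index with he
  have hcop : Nat.Coprime e p := by
    have h := Coherence.index_dvd_relIndex_sub_one K ⁅K, K⁆ hH₁K.le le_rfl hfrob K le_rfl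
    have hd : (⁅K, K⁆).relIndex K ∣ p ^ m := hm ▸ (Subgroup.index_dvd_card _)
    obtain ⟨j, -, hj⟩ := (Nat.dvd_prime_pow hp).1 hd
    have hj0 : j ≠ 0 := fun h0 => by
      rw [h0, pow_zero] at hj
      exact hH₁K.not_ge (Subgroup.relIndex_eq_one.1 hj)
    refine (hp.coprime_iff_not_dvd.2 fun hpe => ?_).symm
    rw [hj] at h
    have h1 := (hpe.trans h)
    have h2 : p ∣ p ^ j := dvd_pow_self p hj0
    have h3 := Nat.dvd_sub h2 h1
    rw [Nat.sub_sub_self (Nat.one_le_pow _ _ hp.pos)] at h3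
    exact hp.not_dvd_one h3
  have hcK : ∀ θ : IrrCharacter K, ∃ a : ℕ, (θ : K → ℂ) 1 = ((p ^ a : ℕ) : ℂ) ∧
      p ^ (2 * a) ∣ Z.relIndex K := by
    intro θ
    obtain ⟨k, σ, hσ, hl⟩ := θ.2
    haveI := hσ
    have hdvd := CharClifford.finrank_dvd_card σ
    rw [hm] at hdvd
    obtain ⟨a, -, ha⟩ := (Nat.dvd_prime_pow hp).1 hdvd
    have h1 : (θ : K → ℂ) 1 = ((p ^ a : ℕ) : ℂ) := by rw [← hl, Representation.char_one, ha]
    refine ⟨a, h1, ?_⟩
    have hb := Coherence.degree_bound θ.2 ⊥ (Z.subgroupOf K) ⊤ le_top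
      (fun x hx y _ => by
        rw [Subgroup.mem_bot]
        have hc : (x : L) * y = y * x := hZc x hx y y.2
        refine Subtype.ext ?_
        simp [hc])
      (fun b hb => by rw [Subgroup.mem_bot.1 hb])
    rw [h1, Complex.natCast_re, Nat.card_congr (Subgroup.topEquiv (G := K)).toEquiv,
      Nat.card_congr (Subgroup.subgroupOfEquivOfLe hZK).toEquiv] at hb
    have hb' : (p ^ a) ^ 2 * Nat.card K * Nat.card Z ≤ Nat.card K ^ 2 := by exact_mod_cast hb
    have hr : Z.relIndex K * Nat.card Z = Nat.card K := by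
      rw [← Nat.card_congr (Subgroup.subgroupOfEquivOfLe hZK).toEquiv]
      exact (Z.subgroupOf K).index_mul_card
    have hle : p ^ (2 * a) ≤ Z.relIndex K := by
      refine Nat.le_of_mul_le_mul_right (c := Nat.card K * Nat.card Z) ?_
        (Nat.mul_pos Nat.card_pos Nat.card_pos)
      calc p ^ (2 * a) * (Nat.card K * Nat.card Z)
          = (p ^ a) ^ 2 * Nat.card K * Nat.card Z := by ring
        _ ≤ Nat.card K ^ 2 := hb'
        _ = Z.relIndex K * (Nat.card K * Nat.card Z) := by rw [← hr]; ring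
    obtain ⟨b, -, hb2⟩ := (Nat.dvd_prime_pow hp).1
      (show Z.relIndex K ∣ p ^ m by rw [← hm, ← hr]; exact dvd_mul_right _ _)
    rw [hb2] at hle ⊢
    exact pow_dvd_pow p ((Nat.pow_le_pow_iff_right hp.one_lt).1 hle)
  have hA : ∀ φ, ∃ a : ℕ, φ ∈ X → φ 1 = ((e * p ^ a : ℕ) : ℂ) ∧ p ^ (2 * a) ∣ Z.relIndex K := by
    intro φ
    by_cases h : φ ∈ X
    · obtain ⟨θ, -, rfl⟩ := (Coherence.mem_seq_iff K).1 h.1
      obtain ⟨a, ha, hd⟩ := hcK θ
      exact ⟨a, fun _ => ⟨by rw [CharInd.indFun_apply_one, ha, he]; push_cast; rfl, hd⟩⟩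
    · exact ⟨0, fun h' => absurd h' h⟩
  choose a ha using hA
  set U := Coherence.seqFinset K ⊥ \ Coherence.seqFinset K Z with hU
  have hUX : (↑U : Set (L → ℂ)) = X := by
    rw [hU, Finset.coe_sdiff, Coherence.coe_seqFinset, Coherence.coe_seqFinset]
  have hmemU : ∀ φ, φ ∈ U ↔ φ ∈ X := fun φ => by rw [← Finset.mem_coe, hUX]
  have hnorm : ∀ φ ∈ U, Coherence.normSqFn φ = 1 := fun φ h => by
    apply Complex.ofReal_injective
    rw [← Coherence.inner_self, Coherence.irr_inner_self (hirr φ ((hmemU φ).1 h)), Complex.ofReal_one]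
  have hterm : ∀ φ ∈ U, (φ 1).re ^ 2 / Coherence.normSqFn φ =
      ((e ^ 2 * p ^ (2 * a φ) : ℕ) : ℝ) := fun φ h => by
    rw [hnorm φ h, (ha φ ((hmemU φ).1 h)).1, Complex.natCast_re]; push_cast; ring
  have hkey : e * ∑ φ ∈ U, p ^ (2 * a φ) = Nat.card K - Z.relIndex K := by
    have hsub : Coherence.seqFinset K Z ⊆ Coherence.seqFinset K ⊥ := by
      rw [← Finset.coe_subset, Coherence.coe_seqFinset, Coherence.coe_seqFinset]
      exact Coherence.seq_subset_bot K Z
    have h := Finset.sum_sdiff (f := fun φ : L → ℂ => (φ 1).re ^ 2 / Coherence.normSqFn φ) hsub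
    rw [Coherence.sum_seq, Coherence.sum_seq, Coherence.sum_irrNP, Coherence.sum_irrNP, hbotrel,
      ← hU, Finset.sum_congr rfl hterm, ← Nat.cast_sum, ← Finset.mul_sum] at h
    have he0 : (e : ℝ) ≠ 0 := Nat.cast_ne_zero.2 Subgroup.index_ne_zero_of_finite
    apply Nat.cast_injective (R := ℝ)
    rw [Nat.cast_sub hZlt.le]
    push_cast at h ⊢
    rw [← he] at h
    refine mul_left_cancel₀ he0 ?_
    linear_combination h
  have hZdvd : Z.relIndex K ∣ Nat.card K - Z.relIndex K := by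
    refine Nat.dvd_sub ?_ dvd_rfl
    exact (Z.subgroupOf K).index_dvd_card
  obtain ⟨φ₀, hφ₀, hmin⟩ := Finset.exists_min_image U a
    (by obtain ⟨x, hx⟩ := hXne; exact ⟨x, (hmemU x).2 hx⟩)
  set T₀ := U.filter fun φ => a φ = a φ₀ with hT₀
  have hXS : X ⊆ inducedIrrAbove K ⊥ := fun x hx => hx.1
  have haconj : ∀ φ ∈ U, a (conjFun φ) = a φ := by
    intro φ hφ
    have hφ' := (hmemU φ).1 hφ
    have h := (ha _ (hXc φ hφ')).1
    rw [Coherence.sys_conj_one hS (hXS hφ'), (ha φ hφ').1, Nat.cast_inj] at h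
    have h2 := Nat.eq_of_mul_eq_mul_left (Nat.pos_of_ne_zero Subgroup.index_ne_zero_of_finite) h
    exact (Nat.pow_right_injective hp.two_le h2).symm
  have hUc : ∀ φ ∈ U, conjFun φ ∈ U := fun φ h => (hmemU _).2 (hXc φ ((hmemU φ).1 h))
  have hT₀c : ∀ φ ∈ T₀, conjFun φ ∈ T₀ := fun φ h => by
    rw [hT₀, Finset.mem_filter] at h ⊢
    exact ⟨hUc φ h.1, by rw [haconj φ h.1, h.2]⟩
  have hcoh₀ : IsCoherent (↑T₀ : Set (L → ℂ)) {1}ᶜ τ := by
    refine S1517.result _ τ R (Coherence.sys_subset hS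
      (fun φ h => hXS ((hmemU φ).1 (Finset.mem_filter.1 h).1))
      ⟨φ₀, Finset.mem_filter.2 ⟨hφ₀, rfl⟩⟩ (fun φ h => hT₀c φ h)) (fun φ hφ ψ hψ => ?_)
    rw [Finset.mem_coe, hT₀, Finset.mem_filter] at hφ hψ
    rw [(ha φ ((hmemU φ).1 hφ.1)).1, (ha ψ ((hmemU ψ).1 hψ.1)).1, hφ.2, hψ.2]
  rw [← hUX]
  refine Coherence.coherent_grow hS (fun φ h => hXS ((hmemU φ).1 h)) hUc (Finset.filter_subset _ _)
    hT₀c hcoh₀ ?_
  intro T h0T hTU _ hne
  obtain ⟨χ, hχ, hχmin⟩ := Finset.exists_min_image (U \ T) a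
    (Finset.sdiff_nonempty.2 fun h => hne (subset_antisymm hTU h))
  obtain ⟨hχU, hχT⟩ := Finset.mem_sdiff.1 hχ
  have hlt : a φ₀ < a χ := lt_of_le_of_ne (hmin χ hχU)
    fun h => hχT (h0T (Finset.mem_filter.2 ⟨hχU, h.symm⟩))
  refine ⟨χ, hχU, hχT, φ₀, h0T (Finset.mem_filter.2 ⟨hφ₀, rfl⟩), p ^ (a χ - a φ₀), ?_, ?_⟩
  · rw [(ha χ ((hmemU χ).1 hχU)).1, (ha φ₀ ((hmemU φ₀).1 hφ₀)).1, ← Nat.cast_mul]
    congr 1
    rw [mul_comm (p ^ (a χ - a φ₀)), mul_assoc, ← pow_add, Nat.add_sub_cancel' hlt.le]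
  · set small := U.filter fun φ => a φ < a χ with hsmall
    have hsT : small ⊆ T := fun φ h => by
      rw [hsmall, Finset.mem_filter] at h
      by_contra hT
      exact absurd (hχmin φ (Finset.mem_sdiff.2 ⟨h.1, hT⟩)) (not_le.2 h.2)
    have hdiv : p ^ (2 * a χ) ∣ ∑ φ ∈ small, p ^ (2 * a φ) := by
      have h1 : p ^ (2 * a χ) ∣ ∑ φ ∈ U, p ^ (2 * a φ) := by
        refine (Nat.Coprime.pow_left _ hcop.symm).dvd_of_dvd_mul_left ?_
        rw [hkey]
        exact ((ha χ ((hmemU χ).1 hχU)).2).trans hZdvd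
      rw [← Finset.sum_filter_add_sum_filter_not U (fun φ => a φ < a χ)] at h1
      refine (Nat.dvd_add_left (Finset.dvd_sum fun φ hφ => pow_dvd_pow p ?_)).1 h1
      have := (Finset.mem_filter.1 hφ).2
      omega
    have hpos : 0 < ∑ φ ∈ small, p ^ (2 * a φ) :=
      lt_of_lt_of_le (Nat.pow_pos (n := 2 * a φ₀) hp.pos)
        (Finset.single_le_sum (f := fun φ => p ^ (2 * a φ)) (fun φ _ => Nat.zero_le _)
          (Finset.mem_filter.2 ⟨hφ₀, hlt⟩ : φ₀ ∈ small))
    have hge := Nat.le_of_dvd hpos hdiv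
    have hw : ((e ^ 2 * p ^ (2 * a χ) : ℕ) : ℝ) ≤ Coherence.weight T := by
      refine le_trans ?_ (Coherence.weight_mono hsT)
      rw [Coherence.weight, Finset.sum_congr rfl fun φ hφ => hterm φ (Finset.mem_filter.1 hφ).1,
        ← Nat.cast_sum, ← Finset.mul_sum]
      exact_mod_cast Nat.mul_le_mul_left _ hge
    refine lt_of_lt_of_le ?_ hw
    rw [(ha χ ((hmemU χ).1 hχU)).1, (ha φ₀ ((hmemU φ₀).1 hφ₀)).1, Complex.natCast_re,
      Complex.natCast_re]
    norm_cast
    have hp3 : 3 ≤ p := by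
      have h2 := hp.two_le
      rcases Nat.eq_zero_or_pos m with h0 | h0
      · rw [h0, pow_zero] at hm
        have h7 : Z.relIndex K ≠ 0 := Subgroup.index_ne_zero_of_finite
        omega
      have hpo : Odd p := hodd' p (((dvd_pow_self p h0.ne').trans (hm ▸ dvd_rfl)).trans
        K.card_subgroup_dvd_card)
      obtain ⟨j, hj⟩ := hpo
      omega
    have h3 : 2 * p ^ a φ₀ < p ^ a χ := by
      have h1 : p ^ (a φ₀ + 1) ≤ p ^ a χ := Nat.pow_le_pow_right hp.pos hlt
      have h2 : 3 * p ^ a φ₀ ≤ p ^ (a φ₀ + 1) := by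
        rw [pow_succ, mul_comm]; exact Nat.mul_le_mul_left _ hp3
      have := Nat.pow_pos (n := a φ₀) hp.pos
      omega
    calc 2 * (e * p ^ a χ) * (e * p ^ a φ₀) = (2 * p ^ a φ₀) * (e ^ 2 * p ^ a χ) := by ring
      _ < p ^ a χ * (e ^ 2 * p ^ a χ) := Nat.mul_lt_mul_of_pos_right h3
          (Nat.mul_pos (Nat.pow_pos (Nat.pos_of_ne_zero Subgroup.index_ne_zero_of_finite))
            (Nat.pow_pos hp.pos))
      _ = e ^ 2 * p ^ (2 * a χ) := by ring


end Cfsg.Agent.S1522
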