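import Cfsg.Statements.S1523
import Cfsg.Agent.Lib.CharClifford.Central
import Cfsg.Agent.Lib.CharClifford.Galois
import Cfsg.Agent.Coherence.Virtual
import Cfsg.Agent.Lib.CharCore.Basic
import Mathlib.GroupTheory.Sylow
import Mathlib.GroupTheory.GroupAction.ConjAct

set_option autoImplicit false
open Cfsg

namespace Cfsg.Agent.S1523

/-- A sum over a free action of an invariant integral function is a multiple of the group order. -/
theorem sum_free {K X : Type*} [Group K] [Fintype K] [DecidableEq X] (a : K → X → X)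
    (hmul : ∀ g h x, a (g * h) x = a g (a h x)) (hone : ∀ x, a 1 x = x) (f : X → ℂ)
    (hf : ∀ g x, f (a g x) = f x) (s : Finset X) (hs : ∀ g, ∀ x ∈ s, a g x ∈ s)
    (hfree : ∀ x ∈ s, ∀ g, a g x = x → g = 1) (hint : ∀ x ∈ s, IsIntegral ℤ (f x)) :
    ∃ y : ℂ, IsIntegral ℤ y ∧ ∑ x ∈ s, f x = (Nat.card K : ℂ) * y := by
  induction s using Finset.strongInduction with
  | H s ih =>
    rcases s.eq_empty_or_nonempty with rfl | ⟨x, hx⟩
    · exact ⟨0, isIntegral_zero, by simp⟩
    set o := Finset.univ.image fun g => a g x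
    have hinv : ∀ g y, a g⁻¹ (a g y) = y := fun g y => by rw [← hmul, inv_mul_cancel, hone]
    have hinj : Function.Injective fun g => a g x := fun g h he => by
      have := hfree x hx (g⁻¹ * h) (by
        rw [hmul, ← show a g x = a h x from he, hinv])
      exact inv_mul_eq_one.1 this
    have hos : o ⊆ s := fun y hy => by
      obtain ⟨g, -, rfl⟩ := Finset.mem_image.1 hy
      exact hs g x hx
    obtain ⟨y, hy, hys⟩ := ih (s \ o)
      (Finset.sdiff_ssubset hos ⟨x, Finset.mem_image.2 ⟨1, Finset.mem_univ _, hone x⟩⟩)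
      (fun g z hz => by
        rw [Finset.mem_sdiff] at hz ⊢
        refine ⟨hs g z hz.1, fun h => hz.2 ?_⟩
        obtain ⟨k, -, hk⟩ := Finset.mem_image.1 h
        exact Finset.mem_image.2 ⟨g⁻¹ * k, Finset.mem_univ _, by rw [hmul, hk, hinv]⟩)
      (fun z hz => hfree z (Finset.mem_sdiff.1 hz).1) (fun z hz => hint z (Finset.mem_sdiff.1 hz).1)
    refine ⟨y + f x, hy.add (hint x hx), ?_⟩
    rw [← Finset.sum_sdiff hos, hys, Finset.sum_image hinj.injOn]
    simp only [hf, Finset.sum_const, Finset.card_univ, nsmul_eq_mul, ← Nat.card_eq_fintype_card]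
    ring

open Classical in
/-- The sum of an irreducible character over a product of two classes. -/
theorem class_sum {G V : Type*} [Group G] [Fintype G] [AddCommGroup V] [Module ℂ V]
    [FiniteDimensional ℂ V] (ρ : Representation ℂ G V) [ρ.IsIrreducible] (z w : G) :
    ∑ x ∈ (Finset.univ.filter fun x => ConjClasses.mk x = ConjClasses.mk z) ×ˢ
        (Finset.univ.filter fun x => ConjClasses.mk x = ConjClasses.mk w),
      ρ.character (x.1 * x.2) = CharClifford.omega ρ (ConjClasses.mk z) *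
        ((Finset.univ.filter fun x => ConjClasses.mk x = ConjClasses.mk w).card *
          ρ.character w) := by
  have hw : ((Finset.univ.filter fun x => ConjClasses.mk x = ConjClasses.mk w).card : ℂ) *
      ρ.character w = CharClifford.omega ρ (ConjClasses.mk w) * Module.finrank ℂ V := by
    rw [CharClifford.omega_mul_finrank ρ w]
    congr!
  rw [hw, ← CharClifford.scalar_eq_of_trace
    (CharClifford.classSum_eq ρ (ConjClasses.mk w)), ← smul_eq_mul, ← map_smul,
    ← one_mul (CharClifford.classSum ρ (ConjClasses.mk w)), ← smul_mul_assoc,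
    ← CharClifford.classSum_eq ρ (ConjClasses.mk z)]
  have key : ∀ (s t : Finset G),
      LinearMap.trace ℂ V ((∑ x ∈ s, ρ x) * (∑ y ∈ t, ρ y)) =
        ∑ x ∈ s, ∑ y ∈ t, LinearMap.trace ℂ V (ρ x * ρ y) := by
    intro s t
    rw [Finset.sum_mul, map_sum]
    refine Finset.sum_congr rfl fun x _ => ?_
    rw [Finset.mul_sum, map_sum]
  unfold CharClifford.classSum
  rw [key, Finset.sum_product]
  refine Finset.sum_congr (by ext; simp) fun x _ => Finset.sum_congr (by ext; simp) fun y _ => ?_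
  unfold Representation.character
  rw [map_mul]

/-- A non-identity element of odd order is not inverted by an element of odd order. -/
theorem not_inverted {G : Type*} [Group G] {g z : G} (hg : Odd (orderOf g)) (hz : Odd (orderOf z))
    (h : g * z * g⁻¹ = z⁻¹) : z = 1 := by
  have h2 : Commute (g ^ 2) z := by
    have e : g * z⁻¹ * g⁻¹ = z := by
      have := congrArg (·⁻¹) h
      simpa [mul_assoc] using this
    show g ^ 2 * z = z * g ^ 2
    rw [pow_two]
    calc g * g * z = g * (g * z * g⁻¹) * g⁻¹ * (g * g) := by group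
      _ = z * (g * g) := by rw [h, e]
  obtain ⟨k, hk⟩ := hg
  have hgk : (g ^ 2) ^ (k + 1) = g := by
    rw [← pow_mul, show 2 * (k + 1) = orderOf g + 1 by omega, pow_succ, pow_orderOf_eq_one, one_mul]
  have h1 : Commute g z := hgk ▸ h2.pow_left (k + 1)
  rw [h1.eq, mul_inv_cancel_right] at h
  have hz2 : z ^ 2 = 1 := by rw [pow_two]; nth_rw 1 [h]; exact inv_mul_cancel z
  obtain ⟨j, hj⟩ := hz
  have := pow_orderOf_eq_one z
  rwa [hj, pow_succ, pow_mul, hz2, one_pow, one_mul] at this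


/-- Let G be a finite group, p a prime, P a Sylow p-subgroup whose underlying set is a TI-subset of G, with L the set normaliser of P of odd order. Let Z ≠ ⊥ be a subgroup of P, normal in L and central in P, such that the centralisers in L of any two non-identity elements of Z have the same order. If ψ is an irreducible character of G taking the same value at all non-identity elements of Z, then for z ∈ Z, z ≠ 1, the value ψ z is an integer n with Nat.card P dividing ψ(1) − n (as integers, ψ 1 being the degree). -/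
theorem result {G : Type*} [Group G] [Finite G] (p : ℕ) [Fact p.Prime] (P : Sylow p G) (hTI : Cfsg.IsTISubset ((P : Subgroup G) : Set G)) (hodd : Odd (Nat.card (Subgroup.normalizer ((P : Subgroup G) : Set G)))) (Z : Subgroup G) (hZ1 : Z ≠ ⊥) (hZP : Z ≤ P) (hZn : ∀ x ∈ Subgroup.normalizer ((P : Subgroup G) : Set G), ∀ z ∈ Z, x * z * x⁻¹ ∈ Z) (hZc : ∀ z ∈ Z, ∀ y ∈ (P : Subgroup G), z * y = y * z) (hCL : ∀ z ∈ Z, ∀ z' ∈ Z, z ≠ 1 → z' ≠ 1 → Nat.card ↥(Subgroup.normalizer ((P : Subgroup G) : Set G) ⊓ Subgroup.centralizer ({z} : Set G)) = Nat.card ↥(Subgroup.normalizer ((P : Subgroup G) : Set G) ⊓ Subgroup.centralizer ({z'} : Set G))) (ψ : G → ℂ) (hψ : Cfsg.IsIrrCharacter G ψ) (hconst : ∀ z ∈ Z, ∀ z' ∈ Z, z ≠ 1 → z' ≠ 1 → ψ z = ψ z') (z : G) (hz : z ∈ Z) (hz1 : z ≠ 1) : ∃ n d : ℤ, ψ z = n ∧ ψ 1 = d ∧ (Nat.card (P : Subgroup G) : ℤ) ∣ d - n := by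
  classical
  haveI := Fintype.ofFinite G
  obtain ⟨dn, ρ, hirr, rfl⟩ := hψ
  haveI := hirr
  set ψ := ρ.character
  set P' : Subgroup G := (P : Subgroup G)
  set L := Subgroup.normalizer (P' : Set G)
  have hPL : P' ≤ L := Subgroup.le_normalizer
  have hoL : ∀ g ∈ L, Odd (orderOf g) := fun g hg => by
    rw [← Subgroup.orderOf_mk g hg]
    exact hodd.of_dvd_nat (orderOf_dvd_natCard _)
  have hzP := hZP hz
  have hnc : ¬ IsConj z z⁻¹ := fun h => by
    obtain ⟨g, hg⟩ := isConj_iff.1 h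
    have hgL : g ∈ L := by
      by_contra hgL
      exact hz1 (hTI g hgL z hzP (hg ▸ P'.inv_mem hzP))
    exact hz1 (not_inverted (hoL g hgL) (hoL z (hPL hzP)) hg)
  set F : G → Finset G := fun w => Finset.univ.filter fun x => ConjClasses.mk x = ConjClasses.mk w
  have hF : ∀ {w x}, x ∈ F w ↔ IsConj x w := fun {w x} => by
    simp [F, ConjClasses.mk_eq_mk_iff_isConj]
  set N : G → Finset G := fun w => (F w).filter fun x => x ∈ Z
  have hN : ∀ {w x}, x ∈ N w ↔ IsConj x w ∧ x ∈ Z := fun {w x} => by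
    simp only [N, Finset.mem_filter, hF]
  have hne1 : ∀ {w x : G}, w ≠ 1 → IsConj x w → x ≠ 1 := fun {w x} hw h e => hw (by
    subst e
    exact isConj_one_right.1 h)
  -- a `P'`-centralised element of a class meeting `Z` lies in `Z`
  have hfix : ∀ {w x}, w ∈ Z → w ≠ 1 → IsConj x w → ∀ t ∈ P', t ≠ 1 → t * x * t⁻¹ = x → x ∈ Z := by
    intro w x hw hw1 hxw t ht ht1 hfx
    have hxL : x ∈ L := by
      by_contra hxL
      refine ht1 (hTI x hxL t ht ?_)
      have : x * t = t * x := (mul_inv_eq_iff_eq_mul.1 hfx).symm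
      rw [this, mul_inv_cancel_right]
      exact ht
    obtain ⟨g, hg⟩ := isConj_iff.1 hxw.symm
    have hxP : x ∈ P' := by
      have hx : IsPGroup p (Subgroup.zpowers x) := by
        obtain ⟨k, hk⟩ := P.2 ⟨w, hZP hw⟩
        have hk' : w ^ p ^ k = 1 := by simpa using congrArg Subtype.val hk
        intro y
        obtain ⟨i, hi⟩ := Subgroup.mem_zpowers_iff.1 y.2
        refine ⟨k, Subtype.ext ?_⟩
        show (y : G) ^ p ^ k = 1
        rw [← hi, ← zpow_natCast, ← zpow_mul, mul_comm i, zpow_mul, zpow_natCast, ← hg,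
          conj_pow, hk', mul_one, mul_inv_cancel, one_zpow]
      have hp := hx.to_sup_of_normal_right' P.2 (Subgroup.zpowers_le.2 hxL)
      show x ∈ (P : Subgroup G)
      rw [← P.3 hp le_sup_right]
      exact (le_sup_left : Subgroup.zpowers x ≤ Subgroup.zpowers x ⊔ P')
        (Subgroup.mem_zpowers x)
    have hgL : g ∈ L := by
      by_contra hgL
      exact hw1 (hTI g hgL w (hZP hw) (hg.symm ▸ hxP))
    exact hg ▸ hZn g hgL w hw
  -- values
  have hconjψ : ∀ g x, ψ (g * x * g⁻¹) = ψ x := fun g x => Representation.char_conj ρ x g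
  have hval : ∀ x ∈ Z, x ≠ 1 → ψ x = ψ z := fun x hx hx1 => hconst x hx z hz hx1 hz1
  have hz' : z⁻¹ ∈ Z := Z.inv_mem hz
  have hz1' : z⁻¹ ≠ 1 := inv_ne_one.2 hz1
  -- the free part
  have hbad : ∀ w, w ∈ Z → w ≠ 1 → ∃ y, IsIntegral ℤ y ∧
      ∑ x ∈ F z ×ˢ F w, ψ (x.1 * x.2) = (Nat.card P' : ℂ) * y +
        ∑ x ∈ N z ×ˢ N w, ψ (x.1 * x.2) := by
    intro w hw hw1
    have hsub : N z ×ˢ N w ⊆ F z ×ˢ F w :=
      Finset.product_subset_product (Finset.filter_subset _ _) (Finset.filter_subset _ _)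
    obtain ⟨y, hy, hys⟩ := sum_free (K := P')
      (fun t x => ((t : G) * x.1 * (t : G)⁻¹, (t : G) * x.2 * (t : G)⁻¹))
      (fun g h x => by simp [mul_assoc]) (fun x => by simp) (fun x : G × G => ψ (x.1 * x.2))
      (fun g x => by
        rw [show (g : G) * x.1 * (g : G)⁻¹ * ((g : G) * x.2 * (g : G)⁻¹) =
          (g : G) * (x.1 * x.2) * (g : G)⁻¹ by group, hconjψ])
      ((F z ×ˢ F w) \ (N z ×ˢ N w))
      (fun g x hx => by
        simp only [Finset.mem_sdiff, Finset.mem_product, hF, hN] at hx ⊢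
        have hc : ∀ u : G, IsConj ((g : G) * u * (g : G)⁻¹) u := fun u =>
          ((isConj_iff (a := u)).2 ⟨(g : G), rfl⟩).symm
        refine ⟨⟨(hc _).trans hx.1.1, (hc _).trans hx.1.2⟩, fun h => hx.2 ?_⟩
        have hback : ∀ u : G, (g : G) * u * (g : G)⁻¹ ∈ Z → u ∈ Z := fun u hu => by
          have := hZn _ (hPL (P'.inv_mem g.2)) _ hu
          simpa [mul_assoc] using this
        exact ⟨⟨hx.1.1, hback _ h.1.2⟩, hx.1.2, hback _ h.2.2⟩)
      (fun x hx g hg => by
        simp only [Finset.mem_sdiff, Finset.mem_product, hF, hN] at hx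
        by_contra hg1
        have hg1' : (g : G) ≠ 1 := fun e => hg1 (Subtype.ext e)
        rw [Prod.ext_iff] at hg
        exact hx.2 ⟨⟨hx.1.1, hfix hz hz1 hx.1.1 g g.2 hg1' hg.1⟩,
          hx.1.2, hfix hw hw1 hx.1.2 g g.2 hg1' hg.2⟩)
      (fun x _ => CharClifford.isIntegral_character ρ _)
    exact ⟨y, hy, by rw [← Finset.sum_sdiff hsub, hys]⟩
  -- the class sums
  have hT : ∀ w, ∑ x ∈ F z ×ˢ F w, ψ (x.1 * x.2) =
      CharClifford.omega ρ (ConjClasses.mk z) * ((F w).card * ψ w) := fun w => class_sum ρ z w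
  have hinvF : ∀ {x}, IsConj x z ↔ IsConj x⁻¹ z⁻¹ := fun {x} => by
    simp only [isConj_iff]
    constructor <;> rintro ⟨c, hc⟩ <;> refine ⟨c, ?_⟩
    · rw [← hc, conj_inv]
    · rw [← inv_inv z, ← hc, conj_inv, inv_inv]
  have hFcard : (F z⁻¹).card = (F z).card :=
    Finset.card_bij' (fun x _ => x⁻¹) (fun x _ => x⁻¹)
      (fun x hx => hF.2 (hinvF.2 (by rw [inv_inv]; exact hF.1 hx)))
      (fun x hx => hF.2 (hinvF.1 (hF.1 hx)))
      (fun x _ => inv_inv x) (fun x _ => inv_inv x)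
  have hNcard : (N z⁻¹).card = (N z).card :=
    Finset.card_bij' (fun x _ => x⁻¹) (fun x _ => x⁻¹)
      (fun x hx => hN.2 ⟨hinvF.2 (by rw [inv_inv]; exact (hN.1 hx).1), Z.inv_mem (hN.1 hx).2⟩)
      (fun x hx => hN.2 ⟨hinvF.1 (hN.1 hx).1, Z.inv_mem (hN.1 hx).2⟩)
      (fun x _ => inv_inv x) (fun x _ => inv_inv x)
  obtain ⟨y₁, hy₁, e₁⟩ := hbad z hz hz1
  obtain ⟨y₂, hy₂, e₂⟩ := hbad z⁻¹ hz' hz1'
  have hgood₁ : ∑ x ∈ N z ×ˢ N z, ψ (x.1 * x.2) = ((N z).card : ℂ) * ((N z).card * ψ z) := by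
    have hcst : ∀ x ∈ N z ×ˢ N z, ψ (x.1 * x.2) = ψ z := by
      intro x hx
      obtain ⟨h1, h2⟩ := Finset.mem_product.1 hx
      refine hval _ (Z.mul_mem (hN.1 h1).2 (hN.1 h2).2) fun e => hnc ?_
      have h3 := hinvF.1 (hN.1 h1).1
      rw [← eq_inv_of_mul_eq_one_right e] at h3
      exact (hN.1 h2).1.symm.trans h3
    rw [Finset.sum_congr rfl hcst, Finset.sum_const, nsmul_eq_mul, Finset.card_product]
    push_cast
    ring
  have hgood₂ : ∑ x ∈ N z ×ˢ N z⁻¹, ψ (x.1 * x.2) =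
      ((N z).card : ℂ) * ((((N z).card : ℂ) - 1) * ψ z + ψ 1) := by
    rw [Finset.sum_product, ← nsmul_eq_mul, ← Finset.sum_const]
    refine Finset.sum_congr rfl fun x hx => ?_
    have hxi : x⁻¹ ∈ N z⁻¹ := hN.2 ⟨hinvF.1 (hN.1 hx).1, Z.inv_mem (hN.1 hx).2⟩
    rw [← Finset.add_sum_erase _ _ hxi, mul_inv_cancel, Finset.sum_congr rfl (fun y hy => ?_),
      Finset.sum_const, nsmul_eq_mul, Finset.card_erase_of_mem hxi, hNcard,
      Nat.cast_sub (Finset.card_pos.2 ⟨x, hx⟩), Nat.cast_one, add_comm]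
    obtain ⟨hy1, hy2⟩ := Finset.mem_erase.1 hy
    exact hval _ (Z.mul_mem (hN.1 hx).2 (hN.1 hy2).2) fun e => hy1 (eq_inv_of_mul_eq_one_right e)
  -- `|N z|` is prime to `p`
  have hpN : ¬ p ∣ (N z).card := by
    intro hpN
    have hNF : N z ⊆ F z := Finset.filter_subset _ _
    obtain ⟨y, hy, hys⟩ := sum_free (K := P') (fun t x => (t : G) * x * (t : G)⁻¹)
      (fun g h x => by simp [mul_assoc]) (fun x => by simp) (fun _ : G => (1 : ℂ))
      (fun _ _ => rfl) (F z \ N z)
      (fun g x hx => by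
        simp only [Finset.mem_sdiff, hF, hN] at hx ⊢
        refine ⟨(((isConj_iff (a := x)).2 ⟨(g : G), rfl⟩).symm).trans hx.1, fun h => hx.2 ⟨hx.1, ?_⟩⟩
        have := hZn _ (hPL (P'.inv_mem g.2)) _ h.2
        simpa [mul_assoc] using this)
      (fun x hx g hg => by
        simp only [Finset.mem_sdiff, hF, hN] at hx
        by_contra hg1
        exact hx.2 ⟨hx.1, hfix hz hz1 hx.1 g g.2 (fun e => hg1 (Subtype.ext e)) hg⟩)
      (fun _ _ => isIntegral_one)
    have hdvd : Nat.card P' ∣ (F z \ N z).card :=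
      CharClifford.dvd_of_mul_isIntegral hy (by simpa using hys)
    have hpP : p ∣ Nat.card P' := by
      obtain ⟨k, hk⟩ := IsPGroup.iff_card.1 P.2
      rw [hk]
      refine dvd_pow_self p fun h0 => hz1 ?_
      rw [h0, pow_zero, Subgroup.card_eq_one] at hk
      exact Subgroup.mem_bot.1 (hk ▸ hzP : z ∈ (⊥ : Subgroup G))
    have hcard : (F z).card = (Subgroup.centralizer ({z} : Set G)).index := by
      have e : (ConjClasses.mk z).carrier = ↑(F z) := by
        ext x
        simp [F, ConjClasses.mem_carrier_iff_mk_eq]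
      have h := congrArg Set.ncard (ConjAct.orbit_eq_carrier_conjClasses z)
      rw [← MulAction.index_stabilizer, e, Set.ncard_coe_finset] at h
      rw [← h, Subgroup.centralizer_eq_comap_stabilizer]
      exact (Subgroup.index_comap_of_surjective _ (MulEquiv.surjective _)).symm
    have hle : P' ≤ Subgroup.centralizer ({z} : Set G) := fun t ht =>
      Subgroup.mem_centralizer_singleton_iff.2 (hZc z hz t ht).symm
    refine P.not_dvd_index (dvd_trans ?_ (Subgroup.index_dvd_of_le hle))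
    rw [← hcard, ← Finset.card_sdiff_add_card_eq_card hNF]
    exact dvd_add (hpP.trans hdvd) hpN
  -- the value is an integer
  obtain ⟨n, hn⟩ : ∃ n : ℤ, ψ z = n := by
    have hres : IsCharacter Z (fun x : Z => ψ x) :=
      CharCore.isCharacter_restrict ⟨dn, ρ, rfl⟩ Z
    obtain ⟨k, hk⟩ := Coherence.inner_char_nat hres (CharCore.isCharacter_one (G := Z))
    simp only [classInner, Pi.one_apply, map_one, mul_one] at hk
    have hsum : ∑ x : Z, ψ x = ψ 1 + ((Fintype.card Z : ℂ) - 1) * ψ z := by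
      rw [← Finset.add_sum_erase _ _ (Finset.mem_univ (1 : Z)),
        Finset.sum_congr rfl (fun (x : Z) hx => hval x x.2 fun e =>
          (Finset.mem_erase.1 hx).1 (Subtype.ext e)), Finset.sum_const, nsmul_eq_mul,
        Finset.card_erase_of_mem (Finset.mem_univ _), Finset.card_univ,
        Nat.cast_sub Fintype.card_pos, Nat.cast_one]
      rfl
    rw [hsum, Nat.card_eq_fintype_card] at hk
    have hd1 : ψ 1 = (dn : ℂ) := by simp [ψ]
    have hgt : 1 < Fintype.card Z :=
      Fintype.one_lt_card_iff.2 ⟨⟨z, hz⟩, 1, fun e => hz1 (congrArg Subtype.val e)⟩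
    have hq : ψ z = ((((Fintype.card Z : ℚ) * k - dn) / ((Fintype.card Z : ℚ) - 1) : ℚ) : ℂ) := by
      have h0 : ((Fintype.card Z : ℂ) - 1) ≠ 0 := by
        rw [sub_ne_zero]; exact_mod_cast hgt.ne'
      push_cast
      rw [eq_div_iff h0, ← hk, hd1, mul_inv_cancel_left₀ (by exact_mod_cast Fintype.card_ne_zero)]
      ring
    obtain ⟨n, hn⟩ := CharClifford.exists_int_of_isIntegral_rat
      (show IsIntegral ℤ _ by rw [← hq]; exact CharClifford.isIntegral_character ρ z)
    exact ⟨n, by rw [hq, hn]; simp⟩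
  refine ⟨n, dn, hn, by simp [ψ], ?_⟩
  have hT1 := hT z
  have hT2 := hT z⁻¹
  rw [hFcard, hval _ hz' hz1'] at hT2
  rw [e₁, hgood₁] at hT1
  rw [e₂, hgood₂] at hT2
  have key : ((((N z).card : ℤ) * ((dn : ℤ) - n) : ℤ) : ℂ) = (Nat.card P' : ℂ) * (y₁ - y₂) := by
    have hd1 : ψ 1 = (dn : ℂ) := by simp [ψ]
    rw [hd1, hn] at hT2
    rw [hn] at hT1
    push_cast
    linear_combination hT2 - hT1
  have hq : y₁ - y₂ = (((((N z).card : ℤ) * ((dn : ℤ) - n) : ℤ) : ℚ) / Nat.card P' : ℚ) := by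
    rw [Rat.cast_div, Rat.cast_intCast, key, Rat.cast_natCast,
      mul_div_cancel_left₀ _ (Nat.cast_ne_zero.2 Nat.card_pos.ne')]
  obtain ⟨m, hm⟩ := CharClifford.exists_int_of_isIntegral_rat (hq ▸ hy₁.sub hy₂)
  have hdvd : (Nat.card P' : ℤ) ∣ ((N z).card : ℤ) * ((dn : ℤ) - n) := by
    refine ⟨m, ?_⟩
    rw [div_eq_iff (Nat.cast_ne_zero.2 Nat.card_pos.ne')] at hm
    rw [mul_comm (Nat.card P' : ℤ)]
    exact_mod_cast hm
  refine IsCoprime.dvd_of_dvd_mul_left ?_ hdvd
  rw [Int.isCoprime_iff_nat_coprime, Int.natAbs_natCast, Int.natAbs_natCast]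
  obtain ⟨k, hk⟩ := IsPGroup.iff_card.1 P.2
  rw [hk]
  exact ((Nat.Prime.coprime_iff_not_dvd Fact.out).2 hpN).pow_left k

end Cfsg.Agent.S1523
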