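import Cfsg.Statements.S1531
import Cfsg.Agent.Coherence.Irr

set_option autoImplicit false
open Cfsg

namespace Cfsg.Agent.S1531

/-- Let N be a subgroup of the finite group G, S a set of irreducible characters of N, and α a linear isometry on the integer combinations of S vanishing at 1 with values virtual characters of G vanishing at 1. Let X, Y ⊆ S be disjoint, each with at least two members, and σ, τ linear isometries on ℤ[X], ℤ[Y] into virtual characters agreeing with α on the members vanishing at 1. Then ⟨σ χ, τ η⟩ = 0 for χ ∈ X, η ∈ Y; and if for some χ₀ ∈ X, η₀ ∈ Y with degrees c = χ₀ 1, e = η₀ 1 one has α (c • η₀ − e • χ₀) = c • τ η₀ − e • σ χ₀, then (X ∪ Y, N minus 1, α) is coherent. -/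
theorem result {G : Type*} [Group G] [Fintype G] (N : Subgroup G) [Fintype N] (S X Y : Set (N → ℂ)) (hirr : ∀ ξ ∈ S, Cfsg.IsIrrCharacter N ξ) (hXS : X ⊆ S) (hYS : Y ⊆ S) (hXY : Disjoint X Y) (hX2 : ∃ a ∈ X, ∃ b ∈ X, a ≠ b) (hY2 : ∃ a ∈ Y, ∃ b ∈ Y, a ≠ b) (α : (N → ℂ) → (G → ℂ)) (hα : Cfsg.IsLinearIsometryOn (Cfsg.zspanOn S {1}ᶜ) α) (hα1 : ∀ θ ∈ Cfsg.zspanOn S {1}ᶜ, α θ 1 = 0) (σ τ : (N → ℂ) → (G → ℂ)) (hσ : Cfsg.IsLinearIsometryOn (Cfsg.zspan X) σ) (hσα : ∀ θ ∈ Cfsg.zspanOn X {1}ᶜ, σ θ = α θ) (hτ : Cfsg.IsLinearIsometryOn (Cfsg.zspan Y) τ) (hτα : ∀ θ ∈ Cfsg.zspanOn Y {1}ᶜ, τ θ = α θ) : (∀ χ ∈ X, ∀ η ∈ Y, Cfsg.classInner (σ χ) (τ η) = 0) ∧ ((∃ χ₀ ∈ X, ∃ η₀ ∈ Y, α (χ₀ 1 • η₀ - η₀ 1 • χ₀) = χ₀ 1 • τ η₀ - η₀ 1 • σ χ₀) → Cfsg.IsCoherent (X ∪ Y) {1}ᶜ α) := by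
  classical
  have hdeg : ∀ ξ ∈ S, ∃ d : ℕ, ξ 1 = d ∧ 0 < d := fun ξ h =>
    (Coherence.char_one_nat (Coherence.irr_isCharacter (hirr ξ h))).imp
      fun d hd => ⟨hd.1, hd.2 (Coherence.irr_ne_zero (hirr ξ h))⟩
  have hd' : ∀ ξ, ∃ d : ℕ, ξ ∈ S → ξ 1 = d ∧ 0 < d := fun ξ => by
    by_cases h : ξ ∈ S
    · exact (hdeg ξ h).imp fun d hd _ => hd
    · exact ⟨0, fun h' => absurd h' h⟩
  choose d hd using hd'
  have hη : ∀ (Z : Set (N → ℂ)), Z ⊆ S → ∀ p ∈ Z, ∀ q ∈ Z,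
      ((d q : ℤ) • p - (d p : ℤ) • q) ∈ zspanOn Z {1}ᶜ := fun Z hZ p hp q hq =>
    Coherence.mem_zspanOn_one.2
      ⟨Coherence.zspan_sub (Coherence.zspan_zsmul _ (Coherence.zspan_subset hp))
        (Coherence.zspan_zsmul _ (Coherence.zspan_subset hq)),
        by simp [(hd p (hZ hp)).1, (hd q (hZ hq)).1]; ring⟩
  have hmap : ∀ (Z : Set (N → ℂ)) (ρ : (N → ℂ) → (G → ℂ)), IsLinearIsometryOn (zspan Z) ρ →
      ∀ p ∈ Z, ∀ q ∈ Z, ∀ m n : ℤ, ρ (m • p - n • q) = m • ρ p - n • ρ q :=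
    fun Z ρ hρ p hp q hq m n => by
      rw [Coherence.iso_map_sub hρ (Coherence.zspan_zsmul _ (Coherence.zspan_subset hp))
        (Coherence.zspan_zsmul _ (Coherence.zspan_subset hq))
        (Coherence.zspan_neg (Coherence.zspan_zsmul _ (Coherence.zspan_subset hq))),
        hρ.2.1 _ (Coherence.zspan_subset hp), hρ.2.1 _ (Coherence.zspan_subset hq)]
  have hpm : ∀ (Z : Set (N → ℂ)) (ρ : (N → ℂ) → (G → ℂ)), Z ⊆ S → IsLinearIsometryOn (zspan Z) ρ →
      ∀ p ∈ Z, IsGeneralizedCharacter G (ρ p) ∧ classInner (ρ p) (ρ p) = 1 :=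
    fun Z ρ hZ hρ p hp => ⟨hρ.2.2.2 _ (Coherence.zspan_subset hp), by
      rw [hρ.2.2.1 _ (Coherence.zspan_subset hp) _ (Coherence.zspan_subset hp),
        Coherence.irr_inner_self (hirr p (hZ hp))]⟩
  have main : ∀ χ ∈ X, ∀ η ∈ Y, classInner (σ χ) (τ η) = 0 := by
    intro a ha c hc
    by_contra hg
    obtain ⟨b, hb, hba⟩ : ∃ b ∈ X, b ≠ a := by
      obtain ⟨p, hp, q, hq, hne⟩ := hX2
      by_cases h : p = a
      · exact ⟨q, hq, fun e => hne (h.trans e.symm)⟩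
      · exact ⟨p, hp, h⟩
    obtain ⟨f, hf, hfc⟩ : ∃ f ∈ Y, f ≠ c := by
      obtain ⟨p, hp, q, hq, hne⟩ := hY2
      by_cases h : p = c
      · exact ⟨q, hq, fun e => hne (h.trans e.symm)⟩
      · exact ⟨p, hp, h⟩
    obtain ⟨hga, hna⟩ := hpm X σ hXS hσ a ha
    obtain ⟨hgb, hnb⟩ := hpm X σ hXS hσ b hb
    obtain ⟨hgc, hnc⟩ := hpm Y τ hYS hτ c hc
    obtain ⟨hgf, hnf⟩ := hpm Y τ hYS hτ f hf
    have pm : ∀ u v : G → ℂ, IsGeneralizedCharacter G u → classInner u u = 1 →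
        IsGeneralizedCharacter G v → classInner v v = 1 →
        classInner u v = 0 ∨ u = classInner u v • v := by
      intro u v hu hu1 hv hv1
      by_cases h : classInner u v = 0
      · exact Or.inl h
      · refine Or.inr ?_
        have key : ∀ μ ν : G → ℂ, IsIrrCharacter G μ → IsIrrCharacter G ν →
            classInner μ ν ≠ 0 → μ = ν := fun μ ν hμ hν hne => by
          by_contra h'; exact hne (Coherence.irr_inner_ne hμ hν h')
        rcases Coherence.gen_norm_one hu hu1 with hi | hi <;>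
          rcases Coherence.gen_norm_one hv hv1 with hj | hj
        · have e := key _ _ hi hj h
          rw [e, hv1, one_smul]
        · have e := key _ _ hi hj (by rwa [Coherence.inner_neg_right, neg_ne_zero])
          rw [e, Coherence.inner_neg_left, hv1]; simp
        · have e := key _ _ hi hj (by rwa [Coherence.inner_neg_left, neg_ne_zero])
          rw [show u = -v by rw [← e]; simp, Coherence.inner_neg_left, hv1]; simp
        · have e := key _ _ hi hj (by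
            rwa [Coherence.inner_neg_left, Coherence.inner_neg_right, neg_neg])
          rw [neg_inj.1 e, hv1, one_smul]
    have hac := (pm _ _ hga hna hgc hnc).resolve_left hg
    have hfc0 : classInner (τ c) (τ f) = 0 := by
      rw [hτ.2.2.1 _ (Coherence.zspan_subset hc) _ (Coherence.zspan_subset hf)]
      exact Coherence.irr_inner_ne (hirr c (hYS hc)) (hirr f (hYS hf)) (Ne.symm hfc)
    have haf : classInner (σ a) (τ f) = 0 := by
      rw [hac, Coherence.inner_smul_left, hfc0, mul_zero]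
    have hbc : classInner (σ b) (τ c) = 0 := by
      have h : classInner (σ b) (σ a) = 0 := by
        rw [hσ.2.2.1 _ (Coherence.zspan_subset hb) _ (Coherence.zspan_subset ha)]
        exact Coherence.irr_inner_ne (hirr b (hXS hb)) (hirr a (hXS ha)) hba
      rw [hac, Coherence.inner_smul_right] at h
      exact (mul_eq_zero.1 h).resolve_left (by simpa using hg)
    have h1 := hη X hXS a ha b hb
    have h2 := hη Y hYS c hc f hf
    have hiso := hα.2.2.1 _ (Coherence.zspanOn_mono hXS _ h1) _ (Coherence.zspanOn_mono hYS _ h2)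
    have hzero : ∀ p ∈ X, ∀ q ∈ Y, classInner p q = 0 := fun p hp q hq =>
      Coherence.irr_inner_ne (hirr p (hXS hp)) (hirr q (hYS hq))
        fun e => Set.disjoint_left.1 hXY hp (e ▸ hq)
    rw [← hσα _ h1, ← hτα _ h2, hmap X σ hσ a ha b hb, hmap Y τ hτ c hc f hf] at hiso
    simp only [Coherence.inner_sub_left, Coherence.inner_sub_right, Coherence.inner_zsmul_left,
      Coherence.inner_zsmul_right, haf, hbc, hzero a ha c hc, hzero a ha f hf, hzero b hb c hc,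
      hzero b hb f hf, Int.cast_natCast] at hiso
    have hv1 := hα1 _ (Coherence.zspanOn_mono hXS _ h1)
    have hv2 := hα1 _ (Coherence.zspanOn_mono hYS _ h2)
    rw [← hσα _ h1, hmap X σ hσ a ha b hb] at hv1
    rw [← hτα _ h2, hmap Y τ hτ c hc f hf] at hv2
    simp only [Coherence.zsmul_eq, Pi.sub_apply, Pi.smul_apply, smul_eq_mul,
      Int.cast_natCast] at hv1 hv2
    have hpos : ∀ ξ ∈ S, (d ξ : ℂ) ≠ 0 := fun ξ h => by exact_mod_cast (hd ξ h).2.ne'
    rcases pm _ _ hgb hnb hgf hnf with hbf | hbf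
    · rw [hbf] at hiso
      exact mul_ne_zero (hpos b (hXS hb)) (mul_ne_zero (hpos f (hYS hf)) hg)
        (by linear_combination hiso)
    · have e1 := congrFun hac 1
      have e2 := congrFun hbf 1
      simp only [Pi.smul_apply, smul_eq_mul] at e1 e2
      set g := classInner (σ a) (τ c)
      set g' := classInner (σ b) (τ f)
      have hT : τ c 1 ≠ 0 := Coherence.gen_norm_one_apply_one hgc hnc
      have hsum : (((d f) ^ 2 + (d c) ^ 2 : ℕ) : ℂ) * ((d b : ℂ) * g * τ c 1) = 0 := by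
        push_cast
        linear_combination (d c : ℂ) ^ 2 * hv1 + (d f : ℂ) * τ c 1 * hiso +
          (-(d b : ℂ) * (d c : ℂ) ^ 2) * e1 + ((d a : ℂ) * (d c : ℂ) ^ 2) * e2 +
          (-(d a : ℂ) * (d c : ℂ) * g') * hv2
      have hne : (((d f) ^ 2 + (d c) ^ 2 : ℕ) : ℂ) ≠ 0 := by
        have := (hd f (hYS hf)).2
        have h' : 0 < (d f) ^ 2 + (d c) ^ 2 := by positivity
        exact_mod_cast h'.ne'
      exact hne ((mul_eq_zero.1 hsum).resolve_right
        (mul_ne_zero (mul_ne_zero (hpos b (hXS hb)) hg) hT))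
  refine ⟨main, ?_⟩
  rintro ⟨χ₀, hχ₀, η₀, hη₀, hrel⟩
  have hU : (X ∪ Y) ⊆ S := Set.union_subset hXS hYS
  have hfin : (X ∪ Y).Finite := Coherence.finite_of_orthogonal
    (fun φ h => Coherence.irr_ne_zero (hirr φ (hU h)))
    (fun φ h ψ h' hne => Coherence.irr_inner_ne (hirr φ (hU h)) (hirr ψ (hU h')) hne)
  set U := hfin.toFinset
  have hmU : ∀ φ, φ ∈ U ↔ φ ∈ X ∪ Y := fun φ => hfin.mem_toFinset
  have h0 : ∀ φ ∈ U, φ ≠ 0 := fun φ h => Coherence.irr_ne_zero (hirr φ (hU ((hmU φ).1 h)))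
  have horth : ∀ φ ∈ U, ∀ ψ ∈ U, φ ≠ ψ → classInner φ ψ = 0 := fun φ h ψ h' hne =>
    Coherence.irr_inner_ne (hirr φ (hU ((hmU φ).1 h))) (hirr ψ (hU ((hmU ψ).1 h'))) hne
  set f : (N → ℂ) → (G → ℂ) := fun φ => if φ ∈ X then σ φ else τ φ with hf
  have hfX : ∀ φ ∈ X, f φ = σ φ := fun φ h => if_pos h
  have hfY : ∀ φ ∈ Y, f φ = τ φ := fun φ h => if_neg (Set.disjoint_right.1 hXY h)
  obtain ⟨p, hp, q, hq, hpq⟩ := hX2
  refine ⟨⟨(d q : ℤ) • p - (d p : ℤ) • q,
    Coherence.zspanOn_mono Set.subset_union_left _ (hη X hXS p hp q hq), fun e => ?_⟩, ?_⟩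
  · have := congrArg (fun z => classInner z p) e
    simp only [Coherence.inner_sub_left, Coherence.inner_zsmul_left, Coherence.inner_zero_left,
      Coherence.irr_inner_self (hirr p (hXS hp)),
      Coherence.irr_inner_ne (hirr q (hXS hq)) (hirr p (hXS hp)) (Ne.symm hpq)] at this
    simp [(hd q (hXS hq)).2.ne'] at this
  refine ⟨Coherence.orthExt U f, ?_, ?_⟩
  · have hgen : ∀ φ ∈ U, IsGeneralizedCharacter G (f φ) := fun φ h => by
      rcases (hmU φ).1 h with h' | h'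
      · rw [hfX φ h']; exact hσ.2.2.2 _ (Coherence.zspan_subset h')
      · rw [hfY φ h']; exact hτ.2.2.2 _ (Coherence.zspan_subset h')
    have hgram : ∀ φ ∈ U, ∀ ψ ∈ U, classInner (f φ) (f ψ) = classInner φ ψ := by
      intro φ hφ ψ hψ
      rcases (hmU φ).1 hφ with h | h <;> rcases (hmU ψ).1 hψ with h' | h'
      · rw [hfX φ h, hfX ψ h']
        exact hσ.2.2.1 _ (Coherence.zspan_subset h) _ (Coherence.zspan_subset h')
      · rw [hfX φ h, hfY ψ h', main φ h ψ h',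
          horth φ hφ ψ hψ fun e => Set.disjoint_left.1 hXY h (e ▸ h')]
      · rw [hfY φ h, hfX ψ h', ← Coherence.inner_conj_symm, main ψ h' φ h, map_zero,
          horth φ hφ ψ hψ fun e => Set.disjoint_left.1 hXY h' (e ▸ h)]
      · rw [hfY φ h, hfY ψ h']
        exact hτ.2.2.1 _ (Coherence.zspan_subset h) _ (Coherence.zspan_subset h')
    have := Coherence.orthExt_isometry U f h0 horth hgram
      (fun c => Coherence.gen_sum _ _ fun φ hφ => Coherence.gen_zsmul (hgen φ hφ) _)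
    rwa [show (↑U : Set (N → ℂ)) = X ∪ Y from hfin.coe_toFinset] at this
  intro θ hθ
  obtain ⟨hθs, hθ1⟩ := Coherence.mem_zspanOn_one.1 hθ
  rw [show X ∪ Y = (↑U : Set (N → ℂ)) from hfin.coe_toFinset.symm] at hθs
  obtain ⟨c, rfl⟩ := Coherence.mem_zspan_finset.1 hθs
  rw [Coherence.orthExt_sum_self f h0 horth]
  set A := U.filter (· ∈ X) with hA
  set B := U.filter (· ∉ X) with hB
  have hAX : ∀ φ ∈ A, φ ∈ X := fun φ h => (Finset.mem_filter.1 h).2
  have hBY : ∀ φ ∈ B, φ ∈ Y := fun φ h =>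
    ((hmU φ).1 (Finset.mem_filter.1 h).1).resolve_left (Finset.mem_filter.1 h).2
  obtain ⟨hc₀, hc₀p⟩ := hd χ₀ (hXS hχ₀)
  obtain ⟨he₀, he₀p⟩ := hd η₀ (hYS hη₀)
  set m : ℤ := ∑ φ ∈ A, c φ * (d φ : ℤ) with hm
  set PA := ∑ φ ∈ A, c φ • φ with hPA
  set PB := ∑ φ ∈ B, c φ • φ with hPB
  have hsplit : ∑ φ ∈ U, c φ • φ = PA + PB :=
    (Finset.sum_filter_add_sum_filter_not U (· ∈ X) _).symm
  have hPA1 : PA 1 = (m : ℂ) := by
    rw [hPA, hm, Finset.sum_apply]
    push_cast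
    exact Finset.sum_congr rfl fun φ hφ => by
      simp [(hd φ (hXS (hAX φ hφ))).1]
  have hPB1 : PB 1 = -(m : ℂ) := by
    rw [hsplit, Pi.add_apply, hPA1] at hθ1
    linear_combination hθ1
  have hPAm : PA ∈ zspan X :=
    Coherence.zspan_sum _ _ fun φ hφ => Coherence.zspan_zsmul _ (Coherence.zspan_subset (hAX φ hφ))
  have hPBm : PB ∈ zspan Y :=
    Coherence.zspan_sum _ _ fun φ hφ => Coherence.zspan_zsmul _ (Coherence.zspan_subset (hBY φ hφ))
  set u := (d χ₀ : ℤ) • PA - m • χ₀ with hu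
  set v := (d η₀ : ℤ) • PB - (-m) • η₀ with hv
  set w := χ₀ 1 • η₀ - η₀ 1 • χ₀ with hw
  have hu' : u ∈ zspanOn X {1}ᶜ := Coherence.mem_zspanOn_one.2
    ⟨Coherence.zspan_sub (Coherence.zspan_zsmul _ hPAm)
      (Coherence.zspan_zsmul _ (Coherence.zspan_subset hχ₀)),
      by simp [hu, hPA1, hc₀]; ring⟩
  have hv' : v ∈ zspanOn Y {1}ᶜ := Coherence.mem_zspanOn_one.2
    ⟨Coherence.zspan_sub (Coherence.zspan_zsmul _ hPBm)
      (Coherence.zspan_zsmul _ (Coherence.zspan_subset hη₀)),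
      by simp [hv, hPB1, he₀]; ring⟩
  have hw' : w ∈ zspanOn S {1}ᶜ := by
    refine Coherence.mem_zspanOn_one.2 ⟨?_, by simp [hw]; ring⟩
    rw [hw, hc₀, he₀, Coherence.nat_smul_zsmul, Coherence.nat_smul_zsmul]
    exact Coherence.zspan_sub (Coherence.zspan_zsmul _ (Coherence.zspan_subset (hYS hη₀)))
      (Coherence.zspan_zsmul _ (Coherence.zspan_subset (hXS hχ₀)))
  have hθS : PA + PB ∈ zspanOn S {1}ᶜ := by
    rw [← hsplit]; exact Coherence.zspanOn_mono hU _ hθ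
  have heq : (((d χ₀ : ℤ) * (d η₀ : ℤ)) • (PA + PB)) =
      ((d η₀ : ℤ) • u + (d χ₀ : ℤ) • v) + (-m) • w := by
    funext x
    simp [hu, hv, hw, hc₀, he₀]
    ring
  have hu'' := Coherence.zspanOn_zsmul (d η₀ : ℤ) (Coherence.zspanOn_mono hXS _ hu')
  have hv'' := Coherence.zspanOn_zsmul (d χ₀ : ℤ) (Coherence.zspanOn_mono hYS _ hv')
  have hfinal := congrArg α heq
  rw [hα.2.1 _ hθS, hα.1 _ (Coherence.zspanOn_add hu'' hv'') _ (Coherence.zspanOn_zsmul _ hw'),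
    hα.1 _ hu'' _ hv'', hα.2.1 _ (Coherence.zspanOn_mono hXS _ hu'),
    hα.2.1 _ (Coherence.zspanOn_mono hYS _ hv'), hα.2.1 _ hw', ← hσα _ hu', ← hτα _ hv', hw, hrel,
    hu, hv, Coherence.iso_map_sub hσ (Coherence.zspan_zsmul _ hPAm)
      (Coherence.zspan_zsmul _ (Coherence.zspan_subset hχ₀))
      (Coherence.zspan_neg (Coherence.zspan_zsmul _ (Coherence.zspan_subset hχ₀))),
    hσ.2.1 _ hPAm, hσ.2.1 _ (Coherence.zspan_subset hχ₀),
    Coherence.iso_map_sub hτ (Coherence.zspan_zsmul _ hPBm)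
      (Coherence.zspan_zsmul _ (Coherence.zspan_subset hη₀))
      (Coherence.zspan_neg (Coherence.zspan_zsmul _ (Coherence.zspan_subset hη₀))),
    hτ.2.1 _ hPBm, hτ.2.1 _ (Coherence.zspan_subset hη₀)] at hfinal
  have hfs : ∑ φ ∈ U, c φ • f φ = σ PA + τ PB := by
    rw [← Finset.sum_filter_add_sum_filter_not U (· ∈ X) fun φ => c φ • f φ, hPA, hPB,
      Coherence.iso_zspan_sum hσ A c (fun φ => φ) fun φ h => Coherence.zspan_subset (hAX φ h),
      Coherence.iso_zspan_sum hτ B c (fun φ => φ) fun φ h => Coherence.zspan_subset (hBY φ h)]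
    exact congrArg₂ (· + ·) (Finset.sum_congr rfl fun φ h => by rw [hfX φ (hAX φ h)])
      (Finset.sum_congr rfl fun φ h => by rw [hfY φ (hBY φ h)])
  rw [hfs, hsplit]
  funext x
  have hx := congrFun hfinal x
  simp [hc₀, he₀] at hx ⊢
  have hne : (d χ₀ : ℂ) * (d η₀ : ℂ) ≠ 0 :=
    mul_ne_zero (by exact_mod_cast hc₀p.ne') (by exact_mod_cast he₀p.ne')
  refine mul_left_cancel₀ hne ?_
  linear_combination -hx


end Cfsg.Agent.S1531
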