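import Cfsg.Statements.S1529
import Cfsg.Agent.Coherence.Irr

set_option autoImplicit false
open Cfsg

namespace Cfsg.Agent.S1529

/-- Let N be a subgroup of the finite group G, S a set of irreducible characters of N with at least two members, and τ₁ a linear isometry on the integer combinations of S with virtual-character values such that τ₁ α vanishes at 1 whenever α ∈ ℤ[S] does. Then there is ε ∈ {1, −1} such that ε • τ₁ χ is an irreducible character of G for every χ ∈ S, and distinct members of S give distinct characters. -/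
theorem result {G : Type*} [Group G] [Fintype G] (N : Subgroup G) [Fintype N] (S : Set (N → ℂ)) (hirr : ∀ χ ∈ S, Cfsg.IsIrrCharacter N χ) (htwo : ∃ χ ∈ S, ∃ ψ ∈ S, χ ≠ ψ) (τ₁ : (N → ℂ) → (G → ℂ)) (hτ₁ : Cfsg.IsLinearIsometryOn (Cfsg.zspan S) τ₁) (h0 : ∀ α ∈ Cfsg.zspan S, α 1 = 0 → τ₁ α 1 = 0) : ∃ ε : ℂ, (ε = 1 ∨ ε = -1) ∧ (∀ χ ∈ S, Cfsg.IsIrrCharacter G (ε • τ₁ χ)) ∧ (∀ χ ∈ S, ∀ ψ ∈ S, τ₁ χ = τ₁ ψ → χ = ψ) := by
  classical
  obtain ⟨χ₀, hχ₀, -⟩ := htwo
  have hdeg : ∀ χ ∈ S, ∃ d : ℕ, χ 1 = d ∧ 0 < d := fun χ h =>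
    (Coherence.char_one_nat (Coherence.irr_isCharacter (hirr χ h))).imp
      fun d hd => ⟨hd.1, hd.2 (Coherence.irr_ne_zero (hirr χ h))⟩
  have hpm : ∀ χ ∈ S, IsIrrCharacter G (τ₁ χ) ∨ IsIrrCharacter G (-(τ₁ χ)) := fun χ h =>
    Coherence.gen_norm_one (hτ₁.2.2.2 _ (Coherence.zspan_subset h))
      (by rw [hτ₁.2.2.1 _ (Coherence.zspan_subset h) _ (Coherence.zspan_subset h),
        Coherence.irr_inner_self (hirr χ h)])
  obtain ⟨ε, hε, hε0⟩ : ∃ ε : ℂ, (ε = 1 ∨ ε = -1) ∧ IsIrrCharacter G (ε • τ₁ χ₀) := by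
    rcases hpm χ₀ hχ₀ with h | h
    · exact ⟨1, Or.inl rfl, by simpa using h⟩
    · exact ⟨-1, Or.inr rfl, by simpa using h⟩
  refine ⟨ε, hε, fun χ hχ => ?_, fun χ hχ ψ hψ he => ?_⟩
  · obtain ⟨d₀, hd₀, hd₀p⟩ := hdeg χ₀ hχ₀
    obtain ⟨d, hd, hdp⟩ := hdeg χ hχ
    have h0mem : (d₀ : ℤ) • χ - (d : ℤ) • χ₀ ∈ zspan S :=
      Coherence.zspan_sub (Coherence.zspan_zsmul _ (Coherence.zspan_subset hχ))
        (Coherence.zspan_zsmul _ (Coherence.zspan_subset hχ₀))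
    have h1 := h0 _ h0mem (by simp [hd, hd₀]; ring)
    rw [Coherence.iso_map_sub hτ₁ (Coherence.zspan_zsmul _ (Coherence.zspan_subset hχ))
      (Coherence.zspan_zsmul _ (Coherence.zspan_subset hχ₀))
      (Coherence.zspan_neg (Coherence.zspan_zsmul _ (Coherence.zspan_subset hχ₀))),
      hτ₁.2.1 _ (Coherence.zspan_subset hχ), hτ₁.2.1 _ (Coherence.zspan_subset hχ₀)] at h1
    simp only [Coherence.zsmul_eq, Pi.sub_apply, Pi.smul_apply, smul_eq_mul, Int.cast_natCast] at h1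
    obtain ⟨m₀, hm₀, hm₀p⟩ := Coherence.char_one_nat (Coherence.irr_isCharacter hε0)
    have hm₀' := hm₀p (Coherence.irr_ne_zero hε0)
    simp only [Pi.smul_apply, smul_eq_mul] at hm₀
    have hkey : (d₀ : ℂ) * (ε * τ₁ χ 1) = (d : ℂ) * (m₀ : ℂ) := by
      rw [← hm₀]; linear_combination ε * h1
    by_contra hbad
    have hneg : IsIrrCharacter G (-(ε • τ₁ χ)) := by
      rcases hε with rfl | rfl
      · simpa using (hpm χ hχ).resolve_left (by simpa using hbad)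
      · simpa using (hpm χ hχ).resolve_right (by simpa using hbad)
    obtain ⟨m, hm, hmp⟩ := Coherence.char_one_nat (Coherence.irr_isCharacter hneg)
    simp only [Pi.neg_apply, Pi.smul_apply, smul_eq_mul] at hm
    have : ((d₀ * m + d * m₀ : ℕ) : ℂ) = 0 := by
      push_cast; rw [← hm, ← hkey]; ring
    have h2 : d₀ * m + d * m₀ = 0 := by exact_mod_cast this
    have := Nat.mul_pos hdp hm₀'
    omega
  · by_contra hne
    have := hτ₁.2.2.1 _ (Coherence.zspan_subset hχ) _ (Coherence.zspan_subset hψ)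
    rw [← he, hτ₁.2.2.1 _ (Coherence.zspan_subset hχ) _ (Coherence.zspan_subset hχ),
      Coherence.irr_inner_self (hirr χ hχ),
      Coherence.irr_inner_ne (hirr χ hχ) (hirr ψ hψ) hne] at this
    exact one_ne_zero this


end Cfsg.Agent.S1529
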