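import Cfsg.Statements.S3058
import Cfsg.Agent.LocalEvenD.SPEmb
import Cfsg.Agent.Lib.Coprime.Generation

set_option autoImplicit false
open Cfsg
open Cfsg.Agent.LocalEvenD

namespace Cfsg.Agent.S3058

theorem result {G : Type*} [Group G] [Finite G]
    (p : ℕ) [Fact p.Prime] (hG : ¬ Cfsg.IsSylowChainConnected p G)
    (N M : Subgroup G) [N.Normal] [M.Normal] (hN : p ∣ Nat.card N) (hM : p ∣ Nat.card M) :
    p ∣ Nat.card ↥(N ⊓ M) := by
  obtain ⟨H, hH, hpH, h⟩ := not_chainConnected_iff.mp hG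
  obtain ⟨S, hS⟩ := h.exists_sylow_le hpH
  by_contra hK
  have hordp : ∀ L : Subgroup G, L ≤ (S : Subgroup G) → L ≠ ⊥ → ∃ a ∈ L, orderOf a = p := by
    intro L hL hL1
    have hd : p ∣ Nat.card L := dvd_card_of_le (S.2.to_le hL) hL1 le_rfl
    obtain ⟨a, ha⟩ := exists_prime_orderOf_dvd_card' p hd
    exact ⟨a, a.2, (Subgroup.orderOf_coe a).trans ha⟩
  obtain ⟨a, ha, hao⟩ := hordp _ inf_le_left (sylow_inf_normal_ne_bot S N hN)
  obtain ⟨b, hb, hbo⟩ := hordp _ inf_le_left (sylow_inf_normal_ne_bot S M hM)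
  have hSK : ∀ c ∈ (S : Subgroup G), c ∈ N ⊓ M → c = 1 := by
    intro c hcS hcK
    by_contra hc
    exact hK (dvd_card_of_le (S.2.to_le (Subgroup.zpowers_le.mpr hcS))
      (by rwa [Ne, Subgroup.zpowers_eq_bot]) (Subgroup.zpowers_le.mpr hcK))
  have hab : a * b = b * a := by
    have hc1 : a * b * a⁻¹ * b⁻¹ = 1 := by
      refine hSK _ (mul_mem (mul_mem (mul_mem ha.1 hb.1) (inv_mem ha.1)) (inv_mem hb.1)) ⟨?_, ?_⟩
      · have h1 := ‹N.Normal›.conj_mem _ (N.inv_mem ha.2) b
        have h2 := N.mul_mem ha.2 h1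
        simpa [mul_assoc] using h2
      · exact M.mul_mem (‹M.Normal›.conj_mem _ hb.2 a) (M.inv_mem hb.2)
    calc a * b = a * b * a⁻¹ * b⁻¹ * (b * a) := by group
      _ = b * a := by rw [hc1, one_mul]
  set E := Subgroup.closure ({a, b} : Set G) with hE
  have hES : E ≤ (S : Subgroup G) := by
    rw [hE, Subgroup.closure_le]; rintro x (rfl | rfl); exacts [ha.1, hb.1]
  haveI : IsMulCommutative E := Subgroup.isMulCommutative_closure fun x hx y hy => by
    rcases hx with rfl | rfl <;> rcases hy with rfl | rfl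
    exacts [rfl, hab, hab.symm, rfl]
  have haE : a ∈ E := Subgroup.subset_closure (Set.mem_insert _ _)
  have hbE : b ∈ E := Subgroup.subset_closure (Set.mem_insert_of_mem _ rfl)
  have hne : ∀ x : G, orderOf x = p → x ≠ 1 := fun x hx hx1 =>
    (Fact.out : p.Prime).one_lt.ne (by rw [hx1, orderOf_one] at hx; exact hx)
  have hncyc : ¬ IsCyclic E := by
    intro hcyc
    classical
    cases nonempty_fintype E
    have h2 : (⟨a, haE⟩ : E) ∈ Subgroup.zpowers (⟨b, hbE⟩ : E) := by
      by_contra hna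
      have hle := IsCyclic.card_pow_eq_one_le (α := E) (Fact.out : p.Prime).pos
      have hsub : insert (⟨a, haE⟩ : E) ((Subgroup.zpowers (⟨b, hbE⟩ : E) : Set E).toFinset) ⊆
          Finset.univ.filter (fun x : E => x ^ p = 1) := by
        intro x hx
        simp only [Finset.mem_insert, Set.mem_toFinset, SetLike.mem_coe] at hx
        simp only [Finset.mem_filter, Finset.mem_univ, true_and]
        rcases hx with rfl | hx
        · exact Subtype.ext (by simpa [← hao] using pow_orderOf_eq_one a)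
        · apply orderOf_dvd_iff_pow_eq_one.mp
          have := orderOf_dvd_of_mem_zpowers hx
          rwa [Subgroup.orderOf_mk b hbE, hbo] at this
      have hcard := Finset.card_le_card hsub
      rw [Finset.card_insert_of_notMem (by simpa using hna), Set.toFinset_card,
        ← Nat.card_eq_fintype_card, SetLike.coe_sort_coe, Nat.card_zpowers, Subgroup.orderOf_mk b hbE, hbo] at hcard
      omega
    obtain ⟨k, hk⟩ := Subgroup.mem_zpowers_iff.mp h2
    have h3 : b ^ k = a := by simpa using congrArg Subtype.val hk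
    exact hne a hao (hSK a ha.1 ⟨ha.2, h3 ▸ M.zpow_mem hb.2 k⟩)
  have hcop : (Nat.card E).Coprime (Nat.card ↥(N ⊓ M)) := by
    obtain ⟨k, hk⟩ := IsPGroup.iff_card.mp (S.2.to_le hES)
    rw [hk]
    exact Nat.Coprime.pow_left _ ((Fact.out : p.Prime).coprime_iff_not_dvd.mpr hK)
  have hKH : N ⊓ M ≤ H := by
    refine Coprime.le_of_centralizer_le E (N ⊓ M) H hncyc
      (by rw [Subgroup.normalizer_eq_top]; exact le_top) hcop fun e he he1 => ?_
    refine inf_le_right.trans (le_trans ?_ (h.normalizer_le (P := Subgroup.zpowers e)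
      ((S.2.to_le (Subgroup.zpowers_le.mpr (hES he)))) (by rwa [Ne, Subgroup.zpowers_eq_bot])
      (Subgroup.zpowers_le.mpr (hS (hES he)))))
    refine le_trans ?_ (Subgroup.centralizer_le_normalizer _)
    rw [Subgroup.zpowers_eq_closure, Subgroup.centralizer_closure]
  have hNH : N ≤ H := by
    intro n hn
    by_contra hnH
    refine h n hnH ?_
    -- b lies in H and in H^n
    have hk : n⁻¹ * b * n * b⁻¹ ∈ N ⊓ M := by
      constructor
      · have h1 := ‹N.Normal›.conj_mem _ hn b
        have h2 := N.mul_mem (N.inv_mem hn) h1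
        simpa [mul_assoc] using h2
      · exact M.mul_mem (by simpa using ‹M.Normal›.conj_mem _ hb.2 n⁻¹) (M.inv_mem hb.2)
    have hmem : n⁻¹ * b * n ∈ H := by
      have := H.mul_mem (hKH hk) (hS hb.1)
      simpa [mul_assoc] using this
    refine dvd_card_of_le (S.2.to_le (Subgroup.zpowers_le.mpr hb.1))
      (by rw [Ne, Subgroup.zpowers_eq_bot]; exact hne b hbo) (Subgroup.zpowers_le.mpr ⟨hS hb.1, ?_⟩)
    exact ⟨n⁻¹ * b * n, hmem, by simp [mul_assoc]⟩
  apply hH
  rw [eq_top_iff, ← h.normal_sup_eq_top hpH N hN]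
  exact sup_le hNH le_rfl

end Cfsg.Agent.S3058
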