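import Cfsg.Statements.S3072
import Cfsg.Agent.LocalEvenD.StrongFusion.Local
import Cfsg.Agent.ConjFunctor.Fusion
import Cfsg.Agent.Lib.Transfer.Residual
import Cfsg.Agent.S3058
import Cfsg.Agent.LargeSub.Basic

set_option autoImplicit false
open Cfsg

namespace Cfsg.Agent.S3072

open Subgroup ConjFunctor LocalEvenD LocalEvenD.StrongFusion

variable {G : Type*} [Group G] [Finite G] {p : ℕ} [Fact p.Prime] (P : Sylow p G)

/-- The conditions on one step of the decomposition. -/
def Ok (H X : Subgroup G) (x : G) : Prop :=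
  H ≤ (P : Subgroup G) ∧
    ¬ p ∣ ((P : Subgroup G) ⊓ normalizer (H : Set G)).relIndex (normalizer (H : Set G)) ∧
    (P : Subgroup G) ⊓ centralizer (H : Set G) ≤ H ∧
    (Cfsg.pPrimePCore p ↥(normalizer (H : Set G))).map (normalizer (H : Set G)).subtype =
      H ⊔ centralizer (H : Set G) ∧
    ¬ Cfsg.IsSylowChainConnected p
        (↥(normalizer (H : Set G)) ⧸ H.subgroupOf (normalizer (H : Set G))) ∧
    (H ≤ X ∧ X ≤ normalizer (H : Set G) ∧
      (X.subgroupOf (normalizer (H : Set G))).Normal ∧ p ∣ H.relIndex X ∧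
      ∀ Y : Subgroup G, H ≤ Y → Y ≤ normalizer (H : Set G) →
        (Y.subgroupOf (normalizer (H : Set G))).Normal → p ∣ H.relIndex Y → X ≤ Y) ∧
    x ∈ (Cfsg.pResidual p ↥X).map X.subtype

/-- A product of steps followed by an element of `N_G(P)`. -/
inductive Tail : Set G → G → Prop
  | fin (A : Set G) {y : G} : y ∈ nrm (P : Subgroup G) → Tail A y
  | step {A : Set G} {H X : Subgroup G} {x h : G} : Ok P H X x → A ⊆ H →
      Tail (img x⁻¹ A) h → Tail A (x * h)

/-- The normal form. -/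
def NF (A : Set G) (g : G) : Prop := ∃ c ∈ centralizer A, ∃ h, Tail P A h ∧ g = c * h

theorem ok_cnj {H X : Subgroup G} {x y : G} (hy : y ∈ nrm (P : Subgroup G)) (h : Ok P H X x) :
    Ok P (cnj y H) (cnj y X) (y * x * y⁻¹) := by
  obtain ⟨h1, h2, h3, h4, h5, ⟨h6, h7, h8, h9, h10⟩, h11⟩ := h
  have hP : cnj y (P : Subgroup G) = (P : Subgroup G) := mem_nrm_iff_cnj.1 hy
  have hN : cnj y (nrm H) = nrm (cnj y H) := cnj_nrm y H
  let φ : ↥(nrm H) ≃* ↥(nrm (cnj y H)) :=
    ((MulAut.conj y).subgroupMap (nrm H)).trans (MulEquiv.subgroupCongr hN)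
  have hφ : ∀ z : ↥(nrm H), ((φ z : ↥(nrm (cnj y H))) : G) = y * z * y⁻¹ := fun z => rfl
  have hsub : ∀ K : Subgroup ↥(nrm H),
      (K.map φ.toMonoidHom).map (nrm (cnj y H)).subtype = cnj y (K.map (nrm H).subtype) := fun K => by
    rw [Subgroup.map_map]
    refine Eq.trans ?_ (Subgroup.map_map _ _ _).symm
    rfl
  have hof : ∀ K : Subgroup G, (K.subgroupOf (nrm H)).map φ.toMonoidHom =
      (cnj y K).subgroupOf (nrm (cnj y H)) := fun K => by
    ext w
    obtain ⟨z, rfl⟩ := φ.surjective w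
    rw [show φ z = φ.toMonoidHom z from rfl, mem_map_iff_mem φ.injective, mem_subgroupOf,
      mem_subgroupOf]
    exact conj_mem_cnj.symm
  refine ⟨hP ▸ cnj_le_cnj.2 h1, ?_, ?_, ?_, ?_, ⟨cnj_le_cnj.2 h6, (cnj_le_cnj.2 h7).trans hN.le, ?_, ?_, ?_⟩, ?_⟩
  · change ¬ p ∣ ((P : Subgroup G) ⊓ nrm (cnj y H)).relIndex (nrm (cnj y H))
    conv => rw [← hP, ← hN, ← cnj_inf, relIndex_cnj]
    exact h2
  · conv_lhs => rw [← hP, ← cnj_centralizer, ← cnj_inf]
    exact cnj_le_cnj.2 h3
  · have e1 : (Cfsg.pPrimePCore p ↥(nrm H)).map φ.toMonoidHom = Cfsg.pPrimePCore p ↥(nrm (cnj y H)) := by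
      have he : (Cfsg.pPrimeCore p ↥(nrm H)).map φ.toMonoidHom = Cfsg.pPrimeCore p ↥(nrm (cnj y H)) :=
        Thompson.map_pPrimeCore_equiv φ
      let ψ := QuotientGroup.congr _ _ φ he
      ext w
      obtain ⟨z, rfl⟩ := φ.surjective w
      rw [show φ z = φ.toMonoidHom z from rfl, mem_map_iff_mem φ.injective]
      show QuotientGroup.mk' _ z ∈ Cfsg.pCore p _ ↔ QuotientGroup.mk' _ (φ z) ∈ Cfsg.pCore p _
      rw [← Thompson.map_pCore_equiv ψ,
        show QuotientGroup.mk' (Cfsg.pPrimeCore p ↥(nrm (cnj y H))) (φ z) =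
          ψ.toMonoidHom (QuotientGroup.mk' _ z) from rfl]
      exact (mem_map_iff_mem (f := ψ.toMonoidHom) ψ.injective).symm
    rw [← e1, hsub, h4]
    refine (Subgroup.map_sup _ _ _).trans ?_
    exact congrArg₂ (· ⊔ ·) rfl (cnj_centralizer y H)
  · exact not_chainConnected_of_equiv (QuotientGroup.congr _ _ φ (hof H)) h5
  · rw [← hof]; exact Subgroup.Normal.map h8 _ φ.surjective
  · rw [relIndex_cnj]; exact h9
  · intro Y hY1 hY2 hY3 hY4
    rw [cnj_le_iff]
    refine h10 _ ((cnj_inv_cnj y H).ge.trans (cnj_le_cnj.2 hY1)) ?_ ?_ ?_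
    · show _ ≤ nrm H
      rw [← cnj_inv_cnj y (nrm H), hN]; exact cnj_le_cnj.2 hY2
    · have : (cnj y⁻¹ Y).subgroupOf (nrm H) = (Y.subgroupOf (nrm (cnj y H))).comap φ.toMonoidHom := by
        apply Subgroup.map_injective (f := φ.toMonoidHom) φ.injective
        rw [hof, cnj_cnj_inv, map_comap_eq_self_of_surjective φ.surjective]
      rw [this]; exact hY3.comap _
    · rw [← relIndex_cnj y, cnj_cnj_inv]; exact hY4
  · let ψ : ↥X ≃* ↥(cnj y X) := (MulAut.conj y).subgroupMap X
    obtain ⟨z, hz, rfl⟩ := h11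
    refine ⟨ψ z, ?_, rfl⟩
    rw [← Transfer.map_pResidual_equiv ψ]
    exact ⟨z, hz, rfl⟩

theorem img_of_centralizer {A : Set G} {c : G} (hc : c ∈ centralizer A) : img c A = A :=
  (img_congr (g' := 1) fun a ha => by
    rw [← mem_centralizer_iff.1 hc a ha, one_mul, inv_one, mul_one, mul_inv_cancel_right]).trans
    (img_one A)

theorem prepend_centralizer {A : Set G} {c g : G} (hc : c ∈ centralizer A) (h : NF P A g) :
    NF P A (c * g) := by
  obtain ⟨d, hd, k, hk, rfl⟩ := h
  exact ⟨c * d, mul_mem hc hd, k, hk, (mul_assoc _ _ _).symm⟩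

theorem conj_mem_centralizer {A : Set G} {z c : G} (hc : c ∈ centralizer (img z⁻¹ A)) :
    z * c * z⁻¹ ∈ centralizer A := by
  refine mem_centralizer_iff.2 fun a ha => ?_
  have h := mem_centralizer_iff.1 hc _ ⟨a, ha, rfl⟩
  calc a * (z * c * z⁻¹) = z * ((z⁻¹ * a * z⁻¹⁻¹) * c) * z⁻¹ := by group
    _ = z * c * z⁻¹ * a := by rw [h]; group

theorem prepend_step {A : Set G} {H X : Subgroup G} {x g : G} (hok : Ok P H X x) (hA : A ⊆ H)
    (h : NF P (img x⁻¹ A) g) : NF P A (x * g) := by
  obtain ⟨d, hd, k, hk, rfl⟩ := h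
  exact ⟨x * d * x⁻¹, conj_mem_centralizer hd, x * k, .step hok hA hk, by group⟩

theorem tail_prepend_normalizer {A : Set G} {y g : G} (hy : y ∈ nrm (P : Subgroup G))
    (h : Tail P (img y⁻¹ A) g) : Tail P A (y * g) := by
  generalize hB : img y⁻¹ A = B at h
  induction h generalizing A with
  | fin B hz => exact .fin A (mul_mem hy hz)
  | @step B H X x k hok hH _ ih =>
    subst hB
    have e : y * (x * k) = y * x * y⁻¹ * (y * k) := by group
    rw [e]
    refine .step (ok_cnj P hy hok) ?_ (ih ?_)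
    · rw [coe_cnj]
      have := img_mono (g := y) hH
      rwa [img_img, mul_inv_cancel, img_one] at this
    · rw [img_img, img_img]
      congr 1
      group

theorem prepend_normalizer {A : Set G} {y g : G} (hy : y ∈ nrm (P : Subgroup G))
    (h : NF P (img y⁻¹ A) g) : NF P A (y * g) := by
  obtain ⟨d, hd, k, hk, rfl⟩ := h
  exact ⟨y * d * y⁻¹, conj_mem_centralizer hd, y * k, tail_prepend_normalizer P hy hk, by group⟩

theorem NF.of_normalizer {A : Set G} {y : G} (hy : y ∈ nrm (P : Subgroup G)) : NF P A y :=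
  ⟨1, one_mem _, y, .fin A hy, (one_mul y).symm⟩

theorem NF.of_centralizer {A : Set G} {c : G} (hc : c ∈ centralizer A) : NF P A c :=
  ⟨c, hc, 1, .fin A (one_mem _), (mul_one c).symm⟩

theorem NF.comp {A : Set G} {g h : G} (hg : NF P A g) (hh : NF P (img g⁻¹ A) h) :
    NF P A (g * h) := by
  obtain ⟨c, hc, k, hk, rfl⟩ := hg
  rw [mul_inv_rev, ← img_img, img_of_centralizer (inv_mem hc)] at hh
  rw [mul_assoc]
  refine prepend_centralizer P hc ?_
  clear hc
  induction hk with
  | fin B hy => exact prepend_normalizer P hy hh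
  | @step B H X x k hok hH _ ih =>
    rw [mul_assoc]
    refine prepend_step P hok hH (ih ?_)
    rwa [mul_inv_rev, ← img_img] at hh

theorem NF.mono {A B : Set G} {g : G} (h : NF P B g) (hA : A ⊆ B) : NF P A g := by
  obtain ⟨c, hc, k, hk, rfl⟩ := h
  refine ⟨c, centralizer_le hA hc, k, ?_, rfl⟩
  clear hc
  induction hk generalizing A with
  | fin B hy => exact .fin A hy
  | step hok hH _ ih => exact .step hok (hA.trans hH) (ih (img_mono hA))

theorem tail_to_list {A : Set G} {g : G} (h : Tail P A g) :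
    ∃ (n : ℕ) (H X : Fin n → Subgroup G) (x : Fin n → G) (y : G),
      y ∈ nrm (P : Subgroup G) ∧ g = (List.ofFn x).prod * y ∧
      ∀ i : Fin n, Ok P (H i) (X i) (x i) ∧
        (fun a => (((List.ofFn x).take i.val).prod)⁻¹ * a * ((List.ofFn x).take i.val).prod) '' A ⊆
          (H i : Set G) := by
  induction h with
  | @fin A y hy => exact ⟨0, Fin.elim0, Fin.elim0, Fin.elim0, y, hy, by simp, fun i => i.elim0⟩
  | @step A H₀ X₀ x₀ k hok hH _ ih =>
    obtain ⟨n, H, X, x, y, hy, rfl, hi⟩ := ih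
    refine ⟨n + 1, Fin.cons H₀ H, Fin.cons X₀ X, Fin.cons x₀ x, y, hy,
      by simp [List.ofFn_succ, mul_assoc], fun i => ?_⟩
    cases i using Fin.cases with
    | zero =>
      refine ⟨hok, ?_⟩
      simpa using hH
    | succ i =>
      refine ⟨(hi i).1, ?_⟩
      rintro _ ⟨a, ha, rfl⟩
      have := (hi i).2 ⟨_, ⟨a, ha, rfl⟩, rfl⟩
      simp only [Fin.val_succ, List.ofFn_succ, List.take_succ_cons, List.prod_cons, Fin.cons_zero,
        Fin.cons_succ]
      convert this using 1
      simp [_root_.mul_inv_rev, inv_inv, mul_assoc]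

theorem smallest (U : Subgroup G) (hUP : U ≤ (P : Subgroup G))
    (hnc : ¬ Cfsg.IsSylowChainConnected p (↥(nrm U) ⧸ U.subgroupOf (nrm U))) :
    ∃ X : Subgroup G, U ≤ X ∧ X ≤ nrm U ∧ (X.subgroupOf (nrm U)).Normal ∧ p ∣ U.relIndex X ∧
      ∀ Y : Subgroup G, U ≤ Y → Y ≤ nrm U → (Y.subgroupOf (nrm U)).Normal → p ∣ U.relIndex Y →
        X ≤ Y := by
  classical
  set U' := U.subgroupOf (nrm U) with hU'
  set q := QuotientGroup.mk' U'
  have hrel : ∀ W : Subgroup ↥(nrm U), U' ≤ W →
      U.relIndex (W.map (nrm U).subtype) = Nat.card (W.map q) := fun W hW => by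
    have h1 : U = U'.map (nrm U).subtype := by
      rw [hU', subgroupOf_map_subtype, inf_eq_left.2 le_normalizer]
    refine (congrArg (fun V : Subgroup G => V.relIndex (W.map (nrm U).subtype)) h1).trans ?_
    rw [relIndex_map_map_of_injective _ _ (nrm U).subtype_injective, ← relIndex_bot_left,
      ← QuotientGroup.map_mk'_self U', relIndex_map_map, QuotientGroup.ker_mk', sup_idem,
      sup_eq_left.2 hW]
  let T : Set (Subgroup (↥(nrm U) ⧸ U')) := {W | W.Normal ∧ p ∣ Nat.card W}
  obtain ⟨H, hH, hpH, -⟩ := not_chainConnected_iff.1 hnc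
  have hne : (⊤ : Subgroup (↥(nrm U) ⧸ U')) ∈ T := ⟨inferInstance, by
    rw [card_top]; exact hpH.trans H.card_subgroup_dvd_card⟩
  obtain ⟨W, ⟨hWn, hWp⟩, hWmin⟩ := (Set.toFinite T).exists_minimal ⟨⊤, hne⟩
  refine ⟨(W.comap q).map (nrm U).subtype, ?_, map_subtype_le _, ?_, ?_, fun Y hY1 hY2 hY3 hY4 => ?_⟩
  · intro u hu
    refine ⟨⟨u, le_normalizer hu⟩, ?_, rfl⟩
    show q _ ∈ W
    rw [show q ⟨u, le_normalizer hu⟩ = 1 from (QuotientGroup.eq_one_iff _).2 hu]
    exact one_mem _
  · rw [Subgroup.subgroupOf, comap_map_eq_self_of_injective (nrm U).subtype_injective]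
    exact hWn.comap q
  · rw [hrel _ (le_trans (QuotientGroup.ker_mk' U').ge (comap_mono bot_le)),
      map_comap_eq_self_of_surjective (QuotientGroup.mk'_surjective U')]
    exact hWp
  · have hYW : ((Y.subgroupOf (nrm U)).map q).Normal := hY3.map q (QuotientGroup.mk'_surjective U')
    have hYeq : (Y.subgroupOf (nrm U)).map (nrm U).subtype = Y := by
      rw [subgroupOf_map_subtype, inf_eq_left.2 hY2]
    have hYp : p ∣ Nat.card ((Y.subgroupOf (nrm U)).map q) := by
      rw [← hrel _ (fun z hz => hY1 hz), hYeq]; exact hY4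
    haveI := hWn
    haveI := hYW
    have hI : W ⊓ (Y.subgroupOf (nrm U)).map q ∈ T :=
      ⟨inferInstance, S3058.result p hnc W _ hWp hYp⟩
    have hle : W ≤ (Y.subgroupOf (nrm U)).map q := (hWmin hI inf_le_left).trans inf_le_right
    refine le_trans (map_mono (f := (nrm U).subtype) (comap_mono (f := q) hle)) ?_
    rw [comap_map_eq_self (show q.ker ≤ Y.subgroupOf (nrm U) by
      rw [QuotientGroup.ker_mk']; exact fun z hz => hY1 hz), hYeq]

/-- The main claim. -/
theorem main : ∀ (k : ℕ) (T : Subgroup G), Nat.card ↥(P : Subgroup G) ≤ Nat.card ↥T + k →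
    T ≤ (P : Subgroup G) → ∀ g : G, cnj g⁻¹ T ≤ (P : Subgroup G) → NF P (T : Set G) g := by
  intro k
  induction k using Nat.strong_induction_on with
  | _ k ih =>
    intro T hk hT g hg
    by_cases hTP : T = (P : Subgroup G)
    · subst hTP
      have h2 : cnj g⁻¹ (P : Subgroup G) = (P : Subgroup G) :=
        Subgroup.eq_of_le_of_card_ge hg (by rw [card_cnj])
      exact NF.of_normalizer P ((inv_mem_iff (H := nrm (P : Subgroup G))).1 (mem_nrm_iff_cnj.2 h2))
    have big : ∀ D : Subgroup G, Nat.card ↥T < Nat.card ↥D → D ≤ (P : Subgroup G) → ∀ z : G,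
        cnj z⁻¹ D ≤ (P : Subgroup G) → NF P (D : Set G) z := fun D hlt hD z hz =>
      ih (Nat.card ↥(P : Subgroup G) - Nat.card ↥D) (by have := card_le_of_le hD; omega) D
        (by have := card_le_of_le hD; omega) hD z hz
    have hclt : ∀ {A B : Subgroup G}, A < B → Nat.card ↥A < Nat.card ↥B := fun {A B} h =>
      (card_le_of_le h.le).lt_of_ne fun he => h.ne (Subgroup.eq_of_le_of_card_ge h.le he.ge)
    obtain ⟨h, hU, hUf, hUn⟩ := exists_fully P hT
    set U := cnj h T with hUdef
    have hUne : U ≠ (P : Subgroup G) := fun he =>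
      hTP (Subgroup.eq_of_le_of_card_ge hT (by rw [← he, hUdef, card_cnj]))
    have hcard : Nat.card ↥U = Nat.card ↥T := card_cnj h T
    have hbig : ∀ {V : Subgroup G}, U < V → V ≤ (P : Subgroup G) → ∀ z : G,
        cnj z⁻¹ V ≤ (P : Subgroup G) → NF P (U : Set G) z := fun {V} hlt hV z hz =>
      NF.mono P (big V (hcard ▸ hclt hlt) hV z hz) hlt.le
    have hfix : ∀ {z : G}, z ∈ nrm U → img z⁻¹ (U : Set G) = U := fun {z} hz => by
      rw [← coe_cnj, mem_nrm_iff_cnj.1 (inv_mem hz)]
    -- the subgroup of the normalizer already decomposed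
    have hpow : ∀ {z : G}, z ∈ nrm U → NF P (U : Set G) z → ∀ m : ℕ, NF P (U : Set G) (z ^ m) := by
      intro z hz hzn m
      induction m with
      | zero => rw [pow_zero]; exact NF.of_centralizer P (one_mem _)
      | succ m ihm =>
        rw [pow_succ']
        exact NF.comp P hzn (by rwa [hfix hz])
    let K : Subgroup G :=
      { carrier := {z | z ∈ nrm U ∧ NF P (U : Set G) z}
        one_mem' := ⟨one_mem _, NF.of_centralizer P (one_mem _)⟩
        mul_mem' := fun {a b} ha hb => ⟨mul_mem ha.1 hb.1, NF.comp P ha.2 (by rw [hfix ha.1]; exact hb.2)⟩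
        inv_mem' := fun {z} hz => ⟨inv_mem hz.1, by
          have hinv : z ^ (orderOf z - 1) = z⁻¹ := by
            refine eq_inv_of_mul_eq_one_left ?_
            rw [← pow_succ, Nat.sub_add_cancel (orderOf_pos z), pow_orderOf_eq_one]
          rw [← hinv]
          exact hpow hz.1 hz.2 _⟩ }
    have hCK : centralizer (U : Set G) ≤ K := fun c hc =>
      ⟨centralizer_le_normalizer _ hc, NF.of_centralizer P hc⟩
    have hVK : ∀ {V : Subgroup G}, U < V → V ≤ (P : Subgroup G) → nrm U ⊓ nrm V ≤ K :=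
      fun {V} hlt hV z hz => ⟨hz.1, hbig hlt hV z (by rw [mem_nrm_iff_cnj.1 (inv_mem hz.2)]; exact hV)⟩
    set R := (P : Subgroup G) ⊓ nrm U with hRdef
    have hUR : U < R := lt_inf_nrm P.2 hU hUne
    have hRp : IsPGroup p ↥R := P.2.to_inf_left
    have hRsyl : IsSylowIn p R (nrm U) := hUf.isSylowIn P.2
    have hRK : R ≤ K := fun r hr => hVK hUR inf_le_left ⟨hr.2, le_normalizer hr⟩
    -- the whole normalizer
    have hNK : nrm U ≤ K := by
      by_cases hC : (P : Subgroup G) ⊓ centralizer (U : Set G) ≤ U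
      swap
      · have hlt : U < U ⊔ (R ⊓ centralizer (U : Set G)) := lt_of_le_of_ne le_sup_left fun he =>
          hC fun z hz => he ▸ mem_sup_right ⟨⟨hz.1, centralizer_le_normalizer _ hz.2⟩, hz.2⟩
        intro z hz
        obtain ⟨c, hc, m, hm, rfl⟩ := exists_mul_of_frattini
          (isSylowIn_inf_of_normal hRsyl (centralizer_le_normalizer _)
            (LargeSub.normalizer_le_normalizer_centralizer _))
          (LargeSub.normalizer_le_normalizer_centralizer _ hz)
        have hmU : m ∈ nrm U := (mul_mem_cancel_left (centralizer_le_normalizer _ hc)).1 hz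
        refine K.mul_mem (hCK hc) (hVK hlt (sup_le hU (inf_le_left.trans inf_le_left)) ⟨hmU, ?_⟩)
        show m ∈ nrm (U ⊔ (R ⊓ centralizer (U : Set G)))
        rw [mem_nrm_iff_cnj]
        refine (Subgroup.map_sup _ _ _).trans ?_
        exact congrArg₂ (· ⊔ ·) (mem_nrm_iff_cnj.1 hmU) (mem_nrm_iff_cnj.1 hm)
      -- set up inside the normalizer
      set N := nrm U with hNdef
      obtain ⟨R', hR'⟩ := hRsyl.exists_sylow
      haveI : (U.subgroupOf N).Normal := normal_in_normalizer
      have hU'p : IsPGroup p ↥(U.subgroupOf N) :=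
        (hRp.to_le hUR.le).of_equiv (subgroupOfEquivOfLe le_normalizer).symm
      have hcz : ∀ z : ↥N, z ∈ centralizer ((U.subgroupOf N : Subgroup ↥N) : Set ↥N) ↔
          (z : G) ∈ centralizer (U : Set G) := fun z => by
        simp only [mem_centralizer_iff]
        constructor
        · intro hz u hu; exact congrArg Subtype.val (hz ⟨u, le_normalizer hu⟩ hu)
        · intro hz u hu; exact Subtype.ext (hz u hu)
      have hR'mem : ∀ z : ↥N, z ∈ (R' : Subgroup ↥N) ↔ (z : G) ∈ R := fun z => by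
        rw [← hR']
        exact ⟨fun hz => ⟨z, hz, rfl⟩, fun ⟨w, hw, hwz⟩ => Subtype.ext hwz ▸ hw⟩
      have hC' : (R' : Subgroup ↥N) ⊓ centralizer ((U.subgroupOf N : Subgroup ↥N) : Set ↥N) ≤
          U.subgroupOf N := fun z hz => hC ⟨((hR'mem z).1 hz.1).1, (hcz z).1 hz.2⟩
      set W := Cfsg.pPrimePCore p ↥N with hW
      haveI hWn : W.Normal := normal_pPrimePCore
      have hWle : W.map N.subtype ≤ N := map_subtype_le _
      have hNW : N ≤ nrm (W.map N.subtype) := LargeSub.le_normalizer_map_subtype W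
      have hO : ∀ z ∈ Cfsg.pPrimeCore p ↥N, (z : G) ∈ K := fun z hz =>
        hCK ((hcz z).1 (pPrimeCore_le_centralizer hU'p hz))
      by_cases hRW : (R' : Subgroup ↥N) ⊓ W ≤ U.subgroupOf N
      swap
      · have hlt : U < R ⊓ W.map N.subtype := lt_of_le_of_ne
          (le_inf hUR.le fun u hu => ⟨⟨u, le_normalizer hu⟩, le_pPrimePCore hU'p hu, rfl⟩)
          fun he => hRW fun z hz => by
            rw [mem_subgroupOf, he]
            exact ⟨(hR'mem z).1 hz.1, z, hz.2, rfl⟩
        intro z hz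
        obtain ⟨c, hc, m, hm, rfl⟩ :=
          exists_mul_of_frattini (isSylowIn_inf_of_normal hRsyl hWle hNW) (hNW hz)
        have hmU : m ∈ nrm U := (mul_mem_cancel_left (hWle hc)).1 hz
        refine K.mul_mem ?_ (hVK hlt (inf_le_left.trans inf_le_left) ⟨hmU, hm⟩)
        obtain ⟨w, hw, rfl⟩ := hc
        have h1 : (R' : Subgroup ↥N) ⊓ W ⊔ Cfsg.pPrimeCore p ↥N ≤ K.comap N.subtype :=
          sup_le (fun r hr => hRK ((hR'mem r).1 hr.1)) hO
        exact h1 (pPrimePCore_le R' hw)
      have hW4 : W.map N.subtype = U ⊔ centralizer (U : Set G) := by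
        rw [hW, pPrimePCore_eq hU'p R' hC' hRW, Subgroup.map_sup, subgroupOf_map_subtype,
          inf_eq_left.2 le_normalizer]
        congr 1
        ext c
        exact ⟨fun ⟨w, hw, hwc⟩ => hwc ▸ (hcz w).1 hw,
          fun hc => ⟨⟨c, centralizer_le_normalizer _ hc⟩, (hcz _).2 hc, rfl⟩⟩
      set U' := U.subgroupOf N with hU'
      set q := QuotientGroup.mk' U' with hq
      set K' := K.subgroupOf N with hK'
      have hU'K : U' ≤ K' := fun z hz => hRK (hUR.le hz)
      by_cases hconn : Cfsg.IsSylowChainConnected p (↥N ⧸ U')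
      · intro z hz
        by_contra hzK
        refine absurd hconn (not_chainConnected_iff.2 ⟨K'.map q, ?_, ?_, ?_⟩)
        · intro he
          apply hzK
          have h1 : (⟨z, hz⟩ : ↥N) ∈ (K'.map q).comap q := by rw [he]; trivial
          rwa [comap_map_eq_self (by rwa [hq, QuotientGroup.ker_mk'])] at h1
        · refine dvd_card_of_le (R'.2.map q) ?_ (map_mono fun r hr => hRK ((hR'mem r).1 hr))
          rw [Ne, Subgroup.map_eq_bot_iff, hq, QuotientGroup.ker_mk']
          intro hle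
          exact hUR.not_ge fun r hr => hle ((hR'mem ⟨r, hr.2⟩).2 hr)
        · intro g' hg' hdvd
          obtain ⟨g₀, rfl⟩ := QuotientGroup.mk'_surjective U' g'
          apply hg'
          refine ⟨g₀, ?_, rfl⟩
          obtain ⟨x, hx⟩ := exists_prime_orderOf_dvd_card' p hdvd
          have hxo : orderOf (x : ↥N ⧸ U') = p := (Subgroup.orderOf_coe x).trans hx
          -- elements of order `p` of the image of `K'` come from `R'`
          have inR : ∀ b ∈ K'.map q, orderOf b = p →
              ∃ a ∈ K', ∃ r ∈ (R' : Subgroup ↥N), b = q (a * r * a⁻¹) ∧ r ∉ U' := by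
            intro b hb hbo
            have hpg : IsPGroup p ((zpowers b).subgroupOf (K'.map q)) :=
              (IsPGroup.of_card (n := 1) (by rw [Nat.card_zpowers, hbo, pow_one])).of_equiv
                (subgroupOfEquivOfLe (zpowers_le.mpr hb)).symm
            obtain ⟨T', hT'⟩ := hpg.exists_le_sylow
            let RQ : Sylow p (↥N ⧸ U') := R'.mapSurjective (QuotientGroup.mk'_surjective U')
            have hRQ : (RQ : Subgroup (↥N ⧸ U')) ≤ K'.map q :=
              map_mono fun r hr => hRK ((hR'mem r).1 hr)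
            obtain ⟨a, ha⟩ := MulAction.exists_smul_eq (K'.map q) (RQ.subtype hRQ) T'
            have hbT : (⟨b, hb⟩ : ↥(K'.map q)) ∈ (T' : Subgroup ↥(K'.map q)) := hT' (mem_zpowers b)
            rw [← ha, Sylow.coe_subgroup_smul, pointwise_smul_def] at hbT
            obtain ⟨r₀, hr₀, hrb⟩ := hbT
            obtain ⟨r, hr, hr'⟩ := hr₀
            obtain ⟨a₀, ha₀, ha'⟩ := a.2
            have hb' : b = q a₀ * q r * (q a₀)⁻¹ := by
              have := (congrArg Subtype.val hrb).symm
              simp only [MulDistribMulAction.toMonoidEnd_apply] at this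
              rw [ha', hr']
              exact this
            refine ⟨a₀, ha₀, r, hr, by rw [map_mul, map_mul, map_inv]; exact hb', fun hrU => ?_⟩
            have h1 : q r = 1 := (QuotientGroup.eq_one_iff r).2 hrU
            rw [h1, mul_one, mul_inv_cancel] at hb'
            rw [hb', orderOf_one] at hbo
            exact (Fact.out : p.Prime).one_lt.ne hbo
          obtain ⟨a, ha, r, hr, hxa, hrU⟩ := inR _ x.2.1 hxo
          obtain ⟨b, hb, hbx⟩ := x.2.2
          have hbo : orderOf b = p := by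
            rw [← hxo, ← hbx]; exact ((MulAut.conj (q g₀)).orderOf_eq b).symm
          obtain ⟨a', ha', r', hr', hba, hr'U⟩ := inR b hb hbo
          -- `w` carries `⟨U, r'⟩` to `⟨U, r⟩`
          set w := a⁻¹ * g₀ * a' with hw
          have hqw : q (w * r' * w⁻¹) = q r := by
            have h1 : q g₀ * q (a' * r' * a'⁻¹) * (q g₀)⁻¹ = q (a * r * a⁻¹) := by
              rw [← hba, ← hxa, ← hbx]; rfl
            calc q (w * r' * w⁻¹) = (q a)⁻¹ * (q g₀ * q (a' * r' * a'⁻¹) * (q g₀)⁻¹) * q a := by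
                  rw [hw]; simp only [map_mul, map_inv]; group
              _ = q r := by rw [h1]; simp only [map_mul, map_inv]; group
          have hwK : (w : G) ∈ K := by
            have hwinv : ((w : G))⁻¹ ∈ K := by
              refine ⟨inv_mem w.2, hbig (V := U ⊔ zpowers (r' : G)) ?_ ?_ _ ?_⟩
              · exact lt_of_le_of_ne le_sup_left fun he => hr'U (mem_subgroupOf.2 (he.ge (mem_sup_right (mem_zpowers _))))
              · exact sup_le hU (zpowers_le.2 ((hR'mem r').1 hr').1)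
              · rw [inv_inv]
                refine (Subgroup.map_sup _ _ _).le.trans ?_
                rw [MonoidHom.map_zpowers]
                refine sup_le ((mem_nrm_iff_cnj.1 w.2).le.trans hU) (zpowers_le.2 ?_)
                have h2 : r⁻¹ * (w * r' * w⁻¹) ∈ U' := QuotientGroup.eq.1 hqw.symm
                have h3 := mul_mem ((hR'mem r).1 hr).1 (hU h2)
                simpa [mul_assoc] using h3
            simpa using K.inv_mem hwinv
          have : g₀ = a * w * a'⁻¹ := by rw [hw]; group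
          rw [this]
          exact mul_mem (mul_mem ha hwK) (inv_mem ha')
      · obtain ⟨X, hX1, hX2, hX3, hX4, hX5⟩ := smallest P U hU hconn
        have hNX : N ≤ nrm X := fun z hz => mem_nrm_of_forall fun x hx =>
          mem_subgroupOf.1 (hX3.conj_mem ⟨x, hX2 hx⟩ (mem_subgroupOf.2 hx) ⟨z, hz⟩)
        have hRX := isSylowIn_inf_of_normal hRsyl hX2 hNX
        have hlt : U < R ⊓ X := lt_of_le_of_ne (le_inf hUR.le hX1) fun he => hRX.2.2 (he ▸ hX4)
        intro z hz
        obtain ⟨c, hc, m, hm, rfl⟩ := exists_mul_of_frattini hRX (hNX hz)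
        have hmU : m ∈ nrm U := (mul_mem_cancel_left (hX2 hc)).1 hz
        refine K.mul_mem ?_ (hVK hlt (inf_le_left.trans inf_le_left) ⟨hmU, hm⟩)
        obtain ⟨T', hT'⟩ := hRX.exists_sylow
        have h1 : (T' : Subgroup ↥X) ⊔ Cfsg.pResidual p ↥X ≤ K.comap X.subtype := by
          refine sup_le (fun t ht => hRK (hT'.le ⟨t, ht, rfl⟩).1) fun o ho => ?_
          have hok : Ok P U X (o : G) := ⟨hU, hUf, hC, hW4, hconn, ⟨hX1, hX2, hX3, hX4, hX5⟩, o, ho, rfl⟩
          refine ⟨hX2 o.2, ?_⟩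
          rw [show X.subtype o = (o : G) * 1 from (mul_one _).symm]
          exact prepend_step P hok subset_rfl (NF.of_normalizer P (one_mem _))
        exact h1 (show (⟨c, hc⟩ : ↥X) ∈ (T' : Subgroup ↥X) ⊔ Cfsg.pResidual p ↥X by
          rw [Transfer.sylow_sup_pResidual_eq_top]; trivial)
    -- assembling
    have hTa : NF P (T : Set G) h⁻¹ := NF.mono P
      (big _ (hclt (lt_inf_nrm P.2 hT hTP)) inf_le_left h⁻¹ (by rw [inv_inv]; exact hUn.trans inf_le_left))
      (le_inf hT le_normalizer)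
    have hT'P : cnj g⁻¹ T ≠ (P : Subgroup G) := fun he =>
      hTP (Subgroup.eq_of_le_of_card_ge hT (by rw [← he, card_cnj]))
    obtain ⟨n, hn, hn1, hn2⟩ := exists_adjust P.2 hUf (g := h * g)
      (show cnj (h * g) (cnj g⁻¹ T) = U by rw [cnj_cnj, mul_inv_cancel_right])
    set D := cnj (n * (h * g)) ((P : Subgroup G) ⊓ nrm (cnj g⁻¹ T)) with hD
    have hw : NF P (U : Set G) (n * (h * g)) := by
      refine NF.mono P (big D ?_ (hn2.trans inf_le_left) _ ?_) ?_
      · rw [hD, card_cnj]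
        calc Nat.card ↥T = Nat.card ↥(cnj g⁻¹ T) := (card_cnj _ _).symm
          _ < _ := hclt (lt_inf_nrm P.2 hg hT'P)
      · rw [hD, cnj_inv_cnj]; exact inf_le_left
      · exact hn1.ge.trans (cnj_le_cnj.2 (le_inf hg le_normalizer))
    have hmid : NF P (U : Set G) (n⁻¹ * (n * (h * g))) :=
      NF.comp P (hNK (inv_mem hn)).2 (by rw [hfix (inv_mem hn)]; exact hw)
    have htot : NF P (T : Set G) (h⁻¹ * (n⁻¹ * (n * (h * g)))) :=
      NF.comp P hTa (by rw [inv_inv, ← coe_cnj]; exact hmid)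
    rwa [inv_mul_cancel_left, inv_mul_cancel_left] at htot

/-- A strong form of the Alperin–Goldschmidt fusion Theorem. Let P be a Sylow p-subgroup of the finite group G, A a subset of P containing a nonidentity element, and g an element with g⁻¹Ag ⊆ P. Then g = c·x₁⋯xₙ·y with c ∈ C_G(A), y ∈ N_G(P) and, for each i, an element xᵢ and a subgroup Hᵢ ≤ P such that: N_P(Hᵢ) is a Sylow p-subgroup of N_G(Hᵢ); C_P(Hᵢ) ≤ Hᵢ; O_{p',p}(N_G(Hᵢ)) = Hᵢ·C_G(Hᵢ); the Sylow p-subgroups of N_G(Hᵢ)/Hᵢ are not chain-connected through nontrivial intersections (the quotient has a strongly p-embedded subgroup); xᵢ lies in O^p(Xᵢ), where Xᵢ/Hᵢ is the smallest normal subgroup of N_G(Hᵢ)/Hᵢ of order divisible by p; and (x₁⋯xᵢ₋₁)⁻¹A(x₁⋯xᵢ₋₁) ⊆ Hᵢ. -/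
theorem result {G : Type*} [Group G] [Finite G] {p : ℕ} [Fact p.Prime]
    (P : Sylow p G) (A : Set G) (hA : A ⊆ (P : Set G)) (hA1 : ∃ a ∈ A, a ≠ 1)
    (g : G) (hAg : (fun a => g⁻¹ * a * g) '' A ⊆ (P : Set G)) :
    ∃ (n : ℕ) (H X : Fin n → Subgroup G) (x : Fin n → G) (c y : G),
      c ∈ Subgroup.centralizer A ∧ y ∈ Subgroup.normalizer ((P : Subgroup G) : Set G) ∧
      g = c * (List.ofFn x).prod * y ∧
      ∀ i : Fin n,
        H i ≤ (P : Subgroup G) ∧
        ¬ p ∣ ((P : Subgroup G) ⊓ Subgroup.normalizer (H i : Set G)).relIndex (Subgroup.normalizer (H i : Set G)) ∧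
        (P : Subgroup G) ⊓ Subgroup.centralizer (H i : Set G) ≤ H i ∧
        (Cfsg.pPrimePCore p ↥(Subgroup.normalizer (H i : Set G))).map (Subgroup.normalizer (H i : Set G)).subtype =
          H i ⊔ Subgroup.centralizer (H i : Set G) ∧
        ¬ Cfsg.IsSylowChainConnected p
            (↥(Subgroup.normalizer (H i : Set G)) ⧸ (H i).subgroupOf (Subgroup.normalizer (H i : Set G))) ∧
        (H i ≤ X i ∧ X i ≤ Subgroup.normalizer (H i : Set G) ∧
          ((X i).subgroupOf (Subgroup.normalizer (H i : Set G))).Normal ∧ p ∣ (H i).relIndex (X i) ∧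
          ∀ Y : Subgroup G, H i ≤ Y → Y ≤ Subgroup.normalizer (H i : Set G) →
            (Y.subgroupOf (Subgroup.normalizer (H i : Set G))).Normal → p ∣ (H i).relIndex Y → X i ≤ Y) ∧
        x i ∈ (Cfsg.pResidual p ↥(X i)).map (X i).subtype ∧
        (fun a => (((List.ofFn x).take i.val).prod)⁻¹ * a * ((List.ofFn x).take i.val).prod) '' A ⊆ (H i : Set G) := by
  have hT : Subgroup.closure A ≤ (P : Subgroup G) := (Subgroup.closure_le _).2 hA
  have hTg : cnj g⁻¹ (Subgroup.closure A) ≤ (P : Subgroup G) := by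
    rw [← closure_img, Subgroup.closure_le]
    simpa [img] using hAg
  obtain ⟨c, hc, k, hk, rfl⟩ :=
    NF.mono P (main P _ (Subgroup.closure A) le_add_self hT g hTg) Subgroup.subset_closure
  obtain ⟨n, H, X, x, y, hy, rfl, hi⟩ := tail_to_list P hk
  refine ⟨n, H, X, x, c, y, hc, hy, (mul_assoc _ _ _).symm, fun i => ?_⟩
  obtain ⟨⟨h1, h2, h3, h4, h5, h6, h7⟩, h8⟩ := hi i
  exact ⟨h1, h2, h3, h4, h5, h6, h7, h8⟩

end Cfsg.Agent.S3072
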