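import Cfsg.Statements.S2004
import Cfsg.Agent.LocalEven61.QdStability
import Cfsg.Agent.ConjFunctor.Sections

set_option autoImplicit false
open Cfsg

namespace Cfsg.Agent.S2004

/-- Let p be an odd prime and G a finite group such that SL₂(p) is not involved in N_G(P) for any nonidentity p-subgroup P of G. Then every section of G is p-stable in the normalizer form: in each section, whenever an element of the normalizer of a p-subgroup Q acts quadratically on Q, its image in N(Q)/C(Q) lies in O_p(N(Q)/C(Q)). -/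
theorem result {G : Type*} [Group G] [Finite G] {p : ℕ} [Fact p.Prime] (hp : p ≠ 2) (h : ∀ P : Subgroup G, IsPGroup p ↥P → P ≠ ⊥ → ¬ Cfsg.Involves (Matrix.SpecialLinearGroup (Fin 2) (ZMod p)) ↥(Subgroup.normalizer ((P : Subgroup G) : Set G))) : ∀ (K R : Subgroup G) [hR : (R.subgroupOf K).Normal], Cfsg.IsNormalizerPStable p (↥K ⧸ R.subgroupOf K) := by
  intro K R hR P hP g hg hq
  by_contra hmem
  set f := QuotientGroup.mk' (R.subgroupOf K) with hf
  have hPne : P ≠ ⊥ := by
    rintro rfl
    refine hmem ?_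
    haveI := Subgroup.normal_subgroupOf_centralizer_normalizer ((⊥ : Subgroup (↥K ⧸ R.subgroupOf K)) : Set (↥K ⧸ R.subgroupOf K))
    have h1 : (⟨g, hg⟩ : ↥(Subgroup.normalizer ((⊥ : Subgroup (↥K ⧸ R.subgroupOf K)) : Set (↥K ⧸ R.subgroupOf K)))) ∈
        (Subgroup.centralizer ((⊥ : Subgroup (↥K ⧸ R.subgroupOf K)) : Set (↥K ⧸ R.subgroupOf K))).subgroupOf _ :=
      Subgroup.mem_centralizer_iff.2 fun b hb => by rw [Subgroup.mem_bot.1 hb, one_mul, mul_one]
    rw [(QuotientGroup.eq_one_iff _).2 h1]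
    exact Subgroup.one_mem _
  have hPN : P ≤ Subgroup.normalizer (P : Set (↥K ⧸ R.subgroupOf K)) := Subgroup.le_normalizer
  haveI : (P.subgroupOf (Subgroup.normalizer (P : Set (↥K ⧸ R.subgroupOf K)))).Normal := Subgroup.normal_in_normalizer
  haveI : ((Subgroup.centralizer (P : Set (↥K ⧸ R.subgroupOf K))).subgroupOf
      (Subgroup.normalizer (P : Set (↥K ⧸ R.subgroupOf K)))).Normal :=
    Subgroup.normal_subgroupOf_centralizer_normalizer _
  let e := QuotientGroup.quotientMulEquivOfEq (PLocalB.centralizer_subgroupOf P _ hPN)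
  have hsl : Cfsg.Involves (Matrix.SpecialLinearGroup (Fin 2) (ZMod p))
      ↥(Subgroup.normalizer (P : Set (↥K ⧸ R.subgroupOf K))) := by
    refine PLocalB.exists_sl_section_of_not_stable hp (P.subgroupOf _)
      (hP.of_equiv (Subgroup.subgroupOfEquivOfLe hPN).symm) ⟨g, hg⟩ ?_ fun hm => hmem ?_
    · apply Subgroup.map_injective (Subgroup.subtype_injective _)
      rw [Subgroup.map_commutator, Subgroup.map_commutator, Subgroup.map_bot,
        Subgroup.map_subgroupOf_eq_of_le hPN, MonoidHom.map_zpowers]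
      exact hq
    · rw [← Thompson.map_pCore_equiv e]
      exact ⟨_, hm, rfl⟩
  -- lift to the normalizer of a Sylow subgroup of the preimage
  set L := P.comap f with hL
  obtain ⟨T, hT⟩ := ConjFunctor.exists_isSylowIn' p L
  have hsurj := QuotientGroup.mk'_surjective (R.subgroupOf K)
  have hTP : T.map f = P := by
    obtain ⟨Q, hQ⟩ := hT.exists_sylow
    refine le_antisymm ((Subgroup.map_mono hT.le).trans (Subgroup.map_comap_le _ _)) ?_
    let fL : ↥L →* ↥P := f.subgroupComap P
    have hfL : Function.Surjective fL := f.subgroupComap_surjective_of_surjective P hsurj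
    have htop : ((Q.mapSurjective hfL : Sylow p ↥P) : Subgroup ↥P) = ⊤ :=
      ((Q.mapSurjective hfL).is_maximal' (hP.to_subgroup ⊤) le_top).symm
    intro y hy
    obtain ⟨q, hq, hqy⟩ : (⟨y, hy⟩ : ↥P) ∈ ((Q.mapSurjective hfL : Sylow p ↥P) : Subgroup ↥P) := by
      rw [htop]; trivial
    exact ⟨(q : ↥K), hQ ▸ Subgroup.mem_map_of_mem L.subtype hq, congrArg Subtype.val hqy⟩
  let φ : ↥(ConjFunctor.nrm T) →* ↥(Subgroup.normalizer (P : Set (↥K ⧸ R.subgroupOf K))) :=
    (f.comp (ConjFunctor.nrm T).subtype).codRestrict _ fun x => by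
      rw [← hTP]; exact Subgroup.le_normalizer_map f ⟨x, x.2, rfl⟩
  have hφ : Function.Surjective φ := by
    rintro ⟨y, hy⟩
    obtain ⟨k, rfl⟩ := hsurj y
    obtain ⟨c, hc, n, hn, rfl⟩ := ConjFunctor.exists_mul_of_frattini hT (g := k)
      (Subgroup.le_normalizer_comap f hy)
    obtain ⟨t, ht, htc⟩ : f c ∈ T.map f := hTP.symm ▸ hc
    refine ⟨⟨t * n, (ConjFunctor.nrm T).mul_mem (Subgroup.le_normalizer ht) hn⟩, Subtype.ext ?_⟩
    show f (t * n) = f (c * n)
    rw [map_mul, map_mul, htc]
  refine h (T.map K.subtype) (hT.isPGroup.map _) (fun hbot => hPne ?_) ?_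
  · rw [← hTP, (Subgroup.map_eq_bot_iff_of_injective _ K.subtype_injective).1 hbot, Subgroup.map_bot]
  · refine LocalEven61.involves_trans hsl (LocalEven61.involves_of_hom φ hφ
      ((K.subtype.comp (ConjFunctor.nrm T).subtype).codRestrict _ fun x => ?_) ?_)
    · exact Subgroup.le_normalizer_map K.subtype ⟨x, x.2, rfl⟩
    · intro a b hab
      exact Subtype.ext (Subtype.ext (Subtype.ext_iff.1 hab :))

end Cfsg.Agent.S2004
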