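import Cfsg.Statements.S2086
import Cfsg.Agent.CharB.PSLMult.SLn

set_option autoImplicit false
open Cfsg

namespace Cfsg.Agent.S2086

/-- Schur multipliers of the linear groups: for n ≥ 2 and a field F with q elements (q ≥ 4 when n = 2), apart from the five exceptional pairs (n, q) = (2, 4), (2, 9), (3, 2), (3, 4), (4, 2), the Schur multiplier of PSL_n(F) is cyclic of order gcd(n, q − 1); here the Schur multiplier is described through stem extensions, as in the definitions. -/
theorem result {F : Type*} [Field F] [Fintype F] {q : ℕ} (hF : Fintype.card F = q) (n : ℕ) (hn : 2 ≤ n) (h2 : n = 2 → 4 ≤ q) (hexc : (n, q) ∉ ({(2, 4), (2, 9), (3, 2), (3, 4), (4, 2)} : Set (ℕ × ℕ))) : Cfsg.HasCyclicSchurMultiplier (Matrix.ProjectiveSpecialLinearGroup (Fin n) F) (Nat.gcd n (q - 1)) := by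
  have hq : Nat.card F = q := by rw [Nat.card_eq_fintype_card, hF]
  simp only [Set.mem_insert_iff, Set.mem_singleton_iff, Prod.mk.injEq, not_or, not_and] at hexc
  obtain ⟨e24, e29, e32, e34, e42⟩ := hexc
  haveI : Nonempty (Fin n) := ⟨⟨0, by omega⟩⟩
  have h1 : Cfsg.HasCyclicSchurMultiplier (Matrix.SpecialLinearGroup (Fin n) F) 1 := by
    rcases Nat.lt_or_ge n 3 with h | h
    · obtain rfl : n = 2 := by omega
      exact KnownSimple.multiplier_SL2 (by rw [hq]; exact e24 rfl) (by rw [hq]; exact e29 rfl)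
    · exact CharB.PSLMult.multiplier_SL n h (fun e => by rw [hq]; exact ⟨e32 e, e34 e⟩)
        (fun e => by rw [hq]; exact e42 e)
  have hperf : Fintype.card (Fin n) = 2 → ∃ a : F, a ≠ 0 ∧ a ^ 2 ≠ 1 := fun h => by
    rw [Fintype.card_fin] at h
    have h4 := h2 h
    by_contra hc
    push Not at hc
    have hd : Fintype.card F - 1 ∣ 2 := (FiniteField.forall_pow_eq_one_iff F 2).1 fun x =>
      Units.ext (by simpa using hc x x.ne_zero)
    have := Nat.le_of_dvd two_pos hd
    omega
  simpa [hF] using CharB.PSLMult.psl_of_sl hperf h1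

end Cfsg.Agent.S2086
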