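import Cfsg.Statements.S2118
import Cfsg.Agent.Mult93.Covers
-- import your own Cfsg.Agent.* helpers here

set_option autoImplicit false
open Cfsg

namespace Cfsg.Agent.S2118

/-- For the field with 9 elements, the special linear group SL₂ has Schur multiplier cyclic of order 3 (here the Schur multiplier is described through stem extensions, as in the definitions). -/
theorem result {F : Type*} [Field F] [Fintype F] (hF : Fintype.card F = 9) : Cfsg.HasCyclicSchurMultiplier (Matrix.SpecialLinearGroup (Fin 2) F) 3 := by
  exact Cfsg.Agent.Schur.hasSchurMultiplier_congr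
    (MulEquiv.ofBijective (Matrix.SpecialLinearGroup.map
      (FiniteField.ringEquivOfCardEq (K' := F) (K := Cfsg.Agent.LinearGroup.PSL29.K)
        (Cfsg.Agent.LinearGroup.PSL29.card_K.trans hF.symm)).toRingHom) (by
      set f := FiniteField.ringEquivOfCardEq (K' := F) (K := Cfsg.Agent.LinearGroup.PSL29.K)
        (Cfsg.Agent.LinearGroup.PSL29.card_K.trans hF.symm)
      refine ⟨fun A B h => ?_, fun A => ⟨Matrix.SpecialLinearGroup.map f.symm.toRingHom A, ?_⟩⟩
      · refine Matrix.SpecialLinearGroup.ext _ _ fun i j => ?_
        exact f.injective (congrArg (fun M : Matrix.SpecialLinearGroup (Fin 2) F => M.1 i j) h)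
      · ext i j
        exact f.apply_symm_apply (A.1 i j)))
    Cfsg.Agent.Mult93.multiplier_sl29

end Cfsg.Agent.S2118
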