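import Cfsg.Statements.S3559
import Cfsg.Agent.RecogB.SchurCyclic
import Cfsg.Agent.Lib.Perm.Basic

set_option autoImplicit false
open Cfsg

namespace Cfsg.Agent.S3559

/-- Let G act faithfully and transitively on a finite set whose number of points n ≥ 2 is not a prime power, and suppose G has a cyclic subgroup acting regularly (transitively with trivial point stabilizers). Then G is imprimitive or doubly transitive. -/
theorem result {G Ω : Type*} [Group G] [Finite G] [MulAction G Ω] [FaithfulSMul G Ω] [Finite Ω]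
    (htrans : MulAction.IsPretransitive G Ω) (hn : 2 ≤ Nat.card Ω) (hnp : ¬ IsPrimePow (Nat.card Ω))
    (C : Subgroup G) (hcyc : IsCyclic ↥C) (hC : MulAction.IsPretransitive ↥C Ω ∧ ∀ a : Ω, MulAction.stabilizer ↥C a = ⊥) :
    ¬ MulAction.IsPreprimitive G Ω ∨ MulAction.IsMultiplyPretransitive G Ω 2 := by
  classical
  by_contra hcon
  push Not at hcon
  obtain ⟨hprim, h2⟩ := hcon
  let n := Nat.card Ω
  have : NeZero n := ⟨by omega⟩
  have : Fintype Ω := Fintype.ofFinite Ω
  obtain ⟨ω⟩ : Nonempty Ω := (Nat.card_pos_iff.mp (show 0 < Nat.card Ω by omega)).1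
  obtain ⟨hCt, hCr⟩ := hC
  have hCcard : Nat.card C = n := by
    have h1 := Cfsg.Agent.Perm.card_orbit_mul_card_stabilizer (G := C) ω
    rw [hCr, Subgroup.card_bot, mul_one, MulAction.orbit_eq_univ, Nat.card_coe_set_eq, Set.ncard_univ] at h1
    exact h1.symm
  obtain ⟨g, hg⟩ := hcyc.exists_generator
  have hord : orderOf g = n := (orderOf_eq_card_of_forall_mem_zpowers hg).trans hCcard
  let f : ZMod n → Ω := fun i => g ^ i.val • ω
  have hper : ∀ a : ℕ, g ^ a • ω = f (a : ZMod n) := fun a => by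
    show _ = g ^ (a : ZMod n).val • ω
    rw [ZMod.val_natCast, ← hord, pow_mod_orderOf]
  have hfinj : Function.Injective f := by
    intro i j hij
    have h1 : ((g ^ j.val)⁻¹ * g ^ i.val) ∈ MulAction.stabilizer C ω := by
      rw [MulAction.mem_stabilizer_iff, mul_smul]
      exact inv_smul_eq_iff.mpr hij
    rw [hCr, Subgroup.mem_bot, inv_mul_eq_one] at h1
    apply ZMod.val_injective
    have h2 := pow_inj_mod.mp h1.symm
    rwa [hord, Nat.mod_eq_of_lt (ZMod.val_lt i), Nat.mod_eq_of_lt (ZMod.val_lt j)] at h2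
  let e : ZMod n ≃ Ω := Equiv.ofBijective f ((Fintype.bijective_iff_injective_and_card f).2
    ⟨hfinj, by rw [ZMod.card, ← Nat.card_eq_fintype_card]⟩)
  have he0 : e 0 = ω := by
    show g ^ (0 : ZMod n).val • ω = ω
    rw [ZMod.val_zero, pow_zero, one_smul]
  let ψ : G →* Equiv.Perm (ZMod n) :=
    (e.symm.permCongrHom : Equiv.Perm Ω ≃* Equiv.Perm (ZMod n)).toMonoidHom.comp (MulAction.toPermHom G Ω)
  have hψ : ∀ (u : G) i, ψ u i = e.symm (u • e i) := fun u i => rfl
  let G' := ψ.range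
  have hS : Cfsg.Agent.FG75.CyclicRegular.HasShifts G' := by
    intro a
    refine ⟨((g ^ a.val : C) : G), Equiv.ext fun i => ?_⟩
    rw [hψ, Equiv.symm_apply_eq, Equiv.coe_addRight]
    show g ^ a.val • g ^ i.val • ω = f (i + a)
    rw [← mul_smul, ← pow_add, hper, Nat.cast_add, ZMod.natCast_zmod_val, ZMod.natCast_zmod_val, add_comm]
  have hnt : ¬ ∀ x y : ZMod n, x ≠ 0 → y ≠ 0 → y ∈ Cfsg.Agent.FG75.CyclicRegular.orb G' x := by
    intro hall
    apply h2
    rw [MulAction.is_two_pretransitive_iff]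
    intro a b c d hab hcd
    obtain ⟨g1, hg1⟩ := MulAction.exists_smul_eq G a ω
    obtain ⟨g2, hg2⟩ := MulAction.exists_smul_eq G c ω
    have hx : e.symm (g1 • b) ≠ 0 := fun h => hab (MulAction.injective g1 (by
      show g1 • a = g1 • b
      rw [hg1, ← he0, ← h, Equiv.apply_symm_apply]))
    have hy : e.symm (g2 • d) ≠ 0 := fun h => hcd (MulAction.injective g2 (by
      show g2 • c = g2 • d
      rw [hg2, ← he0, ← h, Equiv.apply_symm_apply]))
    obtain ⟨σ, ⟨τ, rfl⟩, h0, hxy⟩ := hall _ _ hx hy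
    refine ⟨g2⁻¹ * τ * g1, ?_, ?_⟩
    · rw [mul_smul, mul_smul, hg1, inv_smul_eq_iff, hg2]
      rw [hψ, Equiv.symm_apply_eq, he0] at h0
      exact h0
    · rw [mul_smul, mul_smul, inv_smul_eq_iff]
      rw [hψ, Equiv.apply_symm_apply] at hxy
      exact e.symm.injective hxy
  obtain ⟨p, q, hp, hq, hpq, hpn, hqn⟩ : ∃ p q : ℕ, p.Prime ∧ q.Prime ∧ p ≠ q ∧ p ∣ n ∧ q ∣ n := by
    have h1 : 1 < n.primeFactors.card := by
      by_contra hle
      have h0 : n.primeFactors.Nonempty := Nat.nonempty_primeFactors.mpr hn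
      have := h0.card_pos
      exact hnp (isPrimePow_iff_card_primeFactors_eq_one.mpr (le_antisymm (not_lt.mp hle) h0.card_pos))
    obtain ⟨p, hp, q, hq, hpq⟩ := Finset.one_lt_card.mp h1
    exact ⟨p, q, Nat.prime_of_mem_primeFactors hp, Nat.prime_of_mem_primeFactors hq, hpq,
      Nat.dvd_of_mem_primeFactors hp, Nat.dvd_of_mem_primeFactors hq⟩
  have := Fact.mk hp
  have := Fact.mk hq
  obtain ⟨K, hK0, hK1, hK⟩ := Cfsg.Agent.RecogB.schur_cyclic hS hpq hpn hqn hnt
  let B : Set Ω := {x | e.symm x ∈ K}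
  have hB : MulAction.IsBlock G B := by
    refine MulAction.isBlock_iff_smul_eq_of_nonempty.mpr (fun u => ?_)
    rintro ⟨y, ⟨x, hx, rfl⟩, hy⟩
    have hx' : e.symm x ∈ K := hx
    have hy' : e.symm (u • x) ∈ K := hy
    have h0 : e.symm (u • e 0) ∈ K := by
      have h1 := hK (ψ u) ⟨u, rfl⟩ 0 (e.symm x) (by rwa [sub_zero])
      rw [hψ, hψ, Equiv.apply_symm_apply] at h1
      have := sub_mem hy' h1
      rwa [sub_sub_cancel] at this
    have hmem : ∀ v : G, e.symm (v • e 0) ∈ K → ∀ z, e.symm z ∈ K → e.symm (v • z) ∈ K := by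
      intro v hv z hz
      have h1 := hK (ψ v) ⟨v, rfl⟩ 0 (e.symm z) (by rwa [sub_zero])
      rw [hψ, hψ, Equiv.apply_symm_apply] at h1
      have := add_mem h1 hv
      rwa [sub_add_cancel] at this
    have hinv : e.symm (u⁻¹ • e 0) ∈ K := by
      have h1 := hK (ψ u⁻¹) ⟨u⁻¹, rfl⟩ 0 (e.symm (u • e 0)) (by rwa [sub_zero])
      rw [hψ, hψ, Equiv.apply_symm_apply, inv_smul_smul, Equiv.symm_apply_apply, zero_sub, neg_mem_iff] at h1
      exact h1
    refine Set.Subset.antisymm ?_ ?_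
    · rintro _ ⟨z, hz, rfl⟩
      exact hmem u h0 z hz
    · intro z hz
      exact ⟨u⁻¹ • z, hmem u⁻¹ hinv z hz, smul_inv_smul u z⟩
  rcases hprim.isTrivialBlock_of_isBlock hB with hb | hb
  · apply hK0
    rw [AddSubgroup.eq_bot_iff_forall]
    intro k hk
    exact e.injective (hb (show e.symm (e k) ∈ K by rwa [Equiv.symm_apply_apply])
      (show e.symm (e 0) ∈ K by rw [Equiv.symm_apply_apply]; exact zero_mem K))
  · apply hK1
    rw [eq_top_iff]
    intro k _
    have : e k ∈ B := hb ▸ Set.mem_univ _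
    simpa [B] using this

end Cfsg.Agent.S3559
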