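import Cfsg.Statements.S3972
import Cfsg.Agent.FG75.CyclicRegular

set_option autoImplicit false
set_option linter.all false
open Cfsg

namespace Cfsg.Agent.S3972

/-- Let `p` be a prime, `m ≥ 2`, and `G` a transitive but not doubly transitive permutation group on `p ^ m` points containing a permutation of order `p ^ m` (necessarily a full cycle). Then `G` is imprimitive, and the normal closure in `G` of the `p ^ (m - 1)`-th power of that permutation is an intransitive normal subgroup. -/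
theorem result {Ω : Type*} [Fintype Ω] [DecidableEq Ω] (p m : ℕ) (hp : p.Prime) (hm : 2 ≤ m) (hΩ : Fintype.card Ω = p ^ m) (G : Subgroup (Equiv.Perm Ω)) (htr : MulAction.IsPretransitive G Ω) (h2 : ¬ MulAction.IsMultiplyPretransitive G Ω 2) (g : G) (hg : orderOf g = p ^ m) : ¬ MulAction.IsPreprimitive G Ω ∧ ¬ MulAction.IsPretransitive (Subgroup.normalClosure ({g ^ (p ^ (m - 1))} : Set G)) Ω := by
  classical
  haveI := Fact.mk hp
  haveI : NeZero (p ^ m) := ⟨pow_ne_zero _ hp.ne_zero⟩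
  set q := g ^ p ^ (m - 1) with hq
  have hpm : p ^ (m - 1) < p ^ m := Nat.pow_lt_pow_right hp.one_lt (by omega)
  have hq1 : q ≠ 1 := fun h => by
    have := Nat.le_of_dvd (pow_pos hp.pos _) (orderOf_dvd_of_pow_eq_one h)
    rw [hg] at this
    omega
  have hgo : orderOf (g : Equiv.Perm Ω) = p ^ m := by rw [Subgroup.orderOf_coe, hg]
  obtain ⟨ω, hω⟩ : ∃ ω, (q : Equiv.Perm Ω) ω ≠ ω := by
    by_contra h
    push Not at h
    exact hq1 (Subtype.ext (Equiv.ext h))
  let f : ZMod (p ^ m) → Ω := fun i => ((g : Equiv.Perm Ω) ^ i.val) ω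
  have hper : ∀ a : ℕ, ((g : Equiv.Perm Ω) ^ a) ω = f (a : ZMod (p ^ m)) := fun a => by
    show _ = ((g : Equiv.Perm Ω) ^ (a : ZMod (p ^ m)).val) ω
    rw [ZMod.val_natCast, ← hgo, pow_mod_orderOf]
  have hfinj : Function.Injective f := by
    have key : ∀ d : ℕ, d < p ^ m → ((g : Equiv.Perm Ω) ^ d) ω = ω → d = 0 := by
      intro d hd hfix
      by_contra hd0
      obtain ⟨i, u, hu, rfl⟩ : ∃ i u, ¬ p ∣ u ∧ d = p ^ i * u :=
        Nat.exists_eq_pow_mul_and_not_dvd hd0 p hp.ne_one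
      have hi : i < m := by
        by_contra hi
        have h2 : p ^ m ≤ p ^ i := Nat.pow_le_pow_right hp.pos (by omega)
        have : 0 < u := Nat.pos_of_ne_zero fun h => hu (h ▸ dvd_zero p)
        nlinarith
      obtain ⟨v, hv⟩ : ∃ v : ℕ, (g : Equiv.Perm Ω) ^ p ^ (m - 1)
          = ((g : Equiv.Perm Ω) ^ (p ^ i * u)) ^ v := by
        have hc : u.Coprime (p ^ m) := Nat.Coprime.pow_right m ((Nat.Prime.coprime_iff_not_dvd hp).2 hu).symm
        obtain ⟨v, -, hv⟩ := Nat.exists_mul_mod_eq_one_of_coprime hc (Nat.one_lt_pow (by omega) hp.one_lt)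
        refine ⟨v * p ^ (m - 1 - i), ?_⟩
        rw [← pow_mul, show p ^ i * u * (v * p ^ (m - 1 - i)) = u * v * p ^ (m - 1) by
          rw [show p ^ (m - 1) = p ^ i * p ^ (m - 1 - i) by rw [← pow_add]; congr 1; omega]; ring]
        rw [pow_mul _ (u * v), ← pow_mod_orderOf _ (u * v), hgo, hv, pow_one]
      apply hω
      show ((g : Equiv.Perm Ω) ^ p ^ (m - 1)) ω = ω
      rw [hv]
      exact Function.IsFixedPt.perm_pow hfix v
    intro i j hij
    wlog hle : i.val ≤ j.val generalizing i j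
    · exact (this hij.symm (le_of_not_ge hle)).symm
    have h1 : ((g : Equiv.Perm Ω) ^ i.val) (((g : Equiv.Perm Ω) ^ (j.val - i.val)) ω)
        = ((g : Equiv.Perm Ω) ^ i.val) ω := by
      rw [← Equiv.Perm.mul_apply, ← pow_add, Nat.add_sub_cancel' hle]; exact hij.symm
    have := key _ (lt_of_le_of_lt (Nat.sub_le _ _) (ZMod.val_lt j)) (Equiv.injective _ h1)
    exact ZMod.val_injective _ (by omega)
  let e : ZMod (p ^ m) ≃ Ω := Equiv.ofBijective f ((Fintype.bijective_iff_injective_and_card f).2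
    ⟨hfinj, by rw [ZMod.card, hΩ]⟩)
  have heval : ∀ i, e i = f i := fun i => rfl
  let G' : Subgroup (Equiv.Perm (ZMod (p ^ m))) :=
    G.map (e.symm.permCongrHom : Equiv.Perm Ω ≃* Equiv.Perm (ZMod (p ^ m))).toMonoidHom
  have hmem : ∀ σ : Equiv.Perm Ω, σ ∈ G → e.symm.permCongr σ ∈ G' := fun σ hσ =>
    Subgroup.mem_map_of_mem _ hσ
  have hshift : ∀ a : ℕ, e.symm.permCongr ((g : Equiv.Perm Ω) ^ a) = Equiv.addRight (a : ZMod (p ^ m)) := by
    intro a
    ext i
    rw [Equiv.permCongr_apply, Equiv.symm_symm, Equiv.coe_addRight, Equiv.symm_apply_eq, heval, heval]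
    show ((g : Equiv.Perm Ω) ^ a) (((g : Equiv.Perm Ω) ^ i.val) ω) = _
    rw [← Equiv.Perm.mul_apply, ← pow_add, hper, add_comm, Nat.cast_add, ZMod.natCast_zmod_val]
  have hS : FG75.CyclicRegular.HasShifts G' := by
    intro a
    rw [← ZMod.natCast_zmod_val a, ← hshift]
    exact hmem _ (pow_mem g.2 _)
  have hnt : ¬ ∀ x y : ZMod (p ^ m), x ≠ 0 → y ≠ 0 → y ∈ FG75.CyclicRegular.orb G' x := by
    intro hall
    apply h2
    rw [MulAction.is_two_pretransitive_iff]
    intro a b c d hab hcd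
    obtain ⟨g1, hg1⟩ := MulAction.exists_smul_eq G a ω
    obtain ⟨g2, hg2⟩ := MulAction.exists_smul_eq G c ω
    have he0 : e 0 = ω := by show ((g : Equiv.Perm Ω) ^ (0 : ZMod (p ^ m)).val) ω = ω; simp
    have hx : e.symm (g1 • b) ≠ 0 := fun h => hab (MulAction.injective g1 (by
      show g1 • a = g1 • b
      rw [hg1, ← he0, ← h, Equiv.apply_symm_apply]))
    have hy : e.symm (g2 • d) ≠ 0 := fun h => hcd (MulAction.injective g2 (by
      show g2 • c = g2 • d
      rw [hg2, ← he0, ← h, Equiv.apply_symm_apply]))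
    obtain ⟨σ, ⟨τ, hτ, rfl⟩, h0, hxy⟩ := hall _ _ hx hy
    refine ⟨g2⁻¹ * ⟨τ, hτ⟩ * g1, ?_, ?_⟩
    · rw [mul_smul, mul_smul, hg1, inv_smul_eq_iff, hg2]
      have h0' : e.symm (τ (e 0)) = 0 := h0
      rw [Equiv.symm_apply_eq, he0] at h0'
      exact h0'
    · rw [mul_smul, mul_smul, inv_smul_eq_iff]
      have h1' : e.symm (τ (e (e.symm (g1 • b)))) = e.symm (g2 • d) := hxy
      rw [Equiv.apply_symm_apply] at h1'
      exact e.symm.injective h1'
  obtain ⟨K, hK0, hK1, hKinv⟩ := FG75.CyclicRegular.exists_invariant_subgroup p m hm rfl hS hnt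
  let N : Subgroup G :=
    { carrier := {σ | ∀ i, e.symm ((σ : Equiv.Perm Ω) (e i)) - i ∈ K}
      one_mem' := fun i => by simp
      mul_mem' := fun {a b} ha hb i => by
        have h1 := ha (e.symm ((b : Equiv.Perm Ω) (e i)))
        rw [Equiv.apply_symm_apply] at h1
        have := add_mem h1 (hb i)
        rwa [sub_add_sub_cancel] at this
      inv_mem' := fun {a} ha i => by
        have h1 := neg_mem (ha (e.symm ((a⁻¹ : G) • e i)))
        rw [Equiv.apply_symm_apply, neg_sub] at h1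
        have h2 : (a : Equiv.Perm Ω) ((a⁻¹ : G) • e i) = e i := smul_inv_smul a (e i)
        rw [h2, Equiv.symm_apply_apply] at h1
        exact h1 }
  have hNn : N.Normal := by
    constructor
    intro σ hσ τ i
    set w := e.symm ((τ⁻¹ : G) • e i) with hw
    have h1 := hKinv _ (hmem _ τ.2) w (e.symm ((σ : Equiv.Perm Ω) (e w))) (hσ w)
    have h2 : e.symm.permCongr (τ : Equiv.Perm Ω) w = i := by
      show e.symm ((τ : Equiv.Perm Ω) (e w)) = i
      rw [hw, Equiv.apply_symm_apply, Equiv.symm_apply_eq]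
      exact smul_inv_smul τ (e i)
    rw [h2] at h1
    have h3 : e.symm.permCongr (τ : Equiv.Perm Ω) (e.symm ((σ : Equiv.Perm Ω) (e w)))
        = e.symm (((τ * σ * τ⁻¹ : G) : Equiv.Perm Ω) (e i)) := by
      show e.symm ((τ : Equiv.Perm Ω) (e (e.symm ((σ : Equiv.Perm Ω) (e w))))) = _
      rw [Equiv.apply_symm_apply, hw, Equiv.apply_symm_apply]
      rfl
    rw [h3] at h1
    exact h1
  have hqN : q ∈ N := by
    obtain ⟨x, hxK, hx0⟩ : ∃ x ∈ K, x ≠ 0 := by
      by_contra h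
      push Not at h
      exact hK0 ((AddSubgroup.eq_bot_iff_forall K).2 h)
    intro i
    have hqi : e.symm ((q : Equiv.Perm Ω) (e i)) = i + ((p ^ (m - 1) : ℕ) : ZMod (p ^ m)) := by
      have := Equiv.ext_iff.1 (hshift (p ^ (m - 1))) i
      exact this
    rw [hqi, add_sub_cancel_left]
    obtain ⟨j, u, hu, hju⟩ : ∃ j u, ¬ p ∣ u ∧ x.val = p ^ j * u :=
      Nat.exists_eq_pow_mul_and_not_dvd (fun h => hx0 ((ZMod.val_eq_zero x).1 h)) p hp.ne_one
    have hj : j ≤ m - 1 := by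
      by_contra hj
      have h1 : p ^ m ≤ p ^ j := Nat.pow_le_pow_right hp.pos (by omega)
      have := ZMod.val_lt x
      have : 0 < u := Nat.pos_of_ne_zero fun h => hu (h ▸ dvd_zero p)
      nlinarith
    obtain ⟨v, hv⟩ := (ZMod.isUnit_iff_coprime u (p ^ m)).2
      (Nat.Coprime.pow_right m ((Nat.Prime.coprime_iff_not_dvd hp).2 hu).symm)
    have h4 := AddSubgroup.nsmul_mem K hxK ((↑v⁻¹ : ZMod (p ^ m)).val * p ^ (m - 1 - j))
    rw [nsmul_eq_mul, ← ZMod.natCast_zmod_val x, hju] at h4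
    push_cast [ZMod.natCast_zmod_val] at h4
    rw [← hv, show (↑v⁻¹ : ZMod (p ^ m)) * (p : ZMod (p ^ m)) ^ (m - 1 - j) * ((p : ZMod (p ^ m)) ^ j * ↑v)
        = (↑v⁻¹ * ↑v) * ((p : ZMod (p ^ m)) ^ (m - 1 - j) * (p : ZMod (p ^ m)) ^ j) by ring,
      Units.inv_mul, one_mul, ← pow_add, Nat.sub_add_cancel hj] at h4
    exact_mod_cast h4
  have hle : Subgroup.normalClosure ({q} : Set G) ≤ N :=
    Subgroup.normalClosure_le_normal (Set.singleton_subset_iff.2 hqN)
  have hintr : ¬ MulAction.IsPretransitive (Subgroup.normalClosure ({q} : Set G)) Ω := by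
    intro ht
    apply hK1
    refine eq_top_iff.2 fun i _ => ?_
    obtain ⟨σ, hσ⟩ := ht.exists_smul_eq (e 0) (e i)
    have := hle σ.2 0
    rw [sub_zero, show ((σ : G) : Equiv.Perm Ω) (e 0) = e i from hσ, Equiv.symm_apply_apply] at this
    exact this
  refine ⟨fun hprim => hintr ?_, hintr⟩
  refine MulAction.IsQuasiPreprimitive.isPretransitive_of_normal fun hfix => hω ?_
  exact (Set.eq_univ_iff_forall.1 hfix ω) ⟨q, Subgroup.subset_normalClosure rfl⟩

end Cfsg.Agent.S3972
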