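import Cfsg.Statements.S3305
import Cfsg.Agent.LAE65.Basic

set_option autoImplicit false
open Cfsg

namespace Cfsg.Agent.S3305

open Subgroup

/-- A Sylow subgroup of a preimage maps onto the given `p`-subgroup of the quotient. -/
theorem map_eq_of_sylow_comap {G : Type*} [Group G] [Finite G] {p : ℕ} [Fact p.Prime]
    (H : Subgroup G) [H.Normal] (D : Subgroup (G ⧸ H)) (hD : IsPGroup p D) {R : Subgroup G}
    (hRD : R ≤ D.comap (QuotientGroup.mk' H)) (hi : ¬ p ∣ R.relIndex (D.comap (QuotientGroup.mk' H))) :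
    R.map (QuotientGroup.mk' H) = D := by
  set f := QuotientGroup.mk' H
  have hle : R.map f ≤ D := map_le_iff_le_comap.mpr hRD
  refine le_antisymm hle (relIndex_eq_one.mp ?_)
  obtain ⟨k, hk⟩ := hD.index ((R.map f).subgroupOf D)
  rcases Nat.eq_zero_or_pos k with rfl | hk0
  · rw [relIndex, hk, pow_zero]
  · exfalso
    apply hi
    have h1 : (R.map f).relIndex D = (R ⊔ H).relIndex (D.comap f) := by
      rw [← relIndex_comap (R.map f) f (D.comap f) |>.trans (congrArg _ (map_comap_eq_self_of_surjective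
        (QuotientGroup.mk'_surjective H) D))]
      rw [comap_map_eq, QuotientGroup.ker_mk']
    have h2 : (R ⊔ H).relIndex (D.comap f) ∣ R.relIndex (D.comap f) :=
      relIndex_dvd_of_le_left _ le_sup_left
    refine Nat.dvd_trans ?_ (h1 ▸ h2)
    rw [relIndex, hk]
    exact dvd_pow_self p hk0.ne'

/-- If any two distinct Sylow 2-subgroups of the finite group G intersect in a cyclic group, then the same holds in every quotient group G/H, H a normal subgroup of G. -/
theorem result {G : Type*} [Group G] [Finite G]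
    (hC : ∀ S T : Sylow 2 G, S ≠ T → IsCyclic ↥((S : Subgroup G) ⊓ (T : Subgroup G))) (H : Subgroup G) [H.Normal] :
    ∀ S T : Sylow 2 (G ⧸ H), S ≠ T → IsCyclic ↥((S : Subgroup (G ⧸ H)) ⊓ (T : Subgroup (G ⧸ H))) := by
  intro S' T' hne
  have : Fact (Nat.Prime 2) := ⟨Nat.prime_two⟩
  set f := QuotientGroup.mk' H
  set D := (S' : Subgroup (G ⧸ H)) ⊓ (T' : Subgroup (G ⧸ H))
  obtain ⟨R, -, hRX, hR, hRi⟩ := LAE65.exists_sylow_in (p := 2)
    (bot_le : (⊥ : Subgroup G) ≤ D.comap f) IsPGroup.of_bot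
  have hRD : R.map f = D := map_eq_of_sylow_comap H D (S'.2.to_le inf_le_left) hRX hRi
  have hext : ∀ P' : Sylow 2 (G ⧸ H), D ≤ (P' : Subgroup (G ⧸ H)) →
      ∃ P : Sylow 2 G, R ≤ (P : Subgroup G) ∧ (P : Subgroup G).map f = (P' : Subgroup (G ⧸ H)) := by
    intro P' hDP
    obtain ⟨Q, hRQ, hQK, hQ, hQi⟩ := LAE65.exists_sylow_in
      (hRX.trans (comap_mono hDP)) hR
    have hQi' : ¬ 2 ∣ Q.index := by
      rw [← relIndex_mul_index hQK]
      refine Nat.Prime.not_dvd_mul Nat.prime_two hQi ?_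
      rw [index_comap_of_surjective _ (QuotientGroup.mk'_surjective H)]
      exact P'.not_dvd_index
    refine ⟨hQ.toSylow hQi', ?_, ?_⟩
    · rw [IsPGroup.toSylow_coe]; exact hRQ
    · rw [IsPGroup.toSylow_coe]
      exact map_eq_of_sylow_comap H _ P'.2 hQK hQi
  obtain ⟨S, hRS, hS⟩ := hext S' inf_le_left
  obtain ⟨T, hRT, hT⟩ := hext T' inf_le_right
  have hST : S ≠ T := fun h => hne (Sylow.ext (by rw [← hS, ← hT, h]))
  have : IsCyclic ↥((S : Subgroup G) ⊓ (T : Subgroup G)) := hC S T hST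
  have hcR : IsCyclic R := Subgroup.isCyclic_of_le (le_inf hRS hRT)
  have hDc : IsCyclic ↥(R.map f) := isCyclic_of_surjective (f.subgroupMap R) (f.subgroupMap_surjective R)
  rwa [hRD] at hDc

end Cfsg.Agent.S3305
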