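import Cfsg.Statements.S0558
import Cfsg.Agent.Lib.Transfer.Hall

set_option autoImplicit false
open Cfsg

namespace Cfsg.Agent.S0558


open Cfsg.Agent.Transfer

/-- Let H be a subgroup of a finite group G that is not a Sylow subgroup of G for any prime, and suppose that for every prime p dividing the order of H and every Sylow p-subgroup P of H the normalizer of P in G is exactly H. Then some normal subgroup of G is a complement to H. -/
theorem result {G : Type*} [Group G] [Finite G] (H : Subgroup G) (hnot : ∀ p : ℕ, p.Prime → ∀ P : Sylow p G, (P : Subgroup G) ≠ H) (hnorm : ∀ p : ℕ, p.Prime → p ∣ Nat.card H → ∀ P : Sylow p H, Subgroup.normalizer (((P : Subgroup H).map H.subtype : Subgroup G) : Set G) = H) : ∃ N : Subgroup G, N.Normal ∧ Subgroup.IsComplement' N H := by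
  -- every Sylow subgroup of `H` is normal in `H`
  have hnilp : Group.IsNilpotent H := by
    refine ((Group.isNilpotent_of_finite_tfae (G := H)).out 0 3).mpr fun p hp P => ?_
    have : Fact p.Prime := hp
    rcases em (p ∣ Nat.card H) with hd | hd
    · rw [← Subgroup.normalizer_eq_top_iff, eq_top_iff]
      intro x _
      have hx : (x : G) ∈ Subgroup.normalizer (((P : Subgroup H).map H.subtype : Subgroup G) : Set G) :=
        (hnorm p hp.out hd P).ge x.2
      rw [Subgroup.mem_normalizer_iff] at hx ⊢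
      intro y
      have := hx y
      rw [show (x : G) * y * (x : G)⁻¹ = ((x * y * x⁻¹ : H) : G) by simp,
        show ((y : G)) = H.subtype y from rfl,
        show (((x * y * x⁻¹ : H)) : G) = H.subtype (x * y * x⁻¹) from rfl,
        Subgroup.mem_map_iff_mem H.subtype_injective,
        Subgroup.mem_map_iff_mem H.subtype_injective] at this
      exact this
    · rw [(P : Subgroup H).eq_bot_of_card_eq
        (P.2.card_eq_or_dvd.resolve_right fun h => hd (h.trans (Subgroup.card_subgroup_dvd_card _)))]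
      infer_instance
  -- Sylow subgroups of `H` are Sylow subgroups of `G`
  have hsyl : ∀ p : ℕ, p.Prime → p ∣ Nat.card H → ∃ P : Sylow p G,
      (P : Subgroup G) ≤ H ∧ Subgroup.normalizer ((P : Subgroup G) : Set G) = H := by
    intro p hp hd
    have := Fact.mk hp
    let Q : Sylow p H := default
    obtain ⟨P, hP⟩ := (Q.2.map H.subtype).exists_le_sylow
    suffices (P : Subgroup G) = (Q : Subgroup H).map H.subtype by
      exact ⟨P, this ▸ Subgroup.map_subtype_le _, this ▸ hnorm p hp hd Q⟩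
    set D := (Q : Subgroup H).map H.subtype with hD
    by_contra hne
    have hlt : D.subgroupOf P < ⊤ := lt_top_iff_ne_top.mpr fun he =>
      hne (le_antisymm (Subgroup.subgroupOf_eq_top.mp he) hP)
    have : Group.IsNilpotent (P : Subgroup G) := P.2.isNilpotent
    obtain ⟨x, hx, hxD⟩ := SetLike.exists_of_lt (Group.normalizerCondition_of_isNilpotent _ hlt)
    rw [← Subgroup.subgroupOf_normalizer_eq hP, hnorm p hp hd Q] at hx
    rw [Subgroup.mem_subgroupOf] at hx hxD
    refine hxD ?_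
    obtain ⟨k, hk⟩ := IsPGroup.iff_orderOf.mp P.2 x
    rw [← Subgroup.orderOf_coe] at hk
    exact ⟨⟨x, hx⟩, nilpotent_mem_sylow hnilp Q (by rw [Subgroup.orderOf_mk, hk]), rfl⟩
  have hHall : (Nat.card H).Coprime H.index := Nat.coprime_of_dvd fun p hp hdH hdI => by
    have := Fact.mk hp
    obtain ⟨P, hP, -⟩ := hsyl p hp hdH
    exact P.not_dvd_index (hdI.trans (Subgroup.index_dvd_of_le hP))
  refine exists_normal_complement_of_hall_control H hnilp hHall fun x hx y hy hxy => ?_
  obtain ⟨g, hg⟩ := hxy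
  -- `g` agrees with an element of `H` on the primary parts of `x`
  have key : ∀ r : ℕ, r.Prime → r ∣ Nat.card H → ∃ h ∈ H, ∀ z ∈ Subgroup.zpowers x,
      (∃ k, orderOf z = r ^ k) → h * z * h⁻¹ = g * z * g⁻¹ := by
    intro r hr hrH
    obtain ⟨p, hp, hpH, hpr⟩ : ∃ p, p.Prime ∧ p ∣ Nat.card H ∧ p ≠ r := by
      by_contra hcon
      push Not at hcon
      have := Fact.mk hr
      obtain ⟨P, hPH, -⟩ := hsyl r hr hrH
      refine hnot r hr P (P.is_maximal' (IsPGroup.of_card (n := (Nat.card H).primeFactorsList.length)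
        (Nat.eq_prime_pow_of_unique_prime_dvd Nat.card_pos.ne' fun {q} hq hqH => hcon q hq hqH))
        hPH).symm
    have := Fact.mk hp
    obtain ⟨P, hPH, hPN⟩ := hsyl p hp hpH
    set T : Set G := {w | ∃ z ∈ Subgroup.zpowers x, (∃ k, orderOf z = r ^ k) ∧ g * z * g⁻¹ = w}
    have hTH : ∀ z ∈ Subgroup.zpowers x, g * z * g⁻¹ ∈ H := by
      intro z hz
      obtain ⟨n, rfl⟩ := hz
      rw [← conj_zpow, hg]
      exact zpow_mem hy n
    have hcomm : ∀ (z : G) (k : ℕ), z ∈ H → orderOf z = r ^ k → ∀ a ∈ (P : Subgroup G),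
        z * a = a * z := by
      intro z k hz hk a ha
      obtain ⟨i, hi⟩ := IsPGroup.iff_orderOf.mp P.2 ⟨a, ha⟩
      rw [Subgroup.orderOf_mk] at hi
      refine congrArg Subtype.val (nilpotent_commute_of_coprime hnilp
        (x := (⟨z, hz⟩ : H)) (y := ⟨a, hPH ha⟩) ?_).eq
      rw [Subgroup.orderOf_mk, Subgroup.orderOf_mk, hi, hk]
      exact Nat.Coprime.pow _ _ ((Nat.coprime_primes hr hp).mpr hpr.symm)
    have h1 : (P : Subgroup G) ≤ Subgroup.centralizer T := by
      intro a ha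
      rw [Subgroup.mem_centralizer_iff]
      rintro w ⟨z, hz, ⟨k, hk⟩, rfl⟩
      exact hcomm _ k (hTH z hz) ((MulEquiv.orderOf_eq (MulAut.conj g) z).trans hk) a ha
    have h2 : ((g • P : Sylow p G) : Subgroup G) ≤ Subgroup.centralizer T := by
      rintro _ ⟨a, ha, rfl⟩
      rw [Subgroup.mem_centralizer_iff]
      rintro w ⟨z, hz, ⟨k, hk⟩, rfl⟩
      show g * z * g⁻¹ * (g * a * g⁻¹) = g * a * g⁻¹ * (g * z * g⁻¹)
      calc g * z * g⁻¹ * (g * a * g⁻¹) = g * (z * a) * g⁻¹ := by simp [mul_assoc]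
        _ = g * (a * z) * g⁻¹ := by rw [hcomm z k (Subgroup.zpowers_le.mpr hx hz) hk a ha]
        _ = _ := by simp [mul_assoc]
    obtain ⟨c, hc⟩ := MulAction.exists_smul_eq (Subgroup.centralizer T)
      ((g • P).subtype h2) (P.subtype h1)
    rw [Sylow.smul_subtype] at hc
    have hc2 : ((c : G) * g) • P = P := by
      rw [mul_smul]
      exact Sylow.subtype_injective hc
    refine ⟨(c : G) * g, hPN ▸ Sylow.smul_eq_iff_mem_normalizer.mp hc2, fun z hz hk => ?_⟩
    have := Subgroup.mem_centralizer_iff.mp c.2 (g * z * g⁻¹) ⟨z, hz, hk, rfl⟩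
    calc (c : G) * g * z * ((c : G) * g)⁻¹ = (c : G) * (g * z * g⁻¹) * (c : G)⁻¹ := by
          simp [mul_assoc]
      _ = g * z * g⁻¹ := by rw [← this, mul_inv_cancel_right]
  -- glue the parts together
  suffices ∀ s : Finset ℕ, ∃ h ∈ H, ∀ r ∈ s, r.Prime → r ∣ Nat.card H → ∀ z ∈ Subgroup.zpowers x,
      (∃ k, orderOf z = r ^ k) → h * z * h⁻¹ = g * z * g⁻¹ by
    obtain ⟨h, hh, hh'⟩ := this (Nat.card H).primeFactors
    refine ⟨h, hh, ?_⟩
    rw [← hg]
    let M : Subgroup G :=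
      { carrier := {z | h * z * h⁻¹ = g * z * g⁻¹}
        one_mem' := by simp
        mul_mem' := fun {a b} (ha : h * a * h⁻¹ = g * a * g⁻¹) (hb : h * b * h⁻¹ = g * b * g⁻¹) => by
          show h * (a * b) * h⁻¹ = g * (a * b) * g⁻¹
          rw [← conj_mul, ha, hb, conj_mul]
        inv_mem' := fun {a} (ha : h * a * h⁻¹ = g * a * g⁻¹) => by
          show h * a⁻¹ * h⁻¹ = g * a⁻¹ * g⁻¹
          rw [← conj_inv, ha, conj_inv] }
    refine (Subgroup.subgroupOf_eq_top.mp (eq_top_of_prime_pow_orderOf_mem fun r hr z ⟨k, hk⟩ => ?_) :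
      Subgroup.zpowers x ≤ M) (Subgroup.mem_zpowers x)
    rw [← Subgroup.orderOf_coe] at hk
    rcases Nat.eq_zero_or_pos k with hk0 | hk0
    · rw [hk0, pow_zero, orderOf_eq_one_iff] at hk
      rw [Subgroup.mem_subgroupOf, hk]
      exact one_mem _
    have hd : r ∣ Nat.card H := (dvd_pow_self r hk0.ne').trans (hk.symm.dvd.trans
      (Subgroup.orderOf_dvd_natCard H (Subgroup.zpowers_le.mpr hx z.2)))
    exact hh' r (Nat.mem_primeFactors.mpr ⟨hr, hd, Nat.card_pos.ne'⟩) hr hd z z.2 ⟨k, hk⟩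
  intro s
  induction s using Finset.induction with
  | empty => exact ⟨1, one_mem _, by simp⟩
  | insert r s hrs ih =>
    obtain ⟨h0, hh0, h0'⟩ := ih
    by_cases hr : r.Prime ∧ r ∣ Nat.card H
    swap
    · refine ⟨h0, hh0, fun q hq hqp hqd => ?_⟩
      rcases Finset.mem_insert.mp hq with rfl | hq
      · exact absurd ⟨hqp, hqd⟩ hr
      · exact h0' q hq hqp hqd
    obtain ⟨hr, hrH⟩ := hr
    have := Fact.mk hr
    obtain ⟨h1, hh1, h1'⟩ := key r hr hrH
    -- split off the `r`-parts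
    let R : Sylow r H := default
    have hcov := sylow_sup_pResidual_eq_top R
    obtain ⟨u, hu, v, hv, huv⟩ := Subgroup.mem_sup_of_normal_right.mp
      (hcov.ge (Subgroup.mem_top (⟨h1, hh1⟩ : H)))
    obtain ⟨u0, hu0, v0, hv0, huv0⟩ := Subgroup.mem_sup_of_normal_right.mp
      (hcov.ge (Subgroup.mem_top (⟨h0, hh0⟩ : H)))
    refine ⟨(u * v0 : H), SetLike.coe_mem _, fun q hq hqp hqd z hz hk => ?_⟩
    have hzH : z ∈ H := Subgroup.zpowers_le.mpr hx hz
    obtain ⟨k, hk'⟩ := hk
    have cent : ∀ (q' k' : ℕ) (z' : H), q'.Prime → orderOf z' = q' ^ k' →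
        (q' = r → ∀ w ∈ pResidual r H, w * z' = z' * w) ∧
        (q' ≠ r → ∀ w ∈ (R : Subgroup H), w * z' = z' * w) := by
      intro q' k' z' hq' hz'
      refine ⟨?_, fun hne w hw => ?_⟩
      · rintro rfl w hw
        refine Subgroup.mem_centralizer_singleton_iff.mp
          ((pResidual_le_iff.mpr fun a ha => ?_ :
            pResidual q' H ≤ Subgroup.centralizer {z'}) hw)
        rw [Subgroup.mem_centralizer_singleton_iff]
        refine (nilpotent_commute_of_coprime hnilp ?_).eq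
        rw [hz']
        exact ha.pow_right k'
      · obtain ⟨i, hi⟩ := IsPGroup.iff_orderOf.mp R.2 ⟨w, hw⟩
        rw [Subgroup.orderOf_mk] at hi
        refine (nilpotent_commute_of_coprime hnilp ?_).eq
        rw [hi, hz']
        exact Nat.Coprime.pow _ _ ((Nat.coprime_primes hr hq').mpr hne.symm)
    obtain ⟨cv, cu⟩ := cent q k ⟨z, hzH⟩ hqp (by rw [Subgroup.orderOf_mk, hk'])
    by_cases hqr : q = r
    · subst hqr
      have hconj : u * v0 * ⟨z, hzH⟩ * (u * v0)⁻¹ = ⟨h1, hh1⟩ * ⟨z, hzH⟩ * (⟨h1, hh1⟩ : H)⁻¹ := by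
        rw [← huv]
        simp only [mul_inv_rev, mul_assoc]
        rw [← mul_assoc v0, cv rfl v0 hv0, ← mul_assoc v, cv rfl v hv]
        simp [mul_assoc]
      exact (congrArg Subtype.val hconj).trans (h1' z hz ⟨k, hk'⟩)
    · have hq' : q ∈ s := (Finset.mem_insert.mp hq).resolve_left hqr
      obtain ⟨-, cu'⟩ := cent q k (v0 * ⟨z, hzH⟩ * v0⁻¹) hqp
        ((MulEquiv.orderOf_eq (MulAut.conj v0) _).trans (by rw [Subgroup.orderOf_mk, hk']))
      have hconj : u * v0 * ⟨z, hzH⟩ * (u * v0)⁻¹ = ⟨h0, hh0⟩ * ⟨z, hzH⟩ * (⟨h0, hh0⟩ : H)⁻¹ := by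
        rw [← huv0]
        calc u * v0 * ⟨z, hzH⟩ * (u * v0)⁻¹ = u * (v0 * ⟨z, hzH⟩ * v0⁻¹) * u⁻¹ := by
              simp [mul_assoc]
          _ = u0 * (v0 * ⟨z, hzH⟩ * v0⁻¹) * u0⁻¹ := by
            rw [cu' hqr u hu, cu' hqr u0 hu0, mul_inv_cancel_right, mul_inv_cancel_right]
          _ = _ := by simp [mul_assoc]
      exact (congrArg Subtype.val hconj).trans (h0' q hq' hqp hqd z hz ⟨k, hk'⟩)

end Cfsg.Agent.S0558
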