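import Cfsg.Statements.S0559
import Mathlib.Algebra.Group.Subgroup.Pointwise

set_option autoImplicit false
open Pointwise
open Cfsg

namespace Cfsg.Agent.S0559


open Subgroup in
lemma conj_smul_eq_self {G : Type*} [Group G] {H : Subgroup G} {h : G} (hh : h ∈ H) :
    MulAut.conj h • H = H := by
  ext z
  rw [mem_pointwise_smul_iff_inv_smul_mem]
  rw [← map_inv, MulAut.smul_def, MulAut.conj_apply, inv_inv, mul_mem_cancel_right hh,
    mul_mem_cancel_left (inv_mem hh)]

/-- Let G = HK be a finite group (every element a product of an element of H and an element of K), and let A and B be conjugates of H and K. Then every element is a product of an element of A and one of B, and there is g with A = gHg⁻¹ and B = gKg⁻¹ simultaneously. -/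
theorem result {G : Type*} [Group G] [Finite G] (H K A B : Subgroup G) (hHK : ∀ g : G, ∃ h ∈ H, ∃ k ∈ K, g = h * k) (hA : ∃ x : G, A = MulAut.conj x • H) (hB : ∃ y : G, B = MulAut.conj y • K) : (∀ g : G, ∃ a ∈ A, ∃ b ∈ B, g = a * b) ∧ ∃ g : G, A = MulAut.conj g • H ∧ B = MulAut.conj g • K := by
  obtain ⟨x, rfl⟩ := hA
  obtain ⟨y, rfl⟩ := hB
  obtain ⟨h, hh, k, hk, hxy⟩ := hHK (x⁻¹ * y)
  have hA' : MulAut.conj x • H = MulAut.conj (x * h) • H := by
    rw [map_mul, mul_smul, conj_smul_eq_self hh]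
  have hB' : MulAut.conj y • K = MulAut.conj (x * h) • K := by
    rw [show y = x * h * k by rw [mul_assoc, ← hxy, mul_inv_cancel_left],
      map_mul (MulAut.conj) (x * h) k, mul_smul, conj_smul_eq_self hk]
  refine ⟨fun g => ?_, x * h, hA', hB'⟩
  rw [hA', hB']
  obtain ⟨a, ha, b, hb, hab⟩ := hHK ((x * h)⁻¹ * g * (x * h))
  refine ⟨MulAut.conj (x * h) a, Subgroup.smul_mem_pointwise_smul _ _ _ ha,
    MulAut.conj (x * h) b, Subgroup.smul_mem_pointwise_smul _ _ _ hb, ?_⟩
  rw [← map_mul, ← hab, MulAut.conj_apply]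
  simp [mul_assoc]

end Cfsg.Agent.S0559
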