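import Cfsg.Statements.S0560
import Mathlib.GroupTheory.Sylow

set_option autoImplicit false
open Pointwise
open Cfsg

namespace Cfsg.Agent.S0560


open Subgroup Pointwise

lemma card_mul_mul_card_inf {G : Type*} [Group G] (A B : Subgroup G) :
    Nat.card ↥((A : Set G) * (B : Set G)) * Nat.card ↥(A ⊓ B) = Nat.card A * Nat.card B := by
  rw [card_mul_eq_card_subgroup_mul_card_quotient B (A : Set G)]
  let f : A ⧸ B.subgroupOf A → G ⧸ B :=
    Quotient.map' (fun a : A => (a : G)) fun a b h => by
      rw [QuotientGroup.leftRel_apply] at h ⊢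
      exact h
  have hf : Function.Injective f := by
    intro x y h
    induction x using QuotientGroup.induction_on with | H a => ?_
    induction y using QuotientGroup.induction_on with | H b => ?_
    exact QuotientGroup.eq.mpr (QuotientGroup.eq.mp h : (a : G)⁻¹ * b ∈ B)
  have himg : ((QuotientGroup.mk : G → G ⧸ B) '' (A : Set G)) = Set.range f := by
    ext x
    constructor
    · rintro ⟨a, ha, rfl⟩
      exact ⟨((⟨a, ha⟩ : A) : A ⧸ B.subgroupOf A), rfl⟩
    · rintro ⟨y, rfl⟩
      induction y using QuotientGroup.induction_on with | H a => ?_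
      exact ⟨a, a.2, rfl⟩
  rw [himg, Nat.card_range_of_injective hf, ← index_eq_card]
  have h1 : Nat.card (B.subgroupOf A) = Nat.card ↥(A ⊓ B) := by
    rw [← card_map_of_injective A.subtype_injective, subgroupOf_map_subtype, inf_comm]
  rw [← card_mul_index (B.subgroupOf A), h1]
  ring

lemma map_smul {G : Type*} [Group G] {p : ℕ} {H : Subgroup G} (P : Sylow p H) (h : H) :
    ((h • P : Sylow p H) : Subgroup H).map H.subtype =
      MulAut.conj (h : G) • ((P : Subgroup H).map H.subtype) := by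
  rw [Sylow.coe_subgroup_smul]
  ext x
  constructor
  · rintro ⟨_, ⟨a, ha, rfl⟩, rfl⟩
    exact ⟨(a : G), ⟨a, ha, rfl⟩, rfl⟩
  · rintro ⟨_, ⟨a, ha, rfl⟩, rfl⟩
    exact ⟨MulAut.conj h a, ⟨a, ha, rfl⟩, rfl⟩

/-- Let the finite group G be the product HK of two subgroups and p a prime. Then there are Sylow p-subgroups P of H and Q of K and a Sylow p-subgroup R of G whose underlying set is the product set of P and Q. -/
theorem result {G : Type*} [Group G] [Finite G] (H K : Subgroup G) (hHK : ∀ g : G, ∃ h ∈ H, ∃ k ∈ K, g = h * k) (p : ℕ) [Fact p.Prime] : ∃ (P : Sylow p H) (Q : Sylow p K) (R : Sylow p G), ((R : Subgroup G) : Set G) = (((P : Subgroup H).map H.subtype : Subgroup G) : Set G) * (((Q : Subgroup K).map K.subtype : Subgroup G) : Set G) := by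
  classical
  have hp := (Fact.out : p.Prime)
  obtain ⟨P⟩ : Nonempty (Sylow p H) := inferInstance
  obtain ⟨Q⟩ : Nonempty (Sylow p K) := inferInstance
  set PG : Subgroup G := (P : Subgroup H).map H.subtype with hPG
  set QG : Subgroup G := (Q : Subgroup K).map K.subtype with hQG
  obtain ⟨R, hR⟩ := (P.isPGroup'.map H.subtype).exists_le_sylow
  obtain ⟨R', hR'⟩ := (Q.isPGroup'.map K.subtype).exists_le_sylow
  obtain ⟨g, hg⟩ := MulAction.exists_smul_eq G R' R
  obtain ⟨h, hh, k, hk, rfl⟩ := hHK g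
  refine ⟨(⟨h, hh⟩ : H)⁻¹ • P, (⟨k, hk⟩ : K) • Q, h⁻¹ • R, ?_⟩
  have e1 : (((⟨h, hh⟩ : H)⁻¹ • P : Sylow p H) : Subgroup H).map H.subtype =
      MulAut.conj h⁻¹ • PG := map_smul P _
  have e2 : (((⟨k, hk⟩ : K) • Q : Sylow p K) : Subgroup K).map K.subtype = MulAut.conj k • QG :=
    map_smul Q _
  set P' := (((⟨h, hh⟩ : H)⁻¹ • P : Sylow p H) : Subgroup H).map H.subtype with hP'
  set Q' := (((⟨k, hk⟩ : K) • Q : Sylow p K) : Subgroup K).map K.subtype with hQ'
  set S : Subgroup G := ((h⁻¹ • R : Sylow p G) : Subgroup G) with hS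
  have hPS : P' ≤ S := by
    rw [e1, hS, Sylow.coe_subgroup_smul]
    exact Subgroup.pointwise_smul_le_pointwise_smul_iff.mpr hR
  have hQS : Q' ≤ S := by
    rw [e2, hS, ← hg, smul_smul, Sylow.coe_subgroup_smul, inv_mul_cancel_left]
    exact Subgroup.pointwise_smul_le_pointwise_smul_iff.mpr hR'
  have hsub : (P' : Set G) * (Q' : Set G) ⊆ S := by
    rintro _ ⟨a, ha, b, hb, rfl⟩
    exact mul_mem (hPS ha) (hQS hb)
  refine (Set.eq_of_subset_of_ncard_le hsub ?_ (Set.toFinite _)).symm
  rw [← Nat.card_coe_set_eq, ← Nat.card_coe_set_eq]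
  -- compare cardinalities
  have hall : (H : Set G) * (K : Set G) = Set.univ := Set.eq_univ_of_forall fun g => by
    obtain ⟨a, ha, b, hb, rfl⟩ := hHK g
    exact ⟨a, ha, b, hb, rfl⟩
  have hG := card_mul_mul_card_inf H K
  rw [hall, Nat.card_congr (Equiv.Set.univ G)] at hG
  have hPQ := card_mul_mul_card_inf P' Q'
  have cP : Nat.card P' = p ^ (Nat.card H).factorization p := by
    rw [hP', Subgroup.card_map_of_injective H.subtype_injective, Sylow.card_eq_multiplicity]
  have cQ : Nat.card Q' = p ^ (Nat.card K).factorization p := by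
    rw [hQ', Subgroup.card_map_of_injective K.subtype_injective, Sylow.card_eq_multiplicity]
  have cS : Nat.card S = p ^ (Nat.card G).factorization p := by
    rw [hS, Sylow.card_eq_multiplicity]
  have hfac : (Nat.card G).factorization p + (Nat.card ↥(H ⊓ K)).factorization p =
      (Nat.card H).factorization p + (Nat.card K).factorization p := by
    have := congrArg (fun n => n.factorization p) hG
    simp only [Nat.factorization_mul Nat.card_pos.ne' Nat.card_pos.ne', Finsupp.add_apply] at this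
    exact this
  obtain ⟨n, hn⟩ := IsPGroup.iff_card.mp
    ((h⁻¹ • R : Sylow p G).isPGroup'.to_le ((inf_le_left (b := Q')).trans hPS))
  have hd : Nat.card ↥(P' ⊓ Q') ∣ Nat.card ↥(H ⊓ K) :=
    Subgroup.card_dvd_of_le (inf_le_inf (Subgroup.map_subtype_le _) (Subgroup.map_subtype_le _))
  rw [hn, hp.pow_dvd_iff_le_factorization Nat.card_pos.ne'] at hd
  rw [hn, cP, cQ, ← pow_add, ← hfac] at hPQ
  show Nat.card S ≤ _
  rw [cS]
  refine Nat.le_of_mul_le_mul_right ?_ (pow_pos hp.pos n)
  rw [hPQ, ← pow_add]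
  exact Nat.pow_le_pow_right hp.pos (Nat.add_le_add_left hd _)

end Cfsg.Agent.S0560
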