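import Cfsg.Statements.S0562
import Mathlib.Algebra.Group.Subgroup.Finite
import Mathlib.Algebra.Group.Subgroup.Pointwise

set_option autoImplicit false
open Cfsg

namespace Cfsg.Agent.S0562

/-- Let the finite group G be the product HK of subgroups, A normal in H, B normal in K, and L the normalizer of the subgroup generated by A and B. Then every element of L is a product of an element of L ∩ H and an element of L ∩ K. -/
theorem result {G : Type*} [Group G] [Finite G] (H K A B : Subgroup G) (hHK : ∀ g : G, ∃ h ∈ H, ∃ k ∈ K, g = h * k) (hA : A ≤ H) (hAn : (A.subgroupOf H).Normal) (hB : B ≤ K) (hBn : (B.subgroupOf K).Normal) : ∀ g ∈ Subgroup.normalizer ((A ⊔ B : Subgroup G) : Set G), ∃ h ∈ Subgroup.normalizer ((A ⊔ B : Subgroup G) : Set G) ⊓ H, ∃ k ∈ Subgroup.normalizer ((A ⊔ B : Subgroup G) : Set G) ⊓ K, g = h * k := by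
  intro g hg
  obtain ⟨h, hh, k, hk, rfl⟩ := hHK g
  set J := A ⊔ B with hJ
  have hg' := Subgroup.mem_normalizer_iff.mp hg
  have hJh : J ≤ J.map (MulAut.conj k).toMonoidHom := by
    conv_lhs => rw [hJ]
    refine sup_le (fun a ha => ?_) (fun b hb => ?_)
    · refine ⟨(h * k)⁻¹ * (h * a * h⁻¹) * (h * k), ?_, by simp [mul_assoc]⟩
      have h1 : h * a * h⁻¹ ∈ J := Subgroup.mem_sup_left
        ((Subgroup.normal_subgroupOf_iff hA).mp hAn a h ha hh)
      refine (hg' _).mpr ?_
      simpa [mul_assoc] using h1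
    · refine ⟨k⁻¹ * b * k, Subgroup.mem_sup_right ?_, by simp [mul_assoc]⟩
      simpa using (Subgroup.normal_subgroupOf_iff hB).mp hBn b k⁻¹ hb (inv_mem hk)
  have hkN : k ∈ Subgroup.normalizer (J : Set G) :=
    Subgroup.mem_normalizer_iff_map_conj_eq.mpr (Subgroup.eq_of_le_of_card_ge hJh
      (Subgroup.card_map_of_injective (f := (MulAut.conj k).toMonoidHom)
        (MulAut.conj k).injective).le).symm
  exact ⟨h, ⟨by simpa using mul_mem hg (inv_mem hkN), hh⟩, k, ⟨hkN, hk⟩, rfl⟩

end Cfsg.Agent.S0562
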