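import Cfsg.Statements.S0566
import Cfsg.Agent.Lib.Fitting
import Cfsg.Agent.S0559

set_option autoImplicit false
open Pointwise
open Cfsg

namespace Cfsg.Agent.S0566


open Subgroup Pointwise

variable {G : Type*} [Group G]

lemma mem_conj_smul {B : Subgroup G} {x z : G} :
    z ∈ MulAut.conj x • B ↔ x⁻¹ * z * x ∈ B := by
  rw [mem_pointwise_smul_iff_inv_smul_mem, ← map_inv, MulAut.smul_def, MulAut.conj_apply, inv_inv]

/-- If `AB` is a subgroup then `AB = BA`. -/
lemma mul_comm_of_eq {A B : Subgroup G} {S : Subgroup G} (hS : (S : Set G) = (A : Set G) * B) :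
    (A : Set G) * B = (B : Set G) * A := by
  rw [← hS, ← inv_coe_set (H := S), hS, mul_inv_rev, inv_coe_set, inv_coe_set]

lemma sup_eq_of_coe_eq {A B S : Subgroup G} (hS : (S : Set G) = (A : Set G) * B) :
    A ⊔ B = S := by
  refine le_antisymm (sup_le (fun a ha => ?_) (fun b hb => ?_)) fun s hs => ?_
  · show a ∈ (S : Set G)
    rw [hS]
    exact ⟨a, ha, 1, one_mem _, mul_one a⟩
  · show b ∈ (S : Set G)
    rw [hS]
    exact ⟨1, one_mem _, b, hb, one_mul b⟩
  · have : s ∈ (A : Set G) * B := hS ▸ hs
    obtain ⟨a, ha, b, hb, rfl⟩ := this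
    exact mul_mem_sup ha hb

/-- If `A`, `A'` both permute with `B`, so does `A ⊔ A'`. -/
lemma sup_mul_subgroup [Finite G] {A A' B : Subgroup G} (h : (A : Set G) * B = (B : Set G) * A)
    (h' : (A' : Set G) * B = (B : Set G) * A') :
    ∃ S : Subgroup G, (S : Set G) = ((A ⊔ A' : Subgroup G) : Set G) * B := by
  have key : ∀ x ∈ A ⊔ A', ∀ b ∈ B, (b * x ∈ ((A ⊔ A' : Subgroup G) : Set G) * B) := by
    intro x hx
    rw [sup_eq_closure] at hx
    induction hx using closure_induction with
    | mem y hy =>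
      intro b hb
      rcases hy with hy | hy
      · obtain ⟨a, ha, b', hb', e⟩ : b * y ∈ (A : Set G) * B := h ▸ ⟨b, hb, y, hy, rfl⟩
        exact ⟨a, mem_sup_left ha, b', hb', e⟩
      · obtain ⟨a, ha, b', hb', e⟩ : b * y ∈ (A' : Set G) * B := h' ▸ ⟨b, hb, y, hy, rfl⟩
        exact ⟨a, mem_sup_right ha, b', hb', e⟩
    | one => exact fun b hb => ⟨1, one_mem _, b, hb, by simp⟩
    | mul y z _ _ iy iz =>
      intro b hb
      obtain ⟨a, ha, b', hb', e⟩ := iy b hb
      obtain ⟨a', ha', b'', hb'', e'⟩ := iz b' hb'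
      refine ⟨a * a', mul_mem ha ha', b'', hb'', ?_⟩
      simp only at e e' ⊢
      rw [mul_assoc, e', ← mul_assoc, e, mul_assoc]
    | inv y _ iy =>
      have hp : ∀ n : ℕ, ∀ b ∈ B, b * y ^ n ∈ ((A ⊔ A' : Subgroup G) : Set G) * B := by
        intro n
        induction n with
        | zero => exact fun b hb => ⟨1, one_mem _, b, hb, by simp⟩
        | succ n ihn =>
          intro b hb
          obtain ⟨a, ha, b', hb', e⟩ := ihn b hb
          obtain ⟨a', ha', b'', hb'', e'⟩ := iy b' hb'
          refine ⟨a * a', mul_mem ha ha', b'', hb'', ?_⟩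
          simp only at e e' ⊢
          rw [pow_succ, mul_assoc, e', ← mul_assoc, e, mul_assoc]
      obtain ⟨n, hn⟩ := mem_powers_iff_mem_zpowers.mpr (inv_mem (mem_zpowers y))
      exact fun b hb => by simpa [← hn] using hp n b hb
  refine ⟨{ carrier := ((A ⊔ A' : Subgroup G) : Set G) * B
            one_mem' := ⟨1, one_mem _, 1, one_mem _, one_mul 1⟩
            mul_mem' := ?_
            inv_mem' := ?_ }, rfl⟩
  · rintro _ _ ⟨a, ha, b, hb, rfl⟩ ⟨a', ha', b', hb', rfl⟩
    obtain ⟨a'', ha'', b'', hb'', e⟩ := key a' ha' b hb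
    refine ⟨a * a'', mul_mem ha ha'', b'' * b', mul_mem hb'' hb', ?_⟩
    simp only at e ⊢
    rw [mul_assoc, ← mul_assoc a'', e]; simp only [mul_assoc]
  · rintro _ ⟨a, ha, b, hb, rfl⟩
    rw [mul_inv_rev]
    exact key _ (inv_mem ha) _ (inv_mem hb)

variable [Finite G]

/-- Kegel's lemma. -/
lemma kegel : ∀ (n : ℕ) (A B : Subgroup G), A ≠ ⊥ → B ≠ ⊥ →
    (∀ x : G, ∃ S : Subgroup G, S ≠ ⊤ ∧ (S : Set G) = (A : Set G) * (MulAut.conj x • B : Subgroup G)) →
    Nat.card G ≤ Nat.card A + n →
    ∃ N : Subgroup G, N.Normal ∧ N ≠ ⊤ ∧ (A ≤ N ∨ B ≤ N) := by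
  intro n
  induction n with
  | zero =>
    intro A B _ _ h hle
    obtain ⟨S, hS, hSeq⟩ := h 1
    refine absurd (top_le_iff.mp ((eq_top_of_card_eq A ?_).ge.trans ?_)) hS
    · exact le_antisymm (Nat.le_of_dvd Nat.card_pos (card_subgroup_dvd_card A)) (by simpa using hle)
    · exact (sup_eq_of_coe_eq hSeq).le.trans' le_sup_left
  | succ n ih =>
    intro A B hA hB h hle
    obtain ⟨S, hS, hSeq⟩ := h 1
    have hAtop : A ≠ ⊤ := fun e => hS (top_le_iff.mp (e.ge.trans
      ((sup_eq_of_coe_eq hSeq).le.trans' le_sup_left)))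
    let N := normalClosure (B : Set G)
    by_cases hN : N = ⊤
    · by_cases hnorm : ∀ x : G, MulAut.conj x • B ≤ normalizer (A : Set G)
      · have hle' : N ≤ normalizer (A : Set G) := by
          refine closure_le _ |>.mpr fun y hy => ?_
          obtain ⟨b, hb, hc⟩ := Group.mem_conjugatesOfSet_iff.mp hy
          obtain ⟨x, rfl⟩ := isConj_iff.mp hc
          exact hnorm x (mem_conj_smul.mpr (by simpa [mul_assoc] using hb))
        rw [hN, top_le_iff, normalizer_eq_top_iff] at hle'
        exact ⟨A, hle', hAtop, .inl le_rfl⟩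
      · push_neg at hnorm
        obtain ⟨x, hx⟩ := hnorm
        obtain ⟨b, hb, hbA⟩ := SetLike.not_le_iff_exists.mp hx
        let A' := MulAut.conj b • A
        have hA'A : ¬ A' ≤ A := fun hle' => hbA (mem_normalizer_iff_map_conj_eq.mpr
          (eq_of_le_of_card_ge hle' (card_map_of_injective (f := (MulAut.conj b).toMonoidHom)
            (MulAut.conj b).injective).ge))
        have hperm : ∀ y : G, ((A : Set G)) * (MulAut.conj y • B : Subgroup G) =
            ((MulAut.conj y • B : Subgroup G) : Set G) * A := fun y => by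
          obtain ⟨T, _, hT⟩ := h y
          exact mul_comm_of_eq hT
        have hperm' : ∀ y : G, ((A' : Subgroup G) : Set G) * (MulAut.conj y • B : Subgroup G) =
            ((MulAut.conj y • B : Subgroup G) : Set G) * A' := by
          intro y
          have hBy : MulAut.conj b • (MulAut.conj (b⁻¹ * y) • B) = MulAut.conj y • B := by
            rw [← mul_smul, ← map_mul, mul_inv_cancel_left]
          have := congrArg (fun s : Set G => MulAut.conj b • s) (hperm (b⁻¹ * y))
          simp only [smul_mul'] at this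
          rw [← coe_pointwise_smul, ← coe_pointwise_smul, hBy] at this
          exact this
        have hbig : ∀ y : G, ∃ T : Subgroup G, T ≠ ⊤ ∧
            (T : Set G) = ((A ⊔ A' : Subgroup G) : Set G) * (MulAut.conj y • B : Subgroup G) := by
          intro y
          obtain ⟨T, hT⟩ := sup_mul_subgroup (hperm y) (hperm' y)
          refine ⟨T, fun hTtop => ?_, hT⟩
          -- then `G = (A ⊔ A') (x • B)`, contained in the proper subgroup `A (x • B)`
          obtain ⟨S', hS', hS'eq⟩ := h x
          have hsub : A ⊔ A' ≤ S' := by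
            rw [← sup_eq_of_coe_eq hS'eq]
            refine sup_le le_sup_left fun z hz => ?_
            have hz' := mem_conj_smul.mp hz
            have := mul_mem (mul_mem (mem_sup_right (S := A) hb) (mem_sup_left hz'))
              (inv_mem (mem_sup_right (S := A) hb))
            simpa [mul_assoc] using this
          have hBx : MulAut.conj x • B ≤ S' := by
            rw [← sup_eq_of_coe_eq hS'eq]; exact le_sup_right
          refine hS' (top_le_iff.mp fun z _ => ?_)
          obtain ⟨hfac, -⟩ := Cfsg.Agent.S0559.result (A ⊔ A') (MulAut.conj y • B) (A ⊔ A')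
            (MulAut.conj x • B) (fun g => by
              have hg : g ∈ ((A ⊔ A' : Subgroup G) : Set G) * (MulAut.conj y • B : Subgroup G) :=
                hT ▸ hTtop.ge (mem_top g)
              obtain ⟨c, hc, d, hd, rfl⟩ := hg
              exact ⟨c, hc, d, hd, rfl⟩)
            ⟨1, by rw [map_one, one_smul]⟩
            ⟨x * y⁻¹, by rw [← mul_smul, ← map_mul, inv_mul_cancel_right]⟩
          obtain ⟨c, hc, d, hd, rfl⟩ := hfac z
          exact mul_mem (hsub hc) (hBx hd)
        have hne : A ⊔ A' ≠ ⊥ := fun e => hA (le_bot_iff.mp (e ▸ le_sup_left))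
        have hlt : Nat.card A < Nat.card (A ⊔ A' : Subgroup G) := by
          by_contra hge
          push_neg at hge
          exact hA'A ((eq_of_le_of_card_ge le_sup_left hge).ge.trans' le_sup_right)
        obtain ⟨M, hM, hMne, hMle⟩ := ih (A ⊔ A') B hne hB hbig (by omega)
        exact ⟨M, hM, hMne, hMle.imp le_sup_left.trans id⟩
    · exact ⟨N, normalClosure_normal, hN, .inr le_normalClosure⟩

/-- Let A and B be nontrivial subgroups of a finite group G such that for every x the product set of A and xBx⁻¹ is a proper subgroup of G. Then there is a proper normal subgroup of G containing A or containing B. -/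
theorem result {G : Type*} [Group G] [Finite G] (A B : Subgroup G) (hA : A ≠ ⊥) (hB : B ≠ ⊥) (h : ∀ x : G, ∃ S : Subgroup G, S ≠ ⊤ ∧ (S : Set G) = (A : Set G) * ((MulAut.conj x • B : Subgroup G) : Set G)) : ∃ N : Subgroup G, N.Normal ∧ N ≠ ⊤ ∧ (A ≤ N ∨ B ≤ N) := by
  exact kegel (Nat.card G) A B hA hB h (Nat.le_add_left _ _)

end Cfsg.Agent.S0566
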