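import Cfsg.Statements.S0581
import Cfsg.Agent.Lib.Transfer.Hall

set_option autoImplicit false
open Pointwise
open Cfsg

namespace Cfsg.Agent.S0581


open Cfsg.Agent.Transfer Pointwise

variable {G : Type*} [Group G] [Finite G]

/-- A `q`-subgroup is conjugate into a Hall subgroup whose order is divisible by `q`. -/
lemma exists_conj_pgroup_le {H : Subgroup G} (hHall : (Nat.card H).Coprime H.index) {q : ℕ}
    [Fact q.Prime] (hq : q ∣ Nat.card H) {Q : Subgroup G} (hQ : IsPGroup q Q) :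
    ∃ g : G, ∀ x ∈ Q, g * x * g⁻¹ ∈ H := by
  obtain ⟨P, hP⟩ := exists_sylow_map_of_hall hHall hq (default : Sylow q H)
  obtain ⟨R, hR⟩ := hQ.exists_le_sylow
  obtain ⟨g, hg⟩ := MulAction.exists_smul_eq G R P
  refine ⟨g, fun x hx => ?_⟩
  have h1 := Subgroup.smul_mem_pointwise_smul x (MulAut.conj g) _ (hR hx)
  rw [← Sylow.coe_subgroup_smul, hg, hP] at h1
  exact Subgroup.map_subtype_le _ h1

/-- `r`-elements normalizing a `q`-subgroup centralize it, for primes `q ≠ r` dividing the order of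
a nilpotent Hall subgroup. -/
lemma mem_centralizer_of_normalizes {H : Subgroup G} (hH : Group.IsNilpotent H)
    (hHall : (Nat.card H).Coprime H.index) {q r : ℕ} [Fact q.Prime] [Fact r.Prime] (hqr : r ≠ q)
    (hq : q ∣ Nat.card H) (hr : r ∣ Nat.card H) {Q : Subgroup G} (hQ : IsPGroup q Q) {a : G}
    {j : ℕ} (ha : orderOf a = r ^ j) (haN : a ∈ Subgroup.normalizer (Q : Set G)) :
    a ∈ Subgroup.centralizer (Q : Set G) := by
  obtain ⟨g, hg⟩ := exists_conj_pgroup_le hHall hq hQ
  obtain ⟨P, hP⟩ := exists_sylow_map_of_hall hHall hr (default : Sylow r H)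
  set N := Subgroup.normalizer (Q : Set G) with hN
  set R : Sylow r G := g⁻¹ • P with hRdef
  have hRC : (R : Subgroup G) ≤ Subgroup.centralizer (Q : Set G) := by
    intro z hz
    rw [Subgroup.mem_centralizer_iff]
    intro x hx
    have hz' : g * z * g⁻¹ ∈ H := by
      rw [hRdef, Sylow.coe_subgroup_smul, Subgroup.mem_pointwise_smul_iff_inv_smul_mem] at hz
      have : g * z * g⁻¹ ∈ (P : Subgroup G) := by simpa [MulAut.smul_def] using hz
      rw [hP] at this
      exact Subgroup.map_subtype_le _ this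
    obtain ⟨i, hi⟩ := IsPGroup.iff_orderOf.mp R.2 ⟨z, hz⟩
    obtain ⟨k, hk⟩ := IsPGroup.iff_orderOf.mp hQ ⟨x, hx⟩
    rw [Subgroup.orderOf_mk] at hi hk
    have hc : Commute (g * x * g⁻¹) (g * z * g⁻¹) := by
      refine congrArg Subtype.val (nilpotent_commute_of_coprime hH
        (x := (⟨g * x * g⁻¹, hg x hx⟩ : H)) (y := ⟨g * z * g⁻¹, hz'⟩) ?_).eq
      rw [Subgroup.orderOf_mk, Subgroup.orderOf_mk,
        show orderOf (g * x * g⁻¹) = orderOf x from MulEquiv.orderOf_eq (MulAut.conj g) x,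
        show orderOf (g * z * g⁻¹) = orderOf z from MulEquiv.orderOf_eq (MulAut.conj g) z, hi, hk]
      exact Nat.Coprime.pow _ _ ((Nat.coprime_primes Fact.out Fact.out).mpr hqr.symm)
    apply (MulAut.conj g).injective
    rw [map_mul, map_mul]
    exact hc.eq
  have hRN : (R : Subgroup G) ≤ N := hRC.trans (Subgroup.centralizer_le_normalizer _)
  obtain ⟨S, hS⟩ := IsPGroup.exists_le_sylow
    (IsPGroup.of_card (n := j) (by rw [Nat.card_zpowers, Subgroup.orderOf_mk, ha]) :
      IsPGroup r (Subgroup.zpowers (⟨a, haN⟩ : N)))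
  obtain ⟨n, hn⟩ := MulAction.exists_smul_eq N (R.subtype hRN) S
  have h1 : (⟨a, haN⟩ : N) ∈ ((n • R.subtype hRN : Sylow r N) : Subgroup N) :=
    hn ▸ hS (Subgroup.mem_zpowers _)
  have : ((Subgroup.centralizer (Q : Set G)).subgroupOf N).Normal :=
    Subgroup.normal_subgroupOf_centralizer_normalizer _
  rw [Sylow.coe_subgroup_smul, Subgroup.mem_pointwise_smul_iff_inv_smul_mem] at h1
  have h2 : n⁻¹ * (⟨a, haN⟩ : N) * n ∈ (Subgroup.centralizer (Q : Set G)).subgroupOf N := by
    refine hRC ?_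
    simpa [MulAut.smul_def, Subgroup.mem_subgroupOf] using h1
  have h3 := this.conj_mem _ h2 n
  simp only [mul_assoc, mul_inv_cancel, mul_one, mul_inv_cancel_left] at h3
  exact h3

/-- A `π`-subgroup for a nilpotent Hall `π`-subgroup is nilpotent. -/
lemma isNilpotent_of_pi {H K : Subgroup G} (hH : Group.IsNilpotent H)
    (hHall : (Nat.card H).Coprime H.index)
    (hK : ∀ p : ℕ, p.Prime → p ∣ Nat.card K → p ∣ Nat.card H) : Group.IsNilpotent K := by
  have hcomp : ∀ q : ℕ, q.Prime → q ∣ Nat.card K → HasNormalPComplement q K := by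
    intro q hq hqK
    have := Fact.mk hq
    refine hasNormalPComplement_of_normalizer_centralizer default fun Q hQP _ z hz hzq => ?_
    have hQ : IsPGroup q Q := (default : Sylow q K).2.to_le hQP
    suffices htop : ((Subgroup.centralizer (Q : Set K)).subgroupOf (Subgroup.zpowers z)) = ⊤ from
      Subgroup.subgroupOf_eq_top.mp htop (Subgroup.mem_zpowers z)
    refine eq_top_of_prime_pow_orderOf_mem fun r hr c ⟨j, hj⟩ => ?_
    rw [Subgroup.mem_subgroupOf]
    rw [← Subgroup.orderOf_coe] at hj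
    rcases Nat.eq_zero_or_pos j with hj0 | hj0
    · rw [hj0, pow_zero, orderOf_eq_one_iff] at hj
      rw [hj]; exact one_mem _
    have hrz : r ∣ orderOf z := by
      refine ((dvd_pow_self r hj0.ne').trans hj.symm.dvd).trans ?_
      rw [← Nat.card_zpowers z]
      exact Subgroup.orderOf_dvd_natCard _ c.2
    have hrq : r ≠ q := fun e => hq.ne_one (Nat.eq_one_of_dvd_coprimes hzq (e ▸ hrz) dvd_rfl)
    have := Fact.mk hr
    have hcN : (c : K) ∈ Subgroup.normalizer (Q : Set K) := Subgroup.zpowers_le.mpr hz c.2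
    have hmem := mem_centralizer_of_normalizes hH hHall hrq (hK q hq hqK)
      (hK r hr (hrz.trans (orderOf_dvd_natCard z))) (hQ.map K.subtype) (a := ((c : K) : G)) (j := j)
      (by rw [Subgroup.orderOf_coe, hj]) (Subgroup.le_normalizer_map _ ⟨c, hcN, rfl⟩)
    rw [Subgroup.mem_centralizer_iff] at hmem ⊢
    exact fun x hx => Subtype.ext (hmem x ⟨x, hx, rfl⟩)
  refine ((Group.isNilpotent_of_finite_tfae (G := K)).out 0 3).mpr fun r hr P => ?_
  have hr' := hr.out
  have : Fact r.Prime := hr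
  set I : Subgroup K := ⨅ q ∈ ((Nat.card K).primeFactors.erase r), pResidual q K
  have hIn : I.Normal := Subgroup.normal_iInf_normal fun q =>
    Subgroup.normal_iInf_normal fun _ => pResidual_normal
  have hI : IsPGroup r I := by
    refine IsPGroup.of_card (n := (Nat.card I).primeFactorsList.length) ?_
    refine Nat.eq_prime_pow_of_unique_prime_dvd Nat.card_pos.ne' fun {q} hq hqI => ?_
    by_contra hne
    have hqK : q ∣ Nat.card K := hqI.trans (Subgroup.card_subgroup_dvd_card _)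
    have := Fact.mk hq
    refine (hasNormalPComplement_iff_not_dvd.mp (hcomp q hq hqK))
      (hqI.trans (Subgroup.card_dvd_of_le (iInf₂_le q ?_)))
    exact Finset.mem_erase.mpr ⟨hne, Nat.mem_primeFactors.mpr ⟨hq, hqK, Nat.card_pos.ne'⟩⟩
  have hPI : (P : Subgroup K) ≤ I := le_iInf₂ fun q hq x hx => by
    obtain ⟨hne, hq⟩ := Finset.mem_erase.mp hq
    obtain ⟨k, hk⟩ := IsPGroup.iff_orderOf.mp P.2 ⟨x, hx⟩
    rw [Subgroup.orderOf_mk] at hk
    refine mem_pResidual_of_coprime ?_
    rw [hk]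
    exact Nat.Coprime.pow_left _
      ((Nat.coprime_primes hr' (Nat.prime_of_mem_primeFactors hq)).mpr (Ne.symm hne))
  rwa [← P.is_maximal' hI hPI]

/-- Let H be a nilpotent subgroup of a finite group G whose order is coprime to its index, and K a subgroup every prime divisor of whose order divides the order of H. Then K lies in some conjugate of H. -/
theorem result {G : Type*} [Group G] [Finite G] (H K : Subgroup G) (hH : Group.IsNilpotent H) (hHall : (Nat.card H).Coprime H.index) (hK : ∀ p : ℕ, p.Prime → p ∣ Nat.card K → p ∣ Nat.card H) : ∃ x : G, K ≤ MulAut.conj x • H := by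
  have hKn := isNilpotent_of_pi hH hHall hK
  suffices ∀ s : Finset ℕ, ∃ g : G, ∀ q ∈ s, q.Prime → ∀ x ∈ K, (∃ k, orderOf x = q ^ k) →
      g * x * g⁻¹ ∈ H by
    obtain ⟨g, hg⟩ := this (Nat.card K).primeFactors
    have hle : K ≤ H.comap (MulAut.conj g).toMonoidHom := by
      refine Subgroup.subgroupOf_eq_top.mp (eq_top_of_prime_pow_orderOf_mem fun q hq x ⟨k, hk⟩ => ?_)
      rw [Subgroup.mem_subgroupOf, Subgroup.mem_comap]
      rcases Nat.eq_zero_or_pos k with hk0 | hk0
      · rw [hk0, pow_zero, orderOf_eq_one_iff] at hk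
        simp [hk]
      exact hg q (Nat.mem_primeFactors.mpr ⟨hq, (dvd_pow_self q hk0.ne').trans
        (hk.symm.dvd.trans (orderOf_dvd_natCard x)), Nat.card_pos.ne'⟩) hq x x.2
        ⟨k, by rw [Subgroup.orderOf_coe, hk]⟩
    refine ⟨g⁻¹, fun x hx => ?_⟩
    rw [Subgroup.mem_pointwise_smul_iff_inv_smul_mem, ← map_inv, inv_inv]
    exact hle hx
  intro s
  induction s using Finset.induction with
  | empty => exact ⟨1, by simp⟩
  | insert r s hrs ih =>
    obtain ⟨g, hg⟩ := ih
    by_cases hr : r.Prime ∧ r ∣ Nat.card K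
    swap
    · refine ⟨g, fun q hq hqp x hx ⟨k, hk⟩ => ?_⟩
      rcases Finset.mem_insert.mp hq with rfl | hq
      · rcases Nat.eq_zero_or_pos k with hk0 | hk0
        · rw [hk0, pow_zero, orderOf_eq_one_iff] at hk
          simp [hk]
        · exact absurd ⟨hqp, ((dvd_pow_self q hk0.ne').trans hk.symm.dvd).trans
            (Subgroup.orderOf_dvd_natCard K hx)⟩ hr
      · exact hg q hq hqp x hx ⟨k, hk⟩
    obtain ⟨hr, hrK⟩ := hr
    have := Fact.mk hr
    set T : Set G := {z | ∃ q ∈ s, q.Prime ∧ ∃ x ∈ K, (∃ k, orderOf x = q ^ k) ∧ g * x * g⁻¹ = z}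
    set C : Subgroup G := Subgroup.centralizer T
    obtain ⟨PH, hPH⟩ := exists_sylow_map_of_hall hHall (hK r hr hrK) (default : Sylow r H)
    have hHC : (PH : Subgroup G) ≤ C := by
      intro a ha
      rw [Subgroup.mem_centralizer_iff]
      rintro z ⟨q, hq, hqp, x, hx, ⟨k, hk⟩, rfl⟩
      have haH : a ∈ H := (hPH ▸ Subgroup.map_subtype_le _) ha
      obtain ⟨i, hi⟩ := IsPGroup.iff_orderOf.mp PH.2 ⟨a, ha⟩
      rw [Subgroup.orderOf_mk] at hi
      refine congrArg Subtype.val (nilpotent_commute_of_coprime hH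
        (x := (⟨g * x * g⁻¹, hg q hq hqp x hx ⟨k, hk⟩⟩ : H)) (y := ⟨a, haH⟩) ?_).eq
      rw [Subgroup.orderOf_mk, Subgroup.orderOf_mk,
        show orderOf (g * x * g⁻¹) = orderOf x from MulEquiv.orderOf_eq (MulAut.conj g) x, hi, hk]
      exact Nat.Coprime.pow _ _ ((Nat.coprime_primes hqp hr).mpr fun e => hrs (e ▸ hq))
    let PK : Subgroup G :=
      (((default : Sylow r K) : Subgroup K).map K.subtype).map (MulAut.conj g).toMonoidHom
    have hKC : PK ≤ C := by
      rintro _ ⟨_, ⟨a, ha, rfl⟩, rfl⟩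
      rw [Subgroup.mem_centralizer_iff]
      rintro z ⟨q, hq, hqp, x, hx, ⟨k, hk⟩, rfl⟩
      obtain ⟨i, hi⟩ := IsPGroup.iff_orderOf.mp (default : Sylow r K).2 ⟨a, ha⟩
      rw [Subgroup.orderOf_mk] at hi
      have hc : x * (a : G) = a * x := by
        refine congrArg Subtype.val (nilpotent_commute_of_coprime hKn
          (x := (⟨x, hx⟩ : K)) (y := a) ?_).eq
        rw [Subgroup.orderOf_mk, hi, hk]
        exact Nat.Coprime.pow _ _ ((Nat.coprime_primes hqp hr).mpr fun e => hrs (e ▸ hq))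
      show g * x * g⁻¹ * (g * (a : G) * g⁻¹) = g * (a : G) * g⁻¹ * (g * x * g⁻¹)
      calc g * x * g⁻¹ * (g * (a : G) * g⁻¹) = g * (x * a) * g⁻¹ := by simp [mul_assoc]
        _ = g * (a * x) * g⁻¹ := by rw [hc]
        _ = _ := by simp [mul_assoc]
    have hPKp : IsPGroup r (PK.subgroupOf C) :=
      (((default : Sylow r K).2.map _).map _).comap_subtype
    obtain ⟨SK, hSK⟩ := hPKp.exists_le_sylow
    obtain ⟨c, hc⟩ := MulAction.exists_smul_eq C SK (PH.subtype hHC)
    refine ⟨(c : G) * g, fun q hq hqp x hx ⟨k, hk⟩ => ?_⟩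
    rcases Finset.mem_insert.mp hq with rfl | hq
    · have hxP : g * x * g⁻¹ ∈ PK :=
        ⟨x, ⟨⟨x, hx⟩, nilpotent_mem_sylow hKn _ (by rw [Subgroup.orderOf_mk, hk]), rfl⟩, rfl⟩
      have h1 := Subgroup.smul_mem_pointwise_smul (⟨_, hKC hxP⟩ : C) (MulAut.conj c) _ (hSK hxP)
      rw [← Sylow.coe_subgroup_smul, hc] at h1
      have h2 : (c : G) * (g * x * g⁻¹) * (c : G)⁻¹ ∈ (PH : Subgroup G) := h1
      rw [hPH] at h2
      have h3 := Subgroup.map_subtype_le _ h2
      simpa [mul_assoc] using h3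
    · have hcx : g * x * g⁻¹ * c = c * (g * x * g⁻¹) :=
        Subgroup.mem_centralizer_iff.mp c.2 _ ⟨q, hq, hqp, x, hx, ⟨k, hk⟩, rfl⟩
      have : (c : G) * g * x * ((c : G) * g)⁻¹ = g * x * g⁻¹ := by
        calc (c : G) * g * x * ((c : G) * g)⁻¹ = (c : G) * (g * x * g⁻¹) * (c : G)⁻¹ := by
              simp [mul_assoc]
          _ = g * x * g⁻¹ := by rw [← hcx, mul_inv_cancel_right]
      rw [this]
      exact hg q hq hqp x hx ⟨k, hk⟩

end Cfsg.Agent.S0581
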