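import Cfsg.Statements.S0572
import Mathlib.GroupTheory.Solvable

set_option autoImplicit false
open Cfsg

namespace Cfsg.Agent.S0572


open Subgroup
open scoped commutatorElement

variable {G : Type*} [Group G] (A B : Subgroup G) [IsMulCommutative A] [IsMulCommutative B]

lemma comm_of_mem {H : Subgroup G} [IsMulCommutative H] {x y : G} (hx : x ∈ H) (hy : y ∈ H) :
    x * y = y * x :=
  congrArg Subtype.val (mul_comm' (⟨x, hx⟩ : H) ⟨y, hy⟩)

include A B in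
lemma commutator_commute (hAB : ∀ g : G, ∃ a ∈ A, ∃ b ∈ B, g = a * b) {a b a1 b1 : G}
    (ha : a ∈ A) (hb : b ∈ B) (ha1 : a1 ∈ A) (hb1 : b1 ∈ B) :
    MulAut.conj (a1 * b1) ⁅a, b⁆ = MulAut.conj (b1 * a1) ⁅a, b⁆ := by
  obtain ⟨u, hu, v, hv, huv⟩ := hAB (MulAut.conj a1 b)⁻¹
  have hb2 : MulAut.conj a1 b = v⁻¹ * u⁻¹ := by
    rw [← inv_inv (MulAut.conj a1 b), huv, mul_inv_rev]
  obtain ⟨a3, ha3, b3, hb3, ha3b3⟩ := hAB (MulAut.conj b1 a)
  have hA1 : MulAut.conj a1 a = a := by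
    simp [comm_of_mem ha1 ha, mul_assoc]
  have hA3 : MulAut.conj a1 a3 = a3 := by
    simp [comm_of_mem ha1 ha3, mul_assoc]
  have hB1 : MulAut.conj b1 b = b := by
    simp [comm_of_mem hb1 hb, mul_assoc]
  have hV1 : MulAut.conj b1 v⁻¹ = v⁻¹ := by
    simp [comm_of_mem hb1 (inv_mem hv), mul_assoc]
  have h1 : ∀ x ∈ A, ⁅x, v⁻¹ * u⁻¹⁆ = ⁅x, v⁻¹⁆ := fun x hx => by
    calc ⁅x, v⁻¹ * u⁻¹⁆ = x * v⁻¹ * (u⁻¹ * x⁻¹) * u * v := by
          simp [commutatorElement_def, mul_assoc]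
      _ = x * v⁻¹ * (x⁻¹ * u⁻¹) * u * v := by rw [comm_of_mem (inv_mem hu) (inv_mem hx)]
      _ = ⁅x, v⁻¹⁆ := by simp [commutatorElement_def, mul_assoc]
  have h2 : ∀ y ∈ B, ⁅a3 * b3, y⁆ = ⁅a3, y⁆ := fun y hy => by
    calc ⁅a3 * b3, y⁆ = a3 * (b3 * y) * b3⁻¹ * a3⁻¹ * y⁻¹ := by
          simp [commutatorElement_def, mul_assoc]
      _ = a3 * (y * b3) * b3⁻¹ * a3⁻¹ * y⁻¹ := by rw [comm_of_mem hb3 hy]
      _ = ⁅a3, y⁆ := by simp [commutatorElement_def, mul_assoc]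
  calc MulAut.conj (a1 * b1) ⁅a, b⁆
      = MulAut.conj a1 ⁅MulAut.conj b1 a, MulAut.conj b1 b⁆ := by
        rw [map_mul, MulAut.mul_apply, map_commutatorElement]
    _ = ⁅a3, v⁻¹⁆ := by
        rw [ha3b3, hB1, h2 b hb, map_commutatorElement, hA3, hb2, h1 a3 ha3]
    _ = MulAut.conj b1 ⁅MulAut.conj a1 a, MulAut.conj a1 b⁆ := by
        rw [hA1, hb2, h1 a ha, map_commutatorElement, ha3b3, hV1, h2 _ (inv_mem hv)]
    _ = MulAut.conj (b1 * a1) ⁅a, b⁆ := by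
        simp only [map_mul (MulAut.conj) b1 a1, MulAut.mul_apply, map_commutatorElement]

/-- Itô's Theorem: if a group G is the product AB of two abelian subgroups, then the commutator subgroup of G is abelian, i.e. the second term of the derived series is trivial. -/
theorem result {G : Type*} [Group G] (A B : Subgroup G) [IsMulCommutative A] [IsMulCommutative B] (hAB : ∀ g : G, ∃ a ∈ A, ∃ b ∈ B, g = a * b) : derivedSeries G 2 = ⊥ := by
  have hmem : ∀ g : G, g ∈ A ⊔ B := fun g => by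
    obtain ⟨a, ha, b, hb, rfl⟩ := hAB g
    exact mul_mem_sup ha hb
  let S : Set G := {x | ∃ a ∈ A, ∃ b ∈ B, ⁅a, b⁆ = x}
  have hC : ∀ a ∈ A, ∀ b ∈ B, ∀ a1 ∈ A, ∀ b1 ∈ B, ⁅a, b⁆ * ⁅a1, b1⁆ = ⁅a1, b1⁆ * ⁅a, b⁆ := by
    intro a ha b hb a1 ha1 b1 hb1
    have := commutator_commute A B hAB ha hb (inv_mem ha1) (inv_mem hb1)
    apply_fun MulAut.conj (b1⁻¹ * a1⁻¹)⁻¹ at this
    rw [← MulAut.mul_apply, ← MulAut.mul_apply, ← map_mul, ← map_mul, inv_mul_cancel, map_one,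
      MulAut.one_apply] at this
    have h3 : (b1⁻¹ * a1⁻¹)⁻¹ * (a1⁻¹ * b1⁻¹) = ⁅a1, b1⁆ := by
      simp [commutatorElement_def, mul_assoc]
    rw [h3, MulAut.conj_apply, mul_inv_eq_iff_eq_mul] at this
    exact this.symm
  have hD : derivedSeries G 1 ≤ ⁅A, B⁆ := by
    have hn : (⁅A, B⁆).Normal := by
      rw [← normalizer_eq_top_iff, eq_top_iff]
      intro g _
      exact sup_le (normalizer_commutator_ge_left A B) (normalizer_commutator_ge_right A B) (hmem g)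
    rw [derivedSeries_one, ← Subgroup.Normal.quotient_commutative_iff_commutator_le]
    have hq : ∀ x : G ⧸ ⁅A, B⁆, ∃ a ∈ A, ∃ b ∈ B, x = (a : G ⧸ ⁅A, B⁆) * (b : G ⧸ ⁅A, B⁆) := by
      intro x
      obtain ⟨g, rfl⟩ := QuotientGroup.mk_surjective x
      obtain ⟨a, ha, b, hb, rfl⟩ := hAB g
      exact ⟨a, ha, b, hb, rfl⟩
    have hc : ∀ a ∈ A, ∀ b ∈ B, (a : G ⧸ ⁅A, B⁆) * (b : G ⧸ ⁅A, B⁆) = b * a := by
      intro a ha b hb
      rw [← commutatorElement_eq_one_iff_mul_comm]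
      exact (QuotientGroup.eq_one_iff _).mpr (commutator_mem_commutator ha hb)
    refine ⟨⟨fun x y => ?_⟩⟩
    obtain ⟨a, ha, b, hb, rfl⟩ := hq x
    obtain ⟨c, hc', d, hd, rfl⟩ := hq y
    have e1 : (a : G ⧸ ⁅A, B⁆) * c = c * a := congrArg QuotientGroup.mk (comm_of_mem ha hc')
    have e2 : (b : G ⧸ ⁅A, B⁆) * d = d * b := congrArg QuotientGroup.mk (comm_of_mem hb hd)
    rw [mul_assoc, ← mul_assoc (b : G ⧸ ⁅A, B⁆), ← hc c hc' b hb, mul_assoc (c : G ⧸ ⁅A, B⁆), e2,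
      ← mul_assoc, e1, mul_assoc, ← mul_assoc (a : G ⧸ ⁅A, B⁆) d, hc a ha d hd, mul_assoc,
      mul_assoc]
  rw [derivedSeries_succ, eq_bot_iff]
  refine (commutator_mono hD hD).trans ?_
  rw [le_bot_iff, commutator_eq_bot_iff_le_centralizer, commutator_le]
  intro a ha b hb
  rw [mem_centralizer_iff]
  suffices ⁅A, B⁆ ≤ centralizer {⁅a, b⁆} from fun x hx =>
    mem_centralizer_singleton_iff.mp (this hx)
  rw [commutator_le]
  exact fun a1 ha1 b1 hb1 => mem_centralizer_singleton_iff.mpr (hC a1 ha1 b1 hb1 a ha b hb)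

end Cfsg.Agent.S0572
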