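import Cfsg.Statements.S0076

set_option autoImplicit false
open Cfsg

namespace Cfsg.Agent.S0076

/-- Two P-invariant subsets of a Sylow p-subgroup P that are conjugate in G are conjugate under the normalizer of P. -/
theorem result {G : Type*} [Group G] [Finite G] {p : ℕ} [Fact p.Prime] (P : Sylow p G) (X Y : Set G) (hXP : X ⊆ P) (hYP : Y ⊆ P) (hX : ∀ x ∈ P, (fun y => x * y * x⁻¹) '' X = X) (hY : ∀ x ∈ P, (fun y => x * y * x⁻¹) '' Y = Y) (g : G) (hg : (fun y => g * y * g⁻¹) '' X = Y) : ∃ n ∈ Subgroup.normalizer (P : Set G), (fun y => n * y * n⁻¹) '' X = Y := by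
  classical
  have hcomp : ∀ (a b : G) (W : Set G),
      (fun y => a * y * a⁻¹) '' ((fun y => b * y * b⁻¹) '' W) = (fun y => a * b * y * (a * b)⁻¹) '' W := by
    intro a b W
    rw [Set.image_image]
    congr 1
    funext y
    group
  let A : Subgroup G :=
    { carrier := {a | (fun y => a * y * a⁻¹) '' X = X}
      one_mem' := by simp
      mul_mem' := fun {a b} (ha : _ = X) (hb : _ = X) => by
        show _ = X
        rw [← hcomp, hb, ha]
      inv_mem' := fun {a} (ha : _ = X) => by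
        show _ = X
        conv_lhs => rw [← ha]
        rw [hcomp]
        simp }
  have hmem : ∀ a : G, a ∈ A ↔ (fun y => a * y * a⁻¹) '' X = X := fun a => Iff.rfl
  have hYX : ∀ y, y ∈ Y ↔ g⁻¹ * y * g ∈ X := by
    intro y
    rw [← hg]
    constructor
    · rintro ⟨x, hx, rfl⟩
      simpa [mul_assoc] using hx
    · exact fun h => ⟨_, h, by group⟩
  have h1 : (P : Subgroup G) ≤ A := fun x hx => (hmem x).2 (hX x hx)
  have h2 : (↑(g⁻¹ • P) : Subgroup G) ≤ A := by
    intro a ha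
    rw [Sylow.coe_subgroup_smul, Subgroup.mem_pointwise_smul_iff_inv_smul_mem, ← map_inv,
      inv_inv, MulAut.smul_def, MulAut.conj_apply] at ha
    rw [hmem]
    obtain ⟨u, hu, rfl⟩ : ∃ u ∈ P, g⁻¹ * u * g = a := ⟨_, ha, by group⟩
    ext y
    have hu' := hY u hu
    constructor
    · rintro ⟨x, hx, rfl⟩
      have hgx : g * x * g⁻¹ ∈ Y := hg ▸ ⟨x, hx, rfl⟩
      have h3 : u * (g * x * g⁻¹) * u⁻¹ ∈ Y :=
        hu'.subset ⟨_, hgx, rfl⟩
      have h4 := (hYX _).1 h3
      simpa [mul_assoc] using h4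
    · intro hy
      have hgy : g * y * g⁻¹ ∈ Y := hg ▸ ⟨y, hy, rfl⟩
      obtain ⟨z, hz, hz'⟩ := hu'.superset hgy
      refine ⟨g⁻¹ * z * g, (hYX z).1 hz, ?_⟩
      calc g⁻¹ * u * g * (g⁻¹ * z * g) * (g⁻¹ * u * g)⁻¹ = g⁻¹ * (u * z * u⁻¹) * g := by group
        _ = g⁻¹ * (g * y * g⁻¹) * g := by rw [← hz']
        _ = y := by group
  obtain ⟨c, hc⟩ := MulAction.exists_smul_eq A (P.subtype h1) ((g⁻¹ • P).subtype h2)
  rw [Sylow.smul_subtype] at hc
  have hc2 : (c : G) • P = g⁻¹ • P := Sylow.subtype_injective hc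
  have hc' : g • ((c : G) • P) = P := by rw [hc2, smul_inv_smul]
  refine ⟨g * c, Sylow.smul_eq_iff_mem_normalizer.mp (by rw [mul_smul]; exact hc'), ?_⟩
  rw [← hg]
  conv_rhs => rw [← (hmem c).1 c.2]
  rw [Set.image_image]
  congr 1
  funext y
  group

end Cfsg.Agent.S0076
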