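import Cfsg.Statements.S3021
import Cfsg.Agent.LAE65.Basic
import Mathlib.GroupTheory.Nilpotent

set_option autoImplicit false
open Cfsg

namespace Cfsg.Agent.S3021

/-- Let G be a finite group, p a prime and H a p-subgroup of G that is extremely closed (for every g, the subgroup generated by H and g H g⁻¹ meets N_G(H) exactly in H). Then every p-subgroup Q of G containing H has N_G(Q) ≤ N_G(H); in particular every Sylow p-subgroup P of G containing H normalizes H, and H is strongly closed in P with respect to G. -/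
theorem result {G : Type*} [Group G] [Finite G] {p : ℕ} [Fact p.Prime] (H : Subgroup G) (hHp : IsPGroup p H) (hcl : Cfsg.IsExtremelyClosed H) : (∀ Q : Subgroup G, IsPGroup p Q → H ≤ Q → Subgroup.normalizer (Q : Set G) ≤ Subgroup.normalizer (H : Set G)) ∧ ∀ P : Sylow p G, H ≤ (P : Subgroup G) → (P : Subgroup G) ≤ Subgroup.normalizer (H : Set G) ∧ Cfsg.IsStronglyClosed H (P : Subgroup G) := by
  have key : ∀ Q : Subgroup G, IsPGroup p Q → H ≤ Q →
      Subgroup.normalizer (Q : Set G) ≤ Subgroup.normalizer (H : Set G) := by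
    intro Q hQ hHQ g hg
    set T := H ⊔ H.map (MulAut.conj g).toMonoidHom with hT
    have hTQ : T ≤ Q := sup_le hHQ (LAE65.map_conj_le_of_normalizer hHQ hg)
    haveI : Group.IsNilpotent T := (hQ.to_le hTQ).isNilpotent
    have hHT : H.subgroupOf T = ⊤ := by
      by_contra h
      obtain ⟨t, ht, htn⟩ := SetLike.exists_of_lt
        (Group.normalizerCondition_of_isNilpotent (H.subgroupOf T) (lt_top_iff_ne_top.2 h))
      refine htn ?_
      show (t : G) ∈ H
      have h2 : (t : G) ∈ T ⊓ Subgroup.normalizer (H : Set G) := by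
        refine ⟨t.2, Subgroup.mem_normalizer_iff.2 fun y => ⟨fun hy => ?_, fun hy => ?_⟩⟩
        · exact (Subgroup.mem_normalizer_iff.1 ht ⟨y, le_sup_left (a := H) hy⟩).1 hy
        · have hyT : y ∈ T := by
            have := T.mul_mem (T.mul_mem (T.inv_mem t.2) (le_sup_left (a := H) hy)) t.2
            simpa [mul_assoc] using this
          exact (Subgroup.mem_normalizer_iff.1 ht ⟨y, hyT⟩).2 hy
      rwa [hcl g] at h2
    rw [LAE65.mem_normalizer_iff_map]
    exact Subgroup.eq_of_le_of_card_ge (le_trans le_sup_right (Subgroup.subgroupOf_eq_top.1 hHT))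
      (LAE65.card_map_conj H g).ge
  refine ⟨key, fun P hHP => ?_⟩
  have hPN : (P : Subgroup G) ≤ Subgroup.normalizer (H : Set G) :=
    le_trans Subgroup.le_normalizer (key P P.2 hHP)
  refine ⟨hPN, hHP, fun x hx g hg => ?_⟩
  rw [← hcl g]
  exact ⟨Subgroup.mem_sup_right (LAE65.conj_mem_map hx), hPN hg⟩

end Cfsg.Agent.S3021
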