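import Cfsg.Statements.S1475
import Cfsg.Agent.Lib.Solvable.Basic
import Cfsg.Agent.Lib.Solvable.HallPi
import Cfsg.Agent.H40.Hyperplane

set_option autoImplicit false
open Cfsg

namespace Cfsg.Agent.S1475

open scoped IsMulCommutative in
/-- A group `M⟨y⟩` of order `q r` in which no element other than `1` has fixed points on `N`. -/
theorem no_fixed_point_free_meta {G : Type*} [Group G] [Finite G] {N M : Subgroup G} [N.Normal]
    [IsMulCommutative N] {y : G} {r : ℕ} (hr : r.Prime) (hyo : orderOf y = r)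
    (hyM : y ∈ Subgroup.normalizer (M : Set G)) (hMN : (Nat.card M).Coprime (Nat.card N)) (hM : M ≠ ⊥)
    (hMfix : ∀ v ∈ N, (∀ m ∈ M, Commute m v) → v = 1)
    (hyfix : ∀ v ∈ N, ∀ m ∈ M, Commute (m * y * m⁻¹) v → v = 1)
    (hyc : ∀ m ∈ M, ∀ j : ℕ, 0 < j → j < r → Commute (y ^ j) m → m = 1) : N = ⊥ := by
  classical
  haveI : Fintype M := Fintype.ofFinite M
  let c : G → N →* N := fun g =>
    { toFun := fun v => ⟨g * v * g⁻¹, (inferInstance : N.Normal).conj_mem v v.2 g⟩
      map_one' := Subtype.ext (by simp)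
      map_mul' := fun u v => Subtype.ext (by simp [mul_assoc]) }
  have hc : ∀ g h v, c g (c h v) = c (g * h) v := fun g h v => Subtype.ext (by simp [c, mul_assoc])
  have hfixc : ∀ g (v : N), c g v = v → Commute g (v : G) := fun g v h => by
    have h1 : g * v * g⁻¹ = v := congrArg Subtype.val h
    exact mul_inv_eq_iff_eq_mul.mp h1
  rw [eq_bot_iff]
  intro v₀ hv₀
  rw [Subgroup.mem_bot]
  set v : N := ⟨v₀, hv₀⟩ with hv
  suffices hpow : v ^ Nat.card M = 1 by
    have h1 := Nat.eq_one_of_dvd_coprimes hMN (orderOf_dvd_of_pow_eq_one hpow) (orderOf_dvd_natCard v)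
    rw [orderOf_eq_one_iff] at h1
    exact congrArg Subtype.val h1
  -- sums over conjugates of `⟨y⟩`
  have hinner : ∀ m : M, ∏ j ∈ Finset.range r, c ((m : G) * y ^ j * (m : G)⁻¹) v = 1 := by
    intro m
    set z : G := (m : G) * y * (m : G)⁻¹ with hz
    have hzj : ∀ j : ℕ, z ^ j = (m : G) * y ^ j * (m : G)⁻¹ := fun j => conj_pow
    simp only [← hzj]
    set w := ∏ j ∈ Finset.range r, c (z ^ j) v with hw
    have hzr : z ^ r = 1 := by rw [hzj, ← hyo, pow_orderOf_eq_one, mul_one, mul_inv_cancel]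
    have hfix : c z w = w := by
      have h1 := Finset.prod_range_succ' (fun j => c (z ^ j) v) r
      rw [Finset.prod_range_succ, hzr, pow_zero] at h1
      rw [hw, map_prod]
      simp only [hc, ← pow_succ']
      exact (mul_right_cancel h1).symm
    exact Subtype.ext (hyfix _ w.2 m m.2 (hfixc _ _ hfix))
  have hsum : ∏ j ∈ Finset.range r, ∏ m : M, c ((m : G) * y ^ j * (m : G)⁻¹) v = 1 := by
    rw [Finset.prod_comm]
    exact Finset.prod_eq_one fun m _ => hinner m
  obtain ⟨k, rfl⟩ : ∃ k, r = k + 1 := ⟨r - 1, by have := hr.pos; omega⟩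
  rw [Finset.prod_range_succ'] at hsum
  have h0 : ∏ m : M, c ((m : G) * y ^ 0 * (m : G)⁻¹) v = v ^ Nat.card M := by
    refine (Finset.prod_congr rfl fun m _ => show _ = v from Subtype.ext (by simp [c])).trans ?_
    rw [Finset.prod_const, Finset.card_univ, Nat.card_eq_fintype_card]
  rw [h0] at hsum
  rwa [Finset.prod_eq_one (fun j hj => ?_), one_mul] at hsum
  rw [Finset.mem_range] at hj
  set u := y ^ (j + 1) with hu
  have huM : u ∈ Subgroup.normalizer (M : Set G) := pow_mem hyM _
  let φ : M → M := fun m =>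
    ⟨(m : G) * (u * (m : G)⁻¹ * u⁻¹),
      mul_mem m.2 ((Subgroup.mem_normalizer_iff.mp huM _).mp (inv_mem m.2))⟩
  have hφ : Function.Bijective φ := by
    refine Finite.injective_iff_bijective.mp fun a b hab => ?_
    have h1 : (a : G) * (u * (a : G)⁻¹ * u⁻¹) = (b : G) * (u * (b : G)⁻¹ * u⁻¹) := congrArg Subtype.val hab
    have h2 : Commute u ((b : G)⁻¹ * a) := by
      show u * ((b : G)⁻¹ * a) = (b : G)⁻¹ * a * u
      calc u * ((b : G)⁻¹ * a) = (b : G)⁻¹ * ((b : G) * (u * (b : G)⁻¹ * u⁻¹)) * (u * a) := by group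
        _ = (b : G)⁻¹ * ((a : G) * (u * (a : G)⁻¹ * u⁻¹)) * (u * a) := by rw [h1]
        _ = (b : G)⁻¹ * a * u := by group
    exact Subtype.ext (inv_mul_eq_one.mp
      (hyc _ (mul_mem (inv_mem b.2) a.2) (j + 1) j.succ_pos (by omega) h2)).symm
  have hprod : ∏ m : M, c ((m : G) * u * (m : G)⁻¹) v = ∏ m : M, c (m : G) (c u v) := by
    refine Fintype.prod_bijective φ hφ _ _ fun m => ?_
    rw [hc]
    refine congrArg (fun g => c g v) ?_
    show (m : G) * u * (m : G)⁻¹ = (m : G) * (u * (m : G)⁻¹ * u⁻¹) * u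
    group
  rw [hprod]
  set w := ∏ m : M, c (m : G) (c u v)
  refine Subtype.ext (hMfix _ w.2 fun m hm => hfixc m w ?_)
  simp only [w, map_prod]
  refine Fintype.prod_equiv (Equiv.mulLeft ⟨m, hm⟩) _ _ fun a => ?_
  rw [hc]
  rfl

/-- Let G be a finite solvable group such that the order of every element is a prime power (1 included). Then at most two distinct primes divide the order of G. -/
theorem result {G : Type*} [Group G] [Finite G] [Group.IsSolvable G] (h : ∀ g : G, IsPrimePow (orderOf g) ∨ g = 1) :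
    (Nat.card G).primeFactors.card ≤ 2 := by
  classical
  by_contra hcon
  have hP : 2 < (Nat.card G).primeFactors.card := not_le.mp hcon
  haveI : Nontrivial G := by
    by_contra hnt
    rw [not_nontrivial_iff_subsingleton] at hnt
    rw [Nat.card_unique, Nat.primeFactors_one] at hP
    simp at hP
  have heppo : ∀ a b : G, Commute a b → (orderOf a).Coprime (orderOf b) → a = 1 ∨ b = 1 := by
    intro a b hab hco
    rcases h (a * b) with hpp | h1
    · rw [hab.orderOf_mul_eq_mul_orderOf_of_coprime hco] at hpp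
      obtain ⟨s, k, hs, hk, he⟩ := (isPrimePow_nat_iff _).mp hpp
      obtain ⟨i, -, hi⟩ := (Nat.dvd_prime_pow hs).mp (he ▸ dvd_mul_right (orderOf a) (orderOf b))
      obtain ⟨j, -, hj⟩ := (Nat.dvd_prime_pow hs).mp (he ▸ dvd_mul_left (orderOf b) (orderOf a))
      rw [hi, hj] at hco
      rcases Nat.eq_zero_or_pos i with rfl | hi0
      · exact Or.inl (orderOf_eq_one_iff.mp hi)
      rcases Nat.eq_zero_or_pos j with rfl | hj0
      · exact Or.inr (orderOf_eq_one_iff.mp hj)
      exact absurd (Nat.eq_one_of_dvd_coprimes hco (dvd_pow_self s hi0.ne') (dvd_pow_self s hj0.ne'))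
        hs.ne_one
    · have h2 : b = a⁻¹ := eq_inv_of_mul_eq_one_right h1
      rw [h2, orderOf_inv, Nat.coprime_self] at hco
      exact Or.inl (orderOf_eq_one_iff.mp hco)
  obtain ⟨N, p, hNn, hN1, -, hp, hNp, hNc, -, -⟩ := Solvable.exists_minimal_normal_elementary G
  haveI := hNn
  haveI := hNc
  haveI : Fact p.Prime := ⟨hp⟩
  have hfix : ∀ g v : G, v ∈ N → (orderOf g).Coprime p → Commute g v → g = 1 ∨ v = 1 := by
    intro g v hv hg hgv
    obtain ⟨n, hn⟩ := IsPGroup.iff_orderOf.mp hNp ⟨v, hv⟩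
    rw [Subgroup.orderOf_mk] at hn
    exact heppo g v hgv (hn ▸ hg.pow_right n)
  -- the `p`-complement
  obtain ⟨H, hH⟩ := Solvable.exists_isPiHall (G := G) {q | q ≠ p}
  have hHp : ¬ p ∣ Nat.card H := fun hd => hH.1 p hp hd rfl
  have hdvdH : ∀ q, q.Prime → q ∣ Nat.card G → q ≠ p → q ∣ Nat.card H := by
    intro q hq hd hne
    rw [← Subgroup.card_mul_index H] at hd
    exact (hq.dvd_mul.mp hd).resolve_right (hH.2 q hq hne)
  have hcopH : ∀ g ∈ H, (orderOf g).Coprime p := fun g hg =>
    Nat.Coprime.coprime_dvd_left (Subgroup.orderOf_dvd_natCard H hg)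
      ((hp.coprime_iff_not_dvd).mpr hHp).symm
  obtain ⟨q₀, hq₀, hq₀'⟩ : ∃ q ∈ (Nat.card G).primeFactors, q ≠ p := by
    by_contra hall
    push Not at hall
    have := Finset.card_le_one.mpr (fun a ha b hb => (hall a ha).trans (hall b hb).symm)
    omega
  haveI : Nontrivial H := by
    rw [Subgroup.nontrivial_iff_ne_bot]
    intro hb
    have h1 := hdvdH q₀ (Nat.prime_of_mem_primeFactors hq₀) (Nat.dvd_of_mem_primeFactors hq₀) hq₀'
    rw [hb, Subgroup.card_bot, Nat.dvd_one] at h1
    exact (Nat.prime_of_mem_primeFactors hq₀).ne_one h1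
  obtain ⟨M', s, hM'n, hM'1, -, hs, -, hM'c, hM'e, d, hd, hM'card⟩ :=
    Solvable.exists_minimal_normal_elementary H
  haveI : Fact s.Prime := ⟨hs⟩
  set M := M'.map H.subtype with hM
  have hMH : M ≤ H := Subgroup.map_subtype_le _
  have hMcard : Nat.card M = s ^ d := by
    rw [hM, Subgroup.card_map_of_injective H.subtype_injective, hM'card]
  have hMe : Cfsg.IsElementaryAbelian s M := H40.elementary_map ⟨hM'c, hM'e⟩ H.subtype
  have hM1 : M ≠ ⊥ := by
    rw [hM, ne_eq, Subgroup.map_eq_bot_iff_of_injective _ H.subtype_injective]; exact hM'1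
  have hsp : s ≠ p := by
    rintro rfl
    exact hHp ((dvd_pow_self s hd.ne').trans (hMcard ▸ Subgroup.card_dvd_of_le hMH))
  obtain ⟨n, hn⟩ := IsPGroup.iff_card.mp hNp
  have hMN : (Nat.card M).Coprime (Nat.card N) := by
    rw [hMcard, hn]
    exact Nat.Coprime.pow d n ((Nat.coprime_primes hs hp).mpr hsp)
  -- `M` has prime order
  have hMs : Nat.card M = s := by
    by_contra hne
    have hbig : s * s ≤ Nat.card M := by
      rw [hMcard, ← pow_two]
      exact Nat.pow_le_pow_right hs.pos (by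
        by_contra hd1
        exact hne (by rw [hMcard, show d = 1 by omega, pow_one]))
    have hsN : ¬ s ∣ Nat.card N := by
      rw [hn]; exact fun hdd => hsp ((Nat.prime_dvd_prime_iff_eq hs hp).mp (hs.dvd_of_dvd_pow hdd))
    refine hN1 (le_bot_iff.mp ((H40.le_iSup_hyperplane hMe hsN
      (by rw [Subgroup.normalizer_eq_top]; exact le_top)).trans (iSup_le fun B => ?_)))
    rintro v ⟨hv, hvB⟩
    obtain ⟨b, hb, hb1⟩ := (B : Subgroup G).bot_or_exists_ne_one.resolve_left fun hB => by
      have h1 := B.2.2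
      rw [hB, Subgroup.relIndex_bot_left] at h1
      exact absurd (hbig.trans h1) (not_le.mpr (lt_mul_of_one_lt_left hs.pos hs.one_lt))
    exact (hfix b v hv (hcopH b (hMH (B.2.1 hb))) (Subgroup.mem_centralizer_iff.mp hvB b hb)).resolve_left hb1
  -- a second prime in `H`
  obtain ⟨t, ht, htp, hts⟩ : ∃ t ∈ (Nat.card G).primeFactors, t ≠ p ∧ t ≠ s := by
    by_contra hall
    push Not at hall
    have hsub : (Nat.card G).primeFactors ⊆ {p, s} := fun a ha => by
      rcases eq_or_ne a p with rfl | hne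
      · exact Finset.mem_insert_self _ _
      · exact Finset.mem_insert_of_mem (Finset.mem_singleton.mpr (hall a ha hne))
    have := Finset.card_le_card hsub
    have := Finset.card_le_two (a := p) (b := s)
    omega
  have htpr := Nat.prime_of_mem_primeFactors ht
  haveI : Fact t.Prime := ⟨htpr⟩
  obtain ⟨y', hy'⟩ := exists_prime_orderOf_dvd_card' t
    (hdvdH t htpr (Nat.dvd_of_mem_primeFactors ht) htp)
  have hyo : orderOf (y' : G) = t := by rw [Subgroup.orderOf_coe, hy']
  have hyM : (y' : G) ∈ Subgroup.normalizer (M : Set G) := by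
    refine Subgroup.le_normalizer_map H.subtype ⟨y', ?_, rfl⟩
    rw [Subgroup.normalizer_eq_top]; exact Subgroup.mem_top _
  refine hN1 (no_fixed_point_free_meta htpr hyo hyM hMN hM1 ?_ ?_ ?_)
  · intro v hv hall
    obtain ⟨m, hm, hm1⟩ := M.bot_or_exists_ne_one.resolve_left hM1
    exact (hfix m v hv (hcopH m (hMH hm)) (hall m hm)).resolve_left hm1
  · intro v hv m hm hcomm
    refine (hfix _ v hv (hcopH _ ?_) hcomm).resolve_left fun h1 => htpr.ne_one ?_
    · exact mul_mem (mul_mem (hMH hm) y'.2) (inv_mem (hMH hm))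
    · rw [← hyo, orderOf_eq_one_iff]
      exact (conj_eq_one_iff).mp h1
  · intro m hm j hj hjt hcomm
    refine (heppo _ m hcomm ?_).resolve_left fun h1 => ?_
    · refine Nat.Coprime.coprime_dvd_left ((orderOf_pow_dvd _).trans hyo.dvd) ?_
      exact Nat.Coprime.coprime_dvd_right ((Subgroup.orderOf_dvd_natCard M hm).trans hMs.dvd)
        ((Nat.coprime_primes htpr hs).mpr hts)
    · exact absurd (Nat.le_of_dvd hj (hyo ▸ orderOf_dvd_of_pow_eq_one h1)) (by omega)

end Cfsg.Agent.S1475
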