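import Cfsg.Statements.S3992
import Cfsg.Agent.S1475
import Cfsg.Agent.Lib.Thompson.Cores
import Cfsg.Agent.Lib.Solvable.Basic
import Cfsg.Agent.Lib.Frobenius.Complement

set_option autoImplicit false
set_option linter.style.haveILetI false
set_option linter.unusedSectionVars false
open Cfsg
open scoped Pointwise

namespace Cfsg.Agent.S3992

variable {G : Type*} [Group G] [Finite G]

/-- all element orders are prime powers -/
def CP (G : Type*) [Group G] : Prop := ∀ g : G, g ≠ 1 → IsPrimePow (orderOf g)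

theorem CP.eq_of_commute (h : CP G) {x y : G} {a b : ℕ} (ha : a.Prime) (hb : b.Prime)
    (hx : orderOf x = a) (hy : orderOf y = b) (hc : Commute x y) : a = b := by
  by_contra hab
  have ho : orderOf (x * y) = a * b := by
    rw [hc.orderOf_mul_eq_mul_orderOf_of_coprime (by rw [hx, hy]; exact (Nat.coprime_primes ha hb).2 hab),
      hx, hy]
  have hne : x * y ≠ 1 := by
    intro h1
    rw [h1, orderOf_one] at ho
    exact ha.ne_one (Nat.eq_one_of_mul_eq_one_right ho.symm)
  obtain ⟨r, k, hr, -, hrk⟩ := h _ hne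
  rw [ho] at hrk
  have h1 := (Nat.prime_dvd_prime_iff_eq ha (Nat.prime_iff.2 hr)).1
    (ha.dvd_of_dvd_pow (hrk ▸ dvd_mul_right a b))
  have h2 := (Nat.prime_dvd_prime_iff_eq hb (Nat.prime_iff.2 hr)).1
    (hb.dvd_of_dvd_pow (hrk ▸ dvd_mul_left b a))
  exact hab (h1.trans h2.symm)

theorem CP.isPGroup_centralizer (h : CP G) {x : G} {q : ℕ} (hq : q.Prime) (hx : orderOf x = q) :
    IsPGroup q (Subgroup.centralizer ({x} : Set G)) := by
  haveI := Fact.mk hq
  rw [IsPGroup.iff_orderOf]
  intro g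
  refine ⟨(orderOf g).factorization q, ?_⟩
  by_contra hne
  obtain ⟨r, hr, hrd, hrq⟩ : ∃ r, r.Prime ∧ r ∣ orderOf g ∧ r ≠ q := by
    by_contra hc
    push Not at hc
    have h0 : orderOf g ≠ 0 := (orderOf_pos g).ne'
    obtain ⟨c, hc'⟩ := Nat.exists_eq_pow_mul_and_not_dvd h0 q hq.ne_one
    obtain ⟨m, hm, hm'⟩ := hc'
    have hm1 : m = 1 := by
      by_contra hm1
      obtain ⟨r, hr, hrm⟩ := Nat.exists_prime_and_dvd hm1
      have := hc r hr (hm' ▸ dvd_mul_of_dvd_right hrm _)
      exact hm (this ▸ hrm)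
    apply hne
    rw [hm', hm1, mul_one, Nat.factorization_pow_self hq]
  haveI := Fact.mk hr
  set z := g ^ (orderOf g / r) with hz
  have hzo : orderOf z = r := orderOf_pow_orderOf_div (orderOf_pos g).ne' hrd
  have hcomm : Commute (z : G) x := Subgroup.mem_centralizer_singleton_iff.1 z.2
  exact hrq (h.eq_of_commute hr hq (by rw [Subgroup.orderOf_coe, hzo]) hx hcomm)

theorem CP.quotient (h : CP G) (N : Subgroup G) [N.Normal] : CP (G ⧸ N) := by
  intro q hq
  obtain ⟨g, rfl⟩ := QuotientGroup.mk'_surjective N q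
  have hg : g ≠ 1 := fun h1 => hq (by rw [h1, map_one])
  have hne : orderOf (QuotientGroup.mk' N g) ≠ 1 := fun h1 => hq (orderOf_eq_one_iff.1 h1)
  obtain ⟨r, k, hr, -, hrk⟩ := h g hg
  obtain ⟨i, -, hi⟩ := (Nat.dvd_prime_pow (Nat.prime_iff.2 hr)).1
    (hrk ▸ orderOf_map_dvd (QuotientGroup.mk' N) g)
  refine ⟨r, i, hr, ?_, hi.symm⟩
  rcases i.eq_zero_or_pos with h0 | h0
  · rw [h0, pow_zero] at hi
    exact absurd hi hne
  · exact h0

/-- the solvable radical is a `p`-group -/
theorem isPGroup_radical (h : CP G) (hns : ¬ Group.IsSolvable G) (R : Subgroup G) [R.Normal]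
    [Group.IsSolvable R] : ∃ p : ℕ, p.Prime ∧ IsPGroup p R := by
  by_cases hR : R = ⊥
  · exact ⟨2, Nat.prime_two, by subst hR; exact IsPGroup.of_bot⟩
  obtain ⟨V, hVn, hV0, hVR, hVmin⟩ := Solvable.exists_minimal_normal_le R hR
  haveI := hVn
  haveI : Group.IsSolvable V :=
    Group.isSolvable_of_isSolvable_injective (Subgroup.inclusion_injective hVR)
  obtain ⟨p, hp, hVp, -⟩ := Solvable.exists_prime_of_minimal_normal V hV0 hVmin
  haveI := Fact.mk hp
  refine ⟨p, hp, ?_⟩
  set F := pCore p G ⊓ R with hF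
  have hFp : IsPGroup p F := Thompson.isPGroup_pCore.to_le inf_le_left
  have hVF : V ≤ F := le_inf (Thompson.le_pCore hVn hVp) hVR
  by_cases hFR : R ≤ F
  · exact hFp.to_le hFR
  exfalso
  apply hns
  have hRbar : R.map (QuotientGroup.mk' F) ≠ ⊥ := by
    rwa [Ne, Subgroup.map_eq_bot_iff, QuotientGroup.ker_mk']
  haveI : (R.map (QuotientGroup.mk' F)).Normal :=
    Subgroup.Normal.map inferInstance _ (QuotientGroup.mk'_surjective F)
  obtain ⟨W, hWn, hW0, hWR, hWmin⟩ := Solvable.exists_minimal_normal_le _ hRbar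
  haveI := hWn
  haveI hRbs : Group.IsSolvable (R.map (QuotientGroup.mk' F)) :=
    Group.isSolvable_of_surjective (f := (QuotientGroup.mk' F).subgroupMap R)
      (MonoidHom.subgroupMap_surjective _ _)
  haveI : Group.IsSolvable W :=
    Group.isSolvable_of_isSolvable_injective (Subgroup.inclusion_injective hWR)
  obtain ⟨q, hq, hWq, -⟩ := Solvable.exists_prime_of_minimal_normal W hW0 hWmin
  haveI := Fact.mk hq
  set M := W.comap (QuotientGroup.mk' F) with hM
  haveI : M.Normal := hWn.comap _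
  have hFM : F ≤ M := by
    intro x hx
    simp [hM, (QuotientGroup.eq_one_iff x).2 hx]
  have hMR : M ≤ R := by
    refine (Subgroup.comap_mono hWR).trans ?_
    rw [Subgroup.comap_map_eq, QuotientGroup.ker_mk']
    exact sup_le le_rfl inf_le_right
  have hqp : q ≠ p := by
    rintro rfl
    have hMp : IsPGroup q M := hWq.comap_of_ker_isPGroup _ (by rw [QuotientGroup.ker_mk']; exact hFp)
    have hMF : M ≤ F := le_inf (Thompson.le_pCore inferInstance hMp) hMR
    apply hW0
    rw [← Subgroup.map_comap_eq_self_of_surjective (QuotientGroup.mk'_surjective F) W,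
      Subgroup.map_eq_bot_iff, QuotientGroup.ker_mk']
    exact hMF
  obtain ⟨Q⟩ := (inferInstance : Nonempty (Sylow q M))
  set Q' := (Q : Subgroup M).map M.subtype with hQ'
  have hQ'q : IsPGroup q Q' := Q.2.map _
  have hqW : q ∣ Nat.card W := by
    obtain ⟨n, hn⟩ := IsPGroup.iff_card.1 hWq
    rcases n.eq_zero_or_pos with h0 | h0
    · exact absurd (Subgroup.card_eq_one.1 (by rw [hn, h0, pow_zero])) hW0
    · exact hn ▸ dvd_pow_self q h0.ne'
  have hqM : q ∣ Nat.card M := by
    refine hqW.trans ?_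
    rw [← Subgroup.map_comap_eq_self_of_surjective (QuotientGroup.mk'_surjective F) W, ← hM]
    exact Subgroup.card_map_dvd M _
  have hqQ : q ∣ Nat.card Q' := by
    rw [Subgroup.card_map_of_injective M.subtype_injective]
    exact Q.dvd_card_of_dvd_card hqM
  -- fixed-point-free action
  have hV' : F ≠ ⊥ := fun h0 => hV0 (le_bot_iff.1 (h0 ▸ hVF))
  have hfpf : Frobenius.IsFPF Q' F := Frobenius.isFPF_of_normal fun a ha ha1 => by
    rw [Subgroup.eq_bot_iff_forall]
    rintro v ⟨hv, hva⟩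
    by_contra hv1
    have hoa : ∃ i, orderOf a = q ^ i := by
      obtain ⟨i, hi⟩ := IsPGroup.iff_orderOf.1 hQ'q ⟨a, ha⟩
      exact ⟨i, by rw [← hi, Subgroup.orderOf_mk]⟩
    have hov : ∃ i, orderOf v = p ^ i := by
      obtain ⟨i, hi⟩ := IsPGroup.iff_orderOf.1 hFp ⟨v, hv⟩
      exact ⟨i, by rw [← hi, Subgroup.orderOf_mk]⟩
    have hcomm : Commute v a := Subgroup.mem_centralizer_singleton_iff.1 hva
    obtain ⟨i, hi⟩ := hoa
    obtain ⟨j, hj⟩ := hov
    have hi0 : i ≠ 0 := fun h0 => ha1 (orderOf_eq_one_iff.1 (by rw [hi, h0, pow_zero]))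
    have hj0 : j ≠ 0 := fun h0 => hv1 (orderOf_eq_one_iff.1 (by rw [hj, h0, pow_zero]))
    exact hqp (h.eq_of_commute hq hp
      (orderOf_pow_orderOf_div (orderOf_pos a).ne' (hi ▸ dvd_pow_self q hi0))
      (orderOf_pow_orderOf_div (orderOf_pos v).ne' (hj ▸ dvd_pow_self p hj0))
      (hcomm.symm.pow_pow _ _))
  obtain ⟨x, hxQ, hxo⟩ : ∃ x ∈ Q', orderOf x = q := by
    obtain ⟨x, hx⟩ := exists_prime_orderOf_dvd_card' q hqQ
    exact ⟨x, x.2, by rw [Subgroup.orderOf_coe, hx]⟩
  set N := Subgroup.normalizer ((Q' : Subgroup G) : Set G) with hN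
  set Z := Subgroup.zpowers x with hZ
  have hNZ : N ≤ Subgroup.normalizer ((Z : Subgroup G) : Set G) := by
    intro g hg
    rw [Subgroup.mem_normalizer_iff_map_conj_eq] at hg ⊢
    have hZQ : Z ≤ Q' := Subgroup.zpowers_le.2 hxQ
    have hmapQ : Z.map (MulAut.conj g).toMonoidHom ≤ Q' :=
      (Subgroup.map_mono hZQ).trans (le_of_eq hg)
    have h3 := congrArg (Subgroup.map Q'.subtype) (hfpf.eq_of_card_prime hV' hQ'q
      ((Z.map (MulAut.conj g).toMonoidHom).subgroupOf Q') (Z.subgroupOf Q')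
      (by rw [Nat.card_congr (Subgroup.subgroupOfEquivOfLe hmapQ).toEquiv,
        Subgroup.card_map_of_injective (MulAut.conj g).injective, Nat.card_zpowers, hxo])
      (by rw [Nat.card_congr (Subgroup.subgroupOfEquivOfLe hZQ).toEquiv, Nat.card_zpowers, hxo]))
    rwa [Subgroup.subgroupOf_map_subtype, Subgroup.subgroupOf_map_subtype,
      inf_of_le_left hmapQ, inf_of_le_left hZQ] at h3
  haveI hcent : Group.IsSolvable (Subgroup.centralizer ({x} : Set G)) :=
    haveI := (h.isPGroup_centralizer hq hxo).isNilpotent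
    inferInstance
  haveI hnorm : Group.IsSolvable (Subgroup.normalizer ((Z : Subgroup G) : Set G)) := by
    haveI : IsCyclic Z := inferInstance
    let f := Subgroup.normalizerMonoidHom Z
    haveI : Group.IsSolvable (MulAut Z) :=
      Group.isSolvable_of_comm fun a b =>
        (IsCyclic.mulAutMulEquiv Z).injective (by rw [map_mul, map_mul, mul_comm])
    have hker : f.ker.map (Subgroup.normalizer ((Z : Subgroup G) : Set G)).subtype ≤
        Subgroup.centralizer ({x} : Set G) := by
      rw [Subgroup.normalizerMonoidHom_ker]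
      rintro a ⟨b, hb, rfl⟩
      rw [Subgroup.mem_centralizer_singleton_iff]
      exact (hb x (Subgroup.mem_zpowers x)).symm
    haveI : Group.IsSolvable f.ker :=
      Group.isSolvable_of_isSolvable_injective
        (f := (Subgroup.inclusion hker).comp (f.ker.equivMapOfInjective _
          (Subgroup.subtype_injective _)).toMonoidHom)
        ((Subgroup.inclusion_injective hker).comp (MulEquiv.injective _))
    exact Group.isSolvable_of_ker_le_range f.ker.subtype f (Subgroup.range_subtype f.ker).ge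
  haveI : Group.IsSolvable N :=
    Group.isSolvable_of_isSolvable_injective (Subgroup.inclusion_injective hNZ)
  have hsup : N ⊔ M = ⊤ := Sylow.normalizer_sup_eq_top Q
  haveI : Group.IsSolvable M :=
    Group.isSolvable_of_isSolvable_injective (Subgroup.inclusion_injective hMR)
  haveI : Group.IsSolvable (G ⧸ M) := by
    refine Group.isSolvable_of_surjective (f := (QuotientGroup.mk' M).comp N.subtype) ?_
    intro z
    obtain ⟨g, rfl⟩ := QuotientGroup.mk'_surjective M z
    obtain ⟨a, ha, b, hb, rfl⟩ :=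
      Subgroup.mem_sup_of_normal_right.1 (hsup ▸ Subgroup.mem_top g)
    exact ⟨⟨a, ha⟩, by simp [(QuotientGroup.eq_one_iff b).2 hb]⟩
  exact Group.isSolvable_of_ker_le_range M.subtype (QuotientGroup.mk' M)
    (by rw [QuotientGroup.ker_mk', Subgroup.range_subtype])

/-- in a group without solvable normal subgroups the minimal normal subgroup is simple and unique -/
theorem exists_simple_socle {Q : Type*} [Group Q] [Finite Q] [Nontrivial Q] (h : CP Q)
    (hrad : ∀ N : Subgroup Q, N.Normal → Group.IsSolvable N → N = ⊥) :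
    ∃ M : Subgroup Q, M.Normal ∧ IsSimpleGroup M ∧ ¬ IsMulCommutative M ∧
      ∀ N : Subgroup Q, N.Normal → N ≠ ⊥ → M ≤ N := by
  obtain ⟨M, hMn, hM0, hMmin⟩ := Solvable.exists_minimal_normal Q
  haveI := hMn
  have hMns : ¬ Group.IsSolvable M := fun hs => hM0 (hrad M hMn hs)
  -- two primes
  have hprimes : ∀ {K : Subgroup Q}, K ≠ ⊥ → (∀ p : ℕ, p.Prime → ¬ IsPGroup p K) →
      ∀ a : ℕ, ∃ b : ℕ, b.Prime ∧ b ≠ a ∧ b ∣ Nat.card K := by
    intro K hK hnp a
    by_contra hc
    push Not at hc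
    obtain ⟨b, hb, hbd⟩ := Nat.exists_prime_and_dvd
      (fun h1 => hK (Subgroup.card_eq_one.1 h1) : Nat.card K ≠ 1)
    have hab : b = a := by
      by_contra hne
      exact hc b hb hne hbd
    subst hab
    refine hnp b hb (IsPGroup.of_card (n := (Nat.card K).primeFactorsList.length) ?_)
    exact Nat.eq_prime_pow_of_unique_prime_dvd Nat.card_pos.ne' fun {r} hr hrd => by
      by_contra hne
      exact hc r hr hne hrd
  have hMnp : ∀ p : ℕ, p.Prime → ¬ IsPGroup p M := by
    intro p hp hMp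
    haveI := Fact.mk hp
    haveI := hMp.isNilpotent
    exact hMns inferInstance
  haveI : Nontrivial M := (Subgroup.nontrivial_iff_ne_bot M).2 hM0
  obtain ⟨S, hSn, hS0, hSmin⟩ := Solvable.exists_minimal_normal M
  haveI := hSn
  have hSnp : ∀ p : ℕ, p.Prime → ¬ IsPGroup p S := by
    intro p hp hSp
    haveI := Fact.mk hp
    have h1 : S ≤ pCore p M := Thompson.le_pCore hSn hSp
    have h2 := Thompson.map_subtype_normal_of_characteristic M (pCore p M)
    have hp' : IsPGroup p ((pCore p M).map M.subtype) := Thompson.isPGroup_pCore.map _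
    haveI := hp'.isNilpotent
    have h3 := hrad _ h2 inferInstance
    rw [Subgroup.map_eq_bot_iff_of_injective _ M.subtype_injective] at h3
    exact hS0 (le_bot_iff.1 (h3 ▸ h1))
  set S' := S.map M.subtype with hS'
  have hS'0 : S' ≠ ⊥ := by rwa [hS', Ne, Subgroup.map_eq_bot_iff_of_injective _ M.subtype_injective]
  have hS'np : ∀ p : ℕ, p.Prime → ¬ IsPGroup p S' := fun p hp h1 =>
    hSnp p hp (h1.of_equiv (S.equivMapOfInjective _ M.subtype_injective).symm)
  -- disjoint commuting subgroups are impossible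
  have hkey : ∀ A B : Subgroup Q, A ≠ ⊥ → (∀ p : ℕ, p.Prime → ¬ IsPGroup p A) → B ≠ ⊥ →
      (∀ a ∈ A, ∀ b ∈ B, Commute a b) → False := by
    intro A B hA hAnp hB hcomm
    obtain ⟨b, hb, hbd⟩ := Nat.exists_prime_and_dvd
      (fun h1 => hB (Subgroup.card_eq_one.1 h1) : Nat.card B ≠ 1)
    obtain ⟨a, ha, hab, had⟩ := hprimes hA hAnp b
    haveI := Fact.mk ha
    haveI := Fact.mk hb
    obtain ⟨x, hx⟩ := exists_prime_orderOf_dvd_card' a had
    obtain ⟨y, hy⟩ := exists_prime_orderOf_dvd_card' b hbd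
    exact hab (h.eq_of_commute ha hb (by rw [Subgroup.orderOf_coe, hx])
      (by rw [Subgroup.orderOf_coe, hy]) (hcomm x x.2 y y.2))
  have hS'M : S' ≤ M := Subgroup.map_subtype_le S
  have hSnormal : S'.Normal := by
    constructor
    intro s hs g
    set T := S'.map (MulAut.conj g).toMonoidHom with hT
    have hTM : T ≤ M := by
      rintro _ ⟨t, ht, rfl⟩
      exact hMn.conj_mem t (hS'M ht) g
    have hnorm : ∀ m ∈ M, ∀ t ∈ S', m * t * m⁻¹ ∈ S' := by
      rintro m hm _ ⟨t, ht, rfl⟩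
      exact ⟨⟨m, hm⟩ * t * ⟨m, hm⟩⁻¹, hSn.conj_mem t ht ⟨m, hm⟩, rfl⟩
    have hnormT : ∀ m ∈ M, ∀ t ∈ T, m * t * m⁻¹ ∈ T := by
      rintro m hm _ ⟨t, ht, rfl⟩
      refine ⟨(g⁻¹ * m * g) * t * (g⁻¹ * m * g)⁻¹, hnorm _ ?_ t ht, ?_⟩
      · simpa using hMn.conj_mem m hm g⁻¹
      · simp [mul_assoc]
    have hTn : (T.subgroupOf M).Normal := ⟨fun t ht m => hnormT m m.2 t ht⟩
    rcases hSmin (S ⊓ T.subgroupOf M) inferInstance inf_le_left with h1 | h1
    · exfalso
      have hT0 : T ≠ ⊥ := by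
        rwa [hT, Ne, Subgroup.map_eq_bot_iff_of_injective _ (MulAut.conj g).injective]
      refine hkey S' T hS'0 hS'np hT0 fun a ha b hb => ?_
      have hc1 : a * b * a⁻¹ * b⁻¹ ∈ S' := by
        have := S'.mul_mem ha (hnorm b (hTM hb) a⁻¹ (S'.inv_mem ha))
        simpa [mul_assoc] using this
      have hc2 : a * b * a⁻¹ * b⁻¹ ∈ T := T.mul_mem (hnormT a (hS'M ha) b hb) (T.inv_mem hb)
      obtain ⟨c, hc, hce⟩ := hc1
      have hc3 : c ∈ S ⊓ T.subgroupOf M := ⟨hc, show (c : Q) ∈ T by
        have : (c : Q) = a * b * a⁻¹ * b⁻¹ := hce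
        rw [this]; exact hc2⟩
      rw [h1, Subgroup.mem_bot] at hc3
      rw [hc3, map_one] at hce
      exact commutatorElement_eq_one_iff_mul_comm.1 hce.symm
    · have hle : S' ≤ T := by
        rintro _ ⟨t, ht, rfl⟩
        exact (show t ∈ T.subgroupOf M from (h1.symm ▸ ht : t ∈ S ⊓ T.subgroupOf M).2)
      have heq : S' = T := Subgroup.eq_of_le_of_card_ge hle
        (by rw [hT, Subgroup.card_map_of_injective (MulAut.conj g).injective])
      rw [heq]
      exact ⟨s, hs, rfl⟩
  have hSM : S' = M := (hMmin S' hSnormal hS'M).resolve_left hS'0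
  have hStop : S = ⊤ := by
    apply Subgroup.map_injective M.subtype_injective
    rw [← hS', hSM, ← MonoidHom.range_eq_map, Subgroup.range_subtype]
  refine ⟨M, hMn, ⟨fun K hK => ?_⟩, fun hc => hMns ?_, fun N hN hN0 => ?_⟩
  · rcases hSmin K hK (hStop ▸ le_top) with h1 | h1
    · exact Or.inl h1
    · exact Or.inr (h1.trans hStop)
  · exact Group.isSolvable_of_comm fun a b => hc.is_comm.comm a b
  · rcases hMmin (M ⊓ N) inferInstance inf_le_left with h1 | h1
    · exfalso
      exact hkey M N hM0 hMnp hN0 fun a ha b hb =>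
        Subgroup.commute_of_normal_of_disjoint M N hMn hN (disjoint_iff.2 h1) a b ha hb
    · exact h1 ▸ inf_le_right

theorem result {G : Type*} [Group G] [Finite G] (hns : ¬ Group.IsSolvable G) (hpp : ∀ g : G, g ≠ 1 → IsPrimePow (orderOf g))
    (R : Subgroup G) [R.Normal] (hRs : Group.IsSolvable ↥R) (hRmax : ∀ N : Subgroup G, N.Normal → Group.IsSolvable ↥N → N ≤ R) :
    (∃ p : ℕ, p.Prime ∧ IsPGroup p ↥R) ∧
      (∃ M : Subgroup (G ⧸ R), M.Normal ∧ IsSimpleGroup ↥M ∧ ¬ IsMulCommutative ↥M ∧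
        ∀ N : Subgroup (G ⧸ R), N.Normal → N ≠ ⊥ → M ≤ N) ∧
      ∀ H : Subgroup G, Group.IsSolvable ↥H → (Nat.card ↥H).primeFactors.card ≤ 2 := by
  haveI := hRs
  refine ⟨isPGroup_radical hpp hns R, ?_, fun H hH => ?_⟩
  · haveI : Nontrivial (G ⧸ R) := by
      rw [← not_subsingleton_iff_nontrivial]
      intro hs
      apply hns
      have hR : R = ⊤ := QuotientGroup.subgroup_eq_top_of_subsingleton R hs
      exact Group.isSolvable_of_surjective (f := R.subtype)
        (fun g => ⟨⟨g, hR ▸ Subgroup.mem_top g⟩, rfl⟩)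
    refine exists_simple_socle (CP.quotient hpp R) fun N hN hNs => ?_
    haveI := hNs
    set L := N.comap (QuotientGroup.mk' R) with hL
    have hRL : R ≤ L := by
      intro x hx
      simp [hL, (QuotientGroup.eq_one_iff x).2 hx]
    haveI : Group.IsSolvable L := by
      let f : L →* N := ((QuotientGroup.mk' R).comp L.subtype).codRestrict _ fun x => x.2
      refine Group.isSolvable_of_ker_le_range (Subgroup.inclusion hRL) f ?_
      intro x hx
      rw [MonoidHom.mem_ker, Subtype.ext_iff] at hx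
      exact ⟨⟨x, (QuotientGroup.eq_one_iff _).1 hx⟩, rfl⟩
    have hLR : L ≤ R := hRmax L (hN.comap _) inferInstance
    rw [← Subgroup.map_comap_eq_self_of_surjective (QuotientGroup.mk'_surjective R) N,
      Subgroup.map_eq_bot_iff, QuotientGroup.ker_mk']
    exact hLR
  · haveI := hH
    refine S1475.result fun g => ?_
    by_cases hg : g = 1
    · exact Or.inr hg
    · left
      rw [← Subgroup.orderOf_coe]
      exact hpp _ fun h1 => hg (Subtype.ext h1)

end Cfsg.Agent.S3992
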