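import Cfsg.Statements.S5372
import Cfsg.Agent.H25.M24Uni.Phi
import Cfsg.Agent.OddLocal44.M23.Unique

set_option autoImplicit false
open Cfsg

namespace Cfsg.Agent.S5372

/-- Uniqueness of the 3-transposition groups of type M(24). Let G₁ and G₂ be finite groups with trivial centres, each generated by a conjugation-invariant set of 3-transpositions Dᵢ on which it acts primitively, such that for some member d of Dᵢ the subgroup generated by the members of Dᵢ other than d commuting with d has central largest normal 2- and 3-subgroups, and suppose each Gᵢ with Dᵢ is of type M(24). Then there is an isomorphism from G₁ to G₂ carrying D₁ onto D₂. -/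
theorem result {G₁ G₂ : Type*} [Group G₁] [Finite G₁] [Group G₂] [Finite G₂] {D₁ : Set G₁} {D₂ : Set G₂} (hD₁ : Cfsg.IsThreeTranspositionGroup D₁) (hprim₁ : Cfsg.IsPrimitiveUnderConj D₁) (hZ₁ : Subgroup.center G₁ = ⊥) (d₁ : G₁) (hd₁ : d₁ ∈ D₁) (h3₁ : Cfsg.pCore 3 ↥(Subgroup.closure {y : G₁ | y ∈ D₁ ∧ y ≠ d₁ ∧ Commute d₁ y}) ≤ Subgroup.center ↥(Subgroup.closure {y : G₁ | y ∈ D₁ ∧ y ≠ d₁ ∧ Commute d₁ y})) (h2₁ : Cfsg.pCore 2 ↥(Subgroup.closure {y : G₁ | y ∈ D₁ ∧ y ≠ d₁ ∧ Commute d₁ y}) ≤ Subgroup.center ↥(Subgroup.closure {y : G₁ | y ∈ D₁ ∧ y ≠ d₁ ∧ Commute d₁ y})) (hD₂ : Cfsg.IsThreeTranspositionGroup D₂) (hprim₂ : Cfsg.IsPrimitiveUnderConj D₂) (hZ₂ : Subgroup.center G₂ = ⊥) (d₂ : G₂) (hd₂ : d₂ ∈ D₂) (h3₂ : Cfsg.pCore 3 ↥(Subgroup.closure {y : G₂ | y ∈ D₂ ∧ y ≠ d₂ ∧ Commute d₂ y}) ≤ Subgroup.center ↥(Subgroup.closure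 {y : G₂ | y ∈ D₂ ∧ y ≠ d₂ ∧ Commute d₂ y})) (h2₂ : Cfsg.pCore 2 ↥(Subgroup.closure {y : G₂ | y ∈ D₂ ∧ y ≠ d₂ ∧ Commute d₂ y}) ≤ Subgroup.center ↥(Subgroup.closure {y : G₂ | y ∈ D₂ ∧ y ≠ d₂ ∧ Commute d₂ y})) (ht₁ : Cfsg.IsOfTypeM24 G₁ D₁) (ht₂ : Cfsg.IsOfTypeM24 G₂ D₂) : ∃ e : G₁ ≃* G₂, e '' D₁ = D₂ := by
  obtain ⟨a₁, p₁, hG₁⟩ := TT95.cfg24_of_type hD₁ hprim₁ ht₁
  obtain ⟨a₂, p₂, hG₂⟩ := TT95.cfg24_of_type hD₂ hprim₂ ht₂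
  haveI := TT95.Gen.of_group hD₁
  haveI := TT95.Gen.of_group hD₂
  haveI := TT95.gen_loc24 hG₁
  haveI := TT95.gen_loc24 hG₂
  haveI := TT95.loc_finite hG₁.lay.tt a₁
  haveI := TT95.loc_finite hG₂.lay.tt a₂
  obtain ⟨θ, hθ⟩ := OddLocal44.M23.exists_iso23 hG₁.loc hG₂.loc
  obtain ⟨Θ, ψ, b₁, x₁, x₂, hΘ, hb₁, hxd, hxb, hx₂, hψ, hψx, hagree⟩ :=
    H25.M24Uni.exists_base hG₁ hG₂ CosetEnum.Fi23.simple θ hθ
  obtain ⟨Φ, hΦ, hcomm⟩ :=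
    H25.M24Uni.exists_graph_iso hG₁ hG₂ hΘ hb₁ hxd hxb hx₂ hψ hψx hagree
  exact H25.M24Uni.exists_equiv_of_graph hG₁.lay hG₂.lay Φ hΦ hcomm

end Cfsg.Agent.S5372
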