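import Cfsg.Statements.S3742
import Mathlib.GroupTheory.Perm.Fin
import Mathlib.Data.Fintype.Perm


set_option autoImplicit false
open Cfsg

namespace Cfsg.Agent.S3742

/-- The map `a i ↦ u ^ i`, `xa i ↦ v * u ^ i`. -/
def ext2 (u v : QuaternionGroup 2) : QuaternionGroup 2 → QuaternionGroup 2
  | QuaternionGroup.a i => u ^ i.val
  | QuaternionGroup.xa i => v * u ^ i.val

/-- The element with code `4 s + i`. -/
def decode (n : ℕ) : QuaternionGroup 2 :=
  if n < 4 then QuaternionGroup.a (n : ZMod (2 * 2)) else QuaternionGroup.xa (n : ZMod (2 * 2))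

/-- The images of `a 1` and `xa 0` under the automorphism attached to a permutation of the four
Sylow `3`-subgroups of the automorphism group. -/
def pairOf (σ : Equiv.Perm (Fin 4)) : QuaternionGroup 2 × QuaternionGroup 2 :=
  let c := ([0, 0, 0, 0, 0, 0, 46, 57, 0, 53, 0, 35, 0, 15, 28, 0, 0, 0, 59, 44, 0, 0, 0, 0, 31, 0, 0, 14, 37, 0, 49, 0, 0, 33, 0, 55, 12, 0, 0, 29, 0, 0, 0, 0, 62, 43, 0, 0, 0, 30, 13, 0, 51, 0, 39, 0, 41, 60, 0, 0, 0, 0, 0, 0] : List ℕ).getD ((σ 0).val + 4 * (σ 1).val + 16 * (σ 2).val) 0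
  (decode (c / 8), decode (c % 8))

/-- The automorphism attached to a permutation, as a function. -/
def act (σ : Equiv.Perm (Fin 4)) : QuaternionGroup 2 → QuaternionGroup 2 :=
  ext2 (pairOf σ).1 (pairOf σ).2

theorem gen_a : ∀ i : ZMod (2 * 2),
    (QuaternionGroup.a i : QuaternionGroup 2) = QuaternionGroup.a 1 ^ i.val := by decide +kernel

theorem gen_xa : ∀ i : ZMod (2 * 2),
    (QuaternionGroup.xa i : QuaternionGroup 2) = QuaternionGroup.xa 0 * QuaternionGroup.a 1 ^ i.val := by
  decide +kernel

theorem act_one : ∀ x, act 1 x = x := by decide +kernel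

theorem act_mul : ∀ σ x y, act σ (x * y) = act σ x * act σ y := by decide +kernel

theorem act_act : ∀ σ τ x, act σ (act τ x) = act (σ * τ) x := by decide +kernel

theorem act_inj : ∀ σ, act σ (QuaternionGroup.a 1) = QuaternionGroup.a 1 →
    act σ (QuaternionGroup.xa 0) = QuaternionGroup.xa 0 → σ = 1 := by decide +kernel

theorem ext2_exists : ∀ u v : QuaternionGroup 2,
    (∀ x y, ext2 u v (x * y) = ext2 u v x * ext2 u v y) →
    (∀ x y, ext2 u v x = ext2 u v y → x = y) → ∃ σ, pairOf σ = (u, v) := by decide +kernel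

/-- The automorphism group of the quaternion group of order 8 is isomorphic to the symmetric group of degree 4. -/
theorem result : Nonempty (MulAut (QuaternionGroup 2) ≃* Equiv.Perm (Fin 4)) := by
  let φ : Equiv.Perm (Fin 4) →* MulAut (QuaternionGroup 2) :=
    MonoidHom.mk' (fun σ =>
      { toFun := act σ
        invFun := act σ⁻¹
        left_inv := fun x => by rw [act_act, inv_mul_cancel, act_one]
        right_inv := fun x => by rw [act_act, mul_inv_cancel, act_one]
        map_mul' := act_mul σ })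
      (fun σ τ => MulEquiv.ext fun x => (act_act σ τ x).symm)
  refine ⟨(MulEquiv.ofBijective φ ⟨?_, ?_⟩).symm⟩
  · rw [injective_iff_map_eq_one]
    intro σ hσ
    refine act_inj σ ?_ ?_
    · exact congrArg (fun e : MulAut (QuaternionGroup 2) => e (QuaternionGroup.a 1)) hσ
    · exact congrArg (fun e : MulAut (QuaternionGroup 2) => e (QuaternionGroup.xa 0)) hσ
  · intro α
    have hα : ∀ x, α x = ext2 (α (QuaternionGroup.a 1)) (α (QuaternionGroup.xa 0)) x := by
      intro x
      rcases x with i | i
      · show _ = α (QuaternionGroup.a 1) ^ i.val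
        rw [← map_pow]
        exact congrArg α (gen_a i)
      · show _ = α (QuaternionGroup.xa 0) * α (QuaternionGroup.a 1) ^ i.val
        rw [← map_pow, ← map_mul]
        exact congrArg α (gen_xa i)
    obtain ⟨σ, hσ⟩ := ext2_exists (α (QuaternionGroup.a 1)) (α (QuaternionGroup.xa 0))
      (fun x y => by rw [← hα, ← hα, ← hα, map_mul])
      (fun x y h => α.injective ((hα x).trans (h.trans (hα y).symm)))
    refine ⟨σ, MulEquiv.ext fun x => ?_⟩
    show ext2 (pairOf σ).1 (pairOf σ).2 x = α x
    rw [hσ, hα x]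

end Cfsg.Agent.S3742
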