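import Cfsg.Statements.S0218
-- import your own Cfsg.Agent.* helpers here

set_option autoImplicit false
open Cfsg

namespace Cfsg.Agent.S0218

/-- The generalized quaternion group of order 2^(n+3) contains exactly one element of order 2. -/
theorem result (n : ℕ) : Nat.card {x : QuaternionGroup (2 ^ (n + 1)) // orderOf x = 2} = 1 := by
  rw [Nat.card_eq_one_iff_exists]
  haveI : NeZero (2 ^ (n + 1)) := ⟨pow_ne_zero _ two_ne_zero⟩
  set m := 2 ^ (n + 1) with hm
  have hmpos : 0 < m := by positivity
  have hane : (QuaternionGroup.a (m : ZMod (2 * m)) : QuaternionGroup m) ≠ 1 := by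
    rw [QuaternionGroup.one_def]
    intro h
    have := QuaternionGroup.a.inj h
    rw [ZMod.natCast_eq_zero_iff] at this
    have := Nat.le_of_dvd hmpos this
    omega
  have hord : orderOf (QuaternionGroup.a (m : ZMod (2 * m)) : QuaternionGroup m) = 2 := by
    refine orderOf_eq_prime ?_ hane
    rw [pow_two, QuaternionGroup.a_mul_a, ← Nat.cast_add, ← two_mul, ZMod.natCast_self,
      QuaternionGroup.a_zero]
  refine ⟨⟨_, hord⟩, ?_⟩
  rintro ⟨(i | i), hi⟩
  · apply Subtype.ext
    have h2 := pow_orderOf_eq_one (QuaternionGroup.a i : QuaternionGroup m)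
    rw [hi, pow_two, QuaternionGroup.a_mul_a, QuaternionGroup.one_def] at h2
    have h3 : (i + i : ZMod (2 * m)) = 0 := QuaternionGroup.a.inj h2
    have h4 : (2 * m) ∣ i.val + i.val := by
      rw [← ZMod.natCast_eq_zero_iff, Nat.cast_add, ZMod.natCast_zmod_val, h3]
    obtain ⟨c, hc⟩ := h4
    have hlt : i.val < 2 * m := ZMod.val_lt i
    have hne : i ≠ 0 := by
      rintro rfl
      rw [QuaternionGroup.a_zero] at hi
      simp at hi
    have hpos : i.val ≠ 0 := by rwa [Ne, ZMod.val_eq_zero]
    have hcm : i.val = m := by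
      have hc2 : c < 2 := by
        by_contra h
        have := Nat.mul_le_mul_left (2 * m) (not_lt.mp h)
        omega
      rcases (show c = 0 ∨ c = 1 by omega) with rfl | rfl <;> omega
    show QuaternionGroup.a i = QuaternionGroup.a _
    rw [← ZMod.natCast_zmod_val i]
    exact congrArg (fun k : ℕ => (QuaternionGroup.a (k : ZMod (2 * m)) : QuaternionGroup m)) hcm
  · rw [QuaternionGroup.orderOf_xa] at hi
    omega

end Cfsg.Agent.S0218
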