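import Cfsg.Statements.S3779
import Mathlib
import Cfsg.Agent.FG72.Lie.Cyclotomic
import Cfsg.Agent.Lib.Frobenius.Nilpotent

set_option autoImplicit false
open Cfsg

namespace Cfsg.Agent.S3779

/-- Let G be a finite group with an automorphism of prime order p fixing only the identity. Then G is nilpotent; if p = 2 then G is abelian, if p = 3 then G has class at most 2, and in general the class of G is at most ξ = 1 + (p−1) + (p−1)² + ⋯ + (p−1)^(n−1) with n = 2^(p−1) − 1 (the Higman–Kreknin–Kostrikin bound). -/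
theorem result {G : Type*} [Group G] [Finite G] {p : ℕ} (hp : p.Prime) (α : MulAut G) (hα : orderOf α = p) (hfpf : ∀ g : G, α g = g → g = 1) : (p = 2 → (⊤ : Subgroup G).lowerCentralSeries 1 = ⊥) ∧ (p = 3 → (⊤ : Subgroup G).lowerCentralSeries 2 = ⊥) ∧ (⊤ : Subgroup G).lowerCentralSeries (Finset.sum (Finset.range (2 ^ (p - 1) - 1)) (fun i => (p - 1) ^ i)) = ⊥ := by
  haveI : Fact p.Prime := ⟨hp⟩
  haveI : NeZero p := ⟨hp.ne_zero⟩
  have hαp : α ^ p = 1 := hα ▸ pow_orderOf_eq_one α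
  haveI : Group.IsNilpotent G :=
    Cfsg.Agent.Frobenius.isNilpotent_of_fixedPointFree G α hfpf hp hαp
  have hiter : ∀ (n : ℕ) (g : G), (α.toMonoidHom)^[n] g = (α ^ n) g := by
    intro n
    induction n with
    | zero => intro g; rfl
    | succ n ih =>
      intro g
      rw [Function.iterate_succ_apply', ih, pow_succ']
      rfl
  have hcop : Nat.Coprime p (Nat.card G) := by
    have hpg : IsPGroup p (Subgroup.zpowers α) :=
      IsPGroup.of_card (n := 1) (by rw [pow_one, Nat.card_zpowers, hα])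
    haveI := Fintype.ofFinite G
    have hmod := hpg.card_modEq_card_fixedPoints G
    have hone : Nat.card (MulAction.fixedPoints (Subgroup.zpowers α) G) = 1 := by
      rw [Nat.card_eq_one_iff_unique]
      refine ⟨⟨fun a b => Subtype.ext ?_⟩, ⟨⟨1, fun k => map_one (k : MulAut G)⟩⟩⟩
      have h : ∀ c : MulAction.fixedPoints (Subgroup.zpowers α) G, (c : G) = 1 :=
        fun c => hfpf c (c.2 ⟨α, Subgroup.mem_zpowers α⟩)
      rw [h a, h b]
    rw [hone] at hmod
    refine (hp.coprime_iff_not_dvd).mpr fun hdvd => ?_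
    have := hmod.symm.trans (Nat.modEq_zero_iff_dvd.mpr hdvd)
    exact hp.one_lt.ne' (Nat.dvd_one.mp (Nat.modEq_zero_iff_dvd.mp this))
  have htor : ∀ x : FG72.Assoc.LieRingOf G, p • x = 0 → x = 0 := by
    intro x hx
    have h1 := addOrderOf_dvd_of_nsmul_eq_zero hx
    have h2 := addOrderOf_dvd_of_nsmul_eq_zero (FG72.Assoc.card_nsmul_eq_zero x)
    have h3 : addOrderOf x ∣ 1 := hcop ▸ Nat.dvd_gcd h1 h2
    exact AddMonoid.addOrderOf_eq_one_iff.mp (Nat.dvd_one.mp h3)
  have hA := FG72.Assoc.lmap_br α.toMonoidHom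
  have hfix : ∀ x, FG72.Assoc.lmap α.toMonoidHom x = x → x = 0 :=
    FG72.Assoc.eq_zero_of_lmap_eq α.toMonoidHom hfpf
  have hper : ∀ x, (FG72.Assoc.lmap α.toMonoidHom)^[p] x = x :=
    FG72.Assoc.lmap_iterate_eq_self _ fun g => by rw [hiter, hαp]; rfl
  have gen : (⊤ : Subgroup G).lowerCentralSeries
      (Finset.sum (Finset.range (2 ^ (p - 1) - 1)) (fun i => (p - 1) ^ i)) = ⊥ :=
    FG72.Assoc.gam_eq_bot_of_V _ fun x hx => FG72.Cyclo.V_eq_zero hA hfix hper htor _
      (fun D hD k y hy => FG72.LieGrad.word_eq_zero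
        (FG72.Cyclo.extBr_isLie _ FG72.Assoc.br_isLie) hD k hy) hx
  refine ⟨?_, ?_, gen⟩
  · rintro rfl
    simpa using gen
  · rintro rfl
    exact FG72.Assoc.gam_eq_bot_of_V 2 fun x hx => FG72.Cyclo.V_eq_zero hA hfix hper htor 2
      (fun D hD k y hy => FG72.LieGrad.word_two_eq_zero
        (FG72.Cyclo.extBr_isLie _ FG72.Assoc.br_isLie) hD k hy) hx

end Cfsg.Agent.S3779
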