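import Cfsg.Statements.S3748
import Cfsg.Agent.SolvableStructure.Zipper
import Cfsg.Agent.Lib.Fitting

set_option autoImplicit false
open Cfsg

namespace Cfsg.Agent.S3748

open Subgroup
open scoped Pointwise

theorem primitive_aux {G : Type*} [Group G] [Finite G] (M : Subgroup G) (hM : M ≠ ⊤)
    (hprim : ∀ N : Subgroup G, N ≤ M → M ≤ normalizer (N : Set G) → N ≠ ⊥ →
      normalizer (N : Set G) = M) :
    (∀ L : Subgroup G, L.IsSubnormal → L ≤ M → L = ⊥) ∧ M ⊓ Cfsg.fittingSubgroup G = ⊥ := by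
  have closure_in_M : ∀ L : Subgroup G, L.IsSubnormal → L ≤ M →
      ∃ N : Subgroup G, L ≤ N ∧ N ≤ M ∧ N.IsSubnormal ∧ M ≤ normalizer (N : Set G) := by
    intro L hL hLM
    set T : Set (Subgroup G) := Set.range (fun m : M => MulAut.conj (m : G) • L) with hT
    refine ⟨sSup T, le_sSup ⟨1, by simp⟩, sSup_le ?_, ?_, ?_⟩
    · rintro _ ⟨m, rfl⟩
      exact conj_smul_le_of_le hLM m
    · have h := Cfsg.Agent.SolvableStructure.isSubnormal_sSup_subgroupOf ⊤ T (fun _ _ => le_top)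
        (by rintro _ ⟨m, rfl⟩; exact (hL.smul _).subgroupOf)
      exact h.trans le_top IsSubnormal.top
    · refine Cfsg.Agent.SolvableStructure.le_normalizer_sSup_of_closed M T ?_
      rintro _ ⟨m, rfl⟩ g hg
      exact ⟨⟨g * m, M.mul_mem hg m.2⟩, Cfsg.Agent.Solvable.conj_smul_mul g _ L⟩
  have main : ∀ L : Subgroup G, L.IsSubnormal → L ≤ M → L = ⊥ := by
    intro L hL hLM
    by_contra hb
    obtain ⟨N₀, hLN, hN₀M, hN₀, hN₀n⟩ := closure_in_M L hL hLM
    obtain ⟨N, hle, ⟨hNM, hN, hNn⟩, hmax⟩ := Finite.exists_le_maximal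
      (p := fun N : Subgroup G => N ≤ M ∧ N.IsSubnormal ∧ M ≤ normalizer (N : Set G))
      (a := N₀) ⟨hN₀M, hN₀, hN₀n⟩
    have hNb : N ≠ ⊥ := fun h => hb (eq_bot_iff.2 (h ▸ hLN.trans hle))
    rcases IsSubnormal.iff_eq_top_or_exists.1 hN with h | ⟨K, hNK, hK, hn⟩
    · exact hM (eq_top_iff.2 (h ▸ hNM))
    have hKM : K ≤ M := by
      rw [← hprim N hNM hNn hNb]
      exact (normal_subgroupOf_iff_le_normalizer hNK.le).1 hn
    obtain ⟨N', hKN', hN'M, hN', hN'n⟩ := closure_in_M K hK hKM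
    have := hmax ⟨hN'M, hN', hN'n⟩ (hNK.le.trans hKN')
    exact hNK.not_ge (hKN'.trans this)
  refine ⟨main, main _ ?_ inf_le_left⟩
  haveI := Cfsg.Agent.Fitting.fitting_isNilpotent (G := G)
  exact IsSubnormal.trans inf_le_right
    (Cfsg.Agent.SolvableStructure.isSubnormal_of_isNilpotent _)
    (Cfsg.Agent.Fitting.fitting_normal (G := G)).isSubnormal

/-- Call a proper subgroup M of G primitive when M = N_G(N) for every non-trivial normal subgroup N of M. If M is a primitive subgroup of the finite group G, then no non-trivial subnormal subgroup of G is contained in M; in particular M ∩ F(G) = 1. -/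
theorem result {G : Type*} [Group G] [Finite G] (M : Subgroup G) (hM : M ≠ ⊤) (hprim : ∀ N : Subgroup G, N ≤ M → M ≤ Subgroup.normalizer (N : Set G) → N ≠ ⊥ → Subgroup.normalizer (N : Set G) = M) : (∀ L : Subgroup G, L.IsSubnormal → L ≤ M → L = ⊥) ∧ M ⊓ Cfsg.fittingSubgroup G = ⊥ := by
  exact primitive_aux M hM hprim

end Cfsg.Agent.S3748
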