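import Cfsg.Statements.S0007
-- import your own Cfsg.Agent.* helpers here

set_option autoImplicit false
open Cfsg

namespace Cfsg.Agent.S0007

/-- Subgroups of coprime index: the intersection has index equal to the product of the indices, and every element is a product of an element of the first subgroup and an element of the second. -/
theorem result {G : Type*} [Group G] [Finite G] (H K : Subgroup G)
    (h : H.index.Coprime K.index) :
    (H ⊓ K).index = H.index * K.index ∧ ∀ g : G, ∃ x ∈ H, ∃ y ∈ K, g = x * y := by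
  have h1 : H.index ∣ (H ⊓ K).index := Subgroup.index_dvd_of_le inf_le_left
  have h2 : K.index ∣ (H ⊓ K).index := Subgroup.index_dvd_of_le inf_le_right
  have hne : (H ⊓ K).index ≠ 0 := Subgroup.index_ne_zero_of_finite
  have hidx : (H ⊓ K).index = H.index * K.index :=
    le_antisymm Subgroup.index_inf_le
      (Nat.le_of_dvd (Nat.pos_of_ne_zero hne) (h.mul_dvd_of_dvd_of_dvd h1 h2))
  refine ⟨hidx, fun g => ?_⟩
  have hrel : H.relIndex K = H.index := by
    have e := Subgroup.relIndex_mul_index (inf_le_right : H ⊓ K ≤ K)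
    rw [Subgroup.inf_relIndex_right, hidx] at e
    exact Nat.eq_of_mul_eq_mul_right (Nat.pos_of_ne_zero Subgroup.index_ne_zero_of_finite) e
  let f : K ⧸ H.subgroupOf K → G ⧸ H :=
    Quotient.map' (fun k : K => (k : G)) fun a b hab => by
      rw [QuotientGroup.leftRel_apply] at hab ⊢
      exact hab
  have hinj : Function.Injective f := by
    rintro ⟨a⟩ ⟨b⟩ hab
    apply Quotient.sound
    exact QuotientGroup.leftRel_apply.mpr (QuotientGroup.leftRel_apply.mp (Quotient.exact hab) :)
  have hsurj : Function.Surjective f := by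
    have : Nat.card (K ⧸ H.subgroupOf K) = Nat.card (G ⧸ H) := hrel
    exact (Nat.bijective_iff_injective_and_card f).mpr ⟨hinj, this⟩ |>.2
  obtain ⟨q, hq⟩ := hsurj (QuotientGroup.mk g⁻¹)
  obtain ⟨k, rfl⟩ := Quotient.exists_rep q
  have hk : (k : G)⁻¹ * g⁻¹ ∈ H := QuotientGroup.eq.mp hq
  exact ⟨((k : G)⁻¹ * g⁻¹)⁻¹, inv_mem hk, (k : G)⁻¹, inv_mem k.2, by simp [mul_assoc]⟩

end Cfsg.Agent.S0007
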