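import Cfsg.Statements.S0006
import Cfsg.Agent.Lib.Coprime.Wielandt
import Cfsg.Agent.S0007
import Cfsg.Agent.S0144

set_option autoImplicit false
open Cfsg

namespace Cfsg.Agent.S0006

universe u

theorem aux (n : ℕ) : ∀ (G : Type u) [Group G] [Finite G], Nat.card G = n →
    (∀ p : ℕ, p.Prime → ∃ H : Subgroup G, H.index = p ^ (Nat.card G).factorization p) →
    Group.IsSolvable G := by
  induction n using Nat.strong_induction_on with
  | _ n IH =>
  intro G _ _ hn h
  have h0 : Nat.card G ≠ 0 := Nat.card_pos.ne'
  by_cases hfew : (Nat.card G).primeFactors.card ≤ 2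
  · have hprod := Nat.prod_factorization_pow_eq_self h0
    rw [Finsupp.prod, Nat.support_factorization] at hprod
    rcases Nat.lt_or_ge (Nat.card G).primeFactors.card 1 with hc | hc
    · rw [Finset.card_eq_zero.mp (by omega : (Nat.card G).primeFactors.card = 0), Finset.prod_empty] at hprod
      exact S0144.result 2 3 0 0 Nat.prime_two Nat.prime_three (by simpa using hprod.symm)
    rcases Nat.lt_or_ge (Nat.card G).primeFactors.card 2 with hc' | hc'
    · obtain ⟨p, hp⟩ := Finset.card_eq_one.mp (by omega : (Nat.card G).primeFactors.card = 1)
      rw [hp, Finset.prod_singleton] at hprod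
      exact S0144.result p p ((Nat.card G).factorization p) 0
        (Nat.prime_of_mem_primeFactors (hp ▸ Finset.mem_singleton_self p))
        (Nat.prime_of_mem_primeFactors (hp ▸ Finset.mem_singleton_self p))
        (by simpa using hprod.symm)
    · obtain ⟨p, q, hne, hpq⟩ := Finset.card_eq_two.mp (le_antisymm hfew hc')
      rw [hpq, Finset.prod_pair hne] at hprod
      exact S0144.result p q _ _
        (Nat.prime_of_mem_primeFactors (hpq ▸ Finset.mem_insert_self p _))
        (Nat.prime_of_mem_primeFactors
          (hpq ▸ Finset.mem_insert_of_mem (Finset.mem_singleton_self q)))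
        hprod.symm
  · obtain ⟨p, q, r, hp, hq, hr, hpq, hpr, hqr⟩ := Finset.two_lt_card_iff.mp (not_le.mp hfew)
    choose H hH using h
    have hcop : ∀ {a b : ℕ} (ha : a.Prime) (hb : b.Prime), a ≠ b →
        (H a ha).index.Coprime (H b hb).index := fun ha hb hab => by
      rw [hH, hH]
      exact Nat.Coprime.pow _ _ ((Nat.coprime_primes ha hb).mpr hab)
    have hsol : ∀ {a : ℕ} (ha : a ∈ (Nat.card G).primeFactors),
        Group.IsSolvable (H a (Nat.prime_of_mem_primeFactors ha)) := by
      intro a ha
      have hap := Nat.prime_of_mem_primeFactors ha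
      set K := H a hap with hK
      have hcard : Nat.card K * a ^ (Nat.card G).factorization a = Nat.card G := by
        rw [← hH a hap, ← hK, Subgroup.card_mul_index]
      have hlt : Nat.card K < n := by
        rw [← hn]
        refine lt_of_lt_of_eq (lt_mul_of_one_lt_right Nat.card_pos (one_lt_pow₀ hap.one_lt ?_)) hcard
        exact (hap.factorization_pos_of_dvd h0 (Nat.dvd_of_mem_primeFactors ha)).ne'
      refine IH _ hlt K rfl fun s hs => ?_
      have hfac : (Nat.card G).factorization s = (Nat.card K).factorization s +
          (if a = s then (Nat.card G).factorization a else 0) := by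
        conv_lhs => rw [← hcard]
        rw [Nat.factorization_mul Nat.card_pos.ne' (pow_ne_zero _ hap.ne_zero), hap.factorization_pow,
          Finsupp.add_apply, Finsupp.single_apply]
      by_cases has : a = s
      · subst has
        refine ⟨⊤, ?_⟩
        rw [if_pos rfl] at hfac
        rw [show (Nat.card K).factorization a = 0 by omega, pow_zero, Subgroup.index_top]
      · rw [if_neg has, add_zero] at hfac
        refine ⟨(H s hs).subgroupOf K, ?_⟩
        have h1 := (S0007.result K (H s hs) (hcop hap hs has)).1
        have h2 := Subgroup.relIndex_mul_index (inf_le_left : K ⊓ H s hs ≤ K)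
        rw [Subgroup.inf_relIndex_left, h1, mul_comm K.index] at h2
        rw [← hfac, ← hH s hs]
        exact Nat.eq_of_mul_eq_mul_right (Nat.pos_of_ne_zero Subgroup.index_ne_zero_of_finite) h2
    exact Coprime.isSolvable_of_three _ G rfl _ _ _ (hsol hp) (hsol hq) (hsol hr)
      (S0007.result _ _ (hcop _ _ hpq)).2 (S0007.result _ _ (hcop _ _ hpr)).2 (hcop _ _ hqr)

/-- Converse of Hall's Theorem: if for every prime p a finite group has a subgroup of index equal to the p-part of the group order (a Hall p-complement), then the group is solvable. -/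
theorem result {G : Type*} [Group G] [Finite G]
    (h : ∀ p : ℕ, p.Prime → ∃ H : Subgroup G, H.index = p ^ (Nat.card G).factorization p) :
    Group.IsSolvable G := by
  exact aux _ G rfl h

end Cfsg.Agent.S0006
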