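import Cfsg.Statements.S0021
import Cfsg.Agent.S0006

set_option autoImplicit false
open Pointwise
open Cfsg

namespace Cfsg.Agent.S0021

theorem coe_sup_of_permute {G : Type*} [Group G] (H K : Subgroup G)
    (h : (H : Set G) * (K : Set G) = (K : Set G) * (H : Set G)) :
    ((H ⊔ K : Subgroup G) : Set G) = (H : Set G) * (K : Set G) := by
  let L : Subgroup G :=
    { carrier := (H : Set G) * (K : Set G)
      one_mem' := ⟨1, one_mem H, 1, one_mem K, one_mul 1⟩
      mul_mem' := by
        rintro _ _ ⟨a, ha, b, hb, rfl⟩ ⟨c, hc, d, hd, rfl⟩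
        obtain ⟨c', hc', b', hb', e⟩ := h.ge (Set.mul_mem_mul hb hc)
        exact ⟨a * c', mul_mem ha hc', b' * d, mul_mem hb' hd, by
          show a * c' * (b' * d) = a * b * (c * d)
          have e' : c' * b' = b * c := e
          calc a * c' * (b' * d) = a * (c' * b') * d := by group
            _ = a * b * (c * d) := by rw [e']; group⟩
      inv_mem' := by
        rintro _ ⟨a, ha, b, hb, rfl⟩
        show (a * b)⁻¹ ∈ (H : Set G) * (K : Set G)
        rw [h]
        exact ⟨b⁻¹, inv_mem hb, a⁻¹, inv_mem ha, (mul_inv_rev a b).symm⟩ }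
  have h1 : H ⊔ K ≤ L := sup_le (fun x hx => ⟨x, hx, 1, one_mem K, mul_one x⟩)
    (fun x hx => ⟨1, one_mem H, x, hx, one_mul x⟩)
  refine Set.Subset.antisymm h1 ?_
  rintro _ ⟨a, ha, b, hb, rfl⟩
  exact Subgroup.mul_mem_sup ha hb

/-- A finite group with a family of pairwise permuting Sylow subgroups, one for each prime, is solvable (this direction rests on Burnside's two-prime Theorem). -/
theorem result {G : Type*} [Group G] [Finite G]
    (S : (p : Nat.Primes) → Sylow (p : ℕ) G)
    (hS : ∀ p q : Nat.Primes, (S p : Set G) * (S q : Set G) = (S q : Set G) * (S p : Set G)) :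
    Group.IsSolvable G := by
  classical
  have key : ∀ T : Finset Nat.Primes, ∃ H : Subgroup G,
      (∀ r : Nat.Primes, (H : Set G) * (S r : Set G) = (S r : Set G) * (H : Set G)) ∧
      Nat.card H = ∏ r ∈ T, Nat.card (S r) ∧ (∀ r : Nat.Primes, r ∉ T → (Nat.card H).Coprime r) := by
    intro T
    induction T using Finset.induction with
    | empty => exact ⟨⊥, fun r => by simp, by simp, fun r _ => by simp⟩
    | insert t T ht IH =>
      obtain ⟨H, hperm, hcard, hcop⟩ := IH
      have hcoe := coe_sup_of_permute H (S t : Subgroup G) (hperm t)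
      haveI : Fact (t : ℕ).Prime := ⟨t.2⟩
      have hco : (Nat.card H).Coprime (Nat.card (S t : Subgroup G)) := by
        rw [(S t).card_eq_multiplicity]
        exact (hcop t ht).pow_right _
      refine ⟨H ⊔ (S t : Subgroup G), fun r => ?_, ?_, fun r hr => ?_⟩
      · rw [hcoe]
        show (H : Set G) * (S t : Set G) * (S r : Set G) = (S r : Set G) * ((H : Set G) * (S t : Set G))
        rw [mul_assoc, hS t r, ← mul_assoc, hperm r, mul_assoc]
      all_goals
        have hc : Nat.card (H ⊔ (S t : Subgroup G) : Subgroup G) =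
            Nat.card H * Nat.card (S t : Subgroup G) := by
          rw [← Nat.card_prod]
          symm
          refine Nat.card_eq_of_bijective
            (fun x : H × (S t : Subgroup G) => (⟨x.1.1 * x.2.1,
              Subgroup.mul_mem_sup x.1.2 x.2.2⟩ : (H ⊔ (S t : Subgroup G) : Subgroup G))) ⟨?_, ?_⟩
          · intro x y hxy
            exact Subgroup.mul_injective_of_disjoint
              (Subgroup.disjoint_of_coprime_natCard hco) (congrArg Subtype.val hxy)
          · rintro ⟨z, hz⟩
            obtain ⟨a, ha, b, hb, rfl⟩ := (hcoe.le hz : z ∈ (H : Set G) * (S t : Set G))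
            exact ⟨(⟨a, ha⟩, ⟨b, hb⟩), rfl⟩
      · rw [hc, hcard, Finset.prod_insert ht, mul_comm]
      · rw [Finset.mem_insert, not_or] at hr
        rw [hc, (S t).card_eq_multiplicity]
        exact (hcop r hr.2).mul_left
          (((Nat.coprime_primes t.2 r.2).mpr fun h => hr.1 (Subtype.ext h).symm).pow_left _)
  refine S0006.result fun p hp => ?_
  let T : Finset Nat.Primes := ((Nat.card G).primeFactors.erase p).subtype Nat.Prime
  obtain ⟨H, -, hcard, -⟩ := key T
  refine ⟨H, ?_⟩
  have h0 : Nat.card G ≠ 0 := Nat.card_pos.ne'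
  have hq : Nat.card H = ∏ q ∈ (Nat.card G).primeFactors.erase p, q ^ (Nat.card G).factorization q := by
    rw [hcard, ← Finset.prod_subtype_of_mem (fun q => q ^ (Nat.card G).factorization q)
      (fun q hq => Nat.prime_of_mem_primeFactors (Finset.mem_of_mem_erase hq))]
    refine Finset.prod_congr rfl fun r _ => ?_
    haveI : Fact (r : ℕ).Prime := ⟨r.2⟩
    exact (S r).card_eq_multiplicity
  have hG : Nat.card H * p ^ (Nat.card G).factorization p = Nat.card G := by
    conv_rhs => rw [← Nat.prod_factorization_pow_eq_self h0]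
    rw [Finsupp.prod, Nat.support_factorization, hq]
    by_cases hpm : p ∈ (Nat.card G).primeFactors
    · exact Finset.prod_erase_mul _ _ hpm
    · rw [Finset.erase_eq_of_notMem hpm, Finsupp.notMem_support_iff.mp
        (by rwa [Nat.support_factorization]), pow_zero, mul_one]
  exact Nat.eq_of_mul_eq_mul_left Nat.card_pos ((Subgroup.card_mul_index H).trans hG.symm)

end Cfsg.Agent.S0021
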