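import Cfsg.Statements.S4142
-- (no helpers)

set_option autoImplicit false
open Cfsg

namespace Cfsg.Agent.S4142

/-- Let G be a finite group and N a normal subgroup. Then the conjugacy class of every element g outside N is a union of cosets of N (gn is conjugate to g for all n ∈ N) if and only if for every g outside N the centralizer of g in G has the same order as the centralizer of gN in G/N. -/
theorem result {G : Type*} [Group G] [Finite G] (N : Subgroup G) [N.Normal] :
    (∀ g : G, g ∉ N → ∀ n ∈ N, ∃ x : G, x * g * x⁻¹ = g * n) ↔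
      ∀ g : G, g ∉ N → Nat.card (Subgroup.centralizer ({g} : Set G)) =
        Nat.card (Subgroup.centralizer ({(QuotientGroup.mk g : G ⧸ N)} : Set (G ⧸ N))) := by
  classical
  have main : ∀ g : G, ((∀ n ∈ N, ∃ x : G, x * g * x⁻¹ = g * n) ↔
      Nat.card (Subgroup.centralizer ({g} : Set G)) =
        Nat.card (Subgroup.centralizer ({(QuotientGroup.mk g : G ⧸ N)} : Set (G ⧸ N)))) := by
    intro g
    set C := Subgroup.centralizer ({(QuotientGroup.mk g : G ⧸ N)} : Set (G ⧸ N)) with hC
    set S := C.comap (QuotientGroup.mk' N) with hS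
    set T := Subgroup.centralizer ({g} : Set G) with hT
    have hcardS : Nat.card S = Nat.card N * Nat.card C := by
      rw [mul_comm]
      have e1 := Subgroup.card_mul_index S
      have e2 : S.index = C.index :=
        Subgroup.index_comap_of_surjective C (QuotientGroup.mk'_surjective N)
      have e3 := Subgroup.card_mul_index C
      have e4 := Subgroup.card_eq_card_quotient_mul_card_subgroup N
      rw [← e3, ← e1, e2] at e4
      refine Nat.eq_of_mul_eq_mul_right (Nat.pos_of_ne_zero C.index_ne_zero_of_finite) ?_
      linarith [e4]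
    have hTS : T ≤ S := by
      intro t ht
      rw [hT, Subgroup.mem_centralizer_singleton_iff] at ht
      simp only [hS, hC, Subgroup.mem_comap, Subgroup.mem_centralizer_singleton_iff,
        QuotientGroup.mk'_apply, ← QuotientGroup.mk_mul, ht]
    have hmem : ∀ x : S, g⁻¹ * ((x : G) * g * (x : G)⁻¹) ∈ N := by
      intro x
      have hx := x.2
      simp only [hS, hC, Subgroup.mem_comap, Subgroup.mem_centralizer_singleton_iff,
        QuotientGroup.mk'_apply] at hx
      rw [← QuotientGroup.eq_one_iff]
      simp only [QuotientGroup.mk_mul, QuotientGroup.mk_inv]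
      rw [hx]; group
    let f : S ⧸ T.subgroupOf S → N := Quotient.lift
      (fun x : S => (⟨g⁻¹ * ((x : G) * g * (x : G)⁻¹), hmem x⟩ : N)) fun a b hab => by
        replace hab := QuotientGroup.leftRel_apply.mp hab
        rw [Subgroup.mem_subgroupOf, Subgroup.coe_mul,
          Subgroup.coe_inv, hT, Subgroup.mem_centralizer_singleton_iff] at hab
        refine Subtype.ext (show g⁻¹ * ((a : G) * g * (a : G)⁻¹) = g⁻¹ * ((b : G) * g * (b : G)⁻¹) from ?_)
        calc g⁻¹ * ((a : G) * g * (a : G)⁻¹)
            = g⁻¹ * ((a : G) * (g * ((a : G)⁻¹ * b)) * (b : G)⁻¹) := by group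
          _ = g⁻¹ * ((a : G) * ((a : G)⁻¹ * b * g) * (b : G)⁻¹) := by rw [hab]
          _ = _ := by group
    have hf : Function.Injective f := by
      intro a b
      refine Quotient.inductionOn₂ a b fun x y h => Quotient.sound ?_
      refine QuotientGroup.leftRel_apply.mpr ?_
      rw [Subgroup.mem_subgroupOf, Subgroup.coe_mul,
        Subgroup.coe_inv, hT, Subgroup.mem_centralizer_singleton_iff]
      have h' : (x : G) * g * (x : G)⁻¹ = (y : G) * g * (y : G)⁻¹ :=
        mul_left_cancel (congrArg (fun z : N => (z : G)) h)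
      calc (x : G)⁻¹ * y * g = (x : G)⁻¹ * ((y : G) * g * (y : G)⁻¹) * y := by group
        _ = (x : G)⁻¹ * ((x : G) * g * (x : G)⁻¹) * y := by rw [h']
        _ = g * ((x : G)⁻¹ * y) := by group
    have hST : Nat.card (S ⧸ T.subgroupOf S) * Nat.card T = Nat.card N * Nat.card C := by
      rw [← hcardS, ← Nat.card_congr (Subgroup.subgroupOfEquivOfLe hTS).toEquiv,
        ← Subgroup.card_eq_card_quotient_mul_card_subgroup]
    constructor
    · intro h
      have hsur : Function.Surjective f := by
        rintro ⟨n, hn⟩
        obtain ⟨x, hx⟩ := h n hn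
        have hxS : x ∈ S := by
          simp only [hS, hC, Subgroup.mem_comap, Subgroup.mem_centralizer_singleton_iff,
            QuotientGroup.mk'_apply, ← QuotientGroup.mk_mul, QuotientGroup.eq]
          have : (x * g)⁻¹ * (g * x) = x⁻¹ * n⁻¹ * x := by
            have : x * g = g * n * x := by rw [← hx]; group
            rw [this]; group
          rw [this]
          exact Subgroup.Normal.conj_mem' ‹_› _ (inv_mem hn) x
        exact ⟨QuotientGroup.mk ⟨x, hxS⟩, Subtype.ext (show g⁻¹ * (x * g * x⁻¹) = n by rw [hx]; group)⟩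
      rw [Nat.card_congr (Equiv.ofBijective f ⟨hf, hsur⟩)] at hST
      exact Nat.eq_of_mul_eq_mul_left Nat.card_pos hST
    · intro h n hn
      rw [h] at hST
      have hcard := Nat.eq_of_mul_eq_mul_right Nat.card_pos hST
      obtain ⟨q, hq⟩ := ((Nat.bijective_iff_injective_and_card f).mpr ⟨hf, hcard⟩).2 ⟨n, hn⟩
      obtain ⟨x, rfl⟩ := QuotientGroup.mk_surjective q
      refine ⟨x, ?_⟩
      have : g⁻¹ * ((x : G) * g * (x : G)⁻¹) = n := congrArg (fun z : N => (z : G)) hq
      rw [← this, mul_inv_cancel_left]
  exact ⟨fun h g hg => (main g).mp (h g hg), fun h g hg => (main g).mpr (h g hg)⟩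

end Cfsg.Agent.S4142
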