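import Cfsg.Statements.S4033
import Cfsg.Agent.FGS76.TwoPReg.Main
import Cfsg.Agent.FGS76.TwoPReg.OnePrime

set_option autoImplicit false
open Cfsg

namespace Cfsg.Agent.S4033

/-- Let G be a finite group and p a prime, and suppose the conjugacy classes of p-regular elements of G (elements of order prime to p) have exactly two distinct sizes. Then either G has an abelian p-complement (an abelian subgroup of order prime to p and p-power index), or there are a prime q ≠ p, a Sylow p-subgroup P, a Sylow q-subgroup Q and a central subgroup A such that PQ is a normal subgroup of order #P·#Q and G is the internal direct product PQ × A. -/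
theorem result {G : Type*} [Group G] [Finite G] {p : ℕ} (hp : p.Prime)
    (h2 : Set.ncard (Set.range fun x : {x : G // (orderOf x).Coprime p} => (ConjClasses.mk (x : G)).carrier.ncard) = 2) :
    (∃ H : Subgroup G, IsMulCommutative H ∧ ¬ p ∣ Nat.card H ∧ ∃ k : ℕ, H.index = p ^ k) ∨
    (∃ (q : ℕ) (_ : Fact q.Prime) (P : Sylow p G) (Q : Sylow q G) (A : Subgroup G), q ≠ p ∧
        A ≤ Subgroup.center G ∧ Nat.card ↥((P : Subgroup G) ⊔ (Q : Subgroup G)) = Nat.card P * Nat.card Q ∧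
        ((P : Subgroup G) ⊔ (Q : Subgroup G)).Normal ∧
        ((P : Subgroup G) ⊔ (Q : Subgroup G)) ⊓ A = ⊥ ∧ ((P : Subgroup G) ⊔ (Q : Subgroup G)) ⊔ A = ⊤) := by
  classical
  haveI := Fact.mk hp
  set f := fun x : {x : G // (orderOf x).Coprime p} => (ConjClasses.mk (x : G)).carrier.ncard with hf
  have hval : ∀ x, f x = (Subgroup.centralizer ({(x : G)} : Set G)).index := fun x =>
    FGS76.ncard_carrier _
  have hone : ∀ x : {x : G // (orderOf x).Coprime p}, (x : G) ∈ Subgroup.center G ↔ f x = 1 := by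
    intro x
    rw [hval, Subgroup.index_eq_one, Subgroup.eq_top_iff']
    simp only [Subgroup.mem_centralizer_singleton_iff, Subgroup.mem_center_iff]
  let e : {x : G // (orderOf x).Coprime p} := ⟨1, by rw [orderOf_one]; exact Nat.coprime_one_left p⟩
  have he : f e = 1 := (hone e).1 (one_mem _)
  obtain ⟨a, b, hab, hr⟩ := Set.ncard_eq_two.1 h2
  obtain ⟨m, hm1, hm⟩ : ∃ m, m ≠ 1 ∧ Set.range f = {1, m} := by
    have h1 : (1 : ℕ) ∈ ({a, b} : Set ℕ) := hr ▸ ⟨e, he⟩
    rcases h1 with h1 | h1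
    · exact ⟨b, fun e => hab (h1.symm.trans e.symm), h1 ▸ hr⟩
    · rw [Set.mem_singleton_iff] at h1
      exact ⟨a, fun e => hab (e.trans h1), by rw [hr, Set.pair_comm, ← h1]⟩
  have hall : ∀ x : G, FGS76.TwoPReg.NR p x →
      (Subgroup.centralizer ({x} : Set G)).index = m := by
    intro x hx
    have h1 : f ⟨x, hx.1⟩ ∈ ({1, m} : Set ℕ) := hm ▸ ⟨_, rfl⟩
    rcases h1 with h1 | h1
    · exact absurd ((hone ⟨x, hx.1⟩).2 h1) hx.2
    · rw [← hval ⟨x, hx.1⟩]; exact h1
  obtain ⟨x₀, hx₀f⟩ : ∃ x, f x = m :=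
    (show m ∈ Set.range f by rw [hm]; exact Set.mem_insert_of_mem 1 (Set.mem_singleton m))
  have hx₀ : FGS76.TwoPReg.NR p (x₀ : G) := ⟨x₀.2, fun hz => hm1 (hx₀f ▸ (hone x₀).1 hz)⟩
  have hT : FGS76.TwoPReg.TwoSizes p (Nat.card (Subgroup.centralizer ({(x₀ : G)} : Set G))) G := by
    refine ⟨hp, ⟨_, hx₀⟩, fun x hx => ?_⟩
    have h1 := (Subgroup.centralizer ({x} : Set G)).card_mul_index
    have h2 := (Subgroup.centralizer ({(x₀ : G)} : Set G)).card_mul_index
    rw [hall x hx] at h1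
    rw [hall _ hx₀] at h2
    exact Nat.eq_of_mul_eq_mul_right (Nat.pos_of_ne_zero fun h0 => by
      rw [h0, mul_zero] at h1; exact Nat.card_pos.ne h1) (h1.trans h2.symm)
  by_cases hq : ∃ q, q.Prime ∧ q ≠ p ∧ ∀ (g : G) (s v : ℕ), s.Prime → s ≠ p → s ≠ q →
      orderOf g = s ^ v → g ∈ Subgroup.center G
  · obtain ⟨q, hq, hqp, hc⟩ := hq
    haveI := Fact.mk hq
    obtain ⟨P, Q, A, hA⟩ := FGS76.TwoPReg.one_prime (p := p) hqp hc
    exact Or.inr ⟨q, ⟨hq⟩, P, Q, A, hqp, hA⟩
  · push Not at hq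
    have hπ : FGS76.TwoPReg.MultiPrime p G := by
      intro l hl
      obtain ⟨q, hq', hqp, hql⟩ : ∃ q, q.Prime ∧ q ≠ p ∧ (l ≠ p → q = l) := by
        by_cases hlp : l = p
        · obtain ⟨q, hq', hq''⟩ := Nat.exists_infinite_primes (p + 1) |>.imp fun q hq => (And.symm hq)
          exact ⟨q, hq', by omega, fun h => absurd hlp h⟩
        · exact ⟨l, hl, hlp, fun _ => rfl⟩
      obtain ⟨g, s, v, hs, hsp, hsq, hg, hgc⟩ := hq q hq' hqp
      refine ⟨s, hs, hsp, fun e => ?_, g, v, hg,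
        hg ▸ Nat.Coprime.pow_left v ((Nat.coprime_primes hs hp).2 hsp), hgc⟩
      subst e
      exact hsq (hql hsp).symm
    exact Or.inl (hT.exists_abelian_compl hπ hx₀ fun s hs hd => hT.prime_eq hπ hx₀ hs hd)

end Cfsg.Agent.S4033
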