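import Cfsg.Statements.S4207
import Mathlib

set_option autoImplicit false
open Cfsg

namespace Cfsg.Agent.S4207

theorem exists_gen {Q : Type*} [Group Q] [Finite Q] {p r : ℕ} [hp : Fact p.Prime] (hQ : Nat.card Q = p ^ r) :
    ∃ f : Fin r → Q, Subgroup.closure (Set.range f) = ⊤ := by
  have key : ∀ j, ∃ f : Fin j → Q, Subgroup.closure (Set.range f) = ⊤ ∨ p ^ j ∣ Nat.card (Subgroup.closure (Set.range f)) := by
    intro j
    induction j with
    | zero => exact ⟨Fin.elim0, Or.inr (by simp)⟩
    | succ j ih =>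
      obtain ⟨f, hf⟩ := ih
      by_cases ht : Subgroup.closure (Set.range f) = ⊤
      · exact ⟨Fin.snoc f 1, Or.inl (top_le_iff.mp (ht ▸ Subgroup.closure_mono (by
          rintro x ⟨i, rfl⟩; exact ⟨i.castSucc, by simp⟩)))⟩
      · obtain ⟨x, -, hx⟩ := SetLike.exists_of_lt (lt_top_iff_ne_top.mpr ht)
        refine ⟨Fin.snoc f x, Or.inr ?_⟩
        set A := Subgroup.closure (Set.range f)
        set B := Subgroup.closure (Set.range (Fin.snoc f x : Fin (j+1) → Q))
        have hAB : A < B := by
          refine lt_of_le_of_ne (Subgroup.closure_mono (by rintro y ⟨i, rfl⟩; exact ⟨i.castSucc, by simp⟩)) fun e => hx ?_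
          rw [e]; exact Subgroup.subset_closure ⟨Fin.last j, by simp⟩
        obtain ⟨a, -, ha⟩ := (Nat.dvd_prime_pow hp.out).mp (hQ ▸ A.card_subgroup_dvd_card)
        obtain ⟨b, -, hb⟩ := (Nat.dvd_prime_pow hp.out).mp (hQ ▸ B.card_subgroup_dvd_card)
        have hlt : Nat.card A < Nat.card B := by
          refine lt_of_le_of_ne (Nat.le_of_dvd Nat.card_pos (Subgroup.card_dvd_of_le hAB.le)) fun e => hAB.ne ?_
          exact Subgroup.eq_of_le_of_card_ge hAB.le e.ge
        rcases hf with hf | hf
        · exact absurd hf ht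
        · rw [ha] at hf hlt; rw [hb] at hlt ⊢
          rw [Nat.pow_dvd_pow_iff_le_right hp.out.one_lt] at hf ⊢
          have := (Nat.pow_lt_pow_iff_right hp.out.one_lt).mp hlt
          omega
  obtain ⟨f, hf | hf⟩ := key r
  · exact ⟨f, hf⟩
  · exact ⟨f, Subgroup.eq_top_of_le_card _ (by rw [hQ]; exact Nat.le_of_dvd Nat.card_pos hf)⟩

/-- Let `P` be a group of order `p^n` whose Frattini subgroup has index `p^r`. Then any group of automorphisms of `P` each of which induces the identity on the Frattini quotient has order dividing `p^(r(n-r))`; in particular it is a `p`-group. -/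
theorem result {P : Type*} [Group P] [Finite P] {p n r : ℕ} [Fact p.Prime] (hP : Nat.card P = p ^ n) (hr : (frattini P).index = p ^ r) (A : Subgroup (MulAut P)) (hA : ∀ α ∈ A, ∀ x : P, α x * x⁻¹ ∈ frattini P) : Nat.card A ∣ p ^ (r * (n - r)) := by
  classical
  set Φ := frattini P
  have hQ : Nat.card (P ⧸ Φ) = p ^ r := hr
  haveI : Finite (P ⧸ Φ) := inferInstance
  obtain ⟨f, hf⟩ := exists_gen hQ
  choose g hg using fun i => QuotientGroup.mk'_surjective Φ (f i)
  have hgen : Subgroup.closure (Set.range g) = ⊤ := by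
    apply frattini_nongenerating
    have : Set.range f = QuotientGroup.mk' Φ '' Set.range g := by
      rw [← Set.range_comp]; exact congrArg Set.range (funext fun i => (hg i).symm)
    rw [this, ← MonoidHom.map_closure] at hf
    have := congrArg (Subgroup.comap (QuotientGroup.mk' Φ)) hf
    rwa [Subgroup.comap_map_eq, QuotientGroup.ker_mk', Subgroup.comap_top] at this
  -- A acts freely on the tuples of lifts
  let X := {t : Fin r → P // ∀ i, t i * (g i)⁻¹ ∈ Φ}
  have hX : Nat.card X = Nat.card Φ ^ r := by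
    rw [show Nat.card Φ ^ r = Nat.card (Fin r → Φ) by rw [Nat.card_fun, Nat.card_fin]]
    exact Nat.card_congr ⟨fun t i => ⟨t.1 i * (g i)⁻¹, t.2 i⟩, fun u => ⟨fun i => (u i : P) * g i, fun i => by simp⟩,
      fun t => by ext i; simp, fun u => by funext i; ext; simp⟩
  letI : MulAction A X :=
    { smul := fun α t => ⟨fun i => (α : MulAut P) (t.1 i), fun i => by
        have : (α : MulAut P) (t.1 i) * (g i)⁻¹ = ((α : MulAut P) (t.1 i) * (t.1 i)⁻¹) * (t.1 i * (g i)⁻¹) := by group
        rw [this]; exact mul_mem (hA _ α.2 _) (t.2 i)⟩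
      one_smul := fun t => Subtype.ext (funext fun i => rfl)
      mul_smul := fun α β t => Subtype.ext (funext fun i => rfl) }
  have hfree : ∀ t : X, MulAction.stabilizer A t = ⊥ := by
    intro t
    have ht : Subgroup.closure (Set.range t.1) = ⊤ := by
      apply frattini_nongenerating
      rw [← top_le_iff, ← hgen, Subgroup.closure_le]
      rintro x ⟨i, rfl⟩
      have : g i = (t.1 i * (g i)⁻¹)⁻¹ * t.1 i := by group
      rw [SetLike.mem_coe, this]
      exact mul_mem (Subgroup.mem_sup_right (inv_mem (t.2 i))) (Subgroup.mem_sup_left (Subgroup.subset_closure ⟨i, rfl⟩))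
    rw [eq_bot_iff]
    intro α hα
    rw [Subgroup.mem_bot]
    apply Subtype.ext
    have h : ((α : MulAut P) : P →* P) = MonoidHom.id P := by
      refine MonoidHom.eq_of_eqOn_dense ht ?_
      rintro x ⟨i, rfl⟩
      exact congrFun (congrArg Subtype.val hα) i
    exact MulEquiv.ext (fun x => DFunLike.congr_fun h x)
  have hcard : Nat.card X = Nat.card (Quotient (MulAction.orbitRel A X)) * Nat.card A := by
    rw [← Nat.card_prod]
    exact Nat.card_congr ((MulAction.selfEquivSigmaOrbits A X).trans
      ((Equiv.sigmaCongrRight fun q => (MulAction.orbitEquivQuotientStabilizer A (Quotient.out q)).trans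
        (by rw [hfree]; exact QuotientGroup.quotientBot.toEquiv)).trans (Equiv.sigmaEquivProd _ _)))
  have hΦ : Nat.card Φ = p ^ (n - r) := by
    have h := Φ.card_mul_index
    rw [hP, hr] at h
    have hle : r ≤ n := (Nat.pow_dvd_pow_iff_le_right (Fact.out : p.Prime).one_lt).mp (Dvd.intro_left _ h)
    apply Nat.eq_of_mul_eq_mul_right (pow_pos (Fact.out : p.Prime).pos r)
    rw [h, ← pow_add, Nat.sub_add_cancel hle]
  rw [mul_comm r, pow_mul, ← hΦ, ← hX, hcard]
  exact Dvd.intro_left _ rfl

end Cfsg.Agent.S4207
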