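import Cfsg.Statements.S4208
import Mathlib
import Cfsg.Agent.S4207
import Cfsg.Agent.Lib.PGroup.Basic

set_option autoImplicit false
open Cfsg

namespace Cfsg.Agent.S4208

theorem card_mulAut_elementary_dvd {Q : Type*} [Group Q] [Finite Q] {p r : ℕ} [hp : Fact p.Prime]
    (hc : ∀ a b : Q, Commute a b) (he : ∀ a : Q, a ^ p = 1) (hQ : Nat.card Q = p ^ r) :
    Nat.card (MulAut Q) ∣ ∏ i ∈ Finset.range r, (p ^ r - p ^ i) := by
  letI : CommGroup Q := { (inferInstance : Group Q) with mul_comm := fun a b => hc a b }
  letI : Module (ZMod p) (Additive Q) := AddCommGroup.zmodModule (n := p) (fun x => he x.toMul)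
  haveI : Finite (Additive Q) := ‹Finite Q›
  haveI : Module.Finite (ZMod p) (Additive Q) := Module.Finite.of_finite
  have hr : Module.finrank (ZMod p) (Additive Q) = r := by
    have h := Module.natCard_eq_pow_finrank (K := ZMod p) (V := Additive Q)
    rw [show Nat.card (Additive Q) = Nat.card Q from rfl, hQ, Nat.card_eq_fintype_card, ZMod.card] at h
    exact (Nat.pow_right_injective hp.out.two_le h).symm
  let b := Module.finBasisOfFinrankEq (ZMod p) (Additive Q) hr
  let f : MulAut Q →* Matrix.GeneralLinearGroup (Fin r) (ZMod p) :=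
    MonoidHom.toHomUnits
      { toFun := fun e => LinearMap.toMatrix b b ((MulEquiv.toAdditive e).toAddMonoidHom.toZModLinearMap p)
        map_one' := by
          rw [← LinearMap.toMatrix_id b]; congr 1
        map_mul' := fun e e' => by
          rw [← LinearMap.toMatrix_comp b b b]; congr 1 }
  have hf : Function.Injective f := by
    intro e e' h
    have h' : LinearMap.toMatrix b b ((MulEquiv.toAdditive e).toAddMonoidHom.toZModLinearMap p) =
        LinearMap.toMatrix b b ((MulEquiv.toAdditive e').toAddMonoidHom.toZModLinearMap p) := congrArg Units.val h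
    have h'' := (LinearMap.toMatrix b b).injective h'
    exact MulEquiv.ext fun x => congrArg Additive.toMul (DFunLike.congr_fun h'' (Additive.ofMul x))
  have := Subgroup.card_dvd_of_injective f hf
  rw [Matrix.card_GL_field, Fintype.card_congr (Equiv.refl (ZMod p)), ZMod.card] at this
  rwa [Finset.prod_range fun i => p ^ r - p ^ i]

/-- Let `P` be a group of order `p^n` whose Frattini subgroup has index `p^r`. Then the order of the automorphism group of `P` divides `p^(r(n-r)) · (p^r - 1)(p^r - p) ⋯ (p^r - p^(r-1))`. -/
theorem result {P : Type*} [Group P] [Finite P] {p n r : ℕ} [Fact p.Prime] (hP : Nat.card P = p ^ n) (hr : (frattini P).index = p ^ r) : Nat.card (MulAut P) ∣ p ^ (r * (n - r)) * ∏ i ∈ Finset.range r, (p ^ r - p ^ i) := by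
  have hpg : IsPGroup p P := IsPGroup.of_card hP
  let ρ : MulAut P →* MulAut (P ⧸ frattini P) :=
    { toFun := fun e => QuotientGroup.congr (frattini P) (frattini P) e (Subgroup.characteristic_iff_map_eq.mp inferInstance e)
      map_one' := by
        refine MulEquiv.ext fun x => ?_
        induction x using QuotientGroup.induction_on with | _ x => ?_
        rfl
      map_mul' := fun e e' => by
        refine MulEquiv.ext fun x => ?_
        induction x using QuotientGroup.induction_on with | _ x => ?_
        rfl }
  have hker : Nat.card ρ.ker ∣ p ^ (r * (n - r)) := by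
    refine Cfsg.Agent.S4207.result hP hr ρ.ker fun α hα x => ?_
    have h : ρ α (x : P ⧸ frattini P) = (x : P ⧸ frattini P) := by rw [show ρ α = 1 from hα]; rfl
    have h' := QuotientGroup.eq.mp h.symm
    have := (inferInstance : (frattini P).Normal).conj_mem _ h' x
    rwa [mul_inv_cancel_left] at this
  rw [← ρ.ker.card_mul_index, Subgroup.index_ker]
  refine mul_dvd_mul hker ((Subgroup.card_subgroup_dvd_card _).trans ?_)
  exact card_mulAut_elementary_dvd (Cfsg.Agent.PGroup.quotient_frattini_commute hpg)
    (Cfsg.Agent.PGroup.quotient_frattini_pow hpg) hr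

end Cfsg.Agent.S4208
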