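import Cfsg.Statements.S1225
import Cfsg.Agent.TwoFusionB.StronglyEmbedded

set_option autoImplicit false
open Cfsg

namespace Cfsg.Agent.S1225

/-- Let H be a strongly embedded subgroup of the finite group G, u an involution outside H and D = H ∩ uHu⁻¹. Then any two involutions of H are conjugate by an element of D, and any two involutions of G are conjugate in G. -/
theorem result {G : Type*} [Group G] [Finite G] (H : Subgroup G) (hH : Cfsg.IsStronglyEmbedded H) (u : G) (hu : orderOf u = 2) (huH : u ∉ H) (s t : G) (hs : orderOf s = 2) (hsH : s ∈ H) (ht : orderOf t = 2) (htH : t ∈ H) : (∃ d ∈ (H ⊓ H.map (MulAut.conj u).toMonoidHom), d * s * d⁻¹ = t) ∧ ∀ a b : G, orderOf a = 2 → orderOf b = 2 → IsConj a b := by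
  refine ⟨?_, fun a b ha hb => TwoFusionB.isConj_involutions hH ha hb⟩
  have hne : (QuotientGroup.mk u : G ⧸ H) ≠ QuotientGroup.mk 1 := by
    rw [Ne, QuotientGroup.eq]
    simpa using huH
  obtain ⟨d, hdu, hd1, hd⟩ := TwoFusionB.exists_conj_fix hH hne hs
    (TwoFusionB.smul_one_eq_iff.mpr hsH) ht (TwoFusionB.smul_one_eq_iff.mpr htH)
  refine ⟨d, ⟨TwoFusionB.smul_one_eq_iff.mp hd1, ?_⟩, hd⟩
  exact ⟨u⁻¹ * d * u, TwoFusionB.smul_mk_eq_iff.mp hdu, by simp [mul_assoc]⟩

end Cfsg.Agent.S1225
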