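import Cfsg.Statements.S0201
import Cfsg.Agent.ZStar.Main
import Cfsg.Agent.S0216
import Cfsg.Agent.S0847

set_option autoImplicit false
open Cfsg

namespace Cfsg.Agent.S0201

/-- Brauer–Suzuki Theorem: if a Sylow 2-subgroup of a finite group is generalized quaternion (of order at least 8) and the group has no nontrivial normal subgroup of odd order, then its centre has order 2. -/
theorem result {G : Type*} [Group G] [Finite G] (S : Sylow 2 G) (n : ℕ) (e : (S : Subgroup G) ≃* QuaternionGroup (2 ^ (n + 1))) (hO : ∀ N : Subgroup G, N.Normal → Odd (Nat.card N) → N = ⊥) : Nat.card (Subgroup.center G) = 2 := by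
  haveI : Fact (Nat.Prime 2) := ⟨Nat.prime_two⟩
  match n, e with
  | m + 1, e => exact S0847.result S m e hO
  | 0, e =>
    obtain ⟨t', ht'⟩ : ∃ t : (S : Subgroup G), orderOf t = 2 :=
      exists_prime_orderOf_dvd_card' 2 (by
        rw [Nat.card_congr e.toEquiv, Nat.card_eq_fintype_card, QuaternionGroup.card]; norm_num)
    set t : G := (t' : G) with htdef
    have ht : orderOf t = 2 := by rw [htdef, Subgroup.orderOf_coe, ht']
    have hf := ZStar.q8Facts e t'.2 ht
    have hiso : ∀ g : G, g * t * g⁻¹ ∈ S → g * t * g⁻¹ = t := by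
      intro g hg
      refine (hf.sq_eq_one _ hg ?_).resolve_left fun h => ?_
      · rw [show g * t * g⁻¹ * (g * t * g⁻¹) = g * (t * t) * g⁻¹ by group, hf.sq_t]; group
      · rw [conj_eq_one_iff] at h
        simp [h] at ht
    obtain ⟨N, hN, hodd, hc⟩ := ZStar.zStar ht ((S0216.result S t ht t'.2).mp hiso)
    have htc : t ∈ Subgroup.center G := Subgroup.mem_center_iff.mpr fun g => by
      have h1 := hc g
      rw [hO N hN hodd, Subgroup.mem_bot, mul_inv_eq_one, mul_inv_eq_iff_eq_mul] at h1
      exact h1.symm
    -- the centre is a 2-group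
    have hp : IsPGroup 2 (Subgroup.center G) := by
      intro x
      obtain ⟨a, m, hm, hn⟩ := Nat.exists_eq_two_pow_mul_odd (orderOf_pos x).ne'
      refine ⟨a, ?_⟩
      have hcen : ((x ^ 2 ^ a : Subgroup.center G) : G) ∈ Subgroup.center G := SetLike.coe_mem _
      have hnorm : (Subgroup.zpowers ((x ^ 2 ^ a : Subgroup.center G) : G)).Normal := ⟨fun y hy g => by
        obtain ⟨i, rfl⟩ := Subgroup.mem_zpowers_iff.mp hy
        rw [Subgroup.mem_center_iff.mp (zpow_mem hcen i) g, mul_inv_cancel_right]
        exact Subgroup.zpow_mem_zpowers _ i⟩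
      have hbot := hO _ hnorm (by
        rw [Nat.card_zpowers, Subgroup.orderOf_coe, orderOf_pow_of_dvd (by positivity)
          (hn ▸ dvd_mul_right _ _), hn, Nat.mul_div_cancel_left _ (by positivity)]
        exact hm)
      rw [Subgroup.zpowers_eq_bot] at hbot
      exact Subtype.ext hbot
    have hle : Subgroup.center G ≤ Subgroup.zpowers t := by
      obtain ⟨c, hc⟩ := ZStar.isPGroup_two_of_le_sylow hp S
      intro x hx
      have hxS : x ∈ S := by
        have := hc x hx
        rwa [Subgroup.mem_center_iff.mp hx c, mul_inv_cancel_right] at this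
      by_cases hx2 : x * x = 1
      · rcases hf.sq_eq_one x hxS hx2 with h | h
        · rw [h]; exact one_mem _
        · rw [h]; exact Subgroup.mem_zpowers t
      · obtain ⟨y, hy, n1, n2, n3, n4⟩ := hf.exists_outside x hxS
        rcases hf.comm x hxS y hy hx2 (Subgroup.mem_center_iff.mp hx y).symm with h | h | h | h
        exacts [absurd h n1, absurd h n2, absurd h n3, absurd h n4]
    rw [le_antisymm hle (Subgroup.zpowers_le.mpr htc), Nat.card_zpowers, ht]

end Cfsg.Agent.S0201
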