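import Cfsg.Statements.S2626
-- import your own Cfsg.Agent.* helpers here

set_option autoImplicit false
open Cfsg

namespace Cfsg.Agent.S2626

open Matrix

theorem map_commutator_eq_of {G H : Type*} [Group G] [Group H] (f : G →* H) :
    (commutator G).map f ≤ commutator H := by
  rw [commutator_def, Subgroup.map_commutator, commutator_def]
  exact Subgroup.commutator_mono le_top le_top

theorem exists_hom_left {F : Type*} [Field F] {k l : ℕ} (q₁ : (Fin k → F) → F) (q₂ : (Fin l → F) → F) :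
    ∃ f : ↥(Cfsg.isometryGroup F q₁) →*
      ↥(Cfsg.isometryGroup F (fun v : Fin k ⊕ Fin l → F => q₁ (v ∘ Sum.inl) + q₂ (v ∘ Sum.inr))),
      ∀ g, ((f g : Matrix.GeneralLinearGroup (Fin k ⊕ Fin l) F) : Matrix (Fin k ⊕ Fin l) (Fin k ⊕ Fin l) F) =
        Matrix.fromBlocks ((g : Matrix.GeneralLinearGroup (Fin k) F) : Matrix (Fin k) (Fin k) F) 0 0 1 := by
  let h0 : Matrix (Fin k) (Fin k) F →* Matrix (Fin k ⊕ Fin l) (Fin k ⊕ Fin l) F :=
    { toFun := fun A => Matrix.fromBlocks A 0 0 1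
      map_one' := Matrix.fromBlocks_one
      map_mul' := fun A B => by simp [Matrix.fromBlocks_multiply] }
  refine ⟨((Units.map h0).comp (Cfsg.isometryGroup F q₁).subtype).codRestrict _ fun g u w => ?_, fun g => rfl⟩
  show q₁ ((_ *ᵥ u) ∘ Sum.inl) + q₂ ((_ *ᵥ u) ∘ Sum.inr) = _
  simp [h0, Matrix.fromBlocks_mulVec]
  exact g.2 _ (w ∘ Sum.inl)

theorem exists_hom_right {F : Type*} [Field F] {k l : ℕ} (q₁ : (Fin k → F) → F) (q₂ : (Fin l → F) → F) :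
    ∃ f : ↥(Cfsg.isometryGroup F q₂) →*
      ↥(Cfsg.isometryGroup F (fun v : Fin k ⊕ Fin l → F => q₁ (v ∘ Sum.inl) + q₂ (v ∘ Sum.inr))),
      ∀ g, ((f g : Matrix.GeneralLinearGroup (Fin k ⊕ Fin l) F) : Matrix (Fin k ⊕ Fin l) (Fin k ⊕ Fin l) F) =
        Matrix.fromBlocks 1 0 0 ((g : Matrix.GeneralLinearGroup (Fin l) F) : Matrix (Fin l) (Fin l) F) := by
  let h0 : Matrix (Fin l) (Fin l) F →* Matrix (Fin k ⊕ Fin l) (Fin k ⊕ Fin l) F :=
    { toFun := fun A => Matrix.fromBlocks 1 0 0 A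
      map_one' := Matrix.fromBlocks_one
      map_mul' := fun A B => by simp [Matrix.fromBlocks_multiply] }
  refine ⟨((Units.map h0).comp (Cfsg.isometryGroup F q₂).subtype).codRestrict _ fun g u w => ?_, fun g => rfl⟩
  show q₁ ((_ *ᵥ u) ∘ Sum.inl) + q₂ ((_ *ᵥ u) ∘ Sum.inr) = _
  simp [h0, Matrix.fromBlocks_mulVec]
  exact g.2 _ (w ∘ Sum.inr)


/-- Ω of an orthogonal direct sum contains the product of the Ω's: for quadratic forms Q₁ on F^k and Q₂ on F^l with non-degenerate polar forms (F finite) and Q = Q₁ ⊕ Q₂ on F^(k+l), if g₁ lies in Ω(Q₁) and g₂ in Ω(Q₂) (commutator subgroups of the orthogonal groups) then the block-diagonal isometry diag(g₁, g₂) lies in Ω(Q). -/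
theorem result {F : Type*} [Field F] [Fintype F] {k l : ℕ} (Q₁ : QuadraticForm F (Fin k → F)) (Q₂ : QuadraticForm F (Fin l → F)) (h₁ : (QuadraticMap.polarBilin Q₁).Nondegenerate) (h₂ : (QuadraticMap.polarBilin Q₂).Nondegenerate) (g₁ : ↥(Cfsg.isometryGroup F ⇑Q₁)) (g₂ : ↥(Cfsg.isometryGroup F ⇑Q₂)) (hg₁ : g₁ ∈ Cfsg.Omega F ⇑Q₁) (hg₂ : g₂ ∈ Cfsg.Omega F ⇑Q₂) : ∃ g : ↥(Cfsg.isometryGroup F (fun v : Fin k ⊕ Fin l → F => Q₁ (v ∘ Sum.inl) + Q₂ (v ∘ Sum.inr))), g ∈ Cfsg.Omega F (fun v : Fin k ⊕ Fin l → F => Q₁ (v ∘ Sum.inl) + Q₂ (v ∘ Sum.inr)) ∧ ((g : Matrix.GeneralLinearGroup (Fin k ⊕ Fin l) F) : Matrix (Fin k ⊕ Fin l) (Fin k ⊕ Fin l) F) = Matrix.fromBlocks ((g₁ : Matrix.GeneralLinearGroup (Fin k) F) : Matrix (Fin k) (Fin k) F) 0 0 ((g₂ : Matrix.GeneralLinearGroup (Fin l) F) : Matrix (Fin l) (Fin l) F) := by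
  obtain ⟨f₁, hf₁⟩ := exists_hom_left (⇑Q₁) (⇑Q₂)
  obtain ⟨f₂, hf₂⟩ := exists_hom_right (⇑Q₁) (⇑Q₂)
  refine ⟨f₁ g₁ * f₂ g₂, Subgroup.mul_mem _ ?_ ?_, ?_⟩
  · exact (map_commutator_eq_of f₁) (Subgroup.mem_map_of_mem f₁ hg₁)
  · exact (map_commutator_eq_of f₂) (Subgroup.mem_map_of_mem f₂ hg₂)
  · rw [Subgroup.coe_mul, Units.val_mul, hf₁, hf₂, Matrix.fromBlocks_multiply]
    simp

end Cfsg.Agent.S2626
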