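import Cfsg.Statements.S2570
import Cfsg.Agent.KSG55.NilpotentClasses

set_option autoImplicit false
open Cfsg

namespace Cfsg.Agent.S2570

/-- Number of conjugacy classes of elements of order p in GL_n over a finite field of characteristic p: they correspond to the Jordan types, that is, to the partitions of n with all parts at most p other than the partition into ones, so there are (number of partitions of n with parts ≤ p) − 1 of them. -/
theorem result {F : Type*} [Field F] [Fintype F] {p : ℕ} [Fact p.Prime] [CharP F p] (n : ℕ) : Nat.card {C : ConjClasses (GL (Fin n) F) // ∃ g : GL (Fin n) F, ConjClasses.mk g = C ∧ orderOf g = p} = (Finset.univ.filter (fun μ : Nat.Partition n => ∀ a ∈ μ.parts, a ≤ p)).card - 1 := by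
  classical
  have hp : p.Prime := Fact.out
  rcases Nat.eq_zero_or_pos n with rfl | hn
  · haveI : Subsingleton (GL (Fin 0) F) := ⟨fun a b => Units.ext (Subsingleton.elim _ _)⟩
    rw [Nat.card_eq_zero.mpr (Or.inl ⟨fun ⟨C, g, _, hg⟩ => hp.one_lt.ne' (by rw [← hg, Subsingleton.elim g 1, orderOf_one])⟩),
      Nat.sub_eq_zero_of_le]
    exact (Finset.card_le_univ _).trans (by simp)
  haveI : Nonempty (Fin n) := ⟨⟨0, hn⟩⟩
  choose t d hd hsum hparts using fun μ : Nat.Partition n => KSG55.Nilp.partition_blocks μ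
  choose rep hrep using fun μ => KSG55.Nilp.exists_matrix_blocks (F := F) (d μ) (hd μ) (hsum μ)
  have hpow : ∀ (N : Matrix (Fin n) (Fin n) F), (1 + N) ^ p = 1 + N ^ p := fun N => by
    rw [add_pow_char_of_commute (R := Matrix (Fin n) (Fin n) F) p (Commute.one_left N), one_pow]
  have hzero : ∀ (N : Matrix (Fin n) (Fin n) F) (t' : ℕ) (d' : Fin t' → ℕ), KSG55.Nilp.IsBlocks N d' →
      (N ^ p = 0 ↔ ∀ i, d' i ≤ p) := by
    intro N t' d' hb
    have hc := hb.card_ker p
    constructor
    · intro h i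
      rw [Nat.card_congr (Equiv.subtypeUnivEquiv fun v => by rw [h, Matrix.zero_mulVec]), Nat.card_eq_fintype_card,
        Fintype.card_fun, Fintype.card_fin] at hc
      have := Nat.pow_right_injective (Fintype.one_lt_card (α := F)) hc
      have hs := hb.sum_eq
      by_contra hlt
      have : ∑ j, min (d' j) p < ∑ j, d' j :=
        Finset.sum_lt_sum (fun j _ => min_le_left _ _) ⟨i, Finset.mem_univ _, by omega⟩
      omega
    · intro h
      obtain ⟨-, ψ, hψ⟩ := hb
      refine Matrix.ext_of_mulVec_single fun k => ψ.injective (funext fun i => funext fun l => ?_)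
      rw [KSG55.Nilp.IsBlocks.pow_apply hψ, KSG55.Nilp.shiftL_pow_apply, if_neg]
      · rw [Matrix.zero_mulVec, map_zero]; rfl
      · have := l.2; have := h i; omega
  have hg0 : ∀ μ : {μ : Nat.Partition n // ∀ a ∈ μ.parts, a ≤ p}, rep μ.1 ^ p = 0 := fun μ =>
    (hzero _ _ _ (hrep μ.1)).mpr fun i => μ.2 _ (by rw [← hparts]; exact Multiset.mem_map_of_mem _ (Finset.mem_univ i))
  let B := {C : ConjClasses (GL (Fin n) F) // ∃ g, ConjClasses.mk g = C ∧ g ^ p = 1}
  let u : {μ : Nat.Partition n // ∀ a ∈ μ.parts, a ≤ p} → GL (Fin n) F := fun μ =>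
    ((IsNilpotent.isUnit_one_add (⟨p, hg0 μ⟩ : IsNilpotent (rep μ.1)))).unit
  have hu : ∀ μ, ((u μ : GL (Fin n) F) : Matrix (Fin n) (Fin n) F) = 1 + rep μ.1 := fun μ => rfl
  let Φ : {μ : Nat.Partition n // ∀ a ∈ μ.parts, a ≤ p} → B := fun μ => ⟨ConjClasses.mk (u μ), u μ, rfl, Units.ext (by
    rw [Units.val_pow_eq_pow_val, hu, hpow, hg0, add_zero, Units.val_one])⟩
  have hconj : ∀ (g c : GL (Fin n) F) (N N' : Matrix (Fin n) (Fin n) F), (g : Matrix (Fin n) (Fin n) F) = 1 + N →
      (c : Matrix (Fin n) (Fin n) F) = 1 + N' → (IsConj g c ↔ ∃ a : GL (Fin n) F,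
        (a : Matrix (Fin n) (Fin n) F) * N = N' * (a : Matrix (Fin n) (Fin n) F)) := by
    intro g c N N' hg hc
    rw [isConj_iff]
    refine exists_congr fun a => ?_
    rw [mul_inv_eq_iff_eq_mul, Units.ext_iff, Units.val_mul, Units.val_mul, hg, hc, mul_add, mul_one, add_mul, one_mul,
      add_right_inj]
  have hΦ : Function.Bijective Φ := by
    constructor
    · intro μ ν h
      have h' : IsConj (u μ) (u ν) := ConjClasses.mk_eq_mk_iff_isConj.mp (congrArg Subtype.val h)
      obtain ⟨a, ha⟩ := (hconj _ _ _ _ (hu μ) (hu ν)).mp h'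
      have hc : ∀ j, Nat.card {v : Fin n → F // (rep μ.1 ^ j).mulVec v = 0} =
          Nat.card {v : Fin n → F // (rep ν.1 ^ j).mulVec v = 0} := fun j => by
        have hj : (a : Matrix (Fin n) (Fin n) F) * rep μ.1 ^ j = rep ν.1 ^ j * (a : Matrix (Fin n) (Fin n) F) :=
          (SemiconjBy.pow_right (a := (a : Matrix (Fin n) (Fin n) F)) ha j)
        refine Nat.card_congr (Equiv.subtypeEquiv
          { toFun := fun v => (a : Matrix (Fin n) (Fin n) F).mulVec v
            invFun := fun v => ((a⁻¹ : GL (Fin n) F) : Matrix (Fin n) (Fin n) F).mulVec v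
            left_inv := fun v => by simp [Matrix.mulVec_mulVec]
            right_inv := fun v => by simp [Matrix.mulVec_mulVec] } fun v => ?_)
        show _ ↔ (rep ν.1 ^ j).mulVec ((a : Matrix (Fin n) (Fin n) F).mulVec v) = 0
        rw [Matrix.mulVec_mulVec, ← hj, ← Matrix.mulVec_mulVec]
        refine ⟨fun h => by rw [h, Matrix.mulVec_zero], fun h => ?_⟩
        have h' := congrArg (((a⁻¹ : GL (Fin n) F) : Matrix (Fin n) (Fin n) F).mulVec) h
        simpa [Matrix.mulVec_mulVec, ← Matrix.mul_assoc] using h'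
      refine Subtype.ext (Nat.Partition.ext (Multiset.ext.mpr fun k => ?_))
      rw [← hparts, ← hparts, ← KSG55.Nilp.card_fibre, ← KSG55.Nilp.card_fibre, (hrep μ.1).count_eq (hrep ν.1) hc k]
    · rintro ⟨C, g, rfl, hg⟩
      set N := (g : Matrix (Fin n) (Fin n) F) - 1 with hN
      have hgN : (g : Matrix (Fin n) (Fin n) F) = 1 + N := by rw [hN]; abel
      have hNp : N ^ p = 0 := by
        have := congrArg Units.val hg
        rwa [Units.val_pow_eq_pow_val, hgN, hpow, Units.val_one, add_eq_left] at this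
      obtain ⟨t', d', hb⟩ := KSG55.Nilp.exists_blocks (⟨p, hNp⟩ : IsNilpotent N)
      let μ : Nat.Partition n :=
        { parts := Finset.univ.val.map d'
          parts_pos := fun {i} hi => by
            obtain ⟨k, -, rfl⟩ := Multiset.mem_map.mp hi
            exact hb.1 k
          parts_sum := hb.sum_eq }
      refine ⟨⟨μ, fun a ha => ?_⟩, Subtype.ext ?_⟩
      · obtain ⟨i, -, rfl⟩ := Multiset.mem_map.mp (show a ∈ Finset.univ.val.map d' from ha)
        exact (hzero _ _ _ hb).mp hNp i
      · show ConjClasses.mk _ = ConjClasses.mk g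
        rw [ConjClasses.mk_eq_mk_iff_isConj, hconj _ _ _ _ (hu _) hgN]
        exact (hrep μ).conj hb fun k => by rw [KSG55.Nilp.card_fibre, KSG55.Nilp.card_fibre, hparts]
  rw [← Fintype.card_subtype, ← Nat.card_eq_fintype_card, Nat.card_congr (Equiv.ofBijective Φ hΦ)]
  haveI : Fintype B := Fintype.ofFinite B
  let one : B := ⟨ConjClasses.mk 1, 1, rfl, one_pow p⟩
  let E : {C : ConjClasses (GL (Fin n) F) // ∃ g, ConjClasses.mk g = C ∧ orderOf g = p} ≃ {C : B // C ≠ one} :=
    { toFun := fun C => ⟨⟨C.1, by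
          obtain ⟨g, hg, ho⟩ := C.2
          exact ⟨g, hg, by rw [← ho, pow_orderOf_eq_one]⟩⟩, by
          obtain ⟨g, hg, ho⟩ := C.2
          intro h
          have h' : ConjClasses.mk g = ConjClasses.mk 1 := hg.trans (congrArg Subtype.val h)
          rw [ConjClasses.mk_eq_mk_iff_isConj, isConj_one_left] at h'
          rw [h', orderOf_one] at ho
          exact hp.one_lt.ne ho⟩
      invFun := fun C => ⟨C.1.1, by
          obtain ⟨g, hg, hgp⟩ := C.1.2
          refine ⟨g, hg, orderOf_eq_prime hgp fun h1 => C.2 (Subtype.ext ?_)⟩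
          rw [← hg, h1]⟩
      left_inv := fun C => rfl
      right_inv := fun C => rfl }
  rw [Nat.card_congr E, Nat.card_eq_fintype_card, Fintype.card_subtype_compl, Fintype.card_subtype_eq,
    Nat.card_eq_fintype_card]

end Cfsg.Agent.S2570
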