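import Cfsg.Statements.S2580
import Cfsg.Agent.KnownSimple58.CyclicDecomp

set_option autoImplicit false
open Cfsg

namespace Cfsg.Agent.S2580

open Polynomial in
/-- a linear functional on `F[X]/(g)` whose kernel contains no non-zero ideal -/
noncomputable def top {F : Type*} [Field F] {g : F[X]} (hg : g.Monic) : AdjoinRoot g →ₗ[F] F :=
  (Polynomial.lcoeff F (g.natDegree - 1)).comp (AdjoinRoot.modByMonicHom hg)

open Polynomial in
lemma top_nondeg {F : Type*} [Field F] {g : F[X]} (hg : g.Monic) (c : AdjoinRoot g)
    (h : ∀ y, top hg (c * y) = 0) : c = 0 := by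
  obtain ⟨p, rfl⟩ := AdjoinRoot.mk_surjective c
  rw [AdjoinRoot.mk_eq_zero, ← modByMonic_eq_zero_iff_dvd hg]
  by_contra hr
  set r := p %ₘ g
  have hd : r.natDegree < g.natDegree := natDegree_modByMonic_lt p hg (by rintro rfl; simp [r] at hr)
  have := h (AdjoinRoot.mk g (X ^ (g.natDegree - 1 - r.natDegree)))
  have hmk : AdjoinRoot.mk g p = AdjoinRoot.mk g r := by
    exact ((AdjoinRoot.mk_leftInverse hg) (AdjoinRoot.mk g p)).symm
  rw [hmk, ← map_mul, top, LinearMap.comp_apply, AdjoinRoot.modByMonicHom_mk,
    (modByMonic_eq_self_iff hg).mpr ?_] at this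
  · rw [lcoeff_apply, show g.natDegree - 1 = r.natDegree + (g.natDegree - 1 - r.natDegree) by omega,
      Nat.add_sub_cancel_left, coeff_mul_X_pow] at this
    exact hr (leadingCoeff_eq_zero.mp this)
  · rw [degree_mul, degree_X_pow, degree_eq_natDegree hr, degree_eq_natDegree hg.ne_zero, ← Nat.cast_add]
    exact_mod_cast (by omega : r.natDegree + (g.natDegree - 1 - r.natDegree) < g.natDegree)


/-- Over a finite field, a square matrix is similar to its transpose: for every n × n matrix A there is an invertible matrix P with P A P⁻¹ = Aᵀ (stated as conjugacy in the monoid of matrices, whose units are the invertible matrices). -/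
theorem result {F : Type*} [Field F] [Finite F] {n : ℕ} (A : Matrix (Fin n) (Fin n) F) : IsConj A A.transpose := by
  classical
  obtain ⟨ι, hι, q, e, g, ψ, hg, hψ⟩ := KS58.exists_cyclic_decomp A
  let L : (Fin n → F) → ((Fin n → F) →ₗ[F] F) := fun u =>
    ∑ i, ((top (hg i).2.2).comp (LinearMap.mulLeft F (ψ u i))).comp ((LinearMap.proj i).comp ψ.toLinearMap)
  have hL : ∀ u x, L u x = ∑ i, top (hg i).2.2 (ψ u i * ψ x i) := fun u x => by simp [L]
  have hsym : ∀ u x, L u x = L x u := fun u x => by simp only [hL, mul_comm]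
  have hself : ∀ u x, L u (A.mulVec x) = L x (A.mulVec u) := fun u x => by
    simp only [hL, hψ]
    exact Finset.sum_congr rfl fun i _ => by congr 1; ring
  let S : Matrix (Fin n) (Fin n) F := Matrix.of fun a b => L (Pi.single a 1) (Pi.single b 1)
  have hSv : ∀ x a, S.mulVec x a = L (Pi.single a 1) x := by
    intro x a
    conv_rhs => rw [pi_eq_sum_univ' x, map_sum]
    simp only [Matrix.mulVec, dotProduct, map_smul, smul_eq_mul, S, Matrix.of_apply]
    exact Finset.sum_congr rfl fun b _ => mul_comm _ _
  have hSA : ∀ a b, (S * A) a b = L (Pi.single a 1) (A.mulVec (Pi.single b 1)) := by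
    intro a b
    rw [← hSv, Matrix.mulVec_mulVec, Matrix.mulVec_single_one, Matrix.col_apply]
  have hS : IsUnit S := by
    rw [← Matrix.mulVec_injective_iff_isUnit]
    intro x y hxy
    rw [← sub_eq_zero]
    apply ψ.injective
    rw [map_zero]
    funext i
    refine top_nondeg (hg i).2.2 _ fun z => ?_
    have h0 : ∀ u, L (x - y) u = 0 := by
      intro u
      rw [hsym, map_sub, sub_eq_zero]
      have : ∀ x, L u x = ∑ a, u a * S.mulVec x a := by
        intro x
        rw [hsym]
        conv_lhs => rw [pi_eq_sum_univ' u, map_sum]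
        refine Finset.sum_congr rfl fun a _ => ?_
        rw [map_smul, smul_eq_mul, hSv, hsym x]
      rw [this, this, hxy]
    have := h0 (ψ.symm (Pi.single i z))
    rw [hL, LinearEquiv.apply_symm_apply, Finset.sum_eq_single i] at this
    · simpa using this
    · intro j _ hj; simp [Pi.single_eq_of_ne hj]
    · simp
  refine ⟨hS.unit, ?_⟩
  show S * A = A.transpose * S
  have h1 : S.transpose = S := Matrix.ext fun a b => hsym _ _
  have h2 : (S * A).transpose = S * A := Matrix.ext fun a b => by
    rw [Matrix.transpose_apply, hSA, hSA, hself]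
  rw [← h2, Matrix.transpose_mul, h1]

end Cfsg.Agent.S2580
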