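import Cfsg.Statements.S2642
import Cfsg.Agent.Forms59.UnitaryConj
import Cfsg.Agent.S2570
import Cfsg.Agent.S2580
-- import your own Cfsg.Agent.* helpers here

set_option autoImplicit false
open Cfsg

namespace Cfsg.Agent.S2642

open Matrix

variable {K : Type*} [Field K] [Fintype K]

/-- Two nilpotent matrices whose powers have kernels of the same size are similar. -/
theorem conj_of_card_ker {n : ℕ} {A B : Matrix (Fin n) (Fin n) K} (hA : IsNilpotent (A - 1))
    (hB : IsNilpotent (B - 1))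
    (hc : ∀ j, Nat.card {v : Fin n → K // ((A - 1) ^ j).mulVec v = 0} =
      Nat.card {v : Fin n → K // ((B - 1) ^ j).mulVec v = 0}) : IsConj A B := by
  obtain ⟨t, d, hd⟩ := KSG55.Nilp.exists_blocks hA
  obtain ⟨t', d', hd'⟩ := KSG55.Nilp.exists_blocks hB
  obtain ⟨g, hg⟩ := hd.conj hd' fun k => hd.count_eq hd' hc k |> fun h => by
    simpa [KSG55.Nilp.card_fibre] using h
  refine ⟨g, show (g : Matrix (Fin n) (Fin n) K) * A = B * g from ?_⟩
  rw [mul_sub, sub_mul, mul_one, one_mul] at hg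
  exact sub_left_injective hg

/-- A unipotent matrix is similar to its image under a field automorphism. -/
theorem conj_map_ringEquiv {n : ℕ} (φ : K ≃+* K) {A : Matrix (Fin n) (Fin n) K} (hA : IsNilpotent (A - 1)) :
    IsConj A (A.map φ) := by
  have h1 : A.map φ - 1 = φ.toRingHom.mapMatrix (A - 1) := by
    rw [map_sub, map_one]; rfl
  refine conj_of_card_ker hA (h1 ▸ hA.map _) fun j => ?_
  refine Nat.card_congr (Equiv.subtypeEquiv (Equiv.piCongrRight fun _ => φ.toEquiv) fun v => ?_)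
  rw [h1, ← map_pow]
  show _ ↔ ((A - 1) ^ j).map φ *ᵥ (fun i => φ (v i)) = 0
  rw [funext_iff, funext_iff]
  refine forall_congr' fun i => ?_
  have := RingHom.map_mulVec φ.toRingHom ((A - 1) ^ j) v i
  change φ (((A - 1) ^ j *ᵥ v) i) = (((A - 1) ^ j).map φ *ᵥ (fun i => φ (v i))) i at this
  rw [← this, Pi.zero_apply, EmbeddingLike.map_eq_zero_iff]

/-- A unipotent matrix is similar to its inverse. -/
theorem conj_inv {n : ℕ} (A : (Matrix (Fin n) (Fin n) K)ˣ) (hA : IsNilpotent ((A : Matrix (Fin n) (Fin n) K) - 1)) :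
    IsConj (A : Matrix (Fin n) (Fin n) K) (A⁻¹ : (Matrix (Fin n) (Fin n) K)ˣ) := by
  have hc : Commute (-((A⁻¹ : (Matrix (Fin n) (Fin n) K)ˣ) : Matrix (Fin n) (Fin n) K)) ((A : Matrix (Fin n) (Fin n) K) - 1) :=
    ((Commute.refl (A : Matrix (Fin n) (Fin n) K)).units_inv_left.sub_right (Commute.one_right _)).neg_left
  have h1 : ((A⁻¹ : (Matrix (Fin n) (Fin n) K)ˣ) : Matrix (Fin n) (Fin n) K) - 1 =
      -((A⁻¹ : (Matrix (Fin n) (Fin n) K)ˣ) : Matrix (Fin n) (Fin n) K) * ((A : Matrix (Fin n) (Fin n) K) - 1) := by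
    rw [neg_mul, mul_sub, mul_one, Units.inv_mul, neg_sub]
  refine conj_of_card_ker hA (by rw [h1]; exact hc.isNilpotent_mul_left hA) fun j => ?_
  refine Nat.card_congr (Equiv.subtypeEquivRight fun v => ?_)
  rw [h1, hc.mul_pow, ← Matrix.mulVec_mulVec]
  have hu : IsUnit ((-((A⁻¹ : (Matrix (Fin n) (Fin n) K)ˣ) : Matrix (Fin n) (Fin n) K)) ^ j) := (A⁻¹).isUnit.neg.pow j
  exact ⟨fun h => by rw [h, Matrix.mulVec_zero], fun h =>
    Matrix.mulVec_injective_of_isUnit hu (h.trans (Matrix.mulVec_zero _).symm)⟩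


/-- Number of conjugacy classes of elements of order p in the general unitary group GU_n(q), q a power of p: every unipotent Jordan type occurs and the classes correspond to the partitions of n with all parts at most p other than the all-ones partition, exactly as in GL_n; so there are (number of partitions of n with parts ≤ p) − 1 classes. -/
theorem result {K : Type*} [Field K] [Fintype K] {p q n : ℕ} [Fact p.Prime] [CharP K p] (hK : Fintype.card K = q ^ 2) : Nat.card {C : ConjClasses ↥(Cfsg.GU n K q) // ∃ g : ↥(Cfsg.GU n K q), ConjClasses.mk g = C ∧ orderOf g = p} = (Finset.univ.filter (fun μ : Nat.Partition n => ∀ a ∈ μ.parts, a ≤ p)).card - 1 := by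
  classical
  rw [← S2570.result (F := K) (p := p) n]
  refine Nat.card_congr (Equiv.ofBijective (fun C => ⟨ConjClasses.map (Cfsg.GU n K q).subtype C.1, by
    obtain ⟨g, hg, ho⟩ := C.2
    exact ⟨(g : GL (Fin n) K), by rw [← hg]; rfl, by rw [Subgroup.orderOf_coe, ho]⟩⟩) ⟨?_, ?_⟩)
  · rintro ⟨C, g, rfl, hg⟩ ⟨D, h, rfl, hh⟩ e
    have e' : ConjClasses.mk (g : GL (Fin n) K) = ConjClasses.mk (h : GL (Fin n) K) := congrArg Subtype.val e
    exact Subtype.ext (ConjClasses.mk_eq_mk_iff_isConj.2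
      ((Forms59.gu_isConj_iff hK g h).2 (ConjClasses.mk_eq_mk_iff_isConj.1 e')))
  · rintro ⟨C, g, rfl, hg⟩
    have hnil : IsNilpotent ((g : Matrix (Fin n) (Fin n) K) - 1) := by
      refine ⟨p, ?_⟩
      rcases Nat.eq_zero_or_pos n with rfl | h
      · exact Subsingleton.elim _ _
      haveI : Nonempty (Fin n) := ⟨⟨0, h⟩⟩
      haveI : CharP (Matrix (Fin n) (Fin n) K) p :=
        charP_of_injective_algebraMap (algebraMap K (Matrix (Fin n) (Fin n) K)).injective p
      rw [sub_pow_char_of_commute p (Commute.one_right _), one_pow, ← Units.val_pow_eq_pow_val, ← hg,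
        pow_orderOf_eq_one, Units.val_one, sub_self]
    letI : StarRing K := Forms59.starRingOfCard hK
    have h2 := S2580.result ((g : Matrix (Fin n) (Fin n) K).map (starRingAut : K ≃+* K))
    have h1 := conj_map_ringEquiv (starRingAut : K ≃+* K) hnil
    have h12 : IsConj (g : Matrix (Fin n) (Fin n) K) ((g : Matrix (Fin n) (Fin n) K).map (fun x : K => x ^ q))ᵀ := h1.trans h2
    obtain ⟨c, hc⟩ := id h12
    let M : GL (Fin n) K := c * g * c⁻¹
    have hM : (M : Matrix (Fin n) (Fin n) K) = ((g : Matrix (Fin n) (Fin n) K).map (fun x : K => x ^ q))ᵀ := by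
      simp only [M, Units.val_mul, hc.eq, Matrix.mul_assoc, Units.mul_inv, mul_one]
    have hMnil : IsNilpotent ((M : Matrix (Fin n) (Fin n) K) - 1) := by
      have : (M : Matrix (Fin n) (Fin n) K) - 1 = (c : Matrix (Fin n) (Fin n) K) * ((g : Matrix (Fin n) (Fin n) K) - 1) * ((c⁻¹ : GL (Fin n) K) : Matrix (Fin n) (Fin n) K) := by
        simp only [M, Units.val_mul, mul_sub, sub_mul, mul_one, Units.mul_inv]
      obtain ⟨k, hk⟩ := hnil
      refine ⟨k, ?_⟩
      rw [this, Units.conj_pow, hk, mul_zero, zero_mul]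
    obtain ⟨B, hB⟩ := (Forms59.similar_to_unitary_iff hK g).2 (by
      rw [← hM, ← Matrix.coe_units_inv]
      rw [← hM] at h12
      exact h12.trans (conj_inv M hMnil))
    refine ⟨⟨ConjClasses.mk B, B, rfl, ?_⟩, Subtype.ext (ConjClasses.mk_eq_mk_iff_isConj.2 hB.symm)⟩
    rw [← Subgroup.orderOf_coe]
    obtain ⟨a, ha⟩ := isConj_iff.1 hB
    rw [← ha, ← hg]
    exact (MulEquiv.orderOf_eq (MulAut.conj a) g)


end Cfsg.Agent.S2642
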