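import Cfsg.Agent.S1450
import Cfsg.Agent.OddLocal44.RankThree
import Cfsg.Agent.Lib.Coprime.Abelian
import Cfsg.Agent.Lib.Coprime.Hall

/-!
A cyclic `3`-group whose commutator with an elementary abelian normal `2`-group is a four-group,
in a solvable group with an elementary abelian subgroup of order `p³`.
-/

set_option autoImplicit false
set_option linter.unusedSectionVars false
set_option maxHeartbeats 800000

namespace Cfsg.Agent.FourComm

open Subgroup
open scoped commutatorElement IsMulCommutative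

variable {S : Type*} [Group S] [Finite S]

/-- The conjugates of an element of an invariant set are at most as many as the set. -/
theorem relIndex_centralizer_lt {P T : Subgroup S} (hPT : P ≤ normalizer (T : Set S)) {t : S}
    (ht : t ∈ T) (ht1 : t ≠ 1) : (centralizer ({t} : Set S)).relIndex P < Nat.card T := by
  set C := (centralizer ({t} : Set S)).subgroupOf P with hC
  let f : P ⧸ C → {v : T // v ≠ 1} := fun q => Quotient.liftOn' q
    (fun g : P => ⟨⟨(g : S) * t * (g : S)⁻¹, Coprime.conj_mem_of_mem_normalizer (hPT g.2) ht⟩,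
      fun h => ht1 (by simpa [Subtype.ext_iff, mul_inv_eq_one] using h)⟩)
    (fun a b hab => by
      rw [QuotientGroup.leftRel_apply, hC, mem_subgroupOf, mem_centralizer_singleton_iff] at hab
      push_cast at hab
      refine Subtype.ext (Subtype.ext ?_)
      show (a : S) * t * (a : S)⁻¹ = (b : S) * t * (b : S)⁻¹
      calc (a : S) * t * (a : S)⁻¹ = a * (t * ((a : S)⁻¹ * b)) * (b : S)⁻¹ := by group
        _ = a * (((a : S)⁻¹ * b) * t) * (b : S)⁻¹ := by rw [hab]
        _ = _ := by group)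
  have hinj : Function.Injective f := by
    intro q q' h
    induction q using Quotient.inductionOn' with | _ a => ?_
    induction q' using Quotient.inductionOn' with | _ b => ?_
    refine Quotient.sound' ?_
    rw [QuotientGroup.leftRel_apply, hC, mem_subgroupOf, mem_centralizer_singleton_iff]
    have h' : (a : S) * t * (a : S)⁻¹ = (b : S) * t * (b : S)⁻¹ :=
      congrArg (fun z : {v : T // v ≠ 1} => ((z : T) : S)) h
    push_cast
    calc (a : S)⁻¹ * b * t = (a : S)⁻¹ * (b * t * (b : S)⁻¹) * b := by group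
      _ = (a : S)⁻¹ * ((a : S) * t * (a : S)⁻¹) * b := by rw [h']
      _ = _ := by group
  calc (centralizer ({t} : Set S)).relIndex P = Nat.card (P ⧸ C) := rfl
    _ ≤ Nat.card {v : T // v ≠ 1} := Nat.card_le_card_of_injective f hinj
    _ < Nat.card T := by
      classical
      cases nonempty_fintype T
      rw [Nat.card_eq_fintype_card, Nat.card_eq_fintype_card]
      exact Fintype.card_subtype_lt (x := (1 : T)) (by simp)

theorem le_centralizer_of_small {p : ℕ} [hp : Fact p.Prime] {P T : Subgroup S} (hP : IsPGroup p P)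
    (hPT : P ≤ normalizer (T : Set S)) (hT : Nat.card T ≤ p) : P ≤ centralizer (T : Set S) := by
  intro g hg
  refine mem_centralizer_iff.mpr fun t ht => ?_
  rcases eq_or_ne t 1 with rfl | ht1
  · simp
  have h1 := relIndex_centralizer_lt hPT ht ht1
  obtain ⟨k, hk⟩ := hP.index ((centralizer ({t} : Set S)).subgroupOf P)
  change (centralizer ({t} : Set S)).relIndex P = p ^ k at hk
  have hk0 : k = 0 := by
    by_contra h
    have : p ≤ p ^ k := Nat.le_self_pow h p
    omega
  rw [hk0, pow_zero, relIndex_eq_one] at hk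
  exact (mem_centralizer_singleton_iff.mp (hk hg)).symm

/-- A cyclic group `⟨x⟩` acting coprimely with `[M, ⟨x⟩] = W` of order `4`, and a group normalized
by it, inside an invariant irreducible section containing `W`. -/
structure Config (P W V : Subgroup S) (x : S) : Prop where
  comm : IsMulCommutative V
  exp : ∀ v ∈ V, v ^ 2 = 1
  normP : P ≤ normalizer (V : Set S)
  xP : x ∈ normalizer (P : Set S)
  xV : x ∈ normalizer (V : Set S)
  WV : W ≤ V
  cardW : Nat.card W = 4
  fpf : ∀ w ∈ W, x * w = w * x → w = 1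
  commW : ∀ v ∈ V, ⁅x, v⁆ ∈ W
  irr : ∀ U ≤ V, P ≤ normalizer (U : Set S) → x ∈ normalizer (U : Set S) → U = ⊥ ∨ U = V

section

variable {P W V : Subgroup S} {x : S} (c : Config P W V x)
include c

theorem Config.ne_bot : V ≠ ⊥ := fun h => by
  have h1 := card_le_of_le c.WV
  rw [h, card_bot, c.cardW] at h1
  omega

theorem Config.fixed_le {U : Subgroup S} (hU : U ≤ V) (hP : P ≤ normalizer (U : Set S)) :
    P ≤ normalizer (U.map (MulAut.conj x).toMonoidHom : Set S) ∧
      U.map (MulAut.conj x).toMonoidHom ≤ V := by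
  constructor
  · refine Coprime.le_normalizer_of_conj_mem fun g hg => ?_
    rintro _ ⟨u, hu, rfl⟩
    refine ⟨(x⁻¹ * g * x) * u * (x⁻¹ * g * x)⁻¹, Coprime.conj_mem_of_mem_normalizer
      (hP (Coprime.conj_mem_of_mem_normalizer' c.xP hg)) hu, ?_⟩
    simp only [MulEquiv.coe_toMonoidHom, MulAut.conj_apply]
    group
  · rintro _ ⟨u, hu, rfl⟩
    exact Coprime.conj_mem_of_mem_normalizer c.xV (hU hu)

omit c in
theorem map_eq_of_le {U : Subgroup S} (h : U.map (MulAut.conj x).toMonoidHom ≤ U) :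
    x ∈ normalizer (U : Set S) := by
  refine mem_normalizer_iff_map_conj_eq.mpr (Subgroup.eq_of_le_of_card_ge h ?_)
  exact (Nat.card_congr (U.equivMapOfInjective _ (MulAut.conj x).injective).toEquiv).le

/-- A minimal `P`-invariant subgroup is all of `V`, or is moved by `x`. -/
theorem Config.exists_minimal : ∃ T : Subgroup S, T ≤ V ∧ T ≠ ⊥ ∧ P ≤ normalizer (T : Set S) ∧
    (∀ U ≤ T, P ≤ normalizer (U : Set S) → U = ⊥ ∨ U = T) ∧
    (T = V ∨ T ⊓ T.map (MulAut.conj x).toMonoidHom = ⊥) := by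
  obtain ⟨T, -, hT⟩ := (Set.toFinite {U : Subgroup S | U ≤ V ∧ U ≠ ⊥ ∧
    P ≤ normalizer (U : Set S)}).exists_le_minimal (a := V) ⟨le_rfl, c.ne_bot, c.normP⟩
  have hmin : ∀ U ≤ T, P ≤ normalizer (U : Set S) → U = ⊥ ∨ U = T := fun U hU hn => by
    by_contra h
    push Not at h
    exact h.2 (le_antisymm hU (hT.2 ⟨hU.trans hT.1.1, h.1, hn⟩ hU))
  refine ⟨T, hT.1.1, hT.1.2.1, hT.1.2.2, hmin, ?_⟩
  obtain ⟨h1, h2⟩ := c.fixed_le hT.1.1 hT.1.2.2
  refine (hmin _ inf_le_left (Coprime.le_normalizer_inf hT.1.2.2 h1)).symm.imp (fun h => ?_) id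
  refine (c.irr T hT.1.1 hT.1.2.2 (map_eq_of_le ?_)).resolve_left hT.1.2.1
  refine (Subgroup.eq_of_le_of_card_ge (inf_eq_left.mp h) ?_).ge
  exact (Nat.card_congr (T.equivMapOfInjective _ (MulAut.conj x).injective).toEquiv).ge

/-- The commutator with `x` on `V`. -/
theorem Config.comm_mul {u v : S} (hu : u ∈ V) (hv : v ∈ V) :
    ⁅x, u * v⁆ = ⁅x, u⁆ * ⁅x, v⁆ := by
  haveI := c.comm
  have h := setLike_mul_comm (c.WV (c.commW v hv)) hu
  simp only [commutatorElement_def] at h ⊢
  calc x * (u * v) * x⁻¹ * (u * v)⁻¹ = (x * u * x⁻¹) * ((x * v * x⁻¹ * v⁻¹) * u⁻¹) := by group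
    _ = (x * u * x⁻¹) * (u⁻¹ * (x * v * x⁻¹ * v⁻¹)) := by
      congr 1
      rw [eq_inv_mul_iff_mul_eq, ← mul_assoc, ← h]
      group
    _ = _ := by group

theorem Config.card_le_of_injOn {T : Subgroup S} (hTV : T ≤ V)
    (h : ∀ t ∈ T, x * t = t * x → t = 1) : Nat.card T ≤ 4 := by
  rw [← c.cardW]
  let f : T →* W :=
    { toFun := fun t => ⟨⁅x, (t : S)⁆, c.commW _ (hTV t.2)⟩
      map_one' := by ext; simp
      map_mul' := fun a b => Subtype.ext (c.comm_mul (hTV a.2) (hTV b.2)) }
  refine Nat.card_le_card_of_injective f ((injective_iff_map_eq_one f).mpr fun t ht => ?_)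
  exact Subtype.ext (h t t.2 (commutatorElement_eq_one_iff_mul_comm.mp (congrArg Subtype.val ht)))

omit c in
theorem eq_one_of_fixed {T : Subgroup S} (hT : T ⊓ T.map (MulAut.conj x).toMonoidHom = ⊥) :
    ∀ t ∈ T, x * t = t * x → t = 1 := by
  intro t ht h
  rw [← mem_bot, ← hT]
  exact ⟨ht, t, ht, by simp [h]⟩

/-- A fixed point of `P` in `V` makes `P` centralize `V`. -/
theorem Config.le_centralizer {T : Subgroup S} (hTV : T ≤ V) (hT : T ≠ ⊥)
    (hPT : P ≤ centralizer (T : Set S)) : P ≤ centralizer (V : Set S) := by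
  have hx : x ∈ normalizer ((V ⊓ centralizer (P : Set S) : Subgroup S) : Set S) :=
    (Coprime.le_normalizer_inf (A := zpowers x) ((zpowers_le).mpr c.xV)
      (Coprime.le_normalizer_centralizer ((zpowers_le).mpr c.xP))) (mem_zpowers x)
  have hn : P ≤ normalizer ((V ⊓ centralizer (P : Set S) : Subgroup S) : Set S) :=
    Coprime.le_normalizer_inf c.normP (Coprime.le_normalizer_centralizer Subgroup.le_normalizer)
  rcases c.irr _ inf_le_left hn hx with h | h
  · exact absurd (le_bot_iff.mp (h ▸ le_inf hTV (le_centralizer_iff.mp hPT))) hT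
  · exact le_centralizer_iff.mp (inf_eq_left.mp h)

/-- The case of a prime greater than `3`. -/
theorem Config.relIndex_le_of_gt {p : ℕ} [hp : Fact p.Prime] (hp3 : 3 < p) (hP : IsPGroup p P) :
    (centralizer (V : Set S)).relIndex P ≤ p := by
  haveI := c.comm
  have hp4 : 4 < p := by
    have h4 : p ≠ 4 := fun h => absurd (h ▸ hp.out) (by norm_num)
    omega
  have htriv : P ≤ centralizer (V : Set S) → (centralizer (V : Set S)).relIndex P ≤ p := fun h => by
    rw [relIndex_eq_one.mpr h]; exact hp.out.one_le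
  obtain ⟨T, hTV, hT1, hPT, hTmin, hcase⟩ := c.exists_minimal
  rcases hcase with hTeq | hmove
  swap
  · exact htriv (c.le_centralizer hTV hT1 (le_centralizer_of_small hP hPT
      ((c.card_le_of_injOn hTV (eq_one_of_fixed hmove)).trans hp4.le)))
  subst hTeq
  by_cases hPV : P ≤ centralizer (T : Set S)
  · exact htriv hPV
  set C₀ := (centralizer (T : Set S)).subgroupOf P with hC₀
  haveI : C₀.Normal := by
    refine ⟨fun n hn g => ?_⟩
    show (g : S) * n * (g : S)⁻¹ ∈ centralizer (T : Set S)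
    exact Coprime.conj_mem_of_mem_normalizer (Coprime.le_normalizer_centralizer c.normP g.2) hn
  haveI : Nontrivial (P ⧸ C₀) := by
    refine (QuotientGroup.nontrivial_iff).mpr fun h => hPV fun g hg => ?_
    have : (⟨g, hg⟩ : P) ∈ C₀ := h ▸ mem_top _
    exact this
  haveI := (hP.to_quotient C₀).center_nontrivial
  obtain ⟨q, hq⟩ := exists_ne (1 : center (P ⧸ C₀))
  obtain ⟨z, hz⟩ := QuotientGroup.mk_surjective (q : P ⧸ C₀)
  -- central elements modulo the kernel
  let Cen : S → Prop := fun y => y ∈ P ∧ ∀ g ∈ P, ∀ v ∈ T,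
    y * (g * v * g⁻¹) * y⁻¹ = g * (y * v * y⁻¹) * g⁻¹
  have hzc : Cen z := by
    refine ⟨z.2, fun g hg v hv => ?_⟩
    have h := Subgroup.mem_center_iff.mp q.2 (QuotientGroup.mk ⟨g, hg⟩)
    rw [← hz, ← QuotientGroup.mk_mul, ← QuotientGroup.mk_mul, QuotientGroup.eq] at h
    have h2 := mem_centralizer_iff.mp h v hv
    simp only [Subgroup.subtype_apply, Subgroup.coe_mul, Subgroup.coe_inv] at h2
    have h3 : ((z : S) * g) * v * ((z : S) * g)⁻¹ = (g * (z : S)) * v * (g * (z : S))⁻¹ := by
      calc ((z : S) * g) * v * ((z : S) * g)⁻¹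
          = (g * z) * ((g * (z : S))⁻¹ * (z * g) * v) * ((z : S) * g)⁻¹ := by group
        _ = (g * z) * (v * ((g * (z : S))⁻¹ * (z * g))) * ((z : S) * g)⁻¹ := by rw [h2]
        _ = _ := by group
    simpa [mul_assoc] using h3
  have hzn : (z : S) ∉ centralizer (T : Set S) := fun h => hq (Subtype.ext (by
    rw [← hz]; exact (QuotientGroup.eq_one_iff _).mpr h))
  have hfixed : ∀ y, Cen y → y ∉ centralizer (T : Set S) → T ⊓ centralizer {y} = ⊥ := by
    intro y hy hyn
    refine (hTmin _ inf_le_left (Coprime.le_normalizer_of_conj_mem fun g hg v hv => ?_)).resolve_right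
      fun h => hyn (mem_centralizer_iff.mpr fun v hv => ?_)
    · refine ⟨Coprime.conj_mem_of_mem_normalizer (c.normP hg) hv.1,
        mem_centralizer_singleton_iff.mpr ?_⟩
      have h1 : y * v * y⁻¹ = v :=
        mul_inv_eq_iff_eq_mul.mpr (mem_centralizer_singleton_iff.mp hv.2).symm
      have h2 := hy.2 g hg v hv.1
      rw [h1, mul_inv_eq_iff_eq_mul] at h2
      exact h2.symm
    · exact mem_centralizer_singleton_iff.mp (h.ge hv).2
  have hxi : ∀ v ∈ T, x⁻¹ * v * x ∈ T := fun v hv => Coprime.conj_mem_of_mem_normalizer' c.xV hv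
  have hcon : Cen (x * z * x⁻¹) := by
    refine ⟨Coprime.conj_mem_of_mem_normalizer c.xP z.2, fun g hg v hv => ?_⟩
    have h := hzc.2 (x⁻¹ * g * x) (Coprime.conj_mem_of_mem_normalizer' c.xP hg) (x⁻¹ * v * x)
      (hxi v hv)
    calc x * z * x⁻¹ * (g * v * g⁻¹) * (x * z * x⁻¹)⁻¹
        = x * ((z : S) * ((x⁻¹ * g * x) * (x⁻¹ * v * x) * (x⁻¹ * g * x)⁻¹) * (z : S)⁻¹) * x⁻¹ := by group
      _ = x * ((x⁻¹ * g * x) * ((z : S) * (x⁻¹ * v * x) * (z : S)⁻¹) * (x⁻¹ * g * x)⁻¹) * x⁻¹ := by rw [h]
      _ = _ := by group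
  set d : S := x * z * x⁻¹ * (z : S)⁻¹ with hd
  have hdP : d ∈ P := mul_mem hcon.1 (inv_mem z.2)
  have hdc : Cen d := by
    refine ⟨hdP, fun g hg v hv => ?_⟩
    have hv' : (z : S)⁻¹ * v * z ∈ T := Coprime.conj_mem_of_mem_normalizer' (c.normP z.2) hv
    have h1 := hzc.2 g hg _ hv'
    have h2 := hcon.2 g hg _ hv'
    calc d * (g * v * g⁻¹) * d⁻¹
        = x * z * x⁻¹ * ((z : S)⁻¹ * (g * ((z : S) * ((z : S)⁻¹ * v * z) * (z : S)⁻¹) * g⁻¹) * z) * (x * z * x⁻¹)⁻¹ := by
          rw [hd]; group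
      _ = x * z * x⁻¹ * (g * ((z : S)⁻¹ * v * z) * g⁻¹) * (x * z * x⁻¹)⁻¹ := by rw [← h1]; group
      _ = _ := by rw [h2, hd]; group
  by_cases hdV : d ∈ centralizer (T : Set S)
  · exfalso
    refine hzn ?_
    have hzW : ∀ w ∈ W, (z : S) * w * (z : S)⁻¹ ∈ W := by
      intro w hw
      obtain ⟨⟨u, hu⟩, hu'⟩ : ∃ u : W, (⟨⁅x, (u : S)⁆, c.commW _ (c.WV u.2)⟩ : W) = ⟨w, hw⟩ := by
        have hinj : Function.Injective
            (fun u : W => (⟨⁅x, (u : S)⁆, c.commW _ (c.WV u.2)⟩ : W)) := by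
          intro a b hab
          have hab' : ⁅x, (a : S)⁆ = ⁅x, (b : S)⁆ := congrArg Subtype.val hab
          have h1 : ⁅x, (a : S) * (b : S)⁻¹⁆ = 1 := by
            have h2 := c.comm_mul (c.WV (mul_mem a.2 (inv_mem b.2))) (c.WV b.2)
            rw [inv_mul_cancel_right, hab'] at h2
            exact right_eq_mul.mp h2
          exact Subtype.ext (mul_inv_eq_one.mp (c.fpf _ (mul_mem a.2 (inv_mem b.2))
            (commutatorElement_eq_one_iff_mul_comm.mp h1)))
        exact (Finite.injective_iff_surjective.mp hinj) _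
      obtain rfl : ⁅x, u⁆ = w := congrArg Subtype.val hu'
      set v := (z : S) * u * (z : S)⁻¹ with hv
      have hvT : v ∈ T := Coprime.conj_mem_of_mem_normalizer (c.normP z.2) (c.WV hu)
      have h3 : (z : S) * ⁅x, u⁆ * (z : S)⁻¹ = ⁅x, v⁆ := by
        have hxu : x * v * x⁻¹ = (z : S) * (x * u * x⁻¹) * (z : S)⁻¹ := by
          have hm := Coprime.conj_mem_of_mem_normalizer (c.normP z.2)
            (Coprime.conj_mem_of_mem_normalizer c.xV (c.WV hu))
          have h4 := mem_centralizer_iff.mp hdV _ hm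
          calc x * v * x⁻¹ = d * ((z : S) * (x * u * x⁻¹) * (z : S)⁻¹) * d⁻¹ := by
                rw [hd, hv]; group
            _ = _ := by rw [← h4, mul_inv_cancel_right]
        rw [commutatorElement_def, commutatorElement_def, hxu, hv]; group
      rw [h3]
      exact c.commW v hvT
    have hzW' : zpowers (z : S) ≤ normalizer (W : Set S) :=
      zpowers_le.mpr (map_eq_of_le (by rintro _ ⟨w, hw, rfl⟩; exact hzW w hw))
    have hW : (W : Subgroup S) ≤ T ⊓ centralizer {(z : S)} := le_inf c.WV fun w hw =>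
      mem_centralizer_singleton_iff.mpr (mem_centralizer_iff.mp
        (le_centralizer_of_small (hP.to_le (zpowers_le.mpr z.2)) hzW' (c.cardW.le.trans hp4.le)
          (mem_zpowers _)) w hw)
    by_contra hzn'
    rw [hfixed z hzc hzn'] at hW
    have h5 := card_le_of_le hW
    rw [card_bot, c.cardW] at h5
    omega
  have hVle : Nat.card T ≤ 16 := by
    have hzi : ∀ v ∈ T, (z : S)⁻¹ * v * z ∈ T := fun v hv =>
      Coprime.conj_mem_of_mem_normalizer' (c.normP z.2) hv
    let f : T →* W × W :=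
      { toFun := fun v => (⟨⁅x, (v : S)⁆, c.commW _ v.2⟩,
          ⟨⁅x, (z : S)⁻¹ * v * z⁆, c.commW _ (hzi v v.2)⟩)
        map_one' := by ext <;> simp
        map_mul' := fun a b => by
          refine Prod.ext (Subtype.ext (c.comm_mul a.2 b.2)) (Subtype.ext ?_)
          show ⁅x, (z : S)⁻¹ * (a * b) * z⁆ = _
          rw [show (z : S)⁻¹ * (a * b) * z = ((z : S)⁻¹ * a * z) * ((z : S)⁻¹ * b * z) by group]
          exact c.comm_mul (hzi a a.2) (hzi b b.2) }
    have hinj : Function.Injective f := (injective_iff_map_eq_one f).mpr fun v hv => by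
      have h1 : x * v = v * x :=
        commutatorElement_eq_one_iff_mul_comm.mp (congrArg (fun q : W × W => (q.1 : S)) hv)
      have h2 : x * ((z : S)⁻¹ * v * z) = ((z : S)⁻¹ * v * z) * x :=
        commutatorElement_eq_one_iff_mul_comm.mp (congrArg (fun q : W × W => (q.2 : S)) hv)
      refine Subtype.ext (mem_bot.mp ?_)
      rw [← hfixed d hdc hdV]
      refine ⟨v.2, mem_centralizer_singleton_iff.mpr ?_⟩
      have h1' : x⁻¹ * (v : S) * x = v := by rw [mul_assoc, ← h1, inv_mul_cancel_left]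
      have h2' : x⁻¹ * ((z : S)⁻¹ * v * z) * x = (z : S)⁻¹ * v * z := by
        rw [mul_assoc, ← h2, inv_mul_cancel_left]
      have h3 : d⁻¹ * (v : S) * d = v := by
        calc d⁻¹ * (v : S) * d = (z : S) * x * (z : S)⁻¹ * (x⁻¹ * v * x) * z * x⁻¹ * (z : S)⁻¹ := by
              rw [hd]; group
          _ = (z : S) * (x * ((z : S)⁻¹ * v * z) * x⁻¹) * (z : S)⁻¹ := by rw [h1']; group
          _ = (z : S) * ((z : S)⁻¹ * v * z) * (z : S)⁻¹ := by rw [h2, mul_inv_cancel_right]
          _ = v := by group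
      calc (v : S) * d = d * (d⁻¹ * v * d) := by group
        _ = d * v := by rw [h3]
    have := Nat.card_le_card_of_injective f hinj
    rwa [Nat.card_prod, c.cardW] at this
  obtain ⟨w, hw, hw1⟩ : ∃ w ∈ W, w ≠ 1 := by
    by_contra h
    push Not at h
    have := Subgroup.card_le_of_le (show W ≤ ⊥ from fun w hw => mem_bot.mpr (h w hw))
    rw [card_bot, c.cardW] at this
    omega
  set H := (centralizer ({w} : Set S)).subgroupOf P with hH
  have h1 := relIndex_centralizer_lt c.normP (c.WV hw) hw1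
  obtain ⟨k, hk⟩ := hP.index H
  have hlt : H.index < p ^ 2 := by
    have : p ^ 2 ≥ 25 := (Nat.pow_le_pow_left hp4 2).trans' (by norm_num)
    change (centralizer ({w} : Set S)).relIndex P < p ^ 2
    omega
  have hk1 : k ≤ 1 := by
    rw [hk] at hlt
    have := (Nat.pow_lt_pow_iff_right hp.out.one_lt).mp hlt
    omega
  have hHn : H.Normal := by
    rcases Nat.le_one_iff_eq_zero_or_eq_one.mp hk1 with rfl | rfl
    · rw [pow_zero, index_eq_one] at hk
      rw [hk]; infer_instance
    · rw [pow_one] at hk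
      refine normal_of_index_eq_minFac_card ?_
      obtain ⟨n, hn⟩ := IsPGroup.iff_card.mp hP
      have hn0 : n ≠ 0 := fun h => by
        have := H.index_dvd_card
        rw [hk, hn, h, pow_zero, Nat.dvd_one] at this
        exact hp.out.ne_one this
      rw [hk, hn, Nat.pow_minFac hn0, hp.out.minFac_eq]
  set H' := H.map P.subtype with hH'
  have hPH : P ≤ normalizer (H' : Set S) := fun g hg =>
    H.le_normalizer_map P.subtype ⟨⟨g, hg⟩, by rw [normalizer_eq_top]; trivial, rfl⟩
  have hwH : w ∈ T ⊓ centralizer (H' : Set S) := by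
    refine ⟨c.WV hw, mem_centralizer_iff.mpr ?_⟩
    rintro _ ⟨g, hg, rfl⟩
    exact mem_centralizer_singleton_iff.mp hg
  have hTH : T ≤ centralizer (H' : Set S) := by
    rcases hTmin _ inf_le_left (Coprime.le_normalizer_inf c.normP
      (Coprime.le_normalizer_centralizer hPH)) with h | h
    · exact absurd (mem_bot.mp (h ▸ hwH)) hw1
    · exact inf_eq_left.mp h
  have hHC : H ≤ C₀ := fun g hg => le_centralizer_iff.mp hTH ⟨g, hg, rfl⟩
  calc (centralizer (T : Set S)).relIndex P = C₀.index := rfl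
    _ ≤ H.index := Nat.le_of_dvd (Nat.pos_of_ne_zero (by exact index_ne_zero_of_finite))
        (index_dvd_of_le hHC)
    _ ≤ p := by rw [hk]; exact (Nat.pow_le_pow_right hp.out.pos hk1).trans (pow_one p).le

end


section

variable {P W V : Subgroup S} {x : S} (c : Config P W V x)
include c

/-- The abelian case of exponent `3`. -/
theorem Config.relIndex_le_three [IsMulCommutative P] (hxodd : Odd (orderOf x))
    (h3 : ∀ a ∈ P, a ^ 3 = 1) :
    (centralizer (V : Set S)).relIndex P ≤ 3 := by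
  haveI := c.comm
  haveI : Fact (Nat.Prime 3) := ⟨Nat.prime_three⟩
  have hP : IsPGroup 3 P := fun a => ⟨1, Subtype.ext (by simpa using h3 a a.2)⟩
  have htriv : P ≤ centralizer (V : Set S) → (centralizer (V : Set S)).relIndex P ≤ 3 := fun h => by
    rw [relIndex_eq_one.mpr h]; norm_num
  have hstab : ∀ (a : S), a ∈ P → P ≤ normalizer ((V ⊓ centralizer {a} : Subgroup S) : Set S) :=
    fun a ha => Coprime.le_normalizer_inf c.normP (fun g hg => Subgroup.le_normalizer
      (mem_centralizer_singleton_iff.mpr (setLike_mul_comm hg ha)))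
  obtain ⟨T, hTV, hT1, hPT, hTmin, hcase⟩ := c.exists_minimal
  rcases hcase with hTeq | hmove
  · subst hTeq
    set C := centralizer (T : Set S) with hC
    by_contra hlt
    obtain ⟨a, haP, haC⟩ : ∃ a ∈ P, a ∉ C := by
      by_contra h
      push Not at h
      exact hlt (htriv h)
    have hsupC : ∃ b ∈ P, ∀ i : ℕ, b * a ^ i ∉ C := by
      by_contra h
      push Not at h
      refine hlt ?_
      let g : Fin 3 → P ⧸ C.subgroupOf P := fun i => QuotientGroup.mk (⟨a, haP⟩ ^ (i : ℕ))
      have hg : Function.Surjective g := by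
        intro q
        obtain ⟨b, rfl⟩ := QuotientGroup.mk_surjective q
        obtain ⟨i, hi⟩ := h (b : S)⁻¹ (inv_mem b.2)
        refine ⟨⟨i % 3, Nat.mod_lt _ (by norm_num)⟩, (QuotientGroup.eq.mpr ?_).symm⟩
        have e : a ^ i = a ^ (i % 3) := by
          conv_lhs => rw [← Nat.div_add_mod i 3, pow_add, pow_mul, h3 a haP, one_pow, one_mul]
        show ((b⁻¹ * (⟨a, haP⟩ : P) ^ (i % 3) : P) : S) ∈ C
        push_cast
        rw [← e]
        exact hi
      exact (Nat.card_le_card_of_surjective g hg).trans (by simp)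
    obtain ⟨b, hbP, hb⟩ := hsupC
    have hbC : b ∉ C := by simpa using hb 0
    have habC : b * a ∉ C := by simpa using hb 1
    have hab2C : b * a ^ 2 ∉ C := hb 2
    let σ : P → T → T := fun g v =>
      ⟨(g : S) * v * (g : S)⁻¹, Coprime.conj_mem_of_mem_normalizer (c.normP g.2) v.2⟩
    have σmul : ∀ g u v, σ g (u * v) = σ g u * σ g v := fun g u v => Subtype.ext (by
      simp only [σ, Subgroup.coe_mul]; group)
    have σcomp : ∀ g h v, σ g (σ h v) = σ (g * h) v := fun g h v => Subtype.ext (by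
      simp only [σ, Subgroup.coe_mul]; group)
    have hN : ∀ g : P, (g : S) ∉ C → ∀ v : T, v * σ g v * σ (g * g) v = 1 := by
      intro g hg v
      have hfp : T ⊓ centralizer {(g : S)} = ⊥ :=
        (hTmin _ inf_le_left (hstab g g.2)).resolve_right fun h => hg
          (mem_centralizer_iff.mpr fun u hu => mem_centralizer_singleton_iff.mp (h.ge hu).2)
      have hg3 : g * (g * g) = 1 := Subtype.ext (by
        have := h3 g g.2
        rw [pow_succ', pow_two] at this
        simpa using this)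
      refine Subtype.ext (mem_bot.mp ?_)
      rw [← hfp]
      refine ⟨(v * σ g v * σ (g * g) v).2, mem_centralizer_singleton_iff.mpr ?_⟩
      have hfix : σ g (v * σ g v * σ (g * g) v) = v * σ g v * σ (g * g) v := by
        rw [σmul, σmul, σcomp, σcomp, hg3]
        have h1 : σ 1 v = v := Subtype.ext (by simp [σ])
        rw [h1]
        ac_rfl
      have := congrArg Subtype.val hfix
      simp only [σ] at this
      rw [mul_inv_eq_iff_eq_mul] at this
      exact this.symm
    set A : P := ⟨a, haP⟩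
    set B : P := ⟨b, hbP⟩
    have hA3 : A * (A * A) = 1 := Subtype.ext (by
      have := h3 a haP
      rw [pow_succ', pow_two] at this
      simpa [A] using this)
    apply c.ne_bot
    refine (eq_bot_iff_forall _).mpr fun w hw => ?_
    set v : T := ⟨w, hw⟩
    have e1 := hN A haC v
    have e1' := hN A haC (σ B v)
    have e1'' := hN A haC (σ (B * B) v)
    have e2 := hN B hbC v
    have e3 := hN (B * A) (by simpa [A, B] using habC) v
    have e4 := hN (B * (A * A)) (by simpa [A, B, pow_two] using hab2C) v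
    rw [σcomp, σcomp] at e1' e1''
    have hcomm : ∀ g h : P, g * h = h * g := fun g h => Subtype.ext (setLike_mul_comm g.2 h.2)
    letI : CommGroup P := { (inferInstance : Group P) with mul_comm := hcomm }
    have q1 : B * A * (B * A) = A * A * (B * B) := by ac_rfl
    have q2 : B * (A * A) * (B * (A * A)) = A * (B * B) := by
      calc B * (A * A) * (B * (A * A)) = (A * (A * A)) * (A * (B * B)) := by ac_rfl
        _ = _ := by rw [hA3, one_mul]
    rw [q1] at e3
    rw [q2] at e4
    rw [mul_comm A B, mul_comm (A * A) B] at e1'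
    -- the product of the four norms
    have hall : v * v * v = 1 := by
      have hprod : (v * σ A v * σ (A * A) v) * (v * σ B v * σ (B * B) v) *
          (v * σ (B * A) v * σ (A * A * (B * B)) v) * (v * σ (B * (A * A)) v * σ (A * (B * B)) v) =
          (v * v * v) * ((v * σ A v * σ (A * A) v) * (σ B v * σ (B * A) v * σ (B * (A * A)) v) *
            (σ (B * B) v * σ (A * (B * B)) v * σ (A * A * (B * B)) v)) := by ac_rfl
      rw [e1, e2, e3, e4, e1', e1''] at hprod
      simpa using hprod.symm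
    have h2 : v * v = 1 := Subtype.ext (by simpa [v, pow_two] using c.exp w hw)
    rw [h2, one_mul] at hall
    exact congrArg Subtype.val hall
  -- `T` is moved by `x`
  have hinj := eq_one_of_fixed hmove
  have hT4 : Nat.card T ≤ 4 := c.card_le_of_injOn hTV hinj
  by_cases hPTc : P ≤ centralizer (T : Set S)
  · exact htriv (c.le_centralizer hTV hT1 hPTc)
  set H := P ⊓ centralizer (T : Set S) with hH
  obtain ⟨t, ht, ht1⟩ : ∃ t ∈ T, t ≠ 1 := by
    by_contra h
    push Not at h
    exact hT1 ((eq_bot_iff_forall _).mpr h)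
  have hTle : ∀ t ∈ T, t ≠ 1 → P ⊓ centralizer ({t} : Set S) = H := by
    intro t ht ht1
    refine le_antisymm (fun a ha => ⟨ha.1, ?_⟩) (inf_le_inf_left _
      (centralizer_le (Set.singleton_subset_iff.mpr ht)))
    have h := (hTmin _ inf_le_left (Coprime.le_normalizer_inf hPT
      (fun g hg => Subgroup.le_normalizer (H := centralizer ({a} : Set S))
        (mem_centralizer_singleton_iff.mpr (setLike_mul_comm hg ha.1))))).resolve_left fun h => ht1
        (mem_bot.mp (h ▸ (⟨ht, mem_centralizer_singleton_iff.mpr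
          (mem_centralizer_singleton_iff.mp ha.2).symm⟩ : t ∈ T ⊓ centralizer {a})))
    exact mem_centralizer_iff.mpr fun u hu => mem_centralizer_singleton_iff.mp (h.ge hu).2
  have hHidx : H.relIndex P ≤ 3 := by
    have h1 := relIndex_centralizer_lt hPT ht ht1
    rw [← hTle t ht ht1, inf_comm, inf_relIndex_right]
    omega
  by_cases hHV : H ≤ centralizer (V : Set S)
  · exact (Nat.le_of_dvd (Nat.pos_of_ne_zero (by exact index_ne_zero_of_finite))
      (relIndex_dvd_of_le_left P hHV)).trans hHidx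
  have hHP : H ≤ P := inf_le_left
  have hxH : x ∉ normalizer (H : Set S) := fun hx => hHV (by
    have hn : P ≤ normalizer ((V ⊓ centralizer (H : Set S) : Subgroup S) : Set S) :=
      Coprime.le_normalizer_inf c.normP (fun g hg => Subgroup.le_normalizer
        (mem_centralizer_iff.mpr fun a ha => setLike_mul_comm (hHP ha) hg))
    have hxn : x ∈ normalizer ((V ⊓ centralizer (H : Set S) : Subgroup S) : Set S) :=
      (Coprime.le_normalizer_inf (A := zpowers x) (zpowers_le.mpr c.xV)
        (Coprime.le_normalizer_centralizer (zpowers_le.mpr hx))) (mem_zpowers x)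
    rcases c.irr _ inf_le_left hn hxn with h | h
    · exact absurd (mem_bot.mp (h ▸ (⟨hTV ht, le_centralizer_iff.mp (inf_le_right : H ≤ _) ht⟩ :
        t ∈ V ⊓ centralizer (H : Set S)))) ht1
    · exact le_centralizer_iff.mp (inf_eq_left.mp h))
  have hx2 : ¬ H.map (MulAut.conj (x * x)).toMonoidHom ≤ H := fun h => hxH (by
    obtain ⟨k, hk⟩ := hxodd
    have hm : (x * x) ^ (k + 1) ∈ normalizer (H : Set S) := pow_mem (map_eq_of_le h) _
    rwa [← pow_two, ← pow_mul, show 2 * (k + 1) = 2 * k + 1 + 1 by omega, pow_succ, ← hk,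
      pow_orderOf_eq_one, one_mul] at hm)
  exfalso
  set T₁ := T.map (MulAut.conj x).toMonoidHom with hT₁
  obtain ⟨hPT₁, hT₁V⟩ := c.fixed_le hTV hPT
  let f : T × T₁ →* W :=
    { toFun := fun q => ⟨⁅x, (q.1 : S) * q.2⁆, c.commW _ (mul_mem (hTV q.1.2) (hT₁V q.2.2))⟩
      map_one' := by ext; simp
      map_mul' := fun a b => Subtype.ext (by
        show ⁅x, ((a.1 : S) * b.1) * ((a.2 : S) * b.2)⁆ = ⁅x, (a.1 : S) * a.2⁆ * ⁅x, (b.1 : S) * b.2⁆
        rw [← c.comm_mul (mul_mem (hTV a.1.2) (hT₁V a.2.2)) (mul_mem (hTV b.1.2) (hT₁V b.2.2))]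
        congr 1
        rw [mul_assoc, mul_assoc, ← mul_assoc (b.1 : S), setLike_mul_comm (hTV b.1.2) (hT₁V a.2.2),
          mul_assoc (a.2 : S)]) }
  have hf : Function.Injective f := by
    refine (injective_iff_map_eq_one f).mpr ?_
    rintro ⟨⟨a, ha⟩, ⟨b, hb⟩⟩ h
    have hab : x * (a * b) = (a * b) * x :=
      commutatorElement_eq_one_iff_mul_comm.mp (congrArg Subtype.val h)
    set u := x * b * x⁻¹ with hu
    have hu' : u = a * (b * (x * a * x⁻¹)⁻¹) := by
      have h1 : (x * a * x⁻¹) * u = a * b := by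
        calc (x * a * x⁻¹) * u = x * (a * b) * x⁻¹ := by rw [hu]; group
          _ = a * b := by rw [hab, mul_inv_cancel_right]
      calc u = (x * a * x⁻¹)⁻¹ * ((x * a * x⁻¹) * u) := by group
        _ = (x * a * x⁻¹)⁻¹ * (a * b) := by rw [h1]
        _ = (a * b) * (x * a * x⁻¹)⁻¹ := setLike_mul_comm
          (inv_mem (Coprime.conj_mem_of_mem_normalizer c.xV (hTV ha)))
          (mul_mem (hTV ha) (hT₁V hb))
        _ = _ := by group
    set b' := b * (x * a * x⁻¹)⁻¹ with hb'
    have hb'T : b' ∈ T₁ := mul_mem hb (inv_mem ⟨a, ha, by simp⟩)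
    have ha1 : a = 1 := by
      by_contra ha1
      refine hx2 ?_
      rintro _ ⟨g, hg, rfl⟩
      set g' := x * x * g * (x * x)⁻¹ with hg'
      show g' ∈ H
      have hgP : g' ∈ P := Coprime.conj_mem_of_mem_normalizer
        (mul_mem c.xP c.xP) hg.1
      rw [← hTle a ha ha1]
      refine ⟨hgP, mem_centralizer_singleton_iff.mpr ?_⟩
      have hfixu : g' * u = u * g' := by
        obtain ⟨b₀, hb₀, rfl⟩ := hb
        have h2 := mem_centralizer_iff.mp hg.2 b₀ hb₀
        rw [hu, hg']
        simp only [MulEquiv.coe_toMonoidHom, MulAut.conj_apply]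
        calc x * x * g * (x * x)⁻¹ * (x * (x * b₀ * x⁻¹) * x⁻¹) = x * x * (g * b₀) * (x * x)⁻¹ := by group
          _ = x * x * (b₀ * g) * (x * x)⁻¹ := by rw [h2]
          _ = _ := by group
      have h3 : a⁻¹ * (g' * a * g'⁻¹) = b' * (g' * b' * g'⁻¹)⁻¹ := by
        rw [hu'] at hfixu
        have e : (g' * a * g'⁻¹) * (g' * b' * g'⁻¹) = a * b' := by
          calc (g' * a * g'⁻¹) * (g' * b' * g'⁻¹) = g' * (a * b') * g'⁻¹ := by group
            _ = a * b' := by rw [hfixu, mul_inv_cancel_right]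
        calc a⁻¹ * (g' * a * g'⁻¹)
            = a⁻¹ * ((g' * a * g'⁻¹) * (g' * b' * g'⁻¹)) * (g' * b' * g'⁻¹)⁻¹ := by group
          _ = a⁻¹ * (a * b') * (g' * b' * g'⁻¹)⁻¹ := by rw [e]
          _ = _ := by group
      have h4 : a⁻¹ * (g' * a * g'⁻¹) ∈ T ⊓ T₁ := by
        refine ⟨T.mul_mem (T.inv_mem ha) (Coprime.conj_mem_of_mem_normalizer (hPT hgP) ha), ?_⟩
        rw [h3]
        exact T₁.mul_mem hb'T (T₁.inv_mem (Coprime.conj_mem_of_mem_normalizer (hPT₁ hgP) hb'T))
      rw [hmove, mem_bot, inv_mul_eq_one, eq_mul_inv_iff_mul_eq] at h4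
      exact h4.symm
    subst ha1
    have hb1 : b = 1 := by
      have h2 : u = b := by rw [hu', hb']; group
      have h5 : x⁻¹ * b * x ∈ T := by
        obtain ⟨b₀, hb₀, rfl⟩ := hb
        simp only [MulEquiv.coe_toMonoidHom, MulAut.conj_apply]
        rwa [show x⁻¹ * (x * b₀ * x⁻¹) * x = b₀ by group]
      have h6 : x⁻¹ * b * x = b := by
        conv_lhs => rw [← h2, hu]
        group
      rw [h6] at h5
      rw [← mem_bot, ← hmove]
      exact ⟨h5, hb⟩
    subst hb1
    rfl
  have hcard := Nat.card_le_card_of_injective f hf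
  have hT₁c : Nat.card T₁ = Nat.card T :=
    (Nat.card_congr (T.equivMapOfInjective _ (MulAut.conj x).injective).toEquiv).symm
  rw [Nat.card_prod, hT₁c, c.cardW] at hcard
  refine hPTc (le_centralizer_of_small (p := 3) hP hPT ?_)
  by_contra h
  nlinarith

end

/-- A group normalized by a `3`-element whose commutator with an abelian group of exponent `2`
has order `4` centralizes that commutator up to index `p`. -/
theorem relIndex_centralizer_le {M P W : Subgroup S} {x : S} [IsMulCommutative M]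
    (hMexp : ∀ m ∈ M, m ^ 2 = 1) (hPM : P ≤ normalizer (M : Set S)) (hxM : x ∈ normalizer (M : Set S))
    (hxP : x ∈ normalizer (P : Set S)) (hodd : Odd (Nat.card ↥(P ⊔ zpowers x)))
    (hW : ⁅zpowers x, M⁆ = W) (hW4 : Nat.card W = 4) {p : ℕ} [hp : Fact p.Prime] (hP : IsPGroup p P)
    (hcase : 3 < p ∨ (p = 3 ∧ IsMulCommutative P ∧ ∀ a ∈ P, a ^ 3 = 1)) :
    (centralizer (W : Set S)).relIndex P ≤ p := by
  set G₀ := P ⊔ zpowers x with hG₀
  have hxG : x ∈ G₀ := mem_sup_right (mem_zpowers x)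
  have hGM : G₀ ≤ normalizer (M : Set S) := sup_le hPM (zpowers_le.mpr hxM)
  have hM2 : IsPGroup 2 M := fun m => ⟨1, Subtype.ext (by simpa using hMexp m m.2)⟩
  have hcop : ∀ A : Subgroup S, A ≤ G₀ → (Nat.card A).Coprime (Nat.card M) := fun A hA => by
    haveI : Fact (Nat.Prime 2) := ⟨Nat.prime_two⟩
    obtain ⟨n, hn⟩ := hM2.exists_card_eq
    rw [hn]
    refine Nat.Coprime.pow_right n (Nat.coprime_two_right.mpr ?_)
    exact Odd.of_dvd_nat hodd (card_dvd_of_le hA)
  have hxodd : Odd (orderOf x) := by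
    refine Odd.of_dvd_nat hodd ?_
    rw [← Subgroup.orderOf_mk x hxG]
    exact orderOf_dvd_natCard _
  have hWM : W ≤ M := hW ▸ commutator_le.mpr fun a ha m hm => by
    rw [commutatorElement_def]
    exact mul_mem (Coprime.conj_mem_of_mem_normalizer (zpowers_le.mpr hxM ha) hm) (inv_mem hm)
  set conjs := {y : S | ∃ g ∈ G₀, y = g * x * g⁻¹} with hconjs
  set X := closure conjs with hX
  have hXG : X ≤ G₀ := (closure_le _).mpr (by
    rintro _ ⟨g, hg, rfl⟩; exact mul_mem (mul_mem hg hxG) (inv_mem hg))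
  have hGX : G₀ ≤ normalizer (X : Set S) := Coprime.le_normalizer_of_conj_mem fun g hg y hy => by
    induction hy using closure_induction with
    | mem y hy =>
      obtain ⟨h, hh, rfl⟩ := hy
      exact subset_closure ⟨g * h, mul_mem hg hh, by group⟩
    | one => simp
    | mul a b _ _ ha hb => rw [show g * (a * b) * g⁻¹ = (g * a * g⁻¹) * (g * b * g⁻¹) by group]; exact mul_mem ha hb
    | inv a _ ha => rw [show g * a⁻¹ * g⁻¹ = (g * a * g⁻¹)⁻¹ by group]; exact inv_mem ha
  have hWC : W ≤ ⁅M, X⁆ := by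
    rw [← hW, commutator_comm]
    exact commutator_mono le_rfl (zpowers_le.mpr (subset_closure ⟨1, one_mem _, by group⟩))
  set V := closure {y : S | ∃ g ∈ G₀, ∃ w ∈ W, y = g * w * g⁻¹} with hV
  have hWV : W ≤ V := fun w hw => subset_closure ⟨1, one_mem _, w, hw, by group⟩
  have hVle : ∀ U : Subgroup S, W ≤ U → G₀ ≤ normalizer (U : Set S) → V ≤ U := fun U hWU hn =>
    (closure_le _).mpr (by
      rintro _ ⟨g, hg, w, hw, rfl⟩
      exact Coprime.conj_mem_of_mem_normalizer (hn hg) (hWU hw))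
  have hVC : V ≤ ⁅M, X⁆ := hVle _ hWC (OddLocal43.normalizes_commutator hGM hGX)
  have hVM : V ≤ M := hVle M hWM hGM
  have hGV : G₀ ≤ normalizer (V : Set S) := Coprime.le_normalizer_of_conj_mem fun g hg y hy => by
    induction hy using closure_induction with
    | mem y hy =>
      obtain ⟨h, hh, w, hw, rfl⟩ := hy
      exact subset_closure ⟨g * h, mul_mem hg hh, w, hw, by group⟩
    | one => simp
    | mul a b _ _ ha hb => rw [show g * (a * b) * g⁻¹ = (g * a * g⁻¹) * (g * b * g⁻¹) by group]; exact mul_mem ha hb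
    | inv a _ ha => rw [show g * a⁻¹ * g⁻¹ = (g * a * g⁻¹)⁻¹ by group]; exact inv_mem ha
  have hcM : ∀ m ∈ M, ⁅x, m⁆ ∈ W := fun m hm => hW ▸ commutator_mem_commutator (mem_zpowers x) hm
  have hfpf : ∀ w ∈ W, x * w = w * x → w = 1 := by
    intro w hw h
    have h1 : w ∈ ⁅M, zpowers x⁆ ⊓ centralizer ((zpowers x : Subgroup S) : Set S) := by
      refine ⟨by rw [commutator_comm, hW]; exact hw, mem_centralizer_iff.mpr ?_⟩
      rintro _ ⟨n, rfl⟩
      exact ((show Commute x w from h).zpow_left n).eq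
    rwa [Coprime.commutator_inf_centralizer_eq_bot (zpowers x) M (zpowers_le.mpr hxM)
      (hcop _ (zpowers_le.mpr hxG)), mem_bot] at h1
  have c : Config P W V x :=
    { comm := ⟨⟨fun a b => Subtype.ext (setLike_mul_comm (hVM a.2) (hVM b.2))⟩⟩
      exp := fun v hv => hMexp v (hVM hv)
      normP := le_sup_left.trans hGV
      xP := hxP
      xV := hGV hxG
      WV := hWV
      cardW := hW4
      fpf := hfpf
      commW := fun v hv => hcM v (hVM hv)
      irr := by
        intro U hU hPU hxU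
        have hGU : G₀ ≤ normalizer (U : Set S) := sup_le hPU (zpowers_le.mpr hxU)
        by_cases h : ∀ u ∈ U, ⁅x, u⁆ = 1
        · left
          refine le_bot_iff.mp ?_
          rw [← Coprime.commutator_inf_centralizer_eq_bot X M (hXG.trans hGM) (hcop X hXG)]
          refine le_inf (hU.trans hVC) (le_centralizer_iff.mp ((closure_le _).mpr ?_))
          rintro _ ⟨g, hg, rfl⟩
          refine mem_centralizer_iff.mpr fun u hu => ?_
          have h1 : x * (g⁻¹ * u * g) = (g⁻¹ * u * g) * x := commutatorElement_eq_one_iff_mul_comm.mp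
            (h _ (Coprime.conj_mem_of_mem_normalizer' (hGU hg) hu))
          calc u * (g * x * g⁻¹) = g * ((g⁻¹ * u * g) * x) * g⁻¹ := by group
            _ = g * (x * (g⁻¹ * u * g)) * g⁻¹ := by rw [h1]
            _ = _ := by group
        · right
          push Not at h
          obtain ⟨u, hu, hu1⟩ := h
          refine le_antisymm hU (hVle U ?_ hGU)
          set w₀ := ⁅x, u⁆ with hw₀
          have hw₀W : w₀ ∈ W := hcM u (hVM (hU hu))
          have hw₀U : w₀ ∈ U := by
            rw [hw₀, commutatorElement_def]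
            exact mul_mem (Coprime.conj_mem_of_mem_normalizer hxU hu) (inv_mem hu)
          set w₁ := x * w₀ * x⁻¹ with hw₁
          have hw₁U : w₁ ∈ U := Coprime.conj_mem_of_mem_normalizer hxU hw₀U
          have hw₁W : w₁ ∈ W := by
            have : w₁ = ⁅x, w₀⁆ * w₀ := by rw [commutatorElement_def, inv_mul_cancel_right]
            rw [this]
            exact mul_mem (hcM _ (hWM hw₀W)) hw₀W
          have hne : w₁ ≠ w₀ := fun h => hu1 (hfpf w₀ hw₀W (mul_inv_eq_iff_eq_mul.mp h))
          have hle : 3 ≤ Nat.card (U ⊓ W : Subgroup S) := by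
            let f : Fin 3 → (U ⊓ W : Subgroup S) :=
              ![1, ⟨w₀, hw₀U, hw₀W⟩, ⟨w₁, hw₁U, hw₁W⟩]
            have hf : Function.Injective f := by
              have h0 : w₁ ≠ 1 := fun h => hu1 (by
                have := h
                rwa [hw₁, conj_eq_one_iff] at this)
              have h0' : w₀ ≠ 1 := hu1
              intro i j hij
              have hij' : ((f i : (U ⊓ W : Subgroup S)) : S) = ((f j : (U ⊓ W : Subgroup S)) : S) :=
                congrArg Subtype.val hij
              clear_value w₀ w₁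
              fin_cases i <;> fin_cases j <;> first
                | rfl
                | exact absurd hij' h0'
                | exact absurd hij' h0'.symm
                | exact absurd hij' h0
                | exact absurd hij' h0.symm
                | exact absurd hij' hne
                | exact absurd hij' hne.symm
            simpa using Nat.card_le_card_of_injective f hf
          have hd : Nat.card (U ⊓ W : Subgroup S) ∣ 4 := hW4 ▸ card_dvd_of_le inf_le_right
          have h4 : Nat.card (U ⊓ W : Subgroup S) = 4 := by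
            have := Nat.le_of_dvd (by norm_num) hd
            interval_cases hc : Nat.card (U ⊓ W : Subgroup S) <;> simp_all
          exact inf_eq_right.mp (Subgroup.eq_of_le_of_card_ge inf_le_right (by rw [h4, hW4])) }
  have hle : (centralizer (W : Set S)).relIndex P ∣ (centralizer (V : Set S)).relIndex P :=
    relIndex_dvd_of_le_left P (centralizer_le hWV)
  refine (Nat.le_of_dvd (Nat.pos_of_ne_zero (by exact index_ne_zero_of_finite)) hle).trans ?_
  rcases hcase with h | ⟨rfl, h1, h2⟩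
  · exact c.relIndex_le_of_gt h hP
  · exact c.relIndex_le_three hxodd h2

/-- An elementary abelian subgroup of order `r³` with noncyclic centralizer of the commutator. -/
theorem exists_cube_stmt [Group.IsSolvable S] (M : Subgroup S) [M.Normal]
    (hM : Cfsg.IsElementaryAbelian 2 M)
    (p : ℕ) (hp : p.Prime) (hp2 : p ≠ 2) (E : Subgroup S) (hE : Cfsg.IsElementaryAbelian p E)
    (hE3 : Nat.card ↥E = p ^ 3) (Q : Subgroup S) (hQc : IsCyclic ↥Q) (hQ3 : IsPGroup 3 ↥Q)
    (hQM : Nat.card ↥⁅Q, M⁆ = 4) :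
    ∃ (r : ℕ) (F : Subgroup S), r.Prime ∧ r ≠ 2 ∧ Cfsg.IsElementaryAbelian r F ∧
      Nat.card ↥F = r ^ 3 ∧
      ¬ IsCyclic ↥(F ⊓ centralizer ((⁅Q, M⁆ : Subgroup S) : Set S)) := by
  haveI := hM.1
  haveI : Fact p.Prime := ⟨hp⟩
  haveI : Fact (Nat.Prime 3) := ⟨Nat.prime_three⟩
  obtain ⟨⟨x, hx⟩, hgen⟩ := hQc.exists_generator
  have hQx : Q = zpowers x := le_antisymm (fun y hy => by
    obtain ⟨n, hn⟩ := hgen ⟨y, hy⟩
    exact ⟨n, congrArg Subtype.val hn⟩) (zpowers_le.mpr hx)
  set W := ⁅Q, M⁆ with hW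
  have htop : ∀ H : Subgroup S, H ≤ normalizer (M : Set S) := fun H =>
    le_top.trans_eq (normalizer_eq_top _).symm
  -- a Hall subgroup of odd order
  obtain ⟨K, hK, -, hQK⟩ := Coprime.exists_invariant_hall_ge (Nat.card (⊤ : Subgroup S)) S ⊥ ⊤ Q
    bot_le (by simp) inferInstance rfl le_top bot_le {r : ℕ | r ≠ 2}
    (fun r hr hd => by
      obtain ⟨n, hn⟩ := hQ3.exists_card_eq
      rw [hn] at hd
      show r ≠ 2
      rintro rfl
      exact absurd (Nat.prime_two.dvd_of_dvd_pow hd) (by norm_num))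
  obtain ⟨K', hK', -, hEK'⟩ := Coprime.exists_invariant_hall_ge (Nat.card (⊤ : Subgroup S)) S ⊥ ⊤ E
    bot_le (by simp) inferInstance rfl le_top bot_le {r : ℕ | r ≠ 2}
    (fun r hr hd => by
      rw [hE3] at hd
      show r ≠ 2
      rw [(Nat.prime_dvd_prime_iff_eq hr hp).mp (hr.dvd_of_dvd_pow hd)]
      exact hp2)
  obtain ⟨g, -, hg⟩ := Coprime.exists_isPiHallOf_conj inferInstance hK' hK
  have hKodd : Odd (Nat.card K) := by
    rw [← Nat.not_even_iff_odd, even_iff_two_dvd]
    exact fun h => hK.2.1 2 Nat.prime_two h rfl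
  haveI hKs : Group.IsSolvable K := Coprime.solvable_of_le (le_top : K ≤ ⊤) inferInstance
  set E' := E.map (MulAut.conj g).toMonoidHom with hE'
  have hE'K : E' ≤ K := hg ▸ map_mono hEK'
  have hE'c : Nat.card E' = p ^ 3 :=
    (Nat.card_congr (E.equivMapOfInjective _ (MulAut.conj g).injective).toEquiv).symm.trans hE3
  haveI := hE.1
  have hE'e : Cfsg.IsElementaryAbelian p E' := by
    refine ⟨inferInstanceAs (IsMulCommutative (E.map (MulAut.conj g).toMonoidHom)), ?_⟩
    rintro _ ⟨a, ha, rfl⟩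
    rw [← map_pow, hE.2 a ha, map_one]
  -- from a subgroup `F₀` of order at least `r³`
  have hfin : ∀ (r : ℕ) [Fact r.Prime] (F₀ : Subgroup S), r ≠ 2 → Cfsg.IsElementaryAbelian r F₀ →
      r ^ 3 ≤ Nat.card F₀ → (centralizer (W : Set S)).relIndex F₀ ≤ r →
      ∃ (r : ℕ) (F : Subgroup S), r.Prime ∧ r ≠ 2 ∧ Cfsg.IsElementaryAbelian r F ∧
        Nat.card ↥F = r ^ 3 ∧ ¬ IsCyclic ↥(F ⊓ centralizer (W : Set S)) := by
    intro r hr F₀ hr2 hF hcard hidx
    have hF0 : IsPGroup r F₀ := fun a => ⟨1, Subtype.ext (by simpa using hF.2 a a.2)⟩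
    set D := centralizer (W : Set S) ⊓ F₀ with hD
    have hDc : r ^ 2 ≤ Nat.card D := by
      have h := card_mul_index (D.subgroupOf F₀)
      rw [Nat.card_congr (subgroupOfEquivOfLe inf_le_right).toEquiv] at h
      have h2 : (D.subgroupOf F₀).index ≤ r := by
        show D.relIndex F₀ ≤ r
        rw [hD, inf_relIndex_right]; exact hidx
      nlinarith [hr.out.pos]
    have hDp : IsPGroup r D := hF0.to_le inf_le_right
    obtain ⟨n, hn⟩ := hF0.exists_card_eq
    obtain ⟨m, hm⟩ := hDp.exists_card_eq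
    have hm2 : 2 ≤ m := (Nat.pow_le_pow_iff_right hr.out.one_lt).mp (hm ▸ hDc)
    obtain ⟨D₂, hD₂le, hD₂⟩ : ∃ D₂ : Subgroup S, D₂ ≤ D ∧ Nat.card D₂ = r ^ 2 := by
      obtain ⟨K₂, hK₂⟩ := Sylow.exists_subgroup_card_pow_prime r
        (G := D) (n := 2) (by rw [hm]; exact pow_dvd_pow r hm2)
      exact ⟨K₂.map D.subtype, map_subtype_le _,
        (Nat.card_congr (K₂.equivMapOfInjective _ D.subtype_injective).toEquiv).symm.trans hK₂⟩
    obtain ⟨F', hF', hF'D⟩ := Sylow.exists_subgroup_card_pow_prime_le r (G := F₀) (n := 2) (m := 3)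
      (by rw [hn]; exact pow_dvd_pow r ((Nat.pow_le_pow_iff_right hr.out.one_lt).mp (hn ▸ hcard)))
      (D₂.subgroupOf F₀)
      ((Nat.card_congr (subgroupOfEquivOfLe (hD₂le.trans inf_le_right)).toEquiv).trans hD₂)
      (by norm_num)
    set F := F'.map F₀.subtype with hFdef
    have hFle : F ≤ F₀ := map_subtype_le _
    haveI := hF.1
    refine ⟨r, F, hr.out, hr2, ⟨⟨⟨fun a b => Subtype.ext (setLike_mul_comm (hFle a.2) (hFle b.2))⟩⟩, fun a ha => hF.2 a (hFle ha)⟩,
      (Nat.card_congr (F'.equivMapOfInjective _ F₀.subtype_injective).toEquiv).symm.trans hF', ?_⟩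
    intro hcyc
    have hDF : D₂ ≤ F ⊓ centralizer (W : Set S) := fun d hd =>
      ⟨⟨⟨d, (hD₂le hd).2⟩, hF'D hd, rfl⟩, (hD₂le hd).1⟩
    obtain ⟨e, he⟩ := hcyc.exists_generator
    have h1 : Nat.card ↥(F ⊓ centralizer (W : Set S) : Subgroup S) ≤ r := by
      rw [← orderOf_eq_card_of_forall_mem_zpowers he]
      exact orderOf_le_of_pow_eq_one hr.out.pos (Subtype.ext (hF.2 e (hFle e.2.1)))
    have h2 := card_le_of_le hDF
    rw [hD₂] at h2
    nlinarith [hr.out.two_le]
  by_cases hrank : PRankLE 3 2 K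
  swap
  · -- a normal elementary abelian subgroup of order at least `27`
    obtain ⟨T₀, hT₀⟩ := (hQ3.of_equiv (subgroupOfEquivOfLe hQK).symm :
      IsPGroup 3 (Q.subgroupOf K)).exists_le_sylow
    have hT : ¬ PRankLE 3 2 T₀ := by
      intro h
      refine hrank fun A hA hAp => ?_
      have hAP : IsPGroup 3 A := fun a => ⟨1, Subtype.ext (by simpa using hAp a a.2)⟩
      obtain ⟨T₁, hT₁⟩ := hAP.exists_le_sylow
      obtain ⟨k, hk⟩ := MulAction.exists_smul_eq K T₁ T₀
      have hAT : A.map (MulAut.conj k).toMonoidHom ≤ (T₀ : Subgroup K) := by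
        rw [← hk]; exact map_mono hT₁
      haveI := hA
      haveI : IsMulCommutative ↥((A.map (MulAut.conj k).toMonoidHom).subgroupOf (T₀ : Subgroup K)) :=
        inferInstance
      have h2 := h ((A.map (MulAut.conj k).toMonoidHom).subgroupOf (T₀ : Subgroup K)) inferInstance
        (by
          rintro a ⟨b, hb, hba⟩
          refine Subtype.ext ?_
          push_cast
          show ((T₀ : Subgroup K).subtype a) ^ 3 = 1
          rw [← hba, MulEquiv.coe_toMonoidHom, ← map_pow, hAp b hb, map_one])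
      rwa [Nat.card_congr (subgroupOfEquivOfLe hAT).toEquiv,
        ← Nat.card_congr (A.equivMapOfInjective _ (MulAut.conj k).injective).toEquiv] at h2
    obtain ⟨B, hBn, hBe, hBc, -⟩ :=
      OddLocal44.exists_normal_elementary_cube T₀.isPGroup' (by norm_num) hT
    set F₀ := (B.map (T₀ : Subgroup K).subtype).map K.subtype with hF₀
    haveI := hBe.1
    have hF₀e : Cfsg.IsElementaryAbelian 3 F₀ := by
      refine ⟨inferInstanceAs (IsMulCommutative ((B.map (T₀ : Subgroup K).subtype).map K.subtype)), ?_⟩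
      rintro _ ⟨_, ⟨a, ha, rfl⟩, rfl⟩
      rw [← map_pow, ← map_pow, hBe.2 a ha, map_one, map_one]
    refine hfin 3 F₀ (by norm_num) hF₀e ?_ ?_
    · rwa [hF₀, ← Nat.card_congr ((B.map _).equivMapOfInjective _ K.subtype_injective).toEquiv,
        ← Nat.card_congr (B.equivMapOfInjective _ (Subgroup.subtype_injective _)).toEquiv]
    have hxT : (⟨x, hQK hx⟩ : K) ∈ (T₀ : Subgroup K) := hT₀ hx
    have hxF : x ∈ normalizer (F₀ : Set S) := by
      refine map_eq_of_le ?_
      rintro _ ⟨_, ⟨_, ⟨a, ha, rfl⟩, rfl⟩, rfl⟩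
      exact ⟨_, ⟨_, hBn.conj_mem a ha ⟨_, hxT⟩, rfl⟩, rfl⟩
    haveI := hF₀e.1
    refine relIndex_centralizer_le (M := M) (x := x) hM.2 (htop _) (htop ⊤ (mem_top x)) hxF ?_
      (by rw [← hQx]) hQM (fun a => ⟨1, Subtype.ext (by simpa using hF₀e.2 a a.2)⟩)
      (Or.inr ⟨rfl, hF₀e.1, hF₀e.2⟩)
    exact Odd.of_dvd_nat hKodd (card_dvd_of_le (sup_le (map_subtype_le _) (zpowers_le.mpr (hQK hx))))
  · -- a normal `3`-complement
    haveI := hE'e.1
    have hp3 : p ≠ 3 := by
      rintro rfl
      have := hrank (E'.subgroupOf K) inferInstance (fun a ha => Subtype.ext (by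
        simpa using hE'e.2 a ha))
      rw [Nat.card_congr (subgroupOfEquivOfLe hE'K).toEquiv, hE'c] at this
      norm_num at this
    have h3K : 3 ∣ Nat.card K := by
      refine dvd_trans ?_ (card_dvd_of_le hQK)
      obtain ⟨n, hn⟩ := hQ3.exists_card_eq
      rw [hn]
      refine dvd_pow_self 3 fun h => ?_
      rw [h, pow_zero] at hn
      have hbot : W = ⊥ := by
        rw [hW, Subgroup.eq_bot_of_card_eq Q hn]
        exact commutator_bot_left M
      rw [hbot, card_bot] at hQM
      norm_num at hQM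
    obtain ⟨P₃, N, hNn, hNc⟩ := (S1450.result hKodd 3 h3K hrank).2.1 (Or.inl rfl)
    have hNidx : ∃ n, N.index = 3 ^ n := by
      rw [hNc.symm.index_eq_card]
      exact P₃.isPGroup'.exists_card_eq
    obtain ⟨n, hn⟩ := hNidx
    have h3N : ¬ 3 ∣ Nat.card N := by
      rw [← hNc.index_eq_card]
      exact P₃.not_dvd_index
    set N' := N.map K.subtype with hN'
    have hE'N : E' ≤ N' := by
      intro a ha
      refine ⟨⟨a, hE'K ha⟩, ?_, rfl⟩
      have h1 : (⟨a, hE'K ha⟩ : K) ^ N.index ∈ N := pow_index_mem N _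
      have h2 : (⟨a, hE'K ha⟩ : K) ^ p = 1 := Subtype.ext (hE'e.2 a ha)
      have hco : N.index.Coprime (orderOf (⟨a, hE'K ha⟩ : K)) := by
        rw [hn]
        exact ((Nat.coprime_primes Nat.prime_three hp).mpr hp3.symm).pow_left n |>.coprime_dvd_right
          (orderOf_dvd_of_pow_eq_one h2)
      obtain ⟨m, hm⟩ := exists_pow_eq_self_of_coprime hco
      rw [← hm]
      exact pow_mem h1 m
    have hQN : Q ≤ normalizer (N' : Set S) := fun q hq =>
      N.le_normalizer_map K.subtype ⟨⟨q, hQK hq⟩, by rw [normalizer_eq_top]; trivial, rfl⟩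
    have hcop : (Nat.card Q).Coprime (Nat.card N') := by
      obtain ⟨i, hi⟩ := hQ3.exists_card_eq
      rw [hi, ← Nat.card_congr (N.equivMapOfInjective _ K.subtype_injective).toEquiv]
      exact (Nat.prime_three.coprime_iff_not_dvd.mpr h3N).pow_left i
    obtain ⟨P, hP⟩ := Coprime.exists_invariant_sylow Q N' hQN hcop
      (Or.inl (Coprime.isSolvable_of_isNilpotent' hQ3.isNilpotent)) p
    have hE'P : IsPGroup p (E'.subgroupOf N') :=
      fun a => ⟨1, Subtype.ext (Subtype.ext (by simpa using hE'e.2 _ a.2))⟩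
    obtain ⟨P', hP'⟩ := hE'P.exists_le_sylow
    obtain ⟨k, hk⟩ := MulAction.exists_smul_eq N' P' P
    set E'' := E'.map (MulAut.conj (k : S)).toMonoidHom with hE''
    set PS := (P : Subgroup N').map N'.subtype with hPS
    have hE''P : E'' ≤ PS := by
      rintro _ ⟨a, ha, rfl⟩
      refine ⟨k * ⟨a, hE'N ha⟩ * k⁻¹, ?_, by simp⟩
      rw [← hk]
      exact ⟨⟨a, hE'N ha⟩, hP' ha, rfl⟩
    have hE''e : Cfsg.IsElementaryAbelian p E'' := by
      refine ⟨inferInstanceAs (IsMulCommutative (E'.map (MulAut.conj (k : S)).toMonoidHom)), ?_⟩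
      rintro _ ⟨a, ha, rfl⟩
      rw [← map_pow, hE'e.2 a ha, map_one]
    refine hfin p E'' hp2 hE''e
      ((Nat.card_congr (E'.equivMapOfInjective _ (MulAut.conj (k : S)).injective).toEquiv).symm.trans hE'c).ge ?_
    have hp4 : 3 < p := by
      have := hp.two_le
      omega
    have hle := relIndex_centralizer_le (M := M) (x := x) (W := W) hM.2 (htop PS)
      (htop ⊤ (mem_top x)) (hP hx) (Odd.of_dvd_nat hKodd (card_dvd_of_le (sup_le
        ((map_subtype_le _).trans (map_subtype_le _)) (zpowers_le.mpr (hQK hx)))))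
      (by rw [← hQx]) hQM (P.isPGroup'.map N'.subtype) (Or.inl hp4)
    exact le_trans (relIndex_le_of_le_right hE''P (by exact index_ne_zero_of_finite)) hle

end Cfsg.Agent.FourComm
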