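import Cfsg.Statements.S5134
import Cfsg.Agent.Fusion91.Basic
import Cfsg.Agent.Fusion92.Congruence
-- import your own Cfsg.Agent.* helpers here

set_option autoImplicit false
open Cfsg Cfsg.FusionSystem

namespace Cfsg.Agent.S5134

/-- Let F be a saturated fusion system over a finite p-group S, S₀ a subgroup strongly closed in F, and E the factor system of F modulo S₀ read through θ (a homomorphism on S with kernel S₀ and image the group of E). Then θ is a surjective morphism of fusion systems from F onto E: in particular every map of F, and not only the maps whose source contains S₀, induces along θ a map of E. -/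
theorem result {Ω : Type*} [Group Ω] {S : Subgroup Ω} [Finite S] (p : ℕ) [Fact p.Prime] (hS : IsPGroup p S) (F : Cfsg.FusionSystem S) (hF : F.IsSaturated p) (S₀ : Subgroup Ω) (hS₀ : F.StronglyClosed S₀) {Ω' : Type*} [Group Ω'] {S' : Subgroup Ω'} (θ : S →* Ω') (E : Cfsg.FusionSystem S') (hE : F.IsFactorSystem S₀ θ E) : F.IsSurjectiveMorphism E θ := by
  obtain ⟨h₀, hker, hr, hiff⟩ := hE
  refine ⟨⟨fun s => hr ▸ ⟨s, rfl⟩, fun P φ hφ => ?_⟩, hr, fun P' hP' φ' hφ' => ((hiff P' φ').mp hφ').2⟩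
  have hP := Fusion91.dom_le F hφ
  have hv : ∀ x : P, φ x ∈ S := Fusion91.val_mem F hφ
  let a : P →* imageAlong θ P := MonoidHom.codRestrict (θ.comp (Subgroup.inclusion hP)) _
    fun x => Fusion91.mem_imageAlong.mpr ⟨⟨x, hP x.2⟩, x.2, rfl⟩
  let b : P →* Ω' := θ.comp (φ.codRestrict S hv)
  have ha : Function.Surjective a := by
    rintro ⟨y, hy⟩
    obtain ⟨s, hs, rfl⟩ := Fusion91.mem_imageAlong.mp hy
    exact ⟨⟨s, hs⟩, Subtype.ext rfl⟩
  have hab : a.ker ≤ b.ker := by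
    intro x hx
    have h1 : θ ⟨x, hP x.2⟩ = 1 := congrArg Subtype.val (MonoidHom.mem_ker.mp hx)
    exact MonoidHom.mem_ker.mpr
      ((hker ⟨φ x, hv x⟩).mpr (Fusion91.strongClosed_map_mem hS₀ hφ ((hker _).mp h1)))
  let φ' : imageAlong θ P →* Ω' := a.liftOfSurjective ha ⟨b, hab⟩
  have hl : ∀ x, φ' (a x) = b x := fun x =>
    a.liftOfRightInverse_comp_apply _ _ ⟨b, hab⟩ x
  refine ⟨φ', ?_, hP, hv, fun x => (a x).2, hl⟩
  obtain ⟨f', hf', hfm⟩ := Fusion92.exists_map_mod hS hF hS₀ (Fusion.isMap_extFun hφ)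
  have hpre : preimageAlong θ (imageAlong θ P) = P ⊔ S₀ := by
    ext z
    rw [Fusion91.mem_preimageAlong]
    constructor
    · rintro ⟨hz, hz'⟩
      obtain ⟨s, hs, he⟩ := Fusion91.mem_imageAlong.mp hz'
      have h1 : (s : Ω)⁻¹ * z ∈ S₀ := by
        refine (hker (s⁻¹ * ⟨z, hz⟩)).mp ?_
        rw [map_mul, map_inv, he, inv_mul_cancel]
      rw [show z = s * ((s : Ω)⁻¹ * z) by group]
      exact mul_mem (le_sup_left (b := S₀) hs) (le_sup_right (a := P) h1)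
    · intro hz
      obtain ⟨x, hx, t, ht, rfl⟩ := Fusion92.mem_sup_closed hS₀ hP hz
      refine ⟨S.mul_mem (hP hx) (h₀ ht), ?_⟩
      have h1 : θ ⟨t, h₀ ht⟩ = 1 := (hker _).mpr ht
      rw [show (⟨x * t, S.mul_mem (hP hx) (h₀ ht)⟩ : S) = ⟨x, hP hx⟩ * ⟨t, h₀ ht⟩ from rfl,
        map_mul, h1, mul_one]
      exact Fusion91.mem_imageAlong.mpr ⟨⟨x, hP hx⟩, hx, rfl⟩
  rw [← hpre] at hf'
  obtain ⟨ψ, hψ, hψf⟩ := hf'
  refine (hiff _ _).mpr ⟨?_, ψ, hψ, Fusion91.preimageAlong_le θ _, Fusion91.val_mem F hψ,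
    fun z => (Fusion91.mem_preimageAlong.mp z.2).2, ?_⟩
  · intro y hy
    obtain ⟨s, -, rfl⟩ := Fusion91.mem_imageAlong.mp hy
    exact hr ▸ ⟨s, rfl⟩
  rintro ⟨z, hz⟩
  have hz' : z ∈ P ⊔ S₀ := hpre ▸ hz
  obtain ⟨x, hx, t, ht, rfl⟩ := Fusion92.mem_sup_closed hS₀ hP hz'
  have h1 : θ ⟨t, h₀ ht⟩ = 1 := (hker _).mpr ht
  have h2 : (φ ⟨x, hx⟩)⁻¹ * f' (x * t) ∈ S₀ := by
    have hxp : x ∈ preimageAlong θ (imageAlong θ P) := hpre.ge (le_sup_left (b := S₀) hx)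
    have htp : t ∈ preimageAlong θ (imageAlong θ P) := hpre.ge (le_sup_right (a := P) ht)
    have hm : Fusion.IsMap F (preimageAlong θ (imageAlong θ P)) f' := ⟨ψ, hψ, hψf⟩
    rw [hm.map_mul hxp htp, ← mul_assoc]
    refine S₀.mul_mem ?_ (Fusion92.closed_apply hS₀ hm htp ht)
    have := hfm x hx
    rwa [Fusion.extFun_of_mem φ hx] at this
  have h3 : θ ⟨ψ ⟨x * t, hz⟩, Fusion91.val_mem F hψ _⟩ = b ⟨x, hx⟩ := by
    have h4 : (φ ⟨x, hx⟩)⁻¹ * ψ ⟨x * t, hz⟩ ∈ S₀ := by rwa [hψf]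
    have := (hker ((⟨φ ⟨x, hx⟩, hv _⟩ : S)⁻¹ * ⟨ψ ⟨x * t, hz⟩, Fusion91.val_mem F hψ _⟩)).mpr h4
    rw [map_mul, map_inv, inv_mul_eq_one] at this
    exact this.symm
  rw [h3, ← hl]
  refine congrArg φ' (Subtype.ext ?_)
  show θ ⟨x * t, _⟩ = θ ⟨x, _⟩
  rw [show (⟨x * t, Fusion91.preimageAlong_le θ _ hz⟩ : S) = ⟨x, hP hx⟩ * ⟨t, h₀ ht⟩ from rfl,
    map_mul, h1, mul_one]

end Cfsg.Agent.S5134
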