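import Cfsg.Statements.S1949
import Cfsg.Agent.T51.CriticalAut

set_option autoImplicit false
open Cfsg
open scoped commutatorElement

namespace Cfsg.Agent.S1949

/-- Let P be a finite p-group and G a group of automorphisms of P containing the inner automorphisms. Then there is a G-invariant subgroup D of P, contained in the subgroup generated by the elements x⁻¹α(x) with x in P and α in O^p(G), of exponent dividing p when p is odd and dividing 4 when p = 2, with [D, P] ≤ Z(D), such that every automorphism in G of order prime to p that fixes D elementwise is the identity; moreover every maximal abelian subgroup A of D is normal in P and every automorphism in G fixing A elementwise has p-power order. -/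
theorem result {P : Type*} [Group P] [Finite P] {p : ℕ} [Fact p.Prime] (hP : IsPGroup p P)
    (G : Subgroup (MulAut P)) (hG : Cfsg.Inn P ≤ G) :
    ∃ D : Subgroup P,
      (∀ α ∈ G, D.map α.toMonoidHom = D) ∧
      D ≤ Subgroup.closure {y : P | ∃ α ∈ Cfsg.pResidual p ↥G, ∃ x : P, y = x⁻¹ * (α : MulAut P) x} ∧
      (∀ d ∈ D, d ^ p = 1 ∨ (p = 2 ∧ d ^ 4 = 1)) ∧
      ⁅D, (⊤ : Subgroup P)⁆ ≤ D ⊓ Subgroup.centralizer (D : Set P) ∧
      (∀ α ∈ G, (orderOf α).Coprime p → (∀ d ∈ D, α d = d) → α = 1) ∧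
      ∀ A : Subgroup P, A ≤ D → IsMulCommutative ↥A →
        (∀ B : Subgroup P, A ≤ B → B ≤ D → IsMulCommutative ↥B → B = A) →
        A.Normal ∧ ∀ α ∈ G, (∀ a ∈ A, α a = a) → ∃ k : ℕ, orderOf α = p ^ k := by
  classical
  obtain ⟨H, hHc, hHcen, hHpow, hHcomm⟩ := Fus93.exists_critical hP
  have hHn : H.Normal := Subgroup.normal_of_characteristic H
  have hHinv : ∀ (φ : MulAut P), ∀ x ∈ H, φ x ∈ H := fun φ x hx =>
    Subgroup.characteristic_iff_le_comap.mp hHc φ hx
  let C := Subgroup.centralizer (H : Set P)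
  let gens : Set P := {y | ∃ α ∈ Cfsg.pResidual p ↥G, ∃ x ∈ H, y = x⁻¹ * (α : MulAut P) x}
  let E := Subgroup.closure gens
  have hEH : E ≤ H := by
    rw [Subgroup.closure_le]
    rintro _ ⟨α, -, x, hx, rfl⟩
    exact mul_mem (inv_mem hx) (hHinv _ x hx)
  have hres : ∀ (β : G), ∀ α ∈ Cfsg.pResidual p ↥G, β * α * β⁻¹ ∈ Cfsg.pResidual p ↥G := by
    intro β α hα
    refine (Subgroup.closure_le (K := (Cfsg.pResidual p ↥G).comap (MulAut.conj β).toMonoidHom)).mpr ?_ hα
    intro a ha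
    refine Subgroup.subset_closure ?_
    show (orderOf (β * a * β⁻¹)).Coprime p
    have e : orderOf (β * a * β⁻¹) = orderOf a := orderOf_injective (MulAut.conj β).toMonoidHom (MulAut.conj β).injective a
    rw [e]; exact ha
  have hEinv : ∀ β ∈ G, ∀ e ∈ E, β e ∈ E := by
    intro β hβ e he
    refine (Subgroup.closure_le (K := E.comap β.toMonoidHom)).mpr ?_ he
    rintro _ ⟨α, hα, x, hx, rfl⟩
    refine Subgroup.subset_closure ⟨⟨β, hβ⟩ * α * ⟨β, hβ⟩⁻¹, hres _ α hα, β x, hHinv β x hx, ?_⟩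
    show β (x⁻¹ * (α : MulAut P) x) = (β x)⁻¹ * β ((α : MulAut P) (β⁻¹ (β x)))
    rw [map_mul, map_inv, MulAut.inv_apply_self]
  -- class two in `H`
  have hcH : ∀ a ∈ H, ∀ b ∈ H, ⁅a, b⁆ ∈ C := by
    intro a ha b hb
    have h := hHcomm a⁻¹ (inv_mem ha) b
    simpa [commutatorElement_def, mul_assoc] using h
  have hcpow : ∀ a ∈ H, ∀ b ∈ H, ⁅a, b⁆ ^ p = 1 := by
    intro a ha b hb
    have key : ∀ n : ℕ, ⁅a ^ n, b⁆ = ⁅a, b⁆ ^ n := by
      intro n
      induction n with
      | zero => simp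
      | succ n ih =>
        have e : ⁅a ^ (n + 1), b⁆ = a * ⁅a ^ n, b⁆ * a⁻¹ * ⁅a, b⁆ := by
          rw [pow_succ']; simp only [commutatorElement_def]; group
        rw [e, ih, Subgroup.mem_centralizer_iff.mp (C.pow_mem (hcH a ha b hb) n) a ha, mul_inv_cancel_right,
          ← pow_succ]
    rw [← key, commutatorElement_eq_one_iff_mul_comm]
    exact (Subgroup.mem_centralizer_iff.mp (hHpow a ha) b hb).symm
  have hsmul : ∀ a ∈ H, ∀ b ∈ H, T51.IsSmall p a → T51.IsSmall p b → T51.IsSmall p (a * b) := by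
    intro a ha b hb h1 h2
    have hba := hcH b hb a ha
    have hform := PGroup.mul_pow_of_commute_commutator (a := a) (b := b)
      (Subgroup.mem_centralizer_iff.mp hba a ha).symm (Subgroup.mem_centralizer_iff.mp hba b hb).symm
    by_cases hp2 : p = 2
    · subst hp2
      refine Or.inr ⟨rfl, ?_⟩
      have four : ∀ c : P, T51.IsSmall 2 c → c ^ 4 = 1 := fun c hc => by
        rcases hc with h | ⟨-, h⟩
        · rw [show (4 : ℕ) = 2 * 2 from rfl, pow_mul, h, one_pow]
        · exact h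
      rw [hform, four a h1, four b h2, show Nat.choose 4 2 = 2 * 3 by decide, pow_mul, hcpow b hb a ha]
      simp
    · refine Or.inl ?_
      rw [hform, h1.resolve_right fun h => hp2 h.1, h2.resolve_right fun h => hp2 h.1]
      obtain ⟨j, hj⟩ := (Fact.out : p.Prime).dvd_choose_self two_ne_zero
        (lt_of_le_of_ne (Fact.out : p.Prime).two_le (Ne.symm hp2))
      rw [hj, pow_mul, hcpow b hb a ha]
      simp
  let D : Subgroup P :=
    { carrier := {x | x ∈ E ∧ T51.IsSmall p x}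
      one_mem' := ⟨E.one_mem, Or.inl (one_pow p)⟩
      mul_mem' := fun {a b} ha hb => ⟨mul_mem ha.1 hb.1, hsmul a (hEH ha.1) b (hEH hb.1) ha.2 hb.2⟩
      inv_mem' := fun {a} ha => ⟨inv_mem ha.1, ha.2.imp (fun h => by rw [inv_pow, h, inv_one])
        (fun h => ⟨h.1, by rw [inv_pow, h.2, inv_one]⟩)⟩ }
  have hDinv : ∀ β ∈ G, ∀ d ∈ D, β d ∈ D := fun β hβ d hd => ⟨hEinv β hβ d hd.1,
    hd.2.imp (fun h => by rw [← map_pow, h, map_one]) (fun h => ⟨h.1, by rw [← map_pow, h.2, map_one]⟩)⟩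
  have hfaith : ∀ α ∈ G, (orderOf α).Coprime p → (∀ d ∈ D, α d = d) → α = 1 := by
    intro α hα hco hfix
    have hfE := T51.fix_of_small hP hco E (hEinv α hα) fun e he hs => hfix e ⟨he, hs⟩
    have hαres : (⟨α, hα⟩ : G) ∈ Cfsg.pResidual p ↥G := Subgroup.subset_closure (by
      show (orderOf (⟨α, hα⟩ : G)).Coprime p
      rw [Subgroup.orderOf_mk]; exact hco)
    have hfH : ∀ x ∈ H, α x = x := fun x hx =>
      T51.fix_of_fixed_move hP hco (hfE _ (Subgroup.subset_closure ⟨_, hαres, x, hx, rfl⟩))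
    refine MulEquiv.ext fun g => T51.fix_of_fixed_move hP hco (hfH _ (hHcen ?_))
    rw [Subgroup.mem_centralizer_iff]
    intro x hx
    have h4 := hfH _ (hHn.conj_mem x hx g)
    rw [map_mul, map_mul, map_inv, hfH x hx] at h4
    calc x * (g⁻¹ * α g) = g⁻¹ * (g * x * g⁻¹) * α g := by group
      _ = g⁻¹ * (α g * x * (α g)⁻¹) * α g := by rw [h4]
      _ = g⁻¹ * α g * x := by group
  have hnorm : ∀ (g : P), ∀ d ∈ D, g * d * g⁻¹ ∈ D := fun g d hd =>
    hDinv (MulAut.conj g) (hG ⟨g, rfl⟩) d hd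
  refine ⟨D, fun α hα => Subgroup.eq_of_le_of_card_ge ?_ (le_of_eq (Subgroup.card_map_of_injective
    (f := α.toMonoidHom) α.injective).symm), fun d hd => ?_, fun d hd => hd.2, ?_, hfaith, ?_⟩
  · rintro _ ⟨d, hd, rfl⟩; exact hDinv α hα d hd
  · refine Subgroup.closure_mono ?_ hd.1
    rintro _ ⟨α, hα, x, -, rfl⟩
    exact ⟨α, hα, x, rfl⟩
  · rw [Subgroup.commutator_le]
    intro d hd g _
    have h1 : d * (g * d⁻¹ * g⁻¹) ∈ D := mul_mem hd (hnorm g _ (inv_mem hd))
    have h2 : d * (g * d⁻¹ * g⁻¹) ∈ C := by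
      have h := hHcomm d⁻¹ (inv_mem (hEH hd.1)) g
      rwa [inv_inv] at h
    refine Subgroup.mem_inf.mpr ⟨?_, Subgroup.mem_centralizer_iff.mpr fun y hy => ?_⟩
    · rw [commutatorElement_def]; simpa [mul_assoc] using h1
    · rw [commutatorElement_def, show d * g * d⁻¹ * g⁻¹ = d * (g * d⁻¹ * g⁻¹) by group]
      exact Subgroup.mem_centralizer_iff.mp h2 y (hEH hy.1)
  intro A hAD hAab hmax
  have hAc : ∀ a ∈ A, ∀ b ∈ A, a * b = b * a := fun a ha b hb =>
    congrArg Subtype.val (hAab.is_comm.comm (⟨a, ha⟩ : A) ⟨b, hb⟩)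
  have hadd : ∀ c ∈ D, (∀ a ∈ A, a * c = c * a) → c ∈ A := by
    intro c hc hcc
    have := hmax (Subgroup.closure (insert c (A : Set P))) (fun a ha => Subgroup.subset_closure (Or.inr ha))
      (by rw [Subgroup.closure_le]; exact Set.insert_subset hc hAD) (Subgroup.isMulCommutative_closure (by
        rintro x (rfl | hx) y (rfl | hy)
        exacts [rfl, (hcc y hy).symm, hcc x hx, hAc x hx y hy]))
    exact this ▸ Subgroup.subset_closure (Or.inl rfl)
  refine ⟨⟨fun a ha g => ?_⟩, ?_⟩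
  · have h1 : a⁻¹ * (g * a * g⁻¹) ∈ A := hadd _ (mul_mem (inv_mem (hAD ha)) (hnorm g a (hAD ha))) fun b hb =>
      Subgroup.mem_centralizer_iff.mp (hHcomm a (hEH (hAD ha).1) g) b (hEH (hAD hb).1)
    simpa using mul_mem ha h1
  · intro α hα hfixA
    have hne : orderOf α ≠ 0 := (orderOf_pos α).ne'
    set k := (orderOf α).factorization p with hk
    refine ⟨k, ?_⟩
    set β := α ^ p ^ k with hβ
    have hco : (orderOf β).Coprime p := by
      rw [hβ, orderOf_pow' α (pow_ne_zero k (Fact.out : p.Prime).ne_zero),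
        Nat.gcd_eq_right (Nat.ordProj_dvd _ _)]
      exact (Nat.coprime_ordCompl (Fact.out : p.Prime) hne).symm
    have hβG : β ∈ G := G.pow_mem hα _
    have hβA : ∀ a ∈ A, β a = a := fun a ha => by
      rw [hβ]
      generalize p ^ k = n
      induction n with
      | zero => simp
      | succ n ih => rw [pow_succ, MulAut.mul_apply, hfixA a ha, ih]
    have hβD : ∀ d ∈ D, β d = d := fun d hd => by
      refine T51.fix_of_fixed_move hP hco (hβA _ (hadd _ (mul_mem (inv_mem hd) (hDinv β hβG d hd)) fun a ha => ?_))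
      have hn : d * a * d⁻¹ ∈ A := by
        have h1 : a⁻¹ * (d * a * d⁻¹) ∈ A := hadd _ (mul_mem (inv_mem (hAD ha)) (hnorm d a (hAD ha))) fun b hb =>
          Subgroup.mem_centralizer_iff.mp (hHcomm a (hEH (hAD ha).1) d) b (hEH (hAD hb).1)
        simpa using mul_mem ha h1
      have h4 := hβA _ hn
      rw [map_mul, map_mul, map_inv, hβA a ha] at h4
      calc a * (d⁻¹ * β d) = d⁻¹ * (d * a * d⁻¹) * β d := by group
        _ = d⁻¹ * (β d * a * (β d)⁻¹) * β d := by rw [h4]
        _ = d⁻¹ * β d * a := by group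
    have hβ1 := hfaith β hβG hco hβD
    obtain ⟨j, hj, hje⟩ := (Nat.dvd_prime_pow Fact.out).mp (orderOf_dvd_of_pow_eq_one (hβ ▸ hβ1 : α ^ p ^ k = 1))
    have : j = k := le_antisymm hj (by
      rw [hk, hje, Nat.Prime.factorization_pow Fact.out, Finsupp.single_eq_same])
    rw [hje, this]

end Cfsg.Agent.S1949
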