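import Cfsg.Statements.S5139
import Cfsg.Agent.Fusion91.PPower
import Cfsg.Agent.Fus93.GroupNormal
-- import your own Cfsg.Agent.* helpers here

set_option autoImplicit false
open Cfsg

namespace Cfsg.Agent.S5139

theorem aux {G : Type*} [Group G] [Finite G] {p : ℕ} [Fact p.Prime] (S : Sylow p G) {T : Subgroup G}
    (hT : T = (S : Subgroup G) ⊓ Cfsg.pResidual p G) (E : Cfsg.FusionSystem T) (hE : E.IsSaturated p)
    (hi : E.HasPPowerIndexIn (Cfsg.groupFusionSystem (S : Subgroup G)) p) (P : Subgroup G) :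
    E.Hom P = (Cfsg.fusionSystemOfSubgroup (Cfsg.pResidual p G)
      ((S : Subgroup G) ⊓ Cfsg.pResidual p G) inf_le_right).Hom P := by
  subst hT
  have hn := Fus93.normalSubgroup_isNormalIn (S := S) (H := Cfsg.pResidual p G)
  refine Fusion91.hom_eq_of_pPower (S.isPGroup'.to_le inf_le_left) hE hn.1.1 hi
    ⟨hn.1.2.2.1, (Fusion.hyperfocal_eq S).le, fun Q hQ => ?_⟩ P
  rintro _ ⟨α, hα, rfl⟩
  obtain ⟨g, hg, hge⟩ := Fusion.residual_aut_group S (hQ.trans inf_le_left) α hα
  refine Fusion.autGroup_mem_of_isMap (Fus93.isMap_sub_iff.mpr ⟨hQ, fun x hx => ?_, g, hg, fun x hx => ?_⟩)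
  · rw [Fusion.autFun_of_mem _ hx]
    exact hQ (Subtype.mem _)
  · rw [Fusion.autFun_of_mem _ hx]
    exact hge ⟨x, hx⟩

/-- Let G be a finite group with Sylow p-subgroup S and O^p(G) the subgroup generated by the elements of order prime to p. Then the p-residual subsystem of the fusion system of G on S — the saturated subsystem of p-power index over the hyperfocal subgroup — is the fusion system of O^p(G) on S ∩ O^p(G): its maps are exactly the conjugation maps by elements of O^p(G) between subgroups of S ∩ O^p(G). -/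
theorem result {G : Type*} [Group G] [Finite G] (p : ℕ) [Fact p.Prime] (S : Sylow p G) (E : Cfsg.FusionSystem ((Cfsg.groupFusionSystem (S : Subgroup G)).hyperfocalSubgroup p)) (hE : (Cfsg.groupFusionSystem (S : Subgroup G)).IsPResidual p E) : ∃ h : (S : Subgroup G) ⊓ Cfsg.pResidual p G ≤ Cfsg.pResidual p G, ∀ P : Subgroup G, E.Hom P = (Cfsg.fusionSystemOfSubgroup (Cfsg.pResidual p G) ((S : Subgroup G) ⊓ Cfsg.pResidual p G) h).Hom P := by
  exact ⟨inf_le_right, aux S (Fusion.hyperfocal_eq S) E hE.1 hE.2⟩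

end Cfsg.Agent.S5139
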