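import Cfsg.Statements.S5336
import Cfsg.Agent.Fus93.GroupNormal
import Cfsg.Agent.Lib.Thompson.Cores
set_option autoImplicit false
open Cfsg

namespace Cfsg.Agent.S5336

/-- Let G be a finite group with Sylow p-subgroup S whose fusion system F_S(G) is simple. If G has no nontrivial normal subgroup of order prime to p and no proper subgroup H containing S induces the same fusion system on S as G does, then G is a simple group. -/
theorem result {G : Type*} [Group G] [Finite G] (p : ℕ) [Fact p.Prime] (S : Sylow p G) (hsimple : (Cfsg.groupFusionSystem (S : Subgroup G)).IsSimple p) (hcore : Cfsg.pPrimeCore p G = ⊥) (hmin : ∀ (H : Subgroup G) (hSH : (S : Subgroup G) ≤ H), H ≠ ⊤ → ∃ P : Subgroup G, (Cfsg.fusionSystemOfSubgroup H (S : Subgroup G) hSH).Hom P ≠ (Cfsg.groupFusionSystem (S : Subgroup G)).Hom P) : IsSimpleGroup G := by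
  haveI : Nontrivial G := by
    obtain ⟨x, -, hx⟩ := (S : Subgroup G).bot_or_exists_ne_one.resolve_left hsimple.2.1
    exact ⟨x, 1, hx⟩
  refine ⟨fun N hN => ?_⟩
  haveI := hN
  rcases hsimple.2.2 _ _ (Fus93.normalSubgroup_isNormalIn S N) with hT | ⟨hT, hE⟩
  · refine Or.inl (eq_bot_iff.mpr ?_)
    rw [← hcore]
    refine le_sSup ⟨hN, ?_⟩
    obtain ⟨T, hTe⟩ := Fus93.exists_sylow_inf S N
    rw [hT, Subgroup.bot_subgroupOf] at hTe
    refine ((Fact.out : p.Prime).coprime_iff_not_dvd.mpr fun hd => ?_).symm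
    obtain ⟨c, hc⟩ := exists_prime_orderOf_dvd_card' p hd
    obtain ⟨Q, hQ⟩ := (IsPGroup.of_card (G := Subgroup.zpowers c) (n := 1)
      (by rw [Nat.card_zpowers, hc, pow_one])).exists_le_sylow
    obtain ⟨g, hg⟩ := MulAction.exists_smul_eq N Q T
    have hQb : (Q : Subgroup N) = ⊥ := by
      apply Subgroup.eq_bot_of_card_eq
      rw [← Subgroup.card_bot (G := N), ← hTe, ← hg]
      rw [Q.card_eq_multiplicity, (g • Q).card_eq_multiplicity]
    have h1 : c = 1 := by
      have := hQ (Subgroup.mem_zpowers c)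
      rwa [hQb, Subgroup.mem_bot] at this
    rw [h1, orderOf_one] at hc
    exact (Fact.out : p.Prime).one_lt.ne hc
  · refine Or.inr (Classical.byContradiction fun hne => ?_)
    have hSN : (S : Subgroup G) ≤ N := hT ▸ inf_le_right
    obtain ⟨P, hP⟩ := hmin N hSN hne
    refine hP ?_
    rw [← hE P]
    ext φ
    constructor
    · rintro ⟨h1, h2, h3⟩
      exact ⟨le_inf h1 (h1.trans hSN), fun x => ⟨h2 x, hSN (h2 x)⟩, h3⟩
    · rintro ⟨h1, h2, h3⟩
      exact ⟨h1.trans inf_le_left, fun x => (h2 x).1, h3⟩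

end Cfsg.Agent.S5336
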