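import Cfsg.Statements.S5343
import Cfsg.Agent.S5336
import Cfsg.Agent.Lib.Thompson.Cores
set_option autoImplicit false
universe u
open Cfsg

namespace Cfsg.Agent.S5343

open Classical in
/-- A realized system is isomorphic to the system of the group on the image. -/
theorem realized_fiso {Ω : Type*} [Group Ω] {S : Subgroup Ω} {F : Cfsg.FusionSystem S} {G : Type*} [Group G]
    {ι : ↥S →* G} (hι : F.IsRealizedBy ι) :
    Fus93.FIso F (Cfsg.groupFusionSystem ι.range) (fun x => if h : x ∈ S then ι ⟨x, h⟩ else 1)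
      (fun y => ((Function.invFun ι y : S) : Ω)) where
  map_mul x hx y hy := by
    simp only [dif_pos hx, dif_pos hy, dif_pos (S.mul_mem hx hy)]
    exact ι.map_mul ⟨x, hx⟩ ⟨y, hy⟩
  mem x hx := by simp only [dif_pos hx]; exact ⟨_, rfl⟩
  mem' y _ := (Function.invFun ι y).2
  left x hx := by
    simp only [dif_pos hx]
    exact congrArg Subtype.val (Function.leftInverse_invFun hι.1 ⟨x, hx⟩)
  right y hy := by
    simp only [dif_pos (Function.invFun ι y).2]
    exact Function.invFun_eq hy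
  push P f hf P' hP' := by
    obtain ⟨φ, hφ, hφf⟩ := hf
    obtain ⟨hP, hφS⟩ := F.le_of_mem hφ
    obtain ⟨g, hg⟩ := (hι.2 P hP φ hφS).mp hφ
    have hmem : ∀ y ∈ P', ∃ x : P, ι ⟨x, hP x.2⟩ = y := fun y hy => by
      obtain ⟨x, hx, hxy⟩ : y ∈ (fun x => if h : x ∈ S then ι ⟨x, h⟩ else 1) '' (P : Set Ω) := hP' ▸ hy
      simp only [dif_pos (hP hx)] at hxy
      exact ⟨⟨x, hx⟩, hxy⟩
    have hval : ∀ x : P, ((fun x => if h : x ∈ S then ι ⟨x, h⟩ else 1) ∘ f ∘
        fun y => ((Function.invFun ι y : S) : Ω)) (ι ⟨x, hP x.2⟩) = ι ⟨φ x, hφS x⟩ := fun x => by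
      simp only [Function.comp_apply, Function.leftInverse_invFun hι.1 _, ← hφf, dif_pos (hφS x)]
    refine Fusion.isMap_group_iff.mpr ⟨fun y hy => ?_, fun y hy => ?_, g, fun y hy => ?_⟩
    all_goals obtain ⟨x, rfl⟩ := hmem y hy
    · exact ⟨_, rfl⟩
    · rw [hval x]; exact ⟨_, rfl⟩
    · rw [hval x]; exact hg x
  pull P' f hf P hP := by
    obtain ⟨hP', hv, g, hg⟩ := Fusion.isMap_group_iff.mp hf
    have hmem : ∀ x ∈ P, ∃ y ∈ P', ((Function.invFun ι y : S) : Ω) = x := fun x hx => by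
      have : x ∈ (fun y => ((Function.invFun ι y : S) : Ω)) '' (P' : Set G) := hP ▸ hx
      exact this
    have hPS : P ≤ S := fun x hx => by
      obtain ⟨y, -, rfl⟩ := hmem x hx
      exact (Function.invFun ι y).2
    have hin : ∀ x : P, ι ⟨x, hPS x.2⟩ ∈ P' := fun x => by
      obtain ⟨y, hy, hyx⟩ := hmem x x.2
      rw [show (⟨x, hPS x.2⟩ : S) = Function.invFun ι y from Subtype.ext hyx.symm,
        Function.invFun_eq (hP' hy)]
      exact hy
    have hex : ∀ x : P, ∃ s : S, ι s = g * ι ⟨x, hPS x.2⟩ * g⁻¹ := fun x => by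
      rw [← hg _ (hin x)]
      exact hv _ (hin x)
    choose φ₀ hφ₀ using hex
    let φ : P →* Ω := MonoidHom.mk' (fun x => ((φ₀ x : S) : Ω)) fun x y => by
      rw [← Subgroup.coe_mul]
      congr 1
      refine hι.1 ?_
      rw [map_mul, hφ₀, hφ₀, hφ₀, show (⟨((x * y : P) : Ω), hPS (x * y).2⟩ : S) = ⟨x, hPS x.2⟩ * ⟨y, hPS y.2⟩ from rfl,
        map_mul]
      group
    refine ⟨φ, (hι.2 P hPS φ fun x => (φ₀ x).2).mpr ⟨g, hφ₀⟩, fun x => ?_⟩
    simp only [Function.comp_apply, dif_pos (hPS x.2)]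
    refine congrArg Subtype.val (hι.1 ?_)
    rw [Function.invFun_eq (hv _ (hin x)), hg _ (hin x)]
    exact hφ₀ x

/-- Let F be a simple saturated fusion system over a finite p-group S that is realized by some finite group on a Sylow p-subgroup. Then F is realized by a finite simple group on a Sylow p-subgroup. -/
theorem result {Ω : Type u} [Group Ω] {S : Subgroup Ω} [Finite S] (p : ℕ) [Fact p.Prime] (hS : IsPGroup p S) (F : Cfsg.FusionSystem S) (hsimple : F.IsSimple p) (hreal : F.IsRealizable p) : ∃ (G : Type u) (_ : Group G) (_ : Finite G) (_ : IsSimpleGroup G) (ι : ↥S →* G), F.IsRealizedBy ι ∧ ∃ T : Sylow p G, (T : Subgroup G) = ι.range := by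
  classical
  obtain ⟨G₀, i₁, i₂, ι₀, h₁, h₂⟩ := hreal
  let Pr : ℕ → Prop := fun n => ∃ (G : Type u) (_ : Group G) (_ : Finite G) (ι : ↥S →* G),
    Nat.card G = n ∧ F.IsRealizedBy ι ∧ ∃ T : Sylow p G, (T : Subgroup G) = ι.range
  have hex : ∃ n, Pr n := ⟨_, G₀, i₁, i₂, ι₀, rfl, h₁, h₂⟩
  obtain ⟨G, iG, iF, ι, hcard, hι, T, hT⟩ := Nat.find_spec hex
  refine ⟨G, iG, iF, ?_, ι, hι, T, hT⟩
  have hmin : ∀ (G' : Type u) [Group G'] [Finite G'] (ι' : ↥S →* G'), F.IsRealizedBy ι' →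
      (∃ T : Sylow p G', (T : Subgroup G') = ι'.range) → Nat.card G ≤ Nat.card G' :=
    fun G' i j ι' h3 h4 => hcard ▸ Nat.find_min' hex ⟨G', i, j, ι', rfl, h3, h4⟩
  have hiso := realized_fiso hι
  haveI : Finite ↥(ι.range) := inferInstance
  have hsimple' : (Cfsg.groupFusionSystem (T : Subgroup G)).IsSimple p := by
    rw [hT]
    exact hiso.symm.isSimple hsimple
  refine S5336.result p T hsimple' ?_ ?_
  · -- no normal subgroup of order prime to `p`
    by_contra hK
    set K := Cfsg.pPrimeCore p G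
    haveI : K.Normal := Thompson.sSup_normal fun N hN => hN.1
    have hTK : ∀ s : S, ι s ∈ K → s = 1 := by
      intro s hs
      have : ι s ∈ (T : Subgroup G) ⊓ K := ⟨hT ▸ ⟨s, rfl⟩, hs⟩
      rw [Thompson.inf_eq_bot_of_isPGroup_of_coprime T.isPGroup' Thompson.card_pPrimeCore_coprime,
        Subgroup.mem_bot] at this
      exact hι.1 (this.trans ι.map_one.symm)
    have hlt : Nat.card (G ⧸ K) < Nat.card G := by
      rw [Subgroup.card_eq_card_quotient_mul_card_subgroup K]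
      exact lt_mul_of_one_lt_right Nat.card_pos ((Subgroup.one_lt_card_iff_ne_bot K).mpr hK)
    refine absurd (hmin (G ⧸ K) ((QuotientGroup.mk' K).comp ι) ⟨?_, ?_⟩
      ⟨T.mapSurjective (QuotientGroup.mk'_surjective K), by rw [Sylow.coe_mapSurjective, hT, MonoidHom.range_comp]⟩)
      (Nat.not_le.mpr hlt)
    · intro s t hst
      have h := hTK (s⁻¹ * t) (by rw [map_mul, map_inv]; exact QuotientGroup.eq.mp hst)
      exact inv_mul_eq_one.mp h
    · intro P hP φ hφ
      rw [hι.2 P hP φ hφ]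
      constructor
      · rintro ⟨g, hg⟩
        exact ⟨g, fun x => by simp [hg x]⟩
      · rintro ⟨γ, hγ⟩
        obtain ⟨g, hg⟩ := Fusion91.exists_lift_conj T K ((P.subgroupOf S).map ι)
          (hT ▸ Subgroup.map_le_range _ _) γ (by
            rintro _ ⟨z, hz, rfl⟩
            refine ⟨ι ⟨φ ⟨z, hz⟩, hφ _⟩, hT ▸ ⟨_, rfl⟩, ?_⟩
            exact hγ ⟨z, hz⟩)
        refine ⟨g, fun x => ?_⟩
        have hx := hg (ι ⟨x, hP x.2⟩) ⟨⟨x, hP x.2⟩, x.2, rfl⟩
        have h1 := hx.1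
        rw [hT] at h1
        obtain ⟨s, hs⟩ := h1
        rw [← hs]
        refine congrArg ι (inv_mul_eq_one.mp (hTK _ ?_))
        rw [map_mul, map_inv]
        refine QuotientGroup.eq.mp ?_
        rw [hs, hx.2]
        exact hγ x
  · -- no proper subgroup with the same fusion
    intro H hSH hH
    by_contra hc
    push_neg at hc
    have hlt : Nat.card H < Nat.card G := lt_of_le_of_ne (Nat.card_le_card_of_injective _ H.subtype_injective)
      fun he => hH (Subgroup.eq_top_of_card_eq H he)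
    have hmem : ∀ s, ι s ∈ H := fun s => hSH (hT ▸ ⟨s, rfl⟩)
    refine absurd (hmin H (ι.codRestrict H hmem) ⟨?_, ?_⟩ ⟨T.subtype hSH, ?_⟩) (Nat.not_le.mpr hlt)
    · exact fun s t hst => hι.1 (congrArg Subtype.val hst)
    · intro P hP φ hφ
      rw [hι.2 P hP φ hφ]
      constructor
      · rintro ⟨g, hg⟩
        set P' : Subgroup G := (P.subgroupOf S).map ι
        have hP'T : P' ≤ (T : Subgroup G) := hT ▸ Subgroup.map_le_range _ _
        have hg' : ∀ y ∈ P', g * y * g⁻¹ ∈ (T : Subgroup G) := by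
          rintro _ ⟨z, hz, rfl⟩
          rw [hT]
          exact ⟨_, hg ⟨z, hz⟩⟩
        have h1 : (MulAut.conj g).toMonoidHom.comp P'.subtype ∈ (Cfsg.groupFusionSystem (T : Subgroup G)).Hom P' :=
          ⟨hP'T, fun y => hg' y y.2, g, fun y => rfl⟩
        rw [← hc P'] at h1
        obtain ⟨-, -, h, hh, he⟩ := h1
        refine ⟨⟨h, hh⟩, fun x => Subtype.ext ?_⟩
        exact (hg x).trans (he ⟨_, ⟨⟨x, hP x.2⟩, x.2, rfl⟩⟩)
      · rintro ⟨g, hg⟩
        exact ⟨g, fun x => congrArg Subtype.val (hg x)⟩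
    · rw [Sylow.coe_subtype, hT]
      ext y
      constructor
      · rintro ⟨s, hs⟩
        exact ⟨s, Subtype.ext hs⟩
      · rintro ⟨s, rfl⟩
        exact ⟨s, rfl⟩

end Cfsg.Agent.S5343
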