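import Cfsg.Statements.S2011
import Cfsg.Agent.Lib.Thompson.Cores

set_option autoImplicit false
open Cfsg

namespace Cfsg.Agent.S2011

theorem exists_conj_sup_le {G : Type*} [Group G] [Finite G] {p : ℕ} [Fact p.Prime] (P : Sylow p G)
    {X : Subgroup G} (hX : IsPGroup p X) : ∃ g : G, ∀ v ∈ X, g * v * g⁻¹ ∈ (P : Subgroup G) := by
  obtain ⟨R, hR⟩ := hX.exists_le_sylow
  obtain ⟨g, hg⟩ := MulAction.exists_smul_eq G R P
  refine ⟨g, fun v hv => ?_⟩
  rw [← hg, Sylow.coe_subgroup_smul]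
  exact ⟨v, hR hv, rfl⟩

/-- Let G be a finite group with Sylow p-subgroup P and Q ≤ P. Then Q is centric in the fusion system of G on P (C_P(R) ≤ R for every G-conjugate R of Q lying in P) if and only if C_G(Q) is the internal direct product of Z(Q) = Q ∩ C_G(Q) and the largest normal subgroup of C_G(Q) of order prime to p. -/
theorem result {G : Type*} [Group G] [Finite G] (p : ℕ) [Fact p.Prime] (P : Sylow p G) (Q : Subgroup G) (hQ : Q ≤ P) : (Cfsg.groupFusionSystem (P : Subgroup G)).IsCentric Q ↔ Cfsg.IsInternalDirectProduct (Q ⊓ Subgroup.centralizer (Q : Set G)) ((Cfsg.pPrimeCore p ↥(Subgroup.centralizer (Q : Set G))).map (Subgroup.centralizer (Q : Set G)).subtype) (Subgroup.centralizer (Q : Set G)) := by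
  set C := Subgroup.centralizer (Q : Set G) with hCdef
  set Z := Q ⊓ C with hZdef
  set O := (Cfsg.pPrimeCore p ↥C).map C.subtype with hOdef
  have hcomm : ∀ a ∈ Z, ∀ b ∈ C, a * b = b * a := fun a ha b hb =>
    Subgroup.mem_centralizer_iff.mp hb a ha.1
  have hZp : IsPGroup p Z := (P.2.to_le hQ).to_le inf_le_left
  have hcop : (Nat.card O).Coprime p := by
    rw [hOdef, Subgroup.card_map_of_injective C.subtype_injective]
    exact Cfsg.Agent.Thompson.card_pPrimeCore_coprime
  have hdisj : Z ⊓ O = ⊥ := Cfsg.Agent.Thompson.inf_eq_bot_of_isPGroup_of_coprime hZp hcop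
  constructor
  · rintro ⟨-, hcen⟩
    obtain ⟨T⟩ : Nonempty (Sylow p C) := inferInstance
    have hTC : (T : Subgroup C).map C.subtype ≤ Subgroup.normalizer (Q : Set G) := by
      refine le_trans (Subgroup.map_subtype_le _) fun w hw => Subgroup.mem_normalizer_fintype fun u hu => ?_
      rw [← Subgroup.mem_centralizer_iff.mp hw u hu, mul_inv_cancel_right]; exact hu
    obtain ⟨g, hg⟩ := exists_conj_sup_le P
      ((P.2.to_le hQ).to_sup_of_normal_left' (T.2.map C.subtype) hTC)
    have hconj : (Cfsg.groupFusionSystem (P : Subgroup G)).IsConj Q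
        (Q.map (MulAut.conj g).toMonoidHom) := by
      refine ⟨(MulAut.conj g).toMonoidHom.comp Q.subtype,
        ⟨hQ, fun v => hg v (Subgroup.mem_sup_left v.2), g, fun v => rfl⟩, ?_⟩
      rw [MonoidHom.range_comp, Subgroup.range_subtype]
    have hTQ : ∀ t : C, t ∈ (T : Subgroup C) → (t : G) ∈ Z := by
      intro t ht
      refine ⟨?_, t.2⟩
      have h1 : g * (t : G) * g⁻¹ ∈ Q.map (MulAut.conj g).toMonoidHom := by
        refine hcen _ hconj ⟨hg _ (Subgroup.mem_sup_right ⟨t, ht, rfl⟩), ?_⟩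
        refine Subgroup.mem_centralizer_iff.mpr ?_
        rintro _ ⟨u, hu, rfl⟩
        show g * u * g⁻¹ * (g * (t : G) * g⁻¹) = g * (t : G) * g⁻¹ * (g * u * g⁻¹)
        calc g * u * g⁻¹ * (g * (t : G) * g⁻¹) = g * (u * t) * g⁻¹ := by group
          _ = g * (t * u) * g⁻¹ := by rw [Subgroup.mem_centralizer_iff.mp t.2 u hu]
          _ = _ := by group
      obtain ⟨u, hu, hut⟩ := h1
      have : u = t := (MulAut.conj g).injective (hut.trans rfl)
      exact this ▸ hu
    have hTn : Subgroup.normalizer ((T : Subgroup C) : Set C) ≤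
        Subgroup.centralizer ((T : Subgroup C) : Set C) := fun n _ =>
      Subgroup.mem_centralizer_iff.mpr fun t ht => Subtype.ext (hcomm t (hTQ t ht) n n.2)
    have hcomp := MonoidHom.ker_transferSylow_isComplement' T hTn
    set K := (MonoidHom.transferSylow T hTn).ker with hK
    have hKO : K ≤ Cfsg.pPrimeCore p ↥C := by
      refine Cfsg.Agent.Thompson.le_pPrimeCore (hN := inferInstanceAs K.Normal) ?_
      rw [← hcomp.index_eq_card]
      exact ((Nat.Prime.coprime_iff_not_dvd Fact.out).mpr T.not_dvd_index).symm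
    refine ⟨inf_le_right, Subgroup.map_subtype_le _, fun a ha b hb =>
      hcomm a ha b (Subgroup.map_subtype_le _ hb), hdisj, le_antisymm
        (sup_le inf_le_right (Subgroup.map_subtype_le _)) fun c hc => ?_⟩
    have htop : (⟨c, hc⟩ : C) ∈ (T : Subgroup C) ⊔ K := by
      rw [sup_comm, hcomp.sup_eq_top]; trivial
    obtain ⟨t, ht, k, hk, htk⟩ := Subgroup.mem_sup_of_normal_right.mp htop
    rw [show c = (t : G) * (k : G) from (congrArg Subtype.val htk).symm]
    exact Subgroup.mul_mem_sup (hTQ t ht) ⟨k, hKO hk, rfl⟩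
  · rintro ⟨-, hOC, -, -, hsup⟩
    refine ⟨hQ, fun R hR x hx => ?_⟩
    obtain ⟨φ, ⟨-, -, g, hg⟩, hφR⟩ := hR
    have hRmem : ∀ u ∈ Q, g * u * g⁻¹ ∈ R := fun u hu => hφR ▸ ⟨⟨u, hu⟩, hg ⟨u, hu⟩⟩
    have hyC : g⁻¹ * x * g ∈ C := by
      rw [hCdef, Subgroup.mem_centralizer_iff]
      intro u hu
      have h1 := Subgroup.mem_centralizer_iff.mp hx.2 _ (hRmem u hu)
      calc u * (g⁻¹ * x * g) = g⁻¹ * (g * u * g⁻¹ * x) * g := by group
        _ = g⁻¹ * (x * (g * u * g⁻¹)) * g := by rw [h1]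
        _ = _ := by group
    have hnorm : Z ≤ Subgroup.normalizer (O : Set G) := fun a ha =>
      Subgroup.mem_normalizer_fintype fun o ho => by
        rw [hcomm a ha o (hOC ho), mul_inv_cancel_right]; exact ho
    have hy : g⁻¹ * x * g ∈ (Z : Subgroup G) ⊔ O := hsup.symm ▸ hyC
    rw [← SetLike.mem_coe, Subgroup.coe_mul_of_left_le_normalizer_right Z O hnorm] at hy
    obtain ⟨a, ha, o, ho, hao⟩ := Set.mem_mul.mp hy
    obtain ⟨k, hk⟩ := P.2 ⟨x, hx.1⟩
    have hpow : a ^ p ^ k * o ^ p ^ k = 1 := by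
      rw [← (show Commute a o from hcomm a ha o (hOC ho)).mul_pow, hao,
        show g⁻¹ * x * g = g⁻¹ * x * g⁻¹⁻¹ by group, conj_pow,
        show x ^ p ^ k = 1 from congrArg Subtype.val hk]
      group
    have ho2 : o ^ p ^ k ∈ Z ⊓ O := by
      refine Subgroup.mem_inf.mpr ⟨?_, Subgroup.pow_mem O ho _⟩
      rw [eq_inv_of_mul_eq_one_right hpow]
      exact Subgroup.inv_mem Z (Subgroup.pow_mem Z ha _)
    rw [hdisj, Subgroup.mem_bot] at ho2
    have ho1 : o = 1 := by
      have h3 := Nat.dvd_gcd (orderOf_dvd_of_pow_eq_one ho2) (O.orderOf_dvd_natCard ho)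
      rwa [(hcop.symm.pow_left k).gcd_eq_one, Nat.dvd_one, orderOf_eq_one_iff] at h3
    rw [ho1, mul_one] at hao
    have := hRmem a ha.1
    rwa [hao, show g * (g⁻¹ * x * g) * g⁻¹ = x by group] at this

end Cfsg.Agent.S2011
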