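import Cfsg.Statements.S5290
import Cfsg.Agent.Fus93.Frattini
import Cfsg.Agent.Fus93.Abelian

set_option autoImplicit false
open Cfsg

namespace Cfsg.Agent.S5290

/-- Let F be a saturated fusion system over a finite p-group S and Q a subgroup of S. Then Q is normal in F (F = N_F(Q)) if and only if the inner fusion system of Q, consisting of the conjugations by elements of Q on subgroups of Q, is a weakly normal subsystem of F (both saturated, Q strongly closed, invariant under F-conjugation, with the Frattini property). -/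
theorem result {Ω : Type*} [Group Ω] {S : Subgroup Ω} [Finite S] (p : ℕ) [Fact p.Prime] (hS : IsPGroup p S)
    (F : Cfsg.FusionSystem S) (hF : F.IsSaturated p)
    (Q : Subgroup Ω) (hQ : Q ≤ S) :
    F.IsNormal Q ↔ (Cfsg.innerFusionSystem Q).IsWeaklyNormalIn F p := by
  haveI := Fusion.finite_of_le hQ
  constructor
  · intro hN
    have hsc := Fus93.normal_stronglyClosed hN
    refine ⟨Fus93.inner_isSaturated (hS.of_injective _ (Subgroup.inclusion_injective hQ)), hF,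
      ?_, hsc, fun P hPQ φ hφ α hα => ?_, fun P hPQ φ hφ => ?_⟩
    · rintro P φ ⟨hP, g, hg, he⟩
      exact (Fusion.isMap_conj (hP.trans hQ) (hQ hg)).mem_hom he
    · obtain ⟨hP, g, hg, he⟩ := hφ
      let c : Q := α ⟨g, hg⟩
      let P' := (P.subgroupOf Q).map (Q.subtype.comp α.toMonoidHom)
      refine ⟨conjHom P' c, ⟨?_, c, c.2, fun _ => rfl⟩, fun x hφx hαx => ?_⟩
      · rintro _ ⟨z, -, rfl⟩; exact (α z).2
      · show (c : Ω) * ((α ⟨x, hPQ x.2⟩ : Q) : Ω) * (c : Ω)⁻¹ = _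
        have h1 : (⟨φ x, hφx⟩ : Q) = ⟨g, hg⟩ * ⟨x, hPQ x.2⟩ * ⟨g, hg⟩⁻¹ := Subtype.ext (he x)
        rw [h1, map_mul, map_mul, map_inv]
        rfl
    · obtain ⟨α, hα, he⟩ := Fus93.normal_aut hN (Fusion.isMap_extFun hφ) hPQ
      refine ⟨α, hα, conjHom P 1, ⟨hPQ, 1, one_mem _, fun _ => rfl⟩, fun x hx => ?_⟩
      have h1 := he x x.2
      rw [Fusion.extFun_coe, Fusion.autFun_of_mem α (hPQ x.2)] at h1
      rw [h1]
      exact congrArg (fun z : Q => ((α z : Q) : Ω)) (Subtype.ext (by simp [conjHom]))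
  · rintro ⟨-, -, -, hsc, -, hfr⟩
    refine Fus93.isNormal_of_frattini hS hF hsc fun P f hf hPQ => ?_
    obtain ⟨φ, hφ, hφf⟩ := hf
    obtain ⟨α, -, φ₀, ⟨-, g, hg, he⟩, h⟩ := hfr P hPQ φ hφ
    refine ⟨α * MulAut.conj ⟨g, hg⟩, fun x hx => ?_⟩
    have hm : φ₀ ⟨x, hx⟩ ∈ Q := by
      rw [he]; exact Q.mul_mem (Q.mul_mem hg (hPQ hx)) (Q.inv_mem hg)
    rw [← hφf ⟨x, hx⟩, h ⟨x, hx⟩ hm, Fusion.autFun_of_mem _ (hPQ hx)]
    exact congrArg (fun z : Q => ((α z : Q) : Ω)) (Subtype.ext (he ⟨x, hx⟩))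


end Cfsg.Agent.S5290
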