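import Cfsg.Statements.S5199
import Cfsg.Agent.Lib.Fusion.Hyperfocal

set_option autoImplicit false
open Cfsg

namespace Cfsg.Agent.S5199

/-- Let F be a saturated fusion system over a finite p-group S, E a normal subsystem of F over T, and F₀ a normal subsystem of F over a subgroup U containing both T and the hyperfocal subgroup of F, such that F₀ has p-power index in F. Then E is a subsystem of F₀. -/
theorem result {Ω : Type*} [Group Ω] {S : Subgroup Ω} [Finite S] (p : ℕ) [Fact p.Prime] (hS : IsPGroup p S) (F : Cfsg.FusionSystem S) (hF : F.IsSaturated p) {T U : Subgroup Ω} (E : Cfsg.FusionSystem T) (hE : E.IsNormalIn F p) (F₀ : Cfsg.FusionSystem U) (hF₀ : F₀.IsNormalIn F p) (hU : T ⊔ F.hyperfocalSubgroup p ≤ U) (hidx : F₀.HasPPowerIndexIn F p) : E.IsSubsystemOf F₀ := by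
  open Cfsg.Agent.Fusion in
  have hTU : T ≤ U := le_sup_left.trans hU
  have hTS : T ≤ S := hE.1.2.2.2.1.1
  haveI : Finite T := Cfsg.Agent.Fusion.finite_of_le hTS
  have hTp : IsPGroup p T := hS.to_le hTS
  intro P
  refine Cfsg.Agent.Fusion.hom_subset_of_isMap fun f hf => ?_
  open Cfsg.Agent.Fusion in
  refine alperin_induction_cr hTp hE.1.1 (fun P f => IsMap F₀ P f) (fun _ _ _ h1 h2 => h1.congr h2)
    (fun _ _ _ _ hf _ h1 h2 => h1.comp h2 fun _ hx => hf.mem hx) (fun _ _ _ _ hle h1 => h1.mono hle)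
    (fun Q _ _ hQn g hg => ?_) P f hf
  open Cfsg.Agent.Fusion in
  obtain ⟨α, hα, he⟩ := hg.exists_aut
  open Cfsg.Agent.Fusion in
  obtain ⟨β, hβ, t, ht, hte⟩ := exists_residual_mul_conj hTp hE.1.1 hQn ⟨α, hα⟩
  have hQS : Q ≤ S := hQn.1.trans hTS
  haveI : Finite Q := Cfsg.Agent.Fusion.finite_of_le hQS
  haveI := Cfsg.Agent.Fusion.finite_mulAut Q
  have hsub : E.autGroup Q ≤ F.autGroup Q := Cfsg.Agent.Fusion.autGroup_mono (hE.1.2.2.1 Q)
  have hβ₀ : (β : MulAut Q) ∈ F₀.autGroup Q := by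
    refine hidx.2.2 Q (hQn.1.trans hTU) ⟨Subgroup.inclusion hsub β, ?_, rfl⟩
    have hle : Cfsg.pResidual p (E.autGroup Q) ≤
        (Cfsg.pResidual p (F.autGroup Q)).comap (Subgroup.inclusion hsub) := by
      refine (Subgroup.closure_le _).mpr fun γ hγ => Subgroup.subset_closure ?_
      show (orderOf (Subgroup.inclusion hsub γ)).Coprime p
      rwa [orderOf_injective _ (Subgroup.inclusion_injective hsub)]
    exact hle hβ
  open Cfsg.Agent.Fusion in
  exact ((isMap_conj (F := F₀) (hQn.1.trans hTU) (hTU ht.1)).comp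
    ((mem_autGroup (hQn.1.trans hTU)).mp hβ₀).1
    fun x hx => conj_mem_of_mem_normalizer ht.2 hx).congr fun x hx => (hte x hx).symm.trans (he hx)

end Cfsg.Agent.S5199
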