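import Cfsg.Statements.S5223
import Cfsg.Agent.S5083
import Cfsg.Agent.Fusion92.Basic
import Cfsg.Agent.Lib.Fusion.Criterion

set_option autoImplicit false
open Cfsg

namespace Cfsg.Agent.S5223

open Cfsg.Agent.Fusion

/-- An automorphism of order prime to `p` of a `p`-group with a nilpotent displacement is trivial. -/
theorem fixed_of_iterate {P : Type*} [Group P] {p : ℕ} [Fact p.Prime] (hP : IsPGroup p P)
    (α : MulAut P) (hα : (orderOf α).Coprime p) :
    ∀ (j : ℕ) (x : P), (fun y => y⁻¹ * α y)^[j + 1] x = 1 → α x = x := by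
  intro j
  induction j with
  | zero =>
    intro x hx
    exact (inv_mul_eq_one.mp hx).symm
  | succ j ih =>
    intro x hx
    rw [Function.iterate_succ_apply] at hx
    have hc := ih _ hx
    set c := x⁻¹ * α x with hcdef
    have hx1 : α x = x * c := by simp [hcdef]
    have hpow : ∀ i : ℕ, (α ^ i) x = x * c ^ i := by
      intro i
      induction i with
      | zero => simp
      | succ i hi => rw [pow_succ' α, MulAut.mul_apply, hi, map_mul, map_pow, hc, hx1, mul_assoc,
          ← pow_succ' c]
    have hm := hpow (orderOf α)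
    rw [pow_orderOf_eq_one, MulAut.one_apply, left_eq_mul] at hm
    obtain ⟨k, hk⟩ := hP c
    have h1 : c = 1 := orderOf_eq_one_iff.mp (Nat.eq_one_of_dvd_coprimes (hα.pow_right k)
      (orderOf_dvd_of_pow_eq_one hm) (orderOf_dvd_of_pow_eq_one hk))
    rw [hx1, h1, mul_one]

/-- Let F be a saturated fusion system over a finite p-group S. Suppose there are subgroups Q₀ = S, Q₁, …, Qₙ = 1 (not required to be nested) such that for each i < n the focal subgroup of Qᵢ (generated by the elements x⁻¹φ(x), x ∈ Qᵢ, φ a map of F defined on the cyclic group generated by x) lies in Qᵢ₊₁. Then F is the inner fusion system of S. -/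
theorem result {Ω : Type*} [Group Ω] {S : Subgroup Ω} [Finite S] (p : ℕ) [Fact p.Prime] (hS : IsPGroup p S) (F : Cfsg.FusionSystem S) (hF : F.IsSaturated p) (n : ℕ) (Q : Fin (n + 1) → Subgroup Ω) (hQ0 : Q 0 = S) (hQn : Q (Fin.last n) = ⊥) (hstep : ∀ i : Fin n, Subgroup.closure {y : Ω | ∃ x ∈ Q i.castSucc, ∃ φ ∈ F.Hom (Subgroup.zpowers x), y = x⁻¹ * φ ⟨x, Subgroup.mem_zpowers x⟩} ≤ Q i.succ) : ∀ P : Subgroup Ω, F.Hom P = (Cfsg.innerFusionSystem S).Hom P := by
  have hFeq : F = Cfsg.innerFusionSystem S := by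
    refine Cfsg.Agent.S5083.result p hS F hF fun P hP => ?_
    have hPfin : Finite P := finite_of_le hP
    have := Cfsg.Agent.Fusion92.finite_autGroup F P
    have hPp : IsPGroup p P := hS.to_le hP
    have key : ∀ α ∈ F.autGroup P, (orderOf α).Coprime p → α = 1 := by
      intro α hα hαp
      obtain ⟨hmap, -⟩ := (mem_autGroup hP).mp hα
      set f : P → P := fun y => y⁻¹ * α y with hfdef
      have hstep' : ∀ (i : Fin n) (y : P), (y : Ω) ∈ Q i.castSucc → ((f y : P) : Ω) ∈ Q i.succ := by
        intro i y hy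
        obtain ⟨φ, hφ, hφe⟩ := hmap.mono (Subgroup.zpowers_le.mpr y.2)
        refine hstep i (Subgroup.subset_closure ⟨(y : Ω), hy, φ, hφ, ?_⟩)
        rw [hφe ⟨(y : Ω), Subgroup.mem_zpowers _⟩, autFun_coe]
        rfl
      ext x
      have hit : ∀ (k : ℕ) (hk : k < n + 1), ((f^[k] x : P) : Ω) ∈ Q ⟨k, hk⟩ := by
        intro k
        induction k with
        | zero => intro hk; exact hQ0.symm ▸ hP x.2
        | succ k ih =>
          intro hk
          rw [Function.iterate_succ_apply']
          exact hstep' ⟨k, by omega⟩ _ (ih (by omega))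
      have hend : f^[n] x = 1 := by
        have := hit n (by omega)
        rw [show (⟨n, by omega⟩ : Fin (n + 1)) = Fin.last n from rfl, hQn, Subgroup.mem_bot] at this
        exact Subtype.ext this
      rcases n with _ | n
      · have hx1 : x = 1 := hend
        simp [hx1]
      · rw [fixed_of_iterate hPp α hαp n x hend, MulAut.one_apply]
    refine IsPGroup.iff_orderOf.mpr fun k => ?_
    obtain ⟨a, m, hm, he⟩ := Nat.exists_eq_pow_mul_and_not_dvd (orderOf_pos k).ne' p
      (Fact.out : p.Prime).ne_one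
    refine ⟨a, ?_⟩
    have hk : orderOf (k ^ p ^ a) = m := by
      rw [orderOf_pow_of_dvd (pow_pos (Fact.out : p.Prime).pos a).ne' (he ▸ dvd_mul_right _ _), he,
        Nat.mul_div_cancel_left _ (pow_pos (Fact.out : p.Prime).pos a)]
    have h1 : k ^ p ^ a = 1 := Subtype.ext (key _ (k ^ p ^ a).2 (by
      rw [Subgroup.orderOf_coe, hk]
      exact (((Fact.out : p.Prime).coprime_iff_not_dvd).mpr hm).symm))
    rw [h1, orderOf_one] at hk
    rw [he, ← hk, mul_one]
  intro P
  rw [hFeq]

end Cfsg.Agent.S5223
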