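import Cfsg.Agent.Fusion92.InducedAut
import Cfsg.Agent.Fusion91.Basic
import Cfsg.Statements.S5256
-- import your own Cfsg.Agent.* helpers here

set_option autoImplicit false
open Cfsg

namespace Cfsg.Agent.S5256

open Cfsg.Agent

/-- Let F be a saturated fusion system over a finite p-group S, T a subgroup of S strongly closed in F, and E a factor system F/T realised along a homomorphism θ of S with kernel T. Then the hyperfocal subgroup of E is the image under θ of the hyperfocal subgroup of F (hyp(F/T) = T·hyp(F)/T). -/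
theorem result {Ω : Type*} [Group Ω] {S : Subgroup Ω} [Finite S] (p : ℕ) [Fact p.Prime] (hS : IsPGroup p S) (F : Cfsg.FusionSystem S) (hF : F.IsSaturated p) (T : Subgroup Ω) (hT : F.StronglyClosed T) {Ω' : Type*} [Group Ω'] {S' : Subgroup Ω'} (θ : ↥S →* Ω') (E : Cfsg.FusionSystem S') (hE : F.IsFactorSystem T θ E) : E.hyperfocalSubgroup p = ((F.hyperfocalSubgroup p).subgroupOf S).map θ := by
  obtain ⟨hTS, hker, hr, hHom⟩ := hE
  have : Finite S' := hr ▸ Finite.of_surjective θ.rangeRestrict θ.rangeRestrict_surjective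
  have hPre : ∀ {P' : Subgroup Ω'} {x : Ω}, x ∈ Cfsg.FusionSystem.preimageAlong θ P' ↔
      ∃ h : x ∈ S, θ ⟨x, h⟩ ∈ P' := Fusion91.mem_preimageAlong
  apply le_antisymm
  · refine (Subgroup.closure_le _).mpr ?_
    rintro y ⟨P', α', x', hP', hα', rfl⟩
    have : Finite P' := Fusion.finite_of_le hP'
    have : Finite (E.autGroup P') := Fusion92.finite_autGroup E P'
    set H := ((F.hyperfocalSubgroup p).subgroupOf S).map θ with hHdef
    revert x'
    refine Fusion92.pResidual_induction (p := p) (fun a : ↥(E.autGroup P') =>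
      ∀ x : ↥P', (x : Ω')⁻¹ * (((a : MulAut ↥P') x : ↥P') : Ω') ∈ H) ?_ ?_ ?_ hα'
    · intro x
      simp only [Subgroup.coe_one, MulAut.one_apply, inv_mul_cancel]
      exact H.one_mem
    · intro a ha x
      rw [← Subgroup.orderOf_coe] at ha
      obtain ⟨-, φ, hφ, hM, hφS, hi, hφe⟩ := (hHom P' _).mp ((Fusion.mem_autGroup_iff_hom hP').mp a.2)
      let M := Cfsg.FusionSystem.preimageAlong θ P'
      have hMS : M ≤ S := Fusion91.preimageAlong_le θ P'
      have hin : ∀ z ∈ M, Fusion.extFun φ z ∈ M := by
        intro z hz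
        rw [Fusion.extFun_of_mem φ hz]
        refine hPre.mpr ⟨hφS _, ?_⟩
        rw [← hφe ⟨z, hz⟩]
        exact SetLike.coe_mem _
      have hφi : Fusion.IsIso F M M (Fusion.extFun φ) := ⟨Fusion.isMap_extFun hφ, Set.ext fun w =>
        ⟨fun ⟨u, hu, he⟩ => he ▸ hin u hu, fun hw => Fusion.surjOn_of_card_le hMS
          (Fusion.isMap_extFun hφ).injOn hin le_rfl w hw⟩⟩
      obtain ⟨β, hβ, hβe⟩ := hφi.exists_aut
      let θM : ↥M →* ↥P' := ((θ.comp (Subgroup.inclusion hM))).codRestrict P' hi
      have hrel : ∀ z, θM (β z) = (a : MulAut ↥P') (θM z) := by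
        intro z
        apply Subtype.ext
        have h1 : (((a : MulAut ↥P') (θM z) : ↥P') : Ω') = θ ⟨φ z, hφS z⟩ := hφe z
        rw [h1]
        refine congrArg θ (Subtype.ext ?_)
        show ((β z : ↥M) : Ω) = φ z
        rw [← Fusion.autFun_coe β, hβe z.2, Fusion.extFun_coe]
      have hpow : ∀ (k : ℕ) z, θM ((β ^ k) z) = ((a : MulAut ↥P') ^ k) (θM z) := by
        intro k
        induction k with
        | zero => intro z; rfl
        | succ k ih =>
          intro z
          rw [pow_succ', pow_succ', MulAut.mul_apply, MulAut.mul_apply, hrel, ih]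
      have : Finite ↥M := Fusion.finite_of_le hMS
      have : Finite (MulAut ↥M) := Fusion.finite_mulAut _
      obtain ⟨n, hn⟩ := Fusion92.exists_coprime_power (p := p) β
      obtain ⟨m, hm⟩ := exists_pow_eq_self_of_coprime (x := (a : MulAut ↥P')) (n := p ^ n)
        (Nat.Coprime.pow_left n ha.symm)
      obtain ⟨s, hs⟩ : ∃ s, θ s = x := by
        have hxS : (x : Ω') ∈ θ.range := hr ▸ hP' x.2
        exact hxS
      let z : ↥M := ⟨s, hPre.mpr ⟨s.2, hs ▸ x.2⟩⟩
      have hzx : θM z = x := Subtype.ext hs
      have hg : (z : Ω)⁻¹ * (((β ^ p ^ n) ^ m) z : ↥M) ∈ F.hyperfocalSubgroup p := by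
        refine Subgroup.subset_closure
          ⟨M, ⟨(β ^ p ^ n) ^ m, pow_mem (pow_mem hβ _) _⟩, z, hMS, ?_, rfl⟩
        apply Thompson.mem_pResidual_of_coprime
        rw [← Subgroup.orderOf_coe]
        exact hn.coprime_dvd_left (orderOf_pow_dvd m)
      refine ⟨⟨_, S.mul_mem (S.inv_mem (hMS z.2)) (hMS ((((β ^ p ^ n) ^ m)) z).2)⟩, hg, ?_⟩
      have h2 : θM (((β ^ p ^ n) ^ m) z) = (a : MulAut ↥P') x := by
        rw [← pow_mul, hpow, hzx, pow_mul, hm]
      have h3 : θ ⟨_, S.mul_mem (S.inv_mem (hMS z.2)) (hMS ((((β ^ p ^ n) ^ m)) z).2)⟩ =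
          ((θM z : ↥P') : Ω')⁻¹ * ((θM (((β ^ p ^ n) ^ m) z) : ↥P') : Ω') := by
        show _ = (θ _)⁻¹ * θ _
        rw [← map_inv, ← map_mul]
        rfl
      rw [h3, h2, hzx]
    · intro a b ha hb x
      have h1 := hb x
      have h2 := ha ((b : MulAut ↥P') x)
      convert H.mul_mem h1 h2 using 1
      rw [mul_assoc, mul_inv_cancel_left]
      rfl
  · rintro _ ⟨⟨y, hyS⟩, hy, rfl⟩
    have key : ∀ y ∈ F.hyperfocalSubgroup p, ∃ h : y ∈ S, θ ⟨y, h⟩ ∈ E.hyperfocalSubgroup p := by
      intro y hy
      induction hy using Subgroup.closure_induction with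
      | one =>
        refine ⟨S.one_mem, ?_⟩
        rw [show (⟨1, S.one_mem⟩ : ↥S) = 1 from rfl, map_one]
        exact one_mem _
      | mul a b _ _ ha hb =>
        obtain ⟨haS, ha⟩ := ha
        obtain ⟨hbS, hb⟩ := hb
        refine ⟨S.mul_mem haS hbS, ?_⟩
        rw [show (⟨a * b, S.mul_mem haS hbS⟩ : ↥S) = ⟨a, haS⟩ * ⟨b, hbS⟩ from rfl, map_mul]
        exact mul_mem ha hb
      | inv a _ ha =>
        obtain ⟨haS, ha⟩ := ha
        refine ⟨S.inv_mem haS, ?_⟩
        rw [show (⟨a⁻¹, S.inv_mem haS⟩ : ↥S) = ⟨a, haS⟩⁻¹ from rfl, map_inv]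
        exact inv_mem ha
      | mem y hy =>
        obtain ⟨P, α, z, hP, hα, rfl⟩ := hy
        refine ⟨S.mul_mem (S.inv_mem (hP z.2)) (hP (((α : MulAut ↥P) z).2)), ?_⟩
        have : Finite P := Fusion.finite_of_le hP
        have : Finite (F.autGroup P) := Fusion92.finite_autGroup F P
        revert z
        refine Fusion92.pResidual_induction (p := p) (fun a : ↥(F.autGroup P) => ∀ z : ↥P,
          θ ⟨(z : Ω)⁻¹ * (((a : MulAut ↥P) z : ↥P) : Ω),
            S.mul_mem (S.inv_mem (hP z.2)) (hP (((a : MulAut ↥P) z).2))⟩ ∈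
              E.hyperfocalSubgroup p) ?_ ?_ ?_ hα
        · intro z
          convert one_mem (E.hyperfocalSubgroup p) using 1
          rw [← map_one θ]
          exact congrArg θ (Subtype.ext (inv_mul_cancel _))
        · intro a ha z
          rw [← Subgroup.orderOf_coe] at ha
          obtain ⟨β, hβ, hβc, hm⟩ := Fusion92.exists_aut_mod hS hF hT hP a.2 ha
          have hMS : P ⊔ T ≤ S := sup_le hP hT.1
          have hMfin : Finite ↥(P ⊔ T) := Fusion.finite_of_le hMS
          have hβi := (Fusion.mem_autGroup hMS).mp hβ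
          let θM : ↥(P ⊔ T) →* Ω' := θ.comp (Subgroup.inclusion hMS)
          set M' := θM.range with hM'
          have hM'S : M' ≤ S' := by
            rintro _ ⟨w, rfl⟩
            exact hr ▸ ⟨_, rfl⟩
          have : Finite M' := Fusion.finite_of_le hM'S
          have hk : ∀ w, θM w = 1 → θM (β w) = 1 := by
            intro w hw
            refine (hker _).mpr ?_
            show ((β w : ↥(P ⊔ T)) : Ω) ∈ T
            rw [← Fusion.autFun_coe β]
            exact Fusion92.closed_apply hT hβi.1 w.2 ((hker _).mp hw)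
          let f : ↥M' → ↥M' := fun w => θM.rangeRestrict (β (Function.surjInv
            θM.rangeRestrict_surjective w))
          have hf : ∀ w, f (θM.rangeRestrict w) = θM.rangeRestrict (β w) := by
            intro w
            apply Subtype.ext
            show θM (β _) = θM (β w)
            have h1 := hk (w⁻¹ * Function.surjInv θM.rangeRestrict_surjective (θM.rangeRestrict w)) (by
              have := congrArg Subtype.val (Function.surjInv_eq θM.rangeRestrict_surjective (θM.rangeRestrict w))
              rw [map_mul, map_inv]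
              show (θM w)⁻¹ * _ = 1
              rw [inv_mul_eq_one]
              exact this.symm)
            rw [map_mul, map_inv, map_mul, map_inv, inv_mul_eq_one] at h1
            exact h1.symm
          have hfb : Function.Bijective f := Finite.surjective_iff_bijective.mp fun w => by
            obtain ⟨u, rfl⟩ := θM.rangeRestrict_surjective w
            exact ⟨θM.rangeRestrict (β.symm u), by rw [hf, MulEquiv.apply_symm_apply]⟩
          let b : MulAut ↥M' :=
            { Equiv.ofBijective f hfb with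
              map_mul' := fun u v => by
                obtain ⟨u, rfl⟩ := θM.rangeRestrict_surjective u
                obtain ⟨v, rfl⟩ := θM.rangeRestrict_surjective v
                show f _ = f _ * f _
                rw [← map_mul, hf, hf, hf, map_mul, map_mul] }
          have hbv : ∀ w, b (θM.rangeRestrict w) = θM.rangeRestrict (β w) := hf
          have hpre : Cfsg.FusionSystem.preimageAlong θ M' ≤ P ⊔ T := by
            intro u hu
            obtain ⟨huS, w, hw⟩ := hPre.mp hu
            have : (w : Ω)⁻¹ * u ∈ T := by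
              refine (hker ((⟨w, hMS w.2⟩ : ↥S)⁻¹ * ⟨u, huS⟩)).mp ?_
              rw [map_mul, map_inv, ← hw]
              exact inv_mul_cancel _
            rw [show u = w * ((w : Ω)⁻¹ * u) by group]
            exact mul_mem w.2 ((le_sup_right (a := P)) this)
          obtain ⟨φ, hφ, hφe⟩ := hβi.1.mono hpre
          have hb : b ∈ E.autGroup M' := by
            refine (Fusion.mem_autGroup_iff_hom hM'S).mpr ((hHom M' _).mpr ⟨hM'S, φ, hφ,
              Fusion91.preimageAlong_le θ M', fun u => (F.le_of_mem hφ).2 u,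
              fun u => (hPre.mp u.2).2, fun u => ?_⟩)
            show ((b ⟨_, _⟩ : ↥M') : Ω') = _
            rw [show (⟨θ ⟨u, Fusion91.preimageAlong_le θ M' u.2⟩, (hPre.mp u.2).2⟩ : ↥M') =
              θM.rangeRestrict ⟨u, hpre u.2⟩ from rfl, hbv]
            refine congrArg θ (Subtype.ext ?_)
            show ((β _ : ↥(P ⊔ T)) : Ω) = φ u
            rw [hφe, Fusion.autFun_of_mem β (hpre u.2)]
          have hbc : (orderOf b).Coprime p := by
            refine hβc.coprime_dvd_left (orderOf_dvd_of_pow_eq_one ?_)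
            have key : ∀ (k : ℕ) w, (b ^ k) (θM.rangeRestrict w) = θM.rangeRestrict ((β ^ k) w) := by
              intro k
              induction k with
              | zero => intro w; rfl
              | succ k ih =>
                intro w
                rw [pow_succ', pow_succ', MulAut.mul_apply, MulAut.mul_apply, ih, hbv]
            refine MulEquiv.ext fun w => ?_
            obtain ⟨w, rfl⟩ := θM.rangeRestrict_surjective w
            rw [key, pow_orderOf_eq_one]
            rfl
          set z' : ↥(P ⊔ T) := ⟨z, le_sup_left (b := T) z.2⟩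
          have h3 := hm z z.2
          refine Subgroup.subset_closure ⟨M', ⟨b, hb⟩, θM.rangeRestrict z', hM'S, ?_, ?_⟩
          · apply Thompson.mem_pResidual_of_coprime
            rw [← Subgroup.orderOf_coe]
            exact hbc
          · rw [hbv]
            show _ = (θ ⟨z, _⟩)⁻¹ * θ ⟨(β z' : ↥(P ⊔ T)), _⟩
            rw [← map_inv, ← map_mul]
            have h5 : θ ⟨_, hT.1 h3⟩ = 1 := (hker _).mpr h3
            rw [show ((⟨z, hP z.2⟩ : ↥S)⁻¹ * ⟨(β z' : ↥(P ⊔ T)), hMS (β z').2⟩) =
              ⟨(z : Ω)⁻¹ * (((a : MulAut ↥P) z : ↥P) : Ω),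
                S.mul_mem (S.inv_mem (hP z.2)) (hP (((a : MulAut ↥P) z).2))⟩ * ⟨_, hT.1 h3⟩ from
              Subtype.ext (by simp [mul_assoc, z']), map_mul θ, h5, mul_one]
        · intro a b ha hb z
          have h1 := hb z
          have h2 := ha ((b : MulAut ↥P) z)
          convert mul_mem h1 h2 using 1
          rw [← map_mul]
          refine congrArg θ (Subtype.ext ?_)
          show (z : Ω)⁻¹ * _ = ((z : Ω)⁻¹ * _) * (_⁻¹ * _)
          rw [mul_assoc, mul_inv_cancel_left]
          rfl
    exact (key y hy).2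

end Cfsg.Agent.S5256
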