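import Cfsg.Statements.S3322
import Cfsg.Agent.GenDih45.ManyInv
import Cfsg.Agent.GenDih45.OneInv
-- import your own Cfsg.Agent.* helpers here

set_option autoImplicit false
open Cfsg

namespace Cfsg.Agent.S3322

/-- Call a group a D-group when it has a proper subgroup outside of which every element x satisfies x² = 1 (for instance a dihedral group, or an elementary abelian 2-group). Let G be a finite group with a subgroup H that is a D-group (witnessed by a proper subgroup A of H) of order divisible by 4, such that H = C_G(j) for every involution j in the centre of H. If G is not solvable, then G has a normal subgroup N whose order is odd or twice an odd number with G/N isomorphic to PSL(2, q) or PGL(2, q) for some prime power q > 3 (q may be even). -/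
theorem result
    {G : Type*} [Group G] [Finite G] (H A : Subgroup G) (hAH : A < H) (hD : ∀ x ∈ H, x ∉ A → x ^ 2 = 1)
    (h4 : 4 ∣ Nat.card ↥H)
    (hC : ∀ j ∈ H, orderOf j = 2 → (∀ h ∈ H, h * j = j * h) → Subgroup.centralizer ({j} : Set G) = H)
    (hns : ¬ Group.IsSolvable G) :
    ∃ (N : Subgroup G) (_ : N.Normal), (Odd (Nat.card ↥N) ∨ ∃ m : ℕ, Odd m ∧ Nat.card ↥N = 2 * m) ∧
      ∃ (F : Type) (_ : Field F) (_ : Fintype F), 3 < Fintype.card F ∧
        (Nonempty (G ⧸ N ≃* Matrix.ProjectiveSpecialLinearGroup (Fin 2) F) ∨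
          Nonempty (G ⧸ N ≃* Matrix.ProjGenLinGroup (Fin 2) F)) := by
  open GenDih45 in
  rcases dgroup_dichotomy hAH hD with hel | h
  · -- elementary abelian centraliser
    have hcomm : ∀ x ∈ H, ∀ y ∈ H, x * y = y * x := by
      intro x hx y hy
      calc x * y = (x * y)⁻¹ := (inv_eq_of_mul_eq_one_right (hel _ (mul_mem hx hy))).symm
        _ = _ := by rw [mul_inv_rev, inv_eq_of_mul_eq_one_right (hel x hx),
          inv_eq_of_mul_eq_one_right (hel y hy)]
    obtain ⟨F, iF, iF', hq, ⟨e⟩⟩ := elem_case hel h4
      (fun j hj hj2 => hC j hj hj2 fun x hx => hcomm x hx j hj) hns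
    refine ⟨⊥, inferInstance, Or.inl (by rw [Subgroup.card_bot]; exact odd_one), F, iF, iF', hq,
      Or.inl ⟨(QuotientGroup.quotientBot).trans e⟩⟩
  · have hCA : ∀ a ∈ A, orderOf a = 2 → cent a = H := fun a ha ha2 =>
      hC a (h.le ha) ha2 fun x hx => h.central_of_involution ha (mul_self_of_two ha2) hx
    -- `A` has even order
    haveI : Fact (Nat.Prime 2) := ⟨Nat.prime_two⟩
    obtain ⟨s, hs, hsA⟩ := h.exists_out
    have hidx : A.relIndex H = 2 := by
      refine Subgroup.relIindex_eq_two_iff'.mpr ⟨s, hs, fun y hy => ?_⟩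
      by_cases hyA : y ∈ A
      · refine Or.inr ⟨hyA, fun e => hsA ?_⟩
        simpa using mul_mem e (inv_mem hyA)
      · exact Or.inl ⟨h.mul s y hs hsA hy hyA, hyA⟩
    have hAeven : 2 ∣ Nat.card A := by
      have h1 := (A.subgroupOf H).card_mul_index
      rw [Nat.card_congr (Subgroup.subgroupOfEquivOfLe h.le).toEquiv] at h1
      have h2 : (A.subgroupOf H).index = 2 := hidx
      rw [h2] at h1
      omega
    obtain ⟨z, hz⟩ := exists_prime_orderOf_dvd_card' (G := A) 2 hAeven
    have hz' : orderOf (z : G) = 2 := by rw [Subgroup.orderOf_coe, hz]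
    by_cases hu : ∀ a ∈ A, orderOf a = 2 → a = (z : G)
    · have hz2 := hCA z z.2 hz'
      have hH : ∀ x, x * (z : G) = (z : G) * x → x ∈ H := fun x hx => hz2 ▸ mem_cent.mpr hx
      have hS : Shape (z : G) A :=
        { le := fun a ha => h.comm a ha z z.2
          mem := z.2
          comm := h.comm
          out := fun x hx hxA => h.out x (hH x hx) hxA
          mul := fun x y hx hxA hy hyA => h.mul x y (hH x hx) hxA (hH y hy) hyA
          uniq := fun a ha e => by
            by_cases h1 : a = 1
            · exact Or.inl h1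
            · exact Or.inr (hu a ha (orderOf_two_of e h1))
          exists_out := ⟨s, h.central_of_involution z.2 (mul_self_of_two hz') hs, hsA⟩ }
      obtain ⟨N, hN, hodd, F, iF, iF', hq, he⟩ := oneInv hS hz' hns
      exact ⟨N, hN, Or.inl hodd, F, iF, iF', hq, he⟩
    · push Not at hu
      obtain ⟨a, ha, ha2, hne⟩ := hu
      obtain ⟨N, hN, hc, F, iF, iF', hq, he⟩ := manyInv h hCA ha z.2 ha2 hz' hne hns
      exact ⟨N, hN, Or.inr hc, F, iF, iF', hq, Or.inl he⟩


end Cfsg.Agent.S3322
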