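import Cfsg.Statements.S0805
import Cfsg.Agent.Lib.Dickson.Fields
import Cfsg.Agent.S0265

set_option autoImplicit false
open Cfsg

namespace Cfsg.Agent.S0805

/-- Subfield subgroups: let F be a finite field of odd order q and K a finite field with |K|^m = q, m ≥ 1. Then PSL_2(F) has a subgroup isomorphic to PSL_2(K), and has a subgroup isomorphic to PGL_2(K) if and only if m is even. -/
theorem result {F K : Type*} [Field F] [Fintype F] [Field K] [Fintype K] {q : ℕ} (hF : Fintype.card F = q) (hodd : Odd q) (m : ℕ) (hm : 1 ≤ m) (hK : Fintype.card K ^ m = q) : (∃ H : Subgroup (Matrix.ProjectiveSpecialLinearGroup (Fin 2) F), Nonempty (H ≃* Matrix.ProjectiveSpecialLinearGroup (Fin 2) K)) ∧ ((∃ H : Subgroup (Matrix.ProjectiveSpecialLinearGroup (Fin 2) F), Nonempty (H ≃* Matrix.ProjGenLinGroup (Fin 2) K)) ↔ Even m) := by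
  subst hF
  obtain ⟨f⟩ := Cfsg.Agent.Dickson.exists_ringHom (F := F) (K := K) hK
  refine ⟨⟨(Cfsg.Agent.Dickson.extend f).range,
    ⟨(MonoidHom.ofInjective (Cfsg.Agent.Dickson.extend_injective f)).symm⟩⟩, ?_, fun hev => ?_⟩
  · rintro ⟨H, ⟨e⟩⟩
    by_contra hm2
    rw [Nat.not_even_iff_odd] at hm2
    have hr : Odd (Fintype.card K) := by
      rw [← hK] at hodd
      exact hodd.of_dvd_nat (dvd_pow_self _ (by omega))
    have h1 : Nat.card H = Nat.card (Matrix.SpecialLinearGroup (Fin 2) K) := by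
      rw [Nat.card_congr e.toEquiv, Cfsg.Agent.S0265.result]
    have h2 := Subgroup.card_subgroup_dvd_card H
    have h3 := Cfsg.Agent.LinearGroup.gcd_mul_card_PSL_two (F := F)
    rw [h1, Cfsg.Agent.LinearGroup.card_SL_two, Nat.card_eq_fintype_card] at h2
    rw [Nat.card_eq_fintype_card (α := F)] at h3
    obtain ⟨c, hc⟩ := h2
    have hg : Nat.gcd 2 (Fintype.card F - 1) = 2 := by
      apply Nat.gcd_eq_left
      obtain ⟨a, ha⟩ := hodd
      omega
    rw [hg, hc] at h3
    -- the quotient `(q² - 1) / (r² - 1)` is odd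
    have hs : (Fintype.card K ^ 2 - 1) * ∑ i ∈ Finset.range m, (Fintype.card K ^ 2) ^ i
        = Fintype.card F ^ 2 - 1 := by
      rw [← hK, ← pow_mul, mul_comm m 2, pow_mul, mul_comm]
      obtain ⟨u, hu⟩ : ∃ u, Fintype.card K ^ 2 = u + 1 :=
        ⟨_, (Nat.succ_pred_eq_of_pos (pow_pos Fintype.card_pos 2)).symm⟩
      rw [hu, Nat.add_sub_cancel, ← geom_sum_mul_add u m, Nat.add_sub_cancel]
    have hsodd : Odd (∑ i ∈ Finset.range m, (Fintype.card K ^ 2) ^ i) := by
      rw [Finset.odd_sum_iff_odd_card_odd, Finset.filter_true_of_mem fun i _ => (hr.pow).pow,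
        Finset.card_range]
      exact hm2
    rw [← hs] at h3
    have hpos : 0 < Fintype.card K ^ 2 - 1 := by
      have := Fintype.one_lt_card (α := K)
      have : 2 ^ 2 ≤ Fintype.card K ^ 2 := Nat.pow_le_pow_left this 2
      omega
    have hkey : Fintype.card F * ∑ i ∈ Finset.range m, (Fintype.card K ^ 2) ^ i
        = 2 * (Fintype.card K * c) :=
      Nat.eq_of_mul_eq_mul_left hpos (by linarith [h3])
    exact Nat.not_even_iff_odd.mpr (hodd.mul hsodd) ⟨Fintype.card K * c, by rw [hkey]; ring⟩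
  · obtain ⟨φ, hφ, -⟩ := Cfsg.Agent.Dickson.exists_pgl_to_psl f
      (Cfsg.Agent.Dickson.isSquare_map hK hev f)
    exact ⟨φ.range, ⟨(MonoidHom.ofInjective hφ).symm⟩⟩

end Cfsg.Agent.S0805
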