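import Cfsg.Statements.S3103
import Cfsg.Agent.Class49.CharTwo
import Cfsg.Agent.Lib.LinearGroup.PSL42
import Cfsg.Agent.Lib.Thompson.PSolvable

set_option autoImplicit false
open Cfsg

namespace Cfsg.Agent.S3103
universe u

theorem constrained_centralizer {X : Type*} [Group X] [Finite X] (hc : Cfsg.IsPConstrained 2 X)
    (hO : Cfsg.oddCore X = ⊥) : Subgroup.centralizer (Cfsg.pCore 2 X : Set X) ≤ Cfsg.pCore 2 X := by
  haveI := Fact.mk Nat.prime_two
  have hO' : Cfsg.pPrimeCore 2 X = ⊥ := hO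
  have heq : Cfsg.pPrimePCore 2 X = Cfsg.pCore 2 X := by
    refine le_antisymm ?_ Thompson.pCore_le_pPrimePCore
    haveI : (Cfsg.pPrimePCore 2 X).Normal := Thompson.instPPrimePCoreNormal
    refine Thompson.le_pCore inferInstance ?_
    have hinj : Function.Injective (QuotientGroup.mk' (Cfsg.pPrimeCore 2 X)) :=
      (MonoidHom.ker_eq_bot_iff _).mp (by rw [QuotientGroup.ker_mk', hO'])
    exact IsPGroup.comap_of_injective (Thompson.isPGroup_pCore (p := 2) (G := X ⧸ Cfsg.pPrimeCore 2 X)) _ hinj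
  obtain ⟨P⟩ := (inferInstance : Nonempty (Sylow 2 ↥(Cfsg.pPrimePCore 2 X)))
  have h := hc P
  refine le_trans (Subgroup.centralizer_le ?_) (h.trans heq.le)
  intro x hx
  obtain ⟨y, -, rfl⟩ := hx
  exact heq.le y.2

/-- `Aut` of an elementary abelian 2-group of order at most 16 embeds into `A₈`. -/
theorem exists_embed {V : Type*} [CommGroup V] [Finite V] (h2 : ∀ v : V, v ^ 2 = 1)
    (h16 : Nat.card V ≤ 16) : ∃ f : MulAut V →* ↥(alternatingGroup (Fin 8)), Function.Injective f := by
  classical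
  haveI := Fact.mk Nat.prime_two
  haveI : Module (ZMod 2) (Additive V) := AddCommGroup.zmodModule (fun v => h2 v.toMul)
  haveI : Module.Finite (ZMod 2) (Additive V) := Module.Finite.of_finite
  obtain ⟨b⟩ : Nonempty (Module.Basis (Fin (Module.finrank (ZMod 2) (Additive V))) (ZMod 2) (Additive V)) :=
    ⟨Module.finBasis _ _⟩
  obtain ⟨d, hd⟩ : ∃ d, Module.finrank (ZMod 2) (Additive V) = d := ⟨_, rfl⟩
  rw [hd] at b
  have hd4 : d ≤ 4 := by
    have : Nat.card (Additive V) = 2 ^ d := by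
      rw [← hd, Module.natCard_eq_pow_finrank (K := ZMod 2), Nat.card_zmod]
    have h' : 2 ^ d ≤ 2 ^ 4 := by rw [← this]; exact h16
    exact (Nat.pow_le_pow_iff_right (by norm_num)).mp h'
  obtain ⟨c, hc⟩ : ∃ c, d + c = 4 := ⟨4 - d, by omega⟩
  let W := Additive V × (Fin c → ZMod 2)
  let bW : Module.Basis (Fin 4) (ZMod 2) W :=
    (b.prod (Pi.basisFun (ZMod 2) (Fin c))).reindex (finSumFinEquiv.trans (finCongr hc))
  let L : MulAut V →* (W →ₗ[ZMod 2] W) :=
    { toFun := fun g => (AddMonoidHom.toZModLinearMap 2 (MonoidHom.toAdditive g.toMonoidHom)).prodMap LinearMap.id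
      map_one' := LinearMap.ext fun _ => rfl
      map_mul' := fun _ _ => LinearMap.ext fun _ => rfl }
  let M : MulAut V →* Matrix (Fin 4) (Fin 4) (ZMod 2) :=
    (LinearMap.toMatrixAlgEquiv bW).toMonoidHom.comp L
  have hdet : ∀ g, (M g).det = 1 := fun g => by
    have h := (Matrix.isUnit_iff_isUnit_det _).mp ((Group.isUnit g).map M)
    revert h
    generalize (M g).det = x
    intro h
    fin_cases x
    · exact absurd h not_isUnit_zero
    · rfl
  let N : MulAut V →* LinearGroup.PSL42.G :=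
    { toFun := fun g => ⟨M g, hdet g⟩
      map_one' := Subtype.ext (map_one M)
      map_mul' := fun g h => Subtype.ext (map_mul M g h) }
  obtain ⟨e⟩ := LinearGroup.PSL42.equiv
  refine ⟨e.toMonoidHom.comp N, e.injective.comp ?_⟩
  intro g h hgh
  have h1 : L g = L h := (LinearMap.toMatrixAlgEquiv bW).injective (congrArg Subtype.val hgh)
  refine MulEquiv.ext fun v => ?_
  exact congrArg Prod.fst (LinearMap.congr_fun h1 (Additive.ofMul v, 0))

theorem main {X : Type*} [Group X] [Finite X] (hc : Cfsg.IsPConstrained 2 X) (hO : Cfsg.oddCore X = ⊥)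
    (h4 : Cfsg.SectionalPRankLE 2 4 ↥(Cfsg.pCore 2 X)) :
    ∃ f : X ⧸ Cfsg.pCore 2 X →* ↥(alternatingGroup (Fin 8)), Function.Injective f := by
  haveI := Fact.mk Nat.prime_two
  have hC := constrained_centralizer hc hO
  obtain ⟨Q, hQdef⟩ : ∃ Q, Cfsg.pCore 2 X = Q := ⟨_, rfl⟩
  have hQp : IsPGroup 2 Q := hQdef ▸ Thompson.isPGroup_pCore
  haveI : Q.Normal := hQdef ▸ Thompson.instPCoreNormal
  have hchar : ∀ x : X, (frattini Q).map (MulAut.conjNormal (H := Q) x).toMonoidHom = frattini Q :=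
    fun x => Subgroup.characteristic_iff_map_eq.mp inferInstance _
  let φ : X →* MulAut (↥Q ⧸ frattini Q) :=
    { toFun := fun x => QuotientGroup.congr _ _ (MulAut.conjNormal x) (hchar x)
      map_one' := MulEquiv.ext fun v => by
        obtain ⟨q, rfl⟩ := QuotientGroup.mk_surjective v
        simp
      map_mul' := fun x y => MulEquiv.ext fun v => by
        obtain ⟨q, rfl⟩ := QuotientGroup.mk_surjective v
        show ((MulAut.conjNormal (x * y) q : Q) : ↥Q ⧸ frattini Q) =
          ((MulAut.conjNormal x (MulAut.conjNormal y q) : Q) : ↥Q ⧸ frattini Q)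
        rw [map_mul]; rfl }
  letI : CommGroup (↥Q ⧸ frattini Q) :=
    { (inferInstance : Group (↥Q ⧸ frattini Q)) with mul_comm := fun a b => (PGroup.quotient_frattini_commute hQp a b).eq }
  have hcard : Nat.card (↥Q ⧸ frattini Q) ≤ 2 ^ 4 := by
    subst hQdef
    let π := (QuotientGroup.mk' (frattini ↥(Cfsg.pCore 2 X))).comp (⊤ : Subgroup ↥(Cfsg.pCore 2 X)).subtype
    have hsurj : Function.Surjective π := fun v => by
      obtain ⟨q, rfl⟩ := QuotientGroup.mk_surjective v
      exact ⟨⟨q, trivial⟩, rfl⟩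
    let e := QuotientGroup.quotientKerEquivOfSurjective π hsurj
    have h := h4 ⊤ π.ker ⊤ ⟨⟨fun a b => Subtype.ext (e.injective (by
      simp only [Subgroup.coe_mul, map_mul]; exact mul_comm _ _))⟩⟩ (fun a _ => e.injective (by
      rw [map_pow, map_one]; exact PGroup.quotient_frattini_pow hQp _))
    rwa [Subgroup.card_top, Nat.card_congr e.toEquiv] at h
  obtain ⟨f, hf⟩ := exists_embed (V := ↥Q ⧸ frattini Q) (fun v => PGroup.quotient_frattini_pow hQp v) hcard
  have hker : φ.ker = Q := by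
    ext x
    rw [MonoidHom.mem_ker]
    constructor
    · intro hx
      rw [← hQdef]
      refine Class49.mem_pCore_of_frattini_trivial hC (a := x) ?_
      rw [hQdef]
      intro q hq
      have h1 : QuotientGroup.mk' (frattini Q) (MulAut.conjNormal x (⟨q, hq⟩ : Q) * (⟨q, hq⟩ : Q)⁻¹) = 1 := by
        have h2 : ((MulAut.conjNormal x (⟨q, hq⟩ : Q) : Q) : ↥Q ⧸ frattini Q) = ((⟨q, hq⟩ : Q) : ↥Q ⧸ frattini Q) :=
          DFunLike.congr_fun hx (QuotientGroup.mk (⟨q, hq⟩ : Q))
        rw [map_mul, map_inv, QuotientGroup.mk'_apply, QuotientGroup.mk'_apply, h2, mul_inv_cancel]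
      exact ⟨_, (QuotientGroup.eq_one_iff _).mp h1, by simp⟩
    · intro hx
      refine MulEquiv.ext fun v => ?_
      obtain ⟨q, rfl⟩ := QuotientGroup.mk_surjective v
      have e : MulAut.conjNormal x q = (⟨x, hx⟩ : Q) * q * (⟨x, hx⟩ : Q)⁻¹ := Subtype.ext (by simp)
      show ((MulAut.conjNormal x q : Q) : ↥Q ⧸ frattini Q) = _
      rw [e, QuotientGroup.mk_mul, QuotientGroup.mk_mul, QuotientGroup.mk_inv, mul_comm (QuotientGroup.mk (⟨x, hx⟩ : Q)),
        mul_inv_cancel_right]
      rfl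
  let e0 := QuotientGroup.quotientMulEquivOfEq (show Cfsg.pCore 2 X = φ.ker by rw [hker, hQdef])
  exact ⟨((f.comp (QuotientGroup.kerLift φ)).comp e0.toMonoidHom),
    (hf.comp (QuotientGroup.kerLift_injective φ)).comp e0.injective⟩

/-- Let X be a finite 2-constrained group with no nontrivial normal subgroup of odd order such that O₂(X) has sectional 2-rank at most 4. Then X/O₂(X) is isomorphic to a subgroup of the alternating group of degree 8. -/
theorem result {X : Type*} [Group X] [Finite X] (hc : Cfsg.IsPConstrained 2 X) (hO : Cfsg.oddCore X = ⊥)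
    (h4 : Cfsg.SectionalPRankLE 2 4 ↥(Cfsg.pCore 2 X)) :
    ∃ f : X ⧸ Cfsg.pCore 2 X →* ↥(alternatingGroup (Fin 8)), Function.Injective f := by
  exact main hc hO h4

end Cfsg.Agent.S3103
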