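import Cfsg.Statements.S5196
import Cfsg.Agent.Fusion92.FixLocal

set_option autoImplicit false
universe u
open Cfsg

namespace Cfsg.Agent.S5196

open Cfsg.Agent
open Cfsg.FusionSystem (normalizerIn)

/-- Let p be an odd prime and W a positive characteristic p-functor: W assigns to every finite p-group Q (in a fixed universe) a subgroup W(Q), nontrivial when Q is, carried to W(R) by every isomorphism Q ≅ R; assume also Z(Q) ≤ W(Q) for every finite p-group Q. Suppose W satisfies the local condition: for every finite group G with Sylow p-subgroup P, O_p(G) ∩ Z(G) = O_p(G) ∩ Z(N_G(W(P))). Then W controls weak closure of elements in every saturated fusion system F over a finite p-group S: the centre of the normalizer fusion system of W(S) in F equals the centre of F. (For p = 2 no functor satisfies the local condition, so p is taken odd.) -/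
theorem result {p : ℕ} [Fact p.Prime] (hp : p ≠ 2) (W : ∀ (Q : Type u) [Group Q], Subgroup Q) (hW1 : ∀ (Q : Type u) [Group Q] [Finite Q], IsPGroup p Q → Nontrivial Q → W Q ≠ ⊥) (hW2 : ∀ (Q R : Type u) [Group Q] [Group R] [Finite Q], IsPGroup p Q → ∀ φ : Q ≃* R, (W Q).map φ.toMonoidHom = W R) (hWZ : ∀ (Q : Type u) [Group Q] [Finite Q], IsPGroup p Q → Subgroup.center Q ≤ W Q) (hC : ∀ (G : Type u) [Group G] [Finite G] (P : Sylow p G), Cfsg.pCore p G ⊓ Subgroup.center G = Cfsg.pCore p G ⊓ (Subgroup.center ↥(Subgroup.normalizer (((W ↥(P : Subgroup G)).map (P : Subgroup G).subtype : Subgroup G) : Set G))).map (Subgroup.normalizer (((W ↥(P : Subgroup G)).map (P : Subgroup G).subtype : Subgroup G) : Set G)).subtype) {Ω : Type u} [Group Ω] {S : Subgroup Ω} [Finite S] (hS : IsPGroup p S) (F : Cfsg.FusionSystem S) (hF : F.IsSaturated p) (N : Cfsg.FusionSystem (Cfsg.FusionSystem.normalizerIn S ((W ↥S).map S.subtype))) (hN : F.IsNormalizerSystem ((W ↥S).map S.subtype) N) : N.center = F.center := by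
  have hinv : Fusion92.IsInvariantW p W := fun Q R _ _ _ hQ φ => hW2 Q R hQ φ
  let V := (W ↥S).map S.subtype
  have hNS : normalizerIn S V = S := inf_eq_left.mpr (Fusion92.le_normalizer_map_W hinv hS)
  haveI : Finite (normalizerIn S V) := Fusion.finite_of_le (Fusion.normalizerIn_le S V)
  refine le_antisymm (fun x hx => ?_) (Fusion92.center_le_normalizer_center hS hinv hN)
  have hxN : x ∈ normalizerIn S V := (Fusion91.isCentral_center N).1 hx
  have hxZ : x ∈ S ⊓ Subgroup.centralizer (S : Set Ω) := ⟨hxN.1, Subgroup.mem_centralizer_iff.mpr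
    fun s hs => ((Subgroup.mem_centralizer_iff.mp
      (Fusion92.center_le_centralizer (F := N) (hNS.symm ▸ hs)) x hx)).symm⟩
  refine Fusion92.mem_center_of_localFix hS hW1 hinv hF hN hxZ hx ?_
  intro T D hT hZT Q₀ U L _ ι h hxT hfix g
  haveI : Finite T := Fusion.finite_of_le hT
  have := h.isLocal.fin
  haveI := h.normal
  have hTp := hS.to_le hT
  have hxU : x ∈ U := h.centric.2 _ (Fusion.isConj_refl h.centric.1)
    ⟨hxT.1, Subgroup.centralizer_le (h.centric.1.trans hT) hxZ.2⟩
  refine h.central_of_central_mod hTp (fun s => ?_) (fun k => ?_) g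
  · rw [← map_mul, ← map_mul]
    exact congrArg ι (Subtype.ext (Subgroup.mem_centralizer_iff.mp hxZ.2 s (hT s.2.1)))
  obtain ⟨P, hP, hPY⟩ := h.exists_sylow (W := W) hinv
  have hmem : QuotientGroup.mk' _ (ι ⟨x, hxT⟩) ∈ Cfsg.pCore p
      (L ⧸ (Q₀.subgroupOf (normalizerIn T U)).map ι) :=
    Fusion92.mem_pCore_map_of_centralizer h hTp hxU
  have hcen : QuotientGroup.mk' _ (ι ⟨x, hxT⟩) ∈ (Cfsg.pCore p
      (L ⧸ (Q₀.subgroupOf (normalizerIn T U)).map ι) ⊓ Subgroup.center _ : Subgroup _) := by
    rw [hC _ P]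
    refine ⟨hmem, ⟨QuotientGroup.mk' _ (ι ⟨x, hxT⟩), ?_⟩, ?_, rfl⟩
    · rw [← hPY]
      refine h.mem_normalizer_secW_iff.mpr (Fusion92.le_normalizer_secW _ _ ?_ ⟨_, rfl⟩)
      have hrp : IsPGroup p ι.range :=
        (hTp.to_le (Fusion.normalizerIn_le T U)).of_surjective _ ι.rangeRestrict_surjective
      exact Fusion92.normal_W hinv _ (hrp.to_quotient _)
    · refine Subgroup.mem_center_iff.mpr fun ⟨n, hn⟩ => Subtype.ext ?_
      obtain ⟨k', hk'⟩ := QuotientGroup.mk'_surjective ((Q₀.subgroupOf (normalizerIn T U)).map ι) n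
      rw [← hPY, ← hk', h.mem_normalizer_secW_iff] at hn
      show n * QuotientGroup.mk' _ (ι ⟨x, hxT⟩) = _ * n
      rw [← hk', ← map_mul, ← map_mul, hfix k' hn]
  simp only [map_mul, map_inv]
  rw [Subgroup.mem_center_iff.mp hcen.2 (QuotientGroup.mk' _ k)]
  group

end Cfsg.Agent.S5196
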