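import Cfsg.Statements.S1013
import Cfsg.Agent.Lib.SmallGroups.Counting

set_option autoImplicit false
open Cfsg

namespace Cfsg.Agent.S1013

/-- Let G be a transitive permutation group of prime degree p having more than one Sylow p-subgroup, and suppose a Sylow p-subgroup P has prime index in its normalizer. Then G is simple. -/
theorem result {α : Type*} [Fintype α] [DecidableEq α] {p : ℕ} [Fact p.Prime] (hα : Fintype.card α = p) (G : Subgroup (Equiv.Perm α)) [MulAction.IsPretransitive ↥G α] (P : Sylow p ↥G) (hn : 1 < Nat.card (Sylow p ↥G)) (ht : (((P : Subgroup ↥G).subgroupOf (Subgroup.normalizer ((P : Subgroup ↥G) : Set ↥G))).index).Prime) : IsSimpleGroup ↥G := by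
  classical
  have hp := (Fact.out : p.Prime)
  have hcardα : Nat.card α = p := by rw [Nat.card_eq_fintype_card, hα]
  have : Nonempty α := Fintype.card_pos_iff.mp (hα ▸ hp.pos)
  obtain ⟨a⟩ := (inferInstance : Nonempty α)
  have hpG : p ∣ Nat.card ↥G := by
    rw [← hcardα, ← MulAction.index_stabilizer_of_transitive ↥G a]
    exact Subgroup.index_dvd_card _
  have hfac : p.factorial.factorization p = 1 := by
    rw [← Nat.mul_factorial_pred hp.ne_zero, Nat.factorization_mul hp.ne_zero
      (Nat.factorial_ne_zero _), Finsupp.add_apply, hp.factorization_self,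
      Nat.factorization_eq_zero_of_not_dvd
        (fun h => absurd (hp.dvd_factorial.mp h) (by have := hp.two_le; omega))]
  have hS : ∀ Q : Sylow p ↥G, Nat.card ↥(Q : Subgroup ↥G) = p := by
    intro Q
    obtain ⟨j, hj⟩ := Q.2.exists_card_eq
    have h1 : p ^ j ∣ p.factorial := by
      have h0 := (Subgroup.card_subgroup_dvd_card (Q : Subgroup ↥G)).trans
        (Subgroup.card_subgroup_dvd_card G)
      rwa [Nat.card_perm, hcardα, hj] at h0
    rw [hp.pow_dvd_iff_le_factorization (Nat.factorial_ne_zero _), hfac] at h1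
    have h2 := Q.dvd_card_of_dvd_card hpG
    rw [hj] at h2 ⊢
    interval_cases j
    · exact absurd h2 (by simpa using hp.ne_one)
    · exact pow_one p
  have hnt : Nontrivial ↥G := by
    rw [← Finite.one_lt_card_iff_nontrivial]
    exact lt_of_lt_of_le hp.one_lt (Nat.le_of_dvd Nat.card_pos hpG)
  -- a nontrivial normal subgroup contains every Sylow `p`-subgroup
  have hall : ∀ N : Subgroup ↥G, N.Normal → N ≠ ⊥ → ∀ Q : Sylow p ↥G, (Q : Subgroup ↥G) ≤ N := by
    intro N hN hne
    have hpN : p ∣ Nat.card ↥N := by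
      by_contra hpN
      refine hne ((Subgroup.eq_bot_iff_forall _).mpr fun x hx => ?_)
      have hfix : ∀ b : α, x • b = b := by
        intro b
        have h1 : ∀ g : ↥G, Nat.card (MulAction.orbit ↥N (g • b))
            = Nat.card (MulAction.orbit ↥N b) := by
          intro g
          have heq : MulAction.orbit ↥N (g • b) = (fun c : α => g • c) '' MulAction.orbit ↥N b := by
            ext c
            constructor
            · rintro ⟨n, rfl⟩
              refine ⟨g⁻¹ • ((n : ↥G) • g • b), ⟨⟨g⁻¹ * n * g, by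
                simpa using hN.conj_mem _ n.2 g⁻¹⟩, ?_⟩, smul_inv_smul g _⟩
              change (g⁻¹ * (n : ↥G) * g) • b = _
              rw [mul_smul, mul_smul]
            · rintro ⟨_, ⟨n, rfl⟩, rfl⟩
              refine ⟨⟨g * n * g⁻¹, hN.conj_mem _ n.2 g⟩, ?_⟩
              change (g * (n : ↥G) * g⁻¹) • g • b = g • (n : ↥G) • b
              rw [mul_smul, mul_smul, inv_smul_smul]
          rw [heq, Nat.card_image_of_injective (MulAction.injective g)]
        have := Fintype.ofFinite (MulAction.orbitRel.Quotient ↥N α)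
        have hsum : Nat.card α
            = Nat.card (MulAction.orbitRel.Quotient ↥N α) * Nat.card (MulAction.orbit ↥N b) := by
          rw [Nat.card_congr (MulAction.selfEquivSigmaOrbits' ↥N α), Nat.card_sigma,
            Finset.sum_congr rfl (g := fun _ => Nat.card (MulAction.orbit ↥N b)) (fun ω _ => ?_),
            Finset.sum_const, Finset.card_univ, smul_eq_mul, ← Nat.card_eq_fintype_card]
          induction ω using Quotient.inductionOn' with
          | h c =>
            obtain ⟨g, rfl⟩ := MulAction.exists_smul_eq ↥G b c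
            rw [MulAction.orbitRel.Quotient.orbit_mk]
            exact h1 g
        have hd : Nat.card (MulAction.orbit ↥N b) ∣ p := by
          rw [← hcardα, hsum]; exact Dvd.intro_left _ rfl
        rcases (Nat.dvd_prime hp).mp hd with h | h
        · have := (Nat.card_eq_one_iff_unique.mp h).1
          exact congrArg Subtype.val (Subsingleton.elim
            (⟨x • b, ⟨⟨x, hx⟩, rfl⟩⟩ : MulAction.orbit ↥N b) ⟨b, MulAction.mem_orbit_self b⟩)
        · exfalso
          apply hpN
          rw [← h, Nat.card_coe_set_eq, ← MulAction.index_stabilizer]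
          exact Subgroup.index_dvd_card _
      exact Subtype.ext (Equiv.ext hfix)
    obtain ⟨y, hy⟩ := exists_prime_orderOf_dvd_card' p hpN
    obtain ⟨Q₀, hQ₀⟩ := Cfsg.Agent.SmallGroups.exists_mem_sylow
      ((Subgroup.orderOf_coe y).trans hy)
    have hy1 : (y : ↥G) ≠ 1 := by
      intro h1
      rw [← Subgroup.orderOf_coe, h1, orderOf_one] at hy
      exact hp.ne_one hy.symm
    have hQN : (Q₀ : Subgroup ↥G) ≤ N := by
      rw [← Cfsg.Agent.SmallGroups.zpowers_eq_of_card_prime (hS Q₀) hQ₀ hy1]
      exact Subgroup.zpowers_le.mpr y.2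
    intro Q
    obtain ⟨g, rfl⟩ := MulAction.exists_smul_eq ↥G Q₀ Q
    rw [Sylow.coe_subgroup_smul, Subgroup.pointwise_smul_def]
    rintro _ ⟨u, hu, rfl⟩
    exact hN.conj_mem _ (hQN hu) g
  refine ⟨fun N hN => ?_⟩
  by_contra hcon
  rw [not_or] at hcon
  obtain ⟨hne, hne'⟩ := hcon
  set NP := Subgroup.normalizer ((P : Subgroup ↥G) : Set ↥G)
  have hPN := hall N hN hne P
  have hsup : NP ⊔ N = ⊤ := P.normalizer_sup_eq_top' hPN
  have hidx : N.relIndex NP = N.index := by
    have h1 : N.relIndex (NP ⊔ N) = N.relIndex NP := Subgroup.relIndex_sup_right ..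
    rw [hsup, Subgroup.relIndex_top_right] at h1
    exact h1.symm
  have hd : N.relIndex NP ∣ (P : Subgroup ↥G).relIndex NP :=
    Subgroup.relIndex_dvd_of_le_left _ hPN
  have ht' : ((P : Subgroup ↥G).relIndex NP).Prime := ht
  rcases (Nat.dvd_prime ht').mp hd with h | h
  · exact hne' (Subgroup.index_eq_one.mp (hidx ▸ h))
  -- `N ⊓ N(P) = P`, so `P` has a normal complement in `N`
  have hmem : ∀ u, u ∈ NP → u ∈ N → u ∈ (P : Subgroup ↥G) := by
    have hle : (P : Subgroup ↥G).subgroupOf NP ≤ N.subgroupOf NP := fun u hu => hPN hu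
    have h1 := ((P : Subgroup ↥G).subgroupOf NP).card_mul_index
    have h2 := (N.subgroupOf NP).card_mul_index
    change _ * (P : Subgroup ↥G).relIndex NP = _ at h1
    change _ * N.relIndex NP = _ at h2
    rw [h, ← h1] at h2
    have h3 := Nat.eq_of_mul_eq_mul_right ht'.pos h2
    have heq := Subgroup.eq_of_le_of_card_ge hle h3.le
    intro u hu huN
    have : (⟨u, hu⟩ : ↥NP) ∈ N.subgroupOf NP := huN
    rw [← heq] at this
    exact this
  set P₁ : Sylow p ↥N := P.subtype hPN
  have hP₁c : IsMulCommutative ↥(P₁ : Subgroup ↥N) := by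
    have hc : Nat.card ↥(P₁ : Subgroup ↥N) = p :=
      (Nat.card_congr (Subgroup.subgroupOfEquivOfLe hPN).toEquiv).trans (hS P)
    have := isCyclic_of_prime_card hc
    infer_instance
  have hN₁ : Subgroup.normalizer ((P₁ : Subgroup ↥N) : Set ↥N)
      ≤ Subgroup.centralizer ((P₁ : Subgroup ↥N) : Set ↥N) := by
    refine le_trans ?_ (Subgroup.le_centralizer_iff_isMulCommutative.mpr hP₁c)
    intro u hu
    rw [Sylow.coe_subtype, ← Subgroup.subgroupOf_normalizer_eq hPN] at hu
    exact hmem u hu u.2
  set τ := MonoidHom.transferSylow P₁ hN₁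
  have hcompl := MonoidHom.ker_transferSylow_isComplement' P₁ hN₁
  have hnd := MonoidHom.not_dvd_card_ker_transferSylow P₁ hN₁
  set K : Subgroup ↥G := τ.ker.map N.subtype
  have hK : K.Normal := by
    refine ⟨?_⟩
    rintro _ ⟨k, hk, rfl⟩ g
    refine ⟨⟨g * k * g⁻¹, hN.conj_mem _ k.2 g⟩, ?_, rfl⟩
    rw [SetLike.mem_coe, MonoidHom.mem_ker, ← orderOf_eq_one_iff]
    refine Nat.eq_one_of_dvd_coprimes
      (hp.coprime_iff_not_dvd.mpr (fun hh => hnd (hh.trans (Subgroup.orderOf_dvd_natCard _ hk))))
      ?_ ((orderOf_map_dvd τ _).trans ?_)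
    · have := orderOf_dvd_natCard (τ ⟨g * k * g⁻¹, hN.conj_mem _ k.2 g⟩)
      rwa [show Nat.card ↥(P₁ : Subgroup ↥N) = p from
        (Nat.card_congr (Subgroup.subgroupOfEquivOfLe hPN).toEquiv).trans (hS P)] at this
    · rw [← Subgroup.orderOf_coe, ← Subgroup.orderOf_coe k]
      exact (orderOf_injective (MulAut.conj g).toMonoidHom (MulEquiv.injective _) (k : ↥G)).dvd
  by_cases hKb : K = ⊥
  · -- then `N = P` is normal
    have hker : τ.ker = ⊥ := (Subgroup.map_eq_bot_iff_of_injective _ N.subtype_injective).mp hKb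
    have h1 := hcompl.card_mul
    rw [hker, Subgroup.card_bot, one_mul] at h1
    have hNP : N = (P : Subgroup ↥G) :=
      (Subgroup.eq_of_le_of_card_ge hPN (by
        rw [← Nat.card_congr (Subgroup.subgroupOfEquivOfLe hPN).toEquiv]
        exact h1.ge)).symm
    have hsub : Subsingleton (Sylow p ↥G) := ⟨fun A B => Sylow.ext (by
      rw [Subgroup.eq_of_le_of_card_ge ((hall N hN hne A).trans hNP.le) (by rw [hS, hS]),
        Subgroup.eq_of_le_of_card_ge ((hall N hN hne B).trans hNP.le) (by rw [hS, hS])])⟩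
    have := Finite.card_le_one_iff_subsingleton.mpr hsub
    omega
  · have hpK : p ∣ Nat.card ↥K := by
      have := Subgroup.card_dvd_of_le (hall K hK hKb P)
      rwa [hS P] at this
    rw [← Nat.card_congr (τ.ker.equivMapOfInjective _ N.subtype_injective).toEquiv] at hpK
    exact hnd hpK

end Cfsg.Agent.S1013
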