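import Cfsg.Statements.S0999
import Cfsg.Agent.Lib.SmallGroups.Few.Large
import Cfsg.Agent.Lib.BlocksCore.CyclicCount

set_option autoImplicit false
open Cfsg

namespace Cfsg.Agent.S0999

/-- Let G be a non-cyclic finite simple group and p a prime divisor of its order with p^3 > |G|. Then p > 3 and G is isomorphic to the projective special linear group of dimension 2 over the field with p elements, or p - 1 is a power of 2 and G is isomorphic to that group over the field with p - 1 elements. -/
theorem result {G : Type*} [Group G] [Finite G] [IsSimpleGroup G] (hG : ¬ IsCyclic G) (p : ℕ) (hp : p.Prime) (hdvd : p ∣ Nat.card G) (hbig : Nat.card G < p ^ 3) : (∃ (F : Type) (_ : Field F) (_ : Fintype F), Fintype.card F = p ∧ 3 < p ∧ Nonempty (G ≃* Matrix.ProjectiveSpecialLinearGroup (Fin 2) F)) ∨ (∃ (m : ℕ) (F : Type) (_ : Field F) (_ : Fintype F), Fintype.card F = 2 ^ m ∧ p = 2 ^ m + 1 ∧ 3 < p ∧ Nonempty (G ≃* Matrix.ProjectiveSpecialLinearGroup (Fin 2) F)) := by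
  classical
  have := Fintype.ofFinite G
  haveI : Fact p.Prime := ⟨hp⟩
  have hne : ¬ IsMulCommutative G := by
    intro h
    haveI : Fact (Nat.card G).Prime := ⟨SmallGroups.prime_card_of_comm h⟩
    exact hG (isCyclic_of_prime_card rfl)
  -- `p²` does not divide the order
  obtain ⟨m, hm⟩ := hdvd
  have hm0 : 0 < m := Nat.pos_of_ne_zero fun h => Nat.card_pos.ne' (by rw [hm, h, mul_zero])
  have hpm : ¬ p ∣ m := by
    rintro ⟨m', rfl⟩
    have hm' : m' < p := by
      refine Nat.lt_of_mul_lt_mul_left (a := p ^ 2) ?_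
      calc p ^ 2 * m' = Nat.card G := by rw [hm]; ring
        _ < p ^ 3 := hbig
        _ = p ^ 2 * p := by ring
    have hG2 : Nat.card G = p ^ 2 * m' := by rw [hm]; ring
    have hm'0 : 0 < m' := Nat.pos_of_ne_zero fun h => by rw [h] at hm0; simp at hm0
    obtain ⟨h1, h2⟩ := SmallGroups.card_sylow_mem hG2 fun h => by
      have := Nat.le_of_dvd hm'0 h; omega
    have h3 := Nat.le_of_dvd hm'0 h1
    rw [Nat.mod_eq_of_lt (lt_of_le_of_lt h3 hm')] at h2
    exact SmallGroups.card_sylow_ne_one hne (hG2 ▸ dvd_mul_of_dvd_left (dvd_pow_self p two_ne_zero) _) h2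
  have hdvd' : p ∣ Nat.card G := ⟨m, hm⟩
  obtain ⟨z, hz⟩ := exists_prime_orderOf_dvd_card' p hdvd'
  have hidx : ¬ p ∣ (Subgroup.zpowers z).index := by
    have h1 := Subgroup.card_mul_index (Subgroup.zpowers z)
    rw [Nat.card_zpowers, hz, hm] at h1
    rwa [Nat.eq_of_mul_eq_mul_left hp.pos h1]
  obtain ⟨s, hsz⟩ := BlocksCore.CyclicCount.exists_setup hz hidx
  subst hsz
  have hPc : Nat.card (Subgroup.zpowers s.z) = p ^ 1 := by rw [Nat.card_zpowers, hz, pow_one]
  let Q : Sylow p G := (IsPGroup.of_card hPc).toSylow hidx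
  have hn0 : Nat.card (Sylow p G) % p = 1 := by
    have h := card_sylow_modEq_one p G
    rwa [Nat.ModEq, Nat.mod_eq_of_lt hp.one_lt] at h
  set n := Nat.card (Sylow p G) / p with hndef
  have hsyl : Nat.card (Sylow p G) = n * p + 1 := by
    have := Nat.div_add_mod (Nat.card (Sylow p G)) p
    rw [hn0] at this
    rw [hndef, mul_comm]
    omega
  have hn1 : 1 ≤ n := by
    rcases Nat.eq_zero_or_pos n with h | h
    · rw [h, zero_mul, zero_add] at hsyl
      exact absurd hsyl (SmallGroups.card_sylow_ne_one hne hdvd')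
    · exact h
  have hG' : Nat.card G = Nat.card s.auto * (p * Nat.card s.K) * (n * p + 1) := by
    have h1 := SmallGroups.card_normalizer_mul Q
    rw [show ((Q : Subgroup G) : Set G) = ((Subgroup.zpowers s.z : Subgroup G) : Set G) from rfl,
      s.card_normalizer, hsyl] at h1
    exact h1.symm
  have hK := SmallGroups.Few.K_eq_bot hne s hidx hn1 hG' hbig
  rw [show Nat.card s.K = 1 by rw [hK]; exact Subgroup.card_bot, mul_one] at hG'
  have he : 2 ≤ Nat.card s.auto := SmallGroups.Few.two_le_auto hne s hidx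
  have he' : Nat.card s.auto ≤ p - 1 := by
    rw [← s.card_orb_mul]; exact Nat.le_mul_of_pos_left _ Nat.card_pos
  have hlt : Nat.card s.auto * (n * p + 1) < p * p := by
    refine Nat.lt_of_mul_lt_mul_left (a := p) ?_
    calc p * (Nat.card s.auto * (n * p + 1)) = Nat.card G := by rw [hG']; ring
      _ < p ^ 3 := hbig
      _ = p * (p * p) := by ring
  have h2n : 2 * n < p := by
    by_contra h
    have h1 : 2 * (n * p + 1) ≤ Nat.card s.auto * (n * p + 1) := Nat.mul_le_mul_right _ he
    have h2 : p * p ≤ 2 * n * p := Nat.mul_le_mul_right p (not_lt.mp h)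
    linarith
  by_cases hp5 : 5 ≤ p
  · rcases SmallGroups.Few.classify hne s hK hp5 hn1 (by omega) hG' with
      ⟨F, i1, i2, hF, hiso⟩ | ⟨k, F, i1, i2, hF, hpk, hiso⟩
    · exact Or.inl ⟨F, i1, i2, hF, by omega, hiso⟩
    · exact Or.inr ⟨k, F, i1, i2, hF, hpk, by omega, hiso⟩
  exfalso
  have hp3 : p = 3 := by
    have h2 := hp.two_le
    have h4 : p ≠ 4 := fun h => by rw [h] at hp; norm_num at hp
    omega
  subst hp3
  have he2 : Nat.card s.auto = 2 := by omega
  have hn' : n = 1 := by omega
  rw [he2, hn'] at hG'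
  haveI : Fact (Nat.Prime 2) := ⟨Nat.prime_two⟩
  have hmem := SmallGroups.card_sylow_mem_list (G := G) (p := 2) (a := 3) (m := 3)
    (by rw [hG']; norm_num) (by norm_num)
  have hd : (Nat.divisors 3).filter (fun d => d % 2 = 1) = {1, 3} := by decide
  rw [hd, Finset.mem_insert, Finset.mem_singleton] at hmem
  have h2 : 2 ∣ Nat.card G := by rw [hG']; norm_num
  have h3 := SmallGroups.two_mul_card_dvd_sylow hne (p := 2) h2
  rw [hmem.resolve_left (SmallGroups.card_sylow_ne_one hne h2), hG'] at h3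
  norm_num [Nat.factorial] at h3

end Cfsg.Agent.S0999
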