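import Cfsg.Statements.S4701
import Cfsg.Agent.S0999
import Cfsg.Agent.Lib.Transfer.Abelian
import Cfsg.Agent.Lib.Thompson.Cores
import Cfsg.Agent.ClMax99.PSLMax
import Mathlib.GroupTheory.Sylow
import Mathlib.Tactic.Linarith

set_option autoImplicit false
open Cfsg
open scoped commutatorElement

namespace Cfsg.Agent.S4701

universe u

theorem perfect_quotient {H : Type*} [Group H] (hperf : commutator H = ⊤) (N : Subgroup H)
    [N.Normal] : commutator (H ⧸ N) = ⊤ := by
  have h := congrArg (Subgroup.map (QuotientGroup.mk' N)) hperf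
  rw [commutator_def, Subgroup.map_commutator,
    Subgroup.map_top_of_surjective _ (QuotientGroup.mk'_surjective N)] at h
  rw [commutator_def]
  exact h

theorem card_sylow_eq {H : Type*} [Group H] [Finite H] {p : ℕ} [Fact p.Prime]
    (hdvd : p ∣ Nat.card H) (hbig : Nat.card H < p ^ 3) (P : Sylow p H)
    (hP : ¬ (P : Subgroup H).Normal) : Nat.card P = p := by
  have hp := (Fact.out : p.Prime)
  obtain ⟨a, ha⟩ := IsPGroup.iff_card.1 P.isPGroup'
  have ha0 : a ≠ 0 := fun h => by
    have := P.dvd_card_of_dvd_card hdvd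
    rw [ha, h, pow_zero] at this
    exact hp.not_dvd_one this
  have hn : p + 1 ≤ Nat.card (Sylow p H) := by
    have hne : Nat.card (Sylow p H) ≠ 1 := fun h => hP (by
      haveI := (Nat.card_eq_one_iff_unique.1 h).1
      exact P.normal_of_subsingleton)
    have hmod := card_sylow_modEq_one p H
    have hpos : 0 < Nat.card (Sylow p H) := Nat.card_pos
    by_contra hlt
    push Not at hlt
    unfold Nat.ModEq at hmod
    rw [Nat.mod_eq_of_lt hp.one_lt] at hmod
    rcases Nat.lt_or_ge (Nat.card (Sylow p H)) p with h | h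
    · rw [Nat.mod_eq_of_lt h] at hmod; exact hne hmod
    · rw [show Nat.card (Sylow p H) = p by omega, Nat.mod_self] at hmod; exact absurd hmod (by omega)
  by_contra hne
  have ha2 : 2 ≤ a := by
    rcases Nat.lt_or_ge a 2 with h | h
    · exact absurd (by rw [ha, show a = 1 by omega, pow_one]) hne
    · exact h
  have hN : p ^ a * (p + 1) ≤ Nat.card H := by
    rw [← ha, ← (Subgroup.normalizer (P : Set H)).index_mul_card,
      ← Sylow.card_eq_index_normalizer, mul_comm (Nat.card P)]
    exact Nat.mul_le_mul hn (Nat.le_of_dvd Nat.card_pos (Subgroup.card_dvd_of_le Subgroup.le_normalizer))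
  have h2 : p ^ 2 ≤ p ^ a := Nat.pow_le_pow_right hp.pos ha2
  nlinarith [hp.two_le]

/-- A perfect group with a Sylow subgroup of prime order has no normal subgroup of that order. -/
theorem no_normal_order {H : Type*} [Group H] [Finite H] {p : ℕ} [Fact p.Prime]
    (hperf : commutator H = ⊤) (P : Sylow p H) (hcard : Nat.card P = p)
    (hPn : (P : Subgroup H).Normal) : False := by
  have hp := (Fact.out : p.Prime)
  have hc : IsMulCommutative (P : Subgroup H) := by
    haveI : IsCyclic (P : Subgroup H) := isCyclic_of_prime_card hcard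
    exact ⟨⟨fun a b => IsCyclic.commGroup.mul_comm a b⟩⟩
  -- `H` acts on `P` through an abelian group, hence trivially
  haveI := hPn
  haveI : IsCyclic (P : Subgroup H) := isCyclic_of_prime_card hcard
  have hcen : (P : Subgroup H) ≤ Subgroup.center H := by
    have hker : commutator H ≤ (MulAut.conjNormal (H := (P : Subgroup H))).ker := by
      rw [commutator_def, Subgroup.commutator_le]
      intro a _ b _
      rw [MonoidHom.mem_ker, map_commutatorElement, commutatorElement_eq_one_iff_mul_comm]
      refine MulEquiv.ext fun x => ?_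
      obtain ⟨g, hg⟩ := IsCyclic.exists_generator (α := (P : Subgroup H))
      obtain ⟨i, hi⟩ := hg (MulAut.conjNormal a g)
      obtain ⟨j, hj⟩ := hg (MulAut.conjNormal b g)
      obtain ⟨k, rfl⟩ := hg x
      simp only at hi hj
      simp only [MulAut.mul_apply, map_zpow, ← hj, ← hi, ← zpow_mul]
      rw [mul_comm j i]
    rw [hperf, top_le_iff] at hker
    intro x hx
    rw [Subgroup.mem_center_iff]
    intro g
    have h := congrArg Subtype.val (congrArg (fun t : MulAut (P : Subgroup H) => t ⟨x, hx⟩)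
      (MonoidHom.mem_ker.1 (hker ▸ Subgroup.mem_top g :
        g ∈ (MulAut.conjNormal (H := (P : Subgroup H))).ker)))
    simp only [MulAut.conjNormal_apply, MulAut.one_apply] at h
    exact mul_inv_eq_iff_eq_mul.1 h
  have h := Cfsg.Agent.Transfer.inf_commutator_inf_center_eq_bot hc P.card_coprime_index
  rw [hperf, inf_top_eq, inf_eq_left.2 hcen] at h
  rw [h, Subgroup.card_bot] at hcard
  exact hp.one_lt.ne hcard

theorem core_aux {p : ℕ} [Fact p.Prime] : ∀ c : ℕ, ∀ (H : Type u) [Group H] [Finite H],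
    Nat.card H = c → commutator H = ⊤ → p ∣ Nat.card H → Nat.card H < p ^ 3 →
    (∀ P : Sylow p H, ¬ (P : Subgroup H).Normal) →
    ∃ (N : Subgroup H) (_ : N.Normal), p ^ 3 ≤ 3 * Nat.card (H ⧸ N) ∧
      ((∃ (F : Type) (_ : Field F) (_ : Fintype F), Fintype.card F = p ∧ 3 < p ∧
          Nonempty (H ⧸ N ≃* Matrix.ProjectiveSpecialLinearGroup (Fin 2) F)) ∨
        ∃ (m : ℕ) (F : Type) (_ : Field F) (_ : Fintype F), Fintype.card F = 2 ^ m ∧ p = 2 ^ m + 1 ∧
          3 < p ∧ Nonempty (H ⧸ N ≃* Matrix.ProjectiveSpecialLinearGroup (Fin 2) F)) := by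
  intro c
  induction c using Nat.strong_induction_on with
  | _ c ih =>
  intro H _ _ hc hperf hdvd hbig hP
  have hp := (Fact.out : p.Prime)
  set S := {N : Subgroup H | N.Normal ∧ N ≠ ⊤}
  have hbot : (⊥ : Subgroup H) ∈ S := ⟨inferInstance, fun h => by
    have h1 : Nat.card H = 1 := by rw [← Subgroup.card_top, ← h, Subgroup.card_bot]
    rw [h1] at hdvd; exact hp.not_dvd_one hdvd⟩
  obtain ⟨N, -, ⟨⟨hNn, hNt⟩, hNmax⟩⟩ := (Set.toFinite S).exists_le_maximal hbot
  haveI := hNn
  have hqperf := perfect_quotient hperf N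
  haveI : Nontrivial (H ⧸ N) := by
    rw [← Finite.one_lt_card_iff_nontrivial, ← Subgroup.index_eq_card]
    exact Subgroup.one_lt_index_of_ne_top hNt
  haveI hsimp : IsSimpleGroup (H ⧸ N) := ⟨fun T hT => by
    haveI := hT
    by_cases hT1 : T.comap (QuotientGroup.mk' N) = ⊤
    · exact Or.inr (Subgroup.comap_injective (QuotientGroup.mk'_surjective N)
        (hT1.trans (Subgroup.comap_top _).symm))
    · left
      have hle : N ≤ T.comap (QuotientGroup.mk' N) := fun x hx => by
        rw [Subgroup.mem_comap, QuotientGroup.mk'_apply, (QuotientGroup.eq_one_iff x).2 hx]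
        exact one_mem T
      have heq := le_antisymm (hNmax ⟨inferInstance, hT1⟩ hle) hle
      rw [← Subgroup.map_comap_eq_self_of_surjective (QuotientGroup.mk'_surjective N) T, heq,
        Subgroup.map_eq_bot_iff, QuotientGroup.ker_mk']⟩
  by_cases hpN : p ∣ Nat.card N
  · exfalso
    set T := {L : Subgroup H | L.Normal ∧ L ≤ N ∧ p ∣ Nat.card L}
    obtain ⟨L, -, ⟨⟨hLn, hLN, hpL⟩, hLmin⟩⟩ := (Set.toFinite T).exists_le_minimal
      (show N ∈ T from ⟨hNn, le_rfl, hpN⟩)
    haveI := hLn
    obtain ⟨P₀⟩ : Nonempty (Sylow p H) := inferInstance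
    have hcardP := card_sylow_eq hdvd hbig P₀ (hP P₀)
    have hLnn : ∀ Q : Sylow p L, ¬ (Q : Subgroup L).Normal := fun Q hQ => by
      haveI := hQ
      haveI : (Q : Subgroup L).Characteristic := Sylow.characteristic_of_normal Q hQ
      have hn : ((Q : Subgroup L).map L.subtype).Normal := ConjAct.normal_of_characteristic_of_normal
      obtain ⟨P, hPle⟩ := (Q.isPGroup'.map L.subtype).exists_le_sylow
      have hQ0 : p ∣ Nat.card ((Q : Subgroup L).map L.subtype) := by
        rw [Subgroup.card_map_of_injective L.subtype_injective]; exact Q.dvd_card_of_dvd_card hpL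
      have hPc : Nat.card P = p := (Sylow.card_eq_multiplicity P).trans
        ((Sylow.card_eq_multiplicity P₀).symm.trans hcardP)
      have heq := Subgroup.eq_of_le_of_card_ge hPle (hPc.le.trans (Nat.le_of_dvd Nat.card_pos hQ0))
      exact hP P (heq ▸ hn)
    have hLbig : Nat.card L < p ^ 3 :=
      lt_of_le_of_lt (Nat.le_of_dvd Nat.card_pos (Subgroup.card_subgroup_dvd_card L)) hbig
    have hLperf : commutator L = ⊤ := by
      by_contra hne
      set D := (commutator L).map L.subtype
      haveI hDn : D.Normal := ConjAct.normal_of_characteristic_of_normal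
      have hDle : D ≤ L := Subgroup.map_subtype_le _
      have hpD : ¬ p ∣ Nat.card D := fun h => hne (by
        have h1 : L ≤ D := hLmin ⟨hDn, hDle.trans hLN, h⟩ hDle
        rw [eq_top_iff]
        intro x _
        obtain ⟨y, hy, e⟩ := h1 x.2
        rwa [show x = y from Subtype.ext e.symm])
      have hPsur : Function.Surjective (QuotientGroup.mk' D) := QuotientGroup.mk'_surjective D
      set P₁ := P₀.mapSurjective hPsur
      have hP₁c : Nat.card P₁ = p := by
        refine le_antisymm ?_ ?_
        · refine le_trans (Nat.le_of_dvd Nat.card_pos ?_) hcardP.le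
          rw [show (P₁ : Subgroup (H ⧸ D)) = (P₀ : Subgroup H).map (QuotientGroup.mk' D) from rfl]
          exact Subgroup.card_map_dvd _ _
        · refine Nat.le_of_dvd Nat.card_pos (P₁.dvd_card_of_dvd_card ?_)
          have := D.index_mul_card
          rw [← this] at hdvd
          rcases hp.dvd_mul.1 hdvd with h | h
          · rwa [← Subgroup.index_eq_card]
          · exact absurd h hpD
      -- the unique Sylow subgroup of the abelian group `L / D` is normal in `H / D`
      set M := L.map (QuotientGroup.mk' D)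
      haveI hMn : M.Normal := hLn.map _ hPsur
      have hMcomm : IsMulCommutative M := ⟨⟨fun ⟨a, ha⟩ ⟨b, hb⟩ => by
        obtain ⟨x, hx, rfl⟩ := ha
        obtain ⟨y, hy, rfl⟩ := hb
        refine Subtype.ext (QuotientGroup.eq.2 ?_)
        refine ⟨⟨y, hy⟩⁻¹ * ⟨x, hx⟩⁻¹ * ⟨y, hy⟩ * ⟨x, hx⟩, ?_, by simp [mul_assoc]⟩
        rw [show (⟨y, hy⟩⁻¹ * ⟨x, hx⟩⁻¹ * ⟨y, hy⟩ * ⟨x, hx⟩ : L) = ⁅(⟨y, hy⟩ : L)⁻¹, ⟨x, hx⟩⁻¹⁆ by
          simp [commutatorElement_def, mul_assoc]]
        exact Subgroup.commutator_mem_commutator (Subgroup.mem_top _) (Subgroup.mem_top _)⟩⟩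
      have hpM : p ∣ Nat.card M := by
        have hcl : Nat.card L ∣ Nat.card M * Nat.card D := by
          have e1 := ((QuotientGroup.mk' D).comp L.subtype).ker.index_mul_card
          rw [Subgroup.index_ker, MonoidHom.range_comp, Subgroup.range_subtype] at e1
          rw [← e1]
          refine Nat.mul_dvd_mul dvd_rfl ?_
          rw [← MonoidHom.comap_ker, QuotientGroup.ker_mk']
          exact Subgroup.card_comap_dvd_of_injective D L.subtype L.subtype_injective
        rcases hp.dvd_mul.1 (hpL.trans hcl) with h | h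
        · exact h
        · exact absurd h hpD
      obtain ⟨Q⟩ : Nonempty (Sylow p M) := inferInstance
      haveI : (Q : Subgroup M).Normal := ⟨fun a ha g => by
        rw [hMcomm.is_comm.comm g a, mul_inv_cancel_right]; exact ha⟩
      haveI : (Q : Subgroup M).Characteristic := Sylow.characteristic_of_normal Q inferInstance
      have hn : ((Q : Subgroup M).map M.subtype).Normal := ConjAct.normal_of_characteristic_of_normal
      obtain ⟨P₂, hP₂le⟩ := (Q.isPGroup'.map M.subtype).exists_le_sylow
      have hP₂c : Nat.card P₂ = p :=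
        (Sylow.card_eq_multiplicity P₂).trans ((Sylow.card_eq_multiplicity P₁).symm.trans hP₁c)
      have hQ0 : p ∣ Nat.card ((Q : Subgroup M).map M.subtype) := by
        rw [Subgroup.card_map_of_injective M.subtype_injective]; exact Q.dvd_card_of_dvd_card hpM
      have heq := Subgroup.eq_of_le_of_card_ge hP₂le (hP₂c.le.trans (Nat.le_of_dvd Nat.card_pos hQ0))
      exact no_normal_order (perfect_quotient hperf D) P₂ hP₂c (heq ▸ hn)
    have hLlt : Nat.card L < c := by
      rw [← hc]
      refine lt_of_le_of_ne (Nat.le_of_dvd Nat.card_pos (Subgroup.card_subgroup_dvd_card L))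
        fun h => hNt (top_le_iff.1 ((Subgroup.eq_top_of_card_eq L h) ▸ hLN))
    obtain ⟨N', _, hsize, -⟩ := ih _ hLlt L rfl hLperf hpL hLbig hLnn
    have h3 : 3 ≤ N.index := by
      by_contra hlt
      have h2 : N.index = 2 := by
        have := Subgroup.one_lt_index_of_ne_top hNt; omega
      haveI : Fact (Nat.Prime 2) := ⟨Nat.prime_two⟩
      haveI : IsCyclic (H ⧸ N) := isCyclic_of_prime_card (p := 2) (by rw [← Subgroup.index_eq_card, h2])
      have hb : commutator (H ⧸ N) = ⊥ := by
        rw [commutator_def, eq_bot_iff, Subgroup.commutator_le]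
        intro a _ b _
        rw [Subgroup.mem_bot, commutatorElement_eq_one_iff_mul_comm]
        exact IsCyclic.commGroup.mul_comm a b
      rw [hqperf] at hb
      exact top_ne_bot hb
    have e1 := N.index_mul_card
    have e2 : Nat.card L ≤ Nat.card N := Nat.le_of_dvd Nat.card_pos (Subgroup.card_dvd_of_le hLN)
    have e3 : Nat.card (L ⧸ N') ≤ Nat.card L := Nat.le_of_dvd Nat.card_pos (Subgroup.card_quotient_dvd_card _)
    nlinarith
  have hdq : p ∣ Nat.card (H ⧸ N) := by
    have := N.index_mul_card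
    rw [← this] at hdvd
    rcases hp.dvd_mul.1 hdvd with h | h
    · rwa [← Subgroup.index_eq_card]
    · exact absurd h hpN
  have hqbig : Nat.card (H ⧸ N) < p ^ 3 :=
    lt_of_le_of_lt (Nat.le_of_dvd Nat.card_pos (Subgroup.card_quotient_dvd_card _)) hbig
  have hncyc : ¬ IsCyclic (H ⧸ N) := fun h => by
    have hb : commutator (H ⧸ N) = ⊥ := by
      rw [commutator_def, eq_bot_iff, Subgroup.commutator_le]
      intro a _ b _
      rw [Subgroup.mem_bot, commutatorElement_eq_one_iff_mul_comm]
      exact IsCyclic.commGroup.mul_comm a b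
    rw [hqperf] at hb
    exact top_ne_bot hb
  have hres := Cfsg.Agent.S0999.result hncyc p hp hdq hqbig
  refine ⟨N, hNn, ?_, hres⟩
  rcases hres with ⟨F, _, _, hF, h3p, ⟨e⟩⟩ | ⟨m, F, _, _, hF, hpm, h3p, ⟨e⟩⟩
  · rw [Nat.card_congr e.toEquiv]
    have hodd : Odd (Nat.card F) := by
      rw [Nat.card_eq_fintype_card, hF]; exact hp.odd_of_ne_two (by omega)
    have h := Cfsg.Agent.ClMax99.card_PSL_two_odd (K := F) hodd
    rw [Nat.card_eq_fintype_card (α := F), hF] at h
    have hpp : p ^ 2 - 1 + 1 = p ^ 2 := Nat.sub_add_cancel (Nat.one_le_pow _ _ hp.pos)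
    change 2 * Nat.card (Matrix.ProjectiveSpecialLinearGroup (Fin 2) F) = _ at h
    have h3 : 3 ≤ p ^ 2 := by nlinarith
    nlinarith
  · rw [Nat.card_congr e.toEquiv]
    have hm0 : m ≠ 0 := fun h => by rw [h] at hpm; omega
    have heven : Even (Nat.card F) := by
      rw [Nat.card_eq_fintype_card, hF]; exact (Nat.even_pow).2 ⟨even_two, hm0⟩
    have h := Cfsg.Agent.ClMax99.card_PSL_two_even (K := F) heven
    rw [Nat.card_eq_fintype_card (α := F), hF, show 2 ^ m = p - 1 by omega] at h
    change Nat.card (Matrix.ProjectiveSpecialLinearGroup (Fin 2) F) = _ at h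
    obtain ⟨k, rfl⟩ : ∃ k, p = k + 5 := ⟨p - 5, by
      have : p ≠ 4 := fun h => by rw [h] at hp; norm_num at hp
      omega⟩
    rw [show k + 5 - 1 = k + 4 by omega] at h
    have hk : (k + 4) ^ 2 - 1 = (k + 3) * (k + 5) := by
      have : (k + 4) ^ 2 = (k + 3) * (k + 5) + 1 := by ring
      omega
    rw [hk] at h
    rw [h]
    nlinarith [Nat.zero_le (k * k * k), Nat.zero_le (k * k)]

/-- Let G be a finite perfect group and p a prime dividing the order of G with p^3 larger than the order of G. Suppose a Sylow p-subgroup of G is not normal and G has no normal subgroup of order 2. Then p > 3 and G is isomorphic to PSL(2, p), or to SL(2, 2^m) with p = 2^m + 1. -/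
theorem result {G : Type*} [Group G] [Finite G] (hperf : commutator G = ⊤) (p : ℕ) [Fact p.Prime] (hdvd : p ∣ Nat.card G) (hbig : Nat.card G < p ^ 3) (P : Sylow p G) (hP : ¬ (P : Subgroup G).Normal) (h2 : ∀ N : Subgroup G, N.Normal → Nat.card N ≠ 2) : (∃ (F : Type) (_ : Field F) (_ : Fintype F), Fintype.card F = p ∧ 3 < p ∧ Nonempty (G ≃* Matrix.ProjectiveSpecialLinearGroup (Fin 2) F)) ∨ (∃ (m : ℕ) (F : Type) (_ : Field F) (_ : Fintype F), Fintype.card F = 2 ^ m ∧ p = 2 ^ m + 1 ∧ 3 < p ∧ Nonempty (G ≃* Matrix.SpecialLinearGroup (Fin 2) F)) := by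
  have hp := (Fact.out : p.Prime)
  have hP' : ∀ Q : Sylow p G, ¬ (Q : Subgroup G).Normal := fun Q hQ => hP (by
    haveI := hQ
    haveI : Subsingleton (Sylow p G) := ⟨fun A B => by
      haveI := Sylow.unique_of_normal Q hQ
      exact Subsingleton.elim A B⟩
    exact P.normal_of_subsingleton)
  obtain ⟨N, hN, hsize, hres⟩ := core_aux _ G rfl hperf hdvd hbig hP'
  have hN1 : N = ⊥ := by
    rw [← Subgroup.card_eq_one]
    have h0 := Nat.card_pos (α := N)
    have h1 := h2 N hN
    have h3 := N.index_mul_card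
    rw [Subgroup.index_eq_card] at h3
    by_contra hne
    have h4 : 3 ≤ Nat.card N := by omega
    nlinarith
  have e0 : G ≃* G ⧸ N := (QuotientGroup.quotientBot.symm).trans
    (QuotientGroup.quotientMulEquivOfEq hN1.symm)
  rcases hres with ⟨F, i1, i2, hF, h3p, ⟨e⟩⟩ | ⟨m, F, i1, i2, hF, hpm, h3p, ⟨e⟩⟩
  · exact Or.inl ⟨F, i1, i2, hF, h3p, ⟨e0.trans e⟩⟩
  · refine Or.inr ⟨m, F, i1, i2, hF, hpm, h3p, ⟨(e0.trans e).trans ?_⟩⟩
    have hm0 : m ≠ 0 := fun h => by rw [h] at hpm; omega
    haveI : CharP F 2 := by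
      haveI := ZMod.charP 2
      obtain ⟨q, hq⟩ := CharP.exists F
      haveI := hq
      obtain ⟨n, hqp, hn⟩ := FiniteField.card F q
      rw [hF] at hn
      have : q = 2 := ((Nat.prime_dvd_prime_iff_eq Nat.prime_two hqp).1
        (Nat.prime_two.dvd_of_dvd_pow (hn ▸ dvd_pow_self 2 hm0))).symm
      exact this ▸ hq
    have hc : Subgroup.center (Matrix.SpecialLinearGroup (Fin 2) F) = ⊥ := by
      rw [Subgroup.eq_bot_iff_forall]
      intro A hA
      obtain ⟨r, hr, hA'⟩ := Matrix.SpecialLinearGroup.mem_center_iff.1 hA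
      rw [Fintype.card_fin] at hr
      have hr1 : r = 1 := by
        have h0 : (r - 1) ^ 2 = 0 := by
          rw [sub_pow_char (p := 2), hr, one_pow, sub_self]
        exact sub_eq_zero.1 (pow_eq_zero_iff two_ne_zero |>.1 h0)
      subst hr1
      exact Subtype.ext (by rw [← hA']; simp)
    exact ((QuotientGroup.quotientMulEquivOfEq hc).trans QuotientGroup.quotientBot)

end Cfsg.Agent.S4701
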