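import Cfsg.Statements.S3611
import Cfsg.Agent.Lib.Perm.PrimeDegreeGroups
import Cfsg.Agent.Lib.Perm.PrimeDegreeOrders
-- import your own Cfsg.Agent.* helpers here

set_option autoImplicit false
open Cfsg

namespace Cfsg.Agent.S3611

open MulAction Agent.Perm

section

variable {G Ω : Type*} [Group G] [MulAction G Ω] [Fintype Ω] [DecidableEq Ω] {p : ℕ} [Fact p.Prime]

/-- In characteristic `p` the maps from the heart into functions on ordered pairs form at most a
plane, so a two-point stabiliser has at most two orbits on the remaining points. -/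
theorem false_of_three (hcard : Fintype.card Ω = p) (hp5 : 5 ≤ p)
    (hirr : ∀ W : Subrepresentation (Cfsg.permRep (ZMod p) G Ω),
      (Cfsg.permConstants (ZMod p) G Ω).toSubmodule ≤ W.toSubmodule →
      W.toSubmodule ≤ (Cfsg.permSumZero (ZMod p) G Ω).toSubmodule →
      W = Cfsg.permConstants (ZMod p) G Ω ∨ W = Cfsg.permSumZero (ZMod p) G Ω)
    (h2 : IsMultiplyPretransitive G Ω 2) (e : ZMod p ≃ Ω) (τ : G)
    (hτ : ∀ i, τ • e i = e (i + 1)) (A : Subgroup (ZMod p)ˣ) (k₀ : (ZMod p)ˣ)
    (hA : ∀ k, k ∈ A ∨ k * k₀⁻¹ ∈ A)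
    (haff : ∀ a ∈ A, ∃ (g : G) (c : ZMod p), ∀ x, g • e x = e (c + (a : ZMod p) * x))
    {a b : Ω} (hab : a ≠ b) (c : Fin 3 → Ω) (hca : ∀ i, c i ≠ a) (hcb : ∀ i, c i ≠ b)
    (hdiff : ∀ i j, i ≠ j → ∀ g : G, g • a = a → g • b = b → g • c i ≠ c j) : False := by
  classical
  let φ : Fin 3 → Ω × Ω → Ω → (ZMod p) := fun i P x =>
    if ∃ g : G, g • a = P.1 ∧ g • b = P.2 ∧ g • c i = x then 1 else 0
  let φ₀ : Ω × Ω → Ω → (ZMod p) := fun P x => if P.1 ≠ P.2 ∧ x = P.1 then 1 else 0
  have hφ : ∀ i (g : G) P x, φ i (g • P) (g • x) = φ i P x := fun i g P x => by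
    have : (∃ k : G, k • a = (g • P).1 ∧ k • b = (g • P).2 ∧ k • c i = g • x) ↔
        ∃ k : G, k • a = P.1 ∧ k • b = P.2 ∧ k • c i = x := by
      constructor
      · rintro ⟨k, h1, h3, h4⟩
        exact ⟨g⁻¹ * k, by rw [mul_smul, h1, Prod.smul_fst, inv_smul_smul],
          by rw [mul_smul, h3, Prod.smul_snd, inv_smul_smul], by rw [mul_smul, h4, inv_smul_smul]⟩
      · rintro ⟨k, h1, h3, h4⟩
        exact ⟨g * k, by rw [mul_smul, h1, Prod.smul_fst], by rw [mul_smul, h3, Prod.smul_snd],
          by rw [mul_smul, h4]⟩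
    simp only [φ, this]
  have hφ₀ : ∀ (g : G) P x, φ₀ (g • P) (g • x) = φ₀ P x := fun g P x => by
    simp only [φ₀, Prod.smul_fst, Prod.smul_snd, ne_eq, smul_left_cancel_iff]
  let s : Fin 3 → (ZMod p) := fun i => ∑ x, φ i (a, b) x
  let ψ : Fin 3 → Ω × Ω → Ω → (ZMod p) := fun i P x => φ i P x - s i * φ₀ P x
  have hψ : ∀ i (g : G) P x, ψ i (g • P) (g • x) = ψ i P x := fun i g P x => by
    simp only [ψ, hφ, hφ₀]
  have hsum : ∀ i P, ∑ x, ψ i P x = 0 := by
    rintro i ⟨u, v⟩
    by_cases huv : u = v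
    · refine Finset.sum_eq_zero fun x _ => ?_
      have h1 : ¬ ∃ g : G, g • a = u ∧ g • b = v ∧ g • c i = x := fun ⟨g, ha, hb, _⟩ =>
        hab (MulAction.injective g (ha.trans (huv.trans hb.symm)))
      subst huv
      have h2' : φ i (u, u) x = 0 := if_neg h1
      simp [ψ, φ₀, h2']
    · obtain ⟨g, hga, hgb⟩ := is_two_pretransitive_iff.mp h2 hab huv
      rw [show (u, v) = g • (a, b) from Prod.ext hga.symm hgb.symm,
        ← sum_inv_smul g⁻¹ (fun x => ψ i (g • (a, b)) x)]
      simp only [inv_inv, hψ]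
      simp only [ψ, Finset.sum_sub_distrib, ← Finset.mul_sum]
      have h1 : ∑ x, φ₀ (a, b) x = 1 := by simp [φ₀, hab]
      rw [h1, mul_one]
      exact sub_self _
  let u : Ω → (ZMod p) := fun x => e.symm x
  have hu : u ∈ (Cfsg.permSumZero (ZMod p) G Ω).toSubmodule := by
    rw [mem_permSumZero_iff]
    show ∑ x, e.symm x = 0
    rw [Equiv.sum_comp e.symm (fun j => j)]
    have := FiniteField.sum_pow_lt_card_sub_one (ZMod p) 1 (by rw [ZMod.card]; omega)
    simpa using this
  -- the value at `u` is determined by two numbers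
  have key : ∀ φ' : Ω × Ω → Ω → (ZMod p), (∀ (g : G) P x, φ' (g • P) (g • x) = φ' P x) →
      (∀ P, ∑ x, φ' P x = 0) → (∀ y x, φ' (y, y) x = 0) →
      kerMap φ' u (e 0, e 1) = 0 → kerMap φ' u (e 0, e (k₀ : (ZMod p))) = 0 → kerMap φ' u = 0 := by
    intro φ' hinv hs0 hdiag h1 hk
    have hmove : ∀ (g : G) (c' a' : (ZMod p)), (∀ x, g • e x = e (c' + a' * x)) → ∀ P,
        kerMap φ' u (g • P) = a' * kerMap φ' u P := fun g c' a' hg P => by
      rw [kerMap_apply, ← sum_inv_smul g⁻¹, kerMap_apply, Finset.mul_sum]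
      simp only [inv_inv, hinv]
      have hux : ∀ x, u (g • x) = c' + a' * u x := fun x => by
        obtain ⟨j, rfl⟩ := e.surjective x
        simp only [u, hg, Equiv.symm_apply_apply]
      simp only [hux, mul_add, Finset.sum_add_distrib, ← Finset.sum_mul, hs0, zero_mul, zero_add]
      exact Finset.sum_congr rfl fun x _ => by ring
    have hτn : ∀ (n : ℕ) x, τ ^ n • e x = e ((n : (ZMod p)) + 1 * x) := by
      intro n
      induction n with
      | zero => intro x; simp
      | succ n ih => intro x; rw [pow_succ', mul_smul, ih, hτ]; congr 1; push_cast; ring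
    funext P
    obtain ⟨x, y⟩ := P
    obtain ⟨i, rfl⟩ := e.surjective x
    obtain ⟨j, rfl⟩ := e.surjective y
    have hshift : kerMap φ' u (e i, e j) = kerMap φ' u (e 0, e (j - i)) := by
      have h := hmove (τ ^ i.val) _ _ (hτn i.val) (e 0, e (j - i))
      rw [one_mul, Prod.smul_mk, hτn, hτn, ZMod.natCast_val, ZMod.cast_id] at h
      rw [← h]
      congr 1
      simp
    rw [Pi.zero_apply, hshift]
    by_cases hij : j - i = 0
    · rw [hij, kerMap_apply]
      exact Finset.sum_eq_zero fun z _ => by rw [hdiag, zero_mul]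
    have hscale : ∀ a' ∈ A, ∀ l : (ZMod p), kerMap φ' u (e 0, e ((a' : (ZMod p)ˣ) * l)) =
        (a' : (ZMod p)) * kerMap φ' u (e 0, e l) := fun a' ha' l => by
      obtain ⟨g, c', hg⟩ := haff a' ha'
      have h := hmove g c' a' hg (e 0, e l)
      rw [Prod.smul_mk, hg, hg] at h
      rw [← h]
      have h3 := hmove (τ ^ c'.val) _ _ (hτn c'.val) (e 0, e ((a' : (ZMod p)) * l))
      rw [one_mul, Prod.smul_mk, hτn, hτn, ZMod.natCast_val, ZMod.cast_id] at h3
      rw [← h3]
      congr 1
      simp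
    rcases hA (Units.mk0 _ hij) with h | h
    · have := hscale _ h 1
      rw [Units.val_mk0, mul_one, h1, mul_zero] at this
      exact this
    · have := hscale _ h (k₀ : (ZMod p))
      rw [hk, mul_zero, ← Units.val_mul, inv_mul_cancel_right, Units.val_mk0] at this
      exact this
  -- a relation between the three kernels
  let T : (Fin 3 → (ZMod p)) →ₗ[(ZMod p)] (ZMod p) × (ZMod p) :=
    { toFun := fun l => (∑ i, l i * kerMap (ψ i) u (e 0, e 1),
        ∑ i, l i * kerMap (ψ i) u (e 0, e (k₀ : (ZMod p))))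
      map_add' := fun l l' => by simp [add_mul, Finset.sum_add_distrib]
      map_smul' := fun r l => by simp [Finset.mul_sum, mul_assoc] }
  obtain ⟨l, hl, hl0⟩ := (Submodule.ne_bot_iff _).mp
    (LinearMap.ker_ne_bot_of_finrank_lt (f := T) (by simp))
  have hl' := LinearMap.mem_ker.mp hl
  let θ : Ω × Ω → Ω → (ZMod p) := fun P x => ∑ i, l i * ψ i P x
  have hθ : ∀ (g : G) P x, θ (g • P) (g • x) = θ P x := fun g P x => by simp only [θ, hψ]
  have hθsum : ∀ P, ∑ x, θ P x = 0 := fun P => by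
    simp only [θ]
    rw [Finset.sum_comm]
    simp [← Finset.mul_sum, hsum]
  have hθdiag : ∀ y x, θ (y, y) x = 0 := fun y x => by
    refine Finset.sum_eq_zero fun i _ => ?_
    have h1 : ¬ ∃ g : G, g • a = y ∧ g • b = y ∧ g • c i = x := fun ⟨g, ha, hb, _⟩ =>
      hab (MulAction.injective g (ha.trans hb.symm))
    have h2' : φ i (y, y) x = 0 := if_neg h1
    simp [ψ, φ₀, h2']
  have hlin : ∀ P, kerMap θ u P = ∑ i, l i * kerMap (ψ i) u P := fun P => by
    simp only [kerMap_apply, θ, Finset.sum_mul, Finset.mul_sum, mul_assoc]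
    rw [Finset.sum_comm]
  have hu0 : kerMap θ u = 0 := key θ hθ hθsum hθdiag
    ((hlin _).trans (congrArg Prod.fst hl')) ((hlin _).trans (congrArg Prod.snd hl'))
  let W : Subrepresentation (Cfsg.permRep (ZMod p) G Ω) :=
    { toSubmodule := LinearMap.ker (kerMap θ) ⊓ (Cfsg.permSumZero (ZMod p) G Ω).toSubmodule
      apply_mem_toSubmodule := by
        intro g v hv
        refine Submodule.mem_inf.mpr ⟨?_,
          (Cfsg.permSumZero (ZMod p) G Ω).apply_mem_toSubmodule g (Submodule.mem_inf.mp hv).2⟩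
        rw [LinearMap.mem_ker, kerMap_comm hθ g, LinearMap.mem_ker.mp (Submodule.mem_inf.mp hv).1,
          map_zero] }
  have hW : W = Cfsg.permSumZero (ZMod p) G Ω := by
    refine (hirr W ?_ inf_le_right).resolve_left fun h => ?_
    · intro v hv
      obtain ⟨r, rfl⟩ := (mem_permConstants_iff v).mp hv
      refine Submodule.mem_inf.mpr ⟨?_, ?_⟩
      · rw [LinearMap.mem_ker]
        funext P
        rw [kerMap_apply, ← Finset.sum_mul, hθsum, zero_mul]
        rfl
      · rw [mem_permSumZero_iff]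
        simp [hcard]
    · have hmem : u ∈ W.toSubmodule := Submodule.mem_inf.mpr ⟨LinearMap.mem_ker.mpr hu0, hu⟩
      rw [h, mem_permConstants_iff] at hmem
      obtain ⟨r, hr⟩ := hmem
      have h0 := congrFun hr (e 0)
      have h1 := congrFun hr (e 1)
      simp only [u, Equiv.symm_apply_apply] at h0 h1
      exact zero_ne_one (h0.trans h1.symm)
  apply hl0
  funext i
  have hv : Pi.single (c i) 1 - Pi.single b 1 ∈ W.toSubmodule := by
    rw [hW, mem_permSumZero_iff]
    simp
  have h := congrFun (LinearMap.mem_ker.mp (Submodule.mem_inf.mp hv).1) (a, b)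
  rw [map_sub, Pi.sub_apply, kerMap_single, kerMap_single, Pi.zero_apply] at h
  have hval : ∀ x, x ≠ a → θ (a, b) x = ∑ j, l j * φ j (a, b) x := fun x hx => by
    simp [θ, ψ, φ₀, hx]
  have h1 : ∀ j, φ j (a, b) (c i) = if j = i then 1 else 0 := fun j => by
    by_cases hj : j = i
    · subst hj
      rw [if_pos rfl]
      exact if_pos ⟨1, one_smul _ _, one_smul _ _, one_smul _ _⟩
    · rw [if_neg hj]
      exact if_neg fun ⟨g, ga, gb, gc⟩ => hdiff j i hj g ga gb gc
  have h3 : ∀ j, φ j (a, b) b = 0 := fun j => if_neg fun ⟨g, _, gb, gc⟩ =>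
    hcb j (MulAction.injective g (gc.trans gb.symm))
  rw [hval _ (hca i), hval _ hab.symm] at h
  simpa [h1, h3] using h

end

/-- Let G be an insoluble group acting faithfully and transitively on a finite set of prime size p, and suppose the normalizer of a Sylow p-subgroup of G has order p(p-1)/2. If p ≡ 3 (mod 4), then G is triply transitive, or for any two distinct points the stabilizer of both has exactly four orbits on the set (the two fixed points and exactly two orbits on the remaining p - 2 points). -/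
theorem result {G Ω : Type*} [Group G] [Finite G] [MulAction G Ω] [FaithfulSMul G Ω] [Finite Ω]
    (p : ℕ) (hp : p.Prime) (hΩ : Nat.card Ω = p) (htrans : MulAction.IsPretransitive G Ω)
    (hins : ¬ Group.IsSolvable G) (P : Sylow p G)
    (hN : 2 * Nat.card ↥(Subgroup.normalizer ((P : Subgroup G) : Set G)) = p * (p - 1))
    (hp3 : p % 4 = 3) :
    MulAction.IsMultiplyPretransitive G Ω 3 ∨
    ∀ α β : Ω, α ≠ β →
      Nat.card (MulAction.orbitRel.Quotient ↥(MulAction.stabilizer G α ⊓ MulAction.stabilizer G β) Ω) = 4 := by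
  classical
  haveI := Fintype.ofFinite Ω
  haveI := Fact.mk hp
  haveI := htrans
  haveI : Nonempty Ω := (Nat.card_pos_iff.mp (by rw [hΩ]; exact hp.pos)).1
  have hcard : Fintype.card Ω = p := Nat.card_eq_fintype_card.symm.trans hΩ
  let π := MulAction.toPermHom G Ω
  have hπ : Function.Injective π := fun x y h =>
    FaithfulSMul.eq_of_smul_eq_smul (α := Ω) fun z => Equiv.congr_fun h z
  let H : Subgroup (Equiv.Perm Ω) := π.range
  let ε : G ≃* H := MonoidHom.ofInjective hπ
  have hsmul : ∀ (g : G) (x : Ω), ε g • x = g • x := fun g x => rfl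
  haveI : IsPretransitive H Ω := ⟨fun x y => by
    obtain ⟨g, hg⟩ := exists_smul_eq G x y
    exact ⟨ε g, hg⟩⟩
  have hnsH : ¬ Group.IsSolvable H := fun h =>
    hins (solvable_of_solvable_injective (f := ε.toMonoidHom) ε.injective)
  have hp5 : 5 ≤ p := PrimeDeg.five_le_of_not_isSolvable hcard hnsH
  have h2H : IsMultiplyPretransitive H Ω 2 :=
    (Cfsg.Agent.FGS80.Burnside.isSolvable_or_two_transitive (G := H) hcard).resolve_left hnsH
  have h2 : IsMultiplyPretransitive G Ω 2 := is_two_pretransitive_iff.mpr fun {x y z w} hxy hzw => by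
    obtain ⟨h, h1, h3⟩ := is_two_pretransitive_iff.mp h2H hxy hzw
    obtain ⟨g, rfl⟩ := ε.surjective h
    exact ⟨g, h1, h3⟩
  -- coordinates
  have hdvd : p ∣ Nat.card G := by
    have h := Agent.Perm.card_dvd_card (G := G) (X := Ω)
    rwa [hΩ] at h
  have hPp : Nat.card (P : Subgroup G) = p := by
    obtain ⟨k, hk⟩ := IsPGroup.iff_card.mp P.2
    have h1 : p ∣ Nat.card (P : Subgroup G) := P.dvd_card_of_dvd_card hdvd
    have h3 : p ^ k ∣ Nat.card H := hk ▸ (Nat.card_congr ε.toEquiv) ▸ Subgroup.card_subgroup_dvd_card _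
    rcases k with _ | _ | k
    · rw [hk, pow_zero] at h1; exact absurd h1 hp.not_dvd_one
    · rw [hk, pow_one]
    · exact absurd ((pow_dvd_pow p (by omega)).trans h3) (PrimeDeg.not_sq_dvd_card hcard)
  obtain ⟨⟨τ, hτP⟩, hτo⟩ := exists_prime_orderOf_dvd_card' (G := (P : Subgroup G)) p (by rw [hPp])
  rw [Subgroup.orderOf_mk] at hτo
  have hPz : Subgroup.zpowers τ = (P : Subgroup G) :=
    Subgroup.eq_of_le_of_card_ge (Subgroup.zpowers_le.mpr hτP)
      (by rw [hPp, Nat.card_zpowers, hτo])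
  obtain ⟨e, he⟩ := PrimeDeg.exists_coord (p := p) hΩ (τ := π τ)
    (by rw [orderOf_injective π hπ, hτo])
  have hτe : ∀ i, τ • e i = e (i + 1) := he
  -- the multipliers
  let A : Subgroup (ZMod p)ˣ :=
    { carrier := {a | ∃ (g : G) (c : ZMod p), ∀ x, g • e x = e (c + (a : ZMod p) * x)}
      one_mem' := ⟨1, 0, fun x => by simp⟩
      mul_mem' := by
        rintro a b ⟨g, c, hg⟩ ⟨k, d, hk⟩
        exact ⟨g * k, c + (a : ZMod p) * d, fun x => by
          rw [mul_smul, hk, hg]; congr 1; push_cast; ring⟩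
      inv_mem' := by
        rintro a ⟨g, c, hg⟩
        refine ⟨g⁻¹, -((a⁻¹ : (ZMod p)ˣ) : ZMod p) * c, fun x => ?_⟩
        rw [inv_smul_eq_iff, hg]
        congr 1
        rw [mul_add, ← mul_assoc, ← mul_assoc, mul_neg, Units.mul_inv]
        ring }
  have hNA : ∀ n ∈ Subgroup.normalizer ((P : Subgroup G) : Set G), ∃ (c : ZMod p) (a : A),
      ∀ x, n • e x = e (c + ((a : (ZMod p)ˣ) : ZMod p) * x) := by
    intro n hn
    have h1 : n * τ * n⁻¹ ∈ Subgroup.zpowers τ := by
      rw [hPz]; exact (Subgroup.mem_normalizer_iff.mp hn τ).mp hτP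
    obtain ⟨j, hj⟩ := ((isOfFinOrder_of_finite τ).mem_powers_iff_mem_zpowers).mpr h1
    have hj' : ε n * ε τ * (ε n)⁻¹ = ε τ ^ j := by
      rw [← map_mul, ← map_inv, ← map_mul, ← map_pow]
      exact congrArg ε hj.symm
    have hx := PrimeDeg.conjPerm_add_one_of_normalizes (G := H) (e := e) (τ := ε τ) (g := ε n)
      hτe hj'
    have hj0 : (j : ZMod p) ≠ 0 := fun h0 => by
      have h3 := hx 1
      rw [h0, zero_mul, add_zero] at h3
      exact one_ne_zero ((PrimeDeg.conjPerm e (ε n)).injective h3)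
    have hg : ∀ x, n • e x = e (PrimeDeg.conjPerm e (ε n) 0 + (j : ZMod p) * x) := fun x => by
      rw [← hx, ← PrimeDeg.apply_coord]; rfl
    exact ⟨_, ⟨Units.mk0 _ hj0, n, _, hg⟩, hg⟩
  choose cN aN hcN using fun n : Subgroup.normalizer ((P : Subgroup G) : Set G) => hNA n.1 n.2
  have hinj : Function.Injective fun n => (cN n, aN n) := by
    intro n m h
    simp only [Prod.mk.injEq] at h
    apply Subtype.ext
    apply FaithfulSMul.eq_of_smul_eq_smul (α := Ω)
    intro x
    obtain ⟨i, rfl⟩ := e.surjective x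
    rw [hcN, hcN, h.1, h.2]
  have hle := Nat.card_le_card_of_injective _ hinj
  rw [Nat.card_prod, Nat.card_zmod] at hle
  have hidx : A.index ≤ 2 := by
    have h1 := A.card_mul_index
    rw [Nat.card_units, Nat.card_zmod] at h1
    have h3 : p - 1 ≤ 2 * Nat.card A := by
      have h4 : p * (p - 1) ≤ p * (2 * Nat.card A) := by
        rw [← hN, mul_left_comm p 2]; exact Nat.mul_le_mul_left 2 hle
      exact Nat.le_of_mul_le_mul_left h4 hp.pos
    rw [← h1, mul_comm 2 (Nat.card A)] at h3
    exact Nat.le_of_mul_le_mul_left h3 Nat.card_pos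
  obtain ⟨k₀, hk₀⟩ : ∃ k₀ : (ZMod p)ˣ, ∀ k, k ∈ A ∨ k * k₀⁻¹ ∈ A := by
    rcases (show A.index = 1 ∨ A.index = 2 by
      have := Subgroup.index_ne_zero_of_finite (H := A); omega) with h | h
    · exact ⟨1, fun k => Or.inl (by rw [Subgroup.index_eq_one.mp h]; exact Subgroup.mem_top k)⟩
    · obtain ⟨k₀, hk⟩ := Subgroup.index_eq_two_iff.mp h
      refine ⟨k₀⁻¹, fun k => ?_⟩
      rw [inv_inv]
      rcases hk k with h' | h'
      · exact Or.inr h'.1
      · exact Or.inl h'.1
  have hirr : ∀ W : Subrepresentation (Cfsg.permRep (ZMod p) G Ω),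
      (Cfsg.permConstants (ZMod p) G Ω).toSubmodule ≤ W.toSubmodule →
      W.toSubmodule ≤ (Cfsg.permSumZero (ZMod p) G Ω).toSubmodule →
      W = Cfsg.permConstants (ZMod p) G Ω ∨ W = Cfsg.permSumZero (ZMod p) G Ω := by
    intro W h1 h3
    let W' : Subrepresentation (Cfsg.permRep (ZMod p) H Ω) :=
      { toSubmodule := W.toSubmodule
        apply_mem_toSubmodule := fun g v hv => by
          obtain ⟨g, rfl⟩ := ε.surjective g
          have h := W.apply_mem_toSubmodule g hv
          have heq : Cfsg.permRep (ZMod p) H Ω (ε g) v = Cfsg.permRep (ZMod p) G Ω g v := by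
            funext x
            rw [permRep_apply, permRep_apply, ← map_inv, hsmul]
          rw [heq]; exact h }
    rcases PrimeDeg.heart_irreducible (τ := ε τ) (e := e) hnsH hτe W' h1 h3 with h | h
    · have h' := congrArg Subrepresentation.toSubmodule h
      exact Or.inl (Subrepresentation.toSubmodule_injective h')
    · have h' := congrArg Subrepresentation.toSubmodule h
      exact Or.inr (Subrepresentation.toSubmodule_injective h')
  have hthree : ∀ {a b : Ω}, a ≠ b → ∀ c : Fin 3 → Ω, (∀ i, c i ≠ a) → (∀ i, c i ≠ b) →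
      (∀ i j, i ≠ j → ∀ g : G, g • a = a → g • b = b → g • c i ≠ c j) → False :=
    fun hab c hca hcb hd => false_of_three hcard hp5 hirr h2 e τ hτe A k₀ hk₀
      (fun a ha => ha) hab c hca hcb hd
  by_cases h3 : IsMultiplyPretransitive G Ω 3
  · exact Or.inl h3
  refine Or.inr fun a b hab => ?_
  haveI := h2
  obtain ⟨c, d, hca, hcb, hda, hdb, hcd⟩ : ∃ c d : Ω, c ≠ a ∧ c ≠ b ∧ d ≠ a ∧ d ≠ b ∧
      ∀ g : G, g • a = a → g • b = b → g • c ≠ d := by
    by_contra hno
    push Not at hno
    apply h3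
    refine three_transitive_of_stabilizer fun a' b' c' d' hab' hca' hcb' hda' hdb' => ?_
    obtain ⟨g, ga, gb⟩ := is_two_pretransitive_iff.mp h2 hab' hab
    obtain ⟨k, ka, kb, kc⟩ := hno (g • c') (g • d')
      (fun h => hca' (MulAction.injective g (h.trans ga.symm)))
      (fun h => hcb' (MulAction.injective g (h.trans gb.symm)))
      (fun h => hda' (MulAction.injective g (h.trans ga.symm)))
      (fun h => hdb' (MulAction.injective g (h.trans gb.symm)))
    refine ⟨g⁻¹ * k * g, ?_, ?_, ?_⟩ <;> rw [mul_smul, mul_smul, inv_smul_eq_iff]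
    · rw [ga, ka]
    · rw [gb, kb]
    · exact kc
  set D := MulAction.stabilizer G a ⊓ MulAction.stabilizer G b with hDdef
  let q : Ω → orbitRel.Quotient D Ω := Quotient.mk _
  have hq : ∀ x y, q x = q y ↔ ∃ g : G, g • a = a ∧ g • b = b ∧ g • y = x := fun x y => by
    constructor
    · intro h
      obtain ⟨g, hg⟩ := Quotient.exact h
      exact ⟨g, g.2.1, g.2.2, hg⟩
    · rintro ⟨g, ga, gb, gy⟩
      exact Quotient.sound ⟨⟨g, ga, gb⟩, gy⟩
  let f : Fin 4 → orbitRel.Quotient D Ω := ![q a, q b, q c, q d]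
  have hfix : ∀ x, (q x = q a → x = a) ∧ (q x = q b → x = b) := fun x => by
    refine ⟨fun h => ?_, fun h => ?_⟩ <;> obtain ⟨g, ga, gb, gx⟩ := (hq _ _).mp h
    · exact gx.symm.trans ga
    · exact gx.symm.trans gb
  have hcd' : q d ≠ q c := fun h => by
    obtain ⟨g, ga, gb, gx⟩ := (hq _ _).mp h
    exact hcd g ga gb gx
  have hba : q b ≠ q a := fun h => hab ((hfix b).1 h).symm
  have hqca : q c ≠ q a := fun h => hca ((hfix c).1 h)
  have hqcb : q c ≠ q b := fun h => hcb ((hfix c).2 h)
  have hqda : q d ≠ q a := fun h => hda ((hfix d).1 h)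
  have hqdb : q d ≠ q b := fun h => hdb ((hfix d).2 h)
  have hfinj : Function.Injective f := by
    intro i j hij
    fin_cases i <;> fin_cases j <;> simp [f, hba, hqca, hqcb, hqda, hqdb, hcd', hba.symm,
      hqca.symm, hqcb.symm, hqda.symm, hqdb.symm, hcd'.symm] at hij ⊢
  have hfsurj : Function.Surjective f := by
    intro z
    obtain ⟨x, rfl⟩ := Quotient.exists_rep z
    by_contra hno
    push Not at hno
    refine hthree hab ![c, d, x] (fun i => ?_) (fun i => ?_) fun i j hij g ga gb h => ?_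
    · fin_cases i
      · exact hca
      · exact hda
      · exact fun h => hno 0 (congrArg q (Eq.symm h))
    · fin_cases i
      · exact hcb
      · exact hdb
      · exact fun h => hno 1 (congrArg q (Eq.symm h))
    · have h' : q (![c, d, x] j) = q (![c, d, x] i) := (hq _ _).mpr ⟨g, ga, gb, h⟩
      have hxc : q x ≠ q c := fun h => hno 2 h.symm
      have hxd : q x ≠ q d := fun h => hno 3 h.symm
      fin_cases i <;> fin_cases j <;> simp [hxc, hxd, hcd', hxc.symm, hxd.symm, hcd'.symm] at h' hij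
  rw [← Nat.card_congr (Equiv.ofBijective f ⟨hfinj, hfsurj⟩), Nat.card_fin]

end Cfsg.Agent.S3611
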