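import Cfsg.Statements.S3977
import Cfsg.Agent.S0016
import Cfsg.Agent.FG75.SubgroupCount

set_option autoImplicit false
set_option linter.style.haveILetI false
open Cfsg

namespace Cfsg.Agent.S3977

/-- Let `p` be a prime and `G` a group of order `p ^ m` which has exactly one subgroup of order `p ^ s`, where `1 ≤ s < m`, and where `s ≥ 2` if `p = 2`. Then `G` is cyclic. (For `p = 2` and `s = 1` the generalized quaternion groups also occur; that case is the classical criterion for a unique involution.) -/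
theorem result {G : Type*} [Group G] [Finite G] (p m s : ℕ) (hp : p.Prime) (hG : Nat.card G = p ^ m) (hs : 1 ≤ s) (hsm : s < m) (h2 : p ≠ 2 ∨ 2 ≤ s) (huniq : ∀ H K : Subgroup G, Nat.card H = p ^ s → Nat.card K = p ^ s → H = K) : IsCyclic G := by
  haveI := Fact.mk hp
  obtain ⟨H, hH⟩ := Sylow.exists_subgroup_card_pow_prime (G := G) p (n := s)
    (hG ▸ pow_dvd_pow p hsm.le)
  -- all small subgroups lie in `H`
  have hle : ∀ (A : Subgroup G) (j : ℕ), Nat.card A = p ^ j → j ≤ s → A ≤ H := by
    intro A j hA hj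
    obtain ⟨K, hK, hAK⟩ := Sylow.exists_subgroup_card_pow_prime_le p
      (hG ▸ pow_dvd_pow p hsm.le) A hA hj
    exact huniq K H hK hH ▸ hAK
  obtain ⟨K, hK, hHK⟩ := Sylow.exists_subgroup_card_pow_prime_le p
    (hG ▸ pow_dvd_pow p (show s + 1 ≤ m by omega)) H hH (Nat.le_succ s)
  obtain ⟨x, hxK, hxH⟩ : ∃ x ∈ K, x ∉ H := by
    by_contra hc
    push Not at hc
    have h1 := Subgroup.card_le_of_le (show K ≤ H from hc)
    rw [hK, hH] at h1
    exact absurd (Nat.pow_le_pow_iff_right hp.two_le |>.1 h1) (by omega)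
  have hx : Subgroup.zpowers x = K := by
    have hxle : Subgroup.zpowers x ≤ K := Subgroup.zpowers_le.2 hxK
    refine Subgroup.eq_of_le_of_card_ge hxle ?_
    obtain ⟨j, hj, hjeq⟩ := (Nat.dvd_prime_pow hp).1 (hK ▸ Subgroup.card_dvd_of_le hxle)
    by_cases hjs : j ≤ s
    · exact absurd (hle _ j hjeq hjs (Subgroup.mem_zpowers x)) hxH
    · rw [hjeq, hK]
      exact Nat.pow_le_pow_right hp.pos (by omega)
  haveI : IsCyclic K := hx ▸ inferInstance
  haveI hHc : IsCyclic H :=
    isCyclic_of_injective (Subgroup.inclusion hHK) (Subgroup.inclusion_injective hHK)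
  have huniq1 : ∀ A B : Subgroup G, Nat.card A = p → Nat.card B = p → A = B := by
    intro A B hA hB
    have hA' := hle A 1 (by simpa using hA) hs
    have hB' := hle B 1 (by simpa using hB) hs
    have h1 : A.subgroupOf H = B.subgroupOf H := by
      letI := IsCyclic.commGroup (α := H)
      have hA'' : Nat.card (A.subgroupOf H) = p :=
        (Nat.card_congr (Subgroup.subgroupOfEquivOfLe hA').toEquiv).trans hA
      have hB'' : Nat.card (B.subgroupOf H) = p :=
        (Nat.card_congr (Subgroup.subgroupOfEquivOfLe hB').toEquiv).trans hB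
      have hd : p ∣ Nat.card H := hA'' ▸ Subgroup.card_subgroup_dvd_card _
      haveI := (Nat.card_eq_one_iff_unique.1
        (FG75.SubgroupCount.card_subgroups_cyclic (C := H) hd)).1
      exact congrArg Subtype.val (Subsingleton.elim
        (⟨_, hA''⟩ : {L : Subgroup H // Nat.card L = p}) ⟨_, hB''⟩)
    have h3 := congrArg (Subgroup.map H.subtype) h1
    rwa [Subgroup.subgroupOf_map_subtype, Subgroup.subgroupOf_map_subtype, inf_of_le_left hA',
      inf_of_le_left hB'] at h3
  rcases S0016.result (G := G) p (IsPGroup.of_card (n := m) hG) huniq1 with hc | ⟨rfl, n, ⟨e⟩⟩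
  · exact hc
  have hs2 : 2 ≤ s := h2.resolve_left (by simp)
  have hord : ∀ i, orderOf (e.symm (QuaternionGroup.xa i)) = 2 ^ 2 := fun i => by
    rw [MulEquiv.orderOf_eq, QuaternionGroup.orderOf_xa]; norm_num
  have hin : ∀ i, e.symm (QuaternionGroup.xa i) ∈ H := fun i =>
    hle _ 2 ((Nat.card_zpowers _).trans (hord i)) hs2 (Subgroup.mem_zpowers _)
  have hcomm : (QuaternionGroup.xa 0 : QuaternionGroup (2 ^ n)) * QuaternionGroup.xa 1 =
      QuaternionGroup.xa 1 * QuaternionGroup.xa 0 := by
    letI := IsCyclic.commGroup (α := H)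
    have h3 : (⟨_, hin 0⟩ : H) * ⟨_, hin 1⟩ = ⟨_, hin 1⟩ * ⟨_, hin 0⟩ := mul_comm _ _
    have h4 := congrArg e (congrArg Subtype.val h3)
    simpa using h4
  have hn : n = 0 := by
    rw [QuaternionGroup.xa_mul_xa, QuaternionGroup.xa_mul_xa, QuaternionGroup.a.injEq] at hcomm
    have h3 : ((2 : ℕ) : ZMod (2 * 2 ^ n)) = 0 := by
      push_cast
      linear_combination hcomm
    rw [ZMod.natCast_eq_zero_iff] at h3
    by_contra hne
    have := Nat.le_of_dvd two_pos h3
    have h4 : 2 ≤ 2 ^ n := Nat.le_self_pow hne 2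
    omega
  subst hn
  refine isCyclic_of_orderOf_eq_card (e.symm (QuaternionGroup.xa 0)) ?_
  rw [hord, Nat.card_congr e.toEquiv, Nat.card_eq_fintype_card, QuaternionGroup.card]
  norm_num

end Cfsg.Agent.S3977
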