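import Cfsg.Statements.S2925
import Cfsg.Agent.Lib.Components.Basic
import Cfsg.Agent.ConjFunctor.Basic

set_option autoImplicit false
open Cfsg

namespace Cfsg.Agent.S2925

open Cfsg.Agent.ConjFunctor in
/-- A Sylow subgroup meets a subnormal subgroup in a Sylow subgroup of it. -/
theorem isSylowIn_inf_of_isSubnormal {X : Type*} [Group X] [Finite X] {p : ℕ} [Fact p.Prime]
    (T : Sylow p X) {K : Subgroup X} (hK : K.IsSubnormal) :
    IsSylowIn p ((T : Subgroup X) ⊓ K) K := by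
  induction hK with
  | top => rw [inf_top_eq]; exact isSylowIn_top T
  | step H K h_le _ hN ih =>
    have h := isSylowIn_inf_of_normal ih h_le
      ((Subgroup.normal_subgroupOf_iff_le_normalizer h_le).mp hN)
    rwa [inf_assoc, inf_of_le_right h_le] at h

/-- Let K be a component of the finite group X and T a Sylow 2-subgroup of X. If some abelian normal subgroup Y of T does not normalize K, then K ⧸ Z(K) has abelian Sylow 2-subgroups. -/
theorem result {X : Type*} [Group X] [Finite X] (K : Subgroup X) (hK : Cfsg.IsComponent K) (T : Sylow 2 X) (Y : Subgroup X) (hYT : Y ≤ (T : Subgroup X)) (hYn : (Y.subgroupOf (T : Subgroup X)).Normal) (hYab : IsMulCommutative ↥Y) (hnot : ¬ Y ≤ Subgroup.normalizer (K : Set X)) (P : Sylow 2 (↥K ⧸ Subgroup.center ↥K)) : IsMulCommutative ↥(P : Subgroup (↥K ⧸ Subgroup.center ↥K)) := by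
  haveI : Fact (Nat.Prime 2) := ⟨Nat.prime_two⟩
  obtain ⟨y, hyY, hy⟩ := SetLike.not_le_iff_exists.mp hnot
  set K' := K.map (MulAut.conj y).toMonoidHom with hK'
  have hne : K ≠ K' := fun h => hy (Components.map_conj_eq_iff_mem_normalizer.mp h.symm)
  have hK'c : Cfsg.IsComponent K' := Components.component_map_conj y hK
  obtain ⟨P₀, hP₀⟩ := (isSylowIn_inf_of_isSubnormal T hK.1).exists_sylow
  have key : ∀ a ∈ P₀, ∀ b ∈ P₀, QuotientGroup.mk' (Subgroup.center ↥K) (a * b) =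
      QuotientGroup.mk' (Subgroup.center ↥K) (b * a) := by
    intro a ha b hb
    have haT : (a : X) ∈ (T : Subgroup X) ∧ (a : X) ∈ K :=
      hP₀.le ⟨a, ha, rfl⟩
    have hbT : (b : X) ∈ (T : Subgroup X) ∧ (b : X) ∈ K :=
      hP₀.le ⟨b, hb, rfl⟩
    have hcY : ∀ s : X, s ∈ (T : Subgroup X) → s * (y * s * y⁻¹)⁻¹ ∈ Y := by
      intro s hs
      have h1 : s * y * s⁻¹ ∈ Y := hYn.conj_mem ⟨y, hYT hyY⟩ hyY ⟨s, hs⟩
      simpa [mul_assoc] using Y.mul_mem h1 (Y.inv_mem hyY)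
    have hcm : ∀ s t : X, s ∈ K → t ∈ K → t * (y * s * y⁻¹)⁻¹ = (y * s * y⁻¹)⁻¹ * t := by
      intro s t hs ht
      exact (Subgroup.mem_centralizer_iff.mp (Components.component_le_centralizer hK hK'c hne ht) _
        (K'.inv_mem ⟨s, hs, rfl⟩)).symm
    have h2 : (a : X) * (y * (a : X) * y⁻¹)⁻¹ * ((b : X) * (y * (b : X) * y⁻¹)⁻¹) =
        (b : X) * (y * (b : X) * y⁻¹)⁻¹ * ((a : X) * (y * (a : X) * y⁻¹)⁻¹) :=
      congrArg Subtype.val
        (hYab.is_comm.comm ⟨_, hcY _ haT.1⟩ ⟨_, hcY _ hbT.1⟩)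
    have hab' := hcm a b haT.2 hbT.2
    have hba' := hcm b a hbT.2 haT.2
    have h5 : ∀ s : X, s ∈ K → (y * s * y⁻¹)⁻¹ ∈ K' := fun s hs => K'.inv_mem ⟨s, hs, rfl⟩
    have hA := h5 _ haT.2
    have hB := h5 _ hbT.2
    generalize (y * (a : X) * y⁻¹)⁻¹ = c at h2 hab' hba' hA
    generalize (y * (b : X) * y⁻¹)⁻¹ = d at h2 hab' hba' hB
    have h3 : ((b : X) * a)⁻¹ * ((a : X) * b) = (d * c) * (c * d)⁻¹ := by
      have e1 : (a : X) * c * ((b : X) * d) = (a : X) * b * (c * d) := by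
        rw [mul_assoc, ← mul_assoc c (b : X), ← hab']; simp only [mul_assoc]
      have e2 : (b : X) * d * ((a : X) * c) = (b : X) * a * (d * c) := by
        rw [mul_assoc, ← mul_assoc d (a : X), ← hba']; simp only [mul_assoc]
      rw [e1, e2, ← eq_mul_inv_iff_mul_eq] at h2
      rw [h2]
      group
    have h4 : ((b : X) * a)⁻¹ * ((a : X) * b) ∈ K ⊓ K' := by
      refine Subgroup.mem_inf.mpr ⟨?_, ?_⟩
      · exact K.mul_mem (K.inv_mem (K.mul_mem hbT.2 haT.2)) (K.mul_mem haT.2 hbT.2)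
      · rw [h3]
        exact K'.mul_mem (K'.mul_mem hB hA) (K'.inv_mem (K'.mul_mem hA hB))
    have h6 := Components.component_inf_le_centralizer hK hK'c hne h4
    refine (QuotientGroup.eq.mpr ?_).symm
    exact Subgroup.mem_center_iff.mpr fun k => Subtype.ext (Subgroup.mem_centralizer_iff.mp h6 k k.2)
  set P₁ := P₀.mapSurjective (QuotientGroup.mk'_surjective (Subgroup.center ↥K)) with hP₁
  have hab : ∀ u v : P₁, u * v = v * u := by
    rintro ⟨_, a, ha, rfl⟩ ⟨_, b, hb, rfl⟩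
    refine Subtype.ext ?_
    show QuotientGroup.mk' _ a * QuotientGroup.mk' _ b = QuotientGroup.mk' _ b * QuotientGroup.mk' _ a
    rw [← map_mul, ← map_mul]
    exact key a ha b hb
  let e := Sylow.equiv P₁ P
  refine ⟨⟨fun u v => ?_⟩⟩
  obtain ⟨u, rfl⟩ := e.surjective u
  obtain ⟨v, rfl⟩ := e.surjective v
  rw [← map_mul, ← map_mul, hab]

end Cfsg.Agent.S2925
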