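import Cfsg.Statements.S2553
import Cfsg.Agent.KnownSimple58.A8Subgroups
import Cfsg.Agent.S0494
import Cfsg.Agent.S2119
import Cfsg.Agent.Classification.SmallPSLUnique
import Cfsg.Agent.Lib.SmallGroups.Order168

set_option autoImplicit false
open Cfsg

namespace Cfsg.Agent.S2553

open Subgroup
open Cfsg.Agent.KnownSimple58.A8Sub

/-- `SL_n(2) ≅ GL_n(2)` -/
theorem sl_equiv_gl (n : ℕ) : Nonempty (Matrix.SpecialLinearGroup (Fin n) (ZMod 2) ≃* GL (Fin n) (ZMod 2)) := by
  refine ⟨MulEquiv.ofBijective Matrix.SpecialLinearGroup.toGL ⟨?_, ?_⟩⟩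
  · intro a b h
    exact Subtype.ext (congrArg Units.val h)
  · intro g
    have h : ∀ c : ZMod 2, c ≠ 0 → c = 1 := by decide
    exact ⟨⟨g, h _ ((Matrix.isUnit_iff_isUnit_det _).mp g.isUnit).ne_zero⟩, Units.ext rfl⟩

theorem equiv_alt {G : Type*} [Group G] {β : Type*} [Finite β] (k : ℕ) (hk : 2 ≤ k) (hβ : Nat.card β = k)
    (f : G →* Equiv.Perm β) (hf : Function.Injective f) (hG : 2 * Nat.card G = k.factorial) :
    Nonempty (G ≃* alternatingGroup (Fin k)) := by
  let e : β ≃ Fin k := (Finite.equivFin β).trans (finCongr hβ)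
  let f' : G →* Equiv.Perm (Fin k) := e.permCongrHom.toMonoidHom.comp f
  have hf' : Function.Injective f' := e.permCongrHom.injective.comp hf
  have h1 : f'.range.index = 2 := by
    have := f'.range.index_mul_card
    rw [← Nat.card_congr (MonoidHom.ofInjective hf').toEquiv, Nat.card_perm, Nat.card_fin, ← hG] at this
    exact Nat.eq_of_mul_eq_mul_right (Nat.pos_of_ne_zero fun h0 => by rw [h0] at hG; exact k.factorial_ne_zero hG.symm) this
  rw [← Equiv.Perm.eq_alternatingGroup_of_index_eq_two h1]
  exact ⟨MonoidHom.ofInjective hf'⟩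

variable {X : Type} [Group X] [Finite X]

theorem not_comm_normal (h' : Cfsg.pPrimeCore 2 X = ⊥) (h2 : Cfsg.pCore 2 X = ⊥) (M : Subgroup X) [M.Normal]
    (hM : M ≠ ⊥) : ¬ IsMulCommutative M := by
  intro hc
  have hcard : Nat.card M ≠ 1 := fun h => hM (Subgroup.eq_bot_of_card_eq _ h)
  obtain ⟨p, hp, hpd⟩ := Nat.exists_prime_and_dvd hcard
  haveI : Fact p.Prime := ⟨hp⟩
  let S : Subgroup X :=
    { carrier := {x | x ∈ M ∧ x ^ p = 1}
      one_mem' := ⟨one_mem M, one_pow p⟩
      mul_mem' := fun {a b} ha hb => ⟨mul_mem ha.1 hb.1, by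
        have hab : Commute a b := congrArg Subtype.val (hc.is_comm.comm ⟨a, ha.1⟩ ⟨b, hb.1⟩)
        rw [hab.mul_pow, ha.2, hb.2, one_mul]⟩
      inv_mem' := fun {a} ha => ⟨inv_mem ha.1, by rw [inv_pow, ha.2, inv_one]⟩ }
  have hSn : S.Normal := ⟨fun a ha g => ⟨Subgroup.Normal.conj_mem inferInstance a ha.1 g, by
    rw [conj_pow, ha.2, mul_one, mul_inv_cancel]⟩⟩
  have hSp : IsPGroup p S := fun a => ⟨1, by
    rw [pow_one]; exact Subtype.ext (by rw [SubmonoidClass.coe_pow]; exact a.2.2)⟩
  obtain ⟨x, hx⟩ := exists_prime_orderOf_dvd_card' (G := M) p hpd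
  have hxS : (x : X) ∈ S := ⟨x.2, by rw [← Subgroup.coe_pow, ← hx, pow_orderOf_eq_one, Subgroup.coe_one]⟩
  have hx1 : (x : X) ≠ 1 := fun h => hp.ne_one (by rw [← hx, show x = 1 from Subtype.ext h, orderOf_one])
  have hSb : S = ⊥ := by
    rcases eq_or_ne p 2 with rfl | hp2
    · exact le_bot_iff.mp (h2 ▸ le_sSup ⟨hSn, hSp⟩)
    · refine le_bot_iff.mp (h' ▸ le_sSup ⟨hSn, ?_⟩)
      obtain ⟨k, hk⟩ := hSp.exists_card_eq
      rw [hk]
      exact Nat.Coprime.pow_left k ((Nat.coprime_primes hp Nat.prime_two).mpr hp2)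
  exact hx1 (Subgroup.mem_bot.mp (hSb ▸ hxS))

theorem min_normal (h' : Cfsg.pPrimeCore 2 X = ⊥) (h2 : Cfsg.pCore 2 X = ⊥) (ι : X →* A) (hι : Function.Injective ι)
    (M : Subgroup X) [M.Normal] (hM : M ≠ ⊥) (hmin : ∀ L : Subgroup X, L.Normal → L ≤ M → L = ⊥ ∨ L = M) :
    IsSimpleGroup M ∧ ¬ IsMulCommutative M ∧
      (Nat.card M = 60 ∨ Nat.card M = 168 ∨ Nat.card M = 360 ∨ Nat.card M = 2520 ∨ Nat.card M = 20160) := by
  have hnc := not_comm_normal h' h2 M hM
  haveI : Nontrivial M := (Subgroup.nontrivial_iff_ne_bot M).mpr hM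
  obtain ⟨T, hT, m, hm, ⟨e⟩⟩ := Cfsg.Agent.PermB.exists_simple_power (K := M) fun S hS => by
    have hn : (S.map M.subtype).Normal := ⟨by
      rintro _ ⟨a, ha, rfl⟩ g
      exact ⟨MulAut.conjNormal g a, hS _ (Set.mem_univ _) a ha, MulAut.conjNormal_apply g a⟩⟩
    rcases hmin _ hn (Subgroup.map_subtype_le S) with h | h
    · exact Or.inl ((Subgroup.map_eq_bot_iff_of_injective _ M.subtype_injective).mp h)
    · refine Or.inr (Subgroup.map_injective M.subtype_injective ?_)
      rw [h, ← MonoidHom.range_eq_map, Subgroup.range_subtype]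
  have hTc : ¬ IsMulCommutative T := fun hc => hnc ⟨⟨fun a b => e.injective (by
    rw [map_mul, map_mul]; exact funext fun i => hc.is_comm.comm _ _)⟩⟩
  let j : (Fin m → T) →* A := (ι.comp M.subtype).comp e.symm.toMonoidHom
  have hj : Function.Injective j := hι.comp (M.subtype_injective.comp e.symm.injective)
  have hTA : Function.Injective (j.comp (MonoidHom.mulSingle (fun _ : Fin m => T) ⟨0, hm⟩)) :=
    hj.comp (Pi.mulSingle_injective (M := fun _ : Fin m => T) (⟨0, hm⟩ : Fin m))
  have hlist := card_mem _ hTA hTc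
  have hd := dvd_card j hj
  rw [Nat.card_fun, Nat.card_fin] at hd
  have hm1 : m = 1 := by
    by_contra hne
    have h2d : Nat.card T ^ 2 ∣ 20160 := (pow_dvd_pow _ (by omega)).trans hd
    rcases hlist with h | h | h | h | h <;> rw [h] at h2d <;> norm_num at h2d
  subst hm1
  let e1 : M ≃* T :=
    { e.toEquiv.trans (Equiv.funUnique (Fin 1) T) with map_mul' := fun a b => congrFun (map_mul e a b) default }
  exact ⟨IsSimpleGroup.isSimpleGroup_of_surjective e1.symm.toMonoidHom e1.symm.surjective, hnc,
    by rw [Nat.card_congr e1.toEquiv]; exact hlist⟩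

theorem main (h' : Cfsg.pPrimeCore 2 X = ⊥) (h2 : Cfsg.pCore 2 X = ⊥) (ι : X →* A) (hι : Function.Injective ι)
    [Nontrivial X] :
    (∃ n : ℕ, 5 ≤ n ∧ n ≤ 8 ∧ Nonempty (X ≃* alternatingGroup (Fin n))) ∨
    Nonempty (X ≃* Equiv.Perm (Fin 5)) ∨ Nonempty (X ≃* Equiv.Perm (Fin 6)) ∨
    Nonempty (X ≃* GL (Fin 3) (ZMod 2)) := by
  classical
  obtain ⟨N, ⟨hNn, hN0⟩, hNmin⟩ := (Set.toFinite {L : Subgroup X | L.Normal ∧ L ≠ ⊥}).exists_minimal
    ⟨⊤, inferInstance, top_ne_bot⟩
  haveI := hNn
  have hmin : ∀ L : Subgroup X, L.Normal → L ≤ N → L = ⊥ ∨ L = N := fun L hL hle =>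
    or_iff_not_imp_left.mpr fun h0 => le_antisymm hle (hNmin ⟨hL, h0⟩ hle)
  obtain ⟨hNs, hNc, hNl⟩ := min_normal h' h2 ι hι N hN0 hmin
  haveI := hNs
  -- trivial centraliser
  have hC : Subgroup.centralizer (N : Set X) = ⊥ := by
    by_contra hC0
    obtain ⟨M, ⟨hMn, hM0, hMC⟩, hMmin⟩ :=
      (Set.toFinite {L : Subgroup X | L.Normal ∧ L ≠ ⊥ ∧ L ≤ Subgroup.centralizer (N : Set X)}).exists_minimal
        ⟨_, inferInstance, hC0, le_rfl⟩
    haveI := hMn
    obtain ⟨hMs, hMc, hMl⟩ := min_normal h' h2 ι hι M hM0 (fun L hL hle => or_iff_not_imp_left.mpr fun h0 =>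
      le_antisymm hle (hMmin ⟨hL, h0, hle.trans hMC⟩ hle))
    let j : N × M →* X :=
      { toFun := fun a => (a.1 : X) * (a.2 : X)
        map_one' := by simp
        map_mul' := fun a b => by
          have hc : (b.1 : X) * (a.2 : X) = (a.2 : X) * (b.1 : X) :=
            Subgroup.mem_centralizer_iff.mp (hMC a.2.2) _ b.1.2
          simp only [Prod.fst_mul, Prod.snd_mul, Subgroup.coe_mul, mul_assoc]
          rw [← mul_assoc (b.1 : X), hc, mul_assoc] }
    have hj : Function.Injective j := by
      rw [injective_iff_map_eq_one]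
      rintro ⟨⟨a, ha⟩, ⟨b, hb⟩⟩ h
      have h1 : a * b = 1 := h
      have hb1 : b = 1 := by
        have hbN : b ∈ N := by rw [eq_inv_of_mul_eq_one_right h1]; exact inv_mem ha
        have : (⟨b, hbN⟩ : N) ∈ Subgroup.center N := Subgroup.mem_center_iff.mpr fun g => Subtype.ext
          (Subgroup.mem_centralizer_iff.mp (hMC hb) _ g.2)
        rw [SmallGroups.center_eq_bot_of_not_comm hNc, Subgroup.mem_bot] at this
        exact congrArg Subtype.val this
      subst hb1
      rw [mul_one] at h1
      subst h1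
      rfl
    have hd := dvd_card (ι.comp j) (hι.comp hj)
    rw [Nat.card_prod] at hd
    have hi := (ι.comp j).range.index_mul_card
    rw [← Nat.card_congr (MonoidHom.ofInjective (hι.comp hj : Function.Injective (ι.comp j))).toEquiv, Nat.card_prod,
      card_A] at hi
    have hone : (ι.comp j).range.index < 8 → (ι.comp j).range.index = 1 := fun hlt => by
      rw [index_eq_one _ hlt, Subgroup.index_top]
    rcases hNl with h | h | h | h | h <;> rcases hMl with h'' | h'' | h'' | h'' | h'' <;>
      rw [h, h''] at hd hi <;> omega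
  let φ : X →* MulAut N := MulAut.conjNormal
  have hφ : Function.Injective φ := by
    rw [injective_iff_map_eq_one]
    intro g hg
    refine Subgroup.mem_bot.mp (hC ▸ Subgroup.mem_centralizer_iff.mpr fun n hn => ?_)
    have := MulAut.conjNormal_apply g (⟨n, hn⟩ : N)
    rw [show MulAut.conjNormal g = (1 : MulAut N) from hg] at this
    exact mul_inv_eq_iff_eq_mul.mp this.symm |>.symm
  have hNX := N.card_mul_index
  have hXd := dvd_card ι hι
  have hiX := ι.range.index_mul_card
  rw [← Nat.card_congr (MonoidHom.ofInjective hι).toEquiv, card_A] at hiX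
  have hpos : 0 < N.index := Nat.pos_of_ne_zero Subgroup.index_ne_zero_of_finite
  have hone : ι.range.index < 8 → ι.range.index = 1 := fun hlt => by rw [index_eq_one _ hlt, Subgroup.index_top]
  have htop : N.index = 1 → N = ⊤ := Subgroup.index_eq_one.mp
  haveI hAs : IsSimpleGroup A := alternatingGroup.isSimpleGroup (by simp)
  rcases hNl with h60 | h168 | h360 | h2520 | hall
  · -- A₅, S₅
    obtain ⟨e⟩ := Cfsg.Agent.S0494.result (G := N) h60
    let ψ : Equiv.Perm (Fin 5) ≃* MulAut N :=
      (MulEquiv.ofBijective _ (Cfsg.Agent.S2119.result 5 (by norm_num) (by norm_num))).trans (MulAut.congr e.symm)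
    let f : X →* Equiv.Perm (Fin 5) := ψ.symm.toMonoidHom.comp φ
    have hf : Function.Injective f := ψ.symm.injective.comp hφ
    have hd := Subgroup.card_dvd_of_injective f hf
    rw [Nat.card_perm, Nat.card_fin, show Nat.factorial 5 = 120 from rfl, ← hNX, h60] at hd
    have : N.index ∣ 2 := Nat.dvd_of_mul_dvd_mul_left (by norm_num) (show 60 * N.index ∣ 60 * 2 from hd)
    rcases (Nat.dvd_prime Nat.prime_two).mp this with h1 | h2'
    · left
      refine ⟨5, le_rfl, by norm_num, ⟨?_⟩⟩
      exact ((MulEquiv.subgroupCongr (htop h1)).trans Subgroup.topEquiv).symm.trans e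
    · right; left
      refine ⟨MulEquiv.ofBijective f ((Nat.bijective_iff_injective_and_card f).mpr ⟨hf, ?_⟩)⟩
      rw [Nat.card_perm, Nat.card_fin, ← hNX, h60, h2']
      rfl
  · -- GL₃(2)
    right; right; right
    haveI : Fact (Nat.Prime 7) := ⟨by norm_num⟩
    have h7X : 7 ∣ Nat.card X := hNX ▸ Dvd.dvd.mul_right (by rw [h168]; norm_num) _
    have hnot : ¬ 7 ^ 2 ∣ Nat.card X := fun h => absurd (h.trans hXd) (by norm_num)
    have hcop : ¬ 7 ∣ N.index := by
      intro hd
      exact hnot (hNX ▸ by rw [h168, pow_two]; exact mul_dvd_mul (by norm_num) hd)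
    have hin : ∀ g : X, orderOf g = 7 → g ∈ N := fun g hg => by
      rw [← QuotientGroup.eq_one_iff, ← orderOf_eq_one_iff]
      have h1 : orderOf (g : X ⧸ N) ∣ 7 := hg ▸ orderOf_map_dvd (QuotientGroup.mk' N) g
      rcases (Nat.dvd_prime (by norm_num)).mp h1 with h | h
      · exact h
      · exact absurd (h ▸ orderOf_dvd_natCard (g : X ⧸ N) : 7 ∣ Nat.card (X ⧸ N)) hcop
    have hcnt : Nat.card {g : X // orderOf g = 7} = Nat.card {g : N // orderOf g = 7} :=
      Nat.card_congr
        { toFun := fun g => ⟨⟨g.1, hin _ g.2⟩, by rw [← Subgroup.orderOf_coe]; exact g.2⟩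
          invFun := fun g => ⟨g.1.1, by rw [Subgroup.orderOf_coe]; exact g.2⟩
          left_inv := fun _ => rfl
          right_inv := fun _ => rfl }
    rw [SmallGroups.card_orderOf_eq (fun P => sylow_card h7X hnot P),
      SmallGroups.card_orderOf_eq (G := N) (fun P => sylow_card (by rw [h168]; norm_num)
        (by rw [h168]; norm_num) P), SmallGroups.Order168.n_seven h168] at hcnt
    obtain ⟨P⟩ : Nonempty (Sylow 7 X) := inferInstance
    have hd := normalizer_dvd ι hι 7 21 h7X (by norm_num) card_normalizer_seven P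
    have hm := (Subgroup.normalizer ((P : Subgroup X) : Set X)).index_mul_card
    replace hm : Nat.card (Sylow 7 X) * Nat.card ↥(Subgroup.normalizer ((P : Subgroup X) : Set X)) = Nat.card X := by
      rw [P.card_eq_index_normalizer]; exact hm
    have hle := Nat.le_of_dvd (by norm_num) hd
    have h1 : N.index = 1 := by nlinarith
    obtain ⟨ε⟩ := sl_equiv_gl 3
    haveI : IsSimpleGroup (Matrix.SpecialLinearGroup (Fin 3) (ZMod 2)) := by
      have := Cfsg.Agent.LinearGroup.isSimpleGroup_PSL_of_three_le (ι := Fin 3) (F := ZMod 2) (by simp)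
      exact (Cfsg.Agent.LinearGroup.slEquivPSL (by rw [Nat.card_zmod]; rfl)).isSimpleGroup
    have hG : Nat.card (Matrix.SpecialLinearGroup (Fin 3) (ZMod 2)) = 168 := by
      rw [Nat.card_congr ε.toEquiv, Matrix.card_GL_field, ZMod.card]
      simp [Fin.prod_univ_succ]
    obtain ⟨e⟩ := Cfsg.Agent.Classification.equiv_168 (G := N) h168 hG
    exact ⟨(((MulEquiv.subgroupCongr (htop h1)).trans Subgroup.topEquiv).symm.trans e).trans ε⟩
  · -- A₆, S₆
    letI : MulAction X (Fin 8) := MulAction.compHom _ ((alternatingGroup (Fin 8)).subtype.comp ι)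
    have hfaith : ∀ g : X, (∀ a : Fin 8, g • a = a) → g = 1 := fun g hg =>
      hι (by rw [map_one]; exact Subtype.ext (Equiv.ext hg))
    have hsize : ∀ a : Fin 8, (MulAction.orbit N a).ncard = 1 ∨ (MulAction.orbit N a).ncard = 6 := by
      intro a
      have hle : (MulAction.orbit N a).ncard ≤ 8 := by
        exact (Set.ncard_le_ncard (Set.subset_univ _)).trans (by simp)
      have hm := (MulAction.stabilizer N a).index_mul_card
      rw [← MulAction.index_stabilizer] at hle ⊢
      by_cases ht : MulAction.stabilizer N a = ⊤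
      · left; rw [ht, Subgroup.index_top]
      have h2 := SmallGroups.two_mul_card_dvd_index hNc ht
      rw [h360] at h2 hm
      generalize hk : (MulAction.stabilizer N a).index = k at h2 hm hle
      interval_cases k <;> try (norm_num [Nat.factorial] at h2)
      all_goals try omega
      -- orbit of size 8
      exfalso
      have hS : Nat.card (MulAction.stabilizer N a) = 45 := by omega
      haveI : Fact (Nat.Prime 5) := ⟨by norm_num⟩
      obtain ⟨P⟩ : Nonempty (Sylow 5 (MulAction.stabilizer N a)) := inferInstance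
      have hd := normalizer_dvd ((ι.comp N.subtype).comp (MulAction.stabilizer N a).subtype)
        (hι.comp (N.subtype_injective.comp (MulAction.stabilizer N a).subtype_injective)) 5 60 (by rw [hS]; norm_num)
        (by norm_num) card_normalizer_five P
      have hi := (Subgroup.normalizer ((P : Subgroup (MulAction.stabilizer N a)) : Set (MulAction.stabilizer N a))).index_mul_card
      replace hi : Nat.card (Sylow 5 (MulAction.stabilizer N a)) *
          Nat.card ↥(Subgroup.normalizer ((P : Subgroup (MulAction.stabilizer N a)) : Set (MulAction.stabilizer N a))) = 45 := by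
        rw [P.card_eq_index_normalizer, ← hS]; exact hi
      have hn5 := card_sylow_modEq_one 5 (MulAction.stabilizer N a)
      have hmem : Nat.card (Sylow 5 (MulAction.stabilizer N a)) ∈ Nat.divisors 45 :=
        Nat.mem_divisors.mpr ⟨Dvd.intro _ hi, by norm_num⟩
      have key : ∀ n ∈ Nat.divisors 45, n % 5 = 1 → n = 1 := by decide
      rw [key _ hmem hn5, one_mul] at hi
      rw [hi] at hd
      norm_num at hd
    obtain ⟨a, ha⟩ : ∃ a : Fin 8, (MulAction.orbit N a).ncard = 6 := by
      by_contra hno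
      push Not at hno
      refine hN0 ((Subgroup.eq_bot_iff_forall _).mpr fun g hg => hfaith g fun a => ?_)
      obtain ⟨b, hb⟩ := Set.ncard_eq_one.mp ((hsize a).resolve_right (hno a))
      have e1 : g • a ∈ MulAction.orbit N a := MulAction.mem_orbit a (⟨g, hg⟩ : N)
      have e2 : a ∈ MulAction.orbit N a := MulAction.mem_orbit_self a
      rw [hb] at e1 e2
      exact e1.trans e2.symm
    let Ω := MulAction.orbit N a
    have hfix : ∀ b : Fin 8, b ∉ Ω → ∀ n : N, n • b = b := by
      intro b hb n
      have hdisj : Disjoint Ω (MulAction.orbit N b) := Set.disjoint_left.mpr fun x hx hx' => hb (by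
        show b ∈ MulAction.orbit N a
        rw [← (MulAction.orbit_eq_iff.mpr hx : MulAction.orbit N x = MulAction.orbit N a),
          (MulAction.orbit_eq_iff.mpr hx' : MulAction.orbit N x = MulAction.orbit N b)]
        exact MulAction.mem_orbit_self b)
      have h8 : (Ω ∪ MulAction.orbit N b).ncard ≤ 8 := by
        exact (Set.ncard_le_ncard (Set.subset_univ _)).trans (by simp)
      rw [Set.ncard_union_eq hdisj, ha] at h8
      obtain ⟨c, hc⟩ := Set.ncard_eq_one.mp ((hsize b).resolve_right (by omega))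
      have e1 : n • b ∈ MulAction.orbit N b := MulAction.mem_orbit b n
      have e2 : b ∈ MulAction.orbit N b := MulAction.mem_orbit_self b
      rw [hc] at e1 e2
      exact e1.trans e2.symm
    have hΩinv : ∀ g : X, ∀ b ∈ Ω, g • b ∈ Ω := by
      intro g b hb
      by_contra hgb
      have hall : ∀ n : N, n • b = b := fun n => by
        have := hfix _ hgb ⟨g * n * g⁻¹, Subgroup.Normal.conj_mem inferInstance _ n.2 g⟩
        rw [Subgroup.mk_smul, mul_smul, mul_smul, inv_smul_smul] at this
        exact MulAction.injective g this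
      have h1 : MulAction.orbit N b = {b} := Set.eq_singleton_iff_unique_mem.mpr
        ⟨MulAction.mem_orbit_self b, fun x ⟨n, hn⟩ => hn ▸ hall n⟩
      have h6 : MulAction.orbit N b = MulAction.orbit N a := MulAction.orbit_eq_iff.mpr hb
      rw [h1] at h6
      rw [← h6, Set.ncard_singleton] at ha
      norm_num at ha
    letI : MulAction X Ω :=
      { smul := fun g b => ⟨g • b.1, hΩinv g b.1 b.2⟩
        one_smul := fun b => Subtype.ext (one_smul X b.1)
        mul_smul := fun g g' b => Subtype.ext (mul_smul g g' b.1) }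
    let f : X →* Equiv.Perm Ω := MulAction.toPermHom X Ω
    have hker : ∀ g : X, f g = 1 → g = 1 := by
      intro g hg
      refine Subgroup.mem_bot.mp (hC ▸ Subgroup.mem_centralizer_iff.mpr fun n hn => hι ?_)
      refine Subtype.ext (Equiv.ext fun b => ?_)
      show (n * g) • b = (g * n) • b
      rw [mul_smul, mul_smul]
      by_cases hb : b ∈ Ω
      · have e1 : g • b = b := congrArg Subtype.val (Equiv.congr_fun hg ⟨b, hb⟩)
        have e2 : g • (n • b) = n • b := congrArg Subtype.val (Equiv.congr_fun hg ⟨n • b, hΩinv n b hb⟩)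
        rw [e1, e2]
      · have e1 : n • b = b := hfix b hb ⟨n, hn⟩
        rw [e1]
        have hgb : g • b ∉ Ω := fun h => hb (by simpa using hΩinv g⁻¹ _ h)
        exact hfix _ hgb ⟨n, hn⟩
    have hf : Function.Injective f := (injective_iff_map_eq_one f).mpr hker
    have hΩ : Nat.card Ω = 6 := by rw [Nat.card_coe_set_eq]; exact ha
    have hd := Subgroup.card_dvd_of_injective f hf
    rw [Nat.card_perm, hΩ, show Nat.factorial 6 = 720 from rfl, ← hNX, h360] at hd
    have : N.index ∣ 2 := Nat.dvd_of_mul_dvd_mul_left (by norm_num) (show 360 * N.index ∣ 360 * 2 from hd)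
    rcases (Nat.dvd_prime Nat.prime_two).mp this with h1 | h2'
    · left
      refine ⟨6, by norm_num, by norm_num, equiv_alt 6 (by norm_num) hΩ f hf ?_⟩
      rw [← hNX, h360, h1]; rfl
    · right; right; left
      let e : Ω ≃ Fin 6 := (Finite.equivFin Ω).trans (finCongr hΩ)
      refine ⟨(MulEquiv.ofBijective f ((Nat.bijective_iff_injective_and_card f).mpr ⟨hf, ?_⟩)).trans e.permCongrHom⟩
      rw [Nat.card_perm, hΩ, ← hNX, h360, h2']
      rfl
  · -- A₇
    have hidx : ι.range.index ≤ 8 := by nlinarith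
    have hN1 : N.index = 1 := by
      by_contra hne
      have hlt : ι.range.index < 8 := by nlinarith [show 2 ≤ N.index by omega]
      have hr := index_eq_one _ hlt
      haveI : IsSimpleGroup X :=
        (((MonoidHom.ofInjective hι).trans (MulEquiv.subgroupCongr hr)).trans Subgroup.topEquiv).isSimpleGroup
      rcases hNn.eq_bot_or_eq_top with h | h
      · exact hN0 h
      · exact hne (Subgroup.index_eq_one.mpr h)
    have hX : Nat.card X = 2520 := by rw [← hNX, hN1, mul_one, h2520]
    rw [hX] at hiX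
    have h8 : ι.range.index = 8 := by omega
    let R := ι.range
    let c0 : A ⧸ R := QuotientGroup.mk 1
    haveI : Finite (A ⧸ R) := inferInstance
    let B := {c : A ⧸ R // c ≠ c0}
    have hfix : ∀ x : X, ι x • c0 = c0 := fun x => by
      show QuotientGroup.mk (ι x * 1) = QuotientGroup.mk 1
      rw [mul_one, QuotientGroup.eq, mul_one]
      exact inv_mem ⟨x, rfl⟩
    letI : MulAction X B :=
      { smul := fun x b => ⟨ι x • b.1, fun h => b.2 (MulAction.injective (ι x) (h.trans (hfix x).symm))⟩
        one_smul := fun b => Subtype.ext (by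
          show ι 1 • b.1 = b.1
          rw [map_one, one_smul])
        mul_smul := fun x y b => Subtype.ext (by
          show ι (x * y) • b.1 = ι x • ι y • b.1
          rw [map_mul, mul_smul]) }
    let f : X →* Equiv.Perm B := MulAction.toPermHom X B
    have hf : Function.Injective f := by
      refine (injective_iff_map_eq_one f).mpr fun x hx => hι ?_
      rw [map_one]
      have hbot : MonoidHom.ker (MulAction.toPermHom A (A ⧸ R)) = ⊥ := by
        rcases (MonoidHom.normal_ker (MulAction.toPermHom A (A ⧸ R))).eq_bot_or_eq_top with h | h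
        · exact h
        · exfalso
          have hR : R = ⊤ := Subgroup.eq_top_iff' _ |>.mpr fun g => by
            have hmem : g ∈ MonoidHom.ker (MulAction.toPermHom A (A ⧸ R)) := by rw [h]; exact Subgroup.mem_top g
            have hg : g • c0 = c0 := Equiv.congr_fun (MonoidHom.mem_ker.mp hmem) c0
            have := QuotientGroup.eq.mp (hg.symm : (QuotientGroup.mk 1 : A ⧸ R) = QuotientGroup.mk (g * 1))
            simpa using this
          have : R.index = 1 := by rw [hR, Subgroup.index_top]
          exact absurd (this.symm.trans h8) (by norm_num)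
      refine Subgroup.mem_bot.mp ?_
      rw [← hbot, MonoidHom.mem_ker]
      refine Equiv.ext fun c => ?_
      show ι x • c = c
      by_cases hc : c = c0
      · rw [hc, hfix]
      · exact congrArg Subtype.val (Equiv.congr_fun hx ⟨c, hc⟩)
    left
    refine ⟨7, by norm_num, by norm_num, equiv_alt 7 (by norm_num) ?_ f hf (by rw [hX]; rfl)⟩
    haveI : Fintype (A ⧸ R) := Fintype.ofFinite _
    rw [Nat.card_eq_fintype_card, Fintype.card_subtype_compl, Fintype.card_subtype_eq, ← Nat.card_eq_fintype_card]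
    show R.index - 1 = 7
    rw [show R.index = 8 from h8]
  · -- A₈
    left
    have hX : Nat.card X = 20160 := by
      have := Nat.le_of_dvd (by norm_num) hXd
      nlinarith
    exact ⟨8, by norm_num, le_rfl, ⟨MulEquiv.ofBijective ι ((Nat.bijective_iff_injective_and_card ι).mpr
      ⟨hι, by rw [hX, card_A]⟩)⟩⟩

/-- Let H be a nontrivial subgroup of GL(4,2) (a group isomorphic to the alternating group of degree 8) whose largest normal 2-subgroup and largest normal subgroup of odd order are both trivial. Then H is isomorphic to an alternating group of degree n for some 5 ≤ n ≤ 8, to the symmetric group of degree 5 or 6, or to GL(3,2). -/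
theorem result (H : Subgroup (GL (Fin 4) (ZMod 2))) (hH : H ≠ ⊥) (hO : Cfsg.pPrimeCore 2 ↥H = ⊥) (hO2 : Cfsg.pCore 2 ↥H = ⊥) :
    (∃ n : ℕ, 5 ≤ n ∧ n ≤ 8 ∧ Nonempty (↥H ≃* alternatingGroup (Fin n))) ∨
    Nonempty (↥H ≃* Equiv.Perm (Fin 5)) ∨ Nonempty (↥H ≃* Equiv.Perm (Fin 6)) ∨ Nonempty (↥H ≃* GL (Fin 3) (ZMod 2)) := by
  obtain ⟨ε⟩ := Cfsg.Agent.LinearGroup.PSL42.equiv
  obtain ⟨δ⟩ := sl_equiv_gl 4
  let ι : ↥H →* A := ((δ.symm.trans ε).toMonoidHom).comp H.subtype
  haveI : Nontrivial ↥H := (Subgroup.nontrivial_iff_ne_bot H).mpr hH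
  exact main hO hO2 ι ((δ.symm.trans ε).injective.comp H.subtype_injective)

end Cfsg.Agent.S2553
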