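import Cfsg.Statements.S0093
import Cfsg.Agent.Fus93.Critical

set_option autoImplicit false
open Cfsg
open scoped commutatorElement

namespace Cfsg.Agent.S0093

/-- Every finite p-group has a critical subgroup: a characteristic subgroup H whose Frattini subgroup and whose commutator with the whole group lie in the centre of H, and whose centralizer is contained in H. -/
theorem result {P : Type*} [Group P] [Finite P] {p : ℕ} [Fact p.Prime] (hP : IsPGroup p P) : ∃ H : Subgroup P, H.Characteristic ∧ (frattini H).map H.subtype ≤ Subgroup.centralizer (H : Set P) ∧ ⁅H, (⊤ : Subgroup P)⁆ ≤ H ⊓ Subgroup.centralizer (H : Set P) ∧ Subgroup.centralizer (H : Set P) ≤ H := by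
  obtain ⟨H, hc, hcen, hpow, hcomm⟩ := Fus93.exists_critical hP
  haveI := hc
  haveI := Subgroup.normal_of_characteristic H
  have hcl : ⁅H, (⊤ : Subgroup P)⁆ ≤ H ⊓ Subgroup.centralizer (H : Set P) := by
    refine Subgroup.commutator_le.mpr fun x hx g _ => ?_
    have h1 : g⁻¹ * x * g⁻¹⁻¹ ∈ H := Subgroup.Normal.conj_mem inferInstance x hx g⁻¹
    refine ⟨?_, ?_⟩
    · have h2 : x * (g * x⁻¹ * g⁻¹) ∈ H :=
        mul_mem hx (Subgroup.Normal.conj_mem inferInstance x⁻¹ (inv_mem hx) g)
      show ⁅x, g⁆ ∈ H
      simpa [commutatorElement_def, mul_assoc] using h2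
    · have h2 := hcomm x⁻¹ (inv_mem hx) g
      show ⁅x, g⁆ ∈ Subgroup.centralizer (H : Set P)
      simpa [commutatorElement_def, mul_assoc] using h2
  refine ⟨H, hc, ?_, hcl, hcen⟩
  refine Subgroup.map_le_iff_le_comap.mpr ?_
  haveI : ((Subgroup.centralizer (H : Set P)).subgroupOf H).Normal :=
    (Subgroup.normal_of_characteristic (Subgroup.centralizer (H : Set P))).subgroupOf H
  refine PGroup.frattini_le_of_quotient (p := p) (Subgroup.commutator_le.mpr fun a _ b _ => ?_) fun x => hpow x x.2
  have h3 := (hcl (Subgroup.commutator_mem_commutator a.2 (Subgroup.mem_top (b : P)))).2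
  simpa [Subgroup.mem_subgroupOf, commutatorElement_def] using h3

end Cfsg.Agent.S0093
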