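import Cfsg.Statements.S0121

set_option autoImplicit false
open Cfsg

namespace Cfsg.Agent.S0121

/-- A p'-automorphism of a p-group acting trivially on a critical subgroup is trivial. -/
theorem result {G : Type*} [Group G] [Finite G] {p : ℕ} [Fact p.Prime] (hG : IsPGroup p G) (H : Subgroup G) (hH : H.Characteristic) (h1 : (frattini H).map H.subtype ≤ Subgroup.centralizer (H : Set G)) (h2 : ⁅H, (⊤ : Subgroup G)⁆ ≤ H ⊓ Subgroup.centralizer (H : Set G)) (h3 : Subgroup.centralizer (H : Set G) ≤ H) (a : MulAut G) (ha : Nat.Coprime (orderOf a) p) (h : ∀ x ∈ H, a x = x) : a = 1 := by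
  ext g
  have hc : g⁻¹ * a g ∈ H := by
    apply h3
    rw [Subgroup.mem_centralizer_iff]
    intro x hx
    have hgx : g * x * g⁻¹ ∈ H :=
      (Subgroup.normal_of_characteristic H).conj_mem x hx g
    have h4 := h _ hgx
    rw [map_mul, map_mul, map_inv, h x hx] at h4
    calc x * (g⁻¹ * a g) = g⁻¹ * (g * x * g⁻¹) * a g := by group
      _ = g⁻¹ * (a g * x * (a g)⁻¹) * a g := by rw [h4]
      _ = g⁻¹ * a g * x := by group
  have hpow : ∀ k : ℕ, (a ^ k) g = g * (g⁻¹ * a g) ^ k := by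
    intro k
    induction k with
    | zero => simp
    | succ k ih =>
      rw [pow_succ', MulAut.mul_apply, ih, map_mul, map_pow, h _ hc]
      rw [pow_succ' (g⁻¹ * a g)]
      simp [mul_assoc]
  have hk : (g⁻¹ * a g) ^ orderOf a = 1 := by
    have h5 := hpow (orderOf a)
    rw [pow_orderOf_eq_one, MulAut.one_apply] at h5
    exact left_eq_mul.mp h5
  obtain ⟨m, hm⟩ := hG (g⁻¹ * a g)
  have h1' := pow_gcd_eq_one.mpr ⟨hk, hm⟩
  rw [(Nat.Coprime.pow_right m ha).gcd_eq_one, pow_one, inv_mul_eq_one] at h1'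
  exact h1'.symm

end Cfsg.Agent.S0121
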