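import Cfsg.Statements.S0939
import Cfsg.Agent.Lib.BlocksDefect.Kernel
import Cfsg.Agent.Lib.Thompson.Cores
-- import your own Cfsg.Agent.* helpers here

set_option autoImplicit false
open Cfsg

namespace Cfsg.Agent.S0939

/-- Let G be a finite group with a normal p-complement (the largest normal subgroup O_p'(G) of order prime to p has p-power index). Then, relative to any maximal ideal M of the algebraic integers containing p, the principal block of G is the set of irreducible characters χ with χ n = χ 1 for every n ∈ O_p'(G). -/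
theorem result {G : Type*} [Group G] [Finite G] (p : ℕ) [Fact p.Prime] (M : Ideal Cfsg.AlgInt) (hM : Cfsg.IsPModular p M) (hnc : ∃ k : ℕ, (Cfsg.pPrimeCore p G).index = p ^ k) : Cfsg.principalBlock M G = {χ : Cfsg.IrrCharacter G | ∀ n ∈ Cfsg.pPrimeCore p G, (χ : G → ℂ) n = (χ : G → ℂ) 1} := by
  classical
  have := BlocksCore.isPrime hM
  have := Fintype.ofFinite G
  set N := Cfsg.pPrimeCore p G with hNdef
  have hNn : N.Normal := Thompson.sSup_normal fun _ h => h.1
  have hpN : ¬ p ∣ Nat.card N := Thompson.not_dvd_card_pPrimeCore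
  obtain ⟨k, hk⟩ := hnc
  have h1irr : Cfsg.IsIrrCharacter G (fun _ : G => (1 : ℂ)) := CharCore.isIrrCharacter_one
  ext χ
  constructor
  · intro hχ
    exact BlocksDefect.kernel_of_sameBlock hM (χ := ⟨_, h1irr⟩) hχ N hpN (fun n _ => rfl)
  · intro hχ
    have hB : Cfsg.IsPBlock M (Cfsg.blockOf M (χ : G → ℂ)) := BlocksCore.isPBlock_blockOf χ
    set f := Cfsg.blockCoeff (Cfsg.blockOf M (χ : G → ℂ)) with hf
    have hsing : ∀ x, x ∉ N → f x = 0 := by
      intro x hx
      refine BlocksCore.blockCoeff_eq_zero_of_dvd_orderOf hM hB ?_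
      by_contra hd
      have h3 : (QuotientGroup.mk x : G ⧸ N) ^ orderOf x = 1 := by
        rw [← QuotientGroup.mk_pow, pow_orderOf_eq_one, QuotientGroup.mk_one]
      have h4 : (QuotientGroup.mk x : G ⧸ N) ^ p ^ k = 1 := by
        rw [← hk, Subgroup.index, pow_card_eq_one']
      have h5 := pow_gcd_eq_one.mpr ⟨h3, h4⟩
      rw [Nat.Coprime.gcd_eq_one (Nat.Coprime.pow_right k
        (((Nat.Prime.coprime_iff_not_dvd Fact.out).mpr hd).symm)), pow_one] at h5
      exact hx ((QuotientGroup.eq_one_iff x).mp h5)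
    have hconst : ∀ x, f x = f 1 * (Nat.card N : ℂ) * BlocksDefect.subInd N x := by
      intro x
      by_cases hx : x ∈ N
      · rw [BlocksDefect.subInd_apply_of_mem hx, mul_inv_cancel_right₀
          (Nat.cast_ne_zero.mpr Nat.card_pos.ne'), hf, BlocksCore.blockCoeff_eq_sum,
          BlocksCore.blockCoeff_eq_sum, inv_one]
        congr 1
        refine Finset.sum_congr rfl fun φ _ => ?_
        by_cases h : φ ∈ Cfsg.blockOf M (χ : G → ℂ)
        · rw [BlocksDefect.kernel_of_sameBlock hM h N hpN hχ x⁻¹ (N.inv_mem hx)]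
        · simp [Set.indicator_of_notMem h]
      · rw [hsing x hx, BlocksDefect.subInd_apply_of_notMem hx, mul_zero]
    have hω : ∀ φ : Cfsg.IrrCharacter G, BlocksCore.omega (φ : G → ℂ) f =
        f 1 * (Nat.card N : ℂ) * BlocksCore.omega (φ : G → ℂ) (BlocksDefect.subInd N) := by
      intro φ
      rw [← BlocksCore.omega_smul]
      exact congrArg _ (funext hconst)
    have e1 := hω χ
    rw [hf, BlocksCore.omega_blockCoeff, Set.indicator_of_mem (BlocksCore.mem_blockOf_self χ),
      (BlocksDefect.omega_subInd_eq_one_iff χ N).mpr hχ] at e1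
    have e2 := hω ⟨_, h1irr⟩
    rw [(BlocksDefect.omega_subInd_eq_one_iff ⟨_, h1irr⟩ N).mpr (fun n _ => rfl), ← e1,
      hf, BlocksCore.omega_blockCoeff] at e2
    by_contra hn
    rw [Set.indicator_of_notMem] at e2
    · exact zero_ne_one e2
    · intro hmem
      exact hn (BlocksCore.sameBlock_symm hmem)

end Cfsg.Agent.S0939
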