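import Cfsg.Statements.S0942
import Cfsg.Agent.ZStar.Blocks
import Cfsg.Agent.Lib.Thompson.Cores

set_option autoImplicit false
open Cfsg

namespace Cfsg.Agent.S0942

/-- Let u be a p-element of the finite group G, let v lie in the largest normal subgroup of C_G(u) of order prime to p, and let χ belong to the principal block (relative to a maximal ideal M of the algebraic integers containing p). Then χ (u * v) = χ u. -/
theorem result {G : Type*} [Group G] [Finite G] (p : ℕ) [Fact p.Prime] (M : Ideal Cfsg.AlgInt) (hM : Cfsg.IsPModular p M) (u : G) (hu : ∃ k : ℕ, orderOf u = p ^ k) (v : G) (hv : v ∈ Cfsg.centralizerPPrimeCore p u) (χ : Cfsg.IrrCharacter G) (hχ : χ ∈ Cfsg.principalBlock M G) : (χ : G → ℂ) (u * v) = (χ : G → ℂ) u := by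
  classical
  haveI := Fintype.ofFinite G
  refine ZStar.apply_mul_eq hM ⟨hu, Subgroup.map_subtype_le _, ?_, ?_⟩ hχ hv
  · intro c hc
    rw [Subgroup.mem_normalizer_iff]
    intro g
    have hn : (pPrimeCore p (Subgroup.centralizer ({u} : Set G))).Normal := inferInstance
    constructor
    · rintro ⟨y, hy, rfl⟩
      exact ⟨⟨c, hc⟩ * y * ⟨c, hc⟩⁻¹, hn.conj_mem y hy _, by simp⟩
    · rintro ⟨y, hy, hye⟩
      exact ⟨⟨c, hc⟩⁻¹ * y * ⟨c, hc⟩, by simpa using hn.conj_mem y hy ⟨c, hc⟩⁻¹, by
        simp only [Subgroup.coe_subtype, Subgroup.coe_mul, InvMemClass.coe_inv] at hye ⊢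
        rw [hye]; group⟩
  · show ¬ p ∣ Nat.card (Subgroup.map _ (pPrimeCore p (Subgroup.centralizer ({u} : Set G))))
    rw [Subgroup.card_map_of_injective (Subgroup.subtype_injective _)]
    exact Thompson.not_dvd_card_pPrimeCore

end Cfsg.Agent.S0942
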