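import Cfsg.Statements.S0947
import Cfsg.Agent.Lib.BlocksDefect.PrincipalSection
import Cfsg.Agent.Lib.BlocksDefect.Covering
import Cfsg.Agent.Lib.Thompson.Cores
import Cfsg.Agent.S0939
-- import your own Cfsg.Agent.* helpers here

set_option autoImplicit false
open Cfsg

namespace Cfsg.Agent.S0947

/-- Let z ≠ 1 be a p-element of the finite group G with centralizer H, and fix a maximal ideal M of the algebraic integers containing p. (i) For every y ∈ H of order prime to p, the sum over ζ in the principal block of G of |ζ (z * y)|² equals the sum over χ in the principal block of H of |χ y|². (ii) If moreover H has a normal p-complement (its largest normal subgroup of order prime to p has p-power index), that common value is the largest power of p dividing the order of H. -/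
theorem result {G : Type*} [Group G] [Finite G] (p : ℕ) [Fact p.Prime] (M : Ideal Cfsg.AlgInt) (hM : Cfsg.IsPModular p M) (z : G) (hz : ∃ k : ℕ, orderOf z = p ^ k) (hz1 : z ≠ 1) (y : Subgroup.centralizer ({z} : Set G)) (hy : ¬ p ∣ orderOf y) : (∑ᶠ ζ ∈ Cfsg.principalBlock M G, ‖(ζ : G → ℂ) (z * (y : G))‖ ^ 2 = ∑ᶠ χ ∈ Cfsg.principalBlock M (Subgroup.centralizer ({z} : Set G)), ‖(χ : Subgroup.centralizer ({z} : Set G) → ℂ) y‖ ^ 2) ∧ ((∃ k : ℕ, (Cfsg.pPrimeCore p (Subgroup.centralizer ({z} : Set G))).index = p ^ k) → ∑ᶠ ζ ∈ Cfsg.principalBlock M G, ‖(ζ : G → ℂ) (z * (y : G))‖ ^ 2 = ((p ^ (Nat.card (Subgroup.centralizer ({z} : Set G))).factorization p : ℕ) : ℝ)) := by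
  classical
  have := BlocksCore.isPrime hM
  have := Fintype.ofFinite G
  have := Fintype.ofFinite (Subgroup.centralizer ({z} : Set G))
  obtain ⟨k, hk⟩ := hz
  have key := BlocksDefect.sum_principal_section_norm hM hk y hy
  have hcast : ∀ {X : Type _} [Group X] [Fintype X] (S : Set (Cfsg.IrrCharacter X)) (x : X),
      (((∑ᶠ η ∈ S, ‖(η : X → ℂ) x‖ ^ 2 : ℝ)) : ℂ) =
        ∑ η : Cfsg.IrrCharacter X, S.indicator (fun η => (η : X → ℂ) x * (η : X → ℂ) x⁻¹) η := by
    intro X _ _ S x
    rw [finsum_mem_def, finsum_eq_sum_of_fintype, Complex.ofReal_sum]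
    refine Finset.sum_congr rfl fun η _ => ?_
    by_cases h : η ∈ S
    · rw [Set.indicator_of_mem h, Set.indicator_of_mem h, ← BlocksCore.conj_irr η x, Complex.mul_conj']
      push_cast
      ring
    · simp [Set.indicator_of_notMem h]
  have hi : ∑ᶠ ζ ∈ Cfsg.principalBlock M G, ‖(ζ : G → ℂ) (z * (y : G))‖ ^ 2 =
      ∑ᶠ χ ∈ Cfsg.principalBlock M (Subgroup.centralizer ({z} : Set G)),
        ‖(χ : Subgroup.centralizer ({z} : Set G) → ℂ) y‖ ^ 2 := by
    apply Complex.ofReal_injective
    rw [hcast, hcast]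
    exact key
  refine ⟨hi, fun hnc => ?_⟩
  rw [hi]
  apply Complex.ofReal_injective
  rw [hcast]
  set K := Cfsg.pPrimeCore p (Subgroup.centralizer ({z} : Set G)) with hK
  have hKn : K.Normal := Thompson.sSup_normal fun _ h => h.1
  have hb := S0939.result p M hM hnc
  obtain ⟨e, he⟩ := hnc
  have hyK : y ∈ K := BlocksDefect.mem_of_not_dvd_orderOf he hy
  have hcoeff : Cfsg.blockCoeff (Cfsg.principalBlock M (Subgroup.centralizer ({z} : Set G))) =
      BlocksDefect.subInd K := by
    refine BlocksCore.eq_of_omega_eq (BlocksCore.isClassFunction_blockCoeff _)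
      (BlocksDefect.isClassFunction_subInd K) fun η => ?_
    rw [BlocksCore.omega_blockCoeff]
    by_cases h : η ∈ Cfsg.principalBlock M (Subgroup.centralizer ({z} : Set G))
    · rw [Set.indicator_of_mem h, (BlocksDefect.omega_subInd_eq_one_iff η K).mpr (by rw [hb] at h; exact h)]
      rfl
    · rw [Set.indicator_of_notMem h]
      rcases BlocksDefect.omega_subInd_zero_or_one η K with h0 | h1
      · exact h0.symm
      · exact absurd (by rw [hb]; exact (BlocksDefect.omega_subInd_eq_one_iff η K).mp h1) h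
  have hsum := BlocksDefect.sum_degree_mul_eq_blockCoeff
    (Cfsg.principalBlock M (Subgroup.centralizer ({z} : Set G))) (1 : Subgroup.centralizer ({z} : Set G))
  rw [inv_one, hcoeff, BlocksDefect.subInd_apply_of_mem K.one_mem] at hsum
  have hidx : (Nat.card (Subgroup.centralizer ({z} : Set G))).factorization p = e := by
    rw [← Subgroup.card_mul_index K, he, Nat.factorization_mul Nat.card_pos.ne'
      (pow_ne_zero _ (Nat.Prime.ne_zero Fact.out)), Finsupp.add_apply,
      Nat.factorization_eq_zero_of_not_dvd (Thompson.not_dvd_card_pPrimeCore (p := p)),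
      Nat.Prime.factorization_pow Fact.out, Finsupp.single_eq_same, zero_add]
  rw [hidx, ← he]
  have hval : (Nat.card (Subgroup.centralizer ({z} : Set G)) : ℂ) * (Nat.card K : ℂ)⁻¹ = (K.index : ℂ) := by
    rw [← Subgroup.card_mul_index K, Nat.cast_mul]
    field_simp
  rw [Complex.ofReal_natCast, ← hval, ← hsum]
  refine Finset.sum_congr rfl fun η _ => ?_
  by_cases h : η ∈ Cfsg.principalBlock M (Subgroup.centralizer ({z} : Set G))
  · have hη : ∀ u ∈ K, (η : Subgroup.centralizer ({z} : Set G) → ℂ) u =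
        (η : Subgroup.centralizer ({z} : Set G) → ℂ) 1 := by rw [hb] at h; exact h
    rw [Set.indicator_of_mem h, Set.indicator_of_mem h, Pi.one_apply, one_mul, hη y hyK,
      hη y⁻¹ (K.inv_mem hyK)]
  · simp [Set.indicator_of_notMem h]

end Cfsg.Agent.S0947
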