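import Cfsg.Statements.S0505
import Cfsg.Agent.Lib.Fitting.Minimal
import Cfsg.Agent.Lib.Thompson.Cores
import Cfsg.Agent.OddLocal43.Coprime

set_option autoImplicit false
open Cfsg

namespace Cfsg.Agent.S0505

/-- A solvable group with trivial core has self-centralizing 2-core. -/
theorem centralizer_pCore_le {H : Type*} [Group H] [Finite H] [Group.IsSolvable H]
    (hO : Cfsg.oddCore H = ⊥) :
    Subgroup.centralizer (Cfsg.pCore 2 H : Set H) ≤ Cfsg.pCore 2 H := by
  have hF : Cfsg.fittingSubgroup H = Cfsg.pCore 2 H := by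
    rw [Fitting.fitting_eq_iSup_pCore]
    refine le_antisymm (iSup_le fun ⟨p, hp⟩ => ?_)
      (le_iSup (fun p : Nat.Primes => Cfsg.pCore (p : ℕ) H) ⟨2, Nat.prime_two⟩)
    by_cases h2 : p = 2
    · subst h2; exact le_rfl
    · have : Fact p.Prime := ⟨hp⟩
      obtain ⟨k, hk⟩ := IsPGroup.iff_card.mp (Fitting.pCore_isPGroup (G := H) p)
      have hcop : (Nat.card (Cfsg.pCore p H)).Coprime 2 :=
        hk ▸ ((Nat.coprime_primes hp Nat.prime_two).mpr h2).pow_left k
      exact ((Thompson.le_pPrimeCore (Fitting.pCore_normal p) hcop).trans hO.le).trans bot_le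
  have := Fitting.centralizer_fitting_le (G := H)
  rwa [hF] at this

/-- Two subgroups normalizing each other with trivial intersection centralize each other. -/
theorem le_centralizer_of_inf_eq_bot {G : Type*} [Group G] {A B : Subgroup G}
    (hA : A ≤ Subgroup.normalizer (B : Set G)) (hB : B ≤ Subgroup.normalizer (A : Set G))
    (h : A ⊓ B = ⊥) : B ≤ Subgroup.centralizer (A : Set G) := by
  intro b hb
  rw [Subgroup.mem_centralizer_iff]
  intro a ha
  have h1 : a * b * a⁻¹ * b⁻¹ ∈ A := by
    have := A.mul_mem ha ((Subgroup.mem_normalizer_iff.mp (hB hb) a⁻¹).mp (A.inv_mem ha))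
    simpa [mul_assoc] using this
  have h2 : a * b * a⁻¹ * b⁻¹ ∈ B :=
    B.mul_mem ((Subgroup.mem_normalizer_iff.mp (hA ha) b).mp hb) (B.inv_mem hb)
  have h3 : a * b * a⁻¹ * b⁻¹ = 1 := by
    have : a * b * a⁻¹ * b⁻¹ ∈ A ⊓ B := ⟨h1, h2⟩
    rwa [h] at this
  rw [mul_inv_eq_one, mul_inv_eq_iff_eq_mul] at h3
  exact h3


/-- Let G be a finite group of even order in which the centralizer of every involution is solvable and has trivial
core (no nontrivial normal subgroup of odd order). Then G is of characteristic 2 type. -/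
theorem result {G : Type*} [Group G] [Finite G]
    (h2 : Even (Nat.card G))
    (hs : ∀ t : G, orderOf t = 2 → Group.IsSolvable (Subgroup.centralizer ({t} : Set G)))
    (hc : ∀ t : G, orderOf t = 2 → Cfsg.oddCore (Subgroup.centralizer ({t} : Set G)) = ⊥) :
    Cfsg.IsCharacteristicTwoType G := by
  refine ⟨h2, fun T hT hT1 => ?_⟩
  -- a central involution of `T`
  obtain ⟨z, hzT, hz2, hzc⟩ : ∃ z ∈ T, orderOf z = 2 ∧ ∀ u ∈ T, u * z = z * u := by
    have : Nontrivial T := T.nontrivial_iff_ne_bot.mpr hT1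
    have hZ : IsPGroup 2 (Subgroup.center T) := hT.to_subgroup _
    have := hT.center_nontrivial
    obtain ⟨n, hn, hn'⟩ := hZ.nontrivial_iff_card.mp this
    obtain ⟨⟨⟨z, hz⟩, hzC⟩, hz'⟩ := exists_prime_orderOf_dvd_card' (G := Subgroup.center T) 2
      (hn' ▸ dvd_pow_self 2 hn.ne')
    refine ⟨z, hz, ?_, fun u hu => congrArg Subtype.val (Subgroup.mem_center_iff.mp hzC ⟨u, hu⟩)⟩
    rwa [Subgroup.orderOf_mk, Subgroup.orderOf_mk] at hz'
  let H : Subgroup G := Subgroup.centralizer ({z} : Set G)
  let R : Subgroup G := (Cfsg.pCore 2 H).map H.subtype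
  have hHs : Group.IsSolvable H := hs z hz2
  have hRH : R ≤ H := Subgroup.map_subtype_le _
  have hR : IsPGroup 2 R := (Fitting.pCore_isPGroup 2).map _
  have hHR : H ≤ Subgroup.normalizer (R : Set G) := by
    intro h hh
    rw [Subgroup.mem_normalizer_iff]
    intro x
    constructor
    · rintro ⟨y, hy, rfl⟩
      exact ⟨⟨h, hh⟩ * y * ⟨h, hh⟩⁻¹, (Fitting.pCore_normal 2).conj_mem y hy _, rfl⟩
    · rintro ⟨y, hy, hyx⟩
      refine ⟨⟨h, hh⟩⁻¹ * y * ⟨h, hh⟩, by simpa using (Fitting.pCore_normal 2).conj_mem y hy (⟨h, hh⟩⁻¹ : H), ?_⟩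
      have hyx' : (y : G) = h * x * h⁻¹ := hyx
      simp [hyx', mul_assoc]
  have hCR : H ⊓ Subgroup.centralizer (R : Set G) ≤ R := by
    rintro x ⟨hxH, hxR⟩
    refine ⟨⟨x, hxH⟩, centralizer_pCore_le (hc z hz2) ?_, rfl⟩
    rw [Subgroup.mem_centralizer_iff]
    intro y hy
    exact Subtype.ext (Subgroup.mem_centralizer_iff.mp hxR y ⟨y, hy, rfl⟩)
  let N : Subgroup G := Subgroup.normalizer (T : Set G)
  have hTN : T ≤ N := Subgroup.le_normalizer
  have hTH : T ≤ H := fun u hu => Subgroup.mem_centralizer_singleton_iff.mpr (hzc u hu)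
  have hdisj : ∀ A B : Subgroup G, Odd (Nat.card A) → IsPGroup 2 B → A ⊓ B = ⊥ := by
    intro A B hA hB
    obtain ⟨k, hk⟩ := IsPGroup.iff_card.mp hB
    exact Subgroup.inf_eq_bot_of_coprime (hk ▸ (Nat.coprime_two_right.mpr hA).pow_right k)
  -- an odd order subgroup normalized by `N` is trivial
  have key : ∀ D : Subgroup G, D ≤ N → N ≤ Subgroup.normalizer (D : Set G) → Odd (Nat.card D) →
      D = ⊥ := by
    intro D hDN hND hDodd
    have hTD : T ≤ Subgroup.centralizer (D : Set G) :=
      le_centralizer_of_inf_eq_bot hDN (hTN.trans hND) (hdisj D T hDodd hT)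
    have hDH : D ≤ H := fun d hd => Subgroup.mem_centralizer_singleton_iff.mpr
      (Subgroup.mem_centralizer_iff.mp (hTD hzT) d hd)
    let R' : Subgroup G := R ⊔ T
    have hR' : IsPGroup 2 R' := hR.to_sup_of_normal_left' hT (hTH.trans hHR)
    have hDR' : D ≤ Subgroup.normalizer (R' : Set G) :=
      fun d hd => by
        rw [Subgroup.mem_normalizer_iff_map_conj_eq, Subgroup.map_sup,
          Subgroup.mem_normalizer_iff_map_conj_eq.mp (hHR (hDH hd)),
          Subgroup.mem_normalizer_iff_map_conj_eq.mp (hDN hd)]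
    have hcop : (Nat.card D).Coprime (Nat.card R') := by
      obtain ⟨k, hk⟩ := IsPGroup.iff_card.mp hR'
      rw [hk]
      exact (Nat.coprime_two_right.mpr hDodd).pow_right k
    have hle : R' ≤ Subgroup.centralizer (D : Set G) := by
      refine OddLocal43.le_centralizer_of_self_centralizing hR'.isNilpotent hDR' hcop ?_
      rintro x ⟨hxR, hxC⟩
      refine ⟨hxR, ?_⟩
      have hxT : x ∈ Subgroup.centralizer (T : Set G) := by
        rw [Subgroup.mem_centralizer_iff]
        exact fun u hu => Subgroup.mem_centralizer_iff.mp hxC u ⟨le_sup_right (a := R) hu, hTD hu⟩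
      let X : Subgroup G := R' ⊓ Subgroup.centralizer (T : Set G)
      have hXN : X ≤ N := inf_le_right.trans (Subgroup.centralizer_le_normalizer _)
      have hDX : D ≤ Subgroup.normalizer (X : Set G) := by
        intro d hd
        have hdT : d ∈ Subgroup.centralizer (T : Set G) := Subgroup.le_centralizer_iff.mp hTD hd
        rw [Subgroup.mem_normalizer_iff]
        intro y
        have h1 := Subgroup.mem_normalizer_iff.mp (hDR' hd) y
        constructor
        · rintro ⟨hy1, hy2⟩
          exact ⟨h1.mp hy1, Subgroup.mul_mem _ (Subgroup.mul_mem _ hdT hy2) (Subgroup.inv_mem _ hdT)⟩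
        · rintro ⟨hy1, hy2⟩
          refine ⟨h1.mpr hy1, ?_⟩
          have := Subgroup.mul_mem _ (Subgroup.mul_mem _ (Subgroup.inv_mem _ hdT) hy2) hdT
          simpa [mul_assoc] using this
      exact le_centralizer_of_inf_eq_bot hDX (hXN.trans hND) (hdisj D X hDodd (hR'.to_le inf_le_left))
        ⟨hxR, hxT⟩
    have hDR : D ≤ R := (le_inf hDH (Subgroup.le_centralizer_iff.mp (le_sup_left.trans hle))).trans hCR
    rw [← inf_eq_left.mpr hDR]
    exact hdisj D R hDodd hR
  show Subgroup.centralizer (Cfsg.pCore 2 N : Set N) ≤ Cfsg.pCore 2 N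
  let Q : Subgroup N := Cfsg.pCore 2 N
  have hQn : Q.Normal := Fitting.pCore_normal 2
  let K : Subgroup N := Subgroup.centralizer (Q : Set N)
  show K ≤ Q
  have hKn : K.Normal := inferInstance
  have hTQ : T.subgroupOf N ≤ Q := Fitting.le_pCore (Subgroup.normal_in_normalizer)
    (hT.of_equiv (Subgroup.subgroupOfEquivOfLe hTN).symm)
  have hKH : ∀ k : K, ((k : N) : G) ∈ H := fun k =>
    Subgroup.mem_centralizer_singleton_iff.mpr (congrArg Subtype.val (Subgroup.mem_centralizer_iff.mp k.2
      ⟨z, hTN hzT⟩ (hTQ (Subgroup.mem_subgroupOf.mpr hzT)))).symm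
  let f : K →* H := (N.subtype.comp K.subtype).codRestrict H hKH
  have : Group.IsSolvable K := Group.isSolvable_of_isSolvable_injective (f := f) (fun a b h => by
    have := congrArg Subtype.val h
    exact Subtype.ext (Subtype.ext this))
  have hKodd : Cfsg.oddCore K = ⊥ := by
    let D' : Subgroup N := (Cfsg.oddCore K).map K.subtype
    have hD'n : D'.Normal := Thompson.map_subtype_normal_of_characteristic K _
    have hD : D'.map N.subtype = ⊥ := by
      refine key _ (Subgroup.map_subtype_le _) ?_ ?_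
      · have := Subgroup.le_normalizer_map (H := D') N.subtype
        rw [Subgroup.normalizer_eq_top, ← MonoidHom.range_eq_map, Subgroup.range_subtype] at this
        exact this
      · rw [Subgroup.card_map_of_injective (Subgroup.subtype_injective N),
          Subgroup.card_map_of_injective (Subgroup.subtype_injective K)]
        exact Nat.coprime_two_right.mp Thompson.card_pPrimeCore_coprime
    rw [Subgroup.map_eq_bot_iff_of_injective _ (Subgroup.subtype_injective N),
      Subgroup.map_eq_bot_iff_of_injective _ (Subgroup.subtype_injective K)] at hD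
    exact hD
  have hP : (Cfsg.pCore 2 K).map K.subtype ≤ Q :=
    Fitting.le_pCore (Thompson.map_subtype_normal_of_characteristic K _)
      ((Fitting.pCore_isPGroup 2).map _)
  intro k hk
  refine hP ⟨⟨k, hk⟩, centralizer_pCore_le hKodd ?_, rfl⟩
  rw [Subgroup.mem_centralizer_iff]
  intro y hy
  exact Subtype.ext (Subgroup.mem_centralizer_iff.mp hk y (hP ⟨y, hy, rfl⟩))

end Cfsg.Agent.S0505
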