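import Mathlib.GroupTheory.Sylow
import Mathlib.GroupTheory.SpecificGroups.Cyclic
import Mathlib.GroupTheory.Abelianization.Defs
import Mathlib.GroupTheory.Nilpotent
import Mathlib.Data.Set.Card
import Mathlib.Tactic
import Cfsg.Agent.Lib.PGroup.Basic

/-!
An elementary abelian group of order `8` of automorphisms of a `p`-group, `p` odd, with few
automorphisms having non-cyclic fixed points.
-/

set_option autoImplicit false

namespace Cfsg.Agent.InvolutoryTriple

open Subgroup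
open scoped commutatorElement

variable {P : Type*} [Group P] [Finite P] {p : ℕ}

/-- The fixed points of `T` do not form a cyclic group. -/
def Broad (T : MulAut P) : Prop := ¬ ∃ g : P, ∀ x : P, (T x = x ↔ x ∈ Subgroup.zpowers g)

theorem exists_sqrt (hp : p.Prime) (hp2 : p ≠ 2) (hP : IsPGroup p P) (n : P) :
    ∃ k : ℕ, n ^ (2 * k + 1) = 1 := by
  obtain ⟨m, hm⟩ := hP n
  obtain ⟨k, hk⟩ := (hp.odd_of_ne_two hp2).pow (n := m)
  exact ⟨k, by rw [← hk, hm]⟩

theorem eq_one_of_sq (hp : p.Prime) (hp2 : p ≠ 2) (hP : IsPGroup p P) {x : P} (hx : x ^ 2 = 1) :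
    x = 1 := by
  obtain ⟨k, hk⟩ := exists_sqrt hp hp2 hP x
  rwa [pow_succ, pow_mul, hx, one_pow, one_mul] at hk

theorem mem_of_sq_mem (hp : p.Prime) (hp2 : p ≠ 2) (hP : IsPGroup p P) {H : Subgroup P} {x : P}
    (hx : x ^ 2 ∈ H) : x ∈ H := by
  obtain ⟨k, hk⟩ := exists_sqrt hp hp2 hP x
  have h : x = (x ^ 2) ^ (k + 1) := by
    rw [← pow_mul, show 2 * (k + 1) = (2 * k + 1) + 1 by omega, pow_succ, hk, one_mul]
  rw [h]; exact pow_mem hx _

/-- A coset of an invariant subgroup fixed by an involution contains a fixed point. -/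
theorem exists_fixed_in_coset (hp : p.Prime) (hp2 : p ≠ 2) (hP : IsPGroup p P) {t : MulAut P}
    (ht : ∀ x, t (t x) = x) {N : Subgroup P} {y : P} (hy : y⁻¹ * t y ∈ N) :
    ∃ m ∈ N, t (y * m) = y * m := by
  set n := y⁻¹ * t y with hn
  have htn : t n = n⁻¹ := by rw [hn, map_mul, map_inv, ht]; group
  obtain ⟨k, hk⟩ := exists_sqrt hp hp2 hP n
  refine ⟨n ^ (k + 1), pow_mem hy _, ?_⟩
  have h2 : n * (n ^ (k + 1))⁻¹ = n ^ (k + 1) := by
    rw [mul_inv_eq_iff_eq_mul, ← pow_add, show k + 1 + (k + 1) = (2 * k + 1) + 1 by omega, pow_succ,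
      hk, one_mul]
  calc t (y * n ^ (k + 1)) = y * n * (n ^ (k + 1))⁻¹ := by
        rw [map_mul, map_pow, htn, inv_pow, hn]; group
    _ = y * n ^ (k + 1) := by rw [mul_assoc, h2]

/-- A `p`-group is generated by the fixed points of the involutions of a four-group of
automorphisms, `p` odd. -/
theorem eq_top_of_fixed_le [hf : Fact p.Prime] (hp2 : p ≠ 2) (hP : IsPGroup p P) {a b : MulAut P}
    (ha : ∀ x, a (a x) = x) (hb : ∀ x, b (b x) = x) (hab : ∀ x, a (b x) = b (a x))
    {H : Subgroup P} (hHa : ∀ x, a x = x → x ∈ H) (hHb : ∀ x, b x = x → x ∈ H)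
    (hHab : ∀ x, a (b x) = x → x ∈ H) : H = ⊤ := by
  have hp := hf.out
  apply frattini_nongenerating
  rw [eq_top_iff]
  refine le_trans ?_ (sup_le_sup_left (PGroup.commutator_le_frattini hP) H)
  intro x _
  set f : P →* Abelianization P := Abelianization.of with hfdef
  have hker : ∀ z, f z = 1 → z ∈ commutator P := fun z hz => by
    rwa [← Abelianization.ker_of, MonoidHom.mem_ker]
  have key : ∀ (t : MulAut P) (_ : ∀ x, t (t x) = x) (_ : ∀ x, t x = x → x ∈ H) (y : P),
      f (t y) = f y → y ∈ H ⊔ commutator P := by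
    intro t ht hHt y hy
    obtain ⟨m, hm, hfix⟩ := exists_fixed_in_coset hp hp2 hP ht (N := commutator P) (y := y)
      (hker _ (by rw [map_mul, map_inv, hy, inv_mul_cancel]))
    have := Subgroup.mul_mem (H ⊔ commutator P) (mem_sup_left (hHt _ hfix))
      (inv_mem (mem_sup_right hm))
    rwa [mul_inv_cancel_right] at this
  have h1 := key a ha hHa (x * a x) (by rw [map_mul a, ha, map_mul, map_mul, mul_comm])
  have h2 := key b hb hHb (x * b x) (by rw [map_mul b, hb, map_mul, map_mul, mul_comm])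
  have hc : ∀ x, a (b (a (b x))) = x := fun x => by rw [hab, ha, hb]
  have hc' : ∀ x, (a * b) ((a * b) x) = x := hc
  have h3 := key (a * b) hc' hHab (x * a (b x)) (by
    rw [map_mul (a * b), MulAut.mul_apply, MulAut.mul_apply, hc, map_mul, map_mul, mul_comm])
  have h4 := key a ha hHa (x * a x * (b x * a (b x))) (by
    simp only [map_mul, ha]
    ac_rfl)
  have hx2 : x ^ 2 ∈ H ⊔ commutator P := by
    have hmem := Subgroup.mul_mem _ (Subgroup.mul_mem _ (Subgroup.mul_mem _ h1 h2) h3) (inv_mem h4)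
    have hd : (x * a x * (x * b x) * (x * a (b x)) * (x * a x * (b x * a (b x)))⁻¹)⁻¹ * x ^ 2 ∈
        commutator P := by
      apply hker
      simp only [map_mul, map_inv, map_pow, sq]
      rw [inv_mul_eq_one, mul_inv_eq_iff_eq_mul]
      ac_rfl
    have := Subgroup.mul_mem _ hmem (mem_sup_right hd)
    rwa [mul_inv_cancel_left] at this
  exact mem_of_sq_mem hp hp2 hP hx2

/-- An involution that preserves a cyclic `p`-group fixes or inverts its generator. -/
theorem eq_or_eq_inv (hp : p.Prime) (hp2 : p ≠ 2) (hP : IsPGroup p P) {s : MulAut P}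
    (hs : ∀ x, s (s x) = x) {c : P} (h : s c ∈ zpowers c) : s c = c ∨ s c = c⁻¹ := by
  obtain ⟨k, hk : c ^ k = s c⟩ := h
  have h2 : c ^ ((k - 1) * (k + 1)) = 1 := by
    have : c ^ (k * k) = c := by rw [zpow_mul, hk, ← map_zpow, hk, hs]
    rw [show (k - 1) * (k + 1) = k * k + (-1) by ring, zpow_add, this, zpow_neg_one, mul_inv_cancel]
  haveI := Fact.mk hp
  obtain ⟨m, hm⟩ := IsPGroup.iff_orderOf.mp hP c
  rw [← orderOf_dvd_iff_zpow_eq_one, hm] at h2
  push_cast at h2
  have hpI : Prime (p : ℤ) := Nat.prime_iff_prime_int.mp hp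
  by_cases hd : (p : ℤ) ∣ k - 1
  · have hd' : ¬ (p : ℤ) ∣ k + 1 := fun hd' => by
      have h3 := dvd_sub hd' hd
      rw [show k + 1 - (k - 1) = 2 by ring] at h3
      have h4 : p ∣ 2 := by exact_mod_cast h3
      exact hp2 ((Nat.prime_dvd_prime_iff_eq hp Nat.prime_two).mp h4)
    have h3 := hpI.pow_dvd_of_dvd_mul_right m hd' h2
    left
    rw [← hk]
    have h5 : c ^ (k - 1) = 1 := by rw [← orderOf_dvd_iff_zpow_eq_one, hm]; exact_mod_cast h3
    rwa [zpow_sub, zpow_one, mul_inv_eq_one] at h5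
  · have h3 := hpI.pow_dvd_of_dvd_mul_left m hd h2
    right
    rw [← hk]
    have h5 : c ^ (k + 1) = 1 := by rw [← orderOf_dvd_iff_zpow_eq_one, hm]; exact_mod_cast h3
    rwa [zpow_add, zpow_one, mul_eq_one_iff_eq_inv] at h5

theorem comm_of_sq {M : Type*} [Group M] {I : Subgroup M} (hsq : ∀ x ∈ I, x * x = 1) {x y : M}
    (hx : x ∈ I) (hy : y ∈ I) : x * y = y * x := by
  have h1 := inv_eq_of_mul_eq_one_right (hsq _ (mul_mem hx hy))
  rwa [mul_inv_rev, inv_eq_of_mul_eq_one_right (hsq x hx), inv_eq_of_mul_eq_one_right (hsq y hy),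
    eq_comm] at h1

theorem exists_four_group {M : Type*} [Group M] [Finite M] {I I₀ : Subgroup M}
    (hsq : ∀ x ∈ I, x * x = 1) (h8 : Nat.card I = 8) (hlt : I₀ < I) (B : M → Prop)
    (hB0 : ∀ x ∈ I₀, x ≠ 1 → ¬ B x)
    (hBmul : ∀ x ∈ I, ∀ y ∈ I, x ≠ 1 → y ≠ 1 → B x → B y → x * y ∈ I₀) :
    ∃ a ∈ I, ∃ b ∈ I, a ≠ 1 ∧ b ≠ 1 ∧ a * b ≠ 1 ∧ ¬ B a ∧ ¬ B b ∧ ¬ B (a * b) := by
  classical
  have h4 : Nat.card I₀ ≤ 4 := by
    have hd := Subgroup.card_dvd_of_le hlt.le
    have hl : Nat.card I₀ ≠ 8 := fun h => hlt.ne (Subgroup.eq_of_le_of_card_ge hlt.le (h8.trans h.symm).le)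
    rw [h8] at hd
    have hle : Nat.card I₀ ≤ 8 := Nat.le_of_dvd (by norm_num) hd
    interval_cases h : Nat.card I₀ <;> simp_all
  obtain ⟨T, hT, hBS⟩ : ∃ T ∈ I, ∀ x ∈ I, x ≠ 1 → B x →
      x ∈ (fun z => T * z) '' (I₀ : Set M) := by
    by_cases hB : ∃ T ∈ I, T ≠ 1 ∧ B T
    · obtain ⟨T, hT, hT1, hTB⟩ := hB
      refine ⟨T, hT, fun x hx hx1 hxB => ⟨T * x, hBmul T hT x hx hT1 hx1 hTB hxB, ?_⟩⟩
      simp [← mul_assoc, hsq T hT]
    · exact ⟨1, one_mem I, fun x hx hx1 hxB => absurd ⟨x, hx, hx1, hxB⟩ hB⟩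
  set S := (fun z => T * z) '' (I₀ : Set M) with hS
  have hScard : S.ncard ≤ Nat.card I₀ :=
    (Set.ncard_image_le (Set.toFinite _)).trans (Nat.card_coe_set_eq (I₀ : Set M)).ge
  have hIcard : (I : Set M).ncard = 8 := by rw [← Nat.card_coe_set_eq]; exact h8
  obtain ⟨a, haI, ha1, haB, hsmall⟩ : ∃ a ∈ I, a ≠ 1 ∧ ¬ B a ∧
      (S ∪ (fun z => a * z) '' S).ncard ≤ 4 := by
    by_cases hbot : I₀ = ⊥
    · have hS1 : S.ncard ≤ 1 := hScard.trans (by rw [hbot, Subgroup.card_bot])
      obtain ⟨a, haI, ha⟩ : ∃ a ∈ (I : Set M), a ∉ ({1} ∪ S : Set M) :=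
        Set.exists_mem_notMem_of_ncard_lt_ncard (by
          have := Set.ncard_union_le ({1} : Set M) S
          rw [Set.ncard_singleton] at this
          omega) (Set.toFinite _)
      simp only [Set.mem_union, Set.mem_singleton_iff, not_or] at ha
      refine ⟨a, haI, ha.1, fun h => ha.2 (hBS a haI ha.1 h), ?_⟩
      have h1 := Set.ncard_union_le S ((fun z => a * z) '' S)
      have h2 := Set.ncard_image_le (f := fun z => a * z) (Set.toFinite S)
      omega
    · obtain ⟨⟨a, ha⟩, ha1⟩ := Subgroup.ne_bot_iff_exists_ne_one.mp hbot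
      have ha1' : a ≠ 1 := fun h => ha1 (Subtype.ext h)
      refine ⟨a, hlt.le ha, ha1', hB0 a ha ha1', ?_⟩
      have hsub : (fun z => a * z) '' S ⊆ S := by
        rintro _ ⟨_, ⟨z, hz, rfl⟩, rfl⟩
        refine ⟨a * z, mul_mem ha hz, ?_⟩
        simp only [← mul_assoc, comm_of_sq hsq hT (hlt.le ha)]
      rw [Set.union_eq_left.mpr hsub]
      exact hScard.trans h4
  obtain ⟨b, hbI, hb⟩ : ∃ b ∈ (I : Set M), b ∉ ({1, a} ∪ (S ∪ (fun z => a * z) '' S) : Set M) :=
    Set.exists_mem_notMem_of_ncard_lt_ncard (by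
      have h1 := Set.ncard_union_le ({1, a} : Set M) (S ∪ (fun z => a * z) '' S)
      have h2 : ({1, a} : Set M).ncard ≤ 2 := (Set.ncard_insert_le _ _).trans (by simp)
      omega) (Set.toFinite _)
  simp only [Set.mem_union, Set.mem_insert_iff, Set.mem_singleton_iff, not_or] at hb
  obtain ⟨⟨hb1, hba⟩, hbS, hbS'⟩ := hb
  have hab1 : a * b ≠ 1 := fun h => hba (mul_left_cancel (h.trans (hsq a haI).symm))
  refine ⟨a, haI, b, hbI, ha1, hb1, hab1, haB, fun h => hbS (hBS b hbI hb1 h), fun h => hbS' ?_⟩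
  exact ⟨a * b, hBS _ (mul_mem haI hbI) hab1 h, by simp [← mul_assoc, hsq a haI]⟩

/-- The configuration of three cyclic fixed-point groups in general position. -/
structure Frame (I : Subgroup (MulAut P)) (c : Fin 3 → P) : Prop where
  gen : closure (Set.range c) = ⊤
  eig : ∀ T ∈ I, ∀ i, T (c i) = c i ∨ T (c i) = (c i)⁻¹
  pat : ∀ w : Fin 3 → Bool, ∃ T ∈ I, ∀ i, (T (c i) = c i ↔ w i = true)

theorem frame_ext {I : Subgroup (MulAut P)} {c : Fin 3 → P} (hgen : closure (Set.range c) = ⊤)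
    (heig : ∀ T ∈ I, ∀ i, T (c i) = c i ∨ T (c i) = (c i)⁻¹) {S T : MulAut P} (hS : S ∈ I)
    (hT : T ∈ I) (h : ∀ i, (S (c i) = c i ↔ T (c i) = c i)) : S = T := by
  have : S.toMonoidHom = T.toMonoidHom := by
    refine MonoidHom.eq_of_eqOn_dense hgen ?_
    rintro _ ⟨i, rfl⟩
    show S (c i) = T (c i)
    by_cases hi : T (c i) = c i
    · rw [hi, (h i).2 hi]
    · rw [(heig T hT i).resolve_left hi, (heig S hS i).resolve_left fun h' => hi ((h i).1 h')]
  exact MulEquiv.toMonoidHom_injective this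

theorem exists_frame [hf : Fact p.Prime] (hp2 : p ≠ 2) (hP : IsPGroup p P)
    {I I₀ : Subgroup (MulAut P)} (hsq : ∀ x ∈ I, x * x = 1) (h8 : Nat.card I = 8) (hlt : I₀ < I)
    (hB0 : ∀ x ∈ I₀, x ≠ 1 → ¬ Broad x)
    (hBmul : ∀ x ∈ I, ∀ y ∈ I, x ≠ 1 → y ≠ 1 → Broad x → Broad y → x * y ∈ I₀) :
    ∃ c : Fin 3 → P, Frame I c := by
  obtain ⟨a, ha, b, hb, -, -, -, haB, hbB, habB⟩ := exists_four_group hsq h8 hlt Broad hB0 hBmul
  have inv : ∀ T ∈ I, ∀ x, T (T x) = x := fun T hT x =>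
    DFunLike.congr_fun (hsq T hT) x
  obtain ⟨g₀, hg₀⟩ := not_not.mp haB
  obtain ⟨g₁, hg₁⟩ := not_not.mp hbB
  obtain ⟨g₂, hg₂⟩ := not_not.mp habB
  set c : Fin 3 → P := ![g₀, g₁, g₂] with hc
  have hgen : closure (Set.range c) = ⊤ := by
    have hcl : ∀ i x, x ∈ zpowers (c i) → x ∈ closure (Set.range c) := fun i x hx =>
      zpowers_le.mpr (subset_closure (Set.mem_range_self i)) hx
    exact eq_top_of_fixed_le hp2 hP (inv a ha) (inv b hb)
      (fun x => DFunLike.congr_fun (comm_of_sq hsq ha hb) x)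
      (fun x hx => hcl 0 x ((hg₀ x).1 hx)) (fun x hx => hcl 1 x ((hg₁ x).1 hx))
      (fun x hx => hcl 2 x ((hg₂ x).1 hx))
  have eig' : ∀ t ∈ I, ∀ g, (∀ x, t x = x ↔ x ∈ zpowers g) → ∀ T ∈ I, T g = g ∨ T g = g⁻¹ := by
    intro t ht g hg T hT
    refine eq_or_eq_inv hf.out hp2 hP (inv T hT) ((hg _).1 ?_)
    have h1 : t (T g) = T (t g) := DFunLike.congr_fun (comm_of_sq hsq ht hT) g
    rw [h1, (hg g).2 (mem_zpowers g)]
  have heig : ∀ T ∈ I, ∀ i, T (c i) = c i ∨ T (c i) = (c i)⁻¹ := by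
    intro T hT i
    fin_cases i
    · exact eig' a ha g₀ hg₀ T hT
    · exact eig' b hb g₁ hg₁ T hT
    · exact eig' _ (mul_mem ha hb) g₂ hg₂ T hT
  refine ⟨c, hgen, heig, ?_⟩
  classical
  let φ : I → (Fin 3 → Bool) := fun T i => decide ((T : MulAut P) (c i) = c i)
  have hinj : Function.Injective φ := fun S T h => Subtype.ext (frame_ext hgen heig S.2 T.2
    fun i => decide_eq_decide.mp (congr_fun h i))
  have hbij : Function.Bijective φ := (Nat.bijective_iff_injective_and_card φ).2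
    ⟨hinj, by rw [h8, Nat.card_fun, Nat.card_eq_fintype_card, Nat.card_eq_fintype_card]; simp⟩
  intro w
  obtain ⟨T, hT⟩ := hbij.2 w
  refine ⟨T, T.2, fun i => ?_⟩
  rw [← hT]
  simp [φ]

theorem broad_of_fixed_two [hf : Fact p.Prime] (hp2 : p ≠ 2) (hP : IsPGroup p P)
    {I : Subgroup (MulAut P)} (hsq : ∀ x ∈ I, x * x = 1) {c : Fin 3 → P} (F : Frame I c)
    {T : MulAut P} (hT : T ∈ I) {i j : Fin 3} (hij : i ≠ j) (hi : T (c i) = c i)
    (hj : T (c j) = c j) : Broad T := by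
  rintro ⟨g, hg⟩
  obtain ⟨S, hS, hSp⟩ := F.pat fun k => decide (k = i)
  have hSi : S (c i) = c i := (hSp i).2 (by simp)
  have hSj : S (c j) ≠ c j := fun h => by simpa [Ne.symm hij] using (hSp j).1 h
  have hne : ∀ k, c k ≠ 1 := fun k => by
    obtain ⟨U, -, hU⟩ := F.pat fun _ => false
    intro h
    simpa using (hU k).1 (by rw [h, map_one])
  have hinv : ∀ x, S (S x) = x := fun x =>
    DFunLike.congr_fun (hsq S hS) x
  have hSg : S g = g ∨ S g = g⁻¹ := by
    refine eq_or_eq_inv hf.out hp2 hP hinv ((hg _).1 ?_)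
    have h1 : T (S g) = S (T g) := DFunLike.congr_fun (comm_of_sq hsq hT hS) g
    rw [h1, (hg g).2 (mem_zpowers g)]
  obtain ⟨m, hm : g ^ m = c i⟩ := (hg _).1 hi
  obtain ⟨n, hn : g ^ n = c j⟩ := (hg _).1 hj
  rcases hSg with h | h
  · exact hSj (by rw [← hn, map_zpow, h])
  · refine hne i (eq_one_of_sq hf.out hp2 hP ?_)
    have : S (c i) = (c i)⁻¹ := by rw [← hm, map_zpow, h, inv_zpow]
    rw [hSi] at this
    rw [sq]
    exact mul_eq_one_iff_eq_inv.mpr this

theorem inv_conj_mem {G : Type*} [Group G] {N : Subgroup G} [N.Normal] {u v x y : G}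
    (hv : y⁻¹ * x⁻¹ * u * x * y = v) (hu : ∀ g, ⁅u, g⁆ ∈ N) : u⁻¹ * v ∈ N := by
  have h := hu ((x * y)⁻¹)
  have e : u⁻¹ * v = u⁻¹ * ⁅u, (x * y)⁻¹⁆⁻¹ * u := by
    rw [← hv, commutatorElement_def]; group
  rw [e]
  have := (inferInstance : N.Normal).conj_mem _ (inv_mem h) u⁻¹
  rwa [inv_inv] at this

theorem comm_of_frame [hf : Fact p.Prime] (hp2 : p ≠ 2) (hP : IsPGroup p P)
    {I I₀ : Subgroup (MulAut P)} (hsq : ∀ x ∈ I, x * x = 1) (hlt : I₀ < I)
    (hB0 : ∀ x ∈ I₀, x ≠ 1 → ¬ Broad x)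
    (hBmul : ∀ x ∈ I, ∀ y ∈ I, x ≠ 1 → y ≠ 1 → Broad x → Broad y → x * y ∈ I₀)
    {c : Fin 3 → P} (F : Frame I c) : IsMulCommutative P := by
  have hp := hf.out
  have hne : ∀ k, c k ≠ 1 := fun k => by
    obtain ⟨U, -, hU⟩ := F.pat fun _ => false
    intro h
    simpa using (hU k).1 (by rw [h, map_one])
  have inv : ∀ T ∈ I, ∀ x, T (T x) = x := fun T hT x =>
    DFunLike.congr_fun (hsq T hT) x
  set N : Subgroup P := ⁅commutator P, (⊤ : Subgroup P)⁆ with hN
  have hchar : ∀ (T : MulAut P), ∀ x ∈ N, T x ∈ N := by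
    intro T x hx
    have h1 : (commutator P).map T.toMonoidHom = commutator P := by
      rw [_root_.commutator_def, map_commutator, map_top_of_surjective _ T.surjective]
    have h2 : N.map T.toMonoidHom = N := by
      rw [hN, map_commutator, h1, map_top_of_surjective _ T.surjective]
    rw [← h2]
    exact mem_map_of_mem _ hx
  have hcent : ∀ u ∈ commutator P, ∀ g, ⁅u, g⁆ ∈ N := fun u hu g =>
    commutator_mem_commutator hu (mem_top g)
  have hmain : ∀ i j, ⁅c i, c j⁆ ∈ N := by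
    intro i j
    rcases eq_or_ne i j with rfl | hij
    · rw [commutatorElement_self]; exact one_mem _
    set z := ⁅c i, c j⁆ with hz
    have hzP : z ∈ commutator P := commutator_mem_commutator (mem_top _) (mem_top _)
    obtain ⟨k, hki, hkj⟩ : ∃ k, k ≠ i ∧ k ≠ j :=
      (by decide : ∀ i j : Fin 3, i ≠ j → ∃ k, k ≠ i ∧ k ≠ j) i j hij
    obtain ⟨t, ht, htp⟩ := F.pat fun l => decide (l = k)
    obtain ⟨s, hs, hsp⟩ := F.pat fun l => decide (l ≠ i)
    obtain ⟨s', hs', hsp'⟩ := F.pat fun l => decide (l ≠ j)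
    have hss : t = s * s' := by
      refine frame_ext F.gen F.eig ht (mul_mem hs hs') fun l => ?_
      have hl : l = i ∨ l = j ∨ l = k :=
        (by decide : ∀ i j k l : Fin 3, i ≠ j → k ≠ i → k ≠ j → l = i ∨ l = j ∨ l = k) i j k l hij hki hkj
      rw [MulAut.mul_apply]
      rcases hl with rfl | rfl | rfl
      · rw [(hsp' l).2 (by simp [hij]), htp l, hsp l]
        simp [Ne.symm hki]
      · have h1 : s' (c l) = (c l)⁻¹ := (F.eig s' hs' l).resolve_left fun h => by simpa using (hsp' l).1 h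
        rw [h1, map_inv, (hsp l).2 (by simp [Ne.symm hij]), htp l, inv_eq_iff_mul_eq_one]
        simp only [decide_eq_true_eq, Ne.symm hkj, false_iff]
        exact fun h => hne l (eq_one_of_sq hp hp2 hP (by rwa [sq]))
      · rw [(hsp' l).2 (by simp [hkj]), htp l, hsp l]
        simp [hki]
    have hsB : Broad s :=
      broad_of_fixed_two hp2 hP hsq F hs (Ne.symm hkj) ((hsp j).2 (by simp [Ne.symm hij]))
        ((hsp k).2 (by simp [hki]))
    have hsB' : Broad s' :=
      broad_of_fixed_two hp2 hP hsq F hs' (Ne.symm hki) ((hsp' i).2 (by simp [hij]))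
        ((hsp' k).2 (by simp [hkj]))
    have hs1 : s ≠ 1 := fun h => by simpa using (hsp i).1 (by rw [h]; rfl)
    have hs1' : s' ≠ 1 := fun h => by simpa using (hsp' j).1 (by rw [h]; rfl)
    have ht0 : t ∈ I₀ := hss ▸ hBmul s hs s' hs' hs1 hs1' hsB hsB'
    have ht1 : t ≠ 1 := fun h => by simpa [hki.symm] using (htp i).1 (by rw [h]; rfl)
    obtain ⟨g, hg⟩ := not_not.mp (hB0 t ht0 ht1)
    have hti : t (c i) = (c i)⁻¹ := (F.eig t ht i).resolve_left fun h => by
      simpa [hki.symm] using (htp i).1 h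
    have htj : t (c j) = (c j)⁻¹ := (F.eig t ht j).resolve_left fun h => by
      simpa [hkj.symm] using (htp j).1 h
    have htz : z⁻¹ * t z ∈ N := by
      refine inv_conj_mem (x := c j) (y := c i) ?_ (hcent z hzP)
      rw [hz, map_commutatorElement t, hti, htj, commutatorElement_def, commutatorElement_def]
      group
    obtain ⟨m, hm, hfix⟩ := exists_fixed_in_coset hp hp2 hP (inv t ht) htz
    have hsg : s g = g := by
      have hsk : s (c k) = c k := (hsp k).2 (by simp [hki])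
      obtain ⟨e, he : g ^ e = c k⟩ := (hg _).1 ((htp k).2 (by simp))
      refine (eq_or_eq_inv hp hp2 hP (inv s hs) ((hg _).1 ?_)).resolve_right fun h => ?_
      · have h1 : t (s g) = s (t g) := DFunLike.congr_fun (comm_of_sq hsq ht hs) g
        rw [h1, (hg g).2 (mem_zpowers g)]
      · refine hne k (eq_one_of_sq hp hp2 hP ?_)
        have : s (c k) = (c k)⁻¹ := by rw [← he, map_zpow, h, inv_zpow]
        rw [hsk] at this
        rw [sq]
        exact mul_eq_one_iff_eq_inv.mpr this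
    obtain ⟨e, he : g ^ e = z * m⟩ := (hg _).1 hfix
    have hsw : s (z * m) = z * m := by rw [← he, map_zpow, hsg]
    have hsi : s (c i) = (c i)⁻¹ := (F.eig s hs i).resolve_left fun h => by simpa using (hsp i).1 h
    have hsj : s (c j) = c j := (hsp j).2 (by simp [Ne.symm hij])
    have hsz : z * s z ∈ N := by
      have hinv : ∀ g, ⁅z⁻¹, g⁆ ∈ N := hcent _ (inv_mem hzP)
      have := inv_conj_mem (x := c i) (y := 1) (v := s z) (by
        rw [hz, map_commutatorElement s, hsi, hsj, commutatorElement_def, commutatorElement_def]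
        group) hinv
      rwa [inv_inv] at this
    refine mem_of_sq_mem hp hp2 hP ?_
    have h3 : z ^ 2 = (z * s z) * ((s z)⁻¹ * z) := by rw [sq, mul_assoc, mul_inv_cancel_left]
    rw [h3]
    refine mul_mem hsz ?_
    have h4 : (s z)⁻¹ * z = s m * m⁻¹ := by
      rw [map_mul] at hsw
      rw [inv_mul_eq_iff_eq_mul, ← mul_assoc, hsw]; group
    rw [h4]
    exact mul_mem (hchar s m hm) (inv_mem hm)
  set π := QuotientGroup.mk' N with hπ
  have h1 : ∀ x i, Commute (π (c i)) (π x) := by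
    intro x i
    have hle : closure (Set.range c) ≤ (centralizer {π (c i)}).comap π := by
      rw [closure_le]
      rintro _ ⟨j, rfl⟩
      rw [SetLike.mem_coe, mem_comap, mem_centralizer_singleton_iff]
      apply commutatorElement_eq_one_iff_mul_comm.mp
      rw [← map_commutatorElement, hπ, QuotientGroup.mk'_apply, QuotientGroup.eq_one_iff]
      exact hmain j i
    rw [F.gen] at hle
    exact (mem_centralizer_singleton_iff.mp (hle (mem_top x))).symm
  have h2 : commutator P ≤ N := by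
    rw [_root_.commutator_def, commutator_le]
    intro x _ y _
    rw [← QuotientGroup.eq_one_iff (N := N), ← QuotientGroup.mk'_apply, map_commutatorElement]
    refine commutatorElement_eq_one_iff_mul_comm.mpr ?_
    have hle : closure (Set.range c) ≤ (centralizer {π y}).comap π := by
      rw [closure_le]
      rintro _ ⟨j, rfl⟩
      rw [SetLike.mem_coe, mem_comap, mem_centralizer_singleton_iff]
      exact h1 y j
    rw [F.gen] at hle
    exact mem_centralizer_singleton_iff.mp (hle (mem_top x))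
  have hnil : Group.IsNilpotent P := hP.isNilpotent
  obtain ⟨n, hn⟩ := Subgroup.nilpotent_iff_lowerCentralSeries.mp hnil
  have h3 : ∀ l, commutator P ≤ (⊤ : Subgroup P).lowerCentralSeries (l + 1) := by
    intro l
    induction l with
    | zero => rw [Subgroup.lowerCentralSeries_succ, Subgroup.lowerCentralSeries_zero, ← _root_.commutator_def]
    | succ l ih =>
      rw [Subgroup.lowerCentralSeries_succ]
      exact h2.trans (Subgroup.commutator_mono ih le_rfl)
  have h4 : commutator P = ⊥ := by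
    refine le_bot_iff.mp (le_trans (h3 n) ?_)
    rw [← hn]
    exact (⊤ : Subgroup P).lowerCentralSeries_antitone (Nat.le_succ n)
  refine ⟨⟨fun x y => ?_⟩⟩
  apply commutatorElement_eq_one_iff_mul_comm.mp
  have := commutator_mem_commutator (mem_top x) (mem_top y)
  rwa [← _root_.commutator_def, h4, mem_bot] at this

/-- A commutative `p`-group with three independently inverted elements is not `2`-generated. -/
theorem not_two_generated [hf : Fact p.Prime] (hp2 : p ≠ 2) (hP : IsPGroup p P)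
    (hcomm : IsMulCommutative P) {I : Subgroup (MulAut P)} {c : Fin 3 → P} (F : Frame I c) :
    ¬ ∃ a b : P, closure {a, b} = ⊤ := by
  rintro ⟨a, b, hab⟩
  have hp := hf.out
  letI : CommGroup P := { (inferInstance : Group P) with mul_comm := hcomm.is_comm.comm }
  have hne : ∀ k, c k ≠ 1 := fun k => by
    obtain ⟨U, -, hU⟩ := F.pat fun _ => false
    intro h
    simpa using (hU k).1 (by rw [h, map_one])
  have hy : ∀ i, ∃ y ∈ zpowers (c i), orderOf y = p := by
    intro i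
    obtain ⟨m, hm⟩ := IsPGroup.iff_orderOf.mp hP (c i)
    refine ⟨c i ^ (p ^ (m - 1)), pow_mem (mem_zpowers _) _, ?_⟩
    have hm0 : m ≠ 0 := fun h => hne i (by rw [← orderOf_eq_one_iff, hm, h, pow_zero])
    rw [orderOf_pow, hm, Nat.gcd_eq_right (pow_dvd_pow p (by omega)),
      Nat.pow_div (by omega) hp.pos, show m - (m - 1) = 1 by omega, pow_one]
  choose y hyc hyo using hy
  set ψ : P →* P := powMonoidHom p with hψ
  have hker : p ^ 3 ≤ Nat.card ψ.ker := by
    let f : (Fin 3 → Fin p) → ψ.ker := fun e => ⟨y 0 ^ (e 0).val * y 1 ^ (e 1).val * y 2 ^ (e 2).val, by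
      have h : ∀ i, ∀ n : ℕ, y i ^ n ∈ ψ.ker := fun i n => pow_mem (by
        rw [MonoidHom.mem_ker, hψ, powMonoidHom_apply, ← hyo i, pow_orderOf_eq_one]) n
      exact mul_mem (mul_mem (h 0 _) (h 1 _)) (h 2 _)⟩
    have hf : Function.Injective f := by
      intro e e' h
      have h' := congr_arg Subtype.val h
      funext k
      obtain ⟨T, hT, hTp⟩ := F.pat fun l => decide (l ≠ k)
      have hTl : ∀ l, ∀ x ∈ zpowers (c l), T x = if l = k then x⁻¹ else x := by
        intro l x hx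
        obtain ⟨n, rfl⟩ := hx
        simp only [map_zpow]
        split_ifs with hl
        · rw [(F.eig T hT l).resolve_left fun h => by simpa [hl] using (hTp l).1 h, inv_zpow]
        · rw [(hTp l).2 (by simp [hl])]
      have hd := congr_arg (fun x => x / T x) h'
      simp only [f, map_mul, map_pow, hTl _ _ (hyc _)] at hd
      have hsq : (y k ^ (e k).val * (y k ^ (e' k).val)⁻¹) ^ 2 = 1 := by
        fin_cases k
        all_goals
          simp [mul_div_mul_comm, div_inv_eq_mul] at hd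
          rw [mul_pow, inv_pow, sq, sq, mul_inv_eq_one]
          exact hd
      have h5 := mul_inv_eq_one.mp (eq_one_of_sq hp hp2 hP hsq)
      exact Fin.ext (pow_injOn_Iio_orderOf (by rw [Set.mem_Iio, hyo]; exact (e k).isLt)
        (by rw [Set.mem_Iio, hyo]; exact (e' k).isLt) h5)
    have := Nat.card_le_card_of_injective f hf
    simpa [Nat.card_fun] using this
  have hidx : ψ.range.index ≤ p ^ 2 := by
    rw [index_eq_card]
    let g : Fin p × Fin p → P ⧸ ψ.range := fun e => QuotientGroup.mk (a ^ e.1.val * b ^ e.2.val)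
    have hg : Function.Surjective g := by
      intro q
      obtain ⟨x, rfl⟩ := QuotientGroup.mk_surjective q
      obtain ⟨u, v, huv⟩ := mem_closure_pair.mp (hab ▸ mem_top x : x ∈ closure {a, b})
      have hpp : ∀ (z : P) (w : ℤ), ∃ k : Fin p,
          (QuotientGroup.mk (z ^ w) : P ⧸ ψ.range) = QuotientGroup.mk (z ^ k.val) := by
        intro z w
        have hpos : (0 : ℤ) < p := by exact_mod_cast hp.pos
        refine ⟨⟨(w % p).toNat, ?_⟩, ?_⟩
        · have := Int.emod_lt_of_pos w hpos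
          have := Int.emod_nonneg w hpos.ne'
          omega
        · rw [QuotientGroup.eq]
          refine ⟨z ^ (-(w / p)), ?_⟩
          rw [hψ, powMonoidHom_apply, ← zpow_natCast, ← zpow_mul, ← zpow_natCast z, ← zpow_neg,
            ← zpow_add, Int.toNat_of_nonneg (Int.emod_nonneg w hpos.ne')]
          congr 1
          have := Int.emod_def w p
          linarith
      obtain ⟨k₁, hk₁⟩ := hpp a u
      obtain ⟨k₂, hk₂⟩ := hpp b v
      exact ⟨(k₁, k₂), by simp only [g]; rw [← huv, QuotientGroup.mk_mul, QuotientGroup.mk_mul, hk₁, hk₂]⟩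
    have := Nat.card_le_card_of_surjective g hg
    simpa [sq] using this
  have heq : ψ.range.index = Nat.card ψ.ker := by
    have h1 := ψ.range.card_mul_index
    have h2 := ψ.ker.card_mul_index
    rw [Subgroup.index_ker, ← h1, mul_comm] at h2
    exact (Nat.eq_of_mul_eq_mul_left Nat.card_pos h2.symm)
  have : p ^ 3 ≤ p ^ 2 := hker.trans (heq ▸ hidx)
  exact absurd this (not_le.mpr (Nat.pow_lt_pow_right hp.one_lt (by norm_num)))

/-- The structure of the group and of its automorphisms. -/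
theorem triple_stmt (p : ℕ) (hp : p.Prime) (hp2 : p ≠ 2) (hP : IsPGroup p P)
    (I : Subgroup (MulAut P)) (hsq : ∀ x ∈ I, x * x = 1) (h8 : Nat.card ↥I = 8)
    (I₀ : Subgroup (MulAut P)) (hlt : I₀ < I)
    (hB0 : ∀ x ∈ I₀, x ≠ 1 → ¬ Broad x)
    (hBmul : ∀ x ∈ I, ∀ y ∈ I, x ≠ 1 → y ≠ 1 → Broad x → Broad y → x * y ∈ I₀) :
    IsMulCommutative P ∧ (∃ a b c : P, closure {a, b, c} = ⊤) ∧
      (¬ ∃ a b : P, closure {a, b} = ⊤) ∧
      Nat.card {T : MulAut P // T ∈ I ∧ T ≠ 1 ∧ Broad T} = 3 ∧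
      closure {T : MulAut P | T ∈ I ∧ T ≠ 1 ∧ Broad T} = I ∧
      (I₀ : Set (MulAut P)) = {S : MulAut P | ∃ T T' : MulAut P, T ∈ I ∧ T' ∈ I ∧ T ≠ 1 ∧ T' ≠ 1 ∧
        Broad T ∧ Broad T' ∧ S = T * T'} := by
  haveI := Fact.mk hp
  obtain ⟨c, F⟩ := exists_frame hp2 hP hsq h8 hlt hB0 hBmul
  have hcomm := comm_of_frame hp2 hP hsq hlt hB0 hBmul F
  have hne : ∀ k, c k ≠ 1 := fun k => by
    obtain ⟨U, -, hU⟩ := F.pat fun _ => false
    intro h
    simpa using (hU k).1 (by rw [h, map_one])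
  have hU := fun i => F.pat fun l => decide (l ≠ i)
  choose U hUI hUp using hU
  have hUfix : ∀ i l, U i (c l) = c l ↔ l ≠ i := fun i l => by simpa using hUp i l
  have hU1 : ∀ i, U i ≠ 1 := fun i h => (hUfix i i).1 (by rw [h]; rfl) rfl
  have hUB : ∀ i, Broad (U i) := fun i => by
    obtain ⟨j, k, hjk, hj, hk⟩ : ∃ j k, j ≠ k ∧ j ≠ i ∧ k ≠ i := by revert i; decide
    exact broad_of_fixed_two hp2 hP hsq F (hUI i) hjk ((hUfix i j).2 hj) ((hUfix i k).2 hk)
  have hUinj : Function.Injective U := fun i j h => by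
    by_contra hij
    exact ((hUfix i i).1 (h ▸ (hUfix j i).2 hij)) rfl
  have h12 : ∀ S ∈ I, ∀ T ∈ I, ∀ l, (S * T) (c l) = c l ↔ (S (c l) = c l ↔ T (c l) = c l) := by
    intro S hS T hT l
    rw [MulAut.mul_apply]
    have hl : (c l)⁻¹ ≠ c l := fun h => hne l
      (eq_one_of_sq hp hp2 hP (by rw [sq]; nth_rewrite 1 [← h]; exact inv_mul_cancel _))
    rcases F.eig S hS l with hS' | hS' <;> rcases F.eig T hT l with hT' | hT' <;>
      simp [hT', hS', hl, map_inv]
  have hclass : ∀ T ∈ I, T = 1 ∨ (∃ i, T = U i) ∨ (∃ i j, i ≠ j ∧ T = U i * U j) ∨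
      ∀ l, T (c l) = (c l)⁻¹ := by
    intro T hT
    classical
    have key : ∀ w : Fin 3 → Bool, (∀ l, w l = true) ∨ (∃ i, ∀ l, w l = decide (l ≠ i)) ∨
        (∃ i j, i ≠ j ∧ ∀ l, w l = decide (l ≠ i ↔ l ≠ j)) ∨ ∀ l, w l = false := by decide
    rcases key fun l => decide (T (c l) = c l) with h | ⟨i, h⟩ | ⟨i, j, hij, h⟩ | h
    · exact Or.inl (frame_ext F.gen F.eig hT (one_mem I) fun l =>
        ⟨fun _ => rfl, fun _ => by simpa using h l⟩)
    · exact Or.inr (Or.inl ⟨i, frame_ext F.gen F.eig hT (hUI i) fun l => by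
        rw [hUfix]; exact decide_eq_decide.mp (h l)⟩)
    · exact Or.inr (Or.inr (Or.inl ⟨i, j, hij, frame_ext F.gen F.eig hT
        (mul_mem (hUI i) (hUI j)) fun l => by
          rw [h12 _ (hUI i) _ (hUI j), hUfix, hUfix]; exact decide_eq_decide.mp (h l)⟩))
    · exact Or.inr (Or.inr (Or.inr fun l => (F.eig T hT l).resolve_left (by simpa using h l)))
  have hprodI : ∀ i j, U i * U j ∈ I₀ := fun i j =>
    hBmul _ (hUI i) _ (hUI j) (hU1 i) (hU1 j) (hUB i) (hUB j)
  have hinvnb : ∀ T : MulAut P, (∀ l, T (c l) = (c l)⁻¹) → ¬ Broad T := by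
    intro T hT hB
    letI : CommGroup P := { (inferInstance : Group P) with mul_comm := hcomm.is_comm.comm }
    have h : T.toMonoidHom = invMonoidHom := MonoidHom.eq_of_eqOn_dense F.gen (by
      rintro _ ⟨l, rfl⟩; exact hT l)
    refine hB ⟨1, fun x => ?_⟩
    rw [zpowers_one_eq_bot, mem_bot]
    refine ⟨fun hx => eq_one_of_sq hp hp2 hP ?_, fun hx => by rw [hx, map_one]⟩
    have h' : T x = x⁻¹ := DFunLike.congr_fun h x
    rw [hx] at h'
    rw [sq]
    exact mul_eq_one_iff_eq_inv.mpr h'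
  have hset : {T : MulAut P | T ∈ I ∧ T ≠ 1 ∧ Broad T} = Set.range U := by
    ext T
    refine ⟨fun ⟨hT, hT1, hTB⟩ => ?_, ?_⟩
    · rcases hclass T hT with h | ⟨i, rfl⟩ | ⟨i, j, -, rfl⟩ | h
      · exact absurd h hT1
      · exact Set.mem_range_self i
      · exact absurd hTB (hB0 _ (hprodI i j) hT1)
      · exact absurd hTB (hinvnb T h)
    · rintro ⟨i, rfl⟩; exact ⟨hUI i, hU1 i, hUB i⟩
  have hnot : ∀ T ∈ I₀, T ≠ 1 → ∃ i j, i ≠ j ∧ T = U i * U j := by
    intro T hT hT1
    rcases hclass T (hlt.le hT) with h | ⟨i, rfl⟩ | h | h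
    · exact absurd h hT1
    · exact absurd (hUB i) (hB0 _ hT hT1)
    · exact h
    · exfalso
      have h0 : T * (U 1 * U 2) = U 0 := by
        refine frame_ext F.gen F.eig (mul_mem (hlt.le hT) (mul_mem (hUI 1) (hUI 2))) (hUI 0)
          fun l => ?_
        rw [h12 _ (hlt.le hT) _ (mul_mem (hUI 1) (hUI 2)), h12 _ (hUI 1) _ (hUI 2), hUfix, hUfix,
          hUfix]
        have hl : T (c l) ≠ c l := fun h' => hne l (eq_one_of_sq hp hp2 hP (by
          rw [h l] at h'; rw [sq]; nth_rewrite 1 [← h']; exact inv_mul_cancel _))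
        simp only [hl, false_iff]
        clear hl
        revert l; decide
      exact hB0 _ (h0 ▸ mul_mem hT (hprodI 1 2)) (hU1 0) (hUB 0)
  refine ⟨hcomm, ⟨c 0, c 1, c 2, ?_⟩, not_two_generated hp2 hP hcomm F, ?_, ?_, ?_⟩
  · rw [← F.gen]
    congr 1
    ext x
    simp [Fin.exists_fin_succ, eq_comm]
  · calc Nat.card {T : MulAut P // T ∈ I ∧ T ≠ 1 ∧ Broad T}
        = Nat.card {T : MulAut P | T ∈ I ∧ T ≠ 1 ∧ Broad T} := rfl
      _ = Nat.card (Set.range U) := by rw [hset]
      _ = 3 := by rw [Nat.card_range_of_injective hUinj]; simp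
  · rw [hset]
    set K := closure (Set.range U) with hK
    have hKI : K ≤ I := (closure_le _).2 (by rintro _ ⟨i, rfl⟩; exact hUI i)
    refine le_antisymm hKI fun T hT => ?_
    rcases hclass T hT with rfl | ⟨i, rfl⟩ | ⟨i, j, -, rfl⟩ | h
    · exact one_mem _
    · exact subset_closure (Set.mem_range_self i)
    · exact mul_mem (subset_closure (Set.mem_range_self i)) (subset_closure (Set.mem_range_self j))
    · have h0 : T = U 0 * (U 1 * U 2) := by
        refine frame_ext F.gen F.eig hT (mul_mem (hUI 0) (mul_mem (hUI 1) (hUI 2))) fun l => ?_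
        rw [h12 _ (hUI 0) _ (mul_mem (hUI 1) (hUI 2)), h12 _ (hUI 1) _ (hUI 2), hUfix, hUfix,
          hUfix]
        have hl : T (c l) ≠ c l := fun h' => hne l (eq_one_of_sq hp hp2 hP (by
          rw [h l] at h'; rw [sq]; nth_rewrite 1 [← h']; exact inv_mul_cancel _))
        simp only [hl, false_iff]
        clear hl
        revert l; decide
      rw [h0]
      exact mul_mem (subset_closure (Set.mem_range_self 0))
        (mul_mem (subset_closure (Set.mem_range_self 1)) (subset_closure (Set.mem_range_self 2)))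
  · ext S
    refine ⟨fun hS => ?_, ?_⟩
    · by_cases h1 : S = 1
      · exact ⟨U 0, U 0, hUI 0, hUI 0, hU1 0, hU1 0, hUB 0, hUB 0, by rw [h1, hsq _ (hUI 0)]⟩
      · obtain ⟨i, j, -, rfl⟩ := hnot S hS h1
        exact ⟨U i, U j, hUI i, hUI j, hU1 i, hU1 j, hUB i, hUB j, rfl⟩
    · rintro ⟨T, T', hT, hT', h1, h1', hB, hB', rfl⟩
      exact hBmul T hT T' hT' h1 h1' hB hB'

end Cfsg.Agent.InvolutoryTriple
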