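import Cfsg.Statements.S0107
import Cfsg.Agent.Lib.Involution.IndexTwo
import Cfsg.Agent.Lib.Involution.KleinSylow
import Cfsg.Agent.Lib.Transfer.Residual
import Mathlib.GroupTheory.SpecificGroups.Dihedral

set_option autoImplicit false
open Cfsg

namespace Cfsg.Agent.S0107

/-- A finite group with no nontrivial 2-group quotient and dihedral Sylow 2-subgroups of order at least 8 has a single class of involutions. -/
theorem result {G : Type*} [Group G] [Finite G] (T : Sylow 2 G) (n : ℕ) (hn : 2 ≤ n) (hT : Nonempty ((T : Subgroup G) ≃* DihedralGroup (2 ^ n))) (hO : Cfsg.pResidual 2 G = ⊤) (x y : G) (hx : orderOf x = 2) (hy : orderOf y = 2) : ∃ g : G, g * x * g⁻¹ = y := by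
  haveI : Fact (Nat.Prime 2) := ⟨Nat.prime_two⟩
  obtain ⟨e⟩ := hT
  set r : (T : Subgroup G) := e.symm (DihedralGroup.r 1) with hr
  have hordr : orderOf (r : G) = 2 ^ n := by
    rw [Subgroup.orderOf_coe, hr, MulEquiv.orderOf_eq, DihedralGroup.orderOf_r_one]
  set R : Subgroup G := Subgroup.zpowers (r : G) with hR
  have hRT : R ≤ (T : Subgroup G) := Subgroup.zpowers_le.mpr r.2
  have hRi : R.relIndex (T : Subgroup G) = 2 := by
    have hTc : Nat.card (T : Subgroup G) = 2 * 2 ^ n := by
      rw [Nat.card_congr e.toEquiv, DihedralGroup.nat_card]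
    have h1 : Nat.card (R.subgroupOf (T : Subgroup G)) = 2 ^ n := by
      rw [Nat.card_congr (Subgroup.subgroupOfEquivOfLe hRT).toEquiv, hR, Nat.card_zpowers, hordr]
    have h2 := (R.subgroupOf (T : Subgroup G)).card_mul_index
    rw [h1, hTc, mul_comm 2 (2 ^ n)] at h2
    exact Nat.eq_of_mul_eq_mul_left (by positivity) h2
  -- the involution of `R`
  set z : G := (r : G) ^ 2 ^ (n - 1) with hz
  have hz2 : orderOf z = 2 := by
    rw [hz, orderOf_pow_of_dvd (by positivity) (by rw [hordr]; exact pow_dvd_pow 2 (by omega)),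
      hordr, Nat.pow_div (by omega) two_pos, show n - (n - 1) = 1 by omega, pow_one]
  have hzR : z ∈ R := pow_mem (Subgroup.mem_zpowers _) _
  have key : ∀ u : G, orderOf u = 2 → IsConj u z := by
    intro u hu
    obtain ⟨v, hv, huv, hvo⟩ := Involution.exists_isConj_mem_sylow T hu
    obtain ⟨g, hg⟩ : ∃ g : G, g * v * g⁻¹ ∈ R := by
      by_contra hno
      simp only [not_exists] at hno
      obtain ⟨M, hM, hMi, hvM⟩ := Involution.thompson_transfer T R hRT hRi
        (Involution.mul_self_of_orderOf hvo) hno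
      have hle := Cfsg.Agent.Transfer.pResidual_le_of_index (p := 2) (N := M) (n := 1)
        (by rw [hMi, pow_one])
      rw [hO, top_le_iff] at hle
      exact hvM (hle ▸ Subgroup.mem_top v)
    have := Involution.involution_unique_of_isCyclic (a := (⟨_, hg⟩ : R)) (b := ⟨z, hzR⟩)
      (by rw [Subgroup.orderOf_mk, ← MulAut.conj_apply, MulEquiv.orderOf_eq, hvo])
      (by rw [Subgroup.orderOf_mk, hz2])
    exact huv.trans (isConj_iff.mpr ⟨g, congrArg Subtype.val this⟩)
  exact isConj_iff.mp ((key x hx).trans (key y hy).symm)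

end Cfsg.Agent.S0107
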