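import Cfsg.Statements.S0213
import Cfsg.Agent.Lib.Involution.Counting

set_option autoImplicit false
open Cfsg

namespace Cfsg.Agent.S0213

/-- Thompson Order Formula, two-class case: if every involution of the finite group G is conjugate to exactly one of the non-conjugate involutions x₁, x₂, and nᵢ is the number of pairs (u, v) with u conjugate to x₁, v conjugate to x₂ and xᵢ in the cyclic group generated by uv, then |G| = |C(x₂)| n₁ + |C(x₁)| n₂. -/
theorem result {G : Type*} [Group G] [Finite G] (x₁ x₂ : G) (h₁ : orderOf x₁ = 2) (h₂ : orderOf x₂ = 2) (hnc : ¬ IsConj x₁ x₂) (hall : ∀ t : G, orderOf t = 2 → IsConj x₁ t ∨ IsConj x₂ t) : Nat.card G = Nat.card (Subgroup.centralizer ({x₂} : Set G)) * Nat.card {p : G × G // IsConj x₁ p.1 ∧ IsConj x₂ p.2 ∧ x₁ ∈ Subgroup.zpowers (p.1 * p.2)} + Nat.card (Subgroup.centralizer ({x₁} : Set G)) * Nat.card {p : G × G // IsConj x₁ p.1 ∧ IsConj x₂ p.2 ∧ x₂ ∈ Subgroup.zpowers (p.1 * p.2)} := by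
  classical
  haveI := Fintype.ofFinite G
  set P := {p : G × G // IsConj x₁ p.1 ∧ IsConj x₂ p.2} with hP
  have hord : ∀ {a y : G}, orderOf a = 2 → IsConj a y → orderOf y = 2 := by
    intro a y ha h
    obtain ⟨g, rfl⟩ := isConj_iff.mp h
    rw [← ha]
    exact orderOf_injective (MulAut.conj g).toMonoidHom (MulAut.conj g).injective a
  -- the unique involution in the group generated by the product
  have huniq : ∀ r z : G, orderOf z = 2 → z ∈ Subgroup.zpowers r → z = r ^ (orderOf r / 2) := by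
    intro r z hz hzr
    rw [mem_zpowers_iff_mem_range_orderOf, Finset.mem_image] at hzr
    obtain ⟨k, hk, rfl⟩ := hzr
    rw [Finset.mem_range] at hk
    have h0 : k ≠ 0 := by rintro rfl; simp at hz
    have h1 : orderOf r ∣ k + k :=
      orderOf_dvd_of_pow_eq_one (by rw [pow_add, Involution.mul_self_of_orderOf hz])
    obtain ⟨d, hd⟩ := h1
    have hd2 : d < 2 := by
      by_contra hd2
      have := Nat.mul_le_mul_left (orderOf r) (not_lt.mp hd2)
      omega
    rcases (show d = 0 ∨ d = 1 by omega) with rfl | rfl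
    · omega
    · congr 1; omega
  let mid : P → G := fun p => (p.1.1 * p.1.2) ^ (orderOf (p.1.1 * p.1.2) / 2)
  have hmid : ∀ (p : P) (z : G), orderOf z = 2 →
      (z ∈ Subgroup.zpowers (p.1.1 * p.1.2) ↔ mid p = z) := by
    intro p z hz
    exact ⟨fun h => (huniq _ _ hz h).symm, fun h => h ▸ pow_mem (Subgroup.mem_zpowers _) _⟩
  have hmid2 : ∀ p : P, orderOf (mid p) = 2 := by
    intro p
    obtain ⟨z, hz, -, -, hzm⟩ := Involution.exists_commuting_involution (hord h₁ p.2.1)
      (hord h₂ p.2.2) (fun h => hnc ((p.2.1.trans h).trans p.2.2.symm))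
    rw [(hmid p z hz).mp hzm]; exact hz
  -- the fibre over an involution depends only on its class
  have hfib : ∀ i z : G, orderOf i = 2 → IsConj i z →
      Nat.card {p : P // mid p = z} =
        Nat.card {p : G × G // IsConj x₁ p.1 ∧ IsConj x₂ p.2 ∧ i ∈ Subgroup.zpowers (p.1 * p.2)} := by
    intro i z hi hiz
    have hz := hord hi hiz
    obtain ⟨g, rfl⟩ := isConj_iff.mp hiz
    symm
    refine Nat.card_congr (((MulAut.conj g).toEquiv.prodCongr (MulAut.conj g).toEquiv).subtypeEquiv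
      (q := fun q => (IsConj x₁ q.1 ∧ IsConj x₂ q.2) ∧ g * i * g⁻¹ ∈ Subgroup.zpowers (q.1 * q.2))
      (fun q => ?_) |>.trans ((Equiv.subtypeSubtypeEquivSubtypeInter _ _).symm.trans
        (Equiv.subtypeEquivRight fun p => hmid p _ hz)))
    have e1 : ∀ a b : G, IsConj a (g * b * g⁻¹) ↔ IsConj a b := fun a b =>
      ⟨fun h => h.trans (isConj_iff.mpr ⟨g⁻¹, by group⟩), fun h => h.trans (isConj_iff.mpr ⟨g, rfl⟩)⟩
    show _ ↔ (IsConj x₁ (g * q.1 * g⁻¹) ∧ IsConj x₂ (g * q.2 * g⁻¹)) ∧
      g * i * g⁻¹ ∈ Subgroup.zpowers (g * q.1 * g⁻¹ * (g * q.2 * g⁻¹))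
    rw [e1, e1, and_assoc]
    refine and_congr_right' (and_congr_right' ?_)
    rw [show g * q.1 * g⁻¹ * (g * q.2 * g⁻¹) = (MulAut.conj g).toMonoidHom (q.1 * q.2) by
      rw [map_mul]; rfl, ← MonoidHom.map_zpowers,
      show g * i * g⁻¹ = (MulAut.conj g).toMonoidHom i from rfl]
    exact (Subgroup.mem_map_iff_mem (MulAut.conj g).injective).symm
  set n₁ := Nat.card {p : G × G // IsConj x₁ p.1 ∧ IsConj x₂ p.2 ∧ x₁ ∈ Subgroup.zpowers (p.1 * p.2)}
  set n₂ := Nat.card {p : G × G // IsConj x₁ p.1 ∧ IsConj x₂ p.2 ∧ x₂ ∈ Subgroup.zpowers (p.1 * p.2)}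
  set A := Finset.univ.filter fun z : G => IsConj x₁ z
  set B := Finset.univ.filter fun z : G => IsConj x₂ z
  have htot : Nat.card P = A.card * n₁ + B.card * n₂ := by
    have hdis : Disjoint A B := Finset.disjoint_left.mpr fun z hA hB => by
      simp only [A, B, Finset.mem_filter] at hA hB
      exact hnc (hA.2.trans hB.2.symm)
    rw [Nat.card_eq_fintype_card, ← Finset.card_univ, Finset.card_eq_sum_card_fiberwise
      (f := mid) (t := A ∪ B) (fun p _ => by
        simpa [A, B] using hall _ (hmid2 p)), Finset.sum_union hdis]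
    congr 1
    all_goals
      rw [Finset.sum_const_nat]
      intro z hz
      simp only [A, B, Finset.mem_filter] at hz
      rw [← Fintype.card_subtype, ← Nat.card_eq_fintype_card]
    · exact hfib x₁ z h₁ hz.2
    · exact hfib x₂ z h₂ hz.2
  have hA : A.card = Nat.card {y : G // IsConj x₁ y} := by
    rw [Nat.card_eq_fintype_card, Fintype.card_subtype]
  have hB : B.card = Nat.card {y : G // IsConj x₂ y} := by
    rw [Nat.card_eq_fintype_card, Fintype.card_subtype]
  have hPc : Nat.card P = Nat.card {y : G // IsConj x₁ y} * Nat.card {y : G // IsConj x₂ y} := by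
    rw [← Nat.card_prod]
    exact Nat.card_congr
      ⟨fun p => (⟨p.1.1, p.2.1⟩, ⟨p.1.2, p.2.2⟩), fun q => ⟨(q.1.1, q.2.1), q.1.2, q.2.2⟩,
        fun p => rfl, fun q => rfl⟩
  rw [hA, hB, hPc] at htot
  have e1 := Involution.card_isConj_mul_card_centralizer x₁
  have e2 := Involution.card_isConj_mul_card_centralizer x₂
  set c1 := Nat.card (Subgroup.centralizer ({x₁} : Set G))
  set c2 := Nat.card (Subgroup.centralizer ({x₂} : Set G))
  set k1 := Nat.card {y : G // IsConj x₁ y}
  set k2 := Nat.card {y : G // IsConj x₂ y}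
  apply Nat.eq_of_mul_eq_mul_left (Nat.card_pos (α := G))
  calc Nat.card G * Nat.card G = (k1 * k2) * (c1 * c2) := by
        nth_rewrite 1 [← e1]; rw [← e2]; ring
    _ = (k1 * n₁ + k2 * n₂) * (c1 * c2) := by rw [htot]
    _ = (k1 * c1) * (c2 * n₁) + (k2 * c2) * (c1 * n₂) := by ring
    _ = Nat.card G * (c2 * n₁ + c1 * n₂) := by rw [e1, e2]; ring

end Cfsg.Agent.S0213
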