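import Cfsg.Statements.S0824
import Cfsg.Agent.CG26.HeartIso
import Cfsg.Agent.CG26.HeartWeight
import Cfsg.Agent.S0288

set_option autoImplicit false
open Cfsg

namespace Cfsg.Agent.S0824

open Matrix

abbrev Q2 := Cfsg.quadFormMinus 1 (ZMod 2) 1 1

/-- basis -/
def eMat : Matrix (Fin 5) ((Fin 1 ⊕ Fin 1) ⊕ Fin 2) (ZMod 2) :=
  Matrix.of fun i => Sum.elim (Sum.elim ![![1, 1, 1, 1, 0] i] ![![0, 1, 1, 1, 1] i])
    ![![0, 1, 1, 0, 0] i, ![0, 0, 1, 1, 0] i]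

/-- coordinates -/
def cMat : Matrix ((Fin 1 ⊕ Fin 1) ⊕ Fin 2) (Fin 5) (ZMod 2) :=
  Matrix.of (Sum.elim (Sum.elim ![![0, 1, 1, 1, 1]] ![![1, 1, 1, 1, 0]])
    ![![0, 0, 1, 1, 0], ![0, 1, 1, 0, 0]])

theorem sum_eMat : ∀ X : (Fin 1 ⊕ Fin 1) ⊕ Fin 2 → ZMod 2, ∑ i, (eMat *ᵥ X) i = 0 := by decide +kernel

theorem q_eMat : ∀ X : (Fin 1 ⊕ Fin 1) ⊕ Fin 2 → ZMod 2, CG26.qWt (eMat *ᵥ X) = Q2 X := by decide +kernel

theorem eMat_cMat : ∀ v : Fin 5 → ZMod 2, ∑ i, v i = 0 →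
    ∃ c : ZMod 2, eMat *ᵥ (cMat *ᵥ v) = v + fun _ => c := by decide +kernel

/-- the model -/
def model : CG26.Model (ZMod 2) 5 Q2 where
  E := eMat
  C := cMat
  q := CG26.qWt
  sum_E := sum_eMat
  C_E := by decide +kernel
  E_C := eMat_cMat
  C_const := by decide +kernel
  q_E := q_eMat
  q_perm := CG26.qWt_perm
  q_const := by decide +kernel

/-- O⁻_4(2) ≅ S_5: the isometry group of the form x y + z_1² + z_1 z_2 + z_2² over the field with 2 elements is isomorphic to the symmetric group on 5 letters. -/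
theorem result {F : Type*} [Field F] [Fintype F] (hF : Fintype.card F = 2) : Nonempty (↥(Cfsg.isometryGroup F (Cfsg.quadFormMinus 1 F 1 1)) ≃* Equiv.Perm (Fin 5)) := by
  obtain ⟨e⟩ := CG26.exists_zmod_equiv 2 hF
  have h := S0288.result (F := ZMod 2) (q := 2) (ZMod.card 2) 2 (by norm_num) 1 1 (by decide)
  obtain ⟨φ⟩ := model.nonempty_equiv (by norm_num) (Or.inl (by norm_num))
    (h.trans (by decide))
  exact ⟨(CG26.isometryGroupCongr e (fun v => by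
    simp only [Cfsg.quadFormMinus, Function.comp_apply, map_add, map_mul, map_pow, map_one, map_sum])).symm.trans φ⟩

end Cfsg.Agent.S0824
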