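import Cfsg.Statements.S4475
import Cfsg.Agent.Lib.CharInd.BilinearForm

set_option autoImplicit false
open Cfsg

namespace Cfsg.Agent.S4475

/-- Let ρ be an irreducible representation of the finite group G on the coordinate space Fin n → ℂ whose character χ is real-valued, and let ν be the Frobenius–Schur indicator of χ (the average of χ(s²)). Writing X(g) for the matrix of ρ(g), there is a nonzero matrix M with X(g)ᵀ M X(g) = M for all g ∈ G; and every such M (zero or not) satisfies Mᵀ = ν·M. -/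
theorem result {G : Type*} [Group G] [Fintype G] (n : ℕ) (ρ : Representation ℂ G (Fin n → ℂ)) (hirr : ρ.IsIrreducible) (hreal : ∀ g : G, (ρ.character g).im = 0) : (∃ M : Matrix (Fin n) (Fin n) ℂ, M ≠ 0 ∧ ∀ g : G, (LinearMap.toMatrix' (ρ g)).transpose * M * LinearMap.toMatrix' (ρ g) = M) ∧ ∀ M : Matrix (Fin n) (Fin n) ℂ, (∀ g : G, (LinearMap.toMatrix' (ρ g)).transpose * M * LinearMap.toMatrix' (ρ g) = M) → M.transpose = ((Nat.card G : ℂ)⁻¹ * ∑ s : G, ρ.character (s * s)) • M := by
  haveI := hirr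
  obtain ⟨W, ε, hW0, hW, hu, hε, hWT, hν⟩ :=
    CharInd.exists_invariant_form_indicator ρ fun g => Complex.conj_eq_iff_im.mpr (hreal g)
  have hW1 : W * W⁻¹ = 1 := Matrix.mul_nonsing_inv W hu
  have hW2 : W⁻¹ * W = 1 := Matrix.nonsing_inv_mul W hu
  have hinv : ∀ g : G, (LinearMap.toMatrix' (ρ g)).transpose * W⁻¹ * LinearMap.toMatrix' (ρ g)
      = W⁻¹ := by
    intro g
    set A := LinearMap.toMatrix' (ρ g) with hA
    have h1 : W⁻¹ * (A * W * A.transpose) = 1 := by rw [hW g, hW2]
    have h2 : A.transpose * (W⁻¹ * A * W) = 1 :=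
      mul_eq_one_comm.1 (by rw [← h1]; simp [Matrix.mul_assoc])
    calc A.transpose * W⁻¹ * A = A.transpose * (W⁻¹ * A * W) * W⁻¹ := by
          rw [Matrix.mul_assoc, Matrix.mul_assoc, Matrix.mul_assoc (W⁻¹ * A), hW1, Matrix.mul_one]
      _ = W⁻¹ := by rw [h2, Matrix.one_mul]
  rw [hν]
  refine ⟨⟨W⁻¹, fun h => ?_, hinv⟩, fun M hM => ?_⟩
  · apply hW0
    rw [← Matrix.one_mul W, ← hW1, h, Matrix.mul_zero, Matrix.zero_mul]
  · obtain ⟨c, hc⟩ := CharInd.exists_smul_of_commute_irreducible ρ (W * M) fun g => by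
      set A := LinearMap.toMatrix' (ρ g) with hA
      calc A * (W * M) = A * W * (A.transpose * M * A) := by rw [hM g, Matrix.mul_assoc]
        _ = A * W * A.transpose * M * A := by simp only [Matrix.mul_assoc]
        _ = W * M * A := by rw [hW g]
    have hMc : M = c • W⁻¹ := by
      rw [← Matrix.one_mul M, ← hW2, Matrix.mul_assoc, hc, Matrix.mul_smul, Matrix.mul_one]
    rw [hMc, Matrix.transpose_smul, Matrix.transpose_nonsing_inv, hWT]
    rcases hε with rfl | rfl
    · simp
    · rw [neg_one_smul, neg_one_smul, ← smul_neg]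
      congr 1
      exact Matrix.inv_eq_left_inv (by rw [neg_mul_neg, hW2])

end Cfsg.Agent.S4475
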