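import Cfsg.Statements.S4958
import Cfsg.Agent.Blocks88.AbelianWeight
import Mathlib.Analysis.SpecialFunctions.Complex.CircleAddChar
import Mathlib.NumberTheory.LegendreSymbol.AddCharacter
import Mathlib.RingTheory.Polynomial.Cyclotomic.Roots
import Mathlib.GroupTheory.Complement

set_option autoImplicit false
open Cfsg

namespace Cfsg.Agent.S4958

open scoped ComplexConjugate
open Blocks88 Polynomial

attribute [local instance] Fintype.ofFinite

variable (p : ℕ) [Fact p.Prime]

/-- The nonzero residues. -/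
abbrev Ks : Type := {k : ZMod p // k ≠ 0}

/-- The vectors `k ↦ ∑ mⱼ ζ^{jk}`. -/
def Lat (x : Ks p → ℂ) : Prop :=
  ∃ m : ZMod p → ℤ, ∀ k, x k = ∑ j, (m j : ℂ) * ZMod.stdAddChar (j * k.1)

theorem std_pow (a : ZMod p) : ZMod.stdAddChar a = (ZMod.stdAddChar (1 : ZMod p)) ^ a.val := by
  rw [← AddChar.map_nsmul_eq_pow, nsmul_one, ZMod.natCast_zmod_val]

theorem isPrimitiveRoot_std {k : ZMod p} (hk : k ≠ 0) :
    IsPrimitiveRoot (ZMod.stdAddChar k) p := by
  have hp : p.Prime := Fact.out
  have h1 : (ZMod.stdAddChar k) ^ p = 1 := by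
    rw [← AddChar.map_nsmul_eq_pow, nsmul_eq_mul, ZMod.natCast_self, zero_mul, AddChar.map_zero_eq_one]
  have h2 : ZMod.stdAddChar k ≠ 1 := fun h => hk (ZMod.injective_stdAddChar
    (h.trans (AddChar.map_zero_eq_one _).symm))
  exact IsPrimitiveRoot.iff_orderOf.mpr (orderOf_eq_prime h1 h2)

theorem isIntegral_std (a : ZMod p) : IsIntegral ℤ (ZMod.stdAddChar a) := by
  refine IsIntegral.of_pow (Nat.Prime.pos (Fact.out : p.Prime)) ?_
  rw [← AddChar.map_nsmul_eq_pow, nsmul_eq_mul, ZMod.natCast_self, zero_mul, AddChar.map_zero_eq_one]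
  exact isIntegral_one

theorem ample : AbWeight.Ample (Lat p) := by
  refine ⟨⟨0, fun k => by simp⟩, fun x y ⟨m, hm⟩ ⟨m', hm'⟩ => ⟨m - m', fun k => by
    simp [hm, hm', sub_mul, Finset.sum_sub_distrib]⟩, fun x ⟨m, hm⟩ hne => ?_⟩
  -- all coordinates are nonzero
  let Pm : ℚ[X] := ∑ j : ZMod p, C (m j : ℚ) * X ^ j.val
  have hev : ∀ k : Ks p, aeval (ZMod.stdAddChar k.1) Pm = x k := fun k => by
    rw [map_sum, hm]
    refine Finset.sum_congr rfl fun j _ => ?_
    rw [map_mul, aeval_C, map_pow, aeval_X, std_pow p (j * k.1), std_pow p k.1, ← pow_mul,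
      mul_comm k.1.val, ZMod.val_mul]
    simp only [eq_ratCast, Rat.cast_intCast]
    congr 1
    refine pow_eq_pow_mod _ ?_
    rw [← AddChar.map_nsmul_eq_pow, nsmul_eq_mul, ZMod.natCast_self, zero_mul,
      AddChar.map_zero_eq_one]
  have hall : ∀ k, x k ≠ 0 := by
    intro k hk
    apply hne
    funext k'
    have hdiv : minpoly ℚ (ZMod.stdAddChar k.1) ∣ Pm := minpoly.dvd ℚ _ ((hev k).trans hk)
    rw [← cyclotomic_eq_minpoly_rat (isPrimitiveRoot_std p k.2) (Fact.out : p.Prime).pos] at hdiv
    rw [← hev k']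
    rw [cyclotomic_eq_minpoly_rat (isPrimitiveRoot_std p k'.2) (Fact.out : p.Prime).pos] at hdiv
    obtain ⟨q, hq⟩ := hdiv
    rw [hq, map_mul, minpoly.aeval, zero_mul]
    rfl
  have hxint : ∀ k, IsIntegral ℤ (x k) := fun k => by
    rw [hm]
    exact IsIntegral.sum _ fun j _ => (isIntegral_algebraMap (x := m j)).mul (isIntegral_std p _)
  have h := card_le_sum_norm (Finset.univ : Finset (Ks p)) (fun k => x k * x k)
    (fun k _ => (hxint k).mul (hxint k)) (fun k _ => mul_ne_zero (hall k) (hall k)) fun σ => by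
    have hσ1 : (σ (ZMod.stdAddChar (1 : ZMod p))) ^ p = 1 := by
      rw [← map_pow, (isPrimitiveRoot_std p one_ne_zero).pow_eq_one, map_one]
    obtain ⟨t, -, ht⟩ := (isPrimitiveRoot_std p one_ne_zero).eq_pow_of_pow_eq_one hσ1
    have hσ : ∀ a : ZMod p, σ (ZMod.stdAddChar a) = ZMod.stdAddChar ((t : ZMod p) * a) := fun a => by
      rw [std_pow p a, map_pow, ← ht, ← pow_mul, ← AddChar.map_nsmul_eq_pow, nsmul_one,
        Nat.cast_mul, ZMod.natCast_zmod_val]
    have ht0 : (t : ZMod p) ≠ 0 := fun h0 => by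
      have h1 := hσ 1
      rw [h0, zero_mul, AddChar.map_zero_eq_one, ← map_one σ] at h1
      exact one_ne_zero (ZMod.injective_stdAddChar
        ((σ.injective h1).trans (AddChar.map_zero_eq_one _).symm) : (1 : ZMod p) = 0)
    refine ⟨fun k => ⟨(t : ZMod p) * k.1, mul_ne_zero ht0 k.2⟩, fun k _ => Finset.mem_univ _,
      fun a _ b _ hab => Subtype.ext (mul_left_cancel₀ ht0 (congrArg Subtype.val hab :)),
      fun k _ => ?_⟩
    have : σ (x k) = x ⟨(t : ZMod p) * k.1, mul_ne_zero ht0 k.2⟩ := by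
      rw [hm, hm, map_sum]
      refine Finset.sum_congr rfl fun j _ => ?_
      rw [map_mul, map_intCast, hσ]
      congr 2
      ring
    simp only [map_mul, this]
  rw [Finset.card_univ] at h
  refine h.trans (le_of_eq ?_)
  exact Finset.sum_congr rfl fun k _ => by rw [norm_mul, sq]

/-- Let X be a finite group and V a normal subgroup of X in which every element has order dividing the prime p, whose index in X is prime to p and which is its own centralizer in X; so V is an elementary abelian normal Sylow p-subgroup, and any complement G to V in X is a group of order prime to p acting faithfully on the vector space V by conjugation (the coprime linear setting of the k(GV) problem). Let G be a complement to V in X and suppose that for some v in V the centralizer of v in G is abelian. Then the number of conjugacy classes of X is at most the order of V (the abelian-stabilizer criterion for the k(GV) problem). -/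
theorem result {X : Type*} [Group X] [Finite X] (p : ℕ) [Fact p.Prime] (V : Subgroup X) [V.Normal] (hVexp : ∀ v ∈ V, v ^ p = 1) (hidx : ¬ p ∣ V.index) (hself : Subgroup.centralizer (V : Set X) = V) (G : Subgroup X) (hGV : Subgroup.IsComplement' V G) (v : X) (hv : v ∈ V) (hab : ∀ a ∈ G ⊓ Subgroup.centralizer ({v} : Set X), ∀ b ∈ G ⊓ Subgroup.centralizer ({v} : Set X), a * b = b * a) : Nat.card (ConjClasses X) ≤ Nat.card V := by
  have hp : p.Prime := Fact.out
  set C := G ⊓ Subgroup.centralizer ({v} : Set X) with hCdef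
  have hVc : ∀ a ∈ V, ∀ b ∈ V, a * b = b * a := fun a ha b hb =>
    (Subgroup.mem_centralizer_iff.mp (hself.ge ha) b hb).symm
  let _ : CommGroup V :=
    { (inferInstance : Group V) with mul_comm := fun a b => Subtype.ext (hVc a a.2 b b.2) }
  let _ : CommGroup C :=
    { (inferInstance : Group C) with mul_comm := fun a b => Subtype.ext (hab a a.2 b b.2) }
  have hcardG : Nat.card G = V.index := hGV.symm.index_eq_card.symm
  have hcopC : Nat.Coprime p (Nat.card C) := hp.coprime_iff_not_dvd.mpr fun h =>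
    hidx (hcardG ▸ h.trans (Subgroup.card_dvd_of_le inf_le_left))
  let α : C →* MulAut V := (MulAut.conjNormal : X →* MulAut V).comp C.subtype
  obtain ⟨A, iA, fA, W, ι, hgood, -, hker, hW⟩ := AbWeight.exists_good α (ample p)
    (fun x => Subtype.ext (by rw [Subgroup.coe_pow]; exact hVexp x x.2)) hcopC _ ⊤ le_rfl
    (fun _ _ _ => trivial)
  have hι : Function.Injective ι := by
    refine (injective_iff_map_eq_one ι).mpr fun y hy => ?_
    have hyV : (y : X) ∈ V := by
      rw [← hself, Subgroup.mem_centralizer_iff]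
      intro x hx
      have h := congrArg Subtype.val ((hker y).mp hy ⟨x, hx⟩ trivial)
      change (y : X) * x * (y : X)⁻¹ = x at h
      exact (mul_inv_eq_iff_eq_mul.mp h).symm
    exact Subtype.ext (Subgroup.disjoint_def.mp hGV.disjoint hyV y.2.1)
  have hgoodC := AbWeight.good_comap hgood ι hι hW
  -- the elements `vᵏ y`
  have hvp : v ^ p = 1 := hVexp v hv
  have hvy : ∀ y : C, Commute v (y : X) := fun y =>
    Subgroup.mem_centralizer_singleton_iff.mp y.2.2 |>.symm
  have hvadd : ∀ a b : ZMod p, v ^ (a + b).val = v ^ a.val * v ^ b.val := fun a b => by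
    rw [ZMod.val_add, ← pow_eq_pow_mod _ hvp, pow_add]
  let θ : Multiplicative (ZMod p) × C →* X := MonoidHom.mk'
    (fun z => v ^ (Multiplicative.toAdd z.1).val * (z.2 : X)) (fun z w => by
      show v ^ (Multiplicative.toAdd z.1 + Multiplicative.toAdd w.1).val * ((z.2 : X) * (w.2 : X)) = _
      rw [hvadd, mul_assoc, ← mul_assoc (v ^ (Multiplicative.toAdd w.1).val),
        ((hvy z.2).pow_left _).eq]
      simp only [mul_assoc])
  let f : IrrCharacter X → C → Ks p → ℂ := fun χ y k =>
    (χ : X → ℂ) (θ (Multiplicative.ofAdd k.1, y))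
  have hN : ∀ (χ : IrrCharacter X) (μ : IrrCharacter C) (j : ZMod p), ∃ n : ℕ,
      (p : ℂ)⁻¹ * ∑ a : ZMod p, classInner (fun y : C => (χ : X → ℂ) (θ (Multiplicative.ofAdd a, y))) μ *
        conj (ZMod.stdAddChar (j * a)) = n := by
    intro χ μ j
    obtain ⟨l, hl⟩ := AbWeight.exists_hom μ
    let e : Multiplicative (ZMod p) →* ℂ :=
      { toFun := fun a => ZMod.stdAddChar (j * Multiplicative.toAdd a)
        map_one' := by simp
        map_mul' := fun a b => by simp [mul_add, AddChar.map_add_eq_mul] }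
    let κ : Multiplicative (ZMod p) × C →* ℂˣ :=
      (e.toHomUnits.comp (MonoidHom.fst _ _)) * (l.comp (MonoidHom.snd _ _))
    obtain ⟨n, hn⟩ := CharCore.IsCharacter.exists_classInner_eq_natCast
      (CharCore.isCharacter_comp (CharCore.irr_isCharacter χ) θ)
      (CharCore.IsIrrCharacter.isCharacter (CharCore.isIrrCharacter_hom κ))
    refine ⟨n, ?_⟩
    rw [← hn, CharCore.classInner_def, Fintype.sum_prod_type, Nat.card_prod, Nat.card_congr
      Multiplicative.toAdd, Nat.card_zmod, Nat.cast_mul, mul_inv, mul_assoc]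
    congr 1
    rw [Finset.mul_sum]
    refine Fintype.sum_equiv Multiplicative.ofAdd _ _ fun a => ?_
    rw [CharCore.classInner_def, Finset.mul_sum, Finset.mul_sum, Finset.sum_mul]
    refine Finset.sum_congr rfl fun y _ => ?_
    simp only [hl, κ, e, MonoidHom.mul_apply, MonoidHom.comp_apply, MonoidHom.coe_fst,
      MonoidHom.coe_snd, Units.val_mul, map_mul, MonoidHom.coe_toHomUnits, MonoidHom.coe_mk,
      OneHom.coe_mk, toAdd_ofAdd]
    ring
  choose N hN using hN
  have hinv : ∀ (χ : IrrCharacter X) (μ : IrrCharacter C) (k : ZMod p),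
      classInner (fun y : C => (χ : X → ℂ) (θ (Multiplicative.ofAdd k, y))) μ =
        ∑ j, (N χ μ j : ℂ) * ZMod.stdAddChar (j * k) := by
    intro χ μ k
    have hconj : ∀ b : ZMod p, conj (ZMod.stdAddChar b) = ZMod.stdAddChar (-b) := fun b => by
      rw [AddChar.map_neg_eq_inv, Complex.inv_eq_conj]
      rw [ZMod.stdAddChar_apply]
      exact Circle.norm_coe _
    simp only [← hN]
    simp only [Finset.mul_sum, Finset.sum_mul]
    simp only [hconj]
    rw [Finset.sum_comm]
    have h1 : ∀ a : ZMod p, ∑ j : ZMod p, ZMod.stdAddChar (-(j * a)) * ZMod.stdAddChar (j * k) =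
        if k - a = 0 then (p : ℂ) else 0 := fun a => by
      rw [show (∑ j : ZMod p, ZMod.stdAddChar (-(j * a)) * ZMod.stdAddChar (j * k)) =
          ∑ j : ZMod p, ZMod.stdAddChar (j * (k - a)) from Finset.sum_congr rfl fun j _ => by
        rw [← AddChar.map_add_eq_mul]; congr 1; ring,
        AddChar.sum_mulShift _ (ZMod.isPrimitive_stdAddChar p)]
      rw [Fintype.card_eq_nat_card, Nat.card_zmod]; split_ifs <;> simp
    rw [Finset.sum_congr rfl fun a _ => (show ∑ j : ZMod p,
      (p : ℂ)⁻¹ * (classInner (fun y : C => (χ : X → ℂ) (θ (Multiplicative.ofAdd a, y))) μ *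
        ZMod.stdAddChar (-(j * a))) * ZMod.stdAddChar (j * k) =
      (p : ℂ)⁻¹ * classInner (fun y : C => (χ : X → ℂ) (θ (Multiplicative.ofAdd a, y))) μ *
        (if k - a = 0 then (p : ℂ) else 0) by
          rw [← h1 a, Finset.mul_sum]
          exact Finset.sum_congr rfl fun j _ => by ring)]
    simp only [sub_eq_zero, mul_ite, mul_zero, Finset.sum_ite_eq, Finset.mem_univ, if_true]
    rw [mul_comm, ← mul_assoc, mul_inv_cancel₀ (Nat.cast_ne_zero.mpr hp.ne_zero), one_mul]
  have hlow : ∀ χ, (Fintype.card (Ks p) : ℝ) * (Nat.card C : ℝ) ^ 2 ≤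
      AbWeight.wnorm (fun y => (Nat.card ((⊤ : Subgroup V).map (AbWeight.delta α y)) : ℝ)) (f χ) := by
    intro χ
    refine hgoodC (f χ) (fun μ => ⟨fun j => (N χ μ j : ℤ), fun k => ?_⟩) fun h0 => ?_
    · simp only [Int.cast_natCast]
      exact hinv χ μ k.1
    obtain ⟨d, hd, hdvd⟩ := charDegree_dvd_index χ V hVc
    have hdiv : ∀ μ : IrrCharacter C,
        classInner (fun y : C => (χ : X → ℂ) (θ (Multiplicative.ofAdd 0, y))) μ =
          (p : ℂ) * (N χ μ 0 : ℂ) := by
      intro μ
      rw [← hN, Finset.sum_eq_single (0 : ZMod p) ?_ (fun h => absurd (Finset.mem_univ _) h),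
        mul_zero, AddChar.map_zero_eq_one, map_one, mul_one, ← mul_assoc,
        mul_inv_cancel₀ (Nat.cast_ne_zero.mpr hp.ne_zero), one_mul]
      intro a _ ha
      have : (fun y : C => (χ : X → ℂ) (θ (Multiplicative.ofAdd a, y))) = 0 := funext fun y =>
        congrFun (congrFun h0 y) ⟨a, ha⟩
      rw [this, CharCore.classInner_zero_left, zero_mul]
    have h1 := AbWeight.apply_one (fun y : C => (χ : X → ℂ) (θ (Multiplicative.ofAdd 0, y)))
    simp only [hdiv, ← Finset.mul_sum] at h1
    rw [show θ (Multiplicative.ofAdd 0, (1 : C)) = 1 from map_one θ, hd] at h1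
    exact hidx (dvd_trans (⟨∑ μ, N χ μ 0, by exact_mod_cast h1⟩ : p ∣ d) hdvd)
  -- the total
  have hcent : ∀ (k : Ks p) (y : C),
      Nat.card (Subgroup.centralizer ({θ (Multiplicative.ofAdd k.1, y)} : Set X)) =
        Nat.card (AbWeight.delta α y).ker * Nat.card C := by
    intro k y
    set z := θ (Multiplicative.ofAdd k.1, y) with hz
    have hzdef : z = v ^ k.1.val * (y : X) := rfl
    have hky : ∀ u : V, u ∈ (AbWeight.delta α y).ker ↔ (y : X) * u = u * y := fun u => by
      rw [MonoidHom.mem_ker, AbWeight.delta_apply, div_eq_one, Subtype.ext_iff]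
      show (y : X) * u * (y : X)⁻¹ = u ↔ _
      exact mul_inv_eq_iff_eq_mul
    let g : (AbWeight.delta α y).ker × C → Subgroup.centralizer ({z} : Set X) := fun a =>
      ⟨((a.1 : V) : X) * (a.2 : X), by
        rw [Subgroup.mem_centralizer_singleton_iff, hzdef]
        have c1 : Commute ((a.1 : V) : X) v := hVc _ (a.1 : V).2 v hv
        have c2 : Commute ((a.1 : V) : X) (y : X) := ((hky a.1).mp a.1.2).symm
        have c3 : Commute (a.2 : X) v := (hvy a.2).symm
        have c4 : Commute (a.2 : X) (y : X) := hab _ a.2.2 _ y.2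
        exact ((c1.mul_left c3).pow_right _).mul_right (c2.mul_left c4)⟩
    rw [← Nat.card_prod]
    refine (Nat.card_eq_of_bijective g ⟨fun a b hab' => ?_, fun x => ?_⟩).symm
    · have h : ((⟨(a.1 : V), ⟨a.2, a.2.2.1⟩⟩ : V × G)) = ⟨(b.1 : V), ⟨b.2, b.2.2.1⟩⟩ :=
        hGV.1 (congrArg Subtype.val hab' :)
      simp only [Prod.mk.injEq, Subtype.mk.injEq, SetLike.coe_eq_coe] at h
      exact Prod.ext h.1 h.2
    · obtain ⟨⟨u, t⟩, hut⟩ := hGV.2 (x : X)
      change (u : X) * (t : X) = (x : X) at hut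
      have hxz : Commute (x : X) z := Subgroup.mem_centralizer_singleton_iff.mp x.2
      set m := orderOf (y : X) with hm
      have hm0 : (m : ZMod p) ≠ 0 := fun h => by
        rw [ZMod.natCast_eq_zero_iff] at h
        exact hidx (hcardG ▸ h.trans (Subgroup.orderOf_dvd_natCard G y.2.1))
      have hzm : z ^ m = v ^ (k.1.val * m) := by
        rw [hzdef, ((hvy y).pow_left _).mul_pow, ← pow_mul, hm, pow_orderOf_eq_one, mul_one]
      have hxv : Commute (x : X) v := by
        have h1 := (hxz.pow_right m).pow_right ((k.1 * (m : ZMod p))⁻¹).val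
        rw [hzm, ← pow_mul] at h1
        have h2 : v ^ (k.1.val * m * ((k.1 * (m : ZMod p))⁻¹).val) = v := by
          have h3 : ((k.1.val * m * ((k.1 * (m : ZMod p))⁻¹).val : ℕ) : ZMod p) = ((1 : ℕ) : ZMod p) := by
            push_cast
            rw [ZMod.natCast_zmod_val, ZMod.natCast_zmod_val,
              mul_inv_cancel₀ (mul_ne_zero k.2 hm0)]
          rw [pow_eq_pow_mod _ hvp, (ZMod.natCast_eq_natCast_iff' _ _ _).mp h3,
            Nat.mod_eq_of_lt hp.one_lt, pow_one]
        rwa [h2] at h1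
      have htx : (t : X) = (u : X)⁻¹ * (x : X) := by rw [← hut, inv_mul_cancel_left]
      have htC : (t : X) ∈ C := ⟨t.2, Subgroup.mem_centralizer_singleton_iff.mpr (by
        rw [htx]
        exact ((show Commute (u : X) v from hVc _ u.2 v hv).inv_left.mul_left hxv).eq)⟩
      have hxy : Commute (x : X) (y : X) := by
        have h1 : Commute (x : X) ((v ^ k.1.val)⁻¹ * z) := (hxv.pow_right _).inv_right.mul_right hxz
        have e : (v ^ k.1.val)⁻¹ * z = (y : X) := by rw [hzdef, inv_mul_cancel_left]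
        rwa [e] at h1
      have huy : (y : X) * u = u * y := by
        have h1 : Commute ((x : X) * (t : X)⁻¹) (y : X) :=
          hxy.mul_left (show Commute (t : X) (y : X) from hab _ htC _ y.2).inv_left
        rw [← hut, mul_inv_cancel_right] at h1
        exact h1.eq.symm
      exact ⟨(⟨u, (hky u).mpr huy⟩, ⟨t, htC⟩), Subtype.ext hut⟩
  have hkey : ∀ (k : Ks p) (y : C), (Nat.card ((⊤ : Subgroup V).map (AbWeight.delta α y)) : ℝ) *
      ∑ χ : IrrCharacter X, ‖f χ y k‖ ^ 2 = (Nat.card V : ℝ) * Nat.card C := by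
    intro k y
    have h := CharCore.sum_apply_mul_conj (θ (Multiplicative.ofAdd k.1, y)) (θ (Multiplicative.ofAdd k.1, y))
    rw [if_pos (IsConj.refl _), hcent] at h
    simp only [Complex.mul_conj'] at h
    have h' : ∑ χ : IrrCharacter X, ‖f χ y k‖ ^ 2 =
        ((Nat.card (AbWeight.delta α y).ker * Nat.card C : ℕ) : ℝ) := by exact_mod_cast h
    rw [h', ← MonoidHom.range_eq_map, Nat.cast_mul, ← mul_assoc, ← Nat.cast_mul,
      ← Nat.card_congr (QuotientGroup.quotientKerEquivRange _).toEquiv,
      ← Subgroup.card_eq_card_quotient_mul_card_subgroup]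
  have htot := Finset.sum_le_sum (s := (Finset.univ : Finset (IrrCharacter X))) fun χ _ => hlow χ
  rw [Finset.sum_const, Finset.card_univ, nsmul_eq_mul] at htot
  simp only [AbWeight.wnorm] at htot
  rw [Finset.sum_comm, Finset.sum_congr rfl fun y _ =>
    (show ∑ χ : IrrCharacter X, (Nat.card ((⊤ : Subgroup V).map (AbWeight.delta α y)) : ℝ) *
        ∑ k, ‖f χ y k‖ ^ 2 = ∑ _k : Ks p, (Nat.card V : ℝ) * Nat.card C by
      simp only [Finset.mul_sum]
      rw [Finset.sum_comm]
      exact Finset.sum_congr rfl fun k _ => by rw [← Finset.mul_sum, hkey k y]),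
    Finset.sum_const, Finset.card_univ, Finset.sum_const, Finset.card_univ, nsmul_eq_mul,
    nsmul_eq_mul] at htot
  rw [← CharCore.card_irr, Nat.card_eq_fintype_card]
  have hS : (0 : ℝ) < Fintype.card (Ks p) := by
    exact_mod_cast Fintype.card_pos_iff.mpr ⟨(⟨1, one_ne_zero⟩ : Ks p)⟩
  have hC0 : (0 : ℝ) < Nat.card C := by exact_mod_cast Nat.card_pos
  rw [Fintype.card_eq_nat_card (α := C)] at htot
  have : (Fintype.card (IrrCharacter X) : ℝ) ≤ Nat.card V := by
    refine le_of_mul_le_mul_right ?_ (mul_pos hS (pow_pos hC0 2))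
    refine htot.trans (le_of_eq ?_)
    ring
  exact_mod_cast this

end Cfsg.Agent.S4958
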