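import Cfsg.Statements.S0281
import Cfsg.Agent.Lib.Unitary.Moves
import Cfsg.Agent.Lib.LinearGroup.Card
import Mathlib.FieldTheory.Finite.GaloisField
-- import your own Cfsg.Agent.* helpers here

set_option autoImplicit false
open Cfsg

namespace Cfsg.Agent.S0281

open Matrix Cfsg.Agent.Unitary

variable {F K : Type*} [Field F] [Fintype F] [Field K] [Fintype K] {q : ℕ}

/-- The field of order `q` inside `F`. -/
theorem exists_embedding (hF : Fintype.card F = q ^ 2) (hK : Fintype.card K = q) :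
    ∃ ι : K →+* F, ∀ a, ι a ^ q = ι a := by
  classical
  let L := (conjHom hF).eqLocusField (RingHom.id F)
  have hc : Nat.card L = q :=
    (Nat.card_congr (Equiv.subtypeEquivRight fun x => Iff.rfl)).trans (card_fixed hF)
  haveI : Fintype L := Fintype.ofFinite L
  have hcard : Fintype.card K = Fintype.card L := by
    rw [hK, ← Nat.card_eq_fintype_card (α := L), hc]
  refine ⟨L.subtype.comp (FiniteField.ringEquivOfCardEq hcard).toRingHom, fun a => ?_⟩
  exact (FiniteField.ringEquivOfCardEq hcard a).2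

theorem equiv_SL (hF : Fintype.card F = q ^ 2) (hK : Fintype.card K = q) :
    Nonempty (Cfsg.SU 2 F q ≃* Matrix.SpecialLinearGroup (Fin 2) K) := by
  classical
  obtain ⟨ι, hι⟩ := exists_embedding hF hK
  obtain ⟨u, v, -, -, hu, hv, huv⟩ := exists_std_pair hF (i := (0 : Fin 2)) (j := 1) (by decide)
  obtain ⟨θ, hθ0, hθ⟩ := exists_trace_zero_ne_zero hF
  have hθ' : θ ^ q = -θ := eq_neg_of_add_eq_zero_right hθ
  set v' := (-θ) • v with hv'
  set P : Matrix (Fin 2) (Fin 2) F := Matrix.of fun k => ![u k, v' k] with hP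
  have hPmul : ∀ z : Fin 2 → F, P *ᵥ z = z 0 • u + z 1 • v' := fun z => by
    funext k
    simp [hP, Matrix.mulVec, dotProduct, Fin.sum_univ_two, mul_comm]
  have hform : ∀ z w : Fin 2 → F, herm q (P *ᵥ z) (P *ᵥ w) =
      θ * (z 0 * w 1 ^ q - z 1 * w 0 ^ q) := by
    intro z w
    simp only [hPmul, hv', herm_add_left, herm_add_right hF, herm_smul_left, herm_smul_right hF,
      hu, hv, huv, herm_one_swap hF huv, neg_pow_q hF, hθ']
    ring
  have hPu : IsUnit P := by
    refine Matrix.mulVec_injective_iff_isUnit.1 fun z w hzw => ?_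
    have h1 := congrArg (fun y => herm q y v) hzw
    have h2 := congrArg (fun y => herm q y u) hzw
    simp only [hPmul, hv', herm_add_left, herm_smul_left, hu, hv, huv, herm_one_swap hF huv,
      mul_zero, mul_one, add_zero, zero_add] at h1 h2
    funext k
    fin_cases k
    · exact h1
    · exact mul_right_cancel₀ (neg_ne_zero.2 hθ0) h2
  have hPd : IsUnit P.det := (Matrix.isUnit_iff_isUnit_det P).1 hPu
  let f : Matrix.SpecialLinearGroup (Fin 2) K →* Matrix.SpecialLinearGroup (Fin 2) F :=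
    { toFun := fun M => ⟨P * (M.1.map ι) * P⁻¹, by
        rw [Matrix.det_conj hPu, ← RingHom.mapMatrix_apply, ← RingHom.map_det, M.2, map_one]⟩
      map_one' := Subtype.ext (by simp [Matrix.mul_nonsing_inv _ hPd])
      map_mul' := fun M N => Subtype.ext (by
        show P * (M.1 * N.1).map ι * P⁻¹ = P * M.1.map ι * P⁻¹ * (P * N.1.map ι * P⁻¹)
        rw [Matrix.map_mul]
        simp [Matrix.mul_assoc, Matrix.nonsing_inv_mul_cancel_left _ _ hPd]) }
  have hmem : ∀ M, f M ∈ Cfsg.SU 2 F q := by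
    intro M x y
    show herm q ((P * (M.1.map ι) * P⁻¹) *ᵥ x) ((P * (M.1.map ι) * P⁻¹) *ᵥ y) = herm q x y
    have hd := congrArg ι M.2
    rw [Matrix.det_fin_two, map_sub, map_mul, map_mul, map_one] at hd
    conv_rhs => rw [← Matrix.one_mulVec x, ← Matrix.one_mulVec y, ← Matrix.mul_nonsing_inv P hPd,
      ← Matrix.mulVec_mulVec, ← Matrix.mulVec_mulVec, hform]
    rw [← Matrix.mulVec_mulVec, ← Matrix.mulVec_mulVec, ← Matrix.mulVec_mulVec,
      ← Matrix.mulVec_mulVec, hform]
    simp only [Matrix.mulVec, dotProduct, Fin.sum_univ_two, Matrix.map_apply, add_pow_q hF, mul_pow,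
      hι]
    linear_combination (θ * (((P⁻¹) 0 0 * x 0 + (P⁻¹) 0 1 * x 1) *
        (((P⁻¹) 1 0) ^ q * y 0 ^ q + ((P⁻¹) 1 1) ^ q * y 1 ^ q) -
      ((P⁻¹) 1 0 * x 0 + (P⁻¹) 1 1 * x 1) *
        (((P⁻¹) 0 0) ^ q * y 0 ^ q + ((P⁻¹) 0 1) ^ q * y 1 ^ q))) * hd
  let g := f.codRestrict (Cfsg.SU 2 F q) hmem
  have hinj : Function.Injective g := by
    intro M N h
    have h' : P⁻¹ * (P * M.1.map ι * P⁻¹) * P = P⁻¹ * (P * N.1.map ι * P⁻¹) * P :=
      congrArg (fun z : Cfsg.SU 2 F q => P⁻¹ * z.1.1 * P) h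
    refine Subtype.ext (Matrix.map_injective ι.injective ?_)
    simpa [Matrix.mul_assoc, Matrix.nonsing_inv_mul _ hPd,
      Matrix.nonsing_inv_mul_cancel_left _ _ hPd] using h'
  have hcard : Nat.card (Cfsg.SU 2 F q) = Nat.card (Matrix.SpecialLinearGroup (Fin 2) K) := by
    rw [LinearGroup.card_SL_two, Nat.card_eq_fintype_card (α := K), hK]
    have h := (card_SU_mul hF (n := 2) (by omega)).trans (card_GU hF 2)
    simp [Finset.prod_range_succ, -Nat.card_eq_fintype_card] at h
    exact Nat.eq_of_mul_eq_mul_left (by omega : 0 < q + 1) (h.trans (by ring))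
  exact ⟨(MulEquiv.ofBijective g (hinj.bijective_of_nat_card_le hcard.le)).symm⟩


/-- SU_2(q) is isomorphic to SL_2(q). -/
theorem result {F K : Type*} [Field F] [Fintype F] [Field K] [Fintype K] {q : ℕ} (hF : Fintype.card F = q ^ 2) (hK : Fintype.card K = q) : Nonempty (Cfsg.SU 2 F q ≃* Matrix.SpecialLinearGroup (Fin 2) K) := equiv_SL hF hK

end Cfsg.Agent.S0281
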