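import Cfsg.Statements.S1057
import Cfsg.Agent.G22.GTwo
import Cfsg.Agent.G22.IndexTwo
import Cfsg.Agent.Lib.Unitary.Center
import Cfsg.Agent.S1059
-- import your own Cfsg.Agent.* helpers here

set_option autoImplicit false
open Cfsg

namespace Cfsg.Agent.S1057

/-- G₂(2)′ ≅ PSU₃(3). -/
theorem result {F K : Type*} [Field F] [Fintype F] [Field K] [Fintype K] (hF : Fintype.card F = 2) (hK : Fintype.card K = 9) :
    Nonempty (↥(commutator ↥(Cfsg.Lie.chevG2.group F)) ≃* Cfsg.PSU 3 K 3) := by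
  have hF9 : Fintype.card K = 3 ^ 2 := by rw [hK]; norm_num
  have h32 : ¬ ((3 : ℕ) = 3 ∧ (3 : ℕ) = 2) := by omega
  obtain ⟨ψ, hψ, hψr⟩ := Cfsg.Agent.G22.exists_embedding (F := F) hF
  obtain ⟨π, hπ, hπr⟩ := Cfsg.Agent.G22.exists_action hK Cfsg.Agent.G22.genF_invol
  have hperf : commutator (Cfsg.PSU 3 K 3) = ⊤ := by
    have h := Cfsg.Agent.Unitary.commutator_SU_eq_top (n := 3) hF9 le_rfl h32
    set m := QuotientGroup.mk' (Subgroup.center (Cfsg.SU 3 K 3)) with hm
    have hs : Function.Surjective m := QuotientGroup.mk'_surjective _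
    rw [commutator_def, ← Subgroup.map_top_of_surjective m hs, ← Subgroup.map_commutator,
      ← commutator_def, h]
  have hP : Nat.card (Cfsg.PSU 3 K 3) = 6048 := by
    have h := Cfsg.Agent.Unitary.card_PSU (n := 3) hF9 (by omega)
    rw [Finset.prod_range_succ, Finset.prod_range_succ, Finset.prod_range_succ, Finset.prod_range_zero,
      if_pos (by decide : Even 0), if_neg (by decide : ¬ Even 1), if_pos (by decide : Even 2),
      show Nat.gcd 3 (3 + 1) = 1 from rfl] at h
    norm_num at h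
    exact Nat.eq_of_mul_eq_mul_left (by norm_num : 0 < 4) (h.trans (by norm_num))
  haveI : Finite ↥(Cfsg.Lie.chevG2.group F) := inferInstance
  refine Cfsg.Agent.G22.commutator_equiv_of_index_two ψ π hψ hπ (hπr.trans hψr) hperf ?_
  rw [Cfsg.Agent.S1059.result hF, hP]; norm_num

end Cfsg.Agent.S1057
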