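import Cfsg.Statements.S2922
import Cfsg.Agent.LocalEven64.GenFittingCharP

set_option autoImplicit false
open Cfsg

namespace Cfsg.Agent.S2922

open Subgroup LocalEven64

theorem key {X : Type*} [Group X] [Finite X] {p : ℕ} [Fact p.Prime] (B C : Subgroup X)
    (hB : IsPGroup p ↥B) (hCB : C ≤ B) (hCn : (C.subgroupOf B).Normal)
    (hC : CharPOf p (normalizer (C : Set X))) :
    CharPOf p (normalizer (B : Set X)) ∧ CharPOf p (centralizer (B : Set X)) := by
  set M := normalizer (C : Set X) ⊓ normalizer (B : Set X) with hM
  have hBC : B ≤ normalizer (C : Set X) := (normal_subgroupOf_iff_le_normalizer hCB).mp hCn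
  have hCle : centralizer (B : Set X) ≤ M :=
    le_inf ((centralizer_le hCB).trans (centralizer_le_normalizer _)) (centralizer_le_normalizer _)
  have hMc : CharPOf p M :=
    hC.of_le_normalizer hB (le_inf hBC le_normalizer) inf_le_left inf_le_right
      (inf_le_right.trans hCle)
  have hN : normalizer (B : Set X) ≤ normalizer ((centralizer (B : Set X) : Subgroup X) : Set X) :=
    le_normalizer_centralizer le_rfl
  have hCc : CharPOf p (centralizer (B : Set X)) := hMc.of_normal hCle (inf_le_right.trans hN)
  refine ⟨charPOf_iff.mpr fun x hx hxp hxc => ?_, hCc⟩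
  have h1 : B ≤ Cfsg.pCoreOf p (normalizer (B : Set X)) := le_pCoreOf le_normalizer le_rfl hB
  have hxB : x ∈ centralizer (B : Set X) := centralizer_le (fun b hb => h1 hb) hxc
  refine hCc.eq_one hxB hxp ?_
  refine centralizer_le (fun y hy => ?_) hxc
  have hle : Cfsg.pCoreOf p (centralizer (B : Set X)) ≤ Cfsg.pCoreOf p (normalizer (B : Set X)) := by
    refine le_pCoreOf ((pCoreOf_le _).trans (centralizer_le_normalizer _)) ?_ (isPGroup_pCoreOf _)
    intro g hg
    rw [mem_normalizer_iff_map_conj_eq]
    have e := mem_normalizer_iff_map_conj_eq.mp (hN hg)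
    refine eq_of_le_of_card_ge (le_pCoreOf ((map_mono (pCoreOf_le _)).trans e.le) ?_
      ((isPGroup_pCoreOf _).map _)) (by rw [card_map_of_injective (MulAut.conj g).injective])
    intro z hz
    rw [← e] at hz
    exact le_normalizer_map _ (map_mono (le_normalizer_pCoreOf _) hz)
  exact hle hy

/-- Let p be a prime, X a finite group, B a p-subgroup of X and C a normal subgroup of B. If N_X(C) has characteristic p (its generalized Fitting subgroup is O_p(N_X(C))), then N_X(B) and C_X(B) have characteristic p. -/
theorem result {X : Type*} [Group X] [Finite X] {p : ℕ} [Fact p.Prime] (B C : Subgroup X) (hB : IsPGroup p ↥B) (hCB : C ≤ B) (hCn : (C.subgroupOf B).Normal) (hC : Cfsg.generalizedFittingSubgroup ↥(Subgroup.normalizer (C : Set X)) = Cfsg.pCore p ↥(Subgroup.normalizer (C : Set X))) : Cfsg.generalizedFittingSubgroup ↥(Subgroup.normalizer (B : Set X)) = Cfsg.pCore p ↥(Subgroup.normalizer (B : Set X)) ∧ Cfsg.generalizedFittingSubgroup ↥(Subgroup.centralizer (B : Set X)) = Cfsg.pCore p ↥(Subgroup.centralizer (B : Set X)) := by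
  open LocalEven64 in
  rw [← charPOf_iff_generalizedFitting (p := p), ← charPOf_iff_generalizedFitting (p := p)]
  exact key B C hB hCB hCn (LocalEven64.charPOf_iff_generalizedFitting.mpr hC)

end Cfsg.Agent.S2922
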