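import Cfsg.Statements.S1206
import Cfsg.Agent.TwoFusion36.QDFusion2

set_option autoImplicit false
open Cfsg

namespace Cfsg.Agent.S1206

/-- Let G be a finite group with quasi-dihedral Sylow 2-subgroup S, T a Klein four-subgroup and Q a quaternion subgroup of order 8 of S, with |N_G(T) : C_G(T)| = 6 and |N_G(Q) : Q C_G(Q)| = 2. Then G has a normal subgroup K of index 2 whose Sylow 2-subgroups are dihedral and which has no subgroup of index 2, and G has exactly one class of involutions and two classes of elements of order 4. -/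
theorem result {G : Type*} [Group G] [Finite G] (S : Sylow 2 G) (hS : Cfsg.IsQuasiDihedral (S : Subgroup G)) (T : Subgroup G) (hT : IsKleinFour T) (hTS : T ≤ S) (Q : Subgroup G) (hQS : Q ≤ S) (eQ : Q ≃* QuaternionGroup 2) (h₁ : (Subgroup.centralizer (T : Set G)).relIndex (Subgroup.normalizer (T : Set G)) = 6) (h₂ : (Q ⊔ Subgroup.centralizer (Q : Set G)).relIndex (Subgroup.normalizer (Q : Set G)) = 2) : (∃ K : Subgroup G, K.Normal ∧ K.index = 2 ∧ (∀ P : Sylow 2 ↥K, ∃ m : ℕ, Nonempty ((P : Subgroup ↥K) ≃* DihedralGroup m)) ∧ (∀ H : Subgroup ↥K, H.index ≠ 2)) ∧ Nat.card {C : ConjClasses G // ∃ t : G, orderOf t = 2 ∧ ConjClasses.mk t = C} = 1 ∧ Nat.card {C : ConjClasses G // ∃ t : G, orderOf t = 4 ∧ ConjClasses.mk t = C} = 2 := by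
  obtain ⟨e, x, y, W⟩ := Cfsg.Agent.TwoFusion36.exists_qdSylow S hS
  obtain ⟨hT', hQ'⟩ := W.transfer T hT hTS Q hQS eQ
  rw [hT'] at h₁
  rw [hQ'] at h₂
  obtain ⟨k, hk⟩ := W.qd.hpow
  have hc := W.quat_eq_two_iff.mp h₂
  refine ⟨?_, W.count_invol_one (W.isConj_of_four6 h₁), W.count_four_two hc⟩
  obtain ⟨K, hK, hKi, hKS⟩ := W.exists_ker_dih hc
  refine ⟨K, hK, hKi, fun P => ⟨4 * e, ?_⟩, W.no_index_two_ker hKS fun H hH =>
    W.dih_le_core h₁ _ (W.core_aux hKi (hKS ▸ inf_le_right) H hH)⟩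
  obtain ⟨f⟩ := Cfsg.Agent.TwoFusion36.sylow_normal_equiv S K P
  obtain ⟨g⟩ := W.qd.dih_equiv
  exact ⟨f.trans ((MulEquiv.subgroupCongr hKS).trans g)⟩

end Cfsg.Agent.S1206
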