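import Cfsg.Statements.S0114
import Cfsg.Agent.Lib.PGroup.MaximalClassTwo
import Cfsg.Agent.Lib.UnitaryOrthogonal.Dihedral

set_option autoImplicit false
open Cfsg

namespace Cfsg.Agent.S0114

/-- The central quotient of a 2-group of maximal class is dihedral. -/
theorem result {X : Type*} [Group X] [Finite X] (n : ℕ) (hn : 3 ≤ n) (hX : Nat.card X = 2 ^ n) (hc : Group.nilpotencyClass X = n - 1) : Nonempty (X ⧸ Subgroup.center X ≃* DihedralGroup (2 ^ (n - 2))) := by
  obtain ⟨c, x, hcord, hCi, hx, hfix, hZ, -⟩ :=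
    Cfsg.Agent.PGroup.structure_of_commutator_index hn hX
      (Cfsg.Agent.PGroup.commutator_index_of_nilpotencyClass hn hX hc)
  set C := Subgroup.zpowers c with hC
  haveI : NeZero (2 ^ (n - 2)) := ⟨(pow_pos two_pos _).ne'⟩
  have hZC : Subgroup.center X ≤ C := hfix.ge.trans inf_le_left
  have hmemZ : ∀ y ∈ C, y * x = x * y → y ∈ Subgroup.center X := fun y hy h =>
    hfix.le ⟨hy, Subgroup.mem_centralizer_singleton_iff.mpr h⟩
  have hsurj := QuotientGroup.mk'_surjective (Subgroup.center X)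
  have hQ : Nat.card (X ⧸ Subgroup.center X) = 2 * 2 ^ (n - 2) := by
    have := (Subgroup.center X).card_eq_card_quotient_mul_card_subgroup
    rw [hX, hZ] at this
    have h2 : 2 ^ n = 2 ^ (n - 2) * 2 * 2 := by rw [← pow_succ, ← pow_succ]; congr 1; omega
    omega
  have hidx : (Subgroup.zpowers (c : X ⧸ Subgroup.center X)).index = 2 := by
    rw [show (c : X ⧸ Subgroup.center X) = QuotientGroup.mk' (Subgroup.center X) c from rfl,
      ← MonoidHom.map_zpowers, Subgroup.index_map_eq _ hsurj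
        (by rw [QuotientGroup.ker_mk']; exact hZC)]
    exact hCi
  have ht : orderOf (c : X ⧸ Subgroup.center X) = 2 ^ (n - 2) := by
    have := (Subgroup.zpowers (c : X ⧸ Subgroup.center X)).card_mul_index
    rw [Nat.card_zpowers, hidx, hQ] at this
    omega
  have hcc : ∀ a ∈ C, ∀ b ∈ C, a * b = b * a := fun a ha b hb =>
    congrArg Subtype.val (mul_comm' (⟨a, ha⟩ : C) ⟨b, hb⟩)
  have hsq : x * x ∈ Subgroup.center X :=
    hmemZ _ (Subgroup.mul_self_mem_of_index_two hCi x) (mul_assoc x x x)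
  haveI : C.Normal := Subgroup.normal_of_index_eq_two hCi
  have hconj : x * c * x⁻¹ ∈ C :=
    Subgroup.Normal.conj_mem inferInstance c (Subgroup.mem_zpowers c) x
  have hw : x * c * x⁻¹ * c ∈ Subgroup.center X := by
    refine hmemZ _ (mul_mem hconj (Subgroup.mem_zpowers c)) ?_
    have h2 : x * x * c = c * (x * x) := (Subgroup.mem_center_iff.mp hsq c).symm
    symm
    calc x * (x * c * x⁻¹ * c) = (x * x * c) * x⁻¹ * c := by group
      _ = (c * (x * c * x⁻¹)) * x := by rw [h2]; group
      _ = _ := by rw [hcc _ (Subgroup.mem_zpowers c) _ hconj]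
  refine Cfsg.Agent.UnitaryOrthogonal.nonempty_mulEquiv_dihedralGroup
    (c : X ⧸ Subgroup.center X) (x : X ⧸ Subgroup.center X) ht
    ((QuotientGroup.eq_one_iff _).mpr hsq) ?_ ?_ hQ
  · have h1 : (x : X ⧸ Subgroup.center X)⁻¹ = (x : X ⧸ Subgroup.center X) :=
      inv_eq_of_mul_eq_one_right ((QuotientGroup.eq_one_iff _).mpr hsq)
    refine eq_inv_of_mul_eq_one_left ?_
    rw [show (x : X ⧸ Subgroup.center X) * c * x * c = x * c * (x : X ⧸ Subgroup.center X)⁻¹ * c by rw [h1]]
    exact (QuotientGroup.eq_one_iff _).mpr hw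
  · intro h
    have hmem : x ∈ (Subgroup.zpowers ((QuotientGroup.mk' (Subgroup.center X)) c)).comap
        (QuotientGroup.mk' (Subgroup.center X)) := h
    rw [← MonoidHom.map_zpowers, Subgroup.comap_map_eq, QuotientGroup.ker_mk',
      sup_eq_left.mpr hZC] at hmem
    exact hx hmem

end Cfsg.Agent.S0114
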