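import Cfsg.Statements.S0307

set_option autoImplicit false
open Cfsg

namespace Cfsg.Agent.S0307

/-- PSL_n(q) is normal in PGL_n(q) with cyclic quotient of order gcd(n, q-1): the image of the natural map PSL_n → PGL_n is the kernel of a surjective homomorphism onto the cyclic group of that order. -/
theorem result {F : Type*} [Field F] [Fintype F] {q : ℕ} (hF : Fintype.card F = q) (n : ℕ) (hn : 1 ≤ n) : ∃ g : Matrix.ProjGenLinGroup (Fin n) F →* Multiplicative (ZMod (Nat.gcd n (q - 1))), Function.Surjective g ∧ g.ker = (Matrix.ProjectiveSpecialLinearGroup.toPGL : Matrix.ProjectiveSpecialLinearGroup (Fin n) F →* Matrix.ProjGenLinGroup (Fin n) F).range := by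
  classical
  subst hF
  let pw : Subgroup Fˣ := (powMonoidHom n).range
  let D : Matrix.GeneralLinearGroup (Fin n) F →* Fˣ ⧸ pw :=
    (QuotientGroup.mk' pw).comp Matrix.GeneralLinearGroup.det
  have hDc : Subgroup.center (Matrix.GeneralLinearGroup (Fin n) F) ≤ D.ker := by
    rw [Matrix.GeneralLinearGroup.center_eq_range_scalar]
    rintro _ ⟨c, rfl⟩
    refine (QuotientGroup.eq_one_iff _).2 ⟨c, Units.ext ?_⟩
    simp [Matrix.det_diagonal]
  have hDs : Function.Surjective D := fun x => by
    obtain ⟨c, rfl⟩ := QuotientGroup.mk_surjective x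
    have hdet : (Matrix.diagonal (Function.update (fun _ : Fin n => (1 : F)) ⟨0, hn⟩ (c : F))).det
        = (c : F) := by
      rw [Matrix.det_diagonal, Finset.prod_update_of_mem (Finset.mem_univ _), Finset.prod_const_one,
        mul_one]
    refine ⟨Matrix.GeneralLinearGroup.mkOfDetNeZero _ (hdet.trans_ne c.ne_zero), ?_⟩
    show QuotientGroup.mk' pw _ = _
    exact congrArg _ (Units.ext hdet)
  have hcard : Nat.card (Fˣ ⧸ pw) = Nat.gcd n (Fintype.card F - 1) := by
    rw [← Subgroup.index_eq_card, IsCyclic.index_powMonoidHom_range, Nat.card_units,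
      Nat.card_eq_fintype_card, Nat.gcd_comm]
  haveI : IsCyclic (Fˣ ⧸ pw) := isCyclic_of_surjective _ (QuotientGroup.mk'_surjective pw)
  let e : Fˣ ⧸ pw ≃* Multiplicative (ZMod (Nat.gcd n (Fintype.card F - 1))) :=
    hcard ▸ (zmodCyclicMulEquiv (inferInstance : IsCyclic (Fˣ ⧸ pw))).symm
  let g : Matrix.ProjGenLinGroup (Fin n) F →* Fˣ ⧸ pw := QuotientGroup.lift _ D hDc
  refine ⟨e.toMonoidHom.comp g, e.surjective.comp fun x => ?_, le_antisymm ?_ ?_⟩
  · obtain ⟨A, hA⟩ := hDs x
    exact ⟨Matrix.ProjGenLinGroup.mk A, hA⟩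
  · intro x hx
    induction x using Matrix.ProjGenLinGroup.induction_on with | mk A =>
    have hx' : D A = 1 := e.injective ((show e (D A) = 1 from hx).trans (map_one e).symm)
    obtain ⟨c, hc⟩ := (QuotientGroup.eq_one_iff _).1 hx'
    have hd : (((A * Matrix.GeneralLinearGroup.scalar (Fin n) c⁻¹ :
        Matrix.GeneralLinearGroup (Fin n) F) : Matrix (Fin n) (Fin n) F)).det = 1 := by
      have h1 : (A : Matrix (Fin n) (Fin n) F).det = (c : F) ^ n := by
        have := congrArg Units.val hc
        simpa using this.symm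
      simp [Matrix.det_mul, Matrix.det_diagonal, h1, ← mul_pow]
    let S : Matrix.SpecialLinearGroup (Fin n) F := ⟨_, hd⟩
    refine ⟨QuotientGroup.mk S, ?_⟩
    show Matrix.ProjGenLinGroup.mk (Matrix.SpecialLinearGroup.toGL S) = _
    rw [Matrix.ProjGenLinGroup.mk_eq_mk_iff]
    refine ⟨c, ?_⟩
    calc _ = A * Matrix.GeneralLinearGroup.scalar (Fin n) c⁻¹ *
          Matrix.GeneralLinearGroup.scalar (Fin n) c := by
            congr 1
            exact Units.ext rfl
      _ = A := by rw [mul_assoc, ← map_mul, inv_mul_cancel, map_one, mul_one]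
  · rintro _ ⟨x, rfl⟩
    induction x using QuotientGroup.induction_on with | H S =>
    have : D (Matrix.SpecialLinearGroup.toGL S) = 1 := by
      show QuotientGroup.mk' pw _ = 1
      rw [show Matrix.GeneralLinearGroup.det (Matrix.SpecialLinearGroup.toGL S) = 1 from
        Units.ext S.2, map_one]
    show e (D (Matrix.SpecialLinearGroup.toGL S)) = 1
    rw [this, map_one]

end Cfsg.Agent.S0307
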