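import Cfsg.Statements.S5136
import Cfsg.Agent.Fusion91.Basic
-- import your own Cfsg.Agent.* helpers here

set_option autoImplicit false
open Cfsg

namespace Cfsg.Agent.S5136

/-- Let F₁ and F₂ be fusion systems over finite p-groups S₁ and S₂ (inside ambient groups Ω₁ and Ω₂). Then their direct product exists: there is a fusion system over S₁ × S₂ inside Ω₁ × Ω₂ whose maps with source P ≤ S₁ × S₂ are exactly the restrictions to P of the homomorphisms (x₁, x₂) ↦ (φ₁ x₁, φ₂ x₂) with φ₁ a map of F₁ on the first projection of P and φ₂ a map of F₂ on the second projection. -/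
theorem result {Ω₁ Ω₂ : Type*} [Group Ω₁] [Group Ω₂] {S₁ : Subgroup Ω₁} {S₂ : Subgroup Ω₂} [Finite S₁] [Finite S₂] (p : ℕ) [Fact p.Prime] (h₁ : IsPGroup p S₁) (h₂ : IsPGroup p S₂) (F₁ : Cfsg.FusionSystem S₁) (F₂ : Cfsg.FusionSystem S₂) : ∃ E : Cfsg.FusionSystem (S₁.prod S₂), Cfsg.FusionSystem.IsProductSystem F₁ F₂ E := by
  let C : (P : Subgroup (Ω₁ × Ω₂)) → (P →* Ω₁ × Ω₂) → Prop := fun P φ =>
    P ≤ S₁.prod S₂ ∧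
      ∃ φ₁ ∈ F₁.Hom (P.map (MonoidHom.fst Ω₁ Ω₂)), ∃ φ₂ ∈ F₂.Hom (P.map (MonoidHom.snd Ω₁ Ω₂)),
        ∀ (x : P) (h₁ : (x : Ω₁ × Ω₂).1 ∈ P.map (MonoidHom.fst Ω₁ Ω₂))
          (h₂ : (x : Ω₁ × Ω₂).2 ∈ P.map (MonoidHom.snd Ω₁ Ω₂)),
          φ x = (φ₁ ⟨(x : Ω₁ × Ω₂).1, h₁⟩, φ₂ ⟨(x : Ω₁ × Ω₂).2, h₂⟩)
  have m₁ : ∀ {P : Subgroup (Ω₁ × Ω₂)} (x : P), (x : Ω₁ × Ω₂).1 ∈ P.map (MonoidHom.fst Ω₁ Ω₂) :=
    fun x => ⟨_, x.2, rfl⟩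
  have m₂ : ∀ {P : Subgroup (Ω₁ × Ω₂)} (x : P), (x : Ω₁ × Ω₂).2 ∈ P.map (MonoidHom.snd Ω₁ Ω₂) :=
    fun x => ⟨_, x.2, rfl⟩
  refine ⟨{ Hom := fun P => {φ | C P φ}, le_of_mem := ?_, injective_of_mem := ?_, conj_mem := ?_,
            comp_mem := ?_, inv_mem := ?_ }, fun P φ => Iff.rfl⟩
  · rintro P φ ⟨hP, φ₁, h₁', φ₂, h₂', he⟩
    refine ⟨hP, fun x => ?_⟩
    rw [he x (m₁ x) (m₂ x)]
    exact ⟨Fusion91.val_mem F₁ h₁' _, Fusion91.val_mem F₂ h₂' _⟩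
  · rintro P φ ⟨hP, φ₁, h₁', φ₂, h₂', he⟩ x y hxy
    rw [he x (m₁ x) (m₂ x), he y (m₁ y) (m₂ y), Prod.ext_iff] at hxy
    have a := congrArg Subtype.val (F₁.injective_of_mem h₁' hxy.1)
    have b := congrArg Subtype.val (F₂.injective_of_mem h₂' hxy.2)
    exact Subtype.ext (Prod.ext a b)
  · intro P g hP hg
    have l₁ : P.map (MonoidHom.fst Ω₁ Ω₂) ≤ S₁ := by
      rintro _ ⟨x, hx, rfl⟩; exact (hP hx).1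
    have l₂ : P.map (MonoidHom.snd Ω₁ Ω₂) ≤ S₂ := by
      rintro _ ⟨x, hx, rfl⟩; exact (hP hx).2
    exact ⟨hP, _, F₁.conj_mem l₁ hg.1, _, F₂.conj_mem l₂ hg.2, fun x _ _ => rfl⟩
  · rintro P Q φ ψ ⟨hP, φ₁, h₁', φ₂, h₂', he⟩ ⟨hQ, ψ₁, k₁, ψ₂, k₂, hf⟩ h
    have i₁ : ∀ y, φ₁ y ∈ Q.map (MonoidHom.fst Ω₁ Ω₂) := by
      rintro ⟨_, x, hx, rfl⟩
      have := m₁ (⟨φ ⟨x, hx⟩, h _⟩ : Q)
      simp only [he ⟨x, hx⟩ (m₁ ⟨x, hx⟩) (m₂ ⟨x, hx⟩)] at this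
      exact this
    have i₂ : ∀ y, φ₂ y ∈ Q.map (MonoidHom.snd Ω₁ Ω₂) := by
      rintro ⟨_, x, hx, rfl⟩
      have := m₂ (⟨φ ⟨x, hx⟩, h _⟩ : Q)
      simp only [he ⟨x, hx⟩ (m₁ ⟨x, hx⟩) (m₂ ⟨x, hx⟩)] at this
      exact this
    refine ⟨hP, _, F₁.comp_mem h₁' k₁ i₁, _, F₂.comp_mem h₂' k₂ i₂, fun x a b => ?_⟩
    show ψ ⟨φ x, h x⟩ = _
    rw [hf ⟨φ x, h x⟩ (m₁ _) (m₂ _)]
    simp only [he x a b]
    rfl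
  · rintro P φ ⟨hP, φ₁, h₁', φ₂, h₂', he⟩
    have r₁ : φ.range.map (MonoidHom.fst Ω₁ Ω₂) = φ₁.range := by
      ext y; constructor
      · rintro ⟨_, ⟨x, rfl⟩, rfl⟩
        exact ⟨⟨_, m₁ x⟩, by rw [he x (m₁ x) (m₂ x)]; rfl⟩
      · rintro ⟨⟨_, x, hx, rfl⟩, rfl⟩
        exact ⟨_, ⟨⟨x, hx⟩, rfl⟩, by rw [he ⟨x, hx⟩ (m₁ ⟨x, hx⟩) (m₂ ⟨x, hx⟩)]; rfl⟩
    have r₂ : φ.range.map (MonoidHom.snd Ω₁ Ω₂) = φ₂.range := by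
      ext y; constructor
      · rintro ⟨_, ⟨x, rfl⟩, rfl⟩
        exact ⟨⟨_, m₂ x⟩, by rw [he x (m₁ x) (m₂ x)]; rfl⟩
      · rintro ⟨⟨_, x, hx, rfl⟩, rfl⟩
        exact ⟨_, ⟨⟨x, hx⟩, rfl⟩, by rw [he ⟨x, hx⟩ (m₁ ⟨x, hx⟩) (m₂ ⟨x, hx⟩)]; rfl⟩
    obtain ⟨ψ₁, k₁, e₁⟩ := F₁.inv_mem h₁'
    obtain ⟨ψ₂, k₂, e₂⟩ := F₂.inv_mem h₂'
    have hinj : Function.Injective φ := by
      intro x y hxy
      rw [he x (m₁ x) (m₂ x), he y (m₁ y) (m₂ y), Prod.ext_iff] at hxy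
      exact Subtype.ext (Prod.ext (congrArg Subtype.val (F₁.injective_of_mem h₁' hxy.1))
        (congrArg Subtype.val (F₂.injective_of_mem h₂' hxy.2)))
    let e := MonoidHom.ofInjective hinj
    refine ⟨P.subtype.comp e.symm.toMonoidHom, ⟨?_, ψ₁.comp (Subgroup.inclusion r₁.le),
      Fusion91.restrict_mem F₁ k₁ r₁.le, ψ₂.comp (Subgroup.inclusion r₂.le),
      Fusion91.restrict_mem F₂ k₂ r₂.le, ?_⟩, fun x => congrArg Subtype.val (e.symm_apply_apply x)⟩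
    · rintro _ ⟨x, rfl⟩
      rw [he x (m₁ x) (m₂ x)]
      exact ⟨Fusion91.val_mem F₁ h₁' _, Fusion91.val_mem F₂ h₂' _⟩
    · intro y a b
      obtain ⟨x, rfl⟩ := e.surjective y
      show ((e.symm (e x) : P) : Ω₁ × Ω₂) = _
      rw [e.symm_apply_apply]
      have hy := he x (m₁ x) (m₂ x)
      refine Prod.ext ?_ ?_
      · refine (e₁ ⟨_, m₁ x⟩).symm.trans (congrArg ψ₁ (Subtype.ext ?_))
        exact (congrArg Prod.fst hy).symm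
      · refine (e₂ ⟨_, m₂ x⟩).symm.trans (congrArg ψ₂ (Subtype.ext ?_))
        exact (congrArg Prod.snd hy).symm

end Cfsg.Agent.S5136
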