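import Cfsg.Statements.S5126
import Cfsg.Agent.Lib.Fusion.Normal
import Cfsg.Agent.Lib.Fusion.SubSat
import Cfsg.Agent.Fusion92.LocalModel

set_option autoImplicit false
open Cfsg

namespace Cfsg.Agent.S5126

open Cfsg.Agent.Fusion in
theorem normal_in_normalizer {Ω : Type*} [Group Ω] {S : Subgroup Ω} {F : Cfsg.FusionSystem S}
    {R : Subgroup Ω} (hR : R ≤ S) {E : Cfsg.FusionSystem (Cfsg.FusionSystem.normalizerIn S R)}
    (hE : F.IsNormalizerSystem R E) : E.IsNormal R := by
  refine isNormal_iff.mpr ⟨le_normalizerIn hR, fun P f hf => ?_⟩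
  obtain ⟨-, hPN, -, f', hf', he, hR'⟩ := (IsNormalizerSystem.isMap_iff hE).mp hf
  refine ⟨f', (IsNormalizerSystem.isMap_iff hE).mpr ⟨hf', sup_le hPN (le_normalizerIn hR), fun x hx =>
    map_mem_normalizer hf' le_sup_right hR' hx (sup_le hPN (le_normalizerIn hR) hx).2, f',
    hf'.mono (sup_le le_rfl le_sup_right), fun _ _ => rfl, hR'⟩, he, hR'⟩

/-- In a saturated fusion system over a finite p-group S, the normalizer system of a fully normalized, centric, radical subgroup R is constrained, and in every model of that normalizer system the largest normal p-subgroup is the image of R. -/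
theorem result {Ω : Type*} [Group Ω] {S : Subgroup Ω} [Finite S] (p : ℕ) [Fact p.Prime] (hS : IsPGroup p S) (F : Cfsg.FusionSystem S) (hF : F.IsSaturated p) (R : Subgroup Ω) (hRn : F.IsFullyNormalized R) (hRc : F.IsCentric R) (hRr : F.IsRadical p R) (E : Cfsg.FusionSystem (Cfsg.FusionSystem.normalizerIn S R)) (hE : F.IsNormalizerSystem R E) {G : Type*} [Group G] (ι : ↥(Cfsg.FusionSystem.normalizerIn S R) →* G) : E.IsConstrained p ∧ (E.IsModel p G ι → (Cfsg.pCore p G : Subgroup G) = (R.subgroupOf (Cfsg.FusionSystem.normalizerIn S R)).map ι) := by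
  have hRS := hRc.1
  have hnorm := normal_in_normalizer hRS hE
  refine ⟨⟨Fusion.isNormalizerSystem_isSaturated hS hF hRn E hE, R, hnorm, hnorm.1, fun Q hQ => ?_⟩, ?_⟩
  · obtain ⟨f, hf⟩ := Fusion.isConj_iff.mp hQ
    obtain ⟨f', hf', he, hR'⟩ := Fusion.normal_extendsStab hnorm hf.1
    have hQR : Q = R := SetLike.coe_injective (by rw [← hf.2, ← Set.image_congr he, hR'])
    subst hQR
    exact fun x hx => hRc.2 Q (Fusion.isConj_refl hRS) ⟨hx.1.1, hx.2⟩
  · intro hM
    have hL := Fusion92.IsLocal.of_isModel hS hF hRc hE hM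
    haveI := hL.fin
    refine le_antisymm ?_ (hL.map_le_pCore hS)
    obtain ⟨T, hT⟩ := hL.sylow
    have hOr : Cfsg.pCore p G ≤ ι.range := hT ▸ Thompson.pCore_le_sylow T
    intro y hy
    obtain ⟨o, rfl⟩ := hOr hy
    let O : Subgroup Ω := ((Cfsg.pCore p G).comap ι).map
      (Cfsg.FusionSystem.normalizerIn S R).subtype
    have hON : O ≤ Cfsg.FusionSystem.normalizerIn S R := Subgroup.map_subtype_le _
    let N : Subgroup ↥(F.autGroup R) := (Cfsg.autInducedBy O R).subgroupOf (F.autGroup R)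
    have hN : N.Normal := by
      refine ⟨fun β hβ α => ?_⟩
      rw [Subgroup.mem_subgroupOf, Fusion.mem_autInducedBy] at hβ ⊢
      obtain ⟨q, ⟨q', hq', rfl⟩, hqβ⟩ := hβ
      have hα := (Fusion.mem_autGroup hRS).mp α.2
      obtain ⟨l, hl⟩ := hL.exists_conj le_rfl (Fusion.le_normalizerIn hRS) hα.1 hα.2
      obtain ⟨q'', hq''⟩ := hOr (Thompson.instPCoreNormal.conj_mem _ hq' l)
      refine ⟨q'', ⟨q'', by rw [SetLike.mem_coe, Subgroup.mem_comap, hq'']; exact Thompson.instPCoreNormal.conj_mem _ hq' l, rfl⟩, fun x => ?_⟩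
      obtain ⟨y, rfl⟩ := (α : MulAut R).surjective x
      simp only [Subgroup.coe_mul, Subgroup.coe_inv, MulAut.mul_apply]
      rw [show ((α : MulAut R)⁻¹) ((α : MulAut R) y) = y from (α : MulAut R).symm_apply_apply y]
      have hyN := Fusion.le_normalizerIn hRS y.2
      have hβy := Fusion.le_normalizerIn hRS ((β : MulAut R) y).2
      have hαy : Fusion.autFun (α : MulAut R) y ∈ Cfsg.FusionSystem.normalizerIn S R :=
        Fusion.le_normalizerIn hRS (hα.mem y.2)
      have hαby : Fusion.autFun (α : MulAut R) (((β : MulAut R) y : R) : Ω) ∈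
          Cfsg.FusionSystem.normalizerIn S R :=
        Fusion.le_normalizerIn hRS (hα.mem (Subtype.mem _))
      have h1 := hl y y.2 hαy
      have h2 := hl _ (((β : MulAut R) y).2) hαby
      rw [← Fusion.autFun_coe, ← Fusion.autFun_coe (α : MulAut R) y]
      refine congrArg Subtype.val (a₁ := (⟨_, hαby⟩ : ↥(Cfsg.FusionSystem.normalizerIn S R)))
        (a₂ := q'' * ⟨_, hαy⟩ * q''⁻¹) (hL.shape.inj ?_)
      have h3 : (⟨_, hβy⟩ : ↥(Cfsg.FusionSystem.normalizerIn S R)) = q' * ⟨y, hyN⟩ * q'⁻¹ :=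
        Subtype.ext (hqβ y)
      rw [h2, map_mul, map_mul, map_inv, hq'', h1, h3, map_mul, map_mul, map_inv]
      group
    have hNp : IsPGroup p N := by
      have h1 : IsPGroup p ↥(Cfsg.autInducedBy O R) :=
        Fusion.range_conjAutHom O R ▸ (hS.to_le ((Fusion.normalizerIn_le O R).trans
          (hON.trans (Fusion.normalizerIn_le S R)))).of_surjective _
          (Fusion.conjAutHom O R).rangeRestrict_surjective
      exact h1.comap_of_injective _ (Subgroup.subtype_injective _)
    have hm : Fusion.conjAutHom S R o ∈ Cfsg.autInducedBy S R := by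
      rw [← Fusion.range_conjAutHom]; exact ⟨_, rfl⟩
    have hoR := Fusion.mem_of_normal_pSubgroup hRc hRr N hN hNp o.2
      ⟨_, Fusion.autInducedBy_le_autGroup hRS hm⟩
      (Subgroup.mem_subgroupOf.mpr (Fusion.mem_autInducedBy.mpr ⟨o, ⟨o, hy, rfl⟩, fun x => rfl⟩))
      fun x => rfl
    exact ⟨o, hoR, rfl⟩

end Cfsg.Agent.S5126
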