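import Cfsg.Statements.S5155
import Cfsg.Agent.Fusion92.CentE.Normal

set_option autoImplicit false
open Cfsg

namespace Cfsg.Agent.S5155

/-- Let F be a saturated fusion system over a finite p-group S, E a normal subsystem over T, and Y the largest subgroup of C_S(T) such that E is a subsystem of the centralizer system of Y (every map of E extends to a map of F fixing Y elementwise). Then there is a normal subsystem of F over Y that is a subsystem of the centralizer system of T. -/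
theorem result {Ω : Type*} [Group Ω] {S : Subgroup Ω} [Finite S] (p : ℕ) [Fact p.Prime] (hS : IsPGroup p S) (F : Cfsg.FusionSystem S) (hF : F.IsSaturated p) {T : Subgroup Ω} (E : Cfsg.FusionSystem T) (hE : E.IsNormalIn F p) (Y : Subgroup Ω) (hY : Y ≤ Cfsg.FusionSystem.centralizerIn S T) (hEY : ∀ P : Subgroup Ω, E.Hom P ⊆ F.centralizerHom Y P) (hmax : ∀ Y' : Subgroup Ω, Y' ≤ Cfsg.FusionSystem.centralizerIn S T → (∀ P : Subgroup Ω, E.Hom P ⊆ F.centralizerHom Y' P) → Y' ≤ Y) : ∃ D : Cfsg.FusionSystem Y, D.IsNormalIn F p ∧ ∀ P : Subgroup Ω, D.Hom P ⊆ F.centralizerHom T P := by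
  have h0 : Cfsg.Agent.Fusion.NormalLift.NData F E p := ⟨hS, hF, hE⟩
  have hTS := h0.tS
  set C := Cfsg.Agent.Fusion.centralizerSystem F T hTS with hCdef
  have hTn := h0.centralized h0.t_fullyNormalized
  have hCX : ∀ {Z : Subgroup Ω} {Q : Subgroup Ω}, Z ≤ Cfsg.FusionSystem.centralizerIn S T → Q ≤ T →
      Q ≤ Cfsg.FusionSystem.centralizerIn S Z :=
    fun hZ hQ => hQ.trans (Fusion92.CentE.le_cent hTS hZ)
  -- `Y` is the subgroup of all elements centralized by `E`
  have hYeq : Y = Cfsg.Agent.Fusion.NormalLift.cE F E := by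
    refine le_antisymm ?_ (hmax _ Cfsg.Agent.Fusion.NormalLift.cE_le fun P φ hφ => ?_)
    · intro y hy
      refine Subgroup.subset_closure (k := {y | Cfsg.Agent.Fusion.NormalLift.Good F E y}) ⟨hY hy, fun P f hf => ?_⟩
      obtain ⟨φ, hφ, hφf⟩ := id hf
      exact Cfsg.Agent.Fusion.NormalLift.extendsFix_mono
        ((Cfsg.Agent.Fusion.mem_centralizerHom hφf).mp (hEY P hφ)).2.2.2 le_rfl
        ((Subgroup.zpowers_le).mpr hy)
    · have hf := Cfsg.Agent.Fusion.isMap_extFun hφ
      refine (Cfsg.Agent.Fusion.mem_centralizerHom fun x => (Cfsg.Agent.Fusion.extFun_coe φ x).symm).mpr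
        ⟨hf.of_isSubsystemOf h0.sub, hCX Cfsg.Agent.Fusion.NormalLift.cE_le hf.dom_le,
          fun x hx => hCX Cfsg.Agent.Fusion.NormalLift.cE_le le_rfl (hf.apply_mem hx),
          h0.extends_all P _ hf⟩
  subst hYeq
  haveI := Cfsg.Agent.Fusion.finite_of_le (Cfsg.Agent.Fusion.centralizerIn_le S T)
  obtain ⟨D, hD, hDi⟩ := Cfsg.Agent.Fusion.PPow.exists_pPowerIndex _ _ C inferInstance rfl
    (hS.to_le (Cfsg.Agent.Fusion.centralizerIn_le S T))
    (Cfsg.Agent.Fusion.centralizerSystem_isSaturated hS hF hTn) _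
    Cfsg.Agent.Fusion.NormalLift.cE_le (Fusion92.CentE.hyperfocal_le_cE h0)
  refine ⟨D, Fusion92.CentE.isNormalIn (hTS := hTS) ⟨h0, Cfsg.Agent.Fusion.NormalLift.cE_le,
    h0.cE_closed, hD, hDi⟩, fun P φ hφ => ?_⟩
  have h1 := hDi.1 P hφ
  rwa [Cfsg.Agent.Fusion.isCentralizerSystem_centralizerSystem T hTS P] at h1

end Cfsg.Agent.S5155
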