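import Cfsg.Statements.S5311
import Cfsg.Agent.Fus19.Quasi

set_option autoImplicit false
open Cfsg

namespace Cfsg.Agent.S5311

theorem push_aut {Ω : Type*} [Group Ω] {S : Subgroup Ω} (α : ↥S ≃* ↥S) {x : Ω} (hx : x ∈ S) :
    Fusion91.push (S.subtype.comp α.toMonoidHom) x = (α ⟨x, hx⟩ : Ω) :=
  Fusion91.push_of_mem hx

open Cfsg.Agent.Fusion Cfsg.Agent.Fus93 in
theorem push_of_morphism {Ω : Type*} [Group Ω] {S : Subgroup Ω} {F : Cfsg.FusionSystem S} (α : ↥S ≃* ↥S)
    (hα : F.IsMorphism F (S.subtype.comp α.toMonoidHom)) {P : Subgroup Ω} {f : Ω → Ω} (hf : IsMap F P f)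
    {P' : Subgroup Ω} (hP' : (P' : Set Ω) = Fusion91.push (S.subtype.comp α.toMonoidHom) '' P) :
    IsMap F P' (Fusion91.push (S.subtype.comp α.toMonoidHom) ∘ f ∘
      Fusion91.push (S.subtype.comp α.symm.toMonoidHom)) := by
  obtain ⟨φ, hφ, hφf⟩ := hf
  obtain ⟨φ', hφ', hP, hv, hi, he⟩ := hα.2 P φ hφ
  obtain rfl : P' = Cfsg.FusionSystem.imageAlong (S.subtype.comp α.toMonoidHom) P :=
    SetLike.coe_injective (hP'.trans (by
      ext y
      rw [SetLike.mem_coe, Fusion91.mem_imageAlong_push hP]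
      rfl))
  refine (isMap_extFun hφ').congr fun y hy => ?_
  obtain ⟨x, hx, rfl⟩ := (Fusion91.mem_imageAlong_push hP).mp hy
  have h1 := he ⟨x, hx⟩
  have hb : Fusion91.push (S.subtype.comp α.symm.toMonoidHom)
      (Fusion91.push (S.subtype.comp α.toMonoidHom) x) = x := by
    rw [push_aut α (hP hx), push_aut α.symm (α ⟨x, hP hx⟩).2]
    exact congrArg Subtype.val (α.symm_apply_apply ⟨x, hP hx⟩)
  simp only [Function.comp_apply, hb, ← hφf ⟨x, hx⟩, Fusion91.push_of_mem (hv ⟨x, hx⟩)]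
  rw [← h1, ← extFun_coe φ' ⟨_, hi ⟨x, hx⟩⟩, Fusion91.push_of_mem (hP hx)]

open Cfsg.Agent.Fusion Cfsg.Agent.Fus93 in
theorem fiso_of_aut {Ω : Type*} [Group Ω] {S : Subgroup Ω} {F : Cfsg.FusionSystem S} (α : ↥S ≃* ↥S)
    (hα : F.IsMorphism F (S.subtype.comp α.toMonoidHom))
    (hα' : F.IsMorphism F (S.subtype.comp α.symm.toMonoidHom)) :
    FIso F F (Fusion91.push (S.subtype.comp α.toMonoidHom))
      (Fusion91.push (S.subtype.comp α.symm.toMonoidHom)) where
  map_mul x hx y hy := Fusion91.push_mul hx hy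
  mem x hx := by rw [Fusion91.push_of_mem hx]; exact (α _).2
  mem' x hx := by rw [Fusion91.push_of_mem hx]; exact (α.symm _).2
  left x hx := by
    rw [push_aut α hx, push_aut α.symm (α ⟨x, hx⟩).2]
    exact congrArg Subtype.val (α.symm_apply_apply ⟨x, hx⟩)
  right x hx := by
    rw [push_aut α.symm hx, push_aut α (α.symm ⟨x, hx⟩).2]
    exact congrArg Subtype.val (α.apply_symm_apply ⟨x, hx⟩)
  push _ _ hf _ hP := push_of_morphism α hα hf hP
  pull _ _ hf _ hP := by
    have := push_of_morphism α.symm hα' hf hP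
    rwa [MulEquiv.symm_symm] at this

open Cfsg.Agent.Fusion Cfsg.Agent.Fus93 in
theorem layer_le {Ω : Type*} [Group Ω] {S : Subgroup Ω} [Finite S] {p : ℕ} [Fact p.Prime]
    (hS : IsPGroup p S) {F : Cfsg.FusionSystem S} {a b : Ω → Ω} (h : FIso F F a b) {T : Subgroup Ω}
    {E : Cfsg.FusionSystem T} (hE : E.IsLayerOf F p) :
    E.IsSubsystemOf (h.pushSys E hE.1.1.2.2.2.1.1 hE.1.1.2.2.1) := by
  obtain ⟨hn, hc, hmin⟩ := id hE
  refine hmin _ _ (h.pushSys_isNormalIn hn) fun U C hC => ?_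
  have hsub := Fus19.subnormal_sub hC.1
  have hUS := Fus19.sys_le hsub
  have hC' := Fus19.component_transport hS hS h.symm hC (h.symm.restrictIso C hUS hsub)
  have hle := hc _ _ hC'
  refine fun P => hom_subset_of_isMap fun f hf => ?_
  have h1 := (h.restrictIso E hn.1.2.2.2.1.1 hn.1.2.2.1).map
    (((h.symm.restrictIso C hUS hsub).map hf).of_isSubsystemOf hle)
  rw [h.symm.img_img (hf.dom_le.trans hUS)] at h1
  refine h1.congr fun x hx => ?_
  simp only [Function.comp_apply, h.right x (hUS (hf.dom_le hx)), h.right _ (hUS (hf.apply_mem hx))]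


/-- The layer of a saturated fusion system F over a finite p-group S is characteristic in F: for every automorphism α of S that is an automorphism of F (α and its inverse are morphisms from F to F) and every layer E of F over T, α carries T onto T and, for every map φ of E with source P, the map induced by α on α(P) (that is, α ∘ φ ∘ α⁻¹) is a map of E. -/
theorem result {Ω : Type*} [Group Ω] {S : Subgroup Ω} [Finite S] (p : ℕ) [Fact p.Prime] (hS : IsPGroup p S) (F : Cfsg.FusionSystem S) (hF : F.IsSaturated p)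
    (α : ↥S ≃* ↥S) (hα : F.IsMorphism F (S.subtype.comp α.toMonoidHom))
    (hα' : F.IsMorphism F (S.subtype.comp α.symm.toMonoidHom))
    {T : Subgroup Ω} (E : Cfsg.FusionSystem T) (hE : E.IsLayerOf F p) :
    Cfsg.FusionSystem.imageAlong (S.subtype.comp α.toMonoidHom) T = T ∧
      ∀ (P : Subgroup Ω) (φ : ↥P →* Ω), φ ∈ E.Hom P →
        ∀ φ' : ↥(Cfsg.FusionSystem.imageAlong (S.subtype.comp α.toMonoidHom) P) →* Ω,
          Cfsg.FusionSystem.InducedAlong (S.subtype.comp α.toMonoidHom) φ φ' →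
            φ' ∈ E.Hom (Cfsg.FusionSystem.imageAlong (S.subtype.comp α.toMonoidHom) P) := by
  have h := fiso_of_aut α hα hα'
  have hn := hE.1
  have hTS : T ≤ S := hn.1.2.2.2.1.1
  have himg : ∀ P : Subgroup Ω, P ≤ S → Fus93.img (Fusion91.push (S.subtype.comp α.toMonoidHom)) P =
      Cfsg.FusionSystem.imageAlong (S.subtype.comp α.toMonoidHom) P := by
    intro P hP
    ext y
    rw [h.mem_img hP, Fusion91.mem_imageAlong_push hP]
  have h1 := Fus19.sys_le (layer_le hS h hE)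
  haveI : Finite (Fus93.img (Fusion91.push (S.subtype.comp α.toMonoidHom)) T) :=
    Fusion.finite_of_le (h.img_le hTS)
  have hT : T = Fus93.img (Fusion91.push (S.subtype.comp α.toMonoidHom)) T :=
    Subgroup.eq_of_le_of_card_ge h1 (h.card_img hTS).le
  refine ⟨(himg T hTS).symm.trans hT.symm, fun P φ hφ φ' hind => ?_⟩
  have hPS : P ≤ S := (E.le_of_mem hφ).1.trans hTS
  have hf := ((Fusion.isMap_extFun hφ).of_isSubsystemOf (layer_le hS h.symm hE))
  obtain ⟨-, -, h3⟩ := h.symm.isMap_pushSys.mp hf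
  rw [himg P hPS] at h3
  refine h3.mem_hom fun y => ?_
  obtain ⟨hP, hv, hi, he⟩ := hind
  obtain ⟨x, hx, hxy⟩ := (Fusion91.mem_imageAlong_push hPS).mp y.2
  have hy : y = ⟨_, hi ⟨x, hx⟩⟩ := Subtype.ext (hxy.symm.trans (Fusion91.push_of_mem (hP hx)))
  rw [hy, he ⟨x, hx⟩]
  show _ = Fusion91.push _ (Fusion.extFun φ (Fusion91.push _ ((S.subtype.comp α.toMonoidHom) ⟨x, hP hx⟩)))
  rw [← Fusion91.push_of_mem (hP hx), h.left x (hP hx), Fusion.extFun_of_mem φ hx,
    Fusion91.push_of_mem (hv ⟨x, hx⟩)]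

end Cfsg.Agent.S5311
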