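import Cfsg.Statements.S5127
import Cfsg.Agent.Lib.Fusion.NormalCentralizerMain

set_option autoImplicit false
open Cfsg

namespace Cfsg.Agent.S5127

/-- Let F be a saturated fusion system over a finite p-group S and E a normal subsystem of F over T. Among the subgroups Y of C_S(T) whose centralizer system C_F(Y) contains E there is a largest one, C_S(E), and it is strongly closed in F. -/
theorem result {Ω : Type*} [Group Ω] {S : Subgroup Ω} [Finite S] (p : ℕ) [Fact p.Prime] (hS : IsPGroup p S) (F : Cfsg.FusionSystem S) (hF : F.IsSaturated p) {T : Subgroup Ω} (E : Cfsg.FusionSystem T) (hE : E.IsNormalIn F p) : ∃ C : Subgroup Ω, C ≤ Cfsg.FusionSystem.centralizerIn S T ∧ (∀ P : Subgroup Ω, E.Hom P ⊆ F.centralizerHom C P) ∧ (∀ Y : Subgroup Ω, Y ≤ Cfsg.FusionSystem.centralizerIn S T → (∀ P : Subgroup Ω, E.Hom P ⊆ F.centralizerHom Y P) → Y ≤ C) ∧ F.StronglyClosed C := by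
  have h : Fusion.NormalLift.NData F E p := ⟨hS, hF, hE⟩
  set C := Fusion.NormalLift.cE F E with hC
  have hCT : C ≤ Cfsg.FusionSystem.centralizerIn S T := Fusion.NormalLift.cE_le
  refine ⟨C, hCT, fun P φ hφ => ?_, fun Y hY hEY y hy => ?_, h.cE_closed⟩
  · have hm := Fusion.isMap_extFun hφ
    refine (Fusion.mem_centralizerHom fun x => (Fusion.extFun_coe φ x).symm).mpr
      ⟨hm.of_isSubsystemOf h.sub, fun x hx => ⟨h.tS (hm.dom_le hx), ?_⟩,
        fun x hx => ⟨h.tS (hm.apply_mem hx), ?_⟩, h.extends_all P _ hm⟩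
    · exact Subgroup.mem_centralizer_iff.mpr fun c hc =>
        (Subgroup.mem_centralizer_iff.mp (hCT hc).2 x (hm.dom_le hx)).symm
    · exact Subgroup.mem_centralizer_iff.mpr fun c hc =>
        (Subgroup.mem_centralizer_iff.mp (hCT hc).2 _ (hm.apply_mem hx)).symm
  · refine Subgroup.subset_closure ⟨hY hy, fun P f hf => ?_⟩
    obtain ⟨φ, hφ, hφf⟩ := id hf
    exact Fusion.NormalLift.extendsFix_mono ((Fusion.mem_centralizerHom hφf).mp (hEY P hφ)).2.2.2 le_rfl
      ((Subgroup.zpowers_le).mpr hy)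

end Cfsg.Agent.S5127
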