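import Cfsg.Statements.S5337
import Cfsg.Agent.Fus93.Abelian

set_option autoImplicit false
open Cfsg

namespace Cfsg.Agent.S5337

theorem inner_isNormalIn {Ω : Type*} [Group Ω] {S : Subgroup Ω} [Finite S] {p : ℕ} [Fact p.Prime]
    (hS : IsPGroup p S) {F : Cfsg.FusionSystem S} (hF : F.IsSaturated p)
    (hab : ∀ x ∈ S, ∀ y ∈ S, x * y = y * x) {T : Subgroup Ω} (hT : T ≤ S)
    (hsc : ∀ P f, Fusion.IsMap F P f → ∀ x ∈ P, x ∈ T → f x ∈ T) :
    (Cfsg.innerFusionSystem T).IsNormalIn F p := by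
  have hinner : ∀ (P : Subgroup Ω) (φ : P →* Ω), φ ∈ (Cfsg.innerFusionSystem T).Hom P →
      ∀ x : P, φ x = (x : Ω) := fun P φ ⟨hP, g, hg, he⟩ x => by
    rw [he x, hab g (hT hg) x (hT (hP x.2)), mul_inv_cancel_right]
  haveI : Finite T := Fusion.finite_of_le hT
  refine ⟨⟨Fus93.inner_isSaturated (hS.of_injective _ (Subgroup.inclusion_injective hT)), hF,
    fun P φ hφ => ?_, Fusion.stronglyClosed_iff.mpr ⟨hT, hsc⟩, fun P hPT φ hφ α hα => ?_,
    fun P hPT φ hφ => ?_⟩, fun α hα => ?_⟩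
  · exact (Fusion.isMap_id (hφ.1.trans hT)).mem_hom (hinner P φ hφ)
  · let Q := (P.subgroupOf T).map (T.subtype.comp α.toMonoidHom)
    refine ⟨Q.subtype, ⟨?_, 1, one_mem _, fun x => by rw [one_mul, inv_one, mul_one]; rfl⟩, fun x hφx hαx => ?_⟩
    · rintro _ ⟨x, -, rfl⟩
      exact (α x).2
    · have h1 : (⟨φ x, hφx⟩ : T) = ⟨x, hPT x.2⟩ := Subtype.ext (hinner P φ hφ x)
      rw [h1]; rfl
  · obtain ⟨β, hβ, he⟩ := Fus93.abelian_extend hS hF hab (Fusion.isMap_extFun hφ)
    have hm : Fusion.IsMap F T (Fusion.autFun β) := ((Fusion.mem_autGroup le_rfl).mp hβ).1.mono hT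
    have hiso : Fusion.IsIso F T T (Fusion.autFun β) := by
      refine ⟨hm, Set.Subset.antisymm ?_ fun y hy => ?_⟩
      · rintro _ ⟨x, hx, rfl⟩; exact hsc _ _ hm x hx hx
      · exact Fusion.surjOn_of_card_le hT hm.injOn (fun x hx => hsc _ _ hm x hx hx) le_rfl y hy
    obtain ⟨α, hα, hαe⟩ := hiso.exists_aut
    refine ⟨α, hα, P.subtype, ⟨hPT, 1, one_mem _, fun x => by simp⟩, fun x hx => ?_⟩
    have h1 := hαe (hPT x.2)
    rw [show (x : Ω) = P.subtype x from rfl, Fusion.autFun_of_mem α hx] at h1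
    exact (h1.trans ((he x.2).trans (Fusion.extFun_coe φ x))).symm
  · refine ⟨1, one_mem _, fun x => ?_, fun c _ => ?_⟩
    · have h1 := hinner T _ ((Fusion.mem_autGroup_iff_hom le_rfl).mp hα) x
      exact h1.symm
    · simp

/-- Let F be a saturated fusion system over a finite abelian p-group S. Then F is simple if and only if S has order p and F is the inner system of S (whose only maps are the inclusions, S being abelian). -/
theorem result {Ω : Type*} [Group Ω] {S : Subgroup Ω} [Finite S] (p : ℕ) [Fact p.Prime] (hS : IsPGroup p S) (F : Cfsg.FusionSystem S) (hF : F.IsSaturated p) (hab : ∀ x ∈ S, ∀ y ∈ S, x * y = y * x) : F.IsSimple p ↔ (Nat.card S = p ∧ ∀ P : Subgroup Ω, F.Hom P = (Cfsg.innerFusionSystem S).Hom P) := by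
  classical
  constructor
  · rintro ⟨-, hS1, hsimp⟩
    have hinn : ∀ P, F.Hom P = (Cfsg.innerFusionSystem S).Hom P := by
      refine fun P => ?_
      rcases hsimp S _ (inner_isNormalIn hS hF hab (T := S) le_rfl fun P f hf x hx _ => hf.apply_mem hx
          ) with h | h
      · exact absurd h hS1
      · exact (h.2 P).symm
    refine ⟨?_, hinn⟩
    haveI : Nontrivial S := (Subgroup.nontrivial_iff_ne_bot S).mpr hS1
    obtain ⟨k, hk⟩ := IsPGroup.iff_card.mp hS
    have hk0 : k ≠ 0 := by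
      rintro rfl
      exact (Finite.one_lt_card (α := S)).ne' (by simpa using hk)
    obtain ⟨t, ht⟩ := exists_prime_orderOf_dvd_card' (G := S) p (hk ▸ dvd_pow_self p hk0)
    have hR : Subgroup.zpowers (t : Ω) ≤ S := Subgroup.zpowers_le.mpr t.2
    rcases hsimp (Subgroup.zpowers (t : Ω)) _ (inner_isNormalIn hS hF hab hR fun P f hf x hx hxR => by
      obtain ⟨φ, hφ, hφf⟩ := hf
      rw [hinn] at hφ
      obtain ⟨hP, g, hg, he⟩ := hφ
      rw [← hφf ⟨x, hx⟩, he, hab g hg x (hP hx), mul_inv_cancel_right]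
      exact hxR) with h | h
    · have : orderOf t = 1 := by
        rw [← Subgroup.orderOf_coe, ← Nat.card_zpowers, h, Subgroup.card_bot]
      exact absurd (this.symm.trans ht) (Fact.out : p.Prime).one_lt.ne
    · rw [← h.1, Nat.card_zpowers, Subgroup.orderOf_coe, ht]
  · rintro ⟨hcard, hinn⟩
    refine ⟨hF, fun h => ?_, fun T E hE => ?_⟩
    · rw [h, Subgroup.card_bot] at hcard
      exact (Fact.out : p.Prime).one_lt.ne hcard
    · have hTS : T ≤ S := hE.1.2.2.2.1.1
      haveI : Finite T := Fusion.finite_of_le hTS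
      have hd : Nat.card T ∣ p := hcard ▸ Subgroup.card_dvd_of_le hTS
      rcases (Nat.dvd_prime Fact.out).mp hd with h | h
      · exact Or.inl (Subgroup.card_eq_one.mp h)
      · have hTS' : T = S := Subgroup.eq_of_le_of_card_ge hTS (by rw [h, hcard])
        refine Or.inr ⟨hTS', fun P => Set.Subset.antisymm (hE.1.2.2.1 P) ?_⟩
        subst hTS'
        rw [hinn]
        rintro φ ⟨hP, g, hg, he⟩
        exact (Fusion.isMap_conj hP hg).mem_hom he


end Cfsg.Agent.S5337
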