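import Cfsg.Statements.S5148
import Cfsg.Agent.Fusion91.Solvable
import Cfsg.Agent.S5337
-- import your own Cfsg.Agent.* helpers here

set_option autoImplicit false
open Cfsg

namespace Cfsg.Agent.S5148

/-- A quasisimple fusion system over a finite p-group S (saturated, equal to its p-residual subsystem, with simple — in particular nontrivial — factor system modulo its centre) has S nonabelian. -/
theorem result {Ω : Type*} [Group Ω] {S : Subgroup Ω} [Finite S] (p : ℕ) [Fact p.Prime] (hS : IsPGroup p S) (F : Cfsg.FusionSystem S) (hq : F.Quasisimple p) : ¬ IsMulCommutative S := by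
  intro hab
  obtain ⟨hF, hhyp, hsimp⟩ := hq
  have hn := Fusion91.stronglyClosed_center F
  obtain ⟨E, hE⟩ := Fusion91.exists_factor_mk' F hn
  have hs := hsimp E hE
  have hα := S5134.result p hS F hF F.center hn _ E hE
  haveI : Finite (S ⧸ F.center.subgroupOf S) := Quotient.finite _
  have hp : IsPGroup p (⊤ : Subgroup (S ⧸ F.center.subgroupOf S)) :=
    (hS.to_quotient _).to_subgroup _
  have hcomm : ∀ x ∈ (⊤ : Subgroup (S ⧸ F.center.subgroupOf S)), ∀ y ∈ (⊤ : Subgroup (S ⧸ F.center.subgroupOf S)),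
      x * y = y * x := by
    intro x _ y _
    obtain ⟨a, rfl⟩ := QuotientGroup.mk'_surjective _ x
    obtain ⟨b, rfl⟩ := QuotientGroup.mk'_surjective _ y
    rw [← map_mul, ← map_mul, hab.is_comm.comm a b]
  obtain ⟨-, hinn⟩ := (S5337.result p hp E hs.1 hcomm).mp hs
  have hbot := Fusion91.hyperfocal_eq_bot_of_factor_trivial (p := p) (F := F) hS fun P f hf x hx => by
    obtain ⟨g, hg, hgp⟩ := Fusion91.exists_push_map hα hf
    obtain ⟨φ, hφ, hφg⟩ := hg
    rw [hinn] at hφ
    obtain ⟨hle, c, hc, he⟩ := hφ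
    have hxS := hf.dom_le hx
    have hy := (Fusion91.mem_imageAlong_push (α := QuotientGroup.mk' (F.center.subgroupOf S)) hf.dom_le).mpr ⟨x, hx, rfl⟩
    have h1 := hgp x hx
    rw [← hφg ⟨_, hy⟩, he] at h1
    dsimp only at h1
    rw [hcomm c hc _ (Subgroup.mem_top _), mul_inv_cancel_right,
      Fusion91.push_of_mem hxS, Fusion91.push_of_mem (hf.apply_mem hx)] at h1
    have h2 : QuotientGroup.mk' (F.center.subgroupOf S) ((⟨x, hxS⟩ : S)⁻¹ * ⟨f x, hf.apply_mem hx⟩) = 1 := by
      rw [map_mul, map_inv, h1, inv_mul_cancel]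
    exact (hE.2.1 _).mp h2
  rw [hhyp] at hbot
  refine hs.2.1 ((Subgroup.eq_bot_iff_forall _).mpr fun x _ => ?_)
  obtain ⟨a, rfl⟩ := QuotientGroup.mk'_surjective _ x
  have ha : a = 1 := Subtype.ext (Subgroup.mem_bot.mp (hbot ▸ a.2))
  rw [ha, map_one]

end Cfsg.Agent.S5148
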