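import Cfsg.Statements.S5433
-- import your own Cfsg.Agent.* helpers here

set_option autoImplicit false
open Cfsg

namespace Cfsg.Agent.S5433

private theorem exists_center_gen {G : Type*} [Group G] [Finite G] {Q : Subgroup G}
    (hQ : Cfsg.IsExtraspecial 2 Q) :
    ∃ z : G, z ≠ 1 ∧ (Subgroup.center Q).map Q.subtype = Subgroup.zpowers z ∧
      ∀ w ∈ (Subgroup.center Q).map Q.subtype, w = 1 ∨ w = z := by
  have hc : Nat.card ((Subgroup.center Q).map Q.subtype) = 2 := by
    rw [Subgroup.card_map_of_injective Q.subtype_injective]; exact hQ.2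
  obtain ⟨⟨z, hz⟩, hz1, huniq⟩ :=
    (Nat.card_eq_two_iff' (1 : ↥((Subgroup.center Q).map Q.subtype))).1 hc
  have hu : ∀ w ∈ (Subgroup.center Q).map Q.subtype, w = 1 ∨ w = z := by
    intro w hw
    by_cases h : w = 1
    · exact Or.inl h
    · exact Or.inr (congrArg Subtype.val (huniq ⟨w, hw⟩ (fun e => h (congrArg Subtype.val e))))
  refine ⟨z, fun e => hz1 (Subtype.ext e), le_antisymm (fun w hw => ?_) ((Subgroup.zpowers_le).2 hz), hu⟩
  rcases hu w hw with rfl | rfl
  · exact Subgroup.one_mem _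
  · exact Subgroup.mem_zpowers _

/-- Let Q be a large extraspecial 2-subgroup of the finite group G (extraspecial; centralizer equal to its centre; normal in the centralizer of its centre; normalizing no non-trivial subgroup of odd order), and L a normal subgroup of G containing Q. Then G is the product of L and the normalizer of Q. -/
theorem result {G : Type*} [Group G] [Finite G] (Q : Subgroup G) (hQ : Cfsg.IsLargeExtraspecial Q) (L : Subgroup G) [L.Normal] (hQL : Q ≤ L) : L ⊔ Subgroup.normalizer (Q : Set G) = ⊤ := by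
  haveI := Fact.mk Nat.prime_two
  obtain ⟨hex, hcent, hnorm, -⟩ := hQ
  obtain ⟨z, hz1, hZ, hu⟩ := exists_center_gen hex
  have hQp : IsPGroup 2 (Q.subgroupOf L) :=
    hex.1.1.of_equiv (Subgroup.subgroupOfEquivOfLe hQL).symm
  obtain ⟨S, hS⟩ := hQp.exists_le_sylow
  have hQS : Q ≤ (S : Subgroup L).map L.subtype := fun q hq => ⟨⟨q, hQL hq⟩, hS hq, rfl⟩
  set S' := (S : Subgroup L).map L.subtype with hS'
  have hne : Nontrivial ↥(S : Subgroup L) := by
    rw [Subgroup.nontrivial_iff_ne_bot]
    intro h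
    obtain ⟨w, hw, hw1⟩ : ∃ w ∈ Q, w ≠ 1 := by
      refine ⟨z, ?_, hz1⟩
      have hzm : z ∈ (Subgroup.center Q).map Q.subtype := by rw [hZ]; exact Subgroup.mem_zpowers z
      exact Subgroup.map_subtype_le _ hzm
    have := hS (show (⟨w, hQL hw⟩ : L) ∈ Q.subgroupOf L from hw)
    rw [h, Subgroup.mem_bot] at this
    exact hw1 (congrArg Subtype.val this)
  haveI := hne
  haveI := S.isPGroup'.center_nontrivial
  obtain ⟨c, hc1⟩ := exists_ne (1 : Subgroup.center ↥(S : Subgroup L))
  set cG : G := (((c : ↥(S : Subgroup L)) : L) : G) with hcG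
  have hcS : ∀ s ∈ S', s * cG = cG * s := by
    rintro s ⟨s', hs', rfl⟩
    have := congrArg (fun w : ↥(S : Subgroup L) => ((w : L) : G)) (Subgroup.mem_center_iff.1 c.2 ⟨s', hs'⟩)
    simpa using this
  have hcz : cG = z := by
    have hm : cG ∈ Subgroup.centralizer (Q : Set G) :=
      Subgroup.mem_centralizer_iff.2 fun q hq => hcS q (hQS hq)
    rw [hcent] at hm
    rcases hu _ hm with h | h
    · exact absurd (Subtype.ext (Subtype.ext (Subtype.ext h))) hc1
    · exact h
  have hN : Subgroup.normalizer (S' : Set G) ≤ Subgroup.normalizer (Q : Set G) := by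
    intro n hn
    apply hnorm
    rw [hZ, Subgroup.zpowers_eq_closure, Subgroup.centralizer_closure, Subgroup.mem_centralizer_singleton_iff]
    have hcS' : cG ∈ S' := ⟨_, (c : ↥(S : Subgroup L)).2, rfl⟩
    have hn' : n * cG * n⁻¹ ∈ S' := (Subgroup.mem_normalizer_iff.1 hn cG).1 hcS'
    have hm : n * cG * n⁻¹ ∈ Subgroup.centralizer (Q : Set G) := by
      refine Subgroup.mem_centralizer_iff.2 fun q hq => ?_
      have hq' : n⁻¹ * q * n ∈ S' := by
        have := (Subgroup.mem_normalizer_iff''.1 hn q).1 (hQS hq)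
        simpa using this
      have := hcS _ hq'
      calc q * (n * cG * n⁻¹) = n * ((n⁻¹ * q * n) * cG) * n⁻¹ := by group
        _ = n * (cG * (n⁻¹ * q * n)) * n⁻¹ := by rw [this]
        _ = n * cG * n⁻¹ * q := by group
    rw [hcent] at hm
    rcases hu _ hm with h | h
    · exact absurd (conj_eq_one_iff.1 h) (hcz ▸ hz1)
    · rw [← hcz] at h ⊢
      exact (mul_inv_eq_iff_eq_mul.1 h)
  rw [eq_top_iff, ← Sylow.normalizer_sup_eq_top S]
  refine sup_le ?_ le_sup_left
  exact le_trans (le_of_eq rfl) (le_trans hN le_sup_right)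

end Cfsg.Agent.S5433
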