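import Cfsg.Statements.S1304
import Mathlib.Tactic.Group

set_option autoImplicit false
open Cfsg

namespace Cfsg.Agent.S1304

/-- Let X be a perfect group and α an automorphism of X with α(x) x⁻¹ central for every x. Then α is the identity. -/
theorem result {X : Type*} [Group X] (hperf : commutator X = ⊤) (α : X ≃* X) (h : ∀ x : X, α x * x⁻¹ ∈ Subgroup.center X) : ∀ x : X, α x = x := by
  intro x
  have hcomm : ∀ a b : X, α (a * b * a⁻¹ * b⁻¹) = a * b * a⁻¹ * b⁻¹ := by
    intro a b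
    have hu := Subgroup.mem_center_iff.mp (h a)
    have hv := Subgroup.mem_center_iff.mp (h b)
    generalize hu' : α a * a⁻¹ = u at hu
    generalize hv' : α b * b⁻¹ = v at hv
    have ha : α a = u * a := by rw [← hu']; group
    have hb : α b = v * b := by rw [← hv']; group
    rw [map_mul, map_mul, map_mul, map_inv, map_inv, ha, hb]
    calc u * a * (v * b) * (u * a)⁻¹ * (v * b)⁻¹
        = u * (a * v) * (b * a⁻¹) * u⁻¹ * b⁻¹ * v⁻¹ := by group
      _ = u * (v * a) * (b * a⁻¹) * u⁻¹ * b⁻¹ * v⁻¹ := by rw [hv a]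
      _ = (u * (v * a * b * a⁻¹)) * u⁻¹ * b⁻¹ * v⁻¹ := by group
      _ = ((v * a * b * a⁻¹) * u) * u⁻¹ * b⁻¹ * v⁻¹ := by rw [hu]
      _ = (v * (a * b * a⁻¹ * b⁻¹)) * v⁻¹ := by group
      _ = ((a * b * a⁻¹ * b⁻¹) * v) * v⁻¹ := by rw [hv]
      _ = a * b * a⁻¹ * b⁻¹ := by group
  have hle : commutator X ≤ α.toMonoidHom.eqLocus (MonoidHom.id X) := by
    rw [commutator_def, Subgroup.commutator_le]
    intro a _ b _
    exact hcomm a b
  rw [hperf] at hle
  exact hle (Subgroup.mem_top x)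

end Cfsg.Agent.S1304
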