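import Cfsg.Statements.S4623
import Cfsg.Agent.BC85.Cores
import Mathlib

set_option autoImplicit false
open Cfsg

namespace Cfsg.Agent.S4623


/-- A symmetric group has a Sylow `p`-subgroup generated by elements of order dividing `p`, of
which the odd ones commute pairwise. -/
def Good (p : ℕ) (α : Type) [Fintype α] [DecidableEq α] : Prop :=
  ∃ S : Set (Equiv.Perm α), (∀ s ∈ S, s ^ p = 1) ∧
    (∀ s ∈ S, ∀ t ∈ S, Equiv.Perm.sign s = -1 → Equiv.Perm.sign t = -1 → Commute s t) ∧
    IsPGroup p (Subgroup.closure S) ∧
    p ^ (Nat.factorial (Fintype.card α)).factorization p ≤ Nat.card (Subgroup.closure S)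

theorem good_congr {p : ℕ} {α β : Type} [Fintype α] [DecidableEq α] [Fintype β] [DecidableEq β]
    (e : α ≃ β) (h : Good p α) : Good p β := by
  obtain ⟨S, h1, h2, h3, h4⟩ := h
  let f : Equiv.Perm α ≃* Equiv.Perm β := e.permCongrHom
  have hcl : Subgroup.closure (f '' S) = (Subgroup.closure S).map f.toMonoidHom :=
    (MonoidHom.map_closure f.toMonoidHom S).symm
  refine ⟨f '' S, ?_, ?_, ?_, ?_⟩
  · rintro _ ⟨s, hs, rfl⟩
    rw [← map_pow, h1 s hs, map_one]
  · rintro _ ⟨s, hs, rfl⟩ _ ⟨t, ht, rfl⟩ ha hb
    refine (h2 s hs t ht ?_ ?_).map f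
    · simpa [f, Equiv.permCongrHom] using ha
    · simpa [f, Equiv.permCongrHom] using hb
  · rw [hcl]; exact h3.map _
  · rw [hcl, Subgroup.card_map_of_injective f.injective, ← Fintype.card_congr e]
    exact h4

theorem good_fin {p : ℕ} [Fact p.Prime] : ∀ n : ℕ, Good p (Fin n) := by
  have hp : p.Prime := Fact.out
  intro n
  induction n using Nat.strong_induction_on with
  | _ n ih =>
  rcases Nat.eq_zero_or_pos n with rfl | hn
  · refine ⟨∅, by simp, by simp, ?_, ?_⟩
    · rw [Subgroup.closure_empty]; exact IsPGroup.of_bot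
    · simp
  by_cases hdvd : p ∣ n
  · obtain ⟨m, rfl⟩ := hdvd
    have hm : 0 < m := Nat.pos_of_mul_pos_left hn
    obtain ⟨S0, h1, h2, h3, h4⟩ := ih m (by nlinarith [hp.two_le])
    haveI : NeZero p := ⟨hp.ne_zero⟩
    refine good_congr (α := Fin m × ZMod p)
      (Fintype.equivOfCardEq (by simp [mul_comm])) ?_
    let b : Multiplicative (Fin m → ZMod p) →* Equiv.Perm (Fin m × ZMod p) :=
      { toFun := fun v =>
          { toFun := fun x => (x.1, x.2 + v.toAdd x.1)
            invFun := fun x => (x.1, x.2 - v.toAdd x.1)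
            left_inv := fun x => by simp
            right_inv := fun x => by simp }
        map_one' := by ext x <;> simp
        map_mul' := fun v w => by
          apply Equiv.ext
          intro x
          ext <;> simp [toAdd_mul] <;> abel }
    let t : Equiv.Perm (Fin m) →* Equiv.Perm (Fin m × ZMod p) :=
      { toFun := fun σ => Equiv.prodCongrLeft fun _ => σ
        map_one' := by ext x <;> simp
        map_mul' := fun σ τ => by ext x <;> simp }
    have hconj : ∀ σ v, t σ * b v * (t σ)⁻¹ =
        b (Multiplicative.ofAdd fun i => v.toAdd (σ⁻¹ i)) := by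
      intro σ v
      rw [mul_inv_eq_iff_eq_mul]
      apply Equiv.ext
      intro x
      ext <;> simp [b, t]
    have ht : Function.Injective t := by
      intro σ τ h
      ext i
      have := congrArg (fun f : Equiv.Perm (Fin m × ZMod p) => (f (i, 0)).1) h
      simpa [t] using congrArg Fin.val this
    let B : Set (Equiv.Perm (Fin m × ZMod p)) :=
      Set.range fun i : Fin m => b (Multiplicative.ofAdd (Pi.single i (1 : ZMod p)))
    have hB : b.range = Subgroup.closure B := by
      refine le_antisymm ?_ ((Subgroup.closure_le _).2 ?_)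
      · rintro _ ⟨v, rfl⟩
        have hs : ∀ s : Finset (Fin m),
            b (Multiplicative.ofAdd (∑ i ∈ s, Pi.single i (v.toAdd i))) ∈ Subgroup.closure B := by
          intro s
          induction s using Finset.induction with
          | empty => simp
          | insert a s ha ih =>
            rw [Finset.sum_insert ha, ofAdd_add, map_mul]
            refine mul_mem ?_ ih
            have hsingle : Pi.single (M := fun _ => ZMod p) a (v.toAdd a) =
                (v.toAdd a).val • Pi.single a (1 : ZMod p) := by
              funext j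
              by_cases hj : j = a
              · subst hj; simp
              · simp [Pi.single_eq_of_ne hj]
            rw [hsingle, ofAdd_nsmul, map_pow]
            exact pow_mem (Subgroup.subset_closure (Set.mem_range_self a)) _
        have h := hs Finset.univ
        rwa [Finset.univ_sum_single, ofAdd_toAdd] at h
      · rintro _ ⟨i, rfl⟩
        exact ⟨_, rfl⟩
    have hcl : Subgroup.closure (B ∪ t '' S0) = b.range ⊔ (Subgroup.closure S0).map t := by
      rw [Subgroup.closure_union, ← hB, MonoidHom.map_closure]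
    have hpow : ∀ v : Multiplicative (Fin m → ZMod p), v ^ p = 1 := by
      intro v
      apply Multiplicative.toAdd.injective
      funext i
      simp
    refine ⟨B ∪ t '' S0, ?_, ?_, ?_, ?_⟩
    · rintro s (⟨i, rfl⟩ | ⟨s, hs, rfl⟩)
      · rw [← map_pow, hpow, map_one]
      · rw [← map_pow, h1 s hs, map_one]
    · rintro s (⟨i, rfl⟩ | ⟨s, hs, rfl⟩) u (⟨j, rfl⟩ | ⟨u, hu, rfl⟩) hs1 hu1
      · exact (Commute.all _ _).map b
      all_goals
        exfalso
        have key : ∀ σ : Equiv.Perm (Fin m), σ ^ p = 1 → Equiv.Perm.sign (t σ) = 1 := by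
          intro σ hσ
          have : Equiv.Perm.sign (t σ) = Equiv.Perm.sign σ ^ p := by
            show Equiv.Perm.sign (Equiv.prodCongrLeft fun _ : ZMod p => σ) = _
            rw [Equiv.Perm.sign_prodCongrLeft]
            simp
          rw [this, ← map_pow, hσ, map_one]
        first
          | (rw [key _ (h1 _ hu)] at hu1; exact absurd hu1 (by decide))
          | (rw [key _ (h1 _ hs)] at hs1; exact absurd hs1 (by decide))
    · rw [hcl, sup_comm]
      refine IsPGroup.to_sup_of_normal_right' (h3.map t) ?_ ?_
      · intro x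
        refine ⟨1, ?_⟩
        obtain ⟨v, hv⟩ := x.2
        apply Subtype.ext
        rw [SubmonoidClass.coe_pow, ← hv, ← map_pow, pow_one, hpow, map_one]
        rfl
      · rintro _ ⟨σ, hσ, rfl⟩
        rw [Subgroup.mem_normalizer_iff]
        intro x
        constructor
        · rintro ⟨v, rfl⟩
          exact ⟨_, (hconj σ v).symm⟩
        · rintro ⟨v, hv⟩
          refine ⟨Multiplicative.ofAdd fun i => v.toAdd (σ i), ?_⟩
          have h5 := hconj σ⁻¹ v
          rw [hv, map_inv, inv_inv] at h5
          simp only [inv_inv] at h5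
          rw [← h5]
          group
    · rw [Fintype.card_prod, Fintype.card_fin, ZMod.card, mul_comm m p, hcl]
      have hv : (Nat.factorial (p * m)).factorization p = (Nat.factorial m).factorization p + m := by
        rw [Nat.factorization_def _ hp, Nat.factorization_def _ hp, padicValNat_factorial_mul]
      rw [hv, pow_add]
      rw [Fintype.card_fin] at h4
      let g : (Subgroup.closure S0) × Multiplicative (Fin m → ZMod p) →
          (b.range ⊔ (Subgroup.closure S0).map t : Subgroup (Equiv.Perm (Fin m × ZMod p))) :=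
        fun x => ⟨t x.1 * b x.2, mul_mem (Subgroup.mem_sup_right ⟨x.1, x.1.2, rfl⟩)
          (Subgroup.mem_sup_left ⟨x.2, rfl⟩)⟩
      have hg : Function.Injective g := by
        rintro ⟨a, v⟩ ⟨a', v'⟩ h
        have h' := congrArg Subtype.val h
        simp only [g] at h'
        have ha : (a : Equiv.Perm (Fin m)) = a' := by
          ext i
          have := congrArg (fun f : Equiv.Perm (Fin m × ZMod p) => (f (i, 0)).1) h'
          simpa [b, t] using congrArg Fin.val this
        have hv : v = v' := by
          apply Multiplicative.toAdd.injective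
          funext i
          have := congrArg (fun f : Equiv.Perm (Fin m × ZMod p) => (f (i, 0)).2) h'
          simpa [b, t] using this
        exact Prod.ext (Subtype.ext ha) hv
      refine le_trans ?_ (Nat.card_le_card_of_injective g hg)
      rw [Nat.card_prod]
      refine Nat.mul_le_mul h4 (le_of_eq ?_)
      simp [Nat.card_eq_fintype_card]
  · obtain ⟨k, rfl⟩ : ∃ k, n = k + 1 := ⟨n - 1, by omega⟩
    obtain ⟨S, h1, h2, h3, h4⟩ := ih k (by omega)
    refine good_congr (α := Fin k ⊕ Fin 1) finSumFinEquiv ?_
    let f : Equiv.Perm (Fin k) →* Equiv.Perm (Fin k ⊕ Fin 1) :=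
      { toFun := fun σ => Equiv.sumCongr σ (Equiv.refl _)
        map_one' := by ext x; cases x <;> simp
        map_mul' := fun σ τ => by ext x; cases x <;> simp }
    have hf : Function.Injective f := by
      intro σ τ h
      ext i
      have := congrArg (fun g : Equiv.Perm (Fin k ⊕ Fin 1) => g (Sum.inl i)) h
      simpa [f] using congrArg (Sum.elim Fin.val (fun _ => 0)) this
    have hcl : Subgroup.closure (f '' S) = (Subgroup.closure S).map f :=
      (MonoidHom.map_closure f S).symm
    refine ⟨f '' S, ?_, ?_, ?_, ?_⟩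
    · rintro _ ⟨s, hs, rfl⟩
      rw [← map_pow, h1 s hs, map_one]
    · rintro _ ⟨s, hs, rfl⟩ _ ⟨t, ht, rfl⟩ ha hb
      refine (h2 s hs t ht ?_ ?_).map f
      · simpa [f, Equiv.Perm.sign_sumCongr] using ha
      · simpa [f, Equiv.Perm.sign_sumCongr] using hb
    · rw [hcl]; exact h3.map _
    · rw [hcl, Subgroup.card_map_of_injective hf, Fintype.card_sum, Fintype.card_fin,
        Fintype.card_fin, Nat.factorial_succ, Nat.factorization_mul (by omega) (Nat.factorial_ne_zero k)]
      rw [Fintype.card_fin] at h4
      simpa [Nat.factorization_eq_zero_of_not_dvd hdvd] using h4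

/-- A group generated by elements whose `p`-th power is a product of commutators has this property. -/
theorem pow_mem_commutator {A : Type*} [Group A] (p : ℕ) (S : Set A) (hS : Subgroup.closure S = ⊤)
    (h : ∀ s ∈ S, s ^ p = 1) (x : A) : x ^ p ∈ commutator A := by
  rw [← Abelianization.ker_of, MonoidHom.mem_ker, map_pow]
  have hx : x ∈ Subgroup.closure S := hS ▸ Subgroup.mem_top x
  induction hx using Subgroup.closure_induction with
  | mem s hs => rw [← map_pow, h s hs, map_one]
  | one => simp
  | mul a b _ _ ha hb => rw [map_mul, mul_pow, ha, hb, mul_one]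
  | inv a _ ha => rw [map_inv, inv_pow, ha, inv_one]

/-- The property passes to any conjugate Sylow subgroup. -/
theorem sylow_pow_mem_commutator {A : Type*} [Group A] [Finite A] (p : ℕ) [Fact p.Prime]
    (W P : Sylow p A) (S : Set A) (hS : Subgroup.closure S = (W : Subgroup A))
    (h : ∀ s ∈ S, s ^ p = 1) (x : (P : Subgroup A)) : x ^ p ∈ commutator (P : Subgroup A) := by
  obtain ⟨g, rfl⟩ := MulAction.exists_smul_eq A W P
  let S' : Set ((g • W : Sylow p A) : Subgroup A) := Subtype.val ⁻¹' ((MulAut.conj g : A → A) '' S)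
  refine pow_mem_commutator p S' ?_ ?_ x
  · apply Subgroup.map_injective ((g • W : Sylow p A) : Subgroup A).subtype_injective
    rw [MonoidHom.map_closure, ← MonoidHom.range_eq_map, Subgroup.range_subtype]
    have himg : ((g • W : Sylow p A) : Subgroup A).subtype '' S' = (MulAut.conj g : A → A) '' S := by
      rw [Subgroup.coe_subtype]
      refine Set.image_preimage_eq_of_subset ?_
      rw [Subtype.range_coe_subtype]
      rintro _ ⟨s, hs, rfl⟩
      rw [Sylow.coe_subgroup_smul]
      exact Subgroup.smul_mem_pointwise_smul _ _ _ (hS ▸ Subgroup.subset_closure hs)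
    rw [himg, Sylow.coe_subgroup_smul, ← hS]
    exact (MonoidHom.map_closure (MulAut.conj g).toMonoidHom S).symm
  · rintro ⟨_, _⟩ ⟨s, hs, rfl⟩
    apply Subtype.ext
    rw [SubmonoidClass.coe_pow, ← map_pow, h s hs, map_one]
    rfl

/-- For every prime p and every n, a Sylow p-subgroup P of the symmetric group on n letters has P/P' elementary abelian (the p-th power of every element of P lies in the derived subgroup of P), and the same holds for a Sylow p-subgroup of the alternating group on n letters. -/
theorem result (p : ℕ) [Fact p.Prime] (n : ℕ) (P : Sylow p (Equiv.Perm (Fin n))) (Q : Sylow p (alternatingGroup (Fin n))) :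
    (∀ x : (P : Subgroup (Equiv.Perm (Fin n))), x ^ p ∈ commutator (P : Subgroup (Equiv.Perm (Fin n)))) ∧
    (∀ x : (Q : Subgroup (alternatingGroup (Fin n))), x ^ p ∈ commutator (Q : Subgroup (alternatingGroup (Fin n)))) := by
  classical
  obtain ⟨S, h1, h2, h3, h4⟩ := good_fin (p := p) n
  obtain ⟨W, hW⟩ := h3.exists_le_sylow
  have hWeq : Subgroup.closure S = (W : Subgroup (Equiv.Perm (Fin n))) := by
    refine Subgroup.eq_of_le_of_card_ge hW (le_trans (le_of_eq ?_) h4)
    rw [W.card_eq_multiplicity, Nat.card_perm, Nat.card_eq_fintype_card]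
  refine ⟨fun x => sylow_pow_mem_commutator p W P S hWeq h1 x, fun x => ?_⟩
  -- generators of the even part
  obtain ⟨D, hD1, hD2⟩ : ∃ D : Set (Equiv.Perm (Fin n)), (∀ s ∈ D, s ^ p = 1) ∧
      Subgroup.closure D = Subgroup.closure S ⊓ alternatingGroup (Fin n) := by
    by_cases hodd : ∃ t0 ∈ S, Equiv.Perm.sign t0 = -1
    · obtain ⟨t0, ht0, hs0⟩ := hodd
      have hp2 : p = 2 := by
        have h5 : (-1 : ℤˣ) ^ p = 1 := by rw [← hs0, ← map_pow, h1 t0 ht0, map_one]
        rcases (Fact.out : p.Prime).eq_two_or_odd' with h | h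
        · exact h
        · rw [h.neg_one_pow] at h5
          exact absurd h5 (by decide)
      subst hp2
      have hsq : ∀ s ∈ S, s * s = 1 := fun s hs => by rw [← pow_two]; exact h1 s hs
      have hinv : t0⁻¹ = t0 := inv_eq_of_mul_eq_one_left (hsq t0 ht0)
      let D : Set (Equiv.Perm (Fin n)) := {d | ∃ s ∈ S,
        (Equiv.Perm.sign s = 1 ∧ (d = s ∨ d = t0 * s * t0)) ∨ (Equiv.Perm.sign s = -1 ∧ d = t0 * s)}
      have hDinv : ∀ d ∈ D, t0 * d * t0 ∈ D := by
        rintro d ⟨s, hs, ⟨hs1, rfl | rfl⟩ | ⟨hs1, rfl⟩⟩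
        · exact ⟨d, hs, Or.inl ⟨hs1, Or.inr rfl⟩⟩
        · refine ⟨s, hs, Or.inl ⟨hs1, Or.inl ?_⟩⟩
          simp [← mul_assoc, hsq t0 ht0]
          rw [mul_assoc, hsq t0 ht0, mul_one]
        · refine ⟨s, hs, Or.inr ⟨hs1, ?_⟩⟩
          rw [mul_assoc t0 (t0 * s), mul_assoc t0 s, (h2 s hs t0 ht0 hs1 hs0).eq, ← mul_assoc t0 t0 s,
            hsq t0 ht0, one_mul]
      refine ⟨D, ?_, le_antisymm ?_ ?_⟩
      · rintro d ⟨s, hs, ⟨hs1, rfl | rfl⟩ | ⟨hs1, rfl⟩⟩
        · exact h1 d hs
        · rw [pow_two]
          calc t0 * s * t0 * (t0 * s * t0) = t0 * s * (t0 * t0) * s * t0 := by group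
            _ = 1 := by rw [hsq t0 ht0, mul_one, mul_assoc t0 s s, hsq s hs, mul_one, hsq t0 ht0]
        · rw [pow_two, mul_assoc, ← mul_assoc s t0 s, (h2 s hs t0 ht0 hs1 hs0).eq,
            mul_assoc t0 s s, hsq s hs, mul_one, hsq t0 ht0]
      · rw [Subgroup.closure_le]
        rintro d ⟨s, hs, hd⟩
        rw [SetLike.mem_coe, Subgroup.mem_inf, Equiv.Perm.mem_alternatingGroup]
        have hsS := Subgroup.subset_closure hs
        have h0S := Subgroup.subset_closure ht0
        rcases hd with ⟨hs1, rfl | rfl⟩ | ⟨hs1, rfl⟩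
        · exact ⟨hsS, hs1⟩
        · exact ⟨mul_mem (mul_mem h0S hsS) h0S, by simp [hs1, hs0]⟩
        · exact ⟨mul_mem h0S hsS, by simp [hs1, hs0]⟩
      · have hnorm : ∀ z ∈ Subgroup.closure D, t0 * z * t0 ∈ Subgroup.closure D := by
          intro z hz
          induction hz using Subgroup.closure_induction with
          | mem z hz => exact Subgroup.subset_closure (hDinv z hz)
          | one => simp [hsq t0 ht0]
          | mul a b _ _ ha hb =>
            have : t0 * (a * b) * t0 = t0 * a * t0 * (t0 * b * t0) := by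
              simp [← mul_assoc]
              rw [mul_assoc (t0 * a) t0 t0, hsq t0 ht0, mul_one]
            rw [this]; exact mul_mem ha hb
          | inv a _ ha =>
            have : t0 * a⁻¹ * t0 = (t0 * a * t0)⁻¹ := by simp [hinv, mul_assoc]
            rw [this]; exact inv_mem ha
        have hmem : ∀ z ∈ Subgroup.closure S,
            (Equiv.Perm.sign z = 1 ∧ z ∈ Subgroup.closure D) ∨
            (Equiv.Perm.sign z = -1 ∧ t0 * z ∈ Subgroup.closure D) := by
          intro z hz
          induction hz using Subgroup.closure_induction with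
          | mem z hz =>
            rcases Int.units_eq_one_or (Equiv.Perm.sign z) with h | h
            · exact Or.inl ⟨h, Subgroup.subset_closure ⟨z, hz, Or.inl ⟨h, Or.inl rfl⟩⟩⟩
            · exact Or.inr ⟨h, Subgroup.subset_closure ⟨z, hz, Or.inr ⟨h, rfl⟩⟩⟩
          | one => exact Or.inl ⟨map_one _, one_mem _⟩
          | mul a b _ _ ha hb =>
            rcases ha with ⟨ha1, ha2⟩ | ⟨ha1, ha2⟩ <;> rcases hb with ⟨hb1, hb2⟩ | ⟨hb1, hb2⟩
            · exact Or.inl ⟨by simp [ha1, hb1], mul_mem ha2 hb2⟩
            · refine Or.inr ⟨by simp [ha1, hb1], ?_⟩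
              have := mul_mem (hnorm a ha2) hb2
              have h6 : t0 * a * t0 * (t0 * b) = t0 * (a * b) := by
                simp [← mul_assoc]
                rw [mul_assoc (t0 * a) t0 t0, hsq t0 ht0, mul_one]
              rwa [h6] at this
            · exact Or.inr ⟨by simp [ha1, hb1], by rw [← mul_assoc]; exact mul_mem ha2 hb2⟩
            · refine Or.inl ⟨by simp [ha1, hb1], ?_⟩
              have h7 : t0 * (t0 * a) * t0 * (t0 * b) = a * b := by
                simp [← mul_assoc, hsq t0 ht0]
                rw [mul_assoc a t0 t0, hsq t0 ht0, mul_one]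
              have := mul_mem (hnorm _ ha2) hb2
              rwa [h7] at this
          | inv a _ ha =>
            rcases ha with ⟨ha1, ha2⟩ | ⟨ha1, ha2⟩
            · exact Or.inl ⟨by simp [ha1], inv_mem ha2⟩
            · refine Or.inr ⟨by simp [ha1], ?_⟩
              have h8 : t0 * (t0 * a)⁻¹ * t0 = t0 * a⁻¹ := by
                simp [hinv, mul_assoc, hsq t0 ht0]
              have := hnorm _ (inv_mem ha2)
              rwa [h8] at this
        intro z hz
        obtain ⟨hzS, hzA⟩ := Subgroup.mem_inf.1 hz
        rw [Equiv.Perm.mem_alternatingGroup] at hzA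
        rcases hmem z hzS with ⟨_, h⟩ | ⟨h, _⟩
        · exact h
        · rw [hzA] at h; exact absurd h (by decide)
    · push_neg at hodd
      refine ⟨S, h1, (inf_eq_left.2 ?_).symm⟩
      rw [Subgroup.closure_le]
      intro s hs
      rw [SetLike.mem_coe, Equiv.Perm.mem_alternatingGroup]
      exact (Int.units_eq_one_or _).resolve_right (hodd s hs)
  obtain ⟨W', hW'⟩ := BC85.exists_sylow_subgroupOf W (alternatingGroup (Fin n))
  refine sylow_pow_mem_commutator p W' Q (Subtype.val ⁻¹' D) ?_ ?_ x
  · apply Subgroup.map_injective (alternatingGroup (Fin n)).subtype_injective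
    rw [MonoidHom.map_closure, hW', Subgroup.subgroupOf_map_subtype, ← hWeq, ← hD2]
    congr 1
    refine Set.image_preimage_eq_of_subset fun d hd => ⟨⟨d, ?_⟩, rfl⟩
    exact (Subgroup.mem_inf.1 (hD2 ▸ Subgroup.subset_closure hd)).2
  · intro s hs
    exact Subtype.ext (hD1 _ hs)

end Cfsg.Agent.S4623
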