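import Cfsg.Statements.S2763
import Cfsg.Agent.LocalEven61.Qd
import Cfsg.Agent.LocalEven61.Conj
import Mathlib.Data.ZMod.Basic

set_option autoImplicit false
open Cfsg

namespace Cfsg.Agent.S2763

open LocalEven61 (qdLin qdTrans qdAff upperGroup)
open PLocalB (upper)

variable {p : ℕ} [Fact p.Prime]

/-- Element with coordinates `x, y` (translation) and `a` (unipotent part). -/
def el (x y a : ZMod p) : ↥(Cfsg.qdOver (ZMod p)) := qdAff ![x, y] (upper a)

/-- The standard Sylow subgroup. -/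
def std (p : ℕ) [Fact p.Prime] : Subgroup ↥(Cfsg.qdOver (ZMod p)) :=
  (upperGroup (ZMod p)).comap qdLin

theorem el_mul (x y a x' y' a' : ZMod p) :
    el x y a * el x' y' a' = el (x + x' + a * y') (y + y') (a + a') := by
  rw [el, el, el, LocalEven61.qdAff_mul, PLocalB.upper_mul]
  congr 1
  funext i
  rw [Pi.add_apply, LocalEven61.sl2_smul_apply]
  fin_cases i <;> simp [add_assoc]

theorem el_mem (x y a : ZMod p) : el x y a ∈ std p := by
  rw [std, Subgroup.mem_comap, el, LocalEven61.qdLin_qdAff]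
  exact ⟨Multiplicative.ofAdd a, rfl⟩

theorem exists_el {M : ↥(Cfsg.qdOver (ZMod p))} (h : M ∈ std p) : ∃ x y a, M = el x y a := by
  obtain ⟨a, ha⟩ := h
  refine ⟨qdTrans M 0, qdTrans M 1, a.toAdd, ?_⟩
  conv_lhs => rw [← LocalEven61.qdAff_eta M, ← ha]
  rw [el, show (![qdTrans M 0, qdTrans M 1] : Fin 2 → ZMod p) = qdTrans M from by
    funext i; fin_cases i <;> simp]
  rfl

theorem el_inj {x y a x' y' a' : ZMod p} (h : el x y a = el x' y' a') :
    x = x' ∧ y = y' ∧ a = a' := by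
  have h1 := congrArg qdTrans h
  rw [el, el, LocalEven61.qdTrans_qdAff, LocalEven61.qdTrans_qdAff] at h1
  have h2 := congrArg qdLin h
  rw [el, el, LocalEven61.qdLin_qdAff, LocalEven61.qdLin_qdAff] at h2
  exact ⟨by simpa using congrFun h1 0, by simpa using congrFun h1 1, PLocalB.upper_injective h2⟩

theorem el_zero : el (0 : ZMod p) 0 0 = 1 := by
  rw [← LocalEven61.qdAff_zero_one, el, PLocalB.upper_zero]
  congr 1
  funext i; fin_cases i <;> simp

theorem el_pow (x y : ZMod p) (k : ℕ) : el x y 0 ^ k = el ((k : ZMod p) * x) ((k : ZMod p) * y) 0 := by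
  induction k with
  | zero => simp [el_zero]
  | succ k ih => rw [pow_succ, ih, el_mul]; push_cast; congr 1 <;> ring

theorem el_smul_mem {T : Subgroup ↥(Cfsg.qdOver (ZMod p))} {x y : ZMod p} (h : el x y 0 ∈ T)
    (c : ZMod p) : el (c * x) (c * y) 0 ∈ T := by
  have := pow_mem h c.val
  rwa [el_pow, ZMod.natCast_zmod_val] at this

theorem card_std : Nat.card ↥(std p) = p ^ 3 := by
  rw [← Nat.card_congr (Equiv.ofBijective
    (fun v : ZMod p × ZMod p × ZMod p => (⟨el v.1 v.2.1 v.2.2, el_mem _ _ _⟩ : ↥(std p)))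
    ⟨fun v w h => ?_, fun M => ?_⟩), Nat.card_prod, Nat.card_prod, Nat.card_zmod]
  · ring
  · obtain ⟨h1, h2, h3⟩ := el_inj (congrArg Subtype.val h)
    exact Prod.ext h1 (Prod.ext h2 h3)
  · obtain ⟨x, y, a, h⟩ := exists_el M.2
    exact ⟨(x, y, a), Subtype.ext h.symm⟩

/-- The standard Sylow subgroup of `Qd(p)`. -/
noncomputable def stdSylow : Sylow p ↥(Cfsg.qdOver (ZMod p)) :=
  Sylow.ofCard (std p) (by
    haveI : CharP (ZMod p) p := ZMod.charP p
    rw [card_std, LocalEven61.card_qdOver, Nat.factorization_mul (pow_ne_zero _ Nat.card_pos.ne') Nat.card_pos.ne',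
      Finsupp.add_apply, LocalEven61.factorization_card_SL2, Nat.card_zmod,
      Nat.factorization_pow, Finsupp.smul_apply, (Fact.out : p.Prime).factorization, Finsupp.single_eq_same]
    rfl)

/-- The automorphism of the standard Sylow subgroup exchanging the two abelian maximal subgroups. -/
theorem exists_swap : ∃ σ : ↥(std p) ≃* ↥(std p), ∀ x y a,
    (σ ⟨el x y a, el_mem x y a⟩ : ↥(Cfsg.qdOver (ZMod p))) = el (-x + y * a) (-a) (-y) := by
  classical
  let e : ZMod p × ZMod p × ZMod p ≃ ↥(std p) := Equiv.ofBijective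
    (fun v => (⟨el v.1 v.2.1 v.2.2, el_mem _ _ _⟩ : ↥(std p)))
    ⟨fun v w h => by
      obtain ⟨h1, h2, h3⟩ := el_inj (congrArg Subtype.val h)
      exact Prod.ext h1 (Prod.ext h2 h3),
    fun M => by
      obtain ⟨x, y, a, h⟩ := exists_el M.2
      exact ⟨(x, y, a), Subtype.ext h.symm⟩⟩
  let f : ↥(std p) → ↥(std p) := fun M =>
    e (-(e.symm M).1 + (e.symm M).2.1 * (e.symm M).2.2, -(e.symm M).2.2, -(e.symm M).2.1)
  have hf : ∀ x y a, f ⟨el x y a, el_mem x y a⟩ = ⟨el (-x + y * a) (-a) (-y), el_mem _ _ _⟩ := by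
    intro x y a
    have : e.symm ⟨el x y a, el_mem x y a⟩ = (x, y, a) := e.symm_apply_eq.2 rfl
    show e _ = _
    rw [this]; rfl
  refine ⟨{ toFun := f, invFun := f, left_inv := ?_, right_inv := ?_, map_mul' := ?_ },
    fun x y a => congrArg Subtype.val (hf x y a)⟩
  all_goals intro M
  · obtain ⟨⟨x, y, a⟩, rfl⟩ := e.surjective M
    show f (f ⟨el x y a, el_mem x y a⟩) = _
    rw [hf, hf]
    apply Subtype.ext
    show el _ _ _ = el x y a
    congr 1 <;> ring
  · obtain ⟨⟨x, y, a⟩, rfl⟩ := e.surjective M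
    show f (f ⟨el x y a, el_mem x y a⟩) = _
    rw [hf, hf]
    apply Subtype.ext
    show el _ _ _ = el x y a
    congr 1 <;> ring
  · intro N
    obtain ⟨⟨x, y, a⟩, rfl⟩ := e.surjective M
    obtain ⟨⟨x', y', a'⟩, rfl⟩ := e.surjective N
    show f (⟨el x y a, el_mem x y a⟩ * ⟨el x' y' a', el_mem x' y' a'⟩) = _
    have hm : (⟨el x y a, el_mem x y a⟩ : ↥(std p)) * ⟨el x' y' a', el_mem x' y' a'⟩ =
        ⟨el (x + x' + a * y') (y + y') (a + a'), el_mem _ _ _⟩ := Subtype.ext (el_mul ..)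
    rw [hm, hf]
    show _ = f ⟨el x y a, el_mem x y a⟩ * f ⟨el x' y' a', el_mem x' y' a'⟩
    rw [hf, hf]
    apply Subtype.ext
    show _ = el _ _ _ * el _ _ _
    rw [el_mul]
    congr 1 <;> ring

theorem normalizer_le_std (T : Subgroup ↥(std p)) (hT : T ≠ ⊥) [T.Characteristic] :
    Subgroup.normalizer ((T.map (std p).subtype : Subgroup _) : Set ↥(Cfsg.qdOver (ZMod p))) ≤
      Subgroup.normalizer ((std p : Subgroup _) : Set ↥(Cfsg.qdOver (ZMod p))) := by
  set U := T.map (std p).subtype with hU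
  have hUle : U ≤ std p := Subgroup.map_subtype_le _
  have hmem : ∀ (M : ↥(Cfsg.qdOver (ZMod p))) (h : M ∈ std p), M ∈ U ↔ (⟨M, h⟩ : ↥(std p)) ∈ T :=
    fun M h => Subgroup.mem_map_iff_mem (std p).subtype_injective (x := ⟨M, h⟩)
  have hnorm : ∀ M ∈ U, ∀ N ∈ std p, M * N * M⁻¹ * N⁻¹ ∈ U := by
    intro M hM N hN
    have h1 : (⟨N, hN⟩ : ↥(std p)) * ⟨M, hUle hM⟩⁻¹ * ⟨N, hN⟩⁻¹ ∈ T :=
      (inferInstance : T.Normal).conj_mem _ (inv_mem ((hmem M (hUle hM)).1 hM)) _
    have h2 := (hmem _ (mul_mem (mul_mem hN (inv_mem (hUle hM))) (inv_mem hN))).2 h1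
    simpa [mul_assoc] using mul_mem hM h2
  have hcomm : ∀ x y a x' y' a' : ZMod p, el x y a ∈ U → el (a * y' - a' * y) 0 0 ∈ U := by
    intro x y a x' y' a' h
    have h1 := hnorm _ h _ (el_mem x' y' a')
    have h2 : el x y a * el x' y' a' = el (a * y' - a' * y) 0 0 * (el x' y' a' * el x y a) := by
      rw [el_mul, el_mul, el_mul]; congr 1 <;> ring
    rw [h2] at h1
    simpa [mul_assoc] using h1
  obtain ⟨t, ht, hU1⟩ : ∃ t : ZMod p, t ≠ 0 ∧ el t 0 0 ∈ U := by
    obtain ⟨M, hM, hM1⟩ : ∃ M ∈ U, M ≠ 1 := by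
      by_contra! hall
      exact hT ((Subgroup.eq_bot_iff_forall _).2 fun M hM =>
        Subtype.ext (hall M (Subgroup.mem_map_of_mem _ hM)))
    obtain ⟨x, y, a, rfl⟩ := exists_el (hUle hM)
    by_cases ha : a = 0
    · by_cases hy : y = 0
      · subst ha hy
        exact ⟨x, fun hx => hM1 (by rw [hx, el_zero]), hM⟩
      · exact ⟨-y, neg_ne_zero.2 hy, by simpa [ha] using hcomm x y a 0 0 1 hM⟩
    · exact ⟨a, ha, by simpa using hcomm x y a 0 1 0 hM⟩
  have hZ : ∀ x, el x 0 0 ∈ U := fun x => by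
    simpa [div_mul_cancel₀ _ ht] using el_smul_mem hU1 (x / t)
  by_cases hV : ∃ x y, y ≠ 0 ∧ el x y 0 ∈ U
  · obtain ⟨x, y, hy, hxy⟩ := hV
    have hall : ∀ u v, el u v 0 ∈ U := by
      intro u v
      have := mul_mem (hZ (u - v / y * x)) (el_smul_mem hxy (v / y))
      rwa [el_mul, div_mul_cancel₀ _ hy, zero_mul, add_zero, sub_add_cancel, zero_add, add_zero] at this
    obtain ⟨σ, hσ⟩ := exists_swap (p := p)
    have hstd : U = std p := by
      refine le_antisymm hUle fun M hM => ?_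
      obtain ⟨u, v, a, rfl⟩ := exists_el hM
      have h1 : σ ⟨el 0 (-a) 0, el_mem _ _ _⟩ ∈ T := by
        have := Subgroup.characteristic_iff_comap_eq.1 (inferInstance : T.Characteristic) σ
        have h0 := (hmem _ (el_mem _ _ _)).1 (hall 0 (-a))
        rw [← this] at h0
        exact h0
      have h2 := mul_mem (hall u v) (Subgroup.mem_map_of_mem (std p).subtype h1)
      rw [Subgroup.coe_subtype, hσ, el_mul] at h2
      simpa using h2
    rw [hstd]
  · intro g hg
    push Not at hV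
    have h1 := ((Subgroup.mem_normalizer_iff.1 hg) (el 1 0 0)).1 (hZ 1)
    rw [el, PLocalB.upper_zero, LocalEven61.qd_conj_ker] at h1
    set w := (qdLin g : Matrix (Fin 2) (Fin 2) (ZMod p)).mulVec ![1, 0] with hw
    have h2 : qdAff w 1 = el (w 0) (w 1) 0 := by
      rw [el, PLocalB.upper_zero]; congr 1; funext i; fin_cases i <;> simp
    rw [h2] at h1
    have h3 : w 1 = 0 := by
      by_contra hne
      exact hV _ _ hne h1
    rw [hw, LocalEven61.sl2_smul_apply] at h3
    have hn := LocalEven61.borel_normalizes (A := qdLin g) (by simpa using h3)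
    refine Subgroup.mem_normalizer_iff.2 fun M => ?_
    simp only [std, Subgroup.mem_comap, map_mul, map_inv]
    exact (Subgroup.mem_normalizer_iff.1 hn) _

theorem std_not_normal : Subgroup.normalizer ((std p : Subgroup _) : Set ↥(Cfsg.qdOver (ZMod p))) ≠ ⊤ := by
  intro h
  let w : Matrix.SpecialLinearGroup (Fin 2) (ZMod p) := ⟨!![0, -1; 1, 0], by simp [Matrix.det_fin_two]⟩
  have h1 : qdAff 0 w ∈ Subgroup.normalizer ((std p : Subgroup _) : Set ↥(Cfsg.qdOver (ZMod p))) := by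
    rw [h]; trivial
  have h2 : w ∈ Subgroup.normalizer (upperGroup (ZMod p) : Set (Matrix.SpecialLinearGroup (Fin 2) (ZMod p))) := by
    refine Subgroup.mem_normalizer_iff.2 fun A => ?_
    have := (Subgroup.mem_normalizer_iff.1 h1) (qdAff 0 A)
    simpa [std, LocalEven61.qdLin_qdAff] using this
  simpa [w] using LocalEven61.lower_zero_of_normalizes h2

/-- The statement, for `qdOver (ZMod p)`. -/
theorem main (S : Sylow p ↥(Cfsg.qdOver (ZMod p)))
    (T : Subgroup ↥(S : Subgroup ↥(Cfsg.qdOver (ZMod p)))) (hT : T ≠ ⊥) (hTc : T.Characteristic) :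
    Subgroup.normalizer ((T.map (S : Subgroup ↥(Cfsg.qdOver (ZMod p))).subtype : Subgroup _) : Set ↥(Cfsg.qdOver (ZMod p))) =
      Subgroup.normalizer ((S : Subgroup ↥(Cfsg.qdOver (ZMod p))) : Set ↥(Cfsg.qdOver (ZMod p))) ∧
    Subgroup.normalizer ((S : Subgroup ↥(Cfsg.qdOver (ZMod p))) : Set ↥(Cfsg.qdOver (ZMod p))) ≠ ⊤ := by
  obtain ⟨g, hg⟩ := MulAction.exists_smul_eq ↥(Cfsg.qdOver (ZMod p)) S stdSylow
  set c : ↥(Cfsg.qdOver (ZMod p)) ≃* ↥(Cfsg.qdOver (ZMod p)) := MulAut.conj g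
  have hmap : (S : Subgroup ↥(Cfsg.qdOver (ZMod p))).map c.toMonoidHom = std p := by
    rw [← LocalEven61.sylow_smul_coe, hg]; rfl
  let e : ↥(S : Subgroup ↥(Cfsg.qdOver (ZMod p))) ≃* ↥(std p) :=
    ((S : Subgroup ↥(Cfsg.qdOver (ZMod p))).equivMapOfInjective c.toMonoidHom c.injective).trans
      (MulEquiv.subgroupCongr hmap)
  let T0 : Subgroup ↥(std p) := T.map e.toMonoidHom
  haveI : T0.Characteristic := Subgroup.characteristic_iff_map_eq.2 fun φ => by
    have h1 := Subgroup.characteristic_iff_map_eq.1 hTc ((e.trans φ).trans e.symm)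
    conv_rhs => rw [show T0 = T.map e.toMonoidHom from rfl, ← h1, Subgroup.map_map]
    rw [show T0 = T.map e.toMonoidHom from rfl, Subgroup.map_map]
    congr 1
    ext x
    simp
  have hT0 : T0 ≠ ⊥ := fun h => hT ((Subgroup.map_eq_bot_iff_of_injective T e.injective).1 h)
  have hkey := normalizer_le_std T0 hT0
  have hT0' : T0.map (std p).subtype =
      (T.map (S : Subgroup ↥(Cfsg.qdOver (ZMod p))).subtype).map c.toMonoidHom := by
    rw [show T0 = T.map e.toMonoidHom from rfl, Subgroup.map_map, Subgroup.map_map]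
    congr 1
  rw [hT0', ← hmap, ← Subgroup.map_equiv_normalizer_eq, ← Subgroup.map_equiv_normalizer_eq,
    Subgroup.map_le_map_iff_of_injective c.injective] at hkey
  refine ⟨le_antisymm hkey ?_, fun h => std_not_normal (p := p) ?_⟩
  · intro x hx
    refine Subgroup.mem_normalizer_iff.2 fun y => ?_
    haveI : T.Characteristic := hTc
    let ψ : ↥(S : Subgroup ↥(Cfsg.qdOver (ZMod p))) ≃* ↥(S : Subgroup ↥(Cfsg.qdOver (ZMod p))) :=
      ((MulAut.conj x).subgroupMap _).trans (MulEquiv.subgroupCongr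
        (LocalEven61.map_conj_of_mem_normalizer' hx))
    have h1 := Subgroup.characteristic_iff_comap_eq.1 hTc ψ
    constructor
    · rintro ⟨t, ht, rfl⟩
      refine ⟨ψ t, ?_, rfl⟩
      have : t ∈ T.comap ψ.toMonoidHom := by rw [h1]; exact ht
      exact this
    · rintro ⟨t, ht, ht'⟩
      refine ⟨ψ.symm t, ?_, ?_⟩
      · have : ψ.symm t ∈ T.comap ψ.toMonoidHom := by
          rw [Subgroup.mem_comap]; simpa using ht
        rwa [h1] at this
      · have e1 : (ψ (ψ.symm t) : ↥(Cfsg.qdOver (ZMod p))) = x * (ψ.symm t : ↥(Cfsg.qdOver (ZMod p))) * x⁻¹ := rfl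
        rw [ψ.apply_symm_apply] at e1
        rw [Subgroup.coe_subtype] at ht' ⊢
        rw [e1] at ht'
        exact mul_left_cancel (mul_right_cancel ht')
  · rw [← hmap, ← Subgroup.map_equiv_normalizer_eq, h, Subgroup.map_top_of_surjective _ c.surjective]

/-- In the group Qd(p) (p prime; the natural semidirect product of an elementary abelian group of order p² by SL₂(p)), the normalizer of every nontrivial characteristic subgroup of a Sylow p-subgroup S equals the normalizer of S, which is a proper subgroup; in particular no such characteristic subgroup is normal. -/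
theorem result {p : ℕ} [Fact p.Prime] (S : Sylow p ↥(Cfsg.qd p)) (T : Subgroup ↥(S : Subgroup ↥(Cfsg.qd p))) (hT : T ≠ ⊥) (hTc : T.Characteristic) : Subgroup.normalizer ((T.map (S : Subgroup ↥(Cfsg.qd p)).subtype : Subgroup ↥(Cfsg.qd p)) : Set ↥(Cfsg.qd p)) = Subgroup.normalizer ((S : Subgroup ↥(Cfsg.qd p)) : Set ↥(Cfsg.qd p)) ∧ Subgroup.normalizer ((S : Subgroup ↥(Cfsg.qd p)) : Set ↥(Cfsg.qd p)) ≠ ⊤ := main S T hT hTc

end Cfsg.Agent.S2763
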