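import Cfsg.Statements.S2824
import Cfsg.Agent.LocalEven62.PReducedMax

set_option autoImplicit false
open Cfsg
open scoped commutatorElement

namespace Cfsg.Agent.S2824

/-- Let H be a finite group, p a prime, T a Sylow p-subgroup, L and M subgroups of characteristic p containing T, Y_L the largest p-reduced normal subgroup of L and T₀ = C_T(Y_L). If M·C_H(Y_L) = L·C_H(Y_L), then L* := N_M(T₀) has Y_{L*} = Y_L and L·C_H(Y_L) = L*·C_H(Y_L). -/
theorem result {H : Type*} [Group H] [Finite H] {p : ℕ} [Fact p.Prime] (T : Sylow p H) (L M : Subgroup H) (hTL : (T : Subgroup H) ≤ L) (hTM : (T : Subgroup H) ≤ M) (hL : Subgroup.centralizer (Cfsg.pCore p ↥L : Set ↥L) ≤ Cfsg.pCore p ↥L) (hM : Subgroup.centralizer (Cfsg.pCore p ↥M : Set ↥M) ≤ Cfsg.pCore p ↥M) (T₀ : Subgroup H) (hT₀ : T₀ = (T : Subgroup H) ⊓ Subgroup.centralizer (((Cfsg.largestPReducedOf p L) : Subgroup H) : Set H)) (hfac : M ⊔ Subgroup.centralizer (((Cfsg.largestPReducedOf p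 L) : Subgroup H) : Set H) = L ⊔ Subgroup.centralizer (((Cfsg.largestPReducedOf p L) : Subgroup H) : Set H)) (Ls : Subgroup H) (hLs : Ls = M ⊓ Subgroup.normalizer ((T₀ : Subgroup H) : Set H)) : (Cfsg.largestPReducedOf p Ls) = (Cfsg.largestPReducedOf p L) ∧ L ⊔ Subgroup.centralizer (((Cfsg.largestPReducedOf p L) : Subgroup H) : Set H) = Ls ⊔ Subgroup.centralizer (((Cfsg.largestPReducedOf p L) : Subgroup H) : Set H) := by
  set Y := Cfsg.largestPReducedOf p L with hY
  set C : Subgroup H := Subgroup.centralizer (Y : Set H)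
  have hYr : LocalEven62.PRed p Y L := LocalEven62.pRed_yOf L
  have hLY := hYr.le_normalizer
  have hLc : LocalEven62.CharP p L := LocalEven62.charP_iff.2 hL
  have hTs : LocalEven62.IsSyl p (T : Subgroup H) L := LocalEven62.IsSyl.sylow_of_le T hTL
  have hMY : M ≤ Subgroup.normalizer (Y : Set H) := (le_sup_left.trans hfac.le).trans
    (sup_le hLY (LocalEven62.centralizer_le_normalizer' Y))
  have hMC : M ≤ Subgroup.normalizer (C : Set H) :=
    hMY.trans (LocalEven62.normalizer_le_normalizer_centralizer Y)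
  have hMCn : M ≤ Subgroup.normalizer ((M ⊓ C : Subgroup H) : Set H) :=
    LocalEven62.le_normalizer_inf Subgroup.le_normalizer hMC
  have hs : LocalEven62.IsSyl p T₀ (M ⊓ C) := by
    have := (LocalEven62.IsSyl.sylow_of_le T hTM).inf_normal (N := M ⊓ C) inf_le_left hMCn
    rwa [← inf_assoc, inf_eq_left.2 hTM, ← hT₀] at this
  have hM' : Ls ⊔ (M ⊓ C) = M := hLs ▸ hs.le_sup inf_le_left hMCn
  have hLsC : L ⊔ C = Ls ⊔ C := by
    rw [← hfac]
    conv_lhs => rw [← hM']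
    rw [sup_assoc, sup_eq_right.2 (inf_le_right : M ⊓ C ≤ C)]
  refine ⟨?_, hLsC⟩
  have hTLs : (T : Subgroup H) ≤ Ls := by
    rw [hLs, hT₀]
    exact le_inf hTM (LocalEven62.le_normalizer_inf Subgroup.le_normalizer
      ((hTL.trans hLY).trans (LocalEven62.normalizer_le_normalizer_centralizer Y)))
  have hYT : Y ≤ (T : Subgroup H) := LocalEven62.yOf_le_syl hTs
  have hLsM : Ls ≤ M := hLs ▸ inf_le_left
  have hYLs : Y ≤ LocalEven62.yOf p Ls :=
    LocalEven62.le_yOf (hYr.transfer (hYT.trans hTLs) (hLsM.trans hMY) hLsC.symm)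
  refine le_antisymm ?_ hYLs
  obtain ⟨-, -, homz⟩ := LocalEven62.omZ_structure hLc hTs T₀ hT₀
  refine le_of_le_of_eq ?_ homz.symm
  have hT0T : T₀ ≤ (T : Subgroup H) := hT₀ ▸ inf_le_left
  have hT0O : T₀ ≤ Cfsg.pCoreOf p Ls := LocalEven62.le_pCoreOf hs.isPGroup (hT0T.trans hTLs)
    (hLs ▸ inf_le_right)
  intro y hy
  have hyc : ∀ t ∈ T₀, Commute y t := fun t ht =>
    ((LocalEven62.pRed_yOf Ls).commute_of_mem (hT0O ht) hy).symm
  have hOT0 : Cfsg.pCoreOf p L ≤ T₀ := hT₀ ▸ le_inf hTs.pCoreOf_le hYr.pCoreOf_le_centralizer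
  refine LocalEven62.mem_omZ.2 ⟨hOT0 (hLc ⟨?_, ?_⟩), LocalEven62.mem_centralizer_iff_commute.2 hyc,
    (LocalEven62.pRed_yOf Ls).elAb.2 y hy⟩
  · exact hTL (LocalEven62.yOf_le_syl (LocalEven62.IsSyl.sylow_of_le T hTLs) hy)
  · exact LocalEven62.mem_centralizer_iff_commute.2 fun o ho => hyc o (hOT0 ho)

end Cfsg.Agent.S2824
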