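import Cfsg.Statements.S1952
import Mathlib.RingTheory.Coprime.Lemmas
import Mathlib.RingTheory.PrincipalIdealDomain
import Mathlib.RingTheory.Int.Basic
import Mathlib.GroupTheory.Perm.Basic
import Mathlib.GroupTheory.GroupAction.Quotient
import Mathlib.GroupTheory.PGroup
import Mathlib.NumberTheory.Padics.PadicVal.Basic
import Mathlib.Data.ZMod.Basic
import Mathlib.Algebra.Field.ZMod

set_option autoImplicit false
open Cfsg
open scoped Pointwise

namespace Cfsg.Agent.S1952

theorem pow_val_add {V : Type*} [Monoid V] {p : ℕ} [NeZero p] {v : V} (hv : v ^ p = 1) (a b : ZMod p) :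
    v ^ (a + b).val = v ^ a.val * v ^ b.val := by
  rw [← pow_add, ZMod.val_add, ← pow_eq_pow_mod _ hv]

/-- A periodic sequence with nontrivial product spans `p ^ p` elements, given shift invariance. -/
theorem free_orbit {V : Type*} [CommGroup V] [Finite V] {p : ℕ} [hp : Fact p.Prime] (hV : ∀ v : V, v ^ p = 1)
    (σ : V →* V) (x : ZMod p → V) (hσ : ∀ i, σ (x i) = x (i + 1)) (hN : ∏ i, x i ≠ 1) :
    p ^ p ≤ Nat.card V := by
  classical
  let Ψ : (ZMod p → ZMod p) → V := fun c => ∏ i, x i ^ (c i).val
  have hadd : ∀ c d, Ψ (c + d) = Ψ c * Ψ d := fun c d => by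
    simp only [Ψ, Pi.add_apply, pow_val_add (hV _), Finset.prod_mul_distrib]
  have hΨ0 : Ψ 0 = 1 := by simp [Ψ]
  let I : AddSubgroup (ZMod p → ZMod p) :=
    { carrier := {c | Ψ c = 1}
      zero_mem' := hΨ0
      add_mem' := fun {c d} (hc : Ψ c = 1) (hd : Ψ d = 1) => by
        show Ψ (c + d) = 1
        rw [hadd, hc, hd, one_mul]
      neg_mem' := fun {c} (hc : Ψ c = 1) => by
        have h := hadd c (-c)
        rw [add_neg_cancel, hΨ0, hc, one_mul] at h
        exact h.symm }
  have hshift1 : ∀ c ∈ I, (fun i => c (i - 1)) ∈ I := by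
    intro c (hc : Ψ c = 1)
    show Ψ _ = 1
    have : σ (Ψ c) = Ψ (fun i => c (i - 1)) := by
      simp only [Ψ, map_prod, map_pow, hσ]
      exact Fintype.prod_equiv (Equiv.addRight (1 : ZMod p)) _ _ (fun i => by simp)
    rw [← this, hc, map_one]
  have hshift : ∀ (k : ZMod p), ∀ c ∈ I, (fun i => c (i - k)) ∈ I := by
    intro k
    suffices ∀ n : ℕ, ∀ c ∈ I, (fun i => c (i - (n : ZMod p))) ∈ I by
      simpa using this k.val
    intro n
    induction n with
    | zero => intro c hc; simpa using hc
    | succ n ih =>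
      intro c hc
      have := hshift1 _ (ih c hc)
      simpa [Nat.cast_succ, sub_sub, add_comm] using this
  letI : MulAction (Multiplicative (ZMod p)) I :=
    { smul := fun k c => ⟨fun i => (c : ZMod p → ZMod p) (i - k.toAdd), hshift _ _ c.2⟩
      one_smul := fun c => Subtype.ext (funext fun i => by
        show (c : ZMod p → ZMod p) (i - 0) = _
        rw [sub_zero])
      mul_smul := fun k l c => Subtype.ext (funext fun i => by
        show (c : ZMod p → ZMod p) (i - (k.toAdd + l.toAdd)) = (c : ZMod p → ZMod p) (i - k.toAdd - l.toAdd)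
        rw [sub_sub]) }
  have hker : I = ⊥ := by
    by_contra hI
    have hP : IsPGroup p (Multiplicative (ZMod p)) := IsPGroup.of_card (n := 1) (by simp)
    have hdvd : p ∣ Nat.card I := by
      have h1 : Nat.card I ∣ p ^ p := by
        have := I.card_addSubgroup_dvd_card
        simpa using this
      obtain ⟨k, -, hk⟩ := (Nat.dvd_prime_pow hp.out).mp h1
      rcases k with _ | k
      · exact absurd (AddSubgroup.eq_bot_of_card_eq I (by simpa using hk)) hI
      · exact hk ▸ dvd_pow_self p k.succ_ne_zero
    have h0 : (0 : I) ∈ MulAction.fixedPoints (Multiplicative (ZMod p)) I :=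
      fun k => Subtype.ext (funext fun i => rfl)
    obtain ⟨c, hc, hc0⟩ := hP.exists_fixed_point_of_prime_dvd_card_of_fixed_point I hdvd h0
    have hconst : ∀ i, (c : ZMod p → ZMod p) i = (c : ZMod p → ZMod p) 0 := fun i => by
      have := congrArg (fun e : I => (e : ZMod p → ZMod p) i) (hc (Multiplicative.ofAdd i))
      change (c : ZMod p → ZMod p) (i - i) = (c : ZMod p → ZMod p) i at this
      rw [sub_self] at this
      exact this.symm
    set a := (c : ZMod p → ZMod p) 0 with ha
    have ha0 : a ≠ 0 := fun h => hc0 (Subtype.ext (funext fun i => by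
      rw [hconst i, h]; rfl)).symm
    apply hN
    have h1 : (∏ i, x i) ^ a.val = 1 := by
      have := c.2
      change ∏ i, x i ^ ((c : ZMod p → ZMod p) i).val = 1 at this
      simp only [hconst] at this
      rwa [Finset.prod_pow] at this
    refine orderOf_eq_one_iff.mp (Nat.eq_one_of_dvd_coprimes ?_ (orderOf_dvd_of_pow_eq_one h1)
      (orderOf_dvd_of_pow_eq_one (hV _)))
    exact ((hp.out.coprime_iff_not_dvd).mpr fun h => ha0 ((ZMod.val_eq_zero a).mp
      (Nat.eq_zero_of_dvd_of_lt h a.val_lt))).symm
  have hinj : Function.Injective Ψ := by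
    intro c d hcd
    have : c - d ∈ I := by
      show Ψ (c - d) = 1
      have h := hadd (c - d) d
      rw [sub_add_cancel, hcd] at h
      exact mul_eq_right.mp h.symm
    rw [hker, AddSubgroup.mem_bot, sub_eq_zero] at this
    exact this
  have := Nat.card_le_card_of_injective Ψ hinj
  simpa using this

/-- Let P be a finite p-group with a normal elementary abelian subgroup A of index p, and let x ∈ A and y ∈ P with y outside A. If the product of the p conjugates y^(-i) x y^i (i = 0, …, p−1) is not the identity, then the wreath product Z_p ≀ Z_p, realised as a Sylow p-subgroup of the symmetric group of degree p², is a homomorphic image of P. -/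
theorem result {P : Type*} [Group P] [Finite P] {p : ℕ} [Fact p.Prime] (hP : IsPGroup p P) (A : Subgroup P) [A.Normal]
    (hA : Cfsg.IsElementaryAbelian p A) (hidx : A.index = p) (x y : P) (hx : x ∈ A) (hy : y ∉ A)
    (hprod : ((List.range p).map (fun i => (y ^ i)⁻¹ * x * y ^ i)).prod ≠ 1) :
    ∃ (Q : Sylow p (Equiv.Perm (Fin (p ^ 2)))) (f : P →* ↥(Q : Subgroup (Equiv.Perm (Fin (p ^ 2))))), Function.Surjective f := by
  classical
  have hp := (Fact.out : p.Prime)
  haveI hAc : IsMulCommutative A := hA.1
  have hcommA : ∀ a ∈ A, ∀ b ∈ A, a * b = b * a := fun a ha b hb =>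
    congrArg Subtype.val (hAc.is_comm.comm (⟨a, ha⟩ : A) ⟨b, hb⟩)
  -- the conjugates
  set xs : ℕ → P := fun n => (y ^ n)⁻¹ * x * y ^ n with hxs
  have hxsA : ∀ n, xs n ∈ A := fun n => by
    simpa [hxs] using (inferInstance : A.Normal).conj_mem x hx (y ^ n)⁻¹
  have hyp : y ^ p ∈ A := by
    have := Subgroup.pow_index_mem A y
    rwa [hidx] at this
  have hper : ∀ n, xs (n + p) = xs n := fun n => by
    have hc : y ^ p * x = x * y ^ p := hcommA _ hyp _ hx
    simp only [hxs]
    rw [add_comm n p, pow_add, mul_inv_rev,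
      show (y ^ n)⁻¹ * (y ^ p)⁻¹ * x * (y ^ p * y ^ n) = (y ^ n)⁻¹ * ((y ^ p)⁻¹ * (x * y ^ p)) * y ^ n by group,
      ← hc, inv_mul_cancel_left]
  have hmod : ∀ n, xs n = xs (n % p) := fun n => by
    conv_lhs => rw [← Nat.mod_add_div n p]
    induction n / p with
    | zero => simp
    | succ k ih => rw [mul_add, mul_one, ← add_assoc, hper, ih]
  set N := ((List.range p).map xs).prod with hNdef
  have hN1 : N ≠ 1 := hprod
  have hNA : N ∈ A := Subgroup.list_prod_mem _ (by
    intro a ha; obtain ⟨n, -, rfl⟩ := List.mem_map.mp ha; exact hxsA n)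
  -- a hyperplane of `A` avoiding `N`
  obtain ⟨B, ⟨hBA, hNB⟩, hBmax⟩ :=
    (Set.toFinite {B : Subgroup P | B ≤ A ∧ N ∉ B}).exists_maximal ⟨⊥, bot_le, by simpa using hN1⟩
  have hNord : orderOf N = p := orderOf_eq_prime (hA.2 N hNA) hN1
  have hBN : B ⊔ Subgroup.zpowers N = A := by
    refine le_antisymm (sup_le hBA (by simpa [Subgroup.zpowers_le] using hNA)) fun a ha => ?_
    by_cases haB : a ∈ B
    · exact Subgroup.mem_sup_left haB
    · have hN' : N ∈ B ⊔ Subgroup.zpowers a := by
        by_contra h
        have hle : B ≤ B ⊔ Subgroup.zpowers a := le_sup_left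
        have := hBmax ⟨sup_le hBA (by simpa [Subgroup.zpowers_le] using ha), h⟩ hle
        exact haB (this (Subgroup.mem_sup_right (Subgroup.mem_zpowers a)))
      have hBn : (Subgroup.zpowers a) ≤ Subgroup.normalizer (B : Set P) := by
        rw [Subgroup.zpowers_le, Subgroup.mem_normalizer_iff]
        intro b
        constructor
        · intro hb; rw [hcommA a ha b (hBA hb), mul_inv_cancel_right]; exact hb
        · intro hb
          have : b = a⁻¹ * (a * b * a⁻¹) * a := by group
          rw [this, hcommA _ (A.inv_mem ha) _ (hBA hb), mul_assoc, inv_mul_cancel, mul_one]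
          exact hb
      have hN'' : N ∈ (B : Set P) * (Subgroup.zpowers a : Set P) := by
        rw [← Subgroup.coe_mul_of_right_le_normalizer_left B _ hBn]; exact hN'
      obtain ⟨b, hb, c, hc, hbc⟩ := Set.mem_mul.mp hN''
      obtain ⟨k, rfl⟩ := Subgroup.mem_zpowers_iff.mp hc
      have hkc : ¬ (p : ℤ) ∣ k := by
        rintro ⟨l, rfl⟩
        apply hNB
        rw [← hbc, zpow_mul, zpow_natCast, hA.2 a ha, one_zpow, mul_one]; exact hb
      obtain ⟨i, j, hij⟩ : IsCoprime (p : ℤ) k :=
        (Irreducible.coprime_iff_not_dvd (Nat.prime_iff_prime_int.mp hp).irreducible).mpr hkc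
      have hak : a ^ k = b⁻¹ * N := by rw [← hbc, inv_mul_cancel_left]
      have : a = (a ^ k) ^ j := by
        rw [← zpow_mul]
        have e : k * j = 1 - (p : ℤ) * i := by linarith
        rw [e, zpow_sub, zpow_one, zpow_mul, zpow_natCast, hA.2 a ha, one_zpow, inv_one, mul_one]
      rw [this, hak]
      exact Subgroup.zpow_mem _ (Subgroup.mul_mem _ (Subgroup.mem_sup_left (B.inv_mem hb))
        (Subgroup.mem_sup_right (Subgroup.mem_zpowers N))) j
  have hrel : B.relIndex A = p := by
    have hdisj : B ⊓ Subgroup.zpowers N = ⊥ := by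
      rw [eq_bot_iff]
      intro c hc
      obtain ⟨hc1, hc2⟩ := Subgroup.mem_inf.mp hc
      by_contra hne
      have h1 : Subgroup.zpowers c ≤ Subgroup.zpowers N := by rwa [Subgroup.zpowers_le]
      have h2 : Subgroup.zpowers c = Subgroup.zpowers N := by
        refine Subgroup.eq_of_le_of_card_ge h1 ?_
        rw [Nat.card_zpowers, Nat.card_zpowers, hNord]
        have := orderOf_eq_prime (hA.2 c (hBA hc1)) hne
        omega
      exact hNB (by
        have h3 : N ∈ Subgroup.zpowers c := h2 ▸ Subgroup.mem_zpowers N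
        exact (Subgroup.zpowers_le.mpr hc1) h3)
    haveI hBn' : (B.subgroupOf A).Normal := ⟨fun b hb a => by
      have : a * b * a⁻¹ = b := Subtype.ext (by
        show (a : P) * b * (a : P)⁻¹ = b
        rw [hcommA a a.2 b b.2, mul_inv_cancel_right])
      rw [this]; exact hb⟩
    have htop : B.subgroupOf A ⊔ Subgroup.zpowers (⟨N, hNA⟩ : A) = ⊤ := by
      apply Subgroup.map_injective A.subtype_injective
      rw [Subgroup.map_sup, Subgroup.map_subgroupOf_eq_of_le hBA, MonoidHom.map_zpowers,
        ← MonoidHom.range_eq_map, Subgroup.range_subtype]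
      exact hBN
    have hbot : B.subgroupOf A ⊓ Subgroup.zpowers (⟨N, hNA⟩ : A) = ⊥ := by
      apply Subgroup.map_injective A.subtype_injective
      rw [Subgroup.map_inf _ _ _ A.subtype_injective, Subgroup.map_subgroupOf_eq_of_le hBA,
        MonoidHom.map_zpowers, Subgroup.map_bot]
      exact hdisj
    show (B.subgroupOf A).index = p
    rw [← Subgroup.relIndex_top_right, ← htop, Subgroup.relIndex_sup_left, ← Subgroup.inf_relIndex_right,
      hbot, Subgroup.relIndex_bot_left, Nat.card_zpowers, Subgroup.orderOf_mk, hNord]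
  set K := B.normalCore with hK
  have hKA : K ≤ A := (Subgroup.normalCore_le B).trans hBA
  haveI : (K.subgroupOf A).Normal := Subgroup.Normal.subgroupOf (Subgroup.normalCore_normal B) A
  letI : CommGroup A := { (inferInstance : Group A) with mul_comm := fun a b => hAc.is_comm.comm a b }
  let V := A ⧸ K.subgroupOf A
  let c : A →* A := (((MulAut.conj y⁻¹).toMonoidHom.comp A.subtype).codRestrict A fun a => by
    simpa using (inferInstance : A.Normal).conj_mem a a.2 y⁻¹)
  let σ : V →* V := QuotientGroup.map _ _ c (fun a ha => by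
    have := (Subgroup.normalCore_normal B).conj_mem _ ha y⁻¹
    simpa [Subgroup.mem_subgroupOf, c] using this)
  let xv : ZMod p → V := fun i => QuotientGroup.mk' _ (⟨xs i.val, hxsA _⟩ : A)
  have hcard : p ^ p ≤ Nat.card V := by
    refine free_orbit ?_ σ xv ?_ ?_
    · intro v
      induction v using QuotientGroup.induction_on with | H a => ?_
      rw [← QuotientGroup.mk_pow]
      have : a ^ p = 1 := Subtype.ext (hA.2 a a.2)
      rw [this, QuotientGroup.mk_one]
    · intro i
      show σ (QuotientGroup.mk _) = QuotientGroup.mk _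
      rw [QuotientGroup.map_mk]
      congr 1
      apply Subtype.ext
      show y⁻¹ * xs i.val * y⁻¹⁻¹ = xs (i + 1).val
      rw [inv_inv, ZMod.val_add, ZMod.val_one, ← hmod]
      simp only [hxs, pow_succ, mul_inv_rev, mul_assoc]
    · intro h
      apply hNB
      have hprodA : (∏ i : ZMod p, (⟨xs i.val, hxsA _⟩ : A)) = ⟨N, hNA⟩ := by
        obtain ⟨m, rfl⟩ : ∃ m, p = m + 1 := ⟨p - 1, by have := hp.one_lt; omega⟩
        apply Subtype.ext
        show A.subtype (∏ i : Fin (m + 1), (⟨xs i.val, hxsA _⟩ : A)) = N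
        rw [← List.prod_ofFn, map_list_prod, hNdef, List.map_ofFn]
        congr 1
        apply List.ext_getElem
        · simp
        · intro k h1 h2
          simp only [List.getElem_ofFn, List.getElem_map, List.getElem_range, Function.comp_apply,
            Subgroup.coe_subtype]
      rw [← map_prod (QuotientGroup.mk' (K.subgroupOf A)), hprodA, QuotientGroup.mk'_apply,
        QuotientGroup.eq_one_iff, Subgroup.mem_subgroupOf] at h
      exact Subgroup.normalCore_le B h
  -- the permutation action on the cosets of `B`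
  have hBidx : Nat.card (P ⧸ B) = p ^ 2 := by
    show B.index = p ^ 2
    rw [← Subgroup.relIndex_mul_index hBA, hrel, hidx, sq]
  let e : (P ⧸ B) ≃ Fin (p ^ 2) := hBidx ▸ Finite.equivFin (P ⧸ B)
  let f₀ : P →* Equiv.Perm (Fin (p ^ 2)) := e.permCongrHom.toMonoidHom.comp (MulAction.toPermHom P (P ⧸ B))
  have hker : f₀.ker = K := by
    ext g
    rw [MonoidHom.mem_ker, hK, Subgroup.normalCore_eq_ker, MonoidHom.mem_ker]
    simp only [f₀, MonoidHom.coe_comp, Function.comp_apply, MulEquiv.coe_toMonoidHom,
      EmbeddingLike.map_eq_one_iff]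
  have hrange : IsPGroup p f₀.range := (hP.of_surjective f₀.rangeRestrict f₀.rangeRestrict_surjective)
  obtain ⟨Q, hQ⟩ := hrange.exists_le_sylow
  refine ⟨Q, f₀.codRestrict (Q : Subgroup _) (fun g => hQ ⟨g, rfl⟩), ?_⟩
  have heq : f₀.range = (Q : Subgroup _) := by
    refine Subgroup.eq_of_le_of_card_ge hQ ?_
    rw [Q.card_eq_multiplicity, ← Subgroup.index_ker, hker, Nat.card_eq_fintype_card (α := Equiv.Perm _), Fintype.card_perm, Fintype.card_fin,
      Nat.factorization_def _ hp]
    have hv : padicValNat p (p ^ 2).factorial = p + 1 := by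
      rw [sq, padicValNat_factorial_mul]
      have := padicValNat_factorial_mul (p := p) 1
      rw [mul_one] at this
      rw [this]; simp; ring
    rw [hv, ← Subgroup.relIndex_mul_index hKA, hidx, pow_succ]
    exact Nat.mul_le_mul_right p hcard
  intro q
  obtain ⟨g, hg⟩ : (q : Equiv.Perm _) ∈ f₀.range := by rw [heq]; exact q.2
  exact ⟨g, Subtype.ext hg⟩

end Cfsg.Agent.S1952
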