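import Cfsg.Statements.S0094
import Cfsg.Agent.Lib.PGroup.Basic
import Cfsg.Agent.Lib.PGroup.Commutator

set_option autoImplicit false
open Cfsg

namespace Cfsg.Agent.S0094

/-- In a special p-group every central element has order dividing p. -/
theorem result {P : Type*} [Group P] [Finite P] {p : ℕ} [Fact p.Prime] (h : Cfsg.IsSpecial p P) (z : P) (hz : z ∈ Subgroup.center P) : z ^ p = 1 := by
  open scoped commutatorElement in
  have hZ : commutator P = Subgroup.center P := h.2.2
  rw [← hZ, commutator_eq_closure] at hz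
  suffices z ^ p = 1 ∧ z ∈ Subgroup.center P from this.1
  induction hz using Subgroup.closure_induction with
  | mem c hc =>
    obtain ⟨a, b, rfl⟩ := mem_commutatorSet_iff.mp hc
    refine ⟨?_, hZ ▸ Subgroup.commutator_mem_commutator (Subgroup.mem_top a) (Subgroup.mem_top b)⟩
    have hap : a ^ p ∈ Subgroup.center P := h.2.1 ▸ Cfsg.Agent.PGroup.pow_mem_frattini h.1 a
    rw [← Cfsg.Agent.PGroup.comm_pow_left hZ.le a b p, commutatorElement_eq_one_iff_commute]
    exact Cfsg.Agent.PGroup.commute_of_mem_center hap b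
  | one => exact ⟨one_pow p, one_mem _⟩
  | mul a b _ _ ha hb =>
    refine ⟨?_, mul_mem ha.2 hb.2⟩
    rw [(Cfsg.Agent.PGroup.commute_of_mem_center ha.2 b).mul_pow, ha.1, hb.1, one_mul]
  | inv a _ ha => exact ⟨by rw [inv_pow, ha.1, inv_one], inv_mem ha.2⟩

end Cfsg.Agent.S0094
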