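import Cfsg.Statements.S1241
import Cfsg.Agent.TwoFusionB.TransferControl

set_option autoImplicit false
open Cfsg

namespace Cfsg.Agent.S1241

/-- Let G be a finite group, p a prime, H a subgroup of index prime to p, K a subgroup of H normal in H with H/K commutative, and g ∈ H ∖ K an element of p-power order such that for all integers m and all a ∈ G with a g^m a⁻¹ ∈ H one has a g^m a⁻¹ ∈ g^m K. Then g ∉ G'. -/
theorem result {G : Type*} [Group G] [Finite G] {p : ℕ} [Fact p.Prime] (H K : Subgroup G) (hHK : K ≤ H) (hKn : (K.subgroupOf H).Normal) (hab : ∀ x ∈ H, ∀ y ∈ H, x * y * x⁻¹ * y⁻¹ ∈ K) (hidx : Nat.Coprime p H.index) (g : G) (hgH : g ∈ H) (hgK : g ∉ K) (hgp : ∃ k : ℕ, orderOf g = p ^ k) (hctrl : ∀ (m : ℤ) (a : G), a * g ^ m * a⁻¹ ∈ H → (a * g ^ m * a⁻¹) * (g ^ m)⁻¹ ∈ K) : g ∉ commutator G := by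
  classical
  intro hgc
  set K' := K.subgroupOf H with hK'
  haveI : K'.Normal := hKn
  letI : CommGroup (H ⧸ K') :=
    { (inferInstance : Group (H ⧸ K')) with
      mul_comm := fun a b => by
        induction a using QuotientGroup.induction_on with
        | _ x =>
        induction b using QuotientGroup.induction_on with
        | _ y =>
        rw [← QuotientGroup.mk_mul, ← QuotientGroup.mk_mul, eq_comm, QuotientGroup.eq]
        show ((((y * x)⁻¹ * (x * y)) : H) : G) ∈ K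
        have h := hab (x : G)⁻¹ (inv_mem x.2) (y : G)⁻¹ (inv_mem y.2)
        simpa [mul_assoc] using h }
  set φ : H →* H ⧸ K' := QuotientGroup.mk' K' with hφ
  have hone : φ ⟨g, hgH⟩ = 1 := by
    refine TwoFusionB.map_eq_one_of_control φ Fact.out hidx hgH hgp ?_
      (Abelianization.commutator_subset_ker (MonoidHom.transfer φ) hgc)
    intro k g₀ hk
    have h := hctrl (k : ℤ) g₀⁻¹ (by simpa [zpow_natCast] using hk)
    rw [zpow_natCast, inv_inv] at h
    rw [hφ, ← map_pow, eq_comm]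
    apply QuotientGroup.eq.mpr
    show ((((⟨g, hgH⟩ : H) ^ k)⁻¹ * ⟨g₀⁻¹ * g ^ k * g₀, hk⟩ : H) : G) ∈ K
    push_cast
    have hx : g ^ k ∈ H := pow_mem hgH k
    have h2 := hKn.conj_mem ⟨g₀⁻¹ * g ^ k * g₀ * (g ^ k)⁻¹, hHK h⟩ h ⟨(g ^ k)⁻¹, inv_mem hx⟩
    rw [Subgroup.mem_subgroupOf] at h2
    simpa [mul_assoc] using h2
  exact hgK (show (⟨g, hgH⟩ : H) ∈ K' from (QuotientGroup.eq_one_iff _).mp hone)

end Cfsg.Agent.S1241
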