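import Cfsg.Statements.S2807
import Cfsg.Agent.LocalEven62.Yoshida
import Cfsg.Agent.LocalEven62.Action

set_option autoImplicit false
open Cfsg
open scoped commutatorElement

namespace Cfsg.Agent.S2807

/-- Let S be a Sylow p-subgroup of the finite group G. If S ∩ G' ≠ S ∩ (N_G(S))' (derived subgroups), then the wreath product Z_p ≀ Z_p — realised as a Sylow p-subgroup of the symmetric group of degree p² — is a homomorphic image of S. -/
theorem result {G : Type*} [Group G] [Finite G] {p : ℕ} [Fact p.Prime] (S : Sylow p G) (h : (S : Subgroup G) ⊓ commutator G ≠ (S : Subgroup G) ⊓ ⁅Subgroup.normalizer ((S : Subgroup G) : Set G), Subgroup.normalizer ((S : Subgroup G) : Set G)⁆) : ∃ (P : Sylow p (Equiv.Perm (Fin (p ^ 2)))) (f : ↥(S : Subgroup G) →* ↥(P : Subgroup (Equiv.Perm (Fin (p ^ 2))))), Function.Surjective f := by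
  classical
  set N : Subgroup G := Subgroup.normalizer ((S : Subgroup G) : Set G)
  have hSN : (S : Subgroup G) ≤ N := Subgroup.le_normalizer
  set K : Subgroup G := Cfsg.pResidual p G
  haveI : K.Normal := inferInstance
  set X : Subgroup ↥N := K.subgroupOf N
  haveI : X.Normal := Subgroup.Normal.subgroupOf inferInstance N
  set Mr : Subgroup ↥N := Cfsg.pResidual p ↥N
  have hMX : Mr ≤ X :=
    Subgroup.map_le_iff_le_comap.1 (Transfer.map_pResidual_le N.subtype)
  set L : Subgroup ↥N := Mr ⊔ ⁅X, (⊤ : Subgroup ↥N)⁆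
  haveI : L.Normal := inferInstance
  have hLX : L ≤ X := sup_le hMX (Subgroup.commutator_le_left _ _)
  have hpN : ¬ p ∣ N.index := fun hd =>
    S.not_dvd_index (hd.trans (Subgroup.index_dvd_of_le hSN))
  have hqL : IsPGroup p (↥N ⧸ L) := Transfer.isPGroup_quotient_of_pResidual_le le_sup_left
  set SN : Sylow p ↥N := S.subtype hSN
  have hXS : ∀ w : ↥N, w ∈ X → ∃ u : ↥N, ∃ m ∈ Mr, w = u * m ∧ u ∈ X ∧ (u : G) ∈ (S : Subgroup G) := by
    intro w hw
    obtain ⟨u, hu, m, hm, rfl⟩ := Subgroup.mem_sup_of_normal_right.1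
      ((Transfer.sylow_sup_pResidual_eq_top SN).ge (Subgroup.mem_top w))
    exact ⟨u, m, hm, rfl, (X.mul_mem_cancel_right (hMX hm)).1 hw, hu⟩
  -- `X ≠ L`, otherwise `S ∩ G' = S ∩ N'`
  have hXL : ¬ X ≤ L := by
    intro hle
    haveI : Group.IsNilpotent (↥N ⧸ Mr) :=
      (Transfer.isPGroup_quotient_pResidual (p := p) (G := ↥N)).isNilpotent
    have hbot : X.map (QuotientGroup.mk' Mr) = ⊥ := by
      refine Transfer.eq_bot_of_le_commutator_top ((Subgroup.map_mono hle).trans ?_)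
      rw [Subgroup.map_sup, Subgroup.map_commutator,
        Subgroup.map_top_of_surjective _ (QuotientGroup.mk'_surjective Mr),
        QuotientGroup.map_mk'_self, bot_sup_eq]
    rw [Subgroup.map_eq_bot_iff, QuotientGroup.ker_mk'] at hbot
    refine h (le_antisymm ?_ (inf_le_inf_left _ (Subgroup.commutator_mono le_top le_top)))
    rintro g ⟨hgS, hg⟩
    refine ⟨hgS, ?_⟩
    have hsup : ((S : Subgroup G) ⊔ K) = ⊤ := Transfer.sylow_sup_pResidual_eq_top S
    have hle' : (commutator G).map (QuotientGroup.mk' K) ≤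
        (⁅(S : Subgroup G), (S : Subgroup G)⁆).map (QuotientGroup.mk' K) := by
      have h1 : (⊤ : Subgroup (G ⧸ K)) = (S : Subgroup G).map (QuotientGroup.mk' K) := by
        rw [← Subgroup.map_top_of_surjective _ (QuotientGroup.mk'_surjective K), ← hsup,
          Subgroup.map_sup, QuotientGroup.map_mk'_self, sup_bot_eq]
      rw [_root_.commutator_def, Subgroup.map_commutator, Subgroup.map_commutator,
        Subgroup.map_top_of_surjective _ (QuotientGroup.mk'_surjective K), h1]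
    obtain ⟨s, hs, hse⟩ := hle' ⟨g, hg, rfl⟩
    have hn : s⁻¹ * g ∈ K := QuotientGroup.eq.1 hse
    have hnS : s⁻¹ * g ∈ (S : Subgroup G) :=
      mul_mem (inv_mem (Subgroup.commutator_le_self _ hs)) hgS
    have h2 : (⟨s⁻¹ * g, hSN hnS⟩ : ↥N) ∈ commutator ↥N :=
      (Transfer.sylow_inf_pResidual_le_commutator SN ⟨hnS, hbot hn⟩).1
    have h3 : s⁻¹ * g ∈ ⁅N, N⁆ := by
      rw [← Subgroup.map_subtype_commutator]; exact ⟨_, h2, rfl⟩
    have h4 := mul_mem (Subgroup.commutator_mono hSN hSN hs) h3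
    simpa using h4
  -- a homomorphism of exponent `p` detecting `S ∩ O^p(G)`
  set A₀ : Subgroup (↥N ⧸ L) := X.map (QuotientGroup.mk' L)
  obtain ⟨μ, hμ⟩ : ∃ μ : ↥N →* ↥A₀, ∀ w ∈ X, (μ w : ↥N ⧸ L) = QuotientGroup.mk' L w ^ N.index :=
    Transfer.exists_transfer_extension (L := L) Transfer.pResidual_pResidual
      (Transfer.sup_pResidual_eq_top hpN) hLX le_sup_right (hqL.to_subgroup _)
  haveI : IsMulCommutative ↥A₀ := by
    refine ⟨⟨fun a b => Subtype.ext ?_⟩⟩
    obtain ⟨_, r, hr, rfl⟩ := a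
    obtain ⟨_, s, -, rfl⟩ := b
    refine commutatorElement_eq_one_iff_mul_comm.1 ?_
    rw [← map_commutatorElement]
    exact (QuotientGroup.eq_one_iff _).2
      ((le_sup_right : _ ≤ L) (Subgroup.commutator_mem_commutator hr (Subgroup.mem_top s)))
  letI : CommGroup ↥A₀ :=
    { (inferInstance : Group ↥A₀) with mul_comm := fun a b => Std.Commutative.comm a b }
  have hA₀p : IsPGroup p ↥A₀ := hqL.to_subgroup A₀
  have hA₀ : A₀ ≠ ⊥ := fun h0 => hXL (by
    rwa [Subgroup.map_eq_bot_iff, QuotientGroup.ker_mk'] at h0)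
  set Pw : Subgroup ↥A₀ := (powMonoidHom p).range
  have hPw : Pw ≠ ⊤ := by
    intro htop
    obtain ⟨a, ha, ha1, hap⟩ := PGroup.exists_mem_pow_eq_one hA₀p (H := ⊤) (fun h0 => hA₀ (by
      rw [eq_bot_iff]
      intro a ha
      have : (⟨a, ha⟩ : ↥A₀) ∈ (⊥ : Subgroup ↥A₀) := h0 ▸ Subgroup.mem_top _
      exact congrArg Subtype.val (Subgroup.mem_bot.1 this)))
    have hinj : Function.Injective (powMonoidHom p : ↥A₀ →* ↥A₀) :=
      Finite.injective_iff_surjective.2 (MonoidHom.range_eq_top.1 htop)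
    exact ha1 (hinj (by simpa using hap))
  set A := ↥A₀ ⧸ Pw
  have hA : ∀ a : A, a ^ p = 1 := by
    intro a
    obtain ⟨a, rfl⟩ := QuotientGroup.mk'_surjective Pw a
    rw [← map_pow]
    exact (QuotientGroup.eq_one_iff _).2 ⟨a, rfl⟩
  set φ : ↥N →* A := (QuotientGroup.mk' Pw).comp μ
  have hφM : ∀ m ∈ Mr, φ m = 1 := by
    intro m hm
    have hle : Mr ≤ φ.ker := Transfer.pResidual_le_iff.2 fun g hg => by
      rw [MonoidHom.mem_ker]
      exact orderOf_eq_one_iff.1 (Nat.eq_one_of_dvd_coprimes hg (orderOf_map_dvd φ g)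
        (orderOf_dvd_of_pow_eq_one (hA _)))
    exact hle hm
  have hex : ∃ x : G, x ∈ (S : Subgroup G) ∧ x ∈ K ∧ LocalEven62.extOne φ x ≠ 1 := by
    by_contra hno
    refine hPw (eq_top_iff.2 fun a _ => ?_)
    obtain ⟨⟨_, w, hw, rfl⟩, he⟩ := (hA₀p.powEquiv' hpN).surjective a
    obtain ⟨u, m, hm, rfl, huX, huS⟩ := hXS w hw
    have h1 : μ (u * m) = a := by
      rw [← he]
      exact Subtype.ext (by rw [hμ _ hw]; simp)
    have h2 : φ u = 1 := by
      by_contra hne
      refine hno ⟨u, huS, huX, ?_⟩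
      rwa [LocalEven62.extOne_of_mem φ u.2]
    have h3 : φ (u * m) = 1 := by rw [map_mul, h2, hφM m hm, one_mul]
    rw [← h1]
    exact (QuotientGroup.eq_one_iff _).1 h3
  obtain ⟨x, ⟨hxS, hxK, hxφ⟩, hxmin⟩ := Set.Finite.exists_minimalFor orderOf
    {x : G | x ∈ (S : Subgroup G) ∧ x ∈ K ∧ LocalEven62.extOne φ x ≠ 1} (Set.toFinite _) hex
  have hxN : x ∈ N := hSN hxS
  obtain ⟨n, hn⟩ := IsPGroup.iff_orderOf.1 S.isPGroup' ⟨x, hxS⟩
  rw [Subgroup.orderOf_mk] at hn
  have hxn : x ^ p ^ n = 1 := hn ▸ pow_orderOf_eq_one x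
  have hx1 : x ≠ 1 := fun h1 => hxφ (by
    rw [h1, LocalEven62.extOne_of_mem φ N.one_mem]; exact φ.map_one)
  have hyp : ∀ (a : G) (j : ℕ), 1 ≤ j → LocalEven62.extOne φ (a⁻¹ * x ^ p ^ j * a) = 1 := by
    intro a j hj
    by_contra hne
    set y := a⁻¹ * x ^ p ^ j * a
    have hyN : y ∈ N := LocalEven62.mem_of_extOne_ne_one hne
    have hord : orderOf y = orderOf (x ^ p ^ j) := by
      have e : y = MulAut.conj a⁻¹ (x ^ p ^ j) := by simp [y, mul_assoc]
      rw [e, MulEquiv.orderOf_eq]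
    have hdvd : p ∣ orderOf x := by
      rw [hn]
      rcases n with _ | n
      · rw [pow_zero, pow_one] at hxn; exact absurd hxn hx1
      · exact dvd_pow_self p n.succ_ne_zero
    have hlt : orderOf y < orderOf x := by
      rw [hord, orderOf_pow]
      refine Nat.div_lt_self (orderOf_pos x) (lt_of_lt_of_le (Fact.out : p.Prime).one_lt
        (Nat.le_of_dvd (Nat.gcd_pos_of_pos_left _ (orderOf_pos x))
          (Nat.dvd_gcd hdvd (dvd_pow_self p (by omega)))))
    have hzp : IsPGroup p ↥(Subgroup.zpowers y) := by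
      obtain ⟨i, -, hi⟩ := (Nat.dvd_prime_pow Fact.out).1 (hn ▸ orderOf_pow_dvd (x := x) (p ^ j))
      exact IsPGroup.of_card (n := i) (by rw [Nat.card_zpowers, hord, hi])
    have hyS : y ∈ (S : Subgroup G) := by
      have h1 := S.3 (LocalEven62.isPGroup_sup hzp S.isPGroup' (Subgroup.zpowers_le.2 hyN))
        le_sup_right
      exact h1.le (Subgroup.mem_sup_left (Subgroup.mem_zpowers y))
    have hyK : y ∈ K := by
      have := (inferInstance : K.Normal).conj_mem _ (pow_mem hxK (p ^ j)) a⁻¹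
      simpa [y] using this
    exact absurd (hxmin (j := y) ⟨hyS, hyK, hne⟩ hlt.le) (not_le.2 hlt)
  -- the transfer of `φ` vanishes at `x`
  letI : Fintype (G ⧸ N) := Fintype.ofFinite _
  have hV := LocalEven62.transfer_eq_prod_extOne φ x ⟨n, hxn⟩ hyp
  have hV1 : MonoidHom.transfer φ x = 1 := by
    have hle : K ≤ (MonoidHom.transfer φ).ker := Transfer.pResidual_le_iff.2 fun g hg => by
      rw [MonoidHom.mem_ker]
      exact orderOf_eq_one_iff.1 (Nat.eq_one_of_dvd_coprimes hg (orderOf_map_dvd _ g)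
        (orderOf_dvd_of_pow_eq_one (hA _)))
    exact hle hxK
  rw [hV1] at hV
  set F : G ⧸ N → A := fun q => LocalEven62.extOne φ (q.out⁻¹ * x * q.out)
  set pr : G ⧸ N → Quotient (MulAction.orbitRel ↥(S : Subgroup G) (G ⧸ N)) := Quotient.mk''
  set q₀ : G ⧸ N := ((1 : G) : G ⧸ N)
  have hfix₀ : ∀ s : ↥(S : Subgroup G), s • q₀ = q₀ := fun s => by
    show (((s : G) * 1 : G) : G ⧸ N) = _
    exact QuotientGroup.eq.2 (by simpa using N.inv_mem (hSN s.2))
  obtain ⟨ω, hω, hωne⟩ : ∃ ω, ω ≠ pr q₀ ∧ ∏ q ∈ Finset.univ.filter (fun q => pr q = ω), F q ≠ 1 := by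
    by_contra hno
    simp only [not_exists, not_and, not_not] at hno
    refine hxφ ?_
    have h1 : ∏ q, F q = F q₀ := by
      rw [← Finset.prod_fiberwise Finset.univ pr, Finset.prod_eq_single (pr q₀)
        (fun ω _ hω => hno ω hω) (fun hn => absurd (Finset.mem_univ _) hn)]
      refine Finset.prod_eq_single q₀ (fun q hq hne => absurd ?_ hne)
        (fun hn => absurd (Finset.mem_filter.2 (⟨Finset.mem_univ q₀, rfl⟩ : q₀ ∈ Finset.univ ∧ pr q₀ = pr q₀)) hn)
      obtain ⟨e, he⟩ := Quotient.exact' (Finset.mem_filter.1 hq).2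
      rw [← he]
      exact hfix₀ e
    have h2 : F q₀ = LocalEven62.extOne φ x := by
      simp only [F]
      rw [LocalEven62.extOne_rep φ x (g := q₀.out) (g' := 1) (QuotientGroup.out_eq' q₀)]
      simp
    rw [← h2, ← h1]
    exact hV.symm
  obtain ⟨qg, rfl⟩ : ∃ q, pr q = ω := Quotient.exists_rep ω
  obtain ⟨g, rfl⟩ := QuotientGroup.mk_surjective qg
  set Q : Subgroup ↥(S : Subgroup G) := MulAction.stabilizer ↥(S : Subgroup G) (g : G ⧸ N)
  have hQ : Q ≠ ⊤ := by
    intro htop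
    refine hω (congrArg pr ?_)
    have hle : (S : Subgroup G).map (MulAut.conj g⁻¹).toMonoidHom ≤ N := by
      rintro _ ⟨s, hs, rfl⟩
      have h1 : (⟨s, hs⟩ : ↥(S : Subgroup G)) ∈ Q := htop ▸ Subgroup.mem_top _
      have h2 : ((s * g : G) : G ⧸ N) = (g : G ⧸ N) := h1
      have h3 := N.inv_mem (QuotientGroup.eq.1 h2)
      simpa [mul_assoc] using h3
    have h4 := S.3 (LocalEven62.isPGroup_sup (S.isPGroup'.map _) S.isPGroup' hle) le_sup_right
    have h5 : g⁻¹ ∈ N := LocalEven62.mem_normalizer_of_map_le ((le_sup_left).trans h4.le)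
    exact QuotientGroup.eq.2 (by simpa using h5)
  have hmemQ : ∀ a : ↥(S : Subgroup G), a ∈ Q ↔ g⁻¹ * (a : G) * g ∈ N := by
    intro a
    show (((a : G) * g : G) : G ⧸ N) = (g : G ⧸ N) ↔ _
    rw [QuotientGroup.eq]
    constructor
    · intro h1; simpa [mul_assoc] using N.inv_mem h1
    · intro h1; simpa [mul_assoc] using N.inv_mem h1
  set θ : ↥Q →* A := φ.comp
    ({ toFun := fun a => ⟨g⁻¹ * ((a : ↥(S : Subgroup G)) : G) * g, (hmemQ a).1 a.2⟩
       map_one' := Subtype.ext (by simp)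
       map_mul' := fun a b => Subtype.ext (by simp [mul_assoc]) } : ↥Q →* ↥N)
  have hθ : ∀ a : ↥(S : Subgroup G),
      LocalEven62.extOne θ a = LocalEven62.extOne φ (g⁻¹ * (a : G) * g) := by
    intro a
    by_cases ha : a ∈ Q
    · rw [LocalEven62.extOne_of_mem θ ha, LocalEven62.extOne_of_mem φ ((hmemQ a).1 ha)]
      rfl
    · rw [LocalEven62.extOne, dif_neg ha, LocalEven62.extOne, dif_neg (fun h1 => ha ((hmemQ a).2 h1))]
  letI : Fintype (↥(S : Subgroup G) ⧸ Q) := Fintype.ofFinite _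
  refine LocalEven62.wreath_of_extOne (p := p) S.isPGroup' hQ θ hA ⟨x, hxS⟩ (fun a j hj => ?_) ?_
  · rw [hθ, ← hyp ((a : G) * g) j hj]
    congr 1
    simp [mul_assoc]
  · refine fun h1 => hωne (Eq.trans ?_ h1)
    refine (Finset.prod_nbij (fun q => q.out • (g : G ⧸ N)) ?_ ?_ ?_ ?_).symm
    · intro q _
      exact Finset.mem_filter.2 ⟨Finset.mem_univ _, Quotient.sound' ⟨q.out, rfl⟩⟩
    · intro q _ q' _ he
      rw [← QuotientGroup.out_eq' q, ← QuotientGroup.out_eq' q']
      refine QuotientGroup.eq.2 ?_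
      show (q.out⁻¹ * q'.out) • (g : G ⧸ N) = _
      rw [mul_smul, show q'.out • (g : G ⧸ N) = q.out • (g : G ⧸ N) from he.symm, inv_smul_smul]
    · intro q hq
      obtain ⟨e, he⟩ := Quotient.exact' (Finset.mem_filter.1 hq).2
      refine ⟨(e : ↥(S : Subgroup G) ⧸ Q), Finset.mem_univ _, ?_⟩
      show (e : ↥(S : Subgroup G) ⧸ Q).out • (g : G ⧸ N) = q
      rw [← he]
      show _ = e • (g : G ⧸ N)
      have h2 : (((e : ↥(S : Subgroup G) ⧸ Q).out : ↥(S : Subgroup G)) : ↥(S : Subgroup G) ⧸ Q) = e :=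
        QuotientGroup.out_eq' _
      have h3 : ((e : ↥(S : Subgroup G) ⧸ Q).out⁻¹ * e) • (g : G ⧸ N) = g := QuotientGroup.eq.1 h2
      rw [mul_smul, inv_smul_eq_iff] at h3
      exact h3.symm
    · intro q _
      rw [hθ]
      simp only [F]
      rw [LocalEven62.extOne_rep φ x (g := (q.out • (g : G ⧸ N)).out)
        (g' := (q.out : G) * g) (QuotientGroup.out_eq' _)]
      congr 1
      simp [mul_assoc]

end Cfsg.Agent.S2807
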