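import Cfsg.Statements.S3888
import Cfsg.Agent.FG38.RankTwoClass
-- import your own Cfsg.Agent.* helpers here

set_option autoImplicit false
open Cfsg

namespace Cfsg.Agent.S3888

open Subgroup FG38.RankTwo
open scoped commutatorElement

variable {G : Type*} [Group G] [Finite G] {p : ℕ} [hp : Fact p.Prime]

/-- A multiplicative order computation: `(1 + t) ^ p ≡ 1` modulo `p ^ M` forces `p ^ (M - 1) ∣ t`. -/
theorem dvd_of_one_add_pow (hp2 : p ≠ 2) {t : ℤ} {M : ℕ} (ht : (p : ℤ) ∣ t)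
    (h : (p : ℤ) ^ M ∣ (1 + t) ^ p - 1) : (p : ℤ) ^ (M - 1) ∣ t := by
  rcases Nat.eq_zero_or_pos M with rfl | hM
  · simp
  have hodd : Odd p := hp.out.odd_of_ne_two hp2
  obtain ⟨b, rfl⟩ := ht
  have hsum := odd_sq_dvd_geom_sum₂_sub (R := ℤ) (p := p) (a := 1) (b := b) hodd
  simp only [one_pow, mul_one] at hsum
  obtain ⟨m, hm⟩ := hsum
  have hgeom : (1 + (p : ℤ) * b) ^ p - 1 = (p : ℤ) * b * ((p : ℤ) * (1 + p * m)) := by
    rw [← geom_sum_mul, show ∑ i ∈ Finset.range p, (1 + (p : ℤ) * b) ^ i = (p : ℤ) * (1 + p * m) by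
      linear_combination hm]
    ring
  rw [hgeom, show M = M - 1 + 1 by omega, pow_succ, show (p : ℤ) * b * ((p : ℤ) * (1 + p * m)) =
    (p : ℤ) * b * (1 + p * m) * p by ring, mul_dvd_mul_iff_right (by exact_mod_cast hp.out.ne_zero)] at h
  exact (IsCoprime.dvd_of_dvd_mul_right ((show IsCoprime (p : ℤ) (1 + p * m) from ⟨-m, 1, by ring⟩).pow_left) h)

variable {C : Subgroup G} {y e g : G}

theorem rank_one_levels (F : Frame p C y e g) (hp2 : p ≠ 2)
    (hB : ∀ c ∈ C, c ^ p ^ 2 = 1 → c ^ p ∈ zpowers e) :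
    ∀ k : ℕ, Nat.card {x : ↥C // x ^ p ^ (k + 1) = 1} ≤ p ^ (k + 2) := by
  intro k
  induction k with
  | zero => simpa using F.card_kill
  | succ k ih =>
    calc _ ≤ _ := F.card_level_le hp2 (k + 1) {x : ↥C | (x : G) ∈ zpowers e} fun x hx => by
          show ((x ^ p ^ (k + 1) : ↥C) : G) ∈ zpowers e
          rw [SubmonoidClass.coe_pow, pow_succ, pow_mul]
          refine hB _ (pow_mem x.2 _) ?_
          rw [← pow_mul, ← pow_add, show k + 2 = k + 1 + 1 by rfl, ← SubmonoidClass.coe_pow, hx,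
            OneMemClass.coe_one]
      _ ≤ p * p ^ (k + 2) := Nat.mul_le_mul F.card_zpowers_e ih
      _ = _ := (pow_succ' p (k + 2)).symm

theorem families (F : Frame p C y e g) (hp2 : p ≠ 2) (hB : ∀ c ∈ C, c ^ p ^ 2 = 1 → c ^ p ∈ zpowers e)
    (hK : g ^ p ∈ (agemo p ↥C).map C.subtype) (n : ℕ) (hn : 3 ≤ n) (hC : Nat.card ↥C = p ^ (n - 1)) :
    (3 ≤ n ∧ ∃ x y z : G, Subgroup.closure ({x, y, z} : Set G) = ⊤ ∧ x ^ p = 1 ∧ y ^ p = 1 ∧
        z ^ p ^ (n - 2) = 1 ∧ x * z = z * x ∧ y * z = z * y ∧ x⁻¹ * y * x = y * z ^ p ^ (n - 3)) ∨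
    (4 ≤ n ∧ ∃ (s : ℕ) (x y z : G), (s = 1 ∨ ¬ IsSquare (s : ZMod p)) ∧
        Subgroup.closure ({x, y, z} : Set G) = ⊤ ∧ x ^ p = 1 ∧ y ^ p = 1 ∧ z ^ p ^ (n - 2) = 1 ∧
        y * z = z * y ∧ x⁻¹ * y * x = y * z ^ (s * p ^ (n - 3)) ∧ x⁻¹ * z * x = y * z) ∨
    (p = 3 ∧ 2 ≤ n ∧ (⊤ : Subgroup G).lowerCentralSeries (n - 2) ≠ ⊥) := by
  obtain ⟨M, rfl⟩ : ∃ M, n = M + 3 := ⟨n - 3, by omega⟩
  rw [show M + 3 - 1 = M + 2 by omega] at hC
  simp only [show M + 3 - 2 = M + 1 by omega, show M + 3 - 3 = M by omega]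
  have hpz : Prime (p : ℤ) := Nat.prime_iff_prime_int.mp hp.out
  -- the long cyclic factor
  have hin : ∀ {c : G}, orderOf c = p ^ (M + 2) → c ∈ C → False := by
    intro c hc hcC
    have heq : zpowers c = C := eq_of_le_of_card_ge (zpowers_le.mpr hcC) (by rw [hC, Nat.card_zpowers, hc])
    obtain ⟨a, ha⟩ := mem_zpowers_iff.mp (heq.ge F.y_mem)
    obtain ⟨b, hb⟩ := mem_zpowers_iff.mp (heq.ge F.e_mem)
    have key : ∀ {a : ℤ}, (c ^ a) ^ p = 1 → (p : ℤ) ^ (M + 1) ∣ a := fun {a} h => by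
      rw [← zpow_natCast, ← zpow_mul, ← orderOf_dvd_iff_zpow_eq_one, hc, Nat.cast_pow,
        pow_succ (p : ℤ) (M + 1), mul_dvd_mul_iff_right (by exact_mod_cast hp.out.ne_zero)] at h
      exact h
    obtain ⟨a', rfl⟩ := key (a := a) (by rw [ha]; exact F.pow_y)
    obtain ⟨b', rfl⟩ := key (a := b) (by rw [hb]; exact F.e_pow)
    have hb' : ¬ (p : ℤ) ∣ b' := fun hd => F.e_ne (by
      rw [← hb, ← orderOf_dvd_iff_zpow_eq_one, hc, Nat.cast_pow, pow_succ (p : ℤ) (M + 1)]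
      exact mul_dvd_mul_left _ hd)
    obtain ⟨u, v, huv⟩ : IsCoprime (p : ℤ) b' := hpz.coprime_iff_not_dvd.mpr hb'
    refine F.y_notMem ⟨v * a', ?_⟩
    show e ^ (v * a') = y
    rw [← hb, ← ha, ← zpow_mul, zpow_eq_zpow_iff_modEq, hc, Int.modEq_iff_dvd, Nat.cast_pow,
      pow_succ (p : ℤ) (M + 1)]
    exact ⟨a' * u, by linear_combination -((p : ℤ) ^ (M + 1) * a') * huv⟩
  have hkill : ∀ c ∈ C, c ^ p ^ (M + 1) = 1 := by
    intro c hc
    by_contra hne
    refine hin (orderOf_eq_prime_pow hne ?_) hc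
    have h := pow_card_eq_one' (x := (⟨c, hc⟩ : ↥C))
    rw [hC] at h
    exact congrArg Subtype.val h
  obtain ⟨z, hzC, hz0, hzM⟩ : ∃ z ∈ C, z ^ p ^ M ∈ zpowers e ∧ z ^ p ^ M ≠ 1 := by
    rcases Nat.eq_zero_or_pos M with rfl | hM
    · exact ⟨e, F.e_mem, by simp, by simpa using F.e_ne⟩
    obtain ⟨M, rfl⟩ : ∃ M', M = M' + 1 := ⟨M - 1, by omega⟩
    obtain ⟨c, hc, hne⟩ : ∃ c ∈ C, c ^ p ^ (M + 1) ≠ 1 := by
      by_contra hall
      push Not at hall
      have h := rank_one_levels F hp2 hB M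
      rw [card_eq_of_forall hall, hC, Nat.pow_le_pow_iff_right hp.out.one_lt] at h
      omega
    refine ⟨c, hc, ?_, hne⟩
    rw [pow_succ, pow_mul]
    refine hB _ (pow_mem hc _) ?_
    rw [← pow_mul, ← pow_add]
    exact hkill c hc
  set e₀ := z ^ p ^ M with he₀
  obtain ⟨a₀, ha₀⟩ := mem_zpowers_iff.mp hz0
  have hc₀ : ∀ h : G, Commute e₀ h := fun h => ha₀ ▸ (F.central h).zpow_left a₀
  have he₀p : e₀ ^ p = 1 := by
    rw [← ha₀, ← zpow_natCast, ← zpow_mul, F.zpow_e_eq_one]; exact dvd_mul_left _ _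
  have he₀o : orderOf e₀ = p := orderOf_eq_prime he₀p hzM
  have hze : ∀ i : ℤ, e₀ ^ i = 1 ↔ (p : ℤ) ∣ i := fun i => by rw [← orderOf_dvd_iff_zpow_eq_one, he₀o]
  have hzo : orderOf z = p ^ (M + 1) := orderOf_eq_prime_pow hzM (hkill z hzC)
  have hzp : ∀ i : ℤ, z ^ ((p : ℤ) ^ M * i) = e₀ ^ i := fun i => by
    rw [zpow_mul, he₀, ← zpow_natCast z (p ^ M), Nat.cast_pow]
  obtain ⟨k₀, hk₀, hky₀⟩ := F.conj_y
  obtain ⟨k, hk, hky⟩ : ∃ k : ℤ, ¬ (p : ℤ) ∣ k ∧ g * y * g⁻¹ = y * e₀ ^ k := by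
    have hpa : ¬ (p : ℤ) ∣ a₀ := fun hd => hzM (by rw [← ha₀]; exact F.zpow_e_eq_one.mpr hd)
    obtain ⟨u, v, huv⟩ : IsCoprime (p : ℤ) a₀ := hpz.coprime_iff_not_dvd.mpr hpa
    refine ⟨v * k₀, fun hd => ?_, ?_⟩
    · rcases hpz.dvd_or_dvd hd with hd | hd
      · refine hpz.not_unit (isUnit_of_dvd_one ?_)
        rw [← huv]; exact dvd_add (dvd_mul_left _ _) (hd.mul_right _)
      · exact hk₀ hd
    · rw [hky₀, ← ha₀, ← zpow_mul]
      congr 1
      exact zpow_congr_of_order F.e_pow ⟨k₀ * u, by linear_combination -k₀ * huv⟩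
  have hye₀ : ∀ i : ℤ, y ^ i ∈ zpowers z → (p : ℤ) ∣ i := by
    intro i hi
    obtain ⟨a, ha⟩ := mem_zpowers_iff.mp hi
    refine F.y_zpow_mem ?_
    have h : (z ^ a) ^ p = 1 := by
      rw [ha, ← zpow_natCast, ← zpow_mul, mul_comm, zpow_mul, zpow_natCast, F.pow_y, one_zpow]
    rw [← zpow_natCast, ← zpow_mul, ← orderOf_dvd_iff_zpow_eq_one, hzo, Nat.cast_pow, pow_succ,
      mul_dvd_mul_iff_right (by exact_mod_cast hp.out.ne_zero)] at h
    obtain ⟨a', rfl⟩ := h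
    rw [← ha, hzp, ← ha₀]
    exact zpow_mem (zpow_mem (mem_zpowers e) _) _
  have hyz : Commute z y := F.comm_y z hzC
  let S : Subgroup G :=
    { carrier := {x | ∃ a b : ℤ, x = z ^ a * y ^ b}
      one_mem' := ⟨0, 0, by simp⟩
      mul_mem' := by
        rintro _ _ ⟨a, b, rfl⟩ ⟨a', b', rfl⟩
        refine ⟨a + a', b + b', ?_⟩
        rw [zpow_add, zpow_add, mul_assoc, ← mul_assoc (y ^ b), ← (hyz.zpow_zpow a' b).eq]
        simp only [mul_assoc]
      inv_mem' := by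
        rintro _ ⟨a, b, rfl⟩
        exact ⟨-a, -b, by rw [mul_inv_rev, ← zpow_neg, ← zpow_neg, (hyz.zpow_zpow (-a) (-b)).eq]⟩ }
  have hSC : S = C := by
    refine eq_of_le_of_card_ge ?_ ?_
    · rintro _ ⟨a, b, rfl⟩; exact mul_mem (zpow_mem hzC a) (zpow_mem F.y_mem b)
    · have hlt : zpowers z < S := by
        refine lt_of_le_of_ne (zpowers_le.mpr ⟨1, 0, by simp⟩) fun h => ?_
        have : y ^ (1 : ℤ) ∈ zpowers z := h ▸ ⟨0, 1, by simp⟩
        exact hpz.not_unit (isUnit_of_dvd_one (hye₀ 1 this))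
      have h2 := card_mul_le_of_lt F.hG hlt
      rw [Nat.card_zpowers, hzo, ← pow_succ'] at h2
      rw [hC]; exact h2
  have hrep : ∀ x ∈ C, ∃ a b : ℤ, x = z ^ a * y ^ b := fun x hx => hSC.ge hx
  have hab : ∀ a ∈ C, ∀ b ∈ C, Commute a b := by
    intro a ha b hb
    obtain ⟨i, j, rfl⟩ := hrep a ha
    obtain ⟨i', j', rfl⟩ := hrep b hb
    exact ((((Commute.refl z).zpow_zpow i i').mul_right (hyz.zpow_zpow i j')).mul_left
      ((hyz.symm.zpow_zpow j i').mul_right ((Commute.refl y).zpow_zpow j j')))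
  obtain ⟨t', s, hgz⟩ : ∃ t' s : ℤ, g * z * g⁻¹ = z * (y ^ s * e₀ ^ t') ∧
      (M = 0 → (p : ℤ) ∣ s ∧ (p : ℤ) ∣ t') := by
    rcases Nat.eq_zero_or_pos M with rfl | hM
    · refine ⟨0, 0, ?_, fun _ => ⟨dvd_zero _, dvd_zero _⟩⟩
      have hz1 : z = e₀ := by simp [he₀]
      rw [zpow_zero, zpow_zero, mul_one, mul_one, hz1, ← (hc₀ g).eq, mul_inv_cancel_right]
    obtain ⟨a, s, hts⟩ := hrep _ (F.normal.conj_mem z hzC g)
    obtain ⟨t, rfl⟩ : ∃ t, a = 1 + t := ⟨a - 1, by ring⟩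
    have hyp : ∀ i : ℤ, (y ^ i) ^ p = 1 := fun i => by
      rw [← zpow_natCast, ← zpow_mul, mul_comm, zpow_mul, zpow_natCast, F.pow_y, one_zpow]
    have htp : (p : ℤ) ∣ t := by
      have h : g * e₀ * g⁻¹ = e₀ := by rw [← (hc₀ g).eq, mul_inv_cancel_right]
      rw [he₀, ← conj_pow, hts, ((hyz.zpow_zpow (1 + t) s)).mul_pow] at h
      obtain ⟨M', rfl⟩ : ∃ M', M = M' + 1 := ⟨M - 1, by omega⟩
      rw [show (y ^ s) ^ p ^ (M' + 1) = 1 by rw [pow_succ', pow_mul, hyp, one_pow], mul_one,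
        ← zpow_natCast (z ^ (1 + t)), ← zpow_mul, mul_comm, Nat.cast_pow, hzp] at h
      rw [← hze]
      have h' : e₀ ^ (1 + t) = e₀ := h
      rwa [zpow_add, zpow_one, mul_eq_left] at h'
    have hit : ∀ i : ℕ, g ^ i * z * (g ^ i)⁻¹ =
        z ^ ((1 + t) ^ i) * y ^ ((i : ℤ) * s) * e₀ ^ (k * s * (i.choose 2 : ℕ)) := by
      intro i
      induction i with
      | zero => simp
      | succ i ih =>
        have e : g ^ (i + 1) * z * (g ^ (i + 1))⁻¹ = g * (g ^ i * z * (g ^ i)⁻¹) * g⁻¹ := by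
          rw [pow_succ']; group
        have hpow : (y ^ s) ^ ((1 + t) ^ i) = y ^ s := by
          refine (zpow_congr_of_order (hyp s) (j := 1) ?_).trans (zpow_one _)
          have := sub_dvd_pow_sub_pow (1 + t) 1 i
          rw [one_pow, add_sub_cancel_left] at this
          exact htp.trans this
        rw [e, ih, ← conj_mul, ← conj_mul, ← conj_zpow, ← conj_zpow, ← conj_zpow, hts, hky,
          ((hc₀ y).zpow_left k).symm.mul_zpow, show g * e₀ * g⁻¹ = e₀ by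
            rw [← (hc₀ g).eq, mul_inv_cancel_right],
          (hyz.zpow_zpow (1 + t) s).mul_zpow, hpow, ← zpow_mul z, ← zpow_mul e₀, Nat.choose_succ_succ',
          Nat.choose_one_right, Nat.cast_add, Nat.cast_add, Nat.cast_one, pow_succ']
        rw [mul_assoc (z ^ _), mul_assoc (z ^ _), mul_assoc (z ^ _), ← mul_assoc (y ^ s), ← zpow_add,
          mul_assoc, ← zpow_add]
        congr 2
        · congr 1; ring
        · congr 1; ring
    have hgpC : g ^ p ∈ C := by obtain ⟨c, -, hc⟩ := hK; exact hc ▸ c.2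
    have h := hit p
    rw [(hab _ hgpC z hzC).eq, mul_inv_cancel_right] at h
    obtain ⟨q, hq⟩ := dvd_choose_two (p := p) hp2
    rw [hq, (hze _).mpr ⟨k * s * q, by push_cast; ring⟩, mul_one,
      zpow_congr_of_order F.pow_y (j := 0) (by rw [sub_zero]; exact dvd_mul_right _ _), zpow_zero, mul_one] at h
    have h' : z ^ ((1 + t) ^ p - 1) = 1 := by rw [zpow_sub, zpow_one, ← h, mul_inv_cancel]
    rw [← orderOf_dvd_iff_zpow_eq_one, hzo, Nat.cast_pow] at h'
    have ht := dvd_of_one_add_pow hp2 htp h'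
    rw [Nat.add_sub_cancel] at ht
    obtain ⟨t', rfl⟩ := ht
    refine ⟨t', s, ?_, fun h0 => absurd h0 (by omega)⟩
    rw [hts, zpow_add, zpow_one, hzp, mul_assoc, ((hc₀ _).zpow_left t').eq]
  obtain ⟨hgz, hM0⟩ := hgz
  set d : G := y ^ s * e₀ ^ t' with hd
  have hdy : g * d * g⁻¹ = d * e₀ ^ (k * s) := by
    rw [hd, ← conj_mul, ← conj_zpow, hky, ← ((hc₀ g).zpow_left t').eq, mul_inv_cancel_right,
      (((hc₀ y).zpow_left k).symm).mul_zpow, ← zpow_mul, mul_assoc, mul_assoc, ← zpow_add, ← zpow_add,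
      add_comm]
  have hdC : d ∈ C := mul_mem (zpow_mem F.y_mem s) (zpow_mem (pow_mem hzC _) t')
  -- the exceptional group of order `3 ^ 4`
  by_cases hexc : p = 3 ∧ M = 1 ∧ ¬ (p : ℤ) ∣ s
  · obtain ⟨hp3, hM1, hs⟩ := hexc
    refine Or.inr (Or.inr ⟨hp3, by omega, lcs_ne_bot (g := g) (c := z) (m := 2) ?_ (by omega)⟩)
    show dl g (dl g z) ≠ 1
    rw [dl, dl, hgz, inv_mul_cancel_left, hdy, inv_mul_cancel_left]
    intro h
    rcases hpz.dvd_or_dvd ((hze _).mp h) with h | h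
    · exact hk h
    · exact hs h
  -- an element of order `p` outside `C`
  obtain ⟨i₀, hi₀⟩ : ∃ i : ℤ, g ^ p = z ^ ((p : ℤ) * i) := by
    have hle : (agemo p ↥C).map C.subtype ≤ zpowers (z ^ (p : ℤ)) := by
      rw [agemo, MonoidHom.map_closure, closure_le]
      rintro _ ⟨_, ⟨c, rfl⟩, rfl⟩
      obtain ⟨a, b, hab'⟩ := hrep c c.2
      show ((c ^ p : ↥C) : G) ∈ _
      rw [SubmonoidClass.coe_pow, hab', ((hyz.zpow_zpow a b)).mul_pow, ← zpow_natCast, ← zpow_natCast,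
        ← zpow_mul, ← zpow_mul, mul_comm b, zpow_mul y, zpow_natCast y, F.pow_y, one_zpow, mul_one,
        mul_comm a, zpow_mul]
      exact zpow_mem (mem_zpowers _) a
    obtain ⟨i, hi⟩ := mem_zpowers_iff.mp (hle hK)
    exact ⟨i, by rw [← hi, ← zpow_mul]⟩
  have hnorm : ∀ (j : ℤ) (i : ℕ), (z ^ j * g) ^ i =
      z ^ ((i : ℤ) * j) * d ^ (j * (i.choose 2 : ℕ)) * e₀ ^ (k * s * j * (i.choose 3 : ℕ)) * g ^ i := by
    intro j i
    have hzd : Commute z d := hab z hzC d hdC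
    have hgi : ∀ i : ℕ, g ^ i * z ^ j * (g ^ i)⁻¹ =
        z ^ j * d ^ ((i : ℤ) * j) * e₀ ^ (k * s * j * (i.choose 2 : ℕ)) := by
      intro i
      have h := iterate_formula hgz.symm.symm hdy (w := e₀ ^ (k * s)) (z := 1)
        (by rw [← ((hc₀ g).zpow_left _).eq, mul_inv_cancel_right, mul_one]) (fun h => Commute.one_left h)
        ((hc₀ d).zpow_left _).symm i
      rw [one_pow, mul_one] at h
      rw [← conj_zpow, h, (((hc₀ z).zpow_left _).symm.pow_right _ |>.mul_left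
        (((hc₀ d).zpow_left _).symm.pow_pow _ _)).mul_zpow, (hzd.pow_right i).mul_zpow,
        ← zpow_natCast d, ← zpow_natCast (e₀ ^ (k * s)), ← zpow_mul, ← zpow_mul, ← zpow_mul]
      congr 2
      ring
    induction i with
    | zero => simp
    | succ i ih =>
      have e : (z ^ j * g) ^ (i + 1) = (z ^ j * g) ^ i * (z ^ j * g) := pow_succ _ _
      have e2 : g ^ i * (z ^ j * g) = (g ^ i * z ^ j * (g ^ i)⁻¹) * g ^ (i + 1) := by
        rw [pow_succ]; group
      rw [e, ih, mul_assoc _ (g ^ i), e2, hgi, ← mul_assoc]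
      congr 1
      have hA := (hc₀ (z ^ j * d ^ ((i : ℤ) * j))).zpow_left (k * s * j * (i.choose 3 : ℕ))
      rw [mul_assoc (z ^ ((i : ℤ) * j) * d ^ _), ← mul_assoc (e₀ ^ _), hA.eq, mul_assoc _ (e₀ ^ _),
        ← zpow_add, ← mul_assoc, mul_assoc (z ^ _) (d ^ _), ← mul_assoc (d ^ _),
        ← (hzd.zpow_zpow j (j * (i.choose 2 : ℕ))).eq, mul_assoc (z ^ j), ← zpow_add, ← mul_assoc,
        ← zpow_add, Nat.choose_succ_succ', Nat.choose_one_right, Nat.choose_succ_succ' i 2]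
      push_cast
      congr 2
      · congr 1; ring
      · ring
      · ring
  have hdp : ∀ i : ℤ, (p : ℤ) ∣ i → d ^ i = 1 := by
    intro i hi
    have hd1 : d ^ p = 1 := by
      rw [hd, (((hc₀ (y ^ s)).zpow_left t').symm).mul_pow, ← zpow_natCast, ← zpow_natCast, ← zpow_mul,
        ← zpow_mul, mul_comm s, zpow_mul, zpow_natCast, F.pow_y, one_zpow, one_mul, hze]
      exact dvd_mul_left _ _
    rw [zpow_congr_of_order hd1 (j := 0) (by simpa using hi), zpow_zero]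
  obtain ⟨j, hj⟩ : ∃ j : ℤ, (z ^ j * g) ^ p = 1 := by
    have heq : ∀ j : ℤ, (z ^ j * g) ^ p =
        z ^ ((p : ℤ) * (j + i₀) + (p : ℤ) ^ M * (k * s * j * (p.choose 3 : ℕ))) := by
      intro j
      obtain ⟨q, hq⟩ := dvd_choose_two (p := p) hp2
      rw [hnorm, hi₀, hdp _ (by rw [hq]; push_cast; exact (dvd_mul_right _ _).mul_left _), mul_one,
        ← hzp, ← zpow_add, ← zpow_add]
      congr 1; ring
    by_cases hsc : (p : ℤ) ∣ s * (p.choose 3 : ℕ)
    · refine ⟨-i₀, ?_⟩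
      rw [heq, neg_add_cancel, mul_zero, zero_add, hzp, hze]
      exact hsc.trans ⟨-(k * i₀), by ring⟩
    have hp3 : p = 3 := by
      by_contra h
      refine hsc (Dvd.dvd.mul_left (Int.natCast_dvd_natCast.mpr (hp.out.dvd_choose_self (by norm_num) ?_)) _)
      have := hp.out.two_le; omega
    have hps : ¬ (p : ℤ) ∣ s := fun h => hsc (h.mul_right _)
    have hM2 : 2 ≤ M := by
      rcases Nat.lt_or_ge M 2 with h | h
      · rcases Nat.lt_or_ge M 1 with h0 | h0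
        · exact absurd (hM0 (by omega)).1 hps
        · exact absurd ⟨hp3, by omega, hps⟩ hexc
      · exact h
    obtain ⟨M, rfl⟩ : ∃ M', M = M' + 2 := ⟨M - 2, by omega⟩
    have hco : IsCoprime ((p : ℤ) ^ (M + 2)) (1 + (p : ℤ) ^ (M + 1) * (k * s)) :=
      IsCoprime.pow_left ⟨-(p : ℤ) ^ M * (k * s), 1, by ring⟩
    obtain ⟨u, v, huv⟩ := hco
    refine ⟨-i₀ * v, ?_⟩
    rw [heq, ← orderOf_dvd_iff_zpow_eq_one, hzo, Nat.cast_pow,
      show (p.choose 3 : ℕ) = 1 by rw [hp3]; rfl]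
    refine ⟨i₀ * u, ?_⟩
    linear_combination -(p : ℤ) * i₀ * huv
  set x₀ := z ^ j * g with hx₀
  have hconj : ∀ c ∈ C, x₀ * c * x₀⁻¹ = g * c * g⁻¹ := by
    intro c hc
    rw [hx₀, show z ^ j * g * c * (z ^ j * g)⁻¹ = z ^ j * (g * c * g⁻¹) * (z ^ j)⁻¹ by group,
      (hab _ (zpow_mem hzC j) _ (F.normal.conj_mem c hc g)).eq, mul_inv_cancel_right]
  have hgen : ∀ (T : Subgroup G), x₀ ∈ T → y ∈ T → z ∈ T → T = ⊤ := by
    intro T h1 h2 h3
    refine eq_top_iff.mpr fun h _ => ?_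
    obtain ⟨i, c, hc, rfl⟩ := F.split h
    have hgT : g ∈ T := by simpa [hx₀] using mul_mem (inv_mem (zpow_mem h3 j)) h1
    obtain ⟨a, b, rfl⟩ := hrep c hc
    exact mul_mem (mul_mem (zpow_mem h3 a) (zpow_mem h2 b)) (pow_mem hgT i)
  have hypow : ∀ i : ℤ, (y ^ i) ^ p = 1 := fun i => by
    rw [← zpow_natCast, ← zpow_mul, mul_comm, zpow_mul, zpow_natCast, F.pow_y, one_zpow]
  have hymem : ∀ (T : Subgroup G) (i : ℤ), ¬ (p : ℤ) ∣ i → y ^ i ∈ T → y ∈ T := by
    intro T i hi h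
    obtain ⟨u, v, huv⟩ : IsCoprime (p : ℤ) i := hpz.coprime_iff_not_dvd.mpr hi
    have : y = (y ^ i) ^ v := by
      rw [← zpow_mul]
      exact ((zpow_congr_of_order F.pow_y (i := i * v) (j := 1) ⟨-u, by linear_combination huv⟩).trans
        (zpow_one y)).symm
    exact this ▸ zpow_mem h v
  by_cases hs : (p : ℤ) ∣ s
  · left
    obtain ⟨u, v, huv⟩ : IsCoprime (p : ℤ) k := hpz.coprime_iff_not_dvd.mpr hk
    have hd' : d = e₀ ^ t' := by
      rw [hd, zpow_congr_of_order F.pow_y (j := 0) (by simpa using hs), zpow_zero, one_mul]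
    set z' := z * y ^ (-(t' * v)) with hz'
    have hz'C : z' ∈ C := mul_mem hzC (zpow_mem F.y_mem _)
    have hfix : g * z' * g⁻¹ = z' := by
      rw [hz', ← conj_mul, ← conj_zpow, hgz, hky, hd', ((hc₀ y).zpow_left k).symm.mul_zpow, ← zpow_mul,
        mul_assoc, ← mul_assoc (e₀ ^ t'), ((hc₀ _).zpow_left t').eq, mul_assoc, ← zpow_add, (hze _).mpr
        ⟨t' * u, by linear_combination -t' * huv⟩, mul_one]
    have hzq : z' ^ p ^ M = e₀ := by
      rw [hz', (hyz.zpow_right _).mul_pow, ← he₀]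
      rcases Nat.eq_zero_or_pos M with h0 | hM
      · rw [h0, pow_zero, pow_one, zpow_congr_of_order F.pow_y (j := 0)
          (by simpa using (hM0 h0).2.mul_right v), zpow_zero, mul_one]
      · obtain ⟨M', rfl⟩ : ∃ M', M = M' + 1 := ⟨M - 1, by omega⟩
        rw [pow_succ', pow_mul, hypow, one_pow, mul_one]
    refine ⟨by omega, x₀⁻¹, y ^ v, z', ?_, by rw [inv_pow, hj, inv_one], hypow v, ?_, ?_, ?_, ?_⟩
    · refine hgen _ (by simpa using inv_mem (subset_closure (show x₀⁻¹ ∈ _ by simp))) ?_ ?_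
      · exact hymem _ v (fun h => hpz.not_unit (isUnit_of_dvd_one (huv ▸ dvd_add (dvd_mul_left _ _)
          (h.mul_right _)))) (subset_closure (by simp))
      · have hyv : y ∈ closure ({x₀⁻¹, y ^ v, z'} : Set G) :=
          hymem _ v (fun h => hpz.not_unit (isUnit_of_dvd_one (huv ▸ dvd_add (dvd_mul_left _ _)
            (h.mul_right _)))) (subset_closure (by simp))
        have := mul_mem (subset_closure (show z' ∈ _ by simp)) (zpow_mem hyv (t' * v))
        rwa [hz', mul_assoc, ← zpow_add, neg_add_cancel, zpow_zero, mul_one] at this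
    · rw [pow_succ, pow_mul, hzq, he₀p]
    · have h : Commute x₀ z' := mul_inv_eq_iff_eq_mul.mp ((hconj _ hz'C).trans hfix)
      exact h.inv_left.eq
    · exact (hab _ (zpow_mem F.y_mem v) _ hz'C).eq
    · rw [inv_inv, hconj _ (zpow_mem F.y_mem v), ← conj_zpow, hky, ((hc₀ y).zpow_left k).symm.mul_zpow,
        ← zpow_mul, hzq]
      congr 1
      exact (zpow_congr_of_order he₀p ⟨-u, by linear_combination huv⟩).trans (zpow_one _)
  right; left
  have hMpos : 1 ≤ M := by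
    by_contra h
    exact hs (hM0 (by omega)).1
  obtain ⟨b, S', hb, hbS, hS⟩ : ∃ b S' : ℕ, ¬ p ∣ b ∧ (p : ℤ) ∣ (k * s * b * b : ℤ) - S' ∧
      (S' = 1 ∨ ¬ IsSquare (S' : ZMod p)) := by
    have hK0 : ((k * s : ℤ) : ZMod p) ≠ 0 := by
      rw [Ne, ZMod.intCast_zmod_eq_zero_iff_dvd]
      exact fun h => (hpz.dvd_or_dvd h).elim hk hs
    by_cases hsq : IsSquare ((k * s : ℤ) : ZMod p)
    · obtain ⟨r, hr⟩ := hsq
      have hr0 : r ≠ 0 := by rintro rfl; exact hK0 (by rw [hr, mul_zero])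
      refine ⟨(r⁻¹).val, 1, fun h => ?_, ?_, Or.inl rfl⟩
      · rw [← ZMod.natCast_eq_zero_iff, ZMod.natCast_zmod_val] at h
        exact inv_ne_zero hr0 h
      · rw [← ZMod.intCast_zmod_eq_zero_iff_dvd]
        simp only [Int.cast_sub, Int.cast_mul, Int.cast_natCast, ZMod.natCast_zmod_val, Nat.cast_one,
          Int.cast_one] at hr ⊢
        rw [hr, sub_eq_zero]
        field_simp
    · refine ⟨1, ((k * s : ℤ) : ZMod p).val, hp.out.not_dvd_one, ?_, Or.inr ?_⟩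
      · rw [← ZMod.intCast_zmod_eq_zero_iff_dvd]
        simp
      · rwa [ZMod.natCast_zmod_val]
  have hbz : ¬ (p : ℤ) ∣ (b : ℤ) := fun h => hb (Int.natCast_dvd_natCast.mp h)
  set y₃ := d ^ b * e₀ ^ (k * s * (b.choose 2 : ℕ)) with hy₃
  have hy₃C : y₃ ∈ C := mul_mem (pow_mem hdC b) (zpow_mem (pow_mem hzC _) _)
  have hconjb : ∀ (m : ℕ), ∀ c ∈ C, x₀ ^ m * c * (x₀ ^ m)⁻¹ = g ^ m * c * (g ^ m)⁻¹ := by
    intro m c hc
    induction m with
    | zero => simp
    | succ m ih =>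
      rw [show x₀ ^ (m + 1) * c * (x₀ ^ (m + 1))⁻¹ = x₀ * (x₀ ^ m * c * (x₀ ^ m)⁻¹) * x₀⁻¹ by
        rw [pow_succ']; group, ih, hconj _ (F.normal.conj_mem c hc _), pow_succ']
      group
  have hgb : g ^ b * z * (g ^ b)⁻¹ = z * y₃ := by
    have h := iterate_formula hgz.symm.symm hdy (w := e₀ ^ (k * s)) (z := 1)
      (by rw [← ((hc₀ g).zpow_left _).eq, mul_inv_cancel_right, mul_one]) (fun h => Commute.one_left h)
      ((hc₀ d).zpow_left _).symm b
    rw [one_pow, mul_one] at h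
    rw [h, hy₃, mul_assoc, ← zpow_natCast (e₀ ^ (k * s)), ← zpow_mul]
  have hgy : g ^ b * y₃ * (g ^ b)⁻¹ = y₃ * e₀ ^ (k * s * b * b) := by
    have h := iterate_formula (g := g) (u := d) (v := e₀ ^ (k * s)) (w := 1) (z := 1) hdy
      (by rw [mul_one, ← ((hc₀ g).zpow_left _).eq, mul_inv_cancel_right])
      (by simp) (fun h => Commute.one_left h) (Commute.one_right _) b
    rw [one_pow, one_pow, mul_one, mul_one] at h
    rw [hy₃, ← conj_mul, ← conj_pow, h, ← ((hc₀ (g ^ b)).zpow_left _).eq, mul_inv_cancel_right,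
      (((hc₀ d).zpow_left _).symm.pow_right b).mul_pow, mul_assoc, mul_assoc, ← zpow_natCast (e₀ ^ (k * s)),
      ← zpow_mul, ← zpow_natCast (e₀ ^ (k * s * b)), ← zpow_mul, ← zpow_add]
    rw [mul_assoc (d ^ b), ← zpow_add]
    congr 2; ring
  refine ⟨by omega, S', (x₀ ^ b)⁻¹, y₃, z, hS, ?_, ?_, ?_, ?_, (hab _ hy₃C _ hzC).eq, ?_, ?_⟩
  · refine hgen _ ?_ ?_ (subset_closure (by simp))
    · have h : x₀ ^ b ∈ closure ({(x₀ ^ b)⁻¹, y₃, z} : Set G) := by
        simpa using inv_mem (subset_closure (show (x₀ ^ b)⁻¹ ∈ _ by simp))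
      obtain ⟨u, v, huv⟩ : IsCoprime (p : ℤ) (b : ℤ) := hpz.coprime_iff_not_dvd.mpr hbz
      have h2 := zpow_mem h v
      have heq : (x₀ ^ b) ^ v = x₀ := by
        rw [← zpow_natCast, ← zpow_mul]
        exact (zpow_congr_of_order hj (i := (b : ℤ) * v) (j := 1) ⟨-u, by linear_combination huv⟩).trans
          (zpow_one x₀)
      rwa [heq] at h2
    · have hz' : z ∈ closure ({(x₀ ^ b)⁻¹, y₃, z} : Set G) := subset_closure (by simp)
      have h : y₃ ∈ closure ({(x₀ ^ b)⁻¹, y₃, z} : Set G) := subset_closure (by simp)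
      have he : ∀ i : ℤ, e₀ ^ i ∈ closure ({(x₀ ^ b)⁻¹, y₃, z} : Set G) := fun i => zpow_mem (pow_mem hz' _) i
      refine hymem _ (s * b) (fun h => (hpz.dvd_or_dvd h).elim hs hbz) ?_
      have hy : y ^ (s * b) = y₃ * e₀ ^ (-(t' * b + k * s * (b.choose 2 : ℕ))) := by
        rw [hy₃, hd, (((hc₀ (y ^ s)).zpow_left t').symm).mul_pow, ← zpow_natCast (y ^ s),
          ← zpow_natCast (e₀ ^ t'), ← zpow_mul, ← zpow_mul, mul_assoc, mul_assoc, ← zpow_add, ← zpow_add]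
        rw [show t' * (b : ℤ) + (k * s * (b.choose 2 : ℕ) + -(t' * b + k * s * (b.choose 2 : ℕ))) = 0 by
          ring, zpow_zero, mul_one]
      rw [hy]
      exact mul_mem h (he _)
  · rw [inv_pow, ← pow_mul, mul_comm, pow_mul, hj, one_pow, inv_one]
  · rw [hy₃, (((hc₀ _).zpow_left _).symm).mul_pow, ← zpow_natCast (d ^ b), ← zpow_natCast d,
      ← zpow_mul, hdp _ (dvd_mul_left _ _), one_mul, ← zpow_natCast, ← zpow_mul, hze]
    exact dvd_mul_left _ _
  · rw [pow_succ, pow_mul, he₀p]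
  · rw [inv_inv, hconjb b _ hy₃C, hgy, pow_mul', ← zpow_natCast _ S']
    congr 1
    exact zpow_congr_of_order he₀p hbS
  · rw [inv_inv, hconjb b _ hzC, hgb]
    exact (hab _ hzC _ hy₃C).eq

/-- The classification of the p-groups of rank at most two for odd p. Let p be an odd prime and G a group of order p^n with no elementary abelian subgroup of order p³. Then one of the following holds: G is metacyclic; n ≥ 3 and G is generated by elements x, y, z with x^p = y^p = z^(p^(n−2)) = 1, z commuting with x and y, and x⁻¹yx = y z^(p^(n−3)); n ≥ 4 and G is generated by elements x, y, z with x^p = y^p = z^(p^(n−2)) = 1, yz = zy, x⁻¹yx = y z^(s p^(n−3)) and x⁻¹zx = yz, where s = 1 or s is a quadratic non-residue modulo p; or p = 3 and G has maximal class (nilpotency class n − 1). -/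
theorem result {G : Type*} [Group G] [Finite G] {p : ℕ} [Fact p.Prime] (hp : p ≠ 2) (n : ℕ) (hG : Nat.card G = p ^ n)
    (hrk : Cfsg.PRankLE p 2 G) :
    Cfsg.IsMetacyclic G ∨
    (3 ≤ n ∧ ∃ x y z : G, Subgroup.closure ({x, y, z} : Set G) = ⊤ ∧ x ^ p = 1 ∧ y ^ p = 1 ∧ z ^ p ^ (n - 2) = 1 ∧
        x * z = z * x ∧ y * z = z * y ∧ x⁻¹ * y * x = y * z ^ p ^ (n - 3)) ∨
    (4 ≤ n ∧ ∃ (s : ℕ) (x y z : G), (s = 1 ∨ ¬ IsSquare (s : ZMod p)) ∧ Subgroup.closure ({x, y, z} : Set G) = ⊤ ∧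
        x ^ p = 1 ∧ y ^ p = 1 ∧ z ^ p ^ (n - 2) = 1 ∧ y * z = z * y ∧ x⁻¹ * y * x = y * z ^ (s * p ^ (n - 3)) ∧
        x⁻¹ * z * x = y * z) ∨
    (p = 3 ∧ 2 ≤ n ∧ (⊤ : Subgroup G).lowerCentralSeries (n - 2) ≠ ⊥) := by
  classical
  have hGp : IsPGroup p G := IsPGroup.of_card hG
  by_cases hcyc : IsCyclic G
  · exact Or.inl (isMetacyclic_of_isCyclic hcyc)
  obtain ⟨E, hEn, hEc, hEp, hEcard⟩ := PGroup.exists_normal_elementary_sq hGp hp hcyc
  have hE0 : E ≠ ⊥ := by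
    intro h; rw [h, card_bot] at hEcard
    exact absurd hEcard.symm (Nat.one_lt_pow two_ne_zero (Fact.out : p.Prime).one_lt).ne'
  obtain ⟨e, heE, hez, heo⟩ := H40.exists_central_orderOf_eq hGp E hE0
  have hlt : zpowers e < E := lt_of_le_of_ne (zpowers_le.mpr heE) fun h => by
    have h1 := Nat.card_zpowers e
    rw [h, hEcard, heo, pow_two] at h1
    exact absurd h1 (lt_mul_of_one_lt_right (Fact.out : p.Prime).pos (Fact.out : p.Prime).one_lt).ne'
  obtain ⟨y, hyE, hye⟩ := SetLike.exists_of_lt hlt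
  have hcentral : ∀ h : G, Commute e h := PGroup.commute_of_mem_center hez
  have hErep : ∀ x ∈ E, ∃ i j : ℤ, x = y ^ i * e ^ j := by
    intro x hx
    haveI : (zpowers e).Normal := H40.normal_of_le_center' (zpowers_le.mpr hez)
    have hlt' : zpowers e < zpowers y ⊔ zpowers e := lt_of_le_of_ne le_sup_right
      fun h => hye (h.ge (mem_sup_left (mem_zpowers y)))
    have hcard := card_mul_le_of_lt hGp hlt'
    rw [Nat.card_zpowers, heo, ← pow_two] at hcard
    have hEeq : zpowers y ⊔ zpowers e = E := eq_of_le_of_card_ge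
      (sup_le (zpowers_le.mpr hyE) (zpowers_le.mpr heE)) (hEcard ▸ hcard)
    rw [← hEeq, mem_sup_of_normal_right] at hx
    obtain ⟨a, ha, c, hc, rfl⟩ := hx
    obtain ⟨i, rfl⟩ := mem_zpowers_iff.mp ha
    obtain ⟨j, rfl⟩ := mem_zpowers_iff.mp hc
    exact ⟨i, j, rfl⟩
  set C := centralizer (E : Set G) with hCdef
  have hCn : C.Normal := inferInstance
  have hEC : E ≤ C := fun x hx => mem_centralizer_iff.mpr fun a ha =>
    congrArg Subtype.val (hEc.is_comm.comm (⟨a, ha⟩ : E) ⟨x, hx⟩)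
  have hmemC : ∀ h : G, Commute h y → h ∈ C := fun h hh => mem_centralizer_iff.mpr fun a ha => by
    obtain ⟨i, j, rfl⟩ := hErep a ha
    exact ((hh.zpow_right i).mul_right ((hcentral h).symm.zpow_right j)).symm.eq
  have hyC : ∀ x ∈ C, Commute x y := fun x hx => (mem_centralizer_iff.mp hx y hyE).symm
  have homega : ∀ x ∈ C, x ^ p = 1 → ∃ i j : ℤ, x = y ^ i * e ^ j := by
    intro x hx hxp
    refine hErep x ?_
    by_contra hxE
    let A := closure (insert x (E : Set G))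
    have hA : IsMulCommutative ↥A := by
      refine Subgroup.isMulCommutative_closure fun a ha b hb => ?_
      rcases ha with rfl | ha <;> rcases hb with rfl | hb
      · rfl
      · exact (mem_centralizer_iff.mp hx b hb).symm
      · exact mem_centralizer_iff.mp hx a ha
      · exact congrArg Subtype.val (hEc.is_comm.comm (⟨a, ha⟩ : E) ⟨b, hb⟩)
    have hexp : ∀ a ∈ A, a ^ p = 1 := by
      intro a ha
      induction ha using closure_induction with
      | mem z hz => rcases hz with rfl | hz; exacts [hxp, hEp z hz]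
      | one => exact one_pow p
      | mul u v hu hv ih1 ih2 =>
        have h : Commute u v := congrArg Subtype.val (hA.is_comm.comm (⟨u, hu⟩ : A) ⟨v, hv⟩)
        rw [h.mul_pow, ih1, ih2, one_mul]
      | inv u _ ih => rw [inv_pow, ih, inv_one]
    have hcard := hrk A hA hexp
    have hlt' : E < A := lt_of_le_of_ne (fun a ha => subset_closure (Set.mem_insert_of_mem x ha))
      fun h => hxE (h.ge (subset_closure (Set.mem_insert x _)))
    have := card_mul_le_of_lt hGp hlt'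
    rw [hEcard, ← pow_succ'] at this
    exact absurd (this.trans hcard) (Nat.not_le.mpr (Nat.pow_lt_pow_right (Fact.out : p.Prime).one_lt (by omega)))
  have hn1 : 2 ≤ n := by
    have h := card_le_card_group E
    rw [hEcard, hG] at h
    exact (Nat.pow_le_pow_iff_right (Fact.out : p.Prime).one_lt).mp h
  by_cases hCtop : C = ⊤
  · left
    refine isMetacyclic_of_agemo hp hGp ((index_agemo_le hp hGp fun x hx => ?_).trans ?_)
    · obtain ⟨i, j, rfl⟩ := homega x (hCtop ▸ mem_top x) hx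
      exact mul_mem (zpow_mem (mem_center_iff.mpr fun h => (hyC h (hCtop ▸ mem_top h)).eq) i)
        (zpow_mem hez j)
    · rw [← hEcard]
      exact Nat.card_le_card_of_injective (fun x => (⟨x.1, by
        obtain ⟨i, j, hij⟩ := homega x.1 (hCtop ▸ mem_top _) x.2
        rw [hij]; exact mul_mem (zpow_mem hyE i) (zpow_mem heE j)⟩ : ↥E))
        fun a b hab => Subtype.ext (by simpa using hab)
  have hstep : ∀ h : G, ∃ k : ℤ, h * y * h⁻¹ = y * e ^ k := by
    intro h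
    haveI : (zpowers e).Normal := H40.normal_of_le_center' (zpowers_le.mpr hez)
    obtain ⟨k, hk⟩ := mem_zpowers_iff.mp (H40.commutator_mem_of_card_eq_mul hGp (zpowers e) E hlt.le
      (by rw [hEcard, Nat.card_zpowers, heo, pow_two]) hyE h)
    refine ⟨k, ?_⟩
    rw [← ((hcentral y).zpow_left k).eq, hk, inv_mul_cancel_right]
  have hpe : ∀ i : ℤ, e ^ i = 1 ↔ (p : ℤ) ∣ i := fun i => by rw [← orderOf_dvd_iff_zpow_eq_one, heo]
  have hpow : ∀ (h : G) (k : ℤ), h * y * h⁻¹ = y * e ^ k → ∀ i : ℕ, h ^ i * y * (h ^ i)⁻¹ = y * e ^ (k * i) := by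
    intro h k hk i
    induction i with
    | zero => simp
    | succ i ih =>
      rw [show h ^ (i + 1) * y * (h ^ (i + 1))⁻¹ = h * (h ^ i * y * (h ^ i)⁻¹) * h⁻¹ by rw [pow_succ']; group,
        ih, ← conj_mul, hk, ← ((hcentral h).zpow_left _).eq, mul_inv_cancel_right, mul_assoc, ← zpow_add]
      congr 2; push_cast; ring
  have hmk : ∀ g : G, g ∉ C → Frame p C y e g := by
    intro g hg
    obtain ⟨k, hk⟩ := hstep g
    have hkp : ¬ (p : ℤ) ∣ k := fun hd => hg (hmemC g (by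
      rw [(hpe k).mpr hd, mul_one] at hk
      exact mul_inv_eq_iff_eq_mul.mp hk))
    refine ⟨hGp, hCn, hcentral, heo, hEp y hyE, hye, hEC hyE, hEC heE, homega, hyC, ⟨k, hkp, hk⟩, ?_, hg⟩
    intro h
    obtain ⟨l, hl⟩ := hstep h
    obtain ⟨i, hi⟩ : ∃ i : ℕ, (p : ℤ) ∣ k * i - l := by
      refine ⟨((l : ZMod p) * (k : ZMod p)⁻¹).val, ?_⟩
      rw [← ZMod.intCast_zmod_eq_zero_iff_dvd]
      have hk0 : (k : ZMod p) ≠ 0 := by rwa [Ne, ZMod.intCast_zmod_eq_zero_iff_dvd]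
      simp only [Int.cast_sub, Int.cast_mul, Int.cast_natCast, ZMod.natCast_zmod_val]
      field_simp
      ring
    refine ⟨i, h * (g ^ i)⁻¹, hmemC _ (mul_inv_eq_iff_eq_mul.mp ?_), by group⟩
    have hginv : (g ^ i)⁻¹ * y * g ^ i = y * e ^ (-(k * i)) := by
      have hgi := hpow g k hk i
      calc (g ^ i)⁻¹ * y * g ^ i
          = (g ^ i)⁻¹ * (g ^ i * y * (g ^ i)⁻¹ * (e ^ (k * i))⁻¹) * g ^ i := by rw [hgi]; group
        _ = y * ((g ^ i)⁻¹ * (e ^ (k * i))⁻¹ * g ^ i) := by group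
        _ = y * e ^ (-(k * i)) := by
          rw [zpow_neg, ← (((hcentral (g ^ i)⁻¹).zpow_left (k * i)).inv_left).eq, inv_mul_cancel_right]
    calc h * (g ^ i)⁻¹ * y * (h * (g ^ i)⁻¹)⁻¹ = h * ((g ^ i)⁻¹ * y * g ^ i) * h⁻¹ := by group
      _ = y := by
        rw [hginv, ← conj_mul, hl, ← ((hcentral h).zpow_left _).eq, mul_inv_cancel_right, mul_assoc,
          ← zpow_add, (hpe _).mpr (by obtain ⟨q, hq⟩ := hi; exact ⟨-q, by linear_combination -hq⟩), mul_one]
  obtain ⟨g₀, hg₀⟩ : ∃ g, g ∉ C := by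
    by_contra hall
    push Not at hall
    exact hCtop (eq_top_iff.mpr fun h _ => hall h)
  have hidx : C.index ≤ p := by
    have hsurj : Function.Surjective (fun i : ZMod p => ((g₀ ^ i.val : G) : G ⧸ C)) := by
      intro q
      obtain ⟨h, rfl⟩ := QuotientGroup.mk_surjective q
      obtain ⟨i, c, hc, rfl⟩ := (hmk g₀ hg₀).split h
      refine ⟨(i : ZMod p), ?_⟩
      obtain ⟨k, hk⟩ := hstep g₀
      have hgp : g₀ ^ p ∈ C := hmemC _ (mul_inv_eq_iff_eq_mul.mp (by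
        rw [hpow g₀ k hk p, (hpe _).mpr (dvd_mul_left _ _), mul_one]))
      show ((g₀ ^ (i : ZMod p).val : G) : G ⧸ C) = _
      rw [QuotientGroup.mk_mul, (QuotientGroup.eq_one_iff c).mpr hc, one_mul, ZMod.val_natCast]
      conv_rhs => rw [← Nat.mod_add_div i p, pow_add, QuotientGroup.mk_mul, pow_mul, QuotientGroup.mk_pow C (g₀ ^ p),
        (QuotientGroup.eq_one_iff _).mpr hgp, one_pow, mul_one]
    rw [index_eq_card]
    exact (Nat.card_le_card_of_surjective _ hsurj).trans (Nat.card_zmod p).le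
  obtain ⟨m, hm⟩ := IsPGroup.iff_card.mp (hGp.to_subgroup C)
  have hCidx : C.index = p := by
    have h := card_mul_index C
    rw [hm, hG] at h
    obtain ⟨i, -, hi⟩ := (Nat.dvd_prime_pow (Fact.out : p.Prime)).mp (Dvd.intro_left _ h)
    rcases Nat.lt_or_ge i 1 with h0 | h0
    · exact absurd (index_eq_one.mp (hi.trans (by rw [show i = 0 by omega, pow_zero]))) hCtop
    · exact le_antisymm hidx (hi ▸ Nat.le_self_pow (by omega) p)
  have hmn : m = n - 1 := by
    have h := card_mul_index C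
    rw [hm, hG, hCidx, ← pow_succ] at h
    have := Nat.pow_right_injective (Fact.out : p.Prime).two_le h
    omega
  set K := (agemo p ↥C).map C.subtype with hKdef
  by_cases hB : ∃ g, g ∉ C ∧ g ^ p ∈ K
  · obtain ⟨g, hg, hgK⟩ := hB
    have F := hmk g hg
    by_cases hu : ∃ u ∈ C, u ^ p ^ 2 = 1 ∧ u ^ p ∉ zpowers e
    · obtain ⟨u, huC, hu2, hup⟩ := hu
      have hKu : K ≤ centralizer ({u} : Set G) := by
        rw [hKdef, agemo, MonoidHom.map_closure, closure_le]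
        rintro _ ⟨_, ⟨c, rfl⟩, rfl⟩
        refine mem_centralizer_singleton_iff.mpr ?_
        have h1 : ⁅(⟨u, huC⟩ : ↥C), c⁆ ^ p = 1 := by
          have := comm_pow_eq_one hp F.isPGroup F.pcentral (k := 1) (x := (⟨u, huC⟩ : ↥C)) (Subtype.ext hu2) c
          rwa [pow_one] at this
        have h2 : ⁅(⟨u, huC⟩ : ↥C), c ^ p⁆ = 1 := by
          rw [PGroup.commutatorElement_pow_right (PGroup.commute_of_mem_center (F.pcentral _ h1) c), h1]
        exact (congrArg Subtype.val (commutatorElement_eq_one_iff_mul_comm.mp h2)).symm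
      obtain ⟨hp3, hQ⟩ := F.two_level hp huC hu2 hup (mem_centralizer_singleton_iff.mp (hKu hgK))
      exact Or.inr (Or.inr (Or.inr ⟨hp3, hn1, F.maxClass hp (hmn ▸ hm) hQ⟩))
    push Not at hu
    have hn3 : 3 ≤ n := by
      have h := card_le_of_le hEC
      rw [hEcard, hm, Nat.pow_le_pow_iff_right (Fact.out : p.Prime).one_lt] at h
      omega
    exact Or.inr (families F hp hu hgK n hn3 (hmn ▸ hm))
  left
  push Not at hB
  refine isMetacyclic_of_agemo hp hGp ?_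
  have F := hmk g₀ hg₀
  have hlt' : K < agemo p G := by
    refine lt_of_le_of_ne ?_ fun h => hB g₀ hg₀ (h ▸ pow_mem_agemo g₀)
    rw [hKdef, agemo, MonoidHom.map_closure, closure_le]
    rintro _ ⟨_, ⟨c, rfl⟩, rfl⟩
    exact pow_mem_agemo (c : G)
  have h1 := card_mul_le_of_lt hGp hlt'
  rw [hKdef, card_map_of_injective C.subtype_injective] at h1
  have h2 : (agemo p ↥C).index ≤ p ^ 2 := (index_agemo_le hp F.isPGroup F.pcentral).trans F.card_kill
  refine Nat.le_of_mul_le_mul_left (?_ : Nat.card (agemo p G) * _ ≤ _) (Nat.card_pos (α := agemo p G))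
  calc Nat.card (agemo p G) * (agemo p G).index = Nat.card C * C.index := by
        rw [card_mul_index, card_mul_index]
    _ ≤ Nat.card (agemo p ↥C) * p ^ 2 * p := by
        rw [hCidx, ← card_mul_index (agemo p ↥C)]
        exact Nat.mul_le_mul_right _ (Nat.mul_le_mul_left _ h2)
    _ = p * Nat.card (agemo p ↥C) * p ^ 2 := by ring
    _ ≤ _ := Nat.mul_le_mul_right _ h1

end Cfsg.Agent.S3888
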