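import Cfsg.Statements.S4212
import Mathlib

set_option autoImplicit false
open Cfsg

namespace Cfsg.Agent.S4212

theorem dvd_card_of_classes {G : Type*} [Group G] [Finite G] (f : G → G) (P : G → Prop)
    (hP : ∀ a b, IsConj a b → P a → P b) (d : ℕ) (h : ∀ y, P y → d ∣ Nat.card {x : G // IsConj y (f x)}) :
    d ∣ Nat.card {x : G // P (f x)} := by
  classical
  haveI := Fintype.ofFinite G
  rw [Nat.card_eq_fintype_card, Fintype.card_subtype,
    Finset.card_eq_sum_card_fiberwise (f := fun x => ConjClasses.mk (f x)) (t := Finset.univ) (fun _ _ => Finset.mem_univ _)]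
  refine Finset.dvd_sum fun C _ => ?_
  induction C using Quotient.inductionOn with | _ y => ?_
  by_cases hy : P y
  · have h1 := h y hy
    rw [Nat.card_eq_fintype_card, Fintype.card_subtype] at h1
    refine h1.trans (dvd_of_eq (congrArg Finset.card ?_))
    ext x
    simp only [Finset.mem_filter, Finset.mem_univ, true_and]
    constructor
    · intro e; exact ⟨hP _ _ e hy, ConjClasses.mk_eq_mk_iff_isConj.mpr e.symm⟩
    · rintro ⟨-, e⟩; exact (ConjClasses.mk_eq_mk_iff_isConj.mp e).symm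
  · convert dvd_zero d
    rw [Finset.card_eq_zero]
    refine Finset.eq_empty_of_forall_notMem fun x hx => ?_
    simp only [Finset.mem_filter, Finset.mem_univ, true_and] at hx
    exact hy (hP _ _ (ConjClasses.mk_eq_mk_iff_isConj.mp hx.2) hx.1)

theorem orderOf_root {G : Type*} [Group G] [Finite G] {p e : ℕ} (hp : p.Prime) (x : G)
    (h : p ∣ orderOf (x ^ p ^ e)) : orderOf x = p ^ e * orderOf (x ^ p ^ e) := by
  obtain ⟨j, hj, hgj⟩ := (Nat.dvd_prime_pow hp).mp (Nat.gcd_dvd_right (orderOf x) (p ^ e))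
  have hmul : p ^ j * orderOf (x ^ p ^ e) = orderOf x := by
    rw [orderOf_pow, ← hgj, Nat.mul_div_cancel' (Nat.gcd_dvd_left _ _)]
  rcases Nat.lt_or_ge j e with hlt | hge
  · exfalso
    have h1 : p ^ (j + 1) ∣ Nat.gcd (orderOf x) (p ^ e) := by
      refine Nat.dvd_gcd ?_ (pow_dvd_pow p hlt)
      rw [← hmul, pow_succ]; exact Nat.mul_dvd_mul_left _ h
    rw [hgj] at h1
    have := (Nat.pow_dvd_pow_iff_le_right hp.one_lt).mp h1
    omega
  · rw [← hmul, show j = e by omega]

theorem card_roots_dvd {G : Type*} [Group G] [Finite G] {p e : ℕ} (hp : p.Prime) (c : G) (hc : p ∣ orderOf c) :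
    p ^ e ∣ Nat.card {x : G // x ^ p ^ e = c} := by
  classical
  haveI := Fintype.ofFinite G
  rw [Nat.card_eq_fintype_card, Fintype.card_subtype,
    Finset.card_eq_sum_card_fiberwise (f := fun x => Subgroup.zpowers x)
      (t := Finset.univ.image (fun x : G => Subgroup.zpowers x)) (fun _ _ => Finset.mem_image_of_mem _ (Finset.mem_univ _))]
  refine Finset.dvd_sum fun H _ => ?_
  by_cases hH : ∃ x, x ^ p ^ e = c ∧ Subgroup.zpowers x = H
  swap
  · rw [Finset.filter_false_of_mem]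
    · simp
    intro x hx e'
    exact hH ⟨x, (Finset.mem_filter.mp hx).2, e'⟩
  obtain ⟨x₀, hx₀, rfl⟩ := hH
  have hord : ∀ y : G, y ^ p ^ e = c → orderOf y = p ^ e * orderOf c := fun y hy => by
    rw [← hy]; exact orderOf_root hp y (hy.symm ▸ hc)
  set K := Subgroup.zpowers (x₀ ^ orderOf c)
  have hK : Nat.card K = p ^ e := by
    rw [Nat.card_zpowers, orderOf_pow, hord _ hx₀, Nat.gcd_eq_right (dvd_mul_left _ _),
      Nat.mul_div_cancel _ (orderOf_pos c)]
  refine (dvd_of_eq hK.symm).trans ?_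
  rw [← Nat.card_eq_finsetCard]
  apply dvd_of_eq
  refine Nat.card_congr ⟨fun k => ⟨x₀ * (k : G), ?_⟩, fun y => ⟨x₀⁻¹ * (y : G), ?_⟩,
    fun k => by simp, fun y => by simp⟩
  · obtain ⟨i, hi⟩ := Subgroup.mem_zpowers_iff.mp k.2
    have hk : (k : G) ^ p ^ e = 1 := by
      rw [← Subgroup.coe_pow, ← hK, pow_card_eq_one']; rfl
    have hkx : (k : G) ∈ Subgroup.zpowers x₀ :=
      (Subgroup.zpowers_le.mpr (pow_mem (Subgroup.mem_zpowers x₀) _)) k.2
    obtain ⟨l, hl⟩ := Subgroup.mem_zpowers_iff.mp hkx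
    have hcomm : Commute x₀ (k : G) := hl ▸ Commute.self_zpow x₀ l
    have hpow : (x₀ * (k : G)) ^ p ^ e = c := by rw [hcomm.mul_pow, hk, mul_one, hx₀]
    simp only [Finset.mem_filter, Finset.mem_univ, true_and]
    refine ⟨hpow, Subgroup.eq_of_le_of_card_ge (Subgroup.zpowers_le.mpr (mul_mem (Subgroup.mem_zpowers x₀) hkx)) ?_⟩
    rw [Nat.card_zpowers, Nat.card_zpowers, hord _ hpow, hord _ hx₀]
  · obtain ⟨hy, hyz⟩ : (y : G) ^ p ^ e = c ∧ Subgroup.zpowers (y : G) = Subgroup.zpowers x₀ := by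
      exact ⟨(Finset.mem_filter.mp (Finset.mem_filter.mp y.2).1).2, (Finset.mem_filter.mp y.2).2⟩
    have hyx : (y : G) ∈ Subgroup.zpowers x₀ := hyz.le (Subgroup.mem_zpowers _)
    obtain ⟨i, hi⟩ := Subgroup.mem_zpowers_iff.mp (mul_mem (inv_mem (Subgroup.mem_zpowers x₀)) hyx)
    have hcomm : Commute x₀⁻¹ (y : G) := by
      obtain ⟨l, hl⟩ := Subgroup.mem_zpowers_iff.mp hyx
      exact hl ▸ (Commute.self_zpow x₀ l).inv_left
    have hpow : (x₀⁻¹ * (y : G)) ^ p ^ e = 1 := by rw [hcomm.mul_pow, hy, inv_pow, hx₀, inv_mul_cancel]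
    rw [← hi] at hpow ⊢
    have hdvd : (orderOf c : ℤ) ∣ i := by
      have h1 : (orderOf x₀ : ℤ) ∣ i * (p ^ e : ℕ) :=
        orderOf_dvd_iff_zpow_eq_one.mpr (by rw [zpow_mul, zpow_natCast]; exact hpow)
      rw [hord _ hx₀, Nat.cast_mul, mul_comm i] at h1
      exact (mul_dvd_mul_iff_left (by exact_mod_cast pow_ne_zero e hp.ne_zero)).mp h1
    obtain ⟨t, rfl⟩ := hdvd
    exact Subgroup.mem_zpowers_iff.mpr ⟨t, by rw [zpow_mul, zpow_natCast]⟩

universe u

theorem main : ∀ (N : ℕ) (G : Type u) [Group G] [Finite G], Nat.card G ≤ N → ∀ (n : ℕ) (c : G),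
    Nat.gcd (Nat.card {y : G // IsConj c y} * n) (Nat.card G) ∣ Nat.card {x : G // IsConj c (x ^ n)} := by
  intro N
  induction N with
  | zero => intro G _ _ h; have : 0 < Nat.card G := Nat.card_pos; omega
  | succ N ihN =>
  intro G _ _ hG n
  classical
  induction n using Nat.strong_induction_on with
  | _ n ihn =>
  have noncentral : ∀ c : G, c ∉ Subgroup.center G →
      Nat.gcd (Nat.card {y : G // IsConj c y} * n) (Nat.card G) ∣ Nat.card {x : G // IsConj c (x ^ n)} := by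
    intro c hc
    set Z := Subgroup.centralizer ({c} : Set G)
    have hZ : ∀ z, z ∈ Z ↔ z * c = c * z := fun z => Subgroup.mem_centralizer_singleton_iff
    choose g hg using fun y : {y : G // IsConj c y} => isConj_iff.mp y.2
    have hfib : Nat.card {x : G // IsConj c (x ^ n)} = Nat.card {y : G // IsConj c y} * Nat.card {x : G // x ^ n = c} := by
      rw [← Nat.card_prod]
      have fwd : ∀ (y : {y : G // IsConj c y}) (x : {x : G // x ^ n = c}), IsConj c ((g y * x.1 * (g y)⁻¹) ^ n) := by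
        intro y x; rw [conj_pow, x.2, hg]; exact y.2
      have bwd : ∀ x : {x : G // IsConj c (x ^ n)}, ((g ⟨x.1 ^ n, x.2⟩)⁻¹ * x.1 * g ⟨x.1 ^ n, x.2⟩) ^ n = c := by
        intro x
        have h1 := conj_pow (i := n) (a := (g ⟨x.1 ^ n, x.2⟩)⁻¹) (b := x.1)
        rw [inv_inv] at h1
        have h2 := hg ⟨x.1 ^ n, x.2⟩
        rw [h1]
        conv_lhs => arg 1; arg 2; rw [show x.1 ^ n = g ⟨x.1 ^ n, x.2⟩ * c * (g ⟨x.1 ^ n, x.2⟩)⁻¹ from h2.symm]
        group
      refine (Nat.card_congr ⟨fun p => ⟨_, fwd p.1 p.2⟩,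
        fun x => (⟨x.1 ^ n, x.2⟩, ⟨_, bwd x⟩), ?_, ?_⟩).symm
      · rintro ⟨y, x⟩
        have hy : (g y * x.1 * (g y)⁻¹) ^ n = y.1 := by rw [conj_pow, x.2, hg]
        have hy' : (⟨(g y * x.1 * (g y)⁻¹) ^ n, by rw [hy]; exact y.2⟩ : {y : G // IsConj c y}) = y := Subtype.ext hy
        simp only [Prod.mk.injEq]
        refine ⟨hy', Subtype.ext ?_⟩
        show (g ⟨(g y * x.1 * (g y)⁻¹) ^ n, _⟩)⁻¹ * (g y * x.1 * (g y)⁻¹) * g ⟨(g y * x.1 * (g y)⁻¹) ^ n, _⟩ = x.1
        rw [hy']; group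
      · rintro ⟨x, hx⟩
        apply Subtype.ext
        show g ⟨x ^ n, hx⟩ * ((g ⟨x ^ n, hx⟩)⁻¹ * x * g ⟨x ^ n, hx⟩) * (g ⟨x ^ n, hx⟩)⁻¹ = x
        group
    have horb : Nat.card {y : G // IsConj c y} = Z.index := by
      rw [Subgroup.index]
      have hmem : ∀ x : G, IsConj c (x * c * x⁻¹) := fun x => isConj_iff.mpr ⟨x, rfl⟩
      let f : G ⧸ Z → {y : G // IsConj c y} := fun q => Quotient.liftOn' q (fun x => ⟨x * c * x⁻¹, hmem x⟩) (fun a b hab => by
        rw [QuotientGroup.leftRel_apply, hZ] at hab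
        apply Subtype.ext
        show a * c * a⁻¹ = b * c * b⁻¹
        calc a * c * a⁻¹ = a * (c * (a⁻¹ * b)) * b⁻¹ := by group
          _ = _ := by rw [← hab]; group)
      refine (Nat.card_eq_of_bijective f ⟨?_, ?_⟩).symm
      · intro p q
        induction p using QuotientGroup.induction_on with | _ a => ?_
        induction q using QuotientGroup.induction_on with | _ b => ?_
        intro h
        have h' : a * c * a⁻¹ = b * c * b⁻¹ := congrArg Subtype.val h
        refine QuotientGroup.eq.mpr ((hZ _).mpr ?_)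
        calc a⁻¹ * b * c = a⁻¹ * (b * c * b⁻¹) * b := by group
          _ = _ := by rw [← h']; group
      · intro y; exact ⟨((g y : G) : G ⧸ Z), Subtype.ext (hg y)⟩
    have hcZ : c ∈ Z := (hZ c).mpr rfl
    have hlt : Nat.card Z ≤ N := by
      have h1 := Z.card_mul_index
      have h2 : 2 ≤ Z.index := by
        have h0 := Subgroup.index_ne_zero_of_finite (H := Z)
        have h3 : Z.index ≠ 1 := fun e => hc (Subgroup.mem_center_iff.mpr fun x =>
          (hZ x).mp ((Subgroup.index_eq_one.mp e).symm ▸ Subgroup.mem_top x))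
        omega
      have h4 : 0 < Nat.card Z := Nat.card_pos
      nlinarith
    have hih := ihN Z hlt n ⟨c, hcZ⟩
    have hone : ∀ y : Z, IsConj (⟨c, hcZ⟩ : Z) y ↔ y = ⟨c, hcZ⟩ := fun y => by
      refine ⟨fun h => ?_, fun h => h ▸ IsConj.refl _⟩
      obtain ⟨w, hw⟩ := isConj_iff.mp h
      rw [← hw]
      apply Subtype.ext
      show (w : G) * c * (w : G)⁻¹ = c
      rw [(hZ w).mp w.2]; group
    have e1 : Nat.card {y : Z // IsConj (⟨c, hcZ⟩ : Z) y} = 1 := by
      rw [Nat.card_congr (Equiv.subtypeEquivRight hone)]; simp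
    have e2 : Nat.card {x : Z // IsConj (⟨c, hcZ⟩ : Z) (x ^ n)} = Nat.card {x : G // x ^ n = c} := by
      refine Nat.card_congr ⟨fun x => ⟨x.1.1, congrArg Subtype.val ((hone _).mp x.2)⟩,
        fun x => ⟨⟨x.1, (hZ _).mpr ?_⟩, (hone _).mpr (Subtype.ext x.2)⟩, fun _ => rfl, fun _ => rfl⟩
      have hcm : ∀ d : G, x.1 ^ n = d → x.1 * d = d * x.1 := by intro d hd; subst hd; exact (Commute.self_pow x.1 n).eq
      exact hcm c x.2
    rw [e1, e2, one_mul] at hih
    rw [hfib, horb, ← Z.card_mul_index, mul_comm (Nat.card Z), Nat.gcd_mul_left]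
    exact mul_dvd_mul_left _ hih
  intro c
  by_cases hc : c ∈ Subgroup.center G
  swap
  · exact noncentral c hc
  have hone : ∀ z : G, z ∈ Subgroup.center G → ∀ y, IsConj z y ↔ y = z := fun z hz y => by
    refine ⟨fun h => ?_, fun h => h ▸ IsConj.refl z⟩
    obtain ⟨w, hw⟩ := isConj_iff.mp h
    rw [← hw, Subgroup.mem_center_iff.mp hz w]; group
  rw [Nat.card_congr (Equiv.subtypeEquivRight (hone c hc)), Nat.card_congr (Equiv.subtypeEquivRight (fun x : G => hone c hc (x ^ n))),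
    show Nat.card {y : G // y = c} = 1 by simp, one_mul]
  rcases Nat.lt_or_ge n 2 with hn | hn
  · interval_cases n
    · by_cases h1 : c = 1
      · subst h1
        rw [Nat.gcd_zero_left, Nat.card_congr (Equiv.subtypeUnivEquiv (fun x : G => pow_zero x))]
      · haveI : IsEmpty {x : G // x ^ 0 = c} := ⟨fun x => h1 (by simpa using x.2.symm)⟩
        rw [Nat.card_of_isEmpty (α := {x : G // x ^ 0 = c})]
        exact dvd_zero _
    · simp
  obtain ⟨p, hp, hpn⟩ := Nat.exists_prime_and_dvd (by omega : n ≠ 1)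
  obtain ⟨e, m, hm, hnm⟩ := Nat.exists_eq_pow_mul_and_not_dvd (by omega : n ≠ 0) p hp.ne_one
  have he : e ≠ 0 := by rintro rfl; simp at hnm; exact hm (hnm ▸ hpn)
  by_cases hm1 : m = 1
  swap
  · -- two coprime factors
    have part : ∀ u v, n = u * v → v < n → Nat.gcd v (Nat.card G) ∣ Nat.card {x : G // x ^ n = c} := by
      intro u v huv hv
      have hiff : ∀ x : G, (x ^ n = c) ↔ (x ^ v) ^ u = c := fun x => by rw [← pow_mul, mul_comm v, ← huv]
      rw [Nat.card_congr (Equiv.subtypeEquivRight hiff)]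
      refine dvd_card_of_classes (fun x => x ^ v) (fun y => y ^ u = c) ?_ _ fun y _ => ?_
      · intro a b hab ha
        obtain ⟨w, hw⟩ := isConj_iff.mp hab
        rw [← hw, conj_pow, ha, Subgroup.mem_center_iff.mp hc w]; group
      · exact (Nat.gcd_dvd_gcd_of_dvd_left _ (dvd_mul_left v _)).trans (ihn v hv y)
    have hcop : Nat.Coprime (p ^ e) m := (hp.coprime_iff_not_dvd.mpr hm).pow_left e
    rw [hnm, Nat.Coprime.gcd_mul _ hcop |> fun h => (Nat.gcd_comm _ _).trans h]
    refine Nat.Coprime.mul_dvd_of_dvd_of_dvd ?_ ?_ ?_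
    · exact (hcop.coprime_dvd_left (Nat.gcd_dvd_right _ _)).coprime_dvd_right (Nat.gcd_dvd_right _ _)
    · rw [Nat.gcd_comm, ← hnm]
      refine part m (p ^ e) (by rw [hnm, mul_comm]) ?_
      have hpos : 0 < p ^ e := pow_pos hp.pos e
      have hm0 : m ≠ 0 := by rintro rfl; simp at hnm; omega
      have : 1 < m := by omega
      nlinarith
    · rw [Nat.gcd_comm, ← hnm]
      refine part (p ^ e) m hnm ?_
      have : 1 < p ^ e := Nat.one_lt_pow he hp.one_lt
      have hm0 : m ≠ 0 := by rintro rfl; simp at hnm; omega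
      nlinarith [Nat.pos_of_ne_zero hm0]
  subst hm1
  rw [mul_one] at hnm
  by_cases hpc : p ∣ orderOf c
  · rw [hnm]; exact (Nat.gcd_dvd_left _ _).trans (card_roots_dvd hp c hpc)
  -- reduce to `c = 1`
  set d := Nat.gcd n (Nat.card G)
  have hroot : ∀ z : G, z ∈ Subgroup.center G → ¬ p ∣ orderOf z → ∃ r : G, r ∈ Subgroup.center G ∧ r ^ n = z := by
    intro z hz hzp
    obtain ⟨k, hk⟩ := exists_pow_eq_self_of_coprime (x := z) (n := n)
      (by rw [hnm]; exact (hp.coprime_iff_not_dvd.mpr hzp).pow_left e)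
    exact ⟨z ^ k, pow_mem hz k, by rw [← pow_mul, mul_comm, pow_mul, hk]⟩
  choose! r hr hrn using hroot
  have hshift : ∀ z, z ∈ Subgroup.center G → ¬ p ∣ orderOf z →
      Nat.card {x : G // x ^ n = z} = Nat.card {x : G // x ^ n = 1} := by
    intro z hz hzp
    refine Nat.card_congr ⟨fun x => ⟨(r z)⁻¹ * x.1, ?_⟩, fun x => ⟨r z * x.1, ?_⟩, fun x => by simp, fun x => by simp⟩
    · rw [((show Commute (r z) x.1 from (Subgroup.mem_center_iff.mp (hr z hz hzp) x.1).symm).inv_left).mul_pow, inv_pow, hrn z hz hzp, x.2, inv_mul_cancel]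
    · rw [(show Commute (r z) x.1 from (Subgroup.mem_center_iff.mp (hr z hz hzp) x.1).symm).mul_pow, hrn z hz hzp, x.2, mul_one]
  rw [hshift c hc hpc]
  let Q : G → Prop := fun z => z ∈ Subgroup.center G ∧ ¬ p ∣ orderOf z
  have h1 : d ∣ Nat.card {x : G // ¬ Q (x ^ n)} := by
    refine dvd_card_of_classes (fun x => x ^ n) (fun y => ¬ Q y) ?_ d fun y hy => ?_
    · intro a b hab ha hb
      obtain ⟨w, hw⟩ := isConj_iff.mp hab.symm
      apply ha
      have : a = b := by rw [← hw, Subgroup.mem_center_iff.mp hb.1 w]; group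
      rw [this]; exact hb
    · by_cases hy' : y ∈ Subgroup.center G
      · rw [Nat.card_congr (Equiv.subtypeEquivRight (fun x : G => hone y hy' (x ^ n)))]
        have : p ∣ orderOf y := by_contra fun h => hy ⟨hy', h⟩
        refine (Nat.gcd_dvd_left _ _).trans ?_
        rw [hnm]; exact card_roots_dvd hp y this
      · exact (Nat.gcd_dvd_gcd_of_dvd_left _ (dvd_mul_left n _)).trans (noncentral y hy')
  have h2 : d ∣ Nat.card {x : G // Q (x ^ n)} := by
    have hsum := Nat.card_congr (Equiv.sumCompl (fun x : G => Q (x ^ n)))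
    rw [Nat.card_sum] at hsum
    exact (Nat.dvd_add_iff_left h1).mpr (hsum.symm ▸ Nat.gcd_dvd_right _ _)
  have h3 : Nat.card {x : G // Q (x ^ n)} = Nat.card {z : G // Q z} * Nat.card {x : G // x ^ n = 1} := by
    rw [← Nat.card_prod]
    have fwd : ∀ (z : {z : G // Q z}) (x : {x : G // x ^ n = 1}), Q ((r z.1 * x.1) ^ n) := by
      intro z x
      have hcm : Commute (r z.1) x.1 := (Subgroup.mem_center_iff.mp (hr _ z.2.1 z.2.2) x.1).symm
      rw [hcm.mul_pow, hrn _ z.2.1 z.2.2, x.2, mul_one]; exact z.2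
    have bwd : ∀ x : {x : G // Q (x ^ n)}, ((r (x.1 ^ n))⁻¹ * x.1) ^ n = 1 := by
      intro x
      have hcm : Commute (r (x.1 ^ n)) x.1 := (Subgroup.mem_center_iff.mp (hr _ x.2.1 x.2.2) x.1).symm
      rw [hcm.inv_left.mul_pow, inv_pow, hrn _ x.2.1 x.2.2, inv_mul_cancel]
    refine (Nat.card_congr ⟨fun q => ⟨_, fwd q.1 q.2⟩, fun x => (⟨x.1 ^ n, x.2⟩, ⟨_, bwd x⟩), ?_, fun x => by simp⟩).symm
    · rintro ⟨z, x⟩
      have hcm : Commute (r z.1) x.1 := (Subgroup.mem_center_iff.mp (hr _ z.2.1 z.2.2) x.1).symm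
      have hz : (r z.1 * x.1) ^ n = z.1 := by rw [hcm.mul_pow, hrn _ z.2.1 z.2.2, x.2, mul_one]
      simp only [Prod.mk.injEq]
      refine ⟨Subtype.ext hz, Subtype.ext ?_⟩
      show (r ((r z.1 * x.1) ^ n))⁻¹ * (r z.1 * x.1) = x.1
      rw [hz, inv_mul_cancel_left]
  have h4 : Nat.Coprime d (Nat.card {z : G // Q z}) := by
    refine Nat.Coprime.coprime_dvd_left (Nat.gcd_dvd_left _ _) ?_
    rw [hnm]
    refine (hp.coprime_iff_not_dvd.mpr fun hd => ?_).pow_left e
    let W : Subgroup G :=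
      { carrier := {z | Q z}
        mul_mem' := fun {a b} ha hb => ⟨mul_mem ha.1 hb.1, fun h => by
          have := h.trans ((show Commute a b from (Subgroup.mem_center_iff.mp ha.1 b).symm).orderOf_mul_dvd_mul_orderOf)
          rcases (Nat.Prime.dvd_mul hp).mp this with h' | h'
          · exact ha.2 h'
          · exact hb.2 h'⟩
        one_mem' := ⟨one_mem _, by rw [orderOf_one]; exact hp.not_dvd_one⟩
        inv_mem' := fun {a} ha => ⟨inv_mem ha.1, by rw [orderOf_inv]; exact ha.2⟩ }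
    haveI := Fact.mk hp
    obtain ⟨w, hw⟩ := exists_prime_orderOf_dvd_card' (G := W) p hd
    refine w.2.2 ?_
    rw [Subgroup.orderOf_coe, hw]
  rw [h3] at h2
  exact h4.dvd_of_dvd_mul_left h2

/-- Let `G` be a finite group of order `g`, `c` an element whose conjugacy class has `h` elements, and `n` a natural number. Then the number of elements `x` of `G` with `x^n` conjugate to `c` is a multiple of `gcd(hn, g)`. -/
theorem result {G : Type*} [Group G] [Finite G] (c : G) (n : ℕ) : Nat.gcd (Nat.card {y : G // IsConj c y} * n) (Nat.card G) ∣ Nat.card {x : G // IsConj c (x ^ n)} := by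
  exact main (Nat.card G) G le_rfl n c

end Cfsg.Agent.S4212
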