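import Cfsg.Statements.S3806
import Cfsg.Agent.PLocalB.MaximalClassNormal
import Cfsg.Agent.FG72.MaxClass.Rank

set_option autoImplicit false
open Cfsg

namespace Cfsg.Agent.S3806

open scoped commutatorElement

variable {G : Type*} [Group G] [Finite G] {p : ℕ} [hp : Fact p.Prime]

/-- Orders of the lower central terms in a group of maximal class of order `p ^ (m + 1)`. -/
theorem card_lcs (hG : IsPGroup p G) (m : ℕ) (hcard : Nat.card G = p ^ (m + 1))
    (hne : ∀ i, i < m → (⊤ : Subgroup G).lowerCentralSeries i ≠ ⊥)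
    (hbot : (⊤ : Subgroup G).lowerCentralSeries m = ⊥) (i : ℕ) (h1 : 1 ≤ i) (h2 : i ≤ m) :
    Nat.card ((⊤ : Subgroup G).lowerCentralSeries i) = p ^ (m - i) := by
  have hlow : ∀ j i, i + j = m → p ^ j ≤ Nat.card ((⊤ : Subgroup G).lowerCentralSeries i) := by
    intro j
    induction j with
    | zero => intro i _; simpa using (Nat.one_le_iff_ne_zero.mpr Nat.card_pos.ne')
    | succ j ih =>
      intro i hi
      rw [pow_succ']
      exact (Nat.mul_le_mul_left p (ih (i + 1) (by omega))).trans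
        (PLocalB.card_mul_le_of_lt (hG.to_subgroup _)
          (PLocalB.lowerCentralSeries_succ_lt hG i (hne i (by omega))))
  rcases Nat.lt_or_ge i m with h | h
  · refine le_antisymm ?_ (hlow (m - i) i (by omega))
    have h3 := PLocalB.index_lowerCentralSeries_ge hG i h1 (hne i h)
    have h4 := Subgroup.card_mul_index ((⊤ : Subgroup G).lowerCentralSeries i)
    rw [hcard, show m + 1 = (m - i) + (i + 1) by omega, pow_add] at h4
    refine Nat.le_of_mul_le_mul_right ?_ (pow_pos hp.out.pos (i + 1))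
    rw [← h4]
    exact Nat.mul_le_mul_left _ h3
  · obtain rfl : i = m := by omega
    rw [hbot, Nat.sub_self, pow_zero, Subgroup.card_bot]

theorem pow_mem_lcs_one (hG : IsPGroup p G) (hnc : ¬ IsCyclic G)
    (h : ((⊤ : Subgroup G).lowerCentralSeries 1).index = p ^ 2) (g : G) :
    g ^ p ∈ (⊤ : Subgroup G).lowerCentralSeries 1 := by
  have hle : (⊤ : Subgroup G).lowerCentralSeries 1 ≤ frattini G := by
    rw [Subgroup.lowerCentralSeries_one]
    exact Cfsg.Agent.PGroup.commutator_le_frattini hG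
  have heq : (⊤ : Subgroup G).lowerCentralSeries 1 = frattini G := by
    refine Subgroup.eq_of_le_of_card_ge hle ?_
    have h1 := Subgroup.card_mul_index (frattini G)
    have h2 := Subgroup.card_mul_index ((⊤ : Subgroup G).lowerCentralSeries 1)
    have h3 := PLocalB.frattini_index_ge_sq hG hnc
    rw [h, ← h1] at h2
    exact Nat.le_of_mul_le_mul_right ((Nat.mul_le_mul_left _ h3).trans h2.ge) (pow_pos hp.out.pos 2)
  rw [heq, ← QuotientGroup.eq_one_iff, QuotientGroup.mk_pow]
  exact Cfsg.Agent.PGroup.quotient_frattini_pow hG _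

omit hp in
theorem not_sectional {k : ℕ} (hp1 : 1 < p) (H N : Subgroup G) [N.Normal] (hle : N ≤ H)
    (hcard : Nat.card H = p ^ (k + 1) * Nat.card N) (hcomm : ∀ a ∈ H, ∀ b ∈ H, ⁅a, b⁆ ∈ N)
    (hexp : ∀ a ∈ H, a ^ p ∈ N) : ¬ Cfsg.SectionalPRankLE p k G := by
  intro hsr
  have hc : IsMulCommutative (⊤ : Subgroup (↥H ⧸ N.subgroupOf H)) := by
    refine ⟨⟨fun u v => Subtype.ext ?_⟩⟩
    obtain ⟨a, ha⟩ := QuotientGroup.mk_surjective (u : ↥H ⧸ N.subgroupOf H)
    obtain ⟨b, hb⟩ := QuotientGroup.mk_surjective (v : ↥H ⧸ N.subgroupOf H)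
    show (u : ↥H ⧸ N.subgroupOf H) * v = v * u
    rw [← ha, ← hb, ← commutatorElement_eq_one_iff_mul_comm]
    exact (QuotientGroup.eq_one_iff ⁅a, b⁆).mpr (hcomm a a.2 b b.2)
  have h := hsr H (N.subgroupOf H) ⊤ hc fun u _ => by
    obtain ⟨a, rfl⟩ := QuotientGroup.mk_surjective u
    rw [← QuotientGroup.mk_pow, QuotientGroup.eq_one_iff]
    exact hexp a a.2
  rw [Subgroup.card_top] at h
  have h2 := Subgroup.card_eq_card_quotient_mul_card_subgroup (N.subgroupOf H)
  rw [hcard, Nat.card_congr (Subgroup.subgroupOfEquivOfLe hle).toEquiv] at h2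
  rw [← Nat.eq_of_mul_eq_mul_right Nat.card_pos h2] at h
  exact absurd ((Nat.pow_le_pow_iff_right hp1).mp h) (by omega)

/-- Let p be a prime and S a finite p-group of order pⁿ (n ≥ 2) of maximal nilpotency class n − 1 whose sectional p-rank is exactly k (every section has p-rank at most k, and some section has p-rank k). If p ≥ k + 2 then the order of S is at most p^(2k). -/
theorem result {S : Type*} [Group S] [Finite S] (p : ℕ) [Fact p.Prime] (hS : IsPGroup p S) [Group.IsNilpotent S]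
    (n : ℕ) (hn : 2 ≤ n) (hcard : Nat.card S = p ^ n) (hmax : Group.nilpotencyClass S = n - 1)
    (k : ℕ) (hk : 1 ≤ k) (hsr : Cfsg.SectionalPRankLE p k S ∧ ¬ Cfsg.SectionalPRankLE p (k - 1) S)
    (hpk : k + 2 ≤ p) : Nat.card S ≤ p ^ (2 * k) := by
  by_contra hcon
  have hp := (Fact.out : p.Prime)
  have hn2 : 2 * k + 1 ≤ n := by
    by_contra h
    exact hcon (hcard ▸ Nat.pow_le_pow_right hp.pos (by omega))
  have hbot : (⊤ : Subgroup S).lowerCentralSeries (n - 1) = ⊥ := by
    rw [← hmax]; exact Subgroup.lowerCentralSeries_nilpotencyClass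
  have hne : ∀ i, i < n - 1 → (⊤ : Subgroup S).lowerCentralSeries i ≠ ⊥ := fun i hi h => by
    have := Subgroup.lowerCentralSeries_eq_bot_iff_nilpotencyClass_le.mp h
    omega
  have hcS : ∀ i, 1 ≤ i → i ≤ n - 1 →
      Nat.card ((⊤ : Subgroup S).lowerCentralSeries i) = p ^ (n - 1 - i) :=
    card_lcs hS (n - 1) (by rw [hcard, show n - 1 + 1 = n by omega]) hne hbot
  have hnc : ¬ IsCyclic S := fun hc => hne 1 (by omega) (by
    haveI := hc
    letI := IsCyclic.commGroup (α := S)
    rw [Subgroup.lowerCentralSeries_one, eq_bot_iff]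
    change ⁅(⊤ : Subgroup S), ⊤⁆ ≤ ⊥
    rw [Subgroup.commutator_le]
    intro x _ y _
    rw [Subgroup.mem_bot, commutatorElement_eq_one_iff_mul_comm]
    exact mul_comm x y)
  rcases Nat.lt_or_ge k 2 with hk2 | hk2
  · obtain rfl : k = 1 := by omega
    refine not_sectional hp.one_lt ⊤ ((⊤ : Subgroup S).lowerCentralSeries 1) le_top ?_ ?_ ?_ hsr.1
    · rw [Subgroup.card_top, hcard, hcS 1 le_rfl (by omega), ← pow_add]
      congr 1
      omega
    · intro a _ b _
      rw [Subgroup.lowerCentralSeries_one]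
      exact Subgroup.commutator_mem_commutator (Subgroup.mem_top a) (Subgroup.mem_top b)
    · intro a _
      refine pow_mem_lcs_one hS hnc ?_ a
      have h := Subgroup.card_mul_index ((⊤ : Subgroup S).lowerCentralSeries 1)
      rw [hcard, hcS 1 le_rfl (by omega), show n = n - 1 - 1 + 2 by omega, pow_add,
        show n - 1 - 1 + 2 - 1 - 1 = n - 1 - 1 by omega] at h
      exact Nat.eq_of_mul_eq_mul_left (pow_pos hp.pos _) h
  set M := (⊤ : Subgroup S).lowerCentralSeries (2 * k) with hM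
  have hMc : Nat.card M = p ^ (n - 1 - 2 * k) := hcS _ (by omega) (by omega)
  have hQc : Nat.card (S ⧸ M) = p ^ (2 * k + 1) := by
    have h := Subgroup.card_eq_card_quotient_mul_card_subgroup M
    rw [hcard, hMc, show n = 2 * k + 1 + (n - 1 - 2 * k) by omega, pow_add,
      show 2 * k + 1 + (n - 1 - 2 * k) - 1 - 2 * k = n - 1 - 2 * k by omega] at h
    exact (Nat.eq_of_mul_eq_mul_right (pow_pos hp.pos _) h).symm
  have hmap : ∀ i, (⊤ : Subgroup (S ⧸ M)).lowerCentralSeries i =
      ((⊤ : Subgroup S).lowerCentralSeries i).map (QuotientGroup.mk' M) := fun i => by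
    rw [Subgroup.map_lowerCentralSeries,
      Subgroup.map_top_of_surjective _ (QuotientGroup.mk'_surjective M)]
  have hQbot : (⊤ : Subgroup (S ⧸ M)).lowerCentralSeries (2 * k) = ⊥ := by
    rw [hmap, Subgroup.map_eq_bot_iff, QuotientGroup.ker_mk']
  have hQne : ∀ i, i < 2 * k → (⊤ : Subgroup (S ⧸ M)).lowerCentralSeries i ≠ ⊥ := by
    intro i hi h
    rw [hmap, Subgroup.map_eq_bot_iff, QuotientGroup.ker_mk'] at h
    have h1 : (⊤ : Subgroup S).lowerCentralSeries (2 * k - 1) ≤ M :=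
      (Subgroup.lowerCentralSeries_antitone _ (by omega)).trans h
    have h2 := Nat.le_of_dvd Nat.card_pos (Subgroup.card_dvd_of_le h1)
    rw [hcS _ (by omega) (by omega), hMc] at h2
    have := (Nat.pow_le_pow_iff_right hp.one_lt).mp h2
    omega
  have hQ := hS.to_quotient M
  have hcQ := card_lcs hQ (2 * k) hQc hQne hQbot
  have hstep : ∀ i, 1 ≤ i → i + 1 ≤ 2 * k → ((⊤ : Subgroup (S ⧸ M)).lowerCentralSeries (i + 1)).relIndex
      ((⊤ : Subgroup (S ⧸ M)).lowerCentralSeries i) = p := by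
    intro i h1 h2
    have h := Subgroup.relIndex_mul_index (Subgroup.lowerCentralSeries_antitone
      (⊤ : Subgroup (S ⧸ M)) (Nat.le_succ i))
    have h3 := Subgroup.card_mul_index ((⊤ : Subgroup (S ⧸ M)).lowerCentralSeries (i + 1))
    have h4 := Subgroup.card_mul_index ((⊤ : Subgroup (S ⧸ M)).lowerCentralSeries i)
    rw [← h, hcQ _ (by omega) (by omega), hQc] at h3
    rw [hcQ _ h1 (by omega), hQc] at h4
    rw [← h4, show 2 * k - i = 2 * k - (i + 1) + 1 by omega, pow_succ, ← mul_assoc] at h3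
    exact Nat.eq_of_mul_eq_mul_left (pow_pos hp.pos (2 * k - (i + 1)))
      (Nat.eq_of_mul_eq_mul_right (Nat.pos_of_ne_zero Subgroup.index_ne_zero_of_finite) h3)
  have hncQ : ¬ IsCyclic (S ⧸ M) := fun hc => hQne 1 (by omega) (by
    haveI := hc
    letI := IsCyclic.commGroup (α := S ⧸ M)
    rw [Subgroup.lowerCentralSeries_one, eq_bot_iff]
    change ⁅(⊤ : Subgroup (S ⧸ M)), ⊤⁆ ≤ ⊥
    rw [Subgroup.commutator_le]
    intro x _ y _
    rw [Subgroup.mem_bot, commutatorElement_eq_one_iff_mul_comm]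
    exact mul_comm x y)
  have hfirst : ∀ g : S ⧸ M, g ^ p ∈ (⊤ : Subgroup (S ⧸ M)).lowerCentralSeries 1 := by
    refine pow_mem_lcs_one hQ hncQ ?_
    have h := Subgroup.card_mul_index ((⊤ : Subgroup (S ⧸ M)).lowerCentralSeries 1)
    rw [hQc, hcQ 1 le_rfl (by omega), show 2 * k + 1 = 2 * k - 1 + 2 by omega, pow_add] at h
    exact Nat.eq_of_mul_eq_mul_left (pow_pos hp.pos _) h
  have hcm := FG72.MaxClass.lcs_comm_self hk2 hstep hQbot
  have hpw := FG72.MaxClass.pow_eq_one hQ hk2 hpk hfirst hstep hQbot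
  have hin : ∀ a ∈ (⊤ : Subgroup S).lowerCentralSeries (k - 1),
      (a : S ⧸ M) ∈ (⊤ : Subgroup (S ⧸ M)).lowerCentralSeries (k - 1) := fun a ha => by
    rw [hmap]; exact ⟨a, ha, rfl⟩
  refine not_sectional hp.one_lt ((⊤ : Subgroup S).lowerCentralSeries (k - 1)) M
    (Subgroup.lowerCentralSeries_antitone _ (by omega)) ?_ ?_ ?_ hsr.1
  · rw [hcS _ (by omega) (by omega), hMc, ← pow_add]
    congr 1
    omega
  · intro a ha b hb
    rw [← QuotientGroup.eq_one_iff]
    exact commutatorElement_eq_one_iff_mul_comm.mpr (hcm _ (hin a ha) _ (hin b hb))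
  · intro a ha
    rw [← QuotientGroup.eq_one_iff, QuotientGroup.mk_pow]
    exact hpw _ (hin a ha)

end Cfsg.Agent.S3806
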