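import Cfsg.Statements.S2756
import Cfsg.Agent.PLocalB.ZJFailure
import Cfsg.Agent.Lib.Involution.BaerSuzuki
import Cfsg.Agent.Lib.Involution.Dihedral

set_option autoImplicit false
set_option linter.style.haveILetI false
open Cfsg

namespace Cfsg.Agent.S2756

open Cfsg.Agent.ConjFunctor Cfsg.Agent.PLocalB Cfsg.Agent.PLocalB.ZJFail

/-- No element of odd order is inverted when the Sylow `2`-subgroup is normal. -/
theorem no_inversion {K : Type*} [Group K] [Finite K]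
    (hP : ∀ P : Sylow 2 K, (P : Subgroup K).Normal) {g x : K} (hx : Odd (orderOf x))
    (h : g * x * g⁻¹ = x⁻¹) : x = 1 := by
  haveI : Fact (Nat.Prime 2) := ⟨Nat.prime_two⟩
  let P : Sylow 2 K := default
  haveI := hP P
  set π := QuotientGroup.mk' (P : Subgroup K) with hπ
  have hodd : Odd (orderOf (π g)) := by
    have h1 : Odd (Nat.card (K ⧸ (P : Subgroup K))) :=
      Nat.odd_iff.2 (by have := P.not_dvd_index; rw [← Subgroup.index_eq_card]; omega)
    exact h1.of_dvd_nat (orderOf_dvd_natCard _)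
  have h2 : Commute (π g ^ 2) (π x) := by
    rw [← map_pow]
    refine Commute.map ?_ π
    have h3 : g ^ 2 * x * (g ^ 2)⁻¹ = x := by
      calc g ^ 2 * x * (g ^ 2)⁻¹ = g * (g * x * g⁻¹) * g⁻¹ := by rw [sq]; group
        _ = g * x⁻¹ * g⁻¹ := by rw [h]
        _ = (g * x * g⁻¹)⁻¹ := by group
        _ = x := by rw [h, inv_inv]
    exact mul_inv_eq_iff_eq_mul.1 h3
  obtain ⟨m, hm⟩ := hodd
  have h3 : π g = (π g ^ 2) ^ (m + 1) := by
    rw [← pow_mul, show 2 * (m + 1) = orderOf (π g) + 1 by omega, pow_succ, pow_orderOf_eq_one, one_mul]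
  have h4 : π x * π x = 1 := by
    have h5 : π g * π x * (π g)⁻¹ = (π x)⁻¹ := by rw [← map_mul, ← map_inv, ← map_mul, h, map_inv]
    rw [h3, ((h2.pow_left (m + 1)).eq), mul_inv_cancel_right] at h5
    exact mul_eq_one_iff_eq_inv.2 h5
  have h6 : π x = 1 := by
    rw [← orderOf_eq_one_iff]
    refine Nat.eq_one_of_dvd_coprimes (Nat.coprime_two_left.2 hx) (orderOf_dvd_of_pow_eq_one ?_)
      (orderOf_map_dvd π x)
    rw [sq, h4]
  obtain ⟨k, hk⟩ := IsPGroup.iff_orderOf.1 P.2 ⟨x, (QuotientGroup.eq_one_iff x).1 h6⟩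
  rw [Subgroup.orderOf_mk] at hk
  rw [← orderOf_eq_one_iff, hk]
  rcases k with _ | k
  · rfl
  · rw [hk, pow_succ'] at hx
    exact absurd hx (Nat.not_odd_iff_even.2 (even_two_mul _))

/-- An inverted element of odd prime power order, when the Sylow `2`-subgroup is not normal. -/
theorem exists_inverted {G : Type*} [Group G] [Finite G]
    (h : ¬ ∀ P : Sylow 2 G, (P : Subgroup G).Normal) :
    ∃ q : ℕ, q.Prime ∧ q ≠ 2 ∧ ∃ (T : Sylow q G) (g y : G),
      y ∈ (T : Subgroup G) ∧ y ≠ 1 ∧ g * y * g⁻¹ = y⁻¹ := by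
  haveI : Fact (Nat.Prime 2) := ⟨Nat.prime_two⟩
  set O := pCore 2 G with hO
  set π := QuotientGroup.mk' O with hπ
  have hker : π.ker = O := QuotientGroup.ker_mk' _
  have hOp : IsPGroup 2 ↥O := Thompson.isPGroup_pCore
  have heven : 2 ∣ Nat.card (G ⧸ O) := by
    by_contra hn
    refine h fun P => ?_
    have he : (P : Subgroup G) = O := by
      refine (Subgroup.eq_of_le_of_card_ge (Thompson.pCore_le_sylow P) (Nat.le_of_dvd Nat.card_pos ?_)).symm
      have h1 : Nat.card ↥(P : Subgroup G) ∣ Nat.card ↥O * O.index := by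
        rw [Subgroup.card_mul_index]; exact Subgroup.card_subgroup_dvd_card _
      obtain ⟨k, hk⟩ := IsPGroup.iff_card.1 P.2
      refine Nat.Coprime.dvd_of_dvd_mul_right ?_ h1
      rw [hk, Subgroup.index_eq_card]
      exact ((Nat.prime_two.coprime_iff_not_dvd).2 hn).pow_left k
    rw [he]
    infer_instance
  obtain ⟨t, ht⟩ := exists_prime_orderOf_dvd_card' 2 heven
  have ht2 : t * t = 1 := by have h := pow_orderOf_eq_one t; rwa [ht, sq] at h
  obtain ⟨c, hc⟩ : ∃ c, ¬ IsPGroup 2 ↥(Subgroup.closure ({t, c * t * c⁻¹} : Set (G ⧸ O))) := by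
    by_contra hall
    push Not at hall
    obtain ⟨N, hN, hNp, htN⟩ := Involution.baerSuzuki t hall
    have h1 : N.comap π ≤ O := Thompson.le_pCore (hN.comap π)
      (hNp.comap_of_ker_isPGroup π (by rw [hker]; exact hOp))
    obtain ⟨a, rfl⟩ := QuotientGroup.mk'_surjective O t
    have : π a = 1 := (QuotientGroup.eq_one_iff a).2 (h1 htN)
    rw [this, orderOf_one] at ht
    omega
  set s := c * t * c⁻¹ with hs
  have hs2 : s * s = 1 := by
    rw [hs, show c * t * c⁻¹ * (c * t * c⁻¹) = c * (t * t) * c⁻¹ by group, ht2]; group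
  obtain ⟨k, hk⟩ | ⟨q, hq, hqd, hqodd⟩ := Nat.eq_two_pow_or_exists_odd_prime_and_dvd (orderOf (t * s))
  · refine absurd (fun d => ?_) hc
    obtain ⟨i, hd | hd⟩ := (Involution.mem_closure_pair_involutions ht2 hs2).mp d.2
    · refine ⟨k, Subtype.ext ?_⟩
      rw [SubmonoidClass.coe_pow, hd, ← zpow_natCast, ← zpow_mul, mul_comm, zpow_mul, zpow_natCast,
        ← hk, pow_orderOf_eq_one, one_zpow]
      rfl
    · refine ⟨1, Subtype.ext ?_⟩
      rw [SubmonoidClass.coe_pow, hd, pow_one, sq, Involution.left_mul_zpow_sq ht2 hs2]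
      rfl
  haveI : Fact q.Prime := ⟨hq⟩
  have hq2 : q ≠ 2 := by rintro rfl; exact absurd hqodd (by decide)
  refine ⟨q, hq, hq2, ?_⟩
  set z := (t * s) ^ (orderOf (t * s) / q) with hz
  have hzq : orderOf z = q := by
    rw [hz]; exact orderOf_pow_orderOf_div (orderOf_pos _).ne' hqd
  have htz : t * z * t⁻¹ = z⁻¹ := by
    rw [hz, ← conj_pow, Involution.inverts_mul ht2 hs2, inv_pow]
  have hconj : ∀ j : ℤ, t * z ^ j * t⁻¹ = (z ^ j)⁻¹ := fun j => by rw [← conj_zpow, htz, inv_zpow]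
  obtain ⟨t₀, ht₀⟩ := QuotientGroup.mk'_surjective O t
  obtain ⟨z₀, hz₀⟩ := QuotientGroup.mk'_surjective O z
  set E := (Subgroup.zpowers z).comap π with hE
  have htE : t₀ ∈ nrm E := mem_nrm_of_forall fun a ha => by
    rw [hE, Subgroup.mem_comap] at ha ⊢
    obtain ⟨j, hj⟩ := Subgroup.mem_zpowers_iff.1 ha
    rw [map_mul, map_mul, map_inv, ← hj, hπ, ht₀, hconj]
    exact inv_mem (zpow_mem (Subgroup.mem_zpowers z) _)
  obtain ⟨Q, hQ⟩ := exists_isSylowIn' q E
  obtain ⟨⟨y, hyQ⟩, hy⟩ : ∃ y : ↥Q, y ≠ 1 := by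
    by_contra hall
    push Not at hall
    have hQ1 : Q = ⊥ := (Subgroup.eq_bot_iff_forall Q).2 fun a ha => congrArg Subtype.val (hall ⟨a, ha⟩)
    have hd := hQ.2.2
    rw [hQ1, Subgroup.relIndex_bot_left] at hd
    refine hd ?_
    have h1 : z₀ ∈ E := by rw [hE, Subgroup.mem_comap, hπ, hz₀]; exact Subgroup.mem_zpowers z
    calc q = orderOf z := hzq.symm
      _ ∣ orderOf z₀ := hz₀ ▸ orderOf_map_dvd π z₀
      _ = orderOf (⟨z₀, h1⟩ : ↥E) := (Subgroup.orderOf_mk _ _).symm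
      _ ∣ Nat.card ↥E := orderOf_dvd_natCard _
  obtain ⟨e, he, g, hg, hge⟩ := exists_mul_of_frattini hQ htE
  obtain ⟨T, hT⟩ := hQ.2.1.exists_le_sylow
  refine ⟨T, g, y, hT hyQ, fun h1 => hy (Subtype.ext h1), ?_⟩
  have hmem : g * y * g⁻¹ * y ∈ Q := Q.mul_mem (conj_mem_of_nrm hg hyQ) hyQ
  have hπ1 : π (g * y * g⁻¹ * y) = 1 := by
    obtain ⟨i, hi⟩ := Subgroup.mem_zpowers_iff.1 (Subgroup.mem_comap.1 he)
    obtain ⟨j, hj⟩ := Subgroup.mem_zpowers_iff.1 (Subgroup.mem_comap.1 (hQ.1 hyQ))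
    have hg' : π g = (z ^ i)⁻¹ * t := by
      rw [hi, ← ht₀, hge, map_mul, inv_mul_cancel_left]
    rw [map_mul, map_mul, map_mul, map_inv, hg', ← hj]
    calc (z ^ i)⁻¹ * t * z ^ j * ((z ^ i)⁻¹ * t)⁻¹ * z ^ j
        = (z ^ i)⁻¹ * (t * z ^ j * t⁻¹) * z ^ i * z ^ j := by group
      _ = 1 := by rw [hconj]; group
  have h2 : g * y * g⁻¹ * y = 1 := by
    obtain ⟨a, ha⟩ := IsPGroup.iff_orderOf.1 hQ.2.1 ⟨_, hmem⟩
    obtain ⟨b, hb⟩ := IsPGroup.iff_orderOf.1 hOp ⟨_, (QuotientGroup.eq_one_iff _).1 hπ1⟩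
    rw [Subgroup.orderOf_mk] at ha hb
    rw [← orderOf_eq_one_iff]
    exact Nat.eq_one_of_dvd_coprimes (((Nat.coprime_primes hq Nat.prime_two).2 hq2).pow a b)
      ha.dvd hb.dvd
  exact mul_eq_one_iff_eq_inv.1 h2

/-- Condition (c) gives a normal Sylow `2`-subgroup. -/
theorem normal_of_no_inversion {G : Type*} [Group G] [Finite G]
    (h : ∀ (q : ℕ) [Fact q.Prime], q ≠ 2 → ∀ T : Sylow q G, ∀ x ∈ (T : Subgroup G), x ≠ 1 →
      ∀ g ∈ Subgroup.normalizer (Cfsg.centerThompsonAOf (T : Subgroup G) : Set G),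
        g * x * g⁻¹ ≠ x⁻¹) :
    ∀ P : Sylow 2 G, (P : Subgroup G).Normal := by
  by_contra hne
  obtain ⟨q, hq, hq2, T, g, y, hyT, hy, hgy⟩ := exists_inverted hne
  haveI : Fact q.Prime := ⟨hq⟩
  by_cases hctl : Ctl T
  · obtain ⟨x, hx, he⟩ := hctl {y} g (Set.singleton_subset_iff.2 hyT) (by
      rintro _ ⟨a, ha, rfl⟩
      rw [Set.mem_singleton_iff.1 ha]
      show g * y * g⁻¹ ∈ (T : Subgroup G)
      rw [hgy]
      exact inv_mem hyT)
    exact h q hq2 T y hyT hy x hx ((he y rfl).trans hgy)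
  obtain ⟨n, hn, hord, hgen⟩ := exists_primitive_root q
  obtain ⟨-, x, hx, w, hw, hwq, hxw⟩ := conclusion_of_not_ctl hq2 hn hgen T hctl
  set i := (q - 1) / 2 with hi
  have hqodd := hq.eq_two_or_odd.resolve_left hq2
  have hq1 : q - 1 = 2 * i := by rw [hi]; omega
  have hni : n ^ i = -1 := by
    have h1 : n ^ i * n ^ i = 1 := by rw [← pow_add, ← two_mul, ← hq1, ← hord, pow_orderOf_eq_one]
    have h2 : i ≠ 0 := by have := hq.two_le; omega
    refine (mul_self_eq_one_iff.1 h1).resolve_left fun h3 => h2 ?_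
    exact Nat.eq_zero_of_dvd_of_lt (hord ▸ orderOf_dvd_of_pow_eq_one h3 : q - 1 ∣ i) (by omega)
  have hiter : ∀ j : ℕ, x ^ j * w * (x ^ j)⁻¹ = w ^ (n.val ^ j) := by
    intro j
    induction j with
    | zero => simp
    | succ j ih =>
      rw [pow_succ' x, show x * x ^ j * w * (x * x ^ j)⁻¹ = x * (x ^ j * w * (x ^ j)⁻¹) * x⁻¹ by group,
        ih, ← conj_pow, hxw, ← pow_mul, pow_succ']
  have hinv : w ^ (n.val ^ i) = w⁻¹ := by
    refine eq_inv_of_mul_eq_one_left ?_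
    rw [← pow_succ, ← orderOf_dvd_iff_pow_eq_one, hwq, ← ZMod.natCast_eq_zero_iff]
    push_cast
    rw [ZMod.natCast_zmod_val, hni, neg_add_cancel]
  have hw1 : w ≠ 1 := fun h1 => hq.ne_one (hwq ▸ h1 ▸ orderOf_one)
  exact h q hq2 T w (zj_le T hw) hw1 (x ^ i) (pow_mem hx i) ((hiter i).trans hinv)

/-- For a finite group G the following are equivalent: (a) G has a normal Sylow 2-subgroup; (b) for every odd prime q dividing the order of G and every Sylow q-subgroup T, the normalizer of Z(J(T)) has a normal Sylow 2-subgroup; (c) for every odd prime q and every Sylow q-subgroup T, no nonidentity element of T is inverted by an element of the normalizer of Z(J(T)). Here J(T) is the Thompson subgroup generated by the abelian subgroups of T of largest order. Stated as the two equivalences (a) ⇔ (b) and (a) ⇔ (c). -/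
theorem result {G : Type*} [Group G] [Finite G] : ((∀ P : Sylow 2 G, (P : Subgroup G).Normal) ↔ ∀ (q : ℕ) [Fact q.Prime], q ≠ 2 → q ∣ Nat.card G → ∀ T : Sylow q G, ∀ P : Sylow 2 ↥(Subgroup.normalizer (Cfsg.centerThompsonAOf (T : Subgroup G) : Set G)), (P : Subgroup ↥(Subgroup.normalizer (Cfsg.centerThompsonAOf (T : Subgroup G) : Set G))).Normal) ∧ ((∀ P : Sylow 2 G, (P : Subgroup G).Normal) ↔ ∀ (q : ℕ) [Fact q.Prime], q ≠ 2 → ∀ T : Sylow q G, ∀ x ∈ (T : Subgroup G), x ≠ 1 → ∀ g ∈ Subgroup.normalizer (Cfsg.centerThompsonAOf (T : Subgroup G) : Set G), g * x * g⁻¹ ≠ x⁻¹) := by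
  haveI : Fact (Nat.Prime 2) := ⟨Nat.prime_two⟩
  have hodd : ∀ (q : ℕ) [Fact q.Prime], q ≠ 2 → ∀ T : Sylow q G, ∀ x ∈ (T : Subgroup G),
      Odd (orderOf x) := by
    intro q hq hq2 T x hx
    obtain ⟨k, hk⟩ := IsPGroup.iff_orderOf.1 T.2 ⟨x, hx⟩
    rw [Subgroup.orderOf_mk] at hk
    rw [hk]
    exact (hq.out.odd_of_ne_two hq2).pow
  refine ⟨⟨fun ha q _ hq2 _ T P => ?_, fun hb => normal_of_no_inversion ?_⟩,
    ⟨fun ha q _ hq2 T x hx hx1 g _ hgx => hx1 (no_inversion ha (hodd q hq2 T x hx) hgx),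
      normal_of_no_inversion⟩⟩
  · have hmap := P.2.map
      (Subgroup.normalizer (Cfsg.centerThompsonAOf (T : Subgroup G) : Set G)).subtype
    obtain ⟨Q, hQ⟩ := hmap.exists_le_sylow
    haveI := ha Q
    have he := P.is_maximal' (Q.2.comap_subtype (K := Subgroup.normalizer
      (Cfsg.centerThompsonAOf (T : Subgroup G) : Set G)))
      (fun a ha' => hQ ⟨a, ha', rfl⟩)
    have hn : (((Q : Subgroup G).comap (Subgroup.normalizer
      (Cfsg.centerThompsonAOf (T : Subgroup G) : Set G)).subtype)).Normal := inferInstance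
    rw [he] at hn
    exact hn
  · intro q _ hq2 T x hx hx1 g hg hgx
    have hdvd : q ∣ Nat.card G := by
      obtain ⟨k, hk⟩ := IsPGroup.iff_orderOf.1 T.2 ⟨x, hx⟩
      rw [Subgroup.orderOf_mk] at hk
      obtain _ | k := k
      · exact absurd (orderOf_eq_one_iff.1 hk) hx1
      · exact ((dvd_pow_self q k.succ_ne_zero).trans hk.symm.dvd).trans (orderOf_dvd_natCard x)
    have h1 : (⟨x, le_nrm_zj T hx⟩ : ↥(nrm (zj T))) = 1 := no_inversion (hb q hq2 hdvd T)
      (g := ⟨g, hg⟩) (by rw [Subgroup.orderOf_mk]; exact hodd q hq2 T x hx) (Subtype.ext hgx)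
    exact hx1 (congrArg Subtype.val h1)

end Cfsg.Agent.S2756
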