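import Cfsg.Statements.S4211
import Mathlib
import Cfsg.Agent.Lib.LinearGroup.TorusSylow

set_option autoImplicit false
open Cfsg

namespace Cfsg.Agent.S4211

open Subgroup

variable {G : Type*} [Group G] [Finite G]

/-- A pair generating a quaternion group of order eight. -/
def QPair (x y : G) : Prop := orderOf x = 4 ∧ orderOf y = 4 ∧ y * y = x ^ 2 ∧ y * x = x⁻¹ * y

omit [Finite G] in
theorem conj_mem_zpowers (hn : ∀ H : Subgroup G, H.Normal) (g x : G) :
    g * x * g⁻¹ ∈ zpowers x := (hn _).conj_mem x (mem_zpowers x) g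

omit [Finite G] in
theorem commute_of_coprime_split {x y : G} {m n : ℕ} (h : Nat.Coprime m n)
    (h1 : Commute (x ^ m) y) (h2 : Commute (x ^ n) y) : Commute x y := by
  have e : x = (x ^ m) ^ m.gcdA n * (x ^ n) ^ m.gcdB n := by
    rw [← zpow_natCast, ← zpow_natCast x n, ← zpow_mul, ← zpow_mul, ← zpow_add,
      ← Nat.gcd_eq_gcd_ab, Nat.coprime_iff_gcd_eq_one.mp h, Nat.cast_one, zpow_one]
  rw [e]
  exact (h1.zpow_left _).mul_left (h2.zpow_left _)

omit [Finite G] in
theorem pow_mul_twist {y z d : G} (hy : Commute d y) (hz : Commute d z)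
    (h : z * y = d * y * z) : ∀ n : ℕ, (y * z) ^ n = d ^ n.choose 2 * y ^ n * z ^ n := by
  have hzn : ∀ n : ℕ, z ^ n * y = d ^ n * y * z ^ n := by
    intro n
    induction n with
    | zero => simp
    | succ n ih =>
      calc z ^ (n + 1) * y = z * (z ^ n * y) := by rw [pow_succ']; group
        _ = (z * d ^ n) * y * z ^ n := by rw [ih]; group
        _ = d ^ n * (z * y) * z ^ n := by rw [← (hz.pow_left n).eq]; group
        _ = (d ^ n * d) * y * (z * z ^ n) := by rw [h]; group
        _ = _ := by rw [← pow_succ, ← pow_succ']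
  intro n
  induction n with
  | zero => simp
  | succ n ih =>
    calc (y * z) ^ (n + 1) = d ^ n.choose 2 * y ^ n * (z ^ n * y) * z := by
          rw [pow_succ, ih]; simp only [mul_assoc]
      _ = d ^ n.choose 2 * (y ^ n * d ^ n) * y * (z ^ n * z) := by
          rw [hzn]; simp only [mul_assoc]
      _ = (d ^ n.choose 2 * d ^ n) * (y ^ n * y) * (z ^ n * z) := by
          rw [← ((hy.pow_left n).pow_right n).eq]; simp only [mul_assoc]
      _ = _ := by
          rw [← pow_add, ← pow_succ, ← pow_succ, Nat.choose_succ_succ' n 1, Nat.choose_one_right,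
            add_comm (n.choose 2) n]

/-- Both orders of a noncommuting pair are even, and a quaternion pair exists. -/
def Good (x y : G) : Prop := (2 ∣ orderOf x ∧ 2 ∣ orderOf y) ∧ ∃ a b : G, QPair a b

omit [Finite G] in
theorem good_symm {x y : G} (h : Good x y) : Good y x := ⟨h.1.symm, h.2⟩

omit [Finite G] in
theorem prime_pow_case {p a b : ℕ} (hp : p.Prime) (hn : ∀ H : Subgroup G, H.Normal) {x y : G}
    (hx : orderOf x = p ^ a) (hy : orderOf y = p ^ b) (hab : b ≤ a) (hc : ¬ Commute x y)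
    (hmin : ∀ x' y' : G, orderOf x' ∣ orderOf x → orderOf y' ∣ orderOf y →
      orderOf x' + orderOf y' < orderOf x + orderOf y → ¬ Commute x' y' → Good x y) : Good x y := by
  set c := x * y * x⁻¹ * y⁻¹ with hcdef
  have hcy : c ∈ zpowers y := mul_mem (conj_mem_zpowers hn x y) (inv_mem (mem_zpowers y))
  have hcx : c ∈ zpowers x := by
    rw [hcdef, show x * y * x⁻¹ * y⁻¹ = x * (y * x⁻¹ * y⁻¹) by group]
    exact mul_mem (mem_zpowers x) (by
            have h' := inv_mem (conj_mem_zpowers hn y x)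
            rwa [mul_inv_rev, mul_inv_rev, inv_inv, ← mul_assoc] at h')
  have hc1 : c ≠ 1 := fun h => hc (by
    show x * y = y * x
    rw [hcdef, mul_inv_eq_one, mul_inv_eq_iff_eq_mul] at h; exact h)
  obtain ⟨i, hi⟩ := mem_zpowers_iff.mp hcx
  obtain ⟨j, hj⟩ := mem_zpowers_iff.mp hcy
  have ccx : Commute c x := hi ▸ (Commute.refl x).zpow_left i
  have ccy : Commute c y := hj ▸ (Commute.refl y).zpow_left j
  have hxy : x * y = c * y * x := by rw [hcdef]; group
  have ha1 : 1 ≤ a := Nat.one_le_iff_ne_zero.mpr fun h => hc (by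
    rw [h, pow_zero, orderOf_eq_one_iff] at hx; rw [hx]; exact Commute.one_left y)
  have hb1 : 1 ≤ b := Nat.one_le_iff_ne_zero.mpr fun h => hc (by
    rw [h, pow_zero, orderOf_eq_one_iff] at hy; rw [hy]; exact Commute.one_right x)
  by_cases hxp : Commute (x ^ p) y
  swap
  · refine hmin _ y ?_ dvd_rfl ?_ hxp <;>
      rw [orderOf_pow' x hp.ne_zero, hx, Nat.gcd_eq_right (dvd_pow_self p (by omega))]
    · exact Nat.div_dvd_of_dvd (dvd_pow_self p (by omega))
    · exact Nat.add_lt_add_right (Nat.div_lt_self (pow_pos hp.pos a) hp.one_lt) _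
  have hcp : c ^ p = 1 := by
    have h1 : ∀ k : ℕ, x ^ k * y = c ^ k * y * x ^ k := by
      intro k
      induction k with
      | zero => simp
      | succ k ih =>
        calc x ^ (k + 1) * y = x * (x ^ k * y) := by rw [pow_succ']; group
          _ = (x * c ^ k) * y * x ^ k := by rw [ih]; group
          _ = c ^ k * (x * y) * x ^ k := by rw [← (ccx.pow_left k).eq]; group
          _ = (c ^ k * c) * y * (x * x ^ k) := by rw [hxy]; group
          _ = _ := by rw [← pow_succ, ← pow_succ']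
    have := h1 p
    rw [hxp.eq, mul_assoc] at this
    simpa using this.symm
  have top : ∀ (z : G) (e : ℕ) (k : ℤ), orderOf z = p ^ (e + 1) → z ^ k = c →
      ∃ s : ℤ, z ^ k = (z ^ p ^ e) ^ s ∧ ¬ (p : ℤ) ∣ s := by
    intro z e k hz hk
    have h1 : z ^ (k * p) = 1 := by rw [zpow_mul, hk, zpow_natCast, hcp]
    have h2 := orderOf_dvd_iff_zpow_eq_one.mpr h1
    rw [hz, pow_succ, Nat.cast_mul] at h2
    obtain ⟨s, rfl⟩ := (mul_dvd_mul_iff_right (by exact_mod_cast hp.ne_zero)).mp h2
    refine ⟨s, by rw [← zpow_natCast, ← zpow_mul], ?_⟩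
    rintro ⟨r, rfl⟩
    apply hc1
    rw [← hk, ← mul_assoc, ← Nat.cast_mul, ← pow_succ, ← hz, zpow_mul, zpow_natCast,
      pow_orderOf_eq_one, one_zpow]
  obtain ⟨a', rfl⟩ : ∃ a', a = a' + 1 := ⟨a - 1, by omega⟩
  obtain ⟨b', rfl⟩ : ∃ b', b = b' + 1 := ⟨b - 1, by omega⟩
  obtain ⟨r, hr, hr'⟩ := top x a' i hx hi
  obtain ⟨s, hs, hs'⟩ := top y b' j hy hj
  have hb' : 1 ≤ b' := Nat.one_le_iff_ne_zero.mpr fun h => hc (by
    rw [h, pow_zero, pow_one] at hs
    have hco : IsCoprime s (p : ℤ) := ((Nat.prime_iff_prime_int.mp hp).coprime_iff_not_dvd.mpr hs').symm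
    obtain ⟨u, v, huv⟩ := hco
    have hyc : y = c ^ u := by
      rw [← hj, hs, ← zpow_mul, show s * u = 1 - (p : ℤ) * v by linear_combination huv, zpow_sub,
        zpow_one, zpow_mul, zpow_natCast]
      rw [h] at hy
      rw [show y ^ p = 1 by rw [← pow_one p, ← zero_add 1, ← hy]; exact pow_orderOf_eq_one y]
      simp
    rw [hyc]; exact ((ccx.symm).zpow_right u))
  obtain ⟨k, hk⟩ : ∃ k : ℤ, y ^ p ^ b' = (x ^ p ^ a') ^ k := by
    have hco : IsCoprime s (p : ℤ) := ((Nat.prime_iff_prime_int.mp hp).coprime_iff_not_dvd.mpr hs').symm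
    obtain ⟨u, v, huv⟩ := hco
    refine ⟨r * u, ?_⟩
    rw [zpow_mul, ← hr, hi, ← hj, hs, ← zpow_mul,
      show s * u = 1 - (p : ℤ) * v by linear_combination huv, zpow_sub, zpow_one, zpow_mul,
      zpow_natCast, ← pow_mul, ← pow_succ, ← hy, pow_orderOf_eq_one]
    simp
  obtain ⟨t, rfl⟩ : ∃ t, a' = b' + t := ⟨a' - b', by omega⟩
  set m : ℤ := -(k * (p : ℤ) ^ t) with hm
  set z := x ^ m with hzdef
  set d := c ^ m with hddef
  have hzy : z * y = d * y * z := by
    have e : y * x * y⁻¹ = c⁻¹ * x := by rw [hcdef]; group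
    have e2 : y * z * y⁻¹ = (c⁻¹) ^ m * z := by
      rw [hzdef, ← conj_zpow, e, (ccx.inv_left).mul_zpow]
    calc z * y = d * ((c⁻¹) ^ m * z) * y := by
          rw [hddef, inv_zpow, mul_inv_cancel_left]
      _ = d * (y * z * y⁻¹) * y := by rw [e2]
      _ = d * y * z := by group
  set n := p ^ b' with hn'
  have hpow := pow_mul_twist (ccy.zpow_left m) ((ccx.zpow_left m).zpow_right m) hzy n
  have hzn : z ^ n = (y ^ n)⁻¹ := by
    rw [hzdef, hn', ← zpow_natCast, ← zpow_mul, hk, ← zpow_natCast x (p ^ (b' + t)), ← zpow_mul,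
      ← zpow_neg, hm]
    congr 1; push_cast; ring
  rw [hzn, mul_inv_cancel_right] at hpow
  by_cases hdn : d ^ n.choose 2 = 1
  · rw [hdn] at hpow
    have hd' : orderOf (y * z) ∣ n := orderOf_dvd_of_pow_eq_one hpow
    refine hmin x (y * z) dvd_rfl (hd'.trans (hy ▸ Dvd.intro p (pow_succ p b').symm)) ?_ ?_
    · refine Nat.add_lt_add_left (lt_of_le_of_lt (Nat.le_of_dvd (pow_pos hp.pos _) hd') ?_) _
      rw [hy]; exact Nat.pow_lt_pow_right hp.one_lt (Nat.lt_succ_self _)
    · intro h
      refine hc ?_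
      have h2 : Commute x (z⁻¹) := ((Commute.refl x).zpow_right m).inv_right
      simpa using h.mul_right h2
  · have hpm : ¬ (p : ℤ) ∣ m := by
      rintro ⟨u, hu⟩
      apply hdn
      rw [hddef, hu, zpow_mul, zpow_natCast, hcp, one_zpow, one_pow]
    have ht : t = 0 := by
      by_contra ht
      exact hpm (dvd_neg.mpr (Dvd.dvd.mul_left (dvd_pow_self _ ht) k))
    have hpC : ¬ p ∣ n.choose 2 := by
      rintro ⟨u, hu⟩
      apply hdn
      rw [hu, pow_mul]
      have : d ^ p = 1 := by
        rw [hddef, ← zpow_natCast, ← zpow_mul, mul_comm, zpow_mul, zpow_natCast, hcp, one_zpow]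
      rw [this, one_pow]
    have hp2 : p = 2 ∧ b' = 1 := by
      have hch : n.choose 2 = n * (n - 1) / 2 := Nat.choose_two_right n
      rcases hp.eq_two_or_odd' with h2 | h2
      · refine ⟨h2, ?_⟩
        by_contra hb
        apply hpC
        obtain ⟨q, hq⟩ : 4 ∣ n := by
          rw [hn', h2]; exact pow_dvd_pow 2 (show 2 ≤ b' by omega)
        rw [h2, hch, hq, show 4 * q * (4 * q - 1) = 2 * (2 * (q * (4 * q - 1))) by ring,
          Nat.mul_div_cancel_left _ two_pos]
        exact Dvd.intro _ rfl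
      · exfalso; apply hpC
        have hn2 : Odd n := h2.pow
        obtain ⟨q, hq⟩ := hn2
        rw [hch, hq, show (2 * q + 1) * (2 * q + 1 - 1) = 2 * ((2 * q + 1) * q) by
          rw [Nat.add_sub_cancel]; ring, Nat.mul_div_cancel_left _ two_pos, ← hq]
        exact (dvd_pow_self p (show b' ≠ 0 by omega)).mul_right q
    obtain ⟨rfl, rfl⟩ := hp2
    subst ht
    norm_num at hx hy hcp
    refine ⟨⟨hx ▸ by norm_num, hy ▸ by norm_num⟩, x, y, hx, hy, ?_⟩
    have hyj : c = y ^ 2 := by
      rw [← hj, hs]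
      norm_num
      rcases Int.even_or_odd s with ⟨q, rfl⟩ | ⟨q, rfl⟩
      · exact absurd ⟨q, by ring⟩ hs'
      · rw [zpow_add, zpow_one, zpow_mul, zpow_ofNat, ← pow_mul, show 2 * 2 = orderOf y by omega,
          pow_orderOf_eq_one, one_zpow, one_mul]
    have hxi : c = x ^ 2 := by
      rw [← hi, hr]
      norm_num
      rcases Int.even_or_odd r with ⟨q, rfl⟩ | ⟨q, rfl⟩
      · exact absurd ⟨q, by ring⟩ hr'
      · rw [zpow_add, zpow_one, zpow_mul, zpow_ofNat, ← pow_mul, show 2 * 2 = orderOf x by omega,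
          pow_orderOf_eq_one, one_zpow, one_mul]
    refine ⟨by rw [← pow_two, ← hyj, hxi], ?_⟩
    have e : y * x = c⁻¹ * x * y := by rw [hcdef]; group
    rw [e, hxi]; group

theorem good_of_not_commute (hn : ∀ H : Subgroup G, H.Normal) :
    ∀ N : ℕ, ∀ x y : G, orderOf x + orderOf y ≤ N → ¬ Commute x y → Good x y := by
  intro N
  induction N with
  | zero => intro x y h; have := orderOf_pos x; omega
  | succ N ih =>
    intro x y hN hc
    have red : ∀ x' y' : G, orderOf x' ∣ orderOf x → orderOf y' ∣ orderOf y →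
        orderOf x' + orderOf y' < orderOf x + orderOf y → ¬ Commute x' y' → Good x y := by
      intro x' y' h1 h2 h3 h4
      have := ih x' y' (by omega) h4
      exact ⟨⟨this.1.1.trans h1, this.1.2.trans h2⟩, this.2⟩
    by_cases hsplit : ∀ z, (z = x ∨ z = y) → ∃ p a : ℕ, p.Prime ∧ orderOf z = p ^ a
    · obtain ⟨p, a, hp, hx⟩ := hsplit x (Or.inl rfl)
      obtain ⟨q, b, hq, hy⟩ := hsplit y (Or.inr rfl)
      have hpq : p = q := by
        by_contra hne
        apply hc
        have hcop : Nat.Coprime (orderOf x) (orderOf y) := by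
          rw [hx, hy]; exact Nat.Coprime.pow _ _ ((Nat.coprime_primes hp hq).mpr hne)
        have hint : zpowers x ⊓ zpowers y = ⊥ :=
          Subgroup.inf_eq_bot_of_coprime (by rwa [Nat.card_zpowers, Nat.card_zpowers])
        have : x * y * x⁻¹ * y⁻¹ ∈ zpowers x ⊓ zpowers y := by
          refine Subgroup.mem_inf.mpr ⟨?_, mul_mem (conj_mem_zpowers hn x y) (inv_mem (mem_zpowers y))⟩
          rw [show x * y * x⁻¹ * y⁻¹ = x * (y * x⁻¹ * y⁻¹) by group]
          exact mul_mem (mem_zpowers x) (by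
            have h' := inv_mem (conj_mem_zpowers hn y x)
            rwa [mul_inv_rev, mul_inv_rev, inv_inv, ← mul_assoc] at h')
        rw [hint, mem_bot, mul_inv_eq_one, mul_inv_eq_iff_eq_mul] at this
        exact this
      subst hpq
      rcases le_total b a with hle | hle
      · exact prime_pow_case hp hn hx hy hle hc red
      · exact good_symm (prime_pow_case hp hn hy hx hle (fun h => hc h.symm)
          fun u v h1 h2 h3 h4 => good_symm (red v u h2 h1 (by omega) (fun h => h4 h.symm)))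
    · push Not at hsplit
      obtain ⟨z, hz, hnp⟩ := hsplit
      have hz1 : orderOf z ≠ 1 := fun h => hnp 2 0 Nat.prime_two (by simpa using h)
      obtain ⟨p, hp, hpd⟩ := Nat.exists_prime_and_dvd hz1
      obtain ⟨a, m, hm, he⟩ := Nat.exists_eq_pow_mul_and_not_dvd (orderOf_pos z).ne' p hp.ne_one
      have ha0 : a ≠ 0 := fun h => hm (by rw [h, pow_zero, one_mul] at he; exact he ▸ hpd)
      have hm1 : 1 < m := by
        rcases m with _ | _ | m
        · exact absurd (dvd_zero p) hm
        · exact absurd (by simpa using he) (hnp p a hp)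
        · omega
      have hpa : 1 < p ^ a := Nat.one_lt_pow ha0 hp.one_lt
      have o1 : orderOf (z ^ p ^ a) = m := by
        rw [orderOf_pow' z (by omega), he, Nat.gcd_eq_right (dvd_mul_right _ _),
          Nat.mul_div_cancel_left _ (by omega)]
      have o2 : orderOf (z ^ m) = p ^ a := by
        rw [orderOf_pow' z (by omega), he, Nat.gcd_eq_right (dvd_mul_left _ _),
          Nat.mul_div_cancel _ (by omega)]
      have hcop : Nat.Coprime (p ^ a) m := ((hp.coprime_iff_not_dvd).mpr hm).pow_left a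
      have lt1 : m < orderOf z := he ▸ lt_mul_of_one_lt_left (by omega) hpa
      have lt2 : p ^ a < orderOf z := he ▸ lt_mul_of_one_lt_right (by omega) hm1
      have d1 : m ∣ orderOf z := he ▸ dvd_mul_left _ _
      have d2 : p ^ a ∣ orderOf z := he ▸ dvd_mul_right _ _
      rcases hz with rfl | rfl
      · by_cases h1 : Commute (z ^ p ^ a) y
        · have h2 : ¬ Commute (z ^ m) y := fun h2 => hc (commute_of_coprime_split hcop h1 h2)
          exact red _ y (o2 ▸ d2) dvd_rfl (by omega) h2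
        · exact red _ y (o1 ▸ d1) dvd_rfl (by omega) h1
      · by_cases h1 : Commute (z ^ p ^ a) x
        · have h2 : ¬ Commute (z ^ m) x := fun h2 => hc (commute_of_coprime_split hcop h1 h2).symm
          exact red x _ dvd_rfl (o2 ▸ d2) (by omega) fun h => h2 h.symm
        · exact red x _ dvd_rfl (o1 ▸ d1) (by omega) fun h => h1 h.symm

/-- A finite non-abelian group in which every subgroup is normal is the internal direct product of a subgroup isomorphic to the quaternion group of order `8`, an elementary abelian `2`-subgroup and an abelian subgroup of odd order. -/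
theorem result {G : Type*} [Group G] [Finite G] (hna : ¬ IsMulCommutative G) (hn : ∀ H : Subgroup G, H.Normal) : ∃ Q E A : Subgroup G, Nonempty (Q ≃* QuaternionGroup 2) ∧ Cfsg.IsElementaryAbelian 2 E ∧ IsMulCommutative A ∧ Odd (Nat.card A) ∧ E ⊓ A = ⊥ ∧ Q ⊓ (E ⊔ A) = ⊥ ∧ Q ⊔ (E ⊔ A) = ⊤ := by
  classical
  have good : ∀ x y : G, ¬ Commute x y → Good x y := fun x y h =>
    good_of_not_commute hn _ x y le_rfl h
  obtain ⟨u, v, huv⟩ : ∃ u v : G, ¬ Commute u v := by
    by_contra hcon
    push Not at hcon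
    exact hna ⟨⟨fun a b => hcon a b⟩⟩
  obtain ⟨x, y, hx, hy, hyy, hyx⟩ := (good u v huv).2
  obtain ⟨f, hfa, hfx, hfA, hfX⟩ := LinearGroup.exists_quaternion_hom (n := 2) x y
    (by rw [show 2 * 2 = orderOf x by omega]; exact pow_orderOf_eq_one x) hyy hyx
  have hxy : ¬ Commute x y := fun h => by
    rw [← h.eq] at hyx
    have : x = x⁻¹ := mul_right_cancel hyx
    have h2 : x ^ 2 = 1 := by rw [pow_two]; nth_rewrite 1 [this]; exact inv_mul_cancel x
    have := orderOf_le_of_pow_eq_one two_pos h2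
    omega
  have hinj : Function.Injective f := by
    rw [injective_iff_map_eq_one]
    rintro (i | i) hi
    · rw [hfA] at hi
      have h0 : i.val = 0 := by
        by_contra h
        exact absurd (orderOf_le_of_pow_eq_one (Nat.pos_of_ne_zero h) hi)
          (by rw [hx]; have := ZMod.val_lt i; omega)
      rw [(ZMod.val_eq_zero i).mp h0]
      exact QuaternionGroup.a_zero
    · rw [hfX] at hi
      refine absurd ?_ hxy
      rw [eq_inv_of_mul_eq_one_left hi]
      exact ((Commute.self_pow x i.val).inv_right)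
  set c := x ^ 2 with hc
  have hc1 : c ≠ 1 := fun h => by
    have := orderOf_le_of_pow_eq_one two_pos h; omega
  have hc2 : c * c = 1 := by rw [hc, ← pow_add, show 2 + 2 = orderOf x by omega, pow_orderOf_eq_one]
  have central2 : ∀ w : G, w * w = 1 → ∀ g, Commute g w := by
    intro w hw g
    obtain ⟨k, hk⟩ := Subgroup.mem_zpowers_iff.mp (conj_mem_zpowers hn g w)
    rcases Int.even_or_odd k with ⟨q, rfl⟩ | ⟨q, rfl⟩
    · have h1 : g * w * g⁻¹ = 1 := by
        rw [← hk, ← two_mul, zpow_mul, zpow_two, hw, one_zpow]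
      rw [conj_eq_one_iff.mp h1]; exact Commute.one_right g
    · rw [zpow_add, zpow_one, zpow_mul, zpow_two, hw, one_zpow, one_mul] at hk
      exact mul_inv_eq_iff_eq_mul.mp hk.symm
  let A : Subgroup G :=
    { carrier := {g | Odd (orderOf g)}
      one_mem' := by simp
      inv_mem' := fun {g} hg => by simpa using hg
      mul_mem' := fun {a b} ha hb => by
        have hab : Commute a b := by
          by_contra h
          exact (Nat.not_even_iff_odd.mpr ha) (even_iff_two_dvd.mpr (good a b h).1.1)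
        have h1 : Odd (orderOf a * orderOf b) := ha.mul hb
        exact Odd.of_dvd_nat h1 hab.orderOf_mul_dvd_mul_orderOf }
  have hAc : ∀ a ∈ A, ∀ g : G, Commute g a := by
    intro a ha g
    by_contra h
    exact (Nat.not_even_iff_odd.mpr ha) (even_iff_two_dvd.mpr (good g a h).1.2)
  let Ω : Subgroup G :=
    { carrier := {w | w * w = 1}
      one_mem' := by simp
      inv_mem' := fun {w} hw => by
        show w⁻¹ * w⁻¹ = 1
        rw [← mul_inv_rev, (hw : w * w = 1), inv_one]
      mul_mem' := fun {a b} ha hb => by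
        show a * b * (a * b) = 1
        calc a * b * (a * b) = a * (b * a) * b := by group
          _ = (a * a) * (b * b) := by rw [← (central2 b hb a).eq]; group
          _ = 1 := by rw [(ha : a * a = 1), (hb : b * b = 1), one_mul] }
  obtain ⟨E, ⟨hEΩ, hcE⟩, hEmax⟩ :=
    (Set.toFinite {E : Subgroup G | E ≤ Ω ∧ c ∉ E}).exists_maximal ⟨⊥, bot_le, by simpa using hc1⟩
  have hΩ : ∀ w ∈ Ω, w ∈ E ∨ w * c ∈ E := by
    intro w hw
    by_contra hcon
    push Not at hcon
    have hlt : ¬ E ⊔ Subgroup.zpowers w ≤ E := fun h =>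
      hcon.1 (h (Subgroup.mem_sup_right (Subgroup.mem_zpowers w)))
    have hcin : c ∈ E ⊔ Subgroup.zpowers w := by
      by_contra h
      exact hlt (hEmax ⟨sup_le hEΩ (Subgroup.zpowers_le.mpr hw), h⟩ le_sup_left)
    haveI := hn E
    obtain ⟨e, he, t, ht, het⟩ := Subgroup.mem_sup_of_normal_left.mp hcin
    obtain ⟨k, rfl⟩ := Subgroup.mem_zpowers_iff.mp ht
    rcases Int.even_or_odd k with ⟨q, rfl⟩ | ⟨q, rfl⟩
    · rw [← two_mul, zpow_mul, zpow_two, (hw : w * w = 1), one_zpow, mul_one] at het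
      exact hcE (het ▸ he)
    · rw [zpow_add, zpow_one, zpow_mul, zpow_two, (hw : w * w = 1), one_zpow, one_mul] at het
      apply hcon.2
      rw [← het, ← mul_assoc, show w * e = e * w from (central2 w hw e).eq.symm, mul_assoc,
        (hw : w * w = 1), mul_one]
      exact he
  set Q := f.range
  have hxQ : x ∈ Q := ⟨_, hfa⟩
  have hyQ : y ∈ Q := ⟨_, hfx⟩
  have conjQ : ∀ g z : G, orderOf z = 4 → g * z * g⁻¹ = z ∨ g * z * g⁻¹ = z⁻¹ := by
    intro g z hz
    obtain ⟨k, hk⟩ := Subgroup.mem_zpowers_iff.mp (conj_mem_zpowers hn g z)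
    have h4 : z ^ (4 : ℤ) = 1 := by
      have := pow_orderOf_eq_one z; rw [hz] at this; exact_mod_cast this
    obtain ⟨q, hq⟩ : ∃ q, k = 4 * q ∨ k = 4 * q + 1 ∨ k = 4 * q + 2 ∨ k = 4 * q + 3 :=
      ⟨k / 4, by omega⟩
    rcases hq with rfl | rfl | rfl | rfl <;>
      simp only [zpow_add, zpow_mul, h4, one_zpow, one_mul, zpow_one] at hk
    · have : z = 1 := conj_eq_one_iff.mp hk.symm
      rw [this, orderOf_one] at hz; omega
    · exact Or.inl hk.symm
    · exfalso
      have hord : orderOf (g * z * g⁻¹) = 4 := by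
        rw [← hz]; exact orderOf_injective (MulAut.conj g).toMonoidHom (MulAut.conj g).injective z
      rw [← hk] at hord
      have h22 : (z ^ (2 : ℤ)) ^ 2 = 1 := by rw [← zpow_natCast, ← zpow_mul]; exact h4
      have := orderOf_le_of_pow_eq_one two_pos h22
      omega
    · right
      rw [← hk, eq_inv_iff_mul_eq_one, ← zpow_add_one]
      exact h4
  have xinv : y * x * y⁻¹ = x⁻¹ := by rw [hyx, mul_inv_cancel_right]
  have yinv : x * y * x⁻¹ = y⁻¹ := by
    have e : x * y = y * x⁻¹ := by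
      calc x * y = x * (y * x) * x⁻¹ := by group
        _ = y * x⁻¹ := by rw [hyx]; group
    rw [e, mul_assoc, eq_inv_iff_mul_eq_one]
    have : x⁻¹ * x⁻¹ * c = 1 := by rw [hc, pow_two]; group
    have hcy : Commute y c := central2 c hc2 y
    calc y * (x⁻¹ * x⁻¹) * y = y * (x⁻¹ * x⁻¹ * c) * (c⁻¹ * y) := by group
      _ = y * (c⁻¹ * y) := by rw [this, mul_one]
      _ = y * y * c⁻¹ := by rw [← (hcy.inv_right).eq, mul_assoc]
      _ = 1 := by rw [hyy, mul_inv_cancel]
  have gen : ∀ g : G, g ∈ Q ⊔ (E ⊔ A) := by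
    intro g
    obtain ⟨q, hq, hgx⟩ : ∃ q ∈ Q, (q * g) * x * (q * g)⁻¹ = x := by
      rcases conjQ g x hx with h | h
      · exact ⟨1, one_mem _, by simpa using h⟩
      · refine ⟨y, hyQ, ?_⟩
        calc y * g * x * (y * g)⁻¹ = y * (g * x * g⁻¹) * y⁻¹ := by group
          _ = (y * x * y⁻¹)⁻¹ := by rw [h]; group
          _ = x := by rw [xinv, inv_inv]
    obtain ⟨q', hq', hgx', hgy⟩ : ∃ q' ∈ Q, (q' * g) * x * (q' * g)⁻¹ = x ∧
        (q' * g) * y * (q' * g)⁻¹ = y := by
      rcases conjQ (q * g) y hy with h | h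
      · exact ⟨q, hq, hgx, h⟩
      · refine ⟨x * q, mul_mem hxQ hq, ?_, ?_⟩
        · calc x * q * g * x * (x * q * g)⁻¹ = x * (q * g * x * (q * g)⁻¹) * x⁻¹ := by group
            _ = x := by rw [hgx, mul_inv_cancel_right]
        · calc x * q * g * y * (x * q * g)⁻¹ = x * (q * g * y * (q * g)⁻¹) * x⁻¹ := by group
            _ = (x * y * x⁻¹)⁻¹ := by rw [h]; group
            _ = y := by rw [yinv, inv_inv]
    set d := q' * g with hd
    have hdx : Commute d x := mul_inv_eq_iff_eq_mul.mp hgx'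
    have hdy : Commute d y := mul_inv_eq_iff_eq_mul.mp hgy
    have no4 : ∀ w : G, Commute w x → Commute w y → orderOf w ∣ 4 → w * w = 1 := by
      intro w wx wy w4
      have hw4 : w ^ 4 = 1 := orderOf_dvd_iff_pow_eq_one.mp w4
      have hcin : x * w * y * (x * w)⁻¹ * y⁻¹ ∈ Subgroup.zpowers (x * w) := by
        rw [show x * w * y * (x * w)⁻¹ * y⁻¹ = (x * w) * (y * (x * w)⁻¹ * y⁻¹) by group]
        exact mul_mem (Subgroup.mem_zpowers _)
          (by
            have h' := inv_mem (conj_mem_zpowers hn y (x * w))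
            rwa [mul_inv_rev, mul_inv_rev, inv_inv, ← mul_assoc] at h')
      have e : x * w * y * (x * w)⁻¹ * y⁻¹ = c := by
        calc x * w * y * (x * w)⁻¹ * y⁻¹ = x * (w * y * w⁻¹) * x⁻¹ * y⁻¹ := by group
          _ = (x * y * x⁻¹) * y⁻¹ := by rw [wy.eq, mul_inv_cancel_right]
          _ = (y * y)⁻¹ := by rw [yinv, mul_inv_rev]
          _ = c := by rw [hyy]; exact inv_eq_of_mul_eq_one_right hc2
      rw [e] at hcin
      have sq : (x * w) ^ (2 : ℕ) = c * (w * w) := by rw [(wx.symm).mul_pow, pow_two w]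
      obtain ⟨k, hk⟩ := Subgroup.mem_zpowers_iff.mp hcin
      rcases Int.even_or_odd k with ⟨q, rfl⟩ | ⟨q, rfl⟩
      · rw [← two_mul, zpow_mul, zpow_ofNat, sq] at hk
        have hw2 : (w * w) * (w * w) = 1 := by rw [← hw4]; simp [pow_succ, mul_assoc]
        have hcw : Commute c (w * w) := (central2 c hc2 _).symm
        rcases Int.even_or_odd q with ⟨s, rfl⟩ | ⟨s, rfl⟩
        · rw [← two_mul, zpow_mul, zpow_two,
            (show c * (w * w) * (c * (w * w)) = 1 by
              rw [mul_assoc, ← mul_assoc (w * w) c, ← hcw.eq, mul_assoc c, hw2, mul_one, hc2]), one_zpow] at hk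
          exact absurd hk.symm hc1
        · rw [zpow_add, zpow_one, zpow_mul, zpow_two,
            (show c * (w * w) * (c * (w * w)) = 1 by
              rw [mul_assoc, ← mul_assoc (w * w) c, ← hcw.eq, mul_assoc c, hw2, mul_one, hc2]),
            one_zpow, one_mul, mul_eq_left] at hk
          exact hk
      · exfalso
        have hxw : Commute c y := (central2 c hc2 y).symm
        rw [zpow_add, zpow_one, zpow_mul, zpow_ofNat, sq] at hk
        have : x * w = ((c * (w * w)) ^ q)⁻¹ * c := eq_inv_mul_of_mul_eq hk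
        apply hxy
        have hh : Commute (x * w) y := by
          rw [this]
          exact ((((central2 c hc2 y).symm.mul_left (wy.mul_left wy))).zpow_left q).inv_left.mul_left hxw
        simpa using hh.mul_left wy.inv_left
    obtain ⟨n, m, hm, hord⟩ := Nat.exists_eq_pow_mul_and_not_dvd (orderOf_pos d).ne' 2 (by norm_num)
    have hmodd : Odd m := Nat.odd_iff.mpr (by omega)
    have hcop : Nat.Coprime (2 ^ n) m := (Nat.coprime_two_left.mpr hmodd).pow_left n
    have hw : d ^ m ∈ Ω := by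
      show d ^ m * d ^ m = 1
      have h4 : n ≤ 2 := by
        by_contra hn2
        have hw := no4 (d ^ (m * 2 ^ (n - 2))) (hdx.pow_left _) (hdy.pow_left _)
          (orderOf_dvd_of_pow_eq_one (by
            rw [← pow_mul, mul_assoc, show 4 = 2 ^ 2 by norm_num, ← pow_add, Nat.sub_add_cancel (by omega),
              mul_comm, ← hord, pow_orderOf_eq_one]))
        rw [← pow_add, ← mul_two, mul_assoc, ← pow_succ] at hw
        have h1 := Nat.le_of_dvd (Nat.mul_pos (by omega) (pow_pos two_pos _)) (orderOf_dvd_of_pow_eq_one hw)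
        rw [hord, mul_comm m] at h1
        have h2 : 2 ^ n ≤ 2 ^ (n - 2 + 1) := Nat.le_of_mul_le_mul_right h1 (by omega)
        have := (Nat.pow_le_pow_iff_right (by norm_num)).mp h2
        omega
      exact no4 _ (hdx.pow_left _) (hdy.pow_left _) (orderOf_dvd_of_pow_eq_one (by
        rw [← pow_mul]
        refine orderOf_dvd_iff_pow_eq_one.mp ?_
        rw [hord, mul_comm m]
        exact Nat.mul_dvd_mul_right (show 2 ^ n ∣ 2 ^ 2 from pow_dvd_pow 2 h4) m))
    have ha : d ^ 2 ^ n ∈ A := by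
      refine Odd.of_dvd_nat hmodd (orderOf_dvd_of_pow_eq_one ?_)
      rw [← pow_mul, ← hord, pow_orderOf_eq_one]
    have hwin : d ^ m ∈ Q ⊔ (E ⊔ A) := by
      rcases hΩ _ hw with h | h
      · exact Subgroup.mem_sup_right (Subgroup.mem_sup_left h)
      · rw [show d ^ m = (d ^ m * c) * c⁻¹ by rw [mul_inv_cancel_right]]
        exact mul_mem (Subgroup.mem_sup_right (Subgroup.mem_sup_left h))
          (Subgroup.mem_sup_left (inv_mem (hc ▸ pow_mem hxQ 2)))
    have hain : d ^ 2 ^ n ∈ Q ⊔ (E ⊔ A) := Subgroup.mem_sup_right (Subgroup.mem_sup_right ha)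
    have hdin : d ∈ Q ⊔ (E ⊔ A) := by
      have e : d = (d ^ 2 ^ n) ^ (2 ^ n).gcdA m * (d ^ m) ^ (2 ^ n).gcdB m := by
        rw [← zpow_natCast, ← zpow_natCast d m, ← zpow_mul, ← zpow_mul, ← zpow_add,
          ← Nat.gcd_eq_gcd_ab, Nat.coprime_iff_gcd_eq_one.mp hcop, Nat.cast_one, zpow_one]
      rw [e]; exact mul_mem (zpow_mem hain _) (zpow_mem hwin _)
    rw [show g = q'⁻¹ * d by rw [hd, inv_mul_cancel_left]]
    exact mul_mem (Subgroup.mem_sup_left (inv_mem hq')) hdin
  have oddA : Odd (Nat.card A) := by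
    refine Nat.odd_iff.mpr ?_
    by_contra h
    haveI := Fact.mk Nat.prime_two
    obtain ⟨a, ha⟩ := exists_prime_orderOf_dvd_card' 2 (show 2 ∣ Nat.card A by omega)
    have := a.2
    change Odd (orderOf (a : G)) at this
    rw [Subgroup.orderOf_coe, ha] at this
    exact Nat.not_odd_iff_even.mpr even_two this
  have eqOne : ∀ a : G, a ∈ A → orderOf a ∣ 4 → a = 1 := fun a ha h4 =>
    orderOf_eq_one_iff.mp (Nat.eq_one_of_dvd_coprimes
      (show Nat.Coprime (orderOf a) 4 from
        ((Nat.coprime_two_left.mpr ha).pow_left 2).symm) dvd_rfl h4)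
  refine ⟨Q, E, A, ⟨(MonoidHom.ofInjective hinj).symm⟩,
    ⟨⟨⟨fun a b => Subtype.ext (central2 _ (hEΩ b.2) a).eq⟩⟩, fun a ha => by rw [pow_two]; exact hEΩ ha⟩,
    ⟨⟨fun a b => Subtype.ext (hAc b b.2 a).eq⟩⟩, oddA, ?_, ?_, ?_⟩
  · rw [Subgroup.eq_bot_iff_forall]
    rintro a ⟨he, ha⟩
    refine eqOne a ha (orderOf_dvd_of_pow_eq_one ?_)
    rw [show 4 = 2 * 2 by norm_num, pow_mul, pow_two a, (hEΩ he : a * a = 1), one_pow]
  · rw [Subgroup.eq_bot_iff_forall]
    rintro q ⟨hq, hq'⟩
    haveI := hn E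
    obtain ⟨e, he, a, ha, rfl⟩ := Subgroup.mem_sup_of_normal_left.mp hq'
    obtain ⟨g, hg⟩ := hq
    have hg4 : g ^ 4 = 1 := (show ∀ g : QuaternionGroup 2, g ^ 4 = 1 by decide) g
    have he4 : e ^ 4 = 1 := by rw [show 4 = 2 * 2 by norm_num, pow_mul, pow_two e, (hEΩ he : e * e = 1), one_pow]
    have ha1 : a = 1 := by
      refine eqOne a ha (orderOf_dvd_of_pow_eq_one ?_)
      have := congrArg (· ^ 4) hg
      simp only [← map_pow, hg4, map_one, (hAc a ha e).mul_pow, he4, one_mul] at this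
      exact this.symm
    subst ha1
    rw [mul_one] at hg ⊢
    have hg2 : g * g = 1 := hinj (by rw [map_mul, map_one, hg]; exact hEΩ he)
    have : ∀ g : QuaternionGroup 2, g * g = 1 → g = 1 ∨ g = QuaternionGroup.a 2 := by decide
    rcases this g hg2 with rfl | rfl
    · rw [map_one] at hg; exact hg.symm
    · refine absurd ?_ hcE
      rw [hfA] at hg
      have hv : (2 : ZMod (2 * 2)).val = 2 := rfl
      rw [hv] at hg
      show x ^ 2 ∈ E
      rw [hg]; exact he
  · exact (Subgroup.eq_top_iff' _).mpr gen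

end Cfsg.Agent.S4211
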