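import Cfsg.Statements.S1237
import Cfsg.Agent.TwoFusionB.ThreeInvolIso
import Cfsg.Agent.Lib.SuzukiTwo.Order
import Cfsg.Agent.Lib.SuzukiTwo.TypeA
import Cfsg.Agent.Lib.SuzukiTwo.Unitary
-- import your own Cfsg.Agent.* helpers here

set_option autoImplicit false
open Cfsg

namespace Cfsg.Agent.S1237

open Cfsg.Agent.TwoFusionB Subgroup

theorem fieldEquiv_sq_eq_one {F : Type*} [Field F] [Fintype F] (h4 : Fintype.card F = 4)
    (φ : F ≃+* F) : φ ^ 2 = 1 := by
  classical
  ext x
  show φ (φ x) = x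
  by_contra hne
  have hx : φ x ≠ x := fun e => hne (by rw [e, e])
  have h0 : x ≠ 0 := fun e => hx (by rw [e, map_zero])
  have h1 : x ≠ 1 := fun e => hx (by rw [e, map_one])
  have k0 : φ x ≠ 0 := by simpa using h0
  have k1 : φ x ≠ 1 := by simpa using h1
  have l0 : φ (φ x) ≠ 0 := by simpa using k0
  have l1 : φ (φ x) ≠ 1 := by simpa using k1
  have l2 : φ (φ x) ≠ φ x := fun e => hx (φ.injective e)
  have hle := Finset.card_le_univ ({0, 1, x, φ x, φ (φ x)} : Finset F)
  rw [Finset.card_insert_of_notMem (by simp [h0.symm, k0.symm, l0.symm]),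
    Finset.card_insert_of_notMem (by simp [h1.symm, k1.symm, l1.symm]),
    Finset.card_insert_of_notMem (by simp [hx.symm, Ne.symm hne]),
    Finset.card_insert_of_notMem (by simp [l2.symm]), Finset.card_singleton, h4] at hle
  omega

theorem shape64_of_suzuki {P : Type*} [Group P] [Finite P] (hS : Cfsg.IsSuzukiTwoGroup P)
    (h : ThreeInvol P) (ψ : MulAut P) (hcube : ∀ x, ψ (ψ (ψ x)) = x)
    (hfix : ∀ x, x * x = 1 → ψ x = x → x = 1) : Shape64 ψ := by
  classical
  obtain ⟨F, _, _, _, fr, u0, hu0, h4⟩ := Cfsg.Agent.SuzukiTwo.exists_frame' hS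
  have hp := hS.2.1
  have hna := hS.2.2.1
  have hc : Nat.card (center P) = 4 := by
    rw [← h.card4]
    exact Nat.card_congr (Equiv.subtypeEquivRight fun z => fr.mem_center_iff_sq hp hna hu0)
  have hF : Fintype.card F = 4 := by rw [← fr.card_center hp hna hu0, hc]
  refine ⟨h, ?_, fr.sq_sq hp hna hu0, fun x y => ?_, hcube, hfix⟩
  · rcases fr.card_cases hp hna hu0 with e | e
    · exfalso
      obtain ⟨φ, hφ, hodd, -⟩ := fr.typeA hp hna hu0 h4 e
      have hd := orderOf_dvd_of_pow_eq_one (fieldEquiv_sq_eq_one hF φ)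
      rcases (Nat.dvd_prime Nat.prime_two).1 hd with e' | e'
      · exact hφ (orderOf_eq_one_iff.1 e')
      · rw [e'] at hodd; exact absurd hodd (by decide)
    · rw [e, hF]; norm_num
  · simpa [commutatorElement_def] using fr.comm_sq hp hna hu0 x y

/-- A suitable automorphism of a Suzuki 2-group with three involutions. -/
theorem exists_shape64 {P : Type*} [Group P] [Finite P] (hS : Cfsg.IsSuzukiTwoGroup P)
    (hZ : Nat.card (center P) = 4) : ∃ ψ : MulAut P, Shape64 ψ := by
  classical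
  obtain ⟨F, _, _, _, fr, u0, hu0, -⟩ := Cfsg.Agent.SuzukiTwo.exists_frame' hS
  have hp := hS.2.1
  have hna := hS.2.2.1
  have hcs : ∀ z : P, z ∈ center P ↔ z * z = 1 := fun z => fr.mem_center_iff_sq hp hna hu0
  have h : ThreeInvol P := ⟨hp, fun x hx => (hcs x).2 hx, by
    rw [← hZ]; exact (Nat.card_congr (Equiv.subtypeEquivRight hcs)).symm⟩
  obtain ⟨-, -, -, ⟨x, y, hxy, hx1, hx, hy1, hy⟩, K, hKc, hreg⟩ := id hS
  obtain ⟨g, hg⟩ := hKc.exists_generator
  have hcard : Nat.card K = 3 := by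
    have hb : Function.Bijective (fun k : K => (⟨(k : MulAut P) x, by rw [← map_mul, hx, map_one],
        by rwa [Ne, EmbeddingLike.map_eq_one_iff]⟩ : {t : P // t * t = 1 ∧ t ≠ 1})) := by
      constructor
      · intro k k' e
        obtain ⟨k₀, -, hu⟩ := hreg x ((k : MulAut P) x) hx1 hx
          (by rwa [Ne, EmbeddingLike.map_eq_one_iff]) (by rw [← map_mul, hx, map_one])
        exact (hu k rfl).trans (hu k' (congrArg Subtype.val e).symm).symm
      · rintro ⟨t, ht, ht1⟩
        obtain ⟨k, hk, -⟩ := hreg x t hx1 hx ht1 ht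
        exact ⟨k, Subtype.ext hk⟩
    rw [Nat.card_eq_of_bijective _ hb]
    have h4 := h.card4
    haveI := Fintype.ofFinite P
    rw [Nat.card_eq_fintype_card, Fintype.card_subtype] at h4 ⊢
    rw [show (Finset.univ.filter fun t : P => t * t = 1 ∧ t ≠ 1) =
      (Finset.univ.filter fun t : P => t * t = 1).erase 1 by ext; simp; tauto,
      Finset.card_erase_of_mem (by simp), h4]
  have hg3 : orderOf g = 3 := (orderOf_eq_card_of_forall_mem_zpowers hg).trans hcard
  have hcube : (g : MulAut P) ^ 3 = 1 := by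
    rw [← SubgroupClass.coe_pow, ← hg3, pow_orderOf_eq_one, OneMemClass.coe_one]
  refine ⟨g, shape64_of_suzuki hS h g (fun t => DFunLike.congr_fun hcube t) fun t ht hgt => ?_⟩
  by_contra ht1
  obtain ⟨k₀, -, hu⟩ := hreg t t ht1 ht ht1 ht
  have hg1 : g = 1 := (hu g hgt).trans (hu 1 rfl).symm
  rw [hg1, orderOf_one] at hg3
  omega

/-- The abelian case. -/
theorem homocyclic {T : Type*} [Group T] [Finite T] (h : ThreeInvol T)
    (hcomm : ∀ a b : T, a * b = b * a) (ψ : MulAut T)
    (hfix : ∀ x, x * x = 1 → ψ x = x → x = 1) :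
    ∃ n : ℕ, 1 ≤ n ∧ Nonempty (T ≃* Multiplicative (ZMod (2 ^ n) × ZMod (2 ^ n))) := by
  classical
  letI : CommGroup T := { (inferInstance : Group T) with mul_comm := hcomm }
  obtain ⟨x, hx⟩ := Monoid.exists_orderOf_eq_exponent
    (Monoid.ExponentExists.of_finite (G := T))
  obtain ⟨m, hm⟩ := h.hp x
  obtain ⟨n, -, hn⟩ := (Nat.dvd_prime_pow Nat.prime_two).1 (orderOf_dvd_of_pow_eq_one hm)
  obtain ⟨z, hz, hz1, -⟩ := h.exists_invol ψ hfix
  have hn1 : 1 ≤ n := by
    by_contra h0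
    have hexp : Monoid.exponent T = 1 := by
      rw [← hx, hn, show n = 0 by omega, pow_zero]
    have := Monoid.pow_exponent_eq_one z
    rw [hexp, pow_one] at this
    exact hz1 this
  haveI : NeZero (2 ^ n) := ⟨by positivity⟩
  set y := ψ x with hy
  have hyo : orderOf y = 2 ^ n := ((ψ.orderOf_eq x).trans hn)
  have hpadd : ∀ (t : T), orderOf t = 2 ^ n → ∀ a b : ZMod (2 ^ n),
      t ^ (a + b).val = t ^ a.val * t ^ b.val := by
    intro t ht a b
    rw [← pow_add, pow_eq_pow_iff_modEq, ht, ZMod.val_add]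
    exact Nat.mod_modEq _ _
  let f : Multiplicative (ZMod (2 ^ n) × ZMod (2 ^ n)) →* T := MonoidHom.mk'
    (fun v => x ^ v.toAdd.1.val * y ^ v.toAdd.2.val) fun v v' => by
      simp only [toAdd_mul, Prod.fst_add, Prod.snd_add]
      rw [hpadd x hn, hpadd y hyo, mul_mul_mul_comm]
  set t := x ^ 2 ^ (n - 1) with ht
  have hsucc : 2 ^ (n - 1) * 2 = 2 ^ n := by rw [← pow_succ]; congr 1; omega
  have ht2 : t * t = 1 := by
    rw [ht, ← pow_add, ← mul_two, hsucc, ← hn, pow_orderOf_eq_one]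
  have ht1 : t ≠ 1 := fun e => by
    have := Nat.le_of_dvd (by positivity) (hn ▸ orderOf_dvd_of_pow_eq_one e)
    rw [← hsucc] at this
    have : 0 < 2 ^ (n - 1) := by positivity
    omega
  -- the only involution among the powers of an element of order `2 ^ n`
  have huniq : ∀ r : T, orderOf r = 2 ^ n → ∀ i : ℕ, r ^ i * r ^ i = 1 → r ^ i ≠ 1 →
      r ^ i = r ^ 2 ^ (n - 1) := by
    intro r hr i hi hi1
    rw [← pow_add, ← orderOf_dvd_iff_pow_eq_one, hr, ← hsucc, ← mul_two] at hi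
    obtain ⟨q, hq⟩ := Nat.dvd_of_mul_dvd_mul_right (by norm_num) hi
    have hrr : (r ^ 2 ^ (n - 1)) ^ 2 = 1 := by rw [← pow_mul, hsucc, ← hr, pow_orderOf_eq_one]
    rw [hq, pow_mul] at hi1 ⊢
    rcases Nat.even_or_odd' q with ⟨s, rfl | rfl⟩
    · exact absurd (by rw [pow_mul, hrr, one_pow]) hi1
    · rw [pow_succ, pow_mul, hrr, one_pow, one_mul]
  have hψt : ψ t = y ^ 2 ^ (n - 1) := map_pow ψ x _
  have hinj : Function.Injective f := by
    rw [injective_iff_map_eq_one]
    intro v hv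
    change x ^ v.toAdd.1.val * y ^ v.toAdd.2.val = 1 at hv
    have hxi : x ^ v.toAdd.1.val = 1 := by
      by_contra hne
      obtain ⟨m', hm'⟩ := h.hp (x ^ v.toAdd.1.val)
      obtain ⟨j, -, hj⟩ := (Nat.dvd_prime_pow Nat.prime_two).1 (orderOf_dvd_of_pow_eq_one hm')
      rcases j with _ | j
      · exact hne (orderOf_eq_one_iff.1 (by simpa using hj))
      set e := (x ^ v.toAdd.1.val) ^ 2 ^ j with he
      have he2 : e * e = 1 := by rw [he, ← pow_add, ← mul_two, ← pow_succ, ← hj, pow_orderOf_eq_one]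
      have he1 : e ≠ 1 := fun e' => by
        have := Nat.le_of_dvd (by positivity) (hj ▸ orderOf_dvd_of_pow_eq_one e')
        rw [pow_succ] at this
        have : 0 < 2 ^ j := by positivity
        omega
      have h1 : e = t := by
        rw [he, ← pow_mul] at he2 he1 ⊢
        exact huniq x hn _ he2 he1
      have h2 : e⁻¹ = ψ t := by
        have h3 : (y ^ v.toAdd.2.val) ^ 2 ^ j = e⁻¹ := by
          rw [he, ← inv_pow, inv_eq_of_mul_eq_one_right hv]
        have h4 : e⁻¹ * e⁻¹ = 1 := by rw [← mul_inv_rev, he2, inv_one]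
        rw [← h3, ← pow_mul] at h4 ⊢
        rw [hψt]
        refine huniq y hyo _ h4 ?_
        rw [pow_mul, h3, ne_eq, inv_eq_one]
        exact he1
      rw [ThreeInvol.inv_of_invol he2, h1] at h2
      exact ht1 (hfix t ht2 h2.symm)
    have hyi : y ^ v.toAdd.2.val = 1 := by rwa [hxi, one_mul] at hv
    rw [← orderOf_dvd_iff_pow_eq_one, hn] at hxi
    rw [← orderOf_dvd_iff_pow_eq_one, hyo] at hyi
    refine Multiplicative.toAdd.injective (Prod.ext ?_ ?_)
    · exact (ZMod.val_eq_zero _).1 (Nat.eq_zero_of_dvd_of_lt hxi (ZMod.val_lt _))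
    · exact (ZMod.val_eq_zero _).1 (Nat.eq_zero_of_dvd_of_lt hyi (ZMod.val_lt _))
  -- counting
  have hker : ∀ k : ℕ, Nat.card (powMonoidHom (2 ^ k) : T →* T).ker ≤ 4 ^ k := by
    intro k
    induction k with
    | zero =>
      rw [pow_zero, pow_zero]
      refine Finite.card_le_one_iff_subsingleton.2 ⟨fun a b => Subtype.ext ?_⟩
      have ha := a.2; have hb := b.2
      simp only [MonoidHom.mem_ker, powMonoidHom_apply, pow_one] at ha hb
      rw [ha, hb]
    | succ k ih =>
      let K := (powMonoidHom (2 ^ (k + 1)) : T →* T).ker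
      let g : K →* (powMonoidHom (2 ^ k) : T →* T).ker := MonoidHom.mk'
        (fun a => ⟨(a : T) * a, by
          have ha : (a : T) ^ 2 ^ (k + 1) = 1 := a.2
          show ((a : T) * a) ^ 2 ^ k = 1
          rw [← pow_two, ← pow_mul, ← pow_succ', ha]⟩)
        (fun a b => Subtype.ext (mul_mul_mul_comm _ _ _ _))
      have hk4 : Nat.card g.ker ≤ 4 := by
        rw [← h.card4]
        exact Nat.card_le_card_of_injective (fun a => ⟨((a : K) : T), congrArg Subtype.val a.2⟩)
          fun a b e => Subtype.ext (Subtype.ext (congrArg Subtype.val e :))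
      have hrr : Nat.card g.range ≤ Nat.card (powMonoidHom (2 ^ k) : T →* T).ker :=
        Subgroup.card_le_card_group _
      have h1 := g.ker.card_mul_index
      rw [Subgroup.index_ker] at h1
      show Nat.card K ≤ _
      rw [← h1, pow_succ']
      exact Nat.mul_le_mul hk4 (hrr.trans ih)
  have hcard : Nat.card T ≤ Nat.card (Multiplicative (ZMod (2 ^ n) × ZMod (2 ^ n))) := by
    have h1 := hker n
    rw [show (powMonoidHom (2 ^ n) : T →* T).ker = ⊤ from eq_top_iff.2 fun a _ => by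
      show a ^ 2 ^ n = 1
      rw [← hn, hx]; exact Monoid.pow_exponent_eq_one a, Subgroup.card_top] at h1
    refine h1.trans (le_of_eq ?_)
    rw [Nat.card_congr Multiplicative.toAdd, Nat.card_prod, Nat.card_zmod, ← mul_pow]; norm_num
  exact ⟨n, hn1, ⟨(MulEquiv.ofBijective f (hinj.bijective_of_nat_card_le hcard)).symm⟩⟩

/-- Three involutions and the three-element automorphism. -/
theorem three_of_hyp {T : Type*} [Group T] [Finite T] (hT : IsPGroup 2 T)
    (h2 : Cfsg.PRankLE 2 2 T) (h1 : ¬ Cfsg.PRankLE 2 1 T) (φ : MulAut T)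
    (htrans : ∀ s t : T, orderOf s = 2 → orderOf t = 2 → ∃ k : ℕ, (φ ^ k) s = t) :
    ThreeInvol T ∧ ∃ ψ : MulAut T, (∀ x, ψ (ψ (ψ x)) = x) ∧
      ∀ x, x * x = 1 → ψ x = x → x = 1 := by
  classical
  haveI : Fact (Nat.Prime 2) := ⟨Nat.prime_two⟩
  have hord : ∀ x : T, x * x = 1 → x ≠ 1 → orderOf x = 2 := fun x hx hx1 =>
    orderOf_eq_prime (by rw [sq, hx]) hx1
  simp only [Cfsg.PRankLE, not_forall, not_le] at h1
  obtain ⟨E, -, hE, hE2⟩ := h1
  have hE1 : ∀ e ∈ E, e * e = 1 := fun e he => by rw [← sq]; exact hE e he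
  haveI : Nontrivial T := by
    by_contra hn
    rw [not_nontrivial_iff_subsingleton] at hn
    have := Finite.card_le_one_iff_subsingleton.2 (inferInstance : Subsingleton E)
    omega
  haveI := hT.center_nontrivial
  obtain ⟨z, hz⟩ := exists_prime_orderOf_dvd_card' (G := center T) 2 (by
    obtain ⟨n, hn⟩ := (hT.to_subgroup (center T)).exists_card_eq
    rw [hn]
    refine dvd_pow_self 2 fun h0 => ?_
    have := Finite.one_lt_card (α := center T)
    rw [hn, h0] at this
    simp at this)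
  rw [← Subgroup.orderOf_coe] at hz
  have hcent : ∀ x : T, x * x = 1 → x ∈ center T := by
    intro x hx
    by_cases hx1 : x = 1
    · rw [hx1]; exact one_mem _
    obtain ⟨k, rfl⟩ := htrans z x hz (hord x hx hx1)
    rw [mem_center_iff]
    intro g
    obtain ⟨g, rfl⟩ := (φ ^ k).surjective g
    rw [← map_mul, ← map_mul, mem_center_iff.1 z.2 g]
  let Ω : Subgroup T :=
    { carrier := {x | x * x = 1}
      one_mem' := one_mul 1
      mul_mem' := fun {a b} ha hb => by
        show a * b * (a * b) = 1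
        have hc : b * a = a * b := mem_center_iff.1 (hcent a ha) b
        calc a * b * (a * b) = a * (b * a) * b := by group
          _ = (a * a) * (b * b) := by rw [hc]; group
          _ = 1 := by rw [show a * a = 1 from ha, show b * b = 1 from hb, one_mul]
      inv_mem' := fun {a} ha => by
        show a⁻¹ * a⁻¹ = 1
        rw [← mul_inv_rev, show a * a = 1 from ha, inv_one] }
  have hΩ : IsMulCommutative Ω :=
    ⟨⟨fun a b => Subtype.ext (mem_center_iff.1 (hcent b b.2) a)⟩⟩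
  have hle := h2 Ω hΩ fun a ha => by rw [sq]; exact ha
  have hEΩ : Nat.card E ≤ Nat.card Ω := Subgroup.card_le_of_le fun e he => hE1 e he
  have h4 : Nat.card Ω = 4 := by
    obtain ⟨n, hn⟩ := (hT.to_subgroup Ω).exists_card_eq
    rw [hn] at hle hEΩ ⊢
    have hn2 : n ≤ 2 := (Nat.pow_le_pow_iff_right (by norm_num : 1 < 2)).1 hle
    interval_cases n <;> norm_num at hEΩ ⊢ <;> omega
  have h : ThreeInvol T := ⟨hT, hcent, h4⟩
  refine ⟨h, ?_⟩
  have hfix : ∀ x, x * x = 1 → φ x = x → x = 1 := by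
    intro x hx hφx
    by_contra hx1
    have hall : ∀ y : T, y * y = 1 → y = 1 ∨ y = x := fun y hy => by
      by_cases hy1 : y = 1
      · exact Or.inl hy1
      obtain ⟨k, hk⟩ := htrans x y (hord x hx hx1) (hord y hy hy1)
      refine Or.inr (hk.symm.trans ?_)
      clear hk
      induction k with
      | zero => rfl
      | succ k ih => rw [pow_succ, MulAut.mul_apply, hφx, ih]
    haveI := Fintype.ofFinite T
    have hc : (Finset.univ.filter fun y : T => y * y = 1).card ≤ 2 :=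
      (Finset.card_le_card (t := {1, x}) fun y hy => by
        simpa using hall y (Finset.mem_filter.1 hy).2).trans Finset.card_le_two
    rw [← Fintype.card_subtype, ← Nat.card_eq_fintype_card, h.card4] at hc
    omega
  obtain ⟨k, m, hm3, hkm⟩ := Nat.exists_eq_pow_mul_and_not_dvd
    (orderOf_pos φ).ne' 3 (by norm_num)
  set ψ := φ ^ m with hψ
  have hψk : ψ ^ 3 ^ k = 1 := by rw [hψ, ← pow_mul, mul_comm, ← hkm, pow_orderOf_eq_one]
  have hφ3 : ∀ (q : ℕ) (x : T), x * x = 1 → (φ ^ (3 * q)) x = x := by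
    intro q x hx
    induction q with
    | zero => rfl
    | succ q ih =>
      rw [mul_add, pow_add, MulAut.mul_apply, mul_one]
      rw [show (φ ^ 3) x = φ (φ (φ x)) from rfl, h.cube_fix φ hfix hx, ih]
  have hψfix : ∀ x, x * x = 1 → ψ x = x → x = 1 := by
    intro x hx hψx
    refine hfix x hx ?_
    rw [hψ, ← Nat.div_add_mod m 3, pow_add, MulAut.mul_apply] at hψx
    have hr : (φ ^ (m % 3)) x * (φ ^ (m % 3)) x = 1 := by rw [← map_mul, hx, map_one]
    rw [hφ3 _ _ hr] at hψx
    have h0 : m % 3 ≠ 0 := fun e => hm3 (Nat.dvd_of_mod_eq_zero e)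
    have h3 : m % 3 < 3 := Nat.mod_lt _ (by norm_num)
    rcases (show m % 3 = 1 ∨ m % 3 = 2 by omega) with e | e <;> rw [e] at hψx
    · simpa using hψx
    · have h5 := congrArg φ hψx
      rw [show (φ ^ 2) x = φ (φ x) from rfl, h.cube_fix φ hfix hx] at h5
      exact h5.symm
  exact ⟨ψ, fun x => DFunLike.congr_fun (h.pow_three_eq_one ψ hψk hψfix) x, hψfix⟩

/-- Let T be a finite 2-group of 2-rank exactly 2 (it has a Klein four-subgroup but no elementary abelian subgroup of order 8) admitting an automorphism φ such that any two involutions of T are carried to one another by a power of φ. Then T ≅ Z_{2^n} × Z_{2^n} for some n ≥ 1, or T is isomorphic to a Sylow 2-subgroup of PSU(3) over the field with 16 elements. -/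
theorem result {T : Type*} [Group T] [Finite T] (hT : IsPGroup 2 T) (h2 : Cfsg.PRankLE 2 2 T) (h1 : ¬ Cfsg.PRankLE 2 1 T) (φ : MulAut T) (htrans : ∀ s t : T, orderOf s = 2 → orderOf t = 2 → ∃ k : ℕ, (φ ^ k) s = t) {F : Type*} [Field F] [Fintype F] (hF : Fintype.card F = 16) (P : Sylow 2 (Cfsg.PSU 3 F 4)) : (∃ n : ℕ, 1 ≤ n ∧ Nonempty (T ≃* Multiplicative (ZMod (2 ^ n) × ZMod (2 ^ n)))) ∨ Nonempty (T ≃* (P : Subgroup (Cfsg.PSU 3 F 4))) := by
  obtain ⟨h, ψ, hcube, hfix⟩ := three_of_hyp hT h2 h1 φ htrans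
  by_cases hab : ∀ a b : T, a * b = b * a
  · exact Or.inl (homocyclic h hab ψ hfix)
  right
  simp only [not_forall] at hab
  obtain ⟨z, hz, hz1, hψz, hψ1, hne, hψψ⟩ := h.exists_invol ψ hfix
  have hz3 : ψ (ψ (ψ z)) = z := hcube z
  have hψne : ψ ≠ 1 := fun e => hne (by rw [e]; rfl)
  have hψ3 : ψ ^ 3 = 1 := MulEquiv.ext hcube
  have hS : Cfsg.IsSuzukiTwoGroup T := by
    refine ⟨inferInstance, hT, hab, ⟨z, ψ z, hne, hz1, hz, hψ1, hψz⟩, Subgroup.zpowers ψ,
      inferInstance, ?_⟩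
    intro x y hx1 hx hy1 hy
    have hp : ψ x ≠ 1 := by rwa [Ne, EmbeddingLike.map_eq_one_iff]
    have hp2 : ψ x * ψ x = 1 := by rw [← map_mul, hx, map_one]
    have hxne : x ≠ ψ x := fun e => hx1 (hfix x hx e.symm)
    have hψx : ψ (ψ x) = x * ψ x := by
      have hpp : ψ (ψ x) * ψ (ψ x) = 1 := by rw [← map_mul, hp2, map_one]
      rcases h.eq_or hx hp2 hpp hx1 hp hxne with e | e | e | e
      · exact absurd (EmbeddingLike.map_eq_one_iff.1 e) hp
      · exact absurd ((congrArg ψ e).symm.trans (hcube x)).symm hxne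
      · exact absurd (hfix _ hp2 e) hp
      · exact e
    have hexists : ∃ i : Fin 3, (ψ ^ (i : ℕ)) x = y := by
      rcases h.eq_or hx hp2 hy hx1 hp hxne with e | e | e | e
      · exact absurd e hy1
      · exact ⟨0, e.symm⟩
      · exact ⟨1, by simpa using e.symm⟩
      · exact ⟨2, hψx.trans e.symm⟩
    obtain ⟨i, hi⟩ := hexists
    refine ⟨⟨ψ ^ (i : ℕ), Subgroup.npow_mem_zpowers ψ i⟩, hi, ?_⟩
    rintro ⟨k, hk⟩ hkx
    obtain ⟨j, rfl⟩ := (isOfFinOrder_of_finite ψ).mem_powers_iff_mem_zpowers.2 hk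
    apply Subtype.ext
    show ψ ^ j = ψ ^ (i : ℕ)
    have hord : orderOf ψ = 3 := orderOf_eq_prime hψ3 hψne
    rw [← pow_mod_orderOf ψ j, hord]
    have hkx' : (ψ ^ j) x = y := hkx
    rw [← pow_mod_orderOf ψ j, hord, ← hi] at hkx'
    obtain ⟨r, hr⟩ : ∃ r : Fin 3, (r : ℕ) = j % 3 := ⟨⟨j % 3, Nat.mod_lt _ (by norm_num)⟩, rfl⟩
    rw [← hr] at hkx' ⊢
    suffices r = i by rw [this]
    have e0 : (ψ ^ 0) x = x := rfl
    have e1 : (ψ ^ 1) x = ψ x := by rw [pow_one]
    have e2 : (ψ ^ 2) x = x * ψ x := hψx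
    have n1 : x ≠ x * ψ x := fun e => hp (left_eq_mul.1 e)
    have n2 : ψ x ≠ x * ψ x := fun e => hx1 (right_eq_mul.1 e)
    fin_cases r <;> fin_cases i <;>
      simp only [e0, e1, e2] at hkx' <;>
      first
        | rfl
        | exact absurd hkx' hxne
        | exact absurd hkx' hxne.symm
        | exact absurd hkx' n1
        | exact absurd hkx' n1.symm
        | exact absurd hkx' n2
        | exact absurd hkx' n2.symm
  obtain ⟨c, hc⟩ := CharP.exists F
  obtain ⟨m, hc', hm⟩ := FiniteField.card F c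
  rw [hF] at hm
  have hc2 : c = 2 := by
    have h1 : c ∣ 2 ^ 4 := by
      rw [show (2 : ℕ) ^ 4 = c ^ (m : ℕ) by rw [← hm]; rfl]; exact dvd_pow_self c m.pos.ne'
    exact (Nat.prime_dvd_prime_iff_eq hc' Nat.prime_two).1 (hc'.dvd_of_dvd_pow h1)
  subst hc2
  obtain ⟨hcard, hcen, hsuz⟩ := Cfsg.Agent.SuzukiTwo.psu_sylow
    (show Fintype.card F = 4 ^ 2 by rw [hF]; norm_num) (n := 2) le_rfl (by norm_num) P
  obtain ⟨χ, hP⟩ := exists_shape64 hsuz hcen
  exact Shape64.nonempty_mulEquiv (shape64_of_suzuki hS h ψ hcube hfix) hP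

end Cfsg.Agent.S1237
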