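import Cfsg.Statements.S2149
import Cfsg.Agent.PSU35.Unital
import Cfsg.Agent.PSU35.Seven
import Cfsg.Agent.PSU35.Alt7

set_option autoImplicit false
open Cfsg Cfsg.Agent

namespace Cfsg.Agent.S2149

/-- Minimal index of a proper subgroup of PSU₃(5), realised over the field with 25 elements: every proper subgroup has index at least 50, and that index is attained. -/
theorem result {F : Type*} [Field F] [Fintype F] (hF : Fintype.card F = 25) : (∀ H : Subgroup (Cfsg.PSU 3 F 5), H ≠ ⊤ → 50 ≤ H.index) ∧ (∃ H : Subgroup (Cfsg.PSU 3 F 5), H.index = 50) := by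
  classical
  have hF' : Fintype.card F = 5 ^ 2 := by rw [hF]; norm_num
  haveI : CharP F 5 := by
    haveI : Fact (Nat.Prime 5) := ⟨Nat.prime_five⟩
    have hd : ringChar F ∣ 5 := by
      obtain ⟨n, hp, hn⟩ := FiniteField.card F (ringChar F)
      have h : ringChar F ∣ 5 ^ 2 := by rw [← hF', hn]; exact dvd_pow_self _ n.ne_zero
      exact hp.dvd_of_dvd_pow h
    have := (FiniteField.card F (ringChar F)).choose_spec.1
    rw [← (Nat.prime_dvd_prime_iff_eq this Nat.prime_five).1 hd]
    exact ringChar.charP F
  have hG : Nat.card (Cfsg.PSU 3 F 5) = 126000 := by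
    have h := Unitary.card_PSU (F := F) hF' (n := 3) (by norm_num)
    simp [Finset.prod_range_succ, Nat.even_iff] at h
    show Nat.card (SU 3 F 5 ⧸ Subgroup.center (SU 3 F 5)) = 126000
    rw [Nat.card_eq_fintype_card]
    omega
  constructor
  · intro H hH
    by_contra hlt
    push Not at hlt
    set n := H.index with hn
    have hn0 : n ≠ 0 := Subgroup.index_ne_zero_of_finite
    -- the simple group embeds in the symmetric group on the cosets
    haveI := Unitary.isSimpleGroup_PSU (F := F) hF' (n := 3) le_rfl (by norm_num)
    have h15 : 15 ≤ n := by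
      by_contra hsmall
      have hcore : H.normalCore = ⊥ := (H.normalCore_normal).eq_bot_or_eq_top.resolve_right
        fun h => hH (top_le_iff.1 (h ▸ H.normalCore_le))
      have hinj : Function.Injective
          (MulAction.toPermHom (Cfsg.PSU 3 F 5) (Cfsg.PSU 3 F 5 ⧸ H)) := by
        rw [← MonoidHom.ker_eq_bot_iff, ← Subgroup.normalCore_eq_ker, hcore]
      have hd := Subgroup.card_dvd_of_injective _ hinj
      rw [hG, Nat.card_perm, ← Subgroup.index_eq_card, ← hn] at hd
      have h14 : 126000 ∣ Nat.factorial 14 :=
        hd.trans (Nat.factorial_dvd_factorial (by omega))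
      norm_num [Nat.factorial] at h14
    -- transitivity on the isotropic points
    have hmk := QuotientGroup.mk'_surjective (Subgroup.center (SU 3 F 5))
    have hK := PSU35.index_dvd_of_lt hF' (H.comap (QuotientGroup.mk' _))
      (by rw [Subgroup.index_comap_of_surjective _ hmk, ← hn]; exact hlt)
      (fun z hz => by
        rw [Subgroup.mem_comap, QuotientGroup.mk'_apply, (QuotientGroup.eq_one_iff z).2 hz]
        exact one_mem _)
    rw [Subgroup.index_comap_of_surjective _ hmk, ← hn] at hK
    have hcases : n = 20 ∨ n = 25 ∨ n = 40 := by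
      revert hK
      interval_cases n <;> norm_num
    -- Sylow 7
    have hHc := H.card_mul_index
    rw [hG, ← hn] at hHc
    haveI : Fact (Nat.Prime 7) := ⟨by norm_num⟩
    obtain ⟨P⟩ : Nonempty (Sylow 7 H) := inferInstance
    have hcard : Nat.card H = 6300 ∨ Nat.card H = 5040 ∨ Nat.card H = 3150 := by
      rcases hcases with h | h | h <;> rw [h] at hHc <;> omega
    have hP : Nat.card (P : Subgroup H) = 7 := by
      rw [P.card_eq_multiplicity]
      have : (Nat.card H).factorization 7 = 1 := by
        obtain ⟨m, hm, hm7⟩ : ∃ m, Nat.card H = 7 * m ∧ ¬ 7 ∣ m :=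
          ⟨Nat.card H / 7, by omega, by omega⟩
        rw [hm, Nat.factorization_mul (by norm_num) (by rintro rfl; exact hm7 (dvd_zero 7))]
        simp [Nat.factorization_eq_zero_of_not_dvd hm7,
          Nat.Prime.factorization_self (show Nat.Prime 7 by norm_num)]
      rw [this, pow_one]
    have h21 := PSU35.card_normalizer_dvd hF' H (P : Subgroup H) hP (by omega)
    have hmod := card_sylow_modEq_one 7 H
    rw [P.card_eq_index_normalizer] at hmod
    have h7 : 7 ∣ Nat.card (Subgroup.normalizer ((P : Subgroup H) : Set H)) := by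
      have := Subgroup.card_dvd_of_le
        (Subgroup.le_normalizer : (P : Subgroup H) ≤ Subgroup.normalizer ((P : Subgroup H) : Set H))
      rwa [hP] at this
    have hNi := (Subgroup.normalizer ((P : Subgroup H) : Set H)).card_mul_index
    have hN : Nat.card (Subgroup.normalizer ((P : Subgroup H) : Set H)) = 7 ∨
        Nat.card (Subgroup.normalizer ((P : Subgroup H) : Set H)) = 21 := by
      generalize Nat.card (Subgroup.normalizer ((P : Subgroup H) : Set H)) = N at h21 h7
      have := Nat.le_of_dvd (by norm_num) h21
      interval_cases N <;> omega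
    unfold Nat.ModEq at hmod
    have hmod' : (Subgroup.normalizer ((P : Subgroup H) : Set H)).index % 7 = 1 % 7 := hmod
    rcases hN with h | h <;> rw [h] at hNi <;> omega
  · obtain ⟨f, hf⟩ := PSU35.exists_alt_seven (F := F) hF'
    refine ⟨f.range, ?_⟩
    have hA : Nat.card f.range = 2520 := by
      rw [Nat.card_congr (MonoidHom.ofInjective hf).symm.toEquiv]
      rw [nat_card_alternatingGroup]
      simp [Nat.factorial]
    have h := f.range.card_mul_index
    rw [hA, hG] at h
    omega

end Cfsg.Agent.S2149
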