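import Cfsg.Statements.S3920

set_option autoImplicit false
set_option linter.all false
open Cfsg

namespace Cfsg.Agent.S3920

/-- Say that a group has self-centralizing non-cyclic subgroups when every non-cyclic subgroup H satisfies C_G(H) ≤ H. For n ≥ 3, the dihedral group of order 2n has self-centralizing non-cyclic subgroups if and only if n is odd or a power of 2. -/
theorem result (n : ℕ) (hn : 3 ≤ n) : (∀ H : Subgroup (DihedralGroup n), ¬ IsCyclic ↥H → Subgroup.centralizer (H : Set (DihedralGroup n)) ≤ H) ↔ (Odd n ∨ ∃ k : ℕ, n = 2 ^ k) := by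
  classical
  haveI : NeZero n := ⟨by omega⟩
  constructor
  · intro hX
    by_contra hcon
    push Not at hcon
    obtain ⟨hodd, hpow⟩ := hcon
    have heven : 2 ∣ n := even_iff_two_dvd.1 (Nat.not_odd_iff_even.1 hodd)
    obtain ⟨a, m, hm, rfl⟩ := Nat.exists_eq_two_pow_mul_odd (show n ≠ 0 by omega)
    have ha : 1 ≤ a := by
      rcases Nat.eq_zero_or_pos a with h | h
      · subst h; simp only [pow_zero, one_mul] at hodd; exact absurd hm hodd
      · exact h
    have hm3 : 3 ≤ m := by
      obtain ⟨t, ht⟩ := hm
      have : m ≠ 1 := fun h => hpow a (by rw [h, mul_one])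
      omega
    have hpow1 : 2 ^ (a - 1) * 2 = 2 ^ a := by rw [← pow_succ, Nat.sub_add_cancel ha]
    let f := ZMod.castHom (dvd_mul_right (2 ^ a) m) (ZMod (2 ^ a))
    let H : Subgroup (DihedralGroup (2 ^ a * m)) :=
      { carrier := {x | match x with | .r i => f i = 0 | .sr i => f i = 0}
        one_mem' := map_zero f
        mul_mem' := by
          rintro (x | x) (y | y) hx hy <;>
            simp only [Set.mem_ofPred_eq, DihedralGroup.r_mul_r, DihedralGroup.r_mul_sr,
              DihedralGroup.sr_mul_r, DihedralGroup.sr_mul_sr] at hx hy ⊢ <;> simp [hx, hy]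
        inv_mem' := by
          rintro (x | x) hx
          · show f (-x) = 0; rw [map_neg, show f x = 0 from hx, neg_zero]
          · exact hx }
    have hr : DihedralGroup.r ((2 ^ a : ℕ) : ZMod (2 ^ a * m)) ∈ H := by
      show f _ = 0; rw [map_natCast, ZMod.natCast_self]
    have hs : DihedralGroup.sr (0 : ZMod (2 ^ a * m)) ∈ H := map_zero f
    have hnc : ¬ IsCyclic H := fun h => by
      have := congrArg Subtype.val (IsMulCommutative.is_comm.comm (⟨_, hr⟩ : H) ⟨_, hs⟩)
      simp only [Subgroup.coe_mul, DihedralGroup.r_mul_sr, DihedralGroup.sr_mul_r,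
        DihedralGroup.sr.injEq] at this
      have h2 : ((2 ^ a * 2 : ℕ) : ZMod (2 ^ a * m)) = 0 := by
        push_cast at this ⊢; linear_combination -this
      rw [ZMod.natCast_eq_zero_iff] at h2
      have h3 := Nat.le_of_dvd two_pos ((Nat.mul_dvd_mul_iff_left (Nat.two_pow_pos a)).1 h2)
      omega
    let z : ZMod (2 ^ a * m) := ((2 ^ (a - 1) * m : ℕ) : ZMod (2 ^ a * m))
    have hzz : z + z = 0 := by
      show ((_ : ℕ) : ZMod (2 ^ a * m)) + _ = 0
      rw [← Nat.cast_add, ← two_mul, ← mul_assoc, mul_comm 2, hpow1, ZMod.natCast_self]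
    have hzc : DihedralGroup.r z ∈ Subgroup.centralizer (H : Set _) := by
      rw [Subgroup.mem_centralizer_iff]
      rintro (x | x) - <;>
        simp only [DihedralGroup.r_mul_r, DihedralGroup.r_mul_sr, DihedralGroup.sr_mul_r,
          DihedralGroup.r.injEq, DihedralGroup.sr.injEq]
      · ring
      · linear_combination hzz
    have hz : f z = 0 := hX H hnc hzc
    rw [map_natCast, ZMod.natCast_eq_zero_iff] at hz
    conv_lhs at hz => rw [← hpow1]
    have := (Nat.mul_dvd_mul_iff_left (Nat.two_pow_pos _)).1 hz
    exact (Nat.not_even_iff_odd.2 hm) (even_iff_two_dvd.2 this)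
  · intro hn' H hnc x hx
    rw [Subgroup.mem_centralizer_iff] at hx
    obtain ⟨i, hi⟩ : ∃ i, DihedralGroup.sr i ∈ H := by
      by_contra hno
      push Not at hno
      haveI : IsCyclic (Subgroup.zpowers (DihedralGroup.r (1 : ZMod n))) := inferInstance
      have hle : H ≤ Subgroup.zpowers (DihedralGroup.r (1 : ZMod n)) := by
        rintro (j | j) hj
        · exact ⟨(j.val : ℤ), by simp⟩
        · exact absurd hj (hno j)
      exact hnc (isCyclic_of_injective (Subgroup.inclusion hle) (Subgroup.inclusion_injective hle))
    obtain ⟨j, hj, hj0⟩ : ∃ j, DihedralGroup.r j ∈ H ∧ j ≠ 0 := by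
      by_contra hno
      push Not at hno
      apply hnc
      refine ⟨⟨⟨_, hi⟩, ?_⟩⟩
      rintro ⟨y, hy⟩
      rcases y with k | k
      · exact ⟨0, Subtype.ext (by simp [hno k hy, DihedralGroup.r_zero])⟩
      · have := mul_mem hi hy
        rw [DihedralGroup.sr_mul_sr] at this
        have := hno _ this
        exact ⟨1, Subtype.ext (by simp [(sub_eq_zero.1 this)])⟩
    rcases x with k | k
    · have h := hx _ hi
      simp only [DihedralGroup.r_mul_sr, DihedralGroup.sr_mul_r, DihedralGroup.sr.injEq] at h
      have hk : k + k = 0 := by linear_combination h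
      have hk' : n ∣ 2 * k.val := by
        rw [← ZMod.natCast_eq_zero_iff]
        push_cast [ZMod.natCast_zmod_val]
        linear_combination hk
      have hkn := ZMod.val_lt k
      rcases Nat.eq_zero_or_pos k.val with h0 | h0
      · rw [ZMod.val_eq_zero] at h0
        rw [h0, DihedralGroup.r_zero]; exact one_mem H
      · have hkeq : 2 * k.val = n := by
          obtain ⟨c, hc⟩ := hk'
          rcases c with _ | _ | c
          · omega
          · omega
          · nlinarith
        rcases hn' with hodd | ⟨e, he⟩
        · obtain ⟨t, ht⟩ := hodd; omega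
        · subst he
          obtain ⟨e, rfl⟩ : ∃ e', e = e' + 1 := ⟨e - 1, by
            rcases e with _ | e
            · simp at hn
            · omega⟩
          have hkv : k.val = 2 ^ e := by have := pow_succ 2 e; omega
          obtain ⟨b, u, hu, hb⟩ := Nat.exists_eq_two_pow_mul_odd
            (show j.val ≠ 0 by rwa [Ne, ZMod.val_eq_zero])
          have hbe : b ≤ e := by
            by_contra hlt
            have : 2 ^ (e + 1) ≤ 2 ^ b := Nat.pow_le_pow_right two_pos (by omega)
            have := ZMod.val_lt j
            obtain ⟨t, rfl⟩ := hu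
            nlinarith
          have hkj : k = ((2 ^ (e - b) : ℕ) : ZMod (2 ^ (e + 1))) * j := by
            rw [← ZMod.natCast_zmod_val k, ← ZMod.natCast_zmod_val j, hkv, hb, ← Nat.cast_mul,
              ← mul_assoc, ← pow_add, Nat.sub_add_cancel hbe]
            obtain ⟨t, rfl⟩ := hu
            rw [mul_add, mul_one, ← mul_assoc, ← pow_succ, Nat.cast_add, Nat.cast_mul,
              ZMod.natCast_self, zero_mul, zero_add]
          have := pow_mem hj (2 ^ (e - b))
          rw [DihedralGroup.r_pow] at this
          rw [hkj, mul_comm]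
          exact this
    · have h := hx _ hj
      simp only [DihedralGroup.r_mul_sr, DihedralGroup.sr_mul_r, DihedralGroup.sr.injEq] at h
      have hjj : j + j = 0 := by linear_combination -h
      have h' := hx _ hi
      simp only [DihedralGroup.sr_mul_sr, DihedralGroup.r.injEq] at h'
      have hkk : (k - i) + (k - i) = 0 := by linear_combination h'
      by_cases hki : k = i
      · rwa [hki]
      · have hval : ∀ w : ZMod n, w + w = 0 → w ≠ 0 → 2 * w.val = n := by
          intro w hw hw0
          have h2 : n ∣ 2 * w.val := by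
            rw [← ZMod.natCast_eq_zero_iff]
            push_cast [ZMod.natCast_zmod_val]
            linear_combination hw
          have hlt := ZMod.val_lt w
          have h0 : w.val ≠ 0 := by rwa [Ne, ZMod.val_eq_zero]
          obtain ⟨c, hc⟩ := h2
          rcases c with _ | _ | c
          · omega
          · omega
          · nlinarith
        have h1 := hval _ hkk (sub_ne_zero.2 hki)
        have h2 := hval _ hjj hj0
        have : k - i = j := ZMod.val_injective n (by omega)
        have hm := mul_mem hi hj
        rw [DihedralGroup.sr_mul_r] at hm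
        rwa [show k = i + j by rw [← this]; ring]

end Cfsg.Agent.S3920
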