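import Cfsg.Statements.S5515
import Cfsg.Agent.S2608
import Cfsg.Agent.S0296
import Cfsg.Agent.Lib.Components.GenFitting
-- import your own Cfsg.Agent.* helpers here

set_option autoImplicit false
open Cfsg

namespace Cfsg.Agent.S5515

/-- The elements normalising the subgroup generated by `c`. -/
def nset (c : Equiv.Perm (Fin 4)) : Finset (Equiv.Perm (Fin 4)) :=
  Finset.univ.filter fun g => g * c * g⁻¹ = c ∨ g * c * g⁻¹ = c * c

theorem nset_card : ∀ c : Equiv.Perm (Fin 4), c * c * c = 1 → c ≠ 1 → (nset c).card = 6 := by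
  decide +kernel

theorem three_conj : ∀ c d : Equiv.Perm (Fin 4), c * c * c = 1 → c ≠ 1 → d * d * d = 1 → d ≠ 1 →
    ∃ g : Equiv.Perm (Fin 4), g * c * g⁻¹ = d := by
  have h : ∀ c d : Equiv.Perm (Fin 4), c * c * c = 1 → c ≠ 1 → d * d * d = 1 → d ≠ 1 →
    ∃ g : Equiv.Perm (Fin 4), g * c * g⁻¹ = d ∨ g * c * g⁻¹ = d * d := by decide +kernel
  intro c d hc hc1 hd hd1
  obtain ⟨g, hg | hg⟩ := h c d hc hc1 hd hd1
  · exact ⟨g, hg⟩
  · obtain ⟨s, hs⟩ := (by decide +kernel : ∀ d : Equiv.Perm (Fin 4), d * d * d = 1 → d ≠ 1 →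
      ∃ s : Equiv.Perm (Fin 4), s * (d * d) * s⁻¹ = d) d hd hd1
    exact ⟨s * g, by rw [← hs, ← hg]; group⟩

theorem six_eq_nset (T : Subgroup (Equiv.Perm (Fin 4))) (hT : Nat.card T = 6) :
    ∃ c : Equiv.Perm (Fin 4), c * c * c = 1 ∧ c ≠ 1 ∧ ∀ g, g ∈ T ↔ g ∈ nset c := by
  classical
  haveI : Fact (Nat.Prime 3) := ⟨Nat.prime_three⟩
  obtain ⟨t, ht⟩ := exists_prime_orderOf_dvd_card' (G := T) 3 (by rw [hT]; norm_num)
  have h3 : (t : Equiv.Perm (Fin 4)) * t * t = 1 := by
    have := pow_orderOf_eq_one t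
    rw [ht, pow_succ, pow_two] at this
    exact congrArg Subtype.val this
  have hne : (t : Equiv.Perm (Fin 4)) ≠ 1 := fun h => by
    rw [show t = 1 from Subtype.ext h, orderOf_one] at ht
    omega
  refine ⟨t, h3, hne, ?_⟩
  have hidx : (Subgroup.zpowers t).index = 2 := by
    have := Subgroup.card_mul_index (Subgroup.zpowers t)
    rw [hT, Nat.card_zpowers, ht] at this
    omega
  haveI := Subgroup.normal_of_index_eq_two hidx
  have hsub : (Finset.univ.filter fun g => g ∈ T) ⊆ nset t := by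
    intro g hg
    simp only [Finset.mem_filter, Finset.mem_univ, true_and] at hg
    have hm := (inferInstance : (Subgroup.zpowers t).Normal).conj_mem t (Subgroup.mem_zpowers t) ⟨g, hg⟩
    obtain ⟨k, hk : t ^ k = _⟩ := Subgroup.mem_zpowers_iff.1 hm
    rw [← zpow_mod_orderOf, ht] at hk
    have h0 := Int.emod_nonneg k (show ((3 : ℕ) : ℤ) ≠ 0 by norm_num)
    have h2 := Int.emod_lt_of_pos k (show (0 : ℤ) < ((3 : ℕ) : ℤ) by norm_num)
    simp only [nset, Finset.mem_filter, Finset.mem_univ, true_and]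
    have hv : ((⟨g, hg⟩ * t * ⟨g, hg⟩⁻¹ : T) : Equiv.Perm (Fin 4)) = g * t * g⁻¹ := rfl
    rw [← hv, ← hk]
    obtain h | h | h : k % ((3 : ℕ) : ℤ) = 0 ∨ k % ((3 : ℕ) : ℤ) = 1 ∨ k % ((3 : ℕ) : ℤ) = 2 := by omega
    · exfalso
      rw [h, zpow_zero] at hk
      exact hne (congrArg Subtype.val (conj_eq_one_iff.1 hk.symm))
    · rw [h, zpow_one]; exact Or.inl rfl
    · rw [h]; exact Or.inr (congrArg Subtype.val (zpow_two t))
  have heq := Finset.eq_of_subset_of_card_le hsub (by
    rw [nset_card _ h3 hne, ← hT, Nat.card_eq_fintype_card, Fintype.card_subtype])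
  intro g
  rw [← heq]
  simp

/-- The subgroups of order six of `S₄` are conjugate. -/
theorem six_conj (T T' : Subgroup (Equiv.Perm (Fin 4))) (hT : Nat.card T = 6) (hT' : Nat.card T' = 6) :
    ∃ g : Equiv.Perm (Fin 4), ∀ x, x ∈ T ↔ g * x * g⁻¹ ∈ T' := by
  obtain ⟨c, hc, hc1, hcT⟩ := six_eq_nset T hT
  obtain ⟨d, hd, hd1, hdT⟩ := six_eq_nset T' hT'
  obtain ⟨g, rfl⟩ := three_conj c d hc hc1 hd hd1
  refine ⟨g, fun x => ?_⟩
  rw [hcT, hdT]
  simp only [nset, Finset.mem_filter, Finset.mem_univ, true_and]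
  have e : g * x * g⁻¹ * (g * c * g⁻¹) * (g * x * g⁻¹)⁻¹ = g * (x * c * x⁻¹) * g⁻¹ := by group
  rw [e, show g * c * g⁻¹ * (g * c * g⁻¹) = g * (c * c) * g⁻¹ by group]
  simp only [mul_left_inj, mul_right_inj]

section Embed

variable {S : Type*} [Group S] {G : Type*} [Group G] [Finite G]
  [(generalizedFittingSubgroup G).Normal] (e : ↥(generalizedFittingSubgroup G) ≃* S)

/-- The action on the socle. -/
noncomputable def phi : G →* MulAut S :=
  (MulAut.congr e).toMonoidHom.comp MulAut.conjNormal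

theorem phi_apply (g : G) (s : S) :
    phi e g s = e (MulAut.conjNormal g (e.symm s)) := rfl

theorem phi_coe (n : ↥(generalizedFittingSubgroup G)) : phi e n = MulAut.conj (e n) := by
  ext s
  rw [phi_apply, MulAut.conj_apply]
  conv_rhs => rw [← e.apply_symm_apply s, ← map_mul, ← map_inv, ← map_mul]
  congr 1

theorem phi_injective (hz : Subgroup.center S = ⊥) : Function.Injective (phi e) := by
  rw [injective_iff_map_eq_one]
  intro g hg
  have hc : g ∈ Subgroup.centralizer (generalizedFittingSubgroup G : Set G) := by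
    rw [Subgroup.mem_centralizer_iff]
    intro n hn
    have h := DFunLike.congr_fun hg (e ⟨n, hn⟩)
    rw [phi_apply, MulEquiv.symm_apply_apply, MulAut.one_apply] at h
    have h2 : g * n * g⁻¹ = n := congrArg Subtype.val (e.injective h)
    exact (mul_inv_eq_iff_eq_mul.1 h2).symm
  have hgN := Cfsg.Agent.Components.centralizer_generalizedFitting_le hc
  have hm : e ⟨g, hgN⟩ ∈ Subgroup.center S := by
    rw [Subgroup.mem_center_iff]
    intro s
    rw [← e.apply_symm_apply s, ← map_mul, ← map_mul]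
    exact congrArg e (Subtype.ext (Subgroup.mem_centralizer_iff.1 hc _ (e.symm s).2))
  rw [hz, Subgroup.mem_bot, MulEquiv.map_eq_one_iff] at hm
  exact congrArg Subtype.val hm

theorem inn_le_range : Cfsg.Inn S ≤ (phi e).range := by
  rintro _ ⟨s, rfl⟩
  exact ⟨e.symm s, by rw [phi_coe, MulEquiv.apply_symm_apply]⟩

theorem card_image (hz : Subgroup.center S = ⊥) :
    Nat.card ↥((QuotientGroup.mk' (Cfsg.Inn S)).comp (phi e)).range =
      Nat.card (G ⧸ generalizedFittingSubgroup G) := by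
  have hk : ((QuotientGroup.mk' (Cfsg.Inn S)).comp (phi e)).ker = generalizedFittingSubgroup G := by
    ext g
    rw [MonoidHom.mem_ker, MonoidHom.comp_apply, QuotientGroup.mk'_apply, QuotientGroup.eq_one_iff]
    constructor
    · rintro ⟨s, hs⟩
      have := phi_injective e hz (show phi e g = phi e ((e.symm s : _) : G) by
        rw [phi_coe, MulEquiv.apply_symm_apply, hs])
      rw [this]
      exact (e.symm s).2
    · intro hg
      exact ⟨e ⟨g, hg⟩, (phi_coe e ⟨g, hg⟩).symm⟩
  rw [Nat.card_congr (QuotientGroup.quotientKerEquivRange _).symm.toEquiv]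
  exact Nat.card_congr (QuotientGroup.quotientMulEquivOfEq hk).toEquiv

end Embed

theorem mem_range_iff {S : Type*} [Group S] {P : Type*} [Group P] (O : Cfsg.Out S ≃* P)
    {H : Type*} [Group H] (f : H →* MulAut S) (hle : Cfsg.Inn S ≤ f.range) (x : MulAut S) :
    x ∈ f.range ↔ O (QuotientGroup.mk' (Cfsg.Inn S) x) ∈
      (((QuotientGroup.mk' (Cfsg.Inn S)).comp f).range).map O.toMonoidHom := by
  constructor
  · rintro ⟨h, rfl⟩
    exact ⟨_, ⟨h, rfl⟩, rfl⟩
  · rintro ⟨_, ⟨h, rfl⟩, hh⟩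
    have h1 : QuotientGroup.mk' (Cfsg.Inn S) (f h) = QuotientGroup.mk' (Cfsg.Inn S) x := O.injective hh
    have h2 : (f h)⁻¹ * x ∈ Cfsg.Inn S := QuotientGroup.eq.1 h1
    simpa using mul_mem (show f h ∈ f.range from ⟨h, rfl⟩) (hle h2)

theorem uniq {S : Type*} [Group S] (hz : Subgroup.center S = ⊥)
    (O : Cfsg.Out S ≃* Equiv.Perm (Fin 4))
    {G G' : Type*} [Group G] [Finite G] [Group G'] [Finite G']
    [(generalizedFittingSubgroup G).Normal] [(generalizedFittingSubgroup G').Normal]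
    (e : ↥(generalizedFittingSubgroup G) ≃* S) (e' : ↥(generalizedFittingSubgroup G') ≃* S)
    (hq : Nat.card (G ⧸ generalizedFittingSubgroup G) = 6)
    (hq' : Nat.card (G' ⧸ generalizedFittingSubgroup G') = 6) : Nonempty (G ≃* G') := by
  set π := QuotientGroup.mk' (Cfsg.Inn S) with hπ
  set T := (((π.comp (phi e)).range).map O.toMonoidHom) with hT
  set T' := (((π.comp (phi e')).range).map O.toMonoidHom) with hT'
  obtain ⟨g, hg⟩ := six_conj T T'
    (by rw [hT, Subgroup.card_map_of_injective O.injective, hπ, card_image e hz, hq])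
    (by rw [hT', Subgroup.card_map_of_injective O.injective, hπ, card_image e' hz, hq'])
  obtain ⟨α, hα⟩ := QuotientGroup.mk'_surjective (Cfsg.Inn S) (O.symm g)
  have hmap : (phi e).range.map (MulAut.conj α).toMonoidHom = (phi e').range := by
    ext x
    rw [Subgroup.mem_map_equiv, MulAut.conj_symm_apply, mem_range_iff O (phi e) (inn_le_range e),
      mem_range_iff O (phi e') (inn_le_range e'), ← hπ, ← hT, ← hT', hg]
    simp only [map_mul, map_inv]
    rw [show π α = O.symm g from hα, O.apply_symm_apply]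
    group
  exact ⟨(MonoidHom.ofInjective (phi_injective e hz)).trans
    (((phi e).range.equivMapOfInjective (MulAut.conj α).toMonoidHom (MulAut.conj α).injective).trans
      ((MulEquiv.subgroupCongr hmap).trans (MonoidHom.ofInjective (phi_injective e' hz)).symm))⟩


/-- Let G and G′ be finite groups whose generalized Fitting subgroups are isomorphic to PΩ⁺(8, 3) (the commutator subgroup of the isometry group of the hyperbolic quadratic form in dimension 8 over the field with three elements, modulo its centre) with quotients isomorphic to the symmetric group of degree 3. Then G and G′ are isomorphic. -/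
theorem result {G G' : Type*} [Group G] [Finite G] [Group G'] [Finite G'] (hF : Nonempty (↥(Cfsg.generalizedFittingSubgroup G) ≃* Cfsg.POmega (ZMod 3) (Cfsg.quadFormPlus 4 (ZMod 3)))) (hF' : Nonempty (↥(Cfsg.generalizedFittingSubgroup G') ≃* Cfsg.POmega (ZMod 3) (Cfsg.quadFormPlus 4 (ZMod 3)))) [hn : (Cfsg.generalizedFittingSubgroup G).Normal] [hn' : (Cfsg.generalizedFittingSubgroup G').Normal] (hq : Nonempty (G ⧸ Cfsg.generalizedFittingSubgroup G ≃* Equiv.Perm (Fin 3))) (hq' : Nonempty (G' ⧸ Cfsg.generalizedFittingSubgroup G' ≃* Equiv.Perm (Fin 3))) : Nonempty (G ≃* G') := by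
  haveI := Fact.mk Nat.prime_three
  have h8 := Cfsg.Agent.S2608.result (F := ZMod 3) (p := 3) (f := 1) (m := 4) le_rfl
    (by rw [ZMod.card, pow_one]) (by norm_num) le_rfl
  rw [if_pos rfl] at h8
  obtain ⟨O0⟩ := h8
  have O : Cfsg.Out (Cfsg.POmega (ZMod 3) (Cfsg.quadFormPlus 4 (ZMod 3))) ≃* Equiv.Perm (Fin 4) :=
    O0.trans MulEquiv.prodUnique
  haveI := Cfsg.Agent.S0296.result (F := ZMod 3) 4 le_rfl
  have hz : Subgroup.center (Cfsg.POmega (ZMod 3) (Cfsg.quadFormPlus 4 (ZMod 3))) = ⊥ := by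
    refine ((inferInstance : (Subgroup.center (Cfsg.POmega (ZMod 3)
      (Cfsg.quadFormPlus 4 (ZMod 3)))).Normal).eq_bot_or_eq_top).resolve_right fun htop => ?_
    have hc : ∀ a b : Cfsg.POmega (ZMod 3) (Cfsg.quadFormPlus 4 (ZMod 3)), a * b = b * a :=
      fun a b => (Subgroup.mem_center_iff.1 (htop ▸ Subgroup.mem_top b) a)
    obtain ⟨z, hz1⟩ := exists_ne (1 : Cfsg.POmega (ZMod 3) (Cfsg.quadFormPlus 4 (ZMod 3)))
    haveI : (Subgroup.zpowers z).Normal := ⟨fun n hn g => by rwa [hc g n, mul_inv_cancel_right]⟩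
    have hzt := ((inferInstance : (Subgroup.zpowers z).Normal).eq_bot_or_eq_top).resolve_left
      (fun h => hz1 (Subgroup.zpowers_eq_bot.1 h))
    have hz : ∀ x, x ∈ Subgroup.zpowers z := fun x => hzt ▸ Subgroup.mem_top x
    have hcomm : ∀ a b : Cfsg.Out (Cfsg.POmega (ZMod 3) (Cfsg.quadFormPlus 4 (ZMod 3))), a * b = b * a := by
      intro a b
      induction a using QuotientGroup.induction_on with | H a => ?_
      induction b using QuotientGroup.induction_on with | H b => ?_
      rw [← QuotientGroup.mk_mul, ← QuotientGroup.mk_mul]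
      congr 1
      ext x
      obtain ⟨k, rfl⟩ := Subgroup.mem_zpowers_iff.1 (hz x)
      obtain ⟨i, hi⟩ := Subgroup.mem_zpowers_iff.1 (hz (a z))
      obtain ⟨j, hj⟩ := Subgroup.mem_zpowers_iff.1 (hz (b z))
      simp only [MulAut.mul_apply, map_zpow, ← hi, ← hj, ← zpow_mul]
      rw [mul_comm i j]
    exact absurd (by
      obtain ⟨u, hu⟩ := O.surjective (Equiv.swap 0 1)
      obtain ⟨v, hv⟩ := O.surjective (Equiv.swap 1 2)
      rw [← hu, ← hv, ← map_mul, ← map_mul, hcomm])
      (by decide +kernel : ¬ ((Equiv.swap 0 1 : Equiv.Perm (Fin 4)) * Equiv.swap 1 2 = Equiv.swap 1 2 * Equiv.swap 0 1))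
  obtain ⟨e⟩ := hF
  obtain ⟨e'⟩ := hF'
  obtain ⟨q⟩ := hq
  obtain ⟨q'⟩ := hq'
  exact uniq hz O e e' (by rw [Nat.card_congr q.toEquiv, Nat.card_perm, Nat.card_fin]; rfl)
    (by rw [Nat.card_congr q'.toEquiv, Nat.card_perm, Nat.card_fin]; rfl)

end Cfsg.Agent.S5515
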