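import Cfsg.Statements.S1510
import Cfsg.Agent.OddChar.Coprime
open Cfsg.Agent.OddChar

set_option autoImplicit false
open Cfsg

namespace Cfsg.Agent.S1510

/-- Let L be a finite group with a normal subgroup K and a nontrivial cyclic subgroup W₁ of order coprime to its index, K ⊓ W₁ = ⊥ and K ⊔ W₁ = ⊤; let W₂ ≠ ⊥ be a cyclic subgroup of K with K ⊓ C_L(x) = W₂ for every non-identity x ∈ W₁, and suppose W₁ ⊔ W₂ has odd order. Then (W₁, W₂) is a self-normalising cyclic pair in L. -/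
theorem result {L : Type*} [Group L] [Fintype L] (K W₁ W₂ : Subgroup L) [hK : K.Normal] (hKW₁ : K ⊓ W₁ = ⊥) (hKW₁' : K ⊔ W₁ = ⊤) (hW₁ : W₁ ≠ ⊥) (hW₁c : IsCyclic W₁) (hHall : Nat.Coprime (Nat.card W₁) W₁.index) (hW₂ : W₂ ≠ ⊥) (hW₂c : IsCyclic W₂) (hW₂K : W₂ ≤ K) (hC : ∀ x ∈ W₁, x ≠ 1 → K ⊓ Subgroup.centralizer ({x} : Set L) = W₂) (hodd : Odd (Nat.card ↥(W₁ ⊔ W₂))) : Cfsg.IsSelfNormalizingCyclic W₁ W₂ := by
  classical
  have _ := hodd
  have hcomm : ∀ a ∈ W₁, ∀ b ∈ W₂, a * b = b * a := by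
    intro a ha b hb
    by_cases ha1 : a = 1
    · simp [ha1]
    · rw [← hC a ha ha1] at hb
      exact (Subgroup.mem_centralizer_singleton_iff.mp hb.2).symm
  have hdisj : W₁ ⊓ W₂ = ⊥ := by
    rw [← le_bot_iff, ← hKW₁]
    exact fun z hz => ⟨hW₂K hz.2, hz.1⟩
  have hKcard : Nat.card K = W₁.index := by
    have h := Subgroup.IsComplement'.index_eq_card
      (Subgroup.isComplement'_of_disjoint_and_mul_eq_univ (H := W₁) (K := K)
        (disjoint_iff.mpr (by rw [inf_comm, hKW₁]))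
        (by rw [← Subgroup.mul_normal W₁ K, sup_comm, hKW₁', Subgroup.coe_top])).symm
    exact h.symm
  have hcopK : Nat.Coprime (Nat.card W₁) (Nat.card K) := hKcard ▸ hHall
  have hcop : Nat.Coprime (Nat.card W₁) (Nat.card W₂) :=
    hcopK.coprime_dvd_right (Subgroup.card_dvd_of_le hW₂K)
  have hnorm : W₁ ≤ Subgroup.normalizer (W₂ : Set L) := by
    intro a ha
    rw [Subgroup.mem_normalizer_iff]
    intro b
    constructor
    · intro hb; rw [hcomm a ha b hb, mul_inv_cancel_right]; exact hb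
    · intro hb
      have h := hcomm a⁻¹ (W₁.inv_mem ha) _ hb
      have : b = a * b * a⁻¹ := by
        calc b = a⁻¹ * (a * b * a⁻¹) * a := by group
          _ = a * b * a⁻¹ * a⁻¹ * a := by rw [h]
          _ = a * b * a⁻¹ := by group
      rwa [this]
  have hmem : ∀ w ∈ W₁ ⊔ W₂, ∃ a ∈ W₁, ∃ b ∈ W₂, a * b = w := by
    intro w hw
    rw [← SetLike.mem_coe, Subgroup.coe_mul_of_left_le_normalizer_right W₁ W₂ hnorm] at hw
    exact Set.mem_mul.mp hw
  have hcyc : IsCyclic ↥(W₁ ⊔ W₂) := by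
    obtain ⟨⟨u, hu⟩, hug⟩ := hW₁c.exists_generator
    obtain ⟨⟨v, hv⟩, hvg⟩ := hW₂c.exists_generator
    obtain ⟨j, hj⟩ := exists_pow_kill_fix hcop
    refine ⟨⟨⟨u * v, Subgroup.mul_mem_sup hu hv⟩, fun ⟨w, hw⟩ => ?_⟩⟩
    obtain ⟨a, ha, b, hb, rfl⟩ := hmem w hw
    obtain ⟨i, hi⟩ := hug ⟨a, ha⟩
    obtain ⟨l, hl⟩ := hvg ⟨b, hb⟩
    have hu' : (u * v) ^ j = u :=
      hj u v (hcomm u hu v hv) (pow_card_eq_one_of_mem _ hu) (pow_card_eq_one_of_mem _ hv)
    have h1 : a ∈ Subgroup.zpowers (u * v) := by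
      have : u ^ i = a := by simpa using congrArg Subtype.val hi
      have h3 := Subgroup.pow_mem _ (Subgroup.mem_zpowers (u * v)) j
      rw [hu'] at h3
      rw [← this]
      exact Subgroup.zpow_mem _ h3 _
    have h2 : b ∈ Subgroup.zpowers (u * v) := by
      have : v ^ l = b := by simpa using congrArg Subtype.val hl
      have h3 := Subgroup.mul_mem _ (Subgroup.inv_mem _
        (Subgroup.pow_mem _ (Subgroup.mem_zpowers (u * v)) j)) (Subgroup.mem_zpowers (u * v))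
      rw [hu', inv_mul_cancel_left] at h3
      rw [← this]
      exact Subgroup.zpow_mem _ h3 _
    obtain ⟨n, hn⟩ := Subgroup.mul_mem _ h1 h2
    exact ⟨n, Subtype.ext (by simpa using hn)⟩
  refine ⟨hW₁, hW₂, hdisj, hcomm, hcyc, fun X hX hne => le_antisymm ?_ ?_⟩
  · intro g hg
    obtain ⟨w, hw⟩ := hne
    have hgw := hX ((Subgroup.mem_set_normalizer_iff.mp hg w).mp hw)
    obtain ⟨a, ha, b, hb, rfl⟩ := hmem w (hX hw).1
    obtain ⟨a', ha', b', hb', he⟩ := hmem _ hgw.1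
    have ha1 : a ≠ 1 := fun h => (hX hw).2 (Or.inr (by simpa [h] using hb))
    have hg2 : g ∈ ((W₁ ⊔ K : Subgroup L) : Set L) := by
      rw [sup_comm, hKW₁']; exact Set.mem_univ g
    rw [sup_comm, Subgroup.coe_mul_of_right_le_normalizer_left K W₁ (by
      rw [Subgroup.normalizer_eq_top]; exact le_top)] at hg2
    obtain ⟨k, hk, s, hs, rfl⟩ := Set.mem_mul.mp hg2
    have hsa : s * a = a * s := by
      obtain ⟨⟨u, hu⟩, hug⟩ := hW₁c.exists_generator
      obtain ⟨i, hi⟩ := hug ⟨s, hs⟩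
      obtain ⟨l, hl⟩ := hug ⟨a, ha⟩
      rw [show s = u ^ i by simpa using (congrArg Subtype.val hi).symm,
        show a = u ^ l by simpa using (congrArg Subtype.val hl).symm]
      exact ((Commute.refl u).zpow_zpow i l).eq
    have hfix : s * (a * b) * s⁻¹ = a * b := by
      rw [← mul_assoc s a b, hsa, mul_assoc a s b, hcomm s hs b hb]; group
    have e2 : k * (a * b) * k⁻¹ = a' * b' := by
      rw [he, show k * s * (a * b) * (k * s)⁻¹ = k * (s * (a * b) * s⁻¹) * k⁻¹ by group, hfix]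
    have haa : a'⁻¹ * a ∈ K ⊓ W₁ := by
      refine ⟨?_, W₁.mul_mem (W₁.inv_mem ha') ha⟩
      have e4 : a'⁻¹ * a = b' * k * b⁻¹ * (a⁻¹ * k⁻¹ * a) := by
        have e5 : a'⁻¹ = b' * (k * (a * b) * k⁻¹)⁻¹ := by rw [e2]; group
        rw [e5]; group
      rw [e4]
      refine K.mul_mem (K.mul_mem (K.mul_mem (hW₂K hb') hk) (K.inv_mem (hW₂K hb))) ?_
      simpa using hK.conj_mem _ (K.inv_mem hk) a⁻¹
    rw [hKW₁, Subgroup.mem_bot] at haa
    obtain rfl : a' = a := by simpa [inv_mul_eq_one] using haa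
    have := conj_eq_of_coprime hcop (hcomm a' ha b hb) (hcomm a' ha b' hb')
      (pow_card_eq_one_of_mem _ ha) (pow_card_eq_one_of_mem _ hb)
      (pow_card_eq_one_of_mem _ ha) (pow_card_eq_one_of_mem _ hb') e2
    refine Subgroup.mul_mem _ (Subgroup.mem_sup_right ?_) (Subgroup.mem_sup_left hs)
    rw [← hC a' ha ha1]
    exact ⟨hk, Subgroup.mem_centralizer_singleton_iff.mpr (mul_inv_eq_iff_eq_mul.mp this)⟩
  · intro g hg
    rw [Subgroup.mem_set_normalizer_iff]
    have := hcyc.commGroup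
    have hab : ∀ n ∈ W₁ ⊔ W₂, g * n * g⁻¹ = n := by
      intro n hn
      have := (IsCyclic.isMulCommutative (α := ↥(W₁ ⊔ W₂))).is_comm.comm ⟨g, hg⟩ ⟨n, hn⟩
      rw [show g * n = n * g from congrArg Subtype.val this, mul_inv_cancel_right]
    intro n
    constructor
    · intro hn; rwa [hab n (hX hn).1]
    · intro hn
      have h := hab n ?_
      · rwa [h] at hn
      · simpa [mul_assoc] using Subgroup.mul_mem _
          (Subgroup.mul_mem _ (Subgroup.inv_mem _ hg) (hX hn).1) hg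

end Cfsg.Agent.S1510
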