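import Cfsg.Statements.S5704
import Cfsg.Agent.TensorSp.Finish
import Cfsg.Agent.Classical10.NotMax.Tensor
import Cfsg.Agent.ClMax99.AltSim

set_option autoImplicit false
open Cfsg

namespace Cfsg.Agent.S5704

section
open Matrix Cfsg.Agent.MaxSub
variable {F : Type*} [Field F] {n a b : ℕ}

/-- The change of coordinates of a tensor decomposition. -/
def phi (e : Fin n ≃ Fin a × Fin b) (P : GL (Fin n) F) : GL (Fin a × Fin b) F ≃* GL (Fin n) F :=
  (Cfsg.Geo.glReindex e.symm).trans (MulAut.conj P)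

theorem phi_mulVec (e : Fin n ≃ Fin a × Fin b) (P : GL (Fin n) F) (g : GL (Fin a × Fin b) F)
    (z : Fin a × Fin b → F) :
    (phi e P g : Matrix (Fin n) (Fin n) F) *ᵥ ((P : Matrix (Fin n) (Fin n) F) *ᵥ (z ∘ e)) =
      (P : Matrix (Fin n) (Fin n) F) *ᵥ (((g : Matrix (Fin a × Fin b) (Fin a × Fin b) F) *ᵥ z) ∘ e) := by
  rw [show phi e P g = P * Cfsg.Geo.glReindex e.symm g * P⁻¹ from rfl, Units.val_mul, Units.val_mul,
    ← mulVec_mulVec, ← mulVec_mulVec, inv_mulVec_mulVec]
  congr 1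
  show (Matrix.reindex e.symm e.symm (g : Matrix _ _ F)) *ᵥ _ = _
  rw [Matrix.reindex_apply, Matrix.submatrix_mulVec_equiv]
  simp only [Equiv.symm_symm, Function.comp_assoc, Equiv.self_comp_symm, Function.comp_id]

theorem isometryGroup_map (e : Fin n ≃ Fin a × Fin b) (P : GL (Fin n) F) (Q : (Fin n → F) → F)
    (Q' : (Fin a × Fin b → F) → F)
    (h : ∀ z, Q' z = Q ((P : Matrix (Fin n) (Fin n) F) *ᵥ (z ∘ e))) :
    (Cfsg.isometryGroup F Q').map (phi e P).toMonoidHom = Cfsg.isometryGroup F Q := by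
  ext g
  constructor
  · rintro ⟨k, hk, rfl⟩ u _
    obtain ⟨z, rfl⟩ : ∃ z, (P : Matrix (Fin n) (Fin n) F) *ᵥ (z ∘ e) = u :=
      ⟨(((P⁻¹ : GL (Fin n) F) : Matrix (Fin n) (Fin n) F) *ᵥ u) ∘ e.symm, by
        rw [Function.comp_assoc, Equiv.symm_comp_self, Function.comp_id, mulVec_inv_mulVec]⟩
    show Q ((phi e P k : Matrix (Fin n) (Fin n) F) *ᵥ _) = Q _
    rw [phi_mulVec, ← h, ← h]
    exact hk z 0
  · intro hg
    refine ⟨(phi e P).symm g, fun z _ => ?_, (phi e P).apply_symm_apply g⟩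
    show Q' _ = Q' z
    have h1 := phi_mulVec e P ((phi e P).symm g) z
    rw [MulEquiv.apply_symm_apply] at h1
    rw [Units.coeHom_apply, h, h, ← h1]
    exact hg _ 0

theorem omegaGL_eq {ι : Type} [Fintype ι] [DecidableEq ι] (Q : (ι → F) → F) :
    Cfsg.Geo.omegaGL Q = ⁅Cfsg.isometryGroup F Q, Cfsg.isometryGroup F Q⁆ :=
  Subgroup.map_subtype_commutator _

end

/-- Let F be a finite field with q elements, n ≥ 13 even, Q a non-degenerate quadratic form on F^n of plus type (some subspace of dimension n/2 is totally singular), and Ω the commutator subgroup of the isometry group of Q, viewed inside GL_n(F). Suppose that, through a change of basis P and a bijection of index sets e, the polar form of Q is similar to the tensor product of non-degenerate symplectic forms f₁ on F^(n₁) and f₂ on F^(n₂) with n₁ < n₂, and Q vanishes on the images of all pure tensors. Unless q = 2 and n₁ = 2, the elements of Ω in the stabiliser of this tensor decomposition form a maximal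 subgroup of Ω. -/
theorem result {F : Type*} [Field F] [Fintype F] {n : ℕ} (hn : 13 ≤ n) (heven : Even n) (Q : (Fin n → F) → F) (hQ : Cfsg.Geo.IsNondegenerateQuadraticForm Q) (hplus : Cfsg.Geo.IsPlusTypeOn Q ⊤) (n₁ n₂ : ℕ) (h12 : n₁ < n₂) (hex : ¬ (Fintype.card F = 2 ∧ n₁ = 2)) (e : (Fin n) ≃ Fin n₁ × Fin n₂) (P : Matrix.GeneralLinearGroup (Fin n) F) (f₁ : (Fin n₁ → F) → (Fin n₁ → F) → F) (f₂ : (Fin n₂ → F) → (Fin n₂ → F) → F) (hf₁ : Cfsg.Geo.IsSymplecticForm f₁) (hf₂ : Cfsg.Geo.IsSymplecticForm f₂) (hT : Cfsg.Geo.IsTensorFormStructure id (QuadraticMap.polar Q) f₁ f₂ e P) (hpure : (∀ (x₁ : Fin n₁ → F) (x₂ : Fin n₂ → F), Q (Matrix.mulVec (P : Matrix (Fin n) (Fin n) F) ((fun a : Fin n₁ × Fin n₂ => x₁ a.1 * x₂ a.2) ∘ e)) = 0)) : Cfsg.Geo.IsMaximalIn (Cfsg.Geo.omegaGL Q) (Cfsg.Geo.tensorProductSubgroup n₁ n₂ e P ⊓ Cfsg.Geo.omegaGL Q) := by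
  classical
  obtain ⟨Qf, rfl, hnd⟩ := OrthStab.exists_form hQ
  obtain ⟨c, hc, hT⟩ := hT
  have hb₁ := hf₁.bilinear
  have hb₂ := hf₂.bilinear
  let g₁ : TensorSp.SForm F n₁ :=
    { form := c • LinearMap.mk₂ F f₁ hb₁.add_left hb₁.smul_left hb₁.add_right hb₁.smul_right
      alt := fun v => by simp [hf₁.alternating]
      nd := fun v hv => by
        by_contra h0
        obtain ⟨x, hx⟩ := (hf₁.nondegenerate v h0).2
        exact hx (by simpa [hc] using hv x) }
  let g₂ : TensorSp.SForm F n₂ :=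
    { form := LinearMap.mk₂ F f₂ hb₂.add_left hb₂.smul_left hb₂.add_right hb₂.smul_right
      alt := hf₂.alternating
      nd := fun v hv => by
        by_contra h0
        obtain ⟨x, hx⟩ := (hf₂.nondegenerate v h0).2
        exact hx (hv x) }
  let L : (Fin n₁ × Fin n₂ → F) →ₗ[F] (Fin n → F) :=
    (P : Matrix (Fin n) (Fin n) F).mulVecLin ∘ₗ LinearMap.funLeft F F e
  have hL : ∀ z, L z = (P : Matrix (Fin n) (Fin n) F).mulVec (z ∘ e) := fun z => rfl
  have hemb : ∀ (d : Fin n₂ → F) (x : Fin n₁ → F), L (TensorMax.emb d x) = NotMax.ten e P x d :=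
    fun d x => rfl
  let S : TensorSp.TS F n₁ n₂ :=
    { Q := Qf.comp L
      g₁ := g₁
      g₂ := g₂
      pure := fun d x => hpure x d
      pol := fun d x d' y => by
        show QuadraticMap.polar (Qf ∘ L) _ _ = c * f₁ x y * f₂ d d'
        have h0 : QuadraticMap.polar (Qf ∘ L) (TensorMax.emb d x) (TensorMax.emb d' y) =
            QuadraticMap.polar Qf (L (TensorMax.emb d x)) (L (TensorMax.emb d' y)) := by
          simp [QuadraticMap.polar]
        rw [h0, hemb, hemb]
        exact NotMax.form_ten (σ := RingHom.id F) hT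
          (NotMax.eq_formOfGram _ hb₁.add_left hb₁.smul_left hb₁.add_right hb₁.smul_right)
          (NotMax.eq_formOfGram _ hb₂.add_left hb₂.smul_left hb₂.add_right hb₂.smul_right) x y d d'
      nd := fun u hu => by
        have h1 : L u = 0 := hnd _ fun x => by
          obtain ⟨z, rfl⟩ : ∃ z, L z = x :=
            ⟨((((P⁻¹ : GL (Fin n) F)) : Matrix (Fin n) (Fin n) F).mulVec x) ∘ e.symm, by
              rw [hL, Function.comp_assoc, Equiv.symm_comp_self, Function.comp_id,
                MaxSub.mulVec_inv_mulVec]⟩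
          have h2 := hu z
          simpa [QuadraticMap.polar] using h2
        have h2 : u ∘ e = 0 := MaxSub.mulVec_injective P (by
          show Matrix.mulVec _ _ = Matrix.mulVec _ _
          rw [← hL, h1, Matrix.mulVec_zero])
        funext p
        simpa using congrFun h2 (e.symm p) }
  have hn' : n = n₁ * n₂ := by simpa using Fintype.card_congr e
  have heven : ∀ {k : ℕ} (g : TensorSp.SForm F k), Even k := fun {k} g => by
    have h := ClMax99.AltSim.even_finrank g.form g.alt ⊤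
      (fun u _ hu => g.nd u fun x => hu x trivial)
    rwa [finrank_top, Module.finrank_fin_fun] at h
  obtain ⟨i, hi⟩ := heven g₁
  obtain ⟨j, hj⟩ := heven g₂
  have ha : 2 ≤ n₁ := by
    rcases Nat.eq_zero_or_pos n₁ with h | h
    · rw [h, zero_mul] at hn'; omega
    · omega
  have hb6 : 6 ≤ n₂ := by
    by_contra hb
    have : n₁ * n₂ ≤ 2 * 4 := Nat.mul_le_mul (by omega) (by omega)
    omega
  have hq : 3 ≤ n₁ ∨ 3 ≤ Nat.card F := by
    rw [Nat.card_eq_fintype_card]
    have := Fintype.one_lt_card (α := F)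
    omega
  obtain ⟨hlt, hmax⟩ := TensorSp.isMaximal S ha (by omega) hb6 hq
  have hI := isometryGroup_map e P ⇑Qf ⇑S.Q (fun z => rfl)
  have hΩ : (Geo.omegaGL ⇑S.Q).map (phi e P).toMonoidHom = Geo.omegaGL ⇑Qf := by
    rw [omegaGL_eq, omegaGL_eq, Subgroup.map_commutator, hI]
  have hinj : Function.Injective (phi e P).toMonoidHom := (phi e P).injective
  have hK : (Geo.kroneckerSubgroup n₁ n₂ F ⊓ Geo.omegaGL ⇑S.Q).map (phi e P).toMonoidHom =
      Geo.tensorProductSubgroup n₁ n₂ e P ⊓ Geo.omegaGL ⇑Qf := by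
    rw [Subgroup.map_inf _ _ _ hinj, hΩ, Geo.tensorProductSubgroup, Subgroup.map_map]
    rfl
  rw [← hK, ← hΩ]
  refine ⟨(Subgroup.map_lt_map_iff_of_injective hinj).mpr hlt, fun M h1 h2 => ?_⟩
  have hM : (M.comap (phi e P).toMonoidHom).map (phi e P).toMonoidHom = M :=
    Subgroup.map_comap_eq_self_of_surjective (phi e P).surjective M
  rcases hmax (M.comap (phi e P).toMonoidHom) (Subgroup.map_le_iff_le_comap.mp h1)
    (by rw [← Subgroup.map_le_map_iff_of_injective hinj, hM]; exact h2) with h | h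
  · left; rw [← hM, h]
  · right; rw [← hM, h]

end Cfsg.Agent.S5704
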