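import Cfsg.Statements.S2638
-- import your own Cfsg.Agent.* helpers here

set_option autoImplicit false
open Cfsg

namespace Cfsg.Agent.S2638

open Polynomial

/-- The minimal polynomial of an element of primitive prime order is irreducible of degree `n`. -/
theorem exists_field_minpoly {F : Type*} [Field F] [Fintype F] {p : ℕ} [Fact p.Prime] [CharP F p]
    {n r : ℕ} (hn : 1 ≤ n) (hr : r.Prime) (hrp : r ≠ p)
    (hi : orderOf (Fintype.card F : ZMod r) = n) (x : GL (Fin n) F) (hx : orderOf x = r) :
    ∃ f : F[X], f = minpoly F (x : Matrix (Fin n) (Fin n) F) ∧ Irreducible f ∧ f.natDegree = n := by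
  set A : Matrix (Fin n) (Fin n) F := (x : Matrix (Fin n) (Fin n) F) with hA
  set f := minpoly F A with hf
  have hint : IsIntegral F A := Algebra.IsIntegral.isIntegral A
  have hf0 : f ≠ 0 := minpoly.ne_zero hint
  have hdeg : f.natDegree ≤ n := by
    have h := Matrix.minpoly_dvd_charpoly A
    exact (natDegree_le_of_dvd h (Matrix.charpoly_monic A).ne_zero).trans
      (by rw [Matrix.charpoly_natDegree_eq_dim, Fintype.card_fin])
  have hAr : A ^ r = 1 := by rw [hA, ← Units.val_pow_eq_pow_val, ← hx, pow_orderOf_eq_one, Units.val_one]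
  have hdvd : f ∣ X ^ r - 1 := minpoly.dvd F A (by simp [hAr])
  have hr0 : (r : F) ≠ 0 := fun h => hrp ((Nat.prime_dvd_prime_iff_eq Fact.out hr).1
    ((CharP.cast_eq_zero_iff F p r).1 h)).symm
  have hsep : (X ^ r - 1 : F[X]).Separable := X_pow_sub_one_separable_iff.2 hr0
  have hfsq : Squarefree f := (hsep.of_dvd hdvd).squarefree
  have hA1 : A ≠ 1 := fun h => hr.one_lt.ne (hx ▸ (orderOf_eq_one_iff.2 (Units.ext h)).symm)
  -- an irreducible factor different from X - 1
  obtain ⟨g, hg, hgdvd, hgne⟩ : ∃ g : F[X], Irreducible g ∧ g ∣ f ∧ ¬ g ∣ X - 1 := by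
    have h1 : ¬ f ∣ X - 1 := by
      rintro ⟨c, hc⟩
      have := congr_arg (aeval A) hc
      rw [map_mul, minpoly.aeval, zero_mul] at this
      simp [sub_eq_zero, hA1] at this
    haveI : Nonempty (Fin n) := ⟨⟨0, hn⟩⟩
    have hu : ¬ IsUnit f := minpoly.not_isUnit F A
    by_cases hX : (X - 1 : F[X]) ∣ f
    · obtain ⟨h, hh⟩ := hX
      have hhu : ¬ IsUnit h := fun hu' => h1 (by
        rw [hh]; exact (IsUnit.mul_right_dvd hu').2 dvd_rfl)
      have hh0 : h ≠ 0 := fun h0 => hf0 (by rw [hh, h0, mul_zero])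
      obtain ⟨g, hg, hgh⟩ := WfDvdMonoid.exists_irreducible_factor hhu hh0
      refine ⟨g, hg, hgh.trans (dvd_of_mul_left_eq _ hh.symm), fun hgX => ?_⟩
      have hXg : (X - 1 : F[X]) ∣ g := by
        have h2 : Associated g (X - 1 : F[X]) := hg.associated_of_dvd
          (by simpa using Polynomial.irreducible_X_sub_C (1 : F)) hgX
        exact h2.symm.dvd
      have hsq2 : (X - 1 : F[X]) * (X - 1) ∣ f := hh ▸ mul_dvd_mul_left _ (hXg.trans hgh)
      exact (by simpa using Polynomial.irreducible_X_sub_C (1 : F) : Irreducible (X - 1 : F[X])).not_isUnit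
        (hfsq _ hsq2)
    · obtain ⟨g, hg, hgf⟩ := WfDvdMonoid.exists_irreducible_factor hu hf0
      exact ⟨g, hg, hgf, fun hgX => hX ((hg.associated_of_dvd
        (by simpa using Polynomial.irreducible_X_sub_C (1 : F)) hgX).symm.dvd.trans hgf)⟩
  haveI : Fact (Irreducible g) := ⟨hg⟩
  let K := AdjoinRoot g
  let pb := AdjoinRoot.powerBasis hg.ne_zero
  haveI : Module.Finite F K := pb.finite
  haveI : Finite K := Module.finite_of_finite F
  letI : Fintype K := Fintype.ofFinite K
  have hKcard : Fintype.card K = Fintype.card F ^ g.natDegree := by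
    rw [Module.card_eq_pow_finrank (K := F) (V := K), pb.finrank, AdjoinRoot.powerBasis_dim]
  have hroot : (AdjoinRoot.root g : K) ^ r = 1 := by
    have h := AdjoinRoot.mk_eq_zero.2 (hgdvd.trans hdvd)
    simpa [sub_eq_zero] using h
  have hroot1 : (AdjoinRoot.root g : K) ≠ 1 := fun h => hgne (AdjoinRoot.mk_eq_zero.1 (by simp [h]))
  haveI : Fact r.Prime := ⟨hr⟩
  have hord : orderOf (AdjoinRoot.root g : K) = r := orderOf_eq_prime hroot hroot1
  have hne : (AdjoinRoot.root g : K) ≠ 0 := fun h => by
    simp [h, zero_pow hr.ne_zero] at hroot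
  have hdvdq : r ∣ Fintype.card F ^ g.natDegree - 1 := by
    rw [← hKcard, ← hord]
    exact orderOf_dvd_of_pow_eq_one (FiniteField.pow_card_sub_one_eq_one _ hne)
  have hnd : n ∣ g.natDegree := by
    rw [← hi]
    apply orderOf_dvd_of_pow_eq_one
    have h := (ZMod.natCast_eq_zero_iff _ _).2 hdvdq
    rw [Nat.cast_sub (Nat.one_le_pow _ _ Fintype.card_pos), sub_eq_zero] at h
    simpa using h
  have hgpos : 0 < g.natDegree := Irreducible.natDegree_pos hg
  have hgf : g.natDegree ≤ f.natDegree := natDegree_le_of_dvd hgdvd hf0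
  have hgn : g.natDegree = n := le_antisymm (hgf.trans hdeg) (Nat.le_of_dvd hgpos hnd)
  exact ⟨f, rfl, ((associated_of_dvd_of_natDegree_le hgdvd hf0 (by omega)).irreducible hg), by omega⟩

/-- The centraliser of an element with irreducible minimal polynomial of degree `n`. -/
theorem centralizer_of_irreducible {F : Type*} [Field F] [Fintype F] {n : ℕ} (x : GL (Fin n) F)
    {f : F[X]} (hirr : Irreducible f) (hdeg : f.natDegree = n)
    (hf : f = minpoly F (x : Matrix (Fin n) (Fin n) F)) :
    IsCyclic ↥(Subgroup.centralizer ({x} : Set (GL (Fin n) F))) ∧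
      Nat.card ↥(Subgroup.centralizer ({x} : Set (GL (Fin n) F))) = Fintype.card F ^ n - 1 := by
  classical
  set A : Matrix (Fin n) (Fin n) F := (x : Matrix (Fin n) (Fin n) F) with hA
  haveI : Fact (Irreducible f) := ⟨hirr⟩
  let K := AdjoinRoot f
  let Φ : K →ₐ[F] Matrix (Fin n) (Fin n) F :=
    Ideal.Quotient.liftₐ (Ideal.span {f}) (aeval A) (fun a ha => by
      rw [Ideal.mem_span_singleton] at ha
      obtain ⟨c, rfl⟩ := ha
      rw [map_mul, hf, minpoly.aeval, zero_mul])
  have hΦ : ∀ P : F[X], Φ (AdjoinRoot.mk f P) = aeval A P := fun P => rfl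
  haveI : Module.Finite F K := (AdjoinRoot.powerBasis hirr.ne_zero).finite
  haveI : Finite K := Module.finite_of_finite F
  let ψ : Kˣ →* GL (Fin n) F := Units.map Φ.toRingHom.toMonoidHom
  have hn : 0 < n := hdeg ▸ hirr.natDegree_pos
  haveI : Nonempty (Fin n) := ⟨⟨0, hn⟩⟩
  have hΦinj : Function.Injective Φ := Φ.toRingHom.injective
  have hψ : Function.Injective ψ := fun a b h => Units.ext (hΦinj (congr_arg Units.val h))
  have hdim : Module.finrank F K = Module.finrank F (Fin n → F) := by
    rw [(AdjoinRoot.powerBasis hirr.ne_zero).finrank, AdjoinRoot.powerBasis_dim, hdeg]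
    simp
  let v₀ : Fin n → F := Pi.single ⟨0, hn⟩ 1
  let ev : K →ₗ[F] (Fin n → F) :=
    { toFun := fun a => (Φ a).mulVec v₀
      map_add' := fun a b => by rw [map_add, Matrix.add_mulVec]
      map_smul' := fun c a => by rw [map_smul, Matrix.smul_mulVec]; rfl }
  have hevinj : Function.Injective ev := by
    rw [injective_iff_map_eq_zero]
    intro a ha
    by_contra ha0
    have h1 : (Φ a⁻¹ * Φ a).mulVec v₀ = v₀ := by
      rw [← map_mul, inv_mul_cancel₀ ha0, map_one, Matrix.one_mulVec]
    rw [← Matrix.mulVec_mulVec] at h1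
    have ha' : (Φ a).mulVec v₀ = 0 := ha
    rw [ha', Matrix.mulVec_zero] at h1
    simpa [v₀] using congr_fun h1.symm ⟨0, hn⟩
  haveI : FiniteDimensional F K := (AdjoinRoot.powerBasis hirr.ne_zero).finite
  have hevsurj : Function.Surjective ev :=
    (LinearMap.injective_iff_surjective_of_finrank_eq_finrank hdim).1 hevinj
  have hrange : ψ.range = Subgroup.centralizer ({x} : Set (GL (Fin n) F)) := by
    ext y
    rw [Subgroup.mem_centralizer_singleton_iff]
    constructor
    · rintro ⟨a, rfl⟩
      refine Units.ext ?_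
      have hx' : A = Φ (AdjoinRoot.root f) := by rw [← AdjoinRoot.mk_X, hΦ, aeval_X]
      simp only [Units.val_mul, ψ, Units.coe_map]
      show Φ (a : K) * A = A * Φ (a : K)
      rw [hx', ← map_mul, ← map_mul, mul_comm]
    · intro hy
      have hy' : (y : Matrix (Fin n) (Fin n) F) * A = A * (y : Matrix (Fin n) (Fin n) F) :=
        congr_arg Units.val hy
      obtain ⟨a, ha⟩ := hevsurj ((y : Matrix (Fin n) (Fin n) F).mulVec v₀)
      have hcomm : ∀ b : K, Φ b * (y : Matrix (Fin n) (Fin n) F) = (y : Matrix (Fin n) (Fin n) F) * Φ b := by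
        intro b
        obtain ⟨P, rfl⟩ := AdjoinRoot.mk_surjective b
        rw [hΦ]
        induction P using Polynomial.induction_on' with
        | add P Q hP hQ => rw [map_add, add_mul, mul_add, hP, hQ]
        | monomial k c =>
          have hk : A ^ k * (y : Matrix (Fin n) (Fin n) F) = (y : Matrix (Fin n) (Fin n) F) * A ^ k :=
            (Commute.pow_left hy'.symm k).eq
          simp only [aeval_monomial, ← Algebra.smul_def, Matrix.smul_mul, Matrix.mul_smul, hk]
      have hyΦ : (y : Matrix (Fin n) (Fin n) F) = Φ a := by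
        refine Matrix.ext_of_mulVec_single fun i => ?_
        obtain ⟨b, hb⟩ := hevsurj (Pi.single i 1)
        have hb' : (Φ b).mulVec v₀ = Pi.single i 1 := hb
        have ha' : (Φ a).mulVec v₀ = (y : Matrix (Fin n) (Fin n) F).mulVec v₀ := ha
        rw [← hb', Matrix.mulVec_mulVec, ← hcomm, ← Matrix.mulVec_mulVec, ← ha', Matrix.mulVec_mulVec,
          Matrix.mulVec_mulVec, ← map_mul, ← map_mul, mul_comm]
      have ha0 : a ≠ 0 := fun h => y.isUnit.ne_zero (by rw [hyΦ, h, map_zero])
      exact ⟨Units.mk0 a ha0, Units.ext hyΦ.symm⟩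
  rw [← hrange]
  refine ⟨isCyclic_of_surjective _ (MonoidHom.ofInjective hψ).surjective, ?_⟩
  rw [← Nat.card_congr (MonoidHom.ofInjective hψ).toEquiv, Nat.card_units,
    Module.natCard_eq_pow_finrank (K := F), hdim, Nat.card_eq_fintype_card]
  simp


/-- If an element x of GL_n(q), n ≥ 1, has prime order r and the multiplicative order of q modulo r is n (r is a primitive prime divisor of q^n − 1, so x acts irreducibly), then the centraliser of x in GL_n(q) is cyclic of order q^n − 1 (the multiplicative group of the field with q^n elements, a Singer cycle). -/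
theorem result {F : Type*} [Field F] [Fintype F] {p q : ℕ} [Fact p.Prime] [CharP F p] (hF : Fintype.card F = q) {n r : ℕ} (hn : 1 ≤ n) (hr : r.Prime) (hrp : r ≠ p) (hi : orderOf (q : ZMod r) = n) (x : GL (Fin n) F) (hx : orderOf x = r) : IsCyclic ↥(Subgroup.centralizer ({x} : Set (GL (Fin n) F))) ∧ Nat.card ↥(Subgroup.centralizer ({x} : Set (GL (Fin n) F))) = q ^ n - 1 := by
  classical
  subst hF
  obtain ⟨f, hf1, hf2, hf3⟩ := exists_field_minpoly hn hr hrp hi x hx
  exact centralizer_of_irreducible x hf2 hf3 hf1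

end Cfsg.Agent.S2638
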