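import Cfsg.Statements.S4504
import Cfsg.Agent.Blocks88.HalfDegree.Main

set_option autoImplicit false
open Cfsg

namespace Cfsg.Agent.S4504

/-- Let G be a finite group whose order is divisible by the prime p exactly once and which has no normal subgroup of order p. If G has a faithful character of degree exactly (p − 1)/2, then G modulo its centre is isomorphic to PSL(2, p). -/
theorem result {G : Type*} [Group G] [Finite G] (p : ℕ) (hp : p.Prime) (hdiv : p ∣ Nat.card G) (hsq : ¬ p ^ 2 ∣ Nat.card G) (hnn : ∀ H : Subgroup G, H.Normal → Nat.card H ≠ p) (χ : G → ℂ) (hχ : Cfsg.IsCharacter G χ) (hfaith : ∀ g : G, χ g = χ 1 → g = 1) (hdeg : 2 * Cfsg.charDegree χ + 1 = p) : Nonempty ((G ⧸ Subgroup.center G) ≃* Matrix.ProjectiveSpecialLinearGroup (Fin 2) (ZMod p)) := by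
  classical
  haveI := Fact.mk hp
  haveI := Fintype.ofFinite G
  obtain ⟨z, hz⟩ := exists_prime_orderOf_dvd_card' p hdiv
  have hP : ¬ (Subgroup.zpowers z).Normal := fun h =>
    hnn _ h (by rw [Nat.card_zpowers, hz])
  have hirr := Blocks88.HalfDegree.isIrrCharacter_of_degree hsq hz hP hχ hfaith hdeg
  obtain ⟨s, hs⟩ :=
    BlocksCore.CyclicCount.exists_setup hz (Blocks88.HalfDegree.not_dvd_index_zpowers hsq hz)
  exact Blocks88.HalfDegree.Data.nonempty_equiv
    ⟨s, hsq, hs ▸ hP, ⟨χ, hirr⟩, hfaith, hdeg⟩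

end Cfsg.Agent.S4504
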