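import Cfsg.Statements.S3215
import Cfsg.Agent.Lib.Fitting.Minimal
import Cfsg.Agent.Lib.Components.GenFitting
import Cfsg.Agent.Lib.Frobenius.Complement
import Cfsg.Agent.Lib.PGroup.NormalAbelian
import Cfsg.Agent.Lib.Thompson.Cores
-- import your own Cfsg.Agent.* helpers here

set_option autoImplicit false
open Cfsg

namespace Cfsg.Agent.S3215

open Subgroup

variable {H : Type*} [Group H] [Finite H]

/-- A solvable group with trivial odd core has self-centralizing `O₂`. -/
theorem centralizer_pCore_le [Group.IsSolvable H] (hO : Cfsg.oddCore H = ⊥) :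
    centralizer (Cfsg.pCore 2 H : Set H) ≤ Cfsg.pCore 2 H := by
  haveI : Fact (Nat.Prime 2) := ⟨Nat.prime_two⟩
  have h := Cfsg.Agent.Fitting.centralizer_fitting_le (G := H)
  rwa [Cfsg.Agent.Components.fitting_eq_pCore_of_pPrimeCore_eq_bot (p := 2) hO] at h

/-- Elements of odd order of a group with normal 2-complement `N` lie in `N`. -/
theorem mem_complement {C : Type*} [Group C] [Finite C] {P : Sylow 2 C} {N : Subgroup C}
    (hN : N.Normal) (hc : N.IsComplement' (P : Subgroup C)) {x : C} (hx : Odd (orderOf x)) :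
    x ∈ N := by
  haveI : Fact (Nat.Prime 2) := ⟨Nat.prime_two⟩
  obtain ⟨k, hk⟩ := P.isPGroup'.exists_card_eq
  have hi : N.index = 2 ^ k := hc.symm.index_eq_card.trans hk
  rw [← QuotientGroup.eq_one_iff (N := N), ← orderOf_eq_one_iff]
  refine Nat.eq_one_of_dvd_coprimes (a := orderOf x) (b := 2 ^ k)
    (Nat.Coprime.pow_right _ hx.coprime_two_right) (orderOf_map_dvd (QuotientGroup.mk' N) x) ?_
  rw [← hi, Subgroup.index_eq_card]
  exact orderOf_dvd_natCard _

/-- An element of odd order centralising an involution centralises the part of any normal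
2-subgroup centralised by it. -/
theorem commute_of_invol {Y : Subgroup H} [Y.Normal] (hY : IsPGroup 2 Y) {t x y : H}
    (hI : Cfsg.HasNormalPComplement 2 ↥(centralizer ({t} : Set H)))
    (hxt : Commute x t) (hx : Odd (orderOf x)) (hy : y ∈ Y) (hyt : Commute y t) : Commute x y := by
  haveI : Fact (Nat.Prime 2) := ⟨Nat.prime_two⟩
  set C := centralizer ({t} : Set H) with hCdef
  obtain ⟨P, N, hN, hc⟩ := hI
  haveI := hN
  have hxC : x ∈ C := mem_centralizer_singleton_iff.mpr hxt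
  have hyC : y ∈ C := mem_centralizer_singleton_iff.mpr hyt
  have hxN : (⟨x, hxC⟩ : C) ∈ N := mem_complement hN hc (by rw [Subgroup.orderOf_mk x hxC]; exact hx)
  have h2 : IsPGroup 2 (Y.subgroupOf C) := hY.comap_of_injective C.subtype C.subtype_injective
  have hYN : Disjoint N (Y.subgroupOf C) := by
    rw [disjoint_iff, eq_bot_iff]
    intro z hz
    obtain ⟨k, hk⟩ := (h2.to_le inf_le_right : IsPGroup 2 ↥(N ⊓ Y.subgroupOf C)).exists_card_eq
    have hodd : ¬ 2 ∣ Nat.card N := hc.index_eq_card ▸ P.not_dvd_index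
    have hd1 : Nat.card ↥(N ⊓ Y.subgroupOf C) ∣ Nat.card N := card_dvd_of_le inf_le_left
    rw [hk] at hd1
    rcases k with _ | k
    · rw [pow_zero, Subgroup.card_eq_one] at hk
      rw [hk] at hz; exact hz
    · exact absurd (dvd_trans (dvd_pow_self 2 (Nat.succ_ne_zero k)) hd1) hodd
  have h := commute_of_normal_of_disjoint N (Y.subgroupOf C) hN inferInstance hYN
    ⟨x, hxC⟩ ⟨y, hyC⟩ hxN hy
  exact congrArg Subtype.val h

theorem fpf_pCore [Group.IsSolvable H] (hO : Cfsg.oddCore H = ⊥)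
    (hI : ∀ t : H, orderOf t = 2 → Cfsg.HasNormalPComplement 2 ↥(centralizer ({t} : Set H)))
    {x y : H} (hx : Odd (orderOf x)) (hy : y ∈ Cfsg.pCore 2 H) (hy1 : y ≠ 1)
    (hxy : Commute x y) : x = 1 := by
  haveI : Fact (Nat.Prime 2) := ⟨Nat.prime_two⟩
  set Y := Cfsg.pCore 2 H
  haveI : Y.Normal := Cfsg.Agent.Fitting.pCore_normal 2
  have hY : IsPGroup 2 Y := Cfsg.Agent.Fitting.pCore_isPGroup 2
  -- an involution in `⟨y⟩`
  obtain ⟨t, htY, ht, hxt⟩ : ∃ t ∈ Y, orderOf t = 2 ∧ Commute x t := by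
    obtain ⟨k, hk⟩ := hY ⟨y, hy⟩
    have hd : orderOf y ∣ 2 ^ k := orderOf_dvd_of_pow_eq_one (congrArg Subtype.val hk)
    obtain ⟨j, -, hj⟩ := (Nat.dvd_prime_pow Nat.prime_two).mp hd
    rcases j with _ | j
    · exact absurd (orderOf_eq_one_iff.mp (by simpa using hj)) hy1
    refine ⟨y ^ 2 ^ j, pow_mem hy _, ?_, hxy.pow_right _⟩
    rw [orderOf_pow' _ (by positivity), hj, pow_succ,
      Nat.gcd_eq_right (dvd_mul_right _ _), Nat.mul_div_cancel_left _ (by positivity)]
  -- a central involution of `Y`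
  obtain ⟨t₀, ht₀Y, ht₀, hcen⟩ : ∃ t₀ ∈ Y, orderOf t₀ = 2 ∧ ∀ y' ∈ Y, Commute y' t₀ := by
    haveI : Nontrivial Y := ⟨⟨t, htY⟩, 1, fun e => by
      have e' : t = 1 := congrArg Subtype.val e
      rw [e', orderOf_one] at ht; omega⟩
    obtain ⟨z, hz⟩ := exists_prime_orderOf_dvd_card' (G := center Y) 2 (by
      obtain ⟨n, hn⟩ := (hY.to_subgroup (center Y)).exists_card_eq
      rw [hn]
      refine dvd_pow_self 2 fun h0 => ?_
      rw [h0, pow_zero, Subgroup.card_eq_one] at hn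
      exact hY.bot_lt_center.ne' hn)
    refine ⟨((z : Y) : H), z.1.2, by rw [Subgroup.orderOf_coe, Subgroup.orderOf_coe, hz],
      fun y' hy' => congrArg Subtype.val (mem_center_iff.mp z.2 ⟨y', hy'⟩)⟩
  have hxt₀ : Commute x t₀ := commute_of_invol hY (hI t ht) hxt hx ht₀Y (hcen t htY).symm
  have hxY : ∀ y' ∈ Y, Commute x y' := fun y' hy' =>
    commute_of_invol hY (hI t₀ ht₀) hxt₀ hx hy' (hcen y' hy')
  have hm : x ∈ Y := centralizer_pCore_le hO
    (mem_centralizer_iff.mpr fun y' hy' => (hxY y' hy').eq.symm)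
  obtain ⟨k, hk⟩ := hY ⟨x, hm⟩
  exact orderOf_eq_one_iff.mp (Nat.eq_one_of_dvd_coprimes (Nat.Coprime.pow_right k hx.coprime_two_right)
    dvd_rfl (orderOf_dvd_of_pow_eq_one (congrArg Subtype.val hk)))

/-- No involution modulo `O₂` centralises an element of odd order modulo `O₂`. -/
theorem no_commuting [Group.IsSolvable H] (hO : Cfsg.oddCore H = ⊥)
    (hI : ∀ t : H, orderOf t = 2 → Cfsg.HasNormalPComplement 2 ↥(centralizer ({t} : Set H)))
    {g x : H} (hx : Odd (orderOf x)) (hx1 : x ≠ 1) (hg : g ∉ Cfsg.pCore 2 H)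
    (hg2 : g * g ∈ Cfsg.pCore 2 H) (hgx : x⁻¹ * (g * x * g⁻¹) ∈ Cfsg.pCore 2 H) : False := by
  haveI : Fact (Nat.Prime 2) := ⟨Nat.prime_two⟩
  set Y := Cfsg.pCore 2 H
  haveI : Y.Normal := Cfsg.Agent.Fitting.pCore_normal 2
  have hY : IsPGroup 2 Y := Cfsg.Agent.Fitting.pCore_isPGroup 2
  -- `g x g⁻¹` is conjugate to `x` under `Y`
  let f : Y → Y := fun y => ⟨x⁻¹ * ((y : H) * x * (y : H)⁻¹),
    by
      have h1 : x⁻¹ * ((y : H) * x * (y : H)⁻¹) = (x⁻¹ * (y : H) * x) * (y : H)⁻¹ := by group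
      rw [h1]
      refine mul_mem ?_ (inv_mem y.2)
      simpa using (inferInstance : Y.Normal).conj_mem _ y.2 x⁻¹⟩
  have hf : Function.Injective f := by
    intro a b hab
    have h1 : (a : H) * x * (a : H)⁻¹ = (b : H) * x * (b : H)⁻¹ :=
      mul_left_cancel (congrArg Subtype.val hab)
    have h2 : Commute x ((b : H)⁻¹ * a) := by
      show x * _ = _ * x
      calc x * ((b : H)⁻¹ * a) = (b : H)⁻¹ * ((b : H) * x * (b : H)⁻¹) * a := by group
        _ = _ := by rw [← h1]; group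
    by_contra hne
    refine hx1 (fpf_pCore hO hI hx (mul_mem (inv_mem b.2) a.2) (fun e => hne ?_) h2)
    exact (Subtype.ext (inv_mul_eq_one.mp e)).symm
  obtain ⟨⟨y, hy⟩, hfy⟩ := (Finite.injective_iff_surjective.mp hf) ⟨_, hgx⟩
  have hyx : y * x * y⁻¹ = g * x * g⁻¹ := mul_left_cancel (congrArg Subtype.val hfy)
  set t := y⁻¹ * g with ht
  have htc : Commute t x := by
    show y⁻¹ * g * x = x * (y⁻¹ * g)
    calc y⁻¹ * g * x = y⁻¹ * (g * x * g⁻¹) * g := by group
      _ = _ := by rw [← hyx]; group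
  have htY : t ∉ Y := fun h => hg (by
    have := mul_mem hy h
    rwa [ht, mul_inv_cancel_left] at this)
  have ht2 : t * t = 1 := by
    by_contra hne
    refine hx1 (fpf_pCore hO hI hx ?_ hne (htc.symm.mul_right htc.symm))
    rw [ht, show y⁻¹ * g * (y⁻¹ * g) = y⁻¹ * (g * y⁻¹ * g⁻¹) * (g * g) by group]
    exact mul_mem (mul_mem (inv_mem hy) ((inferInstance : Y.Normal).conj_mem _ (inv_mem hy) g)) hg2
  have ht1 : orderOf t = 2 := orderOf_eq_prime (by rw [sq, ht2]) fun e => htY (e ▸ one_mem Y)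
  -- `t` centralises a non-trivial element of `Y`
  obtain ⟨w, hw, hw1, hwt⟩ : ∃ w ∈ Y, w ≠ 1 ∧ Commute w t := by
    by_contra! hno
    have hYbot : Y = ⊥ ∨ ∃ w ∈ Y, w ≠ 1 := by
      by_cases h : Y = ⊥
      · exact Or.inl h
      · exact Or.inr ((Subgroup.ne_bot_iff_exists_ne_one.mp h).elim fun w hw =>
          ⟨w, w.2, fun e => hw (Subtype.ext e)⟩)
    rcases hYbot with hb | ⟨w₀, hw₀, hw₀1⟩
    · have h1 := centralizer_pCore_le hO (x := x) (mem_centralizer_iff.mpr fun y' hy' => by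
        rw [SetLike.mem_coe] at hy'
        have : y' = 1 := Subgroup.mem_bot.mp (hb ▸ hy')
        rw [this, one_mul, mul_one])
      exact hx1 (Subgroup.mem_bot.mp (hb ▸ h1))
    · -- count fixed points of conjugation by `t`
      letI : MulAction (zpowers t) Y := MulAction.compHom Y
        ((MulAut.conjNormal (H := Y)).comp (zpowers t).subtype)
      have hp : IsPGroup 2 (zpowers t) := IsPGroup.of_card (n := 1) (by rw [Nat.card_zpowers, ht1, pow_one])
      haveI : Nontrivial Y := ⟨⟨w₀, hw₀⟩, 1, fun e => hw₀1 (congrArg Subtype.val e)⟩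
      obtain ⟨n, hn⟩ := hY.exists_card_eq
      have hdiv : 2 ∣ Nat.card Y := by
        rw [hn]; refine dvd_pow_self 2 fun h0 => ?_
        have := Finite.one_lt_card (α := Y)
        rw [hn, h0] at this; simp at this
      obtain ⟨w, hw, hw1⟩ := hp.exists_fixed_point_of_prime_dvd_card_of_fixed_point Y hdiv
        (a := (1 : Y)) (fun g => smul_one_of_conj g)
      have h2 := congrArg Subtype.val (hw ⟨t, mem_zpowers t⟩)
      have h3 : t * (w : H) * t⁻¹ = w := h2
      exact hno w w.2 (fun e => hw1 (Subtype.ext e).symm) (mul_inv_eq_iff_eq_mul.mp h3).symm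
  exact hx1 (fpf_pCore hO hI hx hw hw1 (commute_of_invol hY (hI t ht1) htc.symm hx hw hwt))
where
  smul_one_of_conj {t : H} {Y : Subgroup H} [Y.Normal] (g : zpowers t) :
      ((MulAut.conjNormal (H := Y)).comp (zpowers t).subtype) g (1 : Y) = 1 := map_one _


/-- Let H be a finite solvable group with no nontrivial normal subgroup of odd order in which the centralizer of every involution has a normal 2-complement. Let X be a Hall 2'-subgroup of H (odd order, index a power of 2) and Y = O₂(H). Then no non-identity element of X commutes with a non-identity element of Y (so for X ≠ 1 the group XY is a Frobenius group with kernel Y), every Sylow subgroup of X is cyclic, XY is normal in H, and H/XY is a cyclic 2-group. -/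
theorem result {H : Type*} [Group H] [Finite H] (hsol : Group.IsSolvable H)
    (hO : Cfsg.oddCore H = ⊥)
    (hI : ∀ t : H, orderOf t = 2 → Cfsg.HasNormalPComplement 2 ↥(Subgroup.centralizer ({t} : Set H)))
    (X : Subgroup H) (hXodd : Odd (Nat.card X)) (hXidx : ∃ k : ℕ, X.index = 2 ^ k) :
    (∀ x ∈ X, x ≠ 1 → ∀ y ∈ Cfsg.pCore 2 H, y ≠ 1 → x * y ≠ y * x) ∧
      (∀ (p : ℕ) [Fact p.Prime] (P : Sylow p ↥X), IsCyclic ↥(P : Subgroup ↥X)) ∧
      (X ⊔ Cfsg.pCore 2 H).Normal ∧
      ∀ hN : (X ⊔ Cfsg.pCore 2 H).Normal, IsCyclic (H ⧸ (X ⊔ Cfsg.pCore 2 H)) ∧ IsPGroup 2 (H ⧸ (X ⊔ Cfsg.pCore 2 H)) := by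
  haveI : Fact (Nat.Prime 2) := ⟨Nat.prime_two⟩
  haveI := hsol
  obtain ⟨k, hk⟩ := hXidx
  set Y := Cfsg.pCore 2 H with hYdef
  haveI hYn : Y.Normal := Cfsg.Agent.Fitting.pCore_normal 2
  have hY : IsPGroup 2 Y := Cfsg.Agent.Fitting.pCore_isPGroup 2
  have hodd : ∀ x ∈ X, Odd (orderOf x) := fun x hx =>
    hXodd.of_dvd_nat (by rw [← Subgroup.orderOf_mk x hx]; exact orderOf_dvd_natCard _)
  have h1 : ∀ x ∈ X, x ≠ 1 → ∀ y ∈ Y, y ≠ 1 → x * y ≠ y * x := fun x hx hx1 y hy hy1 h =>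
    hx1 (fpf_pCore hO hI (hodd x hx) hy hy1 h)
  set π := QuotientGroup.mk' Y
  have hπ : Function.Surjective π := QuotientGroup.mk'_surjective Y
  set X' := X.map π with hX'
  have hX'odd : Odd (Nat.card X') := hXodd.of_dvd_nat (Subgroup.card_map_dvd X π)
  have hX'idx : ∃ l, X'.index = 2 ^ l := by
    obtain ⟨l, -, hl⟩ := (Nat.dvd_prime_pow Nat.prime_two).mp
      (hk ▸ Subgroup.index_map_dvd X hπ)
    exact ⟨l, hl⟩
  have hcomap : X'.comap π = X ⊔ Y := by
    rw [hX', Subgroup.comap_map_eq, QuotientGroup.ker_mk']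
  -- the Fitting subgroup of `H ⧸ Y`
  set F := Cfsg.fittingSubgroup (H ⧸ Y) with hF
  haveI : F.Normal := Cfsg.Agent.Fitting.fitting_normal
  haveI : Group.IsNilpotent F := Cfsg.Agent.Fitting.fitting_isNilpotent
  have hO2 : Cfsg.pCore 2 (H ⧸ Y) = ⊥ := Cfsg.Agent.Thompson.pCore_quotient_pCore
  have hFodd : ¬ 2 ∣ Nat.card F := by
    intro hd
    obtain ⟨P⟩ : Nonempty (Sylow 2 F) := inferInstance
    have hall : ∀ (p : ℕ) (_hp : Fact p.Prime) (Q : Sylow p F), (Q : Subgroup F).Normal :=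
      ((Group.isNilpotent_of_finite_tfae (G := F)).out 0 3).mp ‹Group.IsNilpotent F›
    haveI hPn : (P : Subgroup F).Normal := hall 2 inferInstance P
    haveI : (P : Subgroup F).Characteristic := P.characteristic_of_normal hPn
    have hle : (P : Subgroup F).map F.subtype ≤ ⊥ :=
      hO2 ▸ Cfsg.Agent.Thompson.le_pCore inferInstance (P.isPGroup'.map _)
    rw [le_bot_iff, Subgroup.map_eq_bot_iff_of_injective _ F.subtype_injective] at hle
    exact (hle ▸ P.not_dvd_index) (by rw [Subgroup.index_bot]; exact hd)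
  have hFX : F ≤ X' := by
    have hd : X'.relIndex (F ⊔ X') ∣ Nat.card F := by
      have h1 := Cfsg.Agent.Thompson.card_sup_dvd_mul X' F
      rw [sup_comm X' F] at h1
      have h2 := Subgroup.relIndex_mul_relIndex ⊥ X' (F ⊔ X') bot_le le_sup_right
      rw [Subgroup.relIndex_bot_left, Subgroup.relIndex_bot_left] at h2
      rw [← h2] at h1
      exact Nat.dvd_of_mul_dvd_mul_left Nat.card_pos h1
    obtain ⟨l, hl⟩ := hX'idx
    have hd2 : X'.relIndex (F ⊔ X') ∣ 2 ^ l := hl ▸ Subgroup.relIndex_dvd_index_of_le le_sup_right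
    have h := Nat.eq_one_of_dvd_coprimes
      (Nat.Coprime.pow_right l ((Nat.prime_two.coprime_iff_not_dvd.mpr hFodd).symm)) hd hd2
    exact le_sup_left.trans (Subgroup.relIndex_eq_one.mp h)
  have hfpf : Cfsg.Agent.Frobenius.IsFPF X Y :=
    Cfsg.Agent.Frobenius.isFPF_of_normal fun x hx hx1 => by
      rw [Subgroup.eq_bot_iff_forall]
      rintro y ⟨hy, hc⟩
      by_contra hy1
      exact h1 x hx hx1 y hy hy1 (mem_centralizer_singleton_iff.mp hc).symm
  have hcyc : ∀ (p : ℕ) [Fact p.Prime] (P : Sylow p ↥X), IsCyclic ↥(P : Subgroup ↥X) := by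
    intro p hp P
    by_cases hYb : Y = ⊥
    · haveI : Subsingleton X := ⟨fun a b => by
        have key : ∀ c : X, c = 1 := fun c => by
          have h := centralizer_pCore_le hO (x := (c : H)) (mem_centralizer_iff.mpr fun y hy => by
            rw [SetLike.mem_coe, ← hYdef, hYb, Subgroup.mem_bot] at hy
            rw [hy, one_mul, mul_one])
          rw [← hYdef, hYb, Subgroup.mem_bot] at h
          exact Subtype.ext h
        rw [key a, key b]⟩
      infer_instance
    rcases hfpf.sylow_isCyclic_or_quaternion hYb P with h | ⟨rfl, n, ⟨e⟩⟩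
    · exact h
    · exfalso
      have h2 : 2 ∣ Nat.card (P : Subgroup X) := by
        haveI : NeZero (2 ^ n) := ⟨by positivity⟩
        rw [Nat.card_congr e.toEquiv, Nat.card_eq_fintype_card, QuaternionGroup.card]
        exact Dvd.dvd.mul_right (by norm_num) _
      exact (Nat.not_even_iff_odd.mpr hXodd) (even_iff_two_dvd.mpr
        (h2.trans (Subgroup.card_subgroup_dvd_card _)))
  -- `F` is cyclic
  haveI : IsZGroup X := ⟨fun p hp P => haveI := Fact.mk hp; hcyc p P⟩
  haveI : IsZGroup X' := IsZGroup.of_surjective (π.subgroupMap_surjective X)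
  haveI : IsZGroup F := IsZGroup.of_injective (Subgroup.inclusion_injective hFX)
  haveI hFc : IsCyclic F := inferInstance
  haveI : Group.IsSolvable (H ⧸ Y) := Group.isSolvable_of_surjective hπ
  have hCF : centralizer (F : Set (H ⧸ Y)) ≤ F := Cfsg.Agent.Fitting.centralizer_fitting_le
  have hcommF : ∀ a b : H ⧸ Y, a * b * a⁻¹ * b⁻¹ ∈ F := fun a b => by
    refine hCF (mem_centralizer_iff.mpr fun f hf => ?_)
    have hc : ∀ u v : MulAut F, u * v = v * u := fun u v => by
      letI := IsCyclic.commGroup (α := F)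
      let e := IsCyclic.mulAutMulEquiv F
      exact e.injective (by rw [map_mul, map_mul, mul_comm])
    have h := DFunLike.congr_fun
      (show MulAut.conjNormal (H := F) (a * b * a⁻¹ * b⁻¹) = 1 by
        rw [map_mul, map_mul, map_mul, map_inv, map_inv, hc (MulAut.conjNormal (H := F) a)]
        group) ⟨f, hf⟩
    have h' : a * b * a⁻¹ * b⁻¹ * f * (a * b * a⁻¹ * b⁻¹)⁻¹ = f := congrArg Subtype.val h
    exact (mul_inv_eq_iff_eq_mul.mp h').symm
  haveI hX'n : X'.Normal := ⟨fun x hx g => by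
    have := mul_mem (hFX (hcommF g x)) hx
    rwa [inv_mul_cancel_right] at this⟩
  refine ⟨h1, hcyc, ?_, ?_⟩
  · rw [← hcomap]; exact inferInstance
  intro hN
  have hQ2 : IsPGroup 2 (H ⧸ (X ⊔ Y)) := by
    obtain ⟨l, hl⟩ := hX'idx
    refine IsPGroup.of_card (n := l) ?_
    rw [← Subgroup.index_eq_card, ← hcomap, Subgroup.index_comap_of_surjective _ hπ, hl]
  refine ⟨?_, hQ2⟩
  have hQc : ∀ a b : H ⧸ (X ⊔ Y), Commute a b := by
    intro a b
    obtain ⟨a, rfl⟩ := QuotientGroup.mk'_surjective _ a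
    obtain ⟨b, rfl⟩ := QuotientGroup.mk'_surjective _ b
    show _ * _ = _ * _
    rw [← map_mul, ← map_mul]
    refine QuotientGroup.eq.mpr ?_
    rw [← hcomap, Subgroup.mem_comap]
    have h := hFX (hcommF (π b)⁻¹ (π a)⁻¹)
    rw [inv_inv, inv_inv] at h
    simpa [mul_assoc] using h
  -- an involution of the quotient is the image of an involution of `H ⧸ Y`
  have hlift : ∀ q : H ⧸ (X ⊔ Y), orderOf q = 2 → ∃ g : H, QuotientGroup.mk' (X ⊔ Y) g = q ∧
      g ∉ Y ∧ g * g ∈ Y := by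
    intro q hq
    obtain ⟨g, rfl⟩ := QuotientGroup.mk'_surjective _ q
    obtain ⟨s, m, hm, hsm⟩ := Nat.exists_eq_two_pow_mul_odd (orderOf_pos g).ne'
    have hq2 : (QuotientGroup.mk' (X ⊔ Y) g) ^ 2 = 1 := hq ▸ pow_orderOf_eq_one _
    have hqm : QuotientGroup.mk' (X ⊔ Y) (g ^ m) = QuotientGroup.mk' (X ⊔ Y) g := by
      obtain ⟨j, rfl⟩ := hm
      rw [map_pow, pow_succ, pow_mul, hq2, one_pow, one_mul]
    refine ⟨g ^ m, hqm, fun hmem => ?_, ?_⟩
    · have h0 : QuotientGroup.mk' (X ⊔ Y) (g ^ m) = 1 :=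
        (QuotientGroup.eq_one_iff _).mpr (Subgroup.mem_sup_right hmem)
      rw [← hqm, h0, orderOf_one] at hq
      omega
    · have h0 : g ^ m * g ^ m ∈ X'.comap π := by
        rw [hcomap]
        refine (QuotientGroup.eq_one_iff _).mp ?_
        show QuotientGroup.mk' (X ⊔ Y) (g ^ m * g ^ m) = 1
        rw [map_mul, hqm, ← sq, hq2]
      have hd1 : orderOf (π (g ^ m * g ^ m)) ∣ 2 ^ s := by
        refine (orderOf_map_dvd π _).trans (orderOf_dvd_of_pow_eq_one ?_)
        rw [← sq, ← pow_mul, ← pow_mul, show m * (2 * 2 ^ s) = 2 ^ s * m * 2 by ring, ← hsm,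
          pow_mul, pow_orderOf_eq_one, one_pow]
      have hd2 : orderOf (π (g ^ m * g ^ m)) ∣ Nat.card X' := by
        rw [← Subgroup.orderOf_mk _ (Subgroup.mem_comap.mp h0)]; exact orderOf_dvd_natCard _
      exact (QuotientGroup.eq_one_iff _).mp (orderOf_eq_one_iff.mp (Nat.eq_one_of_dvd_coprimes
        (Nat.Coprime.pow_left s hX'odd.coprime_two_left) hd1 hd2))
  -- an involution of `H ⧸ Y` inverts `F`
  have hinv : ∀ g : H, g ∉ Y → g * g ∈ Y → ∀ f ∈ F, π g * f * (π g)⁻¹ = f⁻¹ := by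
    intro g hg hg2 f hf
    have he : π g * π g = 1 := by rw [← map_mul]; exact (QuotientGroup.eq_one_iff _).mpr hg2
    have hfixed : ∀ w ∈ F, π g * w * (π g)⁻¹ = w → w = 1 := by
      intro w hw hwg
      obtain ⟨x, hx, rfl⟩ := hFX hw
      by_contra hw1
      refine no_commuting hO hI (hodd x hx) (fun e => hw1 (by rw [e, map_one])) hg hg2 ?_
      refine QuotientGroup.eq.mp ?_
      have h : π (g * x * g⁻¹) = π x := by rw [map_mul, map_mul, map_inv]; exact hwg
      exact h.symm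
    have hgf : π g * f * (π g)⁻¹ ∈ F := (inferInstance : F.Normal).conj_mem f hf _
    have hce : ∀ a ∈ F, ∀ b ∈ F, a * b = b * a := fun a ha b hb => by
      letI := IsCyclic.commGroup (α := F)
      exact congrArg Subtype.val (mul_comm (⟨a, ha⟩ : F) ⟨b, hb⟩)
    have h : f * (π g * f * (π g)⁻¹) = 1 := by
      refine hfixed _ (mul_mem hf hgf) ?_
      have e' : (π g)⁻¹ = π g := inv_eq_of_mul_eq_one_right he
      rw [hce f hf _ hgf]
      calc π g * (π g * f * (π g)⁻¹ * f) * (π g)⁻¹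
          = π g * π g * f * ((π g)⁻¹ * f * (π g)⁻¹) := by group
        _ = f * (π g * f * (π g)⁻¹) := by rw [he, one_mul, e']
        _ = _ := hce f hf _ hgf
    exact eq_inv_of_mul_eq_one_right h
  have huniq : ∀ a b : H ⧸ (X ⊔ Y), orderOf a = 2 → orderOf b = 2 → a = b := by
    intro a b ha hb
    obtain ⟨g₁, rfl, hg1, hg1'⟩ := hlift a ha
    obtain ⟨g₂, rfl, hg2, hg2'⟩ := hlift b hb
    refine QuotientGroup.eq.mpr ?_
    rw [← hcomap, Subgroup.mem_comap]
    refine hFX (hCF (mem_centralizer_iff.mpr fun f hf => ?_))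
    have h1' := hinv g₁ hg1 hg1' f hf
    have h2' := hinv g₂ hg2 hg2' f hf
    have e1 : π (g₁⁻¹ * g₂) * f * (π (g₁⁻¹ * g₂))⁻¹ = f := by
      rw [map_mul, map_inv]
      calc (π g₁)⁻¹ * π g₂ * f * ((π g₁)⁻¹ * π g₂)⁻¹
          = (π g₁)⁻¹ * (π g₂ * f * (π g₂)⁻¹) * π g₁ := by group
        _ = (π g₁)⁻¹ * (π g₁ * f * (π g₁)⁻¹) * π g₁ := by rw [h2', h1']
        _ = f := by group
    exact (mul_inv_eq_iff_eq_mul.mp e1).symm
  refine Cfsg.Agent.PGroup.isCyclic_of_abelian_of_card_pow_eq_one_le hQ2 hQc ?_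
  classical
  haveI := Fintype.ofFinite (H ⧸ (X ⊔ Y))
  rw [Nat.card_eq_fintype_card, Fintype.card_subtype]
  by_contra hlt
  obtain ⟨a, ha, hane⟩ := Finset.exists_mem_ne (s := Finset.univ.filter
    fun q : H ⧸ (X ⊔ Y) => q ^ 2 = 1) (by omega) 1
  have hsub : (Finset.univ.filter fun q : H ⧸ (X ⊔ Y) => q ^ 2 = 1) ⊆ {1, a} := by
    intro q hq
    simp only [Finset.mem_filter, Finset.mem_univ, true_and] at hq ha
    simp only [Finset.mem_insert, Finset.mem_singleton]
    by_cases hq1 : q = 1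
    · exact Or.inl hq1
    · exact Or.inr (huniq q a (orderOf_eq_prime hq hq1) (orderOf_eq_prime ha hane))
  exact hlt ((Finset.card_le_card hsub).trans Finset.card_le_two)

end Cfsg.Agent.S3215
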