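import Cfsg.Statements.S1518
import Cfsg.Agent.OddChar.DadeIsometry
import Cfsg.Agent.OddChar.SignedIrr
import Cfsg.Agent.Coherence.Irr
import Cfsg.Agent.Coherence.Subcoherent

set_option autoImplicit false
open Cfsg Cfsg.Agent Cfsg.Agent.OddChar
open scoped ComplexConjugate

namespace Cfsg.Agent.S1518

/-- Under the Dade hypothesis for (A, L, H): if χ is an irreducible character of L vanishing at every non-identity element of L outside A, then the Dade image of χ − conj χ equals μ − conj μ for some irreducible character μ of G. -/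
theorem result {G : Type*} [Group G] [Fintype G] (A : Set G) (L : Subgroup G) [Fintype L] (H : G → Subgroup G) (hD : Cfsg.DadeHypothesis A L H) (χ : L → ℂ) (hχ : Cfsg.IsIrrCharacter L χ) (hsupp : ∀ x : L, x ≠ 1 → (x : G) ∉ A → χ x = 0) : ∃ μ : G → ℂ, Cfsg.IsIrrCharacter G μ ∧ Cfsg.dadeIsometry A L H (χ - Cfsg.conjFun χ) = μ - Cfsg.conjFun μ := by
  classical
  have hχc : IsCharacter L χ := Coherence.irr_isCharacter hχ
  have hcl : IsClassFunction L (χ - conjFun χ) := fun g h => by
    simp only [Pi.sub_apply, conjFun, CharInd.isClassFunction_of_isCharacter hχc g h]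
  by_cases hreal : conjFun χ = χ
  · refine ⟨fun _ => 1, CharCore.isIrrCharacter_one, ?_⟩
    funext g
    unfold dadeIsometry
    split_ifs <;> simp [hreal, conjFun]
  have hχbar : IsIrrCharacter L (conjFun χ) := CharCore.isIrrCharacter_star hχ
  have hαA : ∀ x : L, (x : G) ∉ A → (χ - conjFun χ) x = 0 := by
    intro x hx
    by_cases h1 : x = 1
    · rw [h1, Pi.sub_apply, Coherence.conjFun_one_of_char hχc, sub_self]
    · simp [conjFun, hsupp x h1 hx]
  obtain ⟨θ, hθ⟩ : ∃ θ, dadeIsometry A L H (χ - conjFun χ) = θ := ⟨_, rfl⟩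
  have hgen : IsGeneralizedCharacter G θ := hθ ▸ isGeneralized_dade hD
    (Coherence.gen_sub (Coherence.irr_gen hχ) (Coherence.irr_gen hχbar)) hαA
  have hval : ∀ (β : L → ℂ), IsClassFunction L β → ∀ a : L, (a : G) ∈ A → ∀ u ∈ H (a : G),
      dadeIsometry A L H β ((a : G) * u) = β a := fun β hβ a ha u hu =>
    dadeIsometry_apply hD hβ ha hu (x := 1) (by simp)
  have hnorm : classInner θ θ = 2 := by
    rw [← hθ, classInner_dade hD hcl hαA (isClassFunction_dade hD hcl) (χ - conjFun χ) fun a ha => by
      rw [finsum_mem_eq_finite_toFinset_sum _ (Set.toFinite _),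
        Finset.sum_congr rfl fun u hu => hval _ hcl a ha u (by simpa using hu),
        Finset.sum_const, nsmul_eq_mul, ← Set.ncard_eq_toFinset_card, ← mul_assoc,
        show Set.ncard (H (a : G) : Set G) = Nat.card (H (a : G)) from (Nat.card_coe_set_eq _).symm,
        inv_mul_cancel₀ (CharInd.natCard_subgroup_ne_zero _), one_mul]]
    rw [Coherence.inner_sub_left, Coherence.inner_sub_right, Coherence.inner_sub_right,
      Coherence.irr_inner_self hχ, Coherence.irr_inner_self hχbar,
      Coherence.irr_inner_ne hχ hχbar (Ne.symm hreal), Coherence.irr_inner_ne hχbar hχ hreal]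
    norm_num
  have hone : θ 1 = 0 := by
    rw [← hθ, dadeIsometry_notMem _ hD]
    rintro ⟨a, ha, u, hu, x, hx⟩
    have hx1 : a * u = 1 := by rw [← hx]; group
    have hau : a ∈ H a := by
      have h' := (H a).inv_mem hu
      rwa [← eq_inv_of_mul_eq_one_left hx1] at h' 
    have hmem : a ∈ H a ⊓ (L ⊓ Subgroup.centralizer ({a} : Set G)) :=
      ⟨hau, hD.subset ha, Subgroup.mem_centralizer_singleton_iff.2 rfl⟩
    rw [hD.inf_eq_bot a ha, Subgroup.mem_bot] at hmem
    exact hD.one_not_mem (hmem ▸ ha)
  have hanti : conjFun θ = -θ := by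
    rw [← hθ]
    funext g
    simp only [conjFun, Pi.neg_apply]
    unfold dadeIsometry
    split_ifs
    · simp only [Pi.sub_apply, conjFun, map_sub, Complex.conj_conj, neg_sub]
    · simp
  obtain ⟨a, b, ha, hb, hab, rfl⟩ := exists_sub_of_norm_two hgen hnorm
  obtain ⟨ea, u, hea, rfl⟩ := signed_exists_sign ha
  obtain ⟨eb, v, heb, rfl⟩ := signed_exists_sign hb
  have heq : ea = eb := by
    obtain ⟨m, hm, hm0⟩ := Coherence.char_one_nat (Coherence.irr_isCharacter u.2)
    obtain ⟨k, hk, hk0⟩ := Coherence.char_one_nat (Coherence.irr_isCharacter v.2)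
    have hm1 := hm0 (Coherence.irr_ne_zero u.2)
    have hk1 := hk0 (Coherence.irr_ne_zero v.2)
    have h : ((ea * m - eb * k : ℤ) : ℂ) = 0 := by
      push_cast
      rw [← hm, ← hk, ← hone]
      simp
    have h' : ea * (m : ℤ) - eb * k = 0 := by exact_mod_cast h
    rcases hea with rfl | rfl <;> rcases heb with rfl | rfl <;> omega
  subst heq
  have he0 : ((ea : ℂ)) ≠ 0 := by rcases hea with rfl | rfl <;> norm_num
  have huv : (u : G → ℂ) ≠ v := by
    intro h
    rw [h, signed_inner_self hb] at hab
    exact one_ne_zero hab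
  rw [← smul_sub] at hanti
  have h1 : conjFun (u : G → ℂ) - conjFun (v : G → ℂ) = (v : G → ℂ) - u := by
    funext g
    have h := congrFun hanti g
    simp only [conjFun, Pi.smul_apply, Pi.sub_apply, Pi.neg_apply, smul_eq_mul, map_mul,
      map_intCast, map_sub] at h ⊢
    refine mul_left_cancel₀ he0 ?_
    linear_combination h
  have huc : IsIrrCharacter G (conjFun (u : G → ℂ)) := CharCore.isIrrCharacter_star u.2
  have hv : conjFun (u : G → ℂ) = (v : G → ℂ) := by
    by_contra hne
    have h2 := congrArg (fun f => classInner f (v : G → ℂ)) h1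
    simp only [Coherence.inner_sub_left, Coherence.irr_inner_ne huc v.2 hne,
      Coherence.irr_inner_self v.2, Coherence.irr_inner_ne u.2 v.2 huv, sub_zero, zero_sub] at h2
    have hvc : IsIrrCharacter G (conjFun (v : G → ℂ)) := CharCore.isIrrCharacter_star v.2
    by_cases h3 : conjFun (v : G → ℂ) = v
    · rw [h3, Coherence.irr_inner_self v.2] at h2; norm_num at h2
    · rw [Coherence.irr_inner_ne hvc v.2 h3] at h2; norm_num at h2
  rw [hθ, ← hv]
  rcases hea with rfl | rfl
  · exact ⟨u, u.2, by simp⟩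
  · exact ⟨conjFun (u : G → ℂ), huc, by rw [Coherence.conjFun_conjFun]; simp; abel⟩

end Cfsg.Agent.S1518
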