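import Cfsg.Statements.S1508
import Cfsg.Agent.OddChar.CyclicExist
import Cfsg.Agent.OddChar.Twist
import Mathlib.Data.Nat.ChineseRemainder
open Cfsg.Agent Cfsg.Agent.OddChar

set_option autoImplicit false
open Cfsg

namespace Cfsg.Agent.S1508

/-- Let W₁, W₂ ≤ G form a self-normalising cyclic subgroup W = W₁ ⊔ W₂ of odd order and χ an orthonormal family of irreducible characters of G up to sign, indexed by the linear characters ω of W, with χ_1 = 1, χ_ω = ω on W outside W₁ ∪ W₂, and the induction identity for (1 − φ)(1 − ψ). Let ω be a linear character of W and g an element of G whose order is coprime to the order of ω. Then χ ω g is an integer. -/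
theorem result {G : Type*} [Group G] [Fintype G] (W₁ W₂ : Subgroup G) (hW : Cfsg.IsSelfNormalizingCyclic W₁ W₂) (hodd : Odd (Nat.card ↥(W₁ ⊔ W₂))) (χ : (↥(W₁ ⊔ W₂) →* ℂˣ) → (G → ℂ)) (hχ : Cfsg.IsCyclicTIFamily W₁ W₂ χ) (ω : ↥(W₁ ⊔ W₂) →* ℂˣ) (g : G) (hg : Nat.Coprime (orderOf g) (orderOf ω)) : ∃ n : ℤ, χ ω g = n := by
  classical
  have hs : IsSignedIrr (χ ω) := hχ.irr_or_neg ω
  have hint : IsIntegral ℤ (χ ω g) := CharClifford.isIntegral_of_isGeneralizedCharacter
    hs.isGeneralizedCharacter g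
  refine CharClifford.exists_int_of_fixed hint fun σ => ?_
  have hpw : ∀ (z : ℂ) (n i j : ℕ), z ^ n = 1 → i ≡ j [MOD n] → z ^ i = z ^ j := fun z n i j hz hij => by
    rw [pow_eq_pow_mod i hz, pow_eq_pow_mod j hz, hij]
  have hd0 : orderOf ω ≠ 0 := by
    have := (CycTI.Split.of_selfNormalizing hW).finite_dual
    exact (orderOf_pos ω).ne'
  have hg0 : orderOf g ≠ 0 := (orderOf_pos g).ne'
  obtain ⟨m, hm, hσ⟩ := CharClifford.exists_pow_of_ringHom σ hg0
  obtain ⟨k, hk1, hk2⟩ := Nat.chineseRemainder hg m 1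
  have hk : Nat.Coprime k (orderOf g * orderOf ω) := by
    refine Nat.Coprime.mul_right ?_ ?_
    · rw [Nat.coprime_iff_gcd_eq_one, hk1.gcd_eq]; exact hm
    · rw [Nat.coprime_iff_gcd_eq_one, hk2.gcd_eq, Nat.gcd_one_left]
  obtain ⟨τ, hτ⟩ := CharClifford.exists_ringHom_pow (mul_ne_zero hg0 hd0) hk
  -- `τ` fixes `χ ω` by uniqueness, and agrees with `σ` at `g`
  have hτω : (fun x => τ (χ ω x)) = χ ω := by
    refine CycTI.family_unique hW hodd hχ ?_ ω fun w a b => ?_
    · rcases hs with h | h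
      · exact Or.inl (isIrrCharacter_map τ h)
      · refine Or.inr ?_
        have e := isIrrCharacter_map τ h
        simp only [Pi.neg_apply, map_neg] at e
        exact e
    · show τ (χ ω w) = _
      rw [hχ.eq_on ω w a b]
      have h1 : (ω w : ℂ) ^ orderOf ω = 1 := by
        rw [← Units.val_pow_eq_pow_val, ← MonoidHom.pow_apply, pow_orderOf_eq_one,
          MonoidHom.one_apply, Units.val_one]
      rw [hτ _ (by rw [mul_comm, pow_mul, h1, one_pow]),
        hpw _ _ k 1 h1 hk2, pow_one]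
  have hroot : ∀ μ : ℂ, μ ^ orderOf g = 1 → σ μ = τ μ := fun μ hμ => by
    rw [hσ μ hμ, hτ μ (by rw [pow_mul, hμ, one_pow]),
      hpw _ _ k m hμ hk1]
  have hchar : ∀ {θ : G → ℂ}, IsCharacter G θ → σ (θ g) = τ (θ g) := by
    rintro θ ⟨n, ρ, rfl⟩
    rw [CharClifford.map_character ρ σ g hg0 (pow_orderOf_eq_one g) hσ,
      CharClifford.map_character ρ τ g hg0 (pow_orderOf_eq_one g)
        (fun μ hμ => (hroot μ hμ).symm.trans (hσ μ hμ))]
  obtain ⟨a, b, ha, hb, hab⟩ := hs.isGeneralizedCharacter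
  calc σ (χ ω g) = τ (χ ω g) := by rw [hab]; simp [hchar ha, hchar hb]
    _ = χ ω g := congrFun hτω g

end Cfsg.Agent.S1508
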