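import Cfsg.Statements.S1495
import Mathlib.RingTheory.RootsOfUnity.Complex
import Mathlib.RingTheory.Polynomial.Cyclotomic.Eval
import Mathlib.RingTheory.IntegralClosure.IntegrallyClosed

set_option autoImplicit false
open Cfsg

namespace Cfsg.Agent.S1495

/-- Let p be a prime, ε = exp(2πi/p), and n an integer such that n = (1 − ε) * ω for some algebraic integer ω. Then p divides n. -/
theorem result (p : ℕ) (hp : p.Prime) (n : ℤ) (ω : ℂ) (hω : IsIntegral ℤ ω) (h : (n : ℂ) = (1 - Complex.exp (2 * Real.pi * Complex.I / p)) * ω) : (p : ℤ) ∣ n := by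
  classical
  have hp0 := hp.ne_zero
  have : NeZero p := ⟨hp0⟩
  have hζ := Complex.isPrimitiveRoot_exp p hp0
  set ζ := Complex.exp (2 * Real.pi * Complex.I / p) with hζdef
  have hζint : IsIntegral ℤ ζ := hζ.isIntegral hp.pos
  have hdiv : ∀ μ ∈ primitiveRoots p ℂ, ∃ t : ℂ, IsIntegral ℤ t ∧ 1 - ζ = (1 - μ) * t := by
    intro μ hμ
    have hμ' := (mem_primitiveRoots hp.pos).mp hμ
    obtain ⟨i, -, hi⟩ := hμ'.eq_pow_of_pow_eq_one hζ.pow_eq_one
    refine ⟨∑ j ∈ Finset.range i, μ ^ j,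
      IsIntegral.sum _ fun j _ => (hμ'.isIntegral hp.pos).pow j, ?_⟩
    rw [mul_neg_geom_sum, hi]
  choose t ht using hdiv
  have hprod : ∏ μ ∈ primitiveRoots p ℂ, (1 - μ) = (p : ℂ) := by
    have := Fact.mk hp
    have h := congrArg (Polynomial.eval (1 : ℂ)) (Polynomial.cyclotomic_eq_prod_X_sub_primitiveRoots hζ)
    rw [Polynomial.eval_one_cyclotomic_prime, Polynomial.eval_prod] at h
    simpa using h.symm
  have hc : (primitiveRoots p ℂ).card = p - 1 := by
    rw [Complex.card_primitiveRoots, Nat.totient_prime hp]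
  have hpow : (1 - ζ) ^ (p - 1) =
      (p : ℂ) * ∏ μ ∈ (primitiveRoots p ℂ).attach, t μ.1 μ.2 := by
    rw [← hprod, ← Finset.prod_attach (primitiveRoots p ℂ) (fun μ => 1 - μ),
      ← Finset.prod_mul_distrib, ← hc, ← Finset.card_attach, ← Finset.prod_const]
    exact Finset.prod_congr rfl fun μ _ => (ht μ.1 μ.2).2
  have hint : IsIntegral ℤ (((n : ℚ) ^ (p - 1) / p : ℚ) : ℂ) := by
    have he : (((n : ℚ) ^ (p - 1) / p : ℚ) : ℂ) =
        (∏ μ ∈ (primitiveRoots p ℂ).attach, t μ.1 μ.2) * ω ^ (p - 1) := by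
      push_cast
      rw [h, mul_pow, hpow]
      field_simp
    rw [he]
    exact (IsIntegral.prod _ fun μ _ => (ht μ.1 μ.2).1).mul (hω.pow _)
  rw [← eq_ratCast (algebraMap ℚ ℂ), isIntegral_algebraMap_iff (algebraMap ℚ ℂ).injective] at hint
  obtain ⟨m, hm⟩ := IsIntegrallyClosed.isIntegral_iff.mp hint
  have hm' : (n : ℤ) ^ (p - 1) = (p : ℤ) * m := by
    have h' : (n : ℚ) ^ (p - 1) = (p : ℚ) * (m : ℚ) := by
      rw [eq_intCast] at hm
      rw [hm]; field_simp
    exact_mod_cast h'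
  exact (Nat.prime_iff_prime_int.mp hp).dvd_of_dvd_pow ⟨m, hm'⟩

end Cfsg.Agent.S1495
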