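import Cfsg.Statements.S1524
import Cfsg.Agent.Coherence.Sibley
import Cfsg.Agent.S1521

set_option autoImplicit false
open Cfsg

namespace Cfsg.Agent.S1524

/-- Let G be a finite group and H ≤ L subgroups with L of odd order, H ≠ ⊥ nilpotent and normal in L with a nontrivial complement W₁ in L (H ⊓ W₁ = ⊥, H ⊔ W₁ = L) acting on H without non-identity fixed points (L is a Frobenius group with kernel H), and suppose the underlying set of H is a TI-subset of G whose normaliser is L. Let S be the set of functions on L induced from the non-principal irreducible characters of H. Then (S, L minus 1, induction to G) is coherent. -/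
theorem result {G : Type*} [Group G] [Fintype G] (H L W₁ : Subgroup G) [Fintype L] (hodd : Odd (Nat.card L)) (hHL : H ≤ L) (hW₁L : W₁ ≤ L) (hH1 : H ≠ ⊥) (hW1 : W₁ ≠ ⊥) (hnil : Group.IsNilpotent H) (hHn : ∀ x ∈ L, ∀ h ∈ H, x * h * x⁻¹ ∈ H) (hinf : H ⊓ W₁ = ⊥) (hsup : H ⊔ W₁ = L) (hfpf : ∀ w ∈ W₁, w ≠ 1 → ∀ h ∈ H, w * h = h * w → h = 1) (hTI : Cfsg.IsTISubset (H : Set G)) (hN : Subgroup.normalizer (H : Set G) = L) : Cfsg.IsCoherent (Cfsg.inducedIrrAbove (H.subgroupOf L) ⊥) {1}ᶜ (fun α : L → ℂ => Cfsg.indFun L α) := by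
  classical
  haveI hnormal : (H.subgroupOf L).Normal :=
    ⟨fun n hn x => Subgroup.mem_subgroupOf.2 (hHn x x.2 n (Subgroup.mem_subgroupOf.1 hn))⟩
  haveI := Fintype.ofFinite (H.subgroupOf L)
  set K := H.subgroupOf L with hKdef
  have hC := Coherence.centralizer_le_of_complement H L W₁ hHL hHn hW₁L hsup hfpf
  have hK1 : K ≠ ⊥ := by
    rw [Ne, hKdef, Subgroup.subgroupOf_eq_bot, disjoint_iff, inf_eq_left.2 hHL]
    exact hH1
  have hKT : K < ⊤ := by
    rw [lt_top_iff_ne_top, Ne, hKdef, Subgroup.subgroupOf_eq_top]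
    intro hLH
    exact hW1 (by rw [← inf_eq_right.2 (hW₁L.trans hLH), hinf])
  haveI hnilK : Group.IsNilpotent K :=
    haveI := hnil
    nilpotent_of_mulEquiv (Subgroup.subgroupOfEquivOfLe hHL).symm
  have hsolv : Group.IsSolvable K := inferInstance
  -- a coherence system
  obtain ⟨hiso, hone⟩ := Coherence.ti_isometry H L hTI hN (inducedIrrAbove K ⊥)
    (fun φ h => Coherence.gen_of_char (Coherence.seq_isCharacter K h))
    (by
      rintro φ ⟨θ, -, -, -, rfl⟩ x hx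
      exact OddChar.indFun_eq_zero_of_notMem K θ fun h => hx (Subgroup.mem_subgroupOf.1 h))
  obtain ⟨θ₀, hθ₀, -⟩ := Coherence.exists_linear K hsolv ⊥ (fun h => hK1 (le_bot_iff.1 h))
  obtain ⟨R, hS⟩ := S1514.result (inducedIrrAbove K ⊥)
    ⟨_, (Coherence.mem_seq_iff K).2 ⟨θ₀, hθ₀, rfl⟩⟩ (fun χ h => Coherence.frob_seq_irr K hC h)
    (fun χ h => ⟨Coherence.seq_conj K h, Coherence.frob_seq_conj_ne K hodd hKT.ne hC h⟩)
    (fun α => indFun L α) hiso hone
  haveI : (⁅K, K⁆).Normal := Subgroup.commutator_normal K K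
  have hlt := Coherence.frob_commutator_lt K hK1
  have hfrob : ∀ k ∈ K, k ∉ ⁅K, K⁆ ⊔ (⊥ : Subgroup L) → ∀ x : L,
      x * k * x⁻¹ * k⁻¹ ∈ ⁅K, K⁆ ⊔ (⊥ : Subgroup L) → x ∈ K := by
    rw [sup_bot_eq]
    exact fun k hk hk1 x hx => Coherence.frob_quot K hC ⁅K, K⁆ hlt.le hk hk1 x hx
  haveI : ((⊥ : Subgroup L).subgroupOf K).Normal := Subgroup.normal_subgroupOf
  have hnilq : Group.IsNilpotent (↥K ⧸ (⊥ : Subgroup L).subgroupOf K) :=
    nilpotent_of_surjective (QuotientGroup.mk' _) (QuotientGroup.mk'_surjective _)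
  have use21 := fun hgood => S1521.result K hsolv (fun α => indFun L α) R hS hodd ⊥ bot_le hnilq
    (⁅K, K⁆ ⊔ ⊥) rfl (by rw [sup_bot_eq]; exact hlt) hKT hfrob hgood
  by_cases hna : ⁅K, K⁆ = ⊥
  · exact use21 (Or.inr (Or.inr (Or.inr (Or.inl (le_bot_iff.2 hna)))))
  by_cases hpp : ∃ p m : ℕ, p.Prime ∧ (⊥ : Subgroup L).relIndex K = p ^ m
  · obtain ⟨p, m, hp, hm⟩ := hpp
    haveI : Fact p.Prime := ⟨hp⟩
    rw [Subgroup.relIndex_bot_left, hKdef,
      Nat.card_congr (Subgroup.subgroupOfEquivOfLe hHL).toEquiv] at hm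
    exact Coherence.sibley_pgroup hodd hHL hH1 hKT hC hTI hN (IsPGroup.of_card hm) hna hS
  · exact use21 (Or.inr (Or.inr (Or.inl hpp)))

end Cfsg.Agent.S1524
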