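import Cfsg.Statements.S1997
import Cfsg.Agent.ConjFunctor.FusionReduction
import Cfsg.Agent.ConjFunctor.CentralPair
import Cfsg.Agent.Lib.Thompson.JSubgroup
-- import your own Cfsg.Agent.* helpers here

set_option autoImplicit false
universe u
open Cfsg

namespace Cfsg.Agent.S1997

open ConjFunctor

/-- The elements of order dividing `p` in the centre. -/
abbrev z1 {G : Type*} [Group G] (p : ℕ) (T : Subgroup G) : Subgroup G :=
  Cfsg.omegaOne p (T ⊓ Subgroup.centralizer (T : Set G))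

theorem map_z1 {G G' : Type*} [Group G] [Group G'] (p : ℕ) (f : G →* G') (T : Subgroup G)
    (hf : Set.InjOn f T) : (z1 p T).map f = z1 p (T.map f) := by
  have e : (T ⊓ Subgroup.centralizer (T : Set G)).map f =
      T.map f ⊓ Subgroup.centralizer ((T.map f : Subgroup G') : Set G') := by
    ext y
    constructor
    · rintro ⟨x, ⟨hx, hxc⟩, rfl⟩
      refine ⟨⟨x, hx, rfl⟩, Subgroup.mem_centralizer_iff.2 ?_⟩
      rintro _ ⟨t, ht, rfl⟩
      rw [← map_mul, ← map_mul, Subgroup.mem_centralizer_iff.1 hxc t ht]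
    · rintro ⟨⟨x, hx, rfl⟩, hyc⟩
      refine ⟨x, ⟨hx, Subgroup.mem_centralizer_iff.2 fun t ht => hf (T.mul_mem ht hx)
        (T.mul_mem hx ht) ?_⟩, rfl⟩
      rw [map_mul, map_mul]
      exact Subgroup.mem_centralizer_iff.1 hyc _ ⟨t, ht, rfl⟩
  unfold z1
  rw [Thompson.map_omegaOne f _ (hf.mono (SetLike.coe_subset_coe.2 inf_le_left)), e]

/-- A constrained quotient `L/K` with the factorisation `C(Ω₁Z) N(W)`, seen in `L`. -/
theorem exists_conj_eq {L : Type u} [Group L] [Finite L] {p : ℕ} [Fact p.Prime] (S : Sylow p L)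
    {W : ∀ (Q : Type u) [Group Q], Subgroup Q} (hW : Cfsg.IsCharPFunctor.{u} p W) (K : Subgroup L)
    [K.Normal] (hK : (Nat.card ↥K).Coprime p) (hKZ : K ≤ Subgroup.centralizer (z1 p (S : Subgroup L) : Set L))
    (hfac : ∀ y : L ⧸ K, ∃ a ∈ Subgroup.centralizer
        ((z1 p ((S : Subgroup L).map (QuotientGroup.mk' K)) : Subgroup (L ⧸ K)) : Set (L ⧸ K)),
      ∃ b ∈ nrm (Cfsg.inducedFunctor W ((S : Subgroup L).map (QuotientGroup.mk' K))), y = a * b)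
    (x : L) : ∃ m ∈ nrm (Cfsg.inducedFunctor W (S : Subgroup L)),
      ∀ z ∈ z1 p (S : Subgroup L), x * z * x⁻¹ = m * z * m⁻¹ := by
  set f := QuotientGroup.mk' K with hf
  have hinj := injOn_mk_of_coprime S.2 K hK
  have hU : IsPGroup p ↥(Cfsg.inducedFunctor W (S : Subgroup L)) := S.2.to_le (inducedFunctor_le W _)
  have hZ : IsPGroup p ↥(z1 p (S : Subgroup L)) :=
    S.2.to_le ((Thompson.omegaOne_le _ _).trans inf_le_left)
  obtain ⟨a, ha, b, hb, he⟩ := hfac (f x⁻¹)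
  rw [← map_z1 p f _ hinj] at ha
  rw [inducedFunctor_map hW f _ S.2 hinj, ← map_nrm_of_coprime hU K hK] at hb
  have ha' : a ∈ nrm ((z1 p (S : Subgroup L)).map (QuotientGroup.mk' K)) :=
    Subgroup.centralizer_le_normalizer _ ha
  rw [← map_nrm_of_coprime hZ K hK] at ha'
  obtain ⟨c, hc, rfl⟩ := ha'
  obtain ⟨m, hm, rfl⟩ := hb
  have hcC : c ∈ Subgroup.centralizer (z1 p (S : Subgroup L) : Set L) := by
    refine Subgroup.mem_centralizer_iff.2 fun z hz => ?_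
    have h1 : c * z * c⁻¹ = z := by
      refine (hinj.mono ((Thompson.omegaOne_le _ _).trans inf_le_left)) (conj_mem_of_nrm hc hz) hz ?_
      have h2 := Subgroup.mem_centralizer_iff.1 ha (f z) ⟨z, hz, rfl⟩
      show f (c * z * c⁻¹) = f z
      rw [map_mul, map_mul, map_inv, ← h2, mul_inv_cancel_right]
    exact (mul_inv_eq_iff_eq_mul.1 h1).symm
  rw [← map_mul] at he
  have hk : (c * m)⁻¹ * x⁻¹ ∈ K := QuotientGroup.eq.1 he.symm
  set k := (c * m)⁻¹ * x⁻¹ with hkdef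
  have hk' : m * k * m⁻¹ ∈ K := (inferInstance : K.Normal).conj_mem k hk m
  refine ⟨m⁻¹, (nrm _).inv_mem hm, fun z hz => ?_⟩
  have h3 := Subgroup.mem_centralizer_iff.1 (Subgroup.mul_mem _ hcC (hKZ hk')) z hz
  have ex : x = m⁻¹ * (c * (m * k * m⁻¹))⁻¹ := by rw [hkdef]; group
  rw [ex]
  calc m⁻¹ * (c * (m * k * m⁻¹))⁻¹ * z * (m⁻¹ * (c * (m * k * m⁻¹))⁻¹)⁻¹
      = m⁻¹ * ((c * (m * k * m⁻¹))⁻¹ * (z * (c * (m * k * m⁻¹)))) * m := by group
    _ = m⁻¹ * z * m⁻¹⁻¹ := by rw [h3]; group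

/-- Conjugates of `Ω₁Z(S)` under `N(W₁)` are conjugates under `N(W₂)`. -/
theorem exists_nrm_conj_eq {G : Type u} [Group G] [Finite G] {p : ℕ} [Fact p.Prime] (S : Sylow p G)
    {W₁ W₂ : ∀ (Q : Type u) [Group Q], Subgroup Q} (hW₁ : Cfsg.IsCharPFunctor.{u} p W₁)
    (hW₂ : Cfsg.IsCharPFunctor.{u} p W₂)
    (hfac : ∀ (K R : Subgroup G) [(R.subgroupOf K).Normal], Constr p (↥K ⧸ R.subgroupOf K) →
      ∀ T : Sylow p (↥K ⧸ R.subgroupOf K), ∀ y : ↥K ⧸ R.subgroupOf K,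
        ∃ a ∈ Subgroup.centralizer
            ((z1 p (T : Subgroup (↥K ⧸ R.subgroupOf K)) : Subgroup (↥K ⧸ R.subgroupOf K)) :
              Set (↥K ⧸ R.subgroupOf K)),
          ∃ b ∈ nrm (Cfsg.inducedFunctor W₂ (T : Subgroup (↥K ⧸ R.subgroupOf K))), y = a * b)
    (hZ : z1 p (S : Subgroup G) ≤ Cfsg.inducedFunctor W₁ (S : Subgroup G)) {n : G}
    (hn : n ∈ nrm (Cfsg.inducedFunctor W₁ (S : Subgroup G))) :
    ∃ m ∈ nrm (Cfsg.inducedFunctor W₂ (S : Subgroup G)),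
      ∀ z ∈ z1 p (S : Subgroup G), n * z * n⁻¹ = m * z * m⁻¹ := by
  set U := Cfsg.inducedFunctor W₁ (S : Subgroup G) with hU
  have hUS : U ≤ (S : Subgroup G) := inducedFunctor_le _ _
  have hSN : (S : Subgroup G) ≤ nrm U :=
    le_nrm_functor (isConjugacyFunctor_inducedFunctor hW₁) S.2
  obtain ⟨x, hx, hxe⟩ := exists_split S (fully_of_normal S U hSN) hn
  set H := U ⊔ (S : Subgroup G) ⊓ Subgroup.centralizer (U : Set G) with hH
  have hHS : H ≤ (S : Subgroup G) := sup_le hUS inf_le_left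
  set L := nrm H with hL
  have hSL : (S : Subgroup G) ≤ L := fun s hs => mem_nrm_iff_cnj.2 (by
    show Subgroup.map _ _ = _
    rw [hH, Subgroup.map_sup]
    show cnj s U ⊔ cnj s _ = _
    rw [mem_nrm_iff_cnj.1 (hSN hs), cnj_inf, cnj_of_mem hs, cnj_centralizer,
      mem_nrm_iff_cnj.1 (hSN hs)])
  obtain ⟨P, hP⟩ := (sylow_isSylowIn S hSL).exists_sylow
  set R := (Cfsg.pPrimeCore p ↥L).map L.subtype with hR
  have hReq : R.subgroupOf L = Cfsg.pPrimeCore p ↥L :=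
    Subgroup.comap_map_eq_self_of_injective L.subtype_injective _
  haveI : (Cfsg.pPrimeCore p ↥L).Normal := Thompson.sSup_normal fun _ h => h.1
  haveI : (R.subgroupOf L).Normal := hReq ▸ inferInstance
  set K := R.subgroupOf L with hKdef
  have hK : (Nat.card ↥K).Coprime p := by rw [hReq]; exact Thompson.card_pPrimeCore_coprime
  set H' := H.subgroupOf L with hH'
  haveI : H'.Normal := Subgroup.normal_subgroupOf_iff_le_normalizer Subgroup.le_normalizer |>.2 le_rfl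
  have hH'p : IsPGroup p ↥H' := (S.2.to_le hHS).comap_subtype
  have hKH : K ≤ Subgroup.centralizer (H' : Set ↥L) := by
    rw [hReq]
    exact Thompson.pPrimeCore_le_centralizer_pCore.trans
      (Subgroup.centralizer_le (Thompson.le_pCore inferInstance hH'p))
  set f := QuotientGroup.mk' K with hf
  have hinj := injOn_mk_of_coprime P.2 K hK
  have hmemS : ∀ s : ↥L, s ∈ (P : Subgroup ↥L) → (s : G) ∈ (S : Subgroup G) := fun s hs =>
    hP ▸ ⟨s, hs, rfl⟩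
  have hconstr : Constr p (↥L ⧸ K) := by
    refine constr_of_inf_centralizer_le ?_ (P.mapSurjective (QuotientGroup.mk'_surjective K)) ?_
    · exact Thompson.pPrimeCore_quotient_eq_bot K hK hReq.ge
    rw [Sylow.coe_mapSurjective]
    rintro _ ⟨⟨s, hs, rfl⟩, hsc⟩
    refine Thompson.le_pCore (Subgroup.Normal.map inferInstance f (QuotientGroup.mk'_surjective K))
      (hH'p.map f) ⟨s, ?_, rfl⟩
    refine Subgroup.mem_comap.2 ((le_sup_right : _ ≤ H) ⟨hmemS s hs, ?_⟩)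
    refine Subgroup.centralizer_le (le_sup_left : U ≤ H) (Subgroup.mem_centralizer_iff.2 fun h hh => ?_)
    have hhS : (h : G) ∈ (S : Subgroup G) := hHS hh
    have hhP : (⟨h, hSL hhS⟩ : ↥L) ∈ (P : Subgroup ↥L) := by
      rw [← hP] at hhS
      obtain ⟨w, hw, he⟩ := hhS
      rwa [show (⟨h, _⟩ : ↥L) = w from Subtype.ext he.symm]
    have h1 : f (⟨h, hSL hhS⟩ * s) = f (s * ⟨h, hSL hhS⟩) := by
      rw [map_mul, map_mul]
      refine Subgroup.mem_centralizer_iff.1 hsc _ (Thompson.le_pCore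
        (Subgroup.Normal.map inferInstance f (QuotientGroup.mk'_surjective K)) (hH'p.map f) ⟨_, hh, rfl⟩)
    exact congrArg Subtype.val (hinj (mul_mem hhP hs) (mul_mem hs hhP) h1)
  have hzmap : (z1 p (P : Subgroup ↥L)).map L.subtype = z1 p (S : Subgroup G) := by
    rw [map_z1 p L.subtype _ L.subtype_injective.injOn, hP]
  have hKZ : K ≤ Subgroup.centralizer (z1 p (P : Subgroup ↥L) : Set ↥L) := by
    refine hKH.trans (Subgroup.centralizer_le fun z hz => ?_)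
    have : (z : G) ∈ z1 p (S : Subgroup G) := hzmap ▸ ⟨z, hz, rfl⟩
    exact (le_sup_left : U ≤ H) (hZ this)
  obtain ⟨m, hm, hme⟩ := exists_conj_eq P hW₂ K hK hKZ
    (hfac L R hconstr (P.mapSurjective (QuotientGroup.mk'_surjective K))) ⟨x, hx⟩
  have h1 : (m : G) ∈ nrm ((Cfsg.inducedFunctor W₂ (P : Subgroup ↥L)).map L.subtype) :=
    Subgroup.le_normalizer_map _ ⟨m, hm, rfl⟩
  rw [← inducedFunctor_map hW₂ L.subtype _ P.2 L.subtype_injective.injOn, hP] at h1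
  refine ⟨m, h1, fun z hz => ?_⟩
  rw [hxe z (hZ hz)]
  rw [← hzmap] at hz
  obtain ⟨w, hw, rfl⟩ := hz
  exact congrArg Subtype.val (hme w hw)


/-- Let p be a prime, G a finite group with Sylow p-subgroup S, and W₁, W₂ two isomorphism-invariant p-group functors (W assigns to every group Q a subgroup W(Q), nontrivial whenever Q is a nontrivial finite p-group, and every isomorphism from a finite p-group Q onto a group R carries W(Q) onto W(R)). Suppose that G* = C_{G*}(Ω₁Z(S*)) N_{G*}(W₁(S*)) = C_{G*}(Ω₁Z(S*)) N_{G*}(W₂(S*)) = N_{G*}(W₁(S*)) N_{G*}(W₂(S*)) whenever G* = K/R is a section of G with C_{G*}(O_p(G*)) ≤ O_p(G*) and S* is a Sylow p-subgroup of G*, where Ω₁Z denotes the subgroup generated by the elements of order dividing p in the centre. Suppose also Ω₁Z(S) ≤ W₁(S) ∩ W₂(S), and let A be the normal closure of Ω₁Z(S) in N_G(W₁(S)). Then A is an elementary abelian subgroup of S, strongly closed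 in S with respect to G, and A controls strong fusion in G. -/
theorem result {G : Type u} [Group G] [Finite G] {p : ℕ} [Fact p.Prime] (S : Sylow p G) (W₁ W₂ : ∀ (Q : Type u) [Group Q], Subgroup Q) (hW₁ : Cfsg.IsCharPFunctor.{u} p W₁) (hW₂ : Cfsg.IsCharPFunctor.{u} p W₂) (hfac : ∀ (K R : Subgroup G) [hR : (R.subgroupOf K).Normal], Subgroup.centralizer ((Cfsg.pCore p (↥K ⧸ R.subgroupOf K) : Subgroup (↥K ⧸ R.subgroupOf K)) : Set (↥K ⧸ R.subgroupOf K)) ≤ Cfsg.pCore p (↥K ⧸ R.subgroupOf K) → ∀ T : Sylow p (↥K ⧸ R.subgroupOf K), (∀ x : (↥K ⧸ R.subgroupOf K), ∃ a ∈ Subgroup.centralizer ((Cfsg.omegaOne p ((T : Subgroup (↥K ⧸ R.subgroupOf K)) ⊓ Subgroup.centralizer (((T : Subgroup (↥K ⧸ R.subgroupOf K)) : Subgroup (↥K ⧸ R.subgroupOf K)) : Set (↥K ⧸ R.subgroupOf K))) : Subgroup (↥K ⧸ R.subgroupOf K)) : Set (↥K ⧸ R.subgroupOf K)), ∃ b ∈ Subgroup.normalizer ((Cfsg.inducedFunctor (G := (↥K ⧸ R.subgroupOf K))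 W₁ (T : Subgroup (↥K ⧸ R.subgroupOf K)) : Subgroup (↥K ⧸ R.subgroupOf K)) : Set (↥K ⧸ R.subgroupOf K)), x = a * b) ∧ (∀ x : (↥K ⧸ R.subgroupOf K), ∃ a ∈ Subgroup.centralizer ((Cfsg.omegaOne p ((T : Subgroup (↥K ⧸ R.subgroupOf K)) ⊓ Subgroup.centralizer (((T : Subgroup (↥K ⧸ R.subgroupOf K)) : Subgroup (↥K ⧸ R.subgroupOf K)) : Set (↥K ⧸ R.subgroupOf K))) : Subgroup (↥K ⧸ R.subgroupOf K)) : Set (↥K ⧸ R.subgroupOf K)), ∃ b ∈ Subgroup.normalizer ((Cfsg.inducedFunctor (G := (↥K ⧸ R.subgroupOf K)) W₂ (T : Subgroup (↥K ⧸ R.subgroupOf K)) : Subgroup (↥K ⧸ R.subgroupOf K)) : Set (↥K ⧸ R.subgroupOf K)), x = a * b) ∧ (∀ x : (↥K ⧸ R.subgroupOf K), ∃ a ∈ Subgroup.normalizer ((Cfsg.inducedFunctor (G := (↥K ⧸ R.subgroupOf K)) W₁ (T : Subgroup (↥K ⧸ R.subgroupOf K)) : Subgroup (↥K ⧸ R.subgroupOf K)) : Set (↥K ⧸ R.subgroupOf K)), ∃ b ∈ Subgroup.normalizer ((Cfsg.inducedFunctor (G := (↥K ⧸ R.subgroupOf K)) W₂ (T :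 Subgroup (↥K ⧸ R.subgroupOf K)) : Subgroup (↥K ⧸ R.subgroupOf K)) : Set (↥K ⧸ R.subgroupOf K)), x = a * b)) (hZ : Cfsg.omegaOne p ((S : Subgroup G) ⊓ Subgroup.centralizer (((S : Subgroup G) : Subgroup G) : Set G)) ≤ Cfsg.inducedFunctor (G := G) W₁ (S : Subgroup G) ⊓ Cfsg.inducedFunctor (G := G) W₂ (S : Subgroup G)) (N₁ : Subgroup G) (hN₁ : N₁ = Subgroup.normalizer ((Cfsg.inducedFunctor (G := G) W₁ (S : Subgroup G) : Subgroup G) : Set G)) (A : Subgroup G) (hA : A = (Subgroup.normalClosure (((Cfsg.omegaOne p ((S : Subgroup G) ⊓ Subgroup.centralizer (((S : Subgroup G) : Subgroup G) : Set G))).subgroupOf N₁ : Subgroup ↥N₁) : Set ↥N₁)).map N₁.subtype) : A ≤ (S : Subgroup G) ∧ Cfsg.IsElementaryAbelian p A ∧ Cfsg.IsStronglyClosed A (S : Subgroup G) ∧ Cfsg.ControlsStrongFusion p A := by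
  subst hN₁
  set Z := z1 p (S : Subgroup G) with hZdef
  set U := Cfsg.inducedFunctor W₁ (S : Subgroup G) with hU
  set N₁ := nrm U with hN₁'
  set N₂ := nrm (Cfsg.inducedFunctor W₂ (S : Subgroup G)) with hN₂
  have hA' : A = Subgroup.closure {x : G | ∃ n ∈ N₁, ∃ z ∈ Z, x = n * z * n⁻¹} := by
    rw [hA, Subgroup.normalClosure, MonoidHom.map_closure]
    congr 1
    ext x
    constructor
    · rintro ⟨y, hy, rfl⟩
      obtain ⟨z, hz, hzy⟩ := Group.mem_conjugatesOfSet_iff.1 hy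
      obtain ⟨c, rfl⟩ := isConj_iff.1 hzy
      exact ⟨c, c.2, z, hz, by simp⟩
    · rintro ⟨n, hn, z, hz, rfl⟩
      have hzN : z ∈ N₁ := (le_nrm_functor (isConjugacyFunctor_inducedFunctor hW₁) S.2)
        (inducedFunctor_le W₁ _ ((le_inf_iff.1 hZ).1 hz))
      exact ⟨⟨n, hn⟩ * ⟨z, hzN⟩ * ⟨n, hn⟩⁻¹, Group.mem_conjugatesOfSet_iff.2
        ⟨⟨z, hzN⟩, hz, isConj_iff.2 ⟨⟨n, hn⟩, rfl⟩⟩, rfl⟩
  have hAU : A ≤ U := by
    rw [hA', Subgroup.closure_le]
    rintro _ ⟨n, hn, z, hz, rfl⟩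
    exact conj_mem_of_nrm hn ((le_inf_iff.1 hZ).1 hz)
  have hAS : A ≤ (S : Subgroup G) := hAU.trans (inducedFunctor_le _ _)
  have hZc : ∀ z ∈ Z, z ^ p = 1 ∧ ∀ s ∈ (S : Subgroup G), s * z = z * s := by
    intro z hz
    refine ⟨(Thompson.isElementaryAbelian_omegaOne (p := p) ?_).2 z hz,
      fun s hs => Subgroup.mem_centralizer_iff.1 (Thompson.omegaOne_le _ _ hz).2 s hs⟩
    exact ⟨⟨fun a b => Subtype.ext (Subgroup.mem_centralizer_iff.1 b.2.2 a a.2.1)⟩⟩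
  have hel : Cfsg.IsElementaryAbelian p A := by
    rw [hA']
    refine Thompson.isElementaryAbelian_closure ?_ ?_
    · rintro _ ⟨n, hn, z, hz, rfl⟩ _ ⟨n', hn', z', hz', rfl⟩
      have h1 : n⁻¹ * (n' * z' * n'⁻¹) * n⁻¹⁻¹ ∈ (S : Subgroup G) := inducedFunctor_le W₁ _
        (conj_mem_of_nrm ((nrm U).inv_mem hn) (conj_mem_of_nrm hn' ((le_inf_iff.1 hZ).1 hz')))
      have h2 := (hZc z hz).2 _ h1
      calc n * z * n⁻¹ * (n' * z' * n'⁻¹) = n * (z * (n⁻¹ * (n' * z' * n'⁻¹) * n⁻¹⁻¹)) * n⁻¹ := by group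
        _ = n * ((n⁻¹ * (n' * z' * n'⁻¹) * n⁻¹⁻¹) * z) * n⁻¹ := by rw [h2]
        _ = n' * z' * n'⁻¹ * (n * z * n⁻¹) := by group
    · rintro _ ⟨n, hn, z, hz, rfl⟩
      rw [conj_pow, (hZc z hz).1]; group
  -- the same subgroup from the second functor
  have hB : A = Subgroup.closure {x : G | ∃ n ∈ N₂, ∃ z ∈ Z, x = n * z * n⁻¹} := by
    rw [hA']
    refine le_antisymm (Subgroup.closure_mono ?_) (Subgroup.closure_mono ?_)
    · rintro _ ⟨n, hn, z, hz, rfl⟩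
      obtain ⟨m, hm, he⟩ := exists_nrm_conj_eq S hW₁ hW₂ (fun K R _ h T => (hfac K R h T).2.1)
        (le_inf_iff.1 hZ).1 (hn : n ∈ nrm U)
      exact ⟨m, hm, z, hz, he z hz⟩
    · rintro _ ⟨n, hn, z, hz, rfl⟩
      obtain ⟨m, hm, he⟩ := exists_nrm_conj_eq S hW₂ hW₁ (fun K R _ h T => (hfac K R h T).1)
        (le_inf_iff.1 hZ).2 hn
      exact ⟨m, hm, z, hz, he z hz⟩
  have hinv : ∀ (N : Subgroup G) (B : Subgroup G),
      B = Subgroup.closure {x : G | ∃ n ∈ N, ∃ z ∈ Z, x = n * z * n⁻¹} → N ≤ nrm B := by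
    intro N B hBeq y hy
    refine mem_nrm_of_forall fun b hb => ?_
    rw [hBeq] at hb ⊢
    refine (Subgroup.closure_le
      (K := (Subgroup.closure {x : G | ∃ n ∈ N, ∃ z ∈ Z, x = n * z * n⁻¹}).comap (MulAut.conj y).toMonoidHom)).2 ?_ hb
    rintro _ ⟨n, hn, z, hz, rfl⟩
    refine Subgroup.mem_comap.2 (Subgroup.subset_closure ⟨y * n, N.mul_mem hy hn, z, hz, ?_⟩)
    show y * (n * z * n⁻¹) * y⁻¹ = _
    group
  -- strong fusion control by the pair
  have h𝓦 : ∀ W ∈ ({W₁, W₂} : Set (∀ (Q : Type u) [Group Q], Subgroup Q)), Cfsg.IsCharPFunctor.{u} p W := by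
    rintro W (rfl | rfl)
    exacts [hW₁, hW₂]
  have hpair : Cfsg.FamilyControlsStrongFusionIn p
      (indFam ({W₁, W₂} : Set (∀ (Q : Type u) [Group Q], Subgroup Q)) G) ⊤ := by
    refine fusion_of_constrained h𝓦 (fun H _ _ hH hc => ?_) G (isSec_refl G)
    refine IsSec.transport (P := fun X _ => Cfsg.FamilyControlsStrongFusionIn p
      (indFam ({W₁, W₂} : Set (∀ (Q : Type u) [Group Q], Subgroup Q)) X) ⊤)
      (fun e h => familyControlsStrongFusionIn_equiv h𝓦 e h) (fun K R _ h => ?_) hH hc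
    obtain ⟨T⟩ : Nonempty (Sylow p (↥K ⧸ R.subgroupOf K)) := inferInstance
    refine familyControlsStrongFusionIn_iff.2 ⟨_, isSylowIn_top T, controls_of_factor T
      (N₁ := ⊤ ⊓ nrm (Cfsg.inducedFunctor W₁ (T : Subgroup _)))
      (N₂ := ⊤ ⊓ nrm (Cfsg.inducedFunctor W₂ (T : Subgroup _))) ?_ ?_ ?_ ?_ ?_⟩
    · exact ⟨_, ⟨W₁, Or.inl rfl, rfl⟩, rfl⟩
    · exact ⟨_, ⟨W₂, Or.inr rfl, rfl⟩, rfl⟩
    · exact le_inf le_top (le_nrm_functor (isConjugacyFunctor_inducedFunctor hW₁) T.2)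
    · exact le_inf le_top (le_nrm_functor (isConjugacyFunctor_inducedFunctor hW₂) T.2)
    · intro g
      simpa [nrm] using (hfac K R h T).2.2 g
  have key : ∀ (X : Set G) (g : G), X ⊆ (S : Subgroup G) → img g X ⊆ (S : Subgroup G) →
      ∃ y ∈ nrm A, ∀ a ∈ X, y * a * y⁻¹ = g * a * g⁻¹ := by
    intro X g hX hgX
    refine Fus.exists_single (T := ((S : Subgroup G) : Set G))
      ((FamilyControlsStrongFusionIn.controls (indFam_isConjugacyFunctor h𝓦) hpair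
        (isSylowIn_top S) X g (Subgroup.mem_top g) hX hgX).bind ?_)
    rintro M ⟨_, ⟨W, (rfl | rfl), rfl⟩, rfl⟩ y hy B hB' hyB
    · exact Fus.single rfl (hinv N₁ A hA' hy.2) hB' hyB
    · exact Fus.single rfl (hinv N₂ A hB hy.2) hB' hyB
  refine ⟨hAS, hel, ⟨hAS, fun x hx g hg => ?_⟩, S, hAS, fun X hX => ⟨hX, fun g hg => ?_⟩⟩
  · obtain ⟨y, hy, he⟩ := key {x} g (Set.singleton_subset_iff.2 (hAS hx))
      (by rw [img, Set.image_singleton, Set.singleton_subset_iff]; exact hg)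
    rw [← he x rfl]
    exact conj_mem_of_nrm hy hx
  · obtain ⟨y, hy, he⟩ := key X g hX hg
    exact ⟨y, hy, fun a ha => (he a ha).symm⟩

end Cfsg.Agent.S1997
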