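import Cfsg.Statements.S3189
import Cfsg.Agent.InvChar68.Eight.Main

set_option autoImplicit false
open Cfsg

namespace Cfsg.Agent.S3189

/-- Let G be a non-abelian finite simple group whose Sylow 2-subgroup S is elementary abelian of order 8, and suppose the centralizer of every involution of G is solvable. Then the normalizer of S modulo the centralizer of S has order 7. -/
theorem result {G : Type*} [Group G] [Finite G]
    [IsSimpleGroup G] (hG : ¬ IsMulCommutative G) (S : Sylow 2 G)
    (hS : Cfsg.IsElementaryAbelian 2 (S : Subgroup G)) (hS8 : Nat.card ↥(S : Subgroup G) = 8)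
    (hC : ∀ t : G, orderOf t = 2 → Group.IsSolvable ↥(Subgroup.centralizer ({t} : Set G))) :
    (Subgroup.centralizer ((S : Subgroup G) : Set G)).relIndex (Subgroup.normalizer ((S : Subgroup G) : Set G)) = 7 := by
  classical
  haveI : Fact (Nat.Prime 2) := ⟨Nat.prime_two⟩
  haveI := Fintype.ofFinite G
  have hcomm : ∀ a ∈ (S : Subgroup G), ∀ b ∈ (S : Subgroup G), a * b = b * a := fun a ha b hb =>
    congrArg Subtype.val (hS.1.1.comm ⟨a, ha⟩ ⟨b, hb⟩)
  have hsq : ∀ a ∈ (S : Subgroup G), a * a = 1 := fun a ha => by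
    rw [← pow_two]; exact hS.2 a ha
  have hsq' : ∀ a : ↥(S : Subgroup G), a * a = 1 := fun a => Subtype.ext (hsq a a.2)
  have hfix := InvChar68.Eight.no_fixed_point hG S hcomm
  obtain ⟨htrans, hcard⟩ := InvChar68.Eight.automizer_card hS8 hsq' _
    (InvChar68.Eight.aut_odd S hcomm) hfix
  obtain ⟨t, ht⟩ : ∃ t : ↥(S : Subgroup G), t ≠ 1 := by
    haveI : Nontrivial ↥(S : Subgroup G) := Finite.one_lt_card_iff_nontrivial.mp (by rw [hS8]; norm_num)
    exact exists_ne 1
  rw [← InvChar68.Eight.card_aut]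
  rcases hcard t ht with ⟨h, -⟩ | ⟨-, h3⟩
  · exact h
  · exfalso
    have ht2 : orderOf (t : G) = 2 :=
      orderOf_eq_prime (by rw [pow_two]; exact hsq _ t.2) fun h => ht (Subtype.ext h)
    refine InvChar68.Eight.no_twentyone hG S hS8 hcomm hsq t ht (fun s hs => ?_) h3 (hC t ht2)
    obtain ⟨a, ⟨n, rfl⟩, ha⟩ := htrans t s ht hs
    exact isConj_iff.mpr ⟨(n : G), congrArg Subtype.val ha⟩

end Cfsg.Agent.S3189
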