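import Cfsg.Statements.S3331
import Cfsg.Agent.FT62.Main

set_option autoImplicit false
open Cfsg

namespace Cfsg.Agent.S3331

/-- Let G be a finite group containing a subgroup X of order 3 with C_G(X) = X. Then one of the following holds: G has a nilpotent normal subgroup N of order prime to 3 with G/N of order 3 or isomorphic to Sym(3); or G has an elementary abelian normal 2-subgroup N with G/N isomorphic to the alternating group of degree 5; or G is isomorphic to PSL(2,7). -/
theorem result {G : Type*} [Group G] [Finite G]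
    (X : Subgroup G) (hX : Nat.card X = 3) (hC : Subgroup.centralizer (X : Set G) = X) :
    (∃ (N : Subgroup G) (hN : N.Normal), Group.IsNilpotent N ∧ (Nat.card N).Coprime 3 ∧
        (Nat.card (G ⧸ N) = 3 ∨ Nonempty (G ⧸ N ≃* Equiv.Perm (Fin 3)))) ∨
    (∃ (N : Subgroup G) (hN : N.Normal), IsMulCommutative N ∧ (∀ n ∈ N, n ^ 2 = 1) ∧
        Nonempty (G ⧸ N ≃* alternatingGroup (Fin 5))) ∨
    Nonempty (G ≃* Matrix.ProjectiveSpecialLinearGroup (Fin 2) (ZMod 7)) := by
  haveI := Fact.mk Nat.prime_three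
  obtain ⟨x, hx⟩ := exists_prime_orderOf_dvd_card' 3 (dvd_of_eq hX.symm)
  have hgen : Subgroup.zpowers (x : G) = X := by
    refine Subgroup.eq_of_le_of_card_ge (Subgroup.zpowers_le.mpr x.2) ?_
    rw [Nat.card_zpowers, Subgroup.orderOf_coe, hx, hX]
  have h : FT62.SelfCent (x : G) := by
    refine ⟨by rw [Subgroup.orderOf_coe, hx], fun g hg => ?_⟩
    rw [hgen, ← hC, Subgroup.mem_centralizer_iff]
    intro y hy
    rw [SetLike.mem_coe, ← hgen] at hy
    obtain ⟨k, rfl⟩ := Subgroup.mem_zpowers_iff.mp hy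
    exact ((hg.zpow_right k).eq).symm
  rcases FT62.concl h with ⟨N, hN, hxN, hn⟩ | ⟨N, hN, hxN, hc, hs, he⟩ | he
  · refine Or.inl ⟨N, hN, FT62.isNilpotent_of_normal h hxN, ?_,
      FT62.nonempty_equiv_perm_three (h.quotient N hxN) hn⟩
    exact Nat.coprime_comm.mp ((Nat.Prime.coprime_iff_not_dvd Nat.prime_three).mpr
      fun h3 => hxN (h.mem_of_dvd h3))
  · exact Or.inr (Or.inl ⟨N, hN, ⟨⟨fun a b => Subtype.ext (hc a a.2 b b.2)⟩⟩, hs, he⟩)
  · exact Or.inr (Or.inr he)

end Cfsg.Agent.S3331
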