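import Cfsg.Statements.S3730
import Cfsg.Agent.Normalisers5.Abelian
import Cfsg.Agent.Normalisers5.PGL

set_option autoImplicit false
set_option linter.style.haveILetI false
open Cfsg

namespace Cfsg.Agent.S3730

/-- Let G be a nontrivial finite group with no nontrivial solvable normal subgroup, such that for every cyclic subgroup X of even order and every nontrivial subgroup Y of X one has N_G(X) = N_G(Y) (every nontrivial subgroup of a cyclic subgroup of even order has the same normalizer as the whole cyclic subgroup). Then G is isomorphic to PSL(2, q) or to PGL(2, q) for some prime power q > 3. -/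
theorem result
    {G : Type*} [Group G] [Finite G] [Nontrivial G]
    (hss : ∀ N : Subgroup G, N.Normal → Group.IsSolvable ↥N → N = ⊥)
    (hii : ∀ X : Subgroup G, IsCyclic ↥X → Even (Nat.card ↥X) → ∀ Y : Subgroup G, Y ≤ X → Y ≠ ⊥ →
      Subgroup.normalizer (X : Set G) = Subgroup.normalizer (Y : Set G)) :
    ∃ (F : Type) (_ : Field F) (_ : Fintype F), 3 < Fintype.card F ∧
      (Nonempty (G ≃* Matrix.ProjectiveSpecialLinearGroup (Fin 2) F) ∨
        Nonempty (G ≃* Matrix.ProjGenLinGroup (Fin 2) F)) := by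
  haveI : Fact (Nat.Prime 2) := ⟨Nat.prime_two⟩
  have hG : Agent.Normalisers5.Hyp G := hii
  have hn : Agent.Normalisers5.NoSolv G := hss
  have finish : Agent.Normalisers5.DihCase G →
      ∃ (F : Type) (_ : Field F) (_ : Fintype F), 3 < Fintype.card F ∧
        (Nonempty (G ≃* Matrix.ProjectiveSpecialLinearGroup (Fin 2) F) ∨
          Nonempty (G ≃* Matrix.ProjGenLinGroup (Fin 2) F)) := by
    rintro ⟨a, w, D, S, hS, hwz⟩
    rcases D.psl_or_index_two hG hn S hS hwz with ⟨F, iF, iFt, h3, he⟩ |
      ⟨M, u, hMn, hMi, huM, hu, F, iF, iFt, h3, hodd, ⟨e⟩⟩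
    · exact ⟨F, iF, iFt, h3, Or.inl he⟩
    · exact ⟨F, iF, iFt, h3, Or.inr
        (Agent.Normalisers5.pgl_of_index_two hG hn M hMi huM hu F hodd e)⟩
  by_cases hall : ∀ (S : Sylow 2 G) (w : G), orderOf w = 2 → w ∈ (S : Subgroup G) →
      ∀ p ∈ (S : Subgroup G), Commute p w
  · rcases Agent.Normalisers5.abelian_case hG hn hall with ⟨F, iF, iFt, h3, he⟩ | h
    · exact ⟨F, iF, iFt, h3, Or.inl he⟩
    · exact finish h
  · by_cases H2 : ∀ (S S' : Sylow 2 G) (w : G), orderOf w = 2 → w ∈ (S : Subgroup G) →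
        w ∈ (S' : Subgroup G) → (∀ p ∈ (S' : Subgroup G), Commute p w) →
        ∀ p ∈ (S : Subgroup G), Commute p w
    · exact absurd (fun S w hw hwS =>
        Agent.Normalisers5.central_of_closed hG hn H2 S hwS hw) hall
    · push Not at H2
      obtain ⟨S, S', w, hw, hwS, hwS', hc, p, hp, hnp⟩ := H2
      exact finish (Agent.Normalisers5.dih_of_conj_central hG S hwS hw
        (fun h => hnp (h p hp)) S' hwS' hc)

end Cfsg.Agent.S3730
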