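import Cfsg.Statements.S0729
import Cfsg.Agent.PermB.SharpIndexTwo
import Cfsg.Agent.Lib.Perm.RegularNormal
import Cfsg.Agent.CharDeep.ZassFrobenius

set_option autoImplicit false
open Cfsg

namespace Cfsg.Agent.S0729

/-- In a sharply triply transitive group of even degree at least 6, the two-point stabiliser `H = G_{a,b}` has a normal subgroup of index 2 that is normalised by the element `s` interchanging `a, b` and fixing a third point `c`. -/
theorem result {α : Type*} [Fintype α] [DecidableEq α] (heven : Even (Fintype.card α)) (h6 : 6 ≤ Fintype.card α) (G : Subgroup (Equiv.Perm α)) (h3 : MulAction.IsMultiplyPretransitive G α 3) (hsharp : ∀ x : Fin 3 ↪ α, MulAction.stabilizer G x = ⊥) {a b c : α} (hab : a ≠ b) (hac : a ≠ c) (hbc : b ≠ c) (s : G) (hsa : s • a = b) (hsb : s • b = a) (hsc : s • c = c) : ∃ N : Subgroup G, N ≤ MulAction.stabilizer G a ⊓ MulAction.stabilizer G b ∧ (N.subgroupOf (MulAction.stabilizer G a ⊓ MulAction.stabilizer G b)).Normal ∧ N.relIndex (MulAction.stabilizer G a ⊓ MulAction.stabilizer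 G b) = 2 ∧ ∀ n ∈ N, s * n * s⁻¹ ∈ N := by
  classical
  have : Fintype G := Fintype.ofFinite G
  have := h3
  have emb : ∀ {p q r : α}, p ≠ q → p ≠ r → q ≠ r → ∃ x : Fin 3 ↪ α, x 0 = p ∧ x 1 = q ∧ x 2 = r := by
    intro p q r h1 h2 h4
    refine ⟨⟨![p, q, r], ?_⟩, rfl, rfl, rfl⟩
    intro i j hij
    fin_cases i <;> fin_cases j <;> simp_all
  have three : ∀ g : G, ∀ p q r : α, p ≠ q → q ≠ r → p ≠ r →
      g • p = p → g • q = q → g • r = r → g = 1 := by
    intro g p q r h1 h4 h2 e1 e2 e3
    obtain ⟨x, x0, x1, x2⟩ := emb h1 h2 h4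
    have hg : g ∈ MulAction.stabilizer G x := by
      rw [MulAction.mem_stabilizer_iff]
      ext i
      show g • x i = x i
      fin_cases i <;> simp_all
    rwa [hsharp x, Subgroup.mem_bot] at hg
  have move : ∀ {p q r r' : α}, p ≠ q → p ≠ r → q ≠ r → p ≠ r' → q ≠ r' →
      ∃ g : G, g • p = p ∧ g • q = q ∧ g • r = r' := by
    intro p q r r' h1 h2 h4 h5 h6
    obtain ⟨x, x0, x1, x2⟩ := emb h1 h2 h4
    obtain ⟨y, y0, y1, y2⟩ := emb h1 h5 h6
    obtain ⟨g, hg⟩ := MulAction.exists_smul_eq G x y
    refine ⟨g, ?_, ?_, ?_⟩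
    · have := congrArg (fun z : Fin 3 ↪ α => z 0) hg
      exact ((congrArg (g • ·) x0.symm).trans this).trans y0
    · have := congrArg (fun z : Fin 3 ↪ α => z 1) hg
      exact ((congrArg (g • ·) x1.symm).trans this).trans y1
    · have := congrArg (fun z : Fin 3 ↪ α => z 2) hg
      exact ((congrArg (g • ·) x2.symm).trans this).trans y2
  have h2 : MulAction.IsMultiplyPretransitive G α 2 :=
    MulAction.isMultiplyPretransitive_of_le (n := 3) (by norm_num)
      (by rw [Nat.card_eq_fintype_card]; omega)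
  obtain ⟨d', hd'⟩ : ∃ d' : α, d' ∉ ({a, b, c} : Finset α) := by
    by_contra h
    push Not at h
    have := Finset.card_le_card (fun x _ => h x : Finset.univ ⊆ ({a, b, c} : Finset α))
    rw [Finset.card_univ] at this
    have := Finset.card_le_three (a := a) (b := b) (c := c)
    omega
  simp only [Finset.mem_insert, Finset.mem_singleton, not_or] at hd'
  have hfull : Nat.card ↥(MulAction.stabilizer G a ⊓ MulAction.stabilizer G b) + 2 =
      Fintype.card α := by
    have e : ↥(MulAction.stabilizer G a ⊓ MulAction.stabilizer G b) ≃ {x : α // x ∉ ({a, b} : Finset α)} :=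
      Equiv.ofBijective (fun g => ⟨(g : G) • c, by
        simp only [Finset.mem_insert, Finset.mem_singleton, not_or]
        exact ⟨fun h => hac (MulAction.injective (g : G) (g.2.1.trans h.symm)),
          fun h => hbc (MulAction.injective (g : G) (g.2.2.trans h.symm))⟩⟩) ⟨fun g g' h => by
        have h' : (g : G) • c = (g' : G) • c := congrArg Subtype.val h
        have hm := (g'⁻¹ * g).2
        exact Subtype.ext (inv_mul_eq_one.1 (three _ a b c hab hbc hac hm.1 hm.2
          (by rw [mul_smul, h', inv_smul_smul]))).symm,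
        fun x => by
          obtain ⟨x, hx⟩ := x
          simp only [Finset.mem_insert, Finset.mem_singleton, not_or] at hx
          obtain ⟨g, h1, h4, h5⟩ := move hab hac hbc (Ne.symm hx.1) (Ne.symm hx.2)
          exact ⟨⟨g, h1, h4⟩, Subtype.ext h5⟩⟩
    rw [Nat.card_congr e, Nat.card_eq_fintype_card, Fintype.card_subtype_compl, Fintype.card_coe,
      Finset.card_pair hab]
    omega
  have hne2 : ∃ g : G, g ≠ 1 ∧ ∃ p q : α, p ≠ q ∧ g • p = p ∧ g • q = q := by
    obtain ⟨g, h1, h4, h5⟩ := move hab hac hbc (Ne.symm hd'.1) (Ne.symm hd'.2.1)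
    exact ⟨g, fun h => hd'.2.2 (by rw [← h5, h, one_smul]), a, b, hab, h1, h4⟩
  have hreg : ∀ M : Subgroup G, M.Normal → MulAction.IsPretransitive M α →
      ∃ p : α, MulAction.stabilizer M p ≠ ⊥ := by
    intro M hM hMt
    by_contra hcon
    push Not at hcon
    have hcardM : Nat.card M = Fintype.card α := by
      rw [Perm.card_eq_of_regular (hcon a), Nat.card_eq_fintype_card]
    have hsq : ∀ x ∈ M, x ^ 2 = 1 := by
      intro x hx
      by_cases hx1 : x = 1
      · rw [hx1, one_pow]
      obtain ⟨x₀, hx₀⟩ := exists_prime_orderOf_dvd_card' (G := M) 2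
        (by rw [hcardM]; exact even_iff_two_dvd.1 heven)
      have hx₀1 : (x₀ : G) ≠ 1 := fun h => by
        rw [← Subgroup.orderOf_coe, h, orderOf_one] at hx₀; omega
      have hne : ∀ y ∈ M, y ≠ 1 → a ≠ y • a := fun y hy hy1 h =>
        hy1 (Perm.stabilizer_subgroup_eq_bot_iff.1 (hcon a) y hy h.symm)
      obtain ⟨g, hga, hgx⟩ :=
        MulAction.is_two_pretransitive_iff.1 h2 (hne _ x₀.2 hx₀1) (hne x hx hx1)
      have he : g * x₀ * g⁻¹ = x := Perm.regular_unique (hcon a) (hM.conj_mem _ x₀.2 g) hx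
        (by rw [mul_smul, mul_smul, inv_smul_eq_iff.2 hga.symm, hgx])
      rw [← he, conj_pow, ← SubgroupClass.coe_pow, ← hx₀, pow_orderOf_eq_one]
      simp
    have hcomm := Perm.isMulCommutative_of_sq_eq_one hsq
    obtain ⟨t, ht⟩ := exists_prime_orderOf_dvd_card'
      (G := ↥(MulAction.stabilizer G a ⊓ MulAction.stabilizer G b)) 2 (by
        have he := heven
        rw [← hfull, Nat.even_add] at he
        exact even_iff_two_dvd.1 (he.2 even_two))
    have ht1 : (t : G) ≠ 1 := fun h => by
      rw [← Subgroup.orderOf_coe, h, orderOf_one] at ht; omega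
    have htt : (t : G) * t = 1 := by
      rw [← pow_two, ← ht, ← Subgroup.orderOf_coe, pow_orderOf_eq_one]
    let C : Set G := {x | x ∈ M ∧ (t : G) * x * (t : G)⁻¹ = x}
    have hC : C.ncard ≤ 2 := by
      refine le_trans (Set.ncard_le_ncard_of_injOn (t := ({a, b} : Set α)) (fun x => x • a) ?_ ?_)
        (le_of_eq (Set.ncard_pair hab))
      · intro x hx
        by_contra h
        simp only [Set.mem_insert_iff, Set.mem_singleton_iff, not_or] at h
        refine ht1 (three _ a b (x • a) hab (Ne.symm h.2) (Ne.symm h.1) t.2.1 t.2.2 ?_)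
        conv_rhs => rw [← hx.2]
        rw [mul_smul, mul_smul, inv_smul_eq_iff.2 (MulAction.mem_stabilizer_iff.1 t.2.1).symm]
      · intro x hx y hy h
        exact Perm.regular_unique (hcon a) hx.1 hy.1 h
    have hcm : ∀ x ∈ M, ∀ y ∈ M, x * y = y * x := fun x hx y hy =>
      congrArg Subtype.val (hcomm.is_comm.comm (⟨x, hx⟩ : M) ⟨y, hy⟩)
    let φ : M →* M := MonoidHom.mk'
      (fun x => x * ⟨(t : G) * x * (t : G)⁻¹, hM.conj_mem _ x.2 t⟩) fun x y => Subtype.ext (by
        show (x : G) * y * ((t : G) * ((x : G) * y) * (t : G)⁻¹) =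
          (x : G) * ((t : G) * x * (t : G)⁻¹) * ((y : G) * ((t : G) * y * (t : G)⁻¹))
        rw [show (t : G) * ((x : G) * y) * (t : G)⁻¹ =
          (t : G) * x * (t : G)⁻¹ * ((t : G) * y * (t : G)⁻¹) by group]
        have hX := hM.conj_mem _ x.2 (t : G)
        generalize (t : G) * x * (t : G)⁻¹ = X at hX ⊢
        generalize (t : G) * y * (t : G)⁻¹ = Y
        rw [mul_assoc, ← mul_assoc (y : G), hcm _ y.2 _ hX, mul_assoc, ← mul_assoc])
    have hk : Nat.card φ.ker ≤ 2 := by
      refine le_trans ?_ hC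
      rw [← Nat.card_coe_set_eq]
      refine Nat.card_le_card_of_injective (fun x => ⟨((x : M) : G), (x : M).2, ?_⟩) ?_
      · have h : ((x : M) : G) * ((t : G) * (x : M) * (t : G)⁻¹) = 1 :=
          congrArg Subtype.val (MonoidHom.mem_ker.1 x.2)
        have h' := hsq _ (x : M).2
        rw [pow_two] at h'
        exact mul_left_cancel (h.trans h'.symm)
      · intro x y h
        exact Subtype.ext (Subtype.ext (congrArg Subtype.val h :))
    have hr : Nat.card φ.range ≤ 2 := by
      refine le_trans ?_ hC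
      rw [← Nat.card_coe_set_eq]
      refine Nat.card_le_card_of_injective (fun x => ⟨((x : M) : G), (x : M).2, ?_⟩) ?_
      · obtain ⟨y, hy⟩ := x.2
        rw [← hy]
        show (t : G) * ((y : G) * ((t : G) * y * (t : G)⁻¹)) * (t : G)⁻¹ = _
        have hti : (t : G)⁻¹ = t := inv_eq_of_mul_eq_one_left htt
        show _ = (y : G) * ((t : G) * y * (t : G)⁻¹)
        rw [hti, show (t : G) * ((y : G) * ((t : G) * y * t)) * t
          = (t : G) * y * t * ((y : G) * ((t : G) * t)) by group, htt, mul_one]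
        exact hcm _ (by simpa [hti] using hM.conj_mem _ y.2 (t : G)) _ y.2
      · intro x y h
        exact Subtype.ext (Subtype.ext (congrArg Subtype.val h :))
    have := φ.ker.card_mul_index
    rw [Subgroup.index_ker, hcardM] at this
    have := Nat.mul_le_mul hk hr
    omega
  have hZ : Cfsg.IsZassenhausGroup G α := ⟨inferInstance, h2, three, hne2, hreg⟩
  obtain ⟨U, hU⟩ := CharDeep.Zass.exists_kernel hZ hab
  exact PermB.exists_index_two hZ hab hU hfull heven hac hbc hsa hsb hsc

end Cfsg.Agent.S0729
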