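import Cfsg.Statements.S0735
import Mathlib.GroupTheory.GroupAction.MultipleTransitivity
import Mathlib.GroupTheory.Perm.Cycle.Type

set_option autoImplicit false
open scoped Pointwise
open Cfsg

namespace Cfsg.Agent.S0735

/-- A 2-homogeneous permutation group (transitive on 2-subsets) of even order is doubly transitive; a non-trivial 2-homogeneous group is primitive. -/
theorem result {α : Type*} [Fintype α] [DecidableEq α] (G : Subgroup (Equiv.Perm α)) (h2 : MulAction.IsPretransitive G (Set.powersetCard α 2)) (hα : 3 ≤ Fintype.card α) : (Even (Nat.card G) → MulAction.IsMultiplyPretransitive G α 2) ∧ (G ≠ ⊥ → MulAction.IsPreprimitive G α) := by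
  classical
  have hset : ∀ a b c d : α, a ≠ b → c ≠ d → ∃ g : G,
      (g • a = c ∧ g • b = d) ∨ (g • a = d ∧ g • b = c) := by
    intro a b c d hab hcd
    obtain ⟨g, hg⟩ := h2.exists_smul_eq
      (⟨{a, b}, Finset.card_pair hab⟩ : Set.powersetCard α 2) ⟨{c, d}, Finset.card_pair hcd⟩
    have hg' : ∀ z : α, z ∈ ({g • a, g • b} : Finset α) ↔ z ∈ ({c, d} : Finset α) := by
      intro z
      have h1 : g • ({a, b} : Finset α) = ({c, d} : Finset α) :=
        (Set.powersetCard.coe_smul).symm.trans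
          (congrArg (fun s : Set.powersetCard α 2 => (s : Finset α)) hg)
      rw [← h1, Finset.smul_finset_def]
      simp
    refine ⟨g, ?_⟩
    have ha := (hg' (g • a)).mp (by simp)
    have hb := (hg' (g • b)).mp (by simp)
    have hne : g • a ≠ g • b := fun e => hab (MulAction.injective g e)
    simp only [Finset.mem_insert, Finset.mem_singleton] at ha hb
    rcases ha with ha | ha <;> rcases hb with hb | hb
    · exact absurd (ha.trans hb.symm) hne
    · exact Or.inl ⟨ha, hb⟩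
    · exact Or.inr ⟨ha, hb⟩
    · exact absurd (ha.trans hb.symm) hne
  refine ⟨fun hev => ?_, fun hne => ?_⟩
  · obtain ⟨t, ht⟩ := exists_prime_orderOf_dvd_card' (G := G) 2 (even_iff_two_dvd.mp hev)
    have ht1 : (t : Equiv.Perm α) ≠ 1 := by
      intro e
      have : t = 1 := Subtype.ext e
      rw [this, orderOf_one] at ht
      omega
    obtain ⟨a, ha⟩ : ∃ a, t • a ≠ a := by
      by_contra hc
      apply ht1
      ext x
      by_contra e
      exact hc ⟨x, e⟩
    have hta : t • (t • a) = a := by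
      rw [← mul_smul, ← pow_two, ← ht, pow_orderOf_eq_one, one_smul]
    rw [MulAction.is_two_pretransitive_iff]
    intro c d e f hcd hef
    obtain ⟨g, hg⟩ : ∃ g : G, g • a = c ∧ g • (t • a) = d := by
      obtain ⟨g, hg | hg⟩ := hset a (t • a) c d (Ne.symm ha) hcd
      · exact ⟨g, hg⟩
      · exact ⟨g * t, by rw [mul_smul, hg.2], by rw [mul_smul, hta, hg.1]⟩
    obtain ⟨h, hh⟩ : ∃ h : G, h • a = e ∧ h • (t • a) = f := by
      obtain ⟨h, hh | hh⟩ := hset a (t • a) e f (Ne.symm ha) hef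
      · exact ⟨h, hh⟩
      · exact ⟨h * t, by rw [mul_smul, hh.2], by rw [mul_smul, hta, hh.1]⟩
    refine ⟨h * g⁻¹, ?_, ?_⟩
    · rw [mul_smul, ← hg.1, inv_smul_smul, hh.1]
    · rw [mul_smul, ← hg.2, inv_smul_smul, hh.2]
  · obtain ⟨g₀, hg₀, hg₀1⟩ := G.ne_bot_iff_exists_ne_one.mp hne |> fun ⟨x, hx⟩ =>
      (⟨x.1, x.2, fun e => hx (Subtype.ext e)⟩ : ∃ y, y ∈ G ∧ y ≠ 1)
    obtain ⟨a₀, ha₀⟩ : ∃ a, g₀ a ≠ a := by
      by_contra hc
      push_neg at hc
      exact hg₀1 (Equiv.ext hc)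
    have : MulAction.IsPretransitive G α := by
      refine (MulAction.isPretransitive_iff_base a₀).mpr fun z => ?_
      rcases eq_or_ne z a₀ with rfl | hz
      · exact ⟨1, one_smul _ _⟩
      · obtain ⟨g, hg | hg⟩ := hset a₀ (g₀ a₀) a₀ z (Ne.symm ha₀) (Ne.symm hz)
        · exact ⟨g * ⟨g₀, hg₀⟩, by rw [mul_smul]; exact hg.2⟩
        · exact ⟨g, hg.1⟩
    constructor
    intro B hB
    rw [MulAction.IsTrivialBlock, or_iff_not_imp_left, Set.not_subsingleton_iff]
    rintro ⟨a, ha, b, hb, hab⟩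
    rw [MulAction.isBlock_iff_smul_eq_of_nonempty] at hB
    ext c
    simp only [Set.mem_univ, iff_true]
    rcases eq_or_ne c a with rfl | hca
    · exact ha
    · obtain ⟨g, hg | hg⟩ := hset a b a c hab (Ne.symm hca)
      · rw [← hB (g := g) ⟨a, ⟨a, ha, hg.1⟩, ha⟩]
        exact ⟨b, hb, hg.2⟩
      · rw [← hB (g := g) ⟨a, ⟨b, hb, hg.2⟩, ha⟩]
        exact ⟨a, ha, hg.1⟩

end Cfsg.Agent.S0735
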