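import Cfsg.Statements.S1248
import Cfsg.Agent.TwoFusionB.PSU34
import Cfsg.Agent.Classification.FourGroup
import Mathlib

/-!
# The Sylow 2-subgroup of `U₃(4)`
-/

set_option autoImplicit false
open Cfsg

namespace Cfsg.Agent.S1248

section
variable {G : Type*} [Group G]

theorem shape_facts (h : Cfsg.Agent.TwoFusionB.IsU34Shape G) :
    Nat.card G = 64 ∧ IsKleinFour (Subgroup.center G) ∧
      Subgroup.center G = Subgroup.closure {x : G | orderOf x = 2} ∧
      Subgroup.center G = commutator G ∧ Nat.card (G ⧸ Subgroup.center G) = 16 ∧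
      ∀ x : G ⧸ Subgroup.center G, x ^ 2 = 1 := by
  have hcomm := fun z hz => h.exists_commutator_eq (z := z) hz
  obtain ⟨hc, hZ, hsq, hinv, hZ2, -⟩ := h
  have hquot : ∀ x : G ⧸ Subgroup.center G, x ^ 2 = 1 := fun x => by
    obtain ⟨g, rfl⟩ := QuotientGroup.mk'_surjective _ x
    rw [← map_pow]
    exact (QuotientGroup.eq_one_iff _).2 (hsq g)
  refine ⟨hc, ?_, ?_, ?_, ?_, hquot⟩
  · rw [Cfsg.Agent.Classification.isKleinFour_iff]
    exact ⟨hZ, hZ2⟩
  · refine le_antisymm (fun z hz => ?_) ((Subgroup.closure_le _).2 fun x hx => hinv x ?_)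
    · by_cases hz1 : z = 1
      · rw [hz1]; exact one_mem _
      · exact Subgroup.subset_closure (orderOf_eq_prime (hp := ⟨Nat.prime_two⟩) (hZ2 z hz) hz1)
    · rw [← show orderOf x = 2 from hx, pow_orderOf_eq_one]
  · refine le_antisymm (fun z hz => ?_) ?_
    · obtain ⟨a, b, rfl⟩ := hcomm z hz
      exact Subgroup.commutator_mem_commutator (Subgroup.mem_top a) (Subgroup.mem_top b)
    · rw [commutator_def, Subgroup.commutator_le]
      intro a _ b _
      rw [← QuotientGroup.eq_one_iff]
      have key : ∀ x y : G ⧸ Subgroup.center G, x * y * x⁻¹ * y⁻¹ = 1 := fun x y => by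
        have hi : ∀ u : G ⧸ Subgroup.center G, u⁻¹ = u := fun u =>
          inv_eq_of_mul_eq_one_right (by rw [← sq]; exact hquot u)
        rw [hi x, hi y]
        have := hquot (x * y)
        rw [sq] at this
        simpa [mul_assoc] using this
      rw [commutatorElement_def, QuotientGroup.mk_mul, QuotientGroup.mk_mul, QuotientGroup.mk_mul,
        QuotientGroup.mk_inv, QuotientGroup.mk_inv]
      exact key _ _
  · have h2 := Subgroup.card_eq_card_quotient_mul_card_subgroup (Subgroup.center G)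
    rw [hc, hZ] at h2
    omega

end

/-- Let F be a field with 16 elements and S a Sylow 2-subgroup of PSU(3) over F (the unitary group U₃(4)). Then |S| = 64; the centre Z(S) is a Klein four-group and coincides with the subgroup generated by the involutions of S and with the derived subgroup; and every element of S ⧸ Z(S) squares to the identity, S ⧸ Z(S) having order 16. -/
theorem result {F : Type*} [Field F] [Fintype F] (hF : Fintype.card F = 16) (S : Sylow 2 (Cfsg.PSU 3 F 4)) : Nat.card S = 64 ∧ IsKleinFour (Subgroup.center (S : Subgroup (Cfsg.PSU 3 F 4))) ∧ Subgroup.center (S : Subgroup (Cfsg.PSU 3 F 4)) = Subgroup.closure {x : (S : Subgroup (Cfsg.PSU 3 F 4)) | orderOf x = 2} ∧ Subgroup.center (S : Subgroup (Cfsg.PSU 3 F 4)) = commutator (S : Subgroup (Cfsg.PSU 3 F 4)) ∧ Nat.card ((S : Subgroup (Cfsg.PSU 3 F 4)) ⧸ Subgroup.center (S : Subgroup (Cfsg.PSU 3 F 4))) = 16 ∧ ∀ x : (S : Subgroup (Cfsg.PSU 3 F 4)) ⧸ Subgroup.center (S : Subgroup (Cfsg.PSU 3 F 4)), x ^ 2 = 1 :=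
  shape_facts (Cfsg.Agent.TwoFusionB.isU34Shape_sylow (by rw [hF]; norm_num) S)

end Cfsg.Agent.S1248
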