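import Cfsg.Statements.S0877
import Cfsg.Agent.Lib.CharCore.Virtual
import Cfsg.Agent.Lib.CharCore.Linear
import Cfsg.Agent.Lib.CharInd.Brauer
import Cfsg.Agent.Lib.CharClifford.Galois
import Mathlib.GroupTheory.SchurZassenhaus

set_option autoImplicit false
open Cfsg

namespace Cfsg.Agent.S0877

open scoped ComplexConjugate
open Cfsg.Agent.CharCore

/-- Let H be a subgroup of the finite group G whose order is coprime to its index. Suppose that elements of H conjugate in G are conjugate in H, and that every subgroup E of G that is elementary for some prime (in the sense used for Brauer's characterisation of characters) and whose order divides the order of H is conjugate to a subgroup of H. Then there is a normal subgroup K with K ⊔ H = ⊤ and K ⊓ H trivial. -/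
theorem result {G : Type*} [Group G] [Finite G] (H : Subgroup G) (hHall : Nat.Coprime (Nat.card H) H.index) (hfus : ∀ x ∈ H, ∀ y ∈ H, IsConj x y → ∃ h ∈ H, h * x * h⁻¹ = y) (helem : ∀ (E : Subgroup G) (p : ℕ), p.Prime → Cfsg.IsElementary p E → Nat.card E ∣ Nat.card H → ∃ g : G, E.map (MulAut.conj g).toMonoidHom ≤ H) : ∃ K : Subgroup G, K.Normal ∧ K ⊔ H = ⊤ ∧ K ⊓ H = ⊥ := by
  classical
  haveI : Fintype G := Fintype.ofFinite G
  haveI : Fintype H := Fintype.ofFinite H
  have hG : Nat.card H * H.index = Nat.card G := H.card_mul_index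
  obtain ⟨m, hm1, hm0'⟩ := Nat.chineseRemainder hHall 1 0
  have hm0 : H.index ∣ m := Nat.modEq_zero_iff_dvd.mp hm0'
  have hfix : ∀ x : G, x ^ Nat.card H = 1 → x ^ m = x := by
    intro x hx
    conv_rhs => rw [← pow_one x]
    exact pow_eq_pow_iff_modEq.mpr (hm1.of_dvd (orderOf_dvd_of_pow_eq_one hx))
  have hfixH : ∀ x ∈ H, x ^ m = x := fun x hx =>
    hfix x (congrArg Subtype.val (pow_card_eq_one' (x := (⟨x, hx⟩ : H))))
  have hpi : ∀ x : G, (x ^ m) ^ Nat.card H = 1 := by
    intro x
    obtain ⟨t, rfl⟩ := hm0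
    rw [← pow_mul, show H.index * t * Nat.card H = Nat.card G * t by rw [← hG]; ring,
      pow_mul, pow_card_eq_one', one_pow]
  -- the partner in `H` of the `H`-part of an element
  have hex : ∀ g : G, ∃ h : H, IsConj (g ^ m) (h : G) := by
    intro g
    obtain ⟨p, hple, hp⟩ := Nat.exists_infinite_primes (orderOf (g ^ m) + 1)
    have hne : ¬ p ∣ orderOf (g ^ m) := fun hdvd => by
      have := Nat.le_of_dvd (orderOf_pos _) hdvd
      omega
    have hord : orderOf (⟨g ^ m, Subgroup.mem_zpowers _⟩ : Subgroup.zpowers (g ^ m))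
        = orderOf (g ^ m) := Subgroup.orderOf_mk (G := G) _ _
    have hE : IsElementary p (Subgroup.zpowers (g ^ m)) := by
      refine ⟨⟨g ^ m, Subgroup.mem_zpowers _⟩, ?_, ?_, 0, ?_⟩
      · exact Subgroup.mem_center_iff.mpr fun a => mul_comm' a _
      · rw [hord]; exact (Nat.Prime.coprime_iff_not_dvd hp).mpr hne |>.symm
      · rw [pow_zero, Subgroup.index_eq_one, eq_top_iff]
        intro a _
        obtain ⟨k, hk⟩ := Subgroup.mem_zpowers_iff.mp a.2
        exact Subgroup.mem_zpowers_iff.mpr ⟨k, Subtype.ext (by simpa using hk)⟩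
    obtain ⟨c, hc⟩ := helem _ p hp hE (by
      rw [Nat.card_zpowers]; exact orderOf_dvd_of_pow_eq_one (hpi g))
    exact ⟨⟨c * g ^ m * c⁻¹, hc ⟨g ^ m, Subgroup.mem_zpowers _, rfl⟩⟩, isConj_iff.mpr ⟨c, rfl⟩⟩
  choose hh hhh using hex
  have hfus' : ∀ f : H → ℂ, IsClassFunction H f → ∀ a b : H, IsConj (a : G) (b : G) → f a = f b := by
    intro f hf a b hab
    obtain ⟨h, hh', he⟩ := hfus a a.2 b b.2 hab
    rw [show b = (⟨h, hh'⟩ : H) * a * (⟨h, hh'⟩ : H)⁻¹ from Subtype.ext he.symm]
    exact (hf _ _).symm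
  have hval : ∀ f : H → ℂ, IsClassFunction H f → ∀ h : H, f (hh h) = f h := by
    intro f hf h
    have h1 := hhh (h : G)
    rw [hfixH _ h.2] at h1
    exact (hfus' f hf _ _ h1).symm
  have hcl : ∀ f : H → ℂ, IsClassFunction H f → IsClassFunction G fun g => f (hh g) := by
    intro f hf g x
    refine hfus' f hf _ _ ((hhh _).symm.trans ?_)
    refine IsConj.trans ?_ (hhh g)
    exact (isConj_iff.mpr ⟨x, by rw [conj_pow]⟩ : IsConj (g ^ m) ((x * g * x⁻¹) ^ m)).symm
  -- Brauer's characterisation
  have hgen : ∀ φ : IrrCharacter H, IsGeneralizedCharacter G fun g => (φ : H → ℂ) (hh g) := by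
    intro φ
    refine CharInd.isGeneralizedCharacter_of_elementary (hcl _ (irr_isClassFunction φ)) ?_
    intro E p hp hE
    have hhom : ∀ x y : E, (x * y) ^ m = x ^ m * y ^ m := by
      obtain ⟨z, hzc, hzp, k, hk⟩ := hE
      haveI : Fact p.Prime := ⟨hp⟩
      let P : Sylow p E := default
      have hE' : Nat.card E = orderOf z * p ^ k := by
        rw [← hk, ← Nat.card_zpowers z]; exact (Subgroup.card_mul_index _).symm
      have hP : Nat.card P = p ^ k := by
        rw [P.card_eq_multiplicity, hE',
          Nat.factorization_mul (orderOf_pos z).ne' (pow_ne_zero _ hp.ne_zero), Finsupp.add_apply,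
          Nat.factorization_eq_zero_of_not_dvd
            ((Nat.Prime.coprime_iff_not_dvd hp).mp hzp.symm), hp.factorization_pow,
          Finsupp.single_eq_same, zero_add]
      have hcompl : Subgroup.IsComplement' (Subgroup.zpowers z) (P : Subgroup E) := by
        refine Subgroup.isComplement'_of_coprime ?_ ?_
        · rw [Nat.card_zpowers, hE']; exact congrArg _ hP
        · rw [Nat.card_zpowers]; exact hP.symm ▸ Nat.Coprime.pow_right k hzp
      have hdvd : p ^ k ∣ Nat.card H * H.index := by
        rw [hG]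
        exact (dvd_mul_left _ _).trans (hE' ▸ E.card_subgroup_dvd_card)
      have hmulP : ∀ u v : E, u ∈ (P : Subgroup E) → v ∈ (P : Subgroup E) →
          (u * v) ^ m = u ^ m * v ^ m := by
        have hord : ∀ w : E, w ∈ (P : Subgroup E) → (w : G) ^ p ^ k = 1 := by
          intro w hw
          have h1 := congrArg (fun t : (P : Subgroup E) => ((t : E) : G))
            (pow_card_eq_one' (x := (⟨w, hw⟩ : (P : Subgroup E))))
          rw [hP] at h1
          simpa only [SubmonoidClass.coe_pow, OneMemClass.coe_one] using h1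
        intro u v hu hv
        by_cases hpH : p ∣ Nat.card H
        · have hcop : Nat.Coprime (p ^ k) H.index := Nat.Coprime.pow_left k
            (Nat.Coprime.coprime_dvd_left hpH hHall)
          obtain ⟨t, ht⟩ := hcop.dvd_of_dvd_mul_right hdvd
          have hw : ∀ w : E, w ∈ (P : Subgroup E) → w ^ m = w := fun w hw => Subtype.ext (by
            rw [SubmonoidClass.coe_pow]
            exact hfix _ (by rw [ht, pow_mul, hord w hw, one_pow]))
          rw [hw u hu, hw v hv, hw _ (mul_mem hu hv)]
        · have hcop : Nat.Coprime (p ^ k) (Nat.card H) := Nat.Coprime.pow_left k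
            ((Nat.Prime.coprime_iff_not_dvd hp).mpr hpH)
          obtain ⟨t, ht⟩ := (hcop.dvd_of_dvd_mul_left hdvd).trans hm0
          have hw : ∀ w : E, w ∈ (P : Subgroup E) → w ^ m = 1 := fun w hw => Subtype.ext (by
            rw [SubmonoidClass.coe_pow, ht, pow_mul, hord w hw, one_pow, OneMemClass.coe_one])
          rw [hw u hu, hw v hv, hw _ (mul_mem hu hv), one_mul]
      have hcen : ∀ c : Subgroup.zpowers z, ∀ a : E, Commute (c : E) a := fun c a =>
        (Subgroup.mem_center_iff.mp (Subgroup.zpowers_le.mpr hzc c.2) a).symm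
      intro x y
      obtain ⟨⟨c, u⟩, rfl⟩ := hcompl.2 x
      obtain ⟨⟨d, v⟩, rfl⟩ := hcompl.2 y
      dsimp only
      rw [show (c : E) * u * (d * v) = (c : E) * d * (u * v) by
        rw [mul_assoc, mul_assoc (c : E), ← mul_assoc (u : E), (hcen d u).symm.eq, mul_assoc],
        ((hcen c _).mul_left (hcen d _)).mul_pow, (hcen c _).mul_pow, hmulP u v u.2 v.2,
        (hcen c u).mul_pow, (hcen d v).mul_pow, mul_assoc, mul_assoc (_ ^ m),
        ← mul_assoc ((u : E) ^ m), (((hcen d u).symm).pow_pow m m).eq, mul_assoc]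
    let q : E →* G :=
      { toFun := fun x => (x : G) ^ m
        map_one' := by simp
        map_mul' := fun x y => by simpa using congrArg (Subtype.val) (hhom x y) }
    have hR : IsElementary p q.range := by
      obtain ⟨z, hzc, hzp, k, hk⟩ := hE
      refine ⟨q.rangeRestrict z, ?_, ?_, ?_⟩
      · refine Subgroup.mem_center_iff.mpr fun a => ?_
        obtain ⟨a, rfl⟩ := q.rangeRestrict_surjective a
        rw [← map_mul, Subgroup.mem_center_iff.mp hzc a, map_mul]
      · exact Nat.Coprime.coprime_dvd_left (orderOf_map_dvd _ _) hzp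
      · have h := Subgroup.index_map_dvd (Subgroup.zpowers z) q.rangeRestrict_surjective
        rw [MonoidHom.map_zpowers, hk, Nat.dvd_prime_pow hp] at h
        obtain ⟨j, -, hj⟩ := h
        exact ⟨j, hj⟩
    have hcard : Nat.card q.range ∣ Nat.card H := by
      refine Nat.Coprime.dvd_of_dvd_mul_right ?_ (hG ▸ q.range.card_subgroup_dvd_card)
      refine Nat.coprime_of_dvd fun r hr h1 h2 => ?_
      haveI : Fact r.Prime := ⟨hr⟩
      obtain ⟨w, hw⟩ := exists_prime_orderOf_dvd_card' r h1
      obtain ⟨w₀, hw₀⟩ := w.2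
      have h3 : orderOf w ∣ Nat.card H := by
        rw [← Subgroup.orderOf_coe, ← hw₀]
        exact orderOf_dvd_of_pow_eq_one (hpi _)
      rw [hw] at h3
      exact hr.not_dvd_one (hHall ▸ Nat.dvd_gcd h3 h2)
    obtain ⟨c, hc⟩ := helem q.range p hp hR hcard
    let ψ : E →* H := ((MulAut.conj c).toMonoidHom.comp q).codRestrict H fun x =>
      hc ⟨q x, ⟨x, rfl⟩, rfl⟩
    have heq : (fun e : E => (φ : H → ℂ) (hh (e : G))) = fun e => (φ : H → ℂ) (ψ e) :=
      funext fun e => hfus' _ (irr_isClassFunction φ) _ _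
        ((hhh _).symm.trans (isConj_iff.mpr ⟨c, rfl⟩))
    rw [heq]
    exact isGeneralized_comp (irr_isGeneralized φ) ψ
  -- the weights
  have hint : ∀ φ : IrrCharacter H, ∃ n : ℤ,
      ∑ g : G, (φ : H → ℂ) (hh g) = (n : ℂ) * Nat.card G := by
    intro φ
    obtain ⟨n, hn⟩ := IsGeneralizedCharacter.exists_classInner_eq_intCast (hgen φ)
      (isGeneralized_one (G := G))
    refine ⟨n, ?_⟩
    rw [← hn, classInner_def]
    simp only [Pi.one_apply, map_one, mul_one]
    rw [mul_comm, mul_inv_cancel_left₀ (Nat.cast_ne_zero.mpr Nat.card_pos.ne')]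
  let W : H → ℕ := fun y => ∑ g : G,
    if IsConj (hh g) y then Nat.card (Subgroup.centralizer ({hh g} : Set H)) else 0
  have hW : ∀ y : H, (W y : ℂ) = ∑ φ : IrrCharacter H,
      (∑ g : G, (φ : H → ℂ) (hh g)) * conj ((φ : H → ℂ) y) := by
    intro y
    simp only [W, Nat.cast_sum, Nat.cast_ite, Nat.cast_zero, Finset.sum_mul]
    rw [Finset.sum_comm]
    refine Finset.sum_congr rfl fun g _ => ?_
    rw [sum_apply_mul_conj]
    split_ifs <;> rfl
  have hWge : ∀ y : H, Nat.card G ≤ W y := by
    intro y
    have hpos : 0 < W y := by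
      have hy : IsConj (hh (y : G)) y := by
        obtain ⟨h, hh', he⟩ := hfus _ (hh (y : G)).2 _ y.2 (by
          have h1 := hhh (y : G)
          rw [hfixH _ y.2] at h1
          exact h1.symm)
        exact isConj_iff.mpr ⟨⟨h, hh'⟩, Subtype.ext he⟩
      refine lt_of_lt_of_le (Nat.card_pos (α := Subgroup.centralizer ({hh (y : G)} : Set H))) ?_
      refine le_trans (le_of_eq ?_) (Finset.single_le_sum (f := fun g : G => if IsConj (hh g) y then
        Nat.card (Subgroup.centralizer ({hh g} : Set H)) else 0) (fun _ _ => Nat.zero_le _)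
        (Finset.mem_univ (y : G)))
      exact (if_pos hy).symm
    choose n hn using hint
    have hint' : IsIntegral ℤ (((W y : ℚ) / Nat.card G : ℚ) : ℂ) := by
      have : (((W y : ℚ) / Nat.card G : ℚ) : ℂ) =
          ∑ φ : IrrCharacter H, (n φ : ℂ) * conj ((φ : H → ℂ) y) := by
        push_cast
        rw [hW y, div_eq_iff (Nat.cast_ne_zero.mpr Nat.card_pos.ne'), Finset.sum_mul]
        refine Finset.sum_congr rfl fun φ _ => ?_
        rw [hn φ]; ring
      rw [this]
      refine IsIntegral.sum _ fun φ _ => IsIntegral.mul ?_ ?_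
      · exact (map_intCast (algebraMap ℤ ℂ) _).symm ▸ isIntegral_algebraMap
      · exact (IsCharacter.isIntegral (irr_isCharacter φ) y).map
          ((starRingEnd ℂ).toIntAlgHom)
    obtain ⟨t, ht⟩ := CharClifford.exists_int_of_isIntegral_rat hint'
    have hGq : (0 : ℚ) < Nat.card G := Nat.cast_pos.mpr Nat.card_pos
    have htq : ((W y : ℚ) : ℚ) = t * Nat.card G := by
      rw [← ht, div_mul_cancel₀ _ hGq.ne']
    have htz : (W y : ℤ) = t * Nat.card G := by exact_mod_cast htq
    have : 0 < t := by nlinarith [(Nat.cast_pos (α := ℤ)).mpr hpos]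
    nlinarith
  have hsumφ : ∀ φ : IrrCharacter H, ∑ y : H, conj ((φ : H → ℂ) y) =
      if φ = ⟨1, isIrrCharacter_one⟩ then (Nat.card H : ℂ) else 0 := by
    intro φ
    have h := classInner_irr ⟨1, isIrrCharacter_one⟩ φ
    rw [classInner_def] at h
    simp only [Pi.one_apply, one_mul] at h
    rw [inv_mul_eq_iff_eq_mul₀ (Nat.cast_ne_zero.mpr Nat.card_pos.ne')] at h
    rw [h]
    simp only [eq_comm, mul_ite, mul_one, mul_zero]
  have hWsum : ∑ y : H, W y = Nat.card H * Nat.card G := by
    apply Nat.cast_injective (R := ℂ)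
    rw [Nat.cast_sum]
    simp only [hW]
    rw [Finset.sum_comm]
    simp only [← Finset.mul_sum, hsumφ, mul_ite, mul_zero]
    rw [Finset.sum_ite_eq' Finset.univ]
    simp [Nat.card_eq_fintype_card, mul_comm]
  have hWeq : ∀ y : H, W y = Nat.card G := by
    intro y
    have h := (Finset.sum_eq_sum_iff_of_le (fun y (_ : y ∈ Finset.univ) => hWge y)).mp (by
      rw [hWsum, Finset.sum_const, Finset.card_univ, smul_eq_mul, ← Nat.card_eq_fintype_card])
    exact (h y (Finset.mem_univ y)).symm
  have hLam : ∀ f : H → ℂ, IsClassFunction H f →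
      (Nat.card H : ℂ) * ∑ g : G, f (hh g) = (Nat.card G : ℂ) * ∑ y : H, f y := by
    intro f hf
    have e : ∀ g : G, (Nat.card H : ℂ) * f (hh g) =
        ∑ φ : IrrCharacter H, (∑ y : H, f y * conj ((φ : H → ℂ) y)) * (φ : H → ℂ) (hh g) := by
      intro g
      conv_lhs => rw [congrFun (eq_sum_classInner hf) (hh g)]
      simp only [Finset.sum_apply, Pi.smul_apply, smul_eq_mul, Finset.mul_sum, classInner_def]
      refine Finset.sum_congr rfl fun φ _ => ?_
      rw [Finset.sum_mul, Finset.sum_mul, Finset.mul_sum]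
      refine Finset.sum_congr rfl fun y _ => ?_
      field_simp
    rw [Finset.mul_sum, Finset.sum_congr rfl fun g _ => e g, Finset.sum_comm, Finset.mul_sum]
    simp only [Finset.sum_mul]
    rw [Finset.sum_congr rfl fun φ _ => Finset.sum_comm, Finset.sum_comm]
    refine Finset.sum_congr rfl fun y _ => ?_
    rw [← hWeq y, hW y, Finset.sum_mul]
    refine Finset.sum_congr rfl fun φ _ => ?_
    rw [Finset.sum_mul, Finset.sum_mul]
    exact Finset.sum_congr rfl fun g _ => by ring
  -- the extensions are irreducible characters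
  have hirr : ∀ φ : IrrCharacter H, IsIrrCharacter G fun g => (φ : H → ℂ) (hh g) := by
    intro φ
    refine IsGeneralizedCharacter.isIrr_of_norm_one (hgen φ) ?_ ?_
    · have hφn := classInner_irr_self φ
      rw [classInner_def, inv_mul_eq_iff_eq_mul₀ (Nat.cast_ne_zero.mpr Nat.card_pos.ne'),
        mul_one] at hφn
      have h := hLam (fun y => (φ : H → ℂ) y * conj ((φ : H → ℂ) y)) fun a b => by
        simp only [irr_isClassFunction φ a b]
      rw [hφn, mul_comm (Nat.card G : ℂ)] at h
      rw [classInner_def, mul_left_cancel₀ (Nat.cast_ne_zero.mpr Nat.card_pos.ne') h,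
        inv_mul_cancel₀ (Nat.cast_ne_zero.mpr Nat.card_pos.ne')]
    · have h1 : (φ : H → ℂ) (hh (1 : G)) = (φ : H → ℂ) 1 := by
        have h := hval _ (irr_isClassFunction φ) (1 : H)
        simpa using h
      obtain ⟨d, hd, hdeg⟩ := IsIrrCharacter.exists_degree φ.2
      simp only [h1, hdeg, Complex.natCast_re]
      exact_mod_cast hd
  let K : Subgroup G := ⨅ φ : IrrCharacter H,
    charKernel (IsIrrCharacter.isCharacter (hirr φ))
  haveI hKn : K.Normal := Subgroup.normal_iInf_normal fun φ => charKernel_normal _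
  have hh1 : hh 1 = 1 := by
    have h := hhh 1
    rw [one_pow, isConj_one_right] at h
    exact Subtype.ext h
  have hKmem : ∀ g : G, g ∈ K ↔ hh g = 1 := by
    intro g
    simp only [K, Subgroup.mem_iInf, mem_charKernel, hh1]
    rw [← isConj_iff_forall_irr, isConj_one_left]
  have hKH : K ⊓ H = ⊥ := by
    refine (Subgroup.eq_bot_iff_forall _).mpr fun x hx => ?_
    have h := hhh x
    rw [(hKmem x).mp hx.1, hfixH x hx.2, Subgroup.coe_one, isConj_one_left] at h
    exact h
  have hKcard : Nat.card K = H.index := by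
    have h := hWeq 1
    have hc : ∀ g : G, (if IsConj (hh g) 1 then
        Nat.card (Subgroup.centralizer ({hh g} : Set H)) else 0) =
        if hh g = 1 then Nat.card H else 0 := by
      intro g
      simp only [isConj_one_left]
      split_ifs with h1
      · rw [h1]
        exact Nat.card_congr ((Equiv.subtypeUnivEquiv fun x => by
          simp [Subgroup.mem_centralizer_singleton_iff]))
      · rfl
    simp only [W, hc] at h
    rw [← Finset.sum_filter, Finset.sum_const, smul_eq_mul, ← hG, mul_comm] at h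
    rw [← Nat.eq_of_mul_eq_mul_left Nat.card_pos h, Nat.card_eq_fintype_card,
      Fintype.card_of_subtype]
    intro g
    simp [hKmem g]
  have hcompl : Subgroup.IsComplement' K H := Subgroup.isComplement'_of_coprime
    (by rw [hKcard, mul_comm, hG]) (by rw [hKcard]; exact hHall.symm)
  exact ⟨K, hKn, hcompl.sup_eq_top, hKH⟩

end Cfsg.Agent.S0877
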