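import Cfsg.Statements.S2544
import Cfsg.Agent.GLFlag.UnipotentIrr
import Cfsg.Agent.Lib.CharInd.DefectZero
import Cfsg.Agent.Lib.LinearGroup.Card

set_option autoImplicit false
open Cfsg

namespace Cfsg.Agent.S2544

open Cfsg.Agent.GLFlag
open scoped ComplexConjugate

universe u

/-- permutation characters: inner products count orbits on pairs -/
theorem classInner_perm {G : Type*} [Group G] [Fintype G] {X Y : Type*} [MulAction G X] [MulAction G Y]
    [Finite X] [Finite Y] :
    Cfsg.classInner (fun g : G => (Nat.card (MulAction.fixedBy X g) : ℂ))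
        (fun g : G => (Nat.card (MulAction.fixedBy Y g) : ℂ)) =
      (Nat.card (MulAction.orbitRel.Quotient G (X × Y)) : ℂ) := by
  classical
  haveI := Fintype.ofFinite X
  haveI := Fintype.ofFinite Y
  have key := MulAction.sum_card_fixedBy_eq_card_orbits_mul_card_group G (X × Y)
  have hfix : ∀ g : G, Fintype.card (MulAction.fixedBy (X × Y) g) =
      Nat.card (MulAction.fixedBy X g) * Nat.card (MulAction.fixedBy Y g) := by
    intro g
    rw [← Nat.card_eq_fintype_card, ← Nat.card_prod]
    exact Nat.card_congr ((Equiv.subtypeEquivRight fun p => by simp [MulAction.mem_fixedBy, Prod.ext_iff]).trans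
      Equiv.subtypeProdEquivProd)
  rw [Finset.sum_congr rfl (fun g _ => hfix g), Fintype.card_eq_nat_card, Fintype.card_eq_nat_card] at key
  have key' : (∑ g : G, (Nat.card (MulAction.fixedBy X g) : ℂ) * (Nat.card (MulAction.fixedBy Y g) : ℂ)) =
      (Nat.card (MulAction.orbitRel.Quotient G (X × Y)) : ℂ) * (Nat.card G : ℂ) := by
    exact_mod_cast key
  simp only [Cfsg.classInner, map_natCast]
  rw [key', mul_comm, mul_assoc, mul_inv_cancel₀ (by exact_mod_cast Nat.card_pos.ne'), mul_one]

/-- the permutation character of a transitive action is a character -/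
theorem isCharacter_perm {G : Type*} [Group G] [Fintype G] {X : Type*} [MulAction G X] [MulAction.IsPretransitive G X]
    (x : X) : Cfsg.IsCharacter G (fun g : G => (Nat.card (MulAction.fixedBy X g) : ℂ)) := by
  convert isCharacter_fixedPointCharacter (MulAction.stabilizer G x) using 1
  funext g
  let e : G ⧸ MulAction.stabilizer G x ≃ X := (MulAction.orbitEquivQuotientStabilizer G x).symm.trans
    ((Equiv.setCongr (MulAction.orbit_eq_univ G x)).trans (Equiv.Set.univ X))
  have he : ∀ (a : G) (c : G ⧸ MulAction.stabilizer G x), e (a • c) = a • e c := by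
    intro a c
    induction c using QuotientGroup.induction_on with
    | H b =>
      show e ((a * b : G) : G ⧸ MulAction.stabilizer G x) = a • e ((b : G) : G ⧸ MulAction.stabilizer G x)
      show (((a * b : G) • x : X)) = a • (b • x)
      rw [mul_smul]
  show (Nat.card (MulAction.fixedBy X g) : ℂ) = Cfsg.fixedPointCharacter _ g
  rw [Cfsg.fixedPointCharacter, Nat.card_congr (e.subtypeEquiv
    (q := fun y => y ∈ MulAction.fixedBy X g) (p := fun c => c ∈ MulAction.fixedBy (G ⧸ MulAction.stabilizer G x) g)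
    fun c => by rw [MulAction.mem_fixedBy, MulAction.mem_fixedBy, ← he, e.apply_eq_iff_eq])]

/-- the product in the degree formula -/
theorem pair_prod (q : ℕ) : ∀ n : ℕ,
    (∏ i : Fin n, ∏ j ∈ Finset.Ioi i, ((qInt q (j.val + 1) : ℂ) - (qInt q (i.val + 1) : ℂ))) =
      (q : ℂ) ^ (n.choose 3 + n.choose 2) * ∏ j ∈ Finset.range n, (qFact q j : ℂ) := by
  have hrec : ∀ r : ℕ, (qInt q (r + 1) : ℂ) = 1 + (q : ℂ) * (qInt q r : ℂ) := by
    intro r
    simp [qInt, Finset.sum_range_succ', Finset.mul_sum, pow_succ']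
    ring
  intro n
  induction n with
  | zero => simp
  | succ n ih =>
    rw [Fin.prod_univ_succ, Fin.prod_Ioi_zero]
    simp only [Fin.prod_Ioi_succ, Fin.val_succ, Fin.val_zero]
    have h1 : ∏ j : Fin n, ((qInt q (j.val + 1 + 1) : ℂ) - (qInt q (0 + 1) : ℂ)) = (q : ℂ) ^ n * (qFact q n : ℂ) := by
      have : ∀ j : Fin n, (qInt q (j.val + 1 + 1) : ℂ) - (qInt q (0 + 1) : ℂ) = (q : ℂ) * (qInt q (j.val + 1) : ℂ) := by
        intro j
        rw [hrec (j.val + 1), hrec 0]
        simp [qInt]
      rw [Finset.prod_congr rfl (fun j _ => this j), Finset.prod_mul_distrib, Finset.prod_const, Finset.card_univ,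
        Fintype.card_fin, Fin.prod_univ_eq_prod_range (fun j => (qInt q (j + 1) : ℂ)), qFact, Nat.cast_prod]
    have h2 : ∏ i : Fin n, ∏ j ∈ Finset.Ioi i, ((qInt q (j.val + 1 + 1) : ℂ) - (qInt q (i.val + 1 + 1) : ℂ)) =
        (q : ℂ) ^ (n.choose 2) * ∏ i : Fin n, ∏ j ∈ Finset.Ioi i, ((qInt q (j.val + 1) : ℂ) - (qInt q (i.val + 1) : ℂ)) := by
      have : ∀ i j : Fin n, (qInt q (j.val + 1 + 1) : ℂ) - (qInt q (i.val + 1 + 1) : ℂ) =
          (q : ℂ) * ((qInt q (j.val + 1) : ℂ) - (qInt q (i.val + 1) : ℂ)) := by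
        intro i j
        rw [hrec (j.val + 1), hrec (i.val + 1)]
        ring
      simp only [this, Finset.prod_mul_distrib, Finset.prod_const, Fin.card_Ioi]
      rw [Finset.prod_pow_eq_pow_sum, Fin.sum_univ_eq_sum_range (fun i => n - 1 - i),
        Finset.sum_range_reflect (fun i => i), Finset.sum_range_id, Nat.choose_two_right]
    rw [h1, h2, ih, Finset.prod_range_succ, Nat.choose_succ_succ' n 2, Nat.choose_succ_succ' n 1, Nat.choose_one_right]
    ring

theorem choose_three (n : ℕ) : n * (n - 1) * (n - 2) / 6 = n.choose 3 := by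
  rw [Nat.choose_eq_descFactorial_div_factorial]
  congr 1
  simp [Nat.descFactorial]
  ring

theorem degree_eq {n : ℕ} {F : Type*} [Field F] [Fintype F] :
    Cfsg.unipotentCharacterGL n F (fun _ => 1) 1 = (Fintype.card F : ℂ) ^ n.choose 2 := by
  have h := unipotent_degree (F := F) (fun _ : Fin n => 1) (by simp)
  have hs : ∀ i : Fin n, shiftExp (fun _ : Fin n => 1) i = i.val + 1 := fun i => add_comm _ _
  simp only [hs] at h
  rw [pair_prod, choose_three, Fin.prod_univ_eq_prod_range (fun i => (qFact (Fintype.card F) (i + 1) : ℂ))] at h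
  set q := Fintype.card F with hq
  have hX : ∏ i ∈ Finset.range n, (qFact q (i + 1) : ℂ) = (qFact q n : ℂ) * ∏ i ∈ Finset.range n, (qFact q i : ℂ) := by
    have h1 := Finset.prod_range_succ' (fun i => (qFact q i : ℂ)) n
    have h2 := Finset.prod_range_succ (fun i => (qFact q i : ℂ)) n
    have h0 : (qFact q 0 : ℂ) = 1 := by simp [qFact]
    rw [h0, mul_one, h2] at h1
    rw [← h1]; ring
  have hne : (q : ℂ) ^ n.choose 3 * ((qFact q n : ℂ) * ∏ i ∈ Finset.range n, (qFact q i : ℂ)) ≠ 0 := by
    have hq0 : (q : ℂ) ≠ 0 := by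
      rw [hq]; exact_mod_cast Fintype.card_pos.ne'
    have hfact : ∀ r, (qFact q r : ℂ) ≠ 0 := fun r => by exact_mod_cast (qFact_pos r).ne'
    exact mul_ne_zero (pow_ne_zero _ hq0) (mul_ne_zero (hfact n) (Finset.prod_ne_zero_iff.mpr fun i _ => hfact i))
  refine mul_right_cancel₀ hne ?_
  rw [hX, pow_add] at h
  linear_combination h

/-- Let F be a finite field of characteristic p and consider the projective special linear group PSL_n(F) with n ≥ 2. This group has an irreducible complex character χ whose degree equals the order of a Sylow p-subgroup (namely q^(n(n−1)/2) when #F = q) and whose restriction to any Sylow p-subgroup P is the regular character of P: χ vanishes on the non-identity elements of P. (This is the Steinberg character.) -/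
theorem result {F : Type*} [Field F] [Fintype F] (p : ℕ) [Fact p.Prime] [CharP F p] (n : ℕ) (hn : 2 ≤ n) : ∃ χ : Matrix.ProjectiveSpecialLinearGroup (Fin n) F → ℂ, Cfsg.IsIrrCharacter (Matrix.ProjectiveSpecialLinearGroup (Fin n) F) χ ∧ ∀ P : Sylow p (Matrix.ProjectiveSpecialLinearGroup (Fin n) F), χ 1 = Nat.card P ∧ ∀ x : Matrix.ProjectiveSpecialLinearGroup (Fin n) F, x ∈ P → x ≠ 1 → χ x = 0 := by
  classical
  haveI : Fintype (Matrix.ProjectiveSpecialLinearGroup (Fin n) F) := Fintype.ofFinite _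
  let ν : Fin n → ℕ := fun _ => 1
  have hsum : ∑ i, ν i = n := by simp [ν]
  let P : Equiv.Perm (Fin n) → Subgroup (GL (Fin n) F) := fun κ => Cfsg.parabolicGL n F (altComp ν κ)
  let Xs : Equiv.Perm (Fin n) → Type _ := fun κ => GL (Fin n) F ⧸ P κ
  -- diagonal matrices
  let D : (Fin n → Fˣ) → GL (Fin n) F := fun d =>
    ⟨Matrix.diagonal fun i => (d i : F), Matrix.diagonal fun i => (((d i)⁻¹ : Fˣ) : F),
      by rw [Matrix.diagonal_mul_diagonal]; simp, by rw [Matrix.diagonal_mul_diagonal]; simp⟩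
  have hDmem : ∀ d κ, D d ∈ P κ := fun d κ => upper_le_parabolic _ (mem_upper.mpr fun i j hij =>
    Matrix.diagonal_apply_ne _ hij.ne')
  have hDdet : ∀ g : GL (Fin n) F, ∃ d : Fin n → Fˣ, ∃ s : Matrix.SpecialLinearGroup (Fin n) F,
      g = Matrix.SpecialLinearGroup.toGL s * D d ∧ d = Function.update (1 : Fin n → Fˣ) ⟨0, by omega⟩ (Matrix.GeneralLinearGroup.det g) := by
    intro g
    let d : Fin n → Fˣ := Function.update (1 : Fin n → Fˣ) ⟨0, by omega⟩ (Matrix.GeneralLinearGroup.det g)
    have hd : Matrix.GeneralLinearGroup.det (D d) = Matrix.GeneralLinearGroup.det g := by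
      ext
      show (Matrix.diagonal fun i => (d i : F)).det = _
      rw [Matrix.det_diagonal, Finset.prod_eq_single ⟨0, by omega⟩ (fun b _ hb => by simp [d, hb]) (by simp)]
      simp [d]
    refine ⟨d, ⟨((g * (D d)⁻¹ : GL (Fin n) F) : Matrix (Fin n) (Fin n) F), ?_⟩, ?_, rfl⟩
    · have : Matrix.GeneralLinearGroup.det (g * (D d)⁻¹) = 1 := by rw [map_mul, map_inv, hd, mul_inv_cancel]
      exact congrArg Units.val this
    · exact Units.ext (show (g : Matrix (Fin n) (Fin n) F) = ((g * (D d)⁻¹ : GL (Fin n) F) : Matrix (Fin n) (Fin n) F) * (D d : GL (Fin n) F) from by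
        rw [← Units.val_mul, inv_mul_cancel_right])
  -- centre acts trivially
  have hcen : ∀ κ, Subgroup.center (Matrix.SpecialLinearGroup (Fin n) F) ≤
      ((MulAction.toPermHom (GL (Fin n) F) (Xs κ)).comp Matrix.SpecialLinearGroup.toGL).ker := by
    intro κ z hz
    obtain ⟨r, -, hr⟩ := Matrix.SpecialLinearGroup.mem_center_iff.mp hz
    refine MonoidHom.mem_ker.mpr (Equiv.ext fun c => ?_)
    induction c using QuotientGroup.induction_on with
    | H g =>
      show ((Matrix.SpecialLinearGroup.toGL z * g : GL (Fin n) F) : Xs κ) = (g : Xs κ)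
      refine QuotientGroup.eq.mpr ?_
      have hcomm : (Matrix.SpecialLinearGroup.toGL z) * g = g * Matrix.SpecialLinearGroup.toGL z := Units.ext (by
        show z.1 * (g : Matrix (Fin n) (Fin n) F) = (g : Matrix (Fin n) (Fin n) F) * z.1
        rw [← hr]; exact (Matrix.scalar_commute r (fun r' => mul_comm r r') _).eq)
      rw [hcomm, mul_inv_rev, mul_assoc, inv_mul_cancel, mul_one]
      refine inv_mem (upper_le_parabolic _ (mem_upper.mpr fun i j hij => ?_))
      show z.1 i j = 0
      rw [← hr]; exact Matrix.diagonal_apply_ne _ hij.ne'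
  letI act : ∀ κ, MulAction (Matrix.ProjectiveSpecialLinearGroup (Fin n) F) (Xs κ) := fun κ =>
    MulAction.compHom _ (QuotientGroup.lift _ _ (hcen κ))
  have hsmul : ∀ κ (s : Matrix.SpecialLinearGroup (Fin n) F) (c : Xs κ),
      (s : Matrix.ProjectiveSpecialLinearGroup (Fin n) F) • c = Matrix.SpecialLinearGroup.toGL s • c := fun _ _ _ => rfl
  haveI : ∀ κ, MulAction.IsPretransitive (Matrix.ProjectiveSpecialLinearGroup (Fin n) F) (Xs κ) := fun κ => by
    refine (MulAction.isPretransitive_iff_base (G := Matrix.ProjectiveSpecialLinearGroup (Fin n) F) ((1 : GL (Fin n) F) : Xs κ)).mpr fun c => ?_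
    induction c using QuotientGroup.induction_on with
    | H g =>
      obtain ⟨d, s, hg, -⟩ := hDdet g
      refine ⟨s, ?_⟩
      rw [hsmul]
      show ((Matrix.SpecialLinearGroup.toGL s * 1 : GL (Fin n) F) : Xs κ) = (g : Xs κ)
      rw [mul_one, hg]
      exact QuotientGroup.eq.mpr (by rw [inv_mul_cancel_left]; exact hDmem d κ)
  -- orbits on pairs agree
  have horb : ∀ κ κ', Nat.card (MulAction.orbitRel.Quotient (Matrix.ProjectiveSpecialLinearGroup (Fin n) F) (Xs κ × Xs κ')) =
      Nat.card (MulAction.orbitRel.Quotient (GL (Fin n) F) (Xs κ × Xs κ')) := by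
    intro κ κ'
    refine Nat.card_congr (Quotient.congrRight fun p p' => ?_)
    show MulAction.orbitRel _ _ p p' ↔ MulAction.orbitRel _ _ p p'
    rw [MulAction.orbitRel_apply, MulAction.orbitRel_apply]
    constructor
    · rintro ⟨s, rfl⟩
      induction s using QuotientGroup.induction_on with
      | H s => exact ⟨Matrix.SpecialLinearGroup.toGL s, rfl⟩
    · rintro ⟨g, rfl⟩
      -- absorb the determinant into the stabiliser of the pair
      obtain ⟨a, b⟩ := p'
      induction a using QuotientGroup.induction_on with | H a =>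
      induction b using QuotientGroup.induction_on with | H b =>
      obtain ⟨σ, b₁, hb₁, b₂, hb₂, hbr⟩ := exists_bruhat (a⁻¹ * b)
      let c : Fin n → Fˣ := Function.update (1 : Fin n → Fˣ) ⟨0, by omega⟩ (Matrix.GeneralLinearGroup.det g)
      have hdetD : ∀ d : Fin n → Fˣ, Matrix.GeneralLinearGroup.det (D d) = ∏ i, d i := fun d => by
        ext
        show (Matrix.diagonal fun i => (d i : F)).det = _
        rw [Matrix.det_diagonal, Units.coe_prod]
      have hperm : ∀ d : Fin n → Fˣ, (permGL F σ)⁻¹ * D d * permGL F σ = D (fun j => d (σ j)) := fun d => by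
        rw [mul_assoc, inv_mul_eq_iff_eq_mul]
        ext i j
        show (Matrix.diagonal (fun i => (d i : F)) * permMat F σ) i j =
          (permMat F σ * Matrix.diagonal (fun j => (d (σ j) : F))) i j
        rw [Matrix.diagonal_mul, Matrix.mul_diagonal]
        simp only [permMat, Matrix.of_apply]
        by_cases h : σ j = i
        · rw [if_pos h, one_mul, mul_one, h]
        · rw [if_neg h, zero_mul, mul_zero]
      let k : GL (Fin n) F := (a * b₁) * D c * (a * b₁)⁻¹
      have hk : Matrix.GeneralLinearGroup.det k = Matrix.GeneralLinearGroup.det g := by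
        show Matrix.GeneralLinearGroup.det ((a * b₁) * D c * (a * b₁)⁻¹) = _
        rw [map_mul, map_mul, map_inv, mul_comm _ (Matrix.GeneralLinearGroup.det (D c)), mul_inv_cancel_right, hdetD,
          Finset.prod_eq_single ⟨0, by omega⟩ (fun i _ hi => by simp [c, hi]) (by simp)]
        simp [c]
      have hka : k • ((a : Xs κ), (b : Xs κ')) = ((a : Xs κ), (b : Xs κ')) := by
        refine Prod.ext ?_ ?_
        · show ((k * a : GL (Fin n) F) : Xs κ) = (a : Xs κ)
          refine (QuotientGroup.eq.mpr ?_).symm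
          rw [show a⁻¹ * (k * a) = b₁ * D c * b₁⁻¹ by show a⁻¹ * ((a * b₁) * D c * (a * b₁)⁻¹ * a) = _; group]
          exact mul_mem (mul_mem (upper_le_parabolic _ hb₁) (hDmem _ _)) (inv_mem (upper_le_parabolic _ hb₁))
        · show ((k * b : GL (Fin n) F) : Xs κ') = (b : Xs κ')
          refine (QuotientGroup.eq.mpr ?_).symm
          have hb : b = a * b₁ * permGL F σ * b₂ := by
            rw [show a * b₁ * permGL F σ * b₂ = a * (b₁ * permGL F σ * b₂) by group, ← hbr, mul_inv_cancel_left]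
          rw [show b⁻¹ * (k * b) = b₂⁻¹ * ((permGL F σ)⁻¹ * D c * permGL F σ) * b₂ by
            show b⁻¹ * ((a * b₁) * D c * (a * b₁)⁻¹ * b) = _
            rw [hb]; group, hperm]
          exact mul_mem (mul_mem (inv_mem (upper_le_parabolic _ hb₂)) (hDmem _ _)) (upper_le_parabolic _ hb₂)
      have hdet1 : Matrix.GeneralLinearGroup.det (g * k⁻¹) = 1 := by rw [map_mul, map_inv, hk, mul_inv_cancel]
      refine ⟨QuotientGroup.mk (⟨((g * k⁻¹ : GL (Fin n) F) : Matrix (Fin n) (Fin n) F), congrArg Units.val hdet1⟩ :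
        Matrix.SpecialLinearGroup (Fin n) F), ?_⟩
      have hs : Matrix.SpecialLinearGroup.toGL (⟨((g * k⁻¹ : GL (Fin n) F) : Matrix (Fin n) (Fin n) F),
          congrArg Units.val hdet1⟩ : Matrix.SpecialLinearGroup (Fin n) F) = g * k⁻¹ := Units.ext rfl
      show (Matrix.SpecialLinearGroup.toGL (⟨((g * k⁻¹ : GL (Fin n) F) : Matrix (Fin n) (Fin n) F),
          congrArg Units.val hdet1⟩ : Matrix.SpecialLinearGroup (Fin n) F)) • ((a : Xs κ), (b : Xs κ')) = g • ((a : Xs κ), (b : Xs κ'))
      rw [hs]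
      show (g * k⁻¹) • ((a : Xs κ), (b : Xs κ')) = g • ((a : Xs κ), (b : Xs κ'))
      conv_lhs => rw [← hka, ← mul_smul, inv_mul_cancel_right]
  let f : Equiv.Perm (Fin n) → Matrix.ProjectiveSpecialLinearGroup (Fin n) F → ℂ := fun κ x =>
    (Nat.card (MulAction.fixedBy (Xs κ) x) : ℂ)
  let χ : Matrix.ProjectiveSpecialLinearGroup (Fin n) F → ℂ := ∑ κ, (altSign ν κ : ℂ) • f κ
  have hχ1 : χ 1 = ((Fintype.card F ^ n.choose 2 : ℕ) : ℂ) := by
    rw [Nat.cast_pow, ← degree_eq (F := F) (n := n), show (fun _ : Fin n => 1) = ν from rfl, unipotent_eq_sum]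
    simp only [χ, Finset.sum_apply, Pi.smul_apply, f, Cfsg.fixedPointCharacter]
    refine Finset.sum_congr rfl fun κ _ => ?_
    rw [MulAction.fixedBy_one_eq_univ, MulAction.fixedBy_one_eq_univ]
  have hirr : Cfsg.IsIrrCharacter (Matrix.ProjectiveSpecialLinearGroup (Fin n) F) χ := by
    refine isIrr_of_norm_one (altSign ν) f (fun κ => isCharacter_perm ((1 : GL (Fin n) F) : Xs κ)) χ rfl ?_
      ⟨(Fintype.card F : ℝ) ^ n.choose 2, pow_pos (by exact_mod_cast Fintype.card_pos) _, by
        rw [hχ1]; push_cast; rfl⟩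
    haveI : Fintype (GL (Fin n) F) := Fintype.ofFinite _
    have hcell : ∀ κ κ', Cfsg.classInner (f κ) (f κ') =
        Cfsg.classInner (Cfsg.fixedPointCharacter (P κ)) (Cfsg.fixedPointCharacter (P κ')) := by
      intro κ κ'
      rw [classInner_perm, horb κ κ']
      exact (classInner_perm (G := GL (Fin n) F) (X := Xs κ) (Y := Xs κ')).symm
    rw [classInner_sum_sum]
    simp only [hcell]
    rw [← classInner_sum_sum, ← unipotent_eq_sum, classInner_unipotent (fun _ _ _ => le_rfl) hsum (fun _ _ _ => le_rfl) hsum,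
      if_pos rfl]
  refine ⟨χ, hirr, fun Q => ?_⟩
  obtain ⟨m, rfl⟩ : ∃ m, n = m + 1 := ⟨n - 1, by omega⟩
  obtain ⟨e, he, hq⟩ := FiniteField.card F p
  have hSL : Nat.card (Matrix.SpecialLinearGroup (Fin (m + 1)) F) =
      p ^ ((e : ℕ) * (m + 1).choose 2) * ∏ i ∈ Finset.range m, (Nat.card F ^ (i + 2) - 1) := by
    rw [Cfsg.Agent.LinearGroup.card_SL_eq_pow_mul_prod, Nat.card_eq_fintype_card, hq, ← pow_mul,
      Fin.sum_univ_eq_sum_range (fun i => i), Finset.sum_range_id, Nat.choose_two_right]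
  set r := ∏ i ∈ Finset.range m, (Nat.card F ^ (i + 2) - 1)
  have hpow : ∀ k : ℕ, 1 ≤ k → ¬ p ∣ Nat.card F ^ k - 1 := by
    intro k hk h
    have h1 : p ∣ Nat.card F ^ k := by
      rw [Nat.card_eq_fintype_card, hq, ← pow_mul]
      exact dvd_pow_self p (Nat.mul_ne_zero e.pos.ne' (by omega))
    have h2 : p ∣ 1 := by
      have := Nat.dvd_sub h1 h
      rwa [Nat.sub_sub_self (Nat.one_le_pow _ _ Nat.card_pos)] at this
    exact (Fact.out : p.Prime).not_dvd_one h2
  have hr : ¬ p ∣ r := by
    intro h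
    obtain ⟨i, -, hi⟩ := (Fact.out : p.Prime).prime.exists_mem_finset_dvd h
    exact hpow (i + 2) (by omega) hi
  obtain ⟨s, hs⟩ : ∃ s, Nat.card (Matrix.ProjectiveSpecialLinearGroup (Fin (m + 1)) F) = p ^ ((e : ℕ) * (m + 1).choose 2) * s ∧ s ∣ r := by
    have hmul := (Subgroup.center (Matrix.SpecialLinearGroup (Fin (m + 1)) F)).index_mul_card
    rw [hSL, Subgroup.index_eq_card] at hmul
    set c := Nat.card (Subgroup.center (Matrix.SpecialLinearGroup (Fin (m + 1)) F))
    have hc : ¬ p ∣ c := by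
      intro h
      obtain ⟨z, hz⟩ := exists_prime_orderOf_dvd_card' p h
      obtain ⟨t, ht, hzt⟩ := Matrix.SpecialLinearGroup.mem_center_iff.mp z.2
      have h1 : (z : Matrix.SpecialLinearGroup (Fin (m + 1)) F).1 ^ p = 1 := by
        rw [← Matrix.SpecialLinearGroup.coe_pow, ← Subgroup.coe_pow, ← hz, pow_orderOf_eq_one]; rfl
      rw [← hzt, ← map_pow] at h1
      have h2 : t ^ p = 1 := by simpa using congrFun (congrFun h1 0) 0
      have h3 : t = 1 := by
        have : (t - 1) ^ p = 0 := by rw [sub_pow_char, h2, one_pow, sub_self]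
        exact sub_eq_zero.mp (eq_zero_of_pow_eq_zero this)
      have h4 : z = 1 := Subtype.ext (Subtype.ext (by rw [← hzt, h3, map_one]; rfl))
      rw [h4, orderOf_one] at hz
      exact (Fact.out : p.Prime).one_lt.ne hz
    have hdvd : p ^ ((e : ℕ) * (m + 1).choose 2) ∣ Nat.card (Matrix.ProjectiveSpecialLinearGroup (Fin (m + 1)) F) :=
      (Nat.Coprime.pow_left _ ((Fact.out : p.Prime).coprime_iff_not_dvd.mpr hc)).dvd_of_dvd_mul_right ⟨r, hmul⟩
    obtain ⟨s, hs⟩ := hdvd
    refine ⟨s, hs, c, ?_⟩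
    have : p ^ ((e : ℕ) * (m + 1).choose 2) * (s * c) = p ^ ((e : ℕ) * (m + 1).choose 2) * r := by
      rw [← mul_assoc, ← hs]; exact hmul
    exact (Nat.eq_of_mul_eq_mul_left (pow_pos (Fact.out : p.Prime).pos _) this).symm
  have hsp : ¬ p ∣ s := fun h => hr (h.trans hs.2)
  have hQ : Nat.card Q = p ^ ((e : ℕ) * (m + 1).choose 2) := by
    rw [Q.card_eq_multiplicity, hs.1, Nat.factorization_mul (pow_ne_zero _ (Fact.out : p.Prime).ne_zero)
      (fun h => hsp (by rw [h]; exact dvd_zero p))]
    simp [(Fact.out : p.Prime).factorization_pow, Nat.factorization_eq_zero_of_not_dvd hsp]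
  refine ⟨by rw [hQ, hχ1, hq, ← pow_mul], fun x hx hx1 => ?_⟩
  refine Cfsg.Agent.CharInd.char_eq_zero_of_defect_zero hirr p _ 1 hs.1 hsp (by rw [hχ1, hq, ← pow_mul, mul_one]) x ?_
  obtain ⟨k, hk⟩ := IsPGroup.iff_orderOf.mp Q.2 ⟨x, hx⟩
  rw [Subgroup.orderOf_mk] at hk
  rw [hk]
  refine dvd_pow_self p fun h => hx1 ?_
  rw [h, pow_zero] at hk
  exact orderOf_eq_one_iff.mp hk

end Cfsg.Agent.S2544
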