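import Cfsg.Statements.S1250
-- import your own Cfsg.Agent.* helpers here

set_option autoImplicit false
open Cfsg

namespace Cfsg.Agent.S1250

/-- Let S be a Sylow p-subgroup of the finite group G, A ≤ S strongly closed in S, and N a normal subgroup. Then the image of A in G ⧸ N is strongly closed in the image of S (which is a Sylow p-subgroup of G ⧸ N). -/
theorem result {G : Type*} [Group G] [Finite G] {p : ℕ} [Fact p.Prime] (S : Sylow p G) (A : Subgroup G) (hA : Cfsg.IsStronglyClosed A (S : Subgroup G)) (N : Subgroup G) [N.Normal] : Cfsg.IsStronglyClosed (A.map (QuotientGroup.mk' N)) ((S : Subgroup G).map (QuotientGroup.mk' N)) := by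
  obtain ⟨hAS, hcl⟩ := hA
  refine ⟨Subgroup.map_mono hAS, ?_⟩
  rintro _ ⟨x, hx, rfl⟩ q hq
  obtain ⟨g, rfl⟩ := QuotientGroup.mk'_surjective N q
  rw [← map_inv, ← map_mul, ← map_mul] at hq ⊢
  have hmem : g * x * g⁻¹ ∈ (S : Subgroup G) ⊔ N := by
    rw [sup_comm, ← QuotientGroup.comap_map_mk' N (S : Subgroup G)]
    exact hq
  have hle : (S : Subgroup G) ≤ (S : Subgroup G) ⊔ N := le_sup_left
  let S' : Sylow p ↥((S : Subgroup G) ⊔ N) := S.subtype hle
  let w : ↥((S : Subgroup G) ⊔ N) := ⟨g * x * g⁻¹, hmem⟩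
  have hw : IsPGroup p (Subgroup.zpowers w) := by
    obtain ⟨k, hk⟩ := S.2 ⟨x, hAS hx⟩
    have hk' : x ^ (p ^ k) = 1 := by simpa using congrArg Subtype.val hk
    have hwk : w ^ (p ^ k) = 1 := by
      apply Subtype.ext
      simp [w, conj_pow, hk']
    have hd : Nat.card (Subgroup.zpowers w) ∣ p ^ k := by
      rw [Nat.card_zpowers]; exact orderOf_dvd_of_pow_eq_one hwk
    obtain ⟨i, -, hi⟩ := (Nat.dvd_prime_pow (Fact.out : p.Prime)).mp hd
    exact IsPGroup.of_card hi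
  obtain ⟨R, hR⟩ := hw.exists_le_sylow
  obtain ⟨h, hh⟩ := MulAction.exists_smul_eq ↥((S : Subgroup G) ⊔ N) S' R
  have hwR : w ∈ (R : Subgroup _) := hR (Subgroup.mem_zpowers w)
  rw [← hh, Sylow.coe_subgroup_smul] at hwR
  obtain ⟨y, hy, hyw⟩ := hwR
  have hyS : (y : G) ∈ (S : Subgroup G) := hy
  have hy' : (h : G) * (y : G) * (h : G)⁻¹ = g * x * g⁻¹ := congrArg Subtype.val hyw
  obtain ⟨n, hn, s, hs, hns⟩ : ∃ n ∈ N, ∃ s ∈ (S : Subgroup G), n * s = (h : G) := by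
    have := h.2
    simpa only [sup_comm (S : Subgroup G) N, Subgroup.mem_sup_of_normal_left] using this
  have h3 : (n⁻¹ * g) * x * (n⁻¹ * g)⁻¹ = s * (y : G) * s⁻¹ := by
    rw [show (n⁻¹ * g) * x * (n⁻¹ * g)⁻¹ = n⁻¹ * (g * x * g⁻¹) * n by group, ← hy', ← hns]
    group
  have hA' := hcl x hx (n⁻¹ * g) (by
    rw [h3]; exact mul_mem (mul_mem hs hyS) (inv_mem hs))
  refine ⟨(n⁻¹ * g) * x * (n⁻¹ * g)⁻¹, hA', ?_⟩
  simp [(QuotientGroup.eq_one_iff n).mpr hn]

end Cfsg.Agent.S1250
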