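import Cfsg.Statements.S3776
import Cfsg.Agent.LocalEvenD.STwo.ClassTwo
import Cfsg.Agent.LocalEvenD.STwo.Setup
import Cfsg.Agent.Lib.PGroup.Basic

set_option autoImplicit false
open Cfsg

namespace Cfsg.Agent.S3776

open scoped commutatorElement

/-- Let G be a finite non-abelian 2-group with more than one involution admitting a solvable group of automorphisms that permutes its involutions transitively. Then the derived subgroup, the Frattini subgroup and the centre of G coincide and consist exactly of the elements x with x² = 1. -/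
theorem result {G : Type*} [Group G] [Finite G] (hG : IsPGroup 2 G) (hna : ¬ IsMulCommutative G) (htwo : ∃ x y : G, x ≠ y ∧ x ≠ 1 ∧ x ^ 2 = 1 ∧ y ≠ 1 ∧ y ^ 2 = 1) (hY : ∃ Y : Subgroup (MulAut G), Group.IsSolvable Y ∧ ∀ x y : G, x ≠ 1 → x ^ 2 = 1 → y ≠ 1 → y ^ 2 = 1 → ∃ a ∈ Y, a x = y) : commutator G = frattini G ∧ frattini G = Subgroup.center G ∧ ∀ x : G, x ∈ Subgroup.center G ↔ x ^ 2 = 1 := by
  have : Fact (Nat.Prime 2) := ⟨Nat.prime_two⟩
  obtain ⟨Y, hsol, hY⟩ := hY
  obtain ⟨F, _, _, _, fr, u0, hu0⟩ := LocalEvenD.STwo.exists_frame hG Y hsol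
    (by simpa only [pow_two] using htwo) (by simpa only [pow_two] using hY)
  have hnc : ∃ x y : G, x * y ≠ y * x := by
    by_contra h
    push Not at h
    exact hna ⟨⟨h⟩⟩
  have hiff : ∀ z : G, z ∈ Subgroup.center G ↔ z ^ 2 = 1 := fun z => by
    rw [pow_two]; exact fr.mem_center_iff_sq hG hnc hu0
  have hup : ∀ x : G, x * x ∈ Subgroup.center G ∧ ∀ g, ⁅x, g⁆ ∈ Subgroup.center G := fun x =>
    LocalEvenD.STwo.mem_upperSub.1 (fr.class_two hG hnc hu0 ▸ Subgroup.mem_top x)
  have hcle : commutator G ≤ Subgroup.center G := by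
    rw [commutator_def]
    exact Subgroup.commutator_le.2 fun a _ b _ => (hup a).2 b
  have hfle : frattini G ≤ Subgroup.center G :=
    PGroup.frattini_le_of_quotient hcle fun x => (pow_two x).symm ▸ (hup x).1
  have hcf : commutator G ≤ frattini G := PGroup.commutator_le_frattini hG
  have hzc : Subgroup.center G ≤ commutator G := by
    intro z hz
    have hz2 : z * z = 1 := fr.center_sq hG hnc hu0 z hz
    have hinv : fr.Inv (commutator G : Set G) := by
      intro g _ x hx
      have h1 : g x ∈ (commutator G).map (g : G →* G) := ⟨x, hx, rfl⟩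
      rw [commutator_def, Subgroup.map_commutator] at h1
      rw [SetLike.mem_coe, commutator_def]
      exact Subgroup.commutator_mono le_top le_top h1
    have hne : commutator G ≠ ⊥ := by
      intro h
      obtain ⟨x, y, hxy⟩ := hnc
      have h1 : ⁅x, y⁆ ∈ commutator G := by
        rw [commutator_def]
        exact Subgroup.commutator_mem_commutator (Subgroup.mem_top x) (Subgroup.mem_top y)
      rw [h, Subgroup.mem_bot] at h1
      exact hxy (commutatorElement_eq_one_iff_mul_comm.1 h1)
    rw [← fr.emb_log hz2]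
    exact fr.emb_mem hG hinv hne _
  exact ⟨le_antisymm hcf (hfle.trans hzc), le_antisymm hfle (hzc.trans hcf), hiff⟩

end Cfsg.Agent.S3776
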