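import Cfsg.Statements.S5241
import Cfsg.Agent.Fusion92.FactorFree
import Cfsg.Agent.Lib.Fusion.Subsystem
import Cfsg.Agent.LocalEven61.Involves

set_option autoImplicit false
open Cfsg

namespace Cfsg.Agent.S5241

/-- Let F be a saturated fusion system over a finite p-group S, Q a subgroup of S normal in F (so F is the normalizer system of Q), and suppose F is Qd(p)-free (Qd(p) is not involved in any model of the normalizer system of a fully normalized centric subgroup). Then every factor system F/Q is Qd(p)-free. -/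
theorem result {Ω : Type*} [Group Ω] {S : Subgroup Ω} [Finite S] (p : ℕ) [Fact p.Prime] (hS : IsPGroup p S) (F : Cfsg.FusionSystem S) (hF : F.IsSaturated p) (Q : Subgroup Ω) (hQ : F.IsNormal Q) (hfree : F.IsSectionFree p ↥(Cfsg.qd p)) {Ω' : Type*} [Group Ω'] {S' : Subgroup Ω'} (θ : ↥S →* Ω') (E : Cfsg.FusionSystem S') (hE : F.IsFactorSystem Q θ E) : E.IsSectionFree p ↥(Cfsg.qd p) := by
  intro U' _ hUC N hN M _ κ' hM hinv
  obtain ⟨W, L, hG, ι, hWN, hWC, h, K, hK, j, hj⟩ :=
    Fusion92.exists_factor_section hS hF hQ hE hUC hN hM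
  have hNW := Fusion.isNormalizerSystem_normalizerSystem (F := F) W hWC.1
  refine hfree W hWN hWC _ hNW L ι (h.isModel hS hNW) (LocalEven61.involves_of_quotient K ?_)
  exact LocalEven61.involves_trans hinv
    (LocalEven61.involves_of_hom (MonoidHom.id M) (fun x => ⟨x, rfl⟩) j hj)

end Cfsg.Agent.S5241
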