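import Cfsg.Statements.S5045
import Cfsg.Agent.Lib.RootSubgroups.Involutions
import Cfsg.Agent.Lib.Involution.BaerSuzuki
-- import your own Cfsg.Agent.* helpers here

set_option autoImplicit false
open Cfsg

namespace Cfsg.Agent.S5045

/-- Let G be a finite group generated by a set D of root involutions, and W the set of members of D whose product with every other member of D has even order or is trivial (the isolated vertices of the odd-order-product graph on D). Then W is conjugation-invariant and generates a normal 2-subgroup of G meeting D in exactly W; the commutator of two members of D lying in different connected components of that graph, each with more than one member, lies in the subgroup generated by W; and for a in such a component, every member of D commuting with a, different from a and with product with a in D, lies in that component or in W. -/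
theorem result {G : Type*} [Group G] [Finite G] {D : Set G} (hD : Cfsg.IsRootInvolutionSet D) :
    (∀ w ∈ {w | Cfsg.IsIsolatedElem (Cfsg.OddAdj D) D w}, ∀ g : G, g * w * g⁻¹ ∈ {w | Cfsg.IsIsolatedElem (Cfsg.OddAdj D) D w}) ∧
    (Subgroup.closure {w | Cfsg.IsIsolatedElem (Cfsg.OddAdj D) D w}).Normal ∧
    IsPGroup 2 ↥(Subgroup.closure {w | Cfsg.IsIsolatedElem (Cfsg.OddAdj D) D w}) ∧
    (Subgroup.closure {w | Cfsg.IsIsolatedElem (Cfsg.OddAdj D) D w} : Set G) ∩ D = {w | Cfsg.IsIsolatedElem (Cfsg.OddAdj D) D w} ∧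
    (∀ a ∈ D, ∀ b ∈ D, (∃ a' ∈ Cfsg.elemComponentOf (Cfsg.OddAdj D) D a, a' ≠ a) →
      (∃ b' ∈ Cfsg.elemComponentOf (Cfsg.OddAdj D) D b, b' ≠ b) →
      Cfsg.elemComponentOf (Cfsg.OddAdj D) D a ≠ Cfsg.elemComponentOf (Cfsg.OddAdj D) D b →
        a * b * a⁻¹ * b⁻¹ ∈ Subgroup.closure {w | Cfsg.IsIsolatedElem (Cfsg.OddAdj D) D w}) ∧
    (∀ a ∈ D, (∃ a' ∈ Cfsg.elemComponentOf (Cfsg.OddAdj D) D a, a' ≠ a) →
      Cfsg.productPartners D a ⊆ Cfsg.elemComponentOf (Cfsg.OddAdj D) D a ∪ {w | Cfsg.IsIsolatedElem (Cfsg.OddAdj D) D w}) := by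
  open Cfsg.Agent.RootSubgroups.RootInv in
  obtain ⟨W, hW⟩ : ∃ W, W = {w | Cfsg.IsIsolatedElem (Cfsg.OddAdj D) D w} := ⟨_, rfl⟩
  rw [← hW]
  have hWconj : ∀ g w : G, w ∈ W → g * w * g⁻¹ ∈ W := by
    intro g w hw
    subst hW
    refine isolated_of_no_partner hD (hD.conj_mem w hw.1 g) fun b hb => ?_
    have h := oddAdj_conj hD g⁻¹ hb
    rw [show g⁻¹ * (g * w * g⁻¹) * g⁻¹⁻¹ = w by group] at h
    exact (hw.2 _).1 h
  have hpgroup : IsPGroup 2 ↥(Subgroup.closure W) := by
    refine Involution.baerSuzuki_set W hWconj fun x hx y hy => ?_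
    subst hW
    have hx2 := hD.orderOf_eq x hx.1
    have hy2 := hD.orderOf_eq y hy.1
    intro g
    obtain ⟨k, hk⟩ := (Involution.mem_closure_pair_involutions (mul_self hD hx.1) (mul_self hD hy.1)).1 g.2
    have h4 : (x * y) ^ 4 = 1 := by
      rcases hD.pair x hx.1 y hy.1 with h | h | ⟨h, -⟩
      · rw [show 4 = 2 * 2 from rfl, pow_mul, sq_of_comm hD hx.1 hy.1 h, one_pow]
      · rcases eq_or_ne x y with rfl | hne
        · rw [mul_self hD hx.1, one_pow]
        · exact absurd ⟨hx.1, hy.1, hne, h⟩ (hx.2 y).1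
      · exact h ▸ pow_orderOf_eq_one _
    refine ⟨2, Subtype.ext ?_⟩
    push_cast
    rcases hk with hk | hk
    · rw [hk, ← zpow_natCast ((x * y) ^ k), ← zpow_mul, mul_comm k, zpow_mul, zpow_natCast,
        h4, one_zpow]
    · rw [hk, show (4 : ℕ) = 2 * 2 from rfl, pow_mul, pow_two (x * (x * y) ^ k),
        Involution.left_mul_zpow_sq (mul_self hD hx.1) (mul_self hD hy.1), one_pow]
  have hnormal : (Subgroup.closure W).Normal := by
    refine ⟨fun n hn g => ?_⟩
    induction hn using Subgroup.closure_induction with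
    | mem x hx => exact Subgroup.subset_closure (hWconj g x hx)
    | one => simp
    | mul x y _ _ hx hy => simpa [mul_assoc] using mul_mem hx hy
    | inv x _ hx => simpa [mul_assoc] using inv_mem hx
  have hinter : (Subgroup.closure W : Set G) ∩ D = W := by
    refine Set.Subset.antisymm ?_ fun w hw => ⟨Subgroup.subset_closure hw, (hW ▸ hw : _).1⟩
    rintro d ⟨hd, hdD⟩
    rw [hW]
    refine isolated_of_no_partner hD hdD fun e he => ?_
    obtain ⟨k, hk⟩ := Involution.exists_conj_of_odd (mul_self hD hdD) (mul_self hD he.2.1) he.2.2.2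
    have hem : e ∈ Subgroup.closure W := hk ▸ hnormal.conj_mem d hd _
    obtain ⟨n, hn⟩ := hpgroup ⟨d * e, mul_mem hd hem⟩
    have h1 : orderOf (d * e) ∣ 2 ^ n := orderOf_dvd_of_pow_eq_one (congrArg Subtype.val hn)
    obtain ⟨m, -, hm⟩ := (Nat.dvd_prime_pow Nat.prime_two).1 h1
    rcases m with _ | m
    · exact he.2.2.1 (eq_of_orderOf_one hD hdD (by rw [hm, pow_zero]))
    · exact Nat.not_odd_iff_even.2 (by rw [hm, pow_succ]; exact even_two.mul_left _) he.2.2.2
  have nontriv : ∀ a ∈ D, (∃ a' ∈ Cfsg.elemComponentOf (Cfsg.OddAdj D) D a, a' ≠ a) →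
      ∃ b, Cfsg.OddAdj D a b := by
    rintro a - ⟨a', ⟨-, ha'⟩, hne⟩
    rcases ha'.cases_head with h | ⟨c, hc, -⟩
    · exact absurd h.symm hne
    · exact ⟨c, hc⟩
  have hlast : ∀ a ∈ D, (∃ a' ∈ Cfsg.elemComponentOf (Cfsg.OddAdj D) D a, a' ≠ a) →
      Cfsg.productPartners D a ⊆ Cfsg.elemComponentOf (Cfsg.OddAdj D) D a ∪ W := by
    intro a ha hn e he
    obtain ⟨⟨heD, hea, hne⟩, hprod⟩ := he
    by_cases h : Cfsg.IsIsolatedElem (Cfsg.OddAdj D) D e
    · exact Or.inr (hW ▸ h)
    obtain ⟨x, hx⟩ := exists_partner hD heD h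
    obtain ⟨y, hy⟩ := nontriv a ha hn
    exact Or.inl ⟨heD, linked_of_triple hD ha heD hea.symm (hea ▸ hprod) hx hy⟩
  refine ⟨fun w hw g => hWconj g w hw, hnormal, hpgroup, hinter, fun a ha b hb hna hnb hne => ?_, hlast⟩
  by_cases hc : a * b = b * a
  · rw [hc, mul_assoc b, mul_inv_cancel, mul_one, mul_inv_cancel]; exact one_mem _
  have hnodd : ¬ Odd (orderOf (a * b)) := by
    intro h
    refine hne ?_
    have hl : Relation.ReflTransGen (Cfsg.OddAdj D) a b :=
      Relation.ReflTransGen.single ⟨ha, hb, fun e => hc (by rw [e]), h⟩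
    ext z
    exact ⟨fun hz => ⟨hz.1, (linked_symm hD hl).trans hz.2⟩, fun hz => ⟨hz.1, hl.trans hz.2⟩⟩
  obtain ⟨h4, hmem⟩ := four_of hD ha hb hc hnodd
  have e : a * b * a⁻¹ * b⁻¹ = (a * b) ^ 2 := by
    rw [inv_eq hD ha, inv_eq hD hb, pow_two]; simp only [mul_assoc]
  rw [e]
  have key : ∀ u v : G, u ∈ D → v ∈ D → orderOf (u * v) = 4 → (u * v) ^ 2 ∈ D →
      (u * v) ^ 2 ∈ Cfsg.productPartners D u := by
    intro u v hu hv h4 hm
    have hcc := commute_conj_of_four hD hu hv h4
    have e1 : (u * v) ^ 2 = u * (v * u * v) := by rw [pow_two]; simp only [mul_assoc]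
    have e2 : (u * v) ^ 2 * u = v * u * v := by
      rw [e1, mul_assoc u, ← hcc, ← mul_assoc u u, mul_self hD hu, one_mul]
    refine ⟨⟨hm, ?_, fun h => ?_⟩, ?_⟩
    · rw [e1, mul_assoc u, ← hcc]
    · rw [h, mul_self hD hu] at e2
      have := hD.conj_mem u hu v
      rw [inv_eq hD hv] at this
      exact ne_one hD this e2.symm
    · rw [e2]
      have := hD.conj_mem u hu v
      rwa [inv_eq hD hv] at this
  have e3 : (b * a) ^ 2 = (a * b) ^ 2 := by
    have h : (a * b) ^ 4 = 1 := h4 ▸ pow_orderOf_eq_one _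
    rw [show b * a = (a * b)⁻¹ by rw [mul_inv_rev, inv_eq hD ha, inv_eq hD hb], inv_pow]
    exact inv_eq_of_mul_eq_one_right (by rw [← pow_add]; exact h)
  have k1 := hlast a ha hna (key a b ha hb h4 hmem)
  have h4' : orderOf (b * a) = 4 := by
    rw [show b * a = (a * b)⁻¹ by rw [mul_inv_rev, inv_eq hD ha, inv_eq hD hb], orderOf_inv, h4]
  have k2 := hlast b hb hnb (key b a hb ha h4' (e3.symm ▸ hmem))
  rw [e3] at k2
  rcases k1 with k1 | k1
  · rcases k2 with k2 | k2
    · exfalso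
      apply hne
      have hl : Relation.ReflTransGen (Cfsg.OddAdj D) a b := k1.2.trans (linked_symm hD k2.2)
      ext z
      exact ⟨fun hz => ⟨hz.1, (linked_symm hD hl).trans hz.2⟩, fun hz => ⟨hz.1, hl.trans hz.2⟩⟩
    · exact Subgroup.subset_closure k2
  · exact Subgroup.subset_closure k1

end Cfsg.Agent.S5045
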