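import Cfsg.Statements.S0014
import Cfsg.Agent.Lib.PGroup.Basic

set_option autoImplicit false
open Cfsg

namespace Cfsg.Agent.S0014

/-- Burnside's basis Theorem: in a finite p-group whose Frattini quotient has order p ^ n, every generating set contains n elements that already generate, and no set with fewer than n elements generates. -/
theorem result {G : Type*} [Group G] [Finite G] (p n : ℕ) [Fact p.Prime]
    (hG : IsPGroup p G) (hn : (frattini G).index = p ^ n) :
    (∀ S : Finset G, Subgroup.closure (S : Set G) = ⊤ → ∃ T : Finset G, T ⊆ S ∧ T.card = n ∧ Subgroup.closure (T : Set G) = ⊤) ∧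
    (∀ T : Finset G, Subgroup.closure (T : Set G) = ⊤ → n ≤ T.card) := by
  classical
  let q := QuotientGroup.mk' (frattini G)
  have hV : Nat.card (G ⧸ frattini G) = p ^ n := hn
  have hnormal : ∀ H : Subgroup (G ⧸ frattini G), H.Normal := fun H => ⟨fun x hx g => by
    rw [(PGroup.quotient_frattini_commute hG g x).eq]; simpa using hx⟩
  -- adding one element multiplies the order by at most `p`
  have hstep : ∀ (H : Subgroup (G ⧸ frattini G)) (v : G ⧸ frattini G),
      Nat.card (H ⊔ Subgroup.zpowers v : Subgroup (G ⧸ frattini G)) ≤ p * Nat.card H ∧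
      (v ∉ H → Nat.card (H ⊔ Subgroup.zpowers v : Subgroup (G ⧸ frattini G)) = p * Nat.card H) := by
    intro H v
    haveI := hnormal H
    by_cases hv : v ∈ H
    · rw [sup_eq_left.mpr (Subgroup.zpowers_le.mpr hv)]
      exact ⟨Nat.le_mul_of_pos_left _ (Fact.out : p.Prime).pos, fun h => absurd hv h⟩
    · have hord : orderOf v = p := orderOf_eq_prime (PGroup.quotient_frattini_pow hG v)
        (fun h => hv (h ▸ one_mem _))
      have hinf : H.relIndex (Subgroup.zpowers v) = p := by
        rcases ((Fact.out : p.Prime).eq_one_or_self_of_dvd _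
          (hord ▸ Nat.card_zpowers v ▸ Subgroup.index_dvd_card _ :
            H.relIndex (Subgroup.zpowers v) ∣ p)) with h | h
        · exact absurd (Subgroup.relIndex_eq_one.mp h (Subgroup.mem_zpowers v)) hv
        · exact h
      have he : Nat.card (H ⊔ Subgroup.zpowers v : Subgroup (G ⧸ frattini G)) = p * Nat.card H := by
        rw [sup_comm, ← Subgroup.card_mul_index (H.subgroupOf (Subgroup.zpowers v ⊔ H)),
          Nat.card_congr (Subgroup.subgroupOfEquivOfLe le_sup_right).toEquiv, mul_comm]
        congr 1
        show H.relIndex (Subgroup.zpowers v ⊔ H) = p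
        rw [Subgroup.relIndex_sup_right, hinf]
      exact ⟨he.le, fun _ => he⟩
  have hins : ∀ (t : G) (T : Finset G), (Subgroup.closure ((insert t T : Finset G) : Set G)).map q =
      (Subgroup.closure (T : Set G)).map q ⊔ Subgroup.zpowers (q t) := by
    intro t T
    rw [Finset.coe_insert, Set.insert_eq, Subgroup.closure_union, Subgroup.map_sup,
      ← Subgroup.zpowers_eq_closure, MonoidHom.map_zpowers, sup_comm]
  have hle : ∀ T : Finset G, Nat.card ((Subgroup.closure (T : Set G)).map q) ≤ p ^ T.card := by
    intro T
    induction T using Finset.induction with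
    | empty => simp
    | insert t T ht IH =>
      rw [hins, Finset.card_insert_of_notMem ht, pow_succ']
      exact (hstep _ _).1.trans (Nat.mul_le_mul_left p IH)
  have htop : ∀ T : Finset G, Subgroup.closure (T : Set G) = ⊤ ↔
      (Subgroup.closure (T : Set G)).map q = ⊤ := by
    intro T
    refine ⟨fun h => by rw [h, Subgroup.map_top_of_surjective q (QuotientGroup.mk'_surjective _)],
      fun h => frattini_nongenerating ?_⟩
    have := congrArg (Subgroup.comap q) h
    rwa [Subgroup.comap_map_eq, Subgroup.comap_top, QuotientGroup.ker_mk'] at this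
  refine ⟨fun S hS => ?_, fun T hT => ?_⟩
  · obtain ⟨T, hTmin⟩ := (S.powerset.filter fun T : Finset G =>
      Subgroup.closure (T : Set G) = ⊤).exists_minimal
      ⟨S, Finset.mem_filter.mpr ⟨Finset.mem_powerset_self S, hS⟩⟩
    have hTS : T ⊆ S := Finset.mem_powerset.mp (Finset.mem_filter.mp hTmin.1).1
    have hT : Subgroup.closure (T : Set G) = ⊤ := (Finset.mem_filter.mp hTmin.1).2
    have hindep : ∀ U : Finset G, U ⊆ T → Nat.card ((Subgroup.closure (U : Set G)).map q) = p ^ U.card := by
      intro U
      induction U using Finset.induction with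
      | empty => simp
      | insert t U ht IH =>
        intro hU
        have hU' : U ⊆ T.erase t := fun x hx => Finset.mem_erase.mpr
          ⟨fun h => ht (h ▸ hx), hU (Finset.mem_insert_of_mem hx)⟩
        rw [hins, (hstep _ _).2 ?_, IH (hU'.trans (Finset.erase_subset _ _)),
          Finset.card_insert_of_notMem ht, pow_succ']
        intro hmem
        have htT : t ∈ T := hU (Finset.mem_insert_self _ _)
        have h1 : (Subgroup.closure ((T.erase t : Finset G) : Set G)).map q = ⊤ := by
          rw [← (htop T).mp hT]
          conv_rhs => rw [← Finset.insert_erase htT, hins]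
          refine (sup_eq_left.mpr (Subgroup.zpowers_le.mpr ?_)).symm
          exact Subgroup.map_mono (Subgroup.closure_mono (Finset.coe_subset.mpr hU')) hmem
        have h2 : T ≤ T.erase t := hTmin.2 (Finset.mem_filter.mpr
          ⟨Finset.mem_powerset.mpr ((Finset.erase_subset _ _).trans hTS), (htop _).mpr h1⟩)
          (Finset.erase_subset _ _)
        exact Finset.notMem_erase t T (h2 htT)
    refine ⟨T, hTS, ?_, hT⟩
    have h := hindep T subset_rfl
    rw [(htop T).mp hT, Subgroup.card_top, hV] at h
    exact (Nat.pow_right_injective (Fact.out : p.Prime).two_le h).symm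
  · have h := hle T
    rw [(htop T).mp hT, Subgroup.card_top, hV] at h
    exact (Nat.pow_le_pow_iff_right (Fact.out : p.Prime).one_lt).mp h

end Cfsg.Agent.S0014
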