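import Cfsg.Statements.S0032


set_option autoImplicit false
open Cfsg

namespace Cfsg.Agent.S0032

/-- If an automorphism of a finite group fixes only the identity and maps a normal subgroup N into itself, then the only cosets of N it fixes are those in N: a fixed coset xN forces x ∈ N. -/
theorem result {G : Type*} [Group G] [Finite G] (φ : G ≃* G)
    (hφ : MonoidHom.FixedPointFree (φ : G →* G)) (N : Subgroup G) [N.Normal] (hN : ∀ n ∈ N, φ n ∈ N)
    (x : G) (hx : (φ x)⁻¹ * x ∈ N) : x ∈ N := by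
  let f : N → N := fun n => ⟨(φ n)⁻¹ * n, mul_mem (inv_mem (hN n n.2)) n.2⟩
  have hinj : Function.Injective f := fun a b hab => by
    have h2 : (φ a)⁻¹ * (a : G) = (φ b)⁻¹ * b := congrArg Subtype.val hab
    have h1 : φ ((a : G) * (b : G)⁻¹) = (a : G) * (b : G)⁻¹ := by
      have e : (a : G) = φ a * ((φ b)⁻¹ * b) := by rw [← h2]; group
      conv_rhs => rw [e]
      simp [mul_assoc]
    exact Subtype.ext (mul_inv_eq_one.mp (hφ _ h1))
  obtain ⟨n, hn⟩ := Finite.surjective_of_injective hinj ⟨_, hx⟩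
  have h2 : (φ n)⁻¹ * (n : G) = (φ x)⁻¹ * x := congrArg Subtype.val hn
  have h1 : φ (x * (n : G)⁻¹) = x * (n : G)⁻¹ := by
    have e : x = φ x * ((φ n)⁻¹ * n) := by rw [h2]; group
    conv_rhs => rw [e]
    simp [mul_assoc]
  rw [mul_inv_eq_one.mp (hφ _ h1)]
  exact n.2

end Cfsg.Agent.S0032
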