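import Cfsg.Statements.S0046
import Mathlib.Data.Set.Finite.Lemmas

set_option autoImplicit false
open Pointwise
open Cfsg

namespace Cfsg.Agent.S0046

open Subgroup

universe u

variable {G : Type u} [Group G]

theorem exists_mem_normalizer_not_mem {M D : Subgroup G} (hM : Group.IsNilpotent M)
    (hD : D < M) : ∃ x ∈ M, x ∉ D ∧ x ∈ normalizer (D : Set G) := by
  have h1 : D.subgroupOf M < ⊤ := by
    rw [lt_top_iff_ne_top, Ne, subgroupOf_eq_top]
    exact not_le_of_gt hD
  obtain ⟨x, hx, hxD⟩ := SetLike.exists_of_lt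
    (Group.normalizerCondition_of_isNilpotent (G := M) _ h1)
  refine ⟨x, x.2, fun h => hxD h, mem_normalizer_iff.mpr fun y => ?_⟩
  rw [mem_normalizer_iff] at hx
  constructor
  · intro hy
    have h2 := (hx ⟨y, hD.le hy⟩).mp hy
    exact h2
  · intro hy
    have hyM : y ∈ M := by
      have h2 := mul_mem (mul_mem (inv_mem x.2) (hD.le hy)) x.2
      simpa [mul_assoc] using h2
    exact (hx ⟨y, hyM⟩).mpr hy

/-- A finite simple group all whose maximal subgroups are nilpotent is commutative. -/
theorem comm_of_simple [Finite G] [IsSimpleGroup G]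
    (h : ∀ M : Subgroup G, IsCoatom M → Group.IsNilpotent M) : ∀ a b : G, a * b = b * a := by
  by_contra hne
  have hnc : ∀ z : G, zpowers z ≠ ⊤ := by
    intro z hz
    refine hne fun a b => ?_
    obtain ⟨i, rfl⟩ := mem_zpowers_iff.mp (show a ∈ zpowers z by rw [hz]; trivial)
    obtain ⟨j, rfl⟩ := mem_zpowers_iff.mp (show b ∈ zpowers z by rw [hz]; trivial)
    rw [← zpow_add, ← zpow_add, add_comm]
  have hex : ∀ H : Subgroup G, H ≠ ⊤ → ∃ M, IsCoatom M ∧ H ≤ M := fun H hH =>
    (eq_top_or_exists_le_coatom H).resolve_left hH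
  have hbot : ∀ M : Subgroup G, IsCoatom M → M ≠ ⊥ := by
    intro M hM hMb
    obtain ⟨z, hz⟩ := exists_ne (1 : G)
    have h1 : M < zpowers z := by
      rw [hMb, bot_lt_iff_ne_bot, Ne, zpowers_eq_bot]; exact hz
    exact hnc z (hM.2 _ h1)
  have hnorm : ∀ D : Subgroup G, D ≠ ⊥ → D ≠ ⊤ → normalizer (D : Set G) ≠ ⊤ := by
    intro D hD hD' hN
    have := normalizer_eq_top_iff.mp hN
    rcases IsSimpleGroup.eq_bot_or_eq_top_of_normal D this with h' | h'
    · exact hD h'
    · exact hD' h'
  have hself : ∀ M : Subgroup G, IsCoatom M → normalizer (M : Set G) = M := by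
    intro M hM
    rcases eq_or_ne (normalizer (M : Set G)) M with h' | h'
    · exact h'
    · exact absurd (hM.2 _ (lt_of_le_of_ne le_normalizer h'.symm)) (hnorm M (hbot M hM) hM.1)
  -- distinct maximal subgroups intersect trivially
  have hti : ∀ A B : Subgroup G, IsCoatom A → IsCoatom B → A ≠ B → A ⊓ B = ⊥ := by
    by_contra hc
    push Not at hc
    let S : Set (Subgroup G) :=
      {D | ∃ A B : Subgroup G, IsCoatom A ∧ IsCoatom B ∧ A ≠ B ∧ D = A ⊓ B ∧ D ≠ ⊥}
    obtain ⟨A, B, hA, hB, hAB, hne'⟩ := hc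
    obtain ⟨D, hDmem, hDmax⟩ := Set.exists_max_image S (fun D => Nat.card D) (Set.toFinite S)
      ⟨A ⊓ B, A, B, hA, hB, hAB, rfl, hne'⟩
    obtain ⟨A, B, hA, hB, hAB, rfl, hD⟩ := hDmem
    have hDtop : A ⊓ B ≠ ⊤ := fun h' => hA.1 (eq_top_iff.mpr (h' ▸ inf_le_left))
    obtain ⟨C, hC, hCle⟩ := hex _ (hnorm _ hD hDtop)
    have key : ∀ A' : Subgroup G, IsCoatom A' → A ⊓ B < A' → C = A' := by
      intro A' hA' hlt
      by_contra hCA
      obtain ⟨x, hxA, hxD, hxN⟩ := exists_mem_normalizer_not_mem (h A' hA') hlt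
      have hle : A ⊓ B ≤ C ⊓ A' := le_inf (le_trans le_normalizer hCle) hlt.le
      have hlt' : A ⊓ B < C ⊓ A' := lt_of_le_of_ne hle fun he =>
        hxD (by rw [he]; exact ⟨hCle hxN, hxA⟩)
      have hne'' : C ⊓ A' ≠ ⊥ := (bot_lt_iff_ne_bot.mp (bot_le.trans_lt hlt'))
      have h2 := hDmax (C ⊓ A') ⟨C, A', hC, hA', hCA, rfl, hne''⟩
      exact hlt'.ne (eq_of_le_of_card_ge hle h2)
    have hAlt : A ⊓ B < A := by
      refine lt_of_le_of_ne inf_le_left fun he => hAB ?_
      have hle : A ≤ B := inf_eq_left.mp he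
      by_contra hne3
      exact hB.1 (hA.2 _ (lt_of_le_of_ne hle hne3))
    have hBlt : A ⊓ B < B := by
      refine lt_of_le_of_ne inf_le_right fun he => hAB ?_
      have hle : B ≤ A := inf_eq_right.mp he
      by_contra hne3
      exact hA.1 (hB.2 _ (lt_of_le_of_ne hle (Ne.symm hne3)))
    exact hAB ((key A hA hAlt).symm.trans (key B hB hBlt))
  have hconj : ∀ (g : G) (M : Subgroup G), IsCoatom M →
      IsCoatom (M.map (MulAut.conj g).toMonoidHom) := fun g M hM =>
    ((MulAut.conj g).mapSubgroup.isCoatom_iff M).mpr hM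
  -- two conjugates sharing a nontrivial element coincide
  have hshare : ∀ (A B : Subgroup G), IsCoatom A → IsCoatom B → ∀ (g k : G) (a b : G),
      a ∈ A → b ∈ B → a ≠ 1 → g * a * g⁻¹ = k * b * k⁻¹ →
      A.map (MulAut.conj g).toMonoidHom = B.map (MulAut.conj k).toMonoidHom := by
    intro A B hA hB g k a b ha hb ha1 he
    by_contra hne'
    have h1 := hti _ _ (hconj g A hA) (hconj k B hB) hne'
    have h2 : g * a * g⁻¹ ∈ A.map (MulAut.conj g).toMonoidHom ⊓
        B.map (MulAut.conj k).toMonoidHom :=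
      ⟨mem_map.mpr ⟨a, ha, rfl⟩, mem_map.mpr ⟨b, hb, he.symm⟩⟩
    rw [h1, mem_bot, mul_inv_eq_one] at h2
    exact ha1 (mul_eq_left.mp h2)
  have hnle : ∀ (A : Subgroup G), IsCoatom A → ∀ g k : G,
      A.map (MulAut.conj g).toMonoidHom = A.map (MulAut.conj k).toMonoidHom → g⁻¹ * k ∈ A := by
    intro A hA g k he
    rw [← hself A hA, mem_normalizer_iff]
    intro y
    constructor
    · intro hy
      have h1 : k * y * k⁻¹ ∈ A.map (MulAut.conj g).toMonoidHom := by
        rw [he]; exact mem_map.mpr ⟨y, hy, rfl⟩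
      obtain ⟨z, hz, hze⟩ := mem_map.mp h1
      have h2 : g⁻¹ * k * y * (g⁻¹ * k)⁻¹ = z := by
        simp only [MulEquiv.coe_toMonoidHom, MulAut.conj_apply] at hze
        rw [show g⁻¹ * k * y * (g⁻¹ * k)⁻¹ = g⁻¹ * (k * y * k⁻¹) * g by group, ← hze]
        group
      rw [h2]; exact hz
    · intro hy
      have h1 : k * y * k⁻¹ ∈ A.map (MulAut.conj k).toMonoidHom := by
        rw [← he]
        exact mem_map.mpr ⟨_, hy, by simp [mul_assoc]⟩
      obtain ⟨z, hz, hze⟩ := mem_map.mp h1
      simp only [MulEquiv.coe_toMonoidHom, MulAut.conj_apply, mul_left_inj, mul_right_inj] at hze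
      exact hze ▸ hz
  -- the covering maps
  let cov : ∀ A : Subgroup G, (G ⧸ A) × {a : A // a ≠ 1} → G :=
    fun A p => p.1.out * ((p.2.1 : A) : G) * p.1.out⁻¹
  have hinj : ∀ A : Subgroup G, IsCoatom A → Function.Injective (cov A) := by
    intro A hA
    rintro ⟨q, ⟨a, ha⟩, hna⟩ ⟨r, ⟨b, hb⟩, hnb⟩ he
    have ha1 : a ≠ 1 := fun h' => hna (Subtype.ext h')
    have h1 := hnle A hA _ _ (hshare A A hA hA q.out r.out a b ha hb ha1 he)
    have h2 : q = r := by
      rw [← QuotientGroup.out_eq' q, ← QuotientGroup.out_eq' r]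
      exact QuotientGroup.eq.mpr h1
    subst h2
    simp only [cov, mul_left_inj, mul_right_inj] at he
    subst he
    rfl
  have hcard : ∀ A : Subgroup G, Nat.card ((G ⧸ A) × {a : A // a ≠ 1}) + A.index = Nat.card G := by
    intro A
    classical
    have h1 : Nat.card {a : A // a ≠ 1} + 1 = Nat.card A := by
      rw [← Nat.card_congr (Equiv.optionSubtypeNe (1 : A)), Finite.card_option]
    rw [Nat.card_prod, ← A.index_eq_card, ← A.card_mul_index, ← h1]
    ring
  obtain ⟨z₀, hz₀⟩ := exists_ne (1 : G)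
  obtain ⟨M, hM, -⟩ := hex (zpowers z₀) (hnc z₀)
  have htwo : ∀ A : Subgroup G, IsCoatom A → 2 ≤ A.index ∧ 2 * A.index ≤ Nat.card G := by
    intro A hA
    refine ⟨one_lt_index_of_ne_top hA.1, ?_⟩
    rw [← A.card_mul_index]
    exact Nat.mul_le_mul_right _ (one_lt_card_iff_ne_bot A |>.mpr (hbot A hA))
  -- some nontrivial element is outside all conjugates of `M`
  obtain ⟨x, hx1, hx⟩ : ∃ x : G, x ≠ 1 ∧ x ∉ Set.range (cov M) := by
    by_contra hc
    push Not at hc
    let f : Option ((G ⧸ M) × {a : M // a ≠ 1}) → G := fun o => o.elim 1 (cov M)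
    have hf : Function.Surjective f := fun x => by
      rcases eq_or_ne x 1 with rfl | hx1
      · exact ⟨none, rfl⟩
      · obtain ⟨p, hp⟩ := hc x hx1
        exact ⟨some p, hp⟩
    have h1 := Nat.card_le_card_of_surjective f hf
    rw [Finite.card_option] at h1
    have := hcard M
    have := (htwo M hM).1
    omega
  obtain ⟨M', hM', hxM'⟩ := hex (zpowers x) (hnc x)
  have hxM : x ∈ M' := hxM' (mem_zpowers x)
  have hdisj : ∀ p q, cov M p ≠ cov M' q := by
    rintro ⟨q, ⟨a, ha⟩, hna⟩ ⟨r, ⟨b, hb⟩, hnb⟩ he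
    have ha1 : a ≠ 1 := fun h' => hna (Subtype.ext h')
    have h1 := hshare M M' hM hM' q.out r.out a b ha hb ha1 he
    -- `x` is conjugate to an element of `M`
    have h2 : r.out * x * r.out⁻¹ ∈ M.map (MulAut.conj q.out).toMonoidHom := by
      rw [h1]; exact mem_map.mpr ⟨x, hxM, rfl⟩
    obtain ⟨c, hc, hce⟩ := mem_map.mp h2
    simp only [MulEquiv.coe_toMonoidHom, MulAut.conj_apply] at hce
    set g := r.out⁻¹ * q.out with hg
    have h3 : x = g * c * g⁻¹ := by
      have : x = r.out⁻¹ * (r.out * x * r.out⁻¹) * r.out := by group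
      rw [this, ← hce, hg]; group
    set t := (QuotientGroup.mk g : G ⧸ M).out with ht
    obtain ⟨m, hm⟩ := QuotientGroup.mk_out_eq_mul M g
    have hmem : ((m : G))⁻¹ * c * m ∈ M := mul_mem (mul_mem (inv_mem m.2) hc) m.2
    refine hx ⟨((QuotientGroup.mk g : G ⧸ M), ⟨⟨_, hmem⟩, fun h' => hx1 ?_⟩), ?_⟩
    · have h4 : (m : G)⁻¹ * c * m = 1 := congrArg Subtype.val h'
      have h5 : c = 1 := by
        calc c = (m : G) * ((m : G)⁻¹ * c * m) * (m : G)⁻¹ := by group
          _ = 1 := by rw [h4]; group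
      rw [h3, h5]; group
    · show (QuotientGroup.mk g : G ⧸ M).out * ((m : G)⁻¹ * c * m) *
        (QuotientGroup.mk g : G ⧸ M).out⁻¹ = x
      rw [hm, h3]; group
  let f : Option (((G ⧸ M) × {a : M // a ≠ 1}) ⊕ ((G ⧸ M') × {a : M' // a ≠ 1})) → G :=
    fun o => o.elim 1 (Sum.elim (cov M) (cov M'))
  have hf : Function.Injective f := by
    have hne1 : ∀ (A : Subgroup G) p, cov A p ≠ 1 := by
      rintro A ⟨q, ⟨a, ha⟩, hna⟩ he
      simp only [cov, mul_inv_eq_one, mul_eq_left] at he
      exact hna (Subtype.ext he)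
    rintro (_ | (p | p)) (_ | (q | q)) he
    · rfl
    · exact absurd he.symm (hne1 M q)
    · exact absurd he.symm (hne1 M' q)
    · exact absurd he (hne1 M p)
    · exact congrArg (fun z => some (Sum.inl z)) (hinj M hM he)
    · exact absurd he (hdisj p q)
    · exact absurd he (hne1 M' p)
    · exact absurd he.symm (hdisj q p)
    · exact congrArg (fun z => some (Sum.inr z)) (hinj M' hM' he)
  have h1 := Nat.card_le_card_of_injective f hf
  rw [Finite.card_option, Nat.card_sum] at h1
  have := hcard M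
  have := hcard M'
  have := (htwo M hM).2
  have := (htwo M' hM').2
  omega

theorem solvable_aux : ∀ (n : ℕ) (G : Type u) [Group G] [Finite G], Nat.card G ≤ n →
    (∀ M : Subgroup G, IsCoatom M → Group.IsNilpotent M) → Group.IsSolvable G := by
  intro n
  induction n with
  | zero => intro G _ _ hle; exact absurd hle (by have := Nat.card_pos (α := G); omega)
  | succ n ih =>
    intro G _ _ hle h
    rcases subsingleton_or_nontrivial G with hs | hnt
    · exact Group.isSolvable_of_comm fun a b => Subsingleton.elim _ _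
    by_cases hsim : IsSimpleGroup G
    · exact Group.isSolvable_of_comm (comm_of_simple h)
    · obtain ⟨N, hN, hNb, hNt⟩ : ∃ N : Subgroup G, N.Normal ∧ N ≠ ⊥ ∧ N ≠ ⊤ := by
        by_contra hc
        push Not at hc
        exact hsim ⟨fun H hH => or_iff_not_imp_left.mpr (hc H hH)⟩
      obtain ⟨M, hM, hNM⟩ := (eq_top_or_exists_le_coatom N).resolve_left hNt
      have := h M hM
      have hNs : Group.IsSolvable N := by
        exact Group.isSolvable_of_isSolvable_injective (inclusion_injective hNM)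
      set π := QuotientGroup.mk' N with hπ
      have hπs := QuotientGroup.mk'_surjective N
      have hlt : Nat.card (G ⧸ N) ≤ n := by
        have h1 : Nat.card N * N.index = Nat.card G := N.card_mul_index
        rw [index_eq_card] at h1
        have h2 : 2 ≤ Nat.card N := one_lt_card_iff_ne_bot N |>.mpr hNb
        have h3 : 0 < Nat.card (G ⧸ N) := Nat.card_pos
        nlinarith
      have hQ : Group.IsSolvable (G ⧸ N) := ih _ hlt fun B hB => by
        have hco : IsCoatom (B.comap π) := by
          constructor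
          · intro ht
            exact hB.1 (comap_injective hπs (ht.trans (comap_top π).symm))
          · intro H hH
            have h1 : B < H.map π := by
              refine lt_of_le_of_ne ?_ ?_
              · conv_lhs => rw [← map_comap_eq_self_of_surjective hπs B]
                exact map_mono hH.le
              · intro he
                exact not_le_of_gt hH (he ▸ le_comap_map π H)
            have h2 := hB.2 _ h1
            have h3 : π.ker ≤ H := (ker_le_comap π B).trans hH.le
            rw [← comap_map_eq_self h3, h2, comap_top]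
        have := h _ hco
        exact Group.nilpotent_of_surjective
          ((π.comp (B.comap π).subtype).codRestrict B fun x => x.2) fun y => by
            obtain ⟨g, hg⟩ := hπs (y : G ⧸ N)
            exact ⟨⟨g, show π g ∈ B from hg ▸ y.2⟩, Subtype.ext hg⟩
      exact Group.isSolvable_of_ker_le_range N.subtype π (by rw [QuotientGroup.ker_mk', range_subtype])

/-- Schmidt's Theorem on minimal non-nilpotent groups: a finite group in which every maximal subgroup is nilpotent is solvable. -/
theorem result {G : Type*} [Group G] [Finite G]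
    (h : ∀ M : Subgroup G, IsCoatom M → Group.IsNilpotent M) : Group.IsSolvable G :=
  solvable_aux _ G le_rfl h

end Cfsg.Agent.S0046
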