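import Cfsg.Statements.S0047
import Mathlib.Tactic.Group
import Mathlib.Algebra.Group.Commute.Hom

set_option autoImplicit false
open Cfsg
open scoped commutatorElement

namespace Cfsg.Agent.S0047

/-- A finite group which is the product AB of two abelian subgroups A and B is solvable. -/
theorem result {G : Type*} [Group G] [Finite G] (A B : Subgroup G)
    [IsMulCommutative A] [IsMulCommutative B] (hAB : ∀ g : G, ∃ a ∈ A, ∃ b ∈ B, g = a * b) :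
    Group.IsSolvable G := by
  have hBA : ∀ g : G, ∃ b ∈ B, ∃ a ∈ A, g = b * a := fun g => by
    obtain ⟨a, ha, b, hb, he⟩ := hAB g⁻¹
    exact ⟨b⁻¹, inv_mem hb, a⁻¹, inv_mem ha, by rw [← mul_inv_rev, ← he, inv_inv]⟩
  have cA : ∀ x ∈ A, ∀ y ∈ A, x * y = y * x := fun x hx y hy =>
    congrArg Subtype.val (mul_comm' (⟨x, hx⟩ : A) ⟨y, hy⟩)
  have cB : ∀ x ∈ B, ∀ y ∈ B, x * y = y * x := fun x hx y hy =>
    congrArg Subtype.val (mul_comm' (⟨x, hx⟩ : B) ⟨y, hy⟩)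
  set S : Set G := {x | ∃ a ∈ A, ∃ b ∈ B, ⁅a, b⁆ = x} with hS
  have hconjA : ∀ a ∈ A, ∀ b ∈ B, ∀ a₁ ∈ A, ∃ b' ∈ B, (∃ a' ∈ A, a₁ * b * a₁⁻¹ = b' * a') ∧
      a₁ * ⁅a, b⁆ * a₁⁻¹ = ⁅a, b'⁆ := by
    intro a ha b _ a₁ ha₁
    obtain ⟨b', hb', a', ha', he⟩ := hBA (a₁ * b * a₁⁻¹)
    refine ⟨b', hb', ⟨a', ha', he⟩, ?_⟩
    have e1 : a₁ * ⁅a, b⁆ * a₁⁻¹ = ⁅a, a₁ * b * a₁⁻¹⁆ := by
      have h1 : a₁ * a * a₁⁻¹ = a := by rw [cA a₁ ha₁ a ha, mul_inv_cancel_right]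
      conv_rhs => rw [← h1]
      simp only [commutatorElement_def]
      group
    rw [e1, he]
    simp only [commutatorElement_def, mul_inv_rev]
    have h2 : a' * a⁻¹ = a⁻¹ * a' := cA a' ha' a⁻¹ (inv_mem ha)
    calc a * (b' * a') * a⁻¹ * (a'⁻¹ * b'⁻¹) = a * b' * (a' * a⁻¹) * (a'⁻¹ * b'⁻¹) := by group
      _ = a * b' * a⁻¹ * b'⁻¹ := by rw [h2]; group
  have hconjB : ∀ a ∈ A, ∀ b₁ ∈ B, ∃ a' ∈ A, ∀ b ∈ B, b₁ * ⁅a, b⁆ * b₁⁻¹ = ⁅a', b⁆ := by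
    intro a _ b₁ hb₁
    obtain ⟨a', ha', b', hb', he⟩ := hAB (b₁ * a * b₁⁻¹)
    refine ⟨a', ha', fun b hb => ?_⟩
    have e1 : b₁ * ⁅a, b⁆ * b₁⁻¹ = ⁅b₁ * a * b₁⁻¹, b⁆ := by
      have h1 : b₁ * b * b₁⁻¹ = b := by rw [cB b₁ hb₁ b hb, mul_inv_cancel_right]
      conv_rhs => rw [← h1]
      simp only [commutatorElement_def]
      group
    rw [e1, he]
    simp only [commutatorElement_def, mul_inv_rev]
    have h2 : b' * b = b * b' := cB b' hb' b hb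
    calc a' * b' * b * (b'⁻¹ * a'⁻¹) * b⁻¹ = a' * (b' * b) * b'⁻¹ * a'⁻¹ * b⁻¹ := by group
      _ = a' * b * a'⁻¹ * b⁻¹ := by rw [h2]; group
  set C : Subgroup G := Subgroup.closure S with hC
  have hCn : C.Normal := by
    refine ⟨fun x hx g => ?_⟩
    obtain ⟨a₁, ha₁, b₁, hb₁, rfl⟩ := hAB g
    induction hx using Subgroup.closure_induction with
    | mem x hx =>
      obtain ⟨a, ha, b, hb, rfl⟩ := hx
      obtain ⟨a', ha', h1⟩ := hconjB a ha b₁ hb₁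
      obtain ⟨b', hb', -, h2⟩ := hconjA a' ha' b hb a₁ ha₁
      have e : a₁ * b₁ * ⁅a, b⁆ * (a₁ * b₁)⁻¹ = ⁅a', b'⁆ := by
        rw [← h2, ← h1 b hb]; group
      rw [e]
      exact Subgroup.subset_closure ⟨a', ha', b', hb', rfl⟩
    | one => simp
    | mul x y _ _ hx hy =>
      have e : a₁ * b₁ * (x * y) * (a₁ * b₁)⁻¹ =
          (a₁ * b₁ * x * (a₁ * b₁)⁻¹) * (a₁ * b₁ * y * (a₁ * b₁)⁻¹) := by group
      rw [e]; exact mul_mem hx hy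
    | inv x _ hx =>
      have e : a₁ * b₁ * x⁻¹ * (a₁ * b₁)⁻¹ = (a₁ * b₁ * x * (a₁ * b₁)⁻¹)⁻¹ := by group
      rw [e]; exact inv_mem hx
  haveI := hCn
  have hcomm : ∀ x ∈ S, ∀ y ∈ S, x * y = y * x := by
    rintro _ ⟨a, ha, b, hb, rfl⟩ _ ⟨a₁, ha₁, b₁, hb₁, rfl⟩
    -- both orders of conjugation give the same result
    obtain ⟨a', ha', h1⟩ := hconjB a ha b₁ hb₁
    obtain ⟨b', hb', ⟨a₂, ha₂, he⟩, h2⟩ := hconjA a ha b hb a₁ ha₁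
    have h3 : a₁ * ⁅a', b⁆ * a₁⁻¹ = ⁅a', b'⁆ := by
      have e1 : a₁ * ⁅a', b⁆ * a₁⁻¹ = ⁅a', a₁ * b * a₁⁻¹⁆ := by
        have h4 : a₁ * a' * a₁⁻¹ = a' := by rw [cA a₁ ha₁ a' ha', mul_inv_cancel_right]
        conv_rhs => rw [← h4]
        simp only [commutatorElement_def]
        group
      rw [e1, he]
      simp only [commutatorElement_def, mul_inv_rev]
      have h5 : a₂ * a'⁻¹ = a'⁻¹ * a₂ := cA a₂ ha₂ a'⁻¹ (inv_mem ha')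
      calc a' * (b' * a₂) * a'⁻¹ * (a₂⁻¹ * b'⁻¹) = a' * b' * (a₂ * a'⁻¹) * (a₂⁻¹ * b'⁻¹) := by group
        _ = a' * b' * a'⁻¹ * b'⁻¹ := by rw [h5]; group
    have e : a₁ * b₁ * ⁅a, b⁆ * (a₁ * b₁)⁻¹ = b₁ * a₁ * ⁅a, b⁆ * (b₁ * a₁)⁻¹ := by
      calc a₁ * b₁ * ⁅a, b⁆ * (a₁ * b₁)⁻¹ = a₁ * (b₁ * ⁅a, b⁆ * b₁⁻¹) * a₁⁻¹ := by group
        _ = ⁅a', b'⁆ := by rw [h1 b hb, h3]
        _ = b₁ * ⁅a, b'⁆ * b₁⁻¹ := (h1 b' hb').symm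
        _ = b₁ * (a₁ * ⁅a, b⁆ * a₁⁻¹) * b₁⁻¹ := by rw [h2]
        _ = b₁ * a₁ * ⁅a, b⁆ * (b₁ * a₁)⁻¹ := by group
    -- so `⁅a, b⁆` commutes with `a₁⁻¹ b₁⁻¹ a₁ b₁`; apply this to inverses
    obtain ⟨a'', ha'', k1⟩ := hconjB a ha b₁⁻¹ (inv_mem hb₁)
    obtain ⟨b'', hb'', ⟨a₃, ha₃, ke⟩, k2⟩ := hconjA a ha b hb a₁⁻¹ (inv_mem ha₁)
    have k3 : a₁⁻¹ * ⁅a'', b⁆ * a₁⁻¹⁻¹ = ⁅a'', b''⁆ := by
      have e1 : a₁⁻¹ * ⁅a'', b⁆ * a₁⁻¹⁻¹ = ⁅a'', a₁⁻¹ * b * a₁⁻¹⁻¹⁆ := by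
        have h4 : a₁⁻¹ * a'' * a₁⁻¹⁻¹ = a'' := by
          rw [cA a₁⁻¹ (inv_mem ha₁) a'' ha'', mul_inv_cancel_right]
        conv_rhs => rw [← h4]
        simp only [commutatorElement_def]
        group
      rw [e1, ke]
      simp only [commutatorElement_def, mul_inv_rev]
      have h5 : a₃ * a''⁻¹ = a''⁻¹ * a₃ := cA a₃ ha₃ a''⁻¹ (inv_mem ha'')
      calc a'' * (b'' * a₃) * a''⁻¹ * (a₃⁻¹ * b''⁻¹)
          = a'' * b'' * (a₃ * a''⁻¹) * (a₃⁻¹ * b''⁻¹) := by group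
        _ = a'' * b'' * a''⁻¹ * b''⁻¹ := by rw [h5]; group
    have k : a₁⁻¹ * b₁⁻¹ * ⁅a, b⁆ * b₁ * a₁ = b₁⁻¹ * a₁⁻¹ * ⁅a, b⁆ * a₁ * b₁ := by
      calc a₁⁻¹ * b₁⁻¹ * ⁅a, b⁆ * b₁ * a₁
          = a₁⁻¹ * (b₁⁻¹ * ⁅a, b⁆ * b₁⁻¹⁻¹) * a₁⁻¹⁻¹ := by group
        _ = ⁅a'', b''⁆ := by rw [k1 b hb, k3]
        _ = b₁⁻¹ * ⁅a, b''⁆ * b₁⁻¹⁻¹ := (k1 b'' hb'').symm
        _ = b₁⁻¹ * (a₁⁻¹ * ⁅a, b⁆ * a₁⁻¹⁻¹) * b₁⁻¹⁻¹ := by rw [k2]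
        _ = b₁⁻¹ * a₁⁻¹ * ⁅a, b⁆ * a₁ * b₁ := by group
    calc ⁅a, b⁆ * ⁅a₁, b₁⁆
        = a₁ * b₁ * (b₁⁻¹ * a₁⁻¹ * ⁅a, b⁆ * a₁ * b₁) * a₁⁻¹ * b₁⁻¹ := by
          simp only [commutatorElement_def]; group
      _ = ⁅a₁, b₁⁆ * ⁅a, b⁆ := by
          rw [← k]; simp only [commutatorElement_def]; group
  haveI : IsMulCommutative C := Subgroup.isMulCommutative_closure hcomm
  haveI : Group.IsSolvable C := Group.isSolvable_of_comm fun x y => mul_comm' x y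
  haveI : Group.IsSolvable (G ⧸ C) := by
    refine Group.isSolvable_of_comm fun x y => ?_
    obtain ⟨x, rfl⟩ := QuotientGroup.mk'_surjective C x
    obtain ⟨y, rfl⟩ := QuotientGroup.mk'_surjective C y
    have hab : ∀ a ∈ A, ∀ b ∈ B, Commute (QuotientGroup.mk' C a) (QuotientGroup.mk' C b) :=
      fun a ha b hb => by
        refine commutatorElement_eq_one_iff_commute.1 ?_
        rw [← map_commutatorElement, QuotientGroup.mk'_apply, QuotientGroup.eq_one_iff]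
        exact Subgroup.subset_closure ⟨a, ha, b, hb, rfl⟩
    obtain ⟨a, ha, b, hb, rfl⟩ := hAB x
    obtain ⟨a', ha', b', hb', rfl⟩ := hAB y
    have c1 : Commute (QuotientGroup.mk' C a) (QuotientGroup.mk' C a') :=
      Commute.map (cA a ha a' ha' : Commute a a') _
    have c2 : Commute (QuotientGroup.mk' C b) (QuotientGroup.mk' C b') :=
      Commute.map (cB b hb b' hb' : Commute b b') _
    rw [map_mul (QuotientGroup.mk' C) a, map_mul (QuotientGroup.mk' C) a']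
    exact ((c1.mul_right (hab a ha b' hb')).mul_left
      ((hab a' ha' b hb).symm.mul_right c2)).eq
  exact Group.isSolvable_of_ker_le_range C.subtype (QuotientGroup.mk' C)
    (by rw [QuotientGroup.ker_mk', Subgroup.range_subtype])

end Cfsg.Agent.S0047
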