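import Cfsg.Statements.S0049
import Mathlib.GroupTheory.SchurZassenhaus
import Mathlib.GroupTheory.Sylow

set_option autoImplicit false
open Cfsg

namespace Cfsg.Agent.S0049

/-- A prime divisor of the order of a finite group also divides the index of the Frattini subgroup. -/
theorem result {G : Type*} [Group G] [Finite G] (p : ℕ) (hp : p.Prime) (hdvd : p ∣ Nat.card G) :
    p ∣ (frattini G).index := by
  by_contra hnd
  haveI := Fact.mk hp
  obtain ⟨P⟩ := (inferInstance : Nonempty (Sylow p (frattini G)))
  have hnilp : Group.IsNilpotent (frattini G) := frattini_nilpotent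
  haveI hPn : (P : Subgroup (frattini G)).Normal :=
    inferInstance
  haveI : (P : Subgroup (frattini G)).Characteristic := P.characteristic_of_normal inferInstance
  let Q : Subgroup G := (P : Subgroup (frattini G)).map (frattini G).subtype
  have hQle : Q ≤ frattini G := Subgroup.map_subtype_le _
  haveI : Q.Normal := inferInstanceAs
    (((P : Subgroup (frattini G)).map (frattini G).subtype).Normal)
  have hQc : Nat.card Q = Nat.card (P : Subgroup (frattini G)) :=
    Subgroup.card_map_of_injective (Subgroup.subtype_injective _)
  have hQidx : Q.index = (P : Subgroup (frattini G)).index * (frattini G).index := by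
    have := Subgroup.index_map_subtype (P : Subgroup (frattini G))
    exact this
  have hcop : (Nat.card Q).Coprime Q.index := by
    obtain ⟨n, hn⟩ := P.2.exists_card_eq
    rw [hQidx, hQc, hn]
    exact Nat.Coprime.mul_right (hn ▸ P.card_coprime_index)
      (Nat.Coprime.pow_left _ (hp.coprime_iff_not_dvd.2 hnd))
  obtain ⟨H, hH⟩ := Subgroup.exists_right_complement'_of_coprime hcop
  have hsup : H ⊔ Q = ⊤ := by rw [sup_comm]; exact hH.sup_eq_top
  have hHtop : H = ⊤ := frattini_nongenerating
    (top_le_iff.1 (hsup.symm.le.trans (sup_le_sup_left hQle H)))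
  have hQ : Q = ⊥ := by
    have hd := hH.disjoint
    rw [hHtop, disjoint_top] at hd
    exact hd
  refine (P : Sylow p (frattini G)).ne_bot_of_dvd_card ?_ ?_
  · rw [← (frattini G).card_mul_index] at hdvd
    exact (hp.dvd_mul.1 hdvd).resolve_right hnd
  · exact (Subgroup.map_eq_bot_iff_of_injective _ (Subgroup.subtype_injective _)).1 hQ

end Cfsg.Agent.S0049
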