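import Cfsg.Statements.S0050
import Cfsg.Agent.Lib.Solvable.Hall

set_option autoImplicit false
open Cfsg
open scoped Pointwise

namespace Cfsg.Agent.S0050

/-- Frattini argument for Hall subgroups: if L is a solvable normal subgroup and H a subgroup of L of order coprime to its index in L, then L together with the normaliser of H generates the whole group. -/
theorem result {G : Type*} [Group G] [Finite G] (L : Subgroup G) [L.Normal] (hL : Group.IsSolvable L)
    (H : Subgroup G) (hHL : H ≤ L) (hHall : (Nat.card H).Coprime (H.relIndex L)) :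
    L ⊔ Subgroup.normalizer (H : Set G) = ⊤ := by
  rw [eq_top_iff]
  intro g _
  haveI := hL
  have hsub : MulAut.conj g • H ≤ L := by
    intro x hx
    rw [Cfsg.Agent.Solvable.mem_conj_smul] at hx
    have := Subgroup.Normal.conj_mem ‹L.Normal› _ (hHL hx) g
    simpa [mul_assoc] using this
  have hcard : Nat.card L = Nat.card H * H.relIndex L :=
    (Cfsg.Agent.Solvable.card_mul_relIndex hHL).symm
  obtain ⟨l, hl, hconj⟩ := Cfsg.Agent.Solvable.exists_conj_of_subgroupOf hsub hHL
    (Cfsg.Agent.Solvable.hall_conj hcard hHall ((MulAut.conj g • H).subgroupOf L) (H.subgroupOf L)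
      (by rw [Cfsg.Agent.Solvable.card_subgroupOf hsub, Cfsg.Agent.Solvable.card_conj_smul])
      (Cfsg.Agent.Solvable.card_subgroupOf hHL))
  rw [← Cfsg.Agent.Solvable.conj_smul_mul] at hconj
  have hn : l * g ∈ Subgroup.normalizer (H : Set G) := by
    rw [Subgroup.mem_normalizer_iff_map_conj_eq]
    exact hconj
  have e : g = l⁻¹ * (l * g) := by group
  rw [e]
  exact Subgroup.mul_mem_sup (inv_mem hl) hn

end Cfsg.Agent.S0050
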