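import Cfsg.Statements.S0053
import Cfsg.Agent.Lib.Solvable.Maximal

set_option autoImplicit false
open Cfsg

namespace Cfsg.Agent.S0053

/-- An abelian minimal normal subgroup N of a finite group is complemented exactly when N is not inside the Frattini subgroup. -/
theorem result {G : Type*} [Group G] [Finite G]
    (N : Subgroup G) [N.Normal] [IsMulCommutative N] (hN : N ≠ ⊥)
    (hmin : ∀ M : Subgroup G, M.Normal → M ≤ N → M = ⊥ ∨ M = N) :
    (∃ H : Subgroup G, Subgroup.IsComplement' N H) ↔ ¬ N ≤ frattini G := by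
  constructor
  · rintro ⟨H, hH⟩ hle
    refine hN ?_
    have hsup : H ⊔ N = ⊤ := by rw [sup_comm]; exact hH.sup_eq_top
    have hHtop : H = ⊤ := frattini_nongenerating
      (top_le_iff.1 (hsup.symm.le.trans (sup_le_sup_left hle H)))
    have hd := hH.disjoint
    rw [hHtop, disjoint_top] at hd
    exact hd
  · intro hle
    obtain ⟨M, hM, hNM⟩ : ∃ M : Subgroup G, IsCoatom M ∧ ¬ N ≤ M := by
      by_contra hc
      push Not at hc
      exact hle (le_iInf₂ fun M hM => hc M hM)
    exact ⟨M, Cfsg.Agent.Solvable.isComplement'_of_normal_sup_inf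
      (Cfsg.Agent.Solvable.inf_eq_bot_of_minimal_normal N M hmin
        (Cfsg.Agent.Solvable.sup_eq_top_of_coatom hM hNM) hM.1)
      (Cfsg.Agent.Solvable.sup_eq_top_of_coatom hM hNM)⟩

end Cfsg.Agent.S0053
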