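import Cfsg.Statements.S0054
import Mathlib.GroupTheory.Sylow

set_option autoImplicit false
open Cfsg

namespace Cfsg.Agent.S0054

/-- A regular normal subgroup of a finite 2-transitive group is elementary abelian: it is commutative and all its elements have order dividing one prime. -/
theorem result {G : Type*} [Group G] [Finite G]
    {X : Type*} [Nonempty X] [MulAction G X] (h2 : MulAction.IsMultiplyPretransitive G X 2)
    (N : Subgroup G) [N.Normal] (htrans : MulAction.IsPretransitive N X) (hreg : ∀ x : X, MulAction.stabilizer N x = ⊥) :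
    IsMulCommutative N ∧ ∃ p : ℕ, p.Prime ∧ ∀ n ∈ N, n ^ p = 1 := by
  have hconj : ∀ n ∈ N, ∀ m ∈ N, n ≠ 1 → m ≠ 1 → ∃ g : G, g * n * g⁻¹ = m := by
    intro n hn m hm hn1 hm1
    obtain ⟨x⟩ := (inferInstance : Nonempty X)
    have hfree : ∀ k ∈ N, k • x = x → k = 1 := fun k hk he => by
      have h1 : (⟨k, hk⟩ : N) ∈ MulAction.stabilizer N x := he
      rw [hreg x, Subgroup.mem_bot] at h1
      exact congrArg Subtype.val h1
    have hnx : n • x ≠ x := fun he => hn1 (hfree n hn he)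
    have hmx : m • x ≠ x := fun he => hm1 (hfree m hm he)
    obtain ⟨g, hg1, hg2⟩ := MulAction.is_two_pretransitive_iff.1 h2 hnx.symm hmx.symm
    refine ⟨g, ?_⟩
    have h1 : g * n * g⁻¹ ∈ N := Subgroup.Normal.conj_mem ‹_› n hn g
    have h3 : (g * n * g⁻¹) • x = m • x := by
      rw [mul_smul, mul_smul, inv_smul_eq_iff.2 hg1.symm, hg2]
    have h4 : m⁻¹ * (g * n * g⁻¹) = 1 := hfree _ (mul_mem (inv_mem hm) h1) (by
      rw [mul_smul, h3, inv_smul_smul])
    exact (inv_mul_eq_one.1 h4).symm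
  rcases eq_or_ne N ⊥ with rfl | hN
  · refine ⟨inferInstance, 2, Nat.prime_two, fun n hn => ?_⟩
    rw [Subgroup.mem_bot.1 hn, one_pow]
  have hcard : Nat.card N ≠ 1 := fun h => hN (Subgroup.card_eq_one.1 h)
  obtain ⟨p, hp, hpd⟩ := Nat.exists_prime_and_dvd hcard
  haveI := Fact.mk hp
  obtain ⟨a, ha⟩ := exists_prime_orderOf_dvd_card' (G := N) p hpd
  rw [← Subgroup.orderOf_coe] at ha
  have ha1 : (a : G) ≠ 1 := by
    intro h; rw [h, orderOf_one] at ha; exact hp.ne_one ha.symm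
  have hpow : ∀ n ∈ N, n ^ p = 1 := by
    intro n hn
    rcases eq_or_ne n 1 with rfl | hn1
    · exact one_pow _
    · obtain ⟨g, hg⟩ := hconj a a.2 n hn ha1 hn1
      rw [← hg, conj_pow, ← ha, pow_orderOf_eq_one]
      group
  have hNp : IsPGroup p N := fun x => ⟨1, Subtype.ext (by simpa using hpow x x.2)⟩
  haveI : Nontrivial N := (Subgroup.nontrivial_iff_ne_bot N).2 hN
  obtain ⟨z, hz⟩ := Subgroup.ne_bot_iff_exists_ne_one.1 hNp.bot_lt_center.ne'
  refine ⟨⟨⟨fun x y => Subtype.ext ?_⟩⟩, p, hp, hpow⟩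
  show (x : G) * y = y * x
  rcases eq_or_ne (x : G) 1 with h | h
  · rw [h]; simp
  · obtain ⟨g, hg⟩ := hconj ((z : N) : G) (z : N).2 x x.2 (by simpa using hz) h
    have h1 : g⁻¹ * (y : G) * g ∈ N := by
      simpa using Subgroup.Normal.conj_mem ‹_› _ y.2 g⁻¹
    have h3 : g⁻¹ * (y : G) * g * (z : N) = (z : N) * (g⁻¹ * (y : G) * g) :=
      congrArg Subtype.val (Subgroup.mem_center_iff.1 z.2 ⟨_, h1⟩)
    rw [← hg]
    calc g * ((z : N) : G) * g⁻¹ * y = g * (((z : N) : G) * (g⁻¹ * y * g)) * g⁻¹ := by group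
      _ = g * ((g⁻¹ * y * g) * ((z : N) : G)) * g⁻¹ := by rw [h3]
      _ = y * (g * ((z : N) : G) * g⁻¹) := by group

end Cfsg.Agent.S0054
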