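import Cfsg.Statements.S0059
import Cfsg.Agent.Lib.Coprime.Action

set_option autoImplicit false
open Cfsg

namespace Cfsg.Agent.S0059

/-- Let a finite group act on a set on which a normal subgroup K of coprime order and index is transitive, with K or the quotient solvable. Then any complement H of K has a fixed point, and any two H-fixed points are interchanged by an element of K centralising H. -/
theorem result {G : Type*} [Group G] [Finite G] {X : Type*} [Nonempty X] [MulAction G X]
    (K H : Subgroup G) [K.Normal] (hc : Subgroup.IsComplement' K H) (hcop : (Nat.card K).Coprime K.index)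
    (hsolv : Group.IsSolvable K ∨ Group.IsSolvable (G ⧸ K)) (htrans : MulAction.IsPretransitive K X) :
    (∃ x : X, ∀ h ∈ H, h • x = x) ∧
    ∀ x y : X, (∀ h ∈ H, h • x = x) → (∀ h ∈ H, h • y = y) → ∃ k ∈ K ⊓ Subgroup.centralizer (H : Set G), k • x = y := by
  have hHK : H ≤ Subgroup.normalizer (K : Set G) := by
    rw [Subgroup.normalizer_eq_top]; exact le_top
  have hcop' : (Nat.card H).Coprime (Nat.card K) := by
    rw [← hc.symm.index_eq_card]
    exact hcop.symm
  have hsolv' : Group.IsSolvable H ∨ Group.IsSolvable K := by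
    rcases hsolv with h | h
    · exact Or.inr h
    · left
      haveI := h
      refine Group.isSolvable_of_isSolvable_injective
        (f := (QuotientGroup.mk' K).comp H.subtype) ?_
      intro a b hab
      have h1 : (a : G)⁻¹ * b ∈ K := QuotientGroup.eq.1 hab
      have h2 : (a : G)⁻¹ * b = 1 := Subgroup.mem_bot.1
        (hc.disjoint.le_bot ⟨h1, H.mul_mem (H.inv_mem a.2) b.2⟩)
      exact Subtype.ext (inv_mul_eq_one.1 h2)
  refine ⟨?_, fun x y hx hy => ?_⟩
  · obtain ⟨x⟩ := (inferInstance : Nonempty X)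
    have hle : H ≤ K ⊔ MulAction.stabilizer G x := fun h _ => by
      obtain ⟨k, hk⟩ := htrans.exists_smul_eq x (h • x)
      have hk' : (k : G) • x = h • x := hk
      have e : h = (k : G) * ((k : G)⁻¹ * h) := by group
      rw [e]
      refine Subgroup.mul_mem_sup k.2 (MulAction.mem_stabilizer_iff.2 ?_)
      rw [mul_smul, ← hk', inv_smul_smul]
    obtain ⟨k, _, h⟩ := Cfsg.Agent.Coprime.exists_conj_le_of_le_sup H K (MulAction.stabilizer G x)
      hHK (by rw [Subgroup.normalizer_eq_top]; exact le_top) hcop' hsolv' hle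
    refine ⟨k⁻¹ • x, fun a ha => ?_⟩
    have h1 : (k * a * k⁻¹) • x = x := MulAction.mem_stabilizer_iff.1 (h a ha)
    rw [mul_smul, mul_smul] at h1
    exact eq_inv_smul_iff.2 h1
  · obtain ⟨k, hk⟩ := htrans.exists_smul_eq x y
    have hk' : (k : G) • x = y := hk
    have hN : H ≤ Subgroup.normalizer ((K ⊓ MulAction.stabilizer G x : Subgroup G) : Set G) :=
      Cfsg.Agent.Coprime.le_normalizer_inf hHK
        (fun a ha => Subgroup.le_normalizer (MulAction.mem_stabilizer_iff.2 (hx a ha)))
    obtain ⟨n, hn, hcn⟩ := Cfsg.Agent.Coprime.exists_fixed_in_coset H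
      (K ⊓ MulAction.stabilizer G x) hN
      (hcop'.coprime_dvd_right (Subgroup.card_dvd_of_le inf_le_left))
      (hsolv'.imp_right (Cfsg.Agent.Coprime.solvable_of_le inf_le_left)) (k : G) (fun a ha => by
        refine ⟨K.mul_mem (K.inv_mem k.2) (Subgroup.Normal.conj_mem ‹_› _ k.2 a),
          MulAction.mem_stabilizer_iff.2 ?_⟩
        have hax : a⁻¹ • x = x := inv_smul_eq_iff.2 (hx a ha).symm
        rw [mul_smul, mul_smul, mul_smul, hax, hk', hy a ha, ← hk', inv_smul_smul])
    refine ⟨(k : G) * n, ⟨mul_mem k.2 hn.1, hcn⟩, ?_⟩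
    rw [mul_smul, MulAction.mem_stabilizer_iff.1 hn.2, hk']

end Cfsg.Agent.S0059
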