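import Cfsg.Statements.S1009
import Cfsg.Agent.Lib.SmallGroups.Basic

set_option autoImplicit false
open Cfsg

namespace Cfsg.Agent.S1009

/-- Brodkey's Theorem: if a finite group has abelian Sylow p-subgroups, then there are two Sylow p-subgroups whose intersection equals the intersection of all Sylow p-subgroups. -/
theorem result {G : Type*} [Group G] [Finite G] (p : ℕ) [Fact p.Prime] (hab : ∀ P : Sylow p G, IsMulCommutative ↥(P : Subgroup G)) : ∃ P Q : Sylow p G, (P : Subgroup G) ⊓ (Q : Subgroup G) = ⨅ R : Sylow p G, (R : Subgroup G) := by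
  classical
  have := Fintype.ofFinite (Sylow p G)
  obtain ⟨⟨P, Q⟩, -, hmin⟩ := Finset.exists_min_image (Finset.univ : Finset (Sylow p G × Sylow p G))
    (fun x => Nat.card ↥((x.1 : Subgroup G) ⊓ (x.2 : Subgroup G))) Finset.univ_nonempty
  refine ⟨P, Q, le_antisymm (le_iInf fun R => ?_) (le_inf (iInf_le _ P) (iInf_le _ Q))⟩
  set D := (P : Subgroup G) ⊓ (Q : Subgroup G)
  set C := Subgroup.centralizer (D : Set G)
  have hab' : ∀ (S : Sylow p G), D ≤ (S : Subgroup G) → (S : Subgroup G) ≤ C := fun S hDS =>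
    Subgroup.le_centralizer_iff.mp (hDS.trans
      (Subgroup.le_centralizer_iff_isMulCommutative.mpr (hab S)))
  have hPC : (P : Subgroup G) ≤ C := hab' P inf_le_left
  have hQC : (Q : Subgroup G) ≤ C := hab' Q inf_le_right
  obtain ⟨S, hS⟩ := ((R.2.to_le (inf_le_left : (R : Subgroup G) ⊓ C ≤ R)).comap_subtype
    (K := C)).exists_le_sylow
  obtain ⟨c, hc⟩ := MulAction.exists_smul_eq ↥C (P.subtype hPC) S
  have key : ∀ u ∈ (R : Subgroup G) ⊓ C, (c : G)⁻¹ * u * c ∈ (P : Subgroup G) := by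
    intro u hu
    have hmem : (⟨u, hu.2⟩ : ↥C) ∈ (S : Subgroup ↥C) := hS hu
    rw [← hc, Sylow.coe_subgroup_smul, Subgroup.pointwise_smul_def] at hmem
    obtain ⟨w, hw, hwu⟩ := hmem
    have hwu' : (c : G) * w.1 * (c : G)⁻¹ = u := congrArg Subtype.val hwu
    rw [← hwu']
    have : (c : G)⁻¹ * ((c : G) * w.1 * (c : G)⁻¹) * c = w.1 := by group
    rw [this]
    exact hw
  set R' : Sylow p G := (c : G)⁻¹ • R
  have hle : (R' : Subgroup G) ⊓ (Q : Subgroup G) ≤ D := by
    intro v hv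
    refine ⟨?_, hv.2⟩
    have hv1 := hv.1
    rw [Sylow.coe_subgroup_smul, Subgroup.pointwise_smul_def] at hv1
    obtain ⟨u, hu, huv⟩ := hv1
    change (c : G)⁻¹ * u * (c : G)⁻¹⁻¹ = v at huv
    rw [inv_inv] at huv
    have huC : u ∈ C := by
      have : u = (c : G) * v * (c : G)⁻¹ := by rw [← huv]; group
      rw [this]
      exact mul_mem (mul_mem c.2 (hQC hv.2)) (inv_mem c.2)
    rw [← huv]
    exact key u ⟨hu, huC⟩
  have heq : (R' : Subgroup G) ⊓ (Q : Subgroup G) = D :=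
    Subgroup.eq_of_le_of_card_ge hle (hmin (R', Q) (Finset.mem_univ _))
  intro d hd
  have hd' : d ∈ (R' : Subgroup G) := (heq.ge hd).1
  rw [Sylow.coe_subgroup_smul, Subgroup.pointwise_smul_def] at hd'
  obtain ⟨u, hu, hud⟩ := hd'
  change (c : G)⁻¹ * u * (c : G)⁻¹⁻¹ = d at hud
  rw [inv_inv] at hud
  have hcd : d * (c : G) = (c : G) * d := Subgroup.mem_centralizer_iff.mp c.2 d hd
  have : u = d := by
    calc u = (c : G) * ((c : G)⁻¹ * u * c) * (c : G)⁻¹ := by group
      _ = (c : G) * d * (c : G)⁻¹ := by rw [hud]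
      _ = d := by rw [← hcd, mul_inv_cancel_right]
  exact this ▸ hu

end Cfsg.Agent.S1009
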