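import Cfsg.Statements.S0060
import Cfsg.Agent.S1009
import Cfsg.Agent.Lib.Thompson.Cores

set_option autoImplicit false
open Pointwise
open Cfsg

namespace Cfsg.Agent.S0060

/-- Brodkey's Theorem: in a finite group with abelian Sylow p-subgroups and no nontrivial normal p-subgroup, some conjugate of a Sylow p-subgroup meets it trivially. -/
theorem result {G : Type*} [Group G] [Finite G] (p : ℕ) [Fact p.Prime]
    (S : Sylow p G) (hS : IsMulCommutative S) (hOp : Cfsg.pCore p G = ⊥) :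
    ∃ g : G, (S : Subgroup G) ⊓ MulAut.conj g • (S : Subgroup G) = ⊥ := by
  have hab : ∀ P : Sylow p G, IsMulCommutative (P : Subgroup G) := fun P => by
    haveI : IsMulCommutative (S : Subgroup G) := hS
    exact ⟨⟨fun a b => (S.equiv P).symm.injective
      (by rw [map_mul, map_mul]; exact mul_comm' _ _)⟩⟩
  obtain ⟨P, Q, hPQ⟩ := Cfsg.Agent.S1009.result p hab
  rw [← Cfsg.Agent.Thompson.pCore_eq_iInf_sylow, hOp] at hPQ
  obtain ⟨a, rfl⟩ := MulAction.exists_smul_eq G S P
  obtain ⟨b, rfl⟩ := MulAction.exists_smul_eq G S Q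
  refine ⟨a⁻¹ * b, (Subgroup.eq_bot_iff_forall _).2 fun x hx => ?_⟩
  obtain ⟨hx1, hx2⟩ := hx
  have h1 : a * x * a⁻¹ ∈ MulAut.conj a • (S : Subgroup G) := by
    rw [Subgroup.mem_pointwise_smul_iff_inv_smul_mem, MulAut.smul_def, MulAut.conj_inv_apply]
    simp only [mul_assoc, inv_mul_cancel_left, inv_mul_cancel, mul_one]
    exact hx1
  have h2 : a * x * a⁻¹ ∈ MulAut.conj b • (S : Subgroup G) := by
    have h3 : x ∈ MulAut.conj (a⁻¹ * b) • (S : Subgroup G) := hx2
    rw [Subgroup.mem_pointwise_smul_iff_inv_smul_mem, MulAut.smul_def, MulAut.conj_inv_apply] at h3 ⊢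
    simpa [mul_assoc] using h3
  have h4 : a * x * a⁻¹ = 1 := Subgroup.mem_bot.1 (hPQ ▸ Subgroup.mem_inf.2 ⟨h1, h2⟩)
  simpa using h4

end Cfsg.Agent.S0060
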