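import Cfsg.Statements.S0063
import Mathlib.GroupTheory.PGroup

set_option autoImplicit false
open Cfsg

namespace Cfsg.Agent.S0063

theorem key {p : ℕ} [Fact p.Prime] : ∀ (m : ℕ) (G : Type*) [Group G] [Finite G],
    Nat.card G = p ^ m → Group.nilpotencyClass G ≤ max (m - 1) 1 := by
  intro m
  induction m using Nat.strong_induction_on with
  | _ m ih =>
    intro G _ _ hG
    have hp : IsPGroup p G := IsPGroup.of_card hG
    haveI : Group.IsNilpotent G := hp.isNilpotent
    by_cases hm : m ≤ 2
    · refine le_trans (Group.IsNilpotent.nilpotencyClass_le_one_iff.2 ?_) (le_max_right _ _)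
      interval_cases m
      · haveI : Subsingleton G := (Nat.card_eq_one_iff_unique.1 (by simpa using hG)).1
        exact ⟨⟨fun a b => Subsingleton.elim _ _⟩⟩
      · exact (isCyclic_of_prime_card (p := p) (by simpa using hG)).isMulCommutative
      · exact IsPGroup.isMulCommutative_of_card_eq_prime_sq hG
    · haveI : Nontrivial G := Finite.one_lt_card_iff_nontrivial.1 (by
        rw [hG]; exact Nat.one_lt_pow (by omega) (Fact.out : p.Prime).one_lt)
      obtain ⟨k, hk⟩ := (hp.to_quotient (Subgroup.center G)).exists_card_eq
      have hkm : k < m := by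
        have h1 := Subgroup.card_eq_card_quotient_mul_card_subgroup (Subgroup.center G)
        rw [hG, hk] at h1
        have h2 : 1 < Nat.card (Subgroup.center G) :=
          (Subgroup.one_lt_card_iff_ne_bot _).2 hp.bot_lt_center.ne'
        have h3 : p ^ k < p ^ m := by
          rw [h1]; exact lt_mul_of_one_lt_right (pow_pos (Fact.out : p.Prime).pos k) h2
        exact (Nat.pow_lt_pow_iff_right (Fact.out : p.Prime).one_lt).1 h3
      have := ih k hkm _ hk
      rw [Group.nilpotencyClass_eq_quotient_center_plus_one]
      omega

/-- A finite group of prime-power order p ^ m with m > 1 is nilpotent of class at most m - 1. -/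
theorem result {G : Type*} [Group G] [Finite G] (p m : ℕ) [Fact p.Prime]
    (hG : Nat.card G = p ^ m) (hm : 1 < m) : Group.nilpotencyClass G ≤ m - 1 := by
  exact key m G hG |>.trans (by omega)

end Cfsg.Agent.S0063
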