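import Cfsg.Statements.S0064


set_option autoImplicit false
open Cfsg

namespace Cfsg.Agent.S0064

/-- A finite group is nilpotent exactly when each of its subgroups is subnormal. -/
theorem result {G : Type*} [Group G] [Finite G] :
    Group.IsNilpotent G ↔ ∀ H : Subgroup G, H.IsSubnormal := by
  refine ⟨fun h => ?_, fun h => ?_⟩
  · intro H
    have key : ∀ n : ℕ, ∀ K : Subgroup G, K.index ≤ n → K.IsSubnormal := by
      intro n
      induction n with
      | zero =>
        intro K hK
        exact absurd (Nat.le_zero.1 hK) Subgroup.index_ne_zero_of_finite
      | succ n ih =>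
        intro K hK
        rcases eq_or_ne K ⊤ with rfl | hK'
        · exact Subgroup.Normal.isSubnormal inferInstance
        · have hlt := Group.normalizerCondition_of_isNilpotent K (lt_top_iff_ne_top.2 hK')
          refine Subgroup.IsSubnormal.trans hlt.le
            (Subgroup.Normal.isSubnormal Subgroup.normal_in_normalizer) (ih _ ?_)
          have := Subgroup.index_strictAnti hlt
          omega
    exact key _ H le_rfl
  · refine ((Group.isNilpotent_of_finite_tfae (G := G)).out 0 2).2 fun M hM => ?_
    rcases (h M).lt_normal with h1 | ⟨K, hKn, hMK, hK⟩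
    · exact absurd h1 hM.1
    · rcases hM.le_iff.1 hMK with h2 | h2
      · exact absurd h2 hK.ne
      · exact h2 ▸ hKn

end Cfsg.Agent.S0064
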