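import Cfsg.Statements.S0070
import Cfsg.Agent.Lib.Fitting

set_option autoImplicit false
open Cfsg

namespace Cfsg.Agent.S0070

/-- The Fitting subgroup commutes with passing to the Frattini quotient: the Fitting subgroup of G modulo its Frattini subgroup is the image of the Fitting subgroup of G. -/
theorem result {G : Type*} [Group G] [Finite G] :
    Cfsg.fittingSubgroup (G ⧸ frattini G) = (Cfsg.fittingSubgroup G).map (QuotientGroup.mk' (frattini G)) := by
  refine le_antisymm ?_ (Cfsg.Agent.Fitting.map_fitting_le _ (QuotientGroup.mk'_surjective _))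
  haveI : (Cfsg.fittingSubgroup (G ⧸ frattini G)).Normal := Cfsg.Agent.Fitting.fitting_normal
  set A := (Cfsg.fittingSubgroup (G ⧸ frattini G)).comap (QuotientGroup.mk' (frattini G)) with hA
  have hnil : Group.IsNilpotent (↥A ⧸ (frattini G).subgroupOf A) := by
    haveI : Group.IsNilpotent (Cfsg.fittingSubgroup (G ⧸ frattini G)) :=
      Cfsg.Agent.Fitting.fitting_isNilpotent
    let f : A →* Cfsg.fittingSubgroup (G ⧸ frattini G) :=
      ((QuotientGroup.mk' (frattini G)).comp A.subtype).codRestrict _ fun x => x.2
    have hker : f.ker = (frattini G).subgroupOf A := by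
      ext x
      rw [MonoidHom.mem_ker, Subgroup.mem_subgroupOf, ← QuotientGroup.eq_one_iff]
      exact Subtype.ext_iff
    have hsurj : Function.Surjective f := by
      rintro ⟨y, hy⟩
      obtain ⟨x, rfl⟩ := QuotientGroup.mk'_surjective (frattini G) y
      exact ⟨⟨x, hy⟩, rfl⟩
    exact Group.nilpotent_of_mulEquiv
      ((QuotientGroup.quotientMulEquivOfEq hker.symm).trans
        (QuotientGroup.quotientKerEquivOfSurjective f hsurj)).symm
  have hAn : Group.IsNilpotent A :=
    Cfsg.Agent.Fitting.isNilpotent_of_quotient_le_frattini A (frattini G) le_rfl hnil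
  rw [← Subgroup.map_comap_eq_self_of_surjective (QuotientGroup.mk'_surjective (frattini G))
    (Cfsg.fittingSubgroup (G ⧸ frattini G))]
  exact Subgroup.map_mono (Cfsg.Agent.Fitting.le_fitting inferInstance hAn)

end Cfsg.Agent.S0070
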