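import Cfsg.Statements.S0072
import Cfsg.Agent.Lib.Transfer.Frobenius

set_option autoImplicit false
open Cfsg

namespace Cfsg.Agent.S0072

/-- A finite group has a normal p-complement if and only if every p-local subgroup (normalizer of a nontrivial p-subgroup) has one. -/
theorem result {G : Type*} [Group G] [Finite G] (p : ℕ) [Fact p.Prime] : Cfsg.HasNormalPComplement p G ↔ ∀ Q : Subgroup G, IsPGroup p Q → Q ≠ ⊥ → Cfsg.HasNormalPComplement p (Subgroup.normalizer (Q : Set G)) := by
  refine ⟨fun h Q _ _ => Cfsg.Agent.Transfer.hasNormalPComplement_subgroup h _, fun h => ?_⟩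
  refine Cfsg.Agent.Transfer.hasNormalPComplement_of_normalizer_centralizer
    (default : Sylow p G) fun Q hQ hQ0 g hg hgp => ?_
  have hQp : IsPGroup p Q := (default : Sylow p G).2.to_le hQ
  have hn : (⟨g, hg⟩ : Subgroup.normalizer (Q : Set G)) ∈
      Subgroup.normalizer ((Q.subgroupOf (Subgroup.normalizer (Q : Set G)) :
        Subgroup (Subgroup.normalizer (Q : Set G))) : Set _) := by
    have : (Q.subgroupOf (Subgroup.normalizer (Q : Set G))).Normal := Subgroup.normal_in_normalizer
    exact (Subgroup.normalizer_eq_top_iff.mpr this).ge (Subgroup.mem_top _)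
  have := Cfsg.Agent.Transfer.mem_centralizer_of_hasNormalPComplement (h Q hQp hQ0)
    hQp.comap_subtype hn (by rwa [Subgroup.orderOf_mk])
  rw [Subgroup.mem_centralizer_iff] at this ⊢
  intro q hq
  exact congrArg Subtype.val (this ⟨q, Subgroup.le_normalizer hq⟩ hq)

end Cfsg.Agent.S0072
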