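import Cfsg.Statements.S0073
import Cfsg.Agent.Lib.Transfer.Frobenius
import Mathlib.GroupTheory.SpecificGroups.Cyclic

set_option autoImplicit false
open Cfsg

namespace Cfsg.Agent.S0073

/-- For a finite non-abelian simple group, either the cube of the least prime divisor of the order divides the order, or 12 does. -/
theorem result {G : Type*} [Group G] [Finite G] [IsSimpleGroup G] (hG : ∃ x y : G, x * y ≠ y * x) : (Nat.card G).minFac ^ 3 ∣ Nat.card G ∨ 12 ∣ Nat.card G := by
  classical
  obtain ⟨x, y, hxy⟩ := hG
  have hn1 : Nat.card G ≠ 1 := by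
    intro h1
    have := (Nat.card_eq_one_iff_unique.mp h1).1
    exact hxy (Subsingleton.elim _ _)
  set p := (Nat.card G).minFac with hpdef
  have hp : p.Prime := Nat.minFac_prime hn1
  have := Fact.mk hp
  have hpdvd : p ∣ Nat.card G := Nat.minFac_dvd _
  set P : Sylow p G := default
  have hnot : ¬ HasNormalPComplement p G := by
    intro hc
    have hcard := Cfsg.Agent.Transfer.hasNormalPComplement_iff_not_dvd.mp hc
    rcases Subgroup.Normal.eq_bot_or_eq_top
      (Cfsg.Agent.Transfer.pResidual_normal (p := p) (G := G)) with hN | hN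
    · have hGp : IsPGroup p G := by
        have hq := Cfsg.Agent.Transfer.isPGroup_quotient_pResidual (p := p) (G := G)
        intro g
        obtain ⟨k, hk⟩ := hq (QuotientGroup.mk' _ g)
        refine ⟨k, ?_⟩
        rwa [← map_pow, ← MonoidHom.mem_ker, QuotientGroup.ker_mk', hN, Subgroup.mem_bot] at hk
      have : Nontrivial G := ⟨⟨_, _, hxy⟩⟩
      have hz := hGp.bot_lt_center
      rcases Subgroup.Normal.eq_bot_or_eq_top (inferInstance : (Subgroup.center G).Normal) with h | h
      · exact absurd h hz.ne'
      · exact hxy ((Subgroup.mem_center_iff.mp (h ▸ Subgroup.mem_top y)) x)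
    · exact hcard (by rw [hN, Subgroup.card_top]; exact hpdvd)
  by_contra hcon
  rw [not_or] at hcon
  obtain ⟨h3, h12⟩ := hcon
  obtain ⟨n, hn⟩ := IsPGroup.iff_card.mp P.2
  have hn2 : n ≤ 2 := by
    by_contra hlt
    exact h3 ((pow_dvd_pow p (by omega : 3 ≤ n)).trans
      (hn ▸ Subgroup.card_subgroup_dvd_card (P : Subgroup G)))
  rcases (by omega : n ≤ 1 ∨ n = 2) with hn' | rfl
  · have hcyc : IsCyclic P := by
      interval_cases n
      · rw [pow_zero] at hn
        have := (Nat.card_eq_one_iff_unique.mp hn).1
        exact isCyclic_of_subsingleton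
      · exact isCyclic_of_prime_card (by simpa using hn)
    exact hnot ⟨P, _, inferInstance, IsCyclic.isComplement' hpdef.symm hcyc⟩
  · refine hnot (Cfsg.Agent.Transfer.hasNormalPComplement_of_not_dvd_pow_sub_one P
      (IsPGroup.isMulCommutative_of_card_eq_prime_sq hn) fun q hq hqG hqp i hi hiP hd => ?_)
    have hpq : p < q := lt_of_le_of_ne (Nat.minFac_le_of_dvd hq.two_le hqG) (Ne.symm hqp)
    rw [hn] at hiP
    have hi2 : i ≤ 2 := Nat.pow_le_pow_iff_right hp.one_lt |>.mp (Nat.le_of_dvd (pow_pos hp.pos _) hiP)
    interval_cases i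
    · rw [pow_one] at hd
      have := Nat.le_of_dvd (by have := hp.two_le; omega) hd
      omega
    · have hsq : p ^ 2 - 1 = (p + 1) * (p - 1) := by simpa using Nat.sq_sub_sq p 1
      rw [hsq] at hd
      rcases hq.dvd_mul.mp hd with h1 | h1
      · have := Nat.le_of_dvd (by omega) h1
        have hqe : q = p + 1 := by omega
        have hp2 : p = 2 := by
          rcases hp.eq_two_or_odd with h2 | h2
          · exact h2
          · have := hp.two_le
            rcases hq.eq_two_or_odd with h4 | h4 <;> omega
        refine h12 ?_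
        have h4 : 2 ^ 2 ∣ Nat.card G := by
          have h6 : p ^ 2 ∣ Nat.card G := hn ▸ Subgroup.card_subgroup_dvd_card (P : Subgroup G)
          rwa [hp2] at h6
        have h5 : 3 ∣ Nat.card G := by rwa [hqe, hp2] at hqG
        exact Nat.Coprime.mul_dvd_of_dvd_of_dvd (by norm_num : Nat.Coprime 4 3) h4 h5
      · have := Nat.le_of_dvd (by have := hp.two_le; omega) h1
        omega

end Cfsg.Agent.S0073
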