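import Cfsg.Statements.S0078
import Cfsg.Agent.Lib.Transfer.Tate

set_option autoImplicit false
open Cfsg

namespace Cfsg.Agent.S0078

/-- In a p-normal group, a Sylow p-subgroup P meets O^p(G) exactly where it meets O^p(V), for any subgroup V containing the normalizer of the centre of P. -/
theorem result {G : Type*} [Group G] [Finite G] {p : ℕ} [Fact p.Prime] (P : Sylow p G) (hn : ∀ Q : Sylow p G, (P : Subgroup G) ⊓ Subgroup.centralizer (P : Set G) ≤ (Q : Subgroup G) → (Q : Subgroup G) ⊓ Subgroup.centralizer (Q : Set G) = (P : Subgroup G) ⊓ Subgroup.centralizer (P : Set G)) (V : Subgroup G) (hV : Subgroup.normalizer (((P : Subgroup G) ⊓ Subgroup.centralizer (P : Set G) : Subgroup G) : Set G) ≤ V) : (P : Subgroup G) ⊓ Cfsg.pResidual p G = (P : Subgroup G) ⊓ (Cfsg.pResidual p V).map V.subtype := by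
  open scoped Pointwise in
  set Z : Subgroup G := (P : Subgroup G) ⊓ Subgroup.centralizer (P : Set G) with hZdef
  have hZc : Z ≤ Subgroup.centralizer ((P : Subgroup G) : Set G) := inf_le_right
  have hW : Cfsg.IsWeaklyClosed Z (P : Subgroup G) := by
    refine ⟨inf_le_left, fun g hg => ?_⟩
    have hle : Z ≤ ((g⁻¹ • P : Sylow p G) : Subgroup G) := by
      intro z hz
      have h1 := Subgroup.smul_mem_pointwise_smul _ (MulAut.conj g⁻¹) _ (hg ⟨z, hz, rfl⟩)
      simpa [MulAut.smul_def, mul_assoc, Sylow.coe_subgroup_smul] using h1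
    have hq := hn _ hle
    have hmemQ : ∀ u, u ∈ ((g⁻¹ • P : Sylow p G) : Subgroup G) ↔ g * u * g⁻¹ ∈ (P : Subgroup G) := by
      intro u
      rw [Sylow.coe_subgroup_smul, Subgroup.mem_pointwise_smul_iff_inv_smul_mem, ← map_inv,
        inv_inv, MulAut.smul_def, MulAut.conj_apply]
    have key : ∀ u, u ∈ Z ↔ g * u * g⁻¹ ∈ Z := by
      intro u
      nth_rewrite 1 [← hq]
      constructor
      · rintro ⟨h1, h2⟩
        refine ⟨(hmemQ u).1 h1, fun y hy => ?_⟩
        have hy' : g⁻¹ * y * g ∈ ((g⁻¹ • P : Sylow p G) : Subgroup G) :=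
          (hmemQ _).2 (by rw [show g * (g⁻¹ * y * g) * g⁻¹ = y by group]; exact hy)
        have h3 := Subgroup.mem_centralizer_iff.mp h2 _ hy'
        calc y * (g * u * g⁻¹) = g * (g⁻¹ * y * g * u) * g⁻¹ := by group
          _ = g * (u * (g⁻¹ * y * g)) * g⁻¹ := by rw [h3]
          _ = g * u * g⁻¹ * y := by group
      · rintro ⟨h1, h2⟩
        refine ⟨(hmemQ u).2 h1, fun y hy => ?_⟩
        have h3 := Subgroup.mem_centralizer_iff.mp h2 _ ((hmemQ y).1 hy)
        calc y * u = g⁻¹ * (g * y * g⁻¹ * (g * u * g⁻¹)) * g := by group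
          _ = g⁻¹ * (g * u * g⁻¹ * (g * y * g⁻¹)) * g := by rw [h3]
          _ = u * y := by group
    ext u
    constructor
    · rintro ⟨z, hz, rfl⟩
      exact (key z).1 hz
    · intro hu
      exact ⟨g⁻¹ * u * g, (key _).2 (by simpa [mul_assoc] using hu), by simp [mul_assoc]⟩
  have hPV : (P : Subgroup G) ≤ V :=
    ((Subgroup.le_centralizer_iff.mp hZc).trans (Subgroup.centralizer_le_normalizer _)).trans hV
  refine Cfsg.Agent.Transfer.sylow_inf_pResidual_eq_of_le_commutator P hPV ?_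
  rw [inf_comm, Cfsg.Agent.Transfer.commutator_inf_eq_of_weaklyClosed P hZc hW]
  exact inf_le_left.trans (Subgroup.commutator_mono hV hV)

end Cfsg.Agent.S0078
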