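import Cfsg.Statements.S0079
import Cfsg.Agent.Lib.Transfer.Hall

set_option autoImplicit false
open Cfsg

namespace Cfsg.Agent.S0079

/-- A nilpotent Hall subgroup has a normal complement exactly when elements of it that are conjugate in the whole group are already conjugate inside it. -/
theorem result {G : Type*} [Group G] [Finite G] (H : Subgroup G) (hH : Group.IsNilpotent H) (hHall : Nat.Coprime (Nat.card H) H.index) : (∃ N : Subgroup G, N.Normal ∧ N.IsComplement' H) ↔ ∀ x ∈ H, ∀ y ∈ H, (∃ g : G, g * x * g⁻¹ = y) → ∃ h ∈ H, h * x * h⁻¹ = y := by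
  refine ⟨?_, Cfsg.Agent.Transfer.exists_normal_complement_of_hall_control H hH hHall⟩
  rintro ⟨N, hN, hc⟩ x hx y hy ⟨g, rfl⟩
  obtain ⟨h, hh, n, hn, rfl⟩ := Subgroup.mem_sup_of_normal_right.mp
    ((hc.symm.sup_eq_top).ge (Subgroup.mem_top g))
  refine ⟨h, hh, ?_⟩
  have h1 : n * x * n⁻¹ * x⁻¹ ∈ N := by
    have := N.mul_mem hn (hN.conj_mem _ (N.inv_mem hn) x)
    simpa [mul_assoc] using this
  have h2 : n * x * n⁻¹ * x⁻¹ ∈ H := by
    have := H.mul_mem (H.mul_mem (H.mul_mem (H.inv_mem hh) hy) hh) (H.inv_mem hx)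
    simpa [mul_assoc] using this
  have h3 := mul_inv_eq_one.mp (Subgroup.disjoint_def.mp hc.disjoint h1 h2)
  calc h * x * h⁻¹ = h * (n * x * n⁻¹) * h⁻¹ := by rw [h3]
    _ = _ := by group

end Cfsg.Agent.S0079
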