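import Cfsg.Statements.S0080
import Mathlib.GroupTheory.Focal

set_option autoImplicit false
open Cfsg

namespace Cfsg.Agent.S0080

/-- When the index of H is prime to the order of H/H', the focal subgroup of H is G' ∩ H, and H/(G' ∩ H) has a normal complement. -/
theorem result {G : Type*} [Group G] [Finite G] (H : Subgroup G) (h : Nat.Coprime H.index (⁅H, H⁆.relIndex H)) : Subgroup.focalSubgroup H = commutator G ⊓ H ∧ ∃ N : Subgroup G, N.Normal ∧ N ⊓ H = commutator G ⊓ H ∧ N ⊔ H = ⊤ := by
  classical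
  have hdvd : H.focalSubgroupOf.index ∣ ⁅H, H⁆.relIndex H := by
    rw [Subgroup.relIndex]
    exact Subgroup.index_dvd_of_le (Subgroup.comap_mono (Subgroup.commutator_le_focalSubgroup H))
      |>.trans dvd_rfl
  have hcop : Nat.Coprime (Nat.card (H ⧸ H.focalSubgroupOf)) H.index := by
    rw [← Subgroup.index_eq_card]
    exact h.symm.coprime_dvd_left hdvd
  have hres : ∀ x : H, H.transferFocal (x : G) = powCoprime hcop (x : H ⧸ H.focalSubgroupOf) :=
    fun x => H.transferFocal_eq_pow x
  have hNH : H.transferFocal.ker ⊓ H = H.focalSubgroup := by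
    refine le_antisymm ?_ ?_
    · rintro x ⟨hxN, hxH⟩
      have h1 : powCoprime hcop ((⟨x, hxH⟩ : H) : H ⧸ H.focalSubgroupOf) = powCoprime hcop 1 := by
        rw [← hres ⟨x, hxH⟩, powCoprime_apply, one_pow]
        exact hxN
      exact (QuotientGroup.eq_one_iff (N := H.focalSubgroupOf) ⟨x, hxH⟩).mp
        ((powCoprime hcop).injective h1)
    · intro x hx
      refine ⟨?_, H.focalSubgroup_le hx⟩
      show H.transferFocal x = 1
      have hx1 : ((⟨x, H.focalSubgroup_le hx⟩ : H) : H ⧸ H.focalSubgroupOf) = 1 :=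
        (QuotientGroup.eq_one_iff _).mpr hx
      rw [hres ⟨x, H.focalSubgroup_le hx⟩, powCoprime_apply, hx1, one_pow]
  have hfoc : H.focalSubgroup = commutator G ⊓ H := by
    refine le_antisymm (le_inf H.focalSubgroup_le_commutator H.focalSubgroup_le) ?_
    rw [← hNH]
    open scoped IsMulCommutative in
    exact inf_le_inf_right _ (Abelianization.commutator_subset_ker _)
  refine ⟨hfoc, _, MonoidHom.normal_ker _, hNH.trans hfoc, ?_⟩
  rw [eq_top_iff]
  intro g _
  obtain ⟨y, hy⟩ := (powCoprime hcop).surjective (H.transferFocal g)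
  obtain ⟨x, rfl⟩ := QuotientGroup.mk_surjective y
  rw [← hres] at hy
  have h3 : g * (x : G)⁻¹ ∈ H.transferFocal.ker := by
    rw [MonoidHom.mem_ker, map_mul, map_inv, hy, mul_inv_cancel]
  simpa using mul_mem (Subgroup.mem_sup_left h3 : g * (x : G)⁻¹ ∈ _ ⊔ H)
    (Subgroup.mem_sup_right x.2)

end Cfsg.Agent.S0080
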