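import Cfsg.Statements.S0082
import Cfsg.Agent.Lib.Transfer.Frobenius
import Mathlib.GroupTheory.SpecificGroups.Cyclic

set_option autoImplicit false
open Cfsg

namespace Cfsg.Agent.S0082

/-- With a cyclic Sylow p-subgroup, either there is a normal p-complement or the elements of order prime to p generate the whole group. -/
theorem result {G : Type*} [Group G] [Finite G] {p : ℕ} [Fact p.Prime] (P : Sylow p G) (hP : IsCyclic P) : Cfsg.HasNormalPComplement p G ∨ Cfsg.pResidual p G = ⊤ := by
  classical
  have hab : IsMulCommutative P := IsCyclic.isMulCommutative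
  by_cases hall : ∀ g ∈ Subgroup.normalizer ((P : Subgroup G) : Set G),
      Nat.Coprime (orderOf g) p → g ∈ Subgroup.centralizer ((P : Subgroup G) : Set G)
  · left
    refine ⟨P, _, inferInstance, MonoidHom.ker_transferSylow_isComplement' P ?_⟩
    refine Subgroup.subgroupOf_eq_top.mp (top_le_iff.mp ?_)
    rw [← Cfsg.Agent.Transfer.sylow_sup_eq_top_of_coprime_mem
      (P.subtype Subgroup.le_normalizer) (C := (Subgroup.centralizer ((P : Subgroup G) : Set G)).subgroupOf
        (Subgroup.normalizer ((P : Subgroup G) : Set G)))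
      fun z hz => hall z z.2 (by rwa [Subgroup.orderOf_coe])]
    exact sup_le (Subgroup.comap_mono P.le_centralizer) le_rfl
  · right
    push Not at hall
    obtain ⟨g, hgN, hgp, hgC⟩ := hall
    set φ : MulAut P := Subgroup.normalizerMonoidHom (P : Subgroup G) ⟨g, hgN⟩
    open scoped IsMulCommutative in
    let d : P →* P :=
      { toFun := fun x => x * (φ x)⁻¹
        map_one' := by simp
        map_mul' := fun a b => by rw [map_mul, mul_inv, mul_mul_mul_comm] }
    have hdisj : ∀ a, a ∈ d.range → a ∈ d.ker → a = 1 := by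
      rintro a ⟨x, rfl⟩ ha
      have hfix : φ (d x) = d x := (mul_inv_eq_one.mp (show d x * (φ (d x))⁻¹ = 1 from ha)).symm
      have hx : φ x = (d x)⁻¹ * x := by
        show φ x = (x * (φ x)⁻¹)⁻¹ * x
        group
      have hpow : ∀ m : ℕ, (φ ^ m) x = ((d x)⁻¹) ^ m * x := by
        intro m
        induction m with
        | zero => simp
        | succ m ih =>
          rw [pow_succ', MulAut.mul_apply, ih, map_mul, map_pow, map_inv, hfix, hx, ← mul_assoc,
            ← pow_succ]
      have hφ : φ ^ orderOf g = 1 := by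
        rw [← Subgroup.orderOf_mk g hgN, ← map_pow, pow_orderOf_eq_one, map_one]
      have h1 := hpow (orderOf g)
      rw [hφ, MulAut.one_apply, right_eq_mul, inv_pow, inv_eq_one] at h1
      exact Cfsg.Agent.Transfer.eq_one_of_coprime_orderOf P.2
        (hgp.coprime_dvd_left (orderOf_dvd_of_pow_eq_one h1))
    have hne : d.range ≠ ⊥ := by
      intro h
      refine hgC (Subgroup.mem_centralizer_iff.mpr fun x hx => ?_)
      have h0 : d ⟨x, hx⟩ ∈ (⊥ : Subgroup P) := h ▸ ⟨⟨x, hx⟩, rfl⟩
      have h1 : (⟨x, hx⟩ : P) = φ ⟨x, hx⟩ := mul_inv_eq_one.mp (Subgroup.mem_bot.mp h0)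
      have h2 : x = g * x * g⁻¹ := congrArg Subtype.val h1
      rw [eq_comm, mul_inv_eq_iff_eq_mul, eq_comm] at h2
      exact h2
    have hker : d.ker = ⊥ := by
      by_contra hk
      obtain ⟨n, hn⟩ := IsPGroup.iff_card.mp P.2
      have hdvd : ∀ K : Subgroup P, K ≠ ⊥ → p ∣ Nat.card K := fun K hK =>
        (IsPGroup.to_subgroup P.2 K).card_eq_or_dvd.resolve_left
          (fun h1 => hK (Subgroup.card_eq_one.mp h1))
      obtain ⟨a, ha⟩ := exists_prime_orderOf_dvd_card' p (hdvd _ hne)
      obtain ⟨b, hb⟩ := exists_prime_orderOf_dvd_card' p (hdvd _ hk)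
      have : Fintype P := Fintype.ofFinite P
      have hb' : (b : P) ∈ Subgroup.zpowers (a : P) := by
        have hc : IsCyclic (↥(P : Subgroup G)) := hP
        have hle := IsCyclic.card_pow_eq_one_le (α := ↥(P : Subgroup G)) (Fact.out : p.Prime).pos
        have hsub : (Finset.univ.filter fun y : P => y ∈ Subgroup.zpowers (a : P)) ⊆
            Finset.univ.filter fun y : P => y ^ p = 1 := by
          intro y hy
          rw [Finset.mem_filter] at hy ⊢
          refine ⟨hy.1, orderOf_dvd_iff_pow_eq_one.mp ?_⟩
          have := Subgroup.orderOf_dvd_natCard _ hy.2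
          rwa [Nat.card_zpowers, Subgroup.orderOf_coe, ha] at this
        have hcard : (Finset.univ.filter fun y : P => y ∈ Subgroup.zpowers (a : P)).card = p := by
          rw [← Fintype.card_subtype, ← Nat.card_eq_fintype_card]
          exact (Nat.card_zpowers _).trans (by rw [Subgroup.orderOf_coe, ha])
        have heq := Finset.eq_of_subset_of_card_le hsub (hcard.symm ▸ hle)
        have hbm : (b : P) ∈ Finset.univ.filter fun y : P => y ^ p = 1 := by
          simp only [Finset.mem_filter, Finset.mem_univ, true_and]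
          exact orderOf_dvd_iff_pow_eq_one.mp (dvd_of_eq ((Subgroup.orderOf_coe b).trans hb))
        rw [← heq, Finset.mem_filter] at hbm
        exact hbm.2
      have h1 := hdisj b (Subgroup.zpowers_le.mpr a.2 hb') b.2
      rw [← orderOf_eq_one_iff, Subgroup.orderOf_coe, hb] at h1
      exact (Fact.out : p.Prime).ne_one h1
    have hsurj : Function.Surjective d :=
      Finite.surjective_of_injective ((MonoidHom.ker_eq_bot_iff d).mp hker)
    have hle : (P : Subgroup G) ≤ Cfsg.pResidual p G := by
      intro x hx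
      obtain ⟨u, hu⟩ := hsurj ⟨x, hx⟩
      have hux : (u : G) * (g * (u : G) * g⁻¹)⁻¹ = x := congrArg Subtype.val hu
      rw [← hux, show (u : G) * (g * (u : G) * g⁻¹)⁻¹ = (u : G) * g * (u : G)⁻¹ * g⁻¹ by group]
      exact (Cfsg.pResidual p G).mul_mem (Cfsg.Agent.Transfer.pResidual_normal.conj_mem g
        (Cfsg.Agent.Transfer.mem_pResidual_of_coprime hgp) _)
        ((Cfsg.pResidual p G).inv_mem (Cfsg.Agent.Transfer.mem_pResidual_of_coprime hgp))
    rw [← Cfsg.Agent.Transfer.sylow_sup_pResidual_eq_top P, sup_eq_right.mpr hle]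

end Cfsg.Agent.S0082
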