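import Cfsg.Statements.S0083
import Cfsg.Agent.Lib.Transfer.Focal

set_option autoImplicit false
open Cfsg

namespace Cfsg.Agent.S0083

/-- For an abelian Sylow p-subgroup P, a normal p-complement exists exactly when the normalizer of P is an internal direct product of P with some subgroup. -/
theorem result {G : Type*} [Group G] [Finite G] {p : ℕ} [Fact p.Prime] (P : Sylow p G) (hP : IsMulCommutative P) : Cfsg.HasNormalPComplement p G ↔ ∃ Q : Subgroup G, Q ≤ Subgroup.centralizer (P : Set G) ∧ Q ⊓ (P : Subgroup G) = ⊥ ∧ Q ⊔ (P : Subgroup G) = Subgroup.normalizer (P : Set G) := by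
  open scoped commutatorElement in
  constructor
  · intro hc
    have hbot := (Cfsg.Agent.Transfer.hasNormalPComplement_iff_inf_eq_bot P).mp hc
    refine ⟨Subgroup.normalizer (P : Set G) ⊓ Cfsg.pResidual p G, ?_, ?_, ?_⟩
    · intro x hx
      rw [Subgroup.mem_centralizer_iff]
      intro y hy
      have hmem : y * x * y⁻¹ * x⁻¹ ∈ (P : Subgroup G) ⊓ Cfsg.pResidual p G := by
        refine ⟨?_, ?_⟩
        · have := (P : Subgroup G).mul_mem hy
            (((Subgroup.mem_normalizer_iff.mp hx.1) y⁻¹).mp ((P : Subgroup G).inv_mem hy))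
          show _ ∈ (P : Subgroup G)
          simpa [mul_assoc] using this
        · exact (Cfsg.pResidual p G).mul_mem
            (Cfsg.Agent.Transfer.pResidual_normal.conj_mem x hx.2 y) ((Cfsg.pResidual p G).inv_mem hx.2)
      rw [hbot, Subgroup.mem_bot, mul_inv_eq_one, mul_inv_eq_iff_eq_mul] at hmem
      exact hmem
    · rw [inf_assoc, inf_comm (Cfsg.pResidual p G), hbot, inf_bot_eq]
    · refine le_antisymm (sup_le inf_le_left Subgroup.le_normalizer) fun n hn => ?_
      obtain ⟨u, hu, v, hv, rfl⟩ := Subgroup.mem_sup_of_normal_right.mp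
        ((Cfsg.Agent.Transfer.sylow_sup_pResidual_eq_top P).ge (Subgroup.mem_top n))
      refine mul_mem (Subgroup.mem_sup_right hu) (Subgroup.mem_sup_left ⟨?_, hv⟩)
      exact ((Subgroup.normalizer _).mul_mem_cancel_left (Subgroup.le_normalizer hu)).mp hn
  · rintro ⟨Q, hQ, -, hsup⟩
    have hN : Subgroup.normalizer (P : Set G) ≤ Subgroup.centralizer (P : Set G) := by
      rw [← hsup]
      exact sup_le hQ P.le_centralizer
    exact ⟨P, _, inferInstance, MonoidHom.ker_transferSylow_isComplement' P hN⟩

end Cfsg.Agent.S0083
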