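import Cfsg.Statements.S0084
import Cfsg.Agent.Lib.Transfer.Frobenius

set_option autoImplicit false
open Cfsg

namespace Cfsg.Agent.S0084

/-- A group whose Sylow 2-subgroups are Klein four-groups and whose order is prime to 3 has a normal 2-complement. -/
theorem result {G : Type*} [Group G] [Finite G] (T : Sylow 2 G) (hT : IsKleinFour T) (h3 : ¬ 3 ∣ Nat.card G) : Cfsg.HasNormalPComplement 2 G := by
  have hab : IsMulCommutative T := ⟨⟨fun a b => by
    have hT2 : Monoid.exponent (↥(T : Subgroup G)) = 2 := hT.exponent_two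
    exact mul_comm_of_exponent_two hT2 a b⟩⟩
  refine Cfsg.Agent.Transfer.hasNormalPComplement_of_not_dvd_pow_sub_one T hab
    fun q hq hqG hq2 i hi hiT hd => ?_
  have h4 : Nat.card T = 4 := hT.card_four
  rw [h4] at hiT
  have hi2 : 2 ^ i ≤ 4 := Nat.le_of_dvd (by norm_num) hiT
  have : i ≤ 2 := by
    by_contra hlt
    have : 2 ^ 3 ≤ 2 ^ i := Nat.pow_le_pow_right (by norm_num) (by omega)
    omega
  interval_cases i <;> norm_num at hd
  · exact hq.ne_one hd
  · exact h3 ((Nat.prime_dvd_prime_iff_eq hq Nat.prime_three).mp hd ▸ hqG)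

end Cfsg.Agent.S0084
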