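import Cfsg.Statements.S0085
import Cfsg.Agent.Lib.Transfer.Frobenius

set_option autoImplicit false
open Cfsg

namespace Cfsg.Agent.S0085

/-- A group whose Sylow 2-subgroups are elementary abelian of order 8 and whose order is prime to 3 and to 7 has a normal 2-complement. -/
theorem result {G : Type*} [Group G] [Finite G] (T : Sylow 2 G) (h8 : Nat.card T = 8) (he : ∀ x : T, x * x = 1) (h3 : ¬ 3 ∣ Nat.card G) (h7 : ¬ 7 ∣ Nat.card G) : Cfsg.HasNormalPComplement 2 G := by
  have hab : IsMulCommutative T := ⟨⟨fun a b => by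
    have inv_eq : ∀ x : T, x⁻¹ = x := fun x => inv_eq_of_mul_eq_one_right (he x)
    calc a * b = (a * b)⁻¹ := (inv_eq _).symm
      _ = b * a := by rw [mul_inv_rev, inv_eq, inv_eq]⟩⟩
  refine Cfsg.Agent.Transfer.hasNormalPComplement_of_not_dvd_pow_sub_one T hab
    fun q hq hqG hq2 i hi hiT hd => ?_
  rw [h8] at hiT
  have hi2 : 2 ^ i ≤ 8 := Nat.le_of_dvd (by norm_num) hiT
  have : i ≤ 3 := by
    by_contra hlt
    have : 2 ^ 4 ≤ 2 ^ i := Nat.pow_le_pow_right (by norm_num) (by omega)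
    omega
  interval_cases i <;> norm_num at hd
  · exact hq.ne_one hd
  · exact h3 ((Nat.prime_dvd_prime_iff_eq hq Nat.prime_three).mp hd ▸ hqG)
  · exact h7 ((Nat.prime_dvd_prime_iff_eq hq (by decide)).mp hd ▸ hqG)

end Cfsg.Agent.S0085
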