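import Cfsg.Statements.S0089
import Cfsg.Agent.Lib.Transfer.Abelian

set_option autoImplicit false
open Cfsg

namespace Cfsg.Agent.S0089

/-- When all Sylow subgroups are abelian, the derived subgroup meets the centre trivially. -/
theorem result {G : Type*} [Group G] [Finite G] (h : ∀ p : ℕ, p.Prime → ∀ P : Sylow p G, IsMulCommutative P) : commutator G ⊓ Subgroup.center G = ⊥ := by
  rw [Subgroup.eq_bot_iff_forall]
  rintro z ⟨hzc, hzZ⟩
  by_contra hne
  obtain ⟨p, hp, hpd⟩ := Nat.exists_prime_and_dvd (mt orderOf_eq_one_iff.mp hne)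
  have := Fact.mk hp
  set w := z ^ (orderOf z / p)
  have hwo : orderOf w = p := by
    rw [orderOf_pow, Nat.gcd_eq_right (Nat.div_dvd_of_dvd hpd), Nat.div_div_self hpd (orderOf_pos z).ne']
  have hwZ : w ∈ Subgroup.center G := (Subgroup.center G).pow_mem hzZ _
  have : (Subgroup.zpowers w).Normal := ⟨fun a ha g => by
    rwa [Subgroup.mem_center_iff.mp (Subgroup.zpowers_le.mpr hwZ ha) g, mul_inv_cancel_right]⟩
  have hle := (IsPGroup.of_card (n := 1) (by rw [Nat.card_zpowers, hwo, pow_one]) :
    IsPGroup p (Subgroup.zpowers w)).le_sylow_of_normal (default : Sylow p G)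
  have hbot := Cfsg.Agent.Transfer.inf_commutator_inf_center_eq_bot (h p hp default)
    (default : Sylow p G).card_coprime_index
  have hw1 : w = 1 := Subgroup.mem_bot.mp
    (hbot ▸ ⟨⟨hle (Subgroup.mem_zpowers w), (commutator G).pow_mem hzc _⟩, hwZ⟩)
  rw [hw1, orderOf_one] at hwo
  exact hp.one_lt.ne hwo

end Cfsg.Agent.S0089
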