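import Cfsg.Statements.S0090
import Cfsg.Agent.Lib.Transfer.Abelian
import Cfsg.Agent.Lib.Transfer.Focal

set_option autoImplicit false
open Cfsg

namespace Cfsg.Agent.S0090

/-- An abelian normal Hall subgroup A splits as the internal direct product of G' ∩ A and Z(G) ∩ A, and [A, G] = G' ∩ A. -/
theorem result {G : Type*} [Group G] [Finite G] (A : Subgroup G) [A.Normal] (hc : IsMulCommutative A) (hHall : Nat.Coprime (Nat.card A) A.index) : ⁅A, (⊤ : Subgroup G)⁆ = commutator G ⊓ A ∧ (commutator G ⊓ A) ⊓ (Subgroup.center G ⊓ A) = ⊥ ∧ (commutator G ⊓ A) ⊔ (Subgroup.center G ⊓ A) = A := by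
  have h1 : ⁅A, (⊤ : Subgroup G)⁆ = A.focalSubgroup :=
    le_antisymm (Cfsg.Agent.Transfer.commutator_le_focalSubgroup_of_normalizer
        (le_of_eq (Subgroup.normalizer_eq_top (H := A)).symm))
      (Cfsg.Agent.Transfer.focalSubgroup_le_of_control
        fun x _ y _ ⟨g, hg⟩ => ⟨g, Subgroup.mem_top g, hg⟩)
  have h2 : (commutator G ⊓ A) ⊓ (Subgroup.center G ⊓ A) = ⊥ := by
    rw [eq_bot_iff, ← Cfsg.Agent.Transfer.inf_commutator_inf_center_eq_bot hc hHall]
    rintro x ⟨⟨hxc, hxA⟩, hxZ, -⟩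
    exact ⟨⟨hxA, hxc⟩, hxZ⟩
  have h3 := Cfsg.Agent.Transfer.focalSubgroup_sup_center_eq hHall
  have hle : A.focalSubgroup ≤ commutator G ⊓ A :=
    le_inf A.focalSubgroup_le_commutator A.focalSubgroup_le
  have h4 : commutator G ⊓ A ≤ A.focalSubgroup := by
    intro x hx
    have hx' : x ∈ A.focalSubgroup ⊔ (Subgroup.center G ⊓ A) := h3.symm ▸ hx.2
    have : (Subgroup.center G ⊓ A).Normal := inferInstance
    obtain ⟨f, hf, z, hz, rfl⟩ := Subgroup.mem_sup_of_normal_right.mp hx'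
    have hzm : z ∈ (commutator G ⊓ A) ⊓ (Subgroup.center G ⊓ A) :=
      ⟨((commutator G ⊓ A).mul_mem_cancel_left (hle hf)).mp hx, hz⟩
    rw [h2, Subgroup.mem_bot] at hzm
    rwa [hzm, mul_one]
  refine ⟨h1.trans (le_antisymm hle h4), h2, ?_⟩
  rw [← le_antisymm hle h4]
  exact h3

end Cfsg.Agent.S0090
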