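import Cfsg.Statements.S0092
import Cfsg.Agent.Lib.Transfer.Hall
import Cfsg.Agent.Lib.Transfer.Abelian
import Mathlib.GroupTheory.SchurZassenhaus

set_option autoImplicit false
open Cfsg

namespace Cfsg.Agent.S0092

/-- If the Sylow p-subgroups of O^p(G) are abelian then G splits over O^p(G). -/
theorem result {G : Type*} [Group G] [Finite G] {p : ℕ} [Fact p.Prime] (h : ∀ Q : Sylow p (Cfsg.pResidual p G), IsMulCommutative Q) : ∃ K : Subgroup G, K.IsComplement' (Cfsg.pResidual p G) := by
  classical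
  set N := Cfsg.pResidual p G with hNdef
  obtain ⟨P⟩ := (inferInstance : Nonempty (Sylow p G))
  obtain ⟨Q, hQ⟩ := Cfsg.Agent.Transfer.exists_sylow_subgroupOf_normal P N
  set Qg : Subgroup G := (P : Subgroup G) ⊓ N
  have hQg : (Q : Subgroup N).map N.subtype = Qg := by rw [hQ, Subgroup.subgroupOf_map_subtype]
  have hQab : IsMulCommutative Q := h Q
  have hQgab : ∀ a ∈ Qg, ∀ b ∈ Qg, a * b = b * a := by
    intro a ha b hb
    rw [← hQg] at ha hb
    obtain ⟨a, ha, rfl⟩ := ha
    obtain ⟨b, hb, rfl⟩ := hb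
    exact congrArg (fun z : Q => ((z : N) : G)) (hQab.is_comm.comm ⟨a, ha⟩ ⟨b, hb⟩)
  have hFr : Subgroup.normalizer (Qg : Set G) ⊔ N = ⊤ :=
    hQg ▸ Sylow.normalizer_sup_eq_top Q
  set X : Subgroup G := Subgroup.normalizer (Qg : Set G)
  have hQX : Qg ≤ X := Subgroup.le_normalizer
  set Y : Subgroup X := N.subgroupOf X
  set A : Subgroup Y := (Qg.subgroupOf X).subgroupOf Y
  have hAY : Qg.subgroupOf X ≤ Y := Subgroup.comap_mono inf_le_right
  have : (Qg.subgroupOf X).Normal := Subgroup.normal_in_normalizer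
  have hAn : A.Normal := Subgroup.normal_comap _
  have hAab : IsMulCommutative A :=
    ⟨⟨fun a b => Subtype.ext (Subtype.ext (Subtype.ext (hQgab _ a.2 _ b.2)))⟩⟩
  have hAcard : Nat.card A = Nat.card Q := by
    rw [Nat.card_congr (Subgroup.subgroupOfEquivOfLe hAY).toEquiv,
      Nat.card_congr (Subgroup.subgroupOfEquivOfLe hQX).toEquiv, ← hQg]
    exact (Nat.card_congr ((Q : Subgroup N).equivMapOfInjective _ N.subtype_injective).toEquiv).symm
  have hAidx : ¬ p ∣ A.index := by
    intro hd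
    refine Q.not_dvd_index (hd.trans ?_)
    have h2 : Nat.card Y ∣ Nat.card N := by
      exact (dvd_of_eq (Nat.card_congr (Y.equivMapOfInjective _ X.subtype_injective).toEquiv)).trans
        (Subgroup.card_dvd_of_le ((Subgroup.subgroupOf_map_subtype N X).le.trans inf_le_left))
    rw [← A.card_mul_index, ← (Q : Subgroup N).card_mul_index, hAcard] at h2
    exact (Nat.mul_dvd_mul_iff_left Nat.card_pos).mp h2
  have hHall : Nat.Coprime (Nat.card A) A.index := by
    obtain ⟨n, hn⟩ := IsPGroup.iff_card.mp Q.2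
    rw [hAcard, hn]
    exact ((Nat.Prime.coprime_iff_not_dvd Fact.out).mpr hAidx).pow_left n
  obtain ⟨K, hK⟩ := Subgroup.exists_right_complement'_of_coprime hHall
  have hKp : ∀ k ∈ K, Nat.Coprime (orderOf k) p := by
    intro k hk
    have h1 : Nat.card K = A.index := hK.symm.index_eq_card.symm
    exact (((Nat.Prime.coprime_iff_not_dvd Fact.out).mpr hAidx).symm).coprime_dvd_left
      (h1 ▸ Subgroup.orderOf_dvd_natCard K hk)
  -- no nontrivial element of `A` is centralized by `K`
  have hfix : ∀ a ∈ A, (∀ k ∈ K, k * a = a * k) → a = 1 := by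
    intro a ha hcomm
    have hcent : a ∈ Subgroup.center Y := by
      rw [Subgroup.mem_center_iff]
      intro y
      obtain ⟨b, hb, k, hk, rfl⟩ :=
        Subgroup.mem_sup_of_normal_left.mp (hK.sup_eq_top.ge (Subgroup.mem_top y))
      have hba : b * a = a * b := congrArg Subtype.val (hAab.is_comm.comm ⟨b, hb⟩ ⟨a, ha⟩)
      calc b * k * a = b * (k * a) := mul_assoc _ _ _
        _ = b * a * k := by rw [hcomm k hk, mul_assoc]
        _ = a * (b * k) := by rw [hba, mul_assoc]
    have hQfoc : (Q : Subgroup N) ≤ ⁅(Q : Subgroup N), Subgroup.normalizer ((Q : Subgroup N) : Set N)⁆ := by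
      rw [← Cfsg.Agent.Transfer.focalSubgroup_eq_commutator_normalizer_of_abelian Q hQab]
      exact Cfsg.Agent.Transfer.sylow_le_focalSubgroup_of_pResidual_eq_top Q
        Cfsg.Agent.Transfer.pResidual_pResidual
    have hle : Qg ≤ ((commutator Y).map Y.subtype).map X.subtype := by
      rw [← hQg]
      refine (Subgroup.map_mono (hQfoc.trans (Subgroup.commutator_mono Subgroup.le_normalizer le_rfl))).trans ?_
      rw [commutator_def, Subgroup.map_commutator, Subgroup.map_commutator, Subgroup.map_commutator]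
      refine Subgroup.commutator_mono ?_ ?_ <;>
      · rintro _ ⟨n, hn, rfl⟩
        have hnX : (n : G) ∈ X := by
          have h1 := Subgroup.le_normalizer_map N.subtype ⟨n, hn, rfl⟩
          rwa [hQg] at h1
        exact ⟨⟨n, hnX⟩, ⟨⟨⟨n, hnX⟩, n.2⟩, trivial, rfl⟩, rfl⟩
    have hac : a ∈ commutator Y := by
      obtain ⟨_, ⟨y, hy, rfl⟩, he⟩ := hle ha
      rwa [show y = a from Subtype.ext (Subtype.ext he)] at hy
    exact Subgroup.mem_bot.mp
      (Cfsg.Agent.Transfer.inf_commutator_inf_center_eq_bot hAab hHall ▸ ⟨⟨ha, hac⟩, hcent⟩)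
  -- Frattini argument for `K`
  set R : Subgroup X := Subgroup.normalizer ((K.map Y.subtype : Subgroup X) : Set X)
  have hYR : Y ⊔ R = ⊤ := by
    rw [eq_top_iff]
    intro x _
    have hAmap : A.map (MulAut.conjNormal x : MulAut Y).toMonoidHom = A := by
      refine Subgroup.eq_of_le_of_card_ge ?_
        (le_of_eq (Nat.card_congr (A.equivMapOfInjective _ (MulEquiv.injective _)).toEquiv))
      rintro _ ⟨b, hb, rfl⟩
      show ((MulAut.conjNormal x b : Y) : X) ∈ Qg.subgroupOf X
      rw [MulAut.conjNormal_apply]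
      exact this.conj_mem _ hb x
    have hKx : A.IsComplement' (K.map (MulAut.conjNormal x : MulAut Y).toMonoidHom) := by
      have hc := Nat.card_congr (K.equivMapOfInjective
        (MulAut.conjNormal x : MulAut Y).toMonoidHom (MulEquiv.injective _)).toEquiv
      refine Subgroup.isComplement'_of_coprime (hc ▸ hK.card_mul_card) (hc ▸ ?_)
      rw [← hK.symm.index_eq_card]
      exact hHall
    obtain ⟨a, ha, hax⟩ := Cfsg.Agent.Transfer.complement_conj_of_abelian_hall hAab hHall hK hKx
    have hmem : (a : X) * x ∈ R := by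
      rw [Subgroup.mem_normalizer_iff_map_conj_eq]
      conv_rhs => rw [← hax]
      rw [Subgroup.map_map, Subgroup.map_map, Subgroup.map_map]
      congr 1
      ext y
      simp [MulAut.conjNormal_apply, mul_assoc]
    simpa using mul_mem (Subgroup.mem_sup_left ((Y.inv_mem a.2) : ((a : X))⁻¹ ∈ Y) : ((a : X))⁻¹ ∈ Y ⊔ R)
      (Subgroup.mem_sup_right hmem)
  have hRY : ∀ r ∈ R, ∀ hr : r ∈ Y, (⟨r, hr⟩ : Y) ∈ K := by
    intro r hrR hr
    obtain ⟨b, hb, k, hk, hbk⟩ :=
      Subgroup.mem_sup_of_normal_left.mp (hK.sup_eq_top.ge (Subgroup.mem_top (⟨r, hr⟩ : Y)))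
    have hbR : (b : X) ∈ R := by
      have h1 : (b : X) = r * (k : X)⁻¹ := by
        rw [eq_mul_inv_iff_mul_eq]; exact congrArg Subtype.val hbk
      rw [h1]
      exact R.mul_mem hrR (R.inv_mem (Subgroup.le_normalizer ⟨k, hk, rfl⟩))
    have hb1 : b = 1 := by
      refine hfix b hb fun k' hk' => ?_
      have h1 : b * k' * b⁻¹ ∈ K := by
        obtain ⟨j, hj, hje⟩ := ((Subgroup.mem_normalizer_iff.mp hbR) (k' : X)).mp ⟨k', hk', rfl⟩
        rwa [show j = b * k' * b⁻¹ from Subtype.ext hje] at hj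
      have h2 : b * k' * b⁻¹ * k'⁻¹ ∈ A := by
        have := A.mul_mem hb (hAn.conj_mem _ (A.inv_mem hb) k')
        simpa [mul_assoc] using this
      have h3 := Subgroup.disjoint_def.mp hK.disjoint h2 (K.mul_mem h1 (K.inv_mem hk'))
      rw [mul_inv_eq_one, mul_inv_eq_iff_eq_mul] at h3
      exact h3.symm
    rw [← hbk, hb1, one_mul]
    exact hk
  obtain ⟨S⟩ := (inferInstance : Nonempty (Sylow p R))
  set K' : Subgroup G := ((S : Subgroup R).map R.subtype).map X.subtype
  refine ⟨K', Subgroup.isComplement'_of_disjoint_and_mul_eq_univ (Subgroup.disjoint_def.mpr ?_) ?_⟩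
  · rintro _ ⟨_, ⟨r, hr, rfl⟩, rfl⟩ hrN
    have hrK := hRY r r.2 hrN
    have hco : Nat.Coprime (orderOf r) p := by
      have h1 := hKp _ hrK
      rwa [show orderOf r = orderOf (⟨(r : X), hrN⟩ : Y) from
        (Subgroup.orderOf_coe r).symm.trans (Subgroup.orderOf_coe (⟨(r : X), hrN⟩ : Y))]
    rw [Cfsg.Agent.Transfer.eq_one_of_coprime_of_mem S.2 hr hco, map_one, map_one]
  · rw [← Subgroup.mul_normal, ← Subgroup.coe_top, SetLike.coe_set_eq, eq_top_iff, ← hFr]
    refine sup_le ?_ le_sup_right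
    have hRle : R ≤ (S : Subgroup R).map R.subtype ⊔ Y := by
      intro r hr
      obtain ⟨s, hs, m, hm, hsm⟩ := Subgroup.mem_sup_of_normal_right.mp
        ((Cfsg.Agent.Transfer.sylow_sup_pResidual_eq_top S).ge (Subgroup.mem_top (⟨r, hr⟩ : R)))
      have hmY : (m : X) ∈ Y := by
        have h1 : Cfsg.pResidual p R ≤ ((QuotientGroup.mk' N).comp (X.subtype.comp R.subtype)).ker :=
          Cfsg.Agent.Transfer.pResidual_le_ker _ Cfsg.Agent.Transfer.isPGroup_quotient_pResidual
        have h2 := h1 hm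
        simpa [Y, Subgroup.mem_subgroupOf] using h2
      have h3 : r = (s : X) * (m : X) := (congrArg Subtype.val hsm).symm
      rw [h3]
      exact mul_mem (Subgroup.mem_sup_left ⟨s, hs, rfl⟩) (Subgroup.mem_sup_right hmY)
    have hX : ⊤ ≤ (S : Subgroup R).map R.subtype ⊔ Y := hYR ▸ sup_le le_sup_right hRle
    have h4 := Subgroup.map_mono (f := X.subtype) hX
    rw [Subgroup.map_sup, ← MonoidHom.range_eq_map, Subgroup.range_subtype,
      Subgroup.subgroupOf_map_subtype] at h4
    exact h4.trans (sup_le_sup_left inf_le_left _)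

end Cfsg.Agent.S0092
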