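import Cfsg.Statements.S0097
import Cfsg.Agent.Lib.PGroup.Extraspecial

set_option autoImplicit false
open Cfsg

namespace Cfsg.Agent.S0097

/-- For odd p and E extraspecial, the subgroup generated by the elements of order dividing p has exponent dividing p and index at most p. -/
theorem result {E : Type*} [Group E] [Finite E] {p : ℕ} [Fact p.Prime] (hp : p ≠ 2) (h : Cfsg.IsExtraspecial p E) : (Subgroup.closure {x : E | x ^ p = 1}).index ≤ p ∧ ∀ g ∈ Subgroup.closure {x : E | x ^ p = 1}, g ^ p = 1 := by
  have hC := Cfsg.Agent.PGroup.xs_commutator_le h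
  let f : E →* E :=
    { toFun := fun x => x ^ p
      map_one' := one_pow p
      map_mul' := fun a b => Cfsg.Agent.PGroup.mul_pow_prime_classTwo hC (Fact.out : p.Prime) hp
        (Cfsg.Agent.PGroup.xs_comm_pow h b a) }
  have hker : Subgroup.closure {x : E | x ^ p = 1} = f.ker :=
    le_antisymm ((Subgroup.closure_le _).mpr fun x hx => hx) fun x hx => Subgroup.subset_closure hx
  rw [hker]
  refine ⟨?_, fun g hg => hg⟩
  rw [Subgroup.index_ker, ← h.2]
  refine Subgroup.card_le_of_le ?_
  rintro _ ⟨a, rfl⟩
  exact Cfsg.Agent.PGroup.xs_pow_mem h a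

end Cfsg.Agent.S0097
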