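import Cfsg.Statements.S0100
import Cfsg.Agent.OddLocal44.RankThree
import Cfsg.Agent.Lib.PGroup.Basic

set_option autoImplicit false
open Cfsg

namespace Cfsg.Agent.S0100

/-- For odd p, a p-group without normal elementary abelian subgroups of order p^3 has p-rank at most 2. -/
theorem result {P : Type*} [Group P] [Finite P] {p : ℕ} [Fact p.Prime] (hp : p ≠ 2) (hP : IsPGroup p P) (h : ∀ A : Subgroup P, A.Normal → IsMulCommutative A → (∀ a ∈ A, a ^ p = 1) → Nat.card A ≠ p ^ 3) (E : Subgroup P) (hE : IsMulCommutative E) (hEe : ∀ e ∈ E, e ^ p = 1) : Nat.card E ≤ p ^ 2 := by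
  by_contra hlt
  have hr : ¬ Cfsg.PRankLE p 2 P := fun hr => hlt (hr E hE hEe)
  obtain ⟨B, hBn, hB, hB3, -⟩ :=
    Cfsg.Agent.OddLocal44.exists_normal_elementary_cube hP hp hr
  obtain ⟨n, hn⟩ := Cfsg.Agent.PGroup.exists_card_eq_pow hP B
  haveI := hBn
  obtain ⟨K, hKB, hKn, hKc⟩ := Cfsg.Agent.PGroup.exists_normal_le_card hP B 3 hn
    ((Nat.pow_le_pow_iff_right (Fact.out : p.Prime).one_lt).mp (hn ▸ hB3))
  exact h K hKn (Cfsg.Agent.H40.elementary_of_le hB hKB).1 (fun a ha => hB.2 a (hKB ha)) hKc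

end Cfsg.Agent.S0100
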