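import Cfsg.Statements.S0101
import Cfsg.Agent.Lib.Transfer.Abelian
import Cfsg.Agent.Lib.PGroup.Basic

set_option autoImplicit false
open Cfsg

namespace Cfsg.Agent.S0101

/-- In a perfect central extension, the kernel meets each Sylow p-subgroup P inside the Frattini subgroup of P. -/
theorem result {H : Type*} {G : Type*} [Group H] [Group G] [Finite H] (σ : H →* G) (hσ : Function.Surjective σ) (hc : σ.ker ≤ Subgroup.center H) (hH : commutator H = ⊤) {p : ℕ} [Fact p.Prime] (P : Sylow p H) : σ.ker ⊓ (P : Subgroup H) ≤ (frattini P).map (P : Subgroup H).subtype := by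
  rintro z ⟨hzk, hzP⟩
  refine ⟨⟨z, hzP⟩, ?_, rfl⟩
  simp only [frattini, Order.radical, SetLike.mem_coe, Subgroup.mem_iInf]
  intro M hM
  have hMn := Cfsg.Agent.PGroup.normal_of_isCoatom P.2 hM
  have hidx := Cfsg.Agent.PGroup.index_eq_prime_of_isCoatom P.2 hM
  have hcard : Nat.card ((P : Subgroup H) ⧸ M) = p := by rw [← Subgroup.index_eq_card, hidx]
  have hcomm : IsMulCommutative ((P : Subgroup H) ⧸ M) :=
    ⟨⟨Cfsg.Agent.PGroup.commute_of_card_prime (p := p) hcard⟩⟩
  open scoped IsMulCommutative in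
  have h1 := Cfsg.Agent.Transfer.map_pow_index_eq_one (QuotientGroup.mk' M) (z := ⟨z, hzP⟩)
    (hc hzk) (by rw [hH]; exact Subgroup.mem_top _)
  have h2 : IsPGroup p ((P : Subgroup H) ⧸ M) := IsPGroup.of_card (n := 1) (by rw [hcard, pow_one])
  have h3 : QuotientGroup.mk' M ⟨z, hzP⟩ = 1 :=
    (h2.powEquiv' P.not_dvd_index).injective (by simpa using h1)
  exact (QuotientGroup.eq_one_iff _).mp h3

end Cfsg.Agent.S0101
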