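import Cfsg.Statements.S0102


set_option autoImplicit false
open Cfsg
open scoped commutatorElement Pointwise

namespace Cfsg.Agent.S0102

/-- A finite perfect group with cyclic Sylow p-subgroups has no perfect central extension whose kernel has order divisible by p. -/
theorem result {G : Type*} {H : Type*} [Group G] [Group H] [Finite G] [Finite H] (hG : commutator G = ⊤) {p : ℕ} [Fact p.Prime] (hcyc : ∀ P : Sylow p G, IsCyclic P) (σ : H →* G) (hσ : Function.Surjective σ) (hz : σ.ker ≤ Subgroup.center H) (hH : commutator H = ⊤) : ¬ p ∣ Nat.card σ.ker := by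
  intro hdvd
  obtain ⟨Q⟩ : Nonempty (Sylow p H) := inferInstance
  have : IsCyclic (Q.mapSurjective hσ : Sylow p G) := hcyc _
  let f : Q →* (Q.mapSurjective hσ : Sylow p G) :=
    (σ.comp (Q : Subgroup H).subtype).codRestrict _ fun x => ⟨x.1, x.2, rfl⟩
  have hQ : IsMulCommutative (Q : Subgroup H) := by
    refine f.isMulCommutative_of_isCyclic_of_ker_le_center fun x hx => ?_
    have : (x : H) ∈ Subgroup.center H := hz (congrArg Subtype.val hx)
    exact Subgroup.mem_center_iff.mpr fun y => Subtype.ext (Subgroup.mem_center_iff.mp this y)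
  obtain ⟨w, hw⟩ := exists_prime_orderOf_dvd_card' p hdvd
  have hwc : (w : H) ∈ Subgroup.center H := hz w.2
  have hwo : orderOf (w : H) = p := by rwa [Subgroup.orderOf_coe]
  have hwQ : (w : H) ∈ (Q : Subgroup H) := by
    obtain ⟨R, hR⟩ := (IsPGroup.of_card (n := 1) (by
      rw [Nat.card_zpowers, hwo, pow_one] : Nat.card (Subgroup.zpowers (w : H)) = p ^ 1)).exists_le_sylow
    obtain ⟨h, rfl⟩ := MulAction.exists_smul_eq H R Q
    rw [Sylow.coe_subgroup_smul]
    refine ⟨w, hR (Subgroup.mem_zpowers _), ?_⟩
    show h * (w : H) * h⁻¹ = w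
    rw [Subgroup.mem_center_iff.mp hwc h, mul_inv_cancel_right]
  let : CommGroup (Q : Subgroup H) :=
    { (inferInstance : Group (Q : Subgroup H)) with mul_comm := hQ.is_comm.comm }
  have ht : MonoidHom.transfer (MonoidHom.id (Q : Subgroup H)) (w : H) = 1 := by
    have := Abelianization.commutator_subset_ker (MonoidHom.transfer (MonoidHom.id (Q : Subgroup H)))
    rw [hH] at this
    exact this (Subgroup.mem_top _)
  rw [MonoidHom.transfer_eq_pow _ _ fun k g₀ hk => by
    have := Subgroup.pow_mem _ hwc k
    rw [mul_assoc, ← Subgroup.mem_center_iff.mp this g₀, inv_mul_cancel_left]] at ht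
  have hpow : (w : H) ^ (Q : Subgroup H).index = 1 := congrArg Subtype.val ht
  have := orderOf_dvd_of_pow_eq_one hpow
  rw [hwo] at this
  exact Q.not_dvd_index this

end Cfsg.Agent.S0102
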