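import Cfsg.Statements.S0103


set_option autoImplicit false
open Cfsg
open scoped commutatorElement Pointwise

namespace Cfsg.Agent.S0103

/-- If a Sylow p-subgroup P intersects every distinct conjugate trivially, then its normalizer controls fusion in P. -/
theorem result {G : Type*} [Group G] [Finite G] {p : ℕ} [Fact p.Prime] (P : Sylow p G) (hTI : ∀ g : G, (P : Subgroup G).map (MulAut.conj g).toMonoidHom ≠ (P : Subgroup G) → (P : Subgroup G) ⊓ (P : Subgroup G).map (MulAut.conj g).toMonoidHom = ⊥) (x y : G) (hx : x ∈ P) (hy : y ∈ P) (hc : ∃ g : G, g * x * g⁻¹ = y) : ∃ n ∈ Subgroup.normalizer (P : Set G), n * x * n⁻¹ = y := by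
  obtain ⟨g, hg⟩ := hc
  by_cases hx1 : x = 1
  · exact ⟨1, one_mem _, by simp_all⟩
  · refine ⟨g, ?_, hg⟩
    have hy' : y ∈ (P : Subgroup G).map (MulAut.conj g).toMonoidHom :=
      ⟨x, hx, by simpa using hg⟩
    have heq : (P : Subgroup G).map (MulAut.conj g).toMonoidHom = (P : Subgroup G) := by
      by_contra hne
      have h1 : y ∈ (P : Subgroup G) ⊓ (P : Subgroup G).map (MulAut.conj g).toMonoidHom := ⟨hy, hy'⟩
      rw [hTI g hne, Subgroup.mem_bot, ← hg] at h1
      exact hx1 (conj_eq_one_iff.mp h1)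
    exact Subgroup.mem_normalizer_iff_map_conj_eq.mpr heq

end Cfsg.Agent.S0103
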