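import Cfsg.Statements.S0104


set_option autoImplicit false
open Cfsg
open scoped commutatorElement Pointwise

namespace Cfsg.Agent.S0104

theorem map_conj_map {G : Type*} [Group G] (H : Subgroup G) (a b : G) :
    (H.map (MulAut.conj a).toMonoidHom).map (MulAut.conj b).toMonoidHom
      = H.map (MulAut.conj (b * a)).toMonoidHom := by
  rw [Subgroup.map_map, map_mul]; rfl

theorem map_conj_one {G : Type*} [Group G] (H : Subgroup G) :
    H.map (MulAut.conj (1 : G)).toMonoidHom = H := by
  rw [map_one]; exact H.map_id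

/-- A subgroup Z of a Sylow p-subgroup P that is normalized by N_G(P) is weakly closed in P exactly when it is normal in every Sylow p-subgroup containing it. -/
theorem result {G : Type*} [Group G] [Finite G] {p : ℕ} [Fact p.Prime] (P : Sylow p G) (Z : Subgroup G) (hZP : Z ≤ (P : Subgroup G)) (hZN : Subgroup.normalizer (P : Set G) ≤ Subgroup.normalizer (Z : Set G)) : Cfsg.IsWeaklyClosed Z P ↔ ∀ R : Sylow p G, Z ≤ (R : Subgroup G) → (R : Subgroup G) ≤ Subgroup.normalizer (Z : Set G) := by
  have hPN : (P : Subgroup G) ≤ Subgroup.normalizer (Z : Set G) := Subgroup.le_normalizer.trans hZN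
  constructor
  · intro hw R hZR r hr
    obtain ⟨g, rfl⟩ := MulAction.exists_smul_eq G P R
    rw [Sylow.coe_subgroup_smul] at hZR hr
    have h1 : Z.map (MulAut.conj g⁻¹).toMonoidHom ≤ (P : Subgroup G) := by
      have := Subgroup.map_mono (f := (MulAut.conj g⁻¹).toMonoidHom) hZR
      refine this.trans (le_of_eq ?_)
      show Subgroup.map _ (Subgroup.map (MulAut.conj g).toMonoidHom _) = _
      rw [map_conj_map, inv_mul_cancel, map_conj_one]
    have hg : g⁻¹ ∈ Subgroup.normalizer (Z : Set G) :=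
      Subgroup.mem_normalizer_iff_map_conj_eq.mpr (hw.2 g⁻¹ h1)
    obtain ⟨x, hx, rfl⟩ := hr
    exact mul_mem (mul_mem (inv_mem_iff.mp hg) (hPN hx)) hg
  · intro h
    refine ⟨hZP, fun g hg => ?_⟩
    have h1 : Z ≤ ((g⁻¹ • P : Sylow p G) : Subgroup G) := by
      rw [Sylow.coe_subgroup_smul]
      intro z hz
      refine ⟨g * z * g⁻¹, hg ⟨z, hz, rfl⟩, ?_⟩
      show g⁻¹ * (g * z * g⁻¹) * (g⁻¹)⁻¹ = z
      group
    obtain ⟨m, hm⟩ := MulAction.exists_smul_eq (Subgroup.normalizer (Z : Set G))
      (P.subtype hPN) ((g⁻¹ • P).subtype (h _ h1))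
    rw [Sylow.smul_subtype] at hm
    have h2 : (m : G) • P = g⁻¹ • P := Sylow.subtype_injective hm
    have h3 : g * m ∈ Subgroup.normalizer (Z : Set G) := by
      refine hZN (Sylow.smul_eq_iff_mem_normalizer.mp ?_)
      rw [mul_smul, h2, smul_inv_smul]
    have h4 := mul_mem h3 (inv_mem m.2)
    rw [mul_inv_cancel_right] at h4
    exact Subgroup.mem_normalizer_iff_map_conj_eq.mp h4

end Cfsg.Agent.S0104
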