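import Cfsg.Statements.S0105
import Cfsg.Agent.Lib.Transfer.Abelian
import Cfsg.Agent.Lib.Transfer.Focal

set_option autoImplicit false
open Cfsg

namespace Cfsg.Agent.S0105

/-- With an abelian Sylow p-subgroup P, some quotient of G is isomorphic to the part of P central in N_G(P). -/
theorem result {G : Type*} [Group G] [Finite G] {p : ℕ} [Fact p.Prime] (P : Sylow p G) (hP : IsMulCommutative P) : ∃ (N : Subgroup G) (hN : N.Normal), Nonempty (G ⧸ N ≃* ((P : Subgroup G) ⊓ Subgroup.centralizer (Subgroup.normalizer (P : Set G) : Set G) : Subgroup G)) := by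
  set N : Subgroup G := Subgroup.normalizer (P : Set G) with hN
  set A : Subgroup N := (P : Subgroup G).subgroupOf N with hA
  set C : Subgroup G := (P : Subgroup G) ⊓ Subgroup.centralizer (N : Set G) with hC
  have hPN : (P : Subgroup G) ≤ N := Subgroup.le_normalizer
  haveI hAn : A.Normal := Subgroup.normal_in_normalizer
  haveI hAc : IsMulCommutative A := ⟨⟨fun a b => Subtype.ext (Subtype.ext
    (congrArg Subtype.val (hP.is_comm.comm ⟨((a : N) : G), a.2⟩ ⟨((b : N) : G), b.2⟩) :))⟩⟩
  have hHall : Nat.Coprime (Nat.card A) A.index := by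
    rw [Nat.card_congr (Subgroup.subgroupOfEquivOfLe hPN).toEquiv]
    obtain ⟨n, hn⟩ := IsPGroup.iff_card.mp P.2
    rw [hn]
    refine Nat.Coprime.pow_left n ((Nat.Prime.coprime_iff_not_dvd Fact.out).mpr fun h => ?_)
    exact P.not_dvd_index (h.trans (Subgroup.relIndex_dvd_index_of_le hPN))
  have hfoc : ∀ f ∈ A.focalSubgroup, (f : G) ∈ (P : Subgroup G).focalSubgroup := by
    intro f hf
    rw [Subgroup.focalSubgroup_def] at hf
    induction hf using Subgroup.closure_induction with
    | mem z hz =>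
      obtain ⟨hzA, a, ha, u, rfl⟩ := hz
      exact Subgroup.subset_closure ⟨hzA, (a : G), ha, (u : G), rfl⟩
    | one => exact one_mem _
    | mul _ _ _ _ ha hb => exact mul_mem ha hb
    | inv _ _ ha => exact inv_mem ha
  let ι : C →* (P : Subgroup G) ⧸ (P : Subgroup G).focalSubgroupOf :=
    (QuotientGroup.mk' _).comp (Subgroup.inclusion inf_le_left)
  have hinj : Function.Injective ι := by
    rw [injective_iff_map_eq_one]
    intro c hc
    have hc' : (c : G) ∈ (P : Subgroup G).focalSubgroup :=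
      Subgroup.mem_subgroupOf.mp ((QuotientGroup.eq_one_iff (Subgroup.inclusion inf_le_left c)).mp hc)
    rw [Cfsg.Agent.Transfer.focalSubgroup_eq_commutator_normalizer_of_abelian P hP] at hc'
    have hcN : (c : G) ∈ N := hPN c.2.1
    have hmem : (⟨c, hcN⟩ : N) ∈ A ⊓ commutator N ⊓ Subgroup.center N := by
      refine ⟨⟨c.2.1, ?_⟩, Subgroup.mem_center_iff.mpr fun g =>
        Subtype.ext (Subgroup.mem_centralizer_iff.mp c.2.2 g g.2)⟩
      have hle : ⁅(P : Subgroup G), N⁆ ≤ (commutator N).map N.subtype := by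
        rw [Subgroup.map_subtype_commutator]
        exact Subgroup.commutator_mono hPN le_rfl
      obtain ⟨d, hd, hd'⟩ := hle hc'
      rwa [show (⟨c, hcN⟩ : N) = d from Subtype.ext hd'.symm]
    rw [Cfsg.Agent.Transfer.inf_commutator_inf_center_eq_bot hAc hHall, Subgroup.mem_bot] at hmem
    exact Subtype.ext (Subtype.ext_iff.mp hmem : (c : G) = 1)
  have hsurj : Function.Surjective ι := by
    intro q
    obtain ⟨x, rfl⟩ := QuotientGroup.mk'_surjective _ q
    have hx : (⟨x, hPN x.2⟩ : N) ∈ A.focalSubgroup ⊔ (Subgroup.center N ⊓ A) := by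
      rw [Cfsg.Agent.Transfer.focalSubgroup_sup_center_eq hHall]
      exact x.2
    obtain ⟨f, hf, c, hc, hfc⟩ := Subgroup.mem_sup_of_normal_right.mp hx
    have hcC : (c : G) ∈ C :=
      ⟨hc.2, Subgroup.mem_centralizer_iff.mpr fun g hg =>
        congrArg Subtype.val (Subgroup.mem_center_iff.mp hc.1 ⟨g, hg⟩)⟩
    refine ⟨⟨c, hcC⟩, ?_⟩
    refine (QuotientGroup.eq).mpr (Subgroup.mem_subgroupOf.mpr ?_)
    have hx' : (x : G) = (f : G) * (c : G) := (congrArg Subtype.val hfc).symm
    have hfP : (f : G) ∈ (P : Subgroup G) := Subgroup.focalSubgroup_le A hf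
    have hcomm : (c : G) * (f : G) = (f : G) * (c : G) :=
      congrArg Subtype.val (hP.is_comm.comm ⟨_, hc.2⟩ ⟨_, hfP⟩)
    show (c : G)⁻¹ * (x : G) ∈ _
    rw [hx', ← hcomm, inv_mul_cancel_left]
    exact hfoc f hf
  exact ⟨(P : Subgroup G).transferFocal.ker, inferInstance,
    ⟨(Subgroup.transferFocal.quotientKerMulEquivQuotientFocalSubroupOf P).trans
      (MulEquiv.ofBijective ι ⟨hinj, hsurj⟩).symm⟩⟩

end Cfsg.Agent.S0105
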