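import Cfsg.Statements.S0109
import Cfsg.Agent.Lib.Thompson.Factorization
import Cfsg.Agent.Lib.Thompson.QuadApply
import Cfsg.Agent.Lib.Thompson.PSolvable
import Cfsg.Agent.OddLocal44.Stability
import Cfsg.Agent.PLocalB.QdStable
import Cfsg.Agent.Lib.PComplement.Replacement
import Cfsg.Agent.Lib.LinearGroup.TorusSylow
import Cfsg.Agent.T51.QdBasic

set_option autoImplicit false
open Cfsg
open scoped commutatorElement

namespace Cfsg.Agent.S0109

theorem quadratic_bot {G : Type*} [Group G] [Finite G] {B : Subgroup G} {a : G}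
    (h : ∀ b ∈ B, ⁅⁅b, a⁆, a⁆ = 1) :
    ⁅⁅B, Subgroup.zpowers a⁆, Subgroup.zpowers a⁆ = ⊥ := by
  rw [Subgroup.commutator_eq_bot_iff_le_centralizer, Subgroup.commutator_le]
  intro b hb y hy
  obtain ⟨k, rfl⟩ := mem_powers_iff_mem_zpowers.mpr hy
  have hk : ∀ k : ℕ, Commute ⁅b, a ^ k⁆ a := by
    intro k
    induction k with
    | zero => simp
    | succ k ih =>
      rw [pow_succ', commutatorElement_mul_right_eq_mul_conj, mul_assoc, mul_assoc, ← mul_assoc a,
        ← ih.eq, mul_inv_cancel_right]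
      exact (commutatorElement_eq_one_iff_commute.mp (h b hb)).mul_left ih
  refine Subgroup.mem_centralizer_iff.mpr fun z hz => ?_
  obtain ⟨j, rfl⟩ := mem_powers_iff_mem_zpowers.mpr hz
  exact (((hk k).pow_right j).eq).symm

theorem quaternion_not_comm {k : ℕ} (hk : 1 ≤ k) : ¬ IsMulCommutative (QuaternionGroup (2 ^ k)) := by
  intro h
  have h1 := h.is_comm.comm (QuaternionGroup.a (1 : ZMod (2 * 2 ^ k))) (QuaternionGroup.xa 0)
  simp only [QuaternionGroup.a_mul_xa, QuaternionGroup.xa_mul_a, QuaternionGroup.xa.injEq,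
    zero_sub, zero_add] at h1
  have h2 : ((2 : ℕ) : ZMod (2 * 2 ^ k)) = 0 := by
    rw [Nat.cast_two, show (2 : ZMod (2 * 2 ^ k)) = 1 - (-1) by ring, h1, sub_self]
  rw [ZMod.natCast_eq_zero_iff] at h2
  have h3 := Nat.le_of_dvd two_pos h2
  have : 2 ^ 1 ≤ 2 ^ k := Nat.pow_le_pow_right two_pos hk
  omega

/-- A solvable group with abelian Sylow `2`-subgroups when `p = 3` has no section `SL(2, p)`. -/
theorem no_sl_section {G : Type*} [Group G] [Finite G] {p : ℕ} [Fact p.Prime] (hp : p ≠ 2)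
    (hs : Group.IsSolvable G) (h3 : p = 3 → ∀ T : Sylow 2 G, IsMulCommutative T)
    (K R : Subgroup G) (hR : (R.subgroupOf K).Normal)
    (he : Nonempty ((K ⧸ R.subgroupOf K) ≃* Matrix.SpecialLinearGroup (Fin 2) (ZMod p))) :
    False := by
  obtain ⟨e⟩ := he
  have hp' : p.Prime := Fact.out
  let f : K →* Matrix.SpecialLinearGroup (Fin 2) (ZMod p) :=
    e.toMonoidHom.comp (QuotientGroup.mk' _)
  have hf : Function.Surjective f := e.surjective.comp (QuotientGroup.mk'_surjective _)
  by_cases h : p = 3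
  · haveI : Fact (Nat.Prime 2) := ⟨Nat.prime_two⟩
    obtain ⟨S⟩ : Nonempty (Sylow 2 K) := inferInstance
    obtain ⟨T⟩ : Nonempty (Sylow 2 G) := inferInstance
    have hS : IsMulCommutative S :=
      Cfsg.Agent.Thompson.isMulCommutative_sylow_of_injective K.subtype K.subtype_injective T
        (h3 h T) S
    obtain ⟨k, hk, ⟨ek⟩⟩ := Cfsg.Agent.LinearGroup.quaternion_sylow_SL_two
      (F := ZMod p) (by rw [Nat.card_zmod]; exact hp'.odd_of_ne_two hp) (S.mapSurjective hf)
    refine quaternion_not_comm hk ⟨⟨fun u v => ?_⟩⟩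
    apply ek.symm.injective
    rw [map_mul, map_mul]
    obtain ⟨u', hu', hu⟩ := (ek.symm u).2
    obtain ⟨v', hv', hv⟩ := (ek.symm v).2
    apply Subtype.ext
    show (ek.symm u : Matrix.SpecialLinearGroup (Fin 2) (ZMod p)) * ek.symm v =
      ek.symm v * ek.symm u
    rw [← hu, ← hv, ← map_mul, ← map_mul]
    exact congrArg f (congrArg Subtype.val (hS.is_comm.comm ⟨u', hu'⟩ ⟨v', hv'⟩) :)
  · haveI := hs
    have hp3 : 3 < p := by
      have := hp'.two_le
      omega
    haveI : Group.IsSolvable (Matrix.SpecialLinearGroup (Fin 2) (ZMod p)) :=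
      Group.isSolvable_of_surjective hf
    haveI : Nontrivial (Matrix.SpecialLinearGroup (Fin 2) (ZMod p)) := ⟨⟨Cfsg.Agent.T51.Qd.u1, 1,
      Cfsg.Agent.T51.Qd.u1_ne_one⟩⟩
    exact (Group.IsSolvable.commutator_lt_top_of_nontrivial _).ne
      (Cfsg.Agent.T51.Qd.commutator_SL hp3)

/-- The Thompson factorization Theorem for solvable groups states that, with p odd (and abelian Sylow 2-subgroups when p = 3) and no nontrivial normal subgroup of order prime to p, every element of G is a product of an element normalizing J(P) and an element centralizing the elements of order dividing p in the centre of P. -/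
theorem result {G : Type*} [Group G] [Finite G] {p : ℕ} [Fact p.Prime] (hp : p ≠ 2) (hs : Group.IsSolvable G) (h3 : p = 3 → ∀ T : Sylow 2 G, IsMulCommutative T) (hF : ∀ N : Subgroup G, N.Normal → Nat.Coprime (Nat.card N) p → N = ⊥) (P : Sylow p G) (g : G) : ∃ a ∈ Subgroup.normalizer (Cfsg.thompsonSubgroupOf p (P : Subgroup G) : Set G), ∃ c ∈ Subgroup.centralizer {x : G | x ∈ (P : Subgroup G) ∧ (∀ y ∈ (P : Subgroup G), x * y = y * x) ∧ x ^ p = 1}, g = a * c := by
  classical
  haveI := hs
  have hO : Cfsg.pPrimeCore p G = ⊥ :=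
    hF _ inferInstance Cfsg.Agent.Thompson.card_pPrimeCore_coprime
  have hc := Cfsg.Agent.Thompson.centralizer_pCore_le
    (Cfsg.Agent.OddLocal44.isPSolvable_of_isSolvable (p := p) (G := G)) hO
  set V : Subgroup G := ⨆ S : Sylow p G, Cfsg.omegaOne p ((S : Subgroup G) ⊓
    Subgroup.centralizer ((S : Subgroup G) : Set G)) with hV
  haveI hVn : V.Normal := Cfsg.Agent.Thompson.iSupOmegaCenter_normal
  have hVQ : V ≤ Cfsg.pCore p G := Cfsg.Agent.Thompson.iSupOmega_le_pCore hc
  have hVe : Cfsg.IsElementaryAbelian p V := Cfsg.Agent.Thompson.isElementaryAbelian_iSupOmega hc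
  have hVp : IsPGroup p V := Cfsg.Agent.Thompson.isPGroup_of_isElementaryAbelian hVe
  have hb : Cfsg.pCore p (G ⧸ Subgroup.centralizer (V : Set G)) = ⊥ :=
    Cfsg.Agent.Thompson.pCore_quotient_centralizer_iSupOmega
  have hJS : ∀ S : Sylow p G, Cfsg.thompsonSubgroupOf p (S : Subgroup G) ≤
      Subgroup.centralizer (V : Set G) := by
    intro S
    rw [Cfsg.Agent.Thompson.thompsonSubgroupOf_eq]
    refine sSup_le fun A₀ hA₀ => ?_
    by_contra hA₀C
    obtain ⟨A, ⟨hA, hAC⟩, hAbest⟩ := Set.exists_max_image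
      {A : Subgroup G | Cfsg.Agent.Thompson.IsMaxEAIn p A (S : Subgroup G) ∧
        ¬ A ≤ Subgroup.centralizer (V : Set G)}
      (fun A => Nat.card ↥(A ⊓ V)) (Set.toFinite _) ⟨A₀, hA₀, hA₀C⟩
    have hVS : V ≤ (S : Subgroup G) := hVQ.trans (Cfsg.Agent.Thompson.pCore_le_sylow S)
    have hcA : ∀ x ∈ A, ∀ y ∈ A, Commute x y := fun x hx y hy =>
      Cfsg.Agent.Thompson.elemAb_comm hA.2.1.1 hx hy
    have hcV : ∀ x ∈ V, ∀ y ∈ V, Commute x y := fun x hx y hy =>
      Cfsg.Agent.Thompson.elemAb_comm hVe.1 hx hy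
    by_cases hnorm : V ≤ Subgroup.normalizer (A : Set G)
    · refine hAC fun a ha => ?_
      by_contra haC
      have hq : ∀ v ∈ V, ⁅⁅v, a⁆, a⁆ = 1 := fun v hv => by
        have h1 : ⁅v, a⁆ ∈ A := by
          rw [commutatorElement_def]
          exact mul_mem ((Subgroup.mem_normalizer_iff.mp (hnorm hv) a).mp ha) (inv_mem ha)
        exact commutatorElement_eq_one_iff_commute.mpr (hcA _ h1 a ha)
      obtain ⟨K, R, hR, he⟩ := Cfsg.Agent.PLocalB.exists_sl_section_of_not_stable hp V hVp a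
        (quadratic_bot hq) (by
          rw [hb, Subgroup.mem_bot, QuotientGroup.eq_one_iff]
          exact haC)
      exact no_sl_section hp hs h3 K R hR he
    · have hVV : ∀ z ∈ ⁅V, V⁆, z = 1 := fun z hz => by
        have h0 : ⁅V, V⁆ = ⊥ := Subgroup.commutator_eq_bot_iff_le_centralizer.mpr
          (Subgroup.le_centralizer_iff_isMulCommutative.mpr hVe.1)
        rwa [h0, Subgroup.mem_bot] at hz
      obtain ⟨A', hA', hlt, hA'N⟩ := Cfsg.Agent.PComplement.replacement_classTwo hp S.2 hA hVS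
        (by rw [Subgroup.normalizer_eq_top_iff.mpr hVn]; exact le_top)
        (fun z hz x _ => by rw [hVV z hz]; exact Commute.one_left x)
        (fun z hz x _ => by rw [hVV z hz]; exact Commute.one_left x) hnorm
      have hA'C : A' ≤ Subgroup.centralizer (V : Set G) := by
        by_contra hcon
        exact hlt.ne (Subgroup.eq_of_le_of_card_ge hlt.le (hAbest A' ⟨hA', hcon⟩))
      refine hnorm fun v hv => hA'N ?_
      have hE : Cfsg.IsElementaryAbelian p (Subgroup.closure ((A' : Set G) ∪ {v})) := by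
        refine Cfsg.Agent.Thompson.isElementaryAbelian_closure ?_ ?_
        · rintro u (hu | rfl) w (hw | rfl)
          · exact Cfsg.Agent.Thompson.elemAb_comm hA'.2.1.1 hu hw
          · exact (Subgroup.mem_centralizer_iff.mp (hA'C hu) _ hv).symm
          · exact Subgroup.mem_centralizer_iff.mp (hA'C hw) _ hv
          · rfl
        · rintro u (hu | rfl)
          · exact hA'.2.1.2 u hu
          · exact hVe.2 _ hv
      have hle : Subgroup.closure ((A' : Set G) ∪ {v}) ≤ (S : Subgroup G) := by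
        rw [Subgroup.closure_le]
        rintro u (hu | rfl)
        · exact hA'.1 hu
        · exact hVS hv
      have h1 : A' = Subgroup.closure ((A' : Set G) ∪ {v}) :=
        Subgroup.eq_of_le_of_card_ge (fun u hu => Subgroup.subset_closure (Or.inl hu))
          (hA'.2.2 _ hle hE)
      rw [h1]
      exact Subgroup.subset_closure (Or.inr rfl)
  have hfac : Cfsg.IsThompsonFactorizable p G := by
    refine Cfsg.Agent.Thompson.thompsonFactorizable_of_le_centralizer ?_
    rw [Cfsg.Agent.Thompson.thompsonSubgroup_eq_iSup_sylow]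
    exact iSup_le hJS
  obtain ⟨x, hx, c, hc', n, hn, hg⟩ := hfac P g⁻¹
  rw [hO, Subgroup.mem_bot] at hx
  rw [hx, one_mul] at hg
  refine ⟨n⁻¹, inv_mem hn, c⁻¹, inv_mem (Subgroup.centralizer_le ?_ hc'), by
    rw [← mul_inv_rev, ← hg, inv_inv]⟩
  rintro z ⟨hz, hzc, hzp⟩
  exact Subgroup.subset_closure
    ⟨⟨hz, Subgroup.mem_centralizer_iff.mpr fun y hy => (hzc y hy).symm⟩, hzp⟩

end Cfsg.Agent.S0109
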