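import Cfsg.Statements.S0110
import Cfsg.Agent.Lib.PGroup.Extraspecial

set_option autoImplicit false
open Cfsg

namespace Cfsg.Agent.S0110

/-- In a p-group G, an extraspecial subgroup E with [G, E] ≤ Z(E) satisfies G = E C_G(E). -/
theorem result {G : Type*} [Group G] [Finite G] {p : ℕ} [Fact p.Prime] (hG : IsPGroup p G) (E : Subgroup G) (hE : Cfsg.IsExtraspecial p E) (h : ⁅(⊤ : Subgroup G), E⁆ ≤ E ⊓ Subgroup.centralizer (E : Set G)) : E ⊔ Subgroup.centralizer (E : Set G) = ⊤ := by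
  set Z := Subgroup.center E with hZ
  have hcomm : ∀ (g : G) (x : E), ∃ z ∈ Z, (z : G) = g * x * g⁻¹ * (x : G)⁻¹ := by
    intro g x
    have hm : g * (x : G) * g⁻¹ * (x : G)⁻¹ ∈ ⁅(⊤ : Subgroup G), E⁆ := by
      have := Subgroup.commutator_mem_commutator (Subgroup.mem_top g) x.2
      rwa [commutatorElement_def] at this
    obtain ⟨hE', hC⟩ := h hm
    exact ⟨⟨_, hE'⟩, Subgroup.mem_center_iff.mpr fun k =>
      Subtype.ext (Subgroup.mem_centralizer_iff.mp hC k k.2), rfl⟩
  choose φ hφ hφv using hcomm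
  let ψ : G → (E →* Z) := fun g => MonoidHom.mk' (fun x => ⟨φ g x, hφ g x⟩) fun a b => by
    apply Subtype.ext
    apply Subtype.ext
    simp only [Subgroup.coe_mul]
    rw [hφv, hφv, hφv, Subgroup.coe_mul]
    have hc : Commute ((φ g b : E) : G) (a : G) :=
      congrArg Subtype.val (Subgroup.mem_center_iff.mp (hφ g b) a).symm
    rw [hφv] at hc
    calc g * ((a : G) * b) * g⁻¹ * ((a : G) * b)⁻¹
        = (g * a * g⁻¹) * (g * b * g⁻¹ * (b : G)⁻¹) * (a : G)⁻¹ := by group
      _ = (g * a * g⁻¹) * ((a : G)⁻¹ * (g * b * g⁻¹ * (b : G)⁻¹)) := by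
        rw [mul_assoc _ _ (a : G)⁻¹, hc.inv_right.eq]
      _ = g * a * g⁻¹ * (a : G)⁻¹ * (g * b * g⁻¹ * (b : G)⁻¹) := by group
  have hker : ∀ g, Z ≤ (ψ g).ker := fun g => by
    refine le_trans (le_of_eq hE.1.2.2.symm) ?_
    exact @Abelianization.commutator_subset_ker E _ Z
      { (inferInstance : Group Z) with mul_comm := fun a b => mul_comm' a b } (ψ g)
  let F : E ⧸ Z → (E ⧸ Z →* Z) := fun q =>
    QuotientGroup.lift Z (ψ (q.out : E)) (hker _)
  have hdiff : ∀ {a b : G}, ψ a = ψ b → b⁻¹ * a ∈ Subgroup.centralizer (E : Set G) := by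
    intro a b hab
    rw [Subgroup.mem_centralizer_iff]
    intro x hx
    have e := congrArg Subtype.val (congrArg Subtype.val (DFunLike.congr_fun hab ⟨x, hx⟩))
    change ((φ a ⟨x, hx⟩ : E) : G) = ((φ b ⟨x, hx⟩ : E) : G) at e
    rw [hφv, hφv] at e
    have e' := mul_right_cancel e
    calc x * (b⁻¹ * a) = b⁻¹ * (b * x * b⁻¹) * a := by group
      _ = b⁻¹ * (a * x * a⁻¹) * a := by rw [e']
      _ = b⁻¹ * a * x := by group
  have hinj : Function.Injective F := by
    intro q r hqr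
    have hψ : ψ (q.out : E) = ψ (r.out : E) := MonoidHom.ext fun x => by
      have := DFunLike.congr_fun hqr (x : E ⧸ Z)
      simpa [F] using this
    have hm := hdiff hψ
    rw [← Quotient.out_eq q, ← Quotient.out_eq r]
    refine ((QuotientGroup.eq (s := Z)).mpr (Subgroup.mem_center_iff.mpr fun k => ?_)).symm
    exact Subtype.ext (Subgroup.mem_centralizer_iff.mp hm k k.2)
  haveI : Finite (E ⧸ Z →* Z) := Finite.of_injective DFunLike.coe DFunLike.coe_injective
  have hbij : Function.Bijective F := hinj.bijective_of_nat_card_le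
    (Cfsg.Agent.PGroup.card_monoidHom_le hE.2 (hE.1.1.to_quotient Z))
  rw [eq_top_iff]
  intro g _
  obtain ⟨q, hq⟩ := hbij.2 (QuotientGroup.lift Z (ψ g) (hker g))
  have hψ : ψ g = ψ (q.out : E) := MonoidHom.ext fun x => by
    have := DFunLike.congr_fun hq.symm (x : E ⧸ Z)
    simpa [F] using this
  rw [← mul_inv_cancel_left ((q.out : E) : G) g]
  exact Subgroup.mul_mem_sup (q.out : E).2 (hdiff hψ)

end Cfsg.Agent.S0110
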