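import Cfsg.Statements.S0118
import Cfsg.Agent.OddLocal44.ZJCenter
import Cfsg.Agent.LocalEven61.StrongFusionSections
import Cfsg.Agent.LocalEven61.Involves
import Cfsg.Agent.PLocalB.QdStable

set_option autoImplicit false
open Cfsg
open scoped commutatorElement

namespace Cfsg.Agent.S0118

universe u

/-- `Z(J(Q))` as a functor on groups. -/
abbrev zje (p : ℕ) (Q : Type u) [Group Q] : Subgroup Q := Cfsg.centerThompsonOf p (⊤ : Subgroup Q)

theorem isCharPFunctor_zje (p : ℕ) [Fact p.Prime] :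
    Cfsg.IsCharPFunctor.{u} p (fun Q _ => zje p Q) := by
  refine ⟨fun Q _ _ hQ hn => Cfsg.Agent.PComplement.centerThompsonOf_ne_bot (hQ.to_subgroup ⊤) ?_,
    fun Q R _ _ _ _ φ => ?_⟩
  · haveI := hn
    exact top_ne_bot
  · rw [Cfsg.Agent.PComplement.centerThompsonOf_map φ.toMonoidHom _ φ.injective.injOn,
      Subgroup.map_top_of_surjective _ φ.surjective]

theorem inducedFunctor_zje (p : ℕ) [Fact p.Prime] {G : Type u} [Group G] (P : Subgroup G) :
    Cfsg.inducedFunctor (fun Q _ => zje p Q) P = Cfsg.centerThompsonOf p P := by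
  show (Cfsg.centerThompsonOf p (⊤ : Subgroup P)).map P.subtype = _
  rw [Cfsg.Agent.PComplement.centerThompsonOf_map P.subtype _ P.subtype_injective.injOn,
    ← MonoidHom.range_eq_map, Subgroup.range_subtype]

theorem quadratic_bot {G : Type*} [Group G] [Finite G] {B : Subgroup G} {a : G}
    (h : ∀ b ∈ B, ⁅⁅b, a⁆, a⁆ = 1) :
    ⁅⁅B, Subgroup.zpowers a⁆, Subgroup.zpowers a⁆ = ⊥ := by
  rw [Subgroup.commutator_eq_bot_iff_le_centralizer, Subgroup.commutator_le]
  intro b hb y hy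
  obtain ⟨k, rfl⟩ := mem_powers_iff_mem_zpowers.mpr hy
  have hk : ∀ k : ℕ, Commute ⁅b, a ^ k⁆ a := by
    intro k
    induction k with
    | zero => simp
    | succ k ih =>
      rw [pow_succ', commutatorElement_mul_right_eq_mul_conj, mul_assoc, mul_assoc, ← mul_assoc a,
        ← ih.eq, mul_inv_cancel_right]
      exact (commutatorElement_eq_one_iff_commute.mp (h b hb)).mul_left ih
  refine Subgroup.mem_centralizer_iff.mpr fun z hz => ?_
  obtain ⟨j, rfl⟩ := mem_powers_iff_mem_zpowers.mpr hz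
  exact (((hk k).pow_right j).eq).symm

/-- Glauberman's ZJ-Theorem, in the case of groups with no section isomorphic to SL(2,p), p odd: conjugation of subsets of a Sylow p-subgroup P inside P is always induced from the normalizer of Z(J(P)). -/
theorem result {G : Type*} [Group G] [Finite G] {p : ℕ} [Fact p.Prime] (hp : p ≠ 2) (hfree : ¬ ∃ (H K : Subgroup G) (hK : (K.subgroupOf H).Normal), Nonempty ((H ⧸ K.subgroupOf H) ≃* Matrix.SpecialLinearGroup (Fin 2) (ZMod p))) (P : Sylow p G) (A : Set G) (hA : A ⊆ (P : Set G)) (g : G) (hAg : (fun a => g⁻¹ * a * g) '' A ⊆ (P : Set G)) : ∃ n ∈ Subgroup.normalizer (Cfsg.centerThompsonOf p (P : Subgroup G) : Set G), ∀ a ∈ A, n⁻¹ * a * n = g⁻¹ * a * g := by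
  classical
  have hloc : ∀ (X : Type _) [Group X] [Finite X], Cfsg.Agent.ConjFunctor.IsSec G X →
      Cfsg.Agent.ConjFunctor.Constr p X → ∀ T : Sylow p X,
      (Cfsg.inducedFunctor (fun Q _ => zje p Q) (T : Subgroup X)).Normal := by
    intro X _ _ hsec hcon T
    rw [inducedFunctor_zje]
    refine Cfsg.Agent.OddLocal44.centerThompsonOf_normal_of_stable hp hcon
      (fun B _ hB a hq => ?_) T
    by_contra ha
    obtain ⟨K, R, hR, e⟩ := Cfsg.Agent.PLocalB.exists_sl_section_of_not_stable hp B hB a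
      (quadratic_bot hq) ha
    obtain ⟨K', R', hR', ⟨e'⟩⟩ := hsec.exists_section
    obtain ⟨H', L', hL', e''⟩ := Cfsg.Agent.LocalEven61.involves_trans
      (⟨K, R, hR, e⟩ : Cfsg.Involves (Matrix.SpecialLinearGroup (Fin 2) (ZMod p)) X)
      (⟨K', R', hR', ⟨e'⟩⟩ : Cfsg.Involves X G)
    exact hfree ⟨H', L', hL', e''⟩
  have hctl := Cfsg.Agent.LocalEven61.strongCtl_of_constrained (p := p) (isCharPFunctor_zje p)
    (G := G) hloc G (Cfsg.Agent.ConjFunctor.isSec_refl G)
  obtain ⟨x, hx, he⟩ := hctl P A g⁻¹ hA (by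
    rintro _ ⟨a, ha, rfl⟩
    show g⁻¹ * a * g⁻¹⁻¹ ∈ (P : Subgroup G)
    rw [inv_inv]
    exact hAg ⟨a, ha, rfl⟩)
  rw [inducedFunctor_zje] at hx
  refine ⟨x⁻¹, inv_mem hx, fun a ha => ?_⟩
  rw [inv_inv, he a ha, inv_inv]

end Cfsg.Agent.S0118
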