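import Cfsg.Statements.S0120
import Cfsg.Agent.OddLocal43.Coprime

set_option autoImplicit false
open Cfsg

namespace Cfsg.Agent.S0120

/-- For odd p, a p'-automorphism of a p-group acting trivially on the elements of order dividing p is trivial. -/
theorem result {G : Type*} [Group G] [Finite G] {p : ℕ} [Fact p.Prime] (hp : p ≠ 2) (hG : IsPGroup p G) (a : MulAut G) (ha : Nat.Coprime (orderOf a) p) (h : ∀ x : G, x ^ p = 1 → a x = x) : a = 1 := by
  ext g
  let φ : Subgroup.zpowers a →* MulAut G := (Subgroup.zpowers a).subtype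
  let i : G →* G ⋊[φ] Subgroup.zpowers a := SemidirectProduct.inl
  let j : Subgroup.zpowers a →* G ⋊[φ] Subgroup.zpowers a := SemidirectProduct.inr
  haveI : Finite (G ⋊[φ] Subgroup.zpowers a) := Finite.of_equiv _ SemidirectProduct.equivProd.symm
  have hact : ∀ (b : Subgroup.zpowers a) (x : G), j b * i x * (j b)⁻¹ = i ((b : MulAut G) x) :=
    fun b x => by
      rw [← map_inv]; exact (SemidirectProduct.inl_aut (φ := φ) b x).symm
  have key : i.range ≤ Subgroup.centralizer (j.range : Set (G ⋊[φ] Subgroup.zpowers a)) := by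
    refine Cfsg.Agent.OddLocal43.le_centralizer_of_order_p (p := p) hp ?_
      (hG.of_equiv (MonoidHom.ofInjective SemidirectProduct.inl_injective)) ?_ ?_
    · rw [Nat.card_congr (MonoidHom.ofInjective SemidirectProduct.inr_injective).toEquiv.symm,
        Nat.card_zpowers]
      exact ha
    · rintro _ ⟨b, rfl⟩
      rw [Subgroup.mem_normalizer_iff]
      intro y
      constructor
      · rintro ⟨x, rfl⟩
        exact ⟨_, (hact b x).symm⟩
      · rintro ⟨x, hx⟩
        refine ⟨((b : MulAut G))⁻¹ x, ?_⟩
        have h3 := hact b (((b : MulAut G))⁻¹ x)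
        rw [MulAut.apply_inv_self, hx] at h3
        exact mul_left_cancel (mul_right_cancel h3)
    · rintro _ ⟨x, rfl⟩ hx
      rw [Subgroup.mem_centralizer_iff]
      rintro _ ⟨b, rfl⟩
      have hx' : x ^ p = 1 := SemidirectProduct.inl_injective (φ := φ) (by
        show i (x ^ p) = i 1
        rw [map_pow, map_one, ← hx, pow_orderOf_eq_one])
      obtain ⟨b, k, rfl⟩ := b
      have hk : (a ^ k : MulAut G) x = x := by
        have : a ∈ MulAction.stabilizer (MulAut G) x := h x hx'
        exact zpow_mem this k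
      have h4 := hact ⟨a ^ k, k, rfl⟩ x
      rw [hk] at h4
      exact mul_inv_eq_iff_eq_mul.mp h4
  have h1 := Subgroup.mem_centralizer_iff.mp (key ⟨g, rfl⟩) (j ⟨a, Subgroup.mem_zpowers a⟩) ⟨_, rfl⟩
  have h2 := hact ⟨a, Subgroup.mem_zpowers a⟩ g
  rw [h1, mul_inv_cancel_right] at h2
  simpa using (SemidirectProduct.inl_injective h2).symm

end Cfsg.Agent.S0120
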