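import Cfsg.Statements.S0122
import Cfsg.Agent.H40.NormalRankFour
import Cfsg.Agent.Lib.PGroup.Basic

set_option autoImplicit false
open Cfsg

namespace Cfsg.Agent.S0122

/-- For odd p, a p-group containing an elementary abelian subgroup of order p^4 has a normal elementary abelian subgroup of order p^4. -/
theorem result {G : Type*} [Group G] [Finite G] {p : ℕ} [Fact p.Prime] (hp : p ≠ 2) (hG : IsPGroup p G) (E : Subgroup G) (hE : Cfsg.IsElementaryAbelian p E) (hE4 : Nat.card E = p ^ 4) : ∃ A : Subgroup G, A.Normal ∧ Cfsg.IsElementaryAbelian p A ∧ Nat.card A = p ^ 4 := by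
  have hrk : ¬ Cfsg.PRankLE p 3 G := by
    intro h
    have := h E hE.1 hE.2
    rw [hE4] at this
    have := (Nat.pow_le_pow_iff_right (Fact.out : p.Prime).one_lt).mp this
    omega
  obtain ⟨W, hWn, hW, hW4⟩ := Cfsg.Agent.H40.exists_normal_elementary_four hG hp hrk
  obtain ⟨n, hn⟩ := (hG.to_subgroup W).exists_card_eq
  haveI := hWn
  obtain ⟨K, hKW, hKn, hKc⟩ := Cfsg.Agent.PGroup.exists_normal_le_card hG W 4 hn
    ((Nat.pow_le_pow_iff_right (Fact.out : p.Prime).one_lt).mp (hn ▸ hW4))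
  exact ⟨K, hKn, Cfsg.Agent.H40.elementary_of_le hW hKW, hKc⟩

end Cfsg.Agent.S0122
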