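import Cfsg.Statements.S0125


set_option autoImplicit false
open Cfsg
open scoped commutatorElement Pointwise

namespace Cfsg.Agent.S0125

theorem le_of_isPGroup {G : Type*} [Group G] [Finite G] {p : ℕ} [Fact p.Prime] (R : Sylow p G)
    (A : Subgroup G) (hAn : (R : Subgroup G) ≤ Subgroup.normalizer (A : Set G))
    (hC : (R : Subgroup G) ⊓ Subgroup.centralizer (A : Set G) = A) {S : Subgroup G}
    (hS : IsPGroup p S) (hSC : S ≤ Subgroup.centralizer (A : Set G)) : S ≤ A := by
  have hSN : S ≤ Subgroup.normalizer (A : Set G) :=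
    hSC.trans (Subgroup.centralizer_le_normalizer _)
  obtain ⟨R₁, hR₁⟩ := (hS.comap_subtype (K := Subgroup.normalizer (A : Set G))).exists_le_sylow
  obtain ⟨n, rfl⟩ := MulAction.exists_smul_eq (Subgroup.normalizer (A : Set G)) (R.subtype hAn) R₁
  intro s hs
  have h1 := hR₁ (show (⟨s, hSN hs⟩ : Subgroup.normalizer (A : Set G)) ∈ S.comap _ from hs)
  rw [Sylow.coe_subgroup_smul] at h1
  obtain ⟨r, hr, hrs⟩ := h1
  have hrs' : (n : G) * (r : G) * (n : G)⁻¹ = s := congrArg Subtype.val hrs
  have hc : s ∈ Subgroup.centralizer (A : Set G) := hSC hs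
  have hrc : (r : G) ∈ Subgroup.centralizer (A : Set G) := by
    rw [Subgroup.mem_centralizer_iff] at hc ⊢
    intro a ha
    have hna : (n : G) * a * (n : G)⁻¹ ∈ A := (Subgroup.mem_normalizer_iff.mp n.2 a).mp ha
    have := hc _ hna
    rw [← hrs'] at this
    have := congrArg (fun z => (n : G)⁻¹ * z * (n : G)) this
    simpa [mul_assoc] using this
  have hrA : (r : G) ∈ A := hC.le ⟨hr, hrc⟩
  exact hrs' ▸ (Subgroup.mem_normalizer_iff.mp n.2 _).mp hrA

/-- The centralizer of a self-centralizing normal subgroup A of a Sylow p-subgroup is the direct product of A with a normal p'-subgroup. -/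
theorem result {G : Type*} [Group G] [Finite G] {p : ℕ} [Fact p.Prime] (R : Sylow p G) (A : Subgroup G) (hAR : A ≤ (R : Subgroup G)) (hAn : (R : Subgroup G) ≤ Subgroup.normalizer (A : Set G)) (hC : (R : Subgroup G) ⊓ Subgroup.centralizer (A : Set G) = A) : ∃ H : Subgroup G, H ≤ Subgroup.centralizer (A : Set G) ∧ Nat.Coprime (Nat.card H) p ∧ Subgroup.centralizer (A : Set G) ≤ Subgroup.normalizer (H : Set G) ∧ H ⊓ A = ⊥ ∧ H ⊔ A = Subgroup.centralizer (A : Set G) := by
  set C := Subgroup.centralizer (A : Set G) with hCdef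
  have hAC : A ≤ C := fun a ha => (hC.ge ha).2
  have hp : IsPGroup p (A.subgroupOf C) := (R.2.to_le hAR).comap_subtype
  let P : Sylow p C :=
    { toSubgroup := A.subgroupOf C
      isPGroup' := hp
      is_maximal' := by
        intro Q hQ hle
        refine le_antisymm (fun q hq => ?_) hle
        exact le_of_isPGroup R A hAn hC (hQ.map C.subtype) (Subgroup.map_subtype_le Q) ⟨q, hq, rfl⟩ }
  have hPc : (P : Subgroup C) ≤ Subgroup.center C := fun a ha =>
    Subgroup.mem_center_iff.mpr fun c =>
      Subtype.ext (Subgroup.mem_centralizer_iff.mp c.2 _ ha).symm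
  have hN : Subgroup.normalizer ((P : Subgroup C) : Set C) ≤
      Subgroup.centralizer ((P : Subgroup C) : Set C) :=
    fun c _ => Subgroup.mem_centralizer_iff.mpr fun a ha => (Subgroup.mem_center_iff.mp (hPc ha) c).symm
  set K := (MonoidHom.transferSylow P hN).ker with hK
  have hcomp := MonoidHom.ker_transferSylow_isComplement' P hN
  have hmapA : (A.subgroupOf C).map C.subtype = A := Subgroup.map_subgroupOf_eq_of_le hAC
  refine ⟨K.map C.subtype, Subgroup.map_subtype_le K, ?_, ?_, ?_, ?_⟩
  · rw [Subgroup.card_map_of_injective C.subtype_injective]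
    exact (Nat.Prime.coprime_iff_not_dvd Fact.out).mpr
      (MonoidHom.not_dvd_card_ker_transferSylow P hN) |>.symm
  · rw [← Subgroup.normal_subgroupOf_iff_le_normalizer (Subgroup.map_subtype_le K),
      Subgroup.subgroupOf, Subgroup.comap_map_eq_self_of_injective C.subtype_injective]
    infer_instance
  · rw [← hmapA, ← Subgroup.map_inf _ _ _ C.subtype_injective]
    rw [hcomp.disjoint.eq_bot, Subgroup.map_bot]
  · rw [← hmapA, ← Subgroup.map_sup, hcomp.sup_eq_top, ← MonoidHom.range_eq_map,
      Subgroup.range_subtype]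

end Cfsg.Agent.S0125
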