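import Cfsg.Statements.S3771
-- import your own Cfsg.Agent.* helpers here

set_option autoImplicit false
open Cfsg

namespace Cfsg.Agent.S3771

/-- Let p be a prime and R a finite p-group of p-rank at most 2 (no elementary abelian subgroup of order p³) in which every element has order dividing p. Then R has order at most p³. -/
theorem result {R : Type*} [Group R] [Finite R] {p : ℕ} [Fact p.Prime] (hR : IsPGroup p R) (hrank : Cfsg.PRankLE p 2 R) (hexp : ∀ x : R, x ^ p = 1) : Nat.card R ≤ p ^ 3 := by
  classical
  have hp : p.Prime := Fact.out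
  rcases subsingleton_or_nontrivial R with hs | hnt
  · rw [Nat.card_of_subsingleton (1 : R)]; exact Nat.one_le_pow _ _ hp.pos
  haveI := hnt
  have hexpA : ∀ A : Subgroup R, IsMulCommutative A → Nat.card A ≤ p ^ 2 :=
    fun A hA => hrank A hA fun a _ => hexp a
  haveI : Nontrivial (Subgroup.center R) := hR.center_nontrivial
  have hzc : p ≤ Nat.card (Subgroup.center R) := by
    obtain ⟨k, hk⟩ := IsPGroup.iff_card.mp (hR.to_subgroup (Subgroup.center R))
    have : 1 < Nat.card (Subgroup.center R) := Finite.one_lt_card
    rcases k with _ | k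
    · rw [pow_zero] at hk; omega
    · rw [hk, pow_succ]; exact Nat.le_mul_of_pos_left _ (pow_pos hp.pos _)
  by_cases hcomm : IsMulCommutative (⊤ : Subgroup R)
  · have := hexpA ⊤ hcomm
    rw [Subgroup.card_top] at this
    exact this.trans (Nat.pow_le_pow_right hp.pos (by norm_num))
  have hnz : Subgroup.center R ≠ ⊤ := by
    intro h
    apply hcomm
    rw [← h]
    infer_instance
  haveI : Nontrivial (R ⧸ Subgroup.center R) := by
    rw [← not_subsingleton_iff_nontrivial]
    intro hs
    apply hnz
    rw [eq_top_iff]
    intro r _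
    exact (QuotientGroup.eq_one_iff r).mp (Subsingleton.elim _ _)
  haveI : Nontrivial (Subgroup.center (R ⧸ Subgroup.center R)) :=
    (hR.to_quotient _).center_nontrivial
  obtain ⟨⟨xb, hxb⟩, hxne⟩ := exists_ne (1 : Subgroup.center (R ⧸ Subgroup.center R))
  obtain ⟨x, rfl⟩ := QuotientGroup.mk_surjective xb
  have hx : x ∉ Subgroup.center R := fun h =>
    hxne (Subtype.ext ((QuotientGroup.eq_one_iff x).mpr h))
  have hxc : ∀ g : R, x⁻¹ * (g * x * g⁻¹) ∈ Subgroup.center R := by
    intro g
    rw [← QuotientGroup.eq_one_iff, QuotientGroup.mk_mul, QuotientGroup.mk_mul,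
      QuotientGroup.mk_mul, QuotientGroup.mk_inv, QuotientGroup.mk_inv,
      Subgroup.mem_center_iff.mp hxb (g : R ⧸ Subgroup.center R)]
    group
  have hcard2 : ∀ W : Subgroup R, IsMulCommutative W → Subgroup.center R < W →
      Nat.card (Subgroup.center R) = p ∧ Nat.card W = p ^ 2 := by
    intro W hW hlt
    have h2 := hexpA W hW
    obtain ⟨k, hk⟩ := IsPGroup.iff_card.mp (hR.to_subgroup (Subgroup.center R))
    obtain ⟨l, hl⟩ := IsPGroup.iff_card.mp (hR.to_subgroup W)
    have hlt' : Nat.card (Subgroup.center R) < Nat.card W := by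
      rcases lt_or_eq_of_le (Subgroup.card_le_of_le hlt.le) with h | h
      · exact h
      · exact absurd (Subgroup.eq_of_le_of_card_ge hlt.le h.ge) hlt.ne
    rw [hk] at hlt' hzc
    rw [hl] at hlt' h2
    have hkl := (Nat.pow_lt_pow_iff_right hp.one_lt).mp hlt'
    have hl2 := (Nat.pow_le_pow_iff_right hp.one_lt).mp h2
    have hk1 : 1 ≤ k := by
      by_contra hk0
      obtain rfl : k = 0 := by omega
      simp at hzc
      have := hp.two_le
      omega
    obtain rfl : k = 1 := by omega
    obtain rfl : l = 2 := by omega
    exact ⟨by rw [hk, pow_one], hl⟩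
  let s : Set R := (Subgroup.center R : Set R) ∪ {x}
  let A : Subgroup R := Subgroup.closure s
  have hxA : x ∈ A := Subgroup.subset_closure (Or.inr rfl)
  have hZA : Subgroup.center R ≤ A := fun z hz => Subgroup.subset_closure (Or.inl hz)
  have hAc : IsMulCommutative A := Subgroup.isMulCommutative_closure (by
    rintro a (ha | ha) b (hb | hb)
    · exact (Subgroup.mem_center_iff.mp hb a)
    · exact (Subgroup.mem_center_iff.mp ha b).symm
    · exact Subgroup.mem_center_iff.mp hb a
    · rw [show a = x from ha, show b = x from hb])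
  obtain ⟨hcz, hcA⟩ := hcard2 A hAc (lt_of_le_of_ne hZA fun h => hx (h ▸ hxA))
  let C : Subgroup R := Subgroup.centralizer {x}
  have hCA : C ≤ A := by
    intro g hg
    have hgx : g * x = x * g := by
      simpa using (Subgroup.mem_centralizer_iff.mp hg x rfl).symm
    let W : Subgroup R := Subgroup.closure (s ∪ {g})
    have hW : IsMulCommutative W := Subgroup.isMulCommutative_closure (by
      rintro a ((ha | ha) | ha) b ((hb | hb) | hb)
      all_goals try (simp only [Set.mem_singleton_iff] at ha)
      all_goals try (simp only [Set.mem_singleton_iff] at hb)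
      all_goals try subst ha
      all_goals try subst hb
      all_goals first
        | rfl
        | exact Subgroup.mem_center_iff.mp hb _
        | exact (Subgroup.mem_center_iff.mp ha _).symm
        | exact hgx
        | exact hgx.symm)
    have hAW : A ≤ W := Subgroup.closure_mono Set.subset_union_left
    have heq : A = W := by
      apply Subgroup.eq_of_le_of_card_ge hAW
      rw [hcA]
      exact hexpA W hW
    rw [heq]
    exact Subgroup.subset_closure (Or.inr rfl)
  have hidx : C.index ≤ p := by
    let f : R ⧸ C → Subgroup.center R := Quotient.lift (fun g => ⟨x⁻¹ * (g * x * g⁻¹), hxc g⟩) (by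
      intro a b hab
      have hab' : a⁻¹ * b ∈ C := QuotientGroup.leftRel_apply.mp hab
      have e : a⁻¹ * b * x = x * (a⁻¹ * b) := by
        simpa using (Subgroup.mem_centralizer_iff.mp hab' x rfl).symm
      apply Subtype.ext
      show x⁻¹ * (a * x * a⁻¹) = x⁻¹ * (b * x * b⁻¹)
      have : b * x * b⁻¹ = a * (a⁻¹ * b * x) * (a⁻¹ * b)⁻¹ * a⁻¹ := by group
      rw [this, e]; group)
    have hf : Function.Injective f := by
      intro a b
      induction a using Quotient.inductionOn with | h a => ?_
      induction b using Quotient.inductionOn with | h b => ?_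
      intro h
      apply Quotient.sound
      apply QuotientGroup.leftRel_apply.mpr
      have h' : a * x * a⁻¹ = b * x * b⁻¹ := mul_left_cancel (congrArg Subtype.val h)
      show a⁻¹ * b ∈ Subgroup.centralizer {x}
      rw [Subgroup.mem_centralizer_iff]
      intro y hy
      have hyx : y = x := hy
      rw [hyx]
      calc x * (a⁻¹ * b) = a⁻¹ * (a * x * a⁻¹) * b := by group
        _ = a⁻¹ * b * x := by rw [h']; group
    calc C.index = Nat.card (R ⧸ C) := rfl
      _ ≤ Nat.card (Subgroup.center R) := Nat.card_le_card_of_injective f hf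
      _ = p := hcz
  calc Nat.card R = Nat.card C * C.index := C.card_mul_index.symm
    _ ≤ p ^ 2 * p := Nat.mul_le_mul ((Subgroup.card_le_of_le hCA).trans hcA.le) hidx
    _ = p ^ 3 := by ring

end Cfsg.Agent.S3771
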