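import Cfsg.Statements.S0128
import Cfsg.Agent.Lib.PGroup.Basic
import Cfsg.Agent.Lib.PGroup.OmegaSmallClass
import Cfsg.Agent.Lib.Transfer.Focal
import Cfsg.Agent.OddLocal43.RankTwo
import Cfsg.Agent.S3771

set_option autoImplicit false
open Cfsg
open scoped commutatorElement Pointwise

namespace Cfsg.Agent.S0128

theorem class_three_of_card_le {K : Type*} [Group K] [Finite K] {p : ℕ} [Fact p.Prime]
    (hK : IsPGroup p K) (hcard : Nat.card K ≤ p ^ 4) :
    ⁅⁅commutator K, (⊤ : Subgroup K)⁆, (⊤ : Subgroup K)⁆ = ⊥ := by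
  haveI := hK.isNilpotent
  have step : ∀ D : Subgroup K, D ≠ ⊥ → p * Nat.card (⁅D, (⊤ : Subgroup K)⁆ : Subgroup K) ≤ Nat.card D →
      ⁅D, (⊤ : Subgroup K)⁆ ≠ ⊥ → p * p ≤ Nat.card D := fun D _ h hne =>
    le_trans (Nat.mul_le_mul_left p (Cfsg.Agent.PGroup.le_card_of_ne_bot hK hne)) h
  have drop : ∀ D : Subgroup K, D.Normal → D ≠ ⊥ → p * Nat.card (⁅D, (⊤ : Subgroup K)⁆ : Subgroup K) ≤ Nat.card D := by
    intro D hD hne
    have hle : ⁅D, (⊤ : Subgroup K)⁆ ≤ D := Subgroup.commutator_le_left _ _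
    have hlt : ⁅D, (⊤ : Subgroup K)⁆ < D := lt_of_le_of_ne hle fun h =>
      hne (Cfsg.Agent.Transfer.eq_bot_of_le_commutator_top h.ge)
    exact Cfsg.Agent.OddLocal43.mul_le_card_of_lt Fact.out (hK.to_subgroup D) hlt
  by_contra hne
  have hD2 : ⁅commutator K, (⊤ : Subgroup K)⁆ ≠ ⊥ := fun h => hne (by rw [h, Subgroup.commutator_bot_left])
  have hD1 : commutator K ≠ ⊥ := fun h => hD2 (by rw [h, Subgroup.commutator_bot_left])
  have h2 := step _ hD2 (drop _ inferInstance hD2) hne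
  have h1 := le_trans (Nat.mul_le_mul_left p h2) (drop _ inferInstance hD1)
  have hle : Nat.card (commutator K) ≤ Nat.card (frattini K) :=
    Subgroup.card_le_of_le (Cfsg.Agent.PGroup.commutator_le_frattini hK)
  have hidx : (frattini K).index ≤ p := by
    refine Nat.le_of_mul_le_mul_left ?_ (show 0 < Nat.card (frattini K) from Nat.card_pos)
    rw [Subgroup.card_mul_index]
    calc Nat.card K ≤ p ^ 4 := hcard
      _ = p * (p * p) * p := by ring
      _ ≤ Nat.card (frattini K) * p := Nat.mul_le_mul_right p (h1.trans hle)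
  haveI := Cfsg.Agent.PGroup.isCyclic_of_index_frattini_le hK hidx
  refine hD1 ?_
  rw [_root_.commutator_def, Subgroup.commutator_eq_bot_iff_le_centralizer]
  exact fun x _ => Subgroup.mem_centralizer_iff.mpr fun y _ => mul_comm' y x

theorem key {R : Type*} [Group R] [Finite R] {p : ℕ} [Fact p.Prime] (hp : 3 < p)
    (hR : IsPGroup p R)
    (hrk : ∀ E : Subgroup R, Cfsg.IsElementaryAbelian p E → Nat.card E ≤ p ^ 2) :
    ∀ K : Subgroup R, ∀ a ∈ K, ∀ b ∈ K, a ^ p = 1 → b ^ p = 1 → (a * b) ^ p = 1 := by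
  intro K
  induction K using WellFoundedLT.induction with
  | _ K ih =>
  intro a haK b hbK ha hb
  set H : Subgroup R := Subgroup.closure {a, b} with hH
  have hHK : H ≤ K := (Subgroup.closure_le _).mpr (by rintro z (rfl | rfl) <;> assumption)
  rcases hHK.eq_or_lt with heq | hlt
  swap
  · exact ih H hlt a (Subgroup.subset_closure (Or.inl rfl)) b (Subgroup.subset_closure (Or.inr rfl))
      ha hb
  have hKp : IsPGroup p K := hR.to_subgroup K
  let a' : K := ⟨a, haK⟩
  let b' : K := ⟨b, hbK⟩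
  have hgen : ∀ W : Subgroup K, a' ∈ W → b' ∈ W → W = ⊤ := by
    intro W haW hbW
    have hle : K ≤ W.map K.subtype := by
      refine le_trans heq.ge ?_
      rw [hH, Subgroup.closure_le]
      rintro z (rfl | rfl)
      · exact ⟨a', haW, rfl⟩
      · exact ⟨b', hbW, rfl⟩
    refine (Subgroup.eq_top_iff' W).mpr fun k => ?_
    obtain ⟨w, hw, hwk⟩ := hle k.2
    rwa [← Subtype.ext (hwk : (w : R) = (k : R))]
  by_cases htop : Subgroup.zpowers a' = ⊤
  · obtain ⟨i, hi⟩ : b' ∈ Subgroup.zpowers a' := htop ▸ Subgroup.mem_top b'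
    have hb' : a ^ i = b := congrArg Subtype.val hi
    rw [← hb', ((Commute.refl a).zpow_right i).mul_pow, ha, one_mul, hb', hb]
  obtain ⟨M, hM, -, hMi⟩ := Cfsg.Agent.PGroup.exists_le_index_eq_prime hKp htop
  have hMc : IsCoatom M := Cfsg.Agent.PGroup.isCoatom_of_index_prime (hMi ▸ (Fact.out : p.Prime))
  haveI hMn : M.Normal := Cfsg.Agent.PGroup.normal_of_isCoatom hKp hMc
  have hMlt : M.map K.subtype < K := by
    refine lt_of_le_of_ne (Subgroup.map_subtype_le M) fun h => hMc.1 ?_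
    refine (Subgroup.eq_top_iff' M).mpr fun k => ?_
    obtain ⟨m, hm, hmk⟩ : (k : R) ∈ M.map K.subtype := h.symm ▸ k.2
    rwa [← Subtype.ext (hmk : (m : R) = (k : R))]
  let W : Subgroup K := Subgroup.closure {m : K | m ∈ M ∧ m ^ p = 1}
  haveI hWn : W.Normal := by
    refine ⟨fun w hw g => ?_⟩
    have h1 : W.map ((MulAut.conj g : K ≃* K) : K →* K) ≤ W := by
      rw [MonoidHom.map_closure, Subgroup.closure_le]
      rintro _ ⟨m, ⟨hm, hmp⟩, rfl⟩
      refine Subgroup.subset_closure ⟨hMn.conj_mem m hm g, ?_⟩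
      show (g * m * g⁻¹) ^ p = 1
      rw [conj_pow, hmp, mul_one, mul_inv_cancel]
    exact h1 ⟨w, hw, rfl⟩
  have hWexp : ∀ w ∈ W, w ∈ M ∧ w ^ p = 1 := by
    intro w hw
    induction hw using Subgroup.closure_induction with
    | mem m hm => exact hm
    | one => exact ⟨one_mem _, one_pow p⟩
    | mul u v _ _ hu hv =>
      refine ⟨mul_mem hu.1 hv.1, Subtype.ext ?_⟩
      exact ih _ hMlt (u : R) ⟨u, hu.1, rfl⟩ (v : R) ⟨v, hv.1, rfl⟩
        (congrArg Subtype.val hu.2) (congrArg Subtype.val hv.2)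
    | inv u _ hu => exact ⟨inv_mem hu.1, by rw [inv_pow, hu.2, inv_one]⟩
  have hrkW : Cfsg.PRankLE p 2 W := by
    refine Cfsg.Agent.OddLocal43.prankLE_of_injective (K.subtype.comp W.subtype)
      (K.subtype_injective.comp W.subtype_injective) ?_
    exact fun E hE hEe => hrk E ⟨hE, hEe⟩
  have hWcard : Nat.card W ≤ p ^ 3 :=
    Cfsg.Agent.S3771.result (hKp.to_subgroup W) hrkW fun w => Subtype.ext (hWexp _ w.2).2
  have haW : a' ∈ W :=
    Subgroup.subset_closure ⟨hM (Subgroup.mem_zpowers a'), Subtype.ext ha⟩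
  have hWb : W ⊔ Subgroup.zpowers b' = ⊤ :=
    hgen _ (Subgroup.mem_sup_left haW) (Subgroup.mem_sup_right (Subgroup.mem_zpowers b'))
  have hcard : Nat.card K ≤ p ^ 4 := by
    have h1 : Nat.card K = Nat.card ((W : Set K) * (Subgroup.zpowers b' : Set K) : Set K) := by
      rw [← Subgroup.normal_mul, hWb, Subgroup.coe_top, Nat.card_congr (Equiv.Set.univ K)]
    rw [h1]
    refine le_trans Set.natCard_mul_le ?_
    calc Nat.card W * Nat.card (Subgroup.zpowers b') ≤ p ^ 3 * p := by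
          refine Nat.mul_le_mul hWcard ?_
          rw [Nat.card_zpowers]
          exact Nat.le_of_dvd (by omega) (orderOf_dvd_of_pow_eq_one (Subtype.ext hb))
      _ = p ^ 4 := by ring
  exact congrArg Subtype.val (Cfsg.Agent.PGroup.pow_eq_one_mul_classThree
    (class_three_of_card_le hKp hcard) (Fact.out : p.Prime) hp (a := a') (b := b')
    (Subtype.ext ha) (Subtype.ext hb))

/-- For p > 3, in a p-group of p-rank at most 2 the elements of order dividing p generate a subgroup of exponent dividing p. -/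
theorem result {R : Type*} [Group R] [Finite R] {p : ℕ} [Fact p.Prime] (hp : 3 < p) (hR : IsPGroup p R) (hrk : ∀ E : Subgroup R, Cfsg.IsElementaryAbelian p E → Nat.card E ≤ p ^ 2) (g : R) (hg : g ∈ Subgroup.closure {x : R | x ^ p = 1}) : g ^ p = 1 := by
  refine Cfsg.Agent.PGroup.pow_eq_one_of_mem_closure (fun a b ha hb => ?_) hg
  exact key hp hR hrk ⊤ a (Subgroup.mem_top a) b (Subgroup.mem_top b) ha hb

end Cfsg.Agent.S0128
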