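import Cfsg.Statements.S0130
import Cfsg.Agent.H40.PGroupBasic
import Cfsg.Agent.Lib.PGroup.Commutator
import Cfsg.Agent.Lib.PGroup.NormalAbelian
import Cfsg.Agent.Lib.Coprime.Action

set_option autoImplicit false
open Cfsg
open scoped commutatorElement

namespace Cfsg.Agent.S0130

theorem dvd_choose_two_sq {p n : ℕ} (hp : p.Prime) (hn : p ^ n ≠ 2) :
    p ^ n ∣ (p ^ n).choose 2 * (p ^ n).choose 2 := by
  have h2 : (p ^ n).choose 2 * 2 = p ^ n * (p ^ n - 1) := by
    rw [Nat.choose_two_right, Nat.div_mul_cancel]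
    exact (Nat.even_mul_pred_self _).two_dvd
  rcases hp.eq_two_or_odd' with rfl | hodd
  · rcases Nat.lt_or_ge n 2 with h | h
    · interval_cases n <;> simp_all
    · have hd : 2 ^ (n - 1) ∣ (2 ^ n).choose 2 := by
        refine Nat.dvd_of_mul_dvd_mul_right two_pos ?_
        rw [h2, ← pow_succ, Nat.sub_add_cancel (by omega)]
        exact dvd_mul_right _ _
      refine dvd_trans ?_ (mul_dvd_mul hd hd)
      rw [← pow_add]
      exact pow_dvd_pow 2 (by omega)
  · refine dvd_mul_of_dvd_left ?_ _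
    exact (Nat.Coprime.dvd_of_dvd_mul_right
      ((Nat.coprime_two_right.mpr hodd.pow) : (p ^ n).Coprime 2) (h2 ▸ dvd_mul_right _ _))

theorem coset_roots {G : Type*} [Group G] [Finite G] {p : ℕ} [Fact p.Prime] (hG : IsPGroup p G)
    {n : ℕ} (A : Subgroup G) [A.Normal] (hAe : ∀ a ∈ A, a ^ p ^ n = 1) (y : G)
    (hyn : y ^ p ^ n = 1) (hyA : ∀ a ∈ A, y * a = a * y) (hy2 : y ^ (p ^ n).choose 2 ∈ A) :
    ∀ D : Subgroup G, A ≤ D → y ∈ Subgroup.normalizer (D : Set G) →
      (∀ d ∈ D, d ^ p ^ n = 1 → d ∈ A) → (∀ d ∈ D, ∀ a ∈ A, d * a = a * d) →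
      ∀ c ∈ D, (c * y) ^ p ^ n = 1 → c ∈ A := by
  intro D
  induction D using WellFoundedLT.induction with
  | _ D ih =>
    intro hAD hyD hS hDA c hc hcy
    rcases eq_or_ne D A with rfl | hne
    · exact hc
    set D1 := ⁅D, Subgroup.zpowers y⁆ ⊔ A with hD1
    have hyD' : Subgroup.zpowers y ≤ Subgroup.normalizer (D : Set G) :=
      Subgroup.zpowers_le.mpr hyD
    have hle : D1 ≤ D :=
      sup_le (Subgroup.le_normalizer_iff_commutator_le_left.mp hyD') hAD
    have hlt : D1 < D := lt_of_le_of_ne hle fun h =>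
      hne (le_antisymm (Cfsg.Agent.H40.normal_step_lt hG A D _ h.ge) hAD)
    have hyD1 : y ∈ Subgroup.normalizer (D1 : Set G) :=
      Subgroup.zpowers_le.mp (Cfsg.Agent.Coprime.le_normalizer_sup
        (Subgroup.normalizer_commutator_ge_right _ _) Subgroup.le_normalizer_of_normal)
    have hcomm : ∀ d ∈ D, ⁅d, y⁆ ∈ A := by
      intro d hd
      refine ih D1 hlt le_sup_right hyD1 (fun e he => hS e (hle he))
        (fun e he => hDA e (hle he)) _
        (Subgroup.mem_sup_left (Subgroup.commutator_mem_commutator hd (Subgroup.mem_zpowers y))) ?_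
      have : ⁅d, y⁆ * y = MulAut.conj d y := by
        rw [commutatorElement_def, MulAut.conj_apply]; group
      rw [this, ← map_pow, hyn, map_one]
    have hz : ⁅c, y⁆ ∈ A := hcomm c hc
    have h1 := Cfsg.Agent.H40.mul_pow_of_central_commutator (c := c) (x := y) (z := ⁅c, y⁆⁻¹)
      (by rw [commutatorElement_def]; group) (hDA c hc _ (inv_mem hz)).symm
      (hyA _ (inv_mem hz)).symm (p ^ n)
    rw [hcy, hyn, mul_one] at h1
    have h2 : ⁅c, y⁆⁻¹ ^ (p ^ n).choose 2 = 1 := by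
      rw [inv_pow, inv_eq_one,
        ← Cfsg.Agent.PGroup.commutatorElement_pow_right (show Commute ⁅c, y⁆ y from (hyA _ hz).symm),
        commutatorElement_eq_one_iff_mul_comm]
      exact hDA c hc _ hy2
    rw [h2, one_mul] at h1
    exact hS c hc h1.symm

/-- If A is maximal among the normal abelian subgroups of exponent dividing p^n of a p-group (p^n ≠ 2), then A contains every element of order dividing p^n in its centralizer. -/
theorem result {G : Type*} [Group G] [Finite G] {p : ℕ} [Fact p.Prime] (hG : IsPGroup p G) (n : ℕ) (hn : p ^ n ≠ 2) (A : Subgroup G) [A.Normal] (hA : IsMulCommutative A) (hAe : ∀ a ∈ A, a ^ p ^ n = 1) (hmax : ∀ B : Subgroup G, B.Normal → IsMulCommutative B → (∀ b ∈ B, b ^ p ^ n = 1) → A ≤ B → B = A) (x : G) (hx : x ∈ Subgroup.centralizer (A : Set G)) (hxn : x ^ p ^ n = 1) : x ∈ A := by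
  have hC : ∀ y ∈ Subgroup.centralizer (A : Set G), ∀ b ∈ A, y * b = b * y :=
    fun y hy b hb => (Subgroup.mem_centralizer_iff.mp hy b hb).symm
  by_contra hxA
  let S : Set (Subgroup G) := {M | M.Normal ∧ A ≤ M ∧ M ≤ Subgroup.centralizer (A : Set G) ∧
    ∃ y ∈ M, y ^ p ^ n = 1 ∧ y ∉ A}
  have hne : S.Nonempty := ⟨Subgroup.centralizer (A : Set G), inferInstance,
    Subgroup.le_centralizer_iff_isMulCommutative.mpr hA, le_rfl, x, hx, hxn, hxA⟩
  obtain ⟨M, ⟨hM, hAM, hMC, y₀, hy₀M, hy₀n, hy₀A⟩, hmin⟩ := wellFounded_lt.has_min S hne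
  -- arrange that `y ^ C(N, 2)` lies in `A`
  obtain ⟨y, hyM, hyn, hyA, hy2⟩ : ∃ y ∈ M, y ^ p ^ n = 1 ∧ y ∉ A ∧ y ^ (p ^ n).choose 2 ∈ A := by
    by_cases h : y₀ ^ (p ^ n).choose 2 ∈ A
    · exact ⟨y₀, hy₀M, hy₀n, hy₀A, h⟩
    refine ⟨_, pow_mem hy₀M _, by rw [← pow_mul, mul_comm, pow_mul, hy₀n, one_pow], h, ?_⟩
    obtain ⟨k, hk⟩ := dvd_choose_two_sq (Fact.out : p.Prime) hn
    rw [← pow_mul, hk, pow_mul, hy₀n, one_pow]
    exact one_mem _
  let D : Subgroup G := ⁅M, (⊤ : Subgroup G)⁆ ⊔ A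
  haveI := hM
  have hDM : D ≤ M := sup_le (Subgroup.commutator_le_left _ _) hAM
  have hDlt : D < M := lt_of_le_of_ne hDM fun h =>
    hyA (Cfsg.Agent.H40.normal_step_lt hG A M ⊤ h.ge hyM)
  have hDS : ∀ d ∈ D, d ^ p ^ n = 1 → d ∈ A := by
    intro d hd hdp
    by_contra hdA
    exact hmin D ⟨inferInstance, le_sup_right, hDM.trans hMC, d, hd, hdp, hdA⟩ hDlt
  have hconj : ∀ g : G, g * y * g⁻¹ * y⁻¹ ∈ A := by
    intro g
    have hmem : g * y * g⁻¹ * y⁻¹ ∈ D := by
      refine Subgroup.mem_sup_left ?_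
      rw [Subgroup.commutator_comm]
      exact Subgroup.commutator_mem_commutator (Subgroup.mem_top g) hyM
    refine coset_roots hG A hAe y hyn (hC y (hMC hyM)) hy2 D le_sup_right
      (Subgroup.le_normalizer_of_normal (K := ⊤) (Subgroup.mem_top y)) hDS
      (fun d hd => hC d (hMC (hDM hd))) _ hmem ?_
    rw [inv_mul_cancel_right, ← MulAut.conj_apply, ← map_pow, hyn, map_one]
  have hW : A ⊔ Subgroup.zpowers y = A := by
    refine hmax _ ?_ (Cfsg.Agent.PGroup.isMulCommutative_sup_zpowers hA (hMC hyM)) ?_ le_sup_left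
    · refine ⟨fun w hw g => ?_⟩
      have h1 : (A ⊔ Subgroup.zpowers y).map ((MulAut.conj g : G ≃* G) : G →* G) ≤
          A ⊔ Subgroup.zpowers y := by
        rw [Subgroup.map_sup, MonoidHom.map_zpowers]
        refine sup_le ?_ (Subgroup.zpowers_le.mpr ?_)
        · rintro _ ⟨b, hb, rfl⟩
          exact Subgroup.mem_sup_left (Subgroup.Normal.conj_mem inferInstance b hb g)
        · show g * y * g⁻¹ ∈ A ⊔ Subgroup.zpowers y
          rw [← inv_mul_cancel_right (g * y * g⁻¹) y]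
          exact Subgroup.mul_mem_sup (hconj g) (Subgroup.mem_zpowers y)
      exact h1 ⟨w, hw, rfl⟩
    · intro b hb
      obtain ⟨a, ha, c, ⟨k, rfl⟩, rfl⟩ := Subgroup.mem_sup_of_normal_left.mp hb
      have hcm : Commute a (y ^ k) := (Commute.zpow_right (hC y (hMC hyM) a ha).symm k)
      show (a * y ^ k) ^ p ^ n = 1
      rw [hcm.mul_pow, hAe a ha, one_mul, ← zpow_natCast (y ^ k), zpow_comm, zpow_natCast, hyn,
        one_zpow]
  exact hyA (hW ▸ Subgroup.mem_sup_right (Subgroup.mem_zpowers y))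

end Cfsg.Agent.S0130
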