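import Cfsg.Statements.S0131


set_option autoImplicit false
open Cfsg
open scoped commutatorElement Pointwise

namespace Cfsg.Agent.S0131

/-- P/P' has a normal complement in G exactly when the focal subgroup G' ∩ P is as small as possible, namely P'. -/
theorem result {G : Type*} [Group G] [Finite G] {p : ℕ} [Fact p.Prime] (P : Sylow p G) : (∃ N : Subgroup G, N.Normal ∧ N ⊓ (P : Subgroup G) = ⁅(P : Subgroup G), (P : Subgroup G)⁆ ∧ N ⊔ (P : Subgroup G) = ⊤) ↔ commutator G ⊓ (P : Subgroup G) = ⁅(P : Subgroup G), (P : Subgroup G)⁆ := by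
  have hle : ⁅(P : Subgroup G), (P : Subgroup G)⁆ ≤ commutator G ⊓ (P : Subgroup G) :=
    le_inf (Subgroup.commutator_mono le_top le_top) (Subgroup.commutator_le_self _)
  constructor
  · rintro ⟨N, hN, h1, h2⟩
    refine le_antisymm ?_ hle
    have hc : commutator G ≤ N := by
      rw [commutator_def, ← h2, Subgroup.commutator_le]
      intro a ha b hb
      obtain ⟨n, hn, x, hx, rfl⟩ := Subgroup.mem_sup_of_normal_left.mp ha
      obtain ⟨m, hm, y, hy, rfl⟩ := Subgroup.mem_sup_of_normal_left.mp hb
      have hxy : ⁅x, y⁆ ∈ N := (h1.ge (Subgroup.commutator_mem_commutator hx hy)).1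
      rw [← QuotientGroup.eq_one_iff] at hn hm hxy ⊢
      show QuotientGroup.mk' N _ = 1
      rw [map_commutatorElement, map_mul, map_mul]
      simp only [QuotientGroup.mk'_apply, hn, hm, one_mul]
      rw [← QuotientGroup.mk'_apply N x, ← QuotientGroup.mk'_apply N y, ← map_commutatorElement]
      exact hxy
    exact h1 ▸ inf_le_inf_right _ hc
  · intro h
    refine ⟨(P : Subgroup G).transferFocal.ker, inferInstance, ?_, ?_⟩
    · rw [Subgroup.ker_transferFocal_inf_eq_focalSubgroup,
        ← Subgroup.commutator_inf_eq_focalSubgroup, h]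
    · refine top_le_iff.mp fun g _ => ?_
      obtain ⟨x, hx⟩ := Subgroup.focalSubgroupOf.pow_index_surjective P
        ((P : Subgroup G).transferFocal g)
      obtain ⟨x, rfl⟩ := QuotientGroup.mk_surjective x
      have hx' : (P : Subgroup G).transferFocal (x : G) = (P : Subgroup G).transferFocal g := by
        rw [Subgroup.transferFocal_eq_pow]; exact hx
      have hk : g * (x : G)⁻¹ ∈ (P : Subgroup G).transferFocal.ker := by
        rw [MonoidHom.mem_ker, map_mul, map_inv, hx', mul_inv_cancel]
      simpa using Subgroup.mul_mem_sup hk x.2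

end Cfsg.Agent.S0131
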