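import Cfsg.Statements.S0132
import Cfsg.Agent.Lib.Transfer.Frobenius
import Cfsg.Agent.Lib.Solvable.Schmidt

set_option autoImplicit false
open Cfsg

namespace Cfsg.Agent.S0132

/-- A minimal non-p-nilpotent finite group is a minimal non-nilpotent group with a normal Sylow p-subgroup. -/
theorem result {G : Type*} [Group G] [Finite G] {p : ℕ} [Fact p.Prime] (h1 : ¬ Cfsg.HasNormalPComplement p G) (h2 : ∀ H : Subgroup G, H ≠ ⊤ → Cfsg.HasNormalPComplement p H) : (∀ H : Subgroup G, H ≠ ⊤ → Group.IsNilpotent H) ∧ ¬ Group.IsNilpotent G ∧ ∀ P : Sylow p G, (P : Subgroup G).Normal := by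
  classical
  obtain ⟨P₀⟩ : Nonempty (Sylow p G) := inferInstance
  obtain ⟨Q, hQP, hQ0, g, hg, hgp, hgc⟩ : ∃ Q : Subgroup G, Q ≤ (P₀ : Subgroup G) ∧ Q ≠ ⊥ ∧
      ∃ g ∈ Subgroup.normalizer (Q : Set G), Nat.Coprime (orderOf g) p ∧
        g ∉ Subgroup.centralizer (Q : Set G) := by
    by_contra hcon
    refine h1 (Cfsg.Agent.Transfer.hasNormalPComplement_of_normalizer_centralizer P₀
      fun Q hQ hQ0 g hg hgp => ?_)
    by_contra hgc
    exact hcon ⟨Q, hQ, hQ0, g, hg, hgp, hgc⟩
  have hQp : IsPGroup p Q := P₀.2.to_le hQP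
  -- a component of `g` of prime power order
  obtain ⟨q, hq, h, hhz, ⟨k, hk⟩, hhc⟩ : ∃ q : ℕ, q.Prime ∧ ∃ h : G, h ∈ Subgroup.zpowers g ∧
      (∃ k, orderOf h = q ^ k) ∧ h ∉ Subgroup.centralizer (Q : Set G) := by
    by_contra hcon
    push Not at hcon
    have htop := Cfsg.Agent.Transfer.eq_top_of_prime_pow_orderOf_mem
      (C := (Subgroup.centralizer (Q : Set G)).subgroupOf (Subgroup.zpowers g))
      fun q hq z ⟨j, hj⟩ => hcon q hq z z.2 ⟨j, by rw [Subgroup.orderOf_coe, hj]⟩
    exact hgc (Subgroup.subgroupOf_eq_top.mp htop (Subgroup.mem_zpowers g))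
  have hqp : q ≠ p := by
    rintro rfl
    have hd : orderOf h ∣ orderOf g := orderOf_dvd_of_mem_zpowers hhz
    rcases k with _ | k
    · rw [pow_zero, orderOf_eq_one_iff] at hk
      exact hhc (hk ▸ one_mem _)
    · exact hq.ne_one ((hgp.coprime_dvd_left hd).symm.eq_one_of_dvd
        (hk ▸ dvd_pow_self q k.succ_ne_zero))
  have hhp : Nat.Coprime (orderOf h) p :=
    hk ▸ Nat.Coprime.pow_left k ((Nat.coprime_primes hq Fact.out).mpr hqp)
  have hhN : h ∈ Subgroup.normalizer (Q : Set G) := Subgroup.zpowers_le.mpr hg hhz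
  set S : Subgroup G := Q ⊔ Subgroup.zpowers h with hS
  have hStop : S = ⊤ := by
    by_contra hne
    refine hhc ?_
    have hhS : h ∈ S := Subgroup.mem_sup_right (Subgroup.mem_zpowers h)
    have hQS : Q ≤ S := le_sup_left
    have h5 := Cfsg.Agent.Transfer.mem_centralizer_of_hasNormalPComplement (h2 S hne)
      (Q := Q.subgroupOf S) hQp.comap_subtype (g := ⟨h, hhS⟩)
      (by
        rw [← Subgroup.subgroupOf_normalizer_eq hQS]
        exact hhN)
      (by rw [Subgroup.orderOf_mk]; exact hhp)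
    rw [Subgroup.mem_centralizer_iff] at h5 ⊢
    exact fun x hx => congrArg Subtype.val (h5 ⟨x, hQS hx⟩ hx)
  haveI hQn : Q.Normal := by
    rw [← Subgroup.normalizer_eq_top_iff, eq_top_iff, ← hStop]
    exact sup_le Subgroup.le_normalizer (Subgroup.zpowers_le.mpr hhN)
  have hGcard : Nat.card G ∣ Nat.card Q * q ^ k := by
    rw [← hk, ← Nat.card_zpowers h, ← Q.card_mul_index]
    refine Nat.mul_dvd_mul_left _ ?_
    have := Subgroup.relIndex_sup_right (K := Q) (H := Subgroup.zpowers h)
    rw [sup_comm, ← hS, hStop, Subgroup.relIndex_top_right] at this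
    rw [this]
    exact Subgroup.relIndex_dvd_card _ _
  have hQidx : ¬ p ∣ Q.index := by
    intro hd
    have h3 : Q.index ∣ q ^ k := by
      rw [← Q.card_mul_index] at hGcard
      exact Nat.dvd_of_mul_dvd_mul_left Nat.card_pos hGcard
    exact hqp ((Nat.prime_dvd_prime_iff_eq Fact.out hq).mp
      ((Fact.out : p.Prime).dvd_of_dvd_pow (hd.trans h3))).symm
  have hsyl : ∀ P : Sylow p G, (P : Subgroup G) = Q := fun P =>
    (hQp.toSylow hQidx).3 P.2 (hQp.le_sylow_of_normal P)
  have hPn : ∀ P : Sylow p G, (P : Subgroup G).Normal := fun P => (hsyl P).symm ▸ hQn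
  refine ⟨fun H hH => ?_, fun hN => ?_, hPn⟩
  · -- proper subgroups are nilpotent
    refine ((Group.isNilpotent_of_finite_tfae (G := H)).out 0 3 rfl rfl).2 fun r hr R => ?_
    by_cases hrp : r = p
    · subst hrp
      obtain ⟨P, hP⟩ := R.exists_comap_subtype_eq
      have := (hPn P).comap H.subtype
      rwa [hP] at this
    · have hKc := h2 H hH
      have hRK : (R : Subgroup H) ≤ Cfsg.pResidual p H := by
        intro x hx
        refine Cfsg.Agent.Transfer.mem_pResidual_of_coprime ?_
        obtain ⟨j, hj⟩ := IsPGroup.iff_orderOf.mp R.2 ⟨x, hx⟩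
        rw [Subgroup.orderOf_mk] at hj
        rw [hj]
        exact Nat.Coprime.pow_left j ((Nat.coprime_primes hr.out Fact.out).mpr hrp)
      by_cases hrq : r = q
      · subst hrq
        have hKn : (Cfsg.pResidual p H).Normal := Cfsg.Agent.Transfer.pResidual_normal
        have hKq : IsPGroup r (Cfsg.pResidual p H) := by
          intro x
          refine ⟨k, Subtype.ext ?_⟩
          have hx := (Cfsg.Agent.Transfer.mem_pResidual_iff_coprime hKc).mp x.2
          have hd : orderOf (x : H) ∣ Nat.card Q * r ^ k := by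
            rw [← Subgroup.orderOf_coe]
            exact (_root_.orderOf_dvd_natCard _).trans hGcard
          have hd2 : orderOf (x : H) ∣ r ^ k := by
            refine Nat.Coprime.dvd_of_dvd_mul_left ?_ hd
            obtain ⟨a, ha⟩ := IsPGroup.iff_card.mp hQp
            rw [ha]
            exact hx.pow_right a
          exact orderOf_dvd_iff_pow_eq_one.mp hd2
        rwa [← R.3 hKq hRK]
      · have hbot : (R : Subgroup H) = ⊥ := by
          rw [Subgroup.eq_bot_iff_forall]
          intro x hx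
          obtain ⟨j, hj⟩ := IsPGroup.iff_orderOf.mp R.2 ⟨x, hx⟩
          rw [Subgroup.orderOf_mk] at hj
          obtain ⟨a, ha⟩ := IsPGroup.iff_card.mp hQp
          have hd : orderOf x ∣ p ^ a * q ^ k := by
            rw [← ha, ← Subgroup.orderOf_coe]
            exact (_root_.orderOf_dvd_natCard _).trans hGcard
          refine orderOf_eq_one_iff.mp (Nat.eq_one_of_dvd_coprimes ?_ hj.dvd hd)
          exact Nat.Coprime.pow_left j (Nat.Coprime.mul_right
            (Nat.Coprime.pow_right a ((Nat.coprime_primes hr.out Fact.out).mpr hrp))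
            (Nat.Coprime.pow_right k ((Nat.coprime_primes hr.out hq).mpr hrq)))
        rw [hbot]
        infer_instance
  · -- `G` is not nilpotent
    haveI := Fact.mk hq
    have hzp : IsPGroup q (Subgroup.zpowers h) := IsPGroup.of_card (n := k) (by rw [Nat.card_zpowers, hk])
    obtain ⟨R, hR⟩ := hzp.exists_le_sylow
    have hRn : (R : Subgroup G).Normal := Cfsg.Agent.Transfer.nilpotent_sylow_normal hN R
    refine hhc (Subgroup.mem_centralizer_iff.mpr fun x hx => ?_)
    exact Subgroup.commute_of_normal_of_disjoint Q (R : Subgroup G) hQn hRn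
      (IsPGroup.disjoint_of_ne p q (Ne.symm hqp) _ _ hQp R.2) x h hx
      (hR (Subgroup.mem_zpowers h))

end Cfsg.Agent.S0132
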