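import Cfsg.Statements.S0147
import Cfsg.Agent.Lib.CharInd.Basic

set_option autoImplicit false
open Cfsg

namespace Cfsg.Agent.S0147

/-- Transitivity of induction: inducing from H to K and then from K to G is the same as inducing from H to G. -/
theorem result {G : Type*} [Group G] [Fintype G] (H K : Subgroup G) [Fintype K] (hHK : H ≤ K) (θ : H → ℂ) : Cfsg.indFun K (Cfsg.indFun (H.subgroupOf K) (fun x => θ ⟨(x : K), Subgroup.mem_subgroupOf.mp x.2⟩)) = Cfsg.indFun H θ := by
  rw [CharInd.indFun_indFun]
  have hmap : (H.subgroupOf K).map K.subtype = H := by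
    rw [Subgroup.subgroupOf_map_subtype, inf_eq_left.mpr hHK]
  have key : ∀ (L : Subgroup G) (e : L = H) (φ : L → ℂ), (∀ x : L, φ x = θ ⟨x, e ▸ x.2⟩) →
      Cfsg.indFun L φ = Cfsg.indFun H θ := by
    rintro L rfl φ h
    rw [show φ = θ from funext h]
  refine key _ hmap _ fun x => ?_
  show θ _ = θ _
  congr 1
  apply Subtype.ext
  have h := congrArg Subtype.val (((H.subgroupOf K).equivMapOfInjective K.subtype K.subtype_injective).apply_symm_apply x)
  exact h

end Cfsg.Agent.S0147
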