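import Cfsg.Statements.S0157
import Cfsg.Agent.Lib.CharCore.Virtual
import Cfsg.Agent.Lib.CharInd.Char
import Mathlib.GroupTheory.GroupAction.Quotient

set_option autoImplicit false
open Cfsg

namespace Cfsg.Agent.S0157

open scoped ComplexConjugate

/-- For a transitive action of a finite group on a finite set with at least two points: the action is 2-transitive if and only if the function sending g to (number of fixed points of g) − 1 is an irreducible character. -/
theorem result {G : Type*} [Group G] [Finite G] (X : Type*) [MulAction G X] [Finite X] [MulAction.IsPretransitive G X] (hX : 2 ≤ Nat.card X) : Cfsg.IsIrrCharacter G (fun g => (Nat.card (MulAction.fixedBy X g) : ℂ) - 1) ↔ MulAction.IsMultiplyPretransitive G X 2 := by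
  classical
  haveI := Fintype.ofFinite G
  haveI := Fintype.ofFinite X
  obtain ⟨x₀⟩ : Nonempty X := (Nat.card_pos_iff.1 (by omega)).1
  set π : G → ℂ := fun g => (Nat.card (MulAction.fixedBy X g) : ℂ) with hπ
  have hπeq : π = Cfsg.indFun (MulAction.stabilizer G x₀) (fun _ => 1) := by
    funext g
    rw [CharInd.indFun_one_eq_fixedBy, hπ]
    have horb : MulAction.orbit G x₀ = Set.univ := MulAction.orbit_eq_univ G x₀
    let φ : G ⧸ MulAction.stabilizer G x₀ → X := MulAction.ofQuotientStabilizer G x₀
    have hφ : Function.Bijective φ := by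
      refine ⟨MulAction.injective_ofQuotientStabilizer G x₀, fun x => ?_⟩
      obtain ⟨a, ha⟩ := MulAction.exists_smul_eq G x₀ x
      exact ⟨a, ha⟩
    show ((Nat.card (MulAction.fixedBy X g) : ℂ)) = _
    congr 1
    refine (Nat.card_congr ((Equiv.ofBijective φ hφ).subtypeEquiv fun q => ?_)).symm
    show g • q = q ↔ g • φ q = φ q
    rw [← MulAction.ofQuotientStabilizer_smul]
    exact hφ.1.eq_iff.symm
  have hπc : Cfsg.IsCharacter G π := by
    rw [hπeq]
    exact CharInd.isCharacter_indFun _ CharCore.isCharacter_one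
  have hG : (Nat.card G : ℂ) ≠ 0 := Nat.cast_ne_zero.2 Nat.card_pos.ne'
  have burnside : ∀ (Y : Type _) [MulAction G Y] [Finite Y],
      ∑ g : G, (Nat.card (MulAction.fixedBy Y g) : ℂ)
        = (Nat.card (MulAction.orbitRel.Quotient G Y) : ℂ) * (Nat.card G : ℂ) := by
    intro Y _ _
    haveI := Fintype.ofFinite Y
    haveI := Fintype.ofFinite (MulAction.orbitRel.Quotient G Y)
    simp only [Nat.card_eq_fintype_card]
    exact_mod_cast MulAction.sum_card_fixedBy_eq_card_orbits_mul_card_group G Y
  have hπ1 : Cfsg.classInner π (fun _ => (1 : ℂ)) = 1 := by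
    simp only [Cfsg.classInner, map_one, mul_one, hπ]
    rw [burnside X]
    have : Nat.card (MulAction.orbitRel.Quotient G X) = 1 := by
      rw [Nat.card_eq_one_iff_unique]
      exact ⟨MulAction.pretransitive_iff_subsingleton_quotient G X |>.1 inferInstance,
        ⟨Quotient.mk'' x₀⟩⟩
    rw [this, Nat.cast_one, one_mul, inv_mul_cancel₀ hG]
  have hππ : Cfsg.classInner π π = (Nat.card (MulAction.orbitRel.Quotient G (X × X)) : ℂ) := by
    simp only [Cfsg.classInner, hπ, map_natCast, ← Nat.cast_mul]
    have e : ∀ g : G, Nat.card (MulAction.fixedBy X g) * Nat.card (MulAction.fixedBy X g)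
        = Nat.card (MulAction.fixedBy (X × X) g) := by
      intro g
      rw [← Nat.card_prod]
      refine Nat.card_congr ((Equiv.Set.prod _ _).symm.trans (Equiv.subtypeEquivRight ?_))
      rintro ⟨a, b⟩
      simp [MulAction.fixedBy]
    simp only [e]
    rw [burnside (X × X)]
    field_simp
  have hone : Cfsg.classInner (fun _ : G => (1 : ℂ)) (fun _ => (1 : ℂ)) = 1 := by
    simp [Cfsg.classInner, Finset.card_univ, Nat.card_eq_fintype_card]
  have hπ1' : Cfsg.classInner (fun _ => (1 : ℂ)) π = 1 := by
    rw [← CharInd.classInner_swap, hπ1, map_one]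
  set χ : G → ℂ := fun g => (Nat.card (MulAction.fixedBy X g) : ℂ) - 1 with hχ
  have hsub : χ = π - (fun _ => (1 : ℂ)) := rfl
  have hχχ : Cfsg.classInner χ χ = Cfsg.classInner π π - 1 := by
    rw [hsub, CharCore.classInner_sub_left, CharCore.classInner_sub_right,
      CharCore.classInner_sub_right, hπ1, hπ1', hone]
    ring
  have h2 : MulAction.IsMultiplyPretransitive G X 2 ↔
      Nat.card (MulAction.orbitRel.Quotient G (X × X)) = 2 := by
    haveI : Nontrivial X := Finite.one_lt_card_iff_nontrivial.1 (by omega)
    obtain ⟨y₀, hy₀⟩ := exists_ne x₀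
    let D : MulAction.orbitRel.Quotient G (X × X) := Quotient.mk'' (x₀, x₀)
    let E : MulAction.orbitRel.Quotient G (X × X) := Quotient.mk'' (y₀, x₀)
    have hdiag : ∀ a : X, (Quotient.mk'' (a, a) : MulAction.orbitRel.Quotient G (X × X)) = D := by
      intro a
      obtain ⟨g, rfl⟩ := MulAction.exists_smul_eq G x₀ a
      exact Quotient.eq''.2 ⟨g, rfl⟩
    have hoff : ∀ a b : X, a ≠ b →
        (Quotient.mk'' (a, b) : MulAction.orbitRel.Quotient G (X × X)) ≠ D := by
      intro a b hab h
      obtain ⟨g, hg⟩ := (Quotient.eq''.1 h : MulAction.orbitRel G (X × X) _ _)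
      exact hab ((congrArg Prod.fst hg).symm.trans (congrArg Prod.snd hg))
    rw [MulAction.is_two_pretransitive_iff]
    constructor
    · intro h
      have huniv : (Set.univ : Set (MulAction.orbitRel.Quotient G (X × X))) = {D, E} := by
        refine (Set.eq_univ_of_forall fun q => ?_).symm
        induction q using Quotient.inductionOn' with
        | h p =>
          obtain ⟨a, b⟩ := p
          by_cases hab : a = b
          · subst hab; exact Or.inl (hdiag a)
          · obtain ⟨g, hg1, hg2⟩ := h hy₀ hab
            exact Or.inr (Quotient.eq''.2 ⟨g, Prod.ext hg1 hg2⟩)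
      rw [← Nat.card_univ (α := MulAction.orbitRel.Quotient G (X × X)), huniv, Nat.card_coe_set_eq,
        Set.ncard_pair (hoff _ _ hy₀).symm]
    · intro hc a b c d hab hcd
      obtain ⟨u, v, huv, huniv⟩ := Nat.card_eq_two_iff.1 hc
      have hall : ∀ q, q = u ∨ q = v := fun q => by
        have := huniv.ge (Set.mem_univ q); simpa using this
      have : (Quotient.mk'' (c, d) : MulAction.orbitRel.Quotient G (X × X))
          = Quotient.mk'' (a, b) := by
        rcases hall (Quotient.mk'' (c, d)) with h1 | h1 <;>
          rcases hall (Quotient.mk'' (a, b)) with h3 | h3 <;>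
          rcases hall D with h4 | h4 <;>
          first
            | exact h1.trans h3.symm
            | exact absurd (h1.trans h4.symm) (hoff c d hcd)
            | exact absurd (h3.trans h4.symm) (hoff a b hab)
      obtain ⟨g, hg⟩ := (Quotient.eq''.1 this : MulAction.orbitRel G (X × X) _ _)
      exact ⟨g, congrArg Prod.fst hg, congrArg Prod.snd hg⟩
  rw [h2]
  constructor
  · intro hirr
    have h1 := CharCore.classInner_irr_self (⟨χ, hirr⟩ : Cfsg.IrrCharacter G)
    change Cfsg.classInner χ χ = 1 at h1
    rw [hχχ, hππ, sub_eq_iff_eq_add] at h1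
    rw [one_add_one_eq_two] at h1
    exact_mod_cast h1
  · intro hc
    have hnorm : Cfsg.classInner χ χ = 1 := by rw [hχχ, hππ, hc]; norm_num
    refine CharCore.IsGeneralizedCharacter.isIrr_of_norm_one
      ⟨π, fun _ => 1, hπc, CharCore.isCharacter_one, hsub⟩ hnorm ?_
    show 0 < ((Nat.card (MulAction.fixedBy X (1 : G)) : ℂ) - 1).re
    rw [MulAction.fixedBy_one_eq_univ, Nat.card_univ, Complex.sub_re, Complex.natCast_re,
      Complex.one_re, sub_pos]
    exact_mod_cast hX

end Cfsg.Agent.S0157
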