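import Cfsg.Statements.S0162
import Cfsg.Agent.S0161
import Cfsg.Agent.Lib.CharClifford.Central
import Cfsg.Agent.Lib.CharCore.Complete
import Mathlib.Data.ZMod.Basic

set_option autoImplicit false
open Cfsg

namespace Cfsg.Agent.S0162

open scoped ComplexConjugate

/-- If a finite group has odd order, its order is congruent to its number of conjugacy classes modulo 16. -/
theorem result {G : Type*} [Group G] [Finite G] (hodd : Odd (Nat.card G)) : Nat.card G ≡ Nat.card (ConjClasses G) [MOD 16] := by
  classical
  haveI := Fintype.ofFinite G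
  choose d hd0 hdvd hd using fun χ : Cfsg.IrrCharacter G =>
    CharClifford.exists_degree_dvd_card χ.2
  have hsum : (∑ χ : Cfsg.IrrCharacter G, d χ ^ 2 : ℕ) = Nat.card G := by
    have h := CharCore.sum_degree_sq (G := G)
    simp only [hd] at h
    exact_mod_cast h
  rw [← CharCore.card_irr, ← ZMod.natCast_eq_natCast_iff, ← hsum, Nat.card_eq_fintype_card,
    Fintype.card_eq_sum_ones]
  push_cast
  rw [← sub_eq_zero, ← Finset.sum_sub_distrib]
  let f : Cfsg.IrrCharacter G → Cfsg.IrrCharacter G := fun χ =>
    ⟨fun g => conj ((χ : G → ℂ) g), CharCore.isIrrCharacter_star χ.2⟩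
  have hdf : ∀ χ, d (f χ) = d χ := by
    intro χ
    have h : (d (f χ) : ℂ) = d χ := by
      rw [← hd (f χ)]
      show conj ((χ : G → ℂ) 1) = _
      rw [hd χ, map_natCast]
    exact_mod_cast h
  refine Finset.sum_involution (fun χ _ => f χ) ?_ ?_ (fun χ _ => Finset.mem_univ _) ?_
  · intro χ _
    rw [hdf]
    obtain ⟨k, hk⟩ := hodd.of_dvd_nat (hdvd χ)
    obtain ⟨m, hm⟩ : 2 ∣ k * (k + 1) := (Nat.even_mul_succ_self k).two_dvd
    have h : 2 * d χ ^ 2 = 16 * m + 2 := by rw [hk]; linear_combination 8 * hm
    have h' := congrArg (Nat.cast : ℕ → ZMod 16) h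
    push_cast at h'
    rw [show (16 : ZMod 16) = 0 from rfl] at h'
    linear_combination h'
  · intro χ _ hne hfix
    apply hne
    have h1 := S0161.result hodd χ fun g =>
      Complex.conj_eq_iff_im.1 (congrFun (congrArg Subtype.val hfix) g)
    have hd1 : d χ = 1 := by
      have h := hd χ
      rw [h1] at h
      have h' : (d χ : ℂ) = 1 := h.symm
      exact_mod_cast h'
    simp [hd1]
  · intro χ _
    exact Subtype.ext (funext fun g => Complex.conj_conj _)

end Cfsg.Agent.S0162
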