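import Cfsg.Statements.S0163
import Cfsg.Agent.Lib.CharInd.Brauer

set_option autoImplicit false
open Cfsg

namespace Cfsg.Agent.S0163

/-- Brauer's induction Theorem: every character of a finite group is a ℤ-linear combination of functions induced from linear characters (homomorphisms to ℂˣ) of elementary subgroups. -/
theorem result {G : Type*} [Group G] [Fintype G] (χ : G → ℂ) (hχ : Cfsg.IsCharacter G χ) : ∃ l : List ((E : Subgroup G) × ((E →* ℂˣ) × ℤ)), (∀ t ∈ l, ∃ p : ℕ, p.Prime ∧ Cfsg.IsElementary p t.1) ∧ χ = (l.map fun t => (t.2.2 : ℂ) • Cfsg.indFun t.1 (fun e => (t.2.1 e : ℂ))).sum := by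
  have h := CharInd.isCharacter_mem_linSpan hχ
  refine AddSubgroup.closure_induction (p := fun f _ => ∃ l : List ((E : Subgroup G) ×
    ((E →* ℂˣ) × ℤ)), (∀ t ∈ l, ∃ p : ℕ, p.Prime ∧ Cfsg.IsElementary p t.1) ∧
      f = (l.map fun t => (t.2.2 : ℂ) • Cfsg.indFun t.1 (fun e => (t.2.1 e : ℂ))).sum)
    ?_ ?_ ?_ ?_ h
  · rintro _ ⟨E, p, lam, hp, hE, rfl⟩
    exact ⟨[⟨E, lam, 1⟩], by simpa using ⟨p, hp, hE⟩, by simp⟩
  · exact ⟨[], by simp, by simp⟩
  · rintro x y _ _ ⟨l, hl, hx⟩ ⟨m, hm, hy⟩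
    refine ⟨l ++ m, fun t ht => ?_, by simp [hx, hy]⟩
    rcases List.mem_append.1 ht with h | h
    exacts [hl t h, hm t h]
  · rintro x _ ⟨l, hl, hx⟩
    refine ⟨l.map fun t => ⟨t.1, t.2.1, -t.2.2⟩, ?_, ?_⟩
    · intro t ht
      obtain ⟨t', ht', rfl⟩ := List.mem_map.1 ht
      exact hl t' ht'
    · rw [hx]
      clear hx hl
      induction l with
      | nil => simp
      | cons a l ih => simp [ih]; abel

end Cfsg.Agent.S0163
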