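import Cfsg.Statements.S0166
import Cfsg.Agent.Lib.CharInd.SplittingField
import Cfsg.Agent.S0153

set_option autoImplicit false
open Cfsg

namespace Cfsg.Agent.S0166

/-- Brauer's splitting field Theorem: a complex representation of a finite group of exponent m is equivalent to a representation by matrices with entries in ℚ adjoined exp(2πi/m). -/
theorem result {G : Type*} [Group G] [Finite G] (n : ℕ) (ρ : Representation ℂ G (Fin n → ℂ)) : ∃ σ : Representation ℂ G (Fin n → ℂ), Nonempty (ρ.Equiv σ) ∧ ∀ g : G, ∀ i j : Fin n, LinearMap.toMatrix' (σ g) i j ∈ Algebra.adjoin ℚ ({Complex.exp (2 * Real.pi * Complex.I / (Monoid.exponent G : ℂ))} : Set ℂ) := by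
  classical
  haveI := Fintype.ofFinite G
  set ζ : ℂ := Complex.exp (2 * Real.pi * Complex.I / (Monoid.exponent G : ℂ)) with hζdef
  have hζ : IsPrimitiveRoot ζ (Monoid.exponent G) :=
    Complex.isPrimitiveRoot_exp _ Monoid.exponent_ne_zero_of_finite
  let K : IntermediateField ℚ ℂ := IntermediateField.adjoin ℚ {ζ}
  obtain ⟨m, T, hT⟩ := CharInd.isSubfieldChar_of_isCharacter (K := K) hζ
    (IntermediateField.subset_adjoin ℚ _ rfl) (CharInd.isCharacter_of_rep ρ)
  have hmn : m = n := by
    have h := congrFun hT 1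
    rw [ρ.char_one, T.char_one, Module.finrank_fin_fun, Module.finrank_fin_fun,
      show (((m : ℕ) : K) : ℂ) = (m : ℂ) from map_natCast (algebraMap K ℂ) m] at h
    exact_mod_cast h.symm
  subst hmn
  let mh : Module.End K (Fin m → K) →* Module.End ℂ (Fin m → ℂ) :=
    (Matrix.toLinAlgEquiv' : Matrix (Fin m) (Fin m) ℂ ≃ₐ[ℂ] _).toMonoidHom.comp
      ((((algebraMap K ℂ).mapMatrix : Matrix (Fin m) (Fin m) K →+* _).toMonoidHom).comp
        (LinearMap.toMatrixAlgEquiv' : _ ≃ₐ[K] Matrix (Fin m) (Fin m) K).toMonoidHom)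
  refine ⟨mh.comp T, S0153.result ρ _ ?_, fun g i j => ?_⟩
  · rw [hT]
    funext g
    show _ = LinearMap.trace ℂ (Fin m → ℂ) (Matrix.toLin' ((LinearMap.toMatrix' (T g)).map
      (algebraMap K ℂ)))
    rw [Matrix.trace_toLin'_eq, Representation.character,
      LinearMap.trace_eq_matrix_trace K (Pi.basisFun K (Fin m)),
      LinearMap.toMatrix_eq_toMatrix']
    exact AddMonoidHom.map_trace (algebraMap K ℂ).toAddMonoidHom _
  · show LinearMap.toMatrix' (Matrix.toLin' ((LinearMap.toMatrix' (T g)).map (algebraMap K ℂ))) i j ∈ _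
    rw [LinearMap.toMatrix'_toLin', Matrix.map_apply]
    have halg : IsAlgebraic ℚ ζ :=
      ⟨Polynomial.X ^ Monoid.exponent G - Polynomial.C 1,
        Polynomial.X_pow_sub_C_ne_zero (Nat.pos_of_ne_zero Monoid.exponent_ne_zero_of_finite) 1,
        by simp [hζ.pow_eq_one]⟩
    rw [← IntermediateField.adjoin_simple_toSubalgebra_of_isAlgebraic halg]
    exact SetLike.coe_mem (LinearMap.toMatrix' (T g) i j)

end Cfsg.Agent.S0166
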