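import Cfsg.Statements.S0167
import Cfsg.Agent.Lib.CharCore.Complete
import Cfsg.Agent.Lib.CharClifford.Central

set_option autoImplicit false
open Cfsg

namespace Cfsg.Agent.S0167

/-- An element g of a finite group is a commutator if and only if the sum over the irreducible characters χ of χ g / χ 1 is nonzero. -/
theorem result {G : Type*} [Group G] [Finite G] (g : G) : (∃ a b : G, g = a * b * a⁻¹ * b⁻¹) ↔ ∑ᶠ χ : Cfsg.IrrCharacter G, (χ : G → ℂ) g / (χ : G → ℂ) 1 ≠ 0 := by
  classical
  haveI := Fintype.ofFinite G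
  have hG : (Nat.card G : ℂ) ≠ 0 := Nat.cast_ne_zero.2 Nat.card_pos.ne'
  let N : G → ℂ := fun x =>
    ∑ a : G, ∑ b : G, if x = a * b * a⁻¹ * b⁻¹ then (1 : ℂ) else 0
  have hN : Cfsg.IsClassFunction G N := by
    intro x c
    refine Fintype.sum_equiv (MulAut.conj c⁻¹).toEquiv _ _ fun a =>
      Fintype.sum_equiv (MulAut.conj c⁻¹).toEquiv _ _ fun b => ?_
    simp only [MulEquiv.toEquiv_eq_coe, MulEquiv.coe_toEquiv, MulAut.conj_apply, inv_inv]
    refine if_congr ⟨fun h => ?_, fun h => ?_⟩ rfl rfl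
    · calc x = c⁻¹ * (c * x * c⁻¹) * c := by group
        _ = c⁻¹ * (a * b * a⁻¹ * b⁻¹) * c := by rw [h]
        _ = _ := by group
    · rw [h]; group
  have hcoef : ∀ χ : Cfsg.IrrCharacter G,
      Cfsg.classInner N χ = (Nat.card G : ℂ) / (χ : G → ℂ) 1 := by
    intro χ
    obtain ⟨n, ρ, hρ, hχ⟩ := χ.2
    haveI := hρ
    have hn : (Module.finrank ℂ (Fin n → ℂ) : ℂ) ≠ 0 :=
      Nat.cast_ne_zero.2 (CharCore.finrank_pos_of_irreducible ρ).ne'
    have hclass : ∀ a : G, ∑ b : G, ρ.character (b * a * b⁻¹ * a⁻¹)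
        = (Nat.card G : ℂ) * (ρ.character a * ρ.character a⁻¹)
            / (Module.finrank ℂ (Fin n → ℂ) : ℂ) := by
      intro a
      obtain ⟨c, hc⟩ := CharClifford.exists_scalar_of_commute ρ (∑ b : G, ρ (b * a * b⁻¹))
        (fun g => by
          show _ * _ = _ * _
          rw [Finset.sum_mul, Finset.mul_sum]
          refine Fintype.sum_equiv (Equiv.mulLeft g⁻¹) _ _ fun b => ?_
          rw [← map_mul, ← map_mul]
          congr 1
          simp only [Equiv.coe_mulLeft]
          group)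
      have htr : c * (Module.finrank ℂ (Fin n → ℂ) : ℂ) = (Nat.card G : ℂ) * ρ.character a := by
        have := congrArg (LinearMap.trace ℂ (Fin n → ℂ)) hc
        rw [map_sum, map_smul, LinearMap.trace_one, smul_eq_mul] at this
        have e : ∀ b : G, LinearMap.trace ℂ (Fin n → ℂ) (ρ (b * a * b⁻¹)) = ρ.character a :=
          fun b => ρ.char_conj a b
        rw [← this, Finset.sum_congr rfl fun b _ => e b, Finset.sum_const,
          Finset.card_univ, nsmul_eq_mul, Nat.card_eq_fintype_card]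
      calc ∑ b : G, ρ.character (b * a * b⁻¹ * a⁻¹)
          = LinearMap.trace ℂ (Fin n → ℂ) ((∑ b : G, ρ (b * a * b⁻¹)) * ρ a⁻¹) := by
            simp [Finset.sum_mul, Representation.character, map_mul]
        _ = c * ρ.character a⁻¹ := by
            rw [hc, smul_mul_assoc, one_mul, map_smul, smul_eq_mul]; rfl
        _ = _ := by
            rw [eq_div_iff hn, mul_right_comm, htr, mul_assoc]
    have hsum : ∑ a : G, ∑ b : G, ρ.character (b * a * b⁻¹ * a⁻¹)
        = (Nat.card G : ℂ) * (Nat.card G : ℂ) / (Module.finrank ℂ (Fin n → ℂ) : ℂ) := by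
      rw [Finset.sum_congr rfl fun a _ => hclass a, ← Finset.sum_div, ← Finset.mul_sum,
        CharClifford.sum_character_mul_inv]
    rw [CharCore.classInner_eq_inv _ (CharCore.irr_isCharacter χ), ← hχ]
    simp only [N, Finset.sum_mul, ite_mul, one_mul, zero_mul]
    rw [Finset.sum_comm, Finset.sum_congr rfl fun a _ => Finset.sum_comm,
      ρ.char_one]
    simp only [Finset.sum_ite_eq', Finset.mem_univ, if_true]
    have e : ∀ a b : G, ρ.character (a * b * a⁻¹ * b⁻¹)⁻¹
        = ρ.character (b * a * b⁻¹ * a⁻¹) := fun a b => by congr 1; group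
    rw [Finset.sum_congr rfl fun a _ => Finset.sum_congr rfl fun b _ => e a b, hsum,
      mul_div_assoc, inv_mul_cancel_left₀ hG]
  have hkey : N g = (Nat.card G : ℂ) *
      ∑ᶠ χ : Cfsg.IrrCharacter G, (χ : G → ℂ) g / (χ : G → ℂ) 1 := by
    rw [CharCore.finsum_irr, congrFun (CharCore.eq_sum_classInner hN) g, Finset.sum_apply,
      Finset.mul_sum]
    refine Finset.sum_congr rfl fun χ _ => ?_
    rw [Pi.smul_apply, smul_eq_mul, hcoef]
    ring
  constructor
  · rintro ⟨a, b, hab⟩ h0
    rw [h0, mul_zero] at hkey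
    simp only [N, ← Nat.cast_zero (R := ℂ)] at hkey
    have hnat : (∑ x : G, ∑ y : G, if g = x * y * x⁻¹ * y⁻¹ then 1 else 0 : ℕ) = 0 := by
      have := hkey
      simp only [Nat.cast_zero] at this
      exact_mod_cast this
    rw [Finset.sum_eq_zero_iff] at hnat
    have := Finset.sum_eq_zero_iff.1 (hnat a (Finset.mem_univ a)) b (Finset.mem_univ b)
    rw [if_pos hab] at this
    exact absurd this one_ne_zero
  · intro hne
    by_contra hno
    push Not at hno
    apply hne
    have h0 : N g = 0 := Finset.sum_eq_zero fun a _ => Finset.sum_eq_zero fun b _ =>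
      if_neg (hno a b)
    rw [h0] at hkey
    exact (mul_eq_zero.1 hkey.symm).resolve_left hG

end Cfsg.Agent.S0167
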