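import Cfsg.Statements.S0168
import Cfsg.Agent.Lib.CharCore.Basic
import Cfsg.Agent.Lib.CharCore.Eigen

set_option autoImplicit false
open Cfsg

namespace Cfsg.Agent.S0168

open scoped ComplexConjugate

/-- The Burnside–Brauer Theorem. Let χ be the character of a faithful complex representation of a finite group, taking m distinct values. Then every irreducible character has nonzero inner product with χ ^ i for some i < m. -/
theorem result {G : Type*} [Group G] [Fintype G] {V : Type*} [AddCommGroup V] [Module ℂ V] [FiniteDimensional ℂ V] (ρ : Representation ℂ G V) (hfaithful : Function.Injective ρ) (ψ : G → ℂ) (hψ : Cfsg.IsIrrCharacter G ψ) : ∃ i : ℕ, i < Nat.card (Set.range ρ.character) ∧ Cfsg.classInner (fun g => ρ.character g ^ i) ψ ≠ 0 := by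
  classical
  by_contra hno
  push Not at hno
  haveI := Fintype.ofFinite (Set.range ρ.character)
  set R : Finset ℂ := Finset.univ.image ρ.character with hR
  have hm : Nat.card (Set.range ρ.character) = R.card := by
    rw [← Nat.card_eq_finsetCard]
    exact Nat.card_congr (Equiv.subtypeEquivRight fun z => by simp [hR])
  have hQ : ∀ (s : Finset ℂ) (i : ℕ), i + s.card < R.card →
      ∑ g : G, ρ.character g ^ i * (∏ a ∈ s, (ρ.character g - a)) * conj (ψ g) = 0 := by
    intro s
    induction s using Finset.induction_on with
    | empty =>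
      intro i hi
      have h := hno i (hm ▸ (by simpa using hi))
      rw [Cfsg.classInner, mul_eq_zero] at h
      simpa using h.resolve_left (inv_ne_zero (Nat.cast_ne_zero.2 Nat.card_pos.ne'))
    | insert a s ha ih =>
      intro i hi
      rw [Finset.card_insert_of_notMem ha] at hi
      have e : ∀ g : G, ρ.character g ^ i * (∏ x ∈ insert a s, (ρ.character g - x)) * conj (ψ g)
          = ρ.character g ^ (i + 1) * (∏ x ∈ s, (ρ.character g - x)) * conj (ψ g)
            - a * (ρ.character g ^ i * (∏ x ∈ s, (ρ.character g - x)) * conj (ψ g)) := fun g => by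
        rw [Finset.prod_insert ha]; ring
      rw [Finset.sum_congr rfl fun g _ => e g, Finset.sum_sub_distrib, ← Finset.mul_sum,
        ih (i + 1) (by omega), ih i (by omega), mul_zero, sub_zero]
  set d : ℂ := (Module.finrank ℂ V : ℂ) with hd
  have hdR : d ∈ R := Finset.mem_image.2 ⟨1, Finset.mem_univ 1, ρ.char_one⟩
  have h0 := hQ (R.erase d) 0 (by
    have := Finset.card_erase_lt_of_mem hdR
    omega)
  rw [Finset.sum_eq_single (1 : G)] at h0
  · rw [ρ.char_one, pow_zero, one_mul] at h0
    rcases mul_eq_zero.1 h0 with h | h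
    · obtain ⟨a, ha, ha0⟩ := Finset.prod_eq_zero_iff.1 h
      exact (Finset.mem_erase.1 ha).1 (sub_eq_zero.1 ha0).symm
    · exact CharCore.irr_apply_one_ne_zero ⟨ψ, hψ⟩ (by simpa using h)
  · intro g _ hg
    have hne : ρ.character g ≠ d := fun h => hg (hfaithful (by
      rw [map_one, (CharCore.character_eq_finrank_iff ρ g).1 h]; rfl))
    rw [Finset.prod_eq_zero (Finset.mem_erase.2 ⟨hne, Finset.mem_image_of_mem _ (Finset.mem_univ g)⟩)
      (sub_self _)]
    simp
  · simp

end Cfsg.Agent.S0168
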