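import Cfsg.Statements.S0170
import Cfsg.Agent.Lib.CharCore.TI
import Cfsg.Agent.Lib.CharInd.Char
import Cfsg.Agent.S0198
import Cfsg.Agent.Lib.CharCore.Basic

set_option autoImplicit false
open Cfsg

namespace Cfsg.Agent.S0170

/-- Exceptional characters. Let S be a subset of a finite group contained in its normalizer N and meeting its conjugates by elements outside N only in the identity. Given n ≥ 2 distinct irreducible characters of N of equal degree that vanish on N away from S, there exist a sign ε and n distinct irreducible characters θ_i of G such that inducing χ_i − χ_j to G gives ε (θ_i − θ_j) for all i, j. -/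
theorem result {G : Type*} [Group G] [Fintype G] (S : Set G) (hSN : S ⊆ Subgroup.normalizer S) (hTI : ∀ g : G, g ∉ Subgroup.normalizer S → ∀ s ∈ S, g * s * g⁻¹ ∈ S → s = 1) (n : ℕ) (hn : 2 ≤ n) (χ : Fin n → (Subgroup.normalizer S → ℂ)) (hirr : ∀ i, Cfsg.IsIrrCharacter (Subgroup.normalizer S) (χ i)) (hinj : Function.Injective χ) (hvan : ∀ i, ∀ x : Subgroup.normalizer S, (x : G) ∉ S → χ i x = 0) (hdeg : ∀ i j, χ i 1 = χ j 1) : ∃ ε : ℂ, (ε = 1 ∨ ε = -1) ∧ ∃ θ : Fin n → (G → ℂ), (∀ i, Cfsg.IsIrrCharacter G (θ i)) ∧ Function.Injective θ ∧ ∀ i j, Cfsg.indFun (Subgroup.normalizer S) (χ i) - Cfsg.indFun (Subgroup.normalizer S) (χ j) = ε • (θ i - θ j) := by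
  classical
  haveI := Fintype.ofFinite (Subgroup.normalizer S)
  let N : Subgroup G := Subgroup.normalizer S
  let i₀ : Fin n := ⟨0, by omega⟩
  let τ : Fin n → (G → ℂ) := fun i => Cfsg.indFun N (χ i) - Cfsg.indFun N (χ i₀)
  have hirr' : ∀ i, Cfsg.IsCharacter N (χ i) :=
    fun i => CharCore.IsIrrCharacter.isCharacter (hirr i)
  have hτ : ∀ i, τ i = Cfsg.indFun N (χ i - χ i₀) := fun i => (CharInd.indFun_sub N _ _).symm
  have hd : ∀ i, (χ i - χ i₀) 1 = 0 := fun i => sub_eq_zero.2 (hdeg i i₀)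
  have horth : ∀ a b, Cfsg.classInner (χ a) (χ b) = if a = b then 1 else 0 := by
    intro a b
    rw [show Cfsg.classInner (χ a) (χ b) = _ from
      CharCore.classInner_irr (⟨χ a, hirr a⟩ : Cfsg.IrrCharacter N) ⟨χ b, hirr b⟩]
    exact if_congr ⟨fun h => hinj (congrArg Subtype.val h), fun h => by subst h; rfl⟩ rfl rfl
  have hgram : ∀ i j, i ≠ i₀ → j ≠ i₀ →
      Cfsg.classInner (τ i) (τ j) = if i = j then 2 else 1 := by
    intro i j hi hj
    have hvan' : ∀ i, ∀ x : N, (x : G) ∉ S → (χ i - χ i₀) x = 0 := fun i x hx => by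
      simp [hvan i x hx, hvan i₀ x hx]
    have hcl : Cfsg.IsClassFunction N (χ j - χ i₀) := fun g h => by
      simp [CharCore.IsCharacter.isClassFunction (hirr' j) g h,
        CharCore.IsCharacter.isClassFunction (hirr' i₀) g h]
    rw [hτ, hτ, CharCore.classInner_indFun_ti S hTI _ _ hcl (hvan' i) (hvan' j) (hd i),
      CharCore.classInner_sub_left, CharCore.classInner_sub_right, CharCore.classInner_sub_right,
      horth, horth, horth, horth, if_neg hi, if_neg hj.symm, if_pos rfl]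
    split_ifs <;> norm_num
  obtain ⟨ε, hε, μ, hμ, hμinj, hτμ⟩ := S0198.result n i₀ τ (sub_self _)
    (fun i => ⟨_, _, CharInd.isCharacter_indFun N (hirr' i), CharInd.isCharacter_indFun N (hirr' i₀),
      rfl⟩)
    (fun i => by
      show (τ i) 1 = 0
      rw [hτ, CharInd.indFun_apply_one, hd, mul_zero])
    hgram
  refine ⟨ε, hε, μ, hμ, hμinj, fun i j => ?_⟩
  calc Cfsg.indFun N (χ i) - Cfsg.indFun N (χ j) = τ i - τ j := by simp [τ]
    _ = ε • (μ i - μ i₀) - ε • (μ j - μ i₀) := by rw [hτμ i, hτμ j]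
    _ = ε • (μ i - μ j) := by rw [← smul_sub, sub_sub_sub_cancel_right]

end Cfsg.Agent.S0170
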