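import Cfsg.Statements.S0173
import Cfsg.Agent.Lib.CharInd.Classes

set_option autoImplicit false
open Cfsg

namespace Cfsg.Agent.S0173

open scoped ComplexConjugate

/-- Brauer's permutation lemma for a single automorphism: the number of conjugacy classes mapped to themselves equals the number of irreducible complex characters χ with χ ∘ α = χ. -/
theorem result {G : Type*} [Group G] [Finite G] (α : G ≃* G) : Nat.card {C : ConjClasses G // ConjClasses.map α.toMonoidHom C = C} = Nat.card {χ : Cfsg.IrrCharacter G // (χ : G → ℂ) ∘ α = (χ : G → ℂ)} := by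
  classical
  haveI := Fintype.ofFinite G
  let f : Cfsg.IrrCharacter G → Cfsg.IrrCharacter G := fun χ =>
    ⟨fun g => (χ : G → ℂ) (α g),
      CharCore.isIrrCharacter_comp_surjective χ.2 α.toMonoidHom α.surjective⟩
  have h1 : Nat.card {χ : Cfsg.IrrCharacter G // (χ : G → ℂ) ∘ α = (χ : G → ℂ)}
      = Nat.card {χ : Cfsg.IrrCharacter G // f χ = χ} :=
    Nat.card_congr (Equiv.subtypeEquivRight fun χ => (Subtype.ext_iff (a1 := f χ)).symm)
  rw [h1]
  have key := CharInd.card_fixed_irr f
  have hs : ∀ g : G, ∑ χ : Cfsg.IrrCharacter G, (f χ : G → ℂ) g * conj ((χ : G → ℂ) g)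
      = if ConjClasses.map α.toMonoidHom (ConjClasses.mk g) = ConjClasses.mk g then
          (Nat.card (Subgroup.centralizer ({g} : Set G)) : ℂ) else 0 := by
    intro g
    rw [CharCore.sum_apply_mul_conj (α g) g]
    have hiff : IsConj (α g) g ↔
        ConjClasses.map α.toMonoidHom (ConjClasses.mk g) = ConjClasses.mk g :=
      ConjClasses.mk_eq_mk_iff_isConj.symm
    refine if_congr hiff ?_ rfl
    norm_cast
    refine (Nat.card_congr (α.toEquiv.subtypeEquiv fun y => ?_)).symm
    simp only [Subgroup.mem_centralizer_singleton_iff, MulEquiv.toEquiv_eq_coe,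
      MulEquiv.coe_toEquiv, ← map_mul, α.injective.eq_iff]
  rw [Finset.sum_congr rfl fun g _ => hs g, CharInd.sum_card_centralizer_eq
    (fun C => ConjClasses.map α.toMonoidHom C = C),
    inv_mul_cancel_left₀ (Nat.cast_ne_zero.2 Nat.card_pos.ne')] at key
  exact_mod_cast key.symm

end Cfsg.Agent.S0173
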