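import Cfsg.Statements.S0171
import Cfsg.Agent.Lib.CharInd.Char
import Cfsg.Agent.Lib.CharInd.FrobeniusGroup
import Cfsg.Agent.Lib.CharCore.Virtual
import Cfsg.Agent.S0173

set_option autoImplicit false
open Cfsg

namespace Cfsg.Agent.S0171

open scoped ComplexConjugate

/-- Let G = K H with K normal, K ⊓ H trivial, and no non-identity element of H commuting with a non-identity element of K (a Frobenius group with kernel K and complement H). Then every non-principal irreducible character of K induces to an irreducible character of G. -/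
theorem result {G : Type*} [Group G] [Fintype G] (K H : Subgroup G) [K.Normal] (hKH : K ⊓ H = ⊥) (hKH' : K ⊔ H = ⊤) (hfpf : ∀ h ∈ H, h ≠ 1 → ∀ k ∈ K, h * k = k * h → k = 1) (τ : K → ℂ) (hτ : Cfsg.IsIrrCharacter K τ) (hτ1 : τ ≠ fun _ => 1) : Cfsg.IsIrrCharacter G (Cfsg.indFun K τ) := by
  classical
  rw [CharCore.isIrrCharacter_iff]
  have hτc : Cfsg.IsCharacter K τ := CharCore.IsIrrCharacter.isCharacter hτ
  refine ⟨CharInd.isCharacter_indFun K hτc, ?_⟩
  haveI : Fintype K := Fintype.ofFinite _
  rw [CharInd.classInner_indFun_left K τ (CharInd.isClassFunction_indFun K τ)]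
  let t : Cfsg.IrrCharacter K := ⟨τ, hτ⟩
  let tw : G → Cfsg.IrrCharacter K := fun x =>
    ⟨fun k => τ (MulAut.conjNormal x k),
      CharCore.isIrrCharacter_comp_surjective hτ (MulAut.conjNormal x : K ≃* K).toMonoidHom
        (MulAut.conjNormal x : K ≃* K).surjective⟩
  have hin : ∀ x : G, Cfsg.classInner τ (fun k : K => τ (MulAut.conjNormal x k))
      = if x ∈ K then 1 else 0 := by
    intro x
    show Cfsg.classInner (t : K → ℂ) (tw x : K → ℂ) = _
    rw [CharCore.classInner_irr]
    refine if_congr ⟨fun h => ?_, fun h => ?_⟩ rfl rfl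
    · by_contra hx
      have hcard := S0173.result (MulAut.conjNormal x : K ≃* K)
      have hsub : Nat.card {C : ConjClasses K //
          ConjClasses.map (MulAut.conjNormal x : K ≃* K).toMonoidHom C = C} ≤ 1 := by
        rw [Finite.card_le_one_iff_subsingleton]
        have key : ∀ C : {C : ConjClasses K //
            ConjClasses.map (MulAut.conjNormal x : K ≃* K).toMonoidHom C = C},
            C.1 = ConjClasses.mk 1 := fun ⟨C, hC⟩ => by
          obtain ⟨a, rfl⟩ := ConjClasses.exists_rep C
          show ConjClasses.mk a = ConjClasses.mk 1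
          obtain ⟨c, hc⟩ := isConj_iff.1 (ConjClasses.mk_eq_mk_iff_isConj.1 hC)
          have hc' : (c : G) * (x * a * x⁻¹) * (c : G)⁻¹ = a := congrArg Subtype.val hc
          have hy : (c : G) * x ∉ K := fun hy => hx (by
            simpa using K.mul_mem (K.inv_mem c.2) hy)
          obtain ⟨l, hl, h, hh, hh1, he⟩ := CharInd.exists_conj_complement hKH hKH' hfpf hy
          have hcomm : (c : G) * x * a = a * ((c : G) * x) := by
            calc (c : G) * x * a = ((c : G) * (x * a * x⁻¹) * (c : G)⁻¹) * ((c : G) * x) := by group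
              _ = a * ((c : G) * x) := by rw [hc']
          rw [he] at hcomm
          have h1 := hfpf h hh hh1 (l⁻¹ * a * l)
            (by simpa using Subgroup.Normal.conj_mem ‹_› _ a.2 l⁻¹) (by
              calc h * (l⁻¹ * a * l) = l⁻¹ * (l * h * l⁻¹ * a) * l := by group
                _ = l⁻¹ * (a * (l * h * l⁻¹)) * l := by rw [hcomm]
                _ = l⁻¹ * a * l * h := by group)
          congr 1
          apply Subtype.ext
          calc (a : G) = l * (l⁻¹ * a * l) * l⁻¹ := by group
            _ = _ := by rw [h1]; simp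
        exact ⟨fun C D => Subtype.ext ((key C).trans (key D).symm)⟩
      rw [hcard, Finite.card_le_one_iff_subsingleton] at hsub
      haveI := hsub
      have e := Subsingleton.elim
        (⟨⟨τ, hτ⟩, (congrArg Subtype.val h).symm⟩ : {χ : Cfsg.IrrCharacter K //
          (χ : K → ℂ) ∘ (MulAut.conjNormal x : K ≃* K) = (χ : K → ℂ)})
        ⟨⟨1, CharCore.isIrrCharacter_one⟩, rfl⟩
      exact hτ1 (congrArg (fun s => (s.1 : K → ℂ)) e)
    · apply Subtype.ext
      funext k
      have e : MulAut.conjNormal x k = (⟨x, h⟩ : K) * k * (⟨x, h⟩ : K)⁻¹ := Subtype.ext rfl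
      show τ k = τ (MulAut.conjNormal x k)
      rw [e, CharCore.IsCharacter.isClassFunction hτc]
  have hres : ∀ k : K, Cfsg.indFun K τ (k : G)
      = (Nat.card K : ℂ)⁻¹ * ∑ x : G, τ (MulAut.conjNormal x k) := by
    intro k
    rw [CharInd.indFun_apply]
    congr 1
    refine Fintype.sum_equiv (Equiv.inv G) _ _ fun x => ?_
    have e : ((MulAut.conjNormal x⁻¹ k : K) : G) = x⁻¹ * (k : G) * x := by simp
    rw [← e, CharInd.extendByZero_coe]
    rfl
  have hexp : Cfsg.classInner τ (fun k : K => Cfsg.indFun K τ (k : G))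
      = (Nat.card K : ℂ)⁻¹ * ∑ x : G, Cfsg.classInner τ (fun k : K => τ (MulAut.conjNormal x k)) := by
    simp only [Cfsg.classInner, hres, map_mul, map_inv₀, map_natCast, map_sum, Finset.mul_sum]
    rw [Finset.sum_comm]
    refine Finset.sum_congr rfl fun x _ => Finset.sum_congr rfl fun k _ => by ring
  rw [hexp, Finset.sum_congr rfl fun x _ => hin x, Finset.sum_boole,
    ← Fintype.card_subtype, Fintype.card_eq_nat_card]
  exact inv_mul_cancel₀ (Nat.cast_ne_zero.2 Nat.card_pos.ne')

end Cfsg.Agent.S0171
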