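import Cfsg.Statements.S0174
import Cfsg.Agent.Lib.CharClifford.Clifford

set_option autoImplicit false
open Cfsg

namespace Cfsg.Agent.S0174

/-- The Clifford Theorem for characters: if θ is an irreducible character of a finite group G, N is a normal subgroup and χ is an irreducible character of N occurring in the restriction of θ, then θ restricted to N equals e times the sum of the distinct G-conjugates of χ, where e is the inner product of the restriction with χ. -/
theorem result {G : Type*} [Group G] [Fintype G] (N : Subgroup G) [Fintype N] (hN : N.Normal) (θ : G → ℂ) (hθ : Cfsg.IsIrrCharacter G θ) (χ : N → ℂ) (hχ : Cfsg.IsIrrCharacter N χ) (hconst : Cfsg.classInner (fun n : N => θ n) χ ≠ 0) : (fun n : N => θ n) = Cfsg.classInner (fun n : N => θ n) χ • ∑ᶠ ψ ∈ {ψ : N → ℂ | ∃ g : G, ψ = fun n : N => χ ⟨g * n * g⁻¹, hN.conj_mem n n.2 g⟩}, ψ := by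
  classical
  haveI := hN
  let O : Finset (N → ℂ) := CharClifford.conjOrbit N χ
  have hset : {ψ : N → ℂ | ∃ g : G, ψ = fun n : N => χ ⟨g * n * g⁻¹, hN.conj_mem n n.2 g⟩}
      = (O : Set (N → ℂ)) := by
    ext ψ
    simp only [O, Set.mem_ofPred_eq, Finset.mem_coe, CharClifford.mem_conjOrbit]
    exact exists_congr fun g => eq_comm
  rw [hset, finsum_mem_coe_finset]
  have hθc := CharCore.IsIrrCharacter.isCharacter hθ
  have hres := CharCore.isCharacter_restrict hθc N
  have horb : ∀ η : Cfsg.IrrCharacter N, Cfsg.classInner (fun n : N => θ n) η =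
      if (η : N → ℂ) ∈ O then Cfsg.classInner (fun n : N => θ n) χ else 0 := by
    intro η
    split_ifs with hη
    · obtain ⟨x, hx⟩ := (CharClifford.mem_conjOrbit N).mp hη
      rw [← hx, CharClifford.classInner_restrict_conjFun N
        (CharCore.IsCharacter.isClassFunction hθc)]
    · by_contra hne
      obtain ⟨x, hx⟩ := CharClifford.exists_conjFun_eq_of_constituents N hθ hχ η.2 hconst hne
      exact hη ((CharClifford.mem_conjOrbit N).mpr ⟨x, hx.symm⟩)
  conv_lhs => rw [CharCore.IsCharacter.eq_sum_classInner hres]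
  simp only [horb, ite_smul, zero_smul]
  rw [← Finset.sum_filter, Finset.smul_sum]
  refine Finset.sum_bij (fun η _ => (η : N → ℂ)) (fun η hη => (Finset.mem_filter.mp hη).2)
    (fun a _ b _ h => Subtype.ext h) (fun ψ hψ => ?_) fun η _ => rfl
  obtain ⟨x, rfl⟩ := (CharClifford.mem_conjOrbit N).mp hψ
  exact ⟨⟨_, CharClifford.isIrrCharacter_conjFun N hχ x⟩,
    Finset.mem_filter.mpr ⟨Finset.mem_univ _, hψ⟩, rfl⟩

end Cfsg.Agent.S0174
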