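import Cfsg.Statements.S0175
import Cfsg.Agent.Lib.CharInd.Char
import Cfsg.Agent.Lib.CharCore.Complete
import Cfsg.Agent.Lib.CharClifford.Central
import Mathlib.GroupTheory.Solvable

set_option autoImplicit false
open Cfsg

namespace Cfsg.Agent.S0175

/-- Taketa's Theorem on M-groups: if every irreducible complex character of a finite group is induced from a linear character (a homomorphism to ℂˣ) of some subgroup, the group is solvable. -/
theorem result {G : Type*} [Group G] [Fintype G] (hM : ∀ χ : G → ℂ, Cfsg.IsIrrCharacter G χ → ∃ (H : Subgroup G) (lam : H →* ℂˣ), χ = Cfsg.indFun H (fun h => (lam h : ℂ))) : Group.IsSolvable G := by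
  classical
  have hG : (Nat.card G : ℂ) ≠ 0 := Nat.cast_ne_zero.2 Nat.card_pos.ne'
  have main : ∀ d : ℕ, ∀ χ : Cfsg.IrrCharacter G, (χ : G → ℂ) 1 = d →
      ∀ g ∈ derivedSeries G d, (χ : G → ℂ) g = (χ : G → ℂ) 1 := by
    intro d
    induction d using Nat.strong_induction_on with
    | _ d IH =>
      intro χ hd g hg
      obtain ⟨H, lam, hlam⟩ := hM χ χ.2
      haveI : Fintype H := Fintype.ofFinite _
      have hdeg : (H.index : ℂ) = d := by
        rw [← hd, hlam, CharInd.indFun_apply_one, map_one, Units.val_one, mul_one]
      have hd' : H.index = d := by exact_mod_cast hdeg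
      have hd1 : 1 ≤ d := hd' ▸ Nat.one_le_iff_ne_zero.2 Subgroup.index_ne_zero_of_finite
      rcases eq_or_lt_of_le hd1 with h1 | h1
      · have htop : H = ⊤ := Subgroup.index_eq_one.1 (hd'.trans h1.symm)
        subst htop
        rw [← h1, derivedSeries_one] at hg
        have hχ : ∀ x : G, (χ : G → ℂ) x = (lam ⟨x, Subgroup.mem_top x⟩ : ℂ) := fun x => by
          rw [hlam]
          exact CharInd.indFun_top (fun a b => by
            simp only [map_mul, map_inv]
            rw [mul_comm (lam b), mul_inv_cancel_right]) x
        let f : G →* ℂˣ := lam.comp (Subgroup.topEquiv : (⊤ : Subgroup G) ≃* G).symm.toMonoidHom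
        have hf : g ∈ f.ker := Abelianization.commutator_subset_ker f hg
        rw [hχ, hχ]
        show (f g : ℂ) = (f 1 : ℂ)
        rw [MonoidHom.mem_ker.1 hf, map_one]
      set π : G → ℂ := Cfsg.indFun H (fun _ => 1) with hπ
      have hπc : Cfsg.IsCharacter G π := CharInd.isCharacter_indFun H CharCore.isCharacter_one
      have hπd : π 1 = d := by rw [hπ, CharInd.indFun_apply_one, mul_one, hdeg]
      obtain ⟨m, hm⟩ := CharCore.IsCharacter.exists_sum hπc
      choose e he0 _ he using fun θ : Cfsg.IrrCharacter G =>
        CharClifford.exists_degree_dvd_card θ.2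
      let one : Cfsg.IrrCharacter G := ⟨1, CharCore.isIrrCharacter_one⟩
      have hm1 : m one = 1 := by
        have h := CharInd.classInner_indFun_left H (fun _ => (1 : ℂ))
          (CharCore.irr_isClassFunction one)
        rw [← hπ, hm, CharCore.classInner_sum_all (fun θ => (m θ : ℂ)) one] at h
        have h' : Cfsg.classInner (fun _ : H => (1 : ℂ)) (fun _ : H => (1 : ℂ)) = 1 := by
          simp [Cfsg.classInner, Finset.card_univ]
        exact_mod_cast h.trans h'
      have hsum : ∑ θ, m θ * e θ = d := by
        have h := congrFun hm 1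
        rw [hπd, Finset.sum_apply] at h
        simp only [Pi.smul_apply, smul_eq_mul, he] at h
        exact_mod_cast h.symm
      have he1 : e one = 1 := by
        have h : (e one : ℂ) = 1 := (he one).symm
        exact_mod_cast h
      obtain ⟨k, rfl⟩ : ∃ k, d = k + 1 := ⟨d - 1, by omega⟩
      have hker : ∀ x ∈ derivedSeries G k, x ∈ H := by
        intro x hx
        have hall : ∀ θ, m θ ≠ 0 → (θ : G → ℂ) x = (θ : G → ℂ) 1 := by
          intro θ hθ
          by_cases hθ1 : θ = one
          · subst hθ1; rfl
          · have hle : e θ + 1 ≤ k + 1 := by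
              have h := Finset.sum_le_sum_of_subset (f := fun θ => m θ * e θ)
                (Finset.subset_univ {θ, one})
              rw [Finset.sum_pair hθ1, hm1, he1, hsum] at h
              have : e θ ≤ m θ * e θ := Nat.le_mul_of_pos_left _ (Nat.pos_of_ne_zero hθ)
              omega
            exact IH (e θ) (by omega) θ (he θ) x (derivedSeries_antitone G (by omega : e θ ≤ k) hx)
        have hπx : π x = π 1 := by
          rw [hm, Finset.sum_apply, Finset.sum_apply]
          refine Finset.sum_congr rfl fun θ _ => ?_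
          simp only [Pi.smul_apply, smul_eq_mul]
          by_cases hθ : m θ = 0
          · simp [hθ]
          · rw [hall θ hθ]
        rw [hπ, CharInd.indFun_one_eq_fixedBy, CharInd.indFun_one_eq_fixedBy,
          MulAction.fixedBy_one_eq_univ, Nat.card_univ, Nat.cast_inj,
          Nat.card_coe_set_eq] at hπx
        have huniv : MulAction.fixedBy (G ⧸ H) x = Set.univ :=
          Set.eq_of_subset_of_ncard_le (Set.subset_univ _) (by rw [Set.ncard_univ, hπx])
        have h1' : x • ((1 : G) : G ⧸ H) = ((1 : G) : G ⧸ H) :=
          huniv.ge (Set.mem_univ ((1 : G) : G ⧸ H))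
        rw [MulAction.Quotient.smul_mk, smul_eq_mul, mul_one, QuotientGroup.eq, mul_one] at h1'
        simpa using h1'
      haveI := derivedSeries_normal G k
      have hle : derivedSeries G k ≤ H := hker
      have hgH : ∀ x : G, ∃ hx : x⁻¹ * g * x ∈ H, lam ⟨_, hx⟩ = 1 := by
        intro x
        haveI := derivedSeries_normal G (k + 1)
        have hm' : x⁻¹ * g * x ∈ derivedSeries G (k + 1) := by
          simpa using (derivedSeries_normal G (k + 1)).conj_mem g hg x⁻¹
        rw [derivedSeries_succ] at hm'
        obtain ⟨⟨y, hyH⟩, hy, hyx⟩ : x⁻¹ * g * x ∈ (⁅(derivedSeries G k).subgroupOf H,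
            (derivedSeries G k).subgroupOf H⁆).map H.subtype := by
          rwa [Subgroup.map_commutator, Subgroup.subgroupOf_map_subtype, inf_eq_left.2 hle]
        have hy' : (⟨y, hyH⟩ : H) ∈ lam.ker := Abelianization.commutator_subset_ker lam
          (Subgroup.commutator_mono le_top le_top hy)
        simp only [Subgroup.subtype_apply] at hyx
        subst hyx
        exact ⟨hyH, hy'⟩
      rw [hd, hlam, CharInd.indFun_apply, Finset.sum_congr rfl fun x _ => ?_, Finset.sum_const,
        Finset.card_univ, nsmul_eq_mul, Fintype.card_eq_nat_card,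
        ← Subgroup.index_mul_card H, Nat.cast_mul, hdeg, mul_one, mul_comm (((k + 1 : ℕ) : ℂ)),
        inv_mul_cancel_left₀ (CharInd.natCard_subgroup_ne_zero H)]
      obtain ⟨hx, hx1⟩ := hgH x
      rw [CharInd.extendByZero_mem _ hx]
      simp [hx1]
  refine ⟨⟨Nat.card G, ?_⟩⟩
  show derivedSeries G (Nat.card G) = ⊥
  rw [Subgroup.eq_bot_iff_forall]
  intro g hg
  have hconj : IsConj g 1 := (CharCore.isConj_iff_forall_irr g 1).2 fun χ => by
    obtain ⟨d, -, hdvd, hd⟩ := CharClifford.exists_degree_dvd_card χ.2
    exact main d χ hd g (derivedSeries_antitone G (Nat.le_of_dvd Nat.card_pos hdvd) hg)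
  exact isConj_one_left.1 hconj

end Cfsg.Agent.S0175
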