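import Cfsg.Statements.S0177
import Cfsg.Agent.Lib.CharCore.Virtual
import Cfsg.Agent.Lib.CharCore.Linear
import Cfsg.Agent.Lib.CharInd.Char
import Mathlib.GroupTheory.SpecificGroups.Cyclic
-- import your own Cfsg.Agent.* helpers here

set_option autoImplicit false
open Cfsg

namespace Cfsg.Agent.S0177

open Cfsg.Agent.CharCore

universe u

/-- The function that is `|A|` on generators of `A` and `0` elsewhere. -/
noncomputable def genFun (A : Type u) [Group A] : A → ℂ :=
  fun a => haveI := Classical.propDecidable (Subgroup.zpowers a = ⊤)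
    if Subgroup.zpowers a = ⊤ then (Nat.card A : ℂ) else 0

theorem sum_indFun_genFun (G : Type u) [Group G] [Fintype G] [DecidableEq (Subgroup G)]
    [Fintype (Subgroup G)] [DecidablePred fun A : Subgroup G => IsCyclic A] :
    ∑ A ∈ Finset.univ.filter (fun A : Subgroup G => IsCyclic A), Cfsg.indFun A (genFun A) =
      (Nat.card G : ℂ) • (1 : G → ℂ) := by
  classical
  funext g
  rw [Finset.sum_apply]
  have hone : ∀ (A : Subgroup G) (x : G),
      (Nat.card A : ℂ)⁻¹ * Cfsg.extendByZero A (genFun A) (x⁻¹ * g * x) =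
        if Subgroup.zpowers (x⁻¹ * g * x) = A then 1 else 0 := by
    intro A x
    by_cases hm : x⁻¹ * g * x ∈ A
    · have hiff : Subgroup.zpowers (⟨_, hm⟩ : A) = ⊤ ↔ Subgroup.zpowers (x⁻¹ * g * x) = A := by
        rw [← (Subgroup.map_injective A.subtype_injective).eq_iff, MonoidHom.map_zpowers,
          ← MonoidHom.range_eq_map, Subgroup.range_subtype]
        rfl
      rw [CharInd.extendByZero_mem _ hm, genFun]
      split_ifs with h1 h2 h3
      · exact inv_mul_cancel₀ (CharInd.natCard_subgroup_ne_zero A)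
      · exact absurd (hiff.mp h1) h2
      · exact absurd (hiff.mpr h3) h1
      · exact mul_zero _
    · rw [CharInd.extendByZero_notMem _ hm, mul_zero, if_neg]
      intro h
      exact hm (h ▸ Subgroup.mem_zpowers _)
  simp only [CharInd.indFun_apply, Finset.mul_sum, hone]
  rw [Finset.sum_comm]
  have hcyc : ∀ x : G, (Subgroup.zpowers (x⁻¹ * g * x)) ∈
      Finset.univ.filter (fun A : Subgroup G => IsCyclic A) := fun x =>
    Finset.mem_filter.mpr ⟨Finset.mem_univ _, inferInstance⟩
  rw [Finset.sum_congr rfl fun x _ => by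
    rw [Finset.sum_ite_eq, if_pos (hcyc x)]]
  simp

theorem isGeneralizedCharacter_genFun : ∀ (n : ℕ) (A : Type u) [Group A] [Fintype A] [IsCyclic A],
    Nat.card A = n → Cfsg.IsGeneralizedCharacter A (genFun A) := by
  intro n
  induction n using Nat.strong_induction_on with
  | _ n ih =>
    intro A _ _ _ hn
    classical
    have := Fintype.ofFinite (Subgroup A)
    have h := sum_indFun_genFun A
    have htop : (⊤ : Subgroup A) ∈ Finset.univ.filter (fun B : Subgroup A => IsCyclic B) :=
      Finset.mem_filter.mpr ⟨Finset.mem_univ _, inferInstance⟩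
    rw [← Finset.add_sum_erase _ _ htop] at h
    have hcl : Cfsg.IsClassFunction (⊤ : Subgroup A) (genFun (⊤ : Subgroup A)) := by
      intro a b
      congr 1
      have : IsMulCommutative (⊤ : Subgroup A) := IsCyclic.isMulCommutative
      rw [this.is_comm.comm b a, mul_inv_cancel_right]
    have heq : Cfsg.indFun (⊤ : Subgroup A) (genFun (⊤ : Subgroup A)) = genFun A := by
      funext a
      rw [CharInd.indFun_top hcl]
      have hiff : Subgroup.zpowers (⟨a, trivial⟩ : (⊤ : Subgroup A)) = ⊤ ↔
          Subgroup.zpowers a = ⊤ := by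
        rw [← (Subgroup.map_injective (Subgroup.subtype_injective ⊤)).eq_iff, MonoidHom.map_zpowers,
          ← MonoidHom.range_eq_map, Subgroup.range_subtype]
        rfl
      simp only [genFun, hiff, Nat.card_congr Subgroup.topEquiv.toEquiv]
    rw [heq] at h
    rw [eq_sub_of_add_eq h]
    refine isGeneralized_sub ?_ (isGeneralized_sum _ _ fun B hB => ?_)
    · exact IsCharacter.isGeneralized (isCharacter_natCast_smul isCharacter_one _)
    · obtain ⟨hne, hB'⟩ := Finset.mem_erase.mp hB
      have : IsCyclic B := (Finset.mem_filter.mp hB').2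
      refine CharInd.isGeneralizedCharacter_indFun B (ih (Nat.card B) ?_ B rfl)
      rw [← hn]
      exact lt_of_le_of_ne (Subgroup.card_le_card_group B) fun e => hne (Subgroup.eq_top_of_card_eq B e)

/-- The irreducible characters of an abelian group are homomorphisms. -/
theorem exists_hom_of_comm {A : Type u} [Group A] [Finite A] [IsMulCommutative A]
    (χ : Cfsg.IrrCharacter A) : ∃ f : A →* ℂˣ, (χ : A → ℂ) = fun a => (f a : ℂ) := by
  refine IsCharacter.exists_hom_of_degree_one (irr_isCharacter χ) ?_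
  obtain ⟨_, n, ρ, hρ, rfl⟩ := χ
  simp only [Representation.char_one,
    Representation.IsIrreducible.finrank_eq_one_of_isMulCommutative ρ, Nat.cast_one]

theorem exists_list {G : Type u} [Group G] [Fintype G] (χ : G → ℂ) (hχ : Cfsg.IsCharacter G χ) :
    ∃ l : List ((A : Subgroup G) × ((A →* ℂˣ) × ℤ)), (∀ t ∈ l, IsCyclic t.1) ∧
      (Nat.card G : ℂ) • χ =
        (l.map fun t => (t.2.2 : ℂ) • Cfsg.indFun t.1 (fun a => (t.2.1 a : ℂ))).sum := by
  classical
  have := Fintype.ofFinite (Subgroup G)
  have hdec : ∀ A : {A : Subgroup G // IsCyclic A}, ∃ (f : Cfsg.IrrCharacter A.1 → (A.1 →* ℂˣ))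
      (m : Cfsg.IrrCharacter A.1 → ℤ), (genFun A.1 * fun a : A.1 => χ a) =
        ∑ ψ, (m ψ : ℂ) • fun a => (f ψ a : ℂ) := by
    rintro ⟨A, hA⟩
    have : IsMulCommutative A := IsCyclic.isMulCommutative
    have hg := isGeneralized_mul (isGeneralizedCharacter_genFun _ A rfl)
      (IsCharacter.isGeneralized (isCharacter_restrict hχ A))
    obtain ⟨m, hm⟩ := IsGeneralizedCharacter.exists_sum hg
    choose f hf using fun ψ : Cfsg.IrrCharacter A => exists_hom_of_comm ψ
    refine ⟨f, m, hm.trans (Finset.sum_congr rfl fun ψ _ => ?_)⟩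
    rw [hf ψ]
  choose f m hfm using hdec
  let mk : (Σ A : {A : Subgroup G // IsCyclic A}, Cfsg.IrrCharacter A.1) →
      (A : Subgroup G) × ((A →* ℂˣ) × ℤ) := fun t => ⟨t.1.1, f t.1 t.2, m t.1 t.2⟩
  refine ⟨(Finset.univ : Finset (Σ A : {A : Subgroup G // IsCyclic A},
    Cfsg.IrrCharacter A.1)).toList.map mk, fun t ht => ?_, ?_⟩
  · obtain ⟨s, -, rfl⟩ := List.mem_map.mp ht
    exact s.1.2
  · rw [List.map_map, Finset.sum_map_toList, Fintype.sum_sigma]
    have hsum : (Nat.card G : ℂ) • χ =
        ∑ A : {A : Subgroup G // IsCyclic A}, Cfsg.indFun A.1 (genFun A.1 * fun a : A.1 => χ a) := by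
      rw [show (Nat.card G : ℂ) • χ = ((Nat.card G : ℂ) • (1 : G → ℂ)) * χ by
          funext x; simp, ← sum_indFun_genFun G, Finset.sum_mul, Finset.sum_subtype (p := fun A : Subgroup G => IsCyclic A)
            (Finset.univ.filter fun A : Subgroup G => IsCyclic A) (fun A => by simp)]
      refine Finset.sum_congr rfl fun A _ => ?_
      exact CharInd.indFun_mul A.1 _ (IsCharacter.isClassFunction hχ)
    rw [hsum]
    refine Finset.sum_congr rfl fun A _ => ?_
    rw [hfm A, CharInd.indFun_sum]
    exact Finset.sum_congr rfl fun ψ _ => CharInd.indFun_smul _ _ _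

/-- The Artin induction Theorem: for a character χ of a finite group, |G| • χ is a ℤ-linear combination of functions induced from homomorphisms of cyclic subgroups into ℂˣ. -/
theorem result {G : Type*} [Group G] [Fintype G] (χ : G → ℂ) (hχ : Cfsg.IsCharacter G χ) : ∃ l : List ((A : Subgroup G) × ((A →* ℂˣ) × ℤ)), (∀ t ∈ l, IsCyclic t.1) ∧ (Nat.card G : ℂ) • χ = (l.map fun t => (t.2.2 : ℂ) • Cfsg.indFun t.1 (fun a => (t.2.1 a : ℂ))).sum := by
  exact exists_list χ hχ

end Cfsg.Agent.S0177
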