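import Cfsg.Statements.S0180
import Cfsg.Agent.Lib.CharClifford.Galois
import Cfsg.Agent.Lib.CharCore.Complete
-- import your own Cfsg.Agent.* helpers here

set_option autoImplicit false
open Cfsg

namespace Cfsg.Agent.S0180

/-- Every irreducible complex character of a finite group takes only rational values if and only if g is conjugate to g ^ m for every element g and every m coprime to the group order. -/
theorem result {G : Type*} [Group G] [Finite G] : (∀ χ : Cfsg.IrrCharacter G, ∀ g : G, ∃ q : ℚ, (χ : G → ℂ) g = (q : ℂ)) ↔ ∀ m : ℕ, m.Coprime (Nat.card G) → ∀ g : G, IsConj g (g ^ m) := by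
  classical
  have := Fintype.ofFinite G
  constructor
  · intro h m hm g
    obtain ⟨σ, hσ⟩ := Cfsg.Agent.CharClifford.exists_ringHom_map_isCharacter (G := G) hm
    rw [Cfsg.Agent.CharCore.isConj_iff_forall_irr]
    intro χ
    obtain ⟨q, hq⟩ := h χ g
    rw [← hσ _ (Cfsg.Agent.CharCore.irr_isCharacter χ) g, hq, map_ratCast]
  · intro h χ g
    refine Cfsg.Agent.CharClifford.exists_rat_of_fixed
      ((Cfsg.Agent.CharClifford.isIntegral_of_isIrrCharacter χ.2 g).tower_top.isAlgebraic) fun σ => ?_
    obtain ⟨m, hm, hσ⟩ := Cfsg.Agent.CharClifford.exists_coprime_map_isCharacter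
      (Cfsg.Agent.CharCore.irr_isCharacter χ) σ
    rw [hσ]
    exact ((Cfsg.Agent.CharCore.isConj_iff_forall_irr _ _).mp (h m hm g) χ).symm

end Cfsg.Agent.S0180
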