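import Cfsg.Statements.S0181
import Cfsg.Agent.Lib.CharClifford.Central
-- import your own Cfsg.Agent.* helpers here

set_option autoImplicit false
open Cfsg

namespace Cfsg.Agent.S0181

/-- Let H be a normal subgroup of a finite group G and ρ an irreducible complex representation whose kernel does not contain H. If g commutes with no non-identity element of H, then the character of ρ vanishes at g. -/
theorem result {G : Type*} [Group G] [Finite G] {V : Type*} [AddCommGroup V] [Module ℂ V] [FiniteDimensional ℂ V] (ρ : Representation ℂ G V) [ρ.IsIrreducible] (H : Subgroup G) [H.Normal] (hker : ∃ h ∈ H, ρ h ≠ LinearMap.id) (g : G) (hg : ∀ h ∈ H, h * g = g * h → h = 1) : ρ.character g = 0 := by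
  classical
  have := Fintype.ofFinite G
  have := Fintype.ofFinite H
  -- the sum of `ρ` over `H` vanishes
  set S : V →ₗ[ℂ] V := ∑ h : H, ρ h with hS
  have hfix : ∀ h : H, ρ h * S = S := fun h => by
    rw [hS, Finset.mul_sum]
    exact Fintype.sum_equiv (Equiv.mulLeft h) _ _ fun x => by simp
  let W : Subrepresentation ρ :=
    { toSubmodule :=
        { carrier := {v | ∀ h : H, ρ h v = v}
          zero_mem' := fun h => map_zero _
          add_mem' := fun {x y} hx hy h => by rw [map_add, hx h, hy h]
          smul_mem' := fun c x hx h => by rw [map_smul, hx h] }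
      apply_mem_toSubmodule := fun x v hv h => by
        have hm : x⁻¹ * (h : G) * x ∈ H := by
          simpa using Subgroup.Normal.conj_mem ‹H.Normal› (h : G) h.2 x⁻¹
        have := congrArg (ρ x) (hv ⟨_, hm⟩)
        simp only [← Module.End.mul_apply, ← map_mul] at this ⊢
        rwa [show x * (x⁻¹ * (h : G) * x) = h * x by group] at this }
  have hS0 : S = 0 := by
    rcases IsSimpleOrder.eq_bot_or_eq_top W with hW | hW
    · refine LinearMap.ext fun v => ?_
      have hv : S v ∈ W.toSubmodule := fun h => by
        rw [← Module.End.mul_apply, hfix h]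
      rw [hW] at hv
      simpa using (Submodule.mem_bot ℂ).mp hv
    · exfalso
      obtain ⟨h, hh, hne⟩ := hker
      exact hne (LinearMap.ext fun v =>
        ((congrArg Subrepresentation.toSubmodule hW).symm ▸ Submodule.mem_top :
          v ∈ W.toSubmodule) ⟨h, hh⟩)
  -- all elements of `g H` are conjugate to `g`
  let f : H → H := fun h => ⟨g⁻¹ * h * g * (h : G)⁻¹,
    H.mul_mem (by simpa using Subgroup.Normal.conj_mem ‹H.Normal› (h : G) h.2 g⁻¹) (H.inv_mem h.2)⟩
  have hf : Function.Surjective f := by
    refine Finite.injective_iff_surjective.mp fun a b hab => ?_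
    have e : g⁻¹ * (a : G) * g * (a : G)⁻¹ = g⁻¹ * (b : G) * g * (b : G)⁻¹ := congrArg Subtype.val hab
    have e1 : g * (g⁻¹ * (a : G) * g * (a : G)⁻¹) = g * (g⁻¹ * (b : G) * g * (b : G)⁻¹) := by rw [e]
    have hc : ((b : G)⁻¹ * a) * g = g * ((b : G)⁻¹ * a) := by
      calc ((b : G)⁻¹ * a) * g = (b : G)⁻¹ * (g * (g⁻¹ * (a : G) * g * (a : G)⁻¹)) * a := by group
        _ = (b : G)⁻¹ * (g * (g⁻¹ * (b : G) * g * (b : G)⁻¹)) * a := by rw [e1]
        _ = g * ((b : G)⁻¹ * a) := by group
    have := hg _ (H.mul_mem (H.inv_mem b.2) a.2) hc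
    exact Subtype.ext (inv_mul_eq_one.mp this).symm
  have hval : ∀ h : H, ρ.character (g * h) = ρ.character g := by
    intro h
    obtain ⟨k, rfl⟩ := hf h
    rw [show g * ((f k : H) : G) = (k : G) * g * (k : G)⁻¹ by
      change g * (g⁻¹ * (k : G) * g * (k : G)⁻¹) = _; group]
    exact Representation.char_conj ρ g k
  have h1 : ∑ h : H, ρ.character (g * h) = LinearMap.trace ℂ V (ρ g * S) := by
    simp [hS, Finset.mul_sum, Representation.character, map_sum, map_mul]
  rw [hS0, mul_zero, map_zero, Finset.sum_congr rfl (fun h _ => hval h), Finset.sum_const,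
    nsmul_eq_mul] at h1
  exact (mul_eq_zero.mp h1).resolve_left (Nat.cast_ne_zero.mpr Fintype.card_ne_zero)

end Cfsg.Agent.S0181
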