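import Cfsg.Statements.S0184
import Cfsg.Agent.Lib.CharClifford.Separation
import Mathlib.GroupTheory.SpecificGroups.Cyclic
import Mathlib.GroupTheory.PGroup
import Mathlib.RingTheory.IntegralDomain
import Mathlib.RingTheory.SimpleModule.Rank
-- import your own Cfsg.Agent.* helpers here

set_option autoImplicit false
open Cfsg

namespace Cfsg.Agent.S0184

open Cfsg.Agent.CharClifford in
theorem mem_of_normal_ne_bot {G : Type*} [Group G] [Finite G] (p : ℕ) [Fact p.Prime]
    (hG : IsPGroup p G) (hc : IsCyclic (Subgroup.center G)) (K : Subgroup G) [K.Normal]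
    (hK : K ≠ ⊥) (z : G) (hz : z ∈ Subgroup.center G) (hzo : orderOf z = p) : z ∈ K := by
  classical
  -- `K` meets the centre non-trivially
  have hcard : p ∣ Nat.card K := by
    obtain ⟨n, hn⟩ := (hG.to_subgroup K).exists_card_eq
    rcases n with _ | n
    · exact absurd (Subgroup.card_eq_one.mp (by simpa using hn)) hK
    · exact hn ▸ dvd_pow_self p (Nat.succ_ne_zero n)
  let K' : Subgroup G := K
  obtain ⟨k, hkfix, hk1⟩ := (hG.of_equiv ConjAct.toConjAct).exists_fixed_point_of_prime_dvd_card_of_fixed_point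
    (α := K) hcard (a := 1) (fun g => smul_one g)
  have hkc : (k : G) ∈ Subgroup.center G := by
    rw [Subgroup.mem_center_iff]
    intro g
    have h := congrArg Subtype.val (hkfix (ConjAct.toConjAct g))
    rw [ConjAct.Subgroup.val_conj_smul, ConjAct.smul_def, ConjAct.ofConjAct_toConjAct] at h
    exact mul_inv_eq_iff_eq_mul.mp h
  -- the cyclic centre has only one subgroup of order `p`
  have hkne : (k : G) ≠ 1 := fun h => hk1 (Subtype.ext h.symm)
  obtain ⟨j, hj⟩ := (IsPGroup.iff_orderOf.mp hG) (k : G)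
  have hj0 : j ≠ 0 := by rintro rfl; exact hkne (orderOf_eq_one_iff.mp (by simpa using hj))
  set y : G := (k : G) ^ p ^ (j - 1) with hy
  have hyo : orderOf y = p := by
    rw [hy, orderOf_pow (k : G), hj, Nat.gcd_eq_right (pow_dvd_pow p (Nat.sub_le j 1)), Nat.pow_div (Nat.sub_le j 1) (Nat.Prime.pos Fact.out), Nat.sub_sub_self (Nat.one_le_iff_ne_zero.mpr hj0), pow_one]
  have hyc : y ∈ Subgroup.center G := pow_mem hkc _
  have := hc
  have hzy : (⟨z, hz⟩ : Subgroup.center G) ∈ Subgroup.zpowers (⟨y, hyc⟩ : Subgroup.center G) := by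
    have := Fintype.ofFinite (Subgroup.center G)
    set Y : Subgroup.center G := ⟨y, hyc⟩
    have hYp : Y ^ p = 1 := Subtype.ext (by rw [← hyo]; exact pow_orderOf_eq_one y)
    have hZp : (⟨z, hz⟩ : Subgroup.center G) ^ p = 1 :=
      Subtype.ext (by rw [← hzo]; exact pow_orderOf_eq_one z)
    have hsub : (Finset.univ.filter fun a => a ∈ Subgroup.zpowers Y) ⊆
        (Finset.univ.filter fun a => a ^ p = 1) := by
      intro a ha
      simp only [Finset.mem_filter, Finset.mem_univ, true_and] at ha ⊢
      obtain ⟨i, rfl⟩ := Subgroup.mem_zpowers_iff.mp ha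
      rw [← zpow_natCast, ← zpow_mul, mul_comm, zpow_mul, zpow_natCast, hYp, one_zpow]
    have heq := Finset.eq_of_subset_of_card_le hsub (by
      refine (IsCyclic.card_pow_eq_one_le (Nat.Prime.pos Fact.out)).trans (le_of_eq ?_)
      rw [← Fintype.card_subtype, ← Nat.card_eq_fintype_card]
      exact (hyo.symm.trans (Subgroup.orderOf_mk y hyc).symm).trans (Nat.card_zpowers Y).symm)
    have hm : (⟨z, hz⟩ : Subgroup.center G) ∈ Finset.univ.filter (fun a => a ^ p = 1) :=
      Finset.mem_filter.mpr ⟨Finset.mem_univ _, hZp⟩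
    rw [← heq] at hm
    exact (Finset.mem_filter.mp hm).2
  obtain ⟨i, hi⟩ := Subgroup.mem_zpowers_iff.mp hzy
  have hi' : y ^ i = z := congrArg Subtype.val hi
  exact hi' ▸ zpow_mem (pow_mem k.2 _) i

/-- A finite p-group admits a faithful irreducible complex representation if and only if its centre is cyclic. -/
theorem result {G : Type*} [Group G] [Finite G] (p : ℕ) [Fact p.Prime] (hG : IsPGroup p G) : (∃ (n : ℕ) (ρ : Representation ℂ G (Fin n → ℂ)), ρ.IsIrreducible ∧ Function.Injective ρ) ↔ IsCyclic (Subgroup.center G) := by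
  classical
  constructor
  · rintro ⟨n, ρ, hρ, hinj⟩
    have hn := Cfsg.Agent.CharClifford.finrank_pos_of_irreducible ρ
    choose c hc using fun z : Subgroup.center G =>
      Cfsg.Agent.CharClifford.exists_scalar_of_mem_center ρ z.2
    have hu : ∀ a b : ℂ, (a • (1 : Module.End ℂ (Fin n → ℂ))) = b • 1 → a = b := by
      intro a b h
      have := congrArg (LinearMap.trace ℂ (Fin n → ℂ)) h
      rw [Cfsg.Agent.CharClifford.scalar_eq_of_trace (c := a) rfl,
        Cfsg.Agent.CharClifford.scalar_eq_of_trace (c := b) rfl] at this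
      exact mul_right_cancel₀ (by exact_mod_cast hn.ne') this
    let f : Subgroup.center G →* ℂ :=
      { toFun := c
        map_one' := hu _ _ (by rw [← hc]; simp)
        map_mul' := fun a b => hu _ _ (by
          rw [← hc, Subgroup.coe_mul, map_mul, hc, hc, smul_mul_smul_comm, one_mul]) }
    refine isCyclic_of_subgroup_isDomain f ?_
    intro a b h
    have h' : c a = c b := h
    exact Subtype.ext (hinj (by rw [hc, hc, h']))
  · intro hc
    rcases subsingleton_or_nontrivial G with hs | hs
    · obtain ⟨n, ρ, hρ, -⟩ : ∃ (n : ℕ) (ρ : Representation ℂ G (Fin n → ℂ)), ρ.IsIrreducible ∧ True := by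
        refine ⟨1, 1, ?_, trivial⟩
        refine { exists_pair_ne := ⟨⊥, ⊤, fun h => ?_⟩, eq_bot_or_eq_top := fun S => ?_ }
        · exact bot_ne_top (congrArg Subrepresentation.toSubmodule h :
            (⊥ : Submodule ℂ (Fin 1 → ℂ)) = ⊤)
        · have : IsSimpleOrder (Submodule ℂ (Fin 1 → ℂ)) :=
            isSimpleModule_iff ℂ (Fin 1 → ℂ) |>.mp (isSimpleModule_iff_finrank_eq_one.mpr (by simp))
          rcases IsSimpleOrder.eq_bot_or_eq_top S.toSubmodule with h | h
          · exact Or.inl (Subrepresentation.toSubmodule_injective h)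
          · exact Or.inr (Subrepresentation.toSubmodule_injective h)
      exact ⟨n, ρ, hρ, fun a b _ => Subsingleton.elim a b⟩
    · have : Nontrivial (Subgroup.center G) := hG.center_nontrivial
      obtain ⟨k, hk⟩ := exists_prime_orderOf_dvd_card' (G := Subgroup.center G) p (by
        obtain ⟨m, hm, hcard⟩ := ((hG.to_subgroup (Subgroup.center G)).nontrivial_iff_card).mp inferInstance
        exact hcard ▸ dvd_pow_self p hm.ne')
      have hko : orderOf (k : G) = p := by rw [Subgroup.orderOf_coe]; exact hk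
      have hk1 : (k : G) ≠ 1 := fun h => (Nat.Prime.one_lt Fact.out : 1 < p).ne'
        (by rw [← hko, h, orderOf_one])
      obtain ⟨n, ρ, hρ, hne⟩ := Cfsg.Agent.CharClifford.exists_irreducible_ne_one hk1
      refine ⟨n, ρ, hρ, (injective_iff_map_eq_one ρ).mpr fun a ha => ?_⟩
      by_contra h1
      have hker : MonoidHom.ker ρ ≠ ⊥ := fun h => h1 (Subgroup.mem_bot.mp (h ▸ ha))
      exact hne (mem_of_normal_ne_bot p hG hc (MonoidHom.ker ρ) hker k k.2 hko)

end Cfsg.Agent.S0184
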