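import Cfsg.Statements.S0186
import Cfsg.Agent.Lib.CharClifford.Separation
import Cfsg.Agent.Lib.CharCore.Complete
import Mathlib.GroupTheory.PGroup
-- import your own Cfsg.Agent.* helpers here

set_option autoImplicit false
open Cfsg

namespace Cfsg.Agent.S0186

/-- Let G be a finite simple group of order n and p a prime dividing n. If G has more than n / p^2 conjugacy classes, then every Sylow p-subgroup of G is abelian. -/
theorem result {G : Type*} [Group G] [Finite G] [IsSimpleGroup G] (p : ℕ) [Fact p.Prime] (hp : p ∣ Nat.card G) (hmany : Nat.card G < p ^ 2 * Nat.card (ConjClasses G)) (P : Sylow p G) (a b : G) (ha : a ∈ P) (hb : b ∈ P) : a * b = b * a := by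
  classical
  have := Fintype.ofFinite G
  by_contra hab
  -- `p ^ 2` divides `|G|`
  have hp2 : p ^ 2 ∣ Nat.card G := by
    obtain ⟨n, hn⟩ := P.2.exists_card_eq
    refine dvd_trans ?_ P.1.card_subgroup_dvd_card
    rw [hn]
    refine pow_dvd_pow p ?_
    by_contra hlt
    apply hab
    have hcyc : IsCyclic P.1 := by
      interval_cases n
      · have : Subsingleton P.1 := (Nat.card_eq_one_iff_unique.mp (by simpa using hn)).1
        exact inferInstance
      · exact isCyclic_of_prime_card (p := p) (by simpa using hn)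
    obtain ⟨g, hg⟩ := hcyc.exists_generator
    obtain ⟨i, hi⟩ := Subgroup.mem_zpowers_iff.mp (hg ⟨a, ha⟩)
    obtain ⟨j, hj⟩ := Subgroup.mem_zpowers_iff.mp (hg ⟨b, hb⟩)
    have h := congrArg Subtype.val ((Commute.refl g).zpow_zpow i j).eq
    simpa [hi, hj] using h
  -- non-trivial irreducible characters have degree at least `p`
  have hdeg : ∀ χ : Cfsg.IrrCharacter G, (χ : G → ℂ) ≠ 1 →
      ∃ d : ℕ, p ≤ d ∧ (χ : G → ℂ) 1 = d := by
    rintro ⟨_, n, ρ, hρ, rfl⟩ hne
    refine ⟨n, ?_, by simp⟩
    by_contra hlt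
    have hker : (MonoidHom.ker ρ) = ⊥ := by
      refine ((MonoidHom.normal_ker ρ).eq_bot_or_eq_top).resolve_right fun htop => hne ?_
      have h1 : ∀ g, ρ g = 1 := fun g => (MonoidHom.mem_ker).mp (htop ▸ Subgroup.mem_top g)
      have hcomm : Module.finrank ℂ (Fin n → ℂ) = 1 := by
        have hle : Module.finrank ℂ (Fin n → ℂ) ≤ 1 := by
          obtain ⟨v, hv⟩ := Module.finrank_pos_iff_exists_ne_zero.mp
            (Cfsg.Agent.CharClifford.finrank_pos_of_irreducible ρ)
          let W : Subrepresentation ρ := ⟨Submodule.span ℂ {v}, fun g w hw => by simpa [h1 g] using hw⟩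
          rcases IsSimpleOrder.eq_bot_or_eq_top W with h | h
          · have h' : Submodule.span ℂ {v} = ⊥ := congrArg Subrepresentation.toSubmodule h
            exact absurd ((Submodule.span_singleton_eq_bot).mp h') hv
          · refine finrank_le_one v fun w => ?_
            have h' : Submodule.span ℂ {v} = ⊤ := congrArg Subrepresentation.toSubmodule h
            exact Submodule.mem_span_singleton.mp (h' ▸ Submodule.mem_top)
        exact le_antisymm hle (Cfsg.Agent.CharClifford.finrank_pos_of_irreducible ρ)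
      funext g
      simp only [Representation.character, h1 g, LinearMap.trace_one, hcomm, Pi.one_apply, Nat.cast_one]
    have hinj : Function.Injective ρ := (MonoidHom.ker_eq_bot_iff ρ).mp hker
    apply hab
    apply hinj
    rw [map_mul, map_mul]
    exact Cfsg.Agent.CharClifford.map_commute_of_finrank_lt (ρ.comp P.1.subtype) (fun q hq hqd => by
      obtain ⟨m, hm⟩ := P.2.exists_card_eq
      rw [hm] at hqd
      rw [(Nat.prime_dvd_prime_iff_eq hq Fact.out).mp (hq.dvd_of_dvd_pow hqd)]
      simpa using (Nat.lt_of_not_le hlt)) ⟨a, ha⟩ ⟨b, hb⟩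
  -- sum of squares
  set k := Nat.card (ConjClasses G)
  have hk : Fintype.card (Cfsg.IrrCharacter G) = k := by
    rw [← Nat.card_eq_fintype_card, Cfsg.Agent.CharCore.card_irr]
  choose d hd using fun χ : Cfsg.IrrCharacter G =>
    Cfsg.Agent.CharClifford.exists_degree_dvd_card χ.2
  let one : Cfsg.IrrCharacter G := ⟨1, Cfsg.Agent.CharCore.isIrrCharacter_one⟩
  have hsum : ∑ χ, d χ ^ 2 = Nat.card G := by
    have h := Cfsg.Agent.CharCore.sum_degree_sq (G := G)
    simp only [(hd _).2.2] at h
    exact_mod_cast h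
  have hd1 : d one = 1 := by
    have h : (1 : ℂ) = d one := (hd one).2.2
    exact_mod_cast h.symm
  rw [← Finset.add_sum_erase _ _ (Finset.mem_univ one), hd1, one_pow] at hsum
  have hge : ∀ χ ∈ (Finset.univ : Finset (Cfsg.IrrCharacter G)).erase one, p ^ 2 ≤ d χ ^ 2 := by
    intro χ hχ
    obtain ⟨m, hpm, hm⟩ := hdeg χ (fun h => (Finset.mem_erase.mp hχ).1 (Subtype.ext h))
    have : d χ = m := by exact_mod_cast (hd χ).2.2.symm.trans hm
    exact Nat.pow_le_pow_left (this ▸ hpm) 2
  have hlow := Finset.card_nsmul_le_sum _ _ _ hge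
  rw [Finset.card_erase_of_mem (Finset.mem_univ one), Finset.card_univ, hk, smul_eq_mul] at hlow
  obtain ⟨c, hc⟩ := hp2
  have h1 : (k - 1) * p ^ 2 < p ^ 2 * c := by omega
  have h2 : p ^ 2 * c < p ^ 2 * k := hc ▸ hmany
  have h3 : c < k := Nat.lt_of_mul_lt_mul_left h2
  rw [mul_comm] at h1
  have h4 : k - 1 < c := Nat.lt_of_mul_lt_mul_left h1
  omega

end Cfsg.Agent.S0186
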