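import Cfsg.Statements.S0187
import Cfsg.Agent.Lib.CharClifford.Separation
-- import your own Cfsg.Agent.* helpers here

set_option autoImplicit false
open Cfsg

namespace Cfsg.Agent.S0187

/-- A finite group is commutative if and only if every irreducible complex character has degree 1. -/
theorem result {G : Type*} [Group G] [Finite G] : (∀ a b : G, a * b = b * a) ↔ ∀ χ : Cfsg.IrrCharacter G, (χ : G → ℂ) 1 = 1 := by
  constructor
  · rintro h ⟨_, n, ρ, hρ, rfl⟩
    have : IsMulCommutative G := ⟨⟨h⟩⟩
    simp only [Representation.char_one,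
      Representation.IsIrreducible.finrank_eq_one_of_isMulCommutative ρ, Nat.cast_one]
  · intro h a b
    by_contra hab
    have hne : a * b * (b * a)⁻¹ ≠ 1 := fun e => hab (mul_inv_eq_one.mp e)
    obtain ⟨n, ρ, hρ, hρne⟩ := Cfsg.Agent.CharClifford.exists_irreducible_ne_one hne
    have hn := h ⟨ρ.character, n, ρ, hρ, rfl⟩
    simp only [Representation.char_one] at hn
    have hn' : Module.finrank ℂ (Fin n → ℂ) = 1 := by exact_mod_cast hn
    apply hρne
    rw [map_mul, map_mul, Cfsg.Agent.CharClifford.commute_of_finrank_eq_one ρ hn' a b, ← map_mul,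
      ← map_mul, mul_inv_cancel, map_one]

end Cfsg.Agent.S0187
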