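import Cfsg.Statements.S0189
import Cfsg.Agent.Lib.CharCore.Basic
-- import your own Cfsg.Agent.* helpers here

set_option autoImplicit false
open Cfsg

namespace Cfsg.Agent.S0189

/-- If a complex character of a finite group vanishes at every non-identity element of a Sylow p-subgroup P, then |P| divides its degree. -/
theorem result {G : Type*} [Group G] [Finite G] (p : ℕ) [Fact p.Prime] (P : Sylow p G) (χ : G → ℂ) (hχ : Cfsg.IsCharacter G χ) (hvan : ∀ g : G, g ∈ P → g ≠ 1 → χ g = 0) : ∃ k : ℕ, χ 1 = (Nat.card P : ℂ) * k := by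
  classical
  have := Fintype.ofFinite G
  have := Fintype.ofFinite (P : Subgroup G)
  obtain ⟨n, ρ, rfl⟩ := hχ
  have hres := Cfsg.Agent.CharCore.isCharacter_restrict
    (Cfsg.Agent.CharCore.isCharacter_character ρ) (P : Subgroup G)
  obtain ⟨k, hk⟩ := Cfsg.Agent.CharCore.IsCharacter.exists_classInner_eq_natCast hres
    (Cfsg.Agent.CharCore.isCharacter_one (G := (P : Subgroup G)))
  refine ⟨k, ?_⟩
  rw [Cfsg.classInner, Finset.sum_eq_single 1 (fun g _ hg => by
      rw [hvan g g.2 fun h => hg (Subtype.ext h), zero_mul])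
    (by simp)] at hk
  simp only [Pi.one_apply, map_one, mul_one, OneMemClass.coe_one] at hk
  have hne : (Nat.card (P : Subgroup G) : ℂ) ≠ 0 := Nat.cast_ne_zero.mpr Nat.card_pos.ne'
  rw [← hk, mul_inv_cancel_left₀ hne]

end Cfsg.Agent.S0189
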