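import Cfsg.Statements.S0190
import Cfsg.Agent.Lib.CharInd.Basic
import Mathlib.GroupTheory.GroupAction.Quotient
-- import your own Cfsg.Agent.* helpers here

set_option autoImplicit false
open Cfsg

namespace Cfsg.Agent.S0190

/-- For a transitive action of a finite group on X, the permutation character g ↦ (number of fixed points of g) is the function induced from the principal character of the stabilizer of any point. -/
theorem result {G : Type*} [Group G] [Fintype G] (X : Type*) [MulAction G X] [Finite X] [MulAction.IsPretransitive G X] (x : X) : (fun g : G => (Nat.card (MulAction.fixedBy X g) : ℂ)) = Cfsg.indFun (MulAction.stabilizer G x) (fun _ => 1) := by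
  funext g
  rw [Cfsg.Agent.CharInd.indFun_one_eq_fixedBy]
  have hbij : Function.Bijective (MulAction.ofQuotientStabilizer G x) :=
    ⟨MulAction.injective_ofQuotientStabilizer G x, fun y => by
      obtain ⟨a, ha⟩ := MulAction.exists_smul_eq G x y
      exact ⟨(a : G ⧸ MulAction.stabilizer G x), ha⟩⟩
  let e := Equiv.ofBijective _ hbij
  refine congrArg Nat.cast (Nat.card_congr (e.subtypeEquiv fun q => ?_)).symm
  change g • q = q ↔ g • MulAction.ofQuotientStabilizer G x q = MulAction.ofQuotientStabilizer G x q
  rw [← MulAction.ofQuotientStabilizer_smul]
  exact hbij.1.eq_iff.symm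

end Cfsg.Agent.S0190
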