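import Cfsg.Statements.S0191
import Cfsg.Agent.Lib.CharClifford.Galois
import Cfsg.Agent.Lib.CharClifford.Central
import Mathlib.Analysis.SpecialFunctions.Log.Basic
-- import your own Cfsg.Agent.* helpers here

set_option autoImplicit false
open Cfsg

namespace Cfsg.Agent.S0191

/-- An irreducible complex representation of a finite group of degree greater than 1 has a character that vanishes somewhere. -/
theorem result {G : Type*} [Group G] [Finite G] {V : Type*} [AddCommGroup V] [Module ℂ V] [FiniteDimensional ℂ V] (ρ : Representation ℂ G V) [ρ.IsIrreducible] (hdeg : 1 < Module.finrank ℂ V) : ∃ g : G, ρ.character g = 0 := by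
  classical
  have := Fintype.ofFinite G
  by_contra hne
  push Not at hne
  set d := Module.finrank ℂ V
  let a : G → ℝ := fun g => Complex.normSq (ρ.character g)
  have ha : ∀ g, (a g : ℂ) = ρ.character g * ρ.character g⁻¹ := fun g => by
    rw [Cfsg.Agent.CharClifford.character_inv, Complex.mul_conj]
  set U := (Finset.univ : Finset G).erase 1
  have hsum : ∑ g, a g = (Nat.card G : ℝ) := by
    have h := Cfsg.Agent.CharClifford.sum_character_mul_inv ρ
    simp only [← ha] at h
    exact_mod_cast h
  rw [← Finset.add_sum_erase _ _ (Finset.mem_univ (1 : G))] at hsum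
  obtain ⟨k, hk⟩ := Cfsg.Agent.CharClifford.exists_int_of_fixed (z := ∏ g ∈ U, (a g : ℂ))
    (IsIntegral.prod _ fun g _ => by
      rw [ha]
      exact (Cfsg.Agent.CharClifford.isIntegral_character ρ g).mul
        (Cfsg.Agent.CharClifford.isIntegral_character ρ g⁻¹))
    (fun σ => by
      obtain ⟨m, hm, hσ⟩ := Cfsg.Agent.CharClifford.exists_coprime_map_character ρ σ
      let e := Equiv.ofBijective _ (Cfsg.Agent.CharClifford.bijective_pow_of_coprime hm)
      rw [map_prod]
      refine Finset.prod_equiv e (fun g => ?_) fun g _ => ?_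
      · simp only [U, Finset.mem_erase, Finset.mem_univ, and_true]
        rw [← e.injective.ne_iff]
        simp [e]
      · simp [e, ha, hσ, inv_pow])
  have hpos : ∀ g, 0 < a g := fun g => Complex.normSq_pos.mpr (hne g)
  have hprod : 1 ≤ ∏ g ∈ U, a g := by
    have h' : ((∏ g ∈ U, a g : ℝ) : ℂ) = ((k : ℝ) : ℂ) := by push_cast; exact hk
    have h'' : ∏ g ∈ U, a g = (k : ℝ) := Complex.ofReal_injective h'
    have h0 : (0 : ℝ) < k := h'' ▸ Finset.prod_pos fun g _ => hpos g
    rw [h'']
    have : (0 : ℤ) < k := by exact_mod_cast h0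
    exact_mod_cast (show (1 : ℤ) ≤ k by omega)
  have hlog : (U.card : ℝ) ≤ ∑ g ∈ U, a g := by
    have h1 : 0 ≤ ∑ g ∈ U, Real.log (a g) := by
      rw [← Real.log_prod fun g _ => (hpos g).ne']
      exact Real.log_nonneg hprod
    have h2 : ∑ g ∈ U, Real.log (a g) ≤ ∑ g ∈ U, (a g - 1) :=
      Finset.sum_le_sum fun g _ => Real.log_le_sub_one_of_pos (hpos g)
    rw [Finset.sum_sub_distrib, Finset.sum_const, nsmul_eq_mul, mul_one] at h2
    linarith
  have hU : (U.card : ℝ) + 1 = Nat.card G := by
    rw [Nat.card_eq_fintype_card, ← Finset.card_univ]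
    exact_mod_cast Finset.card_erase_add_one (Finset.mem_univ (1 : G))
  have h1 : a 1 = (d : ℝ) * d := by simp [a, d, Complex.normSq_natCast]
  have hd : (2 : ℝ) ≤ d := by exact_mod_cast hdeg
  nlinarith

end Cfsg.Agent.S0191
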