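import Cfsg.Statements.S0192
import Cfsg.Agent.Lib.CharCore.Basic
import Mathlib.LinearAlgebra.FiniteDimensional.Lemmas
-- import your own Cfsg.Agent.* helpers here

set_option autoImplicit false
open Cfsg

namespace Cfsg.Agent.S0192

/-- Brauer's generation criterion. Let G be a finite simple group, H₁ and H₂ subgroups, and χ a non-principal irreducible character. If the multiplicity of the principal character in χ restricted to H₁ ⊓ H₂ is less than the sum of the corresponding multiplicities for H₁ and H₂, then H₁ and H₂ do not generate G. -/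
theorem result {G : Type*} [Group G] [Fintype G] [IsSimpleGroup G] (H₁ H₂ : Subgroup G) [Fintype H₁] [Fintype H₂] [Fintype ↥(H₁ ⊓ H₂)] (χ : G → ℂ) (hχ : Cfsg.IsIrrCharacter G χ) (hχ1 : χ ≠ fun _ => 1) (hlt : (Cfsg.classInner (fun x : ↥(H₁ ⊓ H₂) => χ x) (fun _ => 1)).re < (Cfsg.classInner (fun x : H₁ => χ x) (fun _ => 1)).re + (Cfsg.classInner (fun x : H₂ => χ x) (fun _ => 1)).re) : H₁ ⊔ H₂ ≠ ⊤ := by
  classical
  obtain ⟨n, ρ, hρ, rfl⟩ := hχ
  intro htop
  have key : ∀ (K : Subgroup G) [Fintype K],
      Cfsg.classInner (fun x : K => ρ.character x) (fun _ => 1) =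
        (Module.finrank ℂ (Representation.invariants (ρ.comp K.subtype)) : ℂ) := by
    intro K _
    have := (Cfsg.Agent.CharCore.invertibleCard (G := K)).some
    rw [← Representation.card_inv_mul_sum_char_eq_finrank]
    simp only [Cfsg.classInner, map_one, mul_one]
    rfl
  simp only [key, Complex.natCast_re] at hlt
  norm_cast at hlt
  set A := Representation.invariants (ρ.comp H₁.subtype)
  set B := Representation.invariants (ρ.comp H₂.subtype)
  set C := Representation.invariants (ρ.comp (H₁ ⊓ H₂).subtype)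
  have hAC : A ⊔ B ≤ C := sup_le (fun v hv x => hv ⟨x, x.2.1⟩) (fun v hv x => hv ⟨x, x.2.2⟩)
  have hdim := Submodule.finrank_sup_add_finrank_inf_eq A B
  have hle := Submodule.finrank_mono hAC
  obtain ⟨v, hv, hv0⟩ : ∃ v ∈ A ⊓ B, v ≠ 0 := (Submodule.ne_bot_iff _).mp fun h => by
    rw [h, finrank_bot] at hdim
    omega
  let S : Subgroup G :=
    { carrier := {g | ρ g v = v}
      one_mem' := by simp
      mul_mem' := fun {a b} ha hb => by
        simp only [Set.mem_setOf_eq, map_mul, Module.End.mul_apply] at ha hb ⊢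
        rw [hb, ha]
      inv_mem' := fun {a} ha => by
        simp only [Set.mem_setOf_eq] at ha ⊢
        conv_lhs => rw [← ha]
        simp [← Module.End.mul_apply, ← map_mul] }
  have hS : S = ⊤ := top_le_iff.mp (htop ▸ sup_le (fun x hx => hv.1 ⟨x, hx⟩) (fun x hx => hv.2 ⟨x, hx⟩))
  have hfix : ∀ g, ρ g v = v := fun g => (hS ▸ Subgroup.mem_top g : g ∈ S)
  let W : Subrepresentation ρ :=
    ⟨Submodule.span ℂ {v}, fun g w hw => by
      obtain ⟨c, rfl⟩ := Submodule.mem_span_singleton.mp hw
      rw [map_smul, hfix]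
      exact hw⟩
  rcases IsSimpleOrder.eq_bot_or_eq_top W with h | h
  · exact hv0 (Submodule.span_singleton_eq_bot.mp (congrArg Subrepresentation.toSubmodule h))
  · have h' : Submodule.span ℂ {v} = ⊤ := congrArg Subrepresentation.toSubmodule h
    apply hχ1
    funext g
    have h1 : ρ g = 1 := LinearMap.ext fun w => by
      obtain ⟨c, rfl⟩ := Submodule.mem_span_singleton.mp (h' ▸ Submodule.mem_top : w ∈ Submodule.span ℂ {v})
      rw [map_smul, hfix, Module.End.one_apply]
    have hrank : Module.finrank ℂ (Fin n → ℂ) = 1 := by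
      rw [← finrank_top, ← h', finrank_span_singleton hv0]
    simp only [Representation.character, h1, LinearMap.trace_one, hrank, Nat.cast_one]

end Cfsg.Agent.S0192
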