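import Cfsg.Statements.S0193
import Cfsg.Agent.Lib.CharClifford.Clifford
-- import your own Cfsg.Agent.* helpers here

set_option autoImplicit false
open Cfsg

namespace Cfsg.Agent.S0193

/-- Let H be a normal subgroup of a finite group G and θ an irreducible character of H. Then |H| times the inner product of the induced function of θ with itself equals the number of g in G with θ(g h g⁻¹) = θ(h) for all h in H; in particular the induced character is irreducible when only elements of H stabilise θ. -/
theorem result {G : Type*} [Group G] [Fintype G] (H : Subgroup G) [hN : H.Normal] (θ : H → ℂ) (hθ : Cfsg.IsIrrCharacter H θ) : (Nat.card H : ℂ) * Cfsg.classInner (Cfsg.indFun H θ) (Cfsg.indFun H θ) = (Nat.card {g : G // ∀ h : H, θ ⟨g * h * g⁻¹, hN.conj_mem h h.2 g⟩ = θ h} : ℂ) := by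
  classical
  have := Fintype.ofFinite H
  rw [Cfsg.Agent.CharClifford.classInner_indFun_indFun H θ θ,
    mul_inv_cancel_left₀ (Cfsg.Agent.CharInd.natCard_subgroup_ne_zero H),
    Nat.card_eq_fintype_card, Fintype.card_subtype, Finset.natCast_card_filter]
  refine Finset.sum_congr rfl fun x _ => ?_
  have key : (∀ h : H, θ ⟨x * h * x⁻¹, hN.conj_mem h h.2 x⟩ = θ h) ↔
      Cfsg.Agent.CharClifford.conjFun H x θ = θ := ⟨funext, congrFun⟩
  by_cases h : Cfsg.Agent.CharClifford.conjFun H x θ = θ
  · rw [if_pos (key.mpr h), h]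
    exact Cfsg.Agent.CharCore.classInner_irr_self ⟨θ, hθ⟩
  · rw [if_neg (mt key.mp h)]
    exact Cfsg.Agent.CharCore.classInner_irr_of_ne (χ := ⟨θ, hθ⟩)
      (ψ := ⟨_, Cfsg.Agent.CharClifford.isIrrCharacter_conjFun H hθ x⟩)
      fun e => h (congrArg Subtype.val e).symm

end Cfsg.Agent.S0193
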