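import Cfsg.Statements.S0194
import Cfsg.Agent.Lib.CharClifford.Clifford
import Cfsg.Agent.Lib.CharClifford.Eigen
import Mathlib.RingTheory.Polynomial.RationalRoot
import Mathlib.GroupTheory.GroupAction.Defs
-- import your own Cfsg.Agent.* helpers here

set_option autoImplicit false
open scoped ComplexConjugate
open Cfsg

namespace Cfsg.Agent.S0194

open Cfsg.Agent.CharCore in
/-- An odd-order group has no non-principal real irreducible character. -/
theorem eq_one_of_real {H : Type*} [Group H] [Fintype H] (hodd : Odd (Nat.card H))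
    {θ : H → ℂ} (hθ : Cfsg.IsIrrCharacter H θ) (hreal : ∀ h, conj (θ h) = θ h) : θ = fun _ => 1 := by
  classical
  by_contra hne
  let χ : Cfsg.IrrCharacter H := ⟨θ, hθ⟩
  let one : Cfsg.IrrCharacter H := ⟨1, isIrrCharacter_one⟩
  have h1 := classInner_irr_self χ
  have h0 := classInner_irr_of_ne (χ := χ) (ψ := one) fun e => hne (congrArg Subtype.val e)
  have hinv : ∀ h, θ h⁻¹ = θ h := fun h => by
    exact (IsCharacter.apply_inv (irr_isCharacter χ) h).trans (hreal h)
  have hno : ∀ h : H, h ≠ 1 → h⁻¹ ≠ h := by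
    intro h hh e
    have h2 : h ^ 2 = 1 := by rw [pow_two]; nth_rewrite 1 [← e]; exact inv_mul_cancel h
    have ho : orderOf h = 2 := orderOf_eq_prime h2 hh
    exact hodd.not_two_dvd_nat (ho ▸ orderOf_dvd_natCard h)
  -- a set meeting every pair `{h, h⁻¹}` once
  let e : H ≃ Fin (Fintype.card H) := Fintype.equivFin H
  let S : Finset H := Finset.univ.filter fun h => e h < e h⁻¹
  let T : Finset H := Finset.univ.filter fun h => e h⁻¹ < e h
  have hsplit : ∀ f : H → ℂ, (∀ h, f h⁻¹ = f h) → ∑ h, f h = f 1 + 2 * ∑ h ∈ S, f h := by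
    intro f hf
    have hST : ∑ h ∈ T, f h = ∑ h ∈ S, f h :=
      Finset.sum_nbij' (fun h => h⁻¹) (fun h => h⁻¹) (by simp [S, T]) (by simp [S, T]) (by simp)
        (by simp) (fun h _ => (hf h).symm)
    have hu : (Finset.univ : Finset H).erase 1 = S ∪ T := by
      ext h
      simp only [Finset.mem_erase, Finset.mem_univ, and_true, Finset.mem_union, Finset.mem_filter,
        true_and, S, T]
      constructor
      · exact fun hh => lt_or_gt_of_ne fun e' => hno h hh (e.injective e').symm
      · rintro h' rfl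
        simp at h'
    have hd : Disjoint S T := Finset.disjoint_left.mpr fun h hS hT =>
      lt_asymm (Finset.mem_filter.mp hS).2 (Finset.mem_filter.mp hT).2
    rw [← Finset.add_sum_erase _ _ (Finset.mem_univ 1), hu, Finset.sum_union hd, hST]
    ring
  have hcard : (Nat.card H : ℂ) ≠ 0 := Nat.cast_ne_zero.mpr Nat.card_pos.ne'
  have e0 : θ 1 + 2 * ∑ h ∈ S, θ h = 0 := by
    rw [← hsplit θ hinv]
    have := h0
    simp only [Cfsg.classInner, one, χ, Pi.one_apply, map_one, mul_one] at this
    exact (mul_eq_zero.mp this).resolve_left (inv_ne_zero hcard)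
  have e1 : θ 1 * θ 1 + 2 * ∑ h ∈ S, θ h * θ h = Nat.card H := by
    rw [← hsplit (fun h => θ h * θ h) (fun h => by simp only [hinv h])]
    have := h1
    simp only [Cfsg.classInner, χ, hreal] at this
    exact ((inv_mul_eq_one₀ hcard).mp this).symm
  have hz : IsIntegral ℤ (2 * (∑ h ∈ S, θ h) ^ 2 + ∑ h ∈ S, θ h * θ h) :=
    have hint := Cfsg.Agent.CharClifford.isIntegral_of_isIrrCharacter hθ
    ((isIntegral_algebraMap (R := ℤ) (x := (2 : ℤ))).mul
      ((IsIntegral.sum _ fun h _ => hint h).pow 2)).add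
      (IsIntegral.sum _ fun h _ => (hint h).mul (hint h))
  have heq : ((Nat.card H : ℕ) : ℂ) = ((2 : ℕ) : ℂ) *
      (2 * (∑ h ∈ S, θ h) ^ 2 + ∑ h ∈ S, θ h * θ h) := by
    rw [← e1, show θ 1 = -(2 * ∑ h ∈ S, θ h) by linear_combination e0]
    push_cast
    ring
  have hq : 2 ∣ Nat.card H := by
    set z := 2 * (∑ h ∈ S, θ h) ^ 2 + ∑ h ∈ S, θ h * θ h
    have hzq : z = (((Nat.card H : ℚ) / 2 : ℚ) : ℂ) := by
      rw [Rat.cast_div, Rat.cast_natCast, heq]
      push_cast
      ring
    rw [hzq] at hz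
    obtain ⟨k, hk⟩ := IsIntegrallyClosed.isIntegral_iff.mp
      ((isIntegral_algebraMap_iff (A := ℚ) (B := ℂ) (algebraMap ℚ ℂ).injective).mp hz)
    have : ((Nat.card H : ℤ) : ℚ) = ((2 * k : ℤ) : ℚ) := by
      simp only [algebraMap_int_eq, eq_intCast] at hk
      push_cast
      linarith
    exact Int.natCast_dvd_natCast.mp ⟨k, by exact_mod_cast this⟩
  exact hodd.not_two_dvd_nat hq

/-- Let G have odd order, H be a normal subgroup and θ a non-principal irreducible character of H. Then the function induced from θ is orthogonal to its complex conjugate. -/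
theorem result {G : Type*} [Group G] [Fintype G] (hodd : Odd (Nat.card G)) (H : Subgroup G) [H.Normal] (θ : H → ℂ) (hθ : Cfsg.IsIrrCharacter H θ) (hθ1 : θ ≠ fun _ => 1) : Cfsg.classInner (fun g => conj (Cfsg.indFun H θ g)) (Cfsg.indFun H θ) = 0 := by
  classical
  have := Fintype.ofFinite H
  have hconj : (fun g => conj (Cfsg.indFun H θ g)) = Cfsg.indFun H (fun h => conj (θ h)) := by
    funext g
    simp only [Cfsg.Agent.CharInd.indFun_apply, map_mul, map_inv₀, map_natCast, map_sum]
    congr 1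
    refine Finset.sum_congr rfl fun x _ => ?_
    by_cases hx : x⁻¹ * g * x ∈ H
    · rw [Cfsg.Agent.CharInd.extendByZero_mem _ hx, Cfsg.Agent.CharInd.extendByZero_mem _ hx]
    · rw [Cfsg.Agent.CharInd.extendByZero_notMem _ hx, Cfsg.Agent.CharInd.extendByZero_notMem _ hx,
        map_zero]
  rw [hconj, Cfsg.Agent.CharClifford.classInner_indFun_indFun, Finset.sum_eq_zero, mul_zero]
  intro x _
  refine Cfsg.Agent.CharCore.classInner_irr_of_ne
    (χ := ⟨_, Cfsg.Agent.CharCore.isIrrCharacter_star hθ⟩)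
    (ψ := ⟨_, Cfsg.Agent.CharClifford.isIrrCharacter_conjFun H hθ x⟩) fun e => ?_
  have he : (fun h => conj (θ h)) = Cfsg.Agent.CharClifford.conjFun H x θ := congrArg Subtype.val e
  have h2 : Cfsg.Agent.CharClifford.conjFun H (x * x) θ = θ := by
    rw [← Cfsg.Agent.CharClifford.conjFun_conjFun, ← he, Cfsg.Agent.CharClifford.conjFun_conj, ← he]
    simp
  have hpow : ∀ k : ℕ, Cfsg.Agent.CharClifford.conjFun H ((x * x) ^ k) θ = θ := by
    intro k
    induction k with
    | zero => simp
    | succ k ih => rw [pow_succ', ← Cfsg.Agent.CharClifford.conjFun_conjFun, h2, ih]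
  obtain ⟨m, hm⟩ := hodd
  have hx : (x * x) ^ (m + 1) = x := by
    rw [← pow_two, ← pow_mul, show 2 * (m + 1) = Nat.card G + 1 by omega, pow_succ, pow_card_eq_one',
      one_mul]
  have hreal : ∀ h, conj (θ h) = θ h := fun h => by
    have := hpow (m + 1)
    rw [hx, ← he] at this
    exact congrFun this h
  exact hθ1 (eq_one_of_real (Odd.of_dvd_nat ⟨m, hm⟩ H.card_subgroup_dvd_card) hθ hreal)

end Cfsg.Agent.S0194
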