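import Cfsg.Statements.S0196
import Mathlib.GroupTheory.GroupAction.Quotient
import Mathlib.GroupTheory.GroupAction.ConjAct
-- import your own Cfsg.Agent.* helpers here

set_option autoImplicit false
open Cfsg

namespace Cfsg.Agent.S0196

/-- Let A be a subgroup of a finite group G that equals the centralizer of each of its non-identity elements, and let N be its normalizer. Then the index of A in N divides |A| − 1 (N/A permutes the non-identity elements of A in orbits of full length). -/
theorem result {G : Type*} [Group G] [Finite G] (A : Subgroup G) (hA : ∀ x ∈ A, x ≠ 1 → Subgroup.centralizer ({x} : Set G) = A) : (A.subgroupOf (Subgroup.normalizer (A : Set G))).index ∣ Nat.card A - 1 := by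
  classical
  set N : Subgroup G := Subgroup.normalizer (A : Set G) with hN
  set A' : Subgroup N := A.subgroupOf N with hA'
  let X := {x : G // x ∈ A ∧ x ≠ 1}
  let act : MulAction N X :=
    { smul := fun n x => ⟨(n : G) * x * (n : G)⁻¹,
        ((Subgroup.mem_normalizer_iff.mp n.2) x.1).mp x.2.1,
        fun h => x.2.2 (conj_eq_one_iff.mp h)⟩
      one_smul := fun x => Subtype.ext (by
        change ((1 : N) : G) * x.1 * ((1 : N) : G)⁻¹ = x.1
        simp)
      mul_smul := fun a b x => Subtype.ext (by
        change ((a * b : N) : G) * x.1 * ((a * b : N) : G)⁻¹ =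
          (a : G) * ((b : G) * x.1 * (b : G)⁻¹) * (a : G)⁻¹
        simp [mul_assoc]) }
  have hstab : ∀ x : X, MulAction.stabilizer N x = A' := by
    intro x
    ext n
    rw [MulAction.mem_stabilizer_iff, hA', Subgroup.mem_subgroupOf]
    constructor
    · intro h
      have h' : (n : G) * x.1 * (n : G)⁻¹ = x.1 := congrArg Subtype.val h
      have hn : (n : G) ∈ Subgroup.centralizer ({x.1} : Set G) :=
        Subgroup.mem_centralizer_singleton_iff.mpr (mul_inv_eq_iff_eq_mul.mp h')
      rwa [hA x.1 x.2.1 x.2.2] at hn
    · intro h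
      rw [← hA x.1 x.2.1 x.2.2, Subgroup.mem_centralizer_singleton_iff] at h
      exact Subtype.ext (mul_inv_eq_iff_eq_mul.mpr h)
  haveI : Fintype (Quotient (MulAction.orbitRel N X)) := Fintype.ofFinite _
  have horb : Nat.card X = Nat.card (MulAction.orbitRel.Quotient N X) * A'.index := by

    rw [Nat.card_congr (MulAction.selfEquivSigmaOrbitsQuotientStabilizer N X), Nat.card_sigma]
    simp only [hstab]

    rw [Finset.sum_const, Finset.card_univ, smul_eq_mul, ← Nat.card_eq_fintype_card]
    rfl
  have hX : Nat.card X = Nat.card A - 1 := by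
    have := Fintype.ofFinite A
    have e : X ≃ {a : A // a ≠ 1} :=
      { toFun := fun x => ⟨⟨x.1, x.2.1⟩, fun h => x.2.2 (congrArg Subtype.val h)⟩
        invFun := fun a => ⟨a.1.1, a.1.2, fun h => a.2 (Subtype.ext h)⟩ }
    rw [Nat.card_congr e, Nat.card_eq_fintype_card, Nat.card_eq_fintype_card,
      Fintype.card_subtype_compl, Fintype.card_subtype_eq]
  exact ⟨_, by rw [← hX, horb, mul_comm]⟩

end Cfsg.Agent.S0196
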