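import Cfsg.Statements.S0200
import Cfsg.Agent.Lib.Involution.BaerSuzuki
import Cfsg.Agent.Lib.Involution.Dihedral

set_option autoImplicit false
open Cfsg

namespace Cfsg.Agent.S0200

/-- An involution lying in no normal 2-subgroup of a finite group inverts a nontrivial element of odd order (a consequence of the Baer–Suzuki Theorem). -/
theorem result {G : Type*} [Group G] [Finite G] (t : G) (ht : orderOf t = 2) (hO : ∀ N : Subgroup G, N.Normal → IsPGroup 2 N → t ∉ N) : ∃ h : G, h ≠ 1 ∧ Odd (orderOf h) ∧ t * h * t⁻¹ = h⁻¹ := by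
  have hx := Involution.mul_self_of_orderOf ht
  haveI : Fact (Nat.Prime 2) := ⟨Nat.prime_two⟩
  by_contra hcon
  push Not at hcon
  obtain ⟨N, hN, hNp, htN⟩ := Involution.baerSuzuki (p := 2) t (by
    intro g
    set s := g * t * g⁻¹ with hs
    have hy : s * s = 1 := by
      rw [hs]; calc g * t * g⁻¹ * (g * t * g⁻¹) = g * (t * t) * g⁻¹ := by group
        _ = 1 := by rw [hx]; group
    have h2 : IsPGroup 2 (Subgroup.zpowers (t * s)) := by
      obtain ⟨a, m, hm, hn⟩ := Nat.exists_eq_two_pow_mul_odd (orderOf_pos (t * s)).ne'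
      have hord : orderOf ((t * s) ^ (2 ^ a)) = m := by
        rw [orderOf_pow' _ (pow_ne_zero _ two_ne_zero), hn,
          Nat.gcd_eq_right (Dvd.intro m rfl), Nat.mul_div_cancel_left _ (Nat.two_pow_pos a)]
      have hinv : t * (t * s) ^ (2 ^ a) * t⁻¹ = ((t * s) ^ (2 ^ a))⁻¹ := by
        have h3 := Involution.left_mul_zpow_mul hx hy ((2 ^ a : ℕ) : ℤ)
        rw [zpow_neg, zpow_natCast] at h3
        rwa [inv_eq_of_mul_eq_one_right hx]
      have h1 : (t * s) ^ (2 ^ a) = 1 := by
        by_contra hne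
        exact hcon _ hne (hord.symm ▸ hm) hinv
      have hm1 : m = 1 := by rw [← hord, h1, orderOf_one]
      exact IsPGroup.of_card (n := a) (by rw [Nat.card_zpowers, hn, hm1, mul_one])
    intro d
    have hd := (Involution.mem_closure_pair_involutions hx hy).mp d.2
    obtain ⟨k, hk | hk⟩ := hd
    · obtain ⟨j, hj⟩ := h2 ⟨_, Subgroup.zpow_mem_zpowers (t * s) k⟩
      refine ⟨j, Subtype.ext ?_⟩
      have := congrArg Subtype.val hj
      simpa [hk] using this
    · refine ⟨1, Subtype.ext ?_⟩
      simp only [pow_one, pow_two, Subgroup.coe_mul, Subgroup.coe_one, hk]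
      exact Involution.left_mul_zpow_sq hx hy k)
  exact hO N hN hNp htN

end Cfsg.Agent.S0200
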