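import Cfsg.Statements.S0202
import Cfsg.Agent.Lib.Involution.KleinSylow

set_option autoImplicit false
open Cfsg

namespace Cfsg.Agent.S0202

/-- If a Sylow 2-subgroup of a finite group is a Klein four-group, the group has one or three conjugacy classes of involutions. -/
theorem result {G : Type*} [Group G] [Finite G] (P : Sylow 2 G) (hP : IsKleinFour (P : Subgroup G)) : Nat.card {C : ConjClasses G // ∃ t : G, orderOf t = 2 ∧ ConjClasses.mk t = C} = 1 ∨ Nat.card {C : ConjClasses G // ∃ t : G, orderOf t = 2 ∧ ConjClasses.mk t = C} = 3 := by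
  haveI : Fact (Nat.Prime 2) := ⟨Nat.prime_two⟩
  rcases Involution.klein_sylow_dichotomy P hP with h | h
  · right
    refine Involution.klein_sylow_three P hP (Involution.fusion_trivial_of_complement
      (MonoidHom.normal_ker _) (MonoidHom.ker_transferSylow_isComplement' P h) ?_)
    exact fun a ha b hb => Subgroup.mem_centralizer_iff.mp (h (Subgroup.le_normalizer hb)) a ha
  · left
    obtain ⟨t, ht⟩ : ∃ t : G, orderOf t = 2 := by
      haveI := hP
      obtain ⟨x, hx⟩ : ∃ x : (P : Subgroup G), x ≠ 1 := by
        by_contra hcon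
        push Not at hcon
        have h4 : Nat.card (P : Subgroup G) = 4 := IsKleinFour.card_four
        have h1 : Nat.card (P : Subgroup G) = 1 :=
          Nat.card_eq_one_iff_exists.mpr ⟨1, hcon⟩
        omega
      exact ⟨x, Involution.orderOf_eq_two_iff'.mpr
        ⟨Involution.klein_sq hP x.2, fun h => hx (Subtype.ext h)⟩⟩
    rw [Nat.card_eq_one_iff_exists]
    refine ⟨⟨ConjClasses.mk t, t, ht, rfl⟩, ?_⟩
    rintro ⟨_, s, hs, rfl⟩
    exact Subtype.ext (ConjClasses.mk_eq_mk_iff_isConj.mpr (h s t hs ht))

end Cfsg.Agent.S0202
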