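import Cfsg.Statements.S0203
import Cfsg.Agent.Lib.Involution.KleinSylow

set_option autoImplicit false
open Cfsg

namespace Cfsg.Agent.S0203

/-- If a Sylow 2-subgroup P of a finite group G is a Klein four-group, then G has three classes of involutions if and only if P has a normal complement in G. -/
theorem result {G : Type*} [Group G] [Finite G] (P : Sylow 2 G) (hP : IsKleinFour (P : Subgroup G)) : Nat.card {C : ConjClasses G // ∃ t : G, orderOf t = 2 ∧ ConjClasses.mk t = C} = 3 ↔ ∃ N : Subgroup G, N.Normal ∧ Subgroup.IsComplement' N (P : Subgroup G) := by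
  haveI : Fact (Nat.Prime 2) := ⟨Nat.prime_two⟩
  have hab : ∀ a ∈ (P : Subgroup G), ∀ b ∈ (P : Subgroup G), a * b = b * a := by
    intro a ha b hb
    haveI := hP
    exact congrArg Subtype.val ((IsKleinFour.isMulCommutative (G := (P : Subgroup G))).is_comm.comm
      ⟨a, ha⟩ ⟨b, hb⟩)
  constructor
  · intro h3
    rcases Involution.klein_sylow_dichotomy P hP with h | h
    · exact ⟨_, MonoidHom.normal_ker _, MonoidHom.ker_transferSylow_isComplement' P h⟩
    · exfalso
      obtain ⟨⟨C, t, ht, hC⟩⟩ : Nonempty {C : ConjClasses G // ∃ t : G, orderOf t = 2 ∧ ConjClasses.mk t = C} :=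
        (Nat.card_pos_iff.mp (by omega)).1
      have h1 : Nat.card {C : ConjClasses G // ∃ t : G, orderOf t = 2 ∧ ConjClasses.mk t = C} = 1 := by
        rw [Nat.card_eq_one_iff_exists]
        refine ⟨⟨C, t, ht, hC⟩, ?_⟩
        rintro ⟨_, s, hs, rfl⟩
        exact Subtype.ext ((ConjClasses.mk_eq_mk_iff_isConj.mpr (h s t hs ht)).trans hC)
      omega
  · rintro ⟨N, hN, hc⟩
    exact Involution.klein_sylow_three P hP (Involution.fusion_trivial_of_complement hN hc hab)

end Cfsg.Agent.S0203
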