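import Cfsg.Statements.S0211
import Cfsg.Agent.Lib.Involution.Dihedral

set_option autoImplicit false
open Cfsg

namespace Cfsg.Agent.S0211

/-- Let x, y be involutions with xy of even order n and z = (xy)^(n/2). Then xz is conjugate to x by an element of the subgroup generated by x, y if and only if 4 divides n. -/
theorem result {G : Type*} [Group G] [Finite G] (x y : G) (hx : orderOf x = 2) (hy : orderOf y = 2) (heven : Even (orderOf (x * y))) : (∃ d ∈ Subgroup.closure ({x, y} : Set G), d * x * d⁻¹ = x * (x * y) ^ (orderOf (x * y) / 2)) ↔ 4 ∣ orderOf (x * y) := by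
  have hx' := Involution.mul_self_of_orderOf hx
  have hy' := Involution.mul_self_of_orderOf hy
  have heven' := heven
  obtain ⟨m, hm⟩ := heven
  constructor
  · rintro ⟨d, hd, h⟩
    obtain ⟨k, hk⟩ := Involution.conj_left_of_mem_closure hx' hy' hd
    rw [h, mul_right_inj, ← zpow_natCast, zpow_eq_zpow_iff_modEq] at hk
    obtain ⟨c, hc⟩ := hk.dvd
    rw [hm] at hc ⊢
    rw [show (m + m) / 2 = m by omega] at hc
    push_cast at hc
    have h2 : (2 * k - (m : ℤ)) = 2 * ((m : ℤ) * c) := by rw [hc]; ring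
    omega
  · rintro ⟨c, hc⟩
    refine ⟨(x * y) ^ (-(c : ℤ)), (Involution.mem_closure_pair_involutions hx' hy').mpr
      ⟨_, Or.inl rfl⟩, ?_⟩
    rw [Involution.conj_zpow_left hx' hy', show -(2 * -(c : ℤ)) = ((2 * c : ℕ) : ℤ) by push_cast; ring,
      zpow_natCast, hc, show 4 * c / 2 = 2 * c by omega]

end Cfsg.Agent.S0211
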