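import Cfsg.Statements.S0212
import Cfsg.Agent.Lib.Involution.Counting

set_option autoImplicit false
open Cfsg

namespace Cfsg.Agent.S0212

/-- The Brauer–Fowler bound: if G is a finite simple group and t an involution of G whose centralizer has order n, then |G| ≤ (2n^2)!. -/
theorem result {G : Type*} [Group G] [Finite G] [IsSimpleGroup G] (t : G) (ht : orderOf t = 2) : Nat.card G ≤ Nat.factorial (2 * (Nat.card (Subgroup.centralizer ({t} : Set G))) ^ 2) := by
  set c := Nat.card (Subgroup.centralizer ({t} : Set G)) with hc
  by_cases hcom : ∀ x : G, orderOf x = 2 → x ∉ Subgroup.center G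
  · haveI : Nontrivial G := ⟨⟨t, 1, Involution.ne_one_of_orderOf ht⟩⟩
    obtain ⟨H, hH, hmax⟩ := Involution.exists_largest_proper (G := G)
    have hb := Involution.involution_bound (h := Nat.card H) (fun x hx => hmax _ (fun htop => hx (by
      rw [Subgroup.mem_center_iff]
      intro g
      have : g ∈ Subgroup.centralizer ({x} : Set G) := htop ▸ Subgroup.mem_top g
      exact Involution.mem_centralizer_singleton.mp this))) hcom
    set n := Nat.card {y : G // orderOf y = 2}
    have hn : Nat.card G ≤ n * c := by
      rw [← Involution.card_isConj_mul_card_centralizer t]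
      exact Nat.mul_le_mul_right _ (Involution.card_class_le_involutions ht)
    refine (Involution.card_le_factorial_index H hH).trans (Nat.factorial_le ?_)
    have hidx : Nat.card H * H.index = Nat.card G := H.card_mul_index
    have hpos : 0 < Nat.card G := Nat.card_pos
    have h2 : Nat.card G * Nat.card G ≤ Nat.card H * Nat.card G * c ^ 2 := by
      calc Nat.card G * Nat.card G ≤ (n * c) * (n * c) := Nat.mul_le_mul hn hn
        _ = n * n * c ^ 2 := by ring
        _ ≤ Nat.card H * Nat.card G * c ^ 2 := by
            refine Nat.mul_le_mul_right _ ?_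
            rw [mul_add, mul_one] at hb
            omega
    have hHpos : 0 < Nat.card H := Nat.card_pos
    have h3 : Nat.card H * Nat.card G * H.index ≤ Nat.card H * Nat.card G * c ^ 2 := by
      calc Nat.card H * Nat.card G * H.index = Nat.card G * (Nat.card H * H.index) := by ring
        _ ≤ _ := by rw [hidx]; exact h2
    have h4 := Nat.le_of_mul_le_mul_left h3 (Nat.mul_pos hHpos hpos)
    omega
  · -- a central involution generates the simple group
    push Not at hcom
    obtain ⟨x, hx, hxc⟩ := hcom
    have htop : Subgroup.center G = ⊤ :=
      (inferInstance : (Subgroup.center G).Normal).eq_bot_or_eq_top.resolve_left fun h =>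
        Involution.ne_one_of_orderOf hx (by rwa [h, Subgroup.mem_bot] at hxc)
    have hcG : c = Nat.card G := by
      rw [hc, show Subgroup.centralizer ({t} : Set G) = ⊤ from Subgroup.ext fun g => by
        simp only [Involution.mem_centralizer_singleton, Subgroup.mem_top, iff_true]
        exact (Subgroup.mem_center_iff.mp (htop ▸ Subgroup.mem_top t) g)]
      exact Subgroup.card_top
    refine le_trans ?_ (Nat.self_le_factorial _)
    rw [hcG, sq, ← mul_assoc]
    exact Nat.le_mul_of_pos_left _ (Nat.mul_pos two_pos Nat.card_pos)

end Cfsg.Agent.S0212
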