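import Cfsg.Statements.S0221
import Cfsg.Agent.Lib.Involution.IndexTwo
import Cfsg.Agent.Lib.Involution.NormalFour
import Cfsg.Agent.Lib.Involution.Counting

set_option autoImplicit false
open Cfsg

namespace Cfsg.Agent.S0221

/-- Let G be a finite group with no subgroup of index 2 whose 2-rank is at least 3 (it contains an elementary abelian subgroup of order 8). Then the centralizer of every involution of G also contains an elementary abelian subgroup of order 8. -/
theorem result {G : Type*} [Group G] [Finite G] (hno : ∀ H : Subgroup G, H.index ≠ 2) (hrank : ∃ E : Subgroup G, Nat.card E = 8 ∧ ∀ e ∈ E, e ^ 2 = 1) (x : G) (hx : orderOf x = 2) : ∃ E : Subgroup G, E ≤ Subgroup.centralizer ({x} : Set G) ∧ Nat.card E = 8 ∧ ∀ e ∈ E, e ^ 2 = 1 := by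
  haveI : Fact (Nat.Prime 2) := ⟨Nat.prime_two⟩
  have hno_index := hno
  obtain ⟨E, hE8, hEexp⟩ := hrank
  have hEp : IsPGroup 2 E := IsPGroup.of_card (n := 3) (by rw [hE8]; rfl)
  obtain ⟨T, hET⟩ := hEp.exists_le_sylow
  obtain ⟨U₀, hU₀n, hU₀4, hU₀sq⟩ := Involution.exists_normal_four T.isPGroup'
    (E := E.subgroupOf (T : Subgroup G))
    (by rw [Nat.card_congr (Subgroup.subgroupOfEquivOfLe hET).toEquiv, hE8])
    (fun e he => Subtype.ext (by simpa [sq] using hEexp _ he))
  haveI := hU₀n
  set U : Subgroup G := U₀.map (T : Subgroup G).subtype with hU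
  have hUT : U ≤ (T : Subgroup G) := Subgroup.map_subtype_le _
  have hU4 : Nat.card U = 4 := by
    rw [hU, Subgroup.card_map_of_injective (Subgroup.subtype_injective _), hU₀4]
  have hUsq : ∀ u ∈ U, u * u = 1 := by
    rintro _ ⟨u, hu, rfl⟩
    exact congrArg Subtype.val (hU₀sq u hu)
  have hUc : ∀ u ∈ U, ∀ v ∈ U, u * v = v * u := fun u hu v hv => by
    have h := hUsq _ (mul_mem hu hv)
    calc u * v = (u * v)⁻¹ := eq_inv_of_mul_eq_one_right h
      _ = v * u := by
        rw [mul_inv_rev, inv_eq_of_mul_eq_one_right (hUsq v hv), inv_eq_of_mul_eq_one_right (hUsq u hu)]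
  set M : Subgroup G := (T : Subgroup G) ⊓ Subgroup.centralizer (U : Set G) with hM
  -- `M` has index at most two in `T`
  have hidx : ∀ a b : G, a ∈ (T : Subgroup G) → b ∈ (T : Subgroup G) → a ∉ M → b ∉ M →
      a⁻¹ * b ∈ M := by
    intro a b ha hb haM hbM
    refine Subgroup.mem_inf.mpr ⟨mul_mem (inv_mem ha) hb, ?_⟩
    haveI := Fintype.ofFinite U₀
    have hact : ∀ t ∈ (T : Subgroup G), ∀ u ∈ U, t * u * t⁻¹ ∈ U := by
      rintro t ht _ ⟨u, hu, rfl⟩
      exact ⟨⟨t, ht⟩ * u * ⟨t, ht⟩⁻¹, hU₀n.conj_mem u hu _, rfl⟩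
    -- a central involution `z ∈ U`
    obtain ⟨z₀, hz₀U, hz₀c, hz₀o⟩ := Involution.exists_central_mem_normal T.isPGroup' U₀ (fun h => by
      rw [h, Subgroup.card_bot] at hU₀4; omega)
    set z : G := ((z₀ : (T : Subgroup G)) : G)
    have hzU : z ∈ U := ⟨z₀, hz₀U, rfl⟩
    have hzfix : ∀ t ∈ (T : Subgroup G), t * z * t⁻¹ = z := fun t ht => by
      rw [mul_inv_eq_iff_eq_mul]
      exact congrArg Subtype.val (Subgroup.mem_center_iff.mp hz₀c ⟨t, ht⟩)
    have hz1 : z ≠ 1 := fun h => Involution.ne_one_of_orderOf hz₀o (Subtype.ext h)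
    rw [Subgroup.mem_centralizer_iff]
    intro u hu
    have key : ∀ t ∈ (T : Subgroup G), t ∉ M → ∀ v ∈ U, v ≠ 1 → v ≠ z → t * v * t⁻¹ = z * v := by
      intro t ht htM v hv hv1 hvz
      haveI : Nontrivial U := ⟨⟨⟨v, hv⟩, 1, fun h => hv1 (congrArg Subtype.val h)⟩⟩
      haveI hK : IsKleinFour U := ⟨hU4, (Monoid.exponent_eq_prime_iff Nat.prime_two).mpr
        fun g hg => orderOf_eq_prime (Subtype.ext (by rw [sq]; exact hUsq g g.2)) hg⟩
      have four : ∀ w ∈ U, w = 1 ∨ w = z ∨ w = v ∨ w = z * v := by
        intro w hw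
        by_contra hcon
        push Not at hcon
        have := IsKleinFour.eq_mul_of_ne_all (G := U) (x := ⟨z, hzU⟩) (y := ⟨v, hv⟩) (z := ⟨w, hw⟩)
          (fun h => hz1 (congrArg Subtype.val h)) (fun h => hv1 (congrArg Subtype.val h))
          (fun h => hvz (congrArg Subtype.val h).symm) (fun h => hcon.1 (congrArg Subtype.val h))
          (fun h => hcon.2.1 (congrArg Subtype.val h)) (fun h => hcon.2.2.1 (congrArg Subtype.val h))
        exact hcon.2.2.2 (congrArg Subtype.val this)
      rcases four _ (hact t ht v hv) with h | h | h | h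
      · exact absurd (by simpa using h) hv1
      · exfalso
        refine hvz ((MulAut.conj t).injective (show MulAut.conj t v = MulAut.conj t z from ?_))
        exact h.trans (hzfix t ht).symm
      · exfalso
        apply htM
        refine ⟨ht, Subgroup.mem_centralizer_iff.mpr fun w hw => ?_⟩
        have hvt : Commute t v := mul_inv_eq_iff_eq_mul.mp h
        have hzt : Commute t z := mul_inv_eq_iff_eq_mul.mp (hzfix t ht)
        rcases four w hw with rfl | rfl | rfl | rfl
        · rw [one_mul, mul_one]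
        · exact hzt.symm.eq
        · exact hvt.symm.eq
        · exact (hzt.mul_right hvt).symm.eq
      · exact h
    by_cases hu1 : u = 1
    · simp [hu1]
    by_cases huz : u = z
    · subst huz
      exact (mul_inv_eq_iff_eq_mul.mp (hzfix _ (mul_mem (inv_mem ha) hb))).symm
    have e1 := key a ha haM u hu hu1 huz
    have e2 := key b hb hbM u hu hu1 huz
    calc u * (a⁻¹ * b) = a⁻¹ * (a * u * a⁻¹) * b := by group
      _ = a⁻¹ * (b * u * b⁻¹) * b := by rw [e1, e2]
      _ = a⁻¹ * b * u := by group
  -- some conjugate `y` of `x` lies in `M`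
  have hy : ∃ g : G, g * x * g⁻¹ ∈ M := by
    by_cases hTM : ∀ a ∈ (T : Subgroup G), a ∈ M
    · obtain ⟨Q, hQ⟩ := (IsPGroup.of_card (p := 2) (G := Subgroup.zpowers x) (n := 1)
        (by rw [Nat.card_zpowers, hx]; rfl)).exists_le_sylow
      obtain ⟨c, hc⟩ := MulAction.exists_smul_eq G Q T
      exact ⟨c, hTM _ (hc ▸ Involution.conj_mem_sylow_smul c (hQ (Subgroup.mem_zpowers x)))⟩
    · push Not at hTM
      obtain ⟨a, haT, haM⟩ := hTM
      have hrel : M.relIndex (T : Subgroup G) = 2 := by
        rw [Subgroup.relIndex, Subgroup.index_eq_two_iff]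
        refine ⟨⟨a, haT⟩, fun b => ?_⟩
        by_cases hb : (b : G) ∈ M
        · refine Or.inr ⟨hb, fun h => haM ?_⟩
          have := mul_mem (inv_mem hb) (Subgroup.mem_subgroupOf.mp h)
          simpa using this
        · refine Or.inl ⟨?_, hb⟩
          have := hidx (b : G)⁻¹ a (inv_mem b.2) haT (fun h => hb (by simpa using inv_mem h)) haM
          rw [inv_inv] at this
          exact this
      by_contra hno
      push Not at hno
      obtain ⟨H, -, hH, -⟩ := Involution.thompson_transfer T M inf_le_left hrel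
        (Involution.mul_self_of_orderOf hx) hno
      exact hno_index H hH
  obtain ⟨g, hgM⟩ := hy
  set y := g * x * g⁻¹ with hydef
  have hysq : y * y = 1 := by
    rw [hydef]
    calc g * x * g⁻¹ * (g * x * g⁻¹) = g * (x * x) * g⁻¹ := by group
      _ = 1 := by rw [Involution.mul_self_of_orderOf hx]; group
  -- the centraliser of `y` contains an elementary abelian group of order 8
  obtain ⟨F, hFc, hF8, hFexp⟩ : ∃ F : Subgroup G,
      F ≤ Subgroup.centralizer ({y} : Set G) ∧ Nat.card F = 8 ∧ ∀ f ∈ F, f * f = 1 := by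
    have sup8 : ∀ w, w ∈ M → w ∉ U → w * w = 1 →
        ∃ F : Subgroup G, U ≤ F ∧ w ∈ F ∧ F ≤ M ⊔ U ∧ Nat.card F = 8 ∧ ∀ f ∈ F, f * f = 1 := by
      intro w hwM hwU hw
      have hwc : ∀ u ∈ U, u * w = w * u := Subgroup.mem_centralizer_iff.mp hwM.2
      let F : Subgroup G :=
        { carrier := {f | ∃ u ∈ U, f = u ∨ f = u * w}
          one_mem' := ⟨1, one_mem U, Or.inl rfl⟩
          inv_mem' := by
            rintro f ⟨u, hu, hf | hf⟩ <;> rw [hf]
            · exact ⟨u⁻¹, inv_mem hu, Or.inl rfl⟩
            · refine ⟨u⁻¹, inv_mem hu, Or.inr ?_⟩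
              rw [mul_inv_rev, inv_eq_of_mul_eq_one_right hw, hwc _ (inv_mem hu)]
          mul_mem' := by
            rintro f f' ⟨u, hu, hf | hf⟩ ⟨v, hv, hf' | hf'⟩ <;> rw [hf, hf']
            · exact ⟨u * v, mul_mem hu hv, Or.inl rfl⟩
            · exact ⟨u * v, mul_mem hu hv, Or.inr (by rw [mul_assoc])⟩
            · exact ⟨u * v, mul_mem hu hv, Or.inr (by rw [mul_assoc, ← hwc v hv, mul_assoc])⟩
            · exact ⟨u * v, mul_mem hu hv, Or.inl (by
                rw [mul_assoc, ← mul_assoc w, ← hwc v hv, mul_assoc v, hw, mul_one])⟩ }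
      refine ⟨F, fun u hu => ⟨u, hu, Or.inl rfl⟩, ⟨1, one_mem U, Or.inr (one_mul w).symm⟩, ?_, ?_, ?_⟩
      · rintro f ⟨u, hu, rfl | rfl⟩
        · exact Subgroup.mem_sup_right hu
        · exact mul_mem (Subgroup.mem_sup_right hu) (Subgroup.mem_sup_left hwM)
      · have hbij : Function.Bijective (fun p : U × Fin 2 =>
            (⟨(p.1 : G) * w ^ (p.2 : ℕ), by
              rcases p with ⟨u, i⟩
              fin_cases i
              · exact ⟨u, u.2, Or.inl (by simp)⟩
              · exact ⟨u, u.2, Or.inr (by simp)⟩⟩ : F)) := by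
          constructor
          · rintro ⟨u, i⟩ ⟨v, j⟩ h
            have h' : (u : G) * w ^ (i : ℕ) = v * w ^ (j : ℕ) := congrArg Subtype.val h
            fin_cases i <;> fin_cases j <;> simp at h'
            · exact Prod.ext h' rfl
            · exact absurd (by
                rw [show w = (v : G)⁻¹ * u by rw [h']; group]
                exact mul_mem (inv_mem v.2) u.2) hwU
            · exact absurd (by
                rw [show w = (u : G)⁻¹ * v by rw [← h']; group]
                exact mul_mem (inv_mem u.2) v.2) hwU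
            · exact Prod.ext h' rfl
          · rintro ⟨f, u, hu, rfl | rfl⟩
            · exact ⟨(⟨f, hu⟩, 0), Subtype.ext (by simp)⟩
            · exact ⟨(⟨u, hu⟩, 1), Subtype.ext (by simp)⟩
        rw [← Nat.card_eq_of_bijective _ hbij, Nat.card_prod, hU4, Nat.card_fin]
      · rintro f ⟨u, hu, rfl | rfl⟩
        · exact hUsq f hu
        · rw [mul_assoc, ← mul_assoc w, ← hwc u hu, mul_assoc u, hw, mul_one, hUsq u hu]
    by_cases hyU : y ∈ U
    · -- then `M` centralises `y`, and `M` has such a subgroup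
      have hMy : M ⊔ U ≤ Subgroup.centralizer ({y} : Set G) := by
        refine sup_le (fun m hm => ?_) (fun u hu => ?_)
        · exact Involution.mem_centralizer_singleton.mpr
            (Subgroup.mem_centralizer_iff.mp hm.2 y hyU).symm
        · exact Involution.mem_centralizer_singleton.mpr (hUc u hu y hyU)
      by_cases hEM : ∀ e ∈ E, e ∈ M
      · exact ⟨E, fun e he => hMy (Subgroup.mem_sup_left (hEM e he)), hE8,
          fun e he => by simpa [sq] using hEexp e he⟩
      · push Not at hEM
        obtain ⟨a, haE, haM⟩ := hEM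
        obtain ⟨w, hwE, hwM, hwU⟩ : ∃ w ∈ E, w ∈ M ∧ w ∉ U := by
          by_contra hcon
          push Not at hcon
          have hinter : ∀ e ∈ E, e ∈ M → e ∈ U := hcon
          -- then `E` would centralise `U`
          have hUE : ∀ u ∈ U, u ∈ E := by
            haveI := Fintype.ofFinite G
            classical
            have hsub : (M ⊓ E : Subgroup G) ≤ U := fun e he => hinter e he.2 he.1
            have h2 : Nat.card E ≤ 2 * Nat.card (M ⊓ E : Subgroup G) := by
              rw [Nat.card_eq_fintype_card, ← Finset.card_univ]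
              have hsplit : (Finset.univ : Finset E) ⊆
                  (Finset.univ.filter fun e : E => (e : G) ∈ M) ∪
                    (Finset.univ.filter fun e : E => (e : G) ∈ M).image (fun e => ⟨a, haE⟩ * e) := by
                intro e _
                by_cases he : (e : G) ∈ M
                · exact Finset.mem_union_left _ (by simp [he])
                · refine Finset.mem_union_right _ (Finset.mem_image.mpr ⟨⟨a, haE⟩⁻¹ * e, ?_, by simp⟩)
                  simp only [Finset.mem_filter, Finset.mem_univ, true_and]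
                  exact hidx a e (hET haE) (hET e.2) haM he
              refine (Finset.card_le_card hsplit).trans ((Finset.card_union_le _ _).trans ?_)
              refine (Nat.add_le_add_left Finset.card_image_le _).trans (le_of_eq ?_)
              rw [← two_mul, ← Fintype.card_subtype, ← Nat.card_eq_fintype_card]
              congr 1
              exact Nat.card_congr ⟨fun e => ⟨(e.1 : G), e.2, e.1.2⟩, fun e => ⟨⟨e.1, e.2.2⟩, e.2.1⟩,
                fun e => rfl, fun e => rfl⟩
            have heq : (M ⊓ E : Subgroup G) = U :=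
              Subgroup.eq_of_le_of_card_ge hsub (by rw [hE8] at h2; omega)
            intro u hu
            rw [← heq] at hu
            exact hu.2
          apply haM
          refine ⟨hET haE, Subgroup.mem_centralizer_iff.mpr fun u hu => ?_⟩
          have h := hEexp _ (mul_mem (hUE u hu) haE)
          rw [sq] at h
          calc u * a = (u * a)⁻¹ := eq_inv_of_mul_eq_one_right h
            _ = a * u := by
              rw [mul_inv_rev, inv_eq_of_mul_eq_one_right (hUsq u hu),
                inv_eq_of_mul_eq_one_right (by simpa [sq] using hEexp a haE)]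
        obtain ⟨F, -, -, hF, hF8, hFexp⟩ := sup8 w hwM hwU (by simpa [sq] using hEexp w hwE)
        exact ⟨F, hF.trans hMy, hF8, hFexp⟩
    · obtain ⟨F, -, hyF, -, hF8, hFexp⟩ := sup8 y hgM hyU hysq
      refine ⟨F, fun f hf => Involution.mem_centralizer_singleton.mpr ?_, hF8, hFexp⟩
      have h := hFexp _ (mul_mem hf hyF)
      calc f * y = (f * y)⁻¹ := eq_inv_of_mul_eq_one_right h
        _ = y * f := by
          rw [mul_inv_rev, inv_eq_of_mul_eq_one_right hysq, inv_eq_of_mul_eq_one_right (hFexp f hf)]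
  refine ⟨F.map (MulAut.conj g⁻¹).toMonoidHom, ?_, ?_, ?_⟩
  · rintro _ ⟨f, hf, rfl⟩
    have h := Involution.mem_centralizer_singleton.mp (hFc hf)
    rw [Involution.mem_centralizer_singleton]
    show g⁻¹ * f * g⁻¹⁻¹ * x = x * (g⁻¹ * f * g⁻¹⁻¹)
    calc g⁻¹ * f * g⁻¹⁻¹ * x = g⁻¹ * (f * y) * g := by rw [hydef]; group
      _ = g⁻¹ * (y * f) * g := by rw [h]
      _ = x * (g⁻¹ * f * g⁻¹⁻¹) := by rw [hydef]; group
  · rw [Subgroup.card_map_of_injective (MulAut.conj g⁻¹).injective, hF8]
  · rintro _ ⟨f, hf, rfl⟩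
    rw [← map_pow, sq, hFexp f hf, map_one]

end Cfsg.Agent.S0221
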