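import Cfsg.Statements.S0226
import Cfsg.Agent.Lib.Involution.Counting

set_option autoImplicit false
open Cfsg

namespace Cfsg.Agent.S0226

/-- A finite group of even order has an odd number of involutions. -/
theorem result {G : Type*} [Group G] [Finite G] (heven : Even (Nat.card G)) : Odd (Nat.card {t : G // orderOf t = 2}) := by
  classical
  haveI := Fintype.ofFinite G
  have hsplit : Finset.card (Finset.univ.filter fun t : G => t * t = 1) +
      Finset.card (Finset.univ.filter fun t : G => ¬ t * t = 1) = Nat.card G := by
    rw [Finset.card_filter_add_card_filter_not, Finset.card_univ, Nat.card_eq_fintype_card]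
  have hev : Even (Finset.card (Finset.univ.filter fun t : G => ¬ t * t = 1)) := by
    rw [← ZMod.natCast_eq_zero_iff_even, Finset.card_eq_sum_ones, Nat.cast_sum, Nat.cast_one]
    refine Finset.sum_involution (fun a _ => a⁻¹) (fun a _ => by decide) ?_ ?_ (fun a _ => inv_inv a)
    · intro a ha _ h
      simp only [Finset.mem_filter] at ha
      exact ha.2 (by nth_rewrite 1 [← h]; exact inv_mul_cancel a)
    · intro a ha
      simp only [Finset.mem_filter, Finset.mem_univ, true_and] at ha ⊢
      rwa [← mul_inv_rev, inv_eq_one]
  have hins : (Finset.univ.filter fun t : G => t * t = 1) =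
      insert 1 (Finset.univ.filter fun t : G => orderOf t = 2) := by
    ext t
    by_cases h : t = 1
    · simp [h]
    · simp [h, Involution.orderOf_eq_two_iff']
  rw [hins, Finset.card_insert_of_notMem (by simp)] at hsplit
  rw [Nat.card_eq_fintype_card, Fintype.card_subtype]
  rw [Nat.even_iff] at heven hev
  rw [Nat.odd_iff]
  omega

end Cfsg.Agent.S0226
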