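import Cfsg.Statements.S0228
import Mathlib.GroupTheory.Transfer
import Mathlib.GroupTheory.SpecificGroups.Alternating
import Cfsg.Agent.Lib.Involution.Counting
import Cfsg.Agent.Lib.Involution.BaerSuzuki

set_option autoImplicit false
open Cfsg

namespace Cfsg.Agent.S0228

/-- A group of order 12 in which no involution is central is isomorphic to the alternating group on four letters. -/
theorem result {G : Type*} [Group G] [Finite G] (hG : Nat.card G = 12) (hz : ∀ z : G, orderOf z = 2 → z ∉ Subgroup.center G) : Nonempty (G ≃* alternatingGroup (Fin 4)) := by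
  classical
  haveI : Fact (Nat.Prime 3) := ⟨Nat.prime_three⟩
  haveI : Fact (Nat.Prime 2) := ⟨Nat.prime_two⟩
  obtain ⟨P⟩ : Nonempty (Sylow 3 G) := inferInstance
  have hfac : Nat.factorization 12 3 = 1 := by
    rw [show 12 = 3 ^ 1 * 4 from rfl, Nat.factorization_mul (by norm_num) (by norm_num),
      Finsupp.add_apply, Nat.factorization_pow, Finsupp.smul_apply,
      Nat.Prime.factorization_self Nat.prime_three,
      Nat.factorization_eq_zero_of_not_dvd (by norm_num)]
    rfl
  have hP3 : Nat.card (P : Subgroup G) = 3 := by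
    rw [P.card_eq_multiplicity, hG, hfac]; rfl
  have hPi : (P : Subgroup G).index = 4 := by
    have := (P : Subgroup G).card_mul_index; rw [hP3, hG] at this; omega
  have hn : Nat.card (Sylow 3 G) = 1 ∨ Nat.card (Sylow 3 G) = 4 := by
    have h1 := card_sylow_modEq_one 3 G
    have h2 := P.card_dvd_index
    rw [hPi] at h2
    unfold Nat.ModEq at h1
    have := Nat.le_of_dvd (by norm_num) h2
    interval_cases (Nat.card (Sylow 3 G)) <;> omega
  rcases hn with h1 | h4
  · -- a normal Sylow 3-subgroup is centralised by an involution, which is then central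
    exfalso
    haveI : Subsingleton (Sylow 3 G) := (Nat.card_eq_one_iff_unique.mp h1).1
    haveI hPn : (P : Subgroup G).Normal := P.normal_of_subsingleton
    obtain ⟨Q⟩ : Nonempty (Sylow 2 G) := inferInstance
    have hfac2 : Nat.factorization 12 2 = 2 := by
      rw [show 12 = 2 ^ 2 * 3 from rfl, Nat.factorization_mul (by norm_num) (by norm_num),
        Finsupp.add_apply, Nat.factorization_pow, Finsupp.smul_apply,
        Nat.Prime.factorization_self Nat.prime_two,
        Nat.factorization_eq_zero_of_not_dvd (by norm_num)]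
      rfl
    have hQ4 : Nat.card (Q : Subgroup G) = 4 := by
      rw [Q.card_eq_multiplicity, hG, hfac2]; rfl
    haveI : IsMulCommutative (Q : Subgroup G) :=
      IsPGroup.isMulCommutative_of_card_eq_prime_sq (p := 2) (by rw [hQ4]; rfl)
    -- some involution of `Q` centralises `P`
    obtain ⟨u, hu⟩ : ∃ u : (P : Subgroup G), u ≠ 1 := by
      by_contra hcon
      push Not at hcon
      have := Nat.card_eq_one_iff_exists.mpr ⟨1, hcon⟩
      omega
    have hgenP : ∀ p ∈ (P : Subgroup G), p ∈ Subgroup.zpowers (u : G) := by
      intro p hp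
      have h : Subgroup.zpowers (u : G) = (P : Subgroup G) := by
        refine Subgroup.eq_of_le_of_card_ge (Subgroup.zpowers_le.mpr u.2) ?_
        rw [Nat.card_zpowers, Subgroup.orderOf_coe, hP3]
        refine le_of_eq (orderOf_eq_prime ?_ hu).symm
        exact (congrArg (u ^ ·) hP3).symm.trans pow_card_eq_one'
      rwa [h]
    have hcls : ∀ q : G, q * (u : G) * q⁻¹ = u ∨ q * (u : G) * q⁻¹ = (u : G)⁻¹ := by
      intro q
      obtain ⟨i, hi⟩ := hgenP _ (hPn.conj_mem u u.2 q)
      have ho : (u : G) ^ (3 : ℤ) = 1 := by
        rw [show ((3 : ℤ)) = ((3 : ℕ) : ℤ) from rfl, zpow_natCast]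
        exact congrArg Subtype.val (show u ^ 3 = 1 from (congrArg (u ^ ·) hP3).symm.trans pow_card_eq_one')
      simp only at hi
      rw [← hi]
      rcases (show i % 3 = 0 ∨ i % 3 = 1 ∨ i % 3 = 2 by omega) with h | h | h
      · exfalso
        rw [show i = 3 * (i / 3) by omega, zpow_mul, ho, one_zpow] at hi
        exact hu (Subtype.ext (by simpa using hi.symm))
      · left
        rw [show i = 3 * (i / 3) + 1 by omega, zpow_add, zpow_mul, ho, one_zpow, one_mul, zpow_one]
      · right
        rw [show i = 3 * (i / 3 + 1) + (-1) by omega, zpow_add, zpow_mul, ho, one_zpow, one_mul,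
          zpow_neg_one]
    obtain ⟨t, htQ, hto, htu⟩ : ∃ t ∈ (Q : Subgroup G), orderOf t = 2 ∧ t * (u : G) * t⁻¹ = u := by
      by_contra hcon
      push Not at hcon
      haveI : Nontrivial (Q : Subgroup G) := by
        rw [← Finite.one_lt_card_iff_nontrivial, hQ4]; norm_num
      obtain ⟨q, hq⟩ := exists_prime_orderOf_dvd_card' (G := (Q : Subgroup G)) 2 (by rw [hQ4]; norm_num)
      have hq' : orderOf (q : G) = 2 := by rw [Subgroup.orderOf_coe, hq]
      have hinv : (q : G) * u * (q : G)⁻¹ = (u : G)⁻¹ :=
        (hcls q).resolve_left (hcon q q.2 hq')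
      -- any element of order four squares to an involution centralising `u`
      have hsq : ∀ r ∈ (Q : Subgroup G), r * r = 1 := by
        intro r hr
        by_contra hr2
        refine hcon (r * r) (mul_mem hr hr) ?_ ?_
        · refine Involution.orderOf_eq_two_iff'.mpr ⟨?_, hr2⟩
          have h4 : (⟨r, hr⟩ : (Q : Subgroup G)) ^ 4 = 1 := by rw [← hQ4, pow_card_eq_one']
          have := congrArg Subtype.val h4
          simpa [pow_succ, mul_assoc] using this
        · rw [show r * r * (u : G) * (r * r)⁻¹ = r * (r * (u : G) * r⁻¹) * r⁻¹ by group]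
          rcases hcls r with h | h
          · rw [h, h]
          · rw [h, ← conj_inv, h, inv_inv]
      obtain ⟨r, hr, hr1, hrq⟩ : ∃ r ∈ (Q : Subgroup G), r ≠ 1 ∧ r ≠ (q : G) := by
        by_contra hc
        push Not at hc
        haveI := Fintype.ofFinite (Q : Subgroup G)
        rw [Nat.card_eq_fintype_card] at hQ4
        have : (Finset.univ : Finset (Q : Subgroup G)) ⊆ {1, q} := by
          intro x _
          by_cases hx : (x : G) = 1
          · simp [show x = 1 from Subtype.ext hx]
          · simp [show x = q from Subtype.ext (hc x x.2 hx)]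
        have := (Finset.card_le_card this).trans Finset.card_le_two
        rw [Finset.card_univ] at this
        omega
      have hrinv := (hcls r).resolve_left (hcon r hr (Involution.orderOf_eq_two_iff'.mpr ⟨hsq r hr, hr1⟩))
      refine hcon ((q : G) * r) (mul_mem q.2 hr)
        (Involution.orderOf_eq_two_iff'.mpr ⟨hsq _ (mul_mem q.2 hr), ?_⟩) ?_
      · intro h
        rw [eq_inv_of_mul_eq_one_right h, Involution.inv_of_orderOf hq'] at hrq
        exact hrq rfl
      · rw [show (q : G) * r * u * ((q : G) * r)⁻¹ = q * (r * u * r⁻¹) * (q : G)⁻¹ by group, hrinv,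
          ← conj_inv, hinv, inv_inv]
    apply hz t hto
    show t ∈ (Subgroup.center G : Set G)
    rw [← Set.singleton_subset_iff, ← Subgroup.centralizer_eq_top_iff_subset]
    have h3 : Nat.card (P : Subgroup G) ∣ Nat.card (Subgroup.centralizer ({t} : Set G)) := by
      refine Subgroup.card_dvd_of_le ?_
      intro p hp
      rw [Involution.mem_centralizer_singleton]
      obtain ⟨i, rfl⟩ := hgenP p hp
      exact ((show Commute t (u : G) from mul_inv_eq_iff_eq_mul.mp htu).zpow_right i).symm.eq
    have h4 : Nat.card (Q : Subgroup G) ∣ Nat.card (Subgroup.centralizer ({t} : Set G)) := by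
      refine Subgroup.card_dvd_of_le ?_
      intro r hr
      rw [Involution.mem_centralizer_singleton]
      exact congrArg Subtype.val (mul_comm' (⟨r, hr⟩ : (Q : Subgroup G)) ⟨t, htQ⟩)
    rw [hP3] at h3
    rw [hQ4] at h4
    have h12 : 12 ∣ Nat.card (Subgroup.centralizer ({t} : Set G)) :=
      (show Nat.Coprime 3 4 by decide).mul_dvd_of_dvd_of_dvd h3 h4
    apply Subgroup.eq_top_of_card_eq
    exact Nat.dvd_antisymm (Subgroup.card_subgroup_dvd_card _) (hG.symm ▸ h12)
  · -- faithful action on the four Sylow 3-subgroups
    have hN : Subgroup.normalizer ((P : Subgroup G) : Set G) = (P : Subgroup G) := by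
      refine (Subgroup.eq_of_le_of_card_ge Subgroup.le_normalizer ?_).symm
      have h := (Subgroup.normalizer ((P : Subgroup G) : Set G)).card_mul_index
      rw [show (Subgroup.normalizer ((P : Subgroup G) : Set G)).index = 4 from P.card_eq_index_normalizer.symm.trans h4, hG] at h
      omega
    have hinj : Function.Injective (MulAction.toPermHom G (Sylow 3 G)) := by
      rw [← MonoidHom.ker_eq_bot_iff, eq_bot_iff]
      intro k hk
      have hfix : ∀ R : Sylow 3 G, k • R = R := fun R => Equiv.Perm.congr_fun hk R
      have hkR : ∀ R : Sylow 3 G, k ∈ Subgroup.normalizer ((R : Subgroup G) : Set G) := fun R =>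
        Sylow.smul_eq_iff_mem_normalizer.mp (hfix R)
      have hkP : k ∈ (P : Subgroup G) := hN ▸ hkR P
      by_contra hk1
      rw [Subgroup.mem_bot] at hk1
      haveI : Nontrivial (Sylow 3 G) := by rw [← Finite.one_lt_card_iff_nontrivial, h4]; norm_num
      obtain ⟨R, hR⟩ := exists_ne P
      apply hR
      obtain ⟨c, hc⟩ := MulAction.exists_smul_eq G P R
      have hNR : k ∈ (R : Subgroup G) := by
        have h := hfix R
        rw [← hc, smul_smul] at h
        have h' : (c⁻¹ * (k * c)) • P = P := by rw [mul_smul, h, inv_smul_smul]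
        have h'' : c⁻¹ * (k * c) ∈ (P : Subgroup G) :=
          hN ▸ Sylow.smul_eq_iff_mem_normalizer.mp h'
        rw [← hc]
        have := Involution.conj_mem_sylow_smul c h''
        show k ∈ c • P
        simpa [mul_assoc] using this
      have hz3 : orderOf k = 3 := by
        refine orderOf_eq_prime ?_ hk1
        have : (⟨k, hkP⟩ : (P : Subgroup G)) ^ 3 = 1 :=
          (congrArg ((⟨k, hkP⟩ : (P : Subgroup G)) ^ ·) hP3).symm.trans pow_card_eq_one'
        exact congrArg Subtype.val this
      have e1 : Subgroup.zpowers k = (P : Subgroup G) :=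
        Subgroup.eq_of_le_of_card_ge (Subgroup.zpowers_le.mpr hkP)
          (by rw [Nat.card_zpowers, hz3, hP3])
      have e2 : Subgroup.zpowers k = (R : Subgroup G) :=
        Subgroup.eq_of_le_of_card_ge (Subgroup.zpowers_le.mpr hNR)
          (by rw [Nat.card_zpowers, hz3, Nat.card_congr (R.equiv P).toEquiv, hP3])
      exact Sylow.ext (e2.symm.trans e1)
    haveI := Fintype.ofFinite (Sylow 3 G)
    let e : Sylow 3 G ≃ Fin 4 :=
      (Fintype.equivFin _).trans (finCongr (by rw [← Nat.card_eq_fintype_card, h4]))
    let f : G →* Equiv.Perm (Fin 4) := e.permCongrHom.toMonoidHom.comp (MulAction.toPermHom G _)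
    have hf : Function.Injective f := e.permCongrHom.injective.comp hinj
    have hidx : f.range.index = 2 := by
      have h := f.range.card_mul_index
      rw [← Nat.card_congr (MonoidHom.ofInjective hf).toEquiv, hG, Nat.card_perm, Nat.card_fin] at h
      simp only [Nat.factorial] at h
      omega
    exact ⟨(MonoidHom.ofInjective hf).trans
      (MulEquiv.subgroupCongr (Equiv.Perm.eq_alternatingGroup_of_index_eq_two hidx))⟩

end Cfsg.Agent.S0228
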