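import Cfsg.Statements.S0229
import Cfsg.Agent.Lib.Involution.Isolated

set_option autoImplicit false
open Cfsg

namespace Cfsg.Agent.S0229

/-- Let t be an involution of a Sylow 2-subgroup S of a finite group G, conjugate in G to no other element of S, and let s be an involution of G not conjugate to t. Then the order of st is twice an odd number. -/
theorem result {G : Type*} [Group G] [Finite G] (S : Sylow 2 G) (t : G) (ht : orderOf t = 2) (htS : t ∈ S) (hiso : ∀ g : G, g * t * g⁻¹ ∈ S → g * t * g⁻¹ = t) (s : G) (hs : orderOf s = 2) (hns : ¬ IsConj s t) : orderOf (s * t) % 4 = 2 := by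
  have hx := Involution.mul_self_of_orderOf ht
  have hy := Involution.mul_self_of_orderOf hs
  have hord : orderOf (s * t) = orderOf (t * s) := by
    rw [← orderOf_inv, mul_inv_rev, Involution.inv_of_orderOf ht, Involution.inv_of_orderOf hs]
  rw [hord]
  have heven : Even (orderOf (t * s)) :=
    Nat.not_odd_iff_even.mp fun h => hns (Involution.isConj_of_odd ht hs h).symm
  obtain ⟨m, hm⟩ := heven
  by_contra h4
  obtain ⟨c, hc⟩ : 4 ∣ orderOf (t * s) := by omega
  have hz2 := Involution.orderOf_pow_half ⟨m, hm⟩ (orderOf_pos (t * s)).ne'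
  have hcomm := Involution.commute_pow_half_left hx hy ⟨m, hm⟩
  set z := (t * s) ^ (orderOf (t * s) / 2) with hz
  have hconj : IsConj t (t * z) := by
    refine isConj_iff.mpr ⟨(t * s) ^ (-(c : ℤ)), ?_⟩
    rw [Involution.conj_zpow_left hx hy, show -(2 * -(c : ℤ)) = ((2 * c : ℕ) : ℤ) by push_cast; ring,
      zpow_natCast, hz, hc, show 4 * c / 2 = 2 * c by omega]
  have h1 := Involution.isolated_eq_of_commute hiso hx ((Commute.refl t).mul_right hcomm.symm) hconj
  exact Involution.ne_one_of_orderOf hz2 (mul_eq_left.mp h1)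

end Cfsg.Agent.S0229
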