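import Cfsg.Statements.S0230
import Cfsg.Agent.Lib.Involution.Counting

set_option autoImplicit false
open Cfsg

namespace Cfsg.Agent.S0230

/-- Let G be a finite group with two non-conjugate involutions, and let t be an involution whose centralizer has maximal order among centralizers of involutions. Then |G| < |C_G(t)|^3. -/
theorem result {G : Type*} [Group G] [Finite G] (s t : G) (hs : orderOf s = 2) (ht : orderOf t = 2) (hnc : ¬ IsConj s t) (hmax : ∀ u : G, orderOf u = 2 → Nat.card (Subgroup.centralizer ({u} : Set G)) ≤ Nat.card (Subgroup.centralizer ({t} : Set G))) : Nat.card G < Nat.card (Subgroup.centralizer ({t} : Set G)) ^ 3 := by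
  classical
  haveI := Fintype.ofFinite G
  set c := Nat.card (Subgroup.centralizer ({t} : Set G)) with hc
  -- the class of `t` is covered by the centralisers of the involutions commuting with `s`
  let I := Finset.univ.filter fun z : G => orderOf z = 2 ∧ Commute z s
  have hsub : (Finset.univ.filter fun y : G => IsConj t y) ⊆
      I.biUnion fun z => Finset.univ.filter fun y : G => y * z = z * y := by
    intro y hy
    simp only [Finset.mem_filter, Finset.mem_univ, true_and] at hy
    have hy2 : orderOf y = 2 := by
      obtain ⟨g, hg⟩ := isConj_iff.mp hy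
      rw [← hg, ← ht]
      exact orderOf_injective (MulAut.conj g).toMonoidHom (MulAut.conj g).injective t
    obtain ⟨z, hz, hzs, hzy, -⟩ :=
      Involution.exists_commuting_involution hs hy2 (fun h => hnc (h.trans hy.symm))
    simp only [Finset.mem_biUnion, Finset.mem_filter, Finset.mem_univ, true_and, I]
    exact ⟨z, ⟨hz, hzs⟩, hzy.symm.eq⟩
  have hcard : ∀ z : G, (Finset.univ.filter fun y : G => y * z = z * y).card =
      Nat.card (Subgroup.centralizer ({z} : Set G)) := by
    intro z
    rw [← Fintype.card_subtype, ← Nat.card_eq_fintype_card]
    exact Nat.card_congr (Equiv.subtypeEquivRight fun y => Involution.mem_centralizer_singleton.symm)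
  have hI : I.card + 1 ≤ c := by
    refine le_trans ?_ (hmax s hs)
    rw [← hcard, ← Finset.card_insert_of_notMem (show (1 : G) ∉ I by simp [I])]
    refine Finset.card_le_card fun y hy => ?_
    simp only [Finset.mem_insert, Finset.mem_filter, Finset.mem_univ, true_and, I] at hy ⊢
    rcases hy with rfl | hy
    · simp
    · exact hy.2.eq
  have hclass : Nat.card {y : G // IsConj t y} ≤ I.card * c := by
    rw [Nat.card_eq_fintype_card, Fintype.card_subtype]
    refine (Finset.card_le_card hsub).trans (Finset.card_biUnion_le_card_mul _ _ _ fun z hz => ?_)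
    rw [hcard]
    exact hmax z (by simpa [I] using (Finset.mem_filter.mp hz).2.1)
  rw [← Involution.card_isConj_mul_card_centralizer t, pow_succ, sq]
  have hcpos : 0 < c := Nat.card_pos
  refine Nat.mul_lt_mul_of_pos_right (lt_of_le_of_lt hclass ?_) hcpos
  exact Nat.mul_lt_mul_of_pos_right (by omega) hcpos

end Cfsg.Agent.S0230
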