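import Cfsg.Statements.S0231
import Cfsg.Agent.Lib.Involution.StronglyEmbedded
import Cfsg.Agent.Lib.Involution.KleinSylow

set_option autoImplicit false
open scoped Pointwise
open Cfsg

namespace Cfsg.Agent.S0231

/-- Let T be a Sylow 2-subgroup of the finite group G which is not normal and which intersects every other Sylow 2-subgroup trivially. Then G has a single conjugacy class of involutions. -/
theorem result {G : Type*} [Group G] [Finite G] (T : Sylow 2 G) (hnn : ¬ (T : Subgroup G).Normal) (hTI : ∀ g : G, MulAut.conj g • (T : Subgroup G) ≠ T → MulAut.conj g • (T : Subgroup G) ⊓ T = ⊥) (s t : G) (hs : orderOf s = 2) (ht : orderOf t = 2) : IsConj s t := by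
  haveI : Fact (Nat.Prime 2) := ⟨Nat.prime_two⟩
  set H := Subgroup.normalizer ((T : Subgroup G) : Set G) with hH
  have hTI' : ∀ g : G, ∀ a ∈ (T : Subgroup G), a ≠ 1 → g * a * g⁻¹ ∈ (T : Subgroup G) → g ∈ H := by
    intro g a ha ha1 hga
    by_contra hg
    have hne : MulAut.conj g • (T : Subgroup G) ≠ T := fun h =>
      hg (Sylow.smul_eq_iff_mem_normalizer.mp (Sylow.ext h : g • T = T))
    have hb := hTI g hne
    have hmem : g * a * g⁻¹ ∈ MulAut.conj g • (T : Subgroup G) ⊓ T :=
      ⟨Subgroup.smul_mem_pointwise_smul a (MulAut.conj g) _ ha, hga⟩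
    rw [hb, Subgroup.mem_bot] at hmem
    exact ha1 (by simpa using hmem)
  have hinv : ∀ v : G, orderOf v = 2 → v ∈ H → v ∈ (T : Subgroup G) := by
    intro v hv hvH
    have hp : IsPGroup 2 (Subgroup.zpowers v) :=
      IsPGroup.of_card (n := 1) (by rw [Nat.card_zpowers, hv]; rfl)
    exact T.is_maximal' (hp.to_sup_of_normal_right' T.isPGroup' (Subgroup.zpowers_le.mpr hvH))
      le_sup_right ▸ Subgroup.mem_sup_left (Subgroup.mem_zpowers _)
  obtain ⟨a, ha, hsa, hao⟩ := Involution.exists_isConj_mem_sylow T hs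
  obtain ⟨b, hb, htb, hbo⟩ := Involution.exists_isConj_mem_sylow T ht
  -- an involution `w` outside the normaliser
  obtain ⟨g, hg⟩ : ∃ g : G, g ∉ H := by
    by_contra h
    push Not at h
    exact hnn (Subgroup.normalizer_eq_top_iff.mp (eq_top_iff.mpr fun x _ => h x))
  set w := g * a * g⁻¹ with hw
  have hwo : orderOf w = 2 := (Involution.orderOf_conj g a).trans hao
  have hwH : w ∉ H := fun h => hg (hTI' g a ha (Involution.ne_one_of_orderOf hao) (hinv w hwo h))
  have key : ∀ v ∈ (T : Subgroup G), orderOf v = 2 → IsConj v w := by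
    intro v hv hvo
    by_contra hnc
    obtain ⟨z, hz, hzv, hzw, -⟩ := Involution.exists_commuting_involution hvo hwo hnc
    have hzT : z ∈ (T : Subgroup G) := hinv z hz
      (hTI' z v hv (Involution.ne_one_of_orderOf hvo) (by rw [hzv.eq, mul_inv_cancel_right]; exact hv))
    exact hwH (hTI' w z hzT (Involution.ne_one_of_orderOf hz)
      (by rw [← hzw.eq, mul_inv_cancel_right]; exact hzT))
  exact hsa.trans (((key a ha hao).trans (key b hb hbo).symm).trans htb.symm)

end Cfsg.Agent.S0231
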