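import Cfsg.Statements.S0232
import Cfsg.Agent.Lib.Involution.Counting
import Cfsg.Agent.Lib.Involution.StronglyEmbedded
import Cfsg.Agent.Lib.Involution.IndexTwo

set_option autoImplicit false
open Cfsg

namespace Cfsg.Agent.S0232

/-- A finite group G of even order greater than 2 has a proper subgroup H with |G| < |H|^3. -/
theorem result {G : Type*} [Group G] [Finite G] (heven : Even (Nat.card G)) (hgt : 2 < Nat.card G) : ∃ H : Subgroup G, H ≠ ⊤ ∧ Nat.card G < (Nat.card H) ^ 3 := by
  suffices hmain : ∀ n : ℕ, ∀ {K : Type _} [Group K] [Finite K], Nat.card K = n → Even n → 2 < n →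
      ∃ H : Subgroup K, H ≠ ⊤ ∧ n < (Nat.card H) ^ 3 from hmain _ (K := G) rfl heven hgt
  intro n
  induction n using Nat.strong_induction_on with
  | _ n ih =>
  intro K _ _ hn hev h2
  haveI : Fact (Nat.Prime 2) := ⟨Nat.prime_two⟩
  obtain ⟨t, -, ht⟩ := Involution.exists_involution_of_even (H := (⊤ : Subgroup K))
    (by rwa [Subgroup.card_top, hn])
  by_cases hZ : ∀ x : K, orderOf x = 2 → x ∉ Subgroup.center K
  · haveI : Nontrivial K := ⟨⟨t, 1, Involution.ne_one_of_orderOf ht⟩⟩
    obtain ⟨H, hH, hmax⟩ := Involution.exists_largest_proper (G := K)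
    refine ⟨H, hH, ?_⟩
    have hproper : ∀ x : K, x ∉ Subgroup.center K →
        Nat.card (Subgroup.centralizer ({x} : Set K)) ≤ Nat.card H := fun x hx => hmax _ fun htop =>
      hx (Subgroup.mem_center_iff.mpr fun g =>
        Involution.mem_centralizer_singleton.mp (htop ▸ Subgroup.mem_top g))
    have hb := Involution.involution_bound hproper hZ
    set i := Nat.card {y : K // orderOf y = 2}
    have hi : n ≤ i * Nat.card H := by
      rw [← hn, ← Involution.card_isConj_mul_card_centralizer t]
      exact Nat.mul_le_mul (Involution.card_class_le_involutions ht) (hproper t (hZ t ht))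
    rw [hn, mul_add, mul_one] at hb
    have hpos : 0 < Nat.card H := Nat.card_pos
    by_contra hcon
    rw [not_lt] at hcon
    have h1 : i * i < Nat.card H * n := by omega
    have h2' : n * n < n * n := by
      calc n * n ≤ (i * Nat.card H) * (i * Nat.card H) := Nat.mul_le_mul hi hi
        _ = i * i * (Nat.card H * Nat.card H) := by ring
        _ < Nat.card H * n * (Nat.card H * Nat.card H) :=
            Nat.mul_lt_mul_of_pos_right h1 (Nat.mul_pos hpos hpos)
        _ = n * (Nat.card H) ^ 3 := by ring
        _ ≤ n * n := Nat.mul_le_mul_left n hcon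
    exact lt_irrefl _ h2'
  · push Not at hZ
    obtain ⟨z, hz, hzc⟩ := hZ
    haveI : (Subgroup.zpowers z).Normal := ⟨fun x hx g => by
      obtain ⟨i, rfl⟩ := hx
      rw [Subgroup.mem_center_iff.mp (zpow_mem hzc i) g, mul_inv_cancel_right]
      exact ⟨i, rfl⟩⟩
    let Q := K ⧸ Subgroup.zpowers z
    have hQ : Nat.card Q * 2 = n := by
      rw [← hn, Subgroup.card_eq_card_quotient_mul_card_subgroup (Subgroup.zpowers z),
        Nat.card_zpowers, hz]
    by_cases hQe : Even (Nat.card Q) ∧ 2 < Nat.card Q
    · obtain ⟨H, hH, hlt⟩ := ih (Nat.card Q) (by omega) (K := Q) rfl hQe.1 hQe.2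
      refine ⟨H.comap (QuotientGroup.mk' _), ?_, ?_⟩
      · exact fun h => hH (Subgroup.comap_injective (QuotientGroup.mk'_surjective _)
          (h.trans (Subgroup.comap_top _).symm))
      · have hcard : Nat.card (H.comap (QuotientGroup.mk' (Subgroup.zpowers z))) = 2 * Nat.card H := by
          have h1 := (H.comap (QuotientGroup.mk' (Subgroup.zpowers z))).card_mul_index
          rw [Subgroup.index_comap_of_surjective _ (QuotientGroup.mk'_surjective _), hn, ← hQ,
            ← H.card_mul_index] at h1
          refine Nat.eq_of_mul_eq_mul_right (m := H.index) (Nat.pos_of_ne_zero H.index_ne_zero_of_finite) ?_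
          rw [h1]; ring
        rw [hcard, mul_pow]
        omega
    · by_cases hQ2 : Nat.card Q = 2
      · refine ⟨Subgroup.zpowers z, ?_, ?_⟩
        · intro h
          have := congrArg (fun S : Subgroup K => Nat.card S) h
          simp only [Nat.card_zpowers, hz, Subgroup.card_top, hn] at this
          omega
        · rw [Nat.card_zpowers, hz]; omega
      · -- the Sylow 2-subgroup has order two, so there is a normal complement
        have hQodd : Odd (Nat.card Q) := by
          rcases Nat.even_or_odd (Nat.card Q) with he | ho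
          · exact absurd ⟨he, by obtain ⟨r, hr⟩ := he; omega⟩ hQe
          · exact ho
        obtain ⟨S⟩ : Nonempty (Sylow 2 K) := inferInstance
        obtain ⟨k, hk⟩ := IsPGroup.iff_card.mp S.isPGroup'
        have hk1 : k ≤ 1 := by
          by_contra hk2
          obtain ⟨d, hd⟩ : 4 ∣ n := by
            rw [← hn]
            exact (show 4 ∣ 2 ^ k from pow_dvd_pow 2 (m := 2) (by omega)).trans
              (hk ▸ (S : Subgroup K).card_subgroup_dvd_card)
          obtain ⟨r, hr⟩ := hQodd
          omega
        have hcyc : IsCyclic (S : Subgroup K) := by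
          have hkn : k ≠ 0 := by
            rintro rfl
            have := S.dvd_card_of_dvd_card (hn ▸ even_iff_two_dvd.mp hev)
            rw [hk] at this
            norm_num at this
          exact isCyclic_of_prime_card (p := 2) (by rw [hk, show k = 1 by omega]; rfl)
        have hev' : Even (Nat.card K) := hn.symm ▸ hev
        obtain ⟨H, hH⟩ := Involution.exists_index_two_of_cyclic_sylow hev' S hcyc
        refine ⟨H, fun h => by rw [h, Subgroup.index_top] at hH; omega, ?_⟩
        have h1 := H.card_mul_index
        rw [hH, hn] at h1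
        obtain ⟨r, hr⟩ := hQodd
        have h3 : 2 ≤ Nat.card H := by omega
        calc n = 2 * Nat.card H := by omega
          _ < Nat.card H ^ 3 := by
            rw [pow_succ]
            refine Nat.mul_lt_mul_of_pos_right ?_ (by omega)
            calc 2 < 2 * 2 := by norm_num
              _ ≤ Nat.card H ^ 2 := by rw [sq]; exact Nat.mul_le_mul h3 h3

end Cfsg.Agent.S0232
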