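import Cfsg.Statements.S0233
import Cfsg.Agent.Lib.Involution.Counting
import Cfsg.Agent.Lib.Involution.StronglyEmbedded

set_option autoImplicit false
open Cfsg

namespace Cfsg.Agent.S0233

/-- Let G be a finite group of even order with exactly n involutions whose centre has odd order, and put a = |G|/n. Then G has a proper subgroup H with |G : H| = 2 or |G : H| < a(a+1)/2; over ℕ the latter reads 2·|G:H|·n² < |G|·(|G| + n). -/
theorem result {G : Type*} [Group G] [Finite G] (heven : Even (Nat.card G)) (hZ : Odd (Nat.card (Subgroup.center G))) : ∃ H : Subgroup G, H ≠ ⊤ ∧ (H.index = 2 ∨ 2 * H.index * (Nat.card {t : G // orderOf t = 2}) ^ 2 < Nat.card G * (Nat.card G + Nat.card {t : G // orderOf t = 2})) := by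
  haveI : Fact (Nat.Prime 2) := ⟨Nat.prime_two⟩
  by_cases hidx : ∃ H : Subgroup G, H.index = 2
  · obtain ⟨H, hH⟩ := hidx
    exact ⟨H, fun h => by rw [h, Subgroup.index_top] at hH; omega, Or.inl hH⟩
  push Not at hidx
  obtain ⟨t, -, ht⟩ := Involution.exists_involution_of_even (H := (⊤ : Subgroup G))
    (by rwa [Subgroup.card_top])
  haveI : Nontrivial G := ⟨⟨t, 1, Involution.ne_one_of_orderOf ht⟩⟩
  obtain ⟨H, hH, hmax⟩ := Involution.exists_largest_proper (G := G)
  refine ⟨H, hH, Or.inr ?_⟩
  have hb := Involution.involution_bound_refined hmax hidx (fun x hx hxc => by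
    have : Odd 2 := hx ▸ hZ.of_dvd_nat (Subgroup.orderOf_dvd_natCard _ hxc)
    exact absurd this (by decide))
  set n := Nat.card {y : G // orderOf y = 2}
  have hn : 0 < n := Nat.card_pos_iff.mpr ⟨⟨⟨t, ht⟩⟩, inferInstance⟩
  have hpos : 0 < Nat.card H := Nat.card_pos
  have hi := H.card_mul_index
  have h1 : 2 * (n * n) < Nat.card H * (n + Nat.card G) := by
    rw [mul_add n, mul_one] at hb; omega
  have h2 : 2 * H.index * n ^ 2 * Nat.card H < Nat.card G * (Nat.card G + n) * Nat.card H := by
    calc 2 * H.index * n ^ 2 * Nat.card H = Nat.card G * (2 * (n * n)) := by rw [← hi]; ring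
      _ < Nat.card G * (Nat.card H * (n + Nat.card G)) :=
          Nat.mul_lt_mul_of_pos_left h1 Nat.card_pos
      _ = Nat.card G * (Nat.card G + n) * Nat.card H := by ring
  exact Nat.lt_of_mul_lt_mul_right h2

end Cfsg.Agent.S0233
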