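import Cfsg.Statements.S0234
import Cfsg.Agent.Lib.Involution.Counting
import Cfsg.Agent.Lib.Involution.StronglyEmbedded
import Cfsg.Agent.Lib.Involution.IndexTwo
import Cfsg.Agent.S0228
import Mathlib.GroupTheory.SpecificGroups.Alternating

set_option autoImplicit false
open Cfsg

namespace Cfsg.Agent.S0234

/-- In a finite simple group G of even order greater than 2, the number n of involutions satisfies 3n < |G|. -/
theorem result {G : Type*} [Group G] [Finite G] [IsSimpleGroup G] (heven : Even (Nat.card G)) (hgt : 2 < Nat.card G) : 3 * Nat.card {t : G // orderOf t = 2} < Nat.card G := by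
  classical
  haveI : Fact (Nat.Prime 2) := ⟨Nat.prime_two⟩
  by_contra hcon
  rw [not_lt] at hcon
  have hidx : ∀ K : Subgroup G, K.index ≠ 2 := by
    intro K hK
    haveI := Subgroup.normal_of_index_eq_two hK
    rcases (inferInstance : K.Normal).eq_bot_or_eq_top with rfl | rfl
    · rw [Subgroup.index_bot] at hK; omega
    · rw [Subgroup.index_top] at hK; omega
  have hZ : Subgroup.center G = ⊥ := by
    rcases (inferInstance : (Subgroup.center G).Normal).eq_bot_or_eq_top with h | h
    · exact h
    exfalso
    have hcom : ∀ a b : G, a * b = b * a := fun a b =>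
      (Subgroup.mem_center_iff.mp (h ▸ Subgroup.mem_top a : a ∈ Subgroup.center G) b).symm
    obtain ⟨t, -, ht⟩ := Involution.exists_involution_of_even (H := (⊤ : Subgroup G))
      (by rwa [Subgroup.card_top])
    haveI : (Subgroup.zpowers t).Normal := ⟨fun x hx g => by
      rw [hcom g x, mul_inv_cancel_right]; exact hx⟩
    rcases (inferInstance : (Subgroup.zpowers t).Normal).eq_bot_or_eq_top with h1 | h1
    · exact Involution.ne_one_of_orderOf ht (Subgroup.zpowers_eq_bot.mp h1)
    · have := Nat.card_zpowers t
      rw [h1, Subgroup.card_top, ht] at this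
      omega
  have hnc : ∀ t : G, orderOf t = 2 → t ∉ Subgroup.center G := fun t ht h =>
    Involution.ne_one_of_orderOf ht (by rwa [hZ, Subgroup.mem_bot] at h)
  obtain ⟨H, hH, hmax⟩ := Involution.exists_largest_proper (G := G)
  have hb := Involution.involution_bound_refined hmax hidx hnc
  set n := Nat.card {y : G // orderOf y = 2} with hn
  have hpos : 0 < Nat.card H := Nat.card_pos
  have hnpos : 0 < n := by omega
  have hn2 : n < 2 * Nat.card H := by
    have h1 : 2 * (n * n) < Nat.card H * (4 * n) := by
      rw [mul_add n, mul_one] at hb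
      have : Nat.card H * (n + Nat.card G) ≤ Nat.card H * (4 * n) :=
        Nat.mul_le_mul_left _ (by omega)
      omega
    rw [show Nat.card H * (4 * n) = 2 * (2 * Nat.card H * n) by ring] at h1
    exact Nat.lt_of_mul_lt_mul_right (by omega : n * n < 2 * Nat.card H * n)
  have hm : H.index ≤ 5 := by
    have := H.card_mul_index
    by_contra h6
    have := Nat.mul_le_mul_left (Nat.card H) (Nat.lt_of_not_le h6)
    omega
  -- embed `G` in the alternating group of degree five
  haveI := Fintype.ofFinite (G ⧸ H)
  obtain ⟨j⟩ : Nonempty (G ⧸ H ↪ Fin 5) :=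
    Function.Embedding.nonempty_of_card_le (by
      rw [Fintype.card_fin, ← Nat.card_eq_fintype_card, ← Subgroup.index_eq_card]; exact hm)
  let f : G →* Equiv.Perm (Fin 5) :=
    (Equiv.Perm.viaEmbeddingHom j).comp (MulAction.toPermHom G (G ⧸ H))
  have hf : Function.Injective f := by
    refine (Equiv.Perm.viaEmbeddingHom_injective j).comp ?_
    rw [← MonoidHom.ker_eq_bot_iff, ← Subgroup.normalCore_eq_ker]
    exact H.normalCore_normal.eq_bot_or_eq_top.resolve_right
      fun h => hH (top_le_iff.mp (h ▸ H.normalCore_le))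
  have hfA : ∀ g, f g ∈ alternatingGroup (Fin 5) := by
    intro g
    let s : G →* ℤˣ := Equiv.Perm.sign.comp f
    rcases s.normal_ker.eq_bot_or_eq_top with h | h
    · exfalso
      rw [MonoidHom.ker_eq_bot_iff] at h
      have := Nat.card_le_card_of_injective _ h
      rw [Nat.card_eq_fintype_card (α := ℤˣ), Fintype.card_units_int] at this
      omega
    · exact (h ▸ Subgroup.mem_top g : g ∈ s.ker)
  let f' : G →* alternatingGroup (Fin 5) := f.codRestrict _ hfA
  have hf' : Function.Injective f' := fun a b h => hf (congrArg Subtype.val h)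
  have hn15 : n ≤ 15 := by
    have h15 : (Finset.univ.filter fun y : alternatingGroup (Fin 5) => y * y = 1 ∧ y ≠ 1).card ≤ 15 := by
      decide +kernel
    refine le_trans ?_ h15
    rw [← Fintype.card_subtype, ← Nat.card_eq_fintype_card]
    refine Nat.card_le_card_of_injective (fun y => ⟨f' y.1, ?_⟩) ?_
    · refine ⟨by rw [← map_mul, Involution.mul_self_of_orderOf y.2, map_one], fun h => ?_⟩
      exact Involution.ne_one_of_orderOf y.2 (hf' (h.trans (map_one f').symm))
    · intro a b h
      exact Subtype.ext (hf' (congrArg Subtype.val h))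
  have hdvd : Nat.card G ∣ 60 := by
    have h60 : Nat.card (alternatingGroup (Fin 5)) = 60 := by
      rw [Nat.card_eq_fintype_card]; decide +kernel
    exact h60 ▸ Subgroup.card_dvd_of_injective f' hf'
  -- no group of one of the remaining orders is simple
  have hsyl : ∀ p : ℕ, Nat.Prime p → p ∣ Nat.card G → ¬ p * p ∣ Nat.card G →
      ∀ S : Sylow p G, Nat.card (S : Subgroup G) = p := by
    intro p hp hd hnd S
    haveI : Fact p.Prime := ⟨hp⟩
    obtain ⟨k, hk⟩ := IsPGroup.iff_card.mp S.isPGroup'
    have h1 := S.dvd_card_of_dvd_card hd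
    rw [hk] at h1 ⊢
    have h2 : 2 ^ 0 = 1 := rfl
    rcases k with _ | _ | k
    · exact absurd h1 (by rw [pow_zero]; exact hp.not_dvd_one)
    · exact pow_one p
    · refine absurd ?_ hnd
      rw [← sq]
      exact ((pow_dvd_pow p (by omega : 2 ≤ k + 1 + 1)).trans
        (hk ▸ (S : Subgroup G).card_subgroup_dvd_card))
  have h2no : 4 ∣ Nat.card G := by
    by_contra h4
    obtain ⟨S⟩ : Nonempty (Sylow 2 G) := inferInstance
    obtain ⟨K, hK⟩ := Involution.exists_index_two_of_cyclic_sylow heven S
      (isCyclic_of_prime_card (p := 2) (hsyl 2 Nat.prime_two (even_iff_two_dvd.mp heven) h4 S))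
    exact hidx K hK
  have hle : Nat.card G ≤ 45 := by omega
  obtain ⟨e, he⟩ := hdvd
  have hcases : Nat.card G = 4 ∨ Nat.card G = 12 ∨ Nat.card G = 20 := by
    have : e ≤ 60 := Nat.le_of_dvd (by norm_num) ⟨Nat.card G, by rw [he]; ring⟩
    obtain ⟨d, hd⟩ := h2no
    have hd' : d ≤ 11 := by omega
    rw [hd] at he ⊢
    interval_cases d <;> omega
  rcases hcases with h | h | h
  · haveI : IsMulCommutative G := IsPGroup.isMulCommutative_of_card_eq_prime_sq (p := 2) (by rw [h]; rfl)
    obtain ⟨t, -, ht⟩ := Involution.exists_involution_of_even (H := (⊤ : Subgroup G))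
      (by rwa [Subgroup.card_top])
    exact hnc t ht (Subgroup.mem_center_iff.mpr fun g => mul_comm' g t)
  · obtain ⟨iso⟩ := Cfsg.Agent.S0228.result h hnc
    have h3 : n = 3 := by
      rw [hn, Nat.card_congr (iso.toEquiv.subtypeEquiv (q := fun y => orderOf y = 2) (fun a => by
        show _ ↔ orderOf (iso a) = 2
        exact iff_of_eq (congrArg (· = 2) (orderOf_injective iso.toMonoidHom iso.injective a).symm)))]
      rw [Nat.card_congr (Equiv.subtypeEquivRight (q := fun y : alternatingGroup (Fin 4) =>
        y * y = 1 ∧ y ≠ 1) fun y => Involution.orderOf_eq_two_iff'), Nat.card_eq_fintype_card]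
      decide +kernel
    omega
  · haveI : Fact (Nat.Prime 5) := ⟨Nat.prime_five⟩
    obtain ⟨S⟩ : Nonempty (Sylow 5 G) := inferInstance
    have h5 := hsyl 5 Nat.prime_five (by rw [h]; norm_num) (by rw [h]; norm_num) S
    have hi : (S : Subgroup G).index = 4 := by
      have := (S : Subgroup G).card_mul_index; rw [h5, h] at this; omega
    have h1 := card_sylow_modEq_one 5 G
    have h2 := S.card_dvd_index
    rw [hi] at h2
    unfold Nat.ModEq at h1
    have := Nat.le_of_dvd (by norm_num) h2
    have hone : Nat.card (Sylow 5 G) = 1 := by omega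
    haveI : Subsingleton (Sylow 5 G) := (Nat.card_eq_one_iff_unique.mp hone).1
    rcases (S.normal_of_subsingleton).eq_bot_or_eq_top with h' | h'
    · rw [h', Subgroup.card_bot] at h5; omega
    · rw [h', Subgroup.card_top, h] at h5; omega

end Cfsg.Agent.S0234
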