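import Cfsg.Statements.S0239
import Cfsg.Agent.Lib.Involution.Counting

set_option autoImplicit false
open Cfsg

namespace Cfsg.Agent.S0239

/-- If some nontrivial element x of a finite group G is conjugate to x⁻¹, then |G| is even. -/
theorem result {G : Type*} [Group G] [Finite G] (x : G) (hx : x ≠ 1) (hreal : IsConj x x⁻¹) : Even (Nat.card G) := by
  obtain ⟨g, hg⟩ := isConj_iff.mp hreal
  by_contra hodd
  rw [Nat.not_even_iff_odd] at hodd
  have hg2 : g ^ 2 * x * (g ^ 2)⁻¹ = x := by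
    calc g ^ 2 * x * (g ^ 2)⁻¹ = g * (g * x * g⁻¹) * g⁻¹ := by rw [pow_two]; group
      _ = (g * x * g⁻¹)⁻¹ := by rw [hg]; nth_rewrite 2 [← hg]; group
      _ = x := by rw [hg, inv_inv]
  obtain ⟨m, hm⟩ : Odd (orderOf g) := hodd.of_dvd_nat (orderOf_dvd_natCard _)
  have hgg : (g ^ 2) ^ (m + 1) = g := by
    rw [← pow_mul, show 2 * (m + 1) = orderOf g + 1 by omega, pow_succ, pow_orderOf_eq_one, one_mul]
  have hc : Commute (g ^ 2) x := mul_inv_eq_iff_eq_mul.mp hg2
  have h1 : Commute g x := hgg ▸ hc.pow_left (m + 1)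
  rw [h1.eq, mul_inv_cancel_right] at hg
  have h2 : orderOf x ∣ 2 := orderOf_dvd_of_pow_eq_one (by rw [sq]; nth_rewrite 1 [hg]; exact inv_mul_cancel x)
  rcases (Nat.dvd_prime Nat.prime_two).mp h2 with h3 | h3
  · exact hx (orderOf_eq_one_iff.mp h3)
  · have h4 : Odd (orderOf x) := hodd.of_dvd_nat (orderOf_dvd_natCard _)
    rw [h3] at h4
    exact absurd h4 (by decide)

end Cfsg.Agent.S0239
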