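import Cfsg.Statements.S0240
import Cfsg.Agent.Lib.Involution.Counting

set_option autoImplicit false
open Cfsg

namespace Cfsg.Agent.S0240

/-- Let G be a finite group with n involutions and H a subgroup with |H|·(n+1) > |G|. Then some nontrivial h ∈ H is strongly real in G: an involution t of G satisfies t h t⁻¹ = h⁻¹. -/
theorem result {G : Type*} [Group G] [Finite G] (H : Subgroup G) (hH : Nat.card G < Nat.card H * (Nat.card {t : G // orderOf t = 2} + 1)) : ∃ h : G, h ∈ H ∧ h ≠ 1 ∧ ∃ t : G, orderOf t = 2 ∧ t * h * t⁻¹ = h⁻¹ := by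
  classical
  haveI := Fintype.ofFinite G
  let T := {t : G // t = 1 ∨ orderOf t = 2}
  have hT : Nat.card T = Nat.card {t : G // orderOf t = 2} + 1 := by
    rw [Nat.card_eq_fintype_card, Fintype.card_subtype, Nat.card_eq_fintype_card,
      Fintype.card_subtype]
    have : (Finset.univ.filter fun t : G => t = 1 ∨ orderOf t = 2) =
        insert 1 (Finset.univ.filter fun t : G => orderOf t = 2) := by
      ext t; simp
    rw [this, Finset.card_insert_of_notMem (by simp)]
  have hninj : ¬ Function.Injective (fun t : T => ((t.1 : G) : G ⧸ H)) := by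
    intro hinj
    have h1 := Nat.mul_le_mul_left (Nat.card H) (Nat.card_le_card_of_injective _ hinj)
    rw [hT, mul_comm (Nat.card H) (Nat.card (G ⧸ H)),
      ← Subgroup.card_eq_card_quotient_mul_card_subgroup] at h1
    omega
  rw [Function.Injective] at hninj
  push Not at hninj
  obtain ⟨⟨a, ha⟩, ⟨b, hb⟩, hab, hne⟩ := hninj
  have hmem : a⁻¹ * b ∈ H := QuotientGroup.eq.mp hab
  have hne' : a ≠ b := fun h => hne (Subtype.ext h)
  refine ⟨a⁻¹ * b, hmem, fun h => hne' (inv_mul_eq_one.mp h), ?_⟩
  rcases ha with rfl | ha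
  · rcases hb with rfl | hb
    · exact absurd rfl hne'
    · exact ⟨b, hb, by simp [Involution.inv_of_orderOf hb, Involution.mul_self_of_orderOf hb]⟩
  · rcases hb with rfl | hb
    · exact ⟨a, ha, by simp [Involution.inv_of_orderOf ha, Involution.mul_self_of_orderOf ha]⟩
    · refine ⟨a, ha, ?_⟩
      rw [Involution.inv_of_orderOf ha]
      have := Involution.inverts_mul (Involution.mul_self_of_orderOf ha) (Involution.mul_self_of_orderOf hb)
      rwa [Involution.inv_of_orderOf ha] at this

end Cfsg.Agent.S0240
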