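import Cfsg.Statements.S0241
import Cfsg.Agent.Lib.Involution.Counting

set_option autoImplicit false
open Cfsg

namespace Cfsg.Agent.S0241

/-- If x ≠ 1 is conjugate to x⁻¹ in a finite group G and |C_G(x)| is odd, then some involution t satisfies t x t⁻¹ = x⁻¹. -/
theorem result {G : Type*} [Group G] [Finite G] (x : G) (hx : x ≠ 1) (hreal : IsConj x x⁻¹) (hodd : Odd (Nat.card (Subgroup.centralizer ({x} : Set G)))) : ∃ t : G, orderOf t = 2 ∧ t * x * t⁻¹ = x⁻¹ := by
  obtain ⟨g, hg⟩ := isConj_iff.mp hreal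
  have hg2 : g ^ 2 ∈ Subgroup.centralizer ({x} : Set G) := by
    rw [Involution.mem_centralizer_singleton]
    refine mul_inv_eq_iff_eq_mul.mp ?_
    calc g ^ 2 * x * (g ^ 2)⁻¹ = g * (g * x * g⁻¹) * g⁻¹ := by rw [pow_two]; group
      _ = (g * x * g⁻¹)⁻¹ := by rw [hg]; nth_rewrite 2 [← hg]; group
      _ = x := by rw [hg, inv_inv]
  have hgc : g ∉ Subgroup.centralizer ({x} : Set G) := by
    intro hc
    rw [Involution.mem_centralizer_singleton] at hc
    rw [hc, mul_inv_cancel_right] at hg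
    have h2 : orderOf x = 2 :=
      Involution.orderOf_eq_two_iff'.mpr ⟨by nth_rewrite 1 [hg]; exact inv_mul_cancel x, hx⟩
    have hxC : x ∈ Subgroup.centralizer ({x} : Set G) :=
      Involution.mem_centralizer_singleton.mpr rfl
    have h3 : Odd 2 := by
      rw [← h2]
      exact hodd.of_dvd_nat (Subgroup.orderOf_dvd_natCard _ hxC)
    exact absurd h3 (by decide)
  have hodd2 : Odd (orderOf (g ^ 2)) := hodd.of_dvd_nat (Subgroup.orderOf_dvd_natCard _ hg2)
  obtain ⟨j, hj⟩ := hodd2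
  set k := 2 * j + 1 with hk
  refine ⟨g ^ k, Involution.orderOf_eq_two_iff'.mpr ⟨?_, fun h => hgc ?_⟩, ?_⟩
  · rw [← pow_add, ← two_mul, pow_mul, ← hj, pow_orderOf_eq_one]
  · rw [hk, pow_succ, pow_mul, mul_eq_one_iff_eq_inv'] at h
    rw [h]
    exact inv_mem (pow_mem hg2 j)
  · have h1 : (g ^ 2) ^ j ∈ Subgroup.centralizer ({x} : Set G) := pow_mem hg2 j
    rw [Involution.mem_centralizer_singleton] at h1
    rw [hk, pow_succ', pow_mul]
    calc g * (g ^ 2) ^ j * x * (g * (g ^ 2) ^ j)⁻¹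
        = g * ((g ^ 2) ^ j * x) * ((g ^ 2) ^ j)⁻¹ * g⁻¹ := by group
      _ = g * x * g⁻¹ := by rw [h1]; group
      _ = x⁻¹ := hg

end Cfsg.Agent.S0241
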