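import Cfsg.Statements.S0255
import Cfsg.Agent.Lib.LinearGroup.PSL27

set_option autoImplicit false
open Cfsg

namespace Cfsg.Agent.S0255

/-- PSL_2(7) is isomorphic to PSL_3(2). -/
theorem result {F K : Type*} [Field F] [Fintype F] [Field K] [Fintype K] (hF : Fintype.card F = 7) (hK : Fintype.card K = 2) : Nonempty (Matrix.ProjectiveSpecialLinearGroup (Fin 2) F ≃* Matrix.ProjectiveSpecialLinearGroup (Fin 3) K) := by
  classical
  haveI : Fact (Nat.Prime 7) := ⟨by decide⟩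
  haveI : Fact (Nat.Prime 2) := ⟨by decide⟩
  obtain ⟨e⟩ := Cfsg.Agent.LinearGroup.PSL27.equiv
  let eF : F ≃+* ZMod 7 := FiniteField.ringEquivOfCardEq (by rw [hF, ZMod.card])
  let eK : K ≃+* ZMod 2 := FiniteField.ringEquivOfCardEq (by rw [hK, ZMod.card])
  exact ⟨(Cfsg.Agent.LinearGroup.pslCongr eF).trans (e.trans
    ((Cfsg.Agent.LinearGroup.slEquivPSL (by rw [Nat.card_zmod]; rfl)).trans
      (Cfsg.Agent.LinearGroup.pslCongr eK.symm)))⟩

end Cfsg.Agent.S0255
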