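import Cfsg.Statements.S0256
import Cfsg.Agent.Lib.LinearGroup.PSL42

set_option autoImplicit false
open Cfsg

namespace Cfsg.Agent.S0256

/-- PSL_4(2) is isomorphic to A_8. -/
theorem result {F : Type*} [Field F] [Fintype F] (hF : Fintype.card F = 2) : Nonempty (Matrix.ProjectiveSpecialLinearGroup (Fin 4) F ≃* alternatingGroup (Fin 8)) := by
  classical
  haveI : Fact (Nat.Prime 2) := ⟨by decide⟩
  obtain ⟨e⟩ := Cfsg.Agent.LinearGroup.PSL42.equiv
  let eF : F ≃+* ZMod 2 := FiniteField.ringEquivOfCardEq (by rw [hF, ZMod.card])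
  exact ⟨(Cfsg.Agent.LinearGroup.pslCongr eF).trans
    ((Cfsg.Agent.LinearGroup.slEquivPSL (by rw [Nat.card_zmod]; rfl)).symm.trans e)⟩

end Cfsg.Agent.S0256
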