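import Cfsg.Statements.S0257
import Cfsg.Agent.Lib.LinearGroup.TorusSylow
import Cfsg.Agent.S0251
import Mathlib.GroupTheory.SpecificGroups.Alternating.KleinFour

set_option autoImplicit false
open Cfsg

namespace Cfsg.Agent.S0257

/-- SL_2(3) has a normal subgroup of index 3 isomorphic to the quaternion group of order 8, and its centre has order 2. -/
theorem result {F : Type*} [Field F] [Fintype F] (hF : Fintype.card F = 3) : (∃ Q : Subgroup (Matrix.SpecialLinearGroup (Fin 2) F), Q.Normal ∧ Q.index = 3 ∧ Nonempty (Q ≃* QuaternionGroup 2)) ∧ Nat.card (Subgroup.center (Matrix.SpecialLinearGroup (Fin 2) F)) = 2 := by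
  have hq : Nat.card F = 3 := by rw [Nat.card_eq_fintype_card, hF]
  have hcenter : Nat.card (Subgroup.center (Matrix.SpecialLinearGroup (Fin 2) F)) = 2 := by
    rw [Cfsg.Agent.LinearGroup.card_center_SL, hq]; rfl
  refine ⟨?_, hcenter⟩
  have hcard : Nat.card (Matrix.SpecialLinearGroup (Fin 2) F) = 24 := by
    rw [Cfsg.Agent.LinearGroup.card_SL_two, hq]; rfl
  obtain ⟨e⟩ := Cfsg.Agent.S0251.result hF
  let f : Matrix.SpecialLinearGroup (Fin 2) F →* alternatingGroup (Fin 4) :=
    e.toMonoidHom.comp (QuotientGroup.mk' _)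
  have hf : Function.Surjective f := e.surjective.comp (QuotientGroup.mk'_surjective _)
  have h4 : Nat.card (Fin 4) = 4 := Nat.card_fin 4
  have hV := alternatingGroup.normal_kleinFour h4
  have hVc : Nat.card (alternatingGroup.kleinFour (Fin 4)) = 4 :=
    alternatingGroup.kleinFour_card_of_card_eq_four h4
  set Q := (alternatingGroup.kleinFour (Fin 4)).comap f with hQ
  have hidx : Q.index = 3 := by
    have h1 := (alternatingGroup.kleinFour (Fin 4)).card_mul_index
    rw [hVc, nat_card_alternatingGroup, Nat.card_fin] at h1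
    rw [hQ, Subgroup.index_comap_of_surjective _ hf]
    simp [Nat.factorial] at h1
    omega
  have hQc : Nat.card Q = 8 := by
    have h1 := Q.card_mul_index
    rw [hidx, hcard] at h1
    omega
  haveI : Fact (Nat.Prime 2) := ⟨Nat.prime_two⟩
  refine ⟨Q, hV.comap f, hidx, ?_⟩
  let P : Sylow 2 (Matrix.SpecialLinearGroup (Fin 2) F) := Sylow.ofCard Q (by
    rw [hQc, hcard, show (24 : ℕ) = 2 ^ 3 * 3 from rfl,
      Nat.factorization_mul (by norm_num) (by norm_num), Finsupp.add_apply,
      Nat.factorization_eq_zero_of_not_dvd (show ¬ 2 ∣ 3 by norm_num),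
      Nat.prime_two.factorization_pow]
    simp)
  obtain ⟨k, hk, ⟨eQ⟩⟩ := Cfsg.Agent.LinearGroup.quaternion_sylow_SL_two
    (by rw [hq]; decide) P
  have hc := Nat.card_congr eQ.toEquiv
  haveI : NeZero (2 ^ k) := ⟨by positivity⟩
  rw [show Nat.card (P : Subgroup (Matrix.SpecialLinearGroup (Fin 2) F)) = 8 from hQc,
    Nat.card_eq_fintype_card, QuaternionGroup.card] at hc
  have hk2 : 2 ^ k = 2 := by omega
  rw [hk2] at eQ
  exact ⟨eQ⟩

end Cfsg.Agent.S0257
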