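import Cfsg.Statements.S0264
import Cfsg.Agent.Lib.LinearGroup.Card
import Cfsg.Agent.Lib.LinearGroup.Generation
import Mathlib.Tactic
-- import your own Cfsg.Agent.* helpers here

set_option autoImplicit false
open Cfsg

namespace Cfsg.Agent.S0264

/-- GL_n(F)' = SL_n(F) (as the kernel of det), for every field F and every n, except n = 2 over the field of two elements. -/
theorem result {F : Type*} [Field F] (n : ℕ) (h : n = 2 → ∃ a : F, a ≠ 0 ∧ a ≠ 1) : commutator (Matrix.GeneralLinearGroup (Fin n) F) = (Matrix.GeneralLinearGroup.det : Matrix.GeneralLinearGroup (Fin n) F →* Fˣ).ker := by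
  classical
  refine le_antisymm (Abelianization.commutator_subset_ker _) ?_
  rw [← LinearGroup.range_toGL_eq_ker_det, MonoidHom.range_eq_map, Subgroup.map_le_iff_le_comap,
    top_le_iff]
  by_cases ha : ∃ a : F, a ≠ 0 ∧ a ≠ 1
  · obtain ⟨a, ha0, ha1⟩ := ha
    refine LinearGroup.eq_top_of_transvection_mem fun i j hij c => ?_
    have hd : (Matrix.diagonal (Function.update (1 : Fin n → F) i a)).det = a := by
      rw [Matrix.det_diagonal, Finset.prod_update_of_mem (Finset.mem_univ i)]
      simp
    set D : Matrix.GeneralLinearGroup (Fin n) F :=
      Matrix.GeneralLinearGroup.mk'' _ (hd.symm ▸ ha0.isUnit) with hD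
    set t := Matrix.SpecialLinearGroup.toGL
      (Matrix.SpecialLinearGroup.transvection hij (c / (a - 1))) with ht
    set t' := Matrix.SpecialLinearGroup.toGL
      (Matrix.SpecialLinearGroup.transvection hij c) with ht'
    have h : t' * t * D = D * t := by
      apply Units.ext
      have e : a - 1 ≠ 0 := sub_ne_zero.2 ha1
      have key : c + c / (a - 1) = a * (c / (a - 1)) := by field_simp; ring
      show Matrix.transvection i j c * Matrix.transvection i j (c / (a - 1)) *
          Matrix.diagonal (Function.update (1 : Fin n → F) i a) =
        Matrix.diagonal (Function.update (1 : Fin n → F) i a) * Matrix.transvection i j (c / (a - 1))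
      rw [Matrix.transvection_mul_transvection_same i j hij]
      ext k l
      rw [Matrix.mul_diagonal, Matrix.diagonal_mul]
      simp only [Matrix.transvection, Matrix.add_apply, Matrix.one_apply, Matrix.single_apply]
      by_cases hk : k = i
      · subst hk
        by_cases hl : l = j
        · subst hl
          simp [hij, hij.symm, key]
        · by_cases hl2 : l = k
          · subst hl2
            simp [hij.symm]
          · simp [Ne.symm hl, Ne.symm hl2]
      · by_cases hl : l = k
        · subst hl
          simp [hk, Ne.symm hk]
        · simp [Ne.symm hl, Ne.symm hk]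
    show t' ∈ commutator _
    have : t' = D * t * D⁻¹ * t⁻¹ := by rw [← h]; group
    rw [this, commutator_def, ← commutatorElement_def]
    exact Subgroup.commutator_mem_commutator (Subgroup.mem_top _) (Subgroup.mem_top _)
  · have hn : n ≠ 2 := fun e => ha (h e)
    rcases Nat.lt_or_ge n 3 with hlt | hge
    · have : Subsingleton (Matrix.SpecialLinearGroup (Fin n) F) := by
        interval_cases n
        · exact ⟨fun a b => Subtype.ext (Subsingleton.elim _ _)⟩
        · refine ⟨fun a b => Subtype.ext ?_⟩
          ext i j
          fin_cases i; fin_cases j
          have ha := a.2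
          have hb := b.2
          rw [Matrix.det_fin_one] at ha hb
          exact ha.trans hb.symm
        · exact absurd rfl hn
      exact Subsingleton.elim _ _
    · rw [eq_top_iff, ← LinearGroup.commutator_SL_eq_top (by simpa using hge),
        ← Subgroup.map_le_iff_le_comap, commutator_def, commutator_def, Subgroup.map_commutator]
      exact Subgroup.commutator_mono le_top le_top

end Cfsg.Agent.S0264
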