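import Cfsg.Statements.S0266
import Cfsg.Agent.Classical10.ProjLine
-- import your own Cfsg.Agent.* helpers here

set_option autoImplicit false
open scoped MatrixGroups
open Cfsg

namespace Cfsg.Agent.S0266

/-- PGL_2(F) is sharply 3-transitive on the projective line: it is 3-transitive and the stabiliser of three distinct points is trivial. -/
theorem result {F : Type*} [Field F] : MulAction.IsMultiplyPretransitive (Matrix.ProjGenLinGroup (Fin 2) F) (Projectivization F (Fin 2 → F)) 3 ∧ ∀ (g : Matrix.ProjGenLinGroup (Fin 2) F) (a b c : Projectivization F (Fin 2 → F)), a ≠ b → a ≠ c → b ≠ c → g • a = a → g • b = b → g • c = c → g = 1 := by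
  refine ⟨?_, ?_⟩
  · rw [MulAction.isMultiplyPretransitive_iff]
    intro x y
    obtain ⟨g, h0, h1, h2⟩ := Classical10.exists_smul_triple
      (x.injective.ne (a₁ := 0) (a₂ := 1) (by decide)) (x.injective.ne (a₁ := 0) (a₂ := 2) (by decide))
      (x.injective.ne (a₁ := 1) (a₂ := 2) (by decide)) (y.injective.ne (a₁ := 0) (a₂ := 1) (by decide))
      (y.injective.ne (a₁ := 0) (a₂ := 2) (by decide)) (y.injective.ne (a₁ := 1) (a₂ := 2) (by decide))
    refine ⟨Matrix.ProjGenLinGroup.mk g, ?_⟩
    ext i
    rw [Function.Embedding.smul_apply, Classical10.mk_smul_point]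
    fin_cases i
    exacts [h0, h1, h2]
  · intro g a b c hab hac hbc ha hb hc
    obtain ⟨g, rfl⟩ := Matrix.ProjGenLinGroup.mk_surjective g
    rw [Classical10.mk_smul_point] at ha hb hc
    obtain ⟨r, hr⟩ := Classical10.eq_scalar_of_fix_three hab hac hbc ha hb hc
    refine (QuotientGroup.eq_one_iff g).2 (Subgroup.mem_center_iff.2 fun k => Units.ext ?_)
    rw [Units.val_mul, Units.val_mul, hr]
    exact ((Matrix.scalar_commute r (fun r' => Commute.all r r') _).eq).symm

end Cfsg.Agent.S0266
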