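import Cfsg.Statements.S0267
import Cfsg.Agent.Classical10.ProjLine
-- import your own Cfsg.Agent.* helpers here

set_option autoImplicit false
open Cfsg

namespace Cfsg.Agent.S0267

/-- SL_2(q) is 3-transitive on the q+1 points of the projective line if and only if q is even. -/
theorem result {F : Type*} [Field F] [Fintype F] : MulAction.IsMultiplyPretransitive (Matrix.SpecialLinearGroup (Fin 2) F) (Projectivization F (Fin 2 → F)) 3 ↔ ringChar F = 2 := by
  classical
  constructor
  · intro h
    by_contra hchar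
    obtain ⟨s, hs⟩ := FiniteField.exists_nonsquare hchar
    have hs0 : s ≠ 0 := fun e => hs (e ▸ IsSquare.zero)
    let P0 : Projectivization F (Fin 2 → F) := .mk F ![1, 0] (fun e => one_ne_zero (congrFun e 0))
    let P1 : Projectivization F (Fin 2 → F) := .mk F ![0, 1] (fun e => one_ne_zero (congrFun e 1))
    let P2 : F → Projectivization F (Fin 2 → F) := fun t =>
      .mk F ![1, t] (fun e => one_ne_zero (congrFun e 0))
    have h01 : P0 ≠ P1 := by
      intro e
      obtain ⟨a, ha⟩ := (Projectivization.mk_eq_mk_iff' F _ _ _ _).1 e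
      simpa using congrFun ha 0
    have h02 : ∀ t, t ≠ 0 → P0 ≠ P2 t := by
      intro t ht e
      obtain ⟨a, ha⟩ := (Projectivization.mk_eq_mk_iff' F _ _ _ _).1 e
      have ha0 : a = 1 := by simpa using congrFun ha 0
      exact ht (by simpa [ha0] using congrFun ha 1)
    have h12 : ∀ t, P1 ≠ P2 t := by
      intro t e
      obtain ⟨a, ha⟩ := (Projectivization.mk_eq_mk_iff' F _ _ _ _).1 e
      have ha0 : a = 0 := by simpa using congrFun ha 0
      simpa [ha0] using congrFun ha 1
    let x : (t : F) → t ≠ 0 → Fin 3 ↪ Projectivization F (Fin 2 → F) := fun t ht =>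
      ⟨![P0, P1, P2 t], by
        intro i j hij
        fin_cases i <;> fin_cases j <;>
          simp [h01, h01.symm, h02 t ht, (h02 t ht).symm, h12 t, (h12 t).symm] at hij ⊢⟩
    obtain ⟨g, hg⟩ := MulAction.isMultiplyPretransitive_iff.1 h (x 1 one_ne_zero) (x s hs0)
    have g0 : g • P0 = P0 := congrArg (fun e : Fin 3 ↪ _ => e 0) hg
    have g1 : g • P1 = P1 := congrArg (fun e : Fin 3 ↪ _ => e 1) hg
    have g2 : g • P2 1 = P2 s := congrArg (fun e : Fin 3 ↪ _ => e 2) hg
    simp only [P0, P1, P2, Projectivization.smul_mk, Projectivization.mk_eq_mk_iff',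
      Matrix.SpecialLinearGroup.smul_def] at g0 g1 g2
    obtain ⟨α, hα⟩ := g0
    obtain ⟨β, hβ⟩ := g1
    obtain ⟨γ, hγ⟩ := g2
    have a0 := congrFun hα 0
    have a1 := congrFun hα 1
    have b0 := congrFun hβ 0
    have b1 := congrFun hβ 1
    have c0 := congrFun hγ 0
    have c1 := congrFun hγ 1
    simp [Matrix.mulVec, dotProduct, Fin.sum_univ_two] at a0 a1 b0 b1 c0 c1
    have hdet := g.2
    rw [Matrix.det_fin_two, ← a0, ← b1, ← a1, ← b0] at hdet
    rw [← a0, ← b0, add_zero] at c0
    rw [← a1, ← b1, zero_add] at c1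
    refine hs ⟨γ⁻¹, ?_⟩
    have hγ0 : γ ≠ 0 := fun e => by simp [← c0, e] at hdet
    field_simp
    linear_combination hdet + β * c0 + γ * c1
  · intro hchar
    rw [MulAction.isMultiplyPretransitive_iff]
    intro x y
    obtain ⟨g, h0, h1, h2⟩ := Classical10.exists_smul_triple
      (x.injective.ne (a₁ := 0) (a₂ := 1) (by decide)) (x.injective.ne (a₁ := 0) (a₂ := 2) (by decide))
      (x.injective.ne (a₁ := 1) (a₂ := 2) (by decide)) (y.injective.ne (a₁ := 0) (a₂ := 1) (by decide))
      (y.injective.ne (a₁ := 0) (a₂ := 2) (by decide)) (y.injective.ne (a₁ := 1) (a₂ := 2) (by decide))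
    have hd : (g : Matrix (Fin 2) (Fin 2) F).det ≠ 0 := (Matrix.GeneralLinearGroup.det g).ne_zero
    obtain ⟨s, hs⟩ := FiniteField.isSquare_of_char_two hchar (g : Matrix (Fin 2) (Fin 2) F).det⁻¹
    have hdet : (s • (g : Matrix (Fin 2) (Fin 2) F)).det = 1 := by
      rw [Matrix.det_smul, Fintype.card_fin, sq, ← hs, inv_mul_cancel₀ hd]
    let k : Matrix.SpecialLinearGroup (Fin 2) F := ⟨_, hdet⟩
    have hk : ∀ p : Projectivization F (Fin 2 → F), k • p = g • p := by
      intro p
      induction p using Projectivization.ind with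
      | h v hv =>
        rw [Projectivization.smul_mk, Projectivization.smul_mk, Projectivization.mk_eq_mk_iff']
        exact ⟨s, (Matrix.smul_mulVec s _ v).symm⟩
    refine ⟨k, ?_⟩
    ext i
    rw [Function.Embedding.smul_apply, hk]
    fin_cases i
    exacts [h0, h1, h2]

end Cfsg.Agent.S0267
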