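import Cfsg.Statements.S0268
import Mathlib.Tactic
import Mathlib.FieldTheory.Finite.Basic
-- import your own Cfsg.Agent.* helpers here

set_option autoImplicit false
open Cfsg

namespace Cfsg.Agent.S0268

/-- For q odd, -1 is the unique involution of SL_2(q). -/
theorem result {F : Type*} [Field F] [Fintype F] (hF : Odd (Fintype.card F)) (g : Matrix.SpecialLinearGroup (Fin 2) F) (h1 : g ≠ 1) (h2 : g * g = 1) : (g : Matrix (Fin 2) (Fin 2) F) = -1 := by
  have h2' : (2 : F) ≠ 0 := by
    refine Ring.two_ne_zero fun e => ?_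
    have := FiniteField.even_card_of_char_two e
    rw [Nat.odd_iff] at hF
    omega
  have hinv : g⁻¹ = g := inv_eq_of_mul_eq_one_right h2
  have hm := congrArg Subtype.val hinv
  rw [Matrix.SpecialLinearGroup.coe_inv, Matrix.adjugate_fin_two] at hm
  have e00 : g.1 1 1 = g.1 0 0 := by simpa using congrFun (congrFun hm 0) 0
  have e01 : -g.1 0 1 = g.1 0 1 := by simpa using congrFun (congrFun hm 0) 1
  have e10 : -g.1 1 0 = g.1 1 0 := by simpa using congrFun (congrFun hm 1) 0
  have z01 : g.1 0 1 = 0 :=
    (mul_eq_zero.1 (show (2 : F) * g.1 0 1 = 0 by linear_combination -e01)).resolve_left h2'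
  have z10 : g.1 1 0 = 0 :=
    (mul_eq_zero.1 (show (2 : F) * g.1 1 0 = 0 by linear_combination -e10)).resolve_left h2'
  have hd := g.2
  rw [Matrix.det_fin_two, e00, z01, z10, mul_zero, sub_zero, ← sq] at hd
  rcases sq_eq_one_iff.1 hd with hpos | hneg
  · exact absurd (Subtype.ext (by
      ext i j
      fin_cases i <;> fin_cases j <;> simp [hpos, e00, z01, z10])) h1
  · ext i j
    fin_cases i <;> fin_cases j <;> simp [hneg, e00, z01, z10]

end Cfsg.Agent.S0268
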