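import Cfsg.Statements.S0273
import Cfsg.Agent.Classical10.GL2Unipotent
-- import your own Cfsg.Agent.* helpers here

set_option autoImplicit false
open Cfsg

namespace Cfsg.Agent.S0273

/-- In GL_2(q) the centraliser of a non-trivial element of a Sylow p-subgroup (p the characteristic) has order q (q-1): the Sylow subgroup times the scalars. -/
theorem result {F : Type*} [Field F] [Fintype F] {q : ℕ} (hF : Fintype.card F = q) (p : ℕ) [Fact p.Prime] [CharP F p] (P : Sylow p (Matrix.GeneralLinearGroup (Fin 2) F)) (a : Matrix.GeneralLinearGroup (Fin 2) F) (ha : a ∈ P) (ha1 : a ≠ 1) : Nat.card (Subgroup.centralizer ({a} : Set (Matrix.GeneralLinearGroup (Fin 2) F))) = q * (q - 1) := by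
  obtain ⟨g, hg⟩ := Classical10.exists_conj_unipotent p P
  have ha' : a ∈ (P : Subgroup (Matrix.GeneralLinearGroup (Fin 2) F)) := ha
  rw [hg] at ha'
  obtain ⟨u, ⟨b, rfl⟩, rfl⟩ := ha'
  have hb : b ≠ 0 := fun e => ha1 (by subst e; simp [Classical10.upperGL_one])
  rw [show Subgroup.centralizer ({(MulAut.conj g).toMonoidHom (Classical10.upperGL 1 1 b)} :
      Set (Matrix.GeneralLinearGroup (Fin 2) F)) =
      (Subgroup.centralizer {Classical10.upperGL (1 : Fˣ) 1 b}).map (MulAut.conj g).toMonoidHom from ?_,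
    ← Nat.card_congr (Subgroup.equivMapOfInjective _ _ (MulAut.conj g).injective).toEquiv,
    Classical10.card_centralizer_unipotent hb, Nat.card_eq_fintype_card, hF]
  ext k
  rw [Subgroup.mem_map_equiv, Subgroup.mem_centralizer_singleton_iff,
    Subgroup.mem_centralizer_singleton_iff]
  simp only [MulEquiv.coe_toMonoidHom, MulAut.conj_apply, MulAut.conj_symm_apply]
  constructor <;> intro h
  · calc g⁻¹ * k * g * Classical10.upperGL 1 1 b
        = g⁻¹ * (k * (g * Classical10.upperGL 1 1 b * g⁻¹)) * g := by group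
      _ = g⁻¹ * (g * Classical10.upperGL 1 1 b * g⁻¹ * k) * g := by rw [h]
      _ = Classical10.upperGL 1 1 b * (g⁻¹ * k * g) := by group
  · calc k * (g * Classical10.upperGL 1 1 b * g⁻¹)
        = g * (g⁻¹ * k * g * Classical10.upperGL 1 1 b) * g⁻¹ := by group
      _ = g * (Classical10.upperGL 1 1 b * (g⁻¹ * k * g)) * g⁻¹ := by rw [h]
      _ = g * Classical10.upperGL 1 1 b * g⁻¹ * k := by group

end Cfsg.Agent.S0273
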