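import Cfsg.Statements.S0282
import Cfsg.Agent.Lib.Unitary.Center
import Cfsg.Agent.Lib.CharCore.Burnside
-- import your own Cfsg.Agent.* helpers here

set_option autoImplicit false
open Cfsg

namespace Cfsg.Agent.S0282

/-- PSU_3(2) is a solvable group of order 72. -/
theorem result {F : Type*} [Field F] [Fintype F] (hF : Fintype.card F = 4) : Nat.card (Cfsg.PSU 3 F 2) = 72 ∧ Group.IsSolvable (Cfsg.PSU 3 F 2) := by
  have hF' : Fintype.card F = 2 ^ 2 := hF
  have h := Unitary.card_PSU hF' (n := 3) (by norm_num)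
  norm_num [Finset.prod_range_succ] at h
  have hc : Nat.card (Cfsg.PSU 3 F 2) = 72 := by
    show Nat.card (Cfsg.SU 3 F 2 ⧸ Subgroup.center (Cfsg.SU 3 F 2)) = 72
    omega
  exact ⟨hc, CharCore.isSolvable_of_card_eq_prime_pow_mul Nat.prime_two Nat.prime_three _
    (Cfsg.PSU 3 F 2) 3 2 hc (by norm_num)⟩

end Cfsg.Agent.S0282
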