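import Cfsg.Statements.S0316
import Cfsg.Agent.Lib.BNPair.Parabolic
-- import your own Cfsg.Agent.* helpers here

set_option autoImplicit false
open Cfsg

namespace Cfsg.Agent.S0316

/-- The map `J ↦ P_J` is a lattice isomorphism from the power set of the set of distinguished generators onto the
subgroups containing `B`. -/
theorem result {G : Type*} [Group G] (P : Cfsg.BNPair G) :
    ∃ e : Set P.S ≃o {M : Subgroup G // P.B ≤ M},
      ∀ J : Set P.S, ((e J : {M : Subgroup G // P.B ≤ M}) : Subgroup G) = P.parabolic (Subtype.val '' J) := by
  have him : ∀ J : Set P.S, Subtype.val '' J ⊆ P.S := fun J => by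
    rintro _ ⟨x, -, rfl⟩; exact x.2
  refine ⟨
    { toFun := fun J => ⟨P.parabolic (Subtype.val '' J), BN.B_le_parabolic P _⟩
      invFun := fun M => {s : P.S | (s : G) ∈ M.1}
      left_inv := fun J => ?_
      right_inv := fun M => ?_
      map_rel_iff' := fun {J K} => ?_ }, fun J => rfl⟩
  · ext s
    exact (BN.parabolic_inter_S P (him J) s.2).trans Subtype.val_injective.mem_set_image
  · refine Subtype.ext ?_
    conv_rhs => rw [BN.eq_parabolic P M.1 M.2]
    change P.parabolic _ = P.parabolic _
    congr 1
    ext x
    simp [Set.mem_image, and_comm]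
  · exact (BN.parabolic_le_iff P (him J) (him K)).trans (Set.image_subset_image_iff Subtype.val_injective)

end Cfsg.Agent.S0316
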