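import Cfsg.Statements.S0321
import Cfsg.Agent.Lib.BNPair.Parabolic
-- import your own Cfsg.Agent.* helpers here

set_option autoImplicit false
open Cfsg

namespace Cfsg.Agent.S0321

/-- For `n ∈ N` not in `B`, the union `B ∪ B n B` is (the underlying set of) a subgroup exactly when `n` agrees
modulo `B ⊓ N` with one of the distinguished representatives; thus the distinguished involutions are
determined by `B` and `N`. -/
theorem result {G : Type*} [Group G] (P : Cfsg.BNPair G) {n : G}
    (hn : n ∈ P.N) (hnB : n ∉ P.B) :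
    (∃ H : Subgroup G, (H : Set G) = (P.B : Set G) ∪ DoubleCoset.doubleCoset n (P.B : Set G) P.B) ↔ ∃ s ∈ P.S, s⁻¹ * n ∈ P.B := by
  constructor
  · rintro ⟨H, hH⟩
    have hHmem : ∀ x, x ∈ H ↔ x ∈ P.B ∨ x ∈ BN.cell P n := fun x => by
      rw [← SetLike.mem_coe, hH]; rfl
    obtain ⟨L, hred, he⟩ := BN.exists_reduced P hn
    have hnH : n ∈ H := (hHmem n).2 (Or.inr (BN.self_mem_cell P n))
    have hB : P.B ≤ H := fun x hx => (hHmem x).2 (Or.inl hx)
    have hLH : L.prod ∈ H := by simpa using mul_mem hnH (hB (BN.eqv_symm P he))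
    have hlet := BN.letters_mem P H hB L hred fun b hb =>
      mul_mem (mul_mem hLH (hB hb)) (inv_mem hLH)
    match L, hred, he, hlet with
    | [], _, he, _ => exact absurd (by simpa [BN.Eqv] using he) hnB
    | s :: M, hred, _, hlet =>
      have hs : s ∈ P.S := hred.1 s (by simp)
      refine ⟨s, hs, ?_⟩
      rcases (hHmem s).1 (hlet s (by simp)) with h | h
      · exact absurd h (BN.S_not_mem_B P hs)
      · exact BN.eqv_of_cell_eq P (BN.S_mem_N P hs) hn (BN.cell_eq_of_mem P h)
  · rintro ⟨s, hs, hsn⟩
    refine ⟨P.parabolic {s}, ?_⟩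
    have hcell : BN.cell P s = BN.cell P n := BN.cell_congr P hsn
    have hJ : ({s} : Set G) ⊆ P.S := by simpa using hs
    ext x
    change x ∈ P.parabolic {s} ↔ x ∈ P.B ∨ x ∈ BN.cell P n
    constructor
    · intro hx
      obtain ⟨w, hw, hxw⟩ := (BN.mem_parabolic_iff P hJ x).1 hx
      obtain ⟨L, hL, he⟩ := BN.exists_word_of_mem_closure P hJ hw
      obtain ⟨R, hR, hred, hRe⟩ := BN.exists_reduced_sublist P (fun y hy => hJ (hL y hy))
      have hRs : ∀ y ∈ R, y = s := fun y hy => hL y (hR.subset hy)
      have hxR : x ∈ BN.cell P R.prod := by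
        rwa [BN.cell_congr P (BN.eqv_trans P hRe he)]
      match R, hred, hRs, hxR with
      | [], _, _, hxR => exact Or.inl ((BN.cell_one P).1 (by simpa using hxR))
      | [y], _, hRs, hxR =>
        obtain rfl := hRs y (by simp)
        exact Or.inr (hcell ▸ by simpa using hxR)
      | y :: z :: R, hred, hRs, _ =>
        exfalso
        obtain rfl := hRs y (by simp)
        obtain rfl := hRs z (by simp)
        have h2 : BN.Reduced P (z :: z :: R) := hred
        have hw2 : BN.IsWord P R := (BN.reduced_of_append P (L := [z, z]) hred).1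
        have e := BN.eqv_S_mul_S_mul P hs (hw2.mem_N P)
        have h3 := BN.len_congr P e
        have h4 := BN.len_le P hw2 (BN.eqv_refl P _)
        have h5 := hred.2
        simp only [List.prod_cons, List.length_cons] at h5
        omega
    · rintro (hx | hx)
      · exact BN.B_le_parabolic P _ hx
      · exact BN.cell_subset_parabolic P (BN.mem_parabolic_of_mem P rfl) (hcell ▸ hx)

end Cfsg.Agent.S0321
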