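import Cfsg.Statements.S0340
import Cfsg.Agent.Lib.Zassenhaus.AbelianBound
import Cfsg.Agent.Lib.Zassenhaus.OddKernel
import Cfsg.Agent.Lib.Zassenhaus.OddPSL
import Cfsg.Agent.Lib.Zassenhaus.EvenPSL
import Cfsg.Agent.Lib.Zassenhaus.TwoKernelMain

set_option autoImplicit false
open Cfsg

namespace Cfsg.Agent.S0340

/-- Classification of Zassenhaus groups, simple case, order-level form: a finite simple Zassenhaus group is
isomorphic to `PSL₂(F)` for some finite field `F` or is simple of Suzuki order. -/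
theorem result {G Ω : Type*} [Group G] [Finite G] [MulAction G Ω]
    [Finite Ω] (hZ : Cfsg.IsZassenhausGroup G Ω) [IsSimpleGroup G] :
    (∃ (F : Type) (_ : Field F) (_ : Fintype F), Nonempty (G ≃* Matrix.ProjectiveSpecialLinearGroup (Fin 2) F)) ∨ Cfsg.IsSuzuki G := by
  classical
  have := Fintype.ofFinite G
  have := Fintype.ofFinite Ω
  obtain ⟨g, -, a, b, hab, -⟩ := hZ.2.2.2.1
  obtain ⟨U, hU⟩ := Cfsg.Agent.CharDeep.Zass.exists_kernel hZ hab
  rcases Nat.even_or_odd (Nat.card ↥(Cfsg.Agent.CharDeep.Zass.two G a b)) with heven | hodd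
  · obtain ⟨F, i1, i2, -, -, -, hiso⟩ := Cfsg.Agent.ZassNormal.exists_psl hZ hab hU heven
      (Cfsg.Agent.ZassNormal.card_two_mul_two hZ hab hU heven)
    exact Or.inl ⟨F, i1, i2, hiso⟩
  by_cases hcomm : ∀ u v : U, u * v = v * u
  · obtain ⟨F, i1, i2, -, -, hiso⟩ := Cfsg.Agent.ZassNormal.exists_psl_odd hZ hab hU
      (Cfsg.Agent.ZassNormal.abelian_bound hZ hab hU hodd hcomm) hodd
      (fun g => Cfsg.Agent.CharDeep.Zass.swap_sq hZ hab hodd) hcomm
    exact Or.inl ⟨F, i1, i2, hiso⟩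
  · right
    rcases Nat.even_or_odd (Nat.card U) with hUe | hUo
    · obtain ⟨p, n, hp, hn, hpn⟩ := (isPrimePow_def _).1
        (Cfsg.Agent.ZassNormal.isPrimePow_kernel hZ hab hU hodd)
      rw [← hpn, Nat.even_pow] at hUe
      have hp2 : p = 2 := (Nat.prime_iff.2 hp).eq_one_or_self_of_dvd 2
        (even_iff_two_dvd.1 hUe.1) |>.resolve_left (by norm_num) |>.symm
      push Not at hcomm
      obtain ⟨m, hm, -, -, -, -, hG⟩ := Cfsg.Agent.ZassNormal.TwoKer.numerics hZ hab hU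
        (IsPGroup.of_card (n := n) (by rw [← hpn, hp2])) hcomm
      exact ⟨inferInstance, m, hm, hG⟩
    · exact absurd (Cfsg.Agent.ZassNormal.comm_of_odd_kernel hZ hab hU hodd hUo) hcomm

end Cfsg.Agent.S0340
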