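import Cfsg.Statements.S0345
import Cfsg.Agent.Lib.Zassenhaus.TwoPointEven
-- import your own Cfsg.Agent.* helpers here

set_option autoImplicit false
open Cfsg

namespace Cfsg.Agent.S0345

/-- In a finite simple Zassenhaus group the stabiliser `H` of two points `a ≠ b` is cyclic, and some involution
interchanging `a` and `b` inverts every element of `H`. -/
theorem result {G Ω : Type*} [Group G] [Finite G] [MulAction G Ω] [Finite Ω]
    (hZ : Cfsg.IsZassenhausGroup G Ω) [IsSimpleGroup G]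
    {a b : Ω} (hab : a ≠ b) :
    IsCyclic ↥(MulAction.stabilizer G a ⊓ MulAction.stabilizer G b) ∧
      ∃ v : G, orderOf v = 2 ∧ v • a = b ∧ v • b = a ∧ ∀ h ∈ MulAction.stabilizer G a ⊓ MulAction.stabilizer G b, v * h * v⁻¹ = h⁻¹ := by
  classical
  have := Fintype.ofFinite G
  have := Fintype.ofFinite Ω
  obtain ⟨U, hU⟩ := Cfsg.Agent.CharDeep.Zass.exists_kernel hZ hab
  obtain ⟨w, hw⟩ := Cfsg.Agent.CharDeep.Zass.exists_swap hZ hab
  have hne : w ≠ 1 := fun h => hab (by simpa [h] using hw.1)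
  rcases Nat.even_or_odd (Nat.card ↥(Cfsg.Agent.CharDeep.Zass.two G a b)) with he | ho
  · refine ⟨Cfsg.Agent.ZassNormal.isCyclic_of_even hZ hab hU he, w, ?_, hw.1, hw.2, fun h hh =>
      Cfsg.Agent.ZassNormal.inverts_of_even hZ hab hU he hw hh⟩
    exact orderOf_eq_prime (by rw [pow_two]; exact Cfsg.Agent.ZassNormal.swap_sq_of_even hZ hab hU he hw) hne
  · refine ⟨Cfsg.Agent.CharDeep.Zass.isCyclic_two hZ hab hU ho, w, ?_, hw.1, hw.2, fun h hh =>
      Cfsg.Agent.CharDeep.Zass.inverts hZ hab ho hw hh⟩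
    exact orderOf_eq_prime (by rw [pow_two]; exact Cfsg.Agent.CharDeep.Zass.swap_sq hZ hab ho hw.1 hw.2) hne

end Cfsg.Agent.S0345
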