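import Cfsg.Statements.S0384
import Cfsg.Agent.Lib.Golay.M12

set_option autoImplicit false
open scoped Pointwise
open Cfsg

namespace Cfsg.Agent.S0384

/-- A dodecad stabiliser is sharply 5-transitive on the dodecad. -/
theorem result (d : Finset Cfsg.GolayPt) (hd : d ∈ Cfsg.dodecads) (x y : Fin 5 ↪ Cfsg.GolayPt) (hx : ∀ i, x i ∈ d) (hy : ∀ i, y i ∈ d) : ∃! g : MulAction.stabilizer Cfsg.M24 d, ∀ i, ((g : Cfsg.M24) : Equiv.Perm Cfsg.GolayPt) (x i) = y i := by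
  obtain ⟨a, ha, had⟩ := Cfsg.Agent.Golay.exists_conj12 hd
  have hmem : ∀ p ∈ d, a⁻¹ p ∈ Cfsg.Spor.squareDodecad := fun p hp => by
    rw [← Equiv.Perm.smul_def, Finset.inv_smul_mem_iff, had]
    exact hp
  obtain ⟨h, hh, hhi⟩ := Cfsg.Agent.Golay.exists_map12' (n := 5) le_rfl (fun i => a⁻¹ (x i))
    (fun i => a⁻¹ (y i)) (a⁻¹.injective.comp x.injective) (a⁻¹.injective.comp y.injective)
    (fun i => hmem _ (hx i)) (fun i => hmem _ (hy i))
  set e := Cfsg.Agent.Golay.stabEquivM12 ha had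
  refine ⟨e.symm ⟨h, hh⟩, fun i => ?_, fun g hg => ?_⟩
  · show (a * h * a⁻¹) (x i) = y i
    rw [Equiv.Perm.mul_apply, Equiv.Perm.mul_apply, hhi i, Equiv.Perm.coe_inv,
      Equiv.apply_symm_apply]
  · rw [MulEquiv.eq_symm_apply]
    refine Subtype.ext (Cfsg.Agent.Golay.eq12_of_five (s := Finset.univ.image fun i => a⁻¹ (x i))
      (e g).2 hh (fun p hp => ?_) ?_ fun p hp => ?_)
    · obtain ⟨i, -, rfl⟩ := Finset.mem_image.1 hp
      exact hmem _ (hx i)
    · exact (Finset.card_image_of_injective (f := fun i => a⁻¹ (x i)) Finset.univ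
        (a⁻¹.injective.comp x.injective)).ge
    · obtain ⟨i, -, rfl⟩ := Finset.mem_image.1 hp
      show (a⁻¹ * ((g : Cfsg.M24) : Equiv.Perm Cfsg.GolayPt) * a) (a⁻¹ (x i)) = h (a⁻¹ (x i))
      rw [hhi i, Equiv.Perm.mul_apply, Equiv.Perm.mul_apply, Equiv.Perm.coe_inv,
        Equiv.apply_symm_apply, hg i]

end Cfsg.Agent.S0384
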