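import Cfsg.Statements.S0389
import Cfsg.Agent.Lib.Golay.M12

set_option autoImplicit false
open scoped Pointwise
open Cfsg

namespace Cfsg.Agent.S0389

/-- The stabiliser of a dodecad and a point on it is 3-transitive on the complementary dodecad. -/
theorem result (d : Finset Cfsg.GolayPt) (hd : d ∈ Cfsg.dodecads) (p : Cfsg.GolayPt) (hp : p ∈ d) (x y : Fin 3 ↪ Cfsg.GolayPt) (hx : ∀ i, x i ∉ d) (hy : ∀ i, y i ∉ d) : ∃ g ∈ MulAction.stabilizer Cfsg.M24 d ⊓ MulAction.stabilizer Cfsg.M24 p, ∀ i, (g : Equiv.Perm Cfsg.GolayPt) (x i) = y i := by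
  obtain ⟨a, ha, had, hap⟩ := Cfsg.Agent.Golay.exists_conj11 hd hp
  have hmem : ∀ q, q ∉ d → a⁻¹ q ∉ Cfsg.Spor.squareDodecad := fun q hq h => by
    rw [← Equiv.Perm.smul_def, Finset.inv_smul_mem_iff, had] at h
    exact hq h
  obtain ⟨h, hh, hhi⟩ := Cfsg.Agent.Golay.exists_mapC' (fun i => a⁻¹ (x i)) (fun i => a⁻¹ (y i))
    (a⁻¹.injective.comp x.injective) (a⁻¹.injective.comp y.injective)
    (fun i => hmem _ (hx i)) (fun i => hmem _ (hy i))
  refine ⟨((Cfsg.Agent.Golay.stabEquivM11 ha had hap).symm ⟨h, hh⟩).1,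
    ((Cfsg.Agent.Golay.stabEquivM11 ha had hap).symm ⟨h, hh⟩).2, fun i => ?_⟩
  show (a * h * a⁻¹) (x i) = y i
  rw [Equiv.Perm.mul_apply, Equiv.Perm.mul_apply, hhi i, Equiv.Perm.coe_inv,
    Equiv.apply_symm_apply]

end Cfsg.Agent.S0389
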