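import Cfsg.Statements.S0439

set_option autoImplicit false
open Cfsg

namespace Cfsg.Agent.S0439

theorem same_pow_three {α : Type*} [DecidableEq α] [Fintype α] (a b c : α) (ab : a ≠ b)
    (ac : a ≠ c) (bc : b ≠ c) : (Equiv.swap a b * Equiv.swap a c) ^ 3 = 1 := by
  have h := pow_orderOf_eq_one (Equiv.swap a b * Equiv.swap a c)
  rwa [(Equiv.Perm.isThreeCycle_swap_mul_swap_same ab ac bc).orderOf] at h

theorem prod_pow {α : Type*} [DecidableEq α] [Fintype α] (a b c d : α) (hab : a ≠ b) (hcd : c ≠ d) :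
    (Equiv.swap a b * Equiv.swap c d) ^ 2 = 1 ∨ (Equiv.swap a b * Equiv.swap c d) ^ 3 = 1 := by
  by_cases hac : a = c
  · subst hac
    by_cases hbd : b = d
    · subst hbd; left; simp
    · right; exact same_pow_three a b d hab hcd hbd
  by_cases had : a = d
  · subst had
    rw [Equiv.swap_comm c a]
    by_cases hbc : b = c
    · subst hbc; left; simp
    · right; exact same_pow_three a b c hab hac hbc
  by_cases hbc : b = c
  · subst hbc
    rw [Equiv.swap_comm a b]
    right; exact same_pow_three b a d hab.symm hcd had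
  by_cases hbd : b = d
  · subst hbd
    rw [Equiv.swap_comm a b, Equiv.swap_comm c b]
    right; exact same_pow_three b a c hab.symm hbc hac
  left
  have hcm : Commute (Equiv.swap a b) (Equiv.swap c d) := by
    apply Equiv.Perm.Disjoint.commute
    intro x
    by_cases h1 : x = a
    · right; subst h1; exact Equiv.swap_apply_of_ne_of_ne hac had
    by_cases h2 : x = b
    · right; subst h2; exact Equiv.swap_apply_of_ne_of_ne hbc hbd
    left; exact Equiv.swap_apply_of_ne_of_ne h1 h2
  rw [hcm.mul_pow]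
  simp [pow_two]


/-- In the symmetric group of degree n ≥ 2, the set of transpositions is a conjugacy class of 3-transpositions which generates the group. -/
theorem result (n : ℕ) (hn : 2 ≤ n) : Cfsg.IsThreeTranspositionClass {σ : Equiv.Perm (Fin n) | σ.IsSwap} := by
  have hfirst : ∀ x ∈ ({σ : Equiv.Perm (Fin n) | σ.IsSwap}), ∀ y ∈ ({σ : Equiv.Perm (Fin n) | σ.IsSwap}),
      (x * y) ^ 2 = 1 ∨ (x * y) ^ 3 = 1 := by
    intro x hx y hy
    obtain ⟨a, b, hab, rfl⟩ := hx
    obtain ⟨c, d, hcd, rfl⟩ := hy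
    exact prod_pow a b c d hab hcd
  refine ⟨⟨fun d hd => Equiv.Perm.IsSwap.orderOf hd, hfirst⟩, ?_, Equiv.Perm.closure_isSwap⟩
  have h01 : (⟨0, by omega⟩ : Fin n) ≠ ⟨1, by omega⟩ := by simp
  refine ⟨_, ⟨_, _, h01, rfl⟩, ?_⟩
  ext σ
  rw [conjugatesOf]
  constructor
  · rintro ⟨a, b, hab, rfl⟩
    exact Equiv.Perm.isConj_swap h01 hab
  · intro h
    obtain ⟨g, hg⟩ := isConj_iff.mp h
    refine ⟨g ⟨0, by omega⟩, g ⟨1, by omega⟩, g.injective.ne h01, ?_⟩
    rw [← hg, Equiv.swap_apply_apply]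

end Cfsg.Agent.S0439
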