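import Cfsg.Statements.S0441
import Cfsg.Agent.Lib.FischerSpace.SimpleDerived

set_option autoImplicit false
open Cfsg

namespace Cfsg.Agent.S0441

/-- Fischer's rank-three property. Let a finite group be generated by a conjugacy class D of 3-transpositions, with non-abelian simple commutator subgroup. Then for a in D there are members of D other than a commuting with a and members not commuting with a, and the centraliser of a acts transitively on each of these two sets. -/
theorem result {G : Type*} [Group G] [Finite G] {D : Set G} (hD : Cfsg.IsThreeTranspositionClass D) (hsimple : IsSimpleGroup (commutator G)) (hnonab : ∃ x y : commutator G, x * y ≠ y * x) {a : G} (ha : a ∈ D) : (∃ b ∈ D, b ≠ a ∧ Commute a b) ∧ (∃ c ∈ D, ¬ Commute a c) ∧ (∀ b ∈ D, ∀ b' ∈ D, b ≠ a → b' ≠ a → Commute a b → Commute a b' → ∃ g : G, Commute g a ∧ g * b * g⁻¹ = b') ∧ (∀ c ∈ D, ∀ c' ∈ D, ¬ Commute a c → ¬ Commute a c' → ∃ g : G, Commute g a ∧ g * c * g⁻¹ = c') := by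
  have hnc : ¬ IsMulCommutative (commutator G) := fun h => by
    obtain ⟨x, y, hxy⟩ := hnonab
    exact hxy (h.is_comm.comm x y)
  have hinv := Cfsg.Agent.FischerSpace.class_invariant hD
  have hwid : ∃ u ∈ D, ∃ v ∈ D, u ≠ v ∧ Commute u v := by
    by_contra hall
    push Not at hall
    have hw : ∀ u ∈ D, ∀ v ∈ D, Commute u v → u = v := fun u hu v hv h => by
      by_contra e
      exact hall u hu v hv e h
    haveI : Fact (Nat.Prime 3) := ⟨Nat.prime_three⟩
    have hle : commutator G ≤ Cfsg.pCore 3 G :=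
      Cfsg.Agent.FischerSpace.commutator_le_of_index_le_two
        (Cfsg.Agent.FischerSpace.index_le_two_of_one_coset hD ha fun e he => by
          rw [Cfsg.Agent.FischerSpace.inv_eq hD.1 ha]
          exact Cfsg.Agent.FischerSpace.widthOne_mul_mem_pCore hD.1 hinv hw ha he)
    have hp : IsPGroup 3 (commutator G) :=
      Cfsg.Agent.Thompson.isPGroup_pCore.to_le hle
    haveI := hsimple
    haveI := hp.center_nontrivial
    apply hnc
    rcases IsSimpleGroup.eq_bot_or_eq_top_of_normal (Subgroup.center (commutator G)) inferInstance with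
      h | h
    · exact absurd h ((Subgroup.nontrivial_iff_ne_bot _).1 this)
    · exact ⟨⟨fun x y => (Subgroup.mem_center_iff.1 (h ▸ Subgroup.mem_top y) x)⟩⟩
  have hD2 : ∃ u ∈ D, ∃ v ∈ D, u ≠ v := by
    obtain ⟨u, hu, v, hv, h, -⟩ := hwid
    exact ⟨u, hu, v, hv, h⟩
  have hprim := Cfsg.Agent.FischerSpace.primitive_of_simple_commutator hD hD2 hsimple hnc
  obtain ⟨h2, h3, hcon⟩ := Cfsg.Agent.FischerSpace.primitive_facts ⟨hD.1, hinv, hD.2.2⟩ hprim hwid
  refine ⟨?_, Cfsg.Agent.FischerSpace.exists_not_commute hD hD2 ha, ?_, fun c hc c' hc' hac hac' =>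
    Cfsg.Agent.FischerSpace.transitive_noncommuting hD h2 h3 hcon ha hc hac hc' hac'⟩
  · obtain ⟨u, hu, v, hv, huv, hcuv⟩ := hwid
    obtain ⟨g, rfl⟩ := Cfsg.Agent.FischerSpace.class_isConj hD hu ha
    exact ⟨g * v * g⁻¹, hinv g v hv, fun e => huv (by simpa using e.symm),
      (Cfsg.Agent.FischerSpace.commute_conj_iff g _ _).2 hcuv⟩
  · intro b hb b' hb' hba hba' hab hab'
    obtain ⟨g, hg, hgb⟩ :=
      Cfsg.Agent.FischerSpace.transitive_commuting hD hD2 h2 h3 ha hb hba hab hb' hba' hab'
    refine ⟨g, ?_, hgb⟩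
    have hle : Subgroup.closure {z : G | z ∈ D ∧ z ≠ a ∧ Commute a z} ≤ Subgroup.centralizer {a} :=
      (Subgroup.closure_le _).2 fun u hu => Subgroup.mem_centralizer_singleton_iff.2 hu.2.2.eq.symm
    exact Subgroup.mem_centralizer_singleton_iff.1 (hle hg)

end Cfsg.Agent.S0441
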