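import Cfsg.Statements.S0442

set_option autoImplicit false
open Cfsg

namespace Cfsg.Agent.S0442

/-- A standard trick for producing elements of an involution centraliser: for an involution a and an element g, let b be the conjugate g⁻¹ * a * g. If a * b has odd order 2m + 1 then g * (a * b) ^ m commutes with a; if a * b has even order 2m then (a * b) ^ m and (a * (g * a * g⁻¹)) ^ m commute with a. -/
theorem result {G : Type*} [Group G] (a g : G) (ha : orderOf a = 2) : (∀ m : ℕ, orderOf (a * (g⁻¹ * a * g)) = 2 * m + 1 → Commute (g * (a * (g⁻¹ * a * g)) ^ m) a) ∧ (∀ m : ℕ, orderOf (a * (g⁻¹ * a * g)) = 2 * m → Commute ((a * (g⁻¹ * a * g)) ^ m) a ∧ Commute ((a * (g * a * g⁻¹)) ^ m) a) := by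
  have a2 : a * a = 1 := by
    have h := pow_orderOf_eq_one a
    rwa [ha, pow_two] at h
  have ai : a⁻¹ = a := inv_eq_of_mul_eq_one_right a2
  have hbi : (g⁻¹ * a * g)⁻¹ = g⁻¹ * a * g := by simp [mul_assoc, ai]
  have comm : ∀ (b : G), b⁻¹ = b → ∀ k : ℕ, (a * b) ^ k * a = a * ((a * b) ^ k)⁻¹ := by
    intro b hb k
    have hs : SemiconjBy a ((a * b)⁻¹) (a * b) := by
      unfold SemiconjBy
      rw [mul_inv_rev, hb, ai, mul_assoc]
    have h := (hs.pow_right k).eq
    rw [inv_pow] at h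
    exact h.symm
  refine ⟨fun m hm => ?_, fun m hm => ?_⟩
  · generalize hb : g⁻¹ * a * g = b at hm hbi ⊢
    have h2 : b * (a * b) ^ m = (a * b) ^ m * a := by
      rw [comm b hbi m]
      have h3 : ((a * b) ^ m)⁻¹ = (a * b) * (a * b) ^ m :=
        inv_eq_of_mul_eq_one_right (by rw [← mul_assoc, ← pow_succ, ← pow_add, show m + 1 + m = 2 * m + 1 by omega, ← hm, pow_orderOf_eq_one])
      rw [h3, ← mul_assoc, ← mul_assoc a a b, a2, one_mul]
    show g * (a * b) ^ m * a = a * (g * (a * b) ^ m)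
    rw [mul_assoc, ← h2, ← hb]
    simp [mul_assoc]
  · have heven : ∀ b : G, b⁻¹ = b → orderOf (a * b) = 2 * m → Commute ((a * b) ^ m) a := by
      intro b hb hm'
      have h1 : ((a * b) ^ m)⁻¹ = (a * b) ^ m := by
        rw [inv_eq_iff_mul_eq_one, ← pow_add, ← two_mul, ← hm', pow_orderOf_eq_one]
      have h2 := comm b hb m
      rwa [h1] at h2
    refine ⟨heven _ hbi hm, heven _ (by simp [mul_assoc, ai]) ?_⟩
    rw [← hm]
    have e : a * (g * a * g⁻¹) = (MulAut.conj g) ((a * (g⁻¹ * a * g))⁻¹) := by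
      simp [mul_assoc, ai]
    rw [e, MulEquiv.orderOf_eq, orderOf_inv]

end Cfsg.Agent.S0442
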