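import Cfsg.Statements.S0448
import Cfsg.Agent.J1Cent38.Main

set_option autoImplicit false
open Cfsg

namespace Cfsg.Agent.S0448

/-- Janko's first group: a finite simple group with a 2-central involution whose centraliser is isomorphic to (cyclic of order 2) × (alternating group of degree 5) has order 175560. -/
theorem result {G : Type*} [Group G] [Finite G] [IsSimpleGroup G] (t : G) (ht : Cfsg.IsTwoCentralInvolution t) (e : Subgroup.centralizer ({t} : Set G) ≃* Multiplicative (ZMod 2) × alternatingGroup (Fin 5)) : Cfsg.IsJ1 G := by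
  obtain ⟨h2, P, hP, hPc⟩ := ht
  haveI : Fact (Nat.Prime 2) := ⟨Nat.prime_two⟩
  have hC : Nat.card (Subgroup.centralizer ({t} : Set G)) = 120 := by
    rw [Nat.card_congr e.toEquiv, Nat.card_eq_fintype_card]; rfl
  have hle : (P : Subgroup G) ≤ Subgroup.centralizer ({t} : Set G) := fun x hx =>
    Subgroup.mem_centralizer_singleton_iff.2 (hPc x hx)
  have hd : Nat.card (P : Subgroup G) ∣ 120 := hC ▸ Subgroup.card_dvd_of_le hle
  have h8 : 8 ∣ Nat.card (P : Subgroup G) := by
    obtain ⟨Q, hQ⟩ := Sylow.exists_subgroup_card_pow_prime (G := Subgroup.centralizer ({t} : Set G)) 2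
      (n := 3) (by rw [hC]; norm_num)
    obtain ⟨T, hT⟩ := ((IsPGroup.of_card (n := 3) hQ).map (Subgroup.centralizer ({t} : Set G)).subtype).exists_le_sylow
    have h := Subgroup.card_dvd_of_le hT
    rw [Subgroup.card_map_of_injective (Subgroup.subtype_injective _), hQ] at h
    rw [Sylow.card_eq_multiplicity] at h ⊢
    simpa using h
  obtain ⟨k, hk⟩ := IsPGroup.iff_card.1 P.2
  have hk3 : k = 3 := by
    rw [hk] at hd h8
    rw [show (8 : ℕ) = 2 ^ 3 by norm_num, Nat.pow_dvd_pow_iff_le_right (by norm_num)] at h8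
    by_contra hne
    have h16 : 2 ^ 4 ∣ 120 := (Nat.pow_dvd_pow 2 (by omega : 4 ≤ k)).trans hd
    norm_num at h16
  exact ⟨inferInstance, J1Cent38.card_eq ⟨t, h2, e, fun T => by
    rw [T.card_eq_multiplicity, ← P.card_eq_multiplicity, hk, hk3]; rfl⟩⟩

end Cfsg.Agent.S0448
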