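import Cfsg.Statements.S0459
import Cfsg.Agent.SporB.Ru.Main

set_option autoImplicit false
open Cfsg

namespace Cfsg.Agent.S0459

/-- The Rudvalis group exists as a transitive permutation group of degree 4060: simple of order 145926144000, with point stabiliser of order 35942400 containing a simple subgroup of order 17971200 (the order of the Tits group). -/
theorem result : ∃ H : Subgroup (Equiv.Perm (Fin 4060)), Cfsg.IsRu H ∧ MulAction.IsPretransitive H (Fin 4060) ∧ Nat.card (MulAction.stabilizer H (0 : Fin 4060)) = 35942400 ∧ ∃ T : Subgroup (MulAction.stabilizer H (0 : Fin 4060)), Cfsg.IsTits T := by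
  refine ⟨SporB.Ru.sg [0, 2], ⟨SporB.Ru.simple_H, SporB.Ru.g0_step.1⟩, ?_, ?_, ?_⟩
  · constructor
    intro x y
    obtain ⟨g, hg, hgx⟩ := SporB.Ru.g0_step.2.2 x
    obtain ⟨k, hk, hky⟩ := SporB.Ru.g0_step.2.2 y
    refine ⟨⟨k * g⁻¹, mul_mem hk (inv_mem hg)⟩, ?_⟩
    show (k * g⁻¹) x = y
    rw [Equiv.Perm.mul_apply, ← hgx, ← hky]
    exact congrArg k (Equiv.symm_apply_apply g 0)
  · have e : MulAction.stabilizer (SporB.Ru.sg [0, 2]) (0 : Fin 4060) =
        (SporB.Ru.sg [4, 6]).subgroupOf (SporB.Ru.sg [0, 2]) := by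
      rw [← SporB.Ru.g0_step.2.1]
      ext g
      exact ⟨fun h => ⟨g.2, h⟩, fun h => h.2⟩
    rw [e, Nat.card_congr (Subgroup.subgroupOfEquivOfLe SporB.Ru.g00).toEquiv, SporB.Ru.card_g1]
  · have hle : (SporB.Ru.sg [16, 18]).subgroupOf (SporB.Ru.sg [0, 2]) ≤
        MulAction.stabilizer (SporB.Ru.sg [0, 2]) (0 : Fin 4060) := by
      intro g hg
      have h : (g : Equiv.Perm (Fin 4060)) ∈ SporB.Ru.sg [4, 6] := SporB.Ru.tg hg
      rw [← SporB.Ru.g0_step.2.1] at h
      exact h.2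
    let e := (Subgroup.subgroupOfEquivOfLe hle).trans
      (Subgroup.subgroupOfEquivOfLe (SporB.Ru.tg.trans SporB.Ru.g00))
    refine ⟨_, @MulEquiv.isSimpleGroup _ _ _ _ SporB.Ru.simple_T e, ?_⟩
    rw [Nat.card_congr e.toEquiv, SporB.Ru.card_t0]

end Cfsg.Agent.S0459
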