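import Cfsg.Statements.S0478
import Cfsg.Agent.J3Cert.Simple

set_option autoImplicit false
set_option maxRecDepth 100000
open Cfsg

namespace Cfsg.Agent.S0478

open Cfsg.Spor Cfsg.Agent.J3Cert
open scoped Matrix

/-- The field with four elements. -/
abbrev K4 : Type := QuadraticAlgebra (ZMod 2) 1 1

instance fact_root4 : Fact (∀ r : ZMod 2, r ^ 2 ≠ 1 + 1 * r) := ⟨by decide⟩
instance fintypeK4 : Fintype K4 := Fintype.ofEquiv _ (QuadraticAlgebra.equivProd (1 : ZMod 2) 1).symm

theorem card_K4 : Fintype.card K4 = 4 :=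
  (Fintype.card_congr (QuadraticAlgebra.equivProd (1 : ZMod 2) 1)).trans rfl

/-- A primitive cube root of unity. -/
def om : K4 := ⟨0, 1⟩

theorem om_quad : om ^ 2 + om + 1 = 0 := by decide +kernel

/-- The criterion for preserving the standard form, entry by entry. -/
def Uni (M : Matrix Cfsg.Spor.F9 Cfsg.Spor.F9 K4) : Prop :=
  ∀ i j, ∑ k, M k i * (M k j * M k j) = if i = j then 1 else 0

theorem uni_gens : ∀ Z : Cfsg.Spor.F9, Uni (j3A K4 om Z) ∧ Uni (j3E K4 om Z) ∧ Uni (j3D K4 om Z) ∧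
    (Z ≠ 0 → Uni (j3B K4 Z) ∧ Uni (j3C K4 Z)) := by
  unfold Uni
  decide +kernel

theorem uni_of_gen {M : Matrix Cfsg.Spor.F9 Cfsg.Spor.F9 K4} (h : M ∈ j3Gens K4 om) : Uni M := by
  rcases h with (((⟨Z, rfl⟩ | ⟨Z, rfl⟩) | ⟨Z, rfl⟩) | ⟨Z, hZ, rfl⟩) | ⟨Z, hZ, rfl⟩
  exacts [(uni_gens Z).1, (uni_gens Z).2.1, (uni_gens Z).2.2.1, ((uni_gens Z).2.2.2 hZ).1,
    ((uni_gens Z).2.2.2 hZ).2]

/-- Indices as `Fin 9`. -/
noncomputable def idx : Cfsg.Spor.F9 ≃ Fin 9 :=
  Fintype.equivFinOfCardEq (by simp [Cfsg.Spor.F9])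

/-- The matrix on `Fin 9`. -/
noncomputable def toFin : GL Cfsg.Spor.F9 K4 →* Matrix (Fin 9) (Fin 9) K4 :=
  (Matrix.reindexAlgEquiv K4 K4 idx).toAlgHom.toMonoidHom.comp (Units.coeHom _)

/-- The invertible matrices preserving the form. -/
noncomputable def isom : Subgroup (GL Cfsg.Spor.F9 K4) := Cfsg.preserving toFin (Cfsg.hermForm 9 K4 2)

theorem frob2 : ∀ x y : K4, (x + y) ^ 2 = x ^ 2 + y ^ 2 := by
  have h : ∀ a b c d : ZMod 2, ((⟨a, b⟩ : K4) + ⟨c, d⟩) * ((⟨a, b⟩ : K4) + ⟨c, d⟩) =
      (⟨a, b⟩ : K4) * ⟨a, b⟩ + (⟨c, d⟩ : K4) * ⟨c, d⟩ := by decide +kernel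
  intro x y
  rw [pow_two, pow_two, pow_two]
  exact h x.re x.im y.re y.im

theorem preserves_of_uni {g : GL Cfsg.Spor.F9 K4} (h : Uni (g : Matrix Cfsg.Spor.F9 Cfsg.Spor.F9 K4)) :
    g ∈ isom := by
  intro u v
  let sq : K4 →+* K4 :=
    { toFun := fun x => x ^ 2, map_one' := one_pow 2, map_mul' := fun a b => mul_pow a b 2,
      map_zero' := zero_pow two_ne_zero, map_add' := frob2 }
  set M := toFin g with hM
  have hMM : Mᵀ * M.map sq = 1 := by
    ext i j : 1
    rw [Matrix.mul_apply, ← idx.sum_comp, Matrix.one_apply]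
    refine Eq.trans (Finset.sum_congr rfl fun k _ => ?_) ((h (idx.symm i) (idx.symm j)).trans ?_)
    · simp [hM, toFin, sq, pow_two]
    · simp
  have e : (fun i => (M.mulVec v i) ^ 2) = (M.map sq).mulVec (fun i => v i ^ 2) := by
    funext i
    show sq (M.mulVec v i) = _
    simp [Matrix.mulVec, dotProduct, map_sum, sq, mul_pow]
  show dotProduct (M.mulVec u) (fun i => (M.mulVec v i) ^ 2) = dotProduct u (fun i => v i ^ 2)
  rw [e, Matrix.dotProduct_mulVec, Matrix.vecMul_mulVec, hMM, Matrix.vecMul_one]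

theorem four : Four K4 om := four_of_card card_K4 om_quad

theorem mem_isom (g : threeJ3 K4 om) : (g : GL Cfsg.Spor.F9 K4) ∈ isom :=
  ((Subgroup.closure_le isom).2 fun _ hx => preserves_of_uni (uni_of_gen hx) :
    threeJ3 K4 om ≤ isom) g.2

theorem hom_trivial {G : Type*} [Group G] (δ : G →* K4)
    (hgen : Subgroup.closure {x : G | x ^ 19 = 1} = ⊤) (g : G) : δ g = 1 := by
  have hg : g ∈ Subgroup.closure {x : G | x ^ 19 = 1} := hgen.symm.le (Subgroup.mem_top g)
  induction hg using Subgroup.closure_induction with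
  | mem x hx =>
    have h19 : δ x ^ 19 = 1 := by rw [← map_pow, show x ^ 19 = 1 from hx, map_one]
    have hne : δ x ≠ 0 := fun h0 => by rw [h0, zero_pow (by norm_num)] at h19; exact zero_ne_one h19
    have h3 : δ x ^ 3 = 1 := by
      have := FiniteField.pow_card_sub_one_eq_one (δ x) hne
      rwa [card_K4] at this
    calc δ x = δ x * (δ x ^ 3) ^ 6 := by rw [h3, one_pow, mul_one]
      _ = δ x ^ 19 := by ring
      _ = 1 := h19
  | one => exact map_one δ
  | mul a b _ _ ha hb => rw [map_mul, ha, hb, one_mul]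
  | inv a _ ha =>
    have h1 : δ a * δ a⁻¹ = 1 := by rw [← map_mul, mul_inv_cancel, map_one]
    rwa [ha, one_mul] at h1

/-- The determinant on the nine-dimensional group. -/
noncomputable def detHom : threeJ3 K4 om →* K4 :=
  Matrix.detMonoidHom.comp (toFin.comp (threeJ3 K4 om).subtype)

theorem det_one (g : threeJ3 K4 om) : (toFin g).det = 1 := by
  have h := hom_trivial detHom (closure_nineteen (F := K4) (ω := om) four) g
  simp only [detHom, MonoidHom.comp_apply, Subgroup.coe_subtype, Matrix.coe_detMonoidHom] at h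
  exact h

/-- The embedding. -/
noncomputable def emb : threeJ3 K4 om →* Cfsg.SU 9 K4 2 where
  toFun g := ⟨⟨toFin g, det_one g⟩, mem_isom g⟩
  map_one' := Subtype.ext (Subtype.ext (map_one toFin))
  map_mul' a b := Subtype.ext (Subtype.ext (map_mul toFin _ _))

theorem emb_injective : Function.Injective emb := fun a b h => by
  have h' : toFin a = toFin b := congrArg (fun x : Cfsg.SU 9 K4 2 => x.1.1) h
  exact Subtype.ext (Units.ext ((Matrix.reindexAlgEquiv K4 K4 idx).injective h'))

theorem center_map {G H : Type*} [Group G] [Group H] (φ : G ≃* H) :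
    (Subgroup.center G).map φ.toMonoidHom = Subgroup.center H := by
  ext h
  obtain ⟨g, rfl⟩ := φ.surjective h
  simp [Subgroup.mem_center_iff, φ.surjective.forall, ← map_mul]

/-- A triple cover of Janko's third group inside a unitary group: for a field F with four elements, the special unitary group of dimension 9 (with respect to the form with q = 2) has a subgroup whose centre has order 3 and whose quotient by its centre is simple of order 50232960. -/
theorem result : ∃ (F : Type) (_ : Field F) (_ : Fintype F), Fintype.card F = 4 ∧ ∃ H : Subgroup (Cfsg.SU 9 F 2), Nat.card (Subgroup.center H) = 3 ∧ Cfsg.IsJ3 (H ⧸ Subgroup.center H) := by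
  refine ⟨K4, inferInstance, inferInstance, card_K4, emb.range, ?_⟩
  let φ : threeJ3 K4 om ≃* emb.range := MonoidHom.ofInjective emb_injective
  refine ⟨?_, ?_⟩
  · rw [← center_map φ, ← Nat.card_congr (Subgroup.equivMapOfInjective _ φ.toMonoidHom φ.injective).toEquiv,
      card_center four card_K4]
  · let ψ : J3 K4 om ≃* (emb.range ⧸ Subgroup.center emb.range) :=
      QuotientGroup.congr _ _ φ (center_map φ)
    haveI := simple_J3 four card_K4
    exact ⟨ψ.symm.isSimpleGroup, (Nat.card_congr ψ.toEquiv).symm.trans (card_J3 four card_K4)⟩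

end Cfsg.Agent.S0478
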