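import Cfsg.Statements.S0988
import Cfsg.Agent.Lib.SmallGroups.Counting
import Mathlib.GroupTheory.Perm.Cycle.Type
import Mathlib.Tactic.Ring

set_option autoImplicit false
open Cfsg

namespace Cfsg.Agent.S0988

/-- If a finite simple group has order p^2 * q * r with p, q and r prime, then its order is 60. -/
theorem result {G : Type*} [Group G] [Finite G] [IsSimpleGroup G] (p q r : ℕ) (hp : p.Prime) (hq : q.Prime) (hr : r.Prime) (hG : Nat.card G = p ^ 2 * q * r) : Nat.card G = 60 := by
  classical
  have hp2 := hp.two_le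
  have hq2 := hq.two_le
  have hr2 := hr.two_le
  have hne : ¬ IsMulCommutative G := Cfsg.Agent.SmallGroups.not_comm_of_not_prime (by
    rw [hG]
    exact Nat.not_prime_mul (fun h => hq.ne_one (Nat.eq_one_of_mul_eq_one_left h)) hr.ne_one)
  by_cases hqr : q = r
  · subst hqr
    by_cases hpq : p = q
    · subst hpq
      exfalso
      have : Fact p.Prime := ⟨hp⟩
      exact hne (Cfsg.Agent.SmallGroups.comm_of_isPGroup
        (IsPGroup.of_card (n := 4) (by rw [hG]; ring)))
    · exfalso
      have key : ∀ p q : ℕ, p.Prime → q.Prime → p < q →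
          Nat.card G = p ^ 2 * q ^ 2 → False := by
        intro p q hp hq hlt hG
        have : Fact q.Prime := ⟨hq⟩
        have hqp : ¬ q ∣ p ^ 2 := fun h =>
          absurd (Nat.le_of_dvd hp.pos (hq.dvd_of_dvd_pow h)) (not_le.mpr hlt)
        have hG' : Nat.card G = q ^ 2 * p ^ 2 := by rw [hG]; ring
        obtain ⟨hd, hm⟩ := Cfsg.Agent.SmallGroups.card_sylow_mem hG' hqp
        have hqdvd : q ∣ Nat.card G := by rw [hG]; exact ⟨p ^ 2 * q, by ring⟩
        have h1 := Cfsg.Agent.SmallGroups.card_sylow_ne_one hne hqdvd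
        have h2 := Cfsg.Agent.SmallGroups.two_mul_card_dvd_sylow hne hqdvd
        obtain ⟨i, hi, hn⟩ := (Nat.dvd_prime_pow hp).mp hd
        rw [hn] at hm h1 h2
        interval_cases i
        · simp at h1
        · rw [pow_one, Nat.mod_eq_of_lt hlt] at hm; exact hp.ne_one hm
        · -- q ∣ p ^ 2 - 1, so q = p + 1 and {p, q} = {2, 3}
          have hdiv : q ∣ (p + 1) * (p - 1) := by
            rw [← Nat.sq_sub_sq, one_pow]
            exact (Nat.modEq_iff_dvd' (Nat.one_le_pow _ _ hp.pos)).mp
              (Nat.ModEq.symm (by rw [Nat.ModEq, hm, Nat.one_mod_eq_one.mpr hq.ne_one]))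
          rcases hq.dvd_mul.mp hdiv with h | h
          · have heq : q = p + 1 := by
              have := Nat.le_of_dvd (by omega) h
              omega
            rcases hp.eq_two_or_odd with rfl | hodd
            · subst heq
              rw [hG] at h2
              norm_num at h2
              exact absurd h2 (by decide)
            · have := hp.two_le
              rcases hq.eq_two_or_odd with h3 | h3 <;> omega
          · have := Nat.le_of_dvd (by have := hp.two_le; omega) h
            omega
      rcases lt_or_gt_of_ne hpq with h | h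
      · exact key p q hp hq h (by rw [hG]; ring)
      · exact key q p hq hp h (by rw [hG]; ring)
  wlog hlt : q < r generalizing q r
  · exact this r q hr hq (by rw [hG]; ring) hr2 hq2 (Ne.symm hqr) (lt_of_le_of_ne (not_lt.mp hlt) (Ne.symm hqr))
  -- p ^ 3 r
  by_cases hpq : p = q ∨ p = r
  · exfalso
    obtain ⟨s, hs, hps, hG3⟩ : ∃ s, s.Prime ∧ p ≠ s ∧ Nat.card G = p ^ 3 * s := by
      rcases hpq with rfl | rfl
      · exact ⟨r, hr, hqr, by rw [hG]; ring⟩
      · exact ⟨q, hq, Ne.symm hqr, by rw [hG]; ring⟩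
    have : Fact p.Prime := ⟨hp⟩
    have : Fact s.Prime := ⟨hs⟩
    have hps' : ¬ p ∣ s := fun h => hps ((Nat.prime_dvd_prime_iff_eq hp hs).mp h)
    have hsp : ¬ s ∣ p ^ 3 := fun h =>
      hps ((Nat.prime_dvd_prime_iff_eq hs hp).mp (hs.dvd_of_dvd_pow h)).symm
    have hGs : Nat.card G = s ^ 1 * p ^ 3 := by rw [hG3]; ring
    have hdp : p ∣ Nat.card G := by rw [hG3]; exact ⟨p ^ 2 * s, by ring⟩
    have hds : s ∣ Nat.card G := by rw [hG3]; exact Dvd.intro_left _ rfl
    obtain ⟨hd, hm⟩ := Cfsg.Agent.SmallGroups.card_sylow_mem hG3 hps'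
    have hn1 := Cfsg.Agent.SmallGroups.card_sylow_ne_one hne hdp
    have hnp : Nat.card (Sylow p G) = s := ((Nat.dvd_prime hs).mp hd).resolve_left hn1
    rw [hnp] at hm
    have hsgt : p < s := by
      by_contra h
      rw [Nat.mod_eq_of_lt (lt_of_le_of_ne (not_lt.mp h) (Ne.symm hps))] at hm
      exact hs.ne_one hm
    obtain ⟨hd', hm'⟩ := Cfsg.Agent.SmallGroups.card_sylow_mem hGs hsp
    have hn1' := Cfsg.Agent.SmallGroups.card_sylow_ne_one hne hds
    obtain ⟨i, hi, hns⟩ := (Nat.dvd_prime_pow hp).mp hd'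
    rw [hns] at hm' hn1'
    interval_cases i
    · simp at hn1'
    · rw [pow_one, Nat.mod_eq_of_lt hsgt] at hm'; exact hp.ne_one hm'
    · have hdiv : s ∣ (p + 1) * (p - 1) := by
        rw [← Nat.sq_sub_sq, one_pow]
        exact (Nat.modEq_iff_dvd' (Nat.one_le_pow _ _ hp.pos)).mp
          (Nat.ModEq.symm (by rw [Nat.ModEq, hm', Nat.one_mod_eq_one.mpr hs.ne_one]))
      rcases hs.dvd_mul.mp hdiv with h | h
      · have heq : s = p + 1 := by
          have := Nat.le_of_dvd (by omega) h
          omega
        rcases hp.eq_two_or_odd with rfl | hodd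
        · subst heq
          have h2 := Cfsg.Agent.SmallGroups.two_mul_card_dvd_sylow (p := 2) hne hdp
          rw [hnp, hG3] at h2
          norm_num at h2
          exact absurd h2 (by decide)
        · rcases hs.eq_two_or_odd with h3 | h3 <;> omega
      · have := Nat.le_of_dvd (by omega) h
        omega
    · -- p ^ 3 (s - 1) elements of order s leave room for one Sylow p-subgroup
      apply hn1
      have hS : ∀ S : Sylow s G, Nat.card ↥(S : Subgroup G) = s := fun S => by
        simpa using Cfsg.Agent.SmallGroups.card_sylow_eq hGs hsp S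
      have hcnt := Cfsg.Agent.SmallGroups.card_orderOf_eq hS
      rw [hns] at hcnt
      have := Fintype.ofFinite G
      rw [Nat.card_eq_fintype_card, Fintype.card_subtype] at hcnt
      have hcompl : ((Finset.univ.filter fun g : G => orderOf g = s)ᶜ).card = p ^ 3 := by
        rw [Finset.card_compl, hcnt, ← Nat.card_eq_fintype_card, hG3, Nat.mul_sub, mul_one,
          Nat.sub_sub_self (Nat.le_mul_of_pos_right _ hs.pos)]
      have heq : ∀ P : Sylow p G, ((P : Subgroup G) : Set G).toFinset =
          (Finset.univ.filter fun g : G => orderOf g = s)ᶜ := by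
        intro P
        refine Finset.eq_of_subset_of_card_le (fun g hg => ?_) ?_
        · simp only [Set.mem_toFinset, SetLike.mem_coe] at hg
          simp only [Finset.mem_compl, Finset.mem_filter, Finset.mem_univ, true_and]
          intro h
          have h1 := Subgroup.orderOf_dvd_natCard (P : Subgroup G) hg
          rw [h, Cfsg.Agent.SmallGroups.card_sylow_eq hG3 hps' P] at h1
          exact hsp h1
        · rw [hcompl, Set.toFinset_card, ← Nat.card_eq_fintype_card]
          exact (Cfsg.Agent.SmallGroups.card_sylow_eq hG3 hps' P).ge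
      exact Nat.card_eq_one_iff_unique.mpr ⟨⟨fun A B => Sylow.ext
        (SetLike.coe_injective (Set.toFinset_inj.mp ((heq A).trans (heq B).symm)))⟩,
        inferInstance⟩
  -- three distinct primes
  rw [not_or] at hpq
  obtain ⟨hpq, hpr⟩ := hpq
  have hGdvd : ∀ {s}, s.Prime → s ∣ Nat.card G → s = p ∨ s = q ∨ s = r := by
    intro s hs h
    rw [hG] at h
    rcases hs.dvd_mul.mp h with h | h
    · rcases hs.dvd_mul.mp h with h | h
      · exact Or.inl ((Nat.prime_dvd_prime_iff_eq hs hp).mp (hs.dvd_of_dvd_pow h))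
      · exact Or.inr (Or.inl ((Nat.prime_dvd_prime_iff_eq hs hq).mp h))
    · exact Or.inr (Or.inr ((Nat.prime_dvd_prime_iff_eq hs hr).mp h))
  have hmf : (Nat.card G).minFac = p := by
    have hmp := Nat.minFac_prime (show Nat.card G ≠ 1 from Finite.one_lt_card.ne')
    rcases hGdvd hmp (Nat.minFac_dvd _) with h | h | h
    · exact h
    · exfalso
      have : Fact q.Prime := ⟨hq⟩
      obtain ⟨Q⟩ := (inferInstance : Nonempty (Sylow q G))
      refine Cfsg.Agent.SmallGroups.not_isCyclic_sylow_minFac hne h Q ?_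
      refine isCyclic_of_prime_card (p := q) ?_
      have := Cfsg.Agent.SmallGroups.card_sylow_eq (a := 1) (m := p ^ 2 * r)
        (by rw [hG]; ring) (fun h => by
          rcases hq.dvd_mul.mp h with h | h
          · exact hpq ((Nat.prime_dvd_prime_iff_eq hq hp).mp (hq.dvd_of_dvd_pow h)).symm
          · exact hqr ((Nat.prime_dvd_prime_iff_eq hq hr).mp h)) Q
      simpa using this
    · exfalso
      have := Nat.minFac_le_of_dvd hq2 (show q ∣ Nat.card G by rw [hG]; exact ⟨p ^ 2 * r, by ring⟩)
      omega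
  have hplt : p < q := lt_of_le_of_ne (hmf ▸ Nat.minFac_le_of_dvd hq2
    (show q ∣ Nat.card G by rw [hG]; exact ⟨p ^ 2 * r, by ring⟩)) hpq
  have : Fact p.Prime := ⟨hp⟩
  have : Fact r.Prime := ⟨hr⟩
  have hGp : Nat.card G = p ^ 2 * (q * r) := by rw [hG]; ring
  have hpm : ¬ p ∣ q * r := fun h => by
    rcases hp.dvd_mul.mp h with h | h
    · exact hpq ((Nat.prime_dvd_prime_iff_eq hp hq).mp h)
    · exact hpr ((Nat.prime_dvd_prime_iff_eq hp hr).mp h)
  obtain ⟨P⟩ := (inferInstance : Nonempty (Sylow p G))
  have hPc := Cfsg.Agent.SmallGroups.card_sylow_eq hGp hpm P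
  have hncyc := Cfsg.Agent.SmallGroups.not_isCyclic_sylow_minFac hne hmf P
  have hexp := (not_isCyclic_iff_exponent_eq_prime hp hPc).mp hncyc
  set C := Subgroup.centralizer ((P : Subgroup G) : Set G)
  set N := Subgroup.normalizer ((P : Subgroup G) : Set G)
  have hPC : (P : Subgroup G) ≤ C := by
    have := IsPGroup.isMulCommutative_of_card_eq_prime_sq hPc
    exact Subgroup.le_centralizer_iff_isMulCommutative.mpr this
  have hk1 : C.relIndex N ≠ 1 := fun h =>
    Cfsg.Agent.SmallGroups.not_normalizer_le_centralizer hne (hmf ▸ Nat.minFac_dvd _) P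
      (Subgroup.relIndex_eq_one.mp h)
  have hkd : C.relIndex N ∣ q * r := by
    rw [← Cfsg.Agent.SmallGroups.index_sylow_eq hGp hpm P]
    exact (Subgroup.relIndex_dvd_of_le_left _ hPC).trans
      (Subgroup.relIndex_dvd_index_of_le Subgroup.le_normalizer)
  -- a prime s > p dividing |N : C| acts without nontrivial fixed lines, so s ∣ p + 1
  obtain ⟨s, hs, hsk⟩ := Nat.exists_prime_and_dvd hk1
  have hsqr : s = q ∨ s = r := by
    rcases hs.dvd_mul.mp (hsk.trans hkd) with h | h
    · exact Or.inl ((Nat.prime_dvd_prime_iff_eq hs hq).mp h)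
    · exact Or.inr ((Nat.prime_dvd_prime_iff_eq hs hr).mp h)
  have hsp : p < s := by rcases hsqr with rfl | rfl <;> omega
  have hsdvd : s ∣ (p + 1) * (p - 1) := by
    have : Fact s.Prime := ⟨hs⟩
    have key : C.relIndex N = Nat.card ↥((P : Subgroup G).normalizerMonoidHom).range := by
      rw [← Subgroup.index_ker, Subgroup.normalizerMonoidHom_ker]
      rfl
    obtain ⟨σ, hσ⟩ := exists_prime_orderOf_dvd_card' s (key ▸ hsk)
    set τ : MulAut ↥(P : Subgroup G) := σ.1
    have hτ : orderOf τ = s := (Subgroup.orderOf_coe σ).trans hσ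
    set f : Equiv.Perm ↥(P : Subgroup G) := MulAut.toPerm _ τ
    have hfo : orderOf f = s := (orderOf_injective _ MulEquiv.toEquiv_injective τ).trans hτ
    have := Fintype.ofFinite ↥(P : Subgroup G)
    have hmod := (Equiv.Perm.card_compl_support_modEq (p := s) (n := 1) (σ := f)
      (by rw [pow_one, ← hfo, pow_orderOf_eq_one])).symm
    let H := τ.toMonoidHom.eqLocus (MonoidHom.id _)
    have hH : f.supportᶜ.card = Nat.card ↥H := by
      rw [← Nat.card_eq_finsetCard]
      refine Nat.card_congr (Equiv.subtypeEquivRight fun x => ?_)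
      rw [Finset.mem_compl, Equiv.Perm.notMem_support]
      exact Iff.rfl
    rw [hH, ← Nat.card_eq_fintype_card (α := ↥(P : Subgroup G)), hPc] at hmod
    obtain ⟨j, hj, hHj⟩ := (Nat.dvd_prime_pow hp).mp (hPc ▸ H.card_subgroup_dvd_card)
    rw [hHj] at hmod
    interval_cases j
    · rw [← Nat.sq_sub_sq, one_pow]
      exact (Nat.modEq_iff_dvd' (Nat.one_le_pow _ _ hp.pos)).mp (hmod.symm.trans (by rfl))
    · have h1 : p ≤ p ^ 2 := Nat.le_self_pow two_ne_zero p
      have h2 : s ∣ p ^ 2 - p := (Nat.modEq_iff_dvd' h1).mp (by simpa using hmod.symm)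
      rw [sq, ← Nat.mul_sub_one] at h2
      rcases hs.dvd_mul.mp h2 with h | h
      · exact absurd (Nat.le_of_dvd hp.pos h) (not_le.mpr hsp)
      · exact dvd_mul_of_dvd_right h _
    · exfalso
      have htop := Subgroup.eq_top_of_card_eq H (hHj.trans hPc.symm)
      have : τ = 1 := MulEquiv.ext fun x => (show x ∈ H from htop ▸ Subgroup.mem_top x)
      rw [this, orderOf_one] at hτ
      exact hs.ne_one hτ.symm
  have heq : s = p + 1 := by
    rcases hs.dvd_mul.mp hsdvd with h | h
    · have := Nat.le_of_dvd (by omega) h; omega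
    · have := Nat.le_of_dvd (by omega) h; omega
  have hp_two : p = 2 := by
    rcases hp.eq_two_or_odd with h | h
    · exact h
    · rcases hs.eq_two_or_odd with h3 | h3 <;> omega
  subst hp_two
  have hq3 : q = 3 := by rcases hsqr with rfl | rfl <;> omega
  subst hq3
  have hrm : ¬ r ∣ 12 := by
    intro h
    have hle : r ≤ 12 := Nat.le_of_dvd (by norm_num) h
    interval_cases r <;> first | omega | (norm_num at hr)
  have hG12 : Nat.card G = r ^ 1 * 12 := by rw [hG]; ring
  obtain ⟨hd, hm⟩ := Cfsg.Agent.SmallGroups.card_sylow_mem hG12 hrm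
  have hn1 := Cfsg.Agent.SmallGroups.card_sylow_ne_one hne (p := r)
    (show r ∣ Nat.card G by rw [hG]; exact Dvd.intro_left _ rfl)
  have hnle : Nat.card (Sylow r G) ≤ 12 := Nat.le_of_dvd (by norm_num) hd
  have hrle : r ≤ 11 := by
    by_contra hgt
    rcases eq_or_lt_of_le (show 12 ≤ r by omega) with h12 | h12
    · subst h12; norm_num at hr
    · rw [Nat.mod_eq_of_lt (by omega)] at hm; exact hn1 hm
  rw [hG]
  obtain ⟨R⟩ := (inferInstance : Nonempty (Sylow r G))
  interval_cases r <;> first | omega | (norm_num at hr; done) | skip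
  · -- r = 7
    generalize hgen : Nat.card (Sylow 7 G) = n at hd hm hn1 hnle
    interval_cases n <;> omega
  · -- r = 11
    have hn12 : Nat.card (Sylow 11 G) = 12 := by
      generalize hgen : Nat.card (Sylow 11 G) = n at hd hm hn1 hnle ⊢
      interval_cases n <;> omega
    have hN' := Cfsg.Agent.SmallGroups.normalizer_conj_eq_card R hn12 (k := 11)
      (by rw [hG]; norm_num)
    exfalso
    refine Cfsg.Agent.SmallGroups.not_coprime_normalizer hne R
      (by simpa using Cfsg.Agent.SmallGroups.card_sylow_eq hG12 hrm R) ?_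
    rw [hN']; norm_num

end Cfsg.Agent.S0988
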