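import Cfsg.Statements.S0493
import Cfsg.Agent.S0988

set_option autoImplicit false
open Cfsg

namespace Cfsg.Agent.S0493

/-- Necessary conditions on the order `n` of a non-abelian simple group, not of the shape `p²qr`. -/
def Cand (n : ℕ) : Bool :=
  let ps := (List.range (n + 1)).filter fun p => decide (n % p = 0) && decide (2 ≤ p) &&
    ((List.range p).all fun d => decide (d < 2) || decide (p % d ≠ 0))
  match ps with
  | [] => false
  | p :: _ => decide (n % (p * p) = 0) && decide (2 ≤ ps.length) &&
      ps.all fun q => (List.range n).any fun d =>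
        decide (2 ≤ d) && decide (n % (q * d) = 0) && decide (d % q = 1) &&
          (decide (12 ≤ d) || decide (Nat.factorial d % (2 * n) = 0))


/-- A finite simple group of order at most 100 that is not cyclic has order 60. -/
theorem result {G : Type*} [Group G] [Finite G] [IsSimpleGroup G]
    (hG : ¬ IsCyclic G) (h : Nat.card G ≤ 100) : Nat.card G = 60 := by
  have hne : ¬ IsMulCommutative G := fun hc => hG (by
    let _ : CommGroup G := { ‹Group G› with mul_comm := isMulCommutative_iff.mp hc }
    infer_instance)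
  by_contra hcon
  have hnp : ¬ (Nat.card G).Prime := fun hp => hG (isCyclic_of_prime_card (hp := ⟨hp⟩) rfl)
  have hn1 : 1 < Nat.card G := Finite.one_lt_card
  have key : ∀ n ≤ 100, Cand n = true → n = 60 ∨ n = 2 ^ 2 * 2 * 7 := by decide +kernel
  refine (key (Nat.card G) h ?_).elim hcon fun h' =>
    hcon (S0988.result 2 2 7 Nat.prime_two Nat.prime_two (by norm_num) h')
  -- the conditions hold
  unfold Cand
  set n := Nat.card G with hn
  set ps := (List.range (n + 1)).filter fun p => decide (n % p = 0) && decide (2 ≤ p) &&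
    ((List.range p).all fun d => decide (d < 2) || decide (p % d ≠ 0)) with hps
  have hmem : ∀ p, p ∈ ps ↔ p.Prime ∧ p ∣ n := by
    intro p
    simp only [hps, List.mem_filter, List.mem_range, Bool.and_eq_true, decide_eq_true_eq,
      List.all_eq_true, Bool.or_eq_true, Nat.lt_succ_iff]
    constructor
    · rintro ⟨-, ⟨h1, h2⟩, h3⟩
      refine ⟨Nat.prime_def_lt'.mpr ⟨h2, fun m hm2 hmp hd => ?_⟩, Nat.dvd_of_mod_eq_zero h1⟩
      rcases h3 m hmp with h4 | h4
      · omega
      · exact h4 (Nat.mod_eq_zero_of_dvd hd)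
    · rintro ⟨h1, h2⟩
      refine ⟨Nat.le_of_dvd (by omega) h2, ⟨Nat.mod_eq_zero_of_dvd h2, h1.two_le⟩, fun m hm => ?_⟩
      by_cases hm2 : m < 2
      · exact Or.inl (by omega)
      · exact Or.inr fun hd => (Nat.prime_def_lt'.mp h1).2 m (by omega) hm (Nat.dvd_of_mod_eq_zero hd)
  have hsort : ps.Pairwise (· < ·) := List.Pairwise.filter _ List.pairwise_lt_range
  rcases hps' : ps with _ | ⟨p, tl⟩
  · exact absurd ((hmem n.minFac).mpr ⟨Nat.minFac_prime (by omega), n.minFac_dvd⟩) (by simp [hps'])
  rw [hps'] at hmem hsort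
  simp only [Bool.and_eq_true, decide_eq_true_eq, List.all_eq_true, List.any_eq_true, List.mem_range,
    Bool.or_eq_true, List.length_cons]
  obtain ⟨hp, hpn⟩ := (hmem p).mp List.mem_cons_self
  have hmin : n.minFac = p := by
    refine le_antisymm (Nat.minFac_le_of_dvd hp.two_le hpn) ?_
    have hmf := (hmem n.minFac).mpr ⟨Nat.minFac_prime (by omega), n.minFac_dvd⟩
    rcases List.mem_cons.mp hmf with h' | h'
    · exact h'.ge
    · exact (List.rel_of_pairwise_cons hsort h').le
  have : Fact p.Prime := ⟨hp⟩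
  refine ⟨⟨?_, ?_⟩, ?_⟩
  · by_contra hpp
    obtain ⟨P⟩ : Nonempty (Sylow p G) := inferInstance
    apply SmallGroups.not_isCyclic_sylow_minFac hne hmin P
    refine isCyclic_of_prime_card (p := p) ?_
    obtain ⟨k, hk⟩ := IsPGroup.iff_card.mp P.isPGroup'
    have h1 : p ∣ Nat.card (P : Subgroup G) := P.dvd_card_of_dvd_card hpn
    have h2 : ¬ p ^ 2 ∣ Nat.card (P : Subgroup G) := fun h' =>
      hpp (Nat.mod_eq_zero_of_dvd (pow_two p ▸ h'.trans (Subgroup.card_subgroup_dvd_card _)))
    rw [hk] at h1 h2 ⊢
    rcases k with _ | _ | k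
    · exact absurd (Nat.le_of_dvd one_pos h1) (by have := hp.two_le; omega)
    · exact pow_one p
    · exact absurd (pow_dvd_pow p (by omega)) h2
  · rcases tl with _ | ⟨q, tl'⟩
    · exfalso
      apply hne
      apply SmallGroups.comm_of_isPGroup (p := p)
      refine IsPGroup.of_card (n := n.factorization p) ?_
      have h1 : n.primeFactors = {p} := by
        ext q
        rw [Nat.mem_primeFactors, Finset.mem_singleton]
        constructor
        · rintro ⟨h1, h2, -⟩
          simpa using (hmem q).mpr ⟨h1, h2⟩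
        · rintro rfl
          exact ⟨hp, hpn, by omega⟩
      conv_lhs => rw [← hn, ← Nat.prod_factorization_pow_eq_self (show n ≠ 0 by omega)]
      rw [Nat.prod_factorization_eq_prod_primeFactors, h1, Finset.prod_singleton]
    · simp
  · intro q hq
    obtain ⟨hqp, hqn⟩ := (hmem q).mp hq
    have : Fact q.Prime := ⟨hqp⟩
    obtain ⟨Q⟩ : Nonempty (Sylow q G) := inferInstance
    have hd : Nat.card (Sylow q G) ∣ (Q : Subgroup G).index := Q.card_dvd_index
    have hmod : Nat.card (Sylow q G) % q = 1 := by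
      have := card_sylow_modEq_one q G
      rwa [Nat.ModEq, Nat.mod_eq_of_lt hqp.one_lt] at this
    have hqd : q * Nat.card (Sylow q G) ∣ n := by
      rw [hn, ← (Q : Subgroup G).card_mul_index]
      exact Nat.mul_dvd_mul (Q.dvd_card_of_dvd_card hqn) hd
    have h1 := SmallGroups.card_sylow_ne_one hne hqn
    have h0 : 0 < Nat.card (Sylow q G) := Nat.card_pos
    refine ⟨Nat.card (Sylow q G), ?_, ⟨⟨by omega, Nat.mod_eq_zero_of_dvd hqd⟩, hmod⟩,
      Or.inr (Nat.mod_eq_zero_of_dvd (SmallGroups.two_mul_card_dvd_sylow hne hqn))⟩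
    calc Nat.card (Sylow q G) < q * Nat.card (Sylow q G) := lt_mul_left h0 hqp.one_lt
      _ ≤ n := Nat.le_of_dvd (by omega) hqd

end Cfsg.Agent.S0493
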