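import Cfsg.Statements.S0499
import Cfsg.Agent.Classification.AutTwoGroup
import Cfsg.Agent.S0071

set_option autoImplicit false
open Cfsg

namespace Cfsg.Agent.S0499

/-- A non-abelian finite simple group of even order has order divisible by 12, 16 or 56. -/
theorem result {G : Type*} [Group G] [Finite G] [IsSimpleGroup G]
    (hG : ¬ IsMulCommutative G) (h2 : Even (Nat.card G)) :
    12 ∣ Nat.card G ∨ 16 ∣ Nat.card G ∨ 56 ∣ Nat.card G := by
  by_contra hcon
  push Not at hcon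
  obtain ⟨h12, h16, h56⟩ := hcon
  obtain ⟨S⟩ : Nonempty (Sylow 2 G) := inferInstance
  obtain ⟨k, hk⟩ := IsPGroup.iff_card.mp S.isPGroup'
  have hSdvd : Nat.card (S : Subgroup G) ∣ Nat.card G := Subgroup.card_subgroup_dvd_card _
  rw [hk] at hSdvd
  have hk3 : k ≤ 3 := by
    by_contra hc
    exact h16 ((show (16 : ℕ) = 2 ^ 4 by norm_num) ▸ (pow_dvd_pow 2 (by omega : 4 ≤ k)).trans hSdvd)
  have hk0 : k ≠ 0 := by
    intro h
    have h1 := S.card_eq_multiplicity
    rw [hk, h, pow_zero] at h1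
    have h2' : 2 ∣ 2 ^ (Nat.card G).factorization 2 :=
      dvd_pow_self 2 (Nat.Prime.factorization_pos_of_dvd Nat.prime_two Nat.card_pos.ne' h2.two_dvd).ne'
    rw [← h1] at h2'
    norm_num at h2'
  have h3 : 2 ≤ k → ¬ 3 ∣ Nat.card G := fun hk2 h3 => h12 ((show (12 : ℕ) = 2 ^ 2 * 3 by norm_num) ▸
    Nat.Coprime.mul_dvd_of_dvd_of_dvd (by norm_num) ((pow_dvd_pow 2 hk2).trans hSdvd) h3)
  have h7 : 3 ≤ k → ¬ 7 ∣ Nat.card G := fun hk2 h7 => h56 ((show (56 : ℕ) = 2 ^ 3 * 7 by norm_num) ▸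
    Nat.Coprime.mul_dvd_of_dvd_of_dvd (by norm_num) ((pow_dvd_pow 2 hk2).trans hSdvd) h7)
  have hcrit : ∀ Q : Subgroup G, Q ≤ (S : Subgroup G) → ∀ g ∈ Subgroup.normalizer (Q : Set G),
      Nat.Coprime (orderOf g) 2 → g ∈ Subgroup.centralizer (Q : Set G) := by
    intro Q hQ g hg hcop
    obtain ⟨j, hj, hQj⟩ : ∃ j ≤ k, Nat.card Q = 2 ^ j :=
      (Nat.dvd_prime_pow Nat.prime_two).mp (hk ▸ Subgroup.card_dvd_of_le hQ)
    refine Classification.mem_centralizer_of_small ?_ hg ?_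
    · rw [hQj, show (8 : ℕ) = 2 ^ 3 by rfl]
      exact pow_dvd_pow 2 (hj.trans hk3)
    · rw [hQj]
      have hod : orderOf g ∣ Nat.card G := orderOf_dvd_natCard g
      have hc3 : 2 ≤ j → Nat.Coprime (orderOf g) 3 := fun hj2 =>
        ((Nat.prime_three.coprime_iff_not_dvd).mpr fun h => h3 (by omega) (h.trans hod)).symm
      have hc7 : 3 ≤ j → Nat.Coprime (orderOf g) 7 := fun hj3 =>
        (((show Nat.Prime 7 by norm_num).coprime_iff_not_dvd).mpr fun h => h7 (by omega) (h.trans hod)).symm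
      obtain rfl | rfl | rfl | rfl : j = 0 ∨ j = 1 ∨ j = 2 ∨ j = 3 := by omega
      · simp
      · norm_num [Nat.factorial]
        rw [hcop]; norm_num
      · rw [show Nat.factorial (2 ^ 2) = 2 ^ 3 * 3 from rfl,
          Nat.Coprime.gcd_eq_one (Nat.Coprime.mul_right (hcop.pow_right 3) (hc3 le_rfl))]
        exact one_dvd _
      · rw [show Nat.factorial (2 ^ 3) = (2 ^ 7 * 3 ^ 2 * 7) * 5 from rfl]
        have hc : Nat.Coprime (orderOf g) (2 ^ 7 * 3 ^ 2 * 7) :=
          Nat.Coprime.mul_right (Nat.Coprime.mul_right (hcop.pow_right 7) ((hc3 (by norm_num)).pow_right 2))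
            (hc7 le_rfl)
        rw [Nat.Coprime.gcd_mul_left_cancel_right 5 hc.symm]
        exact Nat.gcd_dvd_right _ _
  obtain ⟨N, hNn, hN⟩ := (S0071.result S).mpr hcrit
  rcases hNn.eq_bot_or_eq_top with hbot | htop
  · subst hbot
    have hS : (S : Subgroup G) = ⊤ := Subgroup.isComplement'_bot_left.mp hN
    have : Group.IsNilpotent G := by
      have hp : IsPGroup 2 G := (S.isPGroup'.of_equiv (Subgroup.topEquiv.symm.trans (MulEquiv.subgroupCongr hS).symm).symm)
      exact hp.isNilpotent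
    have : IsCyclic G := inferInstance
    exact hG inferInstance
  · subst htop
    have hS : (S : Subgroup G) = ⊥ := Subgroup.isComplement'_top_left.mp hN
    rw [hS, Subgroup.card_bot] at hk
    have : 1 < 2 ^ k := Nat.one_lt_two_pow hk0
    omega

end Cfsg.Agent.S0499
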