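import Cfsg.Statements.S0502
import Cfsg.Agent.Classification.FourGroup

set_option autoImplicit false
open Cfsg

namespace Cfsg.Agent.S0502
open Cfsg.Agent.Classification

/-- If a finite 2-group has a normal elementary abelian subgroup of order at least 8, then any two of its Klein
four-subgroups are joined by a chain of Klein four-subgroups with consecutive members commuting elementwise. -/
theorem result {P : Type*} [Group P] [Finite P] (hP : IsPGroup 2 P)
    (E : Subgroup P) [E.Normal] (hE : IsMulCommutative E) (hE2 : ∀ e ∈ E, e ^ 2 = 1) (hE8 : 8 ≤ Nat.card E) :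
    Cfsg.IsFourConnected P := by
  have hEc : ∀ x ∈ E, ∀ y ∈ E, x * y = y * x := fun x hx y hy =>
    congrArg Subtype.val (hE.is_comm.comm (⟨x, hx⟩ : E) ⟨y, hy⟩)
  -- a central involution of `P` inside `E`
  have hdvd : 2 ∣ Nat.card E := by
    rcases (hP.to_subgroup E).card_eq_or_dvd with h | h
    · omega
    · exact h
  have hPC : IsPGroup 2 (ConjAct P) := hP.of_equiv ConjAct.toConjAct
  obtain ⟨z', hz'fix, hz'ne⟩ := hPC.exists_fixed_point_of_prime_dvd_card_of_fixed_point E hdvd
    (a := (1 : E)) (fun g => smul_one g)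
  let z : P := z'
  have hzE : z ∈ E := z'.2
  have hz1 : z ≠ 1 := fun h => hz'ne (Subtype.ext h.symm)
  have hzc : ∀ g : P, g * z = z * g := by
    intro g
    have h := congrArg Subtype.val (hz'fix (ConjAct.toConjAct g))
    rw [ConjAct.Subgroup.val_conj_smul, ConjAct.smul_def, ConjAct.ofConjAct_toConjAct] at h
    calc g * z = g * z * g⁻¹ * g := by group
      _ = z * g := by rw [h]
  -- every four-group is joined to a four-group inside `E`
  have hjoin : ∀ U : Subgroup P, IsKleinFour U →
      ∃ W : Subgroup P, IsKleinFour W ∧ W ≤ E ∧ FourJoined U W := by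
    intro U hU
    obtain ⟨a, haU, ha1, haz⟩ : ∃ a ∈ U, a ≠ 1 ∧ a ≠ z := by
      by_contra hc
      push Not at hc
      have : Nat.card U ≤ Nat.card (({1, z} : Set P) : Set P) :=
        Nat.card_le_card_of_injective
          (fun u => ⟨(u : P), by
            by_cases h : (u : P) = 1
            · simp [h]
            · simp [hc u u.2 h]⟩)
          (fun x y h => Subtype.ext (congrArg (fun w => w.1) h))
      rw [hU.card_four, Nat.card_coe_set_eq] at this
      have := Set.ncard_pair (a := (1 : P)) (b := z) (Ne.symm hz1)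
      omega
    have ha2 : a * a = 1 := by have := isKleinFour_sq hU haU; rwa [pow_two] at this
    have hai : a⁻¹ = a := inv_eq_of_mul_eq_one_right ha2
    have hz2 : z ^ 2 = 1 := hE2 z hzE
    -- the centralizer of `a` in `E`
    let f : E →* E :=
      { toFun := fun e => ⟨a * e * a⁻¹ * e, E.mul_mem (Subgroup.Normal.conj_mem ‹_› _ e.2 a) e.2⟩
        map_one' := by ext; simp
        map_mul' := by
          intro e e'
          ext
          show a * (↑e * ↑e') * a⁻¹ * (↑e * ↑e') = a * ↑e * a⁻¹ * ↑e * (a * ↑e' * a⁻¹ * ↑e')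
          have h := hEc e e.2 (a * e' * a⁻¹) (Subgroup.Normal.conj_mem ‹_› _ e'.2 a)
          calc a * (↑e * ↑e') * a⁻¹ * (↑e * ↑e')
              = a * ↑e * a⁻¹ * ((a * ↑e' * a⁻¹) * ↑e) * ↑e' := by group
            _ = a * ↑e * a⁻¹ * (↑e * (a * ↑e' * a⁻¹)) * ↑e' := by rw [h]
            _ = a * ↑e * a⁻¹ * ↑e * (a * ↑e' * a⁻¹ * ↑e') := by group }
    have hinv : ∀ e ∈ E, e⁻¹ = e := fun e he => inv_eq_of_mul_eq_one_right (by
      have := hE2 e he; rwa [pow_two] at this)
    have hker : ∀ e : E, e ∈ f.ker ↔ a * (e : P) = (e : P) * a := by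
      intro e
      rw [MonoidHom.mem_ker, Subtype.ext_iff]
      show a * ↑e * a⁻¹ * ↑e = 1 ↔ _
      rw [mul_eq_one_iff_eq_inv, hinv e e.2, mul_inv_eq_iff_eq_mul]
    have hrange : f.range ≤ f.ker := by
      rintro _ ⟨e, rfl⟩
      rw [hker]
      show a * (a * ↑e * a⁻¹ * ↑e) = a * ↑e * a⁻¹ * ↑e * a
      have h := hEc e e.2 (a * e * a⁻¹) (Subgroup.Normal.conj_mem ‹_› _ e.2 a)
      have l : a * (a * ↑e * a⁻¹ * ↑e) = (e : P) * a * ↑e := by
        rw [← mul_assoc, ← mul_assoc, ← mul_assoc, ha2, one_mul, hai]
      have r : a * ↑e * a⁻¹ * ↑e * a = (e : P) * a * ↑e := by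
        rw [← h]; group
      rw [l, r]
    let A : Subgroup P := f.ker.map E.subtype
    have hAE : A ≤ E := Subgroup.map_subtype_le _
    have hA : 2 < Nat.card A := by
      have h1 := Subgroup.card_mul_index f.ker
      rw [Subgroup.index_ker] at h1
      have h2 := Subgroup.card_le_of_le hrange
      have h3 : Nat.card A = Nat.card f.ker :=
        Subgroup.card_map_of_injective (Subgroup.subtype_injective E)
      by_contra hc
      have : Nat.card f.ker * Nat.card f.range ≤ 2 * 2 := Nat.mul_le_mul (by omega) (by omega)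
      omega
    obtain ⟨W, hW, hWA⟩ := exists_isKleinFour_le (fun x hx => hE2 x (hAE hx)) hA
    have hWa : ∀ w ∈ W, a * w = w * a := by
      intro w hw
      obtain ⟨e, he, rfl⟩ := hWA hw
      exact (hker e).mp he
    -- the four-group generated by `z` and `a`
    let B : Subgroup P := Subgroup.closure ({z, a} : Set P)
    have hBc : ∀ x ∈ B, ∀ y ∈ B, x * y = y * x := by
      have := Subgroup.isMulCommutative_closure (k := ({z, a} : Set P))
        (fun x hx y hy => by
          rcases hx with rfl | rfl <;> rcases hy with rfl | rfl <;>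
            first | rfl | exact hzc _ | exact (hzc _).symm)
      exact fun x hx y hy => congrArg Subtype.val (this.is_comm.comm (⟨x, hx⟩ : B) ⟨y, hy⟩)
    have hzB : z ∈ B := Subgroup.subset_closure (Set.mem_insert z {a})
    have haB : a ∈ B := Subgroup.subset_closure (Set.mem_insert_of_mem z rfl)
    have hB2 : ∀ x ∈ B, x ^ 2 = 1 := by
      intro x hx
      induction hx using Subgroup.closure_induction with
      | mem x hx =>
        rcases hx with rfl | rfl
        · exact hz2
        · exact isKleinFour_sq hU haU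
      | one => simp
      | mul x y hx hy ihx ihy =>
        rw [(show Commute x y from hBc x hx y hy).mul_pow, ihx, ihy, one_mul]
      | inv x _ ih => rw [inv_pow, ih, inv_one]
    have hB : 2 < Nat.card B := by
      let g : Fin 3 → B := ![⟨1, B.one_mem⟩, ⟨z, hzB⟩, ⟨a, haB⟩]
      have hg : Function.Injective g := by
        intro i j h
        fin_cases i <;> fin_cases j <;> simp [g, Subtype.ext_iff] at h ⊢ <;>
          first | exact hz1 h | exact hz1 h.symm | exact ha1 h | exact ha1 h.symm | exact haz h | exact haz h.symm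
      have := Nat.card_le_card_of_injective g hg
      rw [Nat.card_fin] at this
      omega
    obtain ⟨V, hV, hVB⟩ := exists_isKleinFour_le hB2 hB
    have hcomm : ∀ X : Subgroup P, (∀ x ∈ X, a * x = x * a) → ∀ v ∈ V, ∀ x ∈ X, v * x = x * v := by
      intro X hX v hv x hx
      have hle : B ≤ Subgroup.centralizer ({x} : Set P) := by
        rw [Subgroup.closure_le]
        rintro y (rfl | rfl) <;> rw [SetLike.mem_coe, Subgroup.mem_centralizer_singleton_iff]
        · first | exact hzc x | exact (hzc x).symm
        · first | exact hX x hx | exact (hX x hx).symm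
      have := Subgroup.mem_centralizer_singleton_iff.mp (hle (hVB hv))
      first | exact this | exact this.symm
    refine ⟨W, hW, hWA.trans hAE, ?_⟩
    exact Relation.ReflTransGen.head
      (fourRel_symm ⟨hV, hU, hcomm U fun x hx => isKleinFour_comm hU haU hx⟩)
      (Relation.ReflTransGen.single ⟨hV, hW, hcomm W hWa⟩)
  intro U V hU hV
  obtain ⟨W₁, hW₁, hW₁E, h₁⟩ := hjoin U hU
  obtain ⟨W₂, hW₂, hW₂E, h₂⟩ := hjoin V hV
  exact Relation.ReflTransGen.trans h₁ (Relation.ReflTransGen.head
    ⟨hW₁, hW₂, fun x hx y hy => hEc x (hW₁E hx) y (hW₂E hy)⟩ h₂.symm)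

end Cfsg.Agent.S0502
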