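import Cfsg.Statements.S0516
import Cfsg.Agent.TwoRankTwo36.GroupCase
import Cfsg.Agent.S0215
import Cfsg.Agent.S0949
import Cfsg.Agent.PF14.Compose
-- import your own Cfsg.Agent.* helpers here

set_option autoImplicit false
open Cfsg

namespace Cfsg.Agent.S0516

/-- In a non-abelian finite simple group of 2-rank at most 2, a Sylow 2-subgroup is dihedral (of order at least 4),
quasi-dihedral, wreathed, or isomorphic to a Sylow 2-subgroup of the projective special unitary group of dimension 3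
over the field with 16 elements. -/
theorem result {G : Type*} [Group G] [Finite G] [IsSimpleGroup G]
    (hG : ¬ IsMulCommutative G) (h2 : Cfsg.PRankLE 2 2 G) (S : Sylow 2 G) {F : Type*} [Field F] [Fintype F]
    (hF : Fintype.card F = 16) (P : Sylow 2 (Cfsg.PSU 3 F 4)) :
    (∃ n : ℕ, 2 ≤ n ∧ Nonempty ((S : Subgroup G) ≃* DihedralGroup n)) ∨ Cfsg.IsQuasiDihedral (S : Subgroup G) ∨
      Cfsg.IsWreathed (S : Subgroup G) ∨ Nonempty ((S : Subgroup G) ≃* (P : Subgroup (Cfsg.PSU 3 F 4))) := by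
  classical
  haveI : Fact (Nat.Prime 2) := ⟨Nat.prime_two⟩
  have hcomm : Subgroup.center G ≠ ⊤ := fun h => hG ⟨⟨fun a b =>
    (Subgroup.mem_center_iff.mp (h ▸ Subgroup.mem_top a : a ∈ Subgroup.center G) b).symm⟩⟩
  have heven : 2 ∣ Nat.card G := by
    by_contra h
    haveI := Cfsg.Agent.PF14.feitThompson G (Nat.odd_iff.mpr (by omega))
    exact hG ⟨⟨IsSimpleGroup.comm_iff_isSolvable.mpr this⟩⟩
  have hnormal : ∀ N : Subgroup G, N.Normal → Odd (Nat.card N) → N = ⊥ := fun N hN hodd =>
    hN.eq_bot_or_eq_top.resolve_right fun h => by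
      rw [h, Subgroup.card_top] at hodd
      exact absurd heven (by rw [← even_iff_two_dvd, Nat.not_even_iff_odd]; exact hodd)
  have hiso : ∀ z : G, ¬ Cfsg.IsIsolatedInvolution z := by
    intro z ⟨hz2, hz⟩
    obtain ⟨T, hT⟩ := IsPGroup.exists_le_sylow (p := 2) (P := Subgroup.zpowers z)
      (IsPGroup.of_card (n := 1) (by rw [Nat.card_zpowers, hz2, pow_one]))
    have hzT : z ∈ T := hT (Subgroup.mem_zpowers z)
    haveI : Group.IsNilpotent (T : Subgroup G) := T.2.isNilpotent
    have hcent : ∀ t ∈ T, t * z = z * t := by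
      set R : Subgroup (T : Subgroup G) := Subgroup.centralizer {⟨z, hzT⟩} with hR
      have hRtop : R = ⊤ := by
        by_contra hne
        obtain ⟨s, hs, hsR⟩ := SetLike.exists_of_lt
          (Group.normalizerCondition_of_isNilpotent R (lt_top_iff_ne_top.mpr hne))
        have h1 := (Subgroup.mem_normalizer_iff.mp hs ⟨z, hzT⟩).mp
          (Subgroup.mem_centralizer_singleton_iff.mpr rfl)
        have h2 : Commute z ((s : G) * z * (s : G)⁻¹) :=
          congrArg Subtype.val (Subgroup.mem_centralizer_singleton_iff.mp h1).symm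
        refine hsR (Subgroup.mem_centralizer_singleton_iff.mpr (Subtype.ext ?_))
        calc (s : G) * z = (s : G) * z * (s : G)⁻¹ * s := by group
          _ = z * s := by rw [hz _ h2]
      intro t ht
      have h3 : (⟨t, ht⟩ : (T : Subgroup G)) ∈ R := by rw [hRtop]; exact Subgroup.mem_top _
      exact Subtype.ext_iff.mp (Subgroup.mem_centralizer_singleton_iff.mp h3)
    obtain ⟨N, hN, hodd, hNc⟩ := Cfsg.Agent.S0215.result T z hz2 hzT
      (fun g hg => hz g (hcent _ hg).symm)
    have hzc : z ∈ Subgroup.center G := Subgroup.mem_center_iff.mpr fun g => by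
      have h1 := hNc g
      rw [hnormal N hN hodd, Subgroup.mem_bot, mul_inv_eq_one, mul_inv_eq_iff_eq_mul] at h1
      exact h1.symm
    rw [(inferInstance : (Subgroup.center G).Normal).eq_bot_or_eq_top.resolve_right hcomm,
      Subgroup.mem_bot] at hzc
    rw [hzc, orderOf_one] at hz2
    omega
  rcases Cfsg.Agent.TwoRankTwo36.isFive h2 heven hiso S hF P with
    (⟨m, hm, h⟩ | h | h) | ⟨n, hn, ⟨h⟩⟩ | h
  · exact Or.inl ⟨m, hm, h⟩
  · exact Or.inr (Or.inl h)
  · exact Or.inr (Or.inr (Or.inl h))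
  · exfalso
    obtain ⟨hSn, -, -⟩ := Cfsg.Agent.S0949.result S n hn h hnormal
    rcases hSn.eq_bot_or_eq_top with q | q
    · exact S.ne_bot_of_dvd_card heven q
    · refine hG ⟨⟨fun a b => ?_⟩⟩
      have := congrArg Subtype.val (h.injective (by rw [map_mul, map_mul, mul_comm]) :
        (⟨a, q ▸ Subgroup.mem_top a⟩ : (S : Subgroup G)) * ⟨b, q ▸ Subgroup.mem_top b⟩ =
          ⟨b, q ▸ Subgroup.mem_top b⟩ * ⟨a, q ▸ Subgroup.mem_top a⟩)
      exact this
  · exact Or.inr (Or.inr (Or.inr h))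

end Cfsg.Agent.S0516
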