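import Cfsg.Statements.S0519
import Cfsg.Agent.OddLocal44.SelfCentralizing
import Cfsg.Agent.Lib.Involution.Dihedral

set_option autoImplicit false
open Cfsg

namespace Cfsg.Agent.S0519

section

variable {P : Type*} [Group P] [Finite P]

theorem conj_zpow_eq {x a : P} {k : ℤ} (h : x * a * x⁻¹ = a ^ k) (i : ℤ) :
    x * a ^ i * x⁻¹ = a ^ (k * i) := by
  rw [← conj_zpow, h, zpow_mul]

theorem zpow_eq_iff {a : P} {N : ℕ} (ha : orderOf a = N) (i j : ℤ) :
    a ^ i = a ^ j ↔ (N : ℤ) ∣ i - j := by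
  rw [← ha, ← mul_inv_eq_one, ← zpow_neg, ← zpow_add, ← orderOf_dvd_iff_zpow_eq_one, ← sub_eq_add_neg]

/-- A normal abelian subgroup generated by two independent elements of order `p` is impossible. -/
theorem no_two_gen (hn : ∀ A : Subgroup P, A.Normal → IsMulCommutative A → IsCyclic A)
    {p : ℕ} [hpf : Fact p.Prime] {z u : P} (hz : orderOf z = p) (hu : u ^ p = 1)
    (huz : u ∉ Subgroup.zpowers z) (hcomm : Commute z u) (hnz : ∀ g : P, g * z * g⁻¹ = z)
    (hnu : ∀ g : P, ∃ l : ℤ, g * u * g⁻¹ = z ^ l * u) : False := by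
  let E : Subgroup P := Subgroup.closure ({z, u} : Set P)
  have hzE : z ∈ E := Subgroup.subset_closure (Set.mem_insert _ _)
  have huE : u ∈ E := Subgroup.subset_closure (Set.mem_insert_of_mem _ rfl)
  have hEn : E.Normal := by
    refine ⟨fun e he g => ?_⟩
    have : E ≤ E.comap (MulAut.conj g).toMonoidHom := by
      rw [Subgroup.closure_le]
      rintro y (rfl | rfl)
      · show g * y * g⁻¹ ∈ E
        rw [hnz g]; exact hzE
      · show g * y * g⁻¹ ∈ E
        obtain ⟨l, hl⟩ := hnu g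
        rw [hl]
        exact E.mul_mem (E.zpow_mem hzE l) huE
    exact this he
  have hEc : IsMulCommutative E := Subgroup.isMulCommutative_closure (by
    intro x hx y hy
    rcases hx with rfl | rfl <;> rcases hy with rfl | rfl <;>
      first | rfl | exact hcomm.eq | exact hcomm.eq.symm)
  have hcyc : IsCyclic E := hn E hEn hEc
  classical
  have : Fintype E := Fintype.ofFinite E
  have hle := IsCyclic.card_pow_eq_one_le (α := E) (n := p) hpf.out.pos
  let f : Fin p → E := fun i => ⟨z ^ (i : ℕ), E.pow_mem hzE _⟩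
  have hf : Function.Injective f := by
    intro i j h
    have h' : z ^ (i : ℕ) = z ^ (j : ℕ) := congrArg Subtype.val h
    exact Fin.ext (pow_injOn_Iio_orderOf (hz.symm ▸ i.2) (hz.symm ▸ j.2) h')
  have hsub : insert (⟨u, huE⟩ : E) (Finset.univ.image f) ⊆
      Finset.univ.filter (fun e : E => e ^ p = 1) := by
    intro e he
    rw [Finset.mem_filter]
    refine ⟨Finset.mem_univ _, Subtype.ext ?_⟩
    simp only [Finset.mem_insert, Finset.mem_image, Finset.mem_univ, true_and] at he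
    rcases he with rfl | ⟨i, rfl⟩
    · simpa using hu
    · show (z ^ (i : ℕ)) ^ p = 1
      have hzp : z ^ p = 1 := by
        have := pow_orderOf_eq_one z
        rwa [hz] at this
      rw [← pow_mul, mul_comm, pow_mul, hzp, one_pow]
  have hnot : (⟨u, huE⟩ : E) ∉ Finset.univ.image f := by
    simp only [Finset.mem_image, Finset.mem_univ, true_and, not_exists]
    intro i hi
    have hzu : z ^ (i : ℕ) = u := congrArg Subtype.val hi
    exact huz (hzu ▸ Subgroup.npow_mem_zpowers z _)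
  have := Finset.card_le_card hsub
  rw [Finset.card_insert_of_notMem hnot, Finset.card_image_of_injective _ hf, Finset.card_univ,
    Fintype.card_fin] at this
  omega

theorem exists_geom_sum (k : ℤ) (m : ℕ) :
    ∃ t : ℤ, ∑ i ∈ Finset.range m, k ^ i = (m : ℤ) + (k - 1) * (m.choose 2 : ℤ) + (k - 1) ^ 2 * t := by
  induction m with
  | zero => exact ⟨0, by simp⟩
  | succ m ih =>
    obtain ⟨t, ht⟩ := ih
    refine ⟨(m.choose 2 : ℤ) + k * t, ?_⟩
    rw [geom_sum_succ, ht, Nat.choose_succ_succ, Nat.choose_one_right]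
    push_cast
    ring

theorem mul_pow_eq {a g : P} {k : ℤ} (h : g * a * g⁻¹ = a ^ k) (i : ℤ) (m : ℕ) :
    (a ^ i * g) ^ m = a ^ (i * ∑ t ∈ Finset.range m, k ^ t) * g ^ m := by
  induction m with
  | zero => simp
  | succ m ih =>
    rw [pow_succ', ih, geom_sum_succ, pow_succ']
    have : g * a ^ (i * ∑ t ∈ Finset.range m, k ^ t) =
        a ^ (k * (i * ∑ t ∈ Finset.range m, k ^ t)) * g := by
      rw [← conj_zpow_eq h]; group
    calc a ^ i * g * (a ^ (i * ∑ t ∈ Finset.range m, k ^ t) * g ^ m)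
        = a ^ i * (g * a ^ (i * ∑ t ∈ Finset.range m, k ^ t)) * g ^ m := by group
      _ = a ^ i * (a ^ (k * (i * ∑ t ∈ Finset.range m, k ^ t)) * g) * g ^ m := by rw [this]
      _ = a ^ (i * (k * ∑ t ∈ Finset.range m, k ^ t + 1)) * (g * g ^ m) := by
          rw [← mul_assoc, ← zpow_add, mul_assoc]; congr 2; ring

variable {p : ℕ} [hpf : Fact p.Prime] {a : P} {n : ℕ} {A : Subgroup P} {k : P → ℤ}

/-- No element acts on a self-centralizing cyclic normal subgroup as a nontrivial automorphism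
congruent to `1` modulo `p ^ (n-1)` with the `p`-th power trick available. -/
theorem no_twist (hP : IsPGroup p P) (hn : ∀ A : Subgroup P, A.Normal → IsMulCommutative A → IsCyclic A)
    (hN : orderOf a = p ^ n) (hAz : A = Subgroup.zpowers a) (hk : ∀ g : P, g * a * g⁻¹ = a ^ k g)
    (hk_mul : ∀ g h : P, ((p ^ n : ℕ) : ℤ) ∣ k (g * h) - k g * k h)
    (hk_self : ∀ g : P, g ∈ A ↔ ((p ^ n : ℕ) : ℤ) ∣ k g - 1)
    (hn2 : 2 ≤ n) {g : P} (hg : g ∉ A) (hgp : g ^ p ∈ A)
    (hd : ((p ^ (n - 1) : ℕ) : ℤ) ∣ k g - 1)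
    {c : ℤ} (hc : IsCoprime c ((p ^ (n - 1) : ℕ) : ℤ))
    (hS : ((p ^ n : ℕ) : ℤ) ∣ (∑ t ∈ Finset.range p, k g ^ t) - (p : ℤ) * c) : False := by
  have hpn : ((p ^ n : ℕ) : ℤ) = (p : ℤ) * ((p ^ (n - 1) : ℕ) : ℤ) := by
    rw [← Nat.cast_mul, ← pow_succ', show n - 1 + 1 = n by omega]
  have hp0 : (p : ℤ) ≠ 0 := by exact_mod_cast hpf.out.ne_zero
  have hq0 : ((p ^ (n - 1) : ℕ) : ℤ) ≠ 0 := by exact_mod_cast pow_ne_zero _ hpf.out.ne_zero
  obtain ⟨m, hm⟩ := hd
  have hpm : ¬ (p : ℤ) ∣ m := by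
    rintro ⟨e, he⟩
    exact hg ((hk_self g).mpr ⟨e, by rw [hm, he, hpn]; ring⟩)
  rw [hAz] at hgp
  obtain ⟨s, hs⟩ := hgp
  have hs' : a ^ s = g ^ p := hs
  have hsdvd : ((p ^ n : ℕ) : ℤ) ∣ k g * s - s := by
    rw [← zpow_eq_iff hN, ← conj_zpow_eq (hk g), hs', ← pow_succ', pow_succ, mul_inv_cancel_right]
  have hps : (p : ℤ) ∣ s := by
    have h1 : (p : ℤ) * ((p ^ (n - 1) : ℕ) : ℤ) ∣ ((p ^ (n - 1) : ℕ) : ℤ) * (m * s) := by
      rw [← hpn, ← mul_assoc, ← hm]; simpa [sub_mul] using hsdvd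
    rw [mul_comm (p : ℤ)] at h1
    exact ((Nat.prime_iff_prime_int.mp hpf.out).dvd_or_dvd
      ((mul_dvd_mul_iff_left hq0).mp h1)).resolve_left hpm
  obtain ⟨s', hs''⟩ := hps
  obtain ⟨x, y, hxy⟩ := hc
  let u : P := a ^ (-s' * x) * g
  have hu : u ^ p = 1 := by
    show (a ^ (-s' * x) * g) ^ p = 1
    rw [mul_pow_eq (hk g), ← hs', ← zpow_add, ← zpow_zero a, zpow_eq_iff hN, sub_zero]
    obtain ⟨e, he⟩ := hS
    refine ⟨-s' * x * e + s' * y, ?_⟩
    have h1 : (∑ t ∈ Finset.range p, k g ^ t) = (p : ℤ) * c + ((p ^ n : ℕ) : ℤ) * e := by linarith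
    rw [h1, hs'', hpn]
    linear_combination (-(p : ℤ) * s') * hxy
  let z : P := a ^ ((p ^ (n - 1) : ℕ) : ℤ)
  have hz : orderOf z = p := by
    refine orderOf_eq_prime ?_ ?_
    · show (a ^ ((p ^ (n - 1) : ℕ) : ℤ)) ^ p = 1
      rw [zpow_natCast, ← pow_mul, ← pow_succ, show n - 1 + 1 = n by omega, ← hN, pow_orderOf_eq_one]
    · intro h
      rw [show z = a ^ ((p ^ (n - 1) : ℕ) : ℤ) from rfl, ← zpow_zero a, zpow_eq_iff hN, sub_zero,
        Int.natCast_dvd_natCast, Nat.pow_dvd_pow_iff_le_right hpf.out.one_lt] at h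
      omega
  have haA : ∀ i : ℤ, a ^ i ∈ A := fun i => hAz ▸ ⟨i, rfl⟩
  have huA : u ∉ A := fun h => hg (by
    have := A.mul_mem (A.inv_mem (haA (-s' * x))) h
    simpa [u] using this)
  have huz : u ∉ Subgroup.zpowers z := fun h => huA (by
    obtain ⟨j, hj⟩ := h
    rw [← hj]; exact A.zpow_mem (haA _) j)
  have hnz : ∀ h : P, h * z * h⁻¹ = z := by
    intro h
    show h * a ^ ((p ^ (n - 1) : ℕ) : ℤ) * h⁻¹ = a ^ ((p ^ (n - 1) : ℕ) : ℤ)
    rw [conj_zpow_eq (hk h), zpow_eq_iff hN]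
    have hp1 : (p : ℤ) ∣ k h - 1 := by
      -- `k h` is a unit of `p`-power order
      obtain ⟨j, hj⟩ : ∃ j : ℕ, h ^ p ^ j ∈ A := by
        refine ⟨Nat.card P, ?_⟩
        have : h ^ p ^ Nat.card P = 1 := by
          obtain ⟨j, hj⟩ := ((IsPGroup.iff_orderOf (p := p)).mp
            hP) h
          refine orderOf_dvd_iff_pow_eq_one.mp ?_
          rw [hj]
          refine pow_dvd_pow p ?_
          have h1 := Nat.le_of_dvd Nat.card_pos (orderOf_dvd_natCard h)
          rw [hj] at h1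
          exact le_trans (Nat.lt_pow_self hpf.out.one_lt).le h1
        rw [this]; exact A.one_mem
      have hpow : ∀ e : ℕ, ((p ^ n : ℕ) : ℤ) ∣ k (h ^ e) - k h ^ e := by
        intro e
        induction e with
        | zero => simpa using (hk_self 1).mp A.one_mem
        | succ e ih =>
          have h1 := hk_mul (h ^ e) h
          rw [← pow_succ] at h1
          have h2 := dvd_add h1 (dvd_mul_of_dvd_left ih (k h))
          convert h2 using 1
          all_goals first | rfl | ring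
      have h1 := (hk_self _).mp hj
      have h2 : (p : ℤ) ∣ k h ^ p ^ j - 1 := by
        have h3 := dvd_sub h1 (hpow (p ^ j))
        rw [hpn] at h3
        have := (dvd_mul_right _ _).trans h3
        convert this using 1
        all_goals first | rfl | ring
      have h4 : ∀ e : ℕ, ((k h : ZMod p)) ^ p ^ e = (k h : ZMod p) := by
        intro e
        induction e with
        | zero => simp
        | succ e ih => rw [pow_succ, pow_mul, ih, ZMod.pow_card]
      rw [← ZMod.intCast_zmod_eq_zero_iff_dvd] at h2 ⊢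
      push_cast at h2 ⊢
      rwa [h4] at h2
    obtain ⟨e, he⟩ := hp1
    exact ⟨e, by rw [hpn]; linear_combination ((p ^ (n - 1) : ℕ) : ℤ) * he⟩
  refine no_two_gen hn hz hu huz ?_ hnz fun h => ?_
  · exact (mul_inv_eq_iff_eq_mul.mp (hnz u)).symm
  -- conjugates of `u` lie in `z ^ ℤ * u`
  have hd1 : h * u * h⁻¹ * u⁻¹ ∈ A := by
    rw [hk_self, ← zpow_eq_iff hN, zpow_one, ← hk]
    have e1 : ∀ v w : P, v * w * a * (v * w)⁻¹ = w * v * a * (w * v)⁻¹ := by
      intro v w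
      rw [hk, hk, zpow_eq_iff hN]
      have := dvd_sub (hk_mul v w) (hk_mul w v)
      convert this using 1
      all_goals first | rfl | ring
    calc h * u * h⁻¹ * u⁻¹ * a * (h * u * h⁻¹ * u⁻¹)⁻¹
        = (h * u) * ((h⁻¹ * u⁻¹) * a * (h⁻¹ * u⁻¹)⁻¹) * (h * u)⁻¹ := by group
      _ = (h * u) * ((u⁻¹ * h⁻¹) * a * (u⁻¹ * h⁻¹)⁻¹) * (h * u)⁻¹ := by rw [e1 h⁻¹ u⁻¹]
      _ = a := by group
  rw [hAz] at hd1
  obtain ⟨j, hj⟩ := hd1
  have hj' : h * u * h⁻¹ = a ^ (j + -s' * x) * g := by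
    have hj'' : h * u * h⁻¹ = a ^ j * u := by
      rw [show a ^ j = h * u * h⁻¹ * u⁻¹ from hj]; group
    rw [hj'', zpow_add, mul_assoc]
  have hjp : (h * u * h⁻¹) ^ p = 1 := by rw [conj_pow, hu]; group
  rw [hj', mul_pow_eq (hk g)] at hjp
  have hu' : (a ^ (-s' * x) * g) ^ p = 1 := hu
  rw [mul_pow_eq (hk g), ← hjp, mul_left_inj, zpow_eq_iff hN] at hu'
  obtain ⟨e, he⟩ := hS
  obtain ⟨f, hf⟩ := hu'
  have h1 : (∑ t ∈ Finset.range p, k g ^ t) = (p : ℤ) * c + ((p ^ n : ℕ) : ℤ) * e := by linarith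
  rw [h1, hpn] at hf
  have hjd : ((p ^ (n - 1) : ℕ) : ℤ) ∣ j * c := by
    refine ⟨-f - j * e, mul_left_cancel₀ hp0 ?_⟩
    linear_combination -hf
  obtain ⟨l, hl⟩ := IsCoprime.dvd_of_dvd_mul_right (⟨y, x, by rw [← hxy]; ring⟩ : IsCoprime _ c) hjd
  refine ⟨l, ?_⟩
  rw [hj', zpow_add, mul_assoc]
  congr 1
  show a ^ j = (a ^ ((p ^ (n - 1) : ℕ) : ℤ)) ^ l
  rw [← zpow_mul, hl]

end


/-- Let P be a finite p-group in which every abelian normal subgroup is cyclic, but which has a non-cyclic abelian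
subgroup. Then p = 2 and P is generalized quaternion, dihedral of order at least 16, or quasi-dihedral. -/
theorem result {P : Type*} [Group P] [Finite P] (p : ℕ) [Fact p.Prime]
    (hP : IsPGroup p P) (hn : ∀ A : Subgroup P, A.Normal → IsMulCommutative A → IsCyclic A)
    (hm : ∃ B : Subgroup P, IsMulCommutative B ∧ ¬ IsCyclic B) :
    p = 2 ∧ ((∃ n : ℕ, Nonempty (P ≃* QuaternionGroup n)) ∨ (∃ n : ℕ, 8 ≤ n ∧ Nonempty (P ≃* DihedralGroup n)) ∨
      Cfsg.IsQuasiDihedral P) := by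
  have : Group.IsNilpotent P := hP.isNilpotent
  obtain ⟨B, hBc, hBn⟩ := hm
  obtain ⟨A, -, hAn, hAc⟩ := OddLocal44.exists_normal_centralizer_eq_ge (⊥ : Subgroup P) bot_le
  have hAcomm : IsMulCommutative A := Subgroup.le_centralizer_iff_isMulCommutative.mp hAc.ge
  have hAcyc : IsCyclic A := hn A hAn hAcomm
  obtain ⟨⟨a, haA⟩, hgen⟩ := IsCyclic.exists_generator (α := A)
  have hAz : A = Subgroup.zpowers a := by
    refine le_antisymm (fun x hx => ?_) (Subgroup.zpowers_le.mpr haA)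
    obtain ⟨k, hk⟩ := hgen ⟨x, hx⟩
    exact ⟨k, by simpa using congrArg Subtype.val hk⟩
  obtain ⟨n, hN⟩ := hP.exists_orderOf_eq_pow a
  have hk0 : ∀ g : P, ∃ k : ℤ, g * a * g⁻¹ = a ^ k := by
    intro g
    have : g * a * g⁻¹ ∈ A := hAn.conj_mem a haA g
    rw [hAz] at this
    obtain ⟨k, hk⟩ := this
    exact ⟨k, hk.symm⟩
  choose k hk using hk0
  have hk_mul : ∀ g h : P, ((p ^ n : ℕ) : ℤ) ∣ k (g * h) - k g * k h := by
    intro g h
    rw [← zpow_eq_iff hN, ← hk, ← conj_zpow_eq (hk g), ← hk h]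
    group
  have hk_self : ∀ g : P, g ∈ A ↔ ((p ^ n : ℕ) : ℤ) ∣ k g - 1 := by
    intro g
    rw [← zpow_eq_iff hN, zpow_one, ← hk, mul_inv_eq_iff_eq_mul]
    constructor
    · intro hg
      exact congrArg Subtype.val (hAcomm.is_comm.comm (⟨g, hg⟩ : A) ⟨a, haA⟩)
    · intro hg
      rw [← hAc, hAz, Subgroup.mem_centralizer_iff]
      rintro _ ⟨i, rfl⟩
      exact ((Commute.zpow_right (hg : Commute g a) i).eq).symm
  have hPA : ∃ g : P, g ∉ A := by
    by_contra hc
    push Not at hc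
    exact hBn (Subgroup.isCyclic_of_le (show B ≤ A from fun x _ => hc x))
  have hpr : p.Prime := Fact.out
  -- an element outside `A` whose `p`-th power lies in `A`, with its congruences
  obtain ⟨g₀, hg₀, hg₀p⟩ : ∃ g, g ∉ A ∧ g ^ p ∈ A := by
    obtain ⟨g, hg⟩ := hPA
    obtain ⟨j, hj⟩ := hP.exists_orderOf_eq_pow g
    classical
    have hex : ∃ j, g ^ p ^ j ∈ A := ⟨j, by rw [← hj, pow_orderOf_eq_one]; exact A.one_mem⟩
    have h0 : Nat.find hex ≠ 0 := by
      intro h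
      have := Nat.find_spec hex
      rw [h] at this
      exact hg (by simpa using this)
    refine ⟨g ^ p ^ (Nat.find hex - 1), Nat.find_min hex (by omega), ?_⟩
    rw [← pow_mul, ← pow_succ, show Nat.find hex - 1 + 1 = Nat.find hex by omega]
    exact Nat.find_spec hex
  have hkpow : ∀ g : P, g ^ p ∈ A → ((p ^ n : ℕ) : ℤ) ∣ k g ^ p - 1 := by
    intro g hg
    have hpow : ∀ e : ℕ, ((p ^ n : ℕ) : ℤ) ∣ k (g ^ e) - k g ^ e := by
      intro e
      induction e with
      | zero => simpa using (hk_self 1).mp A.one_mem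
      | succ e ih =>
        have h1 := hk_mul (g ^ e) g
        rw [← pow_succ] at h1
        have h2 := dvd_add h1 (dvd_mul_of_dvd_left ih (k g))
        convert h2 using 1
        all_goals first | rfl | ring
    have h3 := dvd_sub ((hk_self _).mp hg) (hpow p)
    convert h3 using 1
    all_goals first | rfl | ring
  have hn1 : 1 ≤ n := by
    by_contra hc
    exact hg₀ ((hk_self g₀).mpr (by simp [show n = 0 by omega]))
  have hp2 : p = 2 := by
    by_contra hp
    have hpdvd : (p : ℤ) ∣ ((p ^ n : ℕ) : ℤ) := Int.natCast_dvd_natCast.mpr (dvd_pow_self p (by omega))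
    have hk1 : (p : ℤ) ∣ k g₀ - 1 := by
      have h2 := hpdvd.trans (hkpow g₀ hg₀p)
      rw [← ZMod.intCast_zmod_eq_zero_iff_dvd] at h2 ⊢
      push_cast at h2 ⊢
      rwa [ZMod.pow_card] at h2
    obtain ⟨e, he⟩ := hk1
    have hn2 : 2 ≤ n := by
      by_contra hc
      exact hg₀ ((hk_self g₀).mpr (by rw [show n = 1 by omega, pow_one]; exact ⟨e, he⟩))
    obtain ⟨t, ht⟩ := exists_geom_sum (k g₀) p
    obtain ⟨w, hw⟩ := (hpr.dvd_choose_self (k := 2) two_ne_zero (lt_of_le_of_ne hpr.two_le (Ne.symm hp)))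
    have hS : ∑ i ∈ Finset.range p, k g₀ ^ i = (p : ℤ) * (1 + (p : ℤ) * (e * w + e ^ 2 * t)) := by
      rw [ht, he, hw]; push_cast; ring
    have hd : ((p ^ (n - 1) : ℕ) : ℤ) ∣ k g₀ - 1 := by
      have h1 := hkpow g₀ hg₀p
      rw [← geom_sum_mul, hS, show ((p ^ n : ℕ) : ℤ) = (p : ℤ) * ((p ^ (n - 1) : ℕ) : ℤ) by
        rw [← Nat.cast_mul, ← pow_succ', show n - 1 + 1 = n by omega], mul_assoc,
        mul_dvd_mul_iff_left (by exact_mod_cast hpr.ne_zero)] at h1
      refine IsCoprime.dvd_of_dvd_mul_left ?_ h1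
      push_cast
      exact IsCoprime.pow_left ⟨-(e * w + e ^ 2 * t), 1, by ring⟩
    refine no_twist hP hn hN hAz hk hk_mul hk_self hn2 hg₀ hg₀p hd
      (c := 1 + (p : ℤ) * (e * w + e ^ 2 * t)) ?_ ?_
    · push_cast
      exact IsCoprime.pow_right ⟨1, -(e * w + e ^ 2 * t), by ring⟩
    · rw [hS, sub_self]; exact dvd_zero _
  subst hp2
  refine ⟨rfl, ?_⟩
  have hN2 : ((2 ^ n : ℕ) : ℤ) = 2 * ((2 ^ (n - 1) : ℕ) : ℤ) := by
    have : (2 ^ n : ℕ) = 2 * 2 ^ (n - 1) := by rw [← pow_succ', show n - 1 + 1 = n by omega]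
    exact_mod_cast this
  have hodd : ∀ g : P, Odd (k g) := by
    intro g
    obtain ⟨f, hf⟩ := dvd_sub ((hk_self (g * g⁻¹)).mp (by simp)) (hk_mul g g⁻¹)
    rcases Int.even_or_odd (k g) with ⟨r, hr⟩ | h
    · exfalso
      rw [hN2, hr] at hf
      have : (2 : ℤ) ∣ 1 := ⟨r * k g⁻¹ - ((2 ^ (n - 1) : ℕ) : ℤ) * f, by linarith⟩
      norm_num at this
    · exact h
  have hn2 : 2 ≤ n := by
    by_contra hc
    obtain ⟨r, hr⟩ := hodd g₀
    exact hg₀ ((hk_self g₀).mpr (by rw [show n = 1 by omega]; exact ⟨r, by push_cast; omega⟩))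
  have h2q : (2 : ℤ) ∣ ((2 ^ (n - 1) : ℕ) : ℤ) := by
    exact_mod_cast dvd_pow_self 2 (show n - 1 ≠ 0 by omega)
  -- elements outside `A` whose square lies in `A` act as `-1` modulo `2 ^ (n-1)`
  have hneg : ∀ g : P, g ∉ A → g ^ 2 ∈ A → (4 : ℤ) ∣ k g + 1 ∧ ((2 ^ (n - 1) : ℕ) : ℤ) ∣ k g + 1 := by
    intro g hg hg2
    obtain ⟨r, hr⟩ := hodd g
    have h1 := hkpow g hg2
    have hrr : ((2 ^ n : ℕ) : ℤ) ∣ 4 * (r * (r + 1)) := by
      convert h1 using 1
      rw [hr]; ring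
    have h3 : ((2 ^ (n - 1) : ℕ) : ℤ) ∣ 2 * (r * (r + 1)) := by
      rw [hN2, show (4 : ℤ) * (r * (r + 1)) = 2 * (2 * (r * (r + 1))) by ring] at hrr
      exact (mul_dvd_mul_iff_left two_ne_zero).mp hrr
    rcases Int.even_or_odd r with ⟨e, he⟩ | ⟨e, he⟩
    · exfalso
      have hc : IsCoprime ((2 ^ (n - 1) : ℕ) : ℤ) (r + 1) := by
        push_cast
        exact IsCoprime.pow_left ⟨-e, 1, by rw [he]; ring⟩
      have h4 : ((2 ^ (n - 1) : ℕ) : ℤ) ∣ k g - 1 := by
        rw [hr, add_sub_cancel_right]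
        exact hc.dvd_of_dvd_mul_right (by rwa [← mul_assoc] at h3)
      have hn3 : 3 ≤ n := by
        by_contra hc'
        apply hg
        rw [hk_self, show n = 2 by omega]
        exact ⟨e, by rw [hr, he]; push_cast; ring⟩
      refine no_twist hP hn hN hAz hk hk_mul hk_self hn2 hg hg2 h4 (c := r + 1) hc.symm ?_
      have hsum : (∑ t ∈ Finset.range 2, k g ^ t) = ((2 : ℕ) : ℤ) * (r + 1) := by
        rw [Finset.sum_range_succ, Finset.sum_range_succ, Finset.sum_range_zero, hr]; push_cast; ring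
      rw [hsum, sub_self]; exact dvd_zero _
    · refine ⟨⟨e + 1, by rw [hr, he]; ring⟩, ?_⟩
      have hc : IsCoprime ((2 ^ (n - 1) : ℕ) : ℤ) r := by
        push_cast
        exact IsCoprime.pow_left ⟨-e, 1, by rw [he]; ring⟩
      rw [hr, show 2 * r + 1 + 1 = 2 * (r + 1) by ring]
      exact hc.dvd_of_dvd_mul_left (by rwa [mul_left_comm] at h3)
  have h4N : (4 : ℤ) ∣ ((2 ^ n : ℕ) : ℤ) := by
    exact_mod_cast (pow_dvd_pow 2 hn2 : 2 ^ 2 ∣ 2 ^ n)
  have hsq : ∀ g : P, g ^ 2 ∈ A := by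
    intro g
    by_contra hg
    obtain ⟨j, hj⟩ := hP.exists_orderOf_eq_pow g
    classical
    have hex : ∃ j, g ^ 2 ^ j ∈ A := ⟨j, by rw [← hj, pow_orderOf_eq_one]; exact A.one_mem⟩
    have h2 : 2 ≤ Nat.find hex := by
      by_contra hc
      have hs := Nat.find_spec hex
      interval_cases h : Nat.find hex
      · exact hg (by rw [pow_zero, pow_one] at hs; exact A.pow_mem hs 2)
      · exact hg (by simpa using hs)
    obtain ⟨i, hi⟩ : ∃ i, Nat.find hex = i + 2 := ⟨Nat.find hex - 2, by omega⟩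
    have hy1 : g ^ 2 ^ (i + 1) ∉ A := Nat.find_min hex (by omega)
    have hy2 : (g ^ 2 ^ (i + 1)) ^ 2 ∈ A := by
      rw [← pow_mul, ← pow_succ, show i + 1 + 1 = Nat.find hex by omega]
      exact Nat.find_spec hex
    obtain ⟨r, hr⟩ := hodd (g ^ 2 ^ i)
    have hy : g ^ 2 ^ (i + 1) = g ^ 2 ^ i * g ^ 2 ^ i := by rw [← pow_two, ← pow_mul, ← pow_succ]
    obtain ⟨f, hf⟩ := h4N.trans (hk_mul (g ^ 2 ^ i) (g ^ 2 ^ i))
    obtain ⟨f', hf'⟩ := (hneg _ hy1 hy2).1
    rw [hy] at hf'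
    have : (2 * r + 1) * (2 * r + 1) + 1 = 4 * (f' - f) := by rw [← hr]; linarith
    have h5 : (4 : ℤ) ∣ 2 := ⟨f' - f - r * r - r, by linarith⟩
    norm_num at h5
  have hprod : ∀ g h : P, g ∉ A → h ∉ A → g * h ∈ A := by
    intro g h hg hh
    by_contra hc
    obtain ⟨e₁, he₁⟩ := (hneg g hg (hsq g)).1
    obtain ⟨e₂, he₂⟩ := (hneg h hh (hsq h)).1
    obtain ⟨e₃, he₃⟩ := (hneg _ hc (hsq _)).1
    obtain ⟨f, hf⟩ := h4N.trans (hk_mul g h)
    rw [show k g = 4 * e₁ - 1 by linarith, show k h = 4 * e₂ - 1 by linarith,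
      show k (g * h) = 4 * e₃ - 1 by linarith] at hf
    have h5 : (4 : ℤ) ∣ 2 := ⟨e₃ - 4 * e₁ * e₂ + e₁ + e₂ - f, by linarith⟩
    norm_num at h5
  obtain ⟨x, hx⟩ := hPA
  have hcover : ∀ g : P, g ∈ A ∨ ∃ i : ℤ, g = a ^ i * x := by
    intro g
    by_cases hg : g ∈ A
    · exact Or.inl hg
    · right
      have h1 : g * x⁻¹ ∈ A := hprod g x⁻¹ hg (fun h => hx (by simpa using A.inv_mem h))
      rw [hAz] at h1
      obtain ⟨i, hi⟩ := h1
      exact ⟨i, by rw [show a ^ i = g * x⁻¹ from hi]; group⟩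
  obtain ⟨e, he⟩ := (hneg x hx (hsq x)).1
  obtain ⟨m, hm⟩ := (hneg x hx (hsq x)).2
  -- `x ^ 2` is `a ^ (2 ^ (n-1) * l)`
  obtain ⟨l, hl⟩ : ∃ l : ℤ, x ^ 2 = a ^ (((2 ^ (n - 1) : ℕ) : ℤ) * l) := by
    have h1 := hsq x
    rw [hAz] at h1
    obtain ⟨s, hs⟩ := h1
    have hs' : a ^ s = x ^ 2 := hs
    have hfix : ((2 ^ n : ℕ) : ℤ) ∣ k x * s - s := by
      rw [← zpow_eq_iff hN, ← conj_zpow_eq (hk x), hs', ← pow_succ', pow_succ, mul_inv_cancel_right]
    have h2 : ((2 ^ (n - 1) : ℕ) : ℤ) ∣ (2 * e - 1) * s := by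
      rw [hN2, show k x * s - s = 2 * ((2 * e - 1) * s) by linear_combination s * he] at hfix
      exact (mul_dvd_mul_iff_left two_ne_zero).mp hfix
    have hc : IsCoprime ((2 ^ (n - 1) : ℕ) : ℤ) (2 * e - 1) := by
      push_cast
      exact IsCoprime.pow_left ⟨e, -1, by ring⟩
    obtain ⟨l, hl⟩ := hc.dvd_of_dvd_mul_left h2
    exact ⟨l, by rw [← hs', hl]⟩
  have hcard : Nat.card P = 2 ^ (n + 1) := by
    have hidx : A.index = 2 := by
      refine Subgroup.index_eq_two_iff'.mpr ⟨x, fun g => ?_⟩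
      by_cases hg : g ∈ A
      · exact Or.inr ⟨hg, fun h => hx (by simpa using A.mul_mem h (A.inv_mem hg))⟩
      · exact Or.inl ⟨hprod x g hx hg, hg⟩
    rw [← A.card_mul_index, hidx, hAz, Nat.card_zpowers, hN, pow_succ]
  rcases Int.even_or_odd m with ⟨m', hm'⟩ | ⟨m', hm'⟩
  · -- the dihedral case
    have hinv : x * a * x⁻¹ = a⁻¹ := by
      rw [hk, ← zpow_neg_one, zpow_eq_iff hN]
      exact ⟨m', by rw [hN2]; linear_combination hm + ((2 ^ (n - 1) : ℕ) : ℤ) * hm'⟩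
    have hinv' : ∀ i : ℤ, x * a ^ i * x⁻¹ = a ^ (-i) := fun i => by
      rw [← conj_zpow, hinv, inv_zpow, zpow_neg]
    have hxi : ∀ i : ℤ, (a ^ i * x) ^ 2 = x ^ 2 := by
      intro i
      calc (a ^ i * x) ^ 2 = a ^ i * (x * a ^ i * x⁻¹) * x ^ 2 := by rw [pow_two, pow_two]; group
        _ = x ^ 2 := by rw [hinv', ← zpow_add, add_neg_cancel, zpow_zero, one_mul]
    rcases Int.even_or_odd l with ⟨l', hl'⟩ | ⟨l', hl'⟩
    · have hx2 : x * x = 1 := by
        rw [← pow_two, hl, ← zpow_zero a, zpow_eq_iff hN]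
        exact ⟨l', by rw [hN2, hl']; ring⟩
      by_cases hn3 : 3 ≤ n
      · refine Or.inr (Or.inl ⟨2 ^ n, le_trans (by norm_num) (Nat.pow_le_pow_right two_pos hn3), ?_⟩)
        let f : DihedralGroup (2 ^ n) →* P :=
          Involution.dihedralHom x a hx2 (by rw [← hN, pow_orderOf_eq_one]) hinv
        have hinj : Function.Injective f := by
          rw [injective_iff_map_eq_one]
          rintro (i | i) hi
          · rw [Involution.dihedralHom_r, ← zpow_zero a, zpow_eq_iff hN, sub_zero] at hi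
            have : ((ZMod.cast i : ℤ) : ZMod (2 ^ n)) = 0 := (ZMod.intCast_zmod_eq_zero_iff_dvd _ _).mpr hi
            rw [ZMod.intCast_zmod_cast] at this
            rw [this, DihedralGroup.r_zero]
          · rw [Involution.dihedralHom_sr, mul_eq_one_iff_eq_inv, ← zpow_neg] at hi
            exact absurd (hi ▸ hAz ▸ ⟨_, rfl⟩) hx
        have : NeZero (2 ^ n) := ⟨pow_ne_zero _ two_ne_zero⟩
        have hbij : Function.Bijective f := (Nat.bijective_iff_injective_and_card f).mpr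
          ⟨hinj, by rw [DihedralGroup.nat_card, hcard, pow_succ, mul_comm]⟩
        exact ⟨(MulEquiv.ofBijective f hbij).symm⟩
      · exfalso
        obtain rfl : n = 2 := by omega
        let z : P := a ^ (2 : ℤ)
        have hz : orderOf z = 2 := by
          refine orderOf_eq_prime ?_ ?_
          · show (a ^ (2 : ℤ)) ^ 2 = 1
            rw [← zpow_natCast, ← zpow_mul, ← zpow_zero a, zpow_eq_iff hN]; norm_num
          · intro h
            have : a ^ (2 : ℤ) = a ^ (0 : ℤ) := by rw [zpow_zero]; exact h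
            rw [zpow_eq_iff hN] at this
            norm_num at this
        have hznorm : ∀ g : P, g * z * g⁻¹ = z := by
          intro g
          show g * a ^ (2 : ℤ) * g⁻¹ = a ^ (2 : ℤ)
          rw [conj_zpow_eq (hk g), zpow_eq_iff hN]
          obtain ⟨r, hr⟩ := hodd g
          exact ⟨r, by rw [hr]; push_cast; ring⟩
        refine no_two_gen hn (p := 2) hz (u := x) (by rw [pow_two, hx2]) ?_ ?_ hznorm ?_
        · rintro ⟨j, hj⟩
          exact hx (hj ▸ A.zpow_mem (A.zpow_mem haA _) j)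
        · exact (mul_inv_eq_iff_eq_mul.mp (hznorm x)).symm
        · intro g
          have key : ∀ i : ℤ, a ^ i * x * (a ^ i)⁻¹ = z ^ i * x := by
            intro i
            show _ = (a ^ (2 : ℤ)) ^ i * x
            calc a ^ i * x * (a ^ i)⁻¹ = a ^ i * (x * a ^ (-i) * x⁻¹) * x := by group
              _ = _ := by rw [hinv', neg_neg, ← zpow_add, ← zpow_mul, two_mul]
          rcases hcover g with hg | ⟨i, rfl⟩
          · rw [hAz] at hg
            obtain ⟨i, rfl⟩ := hg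
            exact ⟨i, key i⟩
          · refine ⟨i, ?_⟩
            rw [← key i]; group
    · exfalso
      apply hBn
      obtain ⟨y, hyB, hy⟩ : ∃ y ∈ B, y ∉ A := by
        by_contra hc
        push Not at hc
        exact hBn (Subgroup.isCyclic_of_le (show B ≤ A from hc))
      have hy2 : y ^ 2 = a ^ ((2 ^ (n - 1) : ℕ) : ℤ) := by
        obtain ⟨i, rfl⟩ := (hcover y).resolve_left hy
        rw [hxi, hl, zpow_eq_iff hN]
        exact ⟨l', by rw [hN2, hl']; ring⟩
      have hyconj : y * a * y⁻¹ = a⁻¹ := by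
        obtain ⟨i, rfl⟩ := (hcover y).resolve_left hy
        calc a ^ i * x * a * (a ^ i * x)⁻¹ = a ^ i * (x * a * x⁻¹) * (a ^ i)⁻¹ := by group
          _ = a⁻¹ := by rw [hinv]; group
      refine Subgroup.isCyclic_of_le (show B ≤ Subgroup.zpowers y from fun b hb => ?_)
      have hcomm : Commute y b := congrArg Subtype.val (hBc.is_comm.comm (⟨y, hyB⟩ : B) ⟨b, hb⟩)
      have key : ∀ c : P, c ∈ A → Commute y c → c ∈ Subgroup.zpowers y := by
        intro c hc hyc
        rw [hAz] at hc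
        obtain ⟨i, rfl⟩ := hc
        have h1 : a ^ (-i) = a ^ i := by
          rw [zpow_neg, ← inv_zpow, ← hyconj, conj_zpow]
          exact mul_inv_eq_iff_eq_mul.mpr hyc.eq
        rw [zpow_eq_iff hN] at h1
        obtain ⟨f, hf⟩ := h1
        refine ⟨-(2 * f), ?_⟩
        show y ^ (-(2 * f)) = a ^ i
        rw [neg_mul_eq_mul_neg, zpow_mul, show y ^ (2 : ℤ) = y ^ 2 from zpow_natCast y 2, hy2, ← zpow_mul,
          zpow_eq_iff hN]
        exact ⟨0, by rw [hN2] at hf; linarith⟩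
      by_cases hbA : b ∈ A
      · exact key b hbA hcomm
      · have h1 := key (b * y) (hprod b y hbA hy) (hcomm.mul_right (Commute.refl y))
        simpa using Subgroup.mul_mem _ h1 (Subgroup.inv_mem _ (Subgroup.mem_zpowers y))
  · -- the quasi-dihedral case
    refine Or.inr (Or.inr ?_)
    have hn3 : 3 ≤ n := by
      by_contra hc
      obtain rfl : n = 2 := by omega
      exact hx ((hk_self x).mpr ⟨m', by push_cast; rw [hm'] at hm; norm_num at hm ⊢; omega⟩)
    have hinv : x * a * x⁻¹ = a ^ (((2 ^ (n - 1) : ℕ) : ℤ) - 1) := by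
      rw [hk, zpow_eq_iff hN]
      exact ⟨m', by rw [hN2]; rw [hm'] at hm; linear_combination hm⟩
    refine ⟨n, hn3, hcard, a, a ^ l * x, hN, ?_, ?_⟩
    · refine orderOf_eq_prime ?_ ?_
      · calc (a ^ l * x) ^ 2 = a ^ l * (x * a ^ l * x⁻¹) * x ^ 2 := by rw [pow_two, pow_two]; group
          _ = a ^ (0 : ℤ) := by
            rw [conj_zpow_eq hinv, hl, ← zpow_add, ← zpow_add, zpow_eq_iff hN]
            exact ⟨l, by rw [hN2]; ring⟩
          _ = 1 := zpow_zero a
      · intro h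
        exact hx (by rw [show x = (a ^ l)⁻¹ * (a ^ l * x) by group, h, mul_one]
                     exact A.inv_mem (A.zpow_mem haA _))
    · calc a ^ l * x * a * (a ^ l * x)⁻¹ = a ^ l * (x * a * x⁻¹) * (a ^ l)⁻¹ := by group
        _ = a ^ (((2 ^ (n - 1) : ℕ) : ℤ) - 1) := by rw [hinv]; group
        _ = a ^ (2 ^ (n - 1) - 1 : ℕ) := by
          rw [← zpow_natCast, Nat.cast_sub (Nat.one_le_two_pow)]; norm_num

end Cfsg.Agent.S0519
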