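import Cfsg.Statements.S0520
import Cfsg.Agent.Classification.FourGroup

set_option autoImplicit false
open Cfsg

namespace Cfsg.Agent.S0520
open Cfsg.Agent.Classification

/-- In a finite `p`-group a proper subgroup is properly contained in its normalizer. -/
theorem exists_normalizing {G : Type*} [Group G] [Finite G] {p : ℕ} [Fact p.Prime]
    {P Q : Subgroup G} (hP : IsPGroup p P) (hQP : Q ≤ P) (hne : Q ≠ P) :
    ∃ s ∈ P, s ∉ Q ∧ s ∈ Subgroup.normalizer (Q : Set G) := by
  have : Group.IsNilpotent P := hP.isNilpotent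
  have hlt : Q.subgroupOf P < ⊤ := by
    rw [lt_top_iff_ne_top, Ne, Subgroup.subgroupOf_eq_top]
    exact fun h => hne (le_antisymm hQP h)
  obtain ⟨s, hs, hsQ⟩ := Set.exists_of_ssubset (normalizerCondition_of_isNilpotent _ hlt)
  refine ⟨s, s.2, fun h => hsQ (Subgroup.mem_subgroupOf.mpr h), ?_⟩
  rw [SetLike.mem_coe, Subgroup.mem_normalizer_iff] at hs
  rw [Subgroup.mem_normalizer_iff]
  intro x
  constructor
  · intro hx
    simpa [Subgroup.mem_subgroupOf] using (hs ⟨x, hQP hx⟩).mp (by simpa [Subgroup.mem_subgroupOf])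
  · intro hx
    have hxP : x ∈ P := by
      have := P.mul_mem (P.mul_mem (P.inv_mem s.2) (hQP hx)) s.2
      simpa [mul_assoc] using this
    exact Subgroup.mem_subgroupOf.mp ((hs ⟨x, hxP⟩).mpr (by simpa [Subgroup.mem_subgroupOf] using hx))

/-- The 2-generated core contains every element `g` for which `S` and `g S g⁻¹` share a four-group. -/
theorem mem_of_inf_rank {G : Type*} [Group G] [Finite G] (S : Sylow 2 G) (K : Subgroup G)
    (hK : ∀ Q : Subgroup G, Q ≤ (S : Subgroup G) → ¬ Cfsg.PRankLE 2 1 Q →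
      Subgroup.normalizer (Q : Set G) ≤ K)
    (U : Subgroup G) (hU : IsKleinFour U) (g : G)
    (hUg : U ≤ (S : Subgroup G) ⊓ cj g (S : Subgroup G)) : g ∈ K := by
  suffices H : ∀ (d : ℕ) (g : G) (U : Subgroup G), IsKleinFour U →
      U ≤ (S : Subgroup G) ⊓ cj g (S : Subgroup G) →
      Nat.card (S : Subgroup G) - Nat.card ↥((S : Subgroup G) ⊓ cj g (S : Subgroup G)) = d → g ∈ K from
    H _ g U hU hUg rfl
  intro d
  induction d using Nat.strong_induction_on with
  | _ d ih =>
  intro g U hU hUg hd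
  let Q : Subgroup G := (S : Subgroup G) ⊓ cj g (S : Subgroup G)
  have hQS : Q ≤ (S : Subgroup G) := inf_le_left
  have hQr : ¬ Cfsg.PRankLE 2 1 Q := not_prankLE_of_isKleinFour_le hU hUg
  have hN := hK Q hQS hQr
  by_cases hQ : Q = (S : Subgroup G)
  · have hle : (S : Subgroup G) ≤ cj g (S : Subgroup G) := inf_eq_left.mp hQ
    have heq : (S : Subgroup G) = cj g (S : Subgroup G) :=
      Subgroup.eq_of_le_of_card_ge hle (card_cj g _).le
    exact hK (S : Subgroup G) le_rfl (fun h => not_prankLE_of_isKleinFour_le hU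
      (hUg.trans inf_le_left) h) (mem_normalizer_of_cj_eq heq.symm)
  have hQ' : Q ≠ cj g (S : Subgroup G) := by
    intro h
    apply hQ
    exact Subgroup.eq_of_le_of_card_ge hQS (by rw [h, card_cj])
  obtain ⟨s, hsS, hsQ, hsN⟩ := exists_normalizing S.isPGroup' hQS hQ
  obtain ⟨s', hs'S, hs'Q, hs'N⟩ := exists_normalizing
    (IsPGroup.map S.isPGroup' (MulAut.conj g).toMonoidHom) (inf_le_right : Q ≤ cj g (S : Subgroup G)) hQ'
  let N : Subgroup G := Subgroup.normalizer (Q : Set G)
  let A : Subgroup G := (S : Subgroup G) ⊓ N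
  let B : Subgroup G := cj g (S : Subgroup G) ⊓ N
  have hQN : Q ≤ N := Subgroup.le_normalizer
  have hA : IsPGroup 2 A := S.isPGroup'.to_le inf_le_left
  have hB : IsPGroup 2 B :=
    (IsPGroup.map S.isPGroup' (MulAut.conj g).toMonoidHom).to_le inf_le_left
  have hA' : IsPGroup 2 (A.subgroupOf N) :=
    hA.of_equiv (Subgroup.subgroupOfEquivOfLe (inf_le_right : A ≤ N)).symm
  have hB' : IsPGroup 2 (B.subgroupOf N) :=
    hB.of_equiv (Subgroup.subgroupOfEquivOfLe (inf_le_right : B ≤ N)).symm
  obtain ⟨R, hR⟩ := hA'.exists_le_sylow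
  obtain ⟨n, hn⟩ := exists_le_cj_sylow R hB'
  obtain ⟨h, hh⟩ := exists_le_cj_sylow S (R.isPGroup'.map N.subtype)
  have hAh : A ≤ cj h (S : Subgroup G) := fun x hx =>
    hh ⟨⟨x, hx.2⟩, hR (Subgroup.mem_subgroupOf.mpr hx), rfl⟩
  have hBh : B ≤ cj ((n : G) * h) (S : Subgroup G) := by
    intro x hx
    have hx1 := mem_cj.mp (hn (Subgroup.mem_subgroupOf.mpr hx : (⟨x, hx.2⟩ : N) ∈ B.subgroupOf N))
    rw [← cj_mul, mem_cj]
    exact hh ⟨_, hx1, rfl⟩
  have hQA : Nat.card Q < Nat.card A := by
    by_contra hc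
    exact hsQ ((Subgroup.eq_of_le_of_card_ge (le_inf hQS hQN) (not_lt.mp hc)).symm ▸
      (⟨hsS, hsN⟩ : s ∈ A))
  have hQB : Nat.card Q < Nat.card B := by
    by_contra hc
    exact hs'Q ((Subgroup.eq_of_le_of_card_ge (le_inf inf_le_right hQN) (not_lt.mp hc)).symm ▸
      (⟨hs'S, hs'N⟩ : s' ∈ B))
  have hcardS : ∀ X : Subgroup G, X ≤ (S : Subgroup G) → Nat.card X ≤ Nat.card (S : Subgroup G) :=
    fun X hX => Subgroup.card_le_of_le hX
  have hd' : Nat.card (S : Subgroup G) - Nat.card Q = d := hd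
  have hh1 : h ∈ K := by
    have h1 : A ≤ (S : Subgroup G) ⊓ cj h (S : Subgroup G) := le_inf inf_le_left hAh
    refine ih _ ?_ h U hU ((hUg.trans (le_inf hQS hQN)).trans h1) rfl
    have := Subgroup.card_le_of_le h1
    have := hcardS ((S : Subgroup G) ⊓ cj h (S : Subgroup G)) inf_le_left
    have := hcardS A inf_le_left
    omega
  have hm : ((n : G) * h)⁻¹ * g ∈ K := by
    have h1 : cj ((n : G) * h)⁻¹ B ≤
        (S : Subgroup G) ⊓ cj (((n : G) * h)⁻¹ * g) (S : Subgroup G) := by
      refine le_inf ?_ ?_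
      · rw [cj_le_iff, inv_inv]; exact hBh
      · rw [← cj_mul]; exact cj_mono _ inf_le_left
    refine ih _ ?_ _ (cj ((n : G) * h)⁻¹ U) (isKleinFour_cj _ hU) ?_ rfl
    · have := Subgroup.card_le_of_le h1
      have := hcardS ((S : Subgroup G) ⊓ cj (((n : G) * h)⁻¹ * g) (S : Subgroup G)) inf_le_left
      have := card_cj ((n : G) * h)⁻¹ B
      omega
    · exact (cj_mono _ (hUg.trans (le_inf inf_le_right hQN))).trans h1
  simpa [mul_assoc] using K.mul_mem (K.mul_mem (hN n.2) hh1) hm


/-- Let G be a finite group of 2-rank at least 2 and S a Sylow 2-subgroup whose commuting graph of Klein four-subgroups is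
connected. Then the commuting graph of Klein four-subgroups of G is disconnected if and only if the 2-generated core — the
subgroup generated by the normalizers N_G(Q) of the subgroups Q of S that contain a Klein four-group — is a proper
subgroup of G. -/
theorem result {G : Type*} [Group G] [Finite G] (h2 : ¬ Cfsg.PRankLE 2 1 G)
    (S : Sylow 2 G) (hS : Cfsg.IsFourConnected (S : Subgroup G)) :
    ¬ Cfsg.IsFourConnected G ↔
      (⨆ Q : {Q : Subgroup G // Q ≤ (S : Subgroup G) ∧ ¬ Cfsg.PRankLE 2 1 Q},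
          Subgroup.normalizer ((Q : Subgroup G) : Set G)) ≠ ⊤ := by
  let K : Subgroup G := ⨆ Q : {Q : Subgroup G // Q ≤ (S : Subgroup G) ∧ ¬ Cfsg.PRankLE 2 1 Q},
    Subgroup.normalizer ((Q : Subgroup G) : Set G)
  show ¬ Cfsg.IsFourConnected G ↔ K ≠ ⊤
  rw [Ne, not_iff_not]
  have hK : ∀ Q : Subgroup G, Q ≤ (S : Subgroup G) → ¬ Cfsg.PRankLE 2 1 Q →
      Subgroup.normalizer (Q : Set G) ≤ K :=
    fun Q h1 h3 => le_iSup (fun Q : {Q : Subgroup G // Q ≤ (S : Subgroup G) ∧ ¬ Cfsg.PRankLE 2 1 Q} =>
      Subgroup.normalizer ((Q : Subgroup G) : Set G)) ⟨Q, h1, h3⟩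
  obtain ⟨U₀, hU₀⟩ := exists_isKleinFour_of_not_prankLE h2
  obtain ⟨h₀, hU₀S⟩ := exists_le_cj_sylow S (isKleinFour_isPGroup hU₀)
  let U : Subgroup G := cj h₀⁻¹ U₀
  have hU : IsKleinFour U := isKleinFour_cj _ hU₀
  have hUS : U ≤ (S : Subgroup G) := by
    show cj h₀⁻¹ U₀ ≤ _
    rw [cj_le_iff, inv_inv]; exact hU₀S
  have hjS : ∀ A B : Subgroup G, IsKleinFour A → IsKleinFour B → A ≤ (S : Subgroup G) →
      B ≤ (S : Subgroup G) → FourJoined A B := by
    intro A B hA hB hAS hBS
    have hj : FourJoined (A.subgroupOf S) (B.subgroupOf S) :=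
      hS _ _ (isKleinFour_of_mulEquiv (Subgroup.subgroupOfEquivOfLe hAS).symm hA)
        (isKleinFour_of_mulEquiv (Subgroup.subgroupOfEquivOfLe hBS).symm hB)
    have := hj.map (S : Subgroup G).subtype (Subgroup.subtype_injective _)
    rwa [Subgroup.map_subgroupOf_eq_of_le hAS, Subgroup.map_subgroupOf_eq_of_le hBS] at this
  constructor
  · intro hconn
    have hchain : ∀ V : Subgroup G, FourJoined U V → ∃ k ∈ K, V ≤ cj k (S : Subgroup G) := by
      intro V hV
      induction hV with
      | refl => exact ⟨1, K.one_mem, by rw [cj_one]; exact hUS⟩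
      | @tail V W _ hVW ih =>
        obtain ⟨k, hk, hVk⟩ := ih
        obtain ⟨hV4, hW4, hcomm⟩ := hVW
        have hVN : V ≤ Subgroup.normalizer (W : Set G) := fun v hv => by
          apply mem_normalizer_of_cj_eq
          ext x
          rw [mem_cj]
          constructor
          · intro hx
            have h' := hcomm v hv _ hx
            have : x = v⁻¹ * x * v := by
              have h'' : x * v = v⁻¹ * x * v * v := by simpa [mul_assoc] using h'
              exact mul_right_cancel h''
            rwa [this]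
          · intro hx
            have : v⁻¹ * x * v = x := by rw [mul_assoc, ← hcomm v hv x hx, inv_mul_cancel_left]
            rwa [this]
        obtain ⟨h, hh⟩ := exists_le_cj_sylow S
          ((isKleinFour_isPGroup hV4).to_sup_of_normal_right' (isKleinFour_isPGroup hW4) hVN)
        refine ⟨h, ?_, le_trans le_sup_right hh⟩
        have h1 : cj k⁻¹ V ≤ (S : Subgroup G) ⊓ cj (k⁻¹ * h) (S : Subgroup G) := by
          refine le_inf ?_ ?_
          · rw [cj_le_iff, inv_inv]; exact hVk
          · rw [← cj_mul]; exact cj_mono _ (le_trans le_sup_left hh)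
        simpa using K.mul_mem hk (mem_of_inf_rank S K hK _ (isKleinFour_cj _ hV4) _ h1)
    rw [eq_top_iff]
    intro g _
    obtain ⟨k, hk, hgk⟩ := hchain (cj g U) (hconn U (cj g U) hU (isKleinFour_cj g hU))
    have h1 : U ≤ (S : Subgroup G) ⊓ cj (g⁻¹ * k) (S : Subgroup G) := by
      refine le_inf hUS ?_
      rw [← cj_mul, ← cj_le_iff]; exact hgk
    have := K.mul_mem hk (K.inv_mem (mem_of_inf_rank S K hK _ hU _ h1))
    simpa [mul_assoc] using this
  · intro htop A B hA hB
    let M : Subgroup G :=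
      { carrier := {g | FourJoined U (cj g U)}
        one_mem' := by
          show FourJoined U (cj 1 U)
          rw [cj_one]; exact Relation.ReflTransGen.refl
        mul_mem' := by
          intro a b (ha : FourJoined U (cj a U)) (hb : FourJoined U (cj b U))
          show FourJoined U (cj (a * b) U)
          rw [← cj_mul]
          exact Relation.ReflTransGen.trans ha (hb.map _ (MulAut.conj a).injective)
        inv_mem' := by
          intro a (ha : FourJoined U (cj a U))
          show FourJoined U (cj a⁻¹ U)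
          have h1 : FourJoined (cj a⁻¹ U) (cj a⁻¹ (cj a U)) := ha.map _ (MulAut.conj a⁻¹).injective
          rw [cj_inv_cancel] at h1
          exact h1.symm }
    have hM : K ≤ M := by
      refine iSup_le fun ⟨Q, hQS, hQr⟩ g hg => ?_
      show FourJoined U (cj g U)
      obtain ⟨V', hV'⟩ := exists_isKleinFour_of_not_prankLE hQr
      let V : Subgroup G := V'.map Q.subtype
      have hV : IsKleinFour V := isKleinFour_map _ (Subgroup.subtype_injective _) hV'
      have hVQ : V ≤ Q := Subgroup.map_subtype_le V'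
      have hgV : cj g V ≤ Q := (cj_mono g hVQ).trans (cj_eq_of_mem_normalizer hg).le
      have j1 := hjS U (cj g V) hU (isKleinFour_cj g hV) hUS (hgV.trans hQS)
      have j2 : FourJoined (cj g V) (cj g U) :=
        (hjS V U hV hU (hVQ.trans hQS) hUS).map _ (MulAut.conj g).injective
      exact Relation.ReflTransGen.trans j1 j2
    have key : ∀ A : Subgroup G, IsKleinFour A → FourJoined U A := by
      intro A hA
      obtain ⟨h, hh⟩ := exists_le_cj_sylow S (isKleinFour_isPGroup hA)
      have hA' : cj h⁻¹ A ≤ (S : Subgroup G) := by rw [cj_le_iff, inv_inv]; exact hh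
      have j1 : FourJoined (cj h U) (cj h (cj h⁻¹ A)) :=
        (hjS U _ hU (isKleinFour_cj _ hA) hUS hA').map _ (MulAut.conj h).injective
      rw [cj_cancel_inv] at j1
      exact Relation.ReflTransGen.trans (hM (htop ▸ Subgroup.mem_top h) : FourJoined U (cj h U)) j1
    exact Relation.ReflTransGen.trans (key A hA).symm (key B hB)

end Cfsg.Agent.S0520
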