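import Cfsg.Statements.S0521
import Cfsg.Agent.Classification.CyclicDerived
import Cfsg.Agent.Lib.Thompson.Cores
import Cfsg.Agent.Lib.PGroup.Basic
import Cfsg.Agent.Lib.Coprime.Action
import Cfsg.Agent.S0017

set_option autoImplicit false
open Cfsg
open scoped commutatorElement

namespace Cfsg.Agent.S0521
open Subgroup in
/-- The reduced statement: trivial `p'`-core. -/
theorem sylow_le_pCore {G : Type*} [Group G] [Finite G] [Group.IsSolvable G] (hodd : Odd (Nat.card G))
    {p : ℕ} [Fact p.Prime] (hp2 : p ≠ 2) (hO : Cfsg.pPrimeCore p G = ⊥) (S : Sylow p G)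
    (hS : IsCyclic (commutator (S : Subgroup G))) : (S : Subgroup G) ≤ Cfsg.pCore p G := by
  let P : Subgroup G := Cfsg.pCore p G
  have hPS : P ≤ (S : Subgroup G) := Thompson.pCore_le_sylow S
  have hPp : IsPGroup p P := Thompson.isPGroup_pCore
  have hPC : centralizer (P : Set G) ≤ P := S0017.result p hO
  let F : Subgroup G := (frattini P).map P.subtype
  have hFn : F.Normal := Thompson.map_subtype_normal_of_characteristic P _
  let π := QuotientGroup.mk' F
  let V : Subgroup (G ⧸ F) := P.map π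
  have hVn : V.Normal := (inferInstance : P.Normal).map π (QuotientGroup.mk'_surjective F)
  have hFP : F ≤ P := map_subtype_le _
  have hπ1 : ∀ g : G, π g = 1 ↔ g ∈ F := fun g => QuotientGroup.eq_one_iff g
  have hVp : ∀ v ∈ V, v ^ p = 1 := by
    rintro _ ⟨v, hv, rfl⟩
    rw [← map_pow, hπ1]
    exact ⟨(⟨v, hv⟩ : P) ^ p, PGroup.pow_mem_frattini hPp _, rfl⟩
  have hVc : ∀ v ∈ V, ∀ w ∈ V, v * w = w * v := by
    rintro _ ⟨v, hv, rfl⟩ _ ⟨w, hw, rfl⟩
    have h1 : π ⁅v, w⁆ = 1 := (hπ1 _).mpr
      ⟨⁅(⟨v, hv⟩ : P), ⟨w, hw⟩⁆, PGroup.comm_mem_frattini hPp _ _, rfl⟩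
    rw [map_commutatorElement, commutatorElement_eq_one_iff_mul_comm] at h1
    exact h1
  have hcomap : ∀ M : Subgroup (G ⧸ F), IsPGroup p M → IsPGroup p (M.comap π) := fun M hM =>
    hM.comap_of_ker_isPGroup π (by rw [QuotientGroup.ker_mk']; exact hPp.to_le hFP)
  have hmax : ∀ M : Subgroup (G ⧸ F), M.Normal → IsPGroup p M → M ≤ V := by
    intro M hMn hM m hm
    obtain ⟨g, rfl⟩ := QuotientGroup.mk'_surjective F m
    exact ⟨g, Thompson.le_pCore (hMn.comap π) (hcomap M hM) (mem_comap.mpr hm), rfl⟩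
  have hCV : centralizer (V : Set (G ⧸ F)) ≤ V := by
    refine hmax _ inferInstance ?_
    let K : Subgroup G := (centralizer (V : Set (G ⧸ F))).comap π
    suffices hK : IsPGroup p K by
      have := hK.map π
      rwa [map_comap_eq_self_of_surjective (QuotientGroup.mk'_surjective F)] at this
    intro ⟨g, hg⟩
    by_contra hcon
    push Not at hcon
    obtain ⟨q, hq, hqd, hqp⟩ : ∃ q, q.Prime ∧ q ∣ orderOf g ∧ q ≠ p := by
      by_contra hc
      push Not at hc
      obtain ⟨k, hk⟩ : ∃ k, orderOf g = p ^ k :=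
        ⟨_, Nat.eq_prime_pow_of_unique_prime_dvd (orderOf_pos g).ne' fun {d} hd hdd => hc d hd hdd⟩
      exact hcon k (Subtype.ext (by rw [SubgroupClass.coe_pow, ← hk]; exact pow_orderOf_eq_one g))
    let h : G := g ^ (orderOf g / q)
    have hh : orderOf h = q := orderOf_pow_orderOf_div (orderOf_pos g).ne' hqd
    have hhK : h ∈ K := K.pow_mem hg _
    have hcen : zpowers h ≤ centralizer (P : Set G) := by
      refine Coprime.le_centralizer_of_frattini _ P (le_normalizer_of_normal (H := P) |>.trans' le_top) ?_ ?_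
      · rw [Nat.card_zpowers, hh]
        obtain ⟨k, hk⟩ := IsPGroup.iff_card.mp (hPp.to_subgroup (frattini P))
        rw [hk]
        exact ((Nat.coprime_primes hq Fact.out).mpr hqp).pow_right k
      · intro z hz k hk
        rw [← hπ1, map_mul, map_mul, map_mul, map_inv, map_inv, mul_inv_eq_one, mul_inv_eq_iff_eq_mul]
        exact (mem_centralizer_iff.mp (zpowers_le.mpr hhK hz : z ∈ K) (π k) ⟨k, hk, rfl⟩).symm
    obtain ⟨k, hk⟩ := IsPGroup.iff_orderOf.mp hPp ⟨h, hPC (hcen (mem_zpowers h))⟩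
    rw [Subgroup.orderOf_mk, hh] at hk
    rcases k with _ | k
    · exact hq.ne_one (by simpa using hk)
    · exact hqp ((Nat.prime_dvd_prime_iff_eq Fact.out hq).mp (hk ▸ dvd_pow_self p k.succ_ne_zero)).symm
  -- the line
  let D : Subgroup G := (commutator (S : Subgroup G)).map (S : Subgroup G).subtype ⊓ P
  have hDc : IsCyclic D := by
    have : IsCyclic ((commutator (S : Subgroup G)).map (S : Subgroup G).subtype : Subgroup G) :=
      isCyclic_of_surjective ((commutator (S : Subgroup G)).equivMapOfInjective (S : Subgroup G).subtype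
        (subtype_injective _)) (MulEquiv.surjective _)
    exact isCyclic_of_le inf_le_left
  obtain ⟨⟨d, hdD⟩, hd₀⟩ := hDc.exists_generator
  have hd : zpowers d = D := le_antisymm (zpowers_le.mpr hdD) fun z hz => by
    obtain ⟨i, hi⟩ := hd₀ ⟨z, hz⟩
    exact ⟨i, congrArg Subtype.val hi⟩
  have hdP : d ∈ P := (hd ▸ mem_zpowers d : d ∈ D).2
  intro x hx
  have hxd : ∀ v ∈ P, x * v * x⁻¹ * v⁻¹ ∈ zpowers d := by
    intro v hv
    rw [hd]
    refine ⟨⟨⁅(⟨x, hx⟩ : (S : Subgroup G)), ⟨v, hPS hv⟩⁆, ?_, rfl⟩,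
      P.mul_mem ((inferInstance : P.Normal).conj_mem v hv x) (P.inv_mem hv)⟩
    rw [commutator_def]
    exact commutator_mem_commutator (mem_top _) (mem_top _)
  have hxa : π x * π d = π d * π x := by
    obtain ⟨i, hi⟩ := hxd d hdP
    have hi' : π x * π d * (π x)⁻¹ = π d ^ (i + 1) := by
      rw [zpow_add_one, ← map_zpow, show d ^ i = _ from hi]
      simp only [map_mul, map_inv, inv_mul_cancel_right]
    by_cases hd1 : π d = 1
    · simp [hd1]
    have hord : orderOf (π d) = p := orderOf_eq_prime (hVp _ ⟨d, hdP, rfl⟩) hd1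
    obtain ⟨e, he⟩ := IsPGroup.iff_orderOf.mp S.isPGroup' ⟨x, hx⟩
    rw [Subgroup.orderOf_mk] at he
    have hpow : ∀ n : ℕ, (π x) ^ n * π d * ((π x) ^ n)⁻¹ = π d ^ ((i + 1) ^ n) := by
      intro n
      induction n with
      | zero => simp
      | succ n ih =>
        calc (π x) ^ (n + 1) * π d * ((π x) ^ (n + 1))⁻¹
            = π x * ((π x) ^ n * π d * ((π x) ^ n)⁻¹) * (π x)⁻¹ := by rw [pow_succ']; group
          _ = π d ^ ((i + 1) ^ (n + 1)) := by
            rw [ih, ← conj_zpow, hi', ← zpow_mul, ← pow_succ']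
    have h1 := hpow (p ^ e)
    rw [← map_pow, ← he, pow_orderOf_eq_one, map_one, one_mul, inv_one, mul_one, he] at h1
    nth_rewrite 1 [← zpow_one (π d)] at h1
    rw [zpow_eq_zpow_iff_modEq, hord, ← ZMod.intCast_eq_intCast_iff] at h1
    push_cast at h1
    rw [ZMod.pow_card_pow] at h1
    have h2 : π d ^ (i + 1) = π d ^ (1 : ℤ) := by
      rw [zpow_eq_zpow_iff_modEq, hord, ← ZMod.intCast_eq_intCast_iff]
      push_cast
      exact h1.symm
    rw [zpow_one, ← hi', mul_inv_eq_iff_eq_mul] at h2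
    exact h2
  have hxV : π x ∈ V := Classification.mem_pSubgroup_of_line
    (hodd.of_dvd_nat (Subgroup.card_quotient_dvd_card F)) hp2 hVp hVc hCV hmax ⟨d, hdP, rfl⟩ hxa
    (by
      rintro _ ⟨v, hv, rfl⟩
      obtain ⟨i, hi⟩ := hxd v hv
      exact ⟨i, by
        show π d ^ i = _
        rw [← map_zpow, show d ^ i = _ from hi]
        simp only [map_mul, map_inv]⟩)
  obtain ⟨v, hv, hvx⟩ := hxV
  have : v⁻¹ * x ∈ F := by
    rw [← hπ1, map_mul, map_inv, hvx, inv_mul_cancel]
  simpa using P.mul_mem hv (hFP this)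


/-- Let X be a finite solvable group of odd order, p a prime and S a Sylow p-subgroup of X whose commutator subgroup is
cyclic. Then the product of the largest normal subgroup of X of order prime to p with S is a normal subgroup of X. -/
theorem result {X : Type*} [Group X] [Finite X] [Group.IsSolvable X]
    (hX : Odd (Nat.card X)) (p : ℕ) [Fact p.Prime] (S : Sylow p X) (hS : IsCyclic (commutator (S : Subgroup X))) :
    (Cfsg.pPrimeCore p X ⊔ (S : Subgroup X)).Normal := by
  let O := Cfsg.pPrimeCore p X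
  by_cases hp2 : p = 2
  · have hS1 : (S : Subgroup X) = ⊥ := by
      obtain ⟨k, hk⟩ := IsPGroup.iff_card.mp S.isPGroup'
      rw [← Subgroup.card_eq_one, hk]
      rcases k with _ | k
      · rw [pow_zero]
      · exfalso
        have hdvd : 2 ∣ Nat.card X := by
          have h := Subgroup.card_subgroup_dvd_card (S : Subgroup X)
          rw [hk, hp2] at h
          exact (dvd_pow_self 2 k.succ_ne_zero).trans h
        exact (Nat.not_even_iff_odd.mpr hX) (even_iff_two_dvd.mpr hdvd)
    rw [hS1, sup_bot_eq]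
    infer_instance
  let q := QuotientGroup.mk' O
  let Q := S.mapSurjective (QuotientGroup.mk'_surjective O)
  have hQc : IsCyclic (commutator (Q : Subgroup (X ⧸ O))) := by
    let f : (S : Subgroup X) →* (Q : Subgroup (X ⧸ O)) :=
      (q.comp (S : Subgroup X).subtype).codRestrict (Q : Subgroup (X ⧸ O)) fun s => ⟨s, s.2, rfl⟩
    have hf : Function.Surjective f := by
      rintro ⟨_, s, hs, rfl⟩
      exact ⟨⟨s, hs⟩, rfl⟩
    have hmap : (commutator (S : Subgroup X)).map f = commutator (Q : Subgroup (X ⧸ O)) := by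
      rw [commutator_def, commutator_def, Subgroup.map_commutator, Subgroup.map_top_of_surjective f hf]
    rw [← hmap]
    exact isCyclic_of_surjective (f.subgroupMap (commutator (S : Subgroup X))) (f.subgroupMap_surjective _)
  have hle : (Q : Subgroup (X ⧸ O)) ≤ Cfsg.pCore p (X ⧸ O) :=
    sylow_le_pCore (hX.of_dvd_nat (Subgroup.card_quotient_dvd_card O)) hp2
      Thompson.pPrimeCore_quotient_pPrimeCore Q hQc
  have hQ : (S : Subgroup X).map q = Cfsg.pCore p (X ⧸ O) := le_antisymm hle (Thompson.pCore_le_sylow Q)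
  have h1 : O ⊔ (S : Subgroup X) = ((S : Subgroup X).map q).comap q := by
    rw [Subgroup.comap_map_eq, QuotientGroup.ker_mk', sup_comm]
  show (O ⊔ (S : Subgroup X)).Normal
  rw [h1, hQ]
  exact (inferInstance : (Cfsg.pCore p (X ⧸ O)).Normal).comap q

end Cfsg.Agent.S0521
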