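import Cfsg.Statements.S0522
import Cfsg.Agent.OddLocal44.Transitivity
import Cfsg.Agent.Lib.Components.LBalance
-- import your own Cfsg.Agent.* helpers here

set_option autoImplicit false
open Cfsg

namespace Cfsg.Agent.S0522

/-- A finite solvable group is `p`-constrained. -/
theorem isPConstrained_of_isSolvable {G : Type*} [Group G] [Finite G] [Group.IsSolvable G] (p : ℕ)
    [Fact p.Prime] : Cfsg.IsPConstrained p G :=
  Components.isPConstrained_iff_pLayer_eq_bot.mpr (Components.pLayer_eq_bot_iff.mpr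
    (Components.layer_eq_bot_iff.mpr fun L hL => Components.component_not_isSolvable hL inferInstance))

/-- Transitivity Theorem (odd-order setting). Let X be a finite group of odd order in which the normalizer of every
nontrivial p-subgroup is solvable, P a Sylow p-subgroup, and B an abelian subgroup of P, normalized by P, with
C_P(B) = B and containing an elementary abelian subgroup of order p^3. Then for every prime q ≠ p, any two q-subgroups
that are maximal among the q-subgroups normalized by B are conjugate by an element of the centralizer of B. -/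
theorem result {X : Type*} [Group X] [Finite X] (hX : Odd (Nat.card X)) (p : ℕ)
    [Fact p.Prime] (hloc : ∀ T : Subgroup X, IsPGroup p T → T ≠ ⊥ → Group.IsSolvable (Subgroup.normalizer (T : Set X)))
    (P : Sylow p X) (B : Subgroup X) (hBP : B ≤ (P : Subgroup X))
    (hBn : ∀ x ∈ (P : Subgroup X), ∀ b ∈ B, x * b * x⁻¹ ∈ B) (hBa : IsMulCommutative B)
    (hBc : (P : Subgroup X) ⊓ Subgroup.centralizer (B : Set X) = B)
    (hB3 : ∃ E : Subgroup X, E ≤ B ∧ (∀ e ∈ E, e ^ p = 1) ∧ p ^ 3 ≤ Nat.card E)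
    (q : ℕ) [Fact q.Prime] (hqp : q ≠ p) (Q₁ Q₂ : Subgroup X)
    (h₁ : IsPGroup q Q₁ ∧ B ≤ Subgroup.normalizer (Q₁ : Set X) ∧
      ∀ R : Subgroup X, IsPGroup q R → B ≤ Subgroup.normalizer (R : Set X) → Q₁ ≤ R → R = Q₁)
    (h₂ : IsPGroup q Q₂ ∧ B ≤ Subgroup.normalizer (Q₂ : Set X) ∧
      ∀ R : Subgroup X, IsPGroup q R → B ≤ Subgroup.normalizer (R : Set X) → Q₂ ≤ R → R = Q₂) :
    ∃ c ∈ Subgroup.centralizer (B : Set X), Q₂ = Q₁.map (MulAut.conj c).toMonoidHom := by
  have hp2 : p ≠ 2 := by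
    rintro rfl
    obtain ⟨E, -, hE, hE3⟩ := hB3
    have hbot : E = ⊥ := by
      rw [Subgroup.eq_bot_iff_forall]
      intro e he
      have h1 : orderOf e ∣ 2 := orderOf_dvd_of_pow_eq_one (hE e he)
      have h2 : orderOf e ∣ Nat.card X := orderOf_dvd_natCard e
      exact orderOf_eq_one_iff.mp (Nat.eq_one_of_dvd_coprimes (Nat.coprime_two_left.mpr hX) h1 h2)
    rw [hbot, Subgroup.card_bot] at hE3
    norm_num at hE3
  have hfull : ∀ x ∈ Subgroup.centralizer (B : Set X), IsPGroup p (Subgroup.zpowers x) → x ∈ B := by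
    intro x hx hxp
    let N := Subgroup.normalizer (B : Set X)
    have hxN : x ∈ N := Subgroup.centralizer_le_normalizer _ hx
    have hPN : (P : Subgroup X) ≤ N := fun y hy => by
      rw [Subgroup.mem_normalizer_iff]
      exact fun b => ⟨hBn y hy b, fun hb => by
        simpa [mul_assoc] using hBn y⁻¹ ((P : Subgroup X).inv_mem hy) _ hb⟩
    obtain ⟨R, hR⟩ := (hxp.comap_of_injective N.subtype N.subtype_injective).exists_le_sylow
    obtain ⟨n, hn⟩ := MulAction.exists_smul_eq N R (P.subtype hPN)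
    have hxR : (⟨x, hxN⟩ : N) ∈ R := hR (Subgroup.mem_zpowers x)
    have h1 : n * ⟨x, hxN⟩ * n⁻¹ ∈ (P.subtype hPN : Subgroup N) := by
      rw [← hn]
      exact ⟨⟨x, hxN⟩, hxR, rfl⟩
    have h2 : (n : X) * x * (n : X)⁻¹ ∈ (P : Subgroup X) ⊓ Subgroup.centralizer (B : Set X) := by
      refine ⟨h1, Subgroup.mem_centralizer_iff.mpr fun b hb => ?_⟩
      have hb' : (n : X)⁻¹ * b * n ∈ B := by
        simpa using (Subgroup.mem_normalizer_iff.mp (N.inv_mem n.2) b).mp hb
      have h3 := Subgroup.mem_centralizer_iff.mp hx _ hb'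
      calc b * (n * x * (n : X)⁻¹) = n * ((n : X)⁻¹ * b * n * x) * (n : X)⁻¹ := by group
        _ = n * x * (n : X)⁻¹ * b := by rw [h3]; group
    rw [hBc] at h2
    exact (Subgroup.mem_normalizer_iff.mp n.2 x).mpr h2
  have hmax : ∀ Q : Subgroup X, (IsPGroup q Q ∧ B ≤ Subgroup.normalizer (Q : Set X) ∧
      ∀ R : Subgroup X, IsPGroup q R → B ≤ Subgroup.normalizer (R : Set X) → Q ≤ R → R = Q) →
      Q ∈ Cfsg.maxInvSubgroups ⊤ B {q} := by
    rintro Q ⟨hQ, hBQ, hQm⟩
    refine ⟨⟨le_top, fun r hr hrd => ?_, hBQ⟩, fun R ⟨_, hR, hBR⟩ hQR => hQm R ?_ hBR hQR⟩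
    · obtain ⟨k, hk⟩ := IsPGroup.iff_card.mp hQ
      rw [hk] at hrd
      exact (Nat.prime_dvd_prime_iff_eq hr Fact.out).mp (hr.dvd_of_dvd_pow hrd)
    · exact IsPGroup.of_card (Nat.eq_prime_pow_of_unique_prime_dvd Nat.card_pos.ne' fun {d} hd hdd => hR d hd hdd)
  have hB3' : ¬ Cfsg.PRankLE p 2 B := by
    obtain ⟨E, hEB, hE, hE3⟩ := hB3
    intro h
    have := h (E.subgroupOf B) inferInstance (fun a ha => Subtype.ext (hE _ ha))
    rw [Nat.card_congr (Subgroup.subgroupOfEquivOfLe hEB).toEquiv] at this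
    exact absurd (hE3.trans this) (not_le.mpr (pow_lt_pow_right₀ (Fact.out : p.Prime).one_lt (by norm_num)))
  obtain ⟨k, hk, hQ⟩ := OddLocal44.transitivity_maxInv
    (fun T hT hT1 => by haveI := hloc T hT hT1; exact isPConstrained_of_isSolvable p)
    (fun h => absurd h hp2) (P.isPGroup'.to_le hBP) hBa hB3' hfull hqp Q₁ (hmax Q₁ h₁) Q₂ (hmax Q₂ h₂)
  exact ⟨k, Subgroup.map_subtype_le _ hk, hQ⟩

end Cfsg.Agent.S0522
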