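import Cfsg.Statements.S0534
import Cfsg.Agent.Lib.Solvable.Supersolvable
import Cfsg.Agent.Lib.Solvable.HallPi

set_option autoImplicit false
open Cfsg

namespace Cfsg.Agent.S0534

open Subgroup

theorem exists_subgroups {G A : Type*} [Group G] [CommGroup A] [Finite G] [Finite A]
    [Group.IsSolvable G] (hA : ∀ p : ℕ, p.Prime → p ∣ Nat.card A → p ∣ Nat.card G)
    (hexp : ∀ p : ℕ, p.Prime → p ∣ Nat.card G →
      (Nat.card A).factorization p + 1 = (Nat.card G).factorization p) :
    Cfsg.HasSubgroupOfEveryOrder (G × A) := by
  intro d hd
  rw [Nat.card_prod] at hd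
  have hn : Nat.card G * Nat.card A ≠ 0 := Nat.mul_ne_zero Nat.card_pos.ne' Nat.card_pos.ne'
  have hd0 : d ≠ 0 := fun h => hn (Nat.eq_zero_of_zero_dvd (h ▸ hd))
  have hdle : ∀ p, d.factorization p ≤
      (Nat.card G).factorization p + (Nat.card A).factorization p := fun p => by
    have h := (Nat.factorization_le_iff_dvd hd0 hn).2 hd p
    rwa [Nat.factorization_mul Nat.card_pos.ne' Nat.card_pos.ne', Finsupp.coe_add,
      Pi.add_apply] at h
  obtain ⟨H, hH1, hH2⟩ := Cfsg.Agent.Solvable.exists_isPiHall (G := G)
    {p | (Nat.card G).factorization p ≤ d.factorization p}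
  have hfact : ∀ p, p.Prime → (Nat.card H).factorization p =
      if (Nat.card G).factorization p ≤ d.factorization p then (Nat.card G).factorization p
      else 0 := by
    intro p hp
    have h := congrArg (fun n => n.factorization p) H.card_mul_index
    simp only [Nat.factorization_mul Nat.card_pos.ne' index_ne_zero_of_finite, Finsupp.coe_add,
      Pi.add_apply] at h
    split_ifs with hle
    · have h0 : H.index.factorization p = 0 :=
        Nat.factorization_eq_zero_of_not_dvd (hH2 p hp hle)
      omega
    · exact Nat.factorization_eq_zero_of_not_dvd fun hdvd => hle (hH1 p hp hdvd)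
  have hHd : Nat.card H ∣ d := by
    rw [← Nat.factorization_le_iff_dvd Nat.card_pos.ne' hd0]
    intro p
    by_cases hp : p.Prime
    · rw [hfact p hp]; split_ifs <;> omega
    · simp [Nat.factorization_eq_zero_of_not_prime _ hp]
  obtain ⟨b, rfl⟩ := hHd
  have hb0 : b ≠ 0 := right_ne_zero_of_mul hd0
  have hbA : b ∣ Nat.card A := by
    rw [← Nat.factorization_le_iff_dvd hb0 Nat.card_pos.ne']
    intro p
    by_cases hp : p.Prime
    swap
    · simp [Nat.factorization_eq_zero_of_not_prime _ hp]
    have h1 := hdle p
    have h2 := hfact p hp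
    rw [Nat.factorization_mul Nat.card_pos.ne' hb0, Finsupp.coe_add, Pi.add_apply] at h1 h2
    by_cases hpG : p ∣ Nat.card G
    · have := hexp p hp hpG
      split_ifs at h2 with hle <;> omega
    · have h3 : (Nat.card G).factorization p = 0 := Nat.factorization_eq_zero_of_not_dvd hpG
      split_ifs at h2 with hle <;> omega
  obtain ⟨B, hB⟩ := Cfsg.Agent.Solvable.hasSubgroupOfEveryOrder
    (Cfsg.Agent.Solvable.isSupersolvable_of_isNilpotent (G := A)) b hbA
  exact ⟨H.prod B, by rw [Nat.card_congr (prodEquiv H B).toEquiv, Nat.card_prod, hB]⟩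

/-- Let G be a finite solvable group and A a finite abelian group such that every prime dividing the order of A divides the order of G and, for each prime p dividing the order of G, the exponent of p in the order of A is one less than its exponent in the order of G. Then G × A has a subgroup of every order dividing its order. -/
theorem result {G A : Type*} [Group G] [CommGroup A] [Finite G] [Finite A] [Group.IsSolvable G] (hA : ∀ p : ℕ, p.Prime → p ∣ Nat.card A → p ∣ Nat.card G) (hexp : ∀ p : ℕ, p.Prime → p ∣ Nat.card G → (Nat.card A).factorization p + 1 = (Nat.card G).factorization p) : Cfsg.HasSubgroupOfEveryOrder (G × A) := by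
  exact exists_subgroups hA hexp

end Cfsg.Agent.S0534
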