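import Cfsg.Statements.S0535
import Cfsg.Agent.Lib.Solvable.System
import Cfsg.Agent.Lib.Coprime.Wielandt
import Cfsg.Agent.Lib.CharCore.Burnside

set_option autoImplicit false
open Cfsg

namespace Cfsg.Agent.S0535

open Subgroup

universe u

theorem solvable_aux {G : Type u} [Group G] [Finite G]
    (h : ∀ H : Subgroup G, H ≠ ⊥ → ∀ p : ℕ, p.Prime → p ∣ Nat.card H →
      ∃ K : Subgroup H, K ≠ ⊤ ∧ ∃ k : ℕ, K.index = p ^ k) : Group.IsSolvable G := by
  induction hk : Nat.card G using Nat.strong_induction_on generalizing G with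
  | _ n ih =>
  rcases subsingleton_or_nontrivial G with hs | hs
  · infer_instance
  -- proper subgroups are solvable
  have hprop : ∀ M : Subgroup G, M ≠ ⊤ → Group.IsSolvable M := by
    intro M hM
    refine ih _ (hk ▸ lt_of_le_of_ne (card_le_card_group M)
      fun he => hM ((card_eq_iff_eq_top M).1 he)) ?_ rfl
    intro H hH p hp hpd
    have e := H.equivMapOfInjective _ M.subtype_injective
    obtain ⟨K, hK, k, hKk⟩ := h (H.map M.subtype)
      (fun hb => hH ((map_eq_bot_iff_of_injective _ M.subtype_injective).1 hb)) p hp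
      (by rw [card_map_of_injective M.subtype_injective]; exact hpd)
    refine ⟨K.comap e.toMonoidHom, fun ht => hK ?_, k, ?_⟩
    · exact comap_injective e.surjective (ht.trans (comap_top _).symm)
    · rw [index_comap_of_surjective _ e.surjective, hKk]
  -- for each prime a proper subgroup of `p`-power index
  have hK : ∀ p : ℕ, p.Prime → p ∣ Nat.card G →
      ∃ K : Subgroup G, Group.IsSolvable K ∧ ∃ k : ℕ, K.index = p ^ k := by
    intro p hp hpd
    obtain ⟨K, hK, k, hKk⟩ := h ⊤ top_ne_bot p hp (by rwa [Subgroup.card_top])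
    refine ⟨K.comap Subgroup.topEquiv.symm.toMonoidHom,
      hprop _ fun ht => hK (comap_injective Subgroup.topEquiv.symm.surjective
        (ht.trans (comap_top _).symm)), k, ?_⟩
    rw [index_comap_of_surjective _ Subgroup.topEquiv.symm.surjective, hKk]
  by_cases hthree : ∃ p q r, p ∈ (Nat.card G).primeFactors ∧ q ∈ (Nat.card G).primeFactors ∧
      r ∈ (Nat.card G).primeFactors ∧ p ≠ q ∧ p ≠ r ∧ q ≠ r
  · obtain ⟨p, q, r, hp, hq, hr, hpq, hpr, hqr⟩ := hthree
    have mp := Nat.prime_of_mem_primeFactors hp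
    have mq := Nat.prime_of_mem_primeFactors hq
    have mr := Nat.prime_of_mem_primeFactors hr
    obtain ⟨A, hA, a, ha⟩ := hK p mp (Nat.dvd_of_mem_primeFactors hp)
    obtain ⟨B, hB, b, hb⟩ := hK q mq (Nat.dvd_of_mem_primeFactors hq)
    obtain ⟨C, hC, c, hc⟩ := hK r mr (Nat.dvd_of_mem_primeFactors hr)
    refine Cfsg.Agent.Coprime.isSolvable_of_three _ G rfl A B C hA hB hC
      (fun g => Cfsg.Agent.Solvable.exists_mul_eq_of_coprime_index ?_ g)
      (fun g => Cfsg.Agent.Solvable.exists_mul_eq_of_coprime_index ?_ g) ?_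
    · rw [hb, ha]; exact Nat.Coprime.pow _ _ ((Nat.coprime_primes mq mp).2 hpq.symm)
    · rw [hc, ha]; exact Nat.Coprime.pow _ _ ((Nat.coprime_primes mr mp).2 hpr.symm)
    · rw [hb, hc]; exact Nat.Coprime.pow _ _ ((Nat.coprime_primes mq mr).2 hqr)
  · push Not at hthree
    have hG0 := (Nat.card_pos (α := G)).ne'
    obtain ⟨p, hp⟩ : (Nat.card G).primeFactors.Nonempty := by
      obtain ⟨p, hp, hpd⟩ := Nat.exists_prime_and_dvd (n := Nat.card G) Finite.one_lt_card.ne'
      exact ⟨p, Nat.mem_primeFactors.2 ⟨hp, hpd, hG0⟩⟩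
    have mp := Nat.prime_of_mem_primeFactors hp
    by_cases htwo : ∃ q ∈ (Nat.card G).primeFactors, q ≠ p
    · obtain ⟨q, hq, hqp⟩ := htwo
      have mq := Nat.prime_of_mem_primeFactors hq
      refine Cfsg.Agent.CharCore.isSolvable_of_card_eq_prime_pow_mul mp mq _ G
        ((Nat.card G).factorization p) ((Nat.card G).factorization q) rfl ?_
      have hs : (Nat.card G).primeFactors = {p, q} := by
        ext r
        rw [Finset.mem_insert, Finset.mem_singleton]
        refine ⟨fun hr => ?_, fun hr => by rcases hr with rfl | rfl <;> assumption⟩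
        by_contra hne
        push Not at hne
        exact hne.2 (hthree p q r hp hq hr hqp.symm hne.1.symm).symm
      conv_lhs => rw [← Nat.prod_factorization_pow_eq_self hG0]
      rw [Finsupp.prod, Nat.support_factorization, hs, Finset.prod_pair hqp.symm]
    · push Not at htwo
      have := Fact.mk mp
      have hPG : IsPGroup p G := IsPGroup.of_card (Nat.eq_prime_pow_of_unique_prime_dvd hG0
        fun hr hd => htwo _ (Nat.mem_primeFactors.2 ⟨hr, hd, hG0⟩))
      have := hPG.isNilpotent
      infer_instance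

/-- Suppose that for every nontrivial subgroup H of a finite group and every prime p dividing the order of H there is a proper subgroup of H whose index in H is a power of p. Then the group is solvable. -/
theorem result {G : Type*} [Group G] [Finite G] (h : ∀ H : Subgroup G, H ≠ ⊥ → ∀ p : ℕ, p.Prime → p ∣ Nat.card H → ∃ K : Subgroup H, K ≠ ⊤ ∧ ∃ k : ℕ, K.index = p ^ k) : Group.IsSolvable G := by
  exact solvable_aux h

end Cfsg.Agent.S0535
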