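import Cfsg.Statements.S0537
import Cfsg.Agent.Lib.Solvable.Schmidt

set_option autoImplicit false
open Cfsg

namespace Cfsg.Agent.S0537

open Subgroup

universe u

theorem fixed_of_omega {G : Type u} [Group G] [Finite G] {q : ℕ} (hq : q.Prime) (Q : Subgroup G)
    [Q.Normal] [IsMulCommutative Q] (hQ : IsPGroup q Q) {x : G} (hx : (orderOf x).Coprime q)
    (hfix : ∀ a ∈ Q, a ^ q = 1 → x * a * x⁻¹ = a) : ∀ a ∈ Q, x * a * x⁻¹ = a := by
  suffices h : ∀ j : ℕ, ∀ a ∈ Q, a ^ q ^ j = 1 → x * a * x⁻¹ = a by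
    intro a ha
    obtain ⟨j, hj⟩ := hQ ⟨a, ha⟩
    exact h j a ha (by simpa using congrArg Subtype.val hj)
  intro j
  induction j with
  | zero => intro a _ h1; rw [pow_zero, pow_one] at h1; simp [h1]
  | succ j ih =>
    intro a ha h1
    have hq' : x * a ^ q * x⁻¹ = a ^ q :=
      ih _ (Q.pow_mem ha q) (by rw [← pow_mul, ← pow_succ', h1])
    set c := x * a * x⁻¹ with hc
    have hcQ : c ∈ Q := Normal.conj_mem inferInstance a ha x
    have hac : Commute a⁻¹ c :=
      congrArg Subtype.val (mul_comm' (⟨a⁻¹, Q.inv_mem ha⟩ : Q) ⟨c, hcQ⟩)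
    set b := a⁻¹ * c with hb
    have hbQ : b ∈ Q := Q.mul_mem (Q.inv_mem ha) hcQ
    have hbq : b ^ q = 1 := by
      rw [hb, hac.mul_pow, hc, conj_pow, hq', inv_pow, inv_mul_cancel]
    have hcab : c = a * b := by rw [hb, mul_inv_cancel_left]
    have hiter : ∀ k : ℕ, x ^ k * a * (x ^ k)⁻¹ = a * b ^ k := by
      intro k
      induction k with
      | zero => simp
      | succ k ihk =>
        rw [pow_succ', show x * x ^ k * a * (x * x ^ k)⁻¹ = x * (x ^ k * a * (x ^ k)⁻¹) * x⁻¹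
          by group, ihk, show x * (a * b ^ k) * x⁻¹ = (x * a * x⁻¹) * (x * b ^ k * x⁻¹) by group,
          ← conj_pow, hfix b hbQ hbq, ← hc, hcab, pow_succ', mul_assoc]
    have h2 := hiter (orderOf x)
    rw [pow_orderOf_eq_one, one_mul, inv_one, mul_one, left_eq_mul] at h2
    have hb1 : b = 1 := orderOf_eq_one_iff.1 (Nat.eq_one_of_dvd_coprimes hx
      (orderOf_dvd_of_pow_eq_one h2) (orderOf_dvd_of_pow_eq_one hbq))
    rw [hcab, hb1, mul_one]

theorem minimal_nonabelian {G : Type u} [Group G] [Finite G] (hna : ¬ IsMulCommutative G)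
    (h : ∀ H : Subgroup G, H ≠ ⊤ → IsMulCommutative H) :
    (∃ p : ℕ, p.Prime ∧ IsPGroup p G) ∨ ∃ p q : ℕ, p.Prime ∧ q.Prime ∧ p ≠ q ∧
      ∃ (P : Sylow p G) (Q : Sylow q G), IsCyclic P ∧ (Q : Subgroup G).Normal ∧
        Cfsg.IsElementaryAbelian q (Q : Subgroup G) ∧ (P : Subgroup G) ⊔ Q = ⊤ := by
  refine or_iff_not_imp_left.2 fun hnp => ?_
  have hnil : ∀ H : Subgroup G, H ≠ ⊤ → Group.IsNilpotent H := fun H hH => by
    haveI := h H hH
    open scoped IsMulCommutative in infer_instance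
  have hnn : ¬ Group.IsNilpotent G := by
    intro hN
    apply hna
    suffices hc : center G = ⊤ from ⟨⟨fun a b => mem_center_iff.1 (hc ▸ mem_top b) a⟩⟩
    rw [← card_eq_iff_eq_top]
    refine Nat.dvd_antisymm (card_subgroup_dvd_card _) ?_
    rw [Nat.dvd_iff_prime_pow_dvd_dvd]
    intro q k hq hk
    haveI := Fact.mk hq
    obtain ⟨P⟩ : Nonempty (Sylow q G) := inferInstance
    refine (P.pow_dvd_card_of_pow_dvd_card hk).trans (card_dvd_of_le fun y hy => ?_)
    refine mem_center_iff.2 fun g => ?_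
    have hlt : ((P : Subgroup G) ⊔ zpowers g) = ⊤ → False := by
      intro ht
      have hPt : (P : Subgroup G) ≠ ⊤ := fun he => hnp ⟨q, hq, by
        exact P.isPGroup'.of_surjective (P : Subgroup G).subtype (fun x => ⟨⟨x, he ▸ mem_top x⟩, rfl⟩)⟩
      haveI := h _ hPt
      haveI := Cfsg.Agent.Transfer.nilpotent_sylow_normal hN P
      -- `G = P⟨g⟩` with `G / P` cyclic and every Sylow subgroup normal
      apply hna
      suffices hc : (P : Subgroup G) ≤ centralizer {g} by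
        refine ⟨⟨fun a b => ?_⟩⟩
        obtain ⟨u, hu, _, ⟨i, rfl⟩, rfl⟩ := mem_sup_of_normal_left.1 (ht ▸ mem_top a :
          a ∈ (P : Subgroup G) ⊔ zpowers g)
        obtain ⟨v, hv, _, ⟨j, rfl⟩, rfl⟩ := mem_sup_of_normal_left.1 (ht ▸ mem_top b :
          b ∈ (P : Subgroup G) ⊔ zpowers g)
        have huv : Commute u v := congrArg Subtype.val
          (mul_comm' (⟨u, hu⟩ : (P : Subgroup G)) ⟨v, hv⟩)
        have hu' : Commute u g := (mem_centralizer_iff.1 (hc hu) g rfl).symm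
        have hv' : Commute v g := (mem_centralizer_iff.1 (hc hv) g rfl).symm
        exact ((huv.mul_right (hu'.zpow_right j)).mul_left
          ((hv'.zpow_right i).symm.mul_right (Commute.zpow_zpow_self g i j))).eq
      -- write `g` as a `q`-part and a `q'`-part
      intro u hu
      refine mem_centralizer_iff.2 fun z hz => ?_
      rw [Set.mem_singleton_iff.1 hz]
      obtain ⟨e, m, hm, he⟩ := Nat.exists_eq_pow_mul_and_not_dvd (orderOf_pos g).ne' q hq.ne_one
      have hcop : (q ^ e).Coprime m := ((hq.coprime_iff_not_dvd).2 hm).pow_left e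
      have hgm : g ^ m ∈ (P : Subgroup G) := by
        refine Cfsg.Agent.Transfer.nilpotent_mem_sylow hN P (k := e) ?_
        have hm0 : m ≠ 0 := fun h0 => hm (by rw [h0]; exact dvd_zero q)
        rw [orderOf_pow' _ hm0, he, Nat.gcd_eq_right (dvd_mul_left m _),
          Nat.mul_div_cancel _ (Nat.pos_of_ne_zero hm0)]
      have c1 : Commute (g ^ m) u := congrArg Subtype.val
        (mul_comm' (⟨_, hgm⟩ : (P : Subgroup G)) ⟨u, hu⟩)
      have c2 : Commute (g ^ q ^ e) u := by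
        refine Cfsg.Agent.Transfer.nilpotent_commute_of_coprime hN ?_
        obtain ⟨i, hi⟩ := IsPGroup.iff_orderOf.1 P.isPGroup' ⟨u, hu⟩
        rw [Subgroup.orderOf_mk] at hi
        rw [orderOf_pow' _ (pow_ne_zero _ hq.ne_zero), he, Nat.gcd_eq_right (dvd_mul_right _ m),
          Nat.mul_div_cancel_left _ (pow_pos hq.pos e), hi]
        exact (((hq.coprime_iff_not_dvd).2 hm).pow_left i).symm
      obtain ⟨s, t, hst⟩ : ∃ s t : ℤ, ((q ^ e : ℕ) : ℤ) * s + (m : ℤ) * t = 1 :=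
        ⟨(q ^ e).gcdA m, (q ^ e).gcdB m, by rw [← Nat.gcd_eq_gcd_ab, hcop]; rfl⟩
      have : g = (g ^ q ^ e) ^ s * (g ^ m) ^ t := by
        rw [← zpow_natCast g (q ^ e), ← zpow_natCast g m, ← zpow_mul, ← zpow_mul, ← zpow_add,
          hst, zpow_one]
      rw [this]
      exact ((c2.zpow_left s).mul_left (c1.zpow_left t)).eq
    haveI := h _ hlt
    exact congrArg Subtype.val (mul_comm'
      (⟨g, mem_sup_right (mem_zpowers g)⟩ : ((P : Subgroup G) ⊔ zpowers g : Subgroup G))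
      ⟨y, mem_sup_left hy⟩)
  obtain ⟨p, q, hp, hq, hpq, P, Q, hPc, hQn, htop⟩ :=
    Cfsg.Agent.Solvable.minimalNonNilpotent_structure hnn hnil
  haveI := Fact.mk hp
  haveI := Fact.mk hq
  have hQt : (Q : Subgroup G) ≠ ⊤ := fun he => hnp ⟨q, hq,
    Q.isPGroup'.of_surjective (Q : Subgroup G).subtype (fun x => ⟨⟨x, he ▸ mem_top x⟩, rfl⟩)⟩
  haveI := h _ hQt
  refine ⟨p, q, hp, hq, hpq, P, Q, hPc, hQn, ⟨inferInstance, ?_⟩, htop⟩
  by_contra hne
  push Not at hne
  obtain ⟨a₀, ha₀, ha₀q⟩ := hne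
  obtain ⟨⟨x, hxP⟩, hx⟩ := hPc.exists_generator
  have hxo : (orderOf x).Coprime q := by
    obtain ⟨i, hi⟩ := IsPGroup.iff_orderOf.1 P.isPGroup' ⟨x, hxP⟩
    rw [Subgroup.orderOf_mk] at hi
    rw [hi]; exact ((Nat.coprime_primes hp hq).2 hpq).pow_left i
  -- the elements of order dividing `q`
  let Q₁ : Subgroup G :=
    { carrier := {a | a ∈ (Q : Subgroup G) ∧ a ^ q = 1}
      one_mem' := ⟨one_mem _, one_pow q⟩
      mul_mem' := fun {a b} ha hb => ⟨mul_mem ha.1 hb.1, by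
        have hab : Commute a b :=
          congrArg Subtype.val (mul_comm' (⟨a, ha.1⟩ : (Q : Subgroup G)) ⟨b, hb.1⟩)
        rw [hab.mul_pow, ha.2, hb.2, one_mul]⟩
      inv_mem' := fun {a} ha => ⟨inv_mem ha.1, by rw [inv_pow, ha.2, inv_one]⟩ }
  have hQ₁le : Q₁ ≤ Q := fun a ha => ha.1
  haveI : Q₁.Normal := ⟨fun a ha g => ⟨hQn.conj_mem a ha.1 g, by
    rw [conj_pow, ha.2, mul_one, mul_inv_cancel]⟩⟩
  have hfix : ∀ a ∈ (Q : Subgroup G), a ^ q = 1 → x * a * x⁻¹ = a := by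
    intro a ha haq
    have hne' : Q₁ ⊔ zpowers x ≠ ⊤ := by
      intro ht
      apply ha₀q
      obtain ⟨b, hb, v, hv, he⟩ := mem_sup_of_normal_left.1 (ht ▸ mem_top a₀ :
        a₀ ∈ Q₁ ⊔ zpowers x)
      obtain ⟨i, rfl⟩ := mem_zpowers_iff.1 hv
      have hd : (P : Subgroup G) ⊓ Q = ⊥ := disjoint_iff.1 (disjoint_of_coprime_natCard (by
        rw [P.card_eq_multiplicity, Q.card_eq_multiplicity]
        exact Nat.Coprime.pow _ _ ((Nat.coprime_primes hp hq).2 hpq)))
      have hxi : x ^ i ∈ (P : Subgroup G) ⊓ Q :=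
        ⟨zpow_mem hxP i, by
          have := mul_mem (inv_mem hb.1) ha₀
          rwa [← he, inv_mul_cancel_left] at this⟩
      rw [hd, mem_bot] at hxi
      rw [← he, hxi, mul_one]
      exact hb.2
    haveI := h _ hne'
    have := congrArg Subtype.val (mul_comm'
      (⟨x, mem_sup_right (mem_zpowers x)⟩ : (Q₁ ⊔ zpowers x : Subgroup G))
      ⟨a, mem_sup_left (show a ∈ Q₁ from ⟨ha, haq⟩)⟩)
    simp only [Subgroup.coe_mul] at this
    rw [this, mul_inv_cancel_right]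
  have hall := fixed_of_omega hq (Q : Subgroup G) Q.isPGroup' hxo hfix
  apply hna
  refine ⟨⟨fun a b => ?_⟩⟩
  have hmem : ∀ a : G, ∃ u ∈ (Q : Subgroup G), ∃ i : ℤ, u * x ^ i = a := by
    intro a
    obtain ⟨u, hu, v, hv, rfl⟩ := mem_sup_of_normal_left.1
      ((sup_comm _ _).trans htop ▸ mem_top a : a ∈ (Q : Subgroup G) ⊔ P)
    obtain ⟨i, hi⟩ := mem_zpowers_iff.1 (hx ⟨v, hv⟩)
    exact ⟨u, hu, i, by rw [show v = x ^ i by simpa using (congrArg Subtype.val hi).symm]⟩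
  obtain ⟨u, hu, i, rfl⟩ := hmem a
  obtain ⟨v, hv, j, rfl⟩ := hmem b
  have cx : ∀ u ∈ (Q : Subgroup G), Commute x u := fun u hu => mul_inv_eq_iff_eq_mul.1 (hall u hu)
  have huv : Commute u v := congrArg Subtype.val
    (mul_comm' (⟨u, hu⟩ : (Q : Subgroup G)) ⟨v, hv⟩)
  exact ((huv.mul_right ((cx u hu).symm.zpow_right j)).mul_left
    (((cx v hv).zpow_left i).mul_right (Commute.zpow_zpow_self x i j))).eq

/-- A finite non-abelian group in which every proper subgroup is abelian is either of prime-power order, or is generated by a cyclic Sylow p-subgroup and a normal Sylow q-subgroup that is elementary abelian, for distinct primes p and q. -/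
theorem result {G : Type*} [Group G] [Finite G] (hna : ¬ IsMulCommutative G) (h : ∀ H : Subgroup G, H ≠ ⊤ → IsMulCommutative H) : (∃ p : ℕ, p.Prime ∧ IsPGroup p G) ∨ ∃ p q : ℕ, p.Prime ∧ q.Prime ∧ p ≠ q ∧ ∃ (P : Sylow p G) (Q : Sylow q G), IsCyclic P ∧ (Q : Subgroup G).Normal ∧ Cfsg.IsElementaryAbelian q (Q : Subgroup G) ∧ (P : Subgroup G) ⊔ Q = ⊤ := by
  exact minimal_nonabelian hna h

end Cfsg.Agent.S0537
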