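import Cfsg.Statements.S0542
import Cfsg.Agent.Lib.Solvable.System

set_option autoImplicit false
open Cfsg

namespace Cfsg.Agent.S0542

open Subgroup

theorem not_dvd_relIndex {G : Type*} [Group G] [Finite G] (p : ℕ) [Fact p.Prime] (H : Subgroup G)
    (hH : H.IsSubnormal) (S : Sylow p G) : ¬ p ∣ (S : Subgroup G).relIndex H := by
  induction hH with
  | top => rw [relIndex_top_right]; exact S.not_dvd_index
  | step A B hle hB hn ih =>
    intro hd
    refine ih (hd.trans ?_)
    have h2 := Cfsg.Agent.Solvable.relIndex_dvd_index_right_normal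
      ((S : Subgroup G).subgroupOf B) (A.subgroupOf B) (G := B)
    rwa [relIndex_subgroupOf hle] at h2

theorem exists_sylow {G : Type*} [Group G] [Finite G] (p : ℕ) [Fact p.Prime] (H : Subgroup G)
    (hH : H.IsSubnormal) (S : Sylow p G) :
    ∃ Q : Sylow p H, (Q : Subgroup H) = (S : Subgroup G).subgroupOf H :=
  ⟨(S.isPGroup'.comap_subtype (K := H)).toSylow (not_dvd_relIndex p H hH S), rfl⟩

/-- A Sylow p-subgroup of a finite group meets every subnormal subgroup H in a Sylow p-subgroup of H. -/
theorem result {G : Type*} [Group G] [Finite G] (p : ℕ) [Fact p.Prime] (H : Subgroup G) (hH : H.IsSubnormal) (S : Sylow p G) : ∃ Q : Sylow p H, (Q : Subgroup H) = (S : Subgroup G).subgroupOf H := by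
  obtain ⟨Q, hQ⟩ := exists_sylow p H hH S
  exact ⟨Q, hQ⟩

end Cfsg.Agent.S0542
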