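import Cfsg.Statements.S0550
import Cfsg.Agent.Lib.Solvable.Maximal

set_option autoImplicit false
open Cfsg

namespace Cfsg.Agent.S0550

/-- Let U be a maximal subgroup with trivial normal core in a finite group G, and A ≠ B two minimal normal subgroups. Then A is the centralizer of B and B that of A, U complements each of them, A and B are non-abelian, and A, B and (A ⊔ B) ∩ U are pairwise isomorphic. -/
theorem result {G : Type*} [Group G] [Finite G] (U : Subgroup G) (hU : IsCoatom U) (hcore : U.normalCore = ⊥) (A B : Subgroup G) [A.Normal] [B.Normal] (hA : A ≠ ⊥) (hB : B ≠ ⊥) (hAmin : ∀ K : Subgroup G, K.Normal → K ≤ A → K = ⊥ ∨ K = A) (hBmin : ∀ K : Subgroup G, K.Normal → K ≤ B → K = ⊥ ∨ K = B) (hAB : A ≠ B) : Subgroup.centralizer (B : Set G) = A ∧ Subgroup.centralizer (A : Set G) = B ∧ Subgroup.IsComplement' A U ∧ Subgroup.IsComplement' B U ∧ ¬ IsMulCommutative A ∧ Nonempty (A ≃* B) ∧ Nonempty (A ≃* ↥((A ⊔ B) ⊓ U)) := by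
  have hdisj : A ⊓ B = ⊥ := by
    rcases hAmin (A ⊓ B) inferInstance inf_le_left with h | h
    · exact h
    · rcases hBmin A inferInstance (inf_eq_left.1 h) with h' | h'
      · exact absurd h' hA
      · exact absurd h' hAB
  have hcomm : A ≤ Subgroup.centralizer (B : Set G) := by
    intro a ha b hb
    exact (Subgroup.commute_of_normal_of_disjoint A B inferInstance inferInstance
      (disjoint_iff.2 hdisj) a b ha hb).symm
  have hcomm' : B ≤ Subgroup.centralizer (A : Set G) := Subgroup.le_centralizer_iff.1 hcomm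
  have e1 : Subgroup.centralizer (B : Set G) = A :=
    (Cfsg.Agent.Solvable.eq_centralizer_of_normal_le hU hcore B hB hA hcomm).symm
  have e2 : Subgroup.centralizer (A : Set G) = B :=
    (Cfsg.Agent.Solvable.eq_centralizer_of_normal_le hU hcore A hA hB hcomm').symm
  have iA : A ⊓ U = ⊥ := by
    rw [← e1]; exact Cfsg.Agent.Solvable.centralizer_inf_eq_bot hU hcore B hB
  have iB : B ⊓ U = ⊥ := by
    rw [← e2]; exact Cfsg.Agent.Solvable.centralizer_inf_eq_bot hU hcore A hA
  have sA := Cfsg.Agent.Solvable.sup_eq_top_of_coatom hU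
    (Cfsg.Agent.Solvable.not_le_of_normalCore_eq_bot hcore hA)
  have sB := Cfsg.Agent.Solvable.sup_eq_top_of_coatom hU
    (Cfsg.Agent.Solvable.not_le_of_normalCore_eq_bot hcore hB)
  -- the diagonal subgroup
  have hD : ∀ C : Subgroup G, C.Normal → C ≤ A ⊔ B → C ⊔ U = ⊤ →
      ((A ⊔ B) ⊓ U) ⊔ C = A ⊔ B := by
    intro C hCn hC hCU
    refine le_antisymm (sup_le inf_le_left hC) fun y hy => ?_
    have hy' : y ∈ C ⊔ U := by rw [hCU]; exact Subgroup.mem_top y
    rw [Subgroup.mem_sup_of_normal_left] at hy'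
    obtain ⟨c, hc, u, hu, rfl⟩ := hy'
    refine mul_mem (Subgroup.mem_sup_right hc) (Subgroup.mem_sup_left ⟨?_, hu⟩)
    simpa using mul_mem (inv_mem (hC hc)) hy
  obtain ⟨eB⟩ := Cfsg.Agent.Solvable.nonempty_mulEquiv_of_sup_eq (A := A) (X := B)
    (Y := (A ⊔ B) ⊓ U) (by rw [inf_comm, hdisj])
    (eq_bot_iff.2 (le_trans (le_inf inf_le_right (inf_le_left.trans inf_le_right)) iA.le))
    (by rw [hD A inferInstance le_sup_left sA, sup_comm])
  obtain ⟨eA⟩ := Cfsg.Agent.Solvable.nonempty_mulEquiv_of_sup_eq (A := B) (X := A)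
    (Y := (A ⊔ B) ⊓ U) hdisj
    (eq_bot_iff.2 (le_trans (le_inf inf_le_right (inf_le_left.trans inf_le_right)) iB.le))
    (by rw [hD B inferInstance le_sup_right sB])
  refine ⟨e1, e2, Cfsg.Agent.Solvable.isComplement'_of_normal_sup_inf iA sA,
    Cfsg.Agent.Solvable.isComplement'_of_normal_sup_inf iB sB, fun hab => ?_,
    ⟨eA.trans eB.symm⟩, ⟨eA⟩⟩
  have hle := Subgroup.le_centralizer A
  rw [e2] at hle
  exact hA (by rw [← hdisj, inf_eq_left.2 hle])

end Cfsg.Agent.S0550
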