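import Cfsg.Statements.S0552
import Cfsg.Agent.Lib.Fitting.Minimal

set_option autoImplicit false
open Cfsg

namespace Cfsg.Agent.S0552

/-- Let σ be an automorphism of a finite solvable group G fixing every element of the Fitting subgroup. If σ is not the identity then the order of σ and the order of G have a common prime factor. -/
theorem result {G : Type*} [Group G] [Finite G] [Group.IsSolvable G] (σ : G ≃* G) (hσ : ∀ x ∈ Cfsg.fittingSubgroup G, σ x = x) (hne : σ ≠ MulEquiv.refl G) : ¬ (orderOf σ).Coprime (Nat.card G) := by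
  intro hco
  apply hne
  ext g
  set c := g⁻¹ * σ g with hc
  have hcC : c ∈ Subgroup.centralizer (Cfsg.fittingSubgroup G : Set G) := by
    rw [Subgroup.mem_centralizer_iff]
    intro x hx
    have hconj : g * x * g⁻¹ ∈ Cfsg.fittingSubgroup G :=
      (Cfsg.Agent.Fitting.fitting_normal (G := G)).conj_mem x hx g
    have h1 := hσ _ hconj
    rw [map_mul, map_mul, map_inv, hσ x hx] at h1
    rw [hc]
    calc x * (g⁻¹ * σ g) = g⁻¹ * (g * x * g⁻¹) * σ g := by group
      _ = g⁻¹ * (σ g * x * (σ g)⁻¹) * σ g := by rw [h1]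
      _ = g⁻¹ * σ g * x := by group
  have hcF := Cfsg.Agent.Fitting.centralizer_fitting_le hcC
  have hσc : σ c = c := hσ c hcF
  have hiter : ∀ k : ℕ, (σ ^ k) g = g * c ^ k := by
    intro k
    induction k with
    | zero => simp
    | succ k ih =>
      rw [pow_succ', MulAut.mul_apply, ih, map_mul, map_pow, hσc, pow_succ', hc, ← mul_assoc]
      group
  have h2 : c ^ orderOf σ = 1 := by
    have h2 := hiter (orderOf σ)
    rw [pow_orderOf_eq_one, MulAut.one_apply, left_eq_mul] at h2
    exact h2
  have hc1 : c = 1 := orderOf_eq_one_iff.1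
    (Nat.eq_one_of_dvd_coprimes hco (orderOf_dvd_of_pow_eq_one h2) (orderOf_dvd_natCard c))
  rw [hc, inv_mul_eq_one] at hc1
  exact hc1.symm

end Cfsg.Agent.S0552
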