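import Cfsg.Statements.S0553
import Cfsg.Agent.Lib.Solvable.Maximal
import Mathlib.GroupTheory.Frattini
import Mathlib.Algebra.Group.Subgroup.Order

set_option autoImplicit false
open Cfsg

namespace Cfsg.Agent.S0553

open Subgroup

universe u

theorem exists_normal_sylow {G : Type u} [Group G] [Finite G] [Group.IsSolvable G] [Nontrivial G]
    (h : ∀ M : Subgroup G, IsCoatom M → (Nat.card M).Coprime M.index) :
    ∃ p : ℕ, p.Prime ∧ p ∣ Nat.card G ∧ ∀ P : Sylow p G, (P : Subgroup G).Normal := by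
  suffices hs : ∃ p : ℕ, p.Prime ∧ p ∣ Nat.card G ∧ ∃ P : Sylow p G, (P : Subgroup G).Normal by
    obtain ⟨p, hp, hpd, P, hP⟩ := hs
    haveI := Fact.mk hp
    haveI := Sylow.unique_of_normal P hP
    exact ⟨p, hp, hpd, fun Q => by rwa [Subsingleton.elim Q P]⟩
  induction hk : Nat.card G using Nat.strong_induction_on generalizing G with
  | _ k ih =>
  obtain ⟨N, p, hNn, hN, hmin, hp, hNp, hNab, -, d, hd0, hd⟩ :=
    Cfsg.Agent.Solvable.exists_minimal_normal_elementary G
  haveI := Fact.mk hp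
  have hpG : p ∣ k := hk ▸ (hd ▸ dvd_pow_self p hd0.ne').trans (card_subgroup_dvd_card N)
  have hNsylow : ¬ p ∣ N.index →
      ∃ p : ℕ, p.Prime ∧ p ∣ k ∧ ∃ P : Sylow p G, (P : Subgroup G).Normal :=
    fun hni => ⟨p, hp, hpG, hNp.toSylow hni, hNn⟩
  by_cases hni : ¬ p ∣ N.index
  · exact hNsylow hni
  push Not at hni
  set π := QuotientGroup.mk' N
  have hπ : Function.Surjective π := QuotientGroup.mk'_surjective N
  have : Nontrivial (G ⧸ N) := by
    rw [← Finite.one_lt_card_iff_nontrivial, ← index_eq_card]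
    exact lt_of_lt_of_le hp.one_lt
      (Nat.le_of_dvd (Nat.pos_of_ne_zero index_ne_zero_of_finite) hni)
  have hlt : Nat.card (G ⧸ N) < k := by
    rw [← hk, card_eq_card_quotient_mul_card_subgroup N]
    exact lt_mul_of_one_lt_right Nat.card_pos ((one_lt_card_iff_ne_bot N).2 hN)
  have hmax : ∀ M : Subgroup (G ⧸ N), IsCoatom M → (Nat.card M).Coprime M.index := by
    intro M hM
    have hc := h _ (isCoatom_comap_of_surjective hπ hM)
    rw [index_comap_of_surjective M hπ, Cfsg.Agent.Solvable.card_comap_mk'] at hc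
    exact hc.coprime_mul_right
  obtain ⟨q, hq, hqd, Q', hQ'⟩ := ih _ hlt hmax rfl
  haveI := Fact.mk hq
  obtain ⟨Q, hQ⟩ := Sylow.mapSurjective_surjective hπ q Q'
  have hL : ((Q : Subgroup G) ⊔ N).Normal := by
    rw [← Cfsg.Agent.Solvable.comap_map_mk', ← Sylow.coe_mapSurjective hπ, hQ]
    exact hQ'.comap π
  have hqG : q ∣ k := hk ▸ hqd.trans (card_quotient_dvd_card N)
  by_cases hQn : normalizer ((Q : Subgroup G) : Set G) = ⊤
  · exact ⟨q, hq, hqG, Q, normalizer_eq_top_iff.1 hQn⟩
  obtain ⟨M, hM, hle⟩ := (eq_top_or_exists_le_coatom _).resolve_left hQn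
  have hsup : (Q : Subgroup G) ⊔ N ⊔ normalizer ((Q : Subgroup G) : Set G) = ⊤ := by
    have := Sylow.normalizer_sup_eq_top' Q (le_sup_left : (Q : Subgroup G) ≤ (Q : Subgroup G) ⊔ N)
    rwa [sup_comm] at this
  have hNM : N ⊔ M = ⊤ := by
    rw [eq_top_iff, ← hsup]
    exact sup_le (sup_le ((le_normalizer.trans hle).trans le_sup_right) le_sup_left)
      (hle.trans le_sup_right)
  have hbot := Cfsg.Agent.Solvable.inf_eq_bot_of_minimal_normal N M hmin hNM hM.1
  have hc := Cfsg.Agent.Solvable.isComplement'_of_normal_sup_inf hbot hNM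
  refine hNsylow fun hpi => hp.ne_one (Nat.eq_one_of_dvd_coprimes (h M hM) ?_ ?_)
  · rwa [← hc.symm.index_eq_card]
  · rw [hc.index_eq_card, hd]
    exact dvd_pow_self p hd0.ne'

/-- Let G be a nontrivial finite solvable group in which every maximal subgroup has order coprime to its index. Then for some prime p dividing the order of G the Sylow p-subgroups of G are normal. -/
theorem result {G : Type*} [Group G] [Finite G] [Group.IsSolvable G] [Nontrivial G] (h : ∀ M : Subgroup G, IsCoatom M → (Nat.card M).Coprime M.index) : ∃ p : ℕ, p.Prime ∧ p ∣ Nat.card G ∧ ∀ P : Sylow p G, (P : Subgroup G).Normal := by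
  exact exists_normal_sylow h

end Cfsg.Agent.S0553
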