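import Cfsg.Statements.S0554
import Cfsg.Agent.Lib.Solvable.Basic
import Mathlib.GroupTheory.Sylow

set_option autoImplicit false
open Cfsg

namespace Cfsg.Agent.S0554

open Subgroup

/-- A right factor from a normal subgroup can be moved into any position of a product. -/
theorem exists_update_prod {G : Type*} [Group G] (N : Subgroup G) [N.Normal] :
    ∀ (t : ℕ) (f : Fin t → G) (j : Fin t) (n : G), n ∈ N →
      ∃ m ∈ N, (List.ofFn (Function.update f j (f j * m))).prod = (List.ofFn f).prod * n := by
  intro t
  induction t with
  | zero => exact fun f j => j.elim0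
  | succ t ih =>
    intro f j n hn
    induction j using Fin.cases with
    | zero =>
      set T := (List.ofFn (fun i : Fin t => f i.succ)).prod
      refine ⟨T * n * T⁻¹, Normal.conj_mem inferInstance n hn T, ?_⟩
      rw [List.ofFn_succ, List.ofFn_succ, List.prod_cons, List.prod_cons, Function.update_self]
      simp only [Function.update_of_ne (Fin.succ_ne_zero _)]
      show f 0 * (T * n * T⁻¹) * T = f 0 * T * n
      group
    | succ k =>
      obtain ⟨m, hm, he⟩ := ih (fun i => f i.succ) k n hn
      refine ⟨m, hm, ?_⟩
      rw [List.ofFn_succ, List.ofFn_succ, List.prod_cons, List.prod_cons,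
        Function.update_of_ne (Fin.succ_ne_zero _).symm]
      have hc : (fun i : Fin t => Function.update f k.succ (f k.succ * m) i.succ) =
          Function.update (fun i => f i.succ) k (f k.succ * m) :=
        Function.update_comp_eq_of_injective f (Fin.succ_injective _) k (f k.succ * m)
      rw [hc, he, mul_assoc]

theorem exists_prod (G : Type*) [Group G] [Finite G] [Group.IsSolvable G] (t : ℕ) (p : Fin t → ℕ)
    (hp : ∀ i, (p i).Prime) (hinj : Function.Injective p)
    (hall : ∀ q : ℕ, q.Prime → q ∣ Nat.card G → ∃ i, p i = q) (S : (i : Fin t) → Sylow (p i) G)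
    (g : G) : ∃ s : (i : Fin t) → G, (∀ i, s i ∈ (S i : Subgroup G)) ∧ g = (List.ofFn s).prod := by
  induction hk : Nat.card G using Nat.strong_induction_on generalizing G with
  | _ k ih =>
  rcases subsingleton_or_nontrivial G with hs | hs
  · exact ⟨fun _ => 1, fun i => one_mem _, Subsingleton.elim _ _⟩
  obtain ⟨N, r, hNn, hN, -, hr, hNr, -, -, d, hd0, hd⟩ :=
    Cfsg.Agent.Solvable.exists_minimal_normal_elementary G
  obtain ⟨j, rfl⟩ := hall r hr ((hd ▸ dvd_pow_self r hd0.ne').trans (card_subgroup_dvd_card N))
  haveI : ∀ i, Fact (p i).Prime := fun i => ⟨hp i⟩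
  set π := QuotientGroup.mk' N
  have hπ : Function.Surjective π := QuotientGroup.mk'_surjective N
  have hlt : Nat.card (G ⧸ N) < k := by
    rw [← hk, card_eq_card_quotient_mul_card_subgroup N]
    exact lt_mul_of_one_lt_right Nat.card_pos ((one_lt_card_iff_ne_bot N).2 hN)
  obtain ⟨s', hs', he⟩ := ih _ hlt (G ⧸ N)
    (fun q hq h => hall q hq (h.trans (card_quotient_dvd_card N)))
    (fun i => (S i).mapSurjective hπ) (π g) rfl
  have hlift : ∀ i, ∃ a ∈ (S i : Subgroup G), π a = s' i := fun i => by
    have := hs' i
    rw [Sylow.coe_mapSurjective] at this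
    exact this
  choose s hsS hsπ using hlift
  have hn : (List.ofFn s).prod⁻¹ * g ∈ N := by
    rw [← QuotientGroup.eq, eq_comm]
    show π g = π (List.ofFn s).prod
    rw [he, map_list_prod, List.map_ofFn]
    exact congrArg (fun f => (List.ofFn f).prod) (funext fun i => (hsπ i).symm)
  obtain ⟨m, hm, he'⟩ := exists_update_prod N t s j _ hn
  refine ⟨Function.update s j (s j * m), fun i => ?_, ?_⟩
  · rcases eq_or_ne i j with rfl | hij
    · rw [Function.update_self]
      exact mul_mem (hsS i) (IsPGroup.le_sylow_of_normal hNr (S i) hm)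
    · rw [Function.update_of_ne hij]; exact hsS i
  · rw [he', mul_inv_cancel_left]

/-- Let G be a finite solvable group and let S assign to each of t distinct primes, including every prime divisor of the order of G, a Sylow subgroup of G. Then every element of G is a product s_0 s_1 ⋯ s_(t-1) with s_i in S i, the factors taken in the given order. -/
theorem result {G : Type*} [Group G] [Finite G] [Group.IsSolvable G] (t : ℕ) (p : Fin t → ℕ) (hp : ∀ i, (p i).Prime) (hinj : Function.Injective p) (hall : ∀ q : ℕ, q.Prime → q ∣ Nat.card G → ∃ i, p i = q) (S : (i : Fin t) → Sylow (p i) G) : ∀ g : G, ∃ s : (i : Fin t) → G, (∀ i, s i ∈ (S i : Subgroup G)) ∧ g = (List.ofFn s).prod := by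
  intro g
  exact exists_prod G t p hp hinj hall S g

end Cfsg.Agent.S0554
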