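import Cfsg.Statements.S0555
import Mathlib.GroupTheory.Solvable
import Mathlib.GroupTheory.SpecificGroups.Cyclic
import Mathlib.GroupTheory.QuotientGroup.Basic

set_option autoImplicit false
open Cfsg

namespace Cfsg.Agent.S0555

open Subgroup
open scoped commutatorElement

theorem exists_generator {G : Type*} [Group G] (A B : Subgroup G) [B.Normal]
    (h : IsCyclic (↥A ⧸ B.subgroupOf A)) : ∃ a ∈ A, ∀ x ∈ A, ∃ k : ℤ, (a ^ k)⁻¹ * x ∈ B := by
  obtain ⟨q, hq⟩ := h.exists_generator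
  obtain ⟨a, rfl⟩ := QuotientGroup.mk_surjective q
  refine ⟨a, a.2, fun x hx => ?_⟩
  obtain ⟨k, hk⟩ := mem_zpowers_iff.1 (hq (QuotientGroup.mk ⟨x, hx⟩))
  refine ⟨k, ?_⟩
  rw [← QuotientGroup.mk_zpow, QuotientGroup.eq, mem_subgroupOf] at hk
  simpa using hk

/-- Commutators centralize a generator of a cyclic normal subgroup. -/
theorem commute_commutatorElement {Q : Type*} [Group Q] (z : Q) (hz : (zpowers z).Normal)
    (a b : Q) : Commute z ⁅a, b⁆ := by
  have hconj : ∀ a : Q, ∃ k : ℤ, a * z * a⁻¹ = z ^ k := fun a => by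
    have := hz.conj_mem z (mem_zpowers _) a
    rw [mem_zpowers_iff] at this
    obtain ⟨k, hk⟩ := this
    exact ⟨k, hk.symm⟩
  have hab : ∀ a b : Q, (a * b) * z * (a * b)⁻¹ = (b * a) * z * (b * a)⁻¹ := by
    intro a b
    obtain ⟨k, hk⟩ := hconj a
    obtain ⟨l, hl⟩ := hconj b
    have e1 : (a * b) * z * (a * b)⁻¹ = a * (b * z * b⁻¹) * a⁻¹ := by group
    have e2 : (b * a) * z * (b * a)⁻¹ = b * (a * z * a⁻¹) * b⁻¹ := by group
    rw [e1, e2, hl, hk, ← conj_zpow, ← conj_zpow, hl, hk, ← zpow_mul, ← zpow_mul, mul_comm]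
  have hfix : ⁅a, b⁆ * z * ⁅a, b⁆⁻¹ = z := by
    have hh := hab a⁻¹ b⁻¹
    have e : ⁅a, b⁆ * z * ⁅a, b⁆⁻¹ =
        (a * b) * ((a⁻¹ * b⁻¹) * z * (a⁻¹ * b⁻¹)⁻¹) * (a * b)⁻¹ := by
      rw [commutatorElement_def]; group
    rw [e, hh]; group
  exact (mul_inv_eq_iff_eq_mul.1 hfix).symm

theorem derived_stab {G : Type*} [Group G] (i : ℕ) (hi : 1 ≤ i)
    (h₁ : IsCyclic (↥(derivedSeries G i) ⧸ (derivedSeries G (i + 1)).subgroupOf (derivedSeries G i)))
    (h₂ : IsCyclic (↥(derivedSeries G (i + 1)) ⧸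
      (derivedSeries G (i + 2)).subgroupOf (derivedSeries G (i + 1)))) :
    derivedSeries G (i + 1) = derivedSeries G (i + 2) := by
  refine le_antisymm ?_ (derivedSeries_antitone G (Nat.le_succ _))
  set H := derivedSeries G i
  set K := derivedSeries G (i + 1)
  set L := derivedSeries G (i + 2)
  haveI hKn : K.Normal := derivedSeries_normal G (i + 1)
  haveI hLn : L.Normal := derivedSeries_normal G (i + 2)
  have hLK : L ≤ K := derivedSeries_antitone G (Nat.le_succ _)
  have hHc : H ≤ commutator G := derivedSeries_one G ▸ derivedSeries_antitone G hi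
  set π := QuotientGroup.mk' L
  obtain ⟨z, hzK, hz⟩ := exists_generator K L h₂
  obtain ⟨a, -, ha⟩ := exists_generator H K h₁
  have hKz : K.map π = zpowers (π z) := by
    refine le_antisymm ?_ (zpowers_le.2 (mem_map_of_mem _ hzK))
    rintro _ ⟨x, hx, rfl⟩
    obtain ⟨k, hk⟩ := hz x hx
    refine mem_zpowers_iff.2 ⟨k, ?_⟩
    rw [← map_zpow]
    exact (QuotientGroup.eq (s := L)).2 hk
  have hzn : (zpowers (π z)).Normal :=
    hKz ▸ hKn.map π (QuotientGroup.mk'_surjective L)
  have hcent : H.map π ≤ centralizer {π z} := by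
    refine (map_mono hHc).trans ?_
    rw [map_commutator_eq]
    refine commutator_le.2 fun x _ y _ => mem_centralizer_iff.2 ?_
    rintro _ rfl
    exact (commute_commutatorElement _ hzn x y).eq
  have hcK : ∀ u ∈ H, ∀ v ∈ K, Commute (π u) (π v) := fun u hu v hv => by
    obtain ⟨k, hk⟩ := mem_zpowers_iff.1 (hKz ▸ mem_map_of_mem π hv : π v ∈ zpowers (π z))
    rw [← hk]
    exact Commute.zpow_right (mem_centralizer_iff.1 (hcent (mem_map_of_mem π hu)) _ rfl).symm k
  have haH : ∀ x ∈ H, ∀ y ∈ H, Commute (π x) (π y) := by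
    intro x hx y hy
    obtain ⟨k, hk⟩ := ha x hx
    obtain ⟨l, hl⟩ := ha y hy
    have hKH : K ≤ H := derivedSeries_antitone G (Nat.le_succ _)
    have hak : a ^ k ∈ H := by
      have h' := H.mul_mem hx (H.inv_mem (hKH hk))
      rwa [show x * ((a ^ k)⁻¹ * x)⁻¹ = a ^ k by group] at h'
    have hal : a ^ l ∈ H := by
      have h' := H.mul_mem hy (H.inv_mem (hKH hl))
      rwa [show y * ((a ^ l)⁻¹ * y)⁻¹ = a ^ l by group] at h'
    rw [show x = a ^ k * ((a ^ k)⁻¹ * x) by group, show y = a ^ l * ((a ^ l)⁻¹ * y) by group,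
      map_mul π (a ^ k), map_mul π (a ^ l)]
    refine Commute.mul_left ?_ ?_
    · refine Commute.mul_right ?_ (hcK _ hak _ hl)
      rw [map_zpow, map_zpow]
      exact Commute.zpow_zpow_self _ k l
    · exact Commute.mul_right (hcK _ hal _ hk).symm (hcK _ (hKH hk) _ hl)
  show ⁅H, H⁆ ≤ L
  refine commutator_le.2 fun x hx y hy => ?_
  rw [← QuotientGroup.eq_one_iff, ← QuotientGroup.mk'_apply, map_commutatorElement,
    commutatorElement_eq_one_iff_mul_comm]
  exact haH x hx y hy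

/-- Let i ≥ 1. If in the derived series of a group the quotient of the i-th term by the (i+1)-st and the quotient of the (i+1)-st by the (i+2)-nd are both cyclic, then the (i+1)-st and (i+2)-nd terms coincide. -/
theorem result {G : Type*} [Group G] (i : ℕ) (hi : 1 ≤ i) (h₁ : IsCyclic (↥(derivedSeries G i) ⧸ (derivedSeries G (i + 1)).subgroupOf (derivedSeries G i))) (h₂ : IsCyclic (↥(derivedSeries G (i + 1)) ⧸ (derivedSeries G (i + 2)).subgroupOf (derivedSeries G (i + 1)))) : derivedSeries G (i + 1) = derivedSeries G (i + 2) := by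
  exact derived_stab i hi h₁ h₂

end Cfsg.Agent.S0555
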