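import Cfsg.Statements.S0556
import Cfsg.Agent.Lib.Solvable.Maximal
import Cfsg.Agent.Lib.Frobenius.Basic
import Cfsg.Agent.Lib.Coprime.Action
import Cfsg.Agent.Lib.Transfer.Hall

set_option autoImplicit false
open Cfsg

namespace Cfsg.Agent.S0556

open Subgroup
open scoped Pointwise commutatorElement

variable {G : Type*} [Group G]

theorem derivedSeries_two_eq_bot_of_le (N : Subgroup G) [IsMulCommutative N]
    (h : commutator G ≤ N) : derivedSeries G 2 = ⊥ := by
  rw [derivedSeries_succ, derivedSeries_one, commutator_eq_bot_iff_le_centralizer]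
  exact h.trans ((le_centralizer N).trans (centralizer_le h))

/-- A finite group with a TI abelian self-normalizing maximal subgroup. -/
theorem derived_two_of_frobenius [Finite G] (A : Subgroup G) (hA : IsCoatom A)
    [IsMulCommutative A] (hF : Cfsg.IsFrobeniusComplement A) : derivedSeries G 2 = ⊥ := by
  have hnc : normalizer (A : Set G) ≤ centralizer (A : Set G) := by
    rw [Cfsg.Agent.Frobenius.normalizer_eq hF]; exact le_centralizer A
  have hco := Cfsg.Agent.Frobenius.coprime_card_index hF
  obtain ⟨N, hNn, hNA⟩ :=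
    Cfsg.Agent.Transfer.exists_normal_complement_of_hall_central A hco hnc
  have hNc : Nat.card N = A.index := hNA.index_eq_card.symm
  have hN1 : Nat.card N ≠ 1 := fun h => hA.1 (index_eq_one.1 (hNc.symm.trans h))
  obtain ⟨q, hq, hqd⟩ := Nat.exists_prime_and_dvd hN1
  haveI := Fact.mk hq
  haveI : Group.IsSolvable A := Group.isSolvable_of_comm fun a b => mul_comm' a b
  obtain ⟨P, hP⟩ := Cfsg.Agent.Coprime.exists_invariant_sylow A N
    (by rw [normalizer_eq_top_iff.2 hNn]; exact le_top) (hNc ▸ hco) (Or.inl inferInstance) q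
  set Q := (P : Subgroup N).map N.subtype with hQ
  have hQN : Q ≤ N := map_subtype_le _
  have hQb : Q ≠ ⊥ := by
    rw [hQ, ne_eq, map_eq_bot_iff_of_injective _ N.subtype_injective]
    exact P.ne_bot_of_dvd_card hqd
  have hQA : ¬ Q ≤ A := fun h => hQb (eq_bot_iff.2 (hNA.disjoint.le_bot.trans' (le_inf hQN h)))
  have htop := Cfsg.Agent.Solvable.sup_eq_top_of_coatom hA hQA
  haveI hQn : Q.Normal := by
    rw [← normalizer_eq_top_iff, eq_top_iff, ← htop]
    exact sup_le le_normalizer hP
  have hQeq : Q = N := by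
    refine Cfsg.Agent.Solvable.eq_of_le_of_card_le hQN ?_
    have h1 := Cfsg.Agent.Solvable.card_sup_mul_card_inf A Q
    have h2 : A ⊓ Q = ⊥ := eq_bot_iff.2
      ((inf_le_inf_left A hQN).trans ((inf_comm A N).le.trans hNA.disjoint.le_bot))
    rw [sup_comm, htop, h2, Subgroup.card_top, card_bot, mul_one, ← A.card_mul_index, ← hNc] at h1
    exact (Nat.eq_of_mul_eq_mul_left Nat.card_pos h1).le
  have hNp : IsPGroup q N := hQeq ▸ P.isPGroup'.map _
  haveI := hNp.isNilpotent
  have hNb : N ≠ ⊥ := fun h => hN1 (card_eq_one.2 h)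
  have hNab : IsMulCommutative N := by
    rw [← le_centralizer_iff_isMulCommutative, ← commutator_eq_bot_iff_le_centralizer]
    by_contra hb
    have hnA : ¬ ⁅N, N⁆ ≤ A := fun h => hb (eq_bot_iff.2
      (hNA.disjoint.le_bot.trans' (le_inf (commutator_le_left N N) h)))
    have ht := Cfsg.Agent.Solvable.sup_eq_top_of_coatom hA hnA
    have h1 := Cfsg.Agent.Solvable.card_sup_mul_card_inf A ⁅N, N⁆
    have h2 : A ⊓ ⁅N, N⁆ = ⊥ := eq_bot_iff.2
      ((inf_le_inf_left A (commutator_le_left N N)).trans
        ((inf_comm A N).le.trans hNA.disjoint.le_bot))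
    rw [sup_comm, ht, h2, Subgroup.card_top, card_bot, mul_one, ← A.card_mul_index, ← hNc] at h1
    haveI : Nontrivial N := (nontrivial_iff_ne_bot N).2 hNb
    have hlt : commutator N < ⊤ := Group.IsSolvable.commutator_lt_top_of_nontrivial N
    refine hlt.ne ?_
    apply map_injective (f := N.subtype) N.subtype_injective
    rw [map_subtype_commutator, ← MonoidHom.range_eq_map, range_subtype]
    exact Cfsg.Agent.Solvable.eq_of_le_of_card_le (commutator_le_left N N)
      (Nat.eq_of_mul_eq_mul_left Nat.card_pos h1).le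
  refine derivedSeries_two_eq_bot_of_le N ?_
  rw [commutator_def, commutator_le]
  intro x _ y _
  have hmem : ∀ x : G, x ∈ N ⊔ A := fun x => by rw [hNA.sup_eq_top]; exact mem_top x
  obtain ⟨n, hn, a, ha, rfl⟩ := mem_sup_of_normal_left.1 (hmem x)
  obtain ⟨m, hm, b, hb, rfl⟩ := mem_sup_of_normal_left.1 (hmem y)
  rw [← QuotientGroup.eq_one_iff, ← QuotientGroup.mk'_apply, map_commutatorElement, map_mul,
    map_mul, QuotientGroup.mk'_apply, (QuotientGroup.eq_one_iff n).2 hn, QuotientGroup.mk'_apply,
    QuotientGroup.mk'_apply, (QuotientGroup.eq_one_iff m).2 hm, QuotientGroup.mk'_apply, one_mul,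
    one_mul, commutatorElement_eq_one_iff_mul_comm]
  have hab : a * b = b * a := congrArg Subtype.val (mul_comm' (⟨a, ha⟩ : A) ⟨b, hb⟩)
  rw [← QuotientGroup.mk_mul, ← QuotientGroup.mk_mul, hab]

theorem derived_three [Finite G] (A : Subgroup G) (hA : IsCoatom A) [IsMulCommutative A] :
    derivedSeries G 3 = ⊥ := by
  suffices h : derivedSeries G 2 ≤ A ∧ derivedSeries G 2 ≤ center G ∨ derivedSeries G 2 = ⊥ by
    rcases h with ⟨-, h⟩ | h
    · rw [derivedSeries_succ, commutator_eq_bot_iff_le_centralizer]
      exact h.trans (center_le_centralizer _)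
    · rw [derivedSeries_succ, h, commutator_eq_bot_iff_le_centralizer]
      exact bot_le
  by_cases hn : A.Normal
  · right
    refine derivedSeries_two_eq_bot_of_le A ?_
    obtain ⟨x, hx⟩ : ∃ x, x ∉ A := by
      by_contra h
      push Not at h
      exact hA.1 (eq_top_iff.2 fun y _ => h y)
    have htop := Cfsg.Agent.Solvable.sup_eq_top_of_coatom hA
      (N := zpowers x) (fun h => hx (h (mem_zpowers x)))
    rw [commutator_def, commutator_le]
    intro u _ v _
    have hmem : ∀ u : G, u ∈ A ⊔ zpowers x := fun u => by rw [sup_comm, htop]; exact mem_top u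
    obtain ⟨a, ha, _, ⟨k, rfl⟩, rfl⟩ := mem_sup_of_normal_left.1 (hmem u)
    obtain ⟨b, hb, _, ⟨l, rfl⟩, rfl⟩ := mem_sup_of_normal_left.1 (hmem v)
    rw [← QuotientGroup.eq_one_iff, ← QuotientGroup.mk'_apply, map_commutatorElement, map_mul,
      map_mul, QuotientGroup.mk'_apply, (QuotientGroup.eq_one_iff a).2 ha, QuotientGroup.mk'_apply,
      QuotientGroup.mk'_apply, (QuotientGroup.eq_one_iff b).2 hb, QuotientGroup.mk'_apply, one_mul,
      one_mul, commutatorElement_eq_one_iff_mul_comm]
    simp only [QuotientGroup.mk_zpow]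
    exact Commute.zpow_zpow_self _ k l
  · left
    have hN : normalizer (A : Set G) = A := by
      refine le_antisymm ?_ le_normalizer
      by_contra h
      exact hn (normalizer_eq_top_iff.1 (hA.2 _ (lt_of_le_not_ge le_normalizer h)))
    have hZA : center G ≤ A := fun z hz => by
      rw [← hN, mem_normalizer_iff]
      intro y
      rw [← mem_center_iff.1 hz y, mul_inv_cancel_right]
    have hTI : ∀ g ∉ A, A ⊓ MulAut.conj g • A ≤ center G := by
      intro g hg x hx
      obtain ⟨y, hy, hyx⟩ := (mem_smul_pointwise_iff_exists x _ A).1 hx.2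
      have hle : ¬ MulAut.conj g • A ≤ A := by
        intro h
        have heq := Cfsg.Agent.Solvable.eq_of_le_of_card_le h
          (Cfsg.Agent.Solvable.card_conj_smul g A).ge
        apply hg
        rw [← hN, mem_normalizer_iff'']
        intro y
        rw [← Cfsg.Agent.Solvable.mem_conj_smul, heq]
      have htop := Cfsg.Agent.Solvable.sup_eq_top_of_coatom hA hle
      have hc : MulAut.conj g • A ⊔ A ≤ centralizer {x} := by
        refine sup_le (fun u hu => ?_) (fun u hu => ?_) <;> refine mem_centralizer_iff.2 ?_ <;>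
          rintro _ rfl
        · obtain ⟨v, hv, rfl⟩ := (mem_smul_pointwise_iff_exists u _ A).1 hu
          rw [← hyx, MulAut.smul_def, MulAut.smul_def, ← map_mul, ← map_mul,
            show y * v = v * y from congrArg Subtype.val (mul_comm' (⟨y, hy⟩ : A) ⟨v, hv⟩)]
        · exact congrArg Subtype.val (mul_comm' (⟨_, hx.1⟩ : A) ⟨u, hu⟩)
      rw [htop] at hc
      exact mem_center_iff.2 fun u => ((mem_centralizer_iff.1 (hc (mem_top u))) x rfl).symm
    set π := QuotientGroup.mk' (center G)
    have hπ : Function.Surjective π := QuotientGroup.mk'_surjective _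
    have hker : π.ker ≤ A := by rw [QuotientGroup.ker_mk']; exact hZA
    have hcom : (A.map π).comap π = A := comap_map_eq_self hker
    have hA' : IsCoatom (A.map π) := by
      refine ⟨fun h => hA.1 (by rw [← hcom, h, comap_top]), fun X hX => ?_⟩
      have hlt : A < X.comap π := by
        refine lt_of_le_of_ne (hcom.symm.le.trans (comap_mono hX.le)) fun he => hX.ne ?_
        exact (congrArg (Subgroup.map _) he).trans (map_comap_eq_self_of_surjective hπ X)
      rw [← map_comap_eq_self_of_surjective hπ X, hA.2 _ hlt, map_top_of_surjective _ hπ]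
    haveI : IsMulCommutative (A.map π) := map_isMulCommutative A π
    have hF : Cfsg.IsFrobeniusComplement (A.map π) := by
      refine ⟨fun hb => hn ?_, hA'.1, fun q hq => ?_⟩
      · rw [Subgroup.map_eq_bot_iff, QuotientGroup.ker_mk'] at hb
        rw [le_antisymm hb hZA]; infer_instance
      · obtain ⟨g, rfl⟩ := hπ q
        rw [← Cfsg.Agent.Solvable.map_conj_smul, eq_bot_iff]
        rintro u ⟨⟨x, hx, rfl⟩, ⟨x', hx', he⟩⟩
        refine mem_bot.2 ((QuotientGroup.eq_one_iff x).2 (hTI g (fun hg => hq (mem_map_of_mem π hg))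
          ⟨hx, ?_⟩))
        have h1 : x'⁻¹ * x ∈ center G := QuotientGroup.eq.1 he
        have h2 : x'⁻¹ * x ∈ MulAut.conj g • A := by
          rw [Cfsg.Agent.Solvable.mem_conj_smul, mul_assoc g⁻¹, ← mem_center_iff.1 h1 g,
            inv_mul_cancel_left]
          exact hZA h1
        have h3 : x' * (x'⁻¹ * x) ∈ MulAut.conj g • A := (MulAut.conj g • A).mul_mem hx' h2
        rw [mul_inv_cancel_left] at h3
        exact h3
    have h2 := derived_two_of_frobenius (A.map π) hA' hF
    rw [← map_derivedSeries_eq hπ, Subgroup.map_eq_bot_iff, QuotientGroup.ker_mk'] at h2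
    exact ⟨h2.trans hZA, h2⟩

/-- If a finite group has a maximal subgroup that is abelian, then the third term of its derived series is trivial (so the group is solvable of derived length at most three). -/
theorem result {G : Type*} [Group G] [Finite G] (A : Subgroup G) (hA : IsCoatom A) [IsMulCommutative A] : derivedSeries G 3 = ⊥ := by
  exact derived_three A hA

end Cfsg.Agent.S0556
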