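import Cfsg.Statements.S0557
import Mathlib.GroupTheory.Focal
import Mathlib.GroupTheory.Complement

set_option autoImplicit false
open Cfsg

namespace Cfsg.Agent.S0557


open Subgroup

variable {G : Type*} [Group G]

lemma relIndex_mul_card' {H K : Subgroup G} (h : H ≤ K) :
    H.relIndex K * Nat.card H = Nat.card K := by
  rw [← relIndex_bot_left, ← relIndex_bot_left, mul_comm, relIndex_mul_relIndex _ _ _ bot_le h]

lemma focalSubgroup_mono {H K : Subgroup G} (h : H ≤ K) : focalSubgroup H ≤ focalSubgroup K := by
  rw [focalSubgroup_def, focalSubgroup_def]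
  refine closure_mono ?_
  rintro g ⟨hg, x, hx, u, rfl⟩
  exact ⟨h hg, x, h hx, u, rfl⟩

lemma map_focalSubgroup_le {N : Subgroup G} (H : Subgroup N) :
    (focalSubgroup H).map N.subtype ≤ focalSubgroup (H.map N.subtype) := by
  rw [map_le_iff_le_comap, focalSubgroup_def, closure_le]
  rintro g ⟨hg, x, hx, u, rfl⟩
  rw [SetLike.mem_coe, mem_comap, map_commutatorElement]
  refine subset_closure ⟨?_, _, mem_map_of_mem _ hx, _, rfl⟩
  rw [← map_commutatorElement]
  exact mem_map_of_mem _ hg

lemma iterate_mono (n : ℕ) {H K : Subgroup G} (h : H ≤ K) :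
    (fun K : Subgroup G => focalSubgroup K)^[n] H ≤ (fun K : Subgroup G => focalSubgroup K)^[n] K := by
  induction n with
  | zero => exact h
  | succ n ih =>
    rw [Function.iterate_succ_apply', Function.iterate_succ_apply']
    exact focalSubgroup_mono ih

variable [Finite G]

/-- The induction behind the theorem. -/
lemma exists_complement : ∀ (n : ℕ) (N H : Subgroup G), H ≤ N →
    (Nat.card H).Coprime (H.relIndex N) →
    (fun K : Subgroup G => focalSubgroup K)^[n] H = ⊥ →
    ∃ M : Subgroup G, M ≤ N ∧ (∀ g ∈ N, ∀ x ∈ M, g * x * g⁻¹ ∈ M) ∧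
      Nat.card M = H.relIndex N ∧ ∀ x ∈ N, x ^ Nat.card M = 1 → x ∈ M := by
  intro n
  induction n with
  | zero =>
    intro N H hHN _ hb
    rw [Function.iterate_zero_apply] at hb
    subst hb
    refine ⟨N, le_rfl, fun g hg x hx => mul_mem (mul_mem hg hx) (inv_mem hg), ?_, fun x hx _ => hx⟩
    exact (relIndex_bot_left N).symm
  | succ n ih =>
    intro N H hHN hcop hb
    let H0 := H.subgroupOf N
    have hcard : Nat.card H0 = Nat.card H := Nat.card_congr (subgroupOfEquivOfLe hHN).toEquiv
    have hidx : H0.index = H.relIndex N := rfl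
    have hmap : H0.map N.subtype = H := map_subgroupOf_eq_of_le hHN
    let Q := H0 ⧸ H0.focalSubgroupOf
    have hcopQ : (Nat.card Q).Coprime H0.index :=
      Nat.Coprime.coprime_dvd_left ((card_quotient_dvd_card _).trans hcard.dvd) hcop
    have hsurj : Function.Surjective H0.transferFocal := by
      intro y
      obtain ⟨z, rfl⟩ := (powCoprime hcopQ).surjective y
      obtain ⟨z, rfl⟩ := QuotientGroup.mk_surjective z
      exact ⟨z, H0.transferFocal_eq_pow z⟩
    set V := H0.transferFocal with hV
    let N1 : Subgroup G := V.ker.map N.subtype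
    have hinf : V.ker ⊓ H0 = focalSubgroup H0 := by
      refine le_antisymm (fun x hx => ?_) (le_inf ?_ (focalSubgroup_le H0))
      · have h1 : ((⟨x, hx.2⟩ : H0) : Q) ^ H0.index = 1 := by
          rw [← H0.transferFocal_eq_pow]; exact hx.1
        have h2 : ((⟨x, hx.2⟩ : H0) : Q) = 1 := by
          apply (powCoprime hcopQ).injective
          simpa [powCoprime] using h1
        exact (QuotientGroup.eq_one_iff (N := H0.focalSubgroupOf) (⟨x, hx.2⟩ : H0)).mp h2
      · intro x hx
        rw [MonoidHom.mem_ker]
        exact (H0.transferFocal_eq_pow ⟨x, focalSubgroup_le H0 hx⟩).trans (by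
          rw [(QuotientGroup.eq_one_iff _).mpr (show (⟨x, focalSubgroup_le H0 hx⟩ : H0) ∈
            H0.focalSubgroupOf from hx), one_pow])
    let H1 : Subgroup G := (focalSubgroup H0).map N.subtype
    have hH1N1 : H1 ≤ N1 := map_mono (hinf ▸ inf_le_left)
    have hH1H : H1 ≤ H := by
      rw [← hmap]
      exact map_mono (focalSubgroup_le H0)
    -- index bookkeeping
    have c1 : Nat.card N1 * Nat.card Q = Nat.card N := by
      have hc : Nat.card N1 = Nat.card V.ker := card_map_of_injective N.subtype_injective
      rw [hc, ← Nat.card_congr (QuotientGroup.quotientKerEquivOfSurjective V hsurj).toEquiv,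
        ← index_eq_card, card_mul_index]
    have c2 : Nat.card H1 * Nat.card Q = Nat.card H := by
      have hc : Nat.card H1 = Nat.card (focalSubgroup H0) :=
        card_map_of_injective N.subtype_injective
      have hc2 : Nat.card (focalSubgroup H0) = Nat.card H0.focalSubgroupOf := by
        rw [← card_map_of_injective (K := H0.focalSubgroupOf) H0.subtype_injective,
          map_focalSubgroupOf]
      rw [hc, hc2, ← index_eq_card, card_mul_index, hcard]
    have c3 : H1.relIndex N1 = H.relIndex N := by
      have r1 := relIndex_mul_card' hH1N1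
      have r2 := relIndex_mul_card' hHN
      have hq : 0 < Nat.card Q * Nat.card H1 := Nat.mul_pos Nat.card_pos Nat.card_pos
      refine Nat.eq_of_mul_eq_mul_right hq ?_
      calc H1.relIndex N1 * (Nat.card Q * Nat.card H1)
          = (H1.relIndex N1 * Nat.card H1) * Nat.card Q := by ring
        _ = H.relIndex N * (Nat.card Q * Nat.card H1) := by
          rw [r1, c1, ← r2, ← c2]; ring
    have hb1 : (fun K : Subgroup G => focalSubgroup K)^[n] H1 = ⊥ := by
      rw [← le_bot_iff, ← hb, Function.iterate_succ_apply]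
      refine iterate_mono n ?_
      have := map_focalSubgroup_le (N := N) H0
      rwa [hmap] at this
    obtain ⟨M, hMN, hMn, hMc, hMmem⟩ := ih N1 H1 hH1N1
      (c3 ▸ Nat.Coprime.coprime_dvd_left (card_dvd_of_le hH1H) hcop) hb1
    have hN1N : N1 ≤ N := map_subtype_le _
    have hmemN1 : ∀ x ∈ N, x ^ Nat.card M = 1 → x ∈ N1 := by
      intro x hx hpow
      refine ⟨⟨x, hx⟩, ?_, rfl⟩
      show V ⟨x, hx⟩ = 1
      rw [← orderOf_eq_one_iff]
      refine Nat.eq_one_of_dvd_coprimes hcopQ (orderOf_dvd_natCard _) ?_
      refine orderOf_dvd_of_pow_eq_one ?_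
      rw [hidx, ← c3, ← hMc, ← map_pow, show (⟨x, hx⟩ : N) ^ Nat.card M = 1 from Subtype.ext hpow,
        map_one]
    refine ⟨M, hMN.trans hN1N, fun g hg x hx => ?_, hMc.trans c3,
      fun x hx hpow => hMmem x (hmemN1 x hx hpow) hpow⟩
    have hpow : (g * x * g⁻¹) ^ Nat.card M = 1 := by
      rw [conj_pow]
      have : (⟨x, hx⟩ : M) ^ Nat.card M = 1 := pow_card_eq_one'
      rw [show x ^ Nat.card M = 1 from congrArg Subtype.val this, mul_one, mul_inv_cancel]
    exact hMmem _ (hmemN1 _ (mul_mem (mul_mem hg (hN1N (hMN hx))) (inv_mem hg)) hpow) hpow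

/-- Let H be a subgroup of a finite group G with order coprime to its index. If iterating the focal-subgroup construction starting from H reaches the trivial subgroup after finitely many steps, then H has a normal complement in G. -/
theorem result {G : Type*} [Group G] [Finite G] (H : Subgroup G) (hHall : (Nat.card H).Coprime H.index) (n : ℕ) (hfoc : (fun K : Subgroup G => Subgroup.focalSubgroup K)^[n] H = ⊥) : ∃ N : Subgroup G, N.Normal ∧ Subgroup.IsComplement' N H := by
  obtain ⟨M, -, hMn, hMc, -⟩ := exists_complement n ⊤ H le_top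
    (by rwa [Subgroup.relIndex_top_right]) hfoc
  rw [Subgroup.relIndex_top_right] at hMc
  refine ⟨M, ⟨fun x hx g => hMn g (Subgroup.mem_top g) x hx⟩,
    Subgroup.isComplement'_of_coprime ?_ ?_⟩
  · rw [hMc, mul_comm, Subgroup.card_mul_index]
  · rw [hMc]
    exact hHall.symm

end Cfsg.Agent.S0557
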