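import Cfsg.Statements.S0561
import Cfsg.Agent.Lib.Fitting.KegelWielandt
import Cfsg.Agent.Lib.Solvable.Hall

set_option autoImplicit false
open Pointwise
open Cfsg

namespace Cfsg.Agent.S0561

open Subgroup

/-- Let the finite solvable group G be the product HK of subgroups, and let A be normal in H and B normal in K, where A and B are Hall subgroups of G (order coprime to index). Then for all x, y the product set of xAx⁻¹ and yBy⁻¹ is a subgroup of G. -/
theorem result {G : Type*} [Group G] [Finite G] [Group.IsSolvable G] (H K A B : Subgroup G) (hHK : ∀ g : G, ∃ h ∈ H, ∃ k ∈ K, g = h * k) (hA : A ≤ H) (hAn : (A.subgroupOf H).Normal) (hB : B ≤ K) (hBn : (B.subgroupOf K).Normal) (hAh : (Nat.card A).Coprime A.index) (hBh : (Nat.card B).Coprime B.index) (x y : G) : ∃ S : Subgroup G, (S : Set G) = ((MulAut.conj x • A : Subgroup G) : Set G) * ((MulAut.conj y • B : Subgroup G) : Set G) := by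

  obtain ⟨S, hS⟩ : ∃ S : Subgroup G, (S : Set G) = (A : Set G) * B := by
    set m := Nat.lcm (Nat.card A) (Nat.card B) with hm
    have hdA : Nat.card A ∣ Nat.card G := A.card_subgroup_dvd_card
    have hdB : Nat.card B ∣ Nat.card G := B.card_subgroup_dvd_card
    obtain ⟨n, hn⟩ : m ∣ Nat.card G := Nat.lcm_dvd hdA hdB
    have hnA : n ∣ A.index := by
      have h : m * n = Nat.card A * A.index := hn.symm.trans A.card_mul_index.symm
      obtain ⟨c, hc⟩ : Nat.card A ∣ m := Nat.dvd_lcm_left _ _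
      rw [hc, mul_assoc] at h
      exact ⟨c, by rw [← Nat.eq_of_mul_eq_mul_left Nat.card_pos h, mul_comm]⟩
    have hnB : n ∣ B.index := by
      have h : m * n = Nat.card B * B.index := hn.symm.trans B.card_mul_index.symm
      obtain ⟨c, hc⟩ : Nat.card B ∣ m := Nat.dvd_lcm_right _ _
      rw [hc, mul_assoc] at h
      exact ⟨c, by rw [← Nat.eq_of_mul_eq_mul_left Nat.card_pos h, mul_comm]⟩
    have hcA : (Nat.card A).Coprime n := hAh.coprime_dvd_right hnA
    have hcB : (Nat.card B).Coprime n := hBh.coprime_dvd_right hnB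
    have hmn : m.Coprime n :=
      (hcA.mul_left hcB).coprime_dvd_left (Nat.lcm_dvd_mul _ _)
    obtain ⟨R, hR, hBR⟩ := Cfsg.Agent.Solvable.exists_hall_ge hn hmn B hcB
    obtain ⟨g, hg⟩ := Cfsg.Agent.Solvable.le_conj_hall hn hmn R A hR hcA
    obtain ⟨k, hk, h, hh, he⟩ := Cfsg.Agent.KegelWielandt.IsProd.symm hHK g⁻¹
    have hkA : MulAut.conj k • A ≤ R := by
      have h1 : MulAut.conj g⁻¹ • A ≤ R := by
        rw [map_inv]
        have := (Subgroup.pointwise_smul_le_pointwise_smul_iff (a := (MulAut.conj g)⁻¹)).mpr hg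
        rwa [inv_smul_smul] at this
      rwa [he, map_mul, mul_smul,
        Cfsg.Agent.KegelWielandt.conj_smul_eq_of_normal hA hAn hh] at h1
    have hsub : ((MulAut.conj k • A : Subgroup G) : Set G) * (B : Set G) ⊆ R := by
      rintro _ ⟨u, hu, v, hv, rfl⟩
      exact mul_mem (hkA hu) (hBR hv)
    have hcard := Cfsg.Agent.S0560.card_mul_mul_card_inf (MulAut.conj k • A) B
    rw [Cfsg.Agent.Solvable.card_conj_smul] at hcard
    have hge : Nat.card R ≤
        Nat.card ↥(((MulAut.conj k • A : Subgroup G) : Set G) * (B : Set G)) := by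
      have hd : Nat.card ↥((MulAut.conj k • A : Subgroup G) ⊓ B) ∣
          Nat.gcd (Nat.card A) (Nat.card B) := by
        refine Nat.dvd_gcd ?_ (Subgroup.card_dvd_of_le inf_le_right)
        have := Subgroup.card_dvd_of_le
          (inf_le_left : (MulAut.conj k • A : Subgroup G) ⊓ B ≤ MulAut.conj k • A)
        rwa [Cfsg.Agent.Solvable.card_conj_smul] at this
      rw [hR, hm]
      refine Nat.le_of_mul_le_mul_left ?_ (Nat.gcd_pos_of_pos_left (Nat.card B) Nat.card_pos :
        0 < Nat.gcd (Nat.card A) (Nat.card B))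
      rw [Nat.gcd_mul_lcm, ← hcard, mul_comm]
      exact Nat.mul_le_mul_right _ (Nat.le_of_dvd (Nat.gcd_pos_of_pos_left _ Nat.card_pos) hd)
    have hset : ((MulAut.conj k • A : Subgroup G) : Set G) * (B : Set G) = R :=
      Set.eq_of_subset_of_ncard_le hsub (by rw [← Nat.card_coe_set_eq, ← Nat.card_coe_set_eq]; exact hge)
    refine ⟨MulAut.conj k⁻¹ • R, ?_⟩
    rw [Subgroup.coe_pointwise_smul, ← hset, smul_mul', ← Subgroup.coe_pointwise_smul,
      ← Subgroup.coe_pointwise_smul, ← mul_smul, ← map_mul, inv_mul_cancel, map_one, one_smul,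
      Cfsg.Agent.KegelWielandt.conj_smul_eq_of_normal hB hBn (inv_mem hk)]
  obtain ⟨u, -, hu⟩ :=
    Cfsg.Agent.KegelWielandt.exists_smul_eq_mul hHK hA hAn hB hBn hS (x⁻¹ * y)
  refine ⟨MulAut.conj x • MulAut.conj u • S, ?_⟩
  rw [Subgroup.coe_pointwise_smul, hu, smul_mul', ← Subgroup.coe_pointwise_smul,
    ← Subgroup.coe_pointwise_smul, ← mul_smul, ← map_mul, mul_inv_cancel_left]

end Cfsg.Agent.S0561
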