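import Cfsg.Statements.S0565
import Cfsg.Agent.Lib.Fitting.KegelWielandt
import Cfsg.Agent.Lib.Fitting.Carter
import Cfsg.Agent.Lib.Fitting.Minimal

set_option autoImplicit false
open Cfsg

namespace Cfsg.Agent.S0565

open Subgroup Pointwise

universe u

theorem aux : ∀ (n : ℕ) (G : Type u) [Group G] [Finite G] (A B : Subgroup G), Nat.card G ≤ n →
    Group.IsNilpotent A → Group.IsNilpotent B → (∀ g : G, ∃ a ∈ A, ∃ b ∈ B, g = a * b) →
    (A ≠ ⊤ ∨ B ≠ ⊤) → ∃ N : Subgroup G, N.Normal ∧ N ≠ ⊤ ∧ (A ≤ N ∨ B ≤ N) := by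
  intro n
  induction n with
  | zero => intro G _ _ A B h; exact absurd Nat.card_pos (by omega : ¬ 0 < Nat.card G)
  | succ n ih =>
    intro G _ _ A B hn hA hB hAB hproper
    by_cases hG : Group.IsNilpotent G
    · have key : ∀ C : Subgroup G, C ≠ ⊤ → ∃ N : Subgroup G, N.Normal ∧ N ≠ ⊤ ∧ C ≤ N := fun C hC => by
        obtain ⟨M, hM, hle⟩ := (eq_top_or_exists_le_coatom C).resolve_left hC
        exact ⟨M, NormalizerCondition.normal_of_coatom M Group.normalizerCondition_of_isNilpotent hM,
          hM.1, hle⟩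
      rcases hproper with h | h
      · obtain ⟨N, h1, h2, h3⟩ := key A h
        exact ⟨N, h1, h2, .inl h3⟩
      · obtain ⟨N, h1, h2, h3⟩ := key B h
        exact ⟨N, h1, h2, .inr h3⟩
    · have hAtop : ∀ C : Subgroup G, Group.IsNilpotent C → C ≠ ⊤ := fun C hC h => hG <| by
        subst h; exact Group.nilpotent_of_surjective (topEquiv : (⊤ : Subgroup G) ≃* G).toMonoidHom topEquiv.surjective
      have : Nontrivial G := not_subsingleton_iff_nontrivial.mp fun h => hG inferInstance
      obtain ⟨N, hN⟩ := Cfsg.Agent.Fitting.exists_isMinNormal (G := G)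
      have hNn : N.Normal := hN.1
      have hsol : Group.IsSolvable G :=
        Cfsg.Agent.KegelWielandt.isSolvable_of_nilpotent_product A B hA hB hAB
      have hNab : IsMulCommutative N := hN.isMulCommutative
      have hlt : Nat.card (G ⧸ N) ≤ n := by
        have h1 := card_eq_card_quotient_mul_card_subgroup N
        have h2 : 1 < Nat.card N := (Subgroup.one_lt_card_iff_ne_bot N).mpr hN.2.1
        have h3 : 0 < Nat.card (G ⧸ N) := Nat.card_pos
        have h4 := Nat.mul_le_mul_left (Nat.card (G ⧸ N)) h2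
        omega
      by_cases hq : A.map (QuotientGroup.mk' N) ≠ ⊤ ∨ B.map (QuotientGroup.mk' N) ≠ ⊤
      · obtain ⟨K, hKn, hKtop, hK⟩ := ih (G ⧸ N) (A.map (QuotientGroup.mk' N))
          (B.map (QuotientGroup.mk' N)) hlt
          (Group.nilpotent_of_surjective _ (MonoidHom.subgroupMap_surjective _ A))
          (Group.nilpotent_of_surjective _ (MonoidHom.subgroupMap_surjective _ B))
          (fun g => by
            obtain ⟨g, rfl⟩ := QuotientGroup.mk'_surjective N g
            obtain ⟨a, ha, b, hb, rfl⟩ := hAB g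
            exact ⟨_, mem_map_of_mem _ ha, _, mem_map_of_mem _ hb, map_mul _ _ _⟩) hq
        refine ⟨K.comap (QuotientGroup.mk' N), hKn.comap _, fun h => hKtop ?_,
          hK.imp map_le_iff_le_comap.mp map_le_iff_le_comap.mp⟩
        exact comap_injective (QuotientGroup.mk'_surjective N) (h.trans (comap_top _).symm)
      push Not at hq
      -- every nilpotent supplement of `N` is a complement and a maximal subgroup
      have key : ∀ C : Subgroup G, Group.IsNilpotent C → C.map (QuotientGroup.mk' N) = ⊤ →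
          ¬ C.Normal → Cfsg.IsCarterSubgroup C := by
        intro C hC hCq hCn
        have hsup : ∀ g : G, ∃ c ∈ C, ∃ y ∈ N, g = c * y := fun g => by
          obtain ⟨c, hc, hcg⟩ : QuotientGroup.mk' N g ∈ C.map (QuotientGroup.mk' N) := by
            rw [hCq]; exact mem_top _
          exact ⟨c, hc, c⁻¹ * g, (QuotientGroup.eq.mp hcg), (mul_inv_cancel_left c g).symm⟩
        have hnorm : ∀ X : Subgroup G, C ≤ X → (X ⊓ N).Normal := fun X hX => by
          refine ⟨fun x hx g => ?_⟩
          obtain ⟨c, hc, y, hy, rfl⟩ := hsup g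
          have h1 : y * x * y⁻¹ = x := by
            have := congrArg Subtype.val (mul_comm' (⟨y, hy⟩ : N) ⟨x, hx.2⟩)
            simp only [Subgroup.coe_mul] at this
            rw [this, mul_inv_cancel_right]
          have h2 : c * y * x * (c * y)⁻¹ = c * (y * x * y⁻¹) * c⁻¹ := by simp [mul_assoc]
          rw [h2, h1]
          exact Subgroup.mem_inf.mpr
            ⟨mul_mem (mul_mem (hX hc) hx.1) (inv_mem (hX hc)), hNn.conj_mem x hx.2 c⟩
        refine ⟨hC, le_antisymm (fun g hg => ?_) le_normalizer⟩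
        obtain ⟨c, hc, y, hy, rfl⟩ := hsup g
        refine mul_mem hc ?_
        have hcN : c ∈ normalizer (C : Set G) := le_normalizer hc
        have hy' : y ∈ normalizer (C : Set G) := by
          have := mul_mem (inv_mem hcN) hg
          rwa [inv_mul_cancel_left] at this
        have := hnorm _ (le_normalizer (H := C))
        rcases hN.le_or_inf_eq_bot (normalizer (C : Set G) ⊓ N) with h | h
        · exact absurd (normalizer_eq_top_iff.mp (eq_top_iff.mpr fun g _ => by
            obtain ⟨c', hc', y', hy', rfl⟩ := hsup g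
            exact mul_mem (le_normalizer hc') (h hy').1)) hCn
        · have h1 : y ∈ (⊥ : Subgroup G) := h ▸ ⟨hy, hy', hy⟩
          exact (mem_bot.mp h1) ▸ one_mem C
      by_cases hAn : A.Normal
      · exact ⟨A, hAn, hAtop A hA, .inl le_rfl⟩
      by_cases hBn : B.Normal
      · exact ⟨B, hBn, hAtop B hB, .inr le_rfl⟩
      obtain ⟨g, hg⟩ := Cfsg.Agent.Carter.carter_conj (key B hB hq.2 hBn) (key A hA hq.1 hAn)
      obtain ⟨a, ha, b, hb, rfl⟩ := hAB g
      rw [map_mul, mul_smul, conj_smul_eq_self_of_mem hb] at hg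
      have hBA : B = A := by
        rw [← inv_smul_smul (MulAut.conj a) B, hg, ← map_inv, conj_smul_eq_self_of_mem (inv_mem ha)]
      refine absurd (eq_top_iff.mpr fun x _ => ?_) (hAtop A hA)
      obtain ⟨u, hu, v, hv, rfl⟩ := hAB x
      exact mul_mem hu (hBA ▸ hv)

/-- Let the finite group G be the product AB of nilpotent subgroups A and B, not both equal to G. Then there is a proper normal subgroup of G containing A or containing B. -/
theorem result {G : Type*} [Group G] [Finite G] (A B : Subgroup G) (hA : Group.IsNilpotent A) (hB : Group.IsNilpotent B) (hAB : ∀ g : G, ∃ a ∈ A, ∃ b ∈ B, g = a * b) (hproper : A ≠ ⊤ ∨ B ≠ ⊤) : ∃ N : Subgroup G, N.Normal ∧ N ≠ ⊤ ∧ (A ≤ N ∨ B ≤ N) := by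
  exact aux _ G A B le_rfl hA hB hAB hproper

end Cfsg.Agent.S0565
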