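import Cfsg.Statements.S0567
import Mathlib.GroupTheory.Commutator.Basic

set_option autoImplicit false
set_option maxHeartbeats 400000
open Cfsg

namespace Cfsg.Agent.S0567


open scoped commutatorElement
open Subgroup in
/-- The sequence `G_m ⊔ H` is a subnormal chain. -/
lemma isSubnormal_sup {G : Type*} [Group G] (H : Subgroup G) :
    ∀ m : ℕ, ((fun K : Subgroup G => ⁅K, H⁆)^[m] ⊤ ⊔ H).IsSubnormal := by
  intro m
  induction m with
  | zero => simp
  | succ m ih =>
    rw [Function.iterate_succ_apply']
    set X := (fun K : Subgroup G => ⁅K, H⁆)^[m] ⊤ with hX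
    have hnorm : X ⊔ H ≤ normalizer ((⁅X, H⁆ ⊔ H : Subgroup G) : Set G) := by
      refine sup_le (fun x hx => ?_) (le_trans le_sup_right le_normalizer)
      have key : ∀ y ∈ X, ⁅X, H⁆ ⊔ H ≤ (⁅X, H⁆ ⊔ H).comap (MulAut.conj y).toMonoidHom := by
        intro y hy
        refine sup_le (fun c hc => ?_) (fun h hh => ?_)
        · rw [mem_comap, MulEquiv.coe_toMonoidHom, MulAut.conj_apply]
          exact mem_sup_left ((mem_normalizer_iff.mp (normalizer_commutator_ge_left X H hy) c).mp hc)
        · rw [mem_comap, MulEquiv.coe_toMonoidHom, MulAut.conj_apply,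
            show y * h * y⁻¹ = ⁅y, h⁆ * h by simp [commutatorElement_def]]
          exact mul_mem_sup (commutator_mem_commutator hy hh) hh
      refine mem_normalizer_iff.mpr fun n => ⟨fun hn => ?_, fun hn => ?_⟩
      · simpa only [mem_comap, MulEquiv.coe_toMonoidHom, MulAut.conj_apply] using key x hx hn
      · have h2 := key x⁻¹ (inv_mem hx) hn
        rw [mem_comap, MulEquiv.coe_toMonoidHom, MulAut.conj_apply] at h2
        simpa [mul_assoc] using h2
    have hle : ⁅X, H⁆ ⊔ H ≤ X ⊔ H := by
      refine sup_le (commutator_le.mpr fun g hg h hh => ?_) le_sup_right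
      rw [commutatorElement_def]
      exact mul_mem (mul_mem (mul_mem (mem_sup_left hg) (mem_sup_right hh))
        (inv_mem (mem_sup_left hg))) (inv_mem (mem_sup_right hh))
    exact IsSubnormal.step _ _ hle ih (normal_subgroupOf_of_le_normalizer hnorm)

open scoped commutatorElement

/-- A subgroup H of a group G is subnormal exactly when, for some m, the subgroup obtained from G by taking the commutator with H m times in succession is contained in H. -/
theorem result {G : Type*} [Group G] (H : Subgroup G) : H.IsSubnormal ↔ ∃ m : ℕ, (fun K : Subgroup G => ⁅K, H⁆)^[m] ⊤ ≤ H := by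
  constructor
  · intro h
    suffices ∀ K : Subgroup G, K.IsSubnormal → H ≤ K →
        ∃ m : ℕ, (fun K : Subgroup G => ⁅K, H⁆)^[m] ⊤ ≤ K from this H h le_rfl
    intro K hK
    induction hK with
    | top => exact fun _ => ⟨0, le_rfl⟩
    | step K L hKL _ hN ih =>
      intro hHK
      obtain ⟨m, hm⟩ := ih (hHK.trans hKL)
      refine ⟨m + 1, ?_⟩
      rw [Function.iterate_succ_apply']
      refine (Subgroup.commutator_mono hm hHK).trans ?_
      rw [Subgroup.commutator_le]
      intro a ha b hb
      rw [commutatorElement_def]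
      exact mul_mem ((Subgroup.normal_subgroupOf_iff hKL).mp hN b a hb ha) (inv_mem hb)
  · rintro ⟨m, hm⟩
    have := isSubnormal_sup H m
    rwa [sup_eq_right.mpr hm] at this

end Cfsg.Agent.S0567
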