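import Cfsg.Statements.S0568
import Cfsg.Agent.Lib.Fitting.Carter

set_option autoImplicit false
open Cfsg

namespace Cfsg.Agent.S0568


open Subgroup Cfsg.Agent.Carter

/-- Let D be the system normalizer of a Hall complement system of a finite solvable group G, and let A < B be normal subgroups with no normal subgroup of G strictly between them (a chief factor). If G centralizes B modulo A then B ≤ A ⊔ D (D covers the factor); otherwise B ∩ D ≤ A (D avoids it). -/
theorem result {G : Type*} [Group G] [Finite G] [Group.IsSolvable G] (K : Nat.Primes → Subgroup G) (hK : Cfsg.IsComplementSystem K) (A B : Subgroup G) [A.Normal] [B.Normal] (hAB : A < B) (hchief : ∀ N : Subgroup G, N.Normal → A ≤ N → N ≤ B → N = A ∨ N = B) : (⁅B, (⊤ : Subgroup G)⁆ ≤ A → B ≤ A ⊔ Cfsg.systemNormalizer K) ∧ (¬ ⁅B, (⊤ : Subgroup G)⁆ ≤ A → B ⊓ Cfsg.systemNormalizer K ≤ A) := by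
  set π := QuotientGroup.mk' A
  have hπs := QuotientGroup.mk'_surjective A
  have hKq := Cfsg.Agent.Solvable.isComplementSystem_map hK A
  have hD := Cfsg.Agent.Solvable.systemNormalizer_map hK A
  have hBn : (B.map π).Normal := ‹B.Normal›.map π hπs
  have hmin : Cfsg.Agent.Fitting.IsMinNormal (B.map π) := by
    refine ⟨hBn, fun h => hAB.not_ge ?_, fun N hN hNB => ?_⟩
    · rw [Subgroup.map_eq_bot_iff, QuotientGroup.ker_mk'] at h
      exact h
    · have h1 : N.comap π ≤ B := by
        refine (comap_mono hNB).trans ?_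
        rw [Cfsg.Agent.Solvable.comap_map_mk', sup_eq_left.mpr hAB.le]
      have h2 : A ≤ N.comap π := fun x hx => by
        rw [mem_comap, show π x = 1 from (QuotientGroup.eq_one_iff x).mpr hx]
        exact one_mem _
      rcases hchief _ (hN.comap π) h2 h1 with h | h
      · left
        rw [← map_comap_eq_self_of_surjective hπs N, h, Subgroup.map_eq_bot_iff,
          QuotientGroup.ker_mk']
      · right
        rw [← map_comap_eq_self_of_surjective hπs N, h]
  have hiff : ⁅B, (⊤ : Subgroup G)⁆ ≤ A ↔ B.map π ≤ center (G ⧸ A) := by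
    rw [← centralizer_univ, ← coe_top, ← commutator_eq_bot_iff_le_centralizer,
      ← map_top_of_surjective π hπs, ← map_commutator, Subgroup.map_eq_bot_iff,
      QuotientGroup.ker_mk']
  refine ⟨fun hc => ?_, fun hc => ?_⟩
  · have h1 : B.map π ≤ (Cfsg.systemNormalizer K).map π :=
      hD ▸ (hiff.mp hc).trans center_le_systemNormalizer
    rw [map_le_iff_le_comap, Cfsg.Agent.Solvable.comap_map_mk'] at h1
    exact h1.trans (sup_comm _ _).le
  · have h1 : B.map π ⊓ Cfsg.systemNormalizer (fun p => (K p).map π) = ⊥ :=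
      inf_systemNormalizer_eq_bot hKq hmin (fun h => hc (hiff.mpr h))
    intro x hx
    have h2 : π x ∈ B.map π ⊓ Cfsg.systemNormalizer (fun p => (K p).map π) := by
      rw [hD]
      exact ⟨mem_map_of_mem π hx.1, mem_map_of_mem π hx.2⟩
    rw [h1, mem_bot] at h2
    exact (QuotientGroup.eq_one_iff x).mp h2

end Cfsg.Agent.S0568
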