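import Cfsg.Statements.S0571
import Cfsg.Agent.Lib.Fitting.AbelianProduct
import Cfsg.Agent.Lib.Solvable.Supersolvable

set_option autoImplicit false
open Cfsg

namespace Cfsg.Agent.S0571

open Subgroup

universe u

theorem aux : ∀ (n : ℕ) (G : Type u) [Group G] [Finite G] (A B : Subgroup G) [IsCyclic A] [IsCyclic B],
    Nat.card G ≤ n → (∀ g : G, ∃ a ∈ A, ∃ b ∈ B, g = a * b) → Cfsg.IsSupersolvable G := by
  intro n
  induction n with
  | zero => intro G _ _ A B _ _ h; exact absurd Nat.card_pos (by omega : ¬ 0 < Nat.card G)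
  | succ n ih =>
    intro G _ _ A B _ _ hn hAB
    rcases subsingleton_or_nontrivial G with hs | hs
    · exact Cfsg.Agent.Solvable.isSupersolvable_of_subsingleton
    have hA : IsMulCommutative A := inferInstance
    have hB : IsMulCommutative B := inferInstance
    obtain ⟨N, hNn, hNbot, hle⟩ := Cfsg.Agent.AbelianProduct.exists_normal_le A B hAB
    have hNc : IsCyclic N := hle.elim (fun h => Subgroup.isCyclic_of_le h) (fun h => Subgroup.isCyclic_of_le h)
    refine Cfsg.Agent.Solvable.isSupersolvable_of_cyclic_normal N ?_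
    have hlt : Nat.card (G ⧸ N) ≤ n := by
      have h1 := card_eq_card_quotient_mul_card_subgroup N
      have h2 : 1 < Nat.card N := (Subgroup.one_lt_card_iff_ne_bot N).mpr hNbot
      have h3 : 0 < Nat.card (G ⧸ N) := Nat.card_pos
      have h4 := Nat.mul_le_mul_left (Nat.card (G ⧸ N)) h2
      omega
    have : IsCyclic (A.map (QuotientGroup.mk' N)) :=
      isCyclic_of_surjective _ (MonoidHom.subgroupMap_surjective (QuotientGroup.mk' N) A)
    have : IsCyclic (B.map (QuotientGroup.mk' N)) :=
      isCyclic_of_surjective _ (MonoidHom.subgroupMap_surjective (QuotientGroup.mk' N) B)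
    exact ih (G ⧸ N) (A.map (QuotientGroup.mk' N)) (B.map (QuotientGroup.mk' N)) hlt fun g => by
      obtain ⟨g, rfl⟩ := QuotientGroup.mk'_surjective N g
      obtain ⟨a, ha, b, hb, rfl⟩ := hAB g
      exact ⟨_, mem_map_of_mem _ ha, _, mem_map_of_mem _ hb, map_mul _ _ _⟩

/-- If a finite group G is the product AB of two cyclic subgroups (every element is a product ab), then G is supersolvable. -/
theorem result {G : Type*} [Group G] [Finite G] (A B : Subgroup G) [IsCyclic A] [IsCyclic B] (hAB : ∀ g : G, ∃ a ∈ A, ∃ b ∈ B, g = a * b) : Cfsg.IsSupersolvable G := by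
  exact aux _ G A B le_rfl hAB

end Cfsg.Agent.S0571
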