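import Cfsg.Statements.S0576
import Cfsg.Agent.Lib.Fitting

set_option autoImplicit false
open Cfsg

namespace Cfsg.Agent.S0576

/-- Let H be a normal subgroup of a finite group G with H contained in the Frattini subgroup of G. Then the group of inner automorphisms of H is contained in the Frattini subgroup of the automorphism group of H. -/
theorem result {G : Type*} [Group G] [Finite G] (H : Subgroup G) [H.Normal] (hH : H ≤ frattini G) : (MulAut.conj : ↥H →* MulAut ↥H).range ≤ frattini (MulAut ↥H) := by
  refine le_iInf₂ fun A hA => ?_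
  by_contra hIA
  set φ : G →* MulAut H := MulAut.conjNormal with hφ
  have hφH : ∀ h : H, φ (h : G) = MulAut.conj h := fun h => by
    ext x
    simp [hφ]
  set I := (MulAut.conj : H →* MulAut H).range with hI
  have hIn : I.Normal := by
    refine ⟨?_⟩
    rintro _ ⟨h, rfl⟩ α
    refine ⟨α h, ?_⟩
    ext x
    simp [map_mul, map_inv]
  have htop : A ⊔ I = ⊤ := hA.2 _ (left_lt_sup.mpr hIA)
  have hG1 : A.comap φ ⊔ H = ⊤ := by
    refine eq_top_iff.mpr fun g _ => ?_
    obtain ⟨a, ha, i, ⟨h, rfl⟩, hg⟩ :=
      Subgroup.mem_sup_of_normal_right.mp (htop.ge (Subgroup.mem_top (φ g)))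
    have h1 : g * (h : G)⁻¹ ∈ A.comap φ := by
      rw [Subgroup.mem_comap, map_mul, map_inv, hφH, ← hg, mul_inv_cancel_right]
      exact ha
    have := Subgroup.mul_mem_sup h1 h.2 (T := H)
    simpa using this
  have := Cfsg.Agent.Fitting.eq_top_of_sup_eq_top_of_le_frattini hH hG1
  refine hIA ?_
  rintro _ ⟨h, rfl⟩
  rw [← hφH]
  exact this.ge (Subgroup.mem_top _)

end Cfsg.Agent.S0576
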