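import Cfsg.Statements.S0577
import Cfsg.Agent.Lib.Fitting
import Cfsg.Agent.Lib.Transfer.Hall
import Cfsg.Agent.Lib.PGroup.Basic
import Mathlib.GroupTheory.SchurZassenhaus

set_option autoImplicit false
open Cfsg

namespace Cfsg.Agent.S0577


open Subgroup
open scoped commutatorElement

/-- Let G be a finite minimal non-nilpotent group and Q a normal Sylow q-subgroup of G, and let D be the commutator subgroup of Q regarded in G (a normal subgroup). Then G modulo D is non-abelian and all its proper subgroups are abelian. -/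
theorem result {G : Type*} [Group G] [Finite G] (hG : Cfsg.IsMinimalNonNilpotent G) (q : ℕ) [Fact q.Prime] (hq : q ∣ Nat.card G) (Q : Sylow q G) (hQ : (Q : Subgroup G).Normal) (D : Subgroup G) [D.Normal] (hD : D = (commutator ↥(Q : Subgroup G)).map (Q : Subgroup G).subtype) : ¬ IsMulCommutative (G ⧸ D) ∧ ∀ K : Subgroup (G ⧸ D), K ≠ ⊤ → IsMulCommutative K := by
  classical
  have hqp := (Fact.out : q.Prime)
  set QS : Subgroup G := (Q : Subgroup G) with hQS
  have hDQ : D ≤ QS := hD ▸ map_subtype_le _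
  have hDΦ : D ≤ frattini G :=
    (hD.le.trans (map_mono (Cfsg.Agent.PGroup.commutator_le_frattini Q.isPGroup'))).trans
      (Cfsg.Agent.Fitting.frattini_map_le QS)
  refine ⟨fun hab => hG.1 (Cfsg.Agent.Fitting.isNilpotent_of_quotient_frattini ?_), ?_⟩
  · have hsurj : Function.Surjective
        (QuotientGroup.map D (frattini G) (MonoidHom.id G) (by simpa using hDΦ)) := fun x => by
      obtain ⟨g, rfl⟩ := QuotientGroup.mk_surjective x
      exact ⟨g, rfl⟩
    have : Group.IsNilpotent (G ⧸ D) := by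
      open scoped IsMulCommutative in infer_instance
    exact Group.nilpotent_of_surjective _ hsurj
  -- a `q'`-element `r` with `G = Q ⊔ ⟨r⟩`
  obtain ⟨R, hR⟩ := exists_right_complement'_of_coprime (N := QS) Q.card_coprime_index
  have hRq : ∀ r ∈ R, (orderOf r).Coprime q := by
    intro r hr
    refine Nat.Coprime.coprime_dvd_left (orderOf_dvd_natCard R hr) ?_
    rw [← hR.symm.index_eq_card]
    exact ((Nat.Prime.coprime_iff_not_dvd hqp).mpr Q.not_dvd_index).symm
  have hnilcomm : ∀ K : Subgroup G, K ≠ ⊤ → ∀ x ∈ K, ∀ y ∈ K,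
      (orderOf x).Coprime (orderOf y) → x * y = y * x := by
    intro K hK x hx y hy hxy
    exact congrArg Subtype.val (Cfsg.Agent.Transfer.nilpotent_commute_of_coprime (hG.2 K hK)
      (x := (⟨x, hx⟩ : K)) (y := ⟨y, hy⟩) (by simpa only [Subgroup.orderOf_mk] using hxy)).eq
  have hcopQ : ∀ x ∈ QS, ∀ y : G, (orderOf y).Coprime q → (orderOf x).Coprime (orderOf y) := by
    intro x hx y hy
    obtain ⟨k, hk⟩ := IsPGroup.iff_orderOf.mp Q.2 ⟨x, hx⟩
    rw [Subgroup.orderOf_mk] at hk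
    rw [hk]
    exact (hy.symm).pow_left k
  obtain ⟨r, hrR, hr⟩ : ∃ r ∈ R, r ∉ centralizer (QS : Set G) := by
    by_contra hcon
    push Not at hcon
    have hQne : QS ≠ ⊥ := Q.ne_bot_of_dvd_card hq
    have hRne : R ≠ ⊤ := fun e => hQne (by
      have := hR.disjoint.eq_bot
      rwa [e, inf_top_eq] at this)
    have hRn : R.Normal := by
      rw [← normalizer_eq_top_iff, eq_top_iff, ← hR.sup_eq_top, sup_le_iff]
      exact ⟨(le_centralizer_iff.mp hcon).trans (centralizer_le_normalizer _), le_normalizer⟩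
    refine hG.1 ?_
    rw [← Group.isNilpotent_top, ← hR.sup_eq_top]
    exact Cfsg.Agent.Fitting.isNilpotent_sup_of_normal hQ hRn Q.2.isNilpotent (hG.2 R hRne)
  have htop : QS ⊔ zpowers r = ⊤ := by
    by_contra hne
    refine hr (mem_centralizer_iff.mpr fun x hx => ?_)
    exact hnilcomm _ hne x (mem_sup_left hx) r (mem_sup_right (mem_zpowers r))
      (hcopQ x hx r (hRq r hrR))
  intro K hK
  set π := QuotientGroup.mk' QS
  have hcyc : IsCyclic (G ⧸ QS) := ⟨⟨π r, fun x => by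
    obtain ⟨g, rfl⟩ := QuotientGroup.mk'_surjective QS x
    obtain ⟨a, ha, b, ⟨n, rfl⟩, rfl⟩ := mem_sup_of_normal_left.mp (htop.ge (mem_top g))
    exact ⟨n, by simp [π, (QuotientGroup.eq_one_iff a).mpr ha]⟩⟩⟩
  set K0 := K.comap (QuotientGroup.mk' D) with hK0
  have hK0top : K0 ≠ ⊤ := fun e => hK (eq_top_iff.mpr fun x _ => by
    obtain ⟨g, rfl⟩ := QuotientGroup.mk'_surjective D x
    exact e.ge (mem_top g))
  obtain ⟨⟨_, k, hk, rfl⟩, hgen⟩ := IsCyclic.exists_generator (α := K0.map π)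
  set a := q ^ (orderOf k).factorization q with ha
  set m := k ^ a with hm
  have hmK : m ∈ K0 := pow_mem hk a
  have hmq : (orderOf m).Coprime q := by
    rw [hm, orderOf_pow, Nat.gcd_eq_right (Nat.ordProj_dvd _ q)]
    exact ((Nat.coprime_ordCompl hqp (orderOf_pos k).ne')).symm
  have hkm : π k ∈ zpowers (π m) := by
    have hco : (orderOf (π k)).Coprime a := by
      refine Nat.Coprime.pow_right _ (Nat.Coprime.coprime_dvd_left (orderOf_dvd_natCard _) ?_)
      rw [← index_eq_card]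
      exact ((Nat.Prime.coprime_iff_not_dvd hqp).mpr Q.not_dvd_index).symm
    obtain ⟨n, hn⟩ := exists_pow_eq_self_of_coprime hco.symm
    exact ⟨n, by simpa [hm, map_pow] using hn⟩
  have hdec : ∀ x ∈ K0, ∃ u ∈ QS ⊓ K0, ∃ n : ℤ, x = u * m ^ n := by
    intro x hx
    obtain ⟨i, hi⟩ := hgen ⟨π x, x, hx, rfl⟩
    obtain ⟨j, hj⟩ := hkm
    have hi' : π k ^ i = π x := congrArg Subtype.val hi
    have hj' : π m ^ j = π k := hj
    rw [← hj', ← zpow_mul, ← map_zpow] at hi'
    refine ⟨x * (m ^ (j * i))⁻¹, ⟨?_, show x * (m ^ (j * i))⁻¹ ∈ K0 from mul_mem hx (inv_mem (zpow_mem hmK _))⟩, j * i, by simp⟩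
    show x * (m ^ (j * i))⁻¹ ∈ QS
    rw [← QuotientGroup.eq_one_iff]
    show π (x * (m ^ (j * i))⁻¹) = 1
    rw [map_mul, map_inv, ← hi', mul_inv_cancel]
  have hmc : ∀ u ∈ QS ⊓ K0, ∀ n : ℤ, Commute u (m ^ n) := fun u hu n =>
    (show Commute u m from hnilcomm K0 hK0top u hu.2 m hmK (hcopQ u hu.1 m hmq)).zpow_right n
  refine ⟨⟨fun a b => Subtype.ext ?_⟩⟩
  obtain ⟨g, hg⟩ := QuotientGroup.mk'_surjective D (a : G ⧸ D)
  obtain ⟨g', hg'⟩ := QuotientGroup.mk'_surjective D (b : G ⧸ D)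
  obtain ⟨u, hu, n, rfl⟩ := hdec g (show _ ∈ K by rw [hg]; exact a.2)
  obtain ⟨v, hv, l, rfl⟩ := hdec g' (show _ ∈ K by rw [hg']; exact b.2)
  rw [Subgroup.coe_mul, Subgroup.coe_mul, ← hg, ← hg', map_mul, map_mul]
  have huv : Commute (QuotientGroup.mk' D u) (QuotientGroup.mk' D v) := by
    rw [Commute, SemiconjBy, ← commutatorElement_eq_one_iff_mul_comm, ← map_commutatorElement]
    refine (QuotientGroup.eq_one_iff _).mpr ?_
    rw [hD]
    exact ⟨⁅⟨u, hu.1⟩, ⟨v, hv.1⟩⁆, commutator_mem_commutator (mem_top _) (mem_top _), rfl⟩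
  have h1 := (hmc u hu l).map (QuotientGroup.mk' D)
  have h2 := (hmc v hv n).map (QuotientGroup.mk' D)
  have h3 : Commute (QuotientGroup.mk' D (m ^ n)) (QuotientGroup.mk' D (m ^ l)) :=
    ((Commute.refl m).zpow_zpow n l).map _
  exact ((huv.mul_right h1).mul_left (h2.symm.mul_right h3)).eq

end Cfsg.Agent.S0577
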