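import Cfsg.Statements.S0578
import Mathlib.GroupTheory.Transfer
import Mathlib.GroupTheory.Nilpotent

set_option autoImplicit false
open Cfsg

namespace Cfsg.Agent.S0578


open Subgroup

/-- The hypothesis forces nilpotent subgroups to be abelian. -/
lemma isMulCommutative_of_isNilpotent {G : Type*} [Group G]
    (h : ∀ A : Subgroup G, IsMulCommutative A → normalizer (A : Set G) = centralizer (A : Set G))
    (P : Subgroup G) [Group.IsNilpotent P] : IsMulCommutative P := by
  obtain ⟨c, hc⟩ := Group.IsNilpotent.nilpotent P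
  suffices hkey : ∀ n, Subgroup.upperCentralSeries P n ≤ center P by
    refine ⟨⟨fun a b => ?_⟩⟩
    exact (mem_center_iff.mp (hkey c (hc.ge (mem_top b))) a)
  intro n
  induction n with
  | zero => simp
  | succ n ih =>
    intro x hx
    let A0 : Subgroup P := center P ⊔ zpowers x
    have hcz : zpowers x ≤ centralizer (zpowers x : Set P) := le_centralizer _
    have hA0 : A0 ≤ centralizer (A0 : Set P) := by
      rw [sup_le_iff]
      refine ⟨center_le_centralizer _, ?_⟩
      rw [le_centralizer_iff]
      refine sup_le ?_ hcz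
      exact center_le_centralizer _
    let A : Subgroup G := A0.map P.subtype
    have hA : IsMulCommutative A := by
      refine ⟨⟨?_⟩⟩
      rintro ⟨_, a, ha, rfl⟩ ⟨_, b, hb, rfl⟩
      exact Subtype.ext (congrArg (fun t : P => (t : G)) (mem_centralizer_iff.mp (hA0 hb) a ha) :)
    have hn : ∀ y : P, ∀ a ∈ A0, y * a * y⁻¹ ∈ A0 := by
      intro y a ha
      revert a
      show A0 ≤ A0.comap (MulAut.conj y).toMonoidHom
      refine sup_le (fun a ha => mem_sup_left ?_) ((zpowers_le).mpr ?_)
      · show y * a * y⁻¹ ∈ center P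
        rwa [mem_center_iff.mp ha y, mul_inv_cancel_right]
      · show y * x * y⁻¹ ∈ A0
        have h1 := ih (Subgroup.mem_upperCentralSeries_succ_iff.mp hx y)
        rw [show y * x * y⁻¹ = (x * y * x⁻¹ * y⁻¹)⁻¹ * x by simp [mul_assoc]]
        exact mul_mem_sup (inv_mem h1) (mem_zpowers x)
    have hPA : P ≤ normalizer (A : Set G) := by
      intro y hy
      rw [mem_normalizer_iff]
      intro g
      constructor
      · rintro ⟨a, ha, rfl⟩
        exact ⟨⟨y, hy⟩ * a * ⟨y, hy⟩⁻¹, hn _ a ha, rfl⟩
      · rintro ⟨a, ha, hag⟩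
        refine ⟨⟨y, hy⟩⁻¹ * a * ⟨y, hy⟩⁻¹⁻¹, hn _ a ha, ?_⟩
        have : (a : G) = y * g * y⁻¹ := hag
        simp [this, mul_assoc]
    rw [h A hA] at hPA
    rw [mem_center_iff]
    intro y
    exact Subtype.ext (mem_centralizer_iff.mp (hPA y.2) x
      ⟨x, mem_sup_right (mem_zpowers x), rfl⟩).symm

/-- If in a finite group the normalizer of each abelian subgroup coincides with its centralizer, then the group is abelian. -/
theorem result {G : Type*} [Group G] [Finite G] (h : ∀ A : Subgroup G, IsMulCommutative A → Subgroup.normalizer (A : Set G) = Subgroup.centralizer (A : Set G)) : IsMulCommutative G := by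
  suffices hG : commutator G = ⊥ by
    refine ⟨⟨fun a b => ?_⟩⟩
    rw [← commutatorElement_eq_one_iff_mul_comm, ← Subgroup.mem_bot, ← hG]
    exact Subgroup.commutator_mem_commutator (Subgroup.mem_top a) (Subgroup.mem_top b)
  refine Subgroup.eq_bot_of_card_eq _ (Nat.eq_one_iff_not_exists_prime_dvd.mpr fun p hp hdvd => ?_)
  have : Fact p.Prime := ⟨hp⟩
  obtain ⟨x, hx⟩ := exists_prime_orderOf_dvd_card' (G := commutator G) p hdvd
  have hxp : IsPGroup p (Subgroup.zpowers (x : G)) :=
    IsPGroup.of_card (n := 1) (by rw [Nat.card_zpowers, Subgroup.orderOf_coe, hx, pow_one])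
  obtain ⟨P, hP⟩ := hxp.exists_le_sylow
  have : Group.IsNilpotent (P : Subgroup G) := P.isPGroup'.isNilpotent
  have hab := isMulCommutative_of_isNilpotent h (P : Subgroup G)
  have hNC : Subgroup.normalizer (P : Set G) ≤ Subgroup.centralizer (P : Set G) := (h _ hab).le
  have hk : commutator G ≤ (MonoidHom.transferSylow P hNC).ker := by
    rw [commutator_def, Subgroup.commutator_le]
    intro a _ b _
    rw [MonoidHom.mem_ker, map_commutatorElement, commutatorElement_eq_one_iff_mul_comm]
    exact mul_comm' (M := (P : Subgroup G)) _ _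
  have h1 : (x : G) ∈ (⊥ : Subgroup G) :=
    (MonoidHom.ker_transferSylow_isComplement' P hNC).disjoint.le_bot
      ⟨hk x.2, hP (Subgroup.mem_zpowers _)⟩
  rw [Subgroup.mem_bot] at h1
  rw [← Subgroup.orderOf_coe, h1, orderOf_one] at hx
  exact hp.ne_one hx.symm

end Cfsg.Agent.S0578
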