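import Cfsg.Statements.S0580
import Cfsg.Agent.Lib.Fitting
import Mathlib.GroupTheory.Solvable

set_option autoImplicit false
open Cfsg

namespace Cfsg.Agent.S0580


open Subgroup

universe u

lemma aux : ∀ (n : ℕ) (G : Type u) [Group G] [Finite G],
    Nat.card G ≤ n → (∀ M : Subgroup G, IsCoatom M → M.index.Prime) → Group.IsSolvable G := by
  intro n
  induction n with
  | zero => intro G _ _ hle; exact absurd hle (by have := Nat.card_pos (α := G); omega)
  | succ n ih =>
    intro G _ _ hle h
    by_cases h1 : Nat.card G = 1
    · have := (Nat.card_eq_one_iff_unique.mp h1).1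
      infer_instance
    obtain ⟨p, hp, hmax⟩ : ∃ p ∈ (Nat.card G).primeFactors,
        ∀ q ∈ (Nat.card G).primeFactors, q ≤ p := by
      have hne : (Nat.card G).primeFactors.Nonempty := Nat.nonempty_primeFactors.mpr
        (lt_of_le_of_ne Nat.card_pos (Ne.symm h1))
      exact ⟨_, Finset.max'_mem _ hne, fun q hq => Finset.le_max' _ q hq⟩
    obtain ⟨hp, hpG, -⟩ := Nat.mem_primeFactors.mp hp
    have : Fact p.Prime := ⟨hp⟩
    let P : Sylow p G := default
    have hPn : (P : Subgroup G).Normal := by
      by_contra hnn
      rw [← normalizer_eq_top_iff] at hnn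
      obtain ⟨M, hM, hNM⟩ := (eq_top_or_exists_le_coatom
        (normalizer ((P : Subgroup G) : Set G))).resolve_left hnn
      have hq := h M hM
      have hPM : (P : Subgroup G) ≤ M := le_normalizer.trans hNM
      let PM : Sylow p M := P.subtype hPM
      have e1 : Nat.card (Sylow p G) ≡ 1 [MOD p] := card_sylow_modEq_one p G
      have e2 : Nat.card (Sylow p M) ≡ 1 [MOD p] := card_sylow_modEq_one p M
      rw [P.card_eq_index_normalizer] at e1
      replace e1 : (normalizer ((P : Subgroup G) : Set G)).index ≡ 1 [MOD p] := e1
      rw [← relIndex_mul_index hNM] at e1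
      rw [PM.card_eq_index_normalizer] at e2
      replace e2 : (normalizer ((PM : Subgroup M) : Set M)).index ≡ 1 [MOD p] := e2
      have e3 : (normalizer ((PM : Subgroup M) : Set M)).index =
          (normalizer ((P : Subgroup G) : Set G)).relIndex M := by
        rw [relIndex, subgroupOf_normalizer_eq hPM]
        rfl
      rw [e3] at e2
      have e4 : M.index ≡ 1 [MOD p] := by
        have h5 := e2.mul_right M.index
        rw [one_mul] at h5
        exact h5.symm.trans e1
      have hle' : M.index ≤ p :=
        hmax _ (Nat.mem_primeFactors.mpr ⟨hq, M.index_dvd_card, Nat.card_pos.ne'⟩)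
      rcases eq_or_lt_of_le hle' with he | hlt
      · rw [he] at e4
        simp [Nat.ModEq, Nat.mod_eq_of_lt hp.one_lt] at e4
      · exact hq.ne_one (e4.eq_of_lt_of_lt hlt hp.one_lt)
    have : Group.IsNilpotent (P : Subgroup G) := P.2.isNilpotent
    have : Group.IsSolvable (G ⧸ (P : Subgroup G)) := by
      refine ih _ ?_ fun M hM => ?_
      · have hlt : Nat.card (G ⧸ (P : Subgroup G)) < Nat.card G := by
          rw [← index_eq_card, ← (P : Subgroup G).card_mul_index]
          refine lt_mul_of_one_lt_left (Nat.pos_of_ne_zero index_ne_zero_of_finite) ?_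
          exact Finite.one_lt_card_iff_nontrivial.mpr
            ((nontrivial_iff_ne_bot _).mpr (P.ne_bot_of_dvd_card hpG))
        omega
      · rw [← index_comap_of_surjective M (QuotientGroup.mk'_surjective (P : Subgroup G))]
        exact h _ (isCoatom_comap_of_surjective (QuotientGroup.mk'_surjective _) hM)
    exact (Group.isSolvable_iff_subgroup_quotient (P : Subgroup G)).mpr ⟨inferInstance, inferInstance⟩

/-- If every maximal subgroup of a finite group has prime index, then the group is solvable. -/
theorem result {G : Type*} [Group G] [Finite G] (h : ∀ M : Subgroup G, IsCoatom M → M.index.Prime) : Group.IsSolvable G := by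
  exact aux (Nat.card G) G le_rfl h

end Cfsg.Agent.S0580
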