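import Cfsg.Statements.S0587
import Cfsg.Agent.Lib.Fitting.Minimal
import Cfsg.Agent.Lib.Solvable.Maximal

set_option autoImplicit false
open Cfsg

namespace Cfsg.Agent.S0587


open Subgroup Cfsg.Agent.Fitting

/-- A subgroup of the kernel `M` acting on an abelian complement `L` with trivial centralizer in it. -/
lemma card_mod_eq_one {G : Type*} [Group G] [Finite G] {q : ℕ} [Fact q.Prime] (L Q : Subgroup G)
    [L.Normal] (hQ : IsPGroup q Q) (hfix : L ⊓ centralizer (Q : Set G) = ⊥) :
    Nat.card L % q = 1 % q := by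
  let φ : Q →* MulAut L := (MulAut.conjNormal).comp Q.subtype
  let _ : MulAction Q L := MulAction.compHom L φ
  have h := hQ.card_modEq_card_fixedPoints (α := L)
  have hset : MulAction.fixedPoints Q L = {1} := by
    ext l
    simp only [MulAction.mem_fixedPoints, Set.mem_singleton_iff]
    constructor
    · intro hl
      have h1 : (l : G) ∈ L ⊓ centralizer (Q : Set G) := by
        refine ⟨l.2, mem_centralizer_iff.mpr fun x hx => ?_⟩
        have h2 := congrArg Subtype.val (hl ⟨x, hx⟩)
        have h3 : x * (l : G) * x⁻¹ = l := h2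
        calc x * (l : G) = x * (l : G) * x⁻¹ * x := by simp [mul_assoc]
          _ = l * x := by rw [h3]
      rw [hfix, mem_bot] at h1
      exact Subtype.ext h1
    · rintro rfl m
      exact map_one (φ m)
  rw [hset, Nat.card_eq_fintype_card (α := ({1} : Set L))] at h
  simpa [Nat.ModEq] using h

/-- Let G be a finite group whose largest normal p-subgroup L is nontrivial, and M a maximal subgroup of G with trivial normal core. Then L is elementary abelian, M is a complement to L, L is a minimal normal subgroup of G, the centralizer of L is L, and for every prime q such that the largest normal q-subgroup of M is nontrivial, the order of L is congruent to 1 modulo q and q ≠ p. -/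
theorem result {G : Type*} [Group G] [Finite G] (p : ℕ) [Fact p.Prime] (hL : Cfsg.pCore p G ≠ ⊥) (M : Subgroup G) (hM : IsCoatom M) (hcore : M.normalCore = ⊥) : Cfsg.IsElementaryAbelian p (Cfsg.pCore p G) ∧ Subgroup.IsComplement' (Cfsg.pCore p G) M ∧ (∀ K : Subgroup G, K.Normal → K ≤ Cfsg.pCore p G → K = ⊥ ∨ K = Cfsg.pCore p G) ∧ Subgroup.centralizer ((Cfsg.pCore p G : Subgroup G) : Set G) = Cfsg.pCore p G ∧ ∀ (q : ℕ) [Fact q.Prime], Cfsg.pCore q ↥M ≠ ⊥ → Nat.card (Cfsg.pCore p G) % q = 1 % q ∧ q ≠ p := by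
  set L := Cfsg.pCore p G with hLdef
  obtain ⟨N, hN, hNL⟩ := exists_isMinNormal_le (pCore_normal p) hL
  have := hN.1
  have : Group.IsNilpotent N := ((pCore_isPGroup p).to_le hNL).isNilpotent
  have hNab : IsMulCommutative N := hN.isMulCommutative
  have hCN : Subgroup.centralizer (N : Set G) = N :=
    Cfsg.Agent.Solvable.centralizer_eq_self_of_abelian hM hcore N hN.2.1
  have hLN : L = N := le_antisymm
    (((pCore_le_fitting p).trans hN.fitting_le_centralizer).trans hCN.le) hNL
  have hcompl := Cfsg.Agent.Solvable.isComplement'_of_abelian_minimal hM hcore N hN.2.1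
  rw [hLN]
  refine ⟨?_, hcompl, hN.2.2, hCN, fun q _ hq => ?_⟩
  · obtain ⟨r, hr, hel⟩ := hN.exists_isElementaryAbelian
    have hNp : IsPGroup p N := (pCore_isPGroup p).to_le hNL
    have : Fact r.Prime := ⟨hr⟩
    have : Nontrivial N := (Subgroup.nontrivial_iff_ne_bot N).mpr hN.2.1
    obtain ⟨x, hx⟩ := exists_ne (1 : N)
    have h1 : orderOf x = r := orderOf_eq_prime (Subtype.ext (by simpa using hel.2 x x.2)) hx
    have h2 := hNp.dvd_orderOf hx
    rw [h1, Nat.prime_dvd_prime_iff_eq Fact.out hr] at h2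
    rwa [h2]
  · set Q := (Cfsg.pCore q M).map M.subtype with hQdef
    have hQp : IsPGroup q Q := (pCore_isPGroup q).map _
    have hQne : Q ≠ ⊥ := by
      rwa [hQdef, Ne, Subgroup.map_eq_bot_iff_of_injective _ M.subtype_injective]
    have hQM : Q ≤ M := Subgroup.map_subtype_le _
    have hMQ : ∀ m ∈ M, ∀ x ∈ Q, m * x * m⁻¹ ∈ Q := by
      rintro m hm _ ⟨x, hx, rfl⟩
      exact ⟨_, (pCore_normal q).conj_mem x hx ⟨m, hm⟩, rfl⟩
    have hnC : ¬ Q ≤ Subgroup.centralizer (N : Set G) := fun h => hQne <| le_bot_iff.mp <| by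
      rw [← hcompl.disjoint.eq_bot]
      exact le_inf (h.trans hCN.le) hQM
    have hfix : N ⊓ Subgroup.centralizer (Q : Set G) = ⊥ := by
      have hn : (N ⊓ Subgroup.centralizer (Q : Set G)).Normal := by
        rw [← Subgroup.normalizer_eq_top_iff, eq_top_iff, ← hcompl.sup_eq_top, sup_le_iff]
        constructor
        · refine le_trans ?_ (Subgroup.centralizer_le_normalizer _)
          intro n hn x hx
          exact Subgroup.mem_centralizer_iff.mp
            ((Subgroup.le_centralizer N) hn) x hx.1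
        · intro m hm
          rw [Subgroup.mem_normalizer_iff_map_conj_eq]
          refine Subgroup.eq_of_le_of_card_ge (fun y hy => ?_)
            (Subgroup.card_map_of_injective (MulAut.conj m).injective).ge
          obtain ⟨x, hx, rfl⟩ := hy
          refine ⟨hN.1.conj_mem x hx.1 m, Subgroup.mem_centralizer_iff.mpr fun z hz => ?_⟩
          have hz' : m⁻¹ * z * m ∈ Q := by simpa using hMQ m⁻¹ (inv_mem hm) z hz
          show z * (m * x * m⁻¹) = m * x * m⁻¹ * z
          calc z * (m * x * m⁻¹) = m * (m⁻¹ * z * m * x) * m⁻¹ := by simp [mul_assoc]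
            _ = m * (x * (m⁻¹ * z * m)) * m⁻¹ := by
              rw [Subgroup.mem_centralizer_iff.mp hx.2 _ hz']
            _ = _ := by simp [mul_assoc]
      refine (hN.2.2 _ hn inf_le_left).resolve_right fun h => hnC ?_
      exact Subgroup.le_centralizer_iff.mp (inf_eq_left.mp h)
    refine ⟨card_mod_eq_one N Q hQp hfix, ?_⟩
    rintro rfl
    obtain ⟨z, hz, hz1⟩ : ∃ z ∈ N, z ≠ 1 := N.bot_or_exists_ne_one.resolve_left hN.2.1
    have hc := card_mod_eq_one N Q hQp hfix
    obtain ⟨n, hn⟩ := IsPGroup.iff_card.mp ((pCore_isPGroup q).to_le hNL)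
    rcases Nat.eq_zero_or_pos n with h0 | h0
    · rw [h0, pow_zero] at hn
      exact hN.2.1 (Subgroup.eq_bot_of_card_eq N hn)
    · rw [hn, Nat.mod_eq_of_lt (Fact.out : q.Prime).one_lt,
        Nat.mod_eq_zero_of_dvd (dvd_pow_self q h0.ne')] at hc
      exact zero_ne_one hc

end Cfsg.Agent.S0587
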