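import Cfsg.Statements.S0588
import Mathlib.GroupTheory.Sylow

set_option autoImplicit false
open Cfsg

namespace Cfsg.Agent.S0588


open Subgroup in
lemma sylow_le {G : Type*} [Group G] [Finite G] (H : Subgroup G)
    (h : ∀ x ∈ H, x ≠ 1 → centralizer ({x} : Set G) ≤ H) {p : ℕ} [Fact p.Prime]
    (hp : p ∣ Nat.card H) : ∃ P : Sylow p G, (P : Subgroup G) ≤ H := by
  obtain ⟨x, hx⟩ := exists_prime_orderOf_dvd_card' (G := H) p hp
  have hxG : orderOf (x : G) = p := by rwa [Subgroup.orderOf_coe]
  have hpg : IsPGroup p (zpowers (x : G)) :=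
    IsPGroup.of_card (n := 1) (by rw [Nat.card_zpowers, hxG, pow_one])
  obtain ⟨P, hP⟩ := hpg.exists_le_sylow
  have : Nontrivial (P : Subgroup G) := by
    refine (nontrivial_iff_ne_bot _).mpr fun h0 => ?_
    have := h0.le (hP (mem_zpowers _))
    rw [mem_bot] at this
    rw [this, orderOf_one] at hxG
    exact (Fact.out : p.Prime).ne_one hxG.symm
  have := P.isPGroup'.center_nontrivial
  obtain ⟨z, hz, hz1⟩ := (center (P : Subgroup G)).bot_or_exists_ne_one.resolve_left
    ((nontrivial_iff_ne_bot _).mp this)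
  have hcomm : ∀ y ∈ (P : Subgroup G), y * (z : G) = z * y := fun y hy =>
    congrArg Subtype.val (mem_center_iff.mp hz ⟨y, hy⟩)
  have hx1 : (x : G) ≠ 1 := fun h0 => by
    rw [h0, orderOf_one] at hxG
    exact (Fact.out : p.Prime).ne_one hxG.symm
  have hzH : (z : G) ∈ H := h x x.2 hx1 (mem_centralizer_singleton_iff.mpr
    (hcomm _ (hP (mem_zpowers _))).symm)
  exact ⟨P, fun y hy => h z hzH (fun h0 => hz1 (Subtype.ext h0))
    (mem_centralizer_singleton_iff.mpr (hcomm y hy))⟩

/-- If a subgroup H of a finite group G contains the centralizer of every non-identity element of H, then the order of H is coprime to its index. -/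
theorem result {G : Type*} [Group G] [Finite G] (H : Subgroup G) (h : ∀ x ∈ H, x ≠ 1 → Subgroup.centralizer ({x} : Set G) ≤ H) : (Nat.card H).Coprime H.index := by
  refine Nat.coprime_of_dvd fun p hp hdH hdI => ?_
  have : Fact p.Prime := ⟨hp⟩
  obtain ⟨P, hP⟩ := sylow_le H h hdH
  exact P.not_dvd_index (hdI.trans (Subgroup.index_dvd_of_le hP))

end Cfsg.Agent.S0588
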