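import Cfsg.Statements.S0589
import Cfsg.Agent.S0588

set_option autoImplicit false
open Pointwise
open Cfsg

namespace Cfsg.Agent.S0589


open Subgroup Pointwise MulAction

variable {G : Type*} [Group G]

/-- A nontrivial element fixes at most one coset of a Frobenius complement. -/
lemma fixed_unique {H : Subgroup G} (hH : Cfsg.IsFrobeniusComplement H) {g : G} (hg : g ≠ 1)
    {X Y : G ⧸ H} (hX : g • X = X) (hY : g • Y = Y) : X = Y := by
  obtain ⟨x, rfl⟩ := QuotientGroup.mk_surjective X
  obtain ⟨y, rfl⟩ := QuotientGroup.mk_surjective Y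
  have hx : x⁻¹ * g * x ∈ H := by
    have := QuotientGroup.eq.mp (show ((g * x : G) : G ⧸ H) = x from hX)
    have := inv_mem this
    simpa [mul_assoc] using this
  have hy : y⁻¹ * g * y ∈ H := by
    have := QuotientGroup.eq.mp (show ((g * y : G) : G ⧸ H) = y from hY)
    have := inv_mem this
    simpa [mul_assoc] using this
  by_contra hne
  have hd : x⁻¹ * y ∉ H := fun h => hne (QuotientGroup.eq.mpr h)
  have h1 : x⁻¹ * g * x ∈ H ⊓ (MulAut.conj (x⁻¹ * y) • H) := by
    refine ⟨hx, ?_⟩
    show _ ∈ MulAut.conj (x⁻¹ * y) • H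
    rw [mem_pointwise_smul_iff_inv_smul_mem, ← map_inv, MulAut.smul_def, MulAut.conj_apply]
    simpa [mul_assoc] using hy
  rw [hH.2.2 _ hd, mem_bot] at h1
  refine hg ?_
  have h2 := congrArg (fun t => x * t * x⁻¹) h1
  simpa [mul_assoc] using h2

variable [Finite G]

lemma centralizer_le {H : Subgroup G} (hH : Cfsg.IsFrobeniusComplement H) :
    ∀ x ∈ H, x ≠ 1 → centralizer ({x} : Set G) ≤ H := by
  intro x hx hx1 c hc
  by_contra hcH
  have : x ∈ H ⊓ (MulAut.conj c • H) := by
    refine ⟨hx, ?_⟩
    show x ∈ MulAut.conj c • H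
    rw [mem_pointwise_smul_iff_inv_smul_mem, ← map_inv, MulAut.smul_def, MulAut.conj_apply, inv_inv]
    rw [mem_centralizer_singleton_iff] at hc
    rwa [mul_assoc, ← hc, inv_mul_cancel_left]
  rw [hH.2.2 c hcH, mem_bot] at this
  exact hx1 this

/-- Elements whose order has all prime divisors dividing `|H|` fix a coset. -/
lemma exists_fixed {H : Subgroup G} (hH : Cfsg.IsFrobeniusComplement H) {g : G} (hg : g ≠ 1)
    (hord : orderOf g ∣ Nat.card H) : ∃ X : G ⧸ H, g • X = X := by
  obtain ⟨p, hp, hpd⟩ := Nat.exists_prime_and_dvd (fun h => hg (orderOf_eq_one_iff.mp h) :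
    orderOf g ≠ 1)
  have : Fact p.Prime := ⟨hp⟩
  set z := g ^ (orderOf g / p) with hz
  have hzord : orderOf z = p := orderOf_pow_orderOf_div (orderOf_pos g).ne' hpd
  obtain ⟨P, hP⟩ := Cfsg.Agent.S0588.sylow_le H (centralizer_le hH) (hpd.trans hord)
  have hzp : IsPGroup p (zpowers z) :=
    IsPGroup.of_card (n := 1) (by rw [Nat.card_zpowers, hzord, pow_one])
  obtain ⟨Q, hQ⟩ := hzp.exists_le_sylow
  obtain ⟨t, ht⟩ := exists_smul_eq G P Q
  have hz1 : z ≠ 1 := fun h => hp.ne_one (by rw [← hzord, h, orderOf_one])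
  have hzfix : z • (t : G ⧸ H) = t := by
    have hzQ : z ∈ (Q : Subgroup G) := hQ (mem_zpowers z)
    rw [← ht, Sylow.coe_subgroup_smul, mem_pointwise_smul_iff_inv_smul_mem, ← map_inv,
      MulAut.smul_def, MulAut.conj_apply, inv_inv] at hzQ
    refine QuotientGroup.eq.mpr ?_
    simpa [mul_assoc] using inv_mem (hP hzQ)
  refine ⟨t, fixed_unique hH hz1 ?_ hzfix⟩
  rw [smul_smul, show z * g = g * z from ((Commute.refl g).pow_left _).eq, ← smul_smul, hzfix]

/-- Let H be a Frobenius complement in a finite group G and L a subgroup of G whose order divides the order of H. Then L is contained in some conjugate of H. -/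
theorem result {G : Type*} [Group G] [Finite G] (H : Subgroup G) (hH : Cfsg.IsFrobeniusComplement H) (L : Subgroup G) (hL : Nat.card L ∣ Nat.card H) : ∃ x : G, L ≤ MulAut.conj x • H := by
  classical
  rcases eq_or_ne L ⊥ with rfl | hLne
  · exact ⟨1, bot_le⟩
  suffices hfix : ∃ X : G ⧸ H, ∀ l ∈ L, l • X = X by
    obtain ⟨X, hX⟩ := hfix
    obtain ⟨x, rfl⟩ := QuotientGroup.mk_surjective X
    refine ⟨x, fun l hl => ?_⟩
    rw [mem_pointwise_smul_iff_inv_smul_mem, ← map_inv, MulAut.smul_def, MulAut.conj_apply, inv_inv]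
    have := inv_mem (QuotientGroup.eq.mp (show ((l * x : G) : G ⧸ H) = x from hX l hl))
    simpa [mul_assoc] using this
  have := Fintype.ofFinite L
  have := Fintype.ofFinite (G ⧸ H)
  have hex : ∀ l : L, l ≠ 1 → ∃ X : G ⧸ H, l • X = X := fun l hl =>
    exists_fixed hH (fun h => hl (Subtype.ext h))
      (((Subgroup.orderOf_coe l).symm ▸ orderOf_dvd_natCard l).trans hL)
  have huniq : ∀ l : L, l ≠ 1 → ∀ X Y : G ⧸ H, l • X = X → l • Y = Y → X = Y :=
    fun l hl X Y hX hY => fixed_unique hH (fun h => hl (Subtype.ext h)) hX hY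
  -- the elements of `L` fixing some point of the orbit of `X`
  let F : G ⧸ H → Finset L := fun X =>
    Finset.univ.filter fun l => l ≠ 1 ∧ ∃ Y ∈ orbit L X, l • Y = Y
  have hF : ∀ X : G ⧸ H, ∀ l0 : L, l0 ≠ 1 → l0 • X = X → stabilizer L X ≠ ⊤ →
      Nat.card L ≤ 2 * (F X).card := by
    intro X l0 hl0 hfix0 htop
    let T : Finset (L × (G ⧸ H)) := (Finset.univ.filter
      fun q : L × (G ⧸ H) => q.1 ≠ 1 ∧ q.2 ∈ orbit L X ∧ q.1 • q.2 = q.2)
    have hTF : T.card ≤ (F X).card := by
      refine Finset.card_le_card_of_injOn Prod.fst (fun q hq => ?_) fun q hq q' hq' e => ?_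
      · simp only [T, F, Finset.coe_filter, Finset.mem_univ, true_and, Set.mem_ofPred_eq] at hq ⊢
        exact ⟨hq.1, q.2, hq.2.1, hq.2.2⟩
      · simp only [T, Finset.coe_filter, Finset.mem_univ, true_and, Set.mem_ofPred_eq] at hq hq'
        exact Prod.ext e (huniq q.1 hq.1 _ _ hq.2.2 (e ▸ hq'.2.2))
    have hTO : (orbit L X).toFinset.card * (Nat.card (stabilizer L X) - 1) ≤ T.card := by
      rw [← smul_eq_mul, ← Finset.sum_const]
      calc ∑ _Y ∈ (orbit L X).toFinset, (Nat.card (stabilizer L X) - 1)
          = ∑ Y ∈ (orbit L X).toFinset, (T.filter fun q => q.2 = Y).card := by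
            refine Finset.sum_congr rfl fun Y hY => ?_
            rw [Set.mem_toFinset] at hY
            have e1 : Nat.card (stabilizer L X) = Nat.card (stabilizer L Y) := by
              obtain ⟨g, rfl⟩ := hY
              exact Nat.card_congr (stabilizerEquivStabilizer rfl).toEquiv
            rw [e1, Nat.card_eq_fintype_card, Fintype.card_subtype,
              ← Finset.card_erase_of_mem (a := (1 : L)) (by simp)]
            refine Finset.card_bij (fun l _ => (l, Y)) ?_ (fun l _ l' _ e => (Prod.mk.inj e).1) ?_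
            · intro l hl
              simp only [Finset.mem_erase, Finset.mem_filter, Finset.mem_univ, true_and,
                mem_stabilizer_iff] at hl
              simp [T, hl.1, hY, hl.2]
            · rintro ⟨l, Y'⟩ hq
              simp only [T, Finset.mem_filter, Finset.mem_univ, true_and] at hq
              obtain ⟨⟨h1, _, h3⟩, rfl⟩ := hq
              exact ⟨l, by simp [h1, h3], rfl⟩
        _ = T.card := (Finset.card_eq_sum_card_fiberwise fun q hq => by
            simp only [T, Finset.coe_filter, Finset.mem_univ, true_and, Set.mem_ofPred_eq] at hq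
            simpa using hq.2.1).symm
        _ ≤ T.card := le_rfl
    have hos : (orbit L X).toFinset.card * Nat.card (stabilizer L X) = Nat.card L := by
      rw [Set.toFinset_card, ← Nat.card_eq_fintype_card, ← Nat.card_prod]
      exact Nat.card_congr (orbitProdStabilizerEquivGroup L X)
    have h2 : 2 ≤ Nat.card (stabilizer L X) :=
      Finite.one_lt_card_iff_nontrivial.mpr ((Subgroup.nontrivial_iff_exists_ne_one _).mpr
        ⟨l0, hfix0, hl0⟩)
    have h3 : (orbit L X).toFinset.card * Nat.card (stabilizer L X) ≤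
        2 * ((orbit L X).toFinset.card * (Nat.card (stabilizer L X) - 1)) := by
      rw [← mul_assoc, mul_comm 2, mul_assoc]
      exact Nat.mul_le_mul_left _ (by omega)
    omega
  have hFsub : ∀ X : G ⧸ H, F X ⊆ Finset.univ.erase 1 := fun X l hl => by
    simp only [F, Finset.mem_filter, Finset.mem_univ, true_and] at hl
    simp [hl.1]
  obtain ⟨l1, hl1L, hl1⟩ := (L.bot_or_exists_ne_one).resolve_left hLne
  have hl1' : (⟨l1, hl1L⟩ : L) ≠ 1 := fun h => hl1 (congrArg Subtype.val h)
  obtain ⟨X1, hX1⟩ := hex _ hl1'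
  by_contra hno
  push Not at hno
  have hnotop : ∀ X : G ⧸ H, stabilizer L X ≠ ⊤ := fun X h => by
    obtain ⟨l, hl, hne⟩ := hno X
    exact hne (show (⟨l, hl⟩ : L) • X = X from h.ge (Subgroup.mem_top _))
  by_cases hall : F X1 = Finset.univ.erase 1
  · -- one orbit: then the stabilizer is everything
    refine hnotop X1 (Subgroup.eq_top_of_card_eq _ ?_)
    have hos : (orbit L X1).toFinset.card * Nat.card (stabilizer L X1) = Nat.card L := by
      rw [Set.toFinset_card, ← Nat.card_eq_fintype_card, ← Nat.card_prod]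
      exact Nat.card_congr (orbitProdStabilizerEquivGroup L X1)
    have hle : (F X1).card ≤ (orbit L X1).toFinset.card * (Nat.card (stabilizer L X1) - 1) := by
      refine le_trans (Finset.card_le_card (t := (orbit L X1).toFinset.biUnion
        fun Y => (Finset.univ.filter fun l : L => l • Y = Y).erase 1) ?_) ?_
      · intro l hl
        simp only [F, Finset.mem_filter, Finset.mem_univ, true_and] at hl
        obtain ⟨h1, Y, hY, hlY⟩ := hl
        simp only [Finset.mem_biUnion, Set.mem_toFinset, Finset.mem_erase, Finset.mem_filter,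
          Finset.mem_univ, true_and]
        exact ⟨Y, hY, h1, hlY⟩
      · refine Finset.card_biUnion_le.trans (le_of_eq ?_)
        rw [← smul_eq_mul, ← Finset.sum_const]
        refine Finset.sum_congr rfl fun Y hY => ?_
        rw [Set.mem_toFinset] at hY
        obtain ⟨g, rfl⟩ := hY
        rw [Nat.card_congr (stabilizerEquivStabilizer (G := L) (g := g) (a := X1) rfl).toEquiv,
          Nat.card_eq_fintype_card, Fintype.card_subtype, Finset.card_erase_of_mem (by simp)]
        simp only [mem_stabilizer_iff]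
    rw [hall, Finset.card_erase_of_mem (Finset.mem_univ _), Finset.card_univ,
      ← Nat.card_eq_fintype_card] at hle
    have h1 : 0 < Nat.card (stabilizer L X1) := Nat.card_pos
    have h2 : Nat.card (stabilizer L X1) ≤ Nat.card L :=
      Nat.le_of_dvd Nat.card_pos (Subgroup.card_subgroup_dvd_card _)
    set o := (orbit L X1).toFinset.card
    set s := Nat.card (stabilizer L X1)
    have h4 : o * (s - 1) = o * s - o := by rw [Nat.mul_sub, mul_one]
    have h5 : o ≤ 1 := by
      have : o ≤ o * s := Nat.le_mul_of_pos_right _ h1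
      omega
    nlinarith
  · obtain ⟨l2, hl2, hl2'⟩ := Finset.exists_of_ssubset
      (lt_of_le_of_ne (hFsub X1) hall : F X1 < Finset.univ.erase 1)
    simp only [Finset.mem_erase, Finset.mem_univ, and_true] at hl2
    obtain ⟨X2, hX2⟩ := hex l2 hl2
    have hdisj : Disjoint (F X1) (F X2) := by
      rw [Finset.disjoint_left]
      intro l h1 h2
      simp only [F, Finset.mem_filter, Finset.mem_univ, true_and] at h1 h2
      obtain ⟨hl, Y1, hY1, hlY1⟩ := h1
      obtain ⟨-, Y2, hY2, hlY2⟩ := h2
      obtain rfl := huniq l hl _ _ hlY1 hlY2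
      refine hl2' ?_
      simp only [F, Finset.mem_filter, Finset.mem_univ, true_and]
      refine ⟨hl2, X2, ?_, hX2⟩
      rw [← orbit_eq_iff.mpr hY1, orbit_eq_iff.mpr hY2]
      exact mem_orbit_self _
    have hu : (F X1 ∪ F X2).card ≤ (Finset.univ.erase (1 : L)).card :=
      Finset.card_le_card (Finset.union_subset (hFsub X1) (hFsub X2))
    rw [Finset.card_union_of_disjoint hdisj, Finset.card_erase_of_mem (Finset.mem_univ _),
      Finset.card_univ, ← Nat.card_eq_fintype_card] at hu
    have := hF X1 _ hl1' hX1 (hnotop X1)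
    have := hF X2 _ hl2 hX2 (hnotop X2)
    have : 0 < Nat.card L := Nat.card_pos
    omega

end Cfsg.Agent.S0589
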