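import Cfsg.Statements.S0592
import Cfsg.Agent.Lib.Thompson.QuadPair
-- import your own Cfsg.Agent.* helpers here

set_option autoImplicit false
open Cfsg
set_option linter.style.haveILetI false

namespace Cfsg.Agent.S0592

/-- Two quadratically acting generators of a linear group that is not a p-group, with the p'-part of the order of their product dividing q - 1, give a homomorphism onto a subgroup of SL(2, q) that is not a p-group. -/
theorem result {K : Type*} [Field K] [Fintype K] {p : ℕ} [Fact p.Prime] [CharP K p] {W : Type*} [AddCommGroup W] [Module K W] [FiniteDimensional K W] [Finite W] [Nontrivial W] (H : Subgroup (W ≃ₗ[K] W)) (a b : W ≃ₗ[K] W) (hH : H = Subgroup.closure {a, b}) (ha : ∀ w : W, a (a w - w) = a w - w) (hb : ∀ w : W, b (b w - w) = b w - w) (hnp : ¬ IsPGroup p H) (hk : ∃ e k : ℕ, orderOf (a * b) = p ^ e * k ∧ k ∣ Fintype.card K - 1) : ∃ φ : H →* Matrix.SpecialLinearGroup (Fin 2) K, ¬ IsPGroup p φ.range := by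
  let j : H →* Module.End K W :=
    { toFun := fun h => ((h : W ≃ₗ[K] W) : W →ₗ[K] W)
      map_one' := rfl
      map_mul' := fun _ _ => rfl }
  have hjinj : Function.Injective j := fun x y h =>
    Subtype.ext (LinearEquiv.toLinearMap_injective h)
  subst hH
  let A : ↥(Subgroup.closure {a, b}) := ⟨a, Subgroup.subset_closure (Or.inl rfl)⟩
  let B : ↥(Subgroup.closure {a, b}) := ⟨b, Subgroup.subset_closure (Or.inr rfl)⟩
  have hgen : Subgroup.closure {A, B} = ⊤ := by
    rw [eq_top_iff]
    rintro ⟨x, hx⟩ -
    induction hx using Subgroup.closure_induction with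
    | mem x hx =>
      rcases hx with rfl | rfl
      · exact Subgroup.subset_closure (Or.inl rfl)
      · exact Subgroup.subset_closure (Or.inr rfl)
    | one => exact one_mem _
    | mul x y hx hy ihx ihy => exact mul_mem ihx ihy
    | inv x hx ihx => exact inv_mem ihx
  have hA : (j A - 1) * (j A - 1) = 0 := LinearMap.ext fun w => by
    show a (a w - w) - (a w - w) = 0
    rw [ha, sub_self]
  have hB : (j B - 1) * (j B - 1) = 0 := LinearMap.ext fun w => by
    show b (b w - w) - (b w - w) = 0
    rw [hb, sub_self]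
  have hR : ¬ Thompson.IsPAct p j ⊤ := fun h => hnp fun x => by
    obtain ⟨n, hn⟩ := h x (Subgroup.mem_top x)
    exact ⟨n, hjinj (by rw [map_pow, hn, map_one])⟩
  obtain ⟨e, k, hek, hkd⟩ := hk
  have hsplit : ∃ q : Polynomial K, q ≠ 0 ∧ q.Splits ∧ Polynomial.aeval (j (A * B)) q = 0 := by
    have hq0 : 0 < Fintype.card K - 1 := Nat.sub_pos_of_lt (Fintype.one_lt_card)
    have hk0 : 0 < k := Nat.pos_of_dvd_of_pos hkd hq0
    have hXk : (Polynomial.X ^ k - 1 : Polynomial K) ≠ 0 := Polynomial.monic_X_pow_sub_C (1 : K) hk0.ne' |>.ne_zero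
    refine ⟨(Polynomial.X ^ k - 1) ^ p ^ e, pow_ne_zero _ hXk, ?_, ?_⟩
    · refine Polynomial.Splits.pow ?_ _
      have hbig : (Polynomial.X ^ Fintype.card K - Polynomial.X : Polynomial K) ≠ 0 :=
        FiniteField.X_pow_card_sub_X_ne_zero K Fintype.one_lt_card
      have hsp : (Polynomial.X ^ Fintype.card K - Polynomial.X : Polynomial K).Splits := by
        letI : Algebra (ZMod p) K := ZMod.algebra K p
        have := FiniteField.splits_X_pow_card_sub_X (p := p) (K := K)
        simpa using this
      refine hsp.of_dvd hbig ?_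
      obtain ⟨m, hm⟩ := hkd
      have h1 : (Polynomial.X ^ k - 1 : Polynomial K) ∣ Polynomial.X ^ (Fintype.card K - 1) - 1 := by
        rw [hm, pow_mul]
        exact sub_one_dvd_pow_sub_one _ m
      refine h1.trans ⟨Polynomial.X, ?_⟩
      rw [sub_mul, one_mul, ← pow_succ, Nat.sub_add_cancel Fintype.one_lt_card.le]
    · haveI : CharP (Module.End K W) p :=
        charP_of_injective_algebraMap (FaithfulSMul.algebraMap_injective K (Module.End K W)) p
      have hone : (A * B) ^ (orderOf (a * b)) = 1 := Subtype.ext (pow_orderOf_eq_one (a * b))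
      simp only [map_pow, map_sub, Polynomial.aeval_X, map_one]
      rw [sub_pow_char_pow_of_commute _ _ (Commute.one_right _), one_pow, ← pow_mul, ← map_pow,
        mul_comm k, ← hek, hone, map_one, sub_self]
  obtain ⟨φ, -, -, -, h4, -⟩ := Thompson.exists_two_dim j hgen hA hB ⊤ hR hsplit
  refine ⟨φ, fun h => h4 ?_⟩
  rw [Thompson.isPAct_iff_isPGroup, ← MonoidHom.range_eq_map]
  exact h

end Cfsg.Agent.S0592
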