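import Cfsg.Statements.S0594
import Cfsg.Agent.Lib.Thompson.QuadApply
-- import your own Cfsg.Agent.* helpers here

set_option autoImplicit false
open Cfsg
open scoped commutatorElement

namespace Cfsg.Agent.S0594

/-- For odd p, two quadratic generators of a faithful group that is not a p-group, one of which acts nontrivially on a normal subgroup of order prime to p, force p = 3 and a section isomorphic to SL(2,3). -/
theorem result {G : Type*} [Group G] [Finite G] {p : ℕ} [Fact p.Prime] (hp : p ≠ 2) (V H : Subgroup G) (hV : Cfsg.IsElementaryAbelian p V) (hHV : H ≤ Subgroup.normalizer (V : Set G)) (hf : H ⊓ Subgroup.centralizer (V : Set G) = ⊥) (a b : G) (hab : H = Subgroup.closure {a, b}) (ha : ⁅⁅V, Subgroup.zpowers a⁆, Subgroup.zpowers a⁆ = ⊥) (hb : ⁅⁅V, Subgroup.zpowers b⁆, Subgroup.zpowers b⁆ = ⊥) (hnp : ¬ IsPGroup p H) (Q : Subgroup G) (hQH : Q ≤ H) (hQn : H ≤ Subgroup.normalizer (Q : Set G)) (hQ : (Nat.card Q).Coprime p) (hQa : ⁅Q, Subgroup.zpowers a⁆ ≠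 ⊥) : p = 3 ∧ ∃ (K L : Subgroup G) (hL : (L.subgroupOf K).Normal), K ≤ H ∧ Nonempty ((K ⧸ L.subgroupOf K) ≃* Matrix.SpecialLinearGroup (Fin 2) (ZMod 3)) := by
  subst hab
  have hA : a ∈ Subgroup.closure ({a, b} : Set G) := Subgroup.subset_closure (Or.inl rfl)
  obtain ⟨q, hq, hne⟩ : ∃ q ∈ Q, ⁅q, a⁆ ≠ 1 := by
    by_contra h
    push Not at h
    refine hQa (Subgroup.commutator_eq_bot_iff_le_centralizer.mpr fun q hq => ?_)
    rw [Subgroup.zpowers_eq_closure, Subgroup.centralizer_closure,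
      Subgroup.mem_centralizer_singleton_iff]
    exact commutatorElement_eq_one_iff_mul_comm.mp (h q hq)
  haveI : (Q.subgroupOf (Subgroup.closure ({a, b} : Set G))).Normal :=
    Subgroup.normal_subgroupOf_of_le_normalizer hQn
  obtain ⟨h3, K, L, hL, hK, he⟩ := Thompson.sl_two_three_of_pair hp
    (Subgroup.closure ({a, b} : Set G)).subtype (Subgroup.subtype_injective _) V hV
    (by rwa [Subgroup.range_subtype]) (by rwa [Subgroup.range_subtype])
    (Thompson.closure_pair_top a b) ha hb (Q.subgroupOf _) ⊥ IsPGroup.of_bot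
    (fun x hx => ⟨Nat.card Q, hQ, Subgroup.mem_bot.mpr (Subtype.ext (orderOf_dvd_iff_pow_eq_one.mp
      (Subgroup.orderOf_dvd_natCard Q hx)))⟩)
    (q := ⟨q, hQH hq⟩) hq
    (fun h => hne (congrArg Subtype.val (Subgroup.mem_bot.mp h)))
  exact ⟨h3, K, L, hL, hK.trans (Subgroup.range_subtype _).le, he⟩

end Cfsg.Agent.S0594
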