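import Cfsg.Statements.S0633
import Cfsg.Agent.FGS73.HHBGroup

set_option autoImplicit false
open Cfsg

namespace Cfsg.Agent.S0633

/-- Theorem B of Hall and Higman on the minimal polynomial of a p-element of order p^n in a p-solvable linear group on a nonzero vector space in characteristic p with no nontrivial normal p-subgroup: its degree is p^n, except when some p^n₀ - 1 (n₀ ≤ n) is a power of a prime q for which the Sylow q-subgroups are non-abelian, in which case the degree is at least p^(n-n₀)(p^n₀ - 1). -/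
theorem result {F : Type*} [Field F] {p : ℕ} [Fact p.Prime] [CharP F p] {V : Type*} [AddCommGroup V] [Module F V] [FiniteDimensional F V] [Nontrivial V] (H : Subgroup (V ≃ₗ[F] V)) [Finite H] (hsol : Cfsg.IsPSolvable p H) (hOp : Cfsg.pCore p H = ⊥) (x : V ≃ₗ[F] V) (hx : x ∈ H) (n : ℕ) (hn : orderOf x = p ^ n) (r : ℕ) (hr : minpoly F (x : Module.End F V) = (Polynomial.X - 1) ^ r) : r = p ^ n ∨ ∃ n₀ q m : ℕ, 1 ≤ n₀ ∧ n₀ ≤ n ∧ q.Prime ∧ 1 ≤ m ∧ p ^ n₀ - 1 = q ^ m ∧ (∀ Q : Sylow q H, ¬ IsMulCommutative Q) ∧ p ^ (n - n₀) * (p ^ n₀ - 1) ≤ r := by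
  classical
  have hp : p.Prime := Fact.out
  let ρ : H →* Module.End F V :=
    { toFun := fun h => ((h : V ≃ₗ[F] V) : Module.End F V)
      map_one' := rfl
      map_mul' := fun a b => rfl }
  have hρ : Function.Injective ρ := fun a b hab =>
    Subtype.ext (LinearEquiv.toLinearMap_injective hab)
  have hev : ((x : Module.End F V) - 1) ^ r = 0 := by
    have h1 := minpoly.aeval F (x : Module.End F V)
    rw [hr] at h1
    simpa using h1
  have hpow : ∀ k, ((x ^ k : V ≃ₗ[F] V) : Module.End F V) = (x : Module.End F V) ^ k := by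
    intro k
    induction k with
    | zero => rfl
    | succ k ih => rw [pow_succ, pow_succ, ← ih]; rfl
  have hle : r ≤ p ^ n := by
    haveI : CharP (Module.End F V) p := charP_of_injective_algebraMap
      (FaithfulSMul.algebraMap_injective F (Module.End F V)) p
    have h1 : ((x : Module.End F V) - 1) ^ p ^ n = 0 := by
      rw [sub_pow_char_pow_of_commute p n (Commute.one_right _), ← hpow, ← hn, pow_orderOf_eq_one,
        one_pow]
      exact sub_self _
    have h2 : minpoly F (x : Module.End F V) ∣ (Polynomial.X - 1) ^ p ^ n := by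
      apply minpoly.dvd
      simpa using h1
    rw [hr] at h2
    have h3 := Polynomial.natDegree_le_of_dvd h2 (pow_ne_zero _ (Polynomial.X_sub_C_ne_zero 1))
    rwa [Polynomial.natDegree_pow, Polynomial.natDegree_pow, ← Polynomial.C_1,
      Polynomial.natDegree_X_sub_C, mul_one, mul_one] at h3
  rcases hle.lt_or_eq with hlt | heq
  swap
  · exact Or.inl heq
  rcases n with _ | m
  · left
    have hr0 : r = 0 := by simpa using hlt
    subst hr0
    exact absurd hev (by simp)
  have hx1 : (⟨x, hx⟩ : H) ^ p ^ m ≠ 1 := fun h => by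
    have h1 : orderOf x ∣ p ^ m :=
      orderOf_dvd_of_pow_eq_one (by simpa using congrArg Subtype.val h)
    rw [hn] at h1
    exact absurd (Nat.le_of_dvd (pow_pos hp.pos _) h1)
      (not_le.2 (Nat.pow_lt_pow_right hp.one_lt (Nat.lt_succ_self m)))
  have hx2 : (⟨x, hx⟩ : H) ^ p ^ (m + 1) = 1 := by
    apply Subtype.ext
    simp [← hn, pow_orderOf_eq_one]
  obtain ⟨n₀, q, k, h1, h2, h3, h4, h5, h6, h7⟩ :=
    Cfsg.Agent.FGS73.hhb_linear ρ hρ hsol hOp hx2 hx1 (r := r) hev hlt
  exact Or.inr ⟨n₀, q, k, h1, h2, h3, h4, h5, h6, h7⟩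

end Cfsg.Agent.S0633
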