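import Cfsg.Statements.S0647
import Cfsg.Agent.PLocalB.CenterThompson
-- import your own Cfsg.Agent.* helpers here

set_option autoImplicit false
open Cfsg

namespace Cfsg.Agent.S0647

/-- For a nonempty family of maximal abelian subgroups of a finite group, the intersection of the family is the centre of the subgroup it generates, which is also the full centralizer of that subgroup. -/
theorem result {S : Type*} [Group S] [Finite S] (𝒜 : Set (Subgroup S)) (hne : 𝒜.Nonempty) (hab : ∀ A ∈ 𝒜, IsMulCommutative A) (hmax : ∀ A ∈ 𝒜, ∀ B : Subgroup S, IsMulCommutative B → A ≤ B → B = A) : sInf 𝒜 = sSup 𝒜 ⊓ Subgroup.centralizer ((sSup 𝒜 : Subgroup S) : Set S) ∧ sInf 𝒜 = Subgroup.centralizer ((sSup 𝒜 : Subgroup S) : Set S) := by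
  classical
  have hJ : ∀ x ∈ sInf 𝒜, x ∈ Subgroup.centralizer ((sSup 𝒜 : Subgroup S) : Set S) := by
    intro x
    revert x
    refine Subgroup.le_centralizer_iff.mp (sSup_le fun B hB b hb => ?_)
    refine Subgroup.mem_centralizer_iff.mpr fun x hx => ?_
    exact congrArg Subtype.val ((hab B hB).is_comm.comm ⟨x, Subgroup.mem_sInf.mp hx B hB⟩ ⟨b, hb⟩)
  have hback : Subgroup.centralizer ((sSup 𝒜 : Subgroup S) : Set S) ≤ sInf 𝒜 := by
    intro x hx
    refine Subgroup.mem_sInf.mpr fun A hA => ?_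
    have h := Cfsg.Agent.PLocalB.isMulCommutative_sup_zpowers (hab A hA) (x := x) fun a ha =>
      Subgroup.mem_centralizer_iff.mp hx a (le_sSup hA ha)
    rw [← hmax A hA _ h le_sup_left]
    exact Subgroup.mem_sup_right (Subgroup.mem_zpowers x)
  have e : sInf 𝒜 = Subgroup.centralizer ((sSup 𝒜 : Subgroup S) : Set S) :=
    le_antisymm hJ hback
  refine ⟨le_antisymm (le_inf ?_ e.le) (inf_le_right.trans e.ge), e⟩
  obtain ⟨A, hA⟩ := hne
  exact (sInf_le hA).trans (le_sSup hA)

end Cfsg.Agent.S0647
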