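import Cfsg.Statements.S0651
import Cfsg.Agent.PLocalB.ReplacementProperty
-- import your own Cfsg.Agent.* helpers here

set_option autoImplicit false
open Cfsg

namespace Cfsg.Agent.S0651

/-- For odd p and D normal in the p-group S, the abelian subgroups of D of largest order satisfy the replacement property: a class-2 normal subgroup B of S with a member containing [B, B] but not B normalizes some such member. -/
theorem result {S : Type*} [Group S] [Finite S] {p : ℕ} [Fact p.Prime] (hS : IsPGroup p S) (hp : p ≠ 2) (D : Subgroup S) [D.Normal] : ∀ (B : Subgroup S) [B.Normal], ⁅⁅B, B⁆, B⁆ = ⊥ → (∃ U ∈ (Set.image (fun A : Subgroup ↥D => A.map D.subtype) (Cfsg.maxAbelianSubgroups ↥D)), ⁅B, B⁆ ≤ U ∧ ¬ B ≤ U) → ∃ A ∈ (Set.image (fun A : Subgroup ↥D => A.map D.subtype) (Cfsg.maxAbelianSubgroups ↥D)), ⁅B, B⁆ ≤ A ∧ ¬ B ≤ A ∧ B ≤ Subgroup.normalizer (A : Set S) := by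
  intro B _ _ hex
  have key : ∀ U : Subgroup S, U ∈ Set.image (fun A : Subgroup ↥D => A.map D.subtype) (Cfsg.maxAbelianSubgroups ↥D) ↔
      (Cfsg.Agent.PLocalB.abelianFamily S).IsMax D U := by
    intro U
    rw [Cfsg.Agent.PLocalB.abelian_isMax_iff D]
    constructor
    · rintro ⟨A, hA, rfl⟩
      refine ⟨Subgroup.map_subtype_le A, ?_⟩
      rwa [show (A.map D.subtype).subgroupOf D = A from
        Subgroup.comap_map_eq_self_of_injective D.subtype_injective A]
    · rintro ⟨hle, hU⟩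
      exact ⟨_, hU, Subgroup.map_subgroupOf_eq_of_le hle⟩
  obtain ⟨U, hU, h1, h2⟩ := hex
  obtain ⟨A, hA, h3, h4, h5⟩ :=
    (Cfsg.Agent.PLocalB.abelianFamily S).replacement_property hS hp D B ⟨U, (key U).mp hU, h1, h2⟩
  exact ⟨A, (key A).mpr hA, h3, h4, h5⟩

end Cfsg.Agent.S0651
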