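import Cfsg.Statements.S0655
import Cfsg.Agent.PLocalB.CenterThompson
-- import your own Cfsg.Agent.* helpers here

set_option autoImplicit false
open Cfsg

namespace Cfsg.Agent.S0655

/-- In a p-group the intersection of all elementary abelian subgroups of largest order is the subgroup generated by the elements of order dividing p in the centre (equivalently the centralizer) of the elementary-version Thompson subgroup. -/
theorem result {S : Type*} [Group S] [Finite S] {p : ℕ} [Fact p.Prime] (hS : IsPGroup p S) : sInf (Cfsg.maxElementaryAbelianSubgroups p S) = Cfsg.omegaCenterThompson p S ∧ Cfsg.omegaCenterThompson p S = Cfsg.omegaOne p (Subgroup.centralizer (Cfsg.thompsonSubgroup p S : Set S)) := by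
  have key : ∀ x : S, x ^ p = 1 →
      x ∈ Subgroup.centralizer (Cfsg.thompsonSubgroup p S : Set S) →
      ∀ A ∈ Cfsg.maxElementaryAbelianSubgroups p S, x ∈ A := by
    intro x hxp hx A hA
    have hcom := Cfsg.Agent.PLocalB.isMulCommutative_sup_zpowers hA.1.1 fun a ha =>
      Subgroup.mem_centralizer_iff.mp hx a (le_sSup hA ha)
    have hgood : Cfsg.IsElementaryAbelian p (A ⊔ Subgroup.zpowers x) := by
      refine ⟨hcom, fun y hy => ?_⟩
      let P : Subgroup S :=
        { carrier := {g | g ∈ A ⊔ Subgroup.zpowers x ∧ g ^ p = 1}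
          one_mem' := ⟨one_mem _, one_pow p⟩
          mul_mem' := fun {u v} hu hv => ⟨mul_mem hu.1 hv.1, by
            have : Commute u v := congrArg Subtype.val (hcom.is_comm.comm ⟨u, hu.1⟩ ⟨v, hv.1⟩)
            rw [this.mul_pow, hu.2, hv.2, one_mul]⟩
          inv_mem' := fun {u} hu => ⟨inv_mem hu.1, by rw [inv_pow, hu.2, inv_one]⟩ }
      have : A ⊔ Subgroup.zpowers x ≤ P := sup_le
        (fun a ha => ⟨Subgroup.mem_sup_left ha, hA.1.2 a ha⟩)
        (Subgroup.zpowers_le.mpr ⟨Subgroup.mem_sup_right (Subgroup.mem_zpowers x), hxp⟩)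
      exact (this hy).2
    rw [Subgroup.eq_of_le_of_card_ge le_sup_left (hA.2 _ hgood)]
    exact Subgroup.mem_sup_right (Subgroup.mem_zpowers x)
  constructor
  · apply le_antisymm
    · obtain ⟨A, hA⟩ := (Cfsg.Agent.PLocalB.elementaryFamily p S).exists_isMax ⊤
      have hAm : A ∈ Cfsg.maxElementaryAbelianSubgroups p S :=
        ⟨hA.2.1, fun B hB => hA.2.2 B le_top hB⟩
      intro x hx
      refine Subgroup.subset_closure ⟨⟨le_sSup hAm (Subgroup.mem_sInf.mp hx A hAm), ?_⟩,
        hAm.1.2 x (Subgroup.mem_sInf.mp hx A hAm)⟩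
      revert x
      refine Subgroup.le_centralizer_iff.mp (sSup_le fun B hB b hb => ?_)
      refine Subgroup.mem_centralizer_iff.mpr fun x hx => ?_
      exact congrArg Subtype.val (hB.1.1.is_comm.comm ⟨x, Subgroup.mem_sInf.mp hx B hB⟩ ⟨b, hb⟩)
    · rw [Cfsg.omegaCenterThompson, Cfsg.omegaOne, Subgroup.closure_le]
      rintro x ⟨hx, hxp⟩
      refine Subgroup.mem_sInf.mpr fun A hA => ?_
      exact key x hxp hx.2 A hA
  · apply le_antisymm
    · exact Subgroup.closure_mono fun x hx => ⟨hx.1.2, hx.2⟩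
    · rw [Cfsg.omegaOne, Subgroup.closure_le]
      rintro x ⟨hx, hxp⟩
      obtain ⟨A, hA⟩ := (Cfsg.Agent.PLocalB.elementaryFamily p S).exists_isMax ⊤
      have hAm : A ∈ Cfsg.maxElementaryAbelianSubgroups p S :=
        ⟨hA.2.1, fun B hB => hA.2.2 B le_top hB⟩
      exact Subgroup.subset_closure ⟨⟨le_sSup hAm (key x hxp hx A hAm), hx⟩, hxp⟩

end Cfsg.Agent.S0655
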