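import Cfsg.Statements.S0657
import Cfsg.Agent.PLocalB.QdStable
import Cfsg.Agent.PLocalB.StableDefs
-- import your own Cfsg.Agent.* helpers here

set_option autoImplicit false
open Cfsg

namespace Cfsg.Agent.S0657

/-- For odd p, a group that fails to be p-stable modulo its largest normal subgroup of order prime to p, and whose upper p-series does not stop there, has a section isomorphic to SL(2, p). -/
theorem result {G : Type*} [Group G] [Finite G] {p : ℕ} [Fact p.Prime] (hp : p ≠ 2) (hO : Cfsg.pPrimeCore p G < Cfsg.pPrimePCore p G) (hns : ¬ Cfsg.IsPStable p (G ⧸ Cfsg.pPrimeCore p G)) : ∃ (K L : Subgroup G) (hL : (L.subgroupOf K).Normal), K ≤ ⊤ ∧ Nonempty ((K ⧸ L.subgroupOf K) ≃* Matrix.SpecialLinearGroup (Fin 2) (ZMod p)) := by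
  have hO' : Cfsg.pCore p (G ⧸ Cfsg.pPrimeCore p G) ≠ ⊥ := by
    intro h
    apply hO.ne
    unfold Cfsg.pPrimePCore
    rw [h, MonoidHom.comap_bot, QuotientGroup.ker_mk']
  obtain ⟨P, a, hP, hq, ha⟩ := Cfsg.Agent.PLocalB.exists_of_not_isPStable hp hO' hns
  haveI : (P.subgroupOf (Subgroup.normalizer (P : Set (G ⧸ Cfsg.pPrimeCore p G)))).Normal :=
    Subgroup.normal_in_normalizer
  obtain ⟨L, π, f, hπ, -, -⟩ := Cfsg.Agent.PLocalB.natural_of_not_stable hp _ hP a hq ha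
  obtain ⟨K₁, σ₁, -, hσ₁⟩ := Cfsg.Agent.PLocalB.exists_surjective_of_subgroup L π hπ
  let mk := QuotientGroup.mk' (Cfsg.pPrimeCore p G)
  have hs : Function.Surjective (mk.subgroupComap K₁) := by
    rintro ⟨y, hy⟩
    obtain ⟨x, rfl⟩ := QuotientGroup.mk'_surjective _ y
    exact ⟨⟨x, hy⟩, rfl⟩
  obtain ⟨R, hR, e⟩ := Cfsg.Agent.PLocalB.exists_section_of_surjective (K₁.comap mk)
    (σ₁.comp (mk.subgroupComap K₁)) (hσ₁.comp hs)
  exact ⟨_, R, hR, le_top, e⟩

end Cfsg.Agent.S0657
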