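import Cfsg.Statements.S0660
import Cfsg.Agent.Lib.Coprime.SchurZassenhaus

set_option autoImplicit false
open Cfsg
open scoped IsMulCommutative

namespace Cfsg.Agent.S0660

/-- Under a coprime action on an abelian group, an invariant subgroup that is complemented admits an invariant complement. -/
theorem result {G : Type*} [Group G] [Finite G] (V A U : Subgroup G) (hVab : IsMulCommutative V) (hAV : A ≤ Subgroup.normalizer (V : Set G)) (hcop : (Nat.card A).Coprime (Nat.card V)) (hUV : U ≤ V) (hAU : A ≤ Subgroup.normalizer (U : Set G)) (W : Subgroup G) (hWV : W ≤ V) (hUW : U ⊓ W = ⊥) (hUWV : U ⊔ W = V) : ∃ W' : Subgroup G, W' ≤ V ∧ A ≤ Subgroup.normalizer (W' : Set G) ∧ U ⊓ W' = ⊥ ∧ U ⊔ W' = V := by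
  classical
  cases nonempty_fintype A
  haveI := hVab
  let σ : A → V →* V := fun e =>
    { toFun := fun x => ⟨(e : G) * x * (e : G)⁻¹, Coprime.conj_mem_of_mem_normalizer (hAV e.2) x.2⟩
      map_one' := by ext; simp
      map_mul' := fun x y => by ext; simp [mul_assoc] }
  have hmem : ∀ v : V, ∃ u : V, (u : G) ∈ U ∧ ((u : G)⁻¹ * v) ∈ W := fun v => by
    have hWU : W ≤ Subgroup.normalizer (U : Set G) := fun w hw =>
      Subgroup.mem_normalizer_iff.mpr fun x => by
        constructor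
        · intro hx
          have h : w * x = x * w := congrArg Subtype.val (mul_comm' (⟨w, hWV hw⟩ : V) ⟨x, hUV hx⟩)
          rw [h]; simpa using hx
        · intro hx
          have h : w * (w * x * w⁻¹) = (w * x * w⁻¹) * w :=
            congrArg Subtype.val (mul_comm' (⟨w, hWV hw⟩ : V) ⟨_, hUV hx⟩)
          have : x = w * x * w⁻¹ := by
            have h2 := congrArg (fun z => w⁻¹ * z) h
            simp [mul_assoc] at h2
            simp [mul_assoc, h2]
          rwa [this]
    obtain ⟨u, hu, w, hw, e⟩ := Coprime.exists_mul_of_mem_sup hWU (hUWV ▸ v.2 : (v : G) ∈ U ⊔ W)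
    exact ⟨⟨u, hUV hu⟩, hu, by simp [e, hw]⟩
  choose π hπU hπW using hmem
  have huniq : ∀ (v u : V), (u : G) ∈ U → ((u : G)⁻¹ * v) ∈ W → π v = u := fun v u h1 h2 => by
    have h3 : (π v : G)⁻¹ * (u : G) ∈ U ⊓ W := Subgroup.mem_inf.mpr
      ⟨mul_mem (inv_mem (hπU v)) h1, by simpa [mul_assoc] using mul_mem (hπW v) (inv_mem h2)⟩
    rw [hUW, Subgroup.mem_bot, inv_mul_eq_one] at h3
    exact Subtype.ext h3
  let pr : V →* V :=
    { toFun := π
      map_one' := huniq 1 1 (by simp) (by simp)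
      map_mul' := fun a b => huniq (a * b) (π a * π b)
        (by push_cast; exact mul_mem (hπU a) (hπU b)) (by
          have h : ((π a * π b : V))⁻¹ * (a * b) = ((π a)⁻¹ * a) * ((π b)⁻¹ * b) := by
            rw [mul_inv, mul_mul_mul_comm]
          have h' := congrArg Subtype.val h
          push_cast at h'
          push_cast
          rw [h']
          exact mul_mem (hπW a) (hπW b)) }
  let f : A → V →* V := fun e => (σ e).comp (pr.comp (σ e⁻¹))
  let ν : V →* V := ∏ e : A, f e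
  have hν : ∀ v, ν v = ∏ e : A, f e v := fun v => MonoidHom.finsetProd_apply _ _ _
  have hσ : ∀ (a b : A) (v : V), σ a (σ b v) = σ (a * b) v := fun a b v => by
    ext; simp [σ, mul_assoc]
  have hνA : ∀ (a : A) (v : V), ν (σ a v) = σ a (ν v) := fun a v => by
    rw [hν, hν, map_prod]
    refine (Fintype.prod_equiv (Equiv.mulLeft a) _ _ fun e => ?_).symm
    show σ a (f e v) = σ (a * e) (π (σ (a * e)⁻¹ (σ a v)))
    simp only [f, MonoidHom.comp_apply, hσ]
    rw [mul_inv_rev, inv_mul_cancel_right]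
    rfl
  have hfU : ∀ (u : V), (u : G) ∈ U → ∀ e, f e u = u := fun u hu e => by
    have h1 : ((σ e⁻¹ u : V) : G) ∈ U := Coprime.conj_mem_of_mem_normalizer (hAU (e⁻¹).2) hu
    show σ e (π (σ e⁻¹ u)) = u
    rw [huniq _ _ h1 (by simp), hσ, mul_inv_cancel]
    ext; simp [σ]
  have hνU : ∀ v, (ν v : G) ∈ U := fun v => by
    rw [hν]
    have h : (∏ e : A, f e v) ∈ U.subgroupOf V := prod_mem fun e _ =>
      (Coprime.conj_mem_of_mem_normalizer (hAU e.2) (hπU _) : _)
    exact h
  have hpow : ∀ u : V, (u : G) ∈ U → ν u = u ^ Nat.card A := fun u hu => by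
      simp [hν, hfU u hu, Nat.card_eq_fintype_card]
  refine ⟨ν.ker.map V.subtype, Subgroup.map_subtype_le _, fun a ha => ?_, ?_, ?_⟩
  · refine Subgroup.mem_normalizer_iff.mpr fun x => ⟨?_, ?_⟩
    · rintro ⟨v, hv, rfl⟩
      refine ⟨σ ⟨a, ha⟩ v, ?_, rfl⟩
      show ν (σ ⟨a, ha⟩ v) = 1
      rw [hνA, show ν v = 1 from hv, map_one]
    · rintro ⟨v, hv, e⟩
      refine ⟨σ ⟨a, ha⟩⁻¹ v, ?_, ?_⟩
      · show ν (σ ⟨a, ha⟩⁻¹ v) = 1
        rw [hνA, show ν v = 1 from hv, map_one]
      · have e' : (v : G) = a * x * a⁻¹ := e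
        show a⁻¹ * (v : G) * a⁻¹⁻¹ = x
        rw [e']; simp [mul_assoc]
  · refine eq_bot_iff.mpr fun x hx => ?_
    obtain ⟨v, hv, rfl⟩ := hx.2
    have h : v ^ Nat.card A = 1 := by rw [← hpow v hx.1]; exact hv
    have : v = 1 := (powCoprime hcop.symm).injective (by simpa using h)
    simp [this]
  · refine le_antisymm (sup_le hUV (Subgroup.map_subtype_le _)) fun x hx => ?_
    let u : V := (powCoprime hcop.symm).symm (ν ⟨x, hx⟩)
    have hu : u ^ Nat.card A = ν ⟨x, hx⟩ := (powCoprime hcop.symm).apply_symm_apply _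
    have huU : (u : G) ∈ U := by
      obtain ⟨m, hm⟩ := exists_pow_eq_self_of_coprime (hcop.coprime_dvd_right (orderOf_dvd_natCard u))
      rw [← hm, hu]
      exact pow_mem (hνU _) m
    have hk : u⁻¹ * ⟨x, hx⟩ ∈ ν.ker := by
      show ν _ = 1
      rw [map_mul, map_inv, hpow u huU, hu, inv_mul_cancel]
    have := Subgroup.mul_mem_sup huU (Subgroup.mem_map_of_mem V.subtype hk)
    simpa using this

end Cfsg.Agent.S0660
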