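import Cfsg.Statements.S0671
import Cfsg.Agent.Lib.Perm.PermModule

set_option autoImplicit false
open Cfsg

namespace Cfsg.Agent.S0671

/-- If the heart of the permutation module in characteristic `p` of a transitive action of degree `p ^ f` has no trivial composition factor, the action is doubly transitive. The hypothesis is phrased without composition series: no invariant subspaces `W < W'` between the constants and the sum-zero functions with trivial action on the quotient. -/
theorem result {G : Type*} [Group G] [Finite G] {K : Type*} [Field K] {p f : ℕ} [Fact p.Prime] [CharP K p] {Ω : Type*} [Fintype Ω] [MulAction G Ω] [MulAction.IsPretransitive G Ω] (hf : 1 ≤ f) (hcard : Fintype.card Ω = p ^ f) (h : ∀ W W' : Subrepresentation (Cfsg.permRep K G Ω), (Cfsg.permConstants K G Ω).toSubmodule ≤ W.toSubmodule → W.toSubmodule < W'.toSubmodule → W'.toSubmodule ≤ (Cfsg.permSumZero K G Ω).toSubmodule → ∃ g : G, ∃ v ∈ W'.toSubmodule, Cfsg.permRep K G Ω g v - v ∉ W.toSubmodule) : MulAction.IsMultiplyPretransitive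 G Ω 2 := by
  classical
  obtain ⟨a⟩ : Nonempty Ω :=
    Fintype.card_pos_iff.mp (hcard ▸ pow_pos (Nat.Prime.pos (Fact.out : p.Prime)) f)
  rw [Cfsg.Agent.Perm.isMultiplyPretransitive_two_iff_stabilizer a]
  intro b z hb hz
  have hn0 : (Fintype.card Ω : K) = 0 := by
    rw [hcard, Nat.cast_pow, CharP.cast_eq_zero, zero_pow (by omega)]
  let φ : Ω → Ω → K := fun y x => if ∃ g : G, g • a = y ∧ g • b = x then 1 else 0
  have hφ : ∀ (g : G) y x, φ (g • y) (g • x) = φ y x := by
    intro g y x
    have : (∃ g' : G, g' • a = g • y ∧ g' • b = g • x) ↔ ∃ g' : G, g' • a = y ∧ g' • b = x := by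
      constructor
      · rintro ⟨g', h1, h2⟩
        exact ⟨g⁻¹ * g', by rw [mul_smul, h1, inv_smul_smul], by rw [mul_smul, h2, inv_smul_smul]⟩
      · rintro ⟨g', h1, h2⟩
        exact ⟨g * g', by rw [mul_smul, h1], by rw [mul_smul, h2]⟩
    simp only [φ, this]
  let c : K := ∑ x, φ a x
  have hc : ∀ y, ∑ x, φ y x = c := fun y => by
    obtain ⟨g, rfl⟩ := MulAction.exists_smul_eq G a y
    rw [← Cfsg.Agent.Perm.sum_inv_smul g⁻¹ (fun x => φ (g • a) x)]
    simp only [inv_inv, hφ, c]
  let ψ : Ω → Ω → K := fun y x => φ y x - if x = y then c else 0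
  have hψ : ∀ (g : G) y x, ψ (g • y) (g • x) = ψ y x := fun g y x => by
    simp only [ψ, hφ, smul_left_cancel_iff]
  have hψsum : ∀ y, ∑ x, ψ y x = 0 := fun y => by
    simp [ψ, Finset.sum_sub_distrib, hc]
  let T := Cfsg.Agent.Perm.kerMap ψ
  have hTconst : ∀ d : K, T (fun _ => d) = 0 := fun d => by
    funext y
    rw [Cfsg.Agent.Perm.kerMap_apply, ← Finset.sum_mul, hψsum, zero_mul]; rfl
  let W : Subrepresentation (Cfsg.permRep K G Ω) :=
    { toSubmodule := (Cfsg.permSumZero K G Ω).toSubmodule.map T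
      apply_mem_toSubmodule := by
        rintro g _ ⟨v, hv, rfl⟩
        exact ⟨_, (Cfsg.permSumZero K G Ω).apply_mem_toSubmodule g hv,
          Cfsg.Agent.Perm.kerMap_comm hψ g v⟩ }
  let W' : Subrepresentation (Cfsg.permRep K G Ω) :=
    { toSubmodule := LinearMap.range T
      apply_mem_toSubmodule := by
        rintro g _ ⟨v, rfl⟩
        exact ⟨_, Cfsg.Agent.Perm.kerMap_comm hψ g v⟩ }
  by_cases hWb : W.toSubmodule = ⊥
  · have hflat : ψ a b = ψ a z := by
      have hmem : T (Pi.single b 1 - Pi.single z 1) ∈ W.toSubmodule :=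
        Submodule.mem_map_of_mem (by rw [Cfsg.Agent.Perm.mem_permSumZero_iff]; simp)
      rw [hWb, Submodule.mem_bot, map_sub, sub_eq_zero] at hmem
      have := congrFun hmem a
      rwa [Cfsg.Agent.Perm.kerMap_single, Cfsg.Agent.Perm.kerMap_single] at this
    have h1 : φ a b = 1 := if_pos ⟨1, one_smul _ _, one_smul _ _⟩
    simp only [ψ, if_neg hb, if_neg hz, sub_zero, h1] at hflat
    by_contra hno
    have : φ a z = 0 := if_neg fun ⟨g, hg1, hg2⟩ => hno ⟨g, hg1, hg2⟩
    rw [this] at hflat
    exact one_ne_zero hflat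
  exfalso
  have hCW : (Cfsg.permConstants K G Ω).toSubmodule ≤ W.toSubmodule :=
    Cfsg.Agent.Perm.permConstants_le_of_ne_bot hcard W hWb
  have hW'top : W'.toSubmodule ≠ ⊤ := by
    intro e
    have hinj := LinearMap.injective_iff_surjective.mpr (LinearMap.range_eq_top.mp e)
    have : (fun _ : Ω => (1 : K)) = 0 := hinj ((hTconst 1).trans (map_zero T).symm)
    exact one_ne_zero (congrFun this a)
  have hW'S : W'.toSubmodule ≤ (Cfsg.permSumZero K G Ω).toSubmodule :=
    Cfsg.Agent.Perm.le_permSumZero_of_ne_top hcard W' hW'top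
  have hWW' : W.toSubmodule < W'.toSubmodule := by
    refine lt_of_le_of_ne LinearMap.map_le_range fun e => ?_
    let Kr : Subrepresentation (Cfsg.permRep K G Ω) :=
      { toSubmodule := LinearMap.ker T
        apply_mem_toSubmodule := fun g v hv => by
          rw [LinearMap.mem_ker] at hv ⊢
          rw [Cfsg.Agent.Perm.kerMap_comm hψ, show Cfsg.Agent.Perm.kerMap ψ v = 0 from hv, map_zero] }
    have hKtop : Kr.toSubmodule ≠ ⊤ := by
      intro e'
      apply hWb
      have hT0 : T = 0 := LinearMap.ker_eq_top.mp e'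
      show (Cfsg.permSumZero K G Ω).toSubmodule.map T = ⊥
      rw [hT0, Submodule.map_zero]
    have hKS := Cfsg.Agent.Perm.le_permSumZero_of_ne_top hcard Kr hKtop
    obtain ⟨u, hu, hu'⟩ : T (Pi.single a 1) ∈ (Cfsg.permSumZero K G Ω).toSubmodule.map T :=
      (le_of_eq e.symm) (LinearMap.mem_range_self T _)
    have hd : Pi.single a 1 - u ∈ LinearMap.ker T := by
      rw [LinearMap.mem_ker, map_sub, hu', sub_self]
    have := (Cfsg.permSumZero K G Ω).toSubmodule.add_mem (hKS hd) hu
    rw [sub_add_cancel, Cfsg.Agent.Perm.mem_permSumZero_iff] at this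
    simp at this
  obtain ⟨g, w, hw, hne⟩ := h W W' hCW hWW' hW'S
  obtain ⟨v, rfl⟩ := hw
  apply hne
  rw [← Cfsg.Agent.Perm.kerMap_comm hψ, ← map_sub]
  refine Submodule.mem_map_of_mem ?_
  rw [Cfsg.Agent.Perm.mem_permSumZero_iff]
  simp only [Pi.sub_apply, Finset.sum_sub_distrib, Cfsg.Agent.Perm.permRep_apply,
    Cfsg.Agent.Perm.sum_inv_smul, sub_self]

end Cfsg.Agent.S0671
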