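import Cfsg.Statements.S0680
import Cfsg.Agent.Lib.Perm.SharplyTwo

set_option autoImplicit false
open Cfsg

namespace Cfsg.Agent.S0680

/-- A finite sharply doubly transitive permutation group has degree a prime power `p ^ j`; a Sylow `p`-subgroup is normal, elementary abelian and regular, and consists of the identity together with the elements without fixed points. (Frobenius' Theorem is not needed.) -/
theorem result {α : Type*} [Fintype α] [DecidableEq α] (G : Subgroup (Equiv.Perm α)) [MulAction.IsMultiplyPretransitive G α 2] (hsharp : ∀ x : Fin 2 ↪ α, MulAction.stabilizer G x = ⊥) (h2 : 2 ≤ Fintype.card α) : ∃ p j : ℕ, p.Prime ∧ 1 ≤ j ∧ Fintype.card α = p ^ j ∧ ∀ (hp : Fact p.Prime) (P : Sylow p G), (P : Subgroup G).Normal ∧ IsMulCommutative (P : Subgroup G) ∧ (∀ x ∈ (P : Subgroup G), x ^ p = 1) ∧ MulAction.IsPretransitive (P : Subgroup G) α ∧ (∀ a : α, MulAction.stabilizer (P : Subgroup G) a = ⊥) ∧ ∀ g : G, g ∈ (P : Subgroup G) ↔ g = 1 ∨ ∀ a : α, g • a ≠ a := by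
  have h2' : 2 ≤ Nat.card α := by rwa [Nat.card_eq_fintype_card]
  obtain ⟨p, j, N, hp, hj, hcard, hN, hab, hexp, htr, hreg, hmem⟩ :=
    Cfsg.Agent.Perm.SharplyTwo.exists_translations hsharp h2'
  refine ⟨p, j, hp, hj, Nat.card_eq_fintype_card.symm.trans hcard, fun hpf P => ?_⟩
  haveI := hN
  haveI := htr
  have hNcard : Nat.card N = p ^ j := by
    obtain ⟨a⟩ : Nonempty α := Fintype.card_pos_iff.mp (by omega)
    rw [Cfsg.Agent.Perm.card_eq_of_regular (hreg a), hcard]
  have hG := Cfsg.Agent.Perm.SharplyTwo.card_eq hsharp h2'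
  have hfac : (Nat.card G).factorization p = j := by
    have hpj : 1 < p ^ j := Nat.one_lt_pow (by omega) hp.one_lt
    have hnd : ¬ p ∣ p ^ j - 1 := by
      intro hd
      have h1 : p ∣ p ^ j := dvd_pow_self p (by omega)
      have h := Nat.dvd_sub h1 hd
      rw [Nat.sub_sub_self hpj.le] at h
      exact hp.ne_one (Nat.dvd_one.mp h)
    rw [hG, hcard, Nat.factorization_mul (by omega) (by omega), Finsupp.add_apply,
      hp.factorization_pow, Finsupp.single_eq_same, Nat.factorization_eq_zero_of_not_dvd hnd,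
      add_zero]
  let S : Sylow p G := Sylow.ofCard N (by rw [hNcard, hfac])
  haveI : (S : Subgroup G).Normal := hN
  haveI := Sylow.unique_of_normal S inferInstance
  rw [Subsingleton.elim P S]
  exact ⟨hN, hab, hexp, htr, hreg, hmem⟩

end Cfsg.Agent.S0680
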