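import Cfsg.Statements.S0681
import Cfsg.Agent.Lib.Perm.SharplyTwo

set_option autoImplicit false
open Cfsg

namespace Cfsg.Agent.S0681

/-- The affine maps of a near-field. -/
theorem nearField_zero_mul {F : Type*} [Cfsg.NearField F] (x : F) : 0 * x = 0 := by
  have h := Cfsg.NearField.right_distrib (0 : F) 0 x
  rw [add_zero] at h
  calc (0 : F) * x = -(0 * x) + (0 * x + 0 * x) := by rw [neg_add_cancel_left]
    _ = 0 := by rw [← h, neg_add_cancel]

theorem nearField_sub_mul {F : Type*} [Cfsg.NearField F] (x y a : F) :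
    (x - y) * a = x * a - y * a := by
  rw [eq_sub_iff_add_eq, ← Cfsg.NearField.right_distrib, sub_add_cancel]

theorem nearField_mul_cancel {F : Type*} [Cfsg.NearField F] {a x y : F} (ha : a ≠ 0)
    (h : x * a = y * a) : x = y := by
  obtain ⟨b, hb, -⟩ := Cfsg.NearField.exists_inv a ha
  rw [← mul_one x, ← mul_one y, ← hb, ← mul_assoc, ← mul_assoc, h]

theorem nearField_mul_ne_zero {F : Type*} [Cfsg.NearField F] {a b : F} (ha : a ≠ 0) (hb : b ≠ 0) :
    a * b ≠ 0 := fun h => ha (nearField_mul_cancel hb (h.trans (nearField_zero_mul b).symm))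

/-- The affine maps `x ↦ x * a + b`, `a ≠ 0`, of a near-field form a sharply doubly transitive permutation group. -/
theorem result {F : Type*} [Cfsg.NearField F] : ∃ H : Subgroup (Equiv.Perm F), (∀ σ : Equiv.Perm F, σ ∈ H ↔ ∃ a b : F, a ≠ 0 ∧ ∀ x : F, σ x = x * a + b) ∧ MulAction.IsMultiplyPretransitive H F 2 ∧ ∀ x : Fin 2 ↪ F, MulAction.stabilizer H x = ⊥ := by
  let aff : F → F → F → F := fun a b x => x * a + b
  let S : Set (Equiv.Perm F) := {σ | ∃ a b : F, a ≠ 0 ∧ ∀ x : F, σ x = x * a + b}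
  have hinv : ∀ a b : F, a ≠ 0 → ∃ a' b', a' ≠ 0 ∧ (∀ x, (x * a + b) * a' + b' = x) ∧
      ∀ x, (x * a' + b') * a + b = x := by
    intro a b ha
    obtain ⟨c, hac, hca⟩ := Cfsg.NearField.exists_inv a ha
    have hc : c ≠ 0 := fun e => (Cfsg.NearField.zero_ne_one (F := F))
      (by rw [← hac, e, Cfsg.NearField.mul_zero])
    refine ⟨c, -(b * c), hc, fun x => ?_, fun x => ?_⟩
    · rw [Cfsg.NearField.right_distrib, mul_assoc, hac, mul_one, add_neg_cancel_right]
    · have hneg : -(b * c) * a = -b := by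
        have h := nearField_sub_mul 0 (b * c) a
        rw [zero_sub, nearField_zero_mul, zero_sub, mul_assoc, hca, mul_one] at h
        exact h
      rw [Cfsg.NearField.right_distrib, mul_assoc, hca, mul_one, hneg, neg_add_cancel_right]
  let H : Subgroup (Equiv.Perm F) :=
    { carrier := S
      one_mem' := ⟨1, 0, (Cfsg.NearField.zero_ne_one).symm, fun x => by simp⟩
      mul_mem' := by
        rintro σ τ ⟨a, b, ha, hσ⟩ ⟨c, d, hc, hτ⟩
        refine ⟨c * a, d * a + b, nearField_mul_ne_zero hc ha, fun x => ?_⟩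
        rw [Equiv.Perm.mul_apply, hσ, hτ, Cfsg.NearField.right_distrib, mul_assoc, add_assoc]
      inv_mem' := by
        rintro σ ⟨a, b, ha, hσ⟩
        obtain ⟨a', b', ha', -, h2⟩ := hinv a b ha
        refine ⟨a', b', ha', fun x => σ.injective ?_⟩
        rw [Equiv.Perm.inv_def, Equiv.apply_symm_apply, hσ, h2] }
  have hmem : ∀ σ : Equiv.Perm F, σ ∈ H ↔ ∃ a b : F, a ≠ 0 ∧ ∀ x : F, σ x = x * a + b :=
    fun σ => Iff.rfl
  refine ⟨H, hmem, ?_, ?_⟩
  · rw [MulAction.is_two_pretransitive_iff]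
    intro x y u v hxy huv
    obtain ⟨c, hc, hc'⟩ := Cfsg.NearField.exists_inv (x - y) (sub_ne_zero.mpr hxy)
    let a := c * (u - v)
    have hc0 : c ≠ 0 := fun e => (Cfsg.NearField.zero_ne_one (F := F))
      (by rw [← hc, e, Cfsg.NearField.mul_zero])
    have ha : a ≠ 0 := nearField_mul_ne_zero hc0 (sub_ne_zero.mpr huv)
    have hd : (x - y) * a = u - v := by rw [← mul_assoc, hc, one_mul]
    let b := -(y * a) + v
    obtain ⟨a', b', -, h1, h2⟩ := hinv a b ha
    let σ : Equiv.Perm F := ⟨fun z => z * a + b, fun z => z * a' + b', h1, h2⟩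
    refine ⟨⟨σ, a, b, ha, fun z => rfl⟩, ?_, ?_⟩
    · show x * a + (-(y * a) + v) = u
      rw [← add_assoc, ← sub_eq_add_neg, ← nearField_sub_mul, hd, sub_add_cancel]
    · show y * a + (-(y * a) + v) = v
      rw [add_neg_cancel_left]
  · intro x
    rw [Subgroup.eq_bot_iff_forall]
    rintro ⟨σ, a, b, ha, hσ⟩ hx
    have h0 : σ (x 0) = x 0 := congrArg (fun e : Fin 2 ↪ F => e 0) hx
    have h1 : σ (x 1) = x 1 := congrArg (fun e : Fin 2 ↪ F => e 1) hx
    rw [hσ] at h0 h1
    have hd : (x 0 - x 1) * a = x 0 - x 1 := by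
      rw [nearField_sub_mul]
      conv_rhs => rw [← h0, ← h1]
      rw [add_sub_add_right_eq_sub]
    obtain ⟨c, hc, hc'⟩ := Cfsg.NearField.exists_inv (x 0 - x 1)
      (sub_ne_zero.mpr (x.injective.ne (by decide)))
    have ha1 : a = 1 := by rw [← one_mul a, ← hc', mul_assoc, hd]
    rw [ha1, mul_one, add_eq_left] at h0
    apply Subtype.ext
    ext z
    show σ z = z
    rw [hσ, ha1, h0, mul_one, add_zero]

end Cfsg.Agent.S0681
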