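import Cfsg.Statements.S0682
import Cfsg.Agent.Lib.Perm.SharplyTwo
import Cfsg.Agent.S0681

set_option autoImplicit false
open Cfsg

namespace Cfsg.Agent.S0682

/-- A finite near-field has prime-power order; its additive group is commutative of prime exponent. -/
theorem result {F : Type*} [Cfsg.NearField F] [Finite F] : ∃ p j : ℕ, p.Prime ∧ 1 ≤ j ∧ Nat.card F = p ^ j ∧ (∀ x y : F, x + y = y + x) ∧ ∀ x : F, p • x = 0 := by
  obtain ⟨H, hH, h2t, hsharp⟩ := Cfsg.Agent.S0681.result (F := F)
  haveI := h2t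
  haveI : Nontrivial F := ⟨0, 1, Cfsg.NearField.zero_ne_one⟩
  obtain ⟨p, j, N, hp, hj, hcard, hN, hab, hexp, htr, hreg, hmem⟩ :=
    Cfsg.Agent.Perm.SharplyTwo.exists_translations hsharp Finite.one_lt_card
  have htrans : ∀ b : F, ∃ n : N, ∀ x : F, ((n : H) : Equiv.Perm F) x = x + b := by
    intro b
    have hb : (Equiv.addRight b) ∈ H :=
      (hH _).mpr ⟨1, b, Cfsg.NearField.zero_ne_one.symm, fun x => by simp⟩
    refine ⟨⟨⟨_, hb⟩, (hmem _).mpr ?_⟩, fun x => rfl⟩
    by_cases h : b = 0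
    · exact Or.inl (Subtype.ext (Equiv.ext fun x => by simp [h]))
    · exact Or.inr fun a e => h (add_eq_left.mp (show a + b = a from e))
  refine ⟨p, j, hp, hj, hcard, fun x y => ?_, fun x => ?_⟩
  · obtain ⟨m, hm⟩ := htrans x
    obtain ⟨n, hn⟩ := htrans y
    have := congrArg (fun q : N => ((q : H) : Equiv.Perm F) 0) (hab.is_comm.comm n m)
    simpa [hm, hn] using this
  · obtain ⟨m, hm⟩ := htrans x
    have hpow : ∀ k : ℕ, (((m : H) : Equiv.Perm F) ^ k) 0 = k • x := by
      intro k
      induction k with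
      | zero => simp
      | succ k ih => rw [pow_succ', Equiv.Perm.mul_apply, ih, hm, succ_nsmul]
    rw [← hpow p]
    have := congrArg (fun q : H => (q : Equiv.Perm F) 0) (hexp m m.2)
    simpa using this

end Cfsg.Agent.S0682
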