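import Cfsg.Statements.S0683
import Cfsg.Agent.Lib.Perm.SharplyTwo

set_option autoImplicit false
open Cfsg

namespace Cfsg.Agent.S0683

/-- A finite sharply doubly transitive permutation group is the affine group of a near-field: the permuted set carries a near-field structure for which the group consists exactly of the maps `x ↦ x * a + b` with `a ≠ 0`. -/
theorem result {α : Type*} [Fintype α] [DecidableEq α] (H : Subgroup (Equiv.Perm α)) [MulAction.IsMultiplyPretransitive H α 2] (hsharp : ∀ x : Fin 2 ↪ α, MulAction.stabilizer H x = ⊥) (h2 : 2 ≤ Fintype.card α) : ∃ _ : Cfsg.NearField α, ∀ σ : Equiv.Perm α, σ ∈ H ↔ ∃ a b : α, a ≠ 0 ∧ ∀ x : α, σ x = x * a + b := by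
  classical
  have h2' : 2 ≤ Nat.card α := by rwa [Nat.card_eq_fintype_card]
  obtain ⟨p, j, N, hp, hj, hcard, hN, hab, hexp, htr, hreg, hmem⟩ :=
    Cfsg.Agent.Perm.SharplyTwo.exists_translations hsharp h2'
  haveI := htr
  haveI := hN
  haveI : Nontrivial α := Finite.one_lt_card_iff_nontrivial.mp h2'
  obtain ⟨o⟩ : Nonempty α := inferInstance
  obtain ⟨i, hio⟩ := exists_ne o
  let eN : N ≃ α := Equiv.ofBijective _ (Cfsg.Agent.Perm.bijective_smul_of_regular (hreg o))
  let t : α → N := fun y => eN.symm y
  have ht : ∀ y, t y • o = y := fun y => eN.apply_symm_apply y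
  have htu : ∀ (n : N) y, n • o = y → n = t y := fun n y h => eN.injective (h.trans (ht y).symm)
  have hexh : ∀ a, ∃ g : H, g • o = o ∧ (a ≠ o → g • i = a) := fun a => by
    by_cases ha : a = o
    · exact ⟨1, one_smul _ _, fun h => absurd ha h⟩
    · obtain ⟨g, hg, e⟩ := Cfsg.Agent.Perm.exists_mem_stabilizer_smul_eq (G := H) hio ha
      exact ⟨g, hg, fun _ => e⟩
  choose h hho hhi using hexh
  have hhu : ∀ (g : H) a, g • o = o → g • i = a → g = h a := by
    intro g a e1 e2
    have ha : a ≠ o := fun e => hio (MulAction.injective g (e2.trans (e.trans e1.symm)))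
    rw [← inv_mul_eq_one]
    refine Cfsg.Agent.Perm.SharplyTwo.eq_one_of_two_fixed hsharp hio ?_ ?_
    · rw [mul_smul, inv_smul_eq_iff, e2, hhi a ha]
    · rw [mul_smul, inv_smul_eq_iff, e1, hho a]
  let add : α → α → α := fun x y => t y • x
  let mul : α → α → α := fun x a => if a = o then o else h a • x
  have t0 : t o = 1 := (htu 1 o (one_smul _ _)).symm
  have tadd : ∀ y z, t (add y z) = t z * t y := fun y z => (htu _ _ (by rw [mul_smul, ht])).symm
  letI iz : Zero α := ⟨o⟩
  letI ia : Add α := ⟨add⟩
  letI ineg : Neg α := ⟨fun y => (t y)⁻¹ • o⟩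
  letI ione : One α := ⟨i⟩
  letI imul : Mul α := ⟨mul⟩
  let ag : AddGroup α :=
    { add := add
      zero := o
      neg := fun y => (t y)⁻¹ • o
      nsmul := nsmulRec
      zsmul := zsmulRec nsmulRec
      add_assoc := fun x y z => by
        show t z • (t y • x) = t (add y z) • x
        rw [tadd, mul_smul]
      zero_add := fun y => ht y
      add_zero := fun x => by show t o • x = x; rw [t0, one_smul]
      neg_add_cancel := fun y => by
        show t y • ((t y)⁻¹ • o) = o
        rw [smul_inv_smul] }
  have hne : ∀ a c, a ≠ o → mul a c = o → c = o := fun a c ha e => by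
    by_contra hc
    simp only [mul, if_neg hc] at e
    exact ha (MulAction.injective (h c) (e.trans (hho c).symm))
  have hone : h i = 1 := (hhu 1 i (one_smul _ _) (one_smul _ _)).symm
  let mo : Monoid α :=
    { mul := mul
      one := i
      npow := npowRec
      mul_assoc := fun x a c => by
        show mul (mul x a) c = mul x (mul a c)
        by_cases hc : c = o
        · simp [mul, hc]
        by_cases ha : a = o
        · simp [mul, hc, ha, hho]
        have hac : h c • a ≠ o := fun e => ha (MulAction.injective (h c) (e.trans (hho c).symm))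
        have : h (h c • a) = h c * h a :=
          (hhu _ _ (by rw [mul_smul, hho, hho]) (by rw [mul_smul, hhi a ha])).symm
        simp only [mul, if_neg hc, if_neg ha, if_neg hac, this, mul_smul]
      one_mul := fun a => by
        show mul i a = a
        by_cases ha : a = o
        · simp [mul, ha]
        · simp [mul, ha, hhi a ha]
      mul_one := fun x => by
        show mul x i = x
        simp [mul, hio, hone] }
  let nf : Cfsg.NearField α :=
    { ag, mo with
      right_distrib := fun x y a => by
        show mul (t y • x) a = add (mul x a) (mul y a)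
        by_cases ha : a = o
        · simp [mul, add, ha, t0]
        · simp only [mul, add, if_neg ha]
          have hm : h a * (t y : H) * (h a)⁻¹ ∈ N := Subgroup.Normal.conj_mem hN _ (t y).2 _
          have e : (⟨_, hm⟩ : N) = t (h a • y) := htu _ _ (by
            show (h a * (t y : H) * (h a)⁻¹) • o = _
            rw [mul_smul, mul_smul, inv_smul_eq_iff.mpr (hho a).symm]
            exact congrArg (h a • ·) (ht y))
          rw [← e]
          show _ = (h a * (t y : H) * (h a)⁻¹) • (h a • x)
          rw [mul_smul, mul_smul, inv_smul_smul]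
          rfl
      mul_zero := fun x => if_pos rfl
      zero_ne_one := hio.symm
      exists_inv := fun a ha => by
        have ha' : a ≠ o := ha
        let b := (h a)⁻¹ • i
        have hb : b ≠ o := fun e => hio (by
          have := congrArg (h a • ·) e
          simpa [b, hho] using this)
        have e : (h a)⁻¹ = h b := hhu _ _ (inv_smul_eq_iff.mpr (hho a).symm) rfl
        refine ⟨b, ?_, ?_⟩
        · show mul a b = i
          simp only [mul, if_neg hb, ← e]
          rw [inv_smul_eq_iff, hhi a ha']
        · show mul b a = i
          simp only [mul, if_neg ha', b, smul_inv_smul] }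
  refine ⟨nf, fun σ => ⟨fun hσ => ?_, ?_⟩⟩
  · let g : H := ⟨σ, hσ⟩
    let k : H := (t (g • o) : H)⁻¹ * g
    have hk : k • o = o := by
      show ((t (g • o) : H)⁻¹ * g) • o = o
      rw [mul_smul, inv_smul_eq_iff]
      exact (ht (g • o)).symm
    have hki : k • i ≠ o := fun e => hio (MulAction.injective k (e.trans hk.symm))
    refine ⟨k • i, g • o, hki, fun x => ?_⟩
    show g • x = add (mul x (k • i)) (g • o)
    simp only [add, mul, if_neg hki, ← hhu k (k • i) hk rfl]
    show g • x = (t (g • o) : H) • (k • x)
    rw [← mul_smul]
    show g • x = ((t (g • o) : H) * ((t (g • o) : H)⁻¹ * g)) • x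
    rw [mul_inv_cancel_left]
  · rintro ⟨a, b, ha, hab'⟩
    have ha' : a ≠ o := ha
    have : σ = (((t b : H) * h a : H) : Equiv.Perm α) := by
      ext x
      rw [hab']
      show add (mul x a) b = _
      simp only [add, mul, if_neg ha']
      rfl
    rw [this]
    exact SetLike.coe_mem _

end Cfsg.Agent.S0683
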