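import Cfsg.Statements.S0684
import Cfsg.Agent.Lib.Perm.NearField

set_option autoImplicit false
open Cfsg

namespace Cfsg.Agent.S0684

/-- Point stabiliser of a sharply doubly transitive group not of semilinear type: a maximal normal abelian subgroup `A` of a linear group `H` that is regular on non-zero vectors and has no irreducible cyclic normal subgroup is cyclic and reducible, and the order of `A` divides `p ^ k - 1` for `k` the dimension of a minimal `A`-invariant subspace. -/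
theorem result {p : ℕ} [Fact p.Prime] {V : Type*} [AddCommGroup V] [Module (ZMod p) V] [Finite V] (H : Subgroup (V ≃ₗ[ZMod p] V)) (hreg : ∀ v w : V, v ≠ 0 → w ≠ 0 → ∃! h : H, (h : V ≃ₗ[ZMod p] V) v = w) (hI : ∀ A : Subgroup H, A.Normal → IsCyclic A → ∃ W : Submodule (ZMod p) V, W ≠ ⊥ ∧ W ≠ ⊤ ∧ ∀ a ∈ A, ∀ v ∈ W, ((a : H) : V ≃ₗ[ZMod p] V) v ∈ W) (A : Subgroup H) (hAn : A.Normal) (hAc : IsMulCommutative A) (hAmax : ∀ B : Subgroup H, B.Normal → IsMulCommutative B → A ≤ B → B = A) : IsCyclic A ∧ ∃ W : Submodule (ZMod p) V, W ≠ ⊥ ∧ W ≠ ⊤ ∧ (∀ a ∈ A, ∀ v ∈ W, ((a : H) : V ≃ₗ[ZMod p] V) v ∈ W) ∧ (∀ W' : Submodule (ZMod p) V, W' ≤ W → (∀ a ∈ A, ∀ v ∈ W', ((a : H) : V ≃ₗ[ZMod p] V) v ∈ W') → W' = ⊥ ∨ W' = W) ∧ Nat.card A ∣ p ^ Module.finrank (ZMod p) W - 1 := by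
  have : Nontrivial V := Perm.NearField.NoIrredCyclic.nontrivial hI
  obtain ⟨v, hv⟩ := exists_ne (0 : V)
  refine ⟨Perm.NearField.isCyclic_of_abelian_normal hreg hAn hAc,
    LinearMap.range (Perm.NearField.evalAt A v),
    (Submodule.ne_bot_iff _).2 ⟨v, Perm.NearField.mem_range_evalAt_self v, hv⟩,
    Perm.NearField.range_evalAt_ne_top hreg hI hAn hAc hv,
    Perm.NearField.range_evalAt_invariant v,
    Perm.NearField.range_evalAt_minimal hreg hAn hv, ?_⟩
  rw [Perm.NearField.finrank_range_evalAt hreg hAn hAc hv]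
  exact Perm.NearField.card_dvd hreg hAn hAc

end Cfsg.Agent.S0684
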