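import Cfsg.Statements.S0690
import Cfsg.Agent.FPFStructure.Struct
import Mathlib.GroupTheory.SemidirectProduct

set_option autoImplicit false
open Cfsg

namespace Cfsg.Agent.S0690

/-- Zassenhaus: a perfect non-trivial group of fixed-point-free automorphisms of a finite group is isomorphic to `SL(2,5)`. -/
theorem result {K : Type*} [Group K] [Finite K] (G : Subgroup (MulAut K)) (hfpf : ∀ φ ∈ G, φ ≠ 1 → ∀ k : K, φ k = k → k = 1) (hperf : commutator G = ⊤) (hne : G ≠ ⊥) : Nonempty (G ≃* Matrix.SpecialLinearGroup (Fin 2) (ZMod 5)) := by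
  haveI : Finite G := inferInstance
  haveI : Finite (K ⋊[G.subtype] G) := Finite.of_equiv _ SemidirectProduct.equivProd.symm
  let A : Subgroup (K ⋊[G.subtype] G) := (SemidirectProduct.inr : G →* (K ⋊[G.subtype] G)).range
  let V : Subgroup (K ⋊[G.subtype] G) := (SemidirectProduct.inl : K →* (K ⋊[G.subtype] G)).range
  haveI : V.Normal := by
    have : V = (SemidirectProduct.rightHom : (K ⋊[G.subtype] G) →* G).ker :=
      SemidirectProduct.range_inl_eq_ker_rightHom
    rw [this]; infer_instance
  have hfpf' : Frobenius.IsFPF A V := by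
    refine Frobenius.isFPF_of_normal ?_
    rintro _ ⟨φ, rfl⟩ hφ
    rw [Subgroup.eq_bot_iff_forall]
    rintro _ ⟨⟨k, rfl⟩, hk⟩
    have h1 := Subgroup.mem_centralizer_singleton_iff.1 hk
    have h2 := congrArg (fun z : K ⋊[G.subtype] G => z.left) h1
    simp only [SemidirectProduct.mul_left, SemidirectProduct.left_inl, SemidirectProduct.left_inr,
      SemidirectProduct.right_inl, SemidirectProduct.right_inr, map_one, one_mul, mul_one,
      MulAut.one_apply, Subgroup.coe_subtype] at h2
    have hφ' : (φ : MulAut K) ≠ 1 := fun h => hφ (by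
      rw [show φ = 1 from Subtype.ext h, map_one])
    rw [hfpf φ φ.2 hφ' k h2.symm, map_one]
  have hV : V ≠ ⊥ := by
    intro h
    refine hne ((Subgroup.eq_bot_iff_forall G).2 fun φ _ => MulEquiv.ext fun k => ?_)
    have hk : (SemidirectProduct.inl k : (K ⋊[G.subtype] G)) = 1 :=
      Subgroup.mem_bot.1 (h ▸ (⟨k, rfl⟩ : (SemidirectProduct.inl k : (K ⋊[G.subtype] G)) ∈ V))
    have hk1 : k = 1 := SemidirectProduct.inl_injective (hk.trans (map_one _).symm)
    rw [hk1, map_one, MulAut.one_apply]
  obtain ⟨hdA, hev⟩ := FPFStructure.data_of_isFPF hfpf' hV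
  let e : G ≃* A := MonoidHom.ofInjective SemidirectProduct.inr_injective
  have hns : ¬ Group.IsSolvable G := fun hs => by
    haveI := hs
    haveI : Nontrivial G := (Subgroup.nontrivial_iff_ne_bot G).2 hne
    exact (Group.IsSolvable.commutator_lt_top_of_nontrivial G).ne hperf
  have hd := hdA.comap e.toMonoidHom e.injective
  have h2 : 2 ∣ Nat.card A := by
    rw [← Nat.card_congr e.toEquiv]
    exact by_contra fun h => hns (FPFStructure.solvable_of_odd hd h)
  obtain ⟨R, hR, ρ, ζ, hρ, hζ⟩ := hev h2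
  have hζ' : FPFStructure.IsInv2 (e.symm ζ) := by
    refine ⟨fun h => hζ.1 ?_, by rw [← map_mul, hζ.2, map_one]⟩
    rw [← e.apply_symm_apply ζ, h, map_one]
  obtain ⟨G₀, hn, hi, S, M, hsup, hinf, hcomm, ⟨eS⟩, hZ, -⟩ :=
    FPFStructure.structure_nonsolvable (hρ.comp e.toMonoidHom e.injective) hζ' hd hns
  haveI := hn
  have hG₀ : G₀ = ⊤ := by
    rcases hi with h | h
    · exact Subgroup.index_eq_one.1 h
    · exfalso
      have hc : commutator G ≤ G₀ := by
        refine Subgroup.Normal.quotient_commutative_iff_commutator_le.1 ?_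
        haveI : IsCyclic (G ⧸ G₀) := by
          haveI := Fact.mk Nat.prime_two
          exact isCyclic_of_prime_card (p := 2) (by rw [← Subgroup.index_eq_card, h])
        exact ⟨⟨fun a b => mul_comm' a b⟩⟩
      rw [hperf, top_le_iff] at hc
      rw [hc, Subgroup.index_top] at h
      norm_num at h
  haveI : IsZGroup M := (isZGroup_iff M).2 fun p hp P => by
    haveI := Fact.mk hp
    exact hZ p P
  -- `M` is a perfect solvable group
  have hM : M = ⊥ := by
    by_contra hMne
    haveI : Nontrivial M := (Subgroup.nontrivial_iff_ne_bot M).2 hMne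
    apply (Group.IsSolvable.commutator_lt_top_of_nontrivial M).ne
    rw [eq_top_iff]
    intro m _
    have htop : S ⊔ M = ⊤ := hsup.trans hG₀
    have hSn : M ≤ Subgroup.normalizer (S : Set G) := fun x hx => by
      rw [Subgroup.mem_normalizer_iff]
      refine fun s => ⟨fun hs => ?_, fun hs => ?_⟩
      · rw [← hcomm s hs x hx, mul_inv_cancel_right]; exact hs
      · have := hcomm _ hs x hx
        have e2 : x * s * x⁻¹ = s := mul_left_cancel (a := x) (by
          rw [← this, mul_assoc (x * s) x⁻¹ x, inv_mul_cancel, mul_one])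
        rwa [e2] at hs
    have hdec : ∀ g : G, ∃ s ∈ S, ∃ x ∈ M, g = s * x := by
      intro g
      have hg : g ∈ ((S ⊔ M : Subgroup G) : Set G) := by rw [htop]; exact Subgroup.mem_top g
      rw [Subgroup.coe_mul_of_right_le_normalizer_left _ _ hSn] at hg
      obtain ⟨s, hs, x, hx, rfl⟩ := hg
      exact ⟨s, hs, x, hx, rfl⟩
    -- the projection to the abelianised second factor
    choose σ hσ μ hμ hdec' using hdec
    have huniq : ∀ g : G, ∀ s ∈ S, ∀ x ∈ M, g = s * x → x = μ g := fun g s hs x hx h => by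
      have h1 := (hdec' g).symm.trans h
      have h2 : (σ g)⁻¹ * s = μ g * x⁻¹ := by
        rw [eq_mul_inv_iff_mul_eq, mul_assoc, ← h1, inv_mul_cancel_left]
      have h3 : μ g * x⁻¹ ∈ S ⊓ M :=
        ⟨h2 ▸ S.mul_mem (S.inv_mem (hσ g)) hs, M.mul_mem (hμ g) (M.inv_mem hx)⟩
      rw [hinf, Subgroup.mem_bot, mul_inv_eq_one] at h3
      exact h3.symm
    let π : G →* Abelianization M := MonoidHom.mk' (fun g => Abelianization.of ⟨μ g, hμ g⟩) fun g h => by
      rw [← map_mul]
      refine congrArg _ (Subtype.ext (huniq (g * h) (σ g * σ h) (mul_mem (hσ g) (hσ h)) (μ g * μ h)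
        (mul_mem (hμ g) (hμ h)) ?_).symm)
      conv_lhs => rw [hdec' g, hdec' h]
      rw [mul_assoc, ← mul_assoc (μ g), ← hcomm _ (hσ h) _ (hμ g)]
      simp only [mul_assoc]
    have h1 : commutator G ≤ π.ker := Abelianization.commutator_subset_ker π
    rw [hperf] at h1
    have h2 : π (m : G) = 1 := h1 (Subgroup.mem_top _)
    have e' : μ (m : G) = (m : G) := (huniq (m : G) 1 (one_mem _) (m : G) m.2 (one_mul _).symm).symm
    have h3 : Abelianization.of m = 1 := by
      rw [← h2]
      exact congrArg _ (Subtype.ext e'.symm)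
    rw [← Abelianization.ker_of M]
    exact h3
  have hS : S = ⊤ := by rw [← hG₀, ← hsup, hM, sup_bot_eq]
  exact ⟨((MulEquiv.subgroupCongr hS).trans Subgroup.topEquiv).symm.trans eS⟩

end Cfsg.Agent.S0690
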