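import Cfsg.Statements.S0691
import Cfsg.Agent.Lib.Perm.MatrixClosure

set_option autoImplicit false
open Cfsg

namespace Cfsg.Agent.S0691

/-- An exceptional sharply doubly transitive group of degree 5^2: the listed matrices generate a subgroup of GL(2,5) of order 24 acting regularly on the non-zero vectors. -/
theorem result (A : Matrix.GeneralLinearGroup (Fin 2) (ZMod 5)) (B : Matrix.GeneralLinearGroup (Fin 2) (ZMod 5)) (C : Matrix.GeneralLinearGroup (Fin 2) (ZMod 5)) (hA : (A : Matrix (Fin 2) (Fin 2) (ZMod 5)) = !![2, 0; 0, -2]) (hB : (B : Matrix (Fin 2) (Fin 2) (ZMod 5)) = !![0, -1; 1, 0]) (hC : (C : Matrix (Fin 2) (Fin 2) (ZMod 5)) = !![1, 2; 1, -2]) : Nat.card (Subgroup.closure ({A, B, C} : Set (Matrix.GeneralLinearGroup (Fin 2) (ZMod 5)))) = 24 ∧ ∀ v w : Fin 2 → ZMod 5, v ≠ 0 → w ≠ 0 → ∃! h : Subgroup.closure ({A, B, C} : Set (Matrix.GeneralLinearGroup (Fin 2) (ZMod 5))), Matrix.mulVec ((h : Matrix.GeneralLinearGroup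 (Fin 2) (ZMod 5)) : Matrix (Fin 2) (Fin 2) (ZMod 5)) v = w := by
  have eA : (A : Matrix (Fin 2) (Fin 2) (ZMod 5)) = Cfsg.Agent.Perm.MatClosure.toMat 5 (2, 0, 0, 3) := by
    rw [hA]
    decide
  have eB : (B : Matrix (Fin 2) (Fin 2) (ZMod 5)) = Cfsg.Agent.Perm.MatClosure.toMat 5 (0, 4, 1, 0) := by
    rw [hB]
    decide
  have eC : (C : Matrix (Fin 2) (Fin 2) (ZMod 5)) = Cfsg.Agent.Perm.MatClosure.toMat 5 (1, 2, 1, 3) := by
    rw [hC]
    decide
  haveI : Fact (Nat.Prime 5) := ⟨by norm_num⟩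
  refine Cfsg.Agent.Perm.MatClosure.closure_regular (p := 5)
    [(2, 0, 0, 3), (0, 4, 1, 0), (1, 2, 1, 3)] 1 1
    [(0, 0), (0, 1), (0, 2), (1, 0), (1, 1), (1, 2), (2, 0), (2, 2), (3, 0), (3, 2), (4, 0), (4, 1), (4, 2), (5, 2), (6, 2), (8, 0), (8, 2), (9, 1), (9, 2), (13, 2), (14, 2), (16, 2), (18, 2)]
    ({A, B, C} : Set (Matrix.GeneralLinearGroup (Fin 2) (ZMod 5))) ?_ ?_ ?_ (by decide) (by decide) (by decide +kernel) (by decide +kernel)
    (by decide +kernel) ⟨by decide +kernel, by first | exact Or.inl rfl | exact Or.inr (by decide +kernel)⟩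
    (by decide +kernel) (by decide +kernel)
  · intro g hg
    simp only [Set.mem_insert_iff, Set.mem_singleton_iff] at hg
    rcases hg with rfl | rfl | rfl
    · exact Or.inl ⟨_, by simp, eA⟩
    · exact Or.inl ⟨_, by simp, eB⟩
    · exact Or.inl ⟨_, by simp, eC⟩
  · intro q hq
    simp only [List.mem_cons, List.not_mem_nil, or_false] at hq
    rcases hq with rfl | rfl | rfl
    · exact ⟨A, by simp, eA⟩
    · exact ⟨B, by simp, eB⟩
    · exact ⟨C, by simp, eC⟩
  · exact Or.inl rfl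

end Cfsg.Agent.S0691
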