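import Mathlib
import Cfsg.Statements.S0694

set_option autoImplicit false
open Cfsg

namespace Cfsg.Agent.S0694

/-- The geometric sum `1 + q + ⋯ + q^(i-1)`. -/
abbrev geom (q i : ℕ) : ℕ := ∑ l ∈ Finset.range i, q ^ l

theorem geom_mul (q i j : ℕ) : geom q (i * j) = geom q j * geom (q ^ j) i := by
  induction i with
  | zero => simp [geom]
  | succ i ih =>
    unfold geom at ih ⊢
    rw [Nat.succ_mul, Finset.sum_range_add, ih, Finset.sum_range_succ, mul_add, ← pow_mul,
      mul_comm j i, Finset.sum_mul (Finset.range j) (fun l => q ^ l) (q ^ (i * j))]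
    simp only [pow_add, mul_comm]

theorem modEq_iff_dvd_geom {q n : ℕ} (hq : 1 < q) (i : ℕ) :
    q ^ i ≡ 1 [MOD n * (q - 1)] ↔ n ∣ geom q i := by
  have h1 : 1 ≤ q ^ i := Nat.one_le_pow _ _ (by omega)
  rw [Nat.ModEq.comm, Nat.modEq_iff_dvd' h1, ← geom_sum_mul_of_one_le (show 1 ≤ q by omega) i,
    Nat.mul_dvd_mul_iff_right (by omega)]

theorem geom_cast_eq (R : Type*) [CommSemiring R] (q i : ℕ) (h : (q : R) = 1) :
    (geom q i : R) = i := by
  simp [geom, h]

theorem geom_mod_sq {r Q : ℕ} (hr : r.Prime) (hQ : r ∣ Q - 1) (hQ1 : 1 ≤ Q)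
    (h4 : r = 2 → 4 ∣ Q - 1) : geom Q r ≡ r [MOD r * r] := by
  rw [← ZMod.natCast_eq_natCast_iff]
  obtain ⟨u, hu⟩ := hQ
  have hQ' : (Q : ZMod (r * r)) = 1 + (r * u : ℕ) := by
    rw [← hu, Nat.cast_sub hQ1, Nat.cast_one]; ring
  have hsq : ((r * u : ℕ) : ZMod (r * r)) * ((r * u : ℕ) : ZMod (r * r)) = 0 := by
    rw [← Nat.cast_mul, ZMod.natCast_eq_zero_iff]
    exact ⟨u * u, by ring⟩
  have hpow : ∀ l : ℕ, (Q : ZMod (r * r)) ^ l = 1 + (l : ZMod (r * r)) * (r * u : ℕ) := by
    intro l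
    induction l with
    | zero => simp
    | succ l ih =>
      rw [pow_succ, ih, hQ', Nat.cast_succ]
      linear_combination (l : ZMod (r * r)) * hsq
  have hzero : (((∑ l ∈ Finset.range r, l) * (r * u) : ℕ) : ZMod (r * r)) = 0 := by
    rw [ZMod.natCast_eq_zero_iff, Finset.sum_range_id]
    rcases hr.eq_two_or_odd' with rfl | ⟨t, rfl⟩
    · obtain ⟨v, hv⟩ := h4 rfl
      exact ⟨v, by norm_num; omega⟩
    · refine ⟨t * u, ?_⟩
      rw [show (2 * t + 1) * (2 * t + 1 - 1) = 2 * ((2 * t + 1) * t) by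
        rw [show 2 * t + 1 - 1 = 2 * t by omega]; ring, Nat.mul_div_cancel_left _ (by norm_num)]
      ring
  rw [geom, Nat.cast_sum]
  simp only [Nat.cast_pow, hpow]
  rw [Finset.sum_add_distrib, ← Finset.sum_mul, ← Nat.cast_sum, ← Nat.cast_mul, hzero]
  simp

theorem prime_pow_dvd_geom_iff {q r : ℕ} (hq : 1 ≤ q) (hr : r.Prime) (hrq : r ∣ q - 1) :
    ∀ a : ℕ, (r = 2 → 2 ≤ a → 4 ∣ q - 1) → ∀ i, (r ^ a ∣ geom q i ↔ r ^ a ∣ i) := by
  have hbase : ∀ i, (r ∣ geom q i ↔ r ∣ i) := by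
    intro i
    rw [← ZMod.natCast_eq_zero_iff, ← ZMod.natCast_eq_zero_iff, geom_cast_eq]
    rw [← sub_eq_zero, ← Nat.cast_one, ← Nat.cast_sub hq, ZMod.natCast_eq_zero_iff]
    exact hrq
  intro a
  induction a with
  | zero => intro _ i; simp
  | succ a ih =>
    intro h4 i
    rcases Nat.eq_zero_or_pos a with rfl | ha
    · simpa using hbase i
    by_cases hi : r ∣ i
    · obtain ⟨j, rfl⟩ := hi
      obtain ⟨t, ht⟩ : ∃ t, geom (q ^ j) r = r * t ∧ ¬ r ∣ t := by
        have hq1 : 1 ≤ q ^ j := Nat.one_le_pow _ _ (by omega)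
        have hd : q - 1 ∣ q ^ j - 1 := by simpa using Nat.sub_dvd_pow_sub_pow q 1 j
        have hm := geom_mod_sq hr (hrq.trans hd) hq1 fun e => (h4 e (by omega)).trans hd
        have hdr : r ∣ geom (q ^ j) r := (hm.dvd_iff ⟨r, rfl⟩).mpr dvd_rfl
        obtain ⟨t, ht⟩ := hdr
        refine ⟨t, ht, fun hrt => ?_⟩
        have h2 : r * r ∣ r := (hm.dvd_iff dvd_rfl).mp (ht ▸ Nat.mul_dvd_mul_left r hrt)
        have := Nat.le_of_dvd hr.pos h2
        have := hr.two_le
        nlinarith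
      rw [geom_mul, ht.1, pow_succ', mul_left_comm, Nat.mul_dvd_mul_iff_left hr.pos,
        Nat.mul_dvd_mul_iff_left hr.pos, ← ih (fun e h => h4 e (by omega)) j]
      exact (Nat.Coprime.pow_left a (hr.coprime_iff_not_dvd.mpr ht.2)).dvd_mul_right
    · have hd : r ∣ r ^ (a + 1) := dvd_pow_self r (by omega)
      exact iff_of_false (fun h => hi ((hbase i).mp (hd.trans h))) (fun h => hi (hd.trans h))

theorem exists_dvd_geom {q m : ℕ} (hm : 0 < m) (hc : Nat.Coprime m q) :
    ∃ w, 0 < w ∧ w ≤ m ∧ m ∣ geom q w := by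
  haveI : NeZero m := ⟨hm.ne'⟩
  obtain ⟨i, hi, j, hj, hne, hij⟩ := Finset.exists_ne_map_eq_of_card_lt_of_maps_to
    (s := Finset.range (m + 1)) (t := (Finset.univ : Finset (ZMod m)))
    (by simp) (f := fun i => (geom q i : ZMod m)) (fun _ _ => Finset.mem_univ _)
  simp only [Finset.mem_range] at hi hj
  wlog hlt : i < j generalizing i j with H
  · exact H j i hne.symm hij.symm hj hi (by omega)
  obtain ⟨w, rfl⟩ := Nat.exists_eq_add_of_le hlt.le
  refine ⟨w, by omega, by omega, ?_⟩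
  have : geom q (i + w) = geom q i + q ^ i * geom q w := by
    simp [geom, Finset.sum_range_add, Finset.mul_sum, pow_add]
  rw [this, Nat.cast_add, left_eq_add, ZMod.natCast_eq_zero_iff] at hij
  exact (Nat.Coprime.pow_right i hc).dvd_of_dvd_mul_left hij

/-- The Dickson pair condition: for a prime power `q` and `n > 1`, (every prime factor of `n` divides `q - 1`, and `4 ∣ n → 4 ∣ q - 1`) holds exactly when `q ^ n ≡ 1` modulo `n * (q - 1)` but `q ^ i` is not, for `0 < i < n`. -/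
theorem result (q n : ℕ) (hq : IsPrimePow q) (hn : 1 < n) : ((∀ r : ℕ, r.Prime → r ∣ n → r ∣ q - 1) ∧ (4 ∣ n → 4 ∣ q - 1)) ↔ (q ^ n ≡ 1 [MOD n * (q - 1)] ∧ ∀ i : ℕ, 0 < i → i < n → ¬ q ^ i ≡ 1 [MOD n * (q - 1)]) := by
  have hq1 : 1 < q := hq.one_lt
  simp only [modEq_iff_dvd_geom hq1]
  constructor
  · rintro ⟨h1, h4⟩
    have key : ∀ i, n ∣ geom q i ↔ n ∣ i := by
      intro i
      rw [Nat.dvd_iff_prime_pow_dvd_dvd (geom q i) n, Nat.dvd_iff_prime_pow_dvd_dvd i n]
      have hk : ∀ r k : ℕ, r.Prime → r ^ k ∣ n → (r ^ k ∣ geom q i ↔ r ^ k ∣ i) := by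
        intro r k hr hk
        rcases Nat.eq_zero_or_pos k with rfl | hk0
        · simp
        refine prime_pow_dvd_geom_iff (by omega) hr (h1 r hr ((dvd_pow_self r hk0.ne').trans hk)) k
          (fun e h2 => h4 ?_) i
        subst e
        exact (pow_dvd_pow 2 h2).trans hk
      exact ⟨fun h r k hr hd => (hk r k hr hd).mp (h r k hr hd),
        fun h r k hr hd => (hk r k hr hd).mpr (h r k hr hd)⟩
    refine ⟨(key n).mpr dvd_rfl, fun i hi hin h => ?_⟩
    exact absurd (Nat.le_of_dvd hi ((key i).mp h)) (by omega)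
  · rintro ⟨hn', hmin⟩
    have hcop : ∀ s : ℕ, s.Prime → s ∣ n → ¬ s ∣ q := by
      intro s hs hsn hsq
      have h := hsn.trans hn'
      rw [← ZMod.natCast_eq_zero_iff] at h
      have hq0 : (q : ZMod s) = 0 := (ZMod.natCast_eq_zero_iff q s).mpr hsq
      haveI : Fact s.Prime := ⟨hs⟩
      rw [geom, Nat.cast_sum, Finset.sum_eq_single 0 (fun l _ hl => by simp [hq0, zero_pow hl])
        (fun h0 => absurd (Finset.mem_range.mpr (by omega)) h0)] at h
      simp at h
    have hcn : Nat.Coprime n q := Nat.coprime_of_dvd hcop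
    have main : ∀ r a u : ℕ, r.Prime → n.factorization r = a → 0 < u → u < r ^ a →
        r ^ a ∣ geom q u → False := by
      intro r a u hr ha hu hua hdu
      obtain ⟨m, hm⟩ := ha ▸ Nat.ordProj_dvd n r
      have hm0 : 0 < m := Nat.pos_of_ne_zero fun e => by rw [e, mul_zero] at hm; omega
      have hrm : ¬ r ∣ m := by
        intro hd
        have h2 : r ^ (a + 1) ∣ n := by rw [hm, pow_succ]; exact Nat.mul_dvd_mul_left _ hd
        rw [hr.pow_dvd_iff_le_factorization (by omega)] at h2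
        omega
      obtain ⟨w, hw, hwm, hdw⟩ := exists_dvd_geom hm0 (Nat.Coprime.coprime_dvd_left ⟨r ^ a, by
        rw [hm, mul_comm]⟩ hcn)
      refine hmin (u * w) (Nat.mul_pos hu hw)
        (lt_of_le_of_lt (Nat.mul_le_mul_left u hwm) (hm.symm ▸ Nat.mul_lt_mul_of_pos_right hua hm0)) ?_
      rw [hm]
      refine (Nat.Coprime.pow_left a (hr.coprime_iff_not_dvd.mpr hrm)).mul_dvd_of_dvd_of_dvd ?_ ?_
      · rw [mul_comm, geom_mul]
        exact hdu.trans (dvd_mul_right _ _)
      · rw [geom_mul]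
        exact hdw.trans (dvd_mul_right _ _)
    refine ⟨fun r hr hrn => ?_, fun h4 => ?_⟩
    · by_contra hbad
      have ha : 0 < n.factorization r := hr.factorization_pos_of_dvd (by omega) hrn
      set a := n.factorization r with haeq
      have hrq : Nat.Coprime q (r ^ a) :=
        (Nat.Coprime.pow_left a (hr.coprime_iff_not_dvd.mpr (hcop r hr hrn))).symm
      refine main r a (Nat.totient (r ^ a)) hr rfl
        (Nat.totient_pos.mpr (pow_pos hr.pos a))
        (Nat.totient_lt _ (Nat.one_lt_pow ha.ne' hr.one_lt)) ?_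
      have h1 := Nat.ModEq.pow_totient hrq
      rw [Nat.ModEq.comm, Nat.modEq_iff_dvd' (Nat.one_le_pow _ _ (by omega)),
        ← geom_sum_mul_of_one_le (show 1 ≤ q by omega)] at h1
      exact ((Nat.Coprime.pow_left a (hr.coprime_iff_not_dvd.mpr hbad)).dvd_of_dvd_mul_right h1)
    · by_contra hbad
      have h2 : ¬ 2 ∣ q := hcop 2 Nat.prime_two (dvd_trans (by norm_num) h4)
      have ha2 : 2 ≤ n.factorization 2 :=
        (Nat.prime_two.pow_dvd_iff_le_factorization (by omega)).mp h4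
      obtain ⟨b, hb⟩ : ∃ b, n.factorization 2 = b + 2 := ⟨_, (Nat.sub_add_cancel ha2).symm⟩
      refine main 2 (b + 2) (2 ^ (b + 1)) Nat.prime_two hb (by positivity)
        (Nat.pow_lt_pow_right (by norm_num) (by omega)) ?_
      clear hb
      induction b with
      | zero =>
        show 4 ∣ geom q 2
        simp only [geom, Finset.sum_range_succ, Finset.range_one, Finset.sum_singleton, pow_zero,
          pow_one]
        omega
      | succ b ih =>
        rw [show 2 ^ (b + 1 + 1) = 2 * 2 ^ (b + 1) by ring, geom_mul,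
          show 2 ^ (b + 1 + 2) = 2 ^ (b + 2) * 2 by ring]
        refine Nat.mul_dvd_mul ih ?_
        simp only [geom, Finset.sum_range_succ, Finset.range_one, Finset.sum_singleton, pow_zero,
          pow_one]
        have hodd : Odd (q ^ (2 ^ (b + 1))) :=
          (Nat.not_even_iff_odd.mp (fun he => h2 (even_iff_two_dvd.mp he))).pow
        obtain ⟨t, ht⟩ := hodd
        omega

end Cfsg.Agent.S0694
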