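import Cfsg.Statements.S0695
import Cfsg.Agent.Lib.Perm.RegularNormal

set_option autoImplicit false
open Cfsg

namespace Cfsg.Agent.S0695

/-- A regular normal subgroup of a doubly primitive group of finite degree at least 2 is an elementary abelian 2-group (and the degree is a power of 2), unless the degree is 3. -/
theorem result {G : Type*} [Group G] {X : Type*} [Fintype X] [MulAction G X] (hX : 2 ≤ Fintype.card X) (h2 : MulAction.IsMultiplyPreprimitive G X 2) (N : Subgroup G) [N.Normal] (htrans : MulAction.IsPretransitive N X) (hreg : ∀ x : X, MulAction.stabilizer N x = ⊥) : Fintype.card X = 3 ∨ (IsMulCommutative N ∧ (∀ n ∈ N, n ^ 2 = 1) ∧ ∃ m : ℕ, Fintype.card X = 2 ^ m) := by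
  haveI := htrans
  haveI := h2
  haveI : Nonempty X := Fintype.card_pos_iff.mp (by omega)
  obtain ⟨x⟩ := (inferInstance : Nonempty X)
  rcases Cfsg.Agent.Perm.card_eq_three_or_sq_eq_one N hreg with h3 | hsq
  · exact Or.inl (Nat.card_eq_fintype_card (α := X) ▸ h3)
  · refine Or.inr ⟨Cfsg.Agent.Perm.isMulCommutative_of_sq_eq_one hsq, hsq, ?_⟩
    haveI : Fact (Nat.Prime 2) := ⟨Nat.prime_two⟩
    haveI : Finite N := Nat.finite_of_card_ne_zero
      (by rw [Cfsg.Agent.Perm.card_eq_of_regular (hreg x), Nat.card_eq_fintype_card]; omega)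
    have hp : IsPGroup 2 N := fun n => ⟨1, Subtype.ext (by simpa using hsq n n.2)⟩
    obtain ⟨m, hm⟩ := IsPGroup.iff_card.mp hp
    exact ⟨m, by rw [← hm, Cfsg.Agent.Perm.card_eq_of_regular (hreg x), Nat.card_eq_fintype_card]⟩

end Cfsg.Agent.S0695
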