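import Cfsg.Statements.S0701
import Cfsg.Agent.Lib.Perm.Centralizer

set_option autoImplicit false
open Cfsg

namespace Cfsg.Agent.S0701

/-- The centraliser in the full symmetric group of a transitive permutation group `G` is semiregular, and it is transitive if and only if `G` is regular. -/
theorem result {α : Type*} (G : Subgroup (Equiv.Perm α)) [MulAction.IsPretransitive G α] : (∀ c ∈ Subgroup.centralizer (G : Set (Equiv.Perm α)), ∀ a : α, c a = a → c = 1) ∧ (MulAction.IsPretransitive (Subgroup.centralizer (G : Set (Equiv.Perm α))) α ↔ ∀ a : α, MulAction.stabilizer G a = ⊥) := by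
  refine ⟨fun c hc a ha => ?_, ?_, ?_⟩
  · refine Cfsg.Agent.Perm.eq_one_of_commute (G := Equiv.Perm α) (M := G) (fun m hm => ?_) (x := a) ha
    exact (Subgroup.mem_centralizer_iff.mp hc m hm).symm
  · intro hC a
    haveI := hC
    exact Cfsg.Agent.Perm.stabilizer_eq_bot_of_commute (G := Equiv.Perm α)
      (M := Subgroup.centralizer (G : Set (Equiv.Perm α))) (N := G)
      (fun m hm n hn => Subgroup.mem_centralizer_iff.mp hm n hn) a
  · intro hreg
    refine ⟨fun a b => ?_⟩
    obtain ⟨c, hc, e⟩ := Cfsg.Agent.Perm.exists_commuting_perm (hreg a) b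
    exact ⟨⟨c, Subgroup.mem_centralizer_iff.mpr (fun h hh => (hc ⟨h, hh⟩))⟩, e⟩

end Cfsg.Agent.S0701
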