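import Cfsg.Statements.S0702
import Cfsg.Agent.Lib.Perm.Centralizer

set_option autoImplicit false
open Cfsg

namespace Cfsg.Agent.S0702

/-- For a transitive permutation group `G` on a finite set, the centraliser of `G` in the symmetric group is isomorphic to `N_G(G_ω)/G_ω`, and its orbit of `ω` is the set of fixed points of `G_ω`. -/
theorem result {α : Type*} [Finite α] (G : Subgroup (Equiv.Perm α)) [MulAction.IsPretransitive G α] (a : α) : Nonempty (Subgroup.centralizer (G : Set (Equiv.Perm α)) ≃* Subgroup.normalizer ((MulAction.stabilizer G a : Subgroup G) : Set G) ⧸ (MulAction.stabilizer G a).subgroupOf (Subgroup.normalizer ((MulAction.stabilizer G a : Subgroup G) : Set G))) ∧ MulAction.orbit (Subgroup.centralizer (G : Set (Equiv.Perm α))) a = MulAction.fixedPoints (MulAction.stabilizer G a) α := by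
  classical
  have hex : ∀ g : ↥(Subgroup.normalizer ((MulAction.stabilizer G a : Subgroup G) : Set G)),
      ∃ c : Subgroup.centralizer (G : Set (Equiv.Perm α)),
        (c : Equiv.Perm α) a = (g : G)⁻¹ • a := fun g => by
    obtain ⟨c, hc, e⟩ := Cfsg.Agent.Perm.exists_commuting_perm_of_stabilizer_eq
      ((Cfsg.Agent.Perm.mem_normalizer_stabilizer_iff a g.1).mp g.2).symm
    exact ⟨⟨c, Cfsg.Agent.Perm.mem_centralizer_of_smul_comm hc⟩, e⟩
  choose φ hφ using hex
  have huniq : ∀ c d : Subgroup.centralizer (G : Set (Equiv.Perm α)),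
      (c : Equiv.Perm α) a = (d : Equiv.Perm α) a → c = d := fun c d e => by
    apply Subtype.ext
    ext z
    obtain ⟨g, rfl⟩ := MulAction.exists_smul_eq G a z
    rw [← Cfsg.Agent.Perm.smul_comm_of_mem_centralizer c.2,
      ← Cfsg.Agent.Perm.smul_comm_of_mem_centralizer d.2, e]
  have hmul : ∀ g h, φ (g * h) = φ g * φ h := fun g h => by
    apply huniq
    show _ = (φ g : Equiv.Perm α) ((φ h : Equiv.Perm α) a)
    rw [hφ, hφ, ← Cfsg.Agent.Perm.smul_comm_of_mem_centralizer (φ g).2, hφ, Subgroup.coe_mul,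
      mul_inv_rev, mul_smul]
  let f : ↥(Subgroup.normalizer ((MulAction.stabilizer G a : Subgroup G) : Set G)) →*
      Subgroup.centralizer (G : Set (Equiv.Perm α)) := MonoidHom.mk' φ hmul
  have hker : f.ker = (MulAction.stabilizer G a).subgroupOf
      (Subgroup.normalizer ((MulAction.stabilizer G a : Subgroup G) : Set G)) := by
    ext g
    rw [MonoidHom.mem_ker, Subgroup.mem_subgroupOf, ← inv_mem_iff, MulAction.mem_stabilizer_iff,
      ← hφ g]
    exact ⟨fun e => congrArg (fun c : Subgroup.centralizer (G : Set (Equiv.Perm α)) =>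
      (c : Equiv.Perm α) a) e, fun e => huniq _ 1 e⟩
  have hsurj : Function.Surjective f := fun c => by
    obtain ⟨k, hk⟩ := MulAction.exists_smul_eq G a ((c : Equiv.Perm α) a)
    have hk' : k⁻¹ ∈ Subgroup.normalizer ((MulAction.stabilizer G a : Subgroup G) : Set G) := by
      rw [Cfsg.Agent.Perm.mem_normalizer_stabilizer_iff, inv_inv, hk]
      exact Cfsg.Agent.Perm.stabilizer_apply_eq c.2 a
    refine ⟨⟨k⁻¹, hk'⟩, huniq _ _ ?_⟩
    show (φ _ : Equiv.Perm α) a = _
    rw [hφ, inv_inv, hk]
  refine ⟨⟨((QuotientGroup.quotientMulEquivOfEq hker.symm).trans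
    (QuotientGroup.quotientKerEquivOfSurjective f hsurj)).symm⟩, ?_⟩
  ext b
  constructor
  · rintro ⟨c, rfl⟩ ⟨g, hg⟩
    show g • (c : Equiv.Perm α) a = (c : Equiv.Perm α) a
    rw [Cfsg.Agent.Perm.smul_comm_of_mem_centralizer c.2, hg]
  · intro hb
    have hle : MulAction.stabilizer G a ≤ MulAction.stabilizer G b := fun g hg => hb ⟨g, hg⟩
    haveI : Finite G := inferInstance
    have heq : MulAction.stabilizer G a = MulAction.stabilizer G b := by
      refine Subgroup.eq_of_le_of_card_ge hle (le_of_eq ?_)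
      have h1 := Cfsg.Agent.Perm.card_eq_mul_card_stabilizer (G := G) a
      have h2 := Cfsg.Agent.Perm.card_eq_mul_card_stabilizer (G := G) b
      haveI : Nonempty α := ⟨a⟩
      exact Nat.eq_of_mul_eq_mul_left (Nat.card_pos (α := α)) (h2.symm.trans h1)
    obtain ⟨c, hc, e⟩ := Cfsg.Agent.Perm.exists_commuting_perm_of_stabilizer_eq heq
    exact ⟨⟨c, Cfsg.Agent.Perm.mem_centralizer_of_smul_comm hc⟩, e⟩

end Cfsg.Agent.S0702
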