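import Cfsg.Statements.S0703
import Cfsg.Agent.Lib.Perm.MinimalNormal

set_option autoImplicit false
open Cfsg

namespace Cfsg.Agent.S0703

/-- An abelian transitive minimal normal subgroup `M` of a permutation group on a finite set is self-centralising in the symmetric group, regular, elementary abelian, and is the unique minimal normal subgroup. -/
theorem result {α : Type*} [Finite α] (G : Subgroup (Equiv.Perm α)) (M : Subgroup G) [M.Normal] (hM : M ≠ ⊥) (hmin : ∀ L : Subgroup G, L.Normal → L ≤ M → L = ⊥ ∨ L = M) (hab : IsMulCommutative M) (htrans : MulAction.IsPretransitive M α) : Subgroup.centralizer ((M.map G.subtype : Subgroup (Equiv.Perm α)) : Set (Equiv.Perm α)) = M.map G.subtype ∧ (∀ a : α, MulAction.stabilizer M a = ⊥) ∧ (∃ p : ℕ, p.Prime ∧ ∀ m ∈ M, m ^ p = 1) ∧ ∀ L : Subgroup G, L.Normal → L ≠ ⊥ → (∀ L' : Subgroup G, L'.Normal → L' ≤ L → L' = ⊥ ∨ L' = L) → L = M := by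
  haveI := htrans
  refine ⟨Cfsg.Agent.Perm.centralizer_eq_self_of_abelian hab,
    fun a => Cfsg.Agent.Perm.stabilizer_eq_bot_of_isMulCommutative hab a,
    Cfsg.Agent.Perm.exists_prime_exponent M hM hmin hab, fun L hL hL0 hLmin => ?_⟩
  haveI := hL
  by_contra hne
  have hdisj : M ⊓ L = ⊥ := by
    rcases hmin (M ⊓ L) inferInstance inf_le_left with e | e
    · exact e
    · exfalso
      rcases hLmin M inferInstance (inf_eq_left.mp e) with e' | e'
      · exact hM e'
      · exact hne e'.symm
  have h1 := Cfsg.Agent.Perm.le_centralizer_map_of_commute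
    (Cfsg.Agent.Perm.commute_of_normal_disjoint hdisj)
  rw [Cfsg.Agent.Perm.centralizer_eq_self_of_abelian hab] at h1
  have h2 : L ≤ M := (Subgroup.map_le_map_iff_of_injective G.subtype_injective).mp h1
  exact hL0 (by rw [← inf_eq_right.mpr h2, hdisj])

end Cfsg.Agent.S0703
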