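import Cfsg.Statements.S0704
import Cfsg.Agent.Lib.Perm.MinimalNormal

set_option autoImplicit false
open Cfsg

namespace Cfsg.Agent.S0704

/-- Two distinct transitive minimal normal subgroups `M`, `N` of a permutation group are regular, non-abelian, isomorphic, each other's centraliser in the symmetric group, and the only minimal normal subgroups. -/
theorem result {α : Type*} (G : Subgroup (Equiv.Perm α)) (M N : Subgroup G) [M.Normal] [N.Normal] (hM : M ≠ ⊥) (hN : N ≠ ⊥) (hMmin : ∀ L : Subgroup G, L.Normal → L ≤ M → L = ⊥ ∨ L = M) (hNmin : ∀ L : Subgroup G, L.Normal → L ≤ N → L = ⊥ ∨ L = N) (hMN : M ≠ N) (hMt : MulAction.IsPretransitive M α) (hNt : MulAction.IsPretransitive N α) : (∀ a : α, MulAction.stabilizer M a = ⊥) ∧ (∀ a : α, MulAction.stabilizer N a = ⊥) ∧ ¬ IsMulCommutative M ∧ Nonempty (M ≃* N) ∧ Subgroup.centralizer ((M.map G.subtype : Subgroup (Equiv.Perm α)) : Set (Equiv.Perm α)) = N.map G.subtype ∧ Subgroup.centralizer ((N.map G.subtype : Subgroup (Equiv.Perm α)) :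 Set (Equiv.Perm α)) = M.map G.subtype ∧ ∀ L : Subgroup G, L.Normal → L ≠ ⊥ → (∀ L' : Subgroup G, L'.Normal → L' ≤ L → L' = ⊥ ∨ L' = L) → L = M ∨ L = N := by
  haveI := hMt
  haveI := hNt
  have hdisj : M ⊓ N = ⊥ := by
    rcases hMmin (M ⊓ N) inferInstance inf_le_left with e | e
    · exact e
    · exfalso
      rcases hNmin M inferInstance (inf_eq_left.mp e) with e' | e'
      · exact hM e'
      · exact hMN e'
  have hc := Cfsg.Agent.Perm.commute_of_normal_disjoint hdisj
  have hc' : ∀ n ∈ N, ∀ m ∈ M, n * m = m * n := fun n hn m hm => (hc m hm n hn).symm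
  have hCM := Cfsg.Agent.Perm.centralizer_eq_of_commute hc
  have hCN := Cfsg.Agent.Perm.centralizer_eq_of_commute hc'
  have hregN : ∀ a : α, MulAction.stabilizer N a = ⊥ := fun a =>
    Cfsg.Agent.Perm.stabilizer_eq_bot_of_commute (M := M) (fun m hm n hn => hc' n hn m hm) a
  have hregM : ∀ a : α, MulAction.stabilizer M a = ⊥ := fun a =>
    Cfsg.Agent.Perm.stabilizer_eq_bot_of_commute (M := N) (fun n hn m hm => hc m hm n hn) a
  refine ⟨hregM, hregN, ?_, ?_, hCM, hCN, ?_⟩
  · intro hab
    exact hMN (Cfsg.Agent.Perm.map_subtype_inj.mp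
      ((Cfsg.Agent.Perm.centralizer_eq_self_of_abelian hab).symm.trans hCM))
  · rcases isEmpty_or_nonempty α with hα | ⟨⟨a⟩⟩
    · haveI : Subsingleton G := inferInstance
      exact absurd (Subsingleton.elim M ⊥) hM
    let eN : N ≃ α := Equiv.ofBijective _ (Cfsg.Agent.Perm.bijective_smul_of_regular (hregN a))
    let eM : M ≃ α := Equiv.ofBijective _ (Cfsg.Agent.Perm.bijective_smul_of_regular (hregM a))
    let e : M ≃ N := ((Equiv.inv M).trans eM).trans eN.symm
    have he : ∀ m : M, e m • a = m⁻¹ • a := fun m => eN.apply_symm_apply (m⁻¹ • a)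
    refine ⟨MulEquiv.mk e fun m₁ m₂ => eN.injective ?_⟩
    show e (m₁ * m₂) • a = (e m₁ * e m₂) • a
    rw [he, mul_smul, he, mul_inv_rev, mul_smul, ← he m₁]
    show ((m₂⁻¹ : M) : G) • ((e m₁ : N) : G) • a = ((e m₁ : N) : G) • ((m₂⁻¹ : M) : G) • a
    rw [← mul_smul, ← mul_smul, hc _ (m₂⁻¹).2 _ (e m₁).2]
  · intro L hL hL0 hLmin
    haveI := hL
    by_contra hne
    push Not at hne
    have hdM : M ⊓ L = ⊥ := by
      rcases hMmin (M ⊓ L) inferInstance inf_le_left with e | e
      · exact e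
      · exfalso
        rcases hLmin M inferInstance (inf_eq_left.mp e) with e' | e'
        · exact hM e'
        · exact hne.1 e'.symm
    have h1 := Cfsg.Agent.Perm.le_centralizer_map_of_commute
      (Cfsg.Agent.Perm.commute_of_normal_disjoint hdM)
    rw [hCM] at h1
    have h2 : L ≤ N := (Subgroup.map_le_map_iff_of_injective G.subtype_injective).mp h1
    rcases hNmin L hL h2 with e | e
    · exact hL0 e
    · exact hne.2 e

end Cfsg.Agent.S0704
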