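import Cfsg.Statements.S0707
import Cfsg.Agent.Lib.Perm.Basic

set_option autoImplicit false
open Cfsg

namespace Cfsg.Agent.S0707

/-- In a primitive permutation group, distinct points have distinct stabilisers unless the group is regular of prime degree. -/
theorem result {α : Type*} (G : Subgroup (Equiv.Perm α)) [MulAction.IsPreprimitive G α] (h : ¬ (Nat.card α).Prime ∨ ∃ a : α, MulAction.stabilizer G a ≠ ⊥) {a b : α} (hab : a ≠ b) : MulAction.stabilizer G a ≠ MulAction.stabilizer G b := by
  intro heq
  haveI : Nontrivial α := ⟨a, b, hab⟩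
  have hca := MulAction.IsPreprimitive.isCoatom_stabilizer_of_isPreprimitive G a
  obtain ⟨g, hg⟩ := MulAction.exists_smul_eq G a b
  have hgn : g ∉ MulAction.stabilizer G a := fun h => hab (h.symm.trans hg)
  have hconj : (MulAction.stabilizer G a).map (MulAut.conj g).toMonoidHom
      = MulAction.stabilizer G a := by
    rw [← MulAction.stabilizer_smul_eq_stabilizer_map_conj, hg, heq]
  have hgN : g ∈ Subgroup.normalizer ((MulAction.stabilizer G a : Subgroup G) : Set G) := by
    rw [Subgroup.mem_normalizer_iff]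
    intro n
    conv_rhs => rw [← hconj, Subgroup.mem_map]
    constructor
    · exact fun hn => ⟨n, hn, by simp⟩
    · rintro ⟨m, hm, e⟩
      have : m = n := by simpa using e
      exact this ▸ hm
  have htop : Subgroup.normalizer ((MulAction.stabilizer G a : Subgroup G) : Set G) = ⊤ := by
    apply hca.2
    exact lt_of_le_of_ne Subgroup.le_normalizer (fun e => hgn (e.symm ▸ hgN))
  haveI hN : (MulAction.stabilizer G a).Normal := Subgroup.normalizer_eq_top_iff.mp htop
  have hbot : MulAction.stabilizer G a = ⊥ := by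
    by_contra hne
    haveI := Cfsg.Agent.Perm.isPretransitive_of_normal_ne_bot (X := α) _ hne
    obtain ⟨h, hh, e⟩ := Cfsg.Agent.Perm.subgroup_exists_smul_eq (N := MulAction.stabilizer G a) a b
    exact hab (hh.symm.trans e)
  rcases h with h | ⟨c, hc⟩
  · apply h
    rw [← Cfsg.Agent.Perm.card_eq_of_regular hbot]
    rw [hbot] at hca
    have hgne : g ≠ 1 := fun e => hgn (e ▸ one_mem _)
    haveI : Nontrivial G := ⟨g, 1, hgne⟩
    haveI : IsSimpleGroup G := ⟨fun H _ => by
      rcases eq_or_ne H ⊥ with e | e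
      · exact Or.inl e
      · exact Or.inr (hca.2 H (bot_lt_iff_ne_bot.mpr e))⟩
    have hz : Subgroup.zpowers g = ⊤ :=
      hca.2 _ (bot_lt_iff_ne_bot.mpr (fun e => hgne (Subgroup.zpowers_eq_bot.mp e)))
    haveI : IsCyclic G := ⟨g, fun k => Subgroup.mem_zpowers_iff.mp (hz ▸ Subgroup.mem_top k) |>.elim
      fun i hi => ⟨i, hi⟩⟩
    letI : CommGroup G := IsCyclic.commGroup
    exact IsSimpleGroup.prime_card
  · apply hc
    obtain ⟨k, hk⟩ := MulAction.exists_smul_eq G a c
    rw [← hk, MulAction.stabilizer_smul_eq_stabilizer_map_conj, hbot, Subgroup.map_bot]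

end Cfsg.Agent.S0707
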