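import Cfsg.Statements.S0709
import Cfsg.Agent.PermB.WittExtension

set_option autoImplicit false
open Cfsg

namespace Cfsg.Agent.S0709

/-- Witt's Lemma for constructing transitive extensions. Points `q 1, …, q t` (`t ≥ 2`) of a finite set are given; `G` fixes `q i` for `i ≥ 3` and is doubly transitive on the remaining points; `s 1 ∈ G` swaps `q 1, q 2`; for `2 ≤ i ≤ t-1`, `s i` swaps `q i, q (i+1)` and fixes the other `q j`; with `H` the stabiliser of `q 1, q 2` in `G`: `s i ^ 2 ∈ H`, `(s i * s (i+1)) ^ 3 ∈ H`, `(s i * s j) ^ 2 ∈ H` for `j ≥ i + 2`, and `s i` (`i ≥ 2`) normalises the stabiliser of `q 2` in `G`. Then `G` and the `s i` generate a `t`-transitive group whose pointwise stabiliser of the `q`'s is `H`. -/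
theorem result {α : Type*} [Fintype α] [DecidableEq α] (t : ℕ) (ht : 2 ≤ t) (q : ℕ → α) (hq : ∀ i j : ℕ, 1 ≤ i → i ≤ t → 1 ≤ j → j ≤ t → q i = q j → i = j) (G : Subgroup (Equiv.Perm α)) (hfix : ∀ g ∈ G, ∀ i : ℕ, 3 ≤ i → i ≤ t → g (q i) = q i) (h2 : ∀ a b c d : α, (∀ i, 3 ≤ i → i ≤ t → a ≠ q i ∧ b ≠ q i ∧ c ≠ q i ∧ d ≠ q i) → a ≠ b → c ≠ d → ∃ g ∈ G, g a = c ∧ g b = d) (s : ℕ → Equiv.Perm α) (hs1 : s 1 ∈ G) (hs1q : s 1 (q 1) = q 2 ∧ s 1 (q 2) = q 1) (hsq : ∀ i : ℕ, 2 ≤ i → i + 1 ≤ t → s i (q i) = q (i + 1) ∧ s i (q (i + 1)) = q i ∧ ∀ j : ℕ, 1 ≤ j → j ≤ t → j ≠ i → j ≠ i + 1 → s i (q j) = q j) (H : Subgroup (Equiv.Perm α)) (hH : H = G ⊓ MulAction.stabilizer (Equiv.Perm α) (q 1) ⊓ MulAction.stabilizer (Equiv.Perm α) (q 2)) (hsq2 : ∀ i : ℕ, 1 ≤ i → i + 1 ≤ t → s i ^ 2 ∈ H) (hbraid : ∀ i : ℕ, 1 ≤ i → i + 2 ≤ t → (s i * s (i + 1)) ^ 3 ∈ H) (hcomm : ∀ i j : ℕ, 1 ≤ i → i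 + 2 ≤ j → j + 1 ≤ t → (s i * s j) ^ 2 ∈ H ∧ (s j * s i) ^ 2 ∈ H) (hnorm : ∀ i : ℕ, 2 ≤ i → i + 1 ≤ t → ∀ g ∈ G ⊓ MulAction.stabilizer (Equiv.Perm α) (q 2), s i * g * (s i)⁻¹ ∈ G ⊓ MulAction.stabilizer (Equiv.Perm α) (q 2)) : MulAction.IsMultiplyPretransitive ↥(Subgroup.closure ((G : Set (Equiv.Perm α)) ∪ {x | ∃ i : ℕ, 2 ≤ i ∧ i + 1 ≤ t ∧ x = s i})) α t ∧ Subgroup.closure ((G : Set (Equiv.Perm α)) ∪ {x | ∃ i : ℕ, 2 ≤ i ∧ i + 1 ≤ t ∧ x = s i}) ⊓ fixingSubgroup (Equiv.Perm α) {x | ∃ i : ℕ, 1 ≤ i ∧ i ≤ t ∧ x = q i} = H := by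
  set A := G ⊓ MulAction.stabilizer (Equiv.Perm α) (q 2) with hAdef
  have hA : ∀ g : Equiv.Perm α, g ∈ A ↔ g ∈ G ∧ g (q 2) = q 2 := fun g => Iff.rfl
  have D : PermB.WittData t q G H s :=
    ⟨ht, hq, hfix, h2, hs1, hs1q, hsq,
      fun g => by rw [hH, Subgroup.mem_inf, Subgroup.mem_inf, and_assoc]; rfl,
      hsq2, hbraid, hcomm, fun i h1 h3 g hg hg2 => hnorm i h1 h3 g ⟨hg, hg2⟩⟩
  have hK : Subgroup.closure ((G : Set (Equiv.Perm α)) ∪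
      {x | ∃ i : ℕ, 2 ≤ i ∧ i + 1 ≤ t ∧ x = s i}) = PermB.wittGroup A s (t - 1) := by
    refine le_antisymm ((Subgroup.closure_le _).2 ?_) ((Subgroup.closure_le _).2 ?_)
    · rintro x (hx | ⟨i, hi1, hi2, rfl⟩)
      · have : x ∈ PermB.wittGroup A s 1 := by rw [D.wittGroup_one A hA]; exact hx
        exact PermB.wittGroup_mono A s (by omega) this
      · exact PermB.WittData.s_mem_wittGroup A (by omega) (by omega)
    · rintro x (hx | ⟨j, hj1, hj2, rfl⟩)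
      · exact Subgroup.subset_closure (Or.inl hx.1)
      · rcases Nat.eq_or_lt_of_le hj1 with h | h
        · exact Subgroup.subset_closure (Or.inl (h ▸ hs1))
        · exact Subgroup.subset_closure (Or.inr ⟨j, h, by omega, rfl⟩)
  have key : ∀ x : Fin t ↪ α, ∃ g ∈ PermB.wittGroup A s (t - 1),
      ∀ i : Fin t, g (x i) = q (i + 1) := by
    intro x
    obtain ⟨g, hg, hgx⟩ := D.tuples A hA (t - 1) (by omega)
      (fun i => if h : i - 1 < t then x ⟨i - 1, h⟩ else q 1)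
      (fun i _ _ j h3 h4 => absurd h4 (by omega))
      (fun i j h1 h2' h3 e => by
        rw [dif_pos (by omega), dif_pos (by omega)] at e
        have := congrArg Fin.val (x.injective e)
        simp only at this
        omega)
    refine ⟨g, hg, fun i => ?_⟩
    have h := hgx (i + 1) (by omega) (by omega)
    simpa using h
  rw [hK]
  refine ⟨⟨fun x y => ?_⟩, ?_⟩
  · obtain ⟨g, hg, hgx⟩ := key x
    obtain ⟨g', hg', hgy⟩ := key y
    refine ⟨⟨g'⁻¹ * g, Subgroup.mul_mem _ (Subgroup.inv_mem _ hg') hg⟩, ?_⟩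
    ext i
    show (g'⁻¹ * g) (x i) = y i
    rw [Equiv.Perm.mul_apply, hgx i, ← hgy i]
    exact g'.symm_apply_apply _
  · ext g
    simp only [Subgroup.mem_inf, mem_fixingSubgroup_iff, Set.mem_ofPred_eq, Equiv.Perm.smul_def]
    constructor
    · rintro ⟨h1, h3⟩
      exact D.mem_H_of_fixes A hA (t - 1) (by omega) g h1 fun i hi1 hi2 =>
        h3 _ ⟨i, hi1, by omega, rfl⟩
    · intro hg
      refine ⟨D.H_le_wittGroup A hA _ hg, ?_⟩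
      rintro _ ⟨i, hi1, hi2, rfl⟩
      obtain ⟨hg0, hg1, hg2⟩ := (D.hH g).1 hg
      rcases (by omega : i = 1 ∨ i = 2 ∨ 3 ≤ i) with rfl | rfl | h
      · exact hg1
      · exact hg2
      · exact hfix g hg0 i h hi2

end Cfsg.Agent.S0709
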