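import Cfsg.Statements.S0710
import Mathlib.GroupTheory.Sylow
import Mathlib.GroupTheory.Perm.Cycle.Basic
import Mathlib.GroupTheory.Perm.Cycle.Type
import Mathlib.GroupTheory.SpecificGroups.Cyclic
import Mathlib.Tactic.NormNum.Prime

set_option autoImplicit false
open Cfsg

namespace Cfsg.Agent.S0710

/-- No transitive permutation group on 13 points has order `13 * 12 * 11 * 10 * 9 * 8`. -/
theorem result {α : Type*} [Fintype α] [DecidableEq α] (hα : Fintype.card α = 13) (G : Subgroup (Equiv.Perm α)) [MulAction.IsPretransitive G α] : Nat.card G ≠ 13 * 12 * 11 * 10 * 9 * 8 := by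
  intro hcard
  classical
  have hp : Fact (Nat.Prime 13) := ⟨by norm_num⟩
  obtain ⟨P⟩ : Nonempty (Sylow 13 G) := inferInstance
  have hP : Nat.card P = 13 := by
    rw [P.card_eq_multiplicity, hcard]
    have h1 : (13 * 12 * 11 * 10 * 9 * 8 : ℕ).factorization 13 = 1 := by
      rw [show (13 * 12 * 11 * 10 * 9 * 8 : ℕ) = 13 * 95040 by norm_num,
        Nat.factorization_mul (by norm_num) (by norm_num), Finsupp.add_apply,
        Nat.Prime.factorization_self hp.out,
        Nat.factorization_eq_zero_of_not_dvd (by norm_num)]
    rw [h1, pow_one]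
  have hcyc : IsCyclic P := isCyclic_of_prime_card hP
  obtain ⟨z, hz⟩ := IsCyclic.exists_generator (α := P)
  have hord : orderOf z = 13 := by
    rw [orderOf_eq_card_of_forall_mem_zpowers hz, hP]
  set w : Equiv.Perm α := ((z : G) : Equiv.Perm α) with hw
  have hworder : orderOf w = 13 := by
    rw [hw, Subgroup.orderOf_coe, Subgroup.orderOf_coe, hord]
  have hwcyc : w.IsCycle := by
    apply Equiv.Perm.isCycle_of_prime_order
    · rw [hworder]; exact hp.out
    · have := Finset.card_le_univ w.support
      rw [hα] at this
      omega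
  have hwsupp : w.support = Finset.univ := by
    apply Finset.eq_univ_of_card
    rw [hα, ← hwcyc.orderOf, hworder]
  set C : Subgroup G := Subgroup.centralizer (P : Set G) with hC
  obtain ⟨x0⟩ : Nonempty α := Fintype.card_pos_iff.mp (by omega)
  have hinj : Function.Injective (fun c : C => ((c : G) : Equiv.Perm α) x0) := by
    intro c d hcd
    apply Subtype.ext
    apply Subtype.ext
    ext y
    have hy : w y ≠ y := Equiv.Perm.mem_support.mp (by rw [hwsupp]; exact Finset.mem_univ y)
    have hx : w x0 ≠ x0 := Equiv.Perm.mem_support.mp (by rw [hwsupp]; exact Finset.mem_univ x0)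
    obtain ⟨k, rfl⟩ := hwcyc.exists_zpow_eq hx hy
    have key : ∀ e : C, ((e : G) : Equiv.Perm α) ((w ^ k) x0)
        = (w ^ k) (((e : G) : Equiv.Perm α) x0) := by
      intro e
      have h1 : ((z : G)) * (e : G) = (e : G) * (z : G) :=
        Subgroup.mem_centralizer_iff.mp e.2 (z : G) z.2
      have h2 : Commute ((e : G) : Equiv.Perm α) w := by
        have := congrArg (Subgroup.subtype G) h1
        simp only [map_mul, Subgroup.coe_subtype] at this
        exact this.symm
      have h3 := (h2.zpow_right k).eq
      exact congrArg (fun f : Equiv.Perm α => f x0) h3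
    rw [key c, key d]
    exact congrArg _ hcd
  have hCle : Nat.card C ≤ 13 := by
    have := Nat.card_le_card_of_injective _ hinj
    rwa [Nat.card_eq_fintype_card (α := α), hα] at this
  have hPC : (P : Subgroup G) ≤ C := by
    intro x hx
    rw [hC, Subgroup.mem_centralizer_iff]
    intro y hy
    obtain ⟨a, ha⟩ := hz ⟨y, hy⟩
    obtain ⟨b, hb⟩ := hz ⟨x, hx⟩
    have ha' := congrArg Subtype.val ha
    have hb' := congrArg Subtype.val hb
    simp only [Subgroup.coe_zpow] at ha' hb'
    rw [← ha', ← hb']
    exact ((Commute.refl (z : G)).zpow_zpow a b).eq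
  have hC13 : Nat.card C = 13 :=
    le_antisymm hCle (hP ▸ Nat.le_of_dvd Nat.card_pos (Subgroup.card_dvd_of_le hPC))
  set N : Subgroup G := Subgroup.normalizer ((P : Subgroup G) : Set G) with hN
  have hCN : C ≤ N := Subgroup.centralizer_le_normalizer _
  have hdvd : Nat.card N ∣ 13 * 12 := by
    have hker := Subgroup.normalizerMonoidHom_ker (H := (P : Subgroup G))
    have h1 := (Subgroup.normalizerMonoidHom (P : Subgroup G)).ker.index_mul_card
    rw [Subgroup.index_ker] at h1
    have h2 : Nat.card (Subgroup.normalizerMonoidHom (P : Subgroup G)).ker = 13 := by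
      refine Eq.trans ?_ hC13
      exact (Nat.card_congr (MulEquiv.subgroupCongr hker).toEquiv).trans
        (Nat.card_congr (Subgroup.subgroupOfEquivOfLe hCN).toEquiv)
    have h3 : Nat.card (Subgroup.normalizerMonoidHom (P : Subgroup G)).range ∣ 12 := by
      have := Subgroup.card_subgroup_dvd_card (Subgroup.normalizerMonoidHom (P : Subgroup G)).range
      rw [IsCyclic.card_mulAut, hP] at this
      simpa [Nat.totient_prime hp.out] using this
    have h4 : Nat.card N =
        Nat.card (Subgroup.normalizerMonoidHom (P : Subgroup G)).range * 13 := by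
      rw [← h1]
      exact congrArg (Nat.card (Subgroup.normalizerMonoidHom (P : Subgroup G)).range * ·) h2
    rw [h4, mul_comm 13 12]
    exact Nat.mul_dvd_mul_right h3 13
  have hn : (N.index) ≡ 1 [MOD 13] := by
    rw [hN, Sylow.coe_coe, ← P.card_eq_index_normalizer]
    exact card_sylow_modEq_one 13 G
  have hmul := N.index_mul_card
  rw [hcard] at hmul
  have h13 : 13 ∣ Nat.card N := hC13 ▸ Subgroup.card_dvd_of_le hCN
  obtain ⟨e, he⟩ := h13
  rw [he] at hmul hdvd
  have he12 : e ∣ 12 := Nat.dvd_of_mul_dvd_mul_left (by norm_num) hdvd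
  have hne : N.index * e = 95040 := by
    have : 13 * (N.index * e) = 13 * 95040 := by rw [← mul_left_comm, hmul]
    omega
  have hmod : e % 13 = 10 := by
    have := hn.mul_right e
    rw [hne, one_mul] at this
    unfold Nat.ModEq at this
    omega
  have hele : e ≤ 12 := Nat.le_of_dvd (by norm_num) he12
  have he10 : e = 10 := by omega
  subst he10
  norm_num at he12

end Cfsg.Agent.S0710
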