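import Cfsg.Statements.S0712
import Mathlib.GroupTheory.GroupAction.Jordan

set_option autoImplicit false
open Cfsg

namespace Cfsg.Agent.S0712

/-- Jordan: a primitive group in which the pointwise stabiliser of a set `s` is doubly transitive on the complement of `s` (which has at least 2 points) is `(|s| + 2)`-transitive. -/
theorem result {α : Type*} [Fintype α] [DecidableEq α] (G : Subgroup (Equiv.Perm α)) (hG : MulAction.IsPreprimitive G α) (s : Set α) {m : ℕ} (hsm : s.ncard = m) (hm : m + 2 ≤ Fintype.card α) (h2 : MulAction.IsMultiplyPretransitive (fixingSubgroup G s) (SubMulAction.ofFixingSubgroup G s) 2) : MulAction.IsMultiplyPretransitive G α (m + 2) := by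
  classical
  have hfs : MulAction.IsPreprimitive (fixingSubgroup G s) (SubMulAction.ofFixingSubgroup G s) :=
    MulAction.isPreprimitive_of_is_two_pretransitive h2
  have hmG : MulAction.IsMultiplyPretransitive G α m := by
    rcases Nat.eq_zero_or_pos m with rfl | hm0
    · exact MulAction.is_zero_pretransitive
    · obtain ⟨n, rfl⟩ : ∃ n, m = n + 1 := ⟨m - 1, by omega⟩
      have := hG.isMultiplyPreprimitive hsm (by rw [Nat.card_eq_fintype_card]; omega) hfs
      have h' : MulAction.IsMultiplyPretransitive G α (n + 2) :=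
        MulAction.IsMultiplyPreprimitive.isMultiplyPretransitive ..
      exact MulAction.isMultiplyPretransitive_of_le (by omega : n + 1 ≤ n + 2)
        (by rw [Nat.card_eq_fintype_card]; omega)
  rw [MulAction.isMultiplyPretransitive_iff] at hmG ⊢
  intro x y
  have hs : s.toFinset.card = m := by rw [← Set.ncard_eq_toFinset_card', hsm]
  let e : Fin m ↪ α :=
    ((Finset.equivFinOfCardEq hs).symm.toEmbedding).trans (Function.Embedding.subtype _)
  have hmem : ∀ z, z ∈ s ↔ ∃ i, e i = z := by
    intro z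
    constructor
    · intro hz
      refine ⟨Finset.equivFinOfCardEq hs ⟨z, Set.mem_toFinset.mpr hz⟩, ?_⟩
      simp [e]
    · rintro ⟨i, rfl⟩
      exact Set.mem_toFinset.mp ((Finset.equivFinOfCardEq hs).symm i).2
  have key : ∀ x : Fin (m + 2) ↪ α, ∃ g : G,
      (∀ i : Fin m, g • x (i.castAdd 2) = e i) ∧ ∀ j : Fin 2, g • x (j.natAdd m) ∉ s := by
    intro x
    obtain ⟨g, hg⟩ := hmG ((Fin.castAddEmb 2).trans x) e
    have hg' : ∀ i : Fin m, g • x (i.castAdd 2) = e i := fun i => congrFun (congrArg DFunLike.coe hg) i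
    refine ⟨g, hg', fun j hj => ?_⟩
    obtain ⟨i, hi⟩ := (hmem _).mp hj
    rw [← hg' i] at hi
    have := congrArg Fin.val (x.injective (MulAction.injective g hi))
    simp at this
    omega
  obtain ⟨g, hg1, hg2⟩ := key x
  obtain ⟨h, hh1, hh2⟩ := key y
  rw [MulAction.is_two_pretransitive_iff] at h2
  have hxne : ∀ (x : Fin (m + 2) ↪ α) (g : G),
      g • x ((0 : Fin 2).natAdd m) ≠ g • x ((1 : Fin 2).natAdd m) := by
    intro x g e'
    have := congrArg Fin.val (x.injective (MulAction.injective g e'))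
    simp at this
  obtain ⟨k, hk0, hk1⟩ := @h2 ⟨_, hg2 0⟩ ⟨_, hg2 1⟩ ⟨_, hh2 0⟩ ⟨_, hh2 1⟩
    (fun e' => hxne x g (congrArg Subtype.val e')) (fun e' => hxne y h (congrArg Subtype.val e'))
  have hk0' : (k : G) • g • x ((0 : Fin 2).natAdd m) = h • y ((0 : Fin 2).natAdd m) :=
    congrArg Subtype.val hk0
  have hk1' : (k : G) • g • x ((1 : Fin 2).natAdd m) = h • y ((1 : Fin 2).natAdd m) :=
    congrArg Subtype.val hk1
  refine ⟨h⁻¹ * k * g, ?_⟩
  ext i
  show (h⁻¹ * (k : G) * g) • x i = y i
  rw [mul_smul, mul_smul, inv_smul_eq_iff]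
  induction i using Fin.addCases with
  | left i =>
    rw [hg1, hh1]
    exact (mem_fixingSubgroup_iff G).mp k.2 _ ((hmem _).mpr ⟨i, rfl⟩)
  | right j =>
    fin_cases j
    · exact hk0'
    · exact hk1'

end Cfsg.Agent.S0712
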