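import Cfsg.Statements.S0714
import Cfsg.Agent.Lib.Perm.PermModule
import Mathlib.GroupTheory.SpecificGroups.Alternating
import Mathlib.LinearAlgebra.Dimension.Finrank

set_option autoImplicit false
open Cfsg

namespace Cfsg.Agent.S0714

/-- Over any field, the permutation module of the alternating group of degree at least 5 has exactly four invariant subspaces: zero, the constant functions, the functions with coordinate sum zero, and everything. -/
theorem result {α : Type*} [Fintype α] [DecidableEq α] (hα : 5 ≤ Fintype.card α) {K : Type*} [Field K] (W : Subrepresentation (Cfsg.permRep K (alternatingGroup α) α)) : W.toSubmodule = ⊥ ∨ W = Cfsg.permConstants K (alternatingGroup α) α ∨ W = Cfsg.permSumZero K (alternatingGroup α) α ∨ W.toSubmodule = ⊤ := by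
  classical
  have hmem : ∀ (g : (alternatingGroup α)) (f : α → K), f ∈ W.toSubmodule → (fun z => f (g⁻¹ • z)) ∈ W.toSubmodule :=
    fun g f hf => W.apply_mem_toSubmodule g hf
  let d : α → α → α → K := fun a b z => (if z = a then 1 else 0) - (if z = b then 1 else 0)
  have hout : ∀ s : Finset α, s.card + 2 ≤ Fintype.card α →
      ∃ x y, x ∉ s ∧ y ∉ s ∧ x ≠ y := by
    intro s hs
    obtain ⟨x, hx, y, hy, hxy⟩ := Finset.one_lt_card.mp (show 1 < sᶜ.card by
      rw [Finset.card_compl]; omega)
    exact ⟨x, y, Finset.mem_compl.mp hx, Finset.mem_compl.mp hy, hxy⟩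
  have step : ∀ (u : α → K) (s : Finset α), u ∈ W.toSubmodule → s.card + 2 ≤ Fintype.card α →
      (∀ z, z ∉ s → u z = 0) → ∀ a ∈ s, ∀ b ∈ s, u a ≠ u b → d a b ∈ W.toSubmodule := by
    intro u s hu hs hz a ha b hb hne
    obtain ⟨x, y, hx, hy, hxy⟩ := hout s hs
    have hab : a ≠ b := fun e => hne (e ▸ rfl)
    let τ : (alternatingGroup α) := ⟨Equiv.swap a b * Equiv.swap x y, by
      simp [Equiv.Perm.sign_swap hab, Equiv.Perm.sign_swap hxy]⟩
    have h1 := W.toSubmodule.sub_mem hu (hmem τ u hu)
    have h2 : (u - fun z => u (τ⁻¹ • z)) = (u a - u b) • d a b := by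
      funext z
      show u z - u ((Equiv.swap a b * Equiv.swap x y)⁻¹ z) = (u a - u b) * d a b z
      simp only [mul_inv_rev, Equiv.swap_inv, Equiv.Perm.mul_apply, d]
      have hax : a ≠ x := fun e => hx (e ▸ ha)
      have hay : a ≠ y := fun e => hy (e ▸ ha)
      have hbx : b ≠ x := fun e => hx (e ▸ hb)
      have hby : b ≠ y := fun e => hy (e ▸ hb)
      rcases eq_or_ne z a with rfl | hza
      · simp [hab, Equiv.swap_apply_of_ne_of_ne hbx hby]
      rcases eq_or_ne z b with rfl | hzb
      · simp [hab.symm, Equiv.swap_apply_of_ne_of_ne hax hay]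
      rw [Equiv.swap_apply_of_ne_of_ne hza hzb]
      rcases eq_or_ne z x with rfl | hzx
      · simp [hza, hzb, hz _ hx, hz _ hy]
      rcases eq_or_ne z y with rfl | hzy
      · simp [hza, hzb, hz _ hx, hz _ hy]
      simp [hza, hzb, Equiv.swap_apply_of_ne_of_ne hzx hzy]
    rw [h2] at h1
    have h3 := W.toSubmodule.smul_mem (u a - u b)⁻¹ h1
    rwa [smul_smul, inv_mul_cancel₀ (sub_ne_zero.mpr hne), one_smul] at h3
  by_cases hconst : ∀ f ∈ W.toSubmodule, ∀ a b, f a = f b
  · by_cases hW : W.toSubmodule = ⊥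
    · exact Or.inl hW
    right; left
    obtain ⟨f, hf, hf0⟩ := Submodule.exists_mem_ne_zero_of_ne_bot hW
    obtain ⟨a, ha⟩ : ∃ a, f a ≠ 0 := Function.ne_iff.mp hf0
    apply Subrepresentation.toSubmodule_injective
    apply le_antisymm
    · intro h hh
      exact (Cfsg.Agent.Perm.mem_permConstants_iff h).mpr ⟨h a, funext fun z => hconst h hh z a⟩
    · intro h hh
      obtain ⟨c, hc'⟩ := (Cfsg.Agent.Perm.mem_permConstants_iff h).mp hh
      have hc : ∀ z, h z = c := congrFun hc'
      have : h = (c / f a) • f := by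
        funext z
        rw [hc z, Pi.smul_apply, smul_eq_mul, hconst f hf z a, div_mul_cancel₀ _ ha]
      rw [this]
      exact W.toSubmodule.smul_mem _ hf
  push_neg at hconst
  obtain ⟨f, hf, a, b, hab⟩ := hconst
  have hd : ∃ p q, p ≠ q ∧ d p q ∈ W.toSubmodule := by
    have hne : a ≠ b := fun e => hab (e ▸ rfl)
    obtain ⟨c, c', hc, hc', hcc⟩ := hout {a, b} (by rw [Finset.card_pair hne]; omega)
    simp only [Finset.mem_insert, Finset.mem_singleton, not_or] at hc hc'
    have hg3 : (Equiv.swap a b * Equiv.swap a c : Equiv.Perm α).IsThreeCycle :=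
      Equiv.Perm.isThreeCycle_swap_mul_swap_same hne (Ne.symm hc.1) (Ne.symm hc.2)
    let g : (alternatingGroup α) := ⟨_, hg3.mem_alternatingGroup⟩
    set u : α → K := f - fun z => f (g⁻¹ • z) with hu
    have huW : u ∈ W.toSubmodule := W.toSubmodule.sub_mem hf (hmem g f hf)
    have hval : ∀ z, u z = f z - f (Equiv.swap a c (Equiv.swap a b z)) := by
      intro z
      show f z - f ((Equiv.swap a b * Equiv.swap a c)⁻¹ z) = _
      simp [mul_inv_rev, Equiv.Perm.mul_apply]
    set s : Finset α := {a, b, c}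
    have hsupp : ∀ z, z ∉ s → u z = 0 := by
      intro z hz
      simp only [s, Finset.mem_insert, Finset.mem_singleton, not_or] at hz
      rw [hval, Equiv.swap_apply_of_ne_of_ne hz.1 hz.2.1,
        Equiv.swap_apply_of_ne_of_ne hz.1 hz.2.2, sub_self]
    have hs : s.card + 2 ≤ Fintype.card α := by
      have : s.card ≤ 3 := Finset.card_le_three
      omega
    by_cases huab : u a = u b
    · by_cases hubc : u b = u c
      · -- all three values are equal, and non-zero
        have hua : u a ≠ 0 := by
          intro h0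
          have hub : u b = 0 := huab ▸ h0
          rw [hval, Equiv.swap_apply_right, Equiv.swap_apply_left] at hub
          have huc : u c = 0 := hubc ▸ (huab ▸ h0)
          rw [hval, Equiv.swap_apply_of_ne_of_ne hc.1 hc.2, Equiv.swap_apply_right] at huc
          exact hab ((sub_eq_zero.mp huc).symm.trans (sub_eq_zero.mp hub).symm)
        obtain ⟨x, y, hx, hy, hxy⟩ := hout s hs
        simp only [s, Finset.mem_insert, Finset.mem_singleton, not_or] at hx hy
        have hg3' : (Equiv.swap a x * Equiv.swap a y : Equiv.Perm α).IsThreeCycle :=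
          Equiv.Perm.isThreeCycle_swap_mul_swap_same (Ne.symm hx.1) (Ne.symm hy.1) hxy
        let g' : (alternatingGroup α) := ⟨_, hg3'.mem_alternatingGroup⟩
        set w : α → K := u - fun z => u (g'⁻¹ • z) with hw
        have hwW : w ∈ W.toSubmodule := W.toSubmodule.sub_mem huW (hmem g' u huW)
        have hval' : ∀ z, w z = u z - u (Equiv.swap a y (Equiv.swap a x z)) := by
          intro z
          show u z - u ((Equiv.swap a x * Equiv.swap a y)⁻¹ z) = _
          simp [mul_inv_rev, Equiv.Perm.mul_apply]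
        have hux : u x = 0 := hsupp x (by simp [s, hx.1, hx.2.1, hx.2.2])
        have huy : u y = 0 := hsupp y (by simp [s, hy.1, hy.2.1, hy.2.2])
        have hne' : ∃ p ∈ ({a, x, y} : Finset α), ∃ q ∈ ({a, x, y} : Finset α), w p ≠ w q := by
          have wa : w a = u a := by
            rw [hval', Equiv.swap_apply_left, Equiv.swap_apply_of_ne_of_ne hx.1 hxy, hux, sub_zero]
          by_cases hwax : w a = w x
          · refine ⟨a, by simp, y, by simp, ?_⟩
            have wy : w y = -u a := by
              rw [hval', Equiv.swap_apply_of_ne_of_ne hy.1 (Ne.symm hxy), Equiv.swap_apply_right,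
                huy, zero_sub]
            have wx : w x = 0 := by
              rw [hval', Equiv.swap_apply_right, Equiv.swap_apply_left, hux, huy, sub_zero]
            rw [wa, wx] at hwax
            exact absurd hwax hua
          · exact ⟨a, by simp, x, by simp, hwax⟩
        obtain ⟨p, hp, q, hq, hpq⟩ := hne'
        refine ⟨p, q, fun e => hpq (e ▸ rfl), step w {a, x, y} hwW ?_ ?_ p hp q hq hpq⟩
        · have : ({a, x, y} : Finset α).card ≤ 3 := Finset.card_le_three
          omega
        · intro z hz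
          simp only [Finset.mem_insert, Finset.mem_singleton, not_or] at hz
          rw [hval', Equiv.swap_apply_of_ne_of_ne hz.1 hz.2.1,
            Equiv.swap_apply_of_ne_of_ne hz.1 hz.2.2, sub_self]
      · exact ⟨b, c, Ne.symm hc.2, step u s huW hs hsupp b (by simp [s]) c (by simp [s]) hubc⟩
    · exact ⟨a, b, hne, step u s huW hs hsupp a (by simp [s]) b (by simp [s]) huab⟩
  obtain ⟨p, q, hpq, hdpq⟩ := hd
  have hall : ∀ i j, i ≠ j → d i j ∈ W.toSubmodule := by
    intro i j hij
    obtain ⟨σ, hσp, hσq⟩ : ∃ σ : Equiv.Perm α, σ p = i ∧ σ q = j := by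
      obtain ⟨e, he⟩ : ∃ e : Equiv.Perm α, e p = i := ⟨Equiv.swap p i, Equiv.swap_apply_left _ _⟩
      refine ⟨Equiv.swap (e q) j * e, ?_, by simp [Equiv.Perm.mul_apply]⟩
      rw [Equiv.Perm.mul_apply, he, Equiv.swap_apply_of_ne_of_ne]
      · intro h; exact hpq (e.injective (he.trans h))
      · exact hij
    obtain ⟨x, y, hx, hy, hxy⟩ := hout {i, j} (by rw [Finset.card_pair hij]; omega)
    simp only [Finset.mem_insert, Finset.mem_singleton, not_or] at hx hy
    obtain ⟨τ, hτi, hτj⟩ : ∃ τ : (alternatingGroup α), (τ : Equiv.Perm α) p = i ∧ (τ : Equiv.Perm α) q = j := by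
      rcases Int.units_eq_one_or (Equiv.Perm.sign σ) with hs | hs
      · exact ⟨⟨σ, Equiv.Perm.mem_alternatingGroup.mpr hs⟩, hσp, hσq⟩
      · refine ⟨⟨Equiv.swap x y * σ, by simp [Equiv.Perm.sign_swap hxy, hs]⟩, ?_, ?_⟩
        · show Equiv.swap x y (σ p) = i
          rw [hσp, Equiv.swap_apply_of_ne_of_ne (Ne.symm hx.1) (Ne.symm hy.1)]
        · show Equiv.swap x y (σ q) = j
          rw [hσq, Equiv.swap_apply_of_ne_of_ne (Ne.symm hx.2) (Ne.symm hy.2)]
    have h1 := hmem τ _ hdpq
    have h2 : (fun z => d p q (τ⁻¹ • z)) = d i j := by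
      funext z
      show d p q ((τ : Equiv.Perm α)⁻¹ z) = d i j z
      simp only [d, Equiv.Perm.inv_eq_iff_eq, hτi, hτj]
    rwa [h2] at h1
  have hsum : (Cfsg.permSumZero K (alternatingGroup α) α).toSubmodule ≤ W.toSubmodule := by
    intro h hh
    have h0 : ∑ z, h z = 0 := (Cfsg.Agent.Perm.mem_permSumZero_iff h).mp hh
    have : h = ∑ z, h z • (if z = a then (0 : α → K) else d z a) := by
      funext w
      rw [Finset.sum_apply]
      have e : ∀ z, (h z • (if z = a then (0 : α → K) else d z a)) w
          = h z * (if w = z then 1 else 0) - h z * (if w = a then 1 else 0) := by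
        intro z
        by_cases hz : z = a <;> simp [hz, d, mul_sub]
      rw [Finset.sum_congr rfl (fun z _ => e z), Finset.sum_sub_distrib, ← Finset.sum_mul, h0]
      simp
    rw [this]
    refine W.toSubmodule.sum_mem (fun z _ => W.toSubmodule.smul_mem _ ?_)
    split_ifs with hz
    · exact W.toSubmodule.zero_mem
    · exact hall z a hz
  by_cases hle : W.toSubmodule ≤ (Cfsg.permSumZero K (alternatingGroup α) α).toSubmodule
  · exact Or.inr (Or.inr (Or.inl (Subrepresentation.toSubmodule_injective (le_antisymm hle hsum))))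
  obtain ⟨v, hv, hv0⟩ := SetLike.not_le_iff_exists.mp hle
  have hS : ∑ z, v z ≠ 0 := fun e => hv0 ((Cfsg.Agent.Perm.mem_permSumZero_iff v).mpr e)
  refine Or.inr (Or.inr (Or.inr ?_))
  rw [eq_top_iff]
  intro h _
  have h1 : h - ((∑ z, h z) / (∑ z, v z)) • v ∈ W.toSubmodule := hsum
    ((Cfsg.Agent.Perm.mem_permSumZero_iff _).mpr (by
      simp [Finset.sum_sub_distrib, ← Finset.mul_sum, div_mul_cancel₀ _ hS]))
  simpa using W.toSubmodule.add_mem h1 (W.toSubmodule.smul_mem ((∑ z, h z) / (∑ z, v z)) hv)

end Cfsg.Agent.S0714
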