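import Cfsg.Statements.S0716
import Cfsg.Agent.PermB.MultFreeComm

set_option autoImplicit false
open Cfsg

namespace Cfsg.Agent.S0716

/-- (a) If all non-principal irreducible constituents of the permutation character of a transitive group have the same degree `f`, the character is multiplicity-free and all non-trivial subdegrees equal `f`. (b) A transitive group of rank at most 5 has multiplicity-free permutation character. -/
theorem result {G : Type*} [Group G] [Fintype G] {Ω : Type*} [Fintype Ω] [MulAction G Ω] [MulAction.IsPretransitive G Ω] (a : Ω) : ((f : ℕ) → (∀ χ : G → ℂ, Cfsg.IsIrrCharacter G χ → χ ≠ (fun _ => 1) → Cfsg.classInner (fun g : G => (Nat.card (MulAction.fixedBy Ω g) : ℂ)) χ ≠ 0 → χ 1 = f) → (∀ χ : G → ℂ, Cfsg.IsIrrCharacter G χ → Cfsg.classInner (fun g : G => (Nat.card (MulAction.fixedBy Ω g) : ℂ)) χ = 0 ∨ Cfsg.classInner (fun g : G => (Nat.card (MulAction.fixedBy Ω g) : ℂ)) χ = 1) ∧ ∀ b : Ω, b ≠ a → Nat.card (MulAction.orbit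 (MulAction.stabilizer G a) b) = f) ∧ (Nat.card (MulAction.orbitRel.Quotient (MulAction.stabilizer G a) Ω) ≤ 5 → ∀ χ : G → ℂ, Cfsg.IsIrrCharacter G χ → Cfsg.classInner (fun g : G => (Nat.card (MulAction.fixedBy Ω g) : ℂ)) χ = 0 ∨ Cfsg.classInner (fun g : G => (Nat.card (MulAction.fixedBy Ω g) : ℂ)) χ = 1) := by
  classical
  have hrank := PermB.rank_eq_one_add (G := G) a
  have hcard := PermB.card_eq_one_add (G := G) a
  set S := Finset.univ.erase (PermB.oneChar : Cfsg.IrrCharacter G) with hS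
  have core : ∀ f : ℕ, 0 < f →
      (∀ χ : Cfsg.IrrCharacter G, χ ≠ PermB.oneChar → PermB.permMult Ω χ ≠ 0 →
        PermB.irrDim χ = f) →
      (∀ χ ∈ S, PermB.permMult Ω χ ≤ 1) ∧
        ∀ b : Ω, b ≠ a → Nat.card (MulAction.orbit (MulAction.stabilizer G a) b) = f := by
    intro f hf0 hf
    have hk : ∀ b : Ω, b ≠ a →
        f ≤ Nat.card (MulAction.orbit (MulAction.stabilizer G a) b) := fun b hb =>
      Nat.le_of_dvd (Nat.card_pos_iff.2 ⟨⟨⟨b, MulAction.mem_orbit_self b⟩⟩, inferInstance⟩)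
        (PermB.dvd_subdegree f (fun χ h1 h2 => dvd_of_eq (hf χ h1 h2).symm) hb)
    obtain ⟨h1, h2⟩ := PermB.mul_rank_le a f hk
    have hn : Fintype.card Ω = 1 + f * ∑ χ ∈ S, PermB.permMult Ω χ := by
      rw [hcard, Finset.mul_sum]
      congr 1
      refine Finset.sum_congr rfl fun χ hχ => ?_
      by_cases he : PermB.permMult Ω χ = 0
      · simp [he]
      · rw [hf χ (Finset.ne_of_mem_erase hχ) he, mul_comm]
    rw [hrank, Nat.add_sub_cancel_left] at h1 h2
    have h3 : ∑ χ ∈ S, PermB.permMult Ω χ ^ 2 ≤ ∑ χ ∈ S, PermB.permMult Ω χ :=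
      Nat.le_of_mul_le_mul_left (by omega) hf0
    have h4 : ∀ χ ∈ S, PermB.permMult Ω χ ≤ PermB.permMult Ω χ ^ 2 := fun χ _ =>
      Nat.le_self_pow two_ne_zero _
    have h5 := (Finset.sum_eq_sum_iff_of_le h4).1 (le_antisymm (Finset.sum_le_sum h4) h3)
    refine ⟨fun χ hχ => ?_, h2 ?_⟩
    · have := h5 χ hχ
      nlinarith
    · rw [hn]
      exact Nat.add_le_add_left (Nat.mul_le_mul_left _ (Finset.sum_le_sum h4)) 1
  have hone : ∀ χ : Cfsg.IrrCharacter G, (∀ χ ∈ S, PermB.permMult Ω χ ≤ 1) →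
      PermB.permMult Ω χ ≤ 1 := by
    intro χ h
    by_cases h1 : χ = PermB.oneChar
    · rw [h1, PermB.permMult_oneChar a]
    · exact h χ (Finset.mem_erase.2 ⟨h1, Finset.mem_univ _⟩)
  constructor
  · intro f hf
    by_cases hex : ∃ χ ∈ S, PermB.permMult Ω χ ≠ 0
    · have hf' : ∀ χ : Cfsg.IrrCharacter G, χ ≠ PermB.oneChar → PermB.permMult Ω χ ≠ 0 →
          PermB.irrDim χ = f := fun χ h1 h2 => by
        have h := hf χ χ.2 ((PermB.ne_oneChar_iff χ).1 h1)
          (fun h => h2 ((PermB.classInner_permChar_eq_zero_iff χ).1 h))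
        rw [PermB.irr_degree] at h
        exact_mod_cast h
      obtain ⟨χ, hχ, he⟩ := hex
      obtain ⟨h1, h2⟩ := core f ((hf' χ (Finset.ne_of_mem_erase hχ) he) ▸ PermB.irrDim_pos χ) hf'
      exact ⟨fun ψ hψ => (PermB.permMult_le_one_iff ⟨ψ, hψ⟩).2 (hone _ h1), h2⟩
    · push Not at hex
      refine ⟨fun ψ hψ => (PermB.permMult_le_one_iff ⟨ψ, hψ⟩).2
        (hone _ fun χ hχ => by rw [hex χ hχ]; exact zero_le_one), fun b hb => ?_⟩
      rw [Finset.sum_eq_zero fun χ hχ => by rw [hex χ hχ, zero_mul]] at hcard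
      exact absurd (Fintype.card_le_one_iff.1 (by omega) b a) hb
  · intro hr χ hχ
    rw [hrank] at hr
    refine (PermB.permMult_le_one_iff ⟨χ, hχ⟩).2 (hone _ fun ψ hψ => ?_)
    by_contra h2
    have hsplit := Finset.add_sum_erase S (fun χ => PermB.permMult Ω χ ^ 2) hψ
    have hψ2 : 4 ≤ PermB.permMult Ω ψ ^ 2 := by nlinarith
    have hother : ∀ χ ∈ S.erase ψ, PermB.permMult Ω χ = 0 := fun χ hχ => by
      have h := Finset.sum_eq_zero_iff.1
        (show ∑ χ ∈ S.erase ψ, PermB.permMult Ω χ ^ 2 = 0 by omega) χ hχ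
      exact pow_eq_zero_iff two_ne_zero |>.1 h
    obtain ⟨h1, -⟩ := core (PermB.irrDim ψ) (PermB.irrDim_pos ψ) fun φ hφ he => by
      by_contra hne
      exact he (hother φ (Finset.mem_erase.2
        ⟨fun e => hne (by rw [e]), Finset.mem_erase.2 ⟨hφ, Finset.mem_univ _⟩⟩))
    exact h2 (h1 ψ hψ)

end Cfsg.Agent.S0716
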