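import Cfsg.Statements.S0718
import Cfsg.Agent.PermB.MultFreeComm

set_option autoImplicit false
open Cfsg

namespace Cfsg.Agent.S0718

/-- Multiplicity-freeness of the permutation character is equivalent to commutativity of the centraliser ring, i.e. of the algebra of `G`-equivariant endomorphisms of the complex permutation module. -/
theorem result {G : Type*} [Group G] [Fintype G] {Ω : Type*} [Fintype Ω] [MulAction G Ω] : (∀ χ : G → ℂ, Cfsg.IsIrrCharacter G χ → Cfsg.classInner (fun g : G => (Nat.card (MulAction.fixedBy Ω g) : ℂ)) χ = 0 ∨ Cfsg.classInner (fun g : G => (Nat.card (MulAction.fixedBy Ω g) : ℂ)) χ = 1) ↔ ∀ S T : (Ω → ℂ) →ₗ[ℂ] (Ω → ℂ), S ∈ ((Cfsg.permRep ℂ G Ω).linHom (Cfsg.permRep ℂ G Ω)).invariants → T ∈ ((Cfsg.permRep ℂ G Ω).linHom (Cfsg.permRep ℂ G Ω)).invariants → S ∘ₗ T = T ∘ₗ S := by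
  have hiff := PermB.comm_iff_mult_le_one (G := G) (Ω := Ω)
  constructor
  · intro h S T hS hT
    have hc := hiff.2 (fun χ => (PermB.permMult_le_one_iff χ).1 (h χ χ.2))
      (PermB.cAlgEquiv.symm ⟨S, hS⟩) (PermB.cAlgEquiv.symm ⟨T, hT⟩)
    exact congrArg Subtype.val hc
  · intro h χ hχ
    refine (PermB.permMult_le_one_iff ⟨χ, hχ⟩).2 (hiff.1 (fun A B => Subtype.ext ?_) _)
    exact h A.1 B.1 (PermB.cAlgEquiv A).2 (PermB.cAlgEquiv B).2

end Cfsg.Agent.S0718
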