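import Cfsg.Statements.S0719
import Cfsg.Agent.PermB.WielandtType

set_option autoImplicit false
open Cfsg

namespace Cfsg.Agent.S0719

/-- Groups of Wielandt type: if a primitive group of degree `2m` has rank 3 and permutation character `1 + χ₁ + χ₂` with irreducible `χ₁, χ₂` of degrees `m - 1` and `m`, then `m = 2a² + 2a + 1` for some positive integer `a` and the two non-trivial subdegrees are `a(2a+1)` and `(a+1)(2a+1)`. -/
theorem result {G : Type*} [Group G] [Fintype G] {Ω : Type*} [Fintype Ω] [MulAction G Ω] (hprim : MulAction.IsPreprimitive G Ω) {m : ℕ} (hm : Fintype.card Ω = 2 * m) (a₀ : Ω) (hrank : Nat.card (MulAction.orbitRel.Quotient (MulAction.stabilizer G a₀) Ω) = 3) (χ₁ χ₂ : G → ℂ) (h₁ : Cfsg.IsIrrCharacter G χ₁) (h₂ : Cfsg.IsIrrCharacter G χ₂) (hπ : (fun g : G => (Nat.card (MulAction.fixedBy Ω g) : ℂ)) = fun g => 1 + χ₁ g + χ₂ g) (hd₁ : χ₁ 1 = (m : ℂ) - 1) (hd₂ : χ₂ 1 = m) : ∃ a : ℕ, 0 < a ∧ m = 2 * a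 ^ 2 + 2 * a + 1 ∧ ∀ b : Ω, b ≠ a₀ → Nat.card (MulAction.orbit (MulAction.stabilizer G a₀) b) = a * (2 * a + 1) ∨ Nat.card (MulAction.orbit (MulAction.stabilizer G a₀) b) = (a + 1) * (2 * a + 1) := by
  have key := fun {b : Ω} (hb : b ≠ a₀) =>
    PermB.wielandt_type hprim hm a₀ hrank ⟨χ₁, h₁⟩ ⟨χ₂, h₂⟩ hπ hd₁ hd₂ hb
  have hroot : ∀ {b : Ω}, b ≠ a₀ → ∃ a : ℕ, 0 < a ∧ (m : ℤ) = 2 * a ^ 2 + 2 * a + 1 ∧
      (Nat.card (MulAction.orbit (MulAction.stabilizer G a₀) b) = a * (2 * a + 1) ∨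
        Nat.card (MulAction.orbit (MulAction.stabilizer G a₀) b) = (a + 1) * (2 * a + 1)) := by
    intro b hb
    obtain ⟨hm2, hk⟩ := key hb
    set k := Nat.card (MulAction.orbit (MulAction.stabilizer G a₀) b)
    have habs := sq_abs (2 * (k : ℤ) - 2 * m + 1)
    obtain ⟨e, he⟩ : ∃ e : ℕ, (e : ℤ) = |2 * (k : ℤ) - 2 * m + 1| :=
      ⟨(|2 * (k : ℤ) - 2 * m + 1|).toNat, Int.toNat_of_nonneg (abs_nonneg _)⟩
    rw [← he, hk] at habs
    obtain ⟨a, ha⟩ : Odd e := by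
      have h : Odd ((e : ℤ) ^ 2) := ⟨(m : ℤ) - 1, by rw [habs]; ring⟩
      rw [← Nat.cast_pow, Int.odd_coe_nat] at h
      exact (Nat.odd_pow_iff two_ne_zero).1 h
    refine ⟨a, ?_, ?_, ?_⟩
    · rcases Nat.eq_zero_or_pos a with rfl | h
      · subst ha; simp at habs; omega
      · exact h
    · subst ha; push_cast at habs; linarith
    · subst ha
      push_cast at he habs
      rcases abs_choice (2 * (k : ℤ) - 2 * m + 1) with h | h <;> rw [h] at he
      · right; zify; linarith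
      · left; zify; linarith
  obtain ⟨b₀, hb₀⟩ : ∃ b : Ω, b ≠ a₀ := by
    by_contra h
    push Not at h
    have : Fintype.card Ω ≤ 1 := Fintype.card_le_one_iff.2 fun x y => (h x).trans (h y).symm
    have h2 : 0 < Fintype.card Ω := Fintype.card_pos_iff.2 ⟨a₀⟩
    omega
  obtain ⟨a, ha, hma, -⟩ := hroot hb₀
  refine ⟨a, ha, by zify; exact hma, fun b hb => ?_⟩
  obtain ⟨a', -, hma', h⟩ := hroot hb
  obtain rfl : a' = a := by
    rcases lt_trichotomy a' a with h' | h' | h'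
    · exfalso
      have : (a' : ℤ) + 1 ≤ a := by exact_mod_cast h'
      nlinarith [Int.natCast_nonneg a']
    · exact h'
    · exfalso
      have : (a : ℤ) + 1 ≤ a' := by exact_mod_cast h'
      nlinarith [Int.natCast_nonneg a]
  exact h

end Cfsg.Agent.S0719
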