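import Cfsg.Statements.S0721
import Cfsg.Agent.PermB.MinNormalPower

set_option autoImplicit false
open Cfsg

namespace Cfsg.Agent.S0721

/-- A minimal normal subgroup of a finite group is isomorphic to a direct power `T ^ m` of a simple group `T` (possibly of prime order). -/
theorem result {H : Type*} [Group H] [Finite H] (N : Subgroup H) [N.Normal] (hN : N ≠ ⊥) (hmin : ∀ M : Subgroup H, M.Normal → M ≤ N → M = ⊥ ∨ M = N) : ∃ (T : Type) (_ : Group T) (m : ℕ), IsSimpleGroup T ∧ 0 < m ∧ Nonempty (N ≃* (Fin m → T)) := by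
  have : Nontrivial N := (Subgroup.nontrivial_iff_ne_bot N).2 hN
  obtain ⟨T, hT, m, hm, ⟨e⟩⟩ := PermB.exists_simple_power (K := ↥N) fun M hM => by
    have hle := Subgroup.map_subtype_le M
    have hn : (M.map N.subtype).Normal := by
      refine ⟨fun x hx g => ?_⟩
      obtain ⟨y, hy, rfl⟩ := Subgroup.mem_map.1 hx
      exact ⟨MulAut.conjNormal g y, hM _ (Set.mem_univ _) y hy, rfl⟩
    rcases hmin _ hn hle with h | h
    · exact Or.inl ((Subgroup.map_eq_bot_iff_of_injective M N.subtype_injective).1 h)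
    · refine Or.inr (Subgroup.map_injective N.subtype_injective ?_)
      rw [h, ← MonoidHom.range_eq_map, Subgroup.range_subtype]
  obtain ⟨k, ⟨q⟩⟩ := Finite.exists_equiv_fin ↥T
  let q₀ : {i : Fin k // True} ≃ ↥T := (Equiv.subtypeUnivEquiv fun _ => trivial).trans q.symm
  let : Group {i : Fin k // True} := q₀.group
  let q' : {i : Fin k // True} ≃* ↥T := q₀.mulEquiv
  have : Nontrivial {i : Fin k // True} := q'.toEquiv.nontrivial
  exact ⟨{i : Fin k // True}, inferInstance, m,
    IsSimpleGroup.isSimpleGroup_of_surjective q'.symm.toMonoidHom q'.symm.surjective,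
    hm, ⟨e.trans (MulEquiv.piCongrRight fun _ => q'.symm)⟩⟩

end Cfsg.Agent.S0721
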