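import Cfsg.Statements.S0723
import Cfsg.Agent.S0722
import Cfsg.Agent.PermB.MinNormalPower
import Cfsg.Agent.FG72.Scott.Subdirect

set_option autoImplicit false
open Cfsg

namespace Cfsg.Agent.S0723

/-- The core of the O'Nan–Scott Theorem. Let `H` be a primitive permutation group on a finite set whose unique minimal normal subgroup `N` is non-abelian, and `K` a point stabiliser. Then there are a non-abelian simple group `T` and an isomorphism `N ≃* T^m` (`m ≥ 1`) under which `K ⊓ N` becomes either a product `∏ K_i` of proper subgroups `K_i < T`, or the set of functions constant on each block of a partition of the index set into blocks of one common size `k ≥ 2`. -/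
theorem result {α : Type*} [Finite α] (H : Subgroup (Equiv.Perm α)) [MulAction.IsPreprimitive H α] (N : Subgroup H) [N.Normal] (hN : N ≠ ⊥) (hmin : ∀ M : Subgroup H, M.Normal → M ≤ N → M = ⊥ ∨ M = N) (huniq : ∀ L : Subgroup H, L.Normal → L ≠ ⊥ → (∀ M : Subgroup H, M.Normal → M ≤ L → M = ⊥ ∨ M = L) → L = N) (hnab : ¬ IsMulCommutative N) (a : α) : ∃ (T : Type) (_ : Group T) (m : ℕ) (e : N ≃* (Fin m → T)), IsSimpleGroup T ∧ ¬ IsMulCommutative T ∧ 0 < m ∧ ((∃ K : Fin m → Subgroup T, (∀ i, K i ≠ ⊤) ∧ ∀ n : N, (n : H) ∈ MulAction.stabilizer H a ↔ ∀ i, e n i ∈ K i) ∨ (∃ (k : ℕ) (c : Fin m → Fin m), 2 ≤ k ∧ (∀ j : Fin m, Nat.card {i : Fin m // c i = j} = k ∨ Nat.card {i : Fin m // c i = j} = 0) ∧ ∀ n : N, (n : H) ∈ MulAction.stabilizer H a ↔ ∀ i j : Fin m, c i = c j → e n i = e n j)) := by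
  classical
  haveI hNnt : Nontrivial N := (Subgroup.nontrivial_iff_ne_bot N).2 hN
  haveI : Nontrivial α := by
    by_contra hc
    rw [not_nontrivial_iff_subsingleton] at hc
    exact hN ((Subgroup.eq_bot_iff_forall _).2 fun g _ => Subsingleton.elim g 1)
  obtain ⟨T₀, hT₀, m, hm, ⟨f₀⟩⟩ := PermB.exists_simple_power (K := N) fun M hM => by
    have hMn : (M.map N.subtype).Normal := ⟨by
      rintro _ ⟨x, hx, rfl⟩ h
      exact ⟨MulAut.conjNormal h x, hM _ trivial x hx, by simp⟩⟩
    rcases hmin _ hMn (Subgroup.map_subtype_le M) with h | h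
    · exact Or.inl ((Subgroup.map_eq_bot_iff_of_injective M N.subtype_injective).1 h)
    · refine Or.inr (Subgroup.map_injective N.subtype_injective ?_)
      rw [h, ← MonoidHom.range_eq_map, Subgroup.range_subtype]
  haveI : Nontrivial T₀ := hT₀.toNontrivial
  let T : Type := Shrink.{0} T₀
  let s : T ≃* T₀ := Shrink.mulEquiv
  haveI : Nontrivial T := s.toEquiv.nontrivial
  haveI hTs : IsSimpleGroup T :=
    IsSimpleGroup.isSimpleGroup_of_surjective s.symm.toMonoidHom s.symm.surjective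
  haveI : Finite T := Finite.of_equiv T₀ s.symm.toEquiv
  let e : N ≃* (Fin m → T) := f₀.trans (MulEquiv.piCongrRight fun _ => s.symm)
  have hna : ¬ IsMulCommutative T := fun hc => hnab ⟨⟨fun x y => e.injective (by
    rw [map_mul, map_mul]
    exact funext fun i => hc.is_comm.comm _ _)⟩⟩
  set K := MulAction.stabilizer H a with hKdef
  -- conjugation in coordinates
  let ψ : H → (Fin m → T) ≃* (Fin m → T) := fun h => e.symm.trans ((MulAut.conjNormal h).trans e)
  have hψmul : ∀ h h' x, ψ (h * h') x = ψ h (ψ h' x) := fun h h' x => by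
    simp [ψ, map_mul, MulAut.mul_apply]
  have hψone : ∀ x, ψ 1 x = x := fun x => by simp [ψ]
  have hψN : ∀ (n : N) x, ψ (n : H) x = e n * x * (e n)⁻¹ := fun n x => by
    have h1 : MulAut.conjNormal (n : H) (e.symm x) = n * e.symm x * n⁻¹ := Subtype.ext (by simp)
    simp [ψ, h1, map_mul]
  choose σ φ hφ using fun h => MaxSub.CompLen.mulEquiv_factor hna (ψ h)
  obtain ⟨t₀, ht₀⟩ := exists_ne (1 : T)
  have huniq' : ∀ {i j : Fin m} {θ θ' : T ≃* T}, (∀ x : Fin m → T, θ (x i) = θ' (x j)) → i = j := by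
    intro i j θ θ' hh
    by_contra hne
    have h1 := hh (Pi.mulSingle i t₀)
    rw [Pi.mulSingle_eq_same, Pi.mulSingle_eq_of_ne (Ne.symm hne), map_one] at h1
    exact ht₀ (θ.injective (h1.trans (map_one θ).symm))
  have hσmul : ∀ h h' i, σ (h * h') i = σ h' (σ h i) := fun h h' i => by
    refine huniq' (θ := φ (h * h') i) (θ' := (φ h' (σ h i)).trans (φ h i)) fun x => ?_
    rw [← hφ, hψmul, hφ, hφ]
    rfl
  have hσone : ∀ i, σ 1 i = i := fun i => by
    refine huniq' (θ := φ 1 i) (θ' := MulEquiv.refl T) fun x => ?_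
    rw [← hφ, hψone]
    rfl
  -- `H = K N`
  have hmax : IsCoatom K := MulAction.IsPreprimitive.isCoatom_stabilizer_of_isPreprimitive (G := H) a
  have hNK : ¬ N ≤ K := by
    intro hle
    refine hN ((Subgroup.eq_bot_iff_forall _).2 fun n hn => ?_)
    refine Subtype.ext (Equiv.ext fun b => ?_)
    obtain ⟨g, hg⟩ := MulAction.exists_smul_eq H a b
    have h2 : (g⁻¹ * n * g) • a = a := MulAction.mem_stabilizer_iff.1
      (hle (by simpa using (inferInstance : N.Normal).conj_mem n hn g⁻¹))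
    rw [mul_smul, mul_smul, inv_smul_eq_iff, hg] at h2
    exact h2
  have htopKN : K ⊔ N = ⊤ := hmax.2 _ (lt_of_le_of_ne le_sup_left fun h => hNK (h ▸ le_sup_right))
  have hdec : ∀ h : H, ∃ k ∈ K, ∃ n : N, h = k * n := by
    intro h
    have h1 : h ∈ K ⊔ N := htopKN ▸ Subgroup.mem_top h
    obtain ⟨k, hk, n, hn, rfl⟩ := Subgroup.mem_sup_of_normal_right.1 h1
    exact ⟨k, hk, ⟨n, hn⟩, rfl⟩
  -- transitivity on coordinates
  have htrans : ∀ i j : Fin m, ∃ k ∈ K, σ k i = j := by
    intro i₁ j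
    let S : Set (Fin m) := {i | ∃ k ∈ K, σ k i = j}
    let U : Subgroup (Fin m → T) :=
      { carrier := {x | ∀ i, i ∉ S → x i = 1}
        one_mem' := fun _ _ => rfl
        mul_mem' := fun hx hy i hi => by simp [hx i hi, hy i hi]
        inv_mem' := fun hx i hi => by simp [hx i hi] }
    have hU : ∀ h : H, ∀ x ∈ U, ψ h x ∈ U := by
      intro h x hx
      obtain ⟨k, hk, n, rfl⟩ := hdec h
      rw [hψmul]
      have hy : ψ (n : H) x ∈ U := fun i hi => by
        rw [hψN, Pi.mul_apply, Pi.mul_apply, Pi.inv_apply, hx i hi, mul_one]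
        exact mul_inv_cancel _
      intro i hi
      rw [hφ, hy _ (fun hS => hi ?_), map_one]
      obtain ⟨k', hk', he⟩ := hS
      exact ⟨k * k', mul_mem hk hk', by rw [hσmul, he]⟩
    have hR : ((U.comap e.toMonoidHom).map N.subtype).Normal := ⟨by
      rintro _ ⟨x, hx, rfl⟩ h
      refine ⟨MulAut.conjNormal h x, ?_, by simp⟩
      have h1 := hU h (e x) hx
      simpa [ψ] using h1⟩
    rcases hmin _ hR (Subgroup.map_subtype_le _) with h | h
    · exfalso
      have hmem : e.symm (Pi.mulSingle j t₀) ∈ U.comap e.toMonoidHom := by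
        show e (e.symm _) ∈ U
        rw [MulEquiv.apply_symm_apply]
        exact fun i hi => Pi.mulSingle_eq_of_ne (fun hij => hi ⟨1, one_mem _, by rw [hσone, hij]⟩) _
      rw [(Subgroup.map_eq_bot_iff_of_injective _ N.subtype_injective).1 h, Subgroup.mem_bot,
        MulEquiv.map_eq_one_iff] at hmem
      exact ht₀ (Pi.mulSingle_eq_one_iff.1 hmem)
    · by_contra hno
      have h2 : ((e.symm (Pi.mulSingle i₁ t₀) : N) : H) ∈ (U.comap e.toMonoidHom).map N.subtype :=
        h.symm ▸ (e.symm _).2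
      obtain ⟨y, hy, hy'⟩ := h2
      rw [Subtype.ext hy' ] at hy
      have h3 : e (e.symm (Pi.mulSingle i₁ t₀)) i₁ = 1 := hy i₁ hno
      rw [MulEquiv.apply_symm_apply, Pi.mulSingle_eq_same] at h3
      exact ht₀ h3
  -- the stabiliser in coordinates
  let L : Subgroup (Fin m → T) := (K.subgroupOf N).map e.toMonoidHom
  have hL : ∀ n : N, (n : H) ∈ K ↔ e n ∈ L := fun n =>
    ⟨fun h => ⟨n, h, rfl⟩, fun ⟨y, hy, hy'⟩ => e.injective hy' ▸ hy⟩
  have hLinv : ∀ k ∈ K, ∀ x ∈ L, ψ k x ∈ L := by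
    rintro k hk _ ⟨y, hy, rfl⟩
    show ψ k (e y) ∈ L
    rw [show ψ k (e y) = e (MulAut.conjNormal k y) by simp [ψ]]
    refine (hL _).1 ?_
    rw [MulAut.conjNormal_apply]
    exact mul_mem (mul_mem hk hy) (inv_mem hk)
  have hLmax : ∀ X : Subgroup (Fin m → T), L ≤ X → (∀ k ∈ K, ∀ x ∈ X, ψ k x ∈ X) → X = L ∨ X = ⊤ := by
    intro X hLX hXinv
    have h1 := S0722.result H N hN hmin a ((X.comap e.toMonoidHom).map N.subtype)
      (Subgroup.map_subtype_le _) (fun x hx => ⟨⟨x, hx.2⟩, hLX ((hL _).1 hx.1), rfl⟩)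
      (fun k hk => by
        have hle : ∀ k ∈ K, ∀ z ∈ (X.comap e.toMonoidHom).map N.subtype,
            k * z * k⁻¹ ∈ (X.comap e.toMonoidHom).map N.subtype := by
          rintro k hk _ ⟨y, hy, rfl⟩
          refine ⟨MulAut.conjNormal k y, ?_, by simp⟩
          have h1 := hXinv k hk (e y) hy
          simpa [ψ] using h1
        refine Subgroup.mem_normalizer_iff.2 fun z => ⟨hle k hk z, fun hz => ?_⟩
        simpa [mul_assoc] using hle k⁻¹ (inv_mem hk) _ hz)
    rcases h1 with h | h
    · refine Or.inl (le_antisymm (fun x hx => ?_) hLX)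
      have h2 : ((e.symm x : N) : H) ∈ (X.comap e.toMonoidHom).map N.subtype :=
        ⟨e.symm x, by simpa using hx, rfl⟩
      rw [h] at h2
      simpa using (hL _).1 h2.1
    · refine Or.inr (eq_top_iff.2 fun x _ => ?_)
      obtain ⟨y, hy, hy'⟩ : ((e.symm x : N) : H) ∈ (X.comap e.toMonoidHom).map N.subtype :=
        h.symm ▸ (e.symm x).2
      rw [Subtype.ext hy'] at hy
      simpa using hy
  let P : Fin m → Subgroup T := fun i => L.map (Pi.evalMonoidHom (fun _ => T) i)
  have hP : ∀ k ∈ K, ∀ i, ∀ t ∈ P (σ k i), φ k i t ∈ P i := by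
    rintro k hk i _ ⟨x, hx, rfl⟩
    exact ⟨ψ k x, hLinv k hk x hx, hφ k x i⟩
  by_cases hfull : ∀ i, P i = ⊤
  · have hsub : ∀ i, ∀ t : T, ∃ x ∈ L, x i = t := fun i t => by
      have h := Subgroup.mem_top t
      rw [← hfull i] at h
      exact h
    let r := FG72.Scott.Linked L
    let c : Fin m → Fin m := fun i => (Quotient.mk r i).out
    have hc : ∀ i j, c i = c j ↔ r.r i j := fun i j => by
      rw [Quotient.out_inj, Quotient.eq]
    have hci : ∀ i, r.r i (c i) := fun i => r.iseqv.symm (Quotient.exact (Quotient.out_eq _))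
    have hcc : ∀ i, c (c i) = c i := fun i => ((hc _ _).2 (hci i)).symm
    choose θ hθ using fun i => FG72.Scott.exists_link L hsub (hci i)
    let e' : N ≃* (Fin m → T) := e.trans (MulEquiv.piCongrRight θ)
    refine ⟨T, inferInstance, m, e', hTs, hna, hm, Or.inr ?_⟩
    let cls : Fin m → ℕ := fun j => Nat.card {i : Fin m // r.r i j}
    have hcls : ∀ i j, cls i = cls j := by
      intro i j
      obtain ⟨k, hk, rfl⟩ := htrans i j
      refine Nat.card_congr (Equiv.subtypeEquiv (σ k) fun l => ⟨fun h x hx => ?_, fun h x hx => ?_⟩)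
      · have h1 := h _ (hLinv k hk x hx)
        rwa [hφ, hφ, MulEquiv.map_eq_one_iff, MulEquiv.map_eq_one_iff] at h1
      · have e1 : x = ψ k (ψ k⁻¹ x) := by rw [← hψmul, mul_inv_cancel, hψone]
        rw [e1, hφ k, hφ k, MulEquiv.map_eq_one_iff, MulEquiv.map_eq_one_iff]
        exact h _ (hLinv _ (inv_mem hk) x hx)
    let i₀ : Fin m := ⟨0, hm⟩
    have hkey : ∀ x, x ∈ L ↔ ∀ i j : Fin m, c i = c j → θ i (x i) = θ j (x j) := by
      intro x
      refine ⟨fun hx i j hij => by rw [← hθ i x hx, ← hθ j x hx, hij], fun hx => ?_⟩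
      obtain ⟨y, hy, hy'⟩ := FG72.Scott.exists_prescribed hna L hsub (Finset.univ.image c)
        (by
          simp only [Finset.mem_image, Finset.mem_univ, true_and]
          rintro _ ⟨i, rfl⟩ _ ⟨j, rfl⟩ hr
          rw [← hcc i, ← hcc j]
          exact (hc _ _).2 hr)
        (fun l => θ l (x l))
      suffices y = x from this ▸ hy
      funext i
      refine (θ i).injective ?_
      rw [← hθ i y hy, hy' (c i) (Finset.mem_image_of_mem c (Finset.mem_univ i))]
      exact hx (c i) i (hcc i)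
    refine ⟨cls i₀, c, ?_, fun j => ?_, fun n => ?_⟩
    · by_contra hlt
      refine hNK fun n hn => (hL ⟨n, hn⟩).2 ((hkey _).2 fun i j hij => ?_)
      have hsub1 : Subsingleton {l : Fin m // r.r l j} :=
        Finite.card_le_one_iff_subsingleton.1 (by
          change cls j ≤ 1
          rw [hcls j i₀]; omega)
      have hij' : i = j := congrArg Subtype.val
        (@Subsingleton.elim _ hsub1 ⟨i, (hc i j).1 hij⟩ ⟨j, r.iseqv.refl j⟩)
      subst hij'
      rfl
    · by_cases hex : ∃ i, c i = j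
      · obtain ⟨i, rfl⟩ := hex
        left
        rw [← hcls i i₀]
        exact Nat.card_congr (Equiv.subtypeEquivRight fun l => hc l i)
      · right
        haveI : IsEmpty {i : Fin m // c i = j} := ⟨fun l => hex ⟨l.1, l.2⟩⟩
        exact Nat.card_of_isEmpty
    · show (n : H) ∈ K ↔ _
      rw [hL, hkey]
      rfl
  · refine ⟨T, inferInstance, m, e, hTs, hna, hm, Or.inl ⟨P, ?_, ?_⟩⟩
    · intro i hi
      refine hfull fun j => eq_top_iff.2 fun t _ => ?_
      obtain ⟨k, hk, rfl⟩ := htrans j i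
      have h1 := hP k hk j ((φ k j).symm t) (hi.symm ▸ Subgroup.mem_top _)
      rwa [MulEquiv.apply_symm_apply] at h1
    · let Q : Subgroup (Fin m → T) := ⨅ i, (P i).comap (Pi.evalMonoidHom (fun _ => T) i)
      have hQ : ∀ {x}, x ∈ Q ↔ ∀ i, x i ∈ P i := by simp [Q, Subgroup.mem_iInf]
      have hpi : Q = L := by
        refine (hLmax Q (fun x hx => hQ.2 fun i => ⟨x, hx, rfl⟩)
          fun k hk x hx => hQ.2 fun i => ?_).resolve_right ?_
        · rw [hφ]
          exact hP k hk i _ (hQ.1 hx _)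
        · intro htop
          refine hfull fun i => eq_top_iff.2 fun t _ => ?_
          have h1 : (Pi.mulSingle i t : Fin m → T) ∈ Q := htop ▸ Subgroup.mem_top _
          simpa using hQ.1 h1 i
      intro n
      show (n : H) ∈ K ↔ _
      rw [hL, ← hpi]
      exact hQ

end Cfsg.Agent.S0723
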