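import Cfsg.Statements.S0724
import Mathlib.GroupTheory.GroupAction.Quotient
import Mathlib.Algebra.BigOperators.Ring.Finset
import Mathlib.Tactic.Ring

set_option autoImplicit false
open Cfsg

namespace Cfsg.Agent.S0724

/-- Blichfeldt's Theorem: if a finite set `L` of natural numbers contains the number of fixed points of every non-identity element of a permutation group `G` of degree `n`, then the order of `G` divides `∏ (n - l)` over `l ∈ L`. -/
theorem result {α : Type*} [Fintype α] [DecidableEq α] (G : Subgroup (Equiv.Perm α)) (L : Finset ℕ) (hL : ∀ g ∈ G, g ≠ 1 → Nat.card (MulAction.fixedBy α g) ∈ L) : Nat.card G ∣ ∏ l ∈ L, (Fintype.card α - l) := by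
  classical
  by_cases hbig : ∃ l ∈ L, Fintype.card α ≤ l
  · obtain ⟨l, hl, hle⟩ := hbig
    rw [Finset.prod_eq_zero hl (by omega)]
    exact dvd_zero _
  push_neg at hbig
  haveI := Fintype.ofFinite G
  have key : ∀ (M : Finset ℕ) (β : Type u_1) [Fintype β] [MulAction G β],
      (Nat.card G : ℤ) ∣ ∑ g : G, (Nat.card (MulAction.fixedBy β g) : ℤ) *
        ∏ l ∈ M, ((Nat.card (MulAction.fixedBy α g) : ℤ) - l) := by
    intro M
    induction M using Finset.induction_on with
    | empty =>
      intro β _ _
      simp only [Finset.prod_empty, mul_one, Nat.card_eq_fintype_card]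
      rw [← Nat.cast_sum, MulAction.sum_card_fixedBy_eq_card_orbits_mul_card_group]
      exact Int.natCast_dvd_natCast.mpr (dvd_mul_left _ _)
    | insert l M hl ih =>
      intro β _ _
      have h1 := ih (β × α)
      have h2 := ih β
      have : ∀ g : G, (Nat.card (MulAction.fixedBy β g) : ℤ) *
          ∏ k ∈ insert l M, ((Nat.card (MulAction.fixedBy α g) : ℤ) - k)
          = (Nat.card (MulAction.fixedBy (β × α) g) : ℤ) *
              ∏ k ∈ M, ((Nat.card (MulAction.fixedBy α g) : ℤ) - k)
            - (l : ℤ) * ((Nat.card (MulAction.fixedBy β g) : ℤ) *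
              ∏ k ∈ M, ((Nat.card (MulAction.fixedBy α g) : ℤ) - k)) := by
        intro g
        have e : Nat.card (MulAction.fixedBy (β × α) g) =
            Nat.card (MulAction.fixedBy β g) * Nat.card (MulAction.fixedBy α g) := by
          rw [← Nat.card_prod]
          exact Nat.card_congr {
            toFun := fun x => (⟨x.1.1, congrArg Prod.fst x.2⟩, ⟨x.1.2, congrArg Prod.snd x.2⟩)
            invFun := fun x => ⟨(x.1.1, x.2.1), Prod.ext x.1.2 x.2.2⟩
            left_inv := fun _ => rfl
            right_inv := fun _ => rfl }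
        rw [Finset.prod_insert hl, e]
        push_cast
        ring
      simp only [this, Finset.sum_sub_distrib, ← Finset.mul_sum]
      exact dvd_sub h1 (h2.mul_left _)
  let _ : MulAction G PUnit.{u_1+1} :=
    { smul := fun _ x => x, one_smul := fun _ => rfl, mul_smul := fun _ _ _ => rfl }
  have h := key L PUnit.{u_1+1}
  have e1 : ∀ g : G, Nat.card (MulAction.fixedBy PUnit.{u_1+1} g) = 1 := by
    intro g
    rw [Nat.card_eq_one_iff_unique]
    exact ⟨inferInstance, ⟨⟨PUnit.unit, rfl⟩⟩⟩
  simp only [e1, Nat.cast_one, one_mul] at h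
  rw [Finset.sum_eq_single (1 : G)] at h
  · rw [← Int.natCast_dvd_natCast, Nat.cast_prod]
    convert h using 2 with l hl
    rw [Nat.cast_sub (hbig l hl).le]
    congr 2
    rw [MulAction.fixedBy_one_eq_univ]
    simp [Nat.card_eq_fintype_card]
    exact (Fintype.card_congr (Equiv.Set.univ α)).symm
  · intro g _ hg
    have hg' : (g : Equiv.Perm α) ≠ 1 := fun e => hg (Subtype.ext e)
    apply Finset.prod_eq_zero (hL g g.2 hg')
    simp only [sub_eq_zero]
    rfl
  · simp

end Cfsg.Agent.S0724
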