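import Cfsg.Statements.S0726
import Mathlib.GroupTheory.GroupAction.Transitive

set_option autoImplicit false
open Cfsg

namespace Cfsg.Agent.S0726

/-- The left and right regular permutation representations of a group are each other's centralisers in the symmetric group: the centraliser of the left regular image is the right regular image, and a transitive subgroup centralising the left regular image is the whole right regular image. -/
theorem result {G : Type*} [Group G] : Subgroup.centralizer ((MulAction.toPermHom G G).range : Set (Equiv.Perm G)) = (MulAction.toPermHom Gᵐᵒᵖ G).range ∧ ∀ H : Subgroup (Equiv.Perm G), H ≤ Subgroup.centralizer ((MulAction.toPermHom G G).range : Set (Equiv.Perm G)) → MulAction.IsPretransitive H G → H = (MulAction.toPermHom Gᵐᵒᵖ G).range := by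
  have key : ∀ σ : Equiv.Perm G,
      σ ∈ Subgroup.centralizer ((MulAction.toPermHom G G).range : Set (Equiv.Perm G)) →
      ∀ x : G, σ x = x * σ 1 := by
    intro σ hσ x
    have := Subgroup.mem_centralizer_iff.mp hσ _ ⟨x, rfl⟩
    have := congrArg (fun f : Equiv.Perm G => f 1) this
    simpa using this.symm
  have hcent : Subgroup.centralizer ((MulAction.toPermHom G G).range : Set (Equiv.Perm G))
      = (MulAction.toPermHom Gᵐᵒᵖ G).range := by
    ext σ
    constructor
    · intro hσ
      exact ⟨MulOpposite.op (σ 1), Equiv.ext fun x => by simpa using (key σ hσ x).symm⟩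
    · rintro ⟨c, rfl⟩
      rw [Subgroup.mem_centralizer_iff]
      rintro _ ⟨g, rfl⟩
      ext x
      simp [mul_assoc]
  refine ⟨hcent, fun H hH hT => le_antisymm (hcent ▸ hH) ?_⟩
  rintro _ ⟨c, rfl⟩
  obtain ⟨σ, hσ⟩ := MulAction.exists_smul_eq H (1 : G) c.unop
  have hσ' : (σ : Equiv.Perm G) 1 = c.unop := hσ
  have hmem : MulAction.toPermHom Gᵐᵒᵖ G c = (σ : Equiv.Perm G) := by
    ext x
    simp [key _ (hH σ.2) x, hσ']
  rw [hmem]
  exact σ.2

end Cfsg.Agent.S0726
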