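import Cfsg.Statements.S0728
import Mathlib.GroupTheory.GroupAction.MultipleTransitivity
import Mathlib.GroupTheory.Perm.Cycle.Type
import Mathlib.GroupTheory.PGroup
import Mathlib.Data.Fintype.CardEmbedding
import Mathlib.GroupTheory.GroupAction.FixedPoints
import Mathlib.Tactic.Ring

set_option autoImplicit false
open Cfsg

namespace Cfsg.Agent.S0728

/-- In a sharply triply transitive group of even degree at least 6 (degree `q + 1`, `q` odd), a two-point stabiliser has at most one subgroup of order 3. -/
theorem result {α : Type*} [Fintype α] [DecidableEq α] (heven : Even (Fintype.card α)) (h6 : 6 ≤ Fintype.card α) (G : Subgroup (Equiv.Perm α)) (h3 : MulAction.IsMultiplyPretransitive G α 3) (hsharp : ∀ x : Fin 3 ↪ α, MulAction.stabilizer G x = ⊥) {a b : α} (hab : a ≠ b) (A B : Subgroup G) (hA : A ≤ MulAction.stabilizer G a ⊓ MulAction.stabilizer G b) (hB : B ≤ MulAction.stabilizer G a ⊓ MulAction.stabilizer G b) (hA3 : Nat.card A = 3) (hB3 : Nat.card B = 3) : A = B := by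
  classical
  haveI : Fintype G := Fintype.ofFinite G
  haveI : Fact (Nat.Prime 3) := ⟨Nat.prime_three⟩
  have heq1 : ∀ (g : G) (u v w : α), u ≠ v → v ≠ w → u ≠ w →
      g • u = u → g • v = v → g • w = w → g = 1 := by
    intro g u v w huv hvw huw h1 h2 h3'
    have hinj : Function.Injective ![u, v, w] := by
      intro i j hij
      fin_cases i <;> fin_cases j <;> simp_all
    have hm : g ∈ MulAction.stabilizer G (⟨![u, v, w], hinj⟩ : Fin 3 ↪ α) := by
      rw [MulAction.mem_stabilizer_iff]
      ext i
      fin_cases i
      · exact h1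
      · exact h2
      · exact h3'
    rw [hsharp] at hm
    exact Subgroup.mem_bot.mp hm
  set T : Finset G := Finset.univ.filter (fun g => orderOf g = 3) with hT
  set mv : G → Finset α := fun g => Finset.univ.filter (fun x => g • x ≠ x) with hmv
  set fx : G → Finset α := fun g => Finset.univ.filter (fun x => g • x = x) with hfx
  set P : α → α → Finset G := fun u v => T.filter (fun g => g • u = u ∧ g • v = v) with hP
  have hmemT : ∀ g, g ∈ T ↔ orderOf g = 3 := fun g => by simp [hT]
  have hcube : ∀ g ∈ T, ∀ x : α, g • g • g • x = x := by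
    intro g hg x
    rw [← mul_smul, ← mul_smul]
    have : g * g * g = g ^ 3 := by rw [pow_succ, pow_two]
    rw [this, ← (hmemT g).mp hg, pow_orderOf_eq_one, one_smul]
  have hmod : ∀ g ∈ T, (fx g).card % 3 = Fintype.card α % 3 := by
    intro g hg
    have hp : IsPGroup 3 (Subgroup.zpowers g) := IsPGroup.of_card (n := 1) (by
      rw [Nat.card_zpowers, (hmemT g).mp hg, pow_one])
    have h1 := hp.card_modEq_card_fixedPoints α
    have e : Nat.card (MulAction.fixedPoints (Subgroup.zpowers g) α) = (fx g).card := by
      rw [Nat.card_eq_fintype_card, Fintype.card_subtype]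
      congr 1
      ext x
      simp only [hfx, Finset.mem_filter, Finset.mem_univ, true_and, MulAction.mem_fixedPoints]
      exact ⟨fun h => h ⟨g, Subgroup.mem_zpowers g⟩,
        fun h k => by
          obtain ⟨j, hj⟩ := Subgroup.mem_zpowers_iff.mp k.2
          have h' : (k : G) • x = x := by
            rw [← hj]; exact MulAction.fixedBy_subset_fixedBy_zpow α g j h
          exact h'⟩
    rw [e, Nat.card_eq_fintype_card] at h1
    exact h1.symm
  have hfix_le : ∀ g ∈ T, (fx g).card ≤ 2 := by
    intro g hg
    by_contra hc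
    obtain ⟨u, v, w, hu, hv, hw, huv, huw, hvw⟩ := Finset.two_lt_card_iff.mp (not_le.mp hc)
    simp only [hfx, Finset.mem_filter, Finset.mem_univ, true_and] at hu hv hw
    have := heq1 g u v w huv hvw huw hu hv hw
    rw [hmemT, this, orderOf_one] at hg
    omega
  obtain ⟨h, hhA, hh3⟩ : ∃ h ∈ A, orderOf h = 3 := by
    obtain ⟨y, hy⟩ := exists_prime_orderOf_dvd_card' (G := A) 3 (by rw [hA3])
    exact ⟨y, y.2, by rw [Subgroup.orderOf_coe]; exact hy⟩
  have hn : Fintype.card α % 3 = 2 := by
    rw [← hmod h ((hmemT h).mpr hh3)]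
    have h1 : ({a, b} : Finset α) ⊆ fx h := by
      intro z hz
      simp only [Finset.mem_insert, Finset.mem_singleton] at hz
      simp only [hfx, Finset.mem_filter, Finset.mem_univ, true_and]
      rcases hz with rfl | rfl
      · exact (Subgroup.mem_inf.mp (hA hhA)).1
      · exact (Subgroup.mem_inf.mp (hA hhA)).2
    have h2 := Finset.card_le_card h1
    rw [Finset.card_pair hab] at h2
    have := hfix_le h ((hmemT h).mpr hh3)
    omega
  have hfix2 : ∀ g ∈ T, (fx g).card = 2 := fun g hg => by
    have := hmod g hg; have := hfix_le g hg; omega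
  have hmvc : ∀ g ∈ T, (mv g).card = Fintype.card α - 2 := by
    intro g hg
    have h1 := Finset.card_filter_add_card_filter_not (s := (Finset.univ : Finset α))
      (fun x => g • x = x)
    rw [Finset.card_univ] at h1
    have h2 := hfix2 g hg
    simp only [hfx] at h2
    simp only [hmv, Ne]
    omega
  rw [MulAction.isMultiplyPretransitive_iff] at h3
  -- the moved points of elements of order three correspond to ordered triples
  have hcount : (T.sigma mv).card = Fintype.card (Fin 3 ↪ α) := by
    rw [← Finset.card_univ]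
    refine Finset.card_bij (fun gx hgx => (⟨![gx.2, gx.1 • gx.2, gx.1 • gx.1 • gx.2], ?_⟩ : Fin 3 ↪ α))
      (fun _ _ => Finset.mem_univ _) ?_ ?_
    · simp only [Finset.mem_sigma, hmv, Finset.mem_filter, Finset.mem_univ, true_and] at hgx
      have h1 := hgx.2
      have h2 : gx.1 • gx.1 • gx.2 ≠ gx.2 := by
        intro e
        apply h1
        have h4 := hcube gx.1 hgx.1 gx.2
        rw [e] at h4
        exact h4
      have h4 : gx.1 • gx.1 • gx.2 ≠ gx.1 • gx.2 := fun e => h1 (MulAction.injective gx.1 e)
      intro i j hij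
      fin_cases i <;> fin_cases j <;>
        first
          | rfl
          | exact absurd hij h1 | exact absurd hij.symm h1
          | exact absurd hij h2 | exact absurd hij.symm h2
          | exact absurd hij h4 | exact absurd hij.symm h4
    · rintro ⟨g, x⟩ hg ⟨g', x'⟩ hg' he
      have e0 : x = x' := congrArg (fun (f : Fin 3 ↪ α) => f 0) he
      have e1 : g • x = g' • x' := congrArg (fun (f : Fin 3 ↪ α) => f 1) he
      have e2 : g • g • x = g' • g' • x' := congrArg (fun (f : Fin 3 ↪ α) => f 2) he
      subst e0
      simp only [Finset.mem_sigma, hmv, Finset.mem_filter, Finset.mem_univ, true_and] at hg hg'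
      have h1 := hg.2
      have h2 : g • g • x ≠ x := by
        intro e; apply h1; have h4 := hcube g hg.1 x; rwa [e] at h4
      have : g'⁻¹ * g = 1 := heq1 _ x (g • x) (g • g • x) (Ne.symm h1)
        (fun e => h1 (MulAction.injective g e.symm)) (Ne.symm h2)
        (by rw [mul_smul, inv_smul_eq_iff]; exact e1)
        (by rw [mul_smul, inv_smul_eq_iff, e2]; rw [e1])
        (by rw [mul_smul, inv_smul_eq_iff, hcube g hg.1, e2, hcube g' hg'.1])
      rw [inv_mul_eq_one] at this
      subst this
      rfl
    · intro t _
      have hi : Function.Injective (fun i : Fin 3 => t (i + 1)) :=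
        fun i j hij => add_right_cancel (t.injective hij)
      obtain ⟨g, hg⟩ := h3 t ⟨_, hi⟩
      have hg' : ∀ i, g • t i = t (i + 1) := fun i => congrArg (fun (f : Fin 3 ↪ α) => f i) hg
      have e0 : g • t 0 = t 1 := hg' 0
      have e1 : g • t 1 = t 2 := hg' 1
      have e2 : g • t 2 = t 0 := hg' 2
      have h3g : g ^ 3 = 1 := by
        refine heq1 _ (t 0) (t 1) (t 2) (t.injective.ne (by decide)) (t.injective.ne (by decide))
          (t.injective.ne (by decide)) ?_ ?_ ?_ <;>
        · simp only [pow_succ, pow_zero, one_mul, mul_smul, e0, e1, e2]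
      have hgord : orderOf g = 3 := by
        refine orderOf_eq_prime h3g ?_
        intro e
        rw [e, one_smul] at e0
        exact t.injective.ne (by decide : (0 : Fin 3) ≠ 1) e0
      refine ⟨⟨g, t 0⟩, Finset.mem_sigma.mpr ⟨(hmemT g).mpr hgord, ?_⟩, ?_⟩
      · simp only [hmv, Finset.mem_filter, Finset.mem_univ, true_and]
        rw [e0]
        exact t.injective.ne (by decide)
      · ext i
        fin_cases i
        · rfl
        · exact e0
        · show g • g • t 0 = t 2
          rw [e0, e1]
  set n := Fintype.card α with hnd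
  rw [Finset.card_sigma, Finset.sum_congr rfl hmvc, Finset.sum_const, smul_eq_mul,
    Fintype.card_embedding_eq, Fintype.card_fin, ← hnd] at hcount
  have hTc : T.card = n * (n - 1) := by
    have e : n.descFactorial 3 = n * (n - 1) * (n - 2) := by
      simp [Nat.descFactorial_succ, Nat.descFactorial_zero]; ring
    rw [e] at hcount
    exact Nat.eq_of_mul_eq_mul_right (by omega) hcount
  -- ordered pairs of fixed points
  have hpair : ∀ pq ∈ (Finset.univ : Finset α).offDiag, (P pq.1 pq.2).card = (P a b).card := by
    rintro ⟨u, v⟩ huv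
    simp only [Finset.mem_offDiag, Finset.mem_univ, true_and] at huv
    obtain ⟨w, -, hw⟩ := Finset.exists_mem_notMem_of_card_lt_card
      (show ({a, b} : Finset α).card < (Finset.univ : Finset α).card by
        rw [Finset.card_pair hab, Finset.card_univ]; omega)
    obtain ⟨w', -, hw'⟩ := Finset.exists_mem_notMem_of_card_lt_card
      (show ({u, v} : Finset α).card < (Finset.univ : Finset α).card by
        rw [Finset.card_pair huv, Finset.card_univ]; omega)
    simp only [Finset.mem_insert, Finset.mem_singleton, not_or] at hw hw'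
    obtain ⟨k, hk⟩ := h3 ⟨![a, b, w], by
        intro i j hij
        fin_cases i <;> fin_cases j <;>
          first
            | rfl
            | exact absurd hij hab | exact absurd hij.symm hab
            | exact absurd hij.symm hw.1 | exact absurd hij hw.1
            | exact absurd hij.symm hw.2 | exact absurd hij hw.2⟩
      ⟨![u, v, w'], by
        intro i j hij
        fin_cases i <;> fin_cases j <;>
          first
            | rfl
            | exact absurd hij huv | exact absurd hij.symm huv
            | exact absurd hij.symm hw'.1 | exact absurd hij hw'.1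
            | exact absurd hij.symm hw'.2 | exact absurd hij hw'.2⟩
    have k0 : k • a = u := congrArg (fun (f : Fin 3 ↪ α) => f 0) hk
    have k1 : k • b = v := congrArg (fun (f : Fin 3 ↪ α) => f 1) hk
    refine (Finset.card_bij (fun g _ => k * g * k⁻¹) ?_ ?_ ?_).symm
    · intro g hg
      simp only [hP, Finset.mem_filter, hmemT] at hg ⊢
      refine ⟨?_, ?_, ?_⟩
      · rw [← hg.1]
        exact orderOf_injective (MulAut.conj k).toMonoidHom (MulAut.conj k).injective g
      · rw [← k0, mul_smul, mul_smul, inv_smul_smul, hg.2.1]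
      · rw [← k1, mul_smul, mul_smul, inv_smul_smul, hg.2.2]
    · intro g _ g' _ e
      simpa using e
    · intro g hg
      simp only [hP, Finset.mem_filter, hmemT] at hg
      refine ⟨k⁻¹ * g * k, ?_, by group⟩
      simp only [hP, Finset.mem_filter, hmemT]
      refine ⟨?_, ?_, ?_⟩
      · rw [← hg.1]
        simpa using orderOf_injective (MulAut.conj k⁻¹).toMonoidHom (MulAut.conj k⁻¹).injective g
      · rw [mul_smul, mul_smul, k0, hg.2.1, ← k0, inv_smul_smul]
      · rw [mul_smul, mul_smul, k1, hg.2.2, ← k1, inv_smul_smul]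
  have hk2 : (P a b).card = 2 := by
    have h1 : ∑ pq ∈ (Finset.univ : Finset α).offDiag, (P pq.1 pq.2).card
        = ∑ g ∈ T, (fx g).offDiag.card := by
      simp only [hP, Finset.card_filter]
      rw [Finset.sum_comm]
      refine Finset.sum_congr rfl (fun g _ => ?_)
      rw [Finset.sum_boole, Nat.cast_id]
      congr 1
      ext ⟨u, v⟩
      simp only [hfx, Finset.mem_filter, Finset.mem_offDiag, Finset.mem_univ, true_and]
      tauto
    rw [Finset.sum_congr rfl hpair, Finset.sum_const, smul_eq_mul, Finset.offDiag_card,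
      Finset.card_univ, ← hnd,
      Finset.sum_congr rfl (fun g hg => by rw [Finset.offDiag_card, hfix2 g hg]),
      Finset.sum_const, smul_eq_mul, hTc] at h1
    have hnn : n * n - n = n * (n - 1) := by rw [Nat.mul_sub, mul_one]
    rw [hnn] at h1
    have hpos : 0 < n * (n - 1) := Nat.mul_pos (by omega) (by omega)
    exact Nat.eq_of_mul_eq_mul_left hpos (h1.trans (by norm_num))
  have hfin : ∀ C : Subgroup G, C ≤ MulAction.stabilizer G a ⊓ MulAction.stabilizer G b →
      Nat.card C = 3 → ∀ g ∈ P a b, g ∈ C := by
    intro C hC hC3 g hg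
    have hsub : (Finset.univ.filter fun x => x ∈ C ∧ x ≠ 1) ⊆ P a b := by
      intro x hx
      simp only [Finset.mem_filter, Finset.mem_univ, true_and] at hx
      simp only [hP, Finset.mem_filter, hmemT]
      have hx3 : orderOf (⟨x, hx.1⟩ : C) ∣ 3 := hC3 ▸ orderOf_dvd_natCard _
      rw [Subgroup.orderOf_mk] at hx3
      rcases (Nat.dvd_prime Fact.out).mp hx3 with e | e
      · exact absurd (orderOf_eq_one_iff.mp e) hx.2
      · exact ⟨e, (Subgroup.mem_inf.mp (hC hx.1)).1, (Subgroup.mem_inf.mp (hC hx.1)).2⟩
    have hc2 : (Finset.univ.filter fun x => x ∈ C ∧ x ≠ 1).card = 2 := by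
      have e : (Finset.univ.filter fun x => x ∈ C ∧ x ≠ 1)
          = (Finset.univ.filter fun x => x ∈ C).erase 1 := by
        ext x; simp [and_comm]
      rw [e, Finset.card_erase_of_mem (by simp), ← Fintype.card_subtype, ← Nat.card_eq_fintype_card]
      show Nat.card C - 1 = 2
      omega
    have heq := Finset.eq_of_subset_of_card_le hsub (by omega)
    rw [← heq] at hg
    exact (Finset.mem_filter.mp hg).2.1
  have hle : ∀ C D : Subgroup G, C ≤ MulAction.stabilizer G a ⊓ MulAction.stabilizer G b →
      D ≤ MulAction.stabilizer G a ⊓ MulAction.stabilizer G b → Nat.card C = 3 → Nat.card D = 3 →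
      C ≤ D := by
    intro C D hC hD hC3 hD3 x hx
    rcases eq_or_ne x 1 with rfl | hx1
    · exact one_mem D
    refine hfin D hD hD3 x ?_
    simp only [hP, Finset.mem_filter, hmemT]
    refine ⟨?_, (Subgroup.mem_inf.mp (hC hx)).1, (Subgroup.mem_inf.mp (hC hx)).2⟩
    have hx3 : orderOf (⟨x, hx⟩ : C) ∣ 3 := hC3 ▸ orderOf_dvd_natCard _
    rw [Subgroup.orderOf_mk] at hx3
    rcases (Nat.dvd_prime Fact.out).mp hx3 with e | e
    · exact absurd (orderOf_eq_one_iff.mp e) hx1
    · exact e
  exact le_antisymm (hle A B hA hB hA3 hB3) (hle B A hB hA hB3 hA3)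

end Cfsg.Agent.S0728
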