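import Cfsg.Statements.S0733
import Mathlib.GroupTheory.GroupAction.Primitive
import Mathlib.Algebra.Module.ZMod

set_option autoImplicit false
open Cfsg

namespace Cfsg.Agent.S0733

/-- A permutation group of affine type — generated by the translations of a finite vector space `V` over `ZMod p` together with a group `G₀` of linear automorphisms — is primitive on `V` if and only if `G₀` is irreducible on `V`. -/
theorem result {p : ℕ} [Fact p.Prime] {V : Type*} [AddCommGroup V] [Module (ZMod p) V] [Finite V] [Nontrivial V] (G₀ : Subgroup (V ≃ₗ[ZMod p] V)) (G : Subgroup (Equiv.Perm V)) (hG : ∀ σ : Equiv.Perm V, σ ∈ G ↔ ∃ g ∈ G₀, ∃ b : V, ∀ x : V, σ x = (g : V ≃ₗ[ZMod p] V) x + b) : MulAction.IsPreprimitive G V ↔ ∀ W : Submodule (ZMod p) V, (∀ g ∈ G₀, ∀ v ∈ W, (g : V ≃ₗ[ZMod p] V) v ∈ W) → W = ⊥ ∨ W = ⊤ := by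
  classical
  have htrans : ∀ b : V, ∃ τ : G, ∀ x : V, (τ : G) • x = x + b := by
    intro b
    refine ⟨⟨Equiv.addRight b, (hG _).mpr ⟨1, one_mem _, b, fun x => rfl⟩⟩, fun x => rfl⟩
  have hlin : ∀ g ∈ G₀, ∃ τ : G, ∀ x : V, (τ : G) • x = (g : V ≃ₗ[ZMod p] V) x := by
    intro g hg
    refine ⟨⟨g.toEquiv, (hG _).mpr ⟨g, hg, 0, fun x => (add_zero _).symm⟩⟩, fun x => rfl⟩
  have : MulAction.IsPretransitive G V := by
    refine (MulAction.isPretransitive_iff_base (0 : V)).mpr fun b => ?_
    obtain ⟨τ, hτ⟩ := htrans b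
    exact ⟨τ, by rw [hτ, zero_add]⟩
  constructor
  · intro hP W hW
    have hblock : MulAction.IsBlock G (W : Set V) := by
      rw [MulAction.isBlock_iff_smul_eq_of_nonempty]
      rintro ⟨σ, hσ⟩ ⟨z, ⟨w, hw, hwz⟩, hz⟩
      obtain ⟨g, hg, b, hb⟩ := (hG σ).mp hσ
      have hwz' : σ w = z := hwz
      rw [hb] at hwz'
      have hbW : b ∈ W := by
        have := W.sub_mem (hwz' ▸ hz : g w + b ∈ W) (hW g hg w hw)
        simpa using this
      ext x
      constructor
      · rintro ⟨y, hy, rfl⟩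
        show σ y ∈ W
        rw [hb]
        exact W.add_mem (hW g hg y hy) hbW
      · intro hx
        refine ⟨g.symm (x - b), hW g⁻¹ (inv_mem hg) (x - b) (W.sub_mem hx hbW), ?_⟩
        show σ _ = x
        rw [hb]
        simp
    rcases hP.isTrivialBlock_of_isBlock hblock with h | h
    · left
      rw [Submodule.eq_bot_iff]
      exact fun x hx => h hx W.zero_mem
    · right
      rw [eq_top_iff]
      exact fun x _ => (Set.ext_iff.mp h x).mpr trivial
  · intro hirr
    refine MulAction.IsPreprimitive.of_isTrivialBlock_base (0 : V) ?_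
    intro B h0 hB
    rw [MulAction.isBlock_iff_smul_eq_of_nonempty] at hB
    have hadd : ∀ b ∈ B, ∀ x ∈ B, x + b ∈ B := by
      intro b hb x hx
      obtain ⟨τ, hτ⟩ := htrans b
      rw [← hB (g := τ) ⟨b, ⟨0, h0, (hτ 0).trans (zero_add b)⟩, hb⟩]
      exact ⟨x, hx, hτ x⟩
    let S : AddSubmonoid V :=
      { carrier := B, zero_mem' := h0, add_mem' := fun {x y} hx hy => hadd y hy x hx }
    let W : Submodule (ZMod p) V :=
      { S with
        smul_mem' := fun c x hx => by
          show c • x ∈ S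
          rw [← ZMod.natCast_zmod_val c, Nat.cast_smul_eq_nsmul]
          exact S.nsmul_mem hx _ }
    have hW : ∀ g ∈ G₀, ∀ v ∈ W, (g : V ≃ₗ[ZMod p] V) v ∈ W := by
      intro g hg v hv
      obtain ⟨τ, hτ⟩ := hlin g hg
      show g v ∈ B
      rw [← hB (g := τ) ⟨0, ⟨0, h0, (hτ 0).trans (map_zero g)⟩, h0⟩]
      exact ⟨v, hv, hτ v⟩
    rcases hirr W hW with h | h
    · left
      intro x hx y hy
      have hx' : x ∈ W := hx
      have hy' : y ∈ W := hy
      rw [h, Submodule.mem_bot] at hx' hy'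
      rw [hx', hy']
    · right
      ext x
      simp only [Set.mem_univ, iff_true]
      show x ∈ W
      rw [h]
      trivial

end Cfsg.Agent.S0733
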