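import Cfsg.Statements.S0734
import Mathlib.GroupTheory.GroupAction.Primitive
import Mathlib.Combinatorics.SimpleGraph.Connectivity.Connected

set_option autoImplicit false
open Cfsg

namespace Cfsg.Agent.S0734

/-- Higman's criterion for primitivity: a transitive action on a finite set is primitive if and only if every non-trivial orbital graph (edges = images of a fixed pair of distinct points) is connected. -/
theorem result {G : Type*} [Group G] {Ω : Type*} [Finite Ω] [MulAction G Ω] [MulAction.IsPretransitive G Ω] [Nontrivial Ω] : MulAction.IsPreprimitive G Ω ↔ ∀ a b : Ω, a ≠ b → (SimpleGraph.fromRel fun x y : Ω => ∃ g : G, g • a = x ∧ g • b = y).Connected := by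
  classical
  constructor
  · intro hP a b hab
    set Γ := SimpleGraph.fromRel fun x y : Ω => ∃ g : G, g • a = x ∧ g • b = y with hΓ
    have hadj : ∀ (g : G) x y, Γ.Adj x y → Γ.Adj (g • x) (g • y) := by
      intro g x y hxy
      rw [hΓ, SimpleGraph.fromRel_adj] at hxy ⊢
      refine ⟨fun e => hxy.1 (MulAction.injective g e), ?_⟩
      rcases hxy.2 with ⟨h, h1, h2⟩ | ⟨h, h1, h2⟩
      · exact Or.inl ⟨g * h, by rw [mul_smul, h1], by rw [mul_smul, h2]⟩
      · exact Or.inr ⟨g * h, by rw [mul_smul, h1], by rw [mul_smul, h2]⟩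
    have hreach : ∀ (g : G) x y, Γ.Reachable x y → Γ.Reachable (g • x) (g • y) := by
      intro g x y hxy
      exact hxy.map ⟨fun z => g • z, fun {u v} h => hadj g u v h⟩
    set B : Set Ω := {x | Γ.Reachable a x} with hB
    have hblock : MulAction.IsBlock G B := by
      rw [MulAction.isBlock_iff_smul_eq_of_nonempty]
      intro g hne
      obtain ⟨z, hz1, hz2⟩ := hne
      rw [Set.mem_smul_set] at hz1
      obtain ⟨w, hw, rfl⟩ := hz1
      have hga : Γ.Reachable a (g • a) := hz2.trans (hreach g a w hw).symm
      ext x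
      constructor
      · rintro ⟨y, hy, rfl⟩
        exact hga.trans (hreach g a y hy)
      · intro hx
        refine ⟨g⁻¹ • x, ?_, smul_inv_smul g x⟩
        have h1 : Γ.Reachable (g • a) x := hga.symm.trans hx
        simpa [hB] using hreach g⁻¹ _ _ h1
    rcases MulAction.IsPreprimitive.isTrivialBlock_of_isBlock (G := G) hblock with h | h
    · exfalso
      apply hab
      apply h (SimpleGraph.Reachable.refl a)
      have : Γ.Adj a b := by
        rw [hΓ, SimpleGraph.fromRel_adj]
        exact ⟨hab, Or.inl ⟨1, one_smul _ _, one_smul _ _⟩⟩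
      exact this.reachable
    · constructor
      intro x y
      have hx : x ∈ B := h ▸ Set.mem_univ x
      have hy : y ∈ B := h ▸ Set.mem_univ y
      exact hx.symm.trans hy
  · intro hconn
    refine MulAction.IsPreprimitive.of_isTrivialBlock_base (Classical.arbitrary Ω) ?_
    intro B _ hB
    rw [MulAction.IsTrivialBlock, or_iff_not_imp_left, Set.not_subsingleton_iff]
    rintro ⟨a, ha, b, hb, hab⟩
    have step : ∀ x y, (SimpleGraph.fromRel fun x y : Ω =>
        ∃ g : G, g • a = x ∧ g • b = y).Adj x y → x ∈ B → y ∈ B := by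
      intro x y hxy hx
      rw [SimpleGraph.fromRel_adj] at hxy
      rw [MulAction.isBlock_iff_smul_eq_of_nonempty] at hB
      rcases hxy.2 with ⟨g, h1, h2⟩ | ⟨g, h1, h2⟩
      · rw [← hB (g := g) ⟨x, ⟨a, ha, h1⟩, hx⟩]
        exact ⟨b, hb, h2⟩
      · rw [← hB (g := g) ⟨x, ⟨b, hb, h2⟩, hx⟩]
        exact ⟨a, ha, h1⟩
    ext z
    simp only [Set.mem_univ, iff_true]
    obtain ⟨w⟩ := (hconn a b hab).preconnected a z
    have hw : ∀ (u v : Ω) (w : (SimpleGraph.fromRel fun x y : Ω =>
        ∃ g : G, g • a = x ∧ g • b = y).Walk u v), u ∈ B → v ∈ B := by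
      intro u v w
      induction w with
      | nil => exact id
      | cons h _ ih => exact fun hu => ih (step _ _ h hu)
    exact hw _ _ w ha

end Cfsg.Agent.S0734
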