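import Cfsg.Statements.S0740
import Cfsg.Agent.PermB.ZassSwap

set_option autoImplicit false
open Cfsg

namespace Cfsg.Agent.S0740

/-- In a finite Zassenhaus group any two points `a ≠ b` are swapped by an involution; every such involution has exactly one fixed point when the degree is odd and 0 or 2 fixed points when the degree is even; and if the two-point stabiliser has even order, some such involution has exactly 2 fixed points. -/
theorem result {G Ω : Type*} [Group G] [Finite G] [MulAction G Ω] [Fintype Ω] (hZ : Cfsg.IsZassenhausGroup G Ω) {a b : Ω} (hab : a ≠ b) : (∃ s : G, orderOf s = 2 ∧ s • a = b ∧ s • b = a) ∧ (∀ s : G, orderOf s = 2 → s • a = b → s • b = a → (Odd (Fintype.card Ω) → Nat.card (MulAction.fixedBy Ω s) = 1) ∧ (Even (Fintype.card Ω) → Nat.card (MulAction.fixedBy Ω s) = 0 ∨ Nat.card (MulAction.fixedBy Ω s) = 2)) ∧ (Even (Fintype.card Ω) → Even (Nat.card ↥(MulAction.stabilizer G a ⊓ MulAction.stabilizer G b)) → ∃ s : G, orderOf s = 2 ∧ s • a = b ∧ s • b = a ∧ Nat.card (MulAction.fixedBy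 Ω s) = 2) := by
  classical
  refine ⟨PermB.exists_involution_swap' hZ hab, fun s hs _ _ => ?_, fun hn hH => ?_⟩
  · obtain ⟨h1, h2, h3⟩ := PermB.nfix_involution hZ hs
    rw [PermB.natCard_fixedBy]
    rw [Nat.even_sub h3] at h2
    constructor
    · intro ho
      rw [← Nat.not_even_iff_odd, h2, Nat.not_even_iff_odd] at ho
      rcases ho with ⟨k, hk⟩
      omega
    · intro he
      rcases h2.1 he with ⟨k, hk⟩
      omega
  · obtain ⟨z, hz⟩ := exists_prime_orderOf_dvd_card' 2 (even_iff_two_dvd.1 hH)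
    have hz' : orderOf (z : G) = 2 := by rw [Subgroup.orderOf_coe, hz]
    obtain ⟨g, h1, h2, h3⟩ := PermB.exists_swap_conj hZ hz' hab
    refine ⟨_, h1, h2, h3, ?_⟩
    rw [PermB.natCard_fixedBy, CharDeep.Zass.nfix_conj]
    obtain ⟨hle, -, -⟩ := PermB.nfix_involution hZ hz'
    refine le_antisymm hle (Finset.one_lt_card.2 ⟨a, ?_, b, ?_, hab⟩)
    · simpa using z.2.1
    · simpa using z.2.2

end Cfsg.Agent.S0740
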