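import Cfsg.Statements.S0741
import Cfsg.Agent.PermB.ZassSwap

set_option autoImplicit false
open Cfsg

namespace Cfsg.Agent.S0741

/-- If the two-point stabilisers of a finite Zassenhaus group of degree `n + 1` have even order `d`, then `2d ≥ n - 1`. -/
theorem result {G Ω : Type*} [Group G] [Finite G] [MulAction G Ω] [Fintype Ω] (hZ : Cfsg.IsZassenhausGroup G Ω) {a b : Ω} (hab : a ≠ b) (heven : Even (Nat.card ↥(MulAction.stabilizer G a ⊓ MulAction.stabilizer G b))) : Fintype.card Ω - 2 ≤ 2 * Nat.card ↥(MulAction.stabilizer G a ⊓ MulAction.stabilizer G b) := by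
  classical
  have : Fintype G := Fintype.ofFinite G
  set N := Fintype.card Ω with hN
  set d := Nat.card ↥(MulAction.stabilizer G a ⊓ MulAction.stabilizer G b) with hd
  set I := Finset.univ.filter fun z : G => orderOf z = 2 ∧ CharDeep.Zass.nfix Ω z = 2 with hI
  let Fx : G → Finset Ω := fun z => Finset.univ.filter fun c => z • c = c
  have h3 : 3 ≤ N := CharDeep.Zass.three_le_card hZ hab
  have hoff : (Finset.univ : Finset Ω).offDiag.card = N * (N - 1) := by
    rw [Finset.offDiag_card, Finset.card_univ, Nat.mul_sub, mul_one]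
  have h1 : N * (N - 1) ≤ I.card * 2 := by
    rw [← hoff]
    refine le_trans (Finset.card_le_card (t := I.biUnion fun z => (Fx z).offDiag) ?_)
      (Finset.card_biUnion_le_card_mul _ _ 2 fun z hz => ?_)
    · rintro ⟨c, e⟩ hce
      simp only [Finset.mem_offDiag, Finset.mem_univ, true_and] at hce
      have hev : Even (Nat.card ↥(CharDeep.Zass.two G c e)) := by
        rw [CharDeep.Zass.card_two_eq hZ hab hce]
        exact heven
      obtain ⟨z, hz⟩ := exists_prime_orderOf_dvd_card' 2 (even_iff_two_dvd.1 hev)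
      have hz' : orderOf (z : G) = 2 := by rw [Subgroup.orderOf_coe, hz]
      have hzI : (z : G) ∈ I := by
        simp only [hI, Finset.mem_filter, Finset.mem_univ, true_and]
        exact ⟨hz', le_antisymm (PermB.nfix_involution hZ hz').1
          (Finset.one_lt_card.2 ⟨c, by simpa using z.2.1, e, by simpa using z.2.2, hce⟩)⟩
      simp only [Finset.mem_biUnion, Finset.mem_offDiag, Fx, Finset.mem_filter, Finset.mem_univ,
        true_and]
      exact ⟨z, hzI, z.2.1, z.2.2, hce⟩
    · simp only [hI, Finset.mem_filter, Finset.mem_univ, true_and] at hz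
      have : (Fx z).card = 2 := hz.2
      rw [Finset.offDiag_card, this]
  let S := (I ×ˢ (Finset.univ : Finset Ω)).filter fun p => p.1 • p.2 ≠ p.2
  have h2 : S.card = I.card * (N - 2) := by
    rw [Finset.card_filter, Finset.sum_product]
    rw [Finset.sum_congr rfl (g := fun _ => N - 2) fun z hz => ?_]
    · rw [Finset.sum_const, smul_eq_mul]
    · simp only [hI, Finset.mem_filter, Finset.mem_univ, true_and] at hz
      rw [← Finset.card_filter]
      have h' := Finset.card_filter_add_card_filter_not (s := (Finset.univ : Finset Ω))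
        (fun c : Ω => z • c = c)
      rw [Finset.card_univ] at h'
      have h'' : (Finset.univ.filter fun c : Ω => z • c = c).card = 2 := hz.2
      simp only [ne_eq] at h' ⊢
      omega
  have h4 : S.card ≤ d * (N * (N - 1)) := by
    rw [← hoff]
    refine le_trans (Finset.card_le_mul_card_image (f := fun p : G × Ω => (p.2, p.1 • p.2)) _ d ?_)
      (Nat.mul_le_mul_left _ (Finset.card_le_card ?_))
    · intro ce hce
      obtain ⟨p0, hp0, rfl⟩ := Finset.mem_image.1 hce
      simp only [S, hI, Finset.mem_filter, Finset.mem_product, Finset.mem_univ, true_and,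
        and_true] at hp0
      rw [hd, ← CharDeep.Zass.card_two_eq hZ hab (Ne.symm hp0.2), Nat.card_eq_fintype_card,
        ← Finset.card_univ]
      have key : ∀ p ∈ S.filter (fun p => (p.2, p.1 • p.2) = (p0.2, p0.1 • p0.2)),
          p0.1 * p.1 ∈ CharDeep.Zass.two G p0.2 (p0.1 • p0.2) ∧ p.2 = p0.2 := by
        intro p hp
        simp only [S, hI, Finset.mem_filter, Finset.mem_product, Finset.mem_univ, true_and,
          and_true, Prod.mk.injEq] at hp
        obtain ⟨⟨⟨hp1, -⟩, -⟩, hp2, hp3⟩ := hp
        refine ⟨CharDeep.Zass.mem_two.2 ⟨?_, ?_⟩, hp2⟩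
        · rw [mul_smul, ← hp2, hp3, ← mul_smul, PermB.sq_eq_one_of_orderOf hp0.1.1, one_smul, hp2]
        · rw [mul_smul, ← hp3, ← mul_smul, ← mul_smul, mul_assoc,
            PermB.sq_eq_one_of_orderOf hp1, mul_one, hp3, hp2]
      refine Finset.card_le_card_of_injOn
        (fun p => if h : p0.1 * p.1 ∈ CharDeep.Zass.two G p0.2 (p0.1 • p0.2) then ⟨_, h⟩ else 1)
        (fun p _ => Finset.mem_univ _) ?_
      intro p hp p' hp' he
      have k := key p (Finset.mem_coe.1 hp)
      have k' := key p' (Finset.mem_coe.1 hp')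
      simp only [dif_pos k.1, dif_pos k'.1, Subtype.mk.injEq, mul_right_inj] at he
      exact Prod.ext he (k.2.trans k'.2.symm)
    · intro ce hce
      obtain ⟨p, hp, rfl⟩ := Finset.mem_image.1 hce
      simp only [S, Finset.mem_filter] at hp
      simp only [Finset.mem_offDiag, Finset.mem_univ, true_and]
      exact Ne.symm hp.2
  rw [h2] at h4
  have h5 : N * (N - 1) * (N - 2) ≤ N * (N - 1) * (2 * d) := by
    calc N * (N - 1) * (N - 2) ≤ I.card * 2 * (N - 2) := Nat.mul_le_mul_right _ h1
      _ = 2 * (I.card * (N - 2)) := by ring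
      _ ≤ 2 * (d * (N * (N - 1))) := Nat.mul_le_mul_left _ h4
      _ = N * (N - 1) * (2 * d) := by ring
  exact Nat.le_of_mul_le_mul_left h5 (Nat.mul_pos (by omega) (by omega))

end Cfsg.Agent.S0741
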