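import Cfsg.Statements.S0743
import Cfsg.Agent.PermB.Basic

set_option autoImplicit false
open Cfsg

namespace Cfsg.Agent.S0743

/-- Gleason's Lemma: let `p` be a prime and `1 ≤ k < n`; if every `k`-subset of the `n` points is exactly the fixed-point set of some `p`-subgroup of `G`, then `G` is `k`-transitive. -/
theorem result {α : Type*} [Fintype α] [DecidableEq α] (G : Subgroup (Equiv.Perm α)) {p k : ℕ} (hp : p.Prime) (hk : 1 ≤ k) (hkn : k < Fintype.card α) (h : ∀ s : Finset α, s.card = k → ∃ P : Subgroup G, IsPGroup p P ∧ MulAction.fixedPoints P α = (s : Set α)) : MulAction.IsMultiplyPretransitive G α k := by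
  classical
  haveI : Fact p.Prime := ⟨hp⟩
  obtain ⟨j, rfl⟩ : ∃ j, k = j + 1 := ⟨k - 1, by omega⟩
  apply Cfsg.Agent.PermB.isMultiplyPretransitive_succ_of_fixing (by omega)
  intro t ht a ha b hb
  by_contra hcon
  push_neg at hcon
  set H := fixingSubgroup G (t : Set α) with hH
  have key : ∀ z, z ∉ t → Nat.card (MulAction.orbit H a) ≡
      (MulAction.orbit H a ∩ ↑(insert z t : Finset α)).ncard [MOD p] := by
    intro z hz
    obtain ⟨P, hP, hfix⟩ := h (insert z t) (by simp [hz, ht])
    have hPH : P ≤ H := by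
      intro g hg
      rw [hH, mem_fixingSubgroup_iff]
      intro y hy
      have : y ∈ MulAction.fixedPoints P α := by
        rw [hfix]; exact Finset.mem_coe.mpr (Finset.mem_insert_of_mem hy)
      exact this ⟨g, hg⟩
    rw [← hfix]
    exact Cfsg.Agent.PermB.card_orbit_modEq_card_inter_fixedPoints H P hP hPH a
  have horb : ∀ y ∈ t, y ∉ MulAction.orbit H a := by
    rintro y hy ⟨g, rfl⟩
    apply ha
    have h1 := (mem_fixingSubgroup_iff G).mp g.2 _ hy
    have h2 : (g : G) • a = a := MulAction.injective (g : G) h1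
    have h3 : (fun m => m • a) g = a := h2
    simpa [h3] using hy
  have e1 : MulAction.orbit H a ∩ ↑(insert a t : Finset α) = {a} := by
    ext z
    simp only [Finset.coe_insert, Set.mem_inter_iff, Set.mem_insert_iff, Finset.mem_coe,
      Set.mem_singleton_iff]
    constructor
    · rintro ⟨h1, h2 | h2⟩
      · exact h2
      · exact absurd h1 (horb z h2)
    · rintro rfl
      exact ⟨MulAction.mem_orbit_self _, Or.inl rfl⟩
  have e2 : MulAction.orbit H a ∩ ↑(insert b t : Finset α) = ∅ := by
    ext z
    simp only [Finset.coe_insert, Set.mem_inter_iff, Set.mem_insert_iff, Finset.mem_coe,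
      Set.mem_empty_iff_false, iff_false, not_and]
    intro h1 h2
    rcases h2 with rfl | h2
    · obtain ⟨g, hg⟩ := h1
      exact hcon g.1 g.2 hg
    · exact horb z h2 h1
  have h1 := key a ha
  have h2 := key b hb
  rw [e1, Set.ncard_singleton] at h1
  rw [e2, Set.ncard_empty] at h2
  have h3 : 1 % p = 0 % p := h1.symm.trans h2
  rw [Nat.one_mod_eq_one.mpr hp.ne_one, Nat.zero_mod] at h3
  omega

end Cfsg.Agent.S0743
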