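import Cfsg.Statements.S0744
import Cfsg.Agent.PermB.Basic
import Mathlib.GroupTheory.GroupAction.Quotient

set_option autoImplicit false
open Cfsg

namespace Cfsg.Agent.S0744

/-- If for some `k > 1` the pointwise stabilisers of all `(k-1)`-subsets have the same order `> 1` and those of all `k`-subsets have the same order, then the group is `(k-1)`-transitive. -/
theorem result {α : Type*} [Fintype α] [DecidableEq α] (G : Subgroup (Equiv.Perm α)) {k : ℕ} (hk : 1 < k) (hkn : k ≤ Fintype.card α) (l m : ℕ) (hl : 1 < l) (hkm1 : ∀ s : Finset α, s.card = k - 1 → Nat.card (fixingSubgroup G (s : Set α)) = l) (hkm : ∀ s : Finset α, s.card = k → Nat.card (fixingSubgroup G (s : Set α)) = m) : MulAction.IsMultiplyPretransitive G α (k - 1) := by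
  classical
  obtain ⟨j, rfl⟩ : ∃ j, k = j + 2 := ⟨k - 2, by omega⟩
  show MulAction.IsMultiplyPretransitive G α (j + 1)
  apply Cfsg.Agent.PermB.isMultiplyPretransitive_succ_of_fixing hkn
  intro t ht a ha b hb
  by_contra hcon
  push_neg at hcon
  set H := fixingSubgroup G (t : Set α) with hH
  have hfix : ∀ (s : Finset α) (z : α),
      fixingSubgroup G ((insert z s : Finset α) : Set α)
        = fixingSubgroup G (s : Set α) ⊓ MulAction.stabilizer G z := by
    intro s z
    ext g
    simp only [mem_fixingSubgroup_iff, Finset.coe_insert, Set.mem_insert_iff, Subgroup.mem_inf,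
      MulAction.mem_stabilizer_iff, forall_eq_or_imp]
    exact and_comm
  have hstab : ∀ (K : Subgroup G) (z : α),
      Nat.card (MulAction.orbit K z) * Nat.card (K ⊓ MulAction.stabilizer G z : Subgroup G)
        = Nat.card K := by
    intro K z
    have h1 : MulAction.stabilizer K z = (MulAction.stabilizer G z).subgroupOf K := by
      ext g; rfl
    have h2 := Nat.card_congr (MulAction.orbitProdStabilizerEquivGroup K z)
    rw [Nat.card_prod] at h2
    rw [← h2, h1, ← Subgroup.inf_subgroupOf_left (MulAction.stabilizer G z) K,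
      Nat.card_congr (Subgroup.subgroupOfEquivOfLe
        (inf_le_left : K ⊓ MulAction.stabilizer G z ≤ K)).toEquiv]
  have ho : ∀ z, z ∉ t → Nat.card (MulAction.orbit H z) * l = Nat.card H := by
    intro z hz
    have h1 := hstab H z
    rw [hH, ← hfix, hkm1 _ (by simp [ht, hz])] at h1
    exact h1
  have ht' : ∀ y ∈ t, ∀ z, z ∉ t → y ∉ MulAction.orbit H z := by
    rintro y hy z hz ⟨g, rfl⟩
    apply hz
    have h1 := (mem_fixingSubgroup_iff G).mp g.2 _ hy
    have h2 : (g : G) • z = z := MulAction.injective (g : G) h1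
    have h3 : (fun m => m • z) g = z := h2
    simpa [h3] using hy
  set K := fixingSubgroup G ((insert a t : Finset α) : Set α) with hK
  have hKc : Nat.card K = l := hkm1 _ (by simp [ht, ha])
  have hr : ∀ z, z ∉ insert a t → Nat.card (MulAction.orbit K z) * m = l := by
    intro z hz
    have h1 := hstab K z
    rw [hKc, hK, ← hfix, hkm _ (by rw [Finset.card_insert_of_notMem hz]; simp [ht, ha])] at h1
    exact h1
  have hba : b ∉ insert a t := by
    simp only [Finset.mem_insert, not_or]
    exact ⟨fun e => hcon 1 (one_mem _) (by rw [one_smul]; exact e.symm), hb⟩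
  set r := Nat.card (MulAction.orbit K b) with hrdef
  have hrb := hr b hba
  have hdiv : ∀ (O : Set α), (∀ g ∈ K, ∀ x ∈ O, g • x ∈ O) →
      (∀ x ∈ O, x ∉ insert a t) → r ∣ Nat.card O := by
    intro O hO hOt
    let _ : MulAction K O :=
      { smul := fun g x => ⟨(g : G) • (x : α), hO g g.2 x x.2⟩
        one_smul := fun x => Subtype.ext (one_smul G (x : α))
        mul_smul := fun g h x => Subtype.ext (mul_smul (g : G) (h : G) (x : α)) }
    have hsize : ∀ q : MulAction.orbitRel.Quotient K O, Nat.card q.orbit = r := by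
      intro q
      induction q using Quotient.inductionOn' with
      | h x =>
        have h1 := hr x (hOt x x.2)
        have h2 : Nat.card (MulAction.orbit K (x : α)) = r := by
          have hm : 0 < m := by
            rcases Nat.eq_zero_or_pos m with h0 | h0
            · rw [h0, mul_zero] at h1; omega
            · exact h0
          exact Nat.eq_of_mul_eq_mul_right hm (h1.trans hrb.symm)
        rw [← h2]
        show Nat.card (MulAction.orbit K x) = _
        refine Nat.card_congr (Equiv.ofBijective
          (fun y => ⟨(y.1 : α), by obtain ⟨g, hg⟩ := y.2; exact ⟨g, congrArg Subtype.val hg⟩⟩)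
          ⟨fun y y' h => by apply Subtype.ext; apply Subtype.ext; simpa using h, ?_⟩)
        rintro ⟨y, g, rfl⟩
        exact ⟨⟨g • x, g, rfl⟩, rfl⟩
    rw [Nat.card_congr (MulAction.selfEquivSigmaOrbits' K O), Nat.card_sigma]
    exact Finset.dvd_sum fun q _ => (hsize q).symm ▸ dvd_rfl
  have hKH : K ≤ H := by
    rw [hK, hfix]
    exact inf_le_left
  have d1 : r ∣ Nat.card (MulAction.orbit H b) := by
    apply hdiv
    · intro g hg x hx
      exact MulAction.mem_orbit_of_mem_orbit (⟨g, hKH hg⟩ : H) hx
    · intro x hx
      simp only [Finset.mem_insert, not_or]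
      refine ⟨?_, fun hxt => ht' x hxt b hb hx⟩
      rintro rfl
      obtain ⟨g, hg⟩ := hx
      exact hcon (g : G)⁻¹ (inv_mem g.2) (inv_smul_eq_iff.mpr hg.symm)
  have d2 : r ∣ Nat.card ↥(MulAction.orbit H a \ {a}) := by
    apply hdiv
    · rintro g hg x ⟨hx, hxa⟩
      refine ⟨MulAction.mem_orbit_of_mem_orbit (⟨g, hKH hg⟩ : H) hx, ?_⟩
      have hga : g • a = a := by
        rw [hK, hfix] at hg
        exact hg.2
      intro he
      apply hxa
      have he' : g • x = g • a := by rw [hga]; exact he
      exact MulAction.injective g he'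
    · rintro x ⟨hx, hxa⟩
      simp only [Finset.mem_insert, not_or]
      exact ⟨hxa, fun hxt => ht' x hxt a ha hx⟩
  have e1 : Nat.card ↥(MulAction.orbit H a \ {a}) + 1 = Nat.card (MulAction.orbit H a) := by
    rw [Nat.card_coe_set_eq, Nat.card_coe_set_eq]
    exact Set.ncard_sdiff_singleton_add_one (MulAction.mem_orbit_self _) (Set.toFinite _)
  have hab' : Nat.card (MulAction.orbit H a) = Nat.card (MulAction.orbit H b) :=
    Nat.eq_of_mul_eq_mul_right (by omega : 0 < l) ((ho a ha).trans (ho b hb).symm)
  rw [← hab', ← e1] at d1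
  have hr1 : r = 1 := Nat.dvd_one.mp ((Nat.dvd_add_right d2).mp d1)
  rw [show Nat.card (MulAction.orbit K b) = 1 from hr1, one_mul] at hrb
  have hKtriv : K = ⊥ := by
    rw [Subgroup.eq_bot_iff_forall]
    intro g hg
    apply Subtype.ext
    apply Equiv.ext
    intro z
    by_cases hz : z ∈ insert a t
    · exact (mem_fixingSubgroup_iff G).mp hg z (Finset.mem_coe.mpr hz)
    · have h1 := hr z hz
      rw [hrb] at h1
      have h2 : Nat.card (MulAction.orbit K z) = 1 := by
        have := Nat.eq_of_mul_eq_mul_right (by omega : 0 < l) (h1.trans (one_mul l).symm)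
        exact this
      have h3 := (Nat.card_eq_one_iff_unique.mp h2).1
      exact congrArg Subtype.val
        (Subsingleton.elim (α := MulAction.orbit K z) ⟨g • z, ⟨g, hg⟩, rfl⟩
          ⟨z, MulAction.mem_orbit_self z⟩)
  rw [hKtriv, Subgroup.card_bot] at hKc
  omega

end Cfsg.Agent.S0744
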