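import Cfsg.Statements.S0754
-- no helpers

set_option autoImplicit false
open Cfsg

namespace Cfsg.Agent.S0754

/-- In a field F with q^2 elements, every non-zero μ with μ^q = μ (that is, μ in the subfield of order q) has exactly q + 1 solutions λ of λ^(q+1) = μ. -/
theorem result {F : Type*} [Field F] [Fintype F] {q : ℕ} (hF : Fintype.card F = q ^ 2) (μ : F) (hμ : μ ≠ 0) (hμq : μ ^ q = μ) : Nat.card {x : F // x ^ (q + 1) = μ} = q + 1 := by
  have hq0 : q ≠ 0 := by
    rintro rfl
    simp at hF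
  have hcard : Nat.card Fˣ = (q - 1) * (q + 1) := by
    rw [Nat.card_units, Nat.card_eq_fintype_card, hF]
    cases q with
    | zero => rfl
    | succ k => rw [Nat.add_sub_cancel, Nat.sub_eq_iff_eq_add (Nat.one_le_pow _ _ (by omega))]; ring
  have hq2 : 2 ≤ q := by
    rcases Nat.lt_or_ge q 2 with h | h
    · interval_cases q
      · exact absurd rfl hq0
      · have := Fintype.one_lt_card (α := F); omega
    · exact h
  let f : Fˣ →* Fˣ := powMonoidHom (q + 1)
  let g : Fˣ →* Fˣ := powMonoidHom (q - 1)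
  have hker : Nat.card f.ker = q + 1 := by
    rw [IsCyclic.card_powMonoidHom_ker, hcard, Nat.gcd_mul_left_left]
  have hker' : Nat.card g.ker = q - 1 := by
    rw [IsCyclic.card_powMonoidHom_ker, hcard, Nat.gcd_mul_right_left]
  have hle : f.range ≤ g.ker := by
    rintro _ ⟨x, rfl⟩
    rw [MonoidHom.mem_ker, powMonoidHom_apply, powMonoidHom_apply, ← pow_mul, mul_comm, ← hcard]
    exact pow_card_eq_one'
  have hrange : Nat.card f.range = q - 1 := by
    have h := f.ker.card_mul_index
    rw [Subgroup.index_ker, hker, hcard, mul_comm (q - 1)] at h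
    exact Nat.eq_of_mul_eq_mul_left (by omega) h
  have heq := Subgroup.eq_of_le_of_card_ge hle (le_of_eq (hker'.trans hrange.symm))
  obtain ⟨x₀, hx₀⟩ : Units.mk0 μ hμ ∈ f.range := by
    rw [heq, MonoidHom.mem_ker, powMonoidHom_apply]
    refine Units.ext ?_
    rw [Units.val_pow_eq_pow_val, Units.val_mk0, Units.val_one]
    refine mul_left_cancel₀ hμ ?_
    rw [← pow_succ', Nat.sub_add_cancel (by omega), hμq, mul_one]
  have hx₀' : (x₀ : F) ^ (q + 1) = μ := by
    rw [← Units.val_pow_eq_pow_val]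
    exact congrArg Units.val hx₀
  refine (Nat.card_congr ?_).trans hker
  refine
    ⟨fun x => ⟨Units.mk0 x.1 (fun h => hμ (by rw [← x.2, h, zero_pow (by omega)])) / x₀, ?_⟩,
     fun z => ⟨((z.1 * x₀ : Fˣ) : F), ?_⟩, fun x => ?_, fun z => ?_⟩
  · rw [MonoidHom.mem_ker, powMonoidHom_apply, div_pow, div_eq_one]
    exact Units.ext (by simp [x.2, hx₀'])
  · have hz : (z.1 : Fˣ) ^ (q + 1) = 1 := z.2
    rw [Units.val_mul, mul_pow, hx₀', ← Units.val_pow_eq_pow_val, hz, Units.val_one, one_mul]
  · ext; simp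
  · ext; simp

end Cfsg.Agent.S0754
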