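import Cfsg.Statements.S0756
import Cfsg.Agent.Lib.Forms.Sesq

set_option autoImplicit false
open Cfsg

namespace Cfsg.Agent.S0756

/-- Classification of symmetric bilinear forms over finite fields of odd characteristic: if B is non-degenerate symmetric on V of dimension n + 1 and α is a fixed non-square of F, there is an orthogonal basis b_0, ..., b_n with B(b_i, b_i) = 1 for i < n and B(b_n, b_n) ∈ {1, α}. -/
theorem result {F V : Type*} [Field F] [Finite F] [AddCommGroup V] [Module F V] [FiniteDimensional F V] (h2 : (2 : F) ≠ 0) (B : LinearMap.BilinForm F V) (hS : B.IsSymm) (hB : B.Nondegenerate) {n : ℕ} (hn : Module.finrank F V = n + 1) (α : F) (hα : ¬ IsSquare α) : ∃ b : Module.Basis (Fin (n + 1)) F V, (∀ i j, i ≠ j → B (b i) (b j) = 0) ∧ (∀ i, i ≠ Fin.last n → B (b i) (b i) = 1) ∧ (B (b (Fin.last n)) (b (Fin.last n)) = 1 ∨ B (b (Fin.last n)) (b (Fin.last n)) = α) := by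
  have hS' : LinearMap.IsSymm B := ⟨fun u v => by simpa using hS.eq u v⟩
  obtain ⟨b, -, h0, h1, hl⟩ := Cfsg.Agent.Forms.exists_orthogonal_family_one_or_nonsquare B hS' h2 α hα n ⊤
    (fun w _ h => hB.1 w fun v => h v Submodule.mem_top) (by rw [finrank_top, hn])
  have hbb : ∀ i, B (b i) (b i) ≠ 0 := by
    intro i
    by_cases hi : i = Fin.last n
    · subst hi
      rcases hl with h | h <;> rw [h]
      · exact one_ne_zero
      · exact fun h0 => hα (h0 ▸ IsSquare.zero)
    · rw [h1 i hi]; exact one_ne_zero
  have hli : LinearIndependent F b := LinearMap.BilinForm.linearIndependent_of_iIsOrtho (fun i j hij => h0 i j hij) hbb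
  have hsp : ⊤ ≤ Submodule.span F (Set.range b) :=
    (LinearIndependent.span_eq_top_of_card_eq_finrank' hli (by rw [Fintype.card_fin, hn])).ge
  exact ⟨Module.Basis.mk hli hsp, by simpa using h0, by simpa using h1, by simpa using hl⟩

end Cfsg.Agent.S0756
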