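import Cfsg.Statements.S0757
-- no helpers

set_option autoImplicit false
open Cfsg

namespace Cfsg.Agent.S0757

/-- The two diagonal forms Σ x_i^2 and Σ_(i<n) x_i^2 + α x_n^2 on F^(n+1), with α a non-square and 2 ≠ 0 in F, are inequivalent quadratic forms (so over a finite field of odd order there are exactly two classes of non-singular symmetric bilinear forms in each dimension). -/
theorem result {F : Type*} [Field F] (h2 : (2 : F) ≠ 0) (n : ℕ) (α : F) (hα : ¬ IsSquare α) : ¬ (QuadraticMap.weightedSumSquares F (fun _ : Fin (n + 1) => (1 : F))).Equivalent (QuadraticMap.weightedSumSquares F (fun i : Fin (n + 1) => if i = Fin.last n then α else (1 : F))) := by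
  rintro ⟨e⟩
  apply hα
  let M : Matrix (Fin (n + 1)) (Fin (n + 1)) F := Matrix.of fun i j => e (Pi.single j 1) i
  let d : Fin (n + 1) → F := fun i => if i = Fin.last n then α else 1
  have key : M.transpose * Matrix.diagonal d * M = 1 := by
    ext i j
    have h : ∀ v, ∑ k, d k * (e v k * e v k) = ∑ k, v k * v k := fun v => by
      have h := e.map_app v
      rw [QuadraticMap.weightedSumSquares_apply, QuadraticMap.weightedSumSquares_apply] at h
      simpa only [d, smul_eq_mul, one_mul] using h
    have hd : ∀ v w : Fin (n + 1) → F, ∑ k, d k * e v k * e w k = ∑ k, v k * w k := by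
      intro v w
      have hadd : ∀ k, e (v + w) k = e v k + e w k := fun k => congrFun (map_add e.toLinearEquiv v w) k
      have h3 := h (v + w)
      simp only [hadd, Pi.add_apply] at h3
      have e1 : ∀ k, d k * ((e v k + e w k) * (e v k + e w k)) =
          d k * (e v k * e v k) + d k * (e w k * e w k) + 2 * (d k * e v k * e w k) := fun k => by ring
      have e2 : ∀ k, (v k + w k) * (v k + w k) = v k * v k + w k * w k + 2 * (v k * w k) := fun k => by ring
      simp only [e1, e2, Finset.sum_add_distrib, ← Finset.mul_sum, h v, h w] at h3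
      exact mul_left_cancel₀ h2 (add_left_cancel h3)
    rw [Matrix.mul_apply, Matrix.one_apply]
    have := hd (Pi.single i 1) (Pi.single j 1)
    simp only [Matrix.mul_diagonal, Matrix.transpose_apply, M, Matrix.of_apply]
    calc ∑ k, e (Pi.single i 1) k * d k * e (Pi.single j 1) k
        = ∑ k, d k * e (Pi.single i 1) k * e (Pi.single j 1) k := Finset.sum_congr rfl fun k _ => by ring
      _ = _ := this.trans (by simp [Pi.single_apply, eq_comm])
  have hdet := congrArg Matrix.det key
  rw [Matrix.det_mul, Matrix.det_mul, Matrix.det_transpose, Matrix.det_diagonal, Matrix.det_one] at hdet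
  have hprod : ∏ k, d k = α := by simp [d, Finset.prod_ite_eq']
  rw [hprod] at hdet
  refine ⟨M.det⁻¹, ?_⟩
  have hM : M.det ≠ 0 := fun h => by simp [h] at hdet
  field_simp
  linear_combination hdet

end Cfsg.Agent.S0757
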