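import Cfsg.Statements.S0758
import Cfsg.Agent.Lib.Forms.Sesq

set_option autoImplicit false
open Cfsg

namespace Cfsg.Agent.S0758

/-- For a finite field F of odd order q and a non-square α: the form x² + y² is isotropic iff q ≡ 1 mod 4, and the form x² + α y² is isotropic iff q ≡ 3 mod 4. -/
theorem result {F : Type*} [Field F] [Fintype F] (h2 : (2 : F) ≠ 0) (α : F) (hα : ¬ IsSquare α) : ((∃ x y : F, (x ≠ 0 ∨ y ≠ 0) ∧ x ^ 2 + y ^ 2 = 0) ↔ Fintype.card F % 4 = 1) ∧ ((∃ x y : F, (x ≠ 0 ∨ y ≠ 0) ∧ x ^ 2 + α * y ^ 2 = 0) ↔ Fintype.card F % 4 = 3) := by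
  have hodd : Fintype.card F % 4 = 1 ∨ Fintype.card F % 4 = 3 := by
    have h : ringChar F ≠ 2 := fun hc => h2 (by
      have := ringChar.of_eq hc
      exact CharP.cast_eq_zero F 2)
    have := FiniteField.odd_card_of_char_ne_two h
    omega
  have hneg : IsSquare (-1 : F) ↔ Fintype.card F % 4 = 1 := by
    rw [FiniteField.isSquare_neg_one_iff]; omega
  constructor
  · rw [← hneg]
    constructor
    · rintro ⟨x, y, hxy, h⟩
      have hy : y ≠ 0 := by rintro rfl; simp at h; simp [h] at hxy
      exact ⟨x / y, by field_simp; linear_combination -h⟩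
    · rintro ⟨r, hr⟩
      exact ⟨r, 1, Or.inr one_ne_zero, by linear_combination -hr⟩
  · have hα' : IsSquare (-α) ↔ Fintype.card F % 4 = 3 := by
      have hα0 : α ≠ 0 := fun h => hα (h ▸ IsSquare.zero)
      constructor
      · intro h
        rcases hodd with h4 | h4
        · exact absurd (by simpa using h.mul (hneg.mpr h4)) hα
        · exact h4
      · intro h4
        have h1 : ¬ IsSquare (-1 : F) := fun h => by have := hneg.mp h; omega
        simpa using Cfsg.Agent.Forms.isSquare_mul_of_not_isSquare hα h1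
    rw [← hα']
    constructor
    · rintro ⟨x, y, hxy, h⟩
      have hy : y ≠ 0 := by rintro rfl; simp at h; simp [h] at hxy
      exact ⟨x / y, by field_simp; linear_combination -h⟩
    · rintro ⟨r, hr⟩
      exact ⟨r, 1, Or.inr one_ne_zero, by linear_combination -hr⟩

end Cfsg.Agent.S0758
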