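import Cfsg.Statements.S0759
import Cfsg.Agent.Lib.Forms.Witt

set_option autoImplicit false
open Cfsg

namespace Cfsg.Agent.S0759

/-- Type of the orthonormal form: over a finite field of odd order q and for m ≥ 1, the quadratic form Σ_(i<2m) x_i² on F^(2m) admits an m-dimensional subspace on which it vanishes identically if and only if it is not the case that q ≡ 3 (mod 4) and m is odd. -/
theorem result {F : Type*} [Field F] [Fintype F] (h2 : (2 : F) ≠ 0) (m : ℕ) (hm : 1 ≤ m) : (∃ W : Submodule F (Fin (2 * m) → F), Module.finrank F W = m ∧ ∀ w ∈ W, ∑ i, w i ^ 2 = 0) ↔ ¬ (Fintype.card F % 4 = 3 ∧ Odd m) := by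
  classical
  have hodd : Fintype.card F % 4 = 1 ∨ Fintype.card F % 4 = 3 := by
    have h : ringChar F ≠ 2 := fun hc => h2 (by
      have := ringChar.of_eq hc
      exact CharP.cast_eq_zero F 2)
    have := FiniteField.odd_card_of_char_ne_two h
    omega
  have hneg : IsSquare (-1 : F) ↔ Fintype.card F % 4 = 1 := by
    rw [FiniteField.isSquare_neg_one_iff]; omega
  constructor
  · rintro ⟨W, hW, hQ⟩ ⟨h4, hmodd⟩
    obtain ⟨C, hC⟩ := Submodule.exists_isCompl W
    have hCd : Module.finrank F C = m := by
      have := Submodule.finrank_add_eq_of_isCompl hC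
      rw [hW, Module.finrank_fintype_fun_eq_card, Fintype.card_fin] at this
      omega
    let b : Module.Basis (Fin m ⊕ Fin m) F (Fin (2 * m) → F) :=
      ((Module.finBasisOfFinrankEq F W hW).prod (Module.finBasisOfFinrankEq F C hCd)).map
        (Submodule.prodEquivOfIsCompl W C hC)
    have hbl : ∀ i, b (Sum.inl i) ∈ W := fun i => by
      simp [b, Module.Basis.map_apply, Submodule.coe_prodEquivOfIsCompl', Module.Basis.prod_apply]
    let e : Fin (2 * m) ≃ Fin m ⊕ Fin m := (finCongr (two_mul m)).trans finSumFinEquiv.symm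
    let M : Matrix (Fin m ⊕ Fin m) (Fin m ⊕ Fin m) F := Matrix.of fun s t => b s (e.symm t)
    have hMu : IsUnit M.det := by
      rw [← Matrix.isUnit_iff_isUnit_det, ← Matrix.linearIndependent_rows_iff_isUnit]
      exact b.linearIndependent.map' (LinearMap.funLeft F F e.symm)
        (LinearMap.ker_eq_bot.mpr (LinearMap.funLeft_injective_of_surjective _ _ _ e.symm.surjective))
    set G := M * M.transpose with hG
    have hGapp : ∀ s t, G s t = ∑ j, b s j * b t j := fun s t => by
      rw [hG, Matrix.mul_apply]
      exact e.symm.sum_comp (fun j => b s j * b t j)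
    have h11 : G.toBlocks₁₁ = 0 := by
      ext i j
      have h1 := hQ _ (add_mem (hbl i) (hbl j))
      simp only [Pi.add_apply, add_sq, mul_assoc, Finset.sum_add_distrib, ← Finset.mul_sum,
        hQ _ (hbl i), hQ _ (hbl j), zero_add, add_zero] at h1
      show G (Sum.inl i) (Sum.inl j) = 0
      rw [hGapp]
      exact (mul_eq_zero.mp h1).resolve_left h2
    have hdet : M.det ^ 2 = (-1 : F) ^ m * G.toBlocks₁₂.det ^ 2 := by
      have hsymm : G.transpose = G := by rw [hG, Matrix.transpose_mul, Matrix.transpose_transpose]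
      have h21 : G.toBlocks₂₁ = G.toBlocks₁₂.transpose := by
        ext i j
        exact (congrFun (congrFun hsymm (Sum.inr i)) (Sum.inl j)).symm
      have hswap : (Matrix.fromBlocks 0 1 1 0 : Matrix (Fin m ⊕ Fin m) (Fin m ⊕ Fin m) F).det = (-1) ^ m := by
        have h := congrArg Matrix.det (show Matrix.fromBlocks 1 1 0 1 * Matrix.fromBlocks 0 1 1 0 =
          (Matrix.fromBlocks 1 1 1 0 : Matrix (Fin m ⊕ Fin m) (Fin m ⊕ Fin m) F) by
            simp [Matrix.fromBlocks_multiply])
        rw [Matrix.det_mul, Matrix.det_fromBlocks_zero₂₁, Matrix.det_one, one_mul, one_mul,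
          Matrix.det_fromBlocks_one₁₁, one_mul, zero_sub, Matrix.det_neg, Matrix.det_one, mul_one,
          Fintype.card_fin] at h
        exact h
      have hGd : G.det * (-1) ^ m = G.toBlocks₁₂.det ^ 2 := by
        have h := congrArg Matrix.det (show G * Matrix.fromBlocks 0 1 1 0 =
          Matrix.fromBlocks G.toBlocks₁₂ 0 G.toBlocks₂₂ G.toBlocks₁₂.transpose by
            conv_lhs => rw [← Matrix.fromBlocks_toBlocks G, h11, h21]
            simp [Matrix.fromBlocks_multiply])
        rw [Matrix.det_mul, hswap, Matrix.det_fromBlocks_zero₁₂, Matrix.det_transpose, ← sq] at h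
        exact h
      rw [hG, Matrix.det_mul, Matrix.det_transpose, ← sq] at hGd
      rw [← hGd, mul_comm _ ((-1 : F) ^ m), ← mul_assoc, ← mul_pow, neg_mul_neg, one_mul, one_pow, one_mul]
    rw [hmodd.neg_one_pow, neg_one_mul] at hdet
    have hsq : IsSquare (-1 : F) := by
      have hd : M.det ≠ 0 := hMu.ne_zero
      have hd2 : G.toBlocks₁₂.det ≠ 0 := fun h0 => hd (by simpa [h0] using hdet)
      exact ⟨M.det / G.toBlocks₁₂.det, by field_simp; linear_combination -hdet⟩
    have := hneg.mp hsq
    omega
  · intro h
    have key : ∀ w : Fin m → (Fin (2 * m) → F), (∀ i j, ∑ k, w i k * w j k = 0) → LinearIndependent F w →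
        ∃ W : Submodule F (Fin (2 * m) → F), Module.finrank F W = m ∧ ∀ x ∈ W, ∑ i, x i ^ 2 = 0 := by
      intro w hw hli
      refine ⟨Submodule.span F (Set.range w), by rw [finrank_span_eq_card hli, Fintype.card_fin], fun x hx => ?_⟩
      obtain ⟨c, rfl⟩ := (Submodule.mem_span_range_iff_exists_fun F).mp hx
      simp only [Finset.sum_apply, Pi.smul_apply, smul_eq_mul, sq, Finset.sum_mul_sum]
      rw [Finset.sum_comm]
      refine Finset.sum_eq_zero fun i _ => ?_
      rw [Finset.sum_comm]
      refine Finset.sum_eq_zero fun j _ => ?_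
      calc ∑ k, c i * w i k * (c j * w j k) = ∑ k, c i * c j * (w i k * w j k) :=
            Finset.sum_congr rfl fun k _ => by ring
        _ = 0 := by rw [← Finset.mul_sum, hw, mul_zero]
    rcases hodd with h4 | h4
    · obtain ⟨r, hr⟩ := hneg.mpr h4
      let p : Fin m → Fin (2 * m) := fun i => ⟨2 * i.1, by omega⟩
      let p' : Fin m → Fin (2 * m) := fun i => ⟨2 * i.1 + 1, by omega⟩
      have hpp : ∀ i j, p i ≠ p' j := fun i j h => by have := congrArg Fin.val h; simp only [p, p'] at this; omega
      have hp : ∀ i j, p i = p j ↔ i = j := fun i j => by simp [p, Fin.ext_iff]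
      have hp' : ∀ i j, p' i = p' j ↔ i = j := fun i j => by simp [p', Fin.ext_iff]
      refine key (fun i => Pi.single (p i) 1 + Pi.single (p' i) r) (fun i j => ?_) ?_
      · simp only [Pi.add_apply, mul_add, Pi.single_apply, mul_ite, mul_one, mul_zero, Finset.sum_add_distrib,
          Finset.sum_ite_eq', Finset.mem_univ, if_true, hp, hp', hpp, (Ne.symm (hpp _ _)), if_false, add_mul,
          ite_mul, zero_mul, one_mul, add_zero, zero_add]
        by_cases hij : i = j
        · subst hij; simp only [if_true]; linear_combination -hr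
        · simp [hij, Ne.symm hij]
      · rw [Fintype.linearIndependent_iff]
        intro c hc i
        have := congrFun hc (p i)
        simpa [Pi.single_apply, hp, hpp, Finset.sum_ite_eq, Finset.sum_ite_eq'] using this
    · obtain ⟨n, rfl⟩ : ∃ n, m = 2 * n := (Nat.not_odd_iff_even.mp fun hm' => h ⟨h4, hm'⟩).two_dvd
      obtain ⟨a, b, hab⟩ : ∃ a b : F, a ^ 2 + b ^ 2 = -1 := by
        have : NeZero (ringChar F) := ⟨CharP.ringChar_ne_zero_of_finite F⟩
        obtain ⟨a, b, hab⟩ := CharP.sq_add_sq F (ringChar F) (-1)
        exact ⟨_, _, by simpa using hab⟩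
      let p : Fin (2 * n) → Fin (2 * (2 * n)) := fun i => ⟨i.1, by omega⟩
      let pc : Fin (2 * n) → Fin (2 * (2 * n)) := fun i => ⟨2 * n + i.1, by omega⟩
      let mate : Fin (2 * n) → Fin (2 * (2 * n)) := fun i =>
        ⟨if i.1 < n then n + i.1 else i.1 - n, by split <;> omega⟩
      let s : Fin (2 * n) → F := fun i => if i.1 < n then b else -b
      refine key (fun i => Pi.single (p i) a + Pi.single (mate i) (s i) + Pi.single (pc i) 1) (fun i j => ?_) ?_
      · have hp : ∀ i j, p i = p j ↔ i = j := fun i j => by simp [p, Fin.ext_iff]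
        have hpc : ∀ i j, pc i = pc j ↔ i = j := fun i j => by simp [pc, Fin.ext_iff]
        have hm1 : ∀ i j, mate i = mate j ↔ i = j := fun i j => by
          simp only [mate, Fin.ext_iff]; split <;> split <;> omega
        have hm2 : ∀ i j, p i ≠ pc j := fun i j => by
          simp only [p, pc, ne_eq, Fin.ext_iff]; omega
        have hm3 : ∀ i j, mate i ≠ pc j := fun i j => by
          simp only [mate, pc, ne_eq, Fin.ext_iff]; split <;> omega
        have hm4 : ∀ i j, p i = mate j → p j = mate i ∧ s i = -s j ∧ i ≠ j := by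
          intro i j h
          simp only [p, mate, Fin.ext_iff, s, ne_eq] at h ⊢
          split_ifs at h ⊢ <;> refine ⟨by omega, ?_, by omega⟩ <;>
            first | (exfalso; omega) | rw [neg_neg] | rfl
        simp only [Pi.add_apply, mul_add, Pi.single_apply, mul_ite, mul_one, mul_zero, Finset.sum_add_distrib,
          Finset.sum_ite_eq', Finset.mem_univ, if_true, hp, hpc, hm1, hm2, hm3, (Ne.symm (hm2 _ _)),
          (Ne.symm (hm3 _ _)), if_false, add_mul, ite_mul, zero_mul, one_mul, add_zero, zero_add]
        by_cases hij : i = j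
        · subst hij
          have hne : p i ≠ mate i := fun h => (hm4 i i h).2.2 rfl
          simp only [if_true, if_neg hne, if_neg (Ne.symm hne)]
          have hs : s i * s i = b * b := by simp only [s]; split <;> ring
          linear_combination hab + hs
        · simp only [if_neg hij, if_neg (Ne.symm hij)]
          by_cases hm' : p j = mate i
          · obtain ⟨e1, e2, -⟩ := hm4 j i hm'
            rw [if_pos e1.symm, if_pos hm', e2]
            ring
          · rw [if_neg hm', if_neg (fun e => hm' (hm4 i j e.symm).1)]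
            simp
      · rw [Fintype.linearIndependent_iff]
        intro c hc i
        have hm2 : ∀ j, p j ≠ pc i := fun j => by simp only [p, pc, ne_eq, Fin.ext_iff]; omega
        have hm3 : ∀ j, mate j ≠ pc i := fun j => by simp only [mate, pc, ne_eq, Fin.ext_iff]; split <;> omega
        have hpc : ∀ j, pc i = pc j ↔ i = j := fun j => by simp [pc, Fin.ext_iff]
        have := congrFun hc (pc i)
        simpa [Pi.single_apply, hpc, fun j => Ne.symm (hm2 j), fun j => Ne.symm (hm3 j), Finset.sum_ite_eq] using this

end Cfsg.Agent.S0759
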