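import Cfsg.Statements.S0760
import Cfsg.Agent.Lib.Forms.Witt

set_option autoImplicit false
open Cfsg

namespace Cfsg.Agent.S0760

/-- Witt index is well defined: if Q is a quadratic form on a finite-dimensional space V over a finite field with non-degenerate polar form, and W₁, W₂ are subspaces on which Q vanishes that are maximal with this property, then W₁ and W₂ have the same dimension, and twice this dimension is at most dim V. -/
theorem result {F V : Type*} [Field F] [Finite F] [AddCommGroup V] [Module F V] [FiniteDimensional F V] (Q : QuadraticForm F V) (hQ : (QuadraticMap.polarBilin Q).Nondegenerate) (W₁ W₂ : Submodule F V) (h₁ : ∀ w ∈ W₁, Q w = 0) (h₂ : ∀ w ∈ W₂, Q w = 0) (hmax₁ : ∀ W : Submodule F V, W₁ ≤ W → (∀ w ∈ W, Q w = 0) → W = W₁) (hmax₂ : ∀ W : Submodule F V, W₂ ≤ W → (∀ w ∈ W, Q w = 0) → W = W₂) : Module.finrank F W₁ = Module.finrank F W₂ ∧ 2 * Module.finrank F W₁ ≤ Module.finrank F V := by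
  have key : ∀ A C : Submodule F V, (∀ w ∈ A, Q w = 0) → (∀ w ∈ C, Q w = 0) →
      (∀ W : Submodule F V, A ≤ W → (∀ w ∈ W, Q w = 0) → W = A) →
      Module.finrank F C ≤ Module.finrank F A := by
    intro A C hA hC hmax
    by_contra hlt
    push Not at hlt
    obtain ⟨i, hi⟩ := exists_linearIndependent_of_le_finrank (R := F) (M := C) hlt.le
    let ι : A →ₗ[F] V :=
      C.subtype ∘ₗ (Fintype.linearCombination F i) ∘ₗ (Module.finBasis F A).equivFun.toLinearMap
    obtain ⟨f, hf⟩ := LinearMap.exists_extend ι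
    have hfA : ∀ a : A, f a = ι a := fun a => LinearMap.congr_fun hf a
    have hι : Function.Injective ι := C.injective_subtype.comp
      (hi.fintypeLinearCombination_injective.comp (Module.finBasis F A).equivFun.injective)
    obtain ⟨g, hg, hgA⟩ := Cfsg.Agent.Forms.witt_quadratic' Q hQ A f
      (fun v hv h => by
        have hv' := hfA ⟨v, hv⟩
        simp only [h] at hv'
        exact congrArg Subtype.val (hι (hv'.symm.trans (map_zero ι).symm)))
      (fun v hv => by
        rw [hfA ⟨v, hv⟩, hA v hv]
        exact hC _ (SetLike.coe_mem _))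
    have hle : A ≤ C.map g.symm.toLinearMap := by
      intro a ha
      refine Submodule.mem_map.mpr ⟨g a, ?_, by simp⟩
      rw [hgA a ha, hfA ⟨a, ha⟩]
      exact SetLike.coe_mem _
    have hz : ∀ w ∈ C.map g.symm.toLinearMap, Q w = 0 := by
      rintro _ ⟨c, hc, rfl⟩
      rw [← hg]
      simpa using hC c hc
    have hfin := LinearEquiv.finrank_map_eq g.symm C
    rw [hmax _ hle hz] at hfin
    omega
  refine ⟨le_antisymm (key W₂ W₁ h₂ h₁ hmax₂) (key W₁ W₂ h₁ h₂ hmax₁), ?_⟩
  have horth : W₁ ≤ LinearMap.BilinForm.orthogonal (QuadraticMap.polarBilin Q) W₁ := by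
    intro v hv w hw
    show QuadraticMap.polar Q w v = 0
    simp [QuadraticMap.polar, h₁ _ (add_mem hw hv), h₁ w hw, h₁ v hv]
  have h := Submodule.finrank_mono horth
  rw [LinearMap.BilinForm.finrank_orthogonal hQ] at h
  omega

end Cfsg.Agent.S0760
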