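import Cfsg.Statements.S0762
import Cfsg.Agent.Lib.Forms.Witt

set_option autoImplicit false
open Cfsg

namespace Cfsg.Agent.S0762

/-- In characteristic two over a finite field, a quadratic form on a space of dimension at least 3 vanishes on some non-zero vector. -/
theorem result {F V : Type*} [Field F] [Finite F] [CharP F 2] [AddCommGroup V] [Module F V] [FiniteDimensional F V] (Q : QuadraticForm F V) (h3 : 3 ≤ Module.finrank F V) : ∃ v : V, v ≠ 0 ∧ Q v = 0 := by
  obtain ⟨v, hv⟩ : ∃ v : V, v ≠ 0 := by
    have : Nontrivial V := Module.nontrivial_of_finrank_pos (R := F) (by omega)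
    exact exists_ne 0
  by_cases hQv : Q v = 0
  · exact ⟨v, hv, hQv⟩
  set K := LinearMap.ker (QuadraticMap.polarBilin Q v) with hK
  have hr := LinearMap.finrank_range_add_finrank_ker (QuadraticMap.polarBilin Q v)
  have hr1 : Module.finrank F (LinearMap.range (QuadraticMap.polarBilin Q v)) ≤ 1 :=
    (Submodule.finrank_le _).trans (Module.finrank_self F).le
  obtain ⟨w, hw, hwv⟩ : ∃ w ∈ K, w ∉ Submodule.span F {v} := by
    by_contra h
    push Not at h
    have := Submodule.finrank_mono (fun w hw => h w hw : K ≤ Submodule.span F {v})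
    rw [finrank_span_singleton hv, hK] at this
    omega
  obtain ⟨r, hr'⟩ : IsSquare (Q w / Q v) := FiniteField.isSquare_of_char_two (ringChar.eq F 2) _
  refine ⟨w + r • v, fun h => hwv ?_, ?_⟩
  · rw [eq_neg_of_add_eq_zero_left h]
    exact neg_mem (Submodule.smul_mem _ _ (Submodule.mem_span_singleton_self v))
  · have hwv' : QuadraticMap.polarBilin Q w v = 0 := by
      have : QuadraticMap.polar Q v w = 0 := LinearMap.mem_ker.mp hw
      rw [QuadraticMap.polarBilin_apply_apply, QuadraticMap.polar_comm, this]
    rw [Cfsg.Agent.Forms.qmap_add_smul, hwv', mul_zero, add_zero, ← hr', div_mul_cancel₀ _ hQv]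
    exact CharTwo.add_self_eq_zero _

end Cfsg.Agent.S0762
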