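import Cfsg.Statements.S0763
import Cfsg.Agent.Lib.Forms.Witt

set_option autoImplicit false
open Cfsg

namespace Cfsg.Agent.S0763

/-- Binary quadratic forms in characteristic two over a finite field: if Q is a quadratic form on a 2-dimensional space whose polar form is non-degenerate, then either there are vectors v, w with Q v = Q w = 0 and polar value 1 (Q is xy in these coordinates), or there are v, w and μ with Q v = 1, Q w = μ, polar value 1 and x² + x + μ without roots in F (Q is x² + xy + μy²). -/
theorem result {F V : Type*} [Field F] [Finite F] [CharP F 2] [AddCommGroup V] [Module F V] (Q : QuadraticForm F V) (h2 : Module.finrank F V = 2) (hQ : (QuadraticMap.polarBilin Q).Nondegenerate) : (∃ v w : V, LinearIndependent F ![v, w] ∧ Q v = 0 ∧ Q w = 0 ∧ QuadraticMap.polar Q v w = 1) ∨ (∃ (v w : V) (μ : F), LinearIndependent F ![v, w] ∧ (∀ x : F, x ^ 2 + x + μ ≠ 0) ∧ Q v = 1 ∧ Q w = μ ∧ QuadraticMap.polar Q v w = 1) := by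
  have hfin : FiniteDimensional F V := Module.finite_of_finrank_eq_succ h2
  have hsym : ∀ a b : V, QuadraticMap.polar Q a b = QuadraticMap.polar Q b a := QuadraticMap.polar_comm Q
  have hself : ∀ a : V, QuadraticMap.polar Q a a = 0 := fun a => by
    rw [QuadraticMap.polar_self, two_nsmul, CharTwo.add_self_eq_zero]
  have hpartner : ∀ a : V, a ≠ 0 → ∃ b, QuadraticMap.polar Q a b = 1 := by
    intro a ha
    obtain ⟨b, hb⟩ : ∃ b, QuadraticMap.polar Q a b ≠ 0 := by
      by_contra h
      push Not at h
      exact ha (hQ.1 a h)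
    exact ⟨(QuadraticMap.polar Q a b)⁻¹ • b, by rw [QuadraticMap.polar_smul_right, smul_eq_mul, inv_mul_cancel₀ hb]⟩
  have hli : ∀ a b : V, QuadraticMap.polar Q a b = 1 → LinearIndependent F ![a, b] := by
    intro a b h
    rw [LinearIndependent.pair_iff]
    intro s t hst
    constructor
    · have := congrArg (fun z => QuadraticMap.polarBilin Q z b) hst
      simpa [h, hself] using this
    · have := congrArg (fun z => QuadraticMap.polarBilin Q a z) hst
      simpa [h, hself] using this
  by_cases hiso : ∃ v : V, v ≠ 0 ∧ Q v = 0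
  · obtain ⟨v, hv, hQv⟩ := hiso
    obtain ⟨u, hu⟩ := hpartner v hv
    have huv : QuadraticMap.polarBilin Q u v = 1 := by rw [QuadraticMap.polarBilin_apply_apply, hsym, hu]
    have hw : QuadraticMap.polar Q v (u + (-Q u) • v) = 1 := by
      rw [QuadraticMap.polar_add_right, QuadraticMap.polar_smul_right, hu, hself, smul_zero, add_zero]
    refine Or.inl ⟨v, u + (-Q u) • v, hli _ _ hw, hQv, ?_, hw⟩
    rw [Cfsg.Agent.Forms.qmap_add_smul, hQv, huv]
    ring
  · push Not at hiso
    have : Nontrivial V := Module.nontrivial_of_finrank_pos (R := F) (by omega)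
    obtain ⟨v₀, hv₀⟩ := exists_ne (0 : V)
    obtain ⟨r, hr⟩ : IsSquare (Q v₀) := FiniteField.isSquare_of_char_two (ringChar.eq F 2) _
    have hr0 : r ≠ 0 := by rintro rfl; exact hiso v₀ hv₀ (by simp [hr])
    set v := r⁻¹ • v₀ with hv
    have hQv : Q v = 1 := by rw [hv, QuadraticMap.map_smul, hr, smul_eq_mul]; field_simp
    obtain ⟨w, hw⟩ := hpartner v (smul_ne_zero (inv_ne_zero hr0) hv₀)
    refine Or.inr ⟨v, w, Q w, hli _ _ hw, fun x hx => ?_, hQv, rfl, hw⟩
    have hwv : QuadraticMap.polarBilin Q w v = 1 := by rw [QuadraticMap.polarBilin_apply_apply, hsym, hw]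
    have h0 : Q (w + x • v) = 0 := by
      rw [Cfsg.Agent.Forms.qmap_add_smul, hQv, hwv]; linear_combination hx
    have hne : w + x • v ≠ 0 := by
      intro h
      have := congrArg (QuadraticMap.polarBilin Q v) h
      simp [hself, hw] at this
    exact hne (by_contra fun hne' => hiso _ hne' h0)

end Cfsg.Agent.S0763
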