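import Cfsg.Statements.S0768
import Cfsg.Agent.Lib.Symplectic.Simple

set_option autoImplicit false
open scoped LinearAlgebra.Projectivization
open Cfsg

namespace Cfsg.Agent.S0768

open MulAction
open scoped Pointwise

/-- The matrix symplectic group inside `spGL`. -/
noncomputable def toSpGL (m : ℕ) (F : Type*) [Field F] : Symplectic.Sp m F →* Cfsg.spGL m F :=
  MonoidHom.codRestrict (Matrix.symplecticGroup (Fin m) F).subtype.toHomUnits (Cfsg.spGL m F)
    fun g u v => (Symplectic.mem_iff_form _).1 g.2 u v

theorem orth_eq_of_one {F : Type*} [Field F] {p x : Symplectic.Pt 1 F} (h : Symplectic.Orth p x) : x = p := by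
  rw [Symplectic.Orth, Symplectic.sympForm_eq_sum, Fin.sum_univ_one] at h
  by_contra hne
  have hp := p.rep_nonzero
  rcases ne_or_eq (p.rep (Sum.inl 0)) 0 with h0 | h0
  · refine Symplectic.ne_smul_of_ne hne (x.rep (Sum.inl 0) / p.rep (Sum.inl 0)) (funext fun i => ?_)
    rcases i with i | i <;> rw [Fin.eq_zero i, Pi.smul_apply, smul_eq_mul] <;> field_simp
    linear_combination -h
  · have h1 : p.rep (Sum.inr 0) ≠ 0 := fun h1 => hp (funext fun i => by
      rcases i with i | i <;> rw [Fin.eq_zero i] <;> assumption)
    refine Symplectic.ne_smul_of_ne hne (x.rep (Sum.inr 0) / p.rep (Sum.inr 0)) (funext fun i => ?_)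
    rcases i with i | i <;> rw [Fin.eq_zero i, Pi.smul_apply, smul_eq_mul] <;> field_simp
    linear_combination h

theorem isPreprimitive_sp {F : Type*} [Field F] (m : ℕ) (hm : 1 ≤ m) :
    IsPreprimitive (Symplectic.Sp m F) (Symplectic.Pt m F) := by
  rcases Nat.lt_or_ge 1 m with h | h
  · exact Symplectic.isPreprimitive_points h
  obtain rfl : m = 1 := le_antisymm h hm
  refine IsPreprimitive.mk ?_
  intro B hB
  by_cases hsub : B.Subsingleton
  · exact Or.inl hsub
  refine Or.inr (Set.eq_univ_of_forall fun r => ?_)
  obtain ⟨p, hp, x, hx, hpx⟩ := Set.not_subsingleton_iff.1 hsub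
  by_cases hrp : r = p
  · exact hrp ▸ hp
  obtain ⟨g, hgp, rfl⟩ := Symplectic.exists_stab_smul_nonorth
    (fun h => hpx (orth_eq_of_one h).symm) (fun h => hrp (orth_eq_of_one h))
  exact Symplectic.smul_mem_block hB hp hx hgp


/-- Primitivity: for m ≥ 1 and F finite, the symplectic group of the form sympForm (as a subgroup of the general linear group) acts primitively on the projective space of F^(2m). -/
theorem result {F : Type*} [Field F] [Finite F] (m : ℕ) (hm : 1 ≤ m) : MulAction.IsPreprimitive ↥(Cfsg.spGL m F) (ℙ F (Fin m ⊕ Fin m → F)) := by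
  have h := isPreprimitive_sp (F := F) m hm
  let f : Symplectic.Pt m F →ₑ[⇑(toSpGL m F)] ℙ F (Fin m ⊕ Fin m → F) :=
    { toFun := id
      map_smul' := fun g p => by
        induction p using Projectivization.ind with
        | h v hv =>
          show g • Projectivization.mk F v hv = toSpGL m F g • Projectivization.mk F v hv
          exact (Projectivization.smul_mk g hv).trans (Projectivization.smul_mk (toSpGL m F g) hv).symm }
  exact MulAction.IsPreprimitive.of_surjective (f := f) Function.surjective_id

end Cfsg.Agent.S0768
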