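import Cfsg.Statements.S0769
-- no helpers

set_option autoImplicit false
open Cfsg

namespace Cfsg.Agent.S0769

/-- Order of the Borel subgroup of GL_n(q): the invertible lower-triangular n × n matrices over a field with q elements number q^(n(n-1)/2) (q-1)^n (unitriangular part times the diagonal torus). -/
theorem result {F : Type*} [Field F] [Fintype F] {q : ℕ} (hF : Fintype.card F = q) (n : ℕ) : Nat.card {g : Matrix.GeneralLinearGroup (Fin n) F // ∀ i j : Fin n, i < j → (g : Matrix (Fin n) (Fin n) F) i j = 0} = q ^ (n * (n - 1) / 2) * (q - 1) ^ n := by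
  classical
  have e : {g : Matrix.GeneralLinearGroup (Fin n) F //
      ∀ i j : Fin n, i < j → (g : Matrix (Fin n) (Fin n) F) i j = 0} ≃
      ((i : Fin n) → (j : Fin n) → {x : F // (i < j → x = 0) ∧ (i = j → x ≠ 0)}) := by
    refine ⟨fun g i j => ⟨(g.1 : Matrix (Fin n) (Fin n) F) i j, g.2 i j, ?_⟩,
      fun f => ⟨Matrix.GeneralLinearGroup.mkOfDetNeZero (Matrix.of fun i j => (f i j).1) ?_, ?_⟩, ?_, ?_⟩
    · rintro rfl h
      apply (Matrix.GeneralLinearGroup.det g.1).ne_zero
      rw [Matrix.GeneralLinearGroup.val_det_apply,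
        Matrix.det_of_isLowerTriangular (g.1 : Matrix (Fin n) (Fin n) F) fun a b hab => g.2 a b hab]
      exact Finset.prod_eq_zero (Finset.mem_univ i) h
    · rw [Matrix.det_of_isLowerTriangular (Matrix.of fun i j => (f i j).1) fun a b hab => (f a b).2.1 hab]
      exact Finset.prod_ne_zero_iff.mpr fun i _ => (f i i).2.2 rfl
    · intro i j hij
      exact (f i j).2.1 hij
    · intro g
      exact Subtype.ext (Units.ext (by ext i j; rfl))
    · intro f
      rfl
  rw [Nat.card_congr e, Nat.card_pi]
  have hcard : ∀ i j : Fin n, Nat.card {x : F // (i < j → x = 0) ∧ (i = j → x ≠ 0)} =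
      (if j < i then q else 1) * (if j = i then q - 1 else 1) := by
    intro i j
    rcases lt_trichotomy j i with h | h | h
    · rw [if_pos h, if_neg h.ne, mul_one, ← hF, ← Nat.card_eq_fintype_card]
      exact Nat.card_congr (Equiv.subtypeUnivEquiv fun x => ⟨fun h' => absurd h' h.asymm, fun h' => absurd h'.symm h.ne⟩)
    · subst h
      rw [if_neg (lt_irrefl _), if_pos rfl, one_mul, ← hF, ← Nat.card_eq_fintype_card (α := F),
        ← Nat.card_units]
      exact Nat.card_congr ⟨fun x => Units.mk0 x.1 (x.2.2 rfl),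
        fun u => ⟨u, fun h => absurd h (lt_irrefl _), fun _ => u.ne_zero⟩, fun x => rfl, fun u => Units.ext rfl⟩
    · rw [if_neg h.asymm, if_neg h.ne', mul_one, Nat.card_eq_one_iff_unique]
      exact ⟨⟨fun x y => Subtype.ext (by rw [x.2.1 h, y.2.1 h])⟩, ⟨⟨0, fun _ => rfl, fun h' => absurd h' h.ne⟩⟩⟩
  simp only [Nat.card_pi, hcard, Finset.prod_mul_distrib, Finset.prod_ite_eq', Finset.mem_univ, if_true,
    Finset.prod_const, Finset.card_univ, Fintype.card_fin, Finset.prod_ite, one_pow, Finset.prod_const_one, mul_one,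
    Finset.filter_gt_eq_Iio, Fin.card_Iio]
  rw [Finset.prod_pow_eq_pow_sum, Fin.sum_univ_eq_sum_range (fun i => i), Finset.sum_range_id]

end Cfsg.Agent.S0769
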