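import Cfsg.Statements.S0770
-- no helpers

set_option autoImplicit false
open Cfsg

namespace Cfsg.Agent.S0770

/-- For a field with at least 3 elements, an invertible matrix normalises the subgroup of invertible diagonal matrices of GL_n if and only if it is monomial (exactly one non-zero entry in each row). -/
theorem result {F : Type*} [Field F] (hF : ∃ a : F, a ≠ 0 ∧ a ≠ 1) (n : ℕ) (g : Matrix.GeneralLinearGroup (Fin n) F) : g ∈ Subgroup.normalizer ((Units.map (Matrix.diagonalRingHom (Fin n) F).toMonoidHom).range : Subgroup (Matrix.GeneralLinearGroup (Fin n) F)) ↔ ∀ i : Fin n, ∃! j : Fin n, (g : Matrix (Fin n) (Fin n) F) i j ≠ 0 := by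
  classical
  set D := (Units.map (Matrix.diagonalRingHom (Fin n) F).toMonoidHom).range with hD
  have hmem : ∀ x : Matrix.GeneralLinearGroup (Fin n) F,
      x ∈ D ↔ ∀ i j, i ≠ j → (x : Matrix (Fin n) (Fin n) F) i j = 0 := by
    intro x
    constructor
    · rintro ⟨d, rfl⟩ i j hij
      exact Matrix.diagonal_apply_ne _ hij
    · intro hx
      have hdiag : Matrix.diagonal (Matrix.diag (x : Matrix (Fin n) (Fin n) F)) = x := by
        ext i j
        by_cases h : i = j
        · subst h; simp
        · simp [h, hx i j h]
      have hu : ∀ i, (x : Matrix (Fin n) (Fin n) F) i i ≠ 0 := by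
        intro i hi
        apply (Matrix.GeneralLinearGroup.det x).ne_zero
        rw [Matrix.GeneralLinearGroup.val_det_apply, ← hdiag, Matrix.det_diagonal]
        exact Finset.prod_eq_zero (Finset.mem_univ i) hi
      exact ⟨(MulEquiv.piUnits (M := fun _ : Fin n => F)).symm fun i => Units.mk0 _ (hu i), Units.ext hdiag⟩
  constructor
  · intro hg i
    obtain ⟨a, ha0, ha1⟩ := hF
    obtain ⟨j, hj⟩ : ∃ j, (g : Matrix (Fin n) (Fin n) F) i j ≠ 0 := by
      by_contra h
      push Not at h
      apply (Matrix.GeneralLinearGroup.det g).ne_zero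
      rw [Matrix.GeneralLinearGroup.val_det_apply]
      exact Matrix.det_eq_zero_of_row_eq_zero i h
    refine ⟨j, hj, fun l hl => ?_⟩
    by_contra hlj
    let d : Fin n → Fˣ := fun k => if k = j then Units.mk0 a ha0 else 1
    let x : Matrix.GeneralLinearGroup (Fin n) F :=
      Units.map (Matrix.diagonalRingHom (Fin n) F).toMonoidHom ((MulEquiv.piUnits (M := fun _ : Fin n => F)).symm d)
    have hy := (hmem (g * x * g⁻¹)).mp ((Subgroup.mem_normalizer_iff.mp hg x).mp ⟨_, rfl⟩)
    set y := g * x * g⁻¹ with hy'
    have heq : (y : Matrix (Fin n) (Fin n) F) * g = g * x := by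
      rw [← Units.val_mul, ← Units.val_mul, hy', inv_mul_cancel_right]
    have hx : (x : Matrix (Fin n) (Fin n) F) = Matrix.diagonal fun k => (d k : F) := rfl
    have hent : ∀ k, (y : Matrix (Fin n) (Fin n) F) i i * (g : Matrix (Fin n) (Fin n) F) i k =
        (g : Matrix (Fin n) (Fin n) F) i k * d k := by
      intro k
      have h := congrFun (congrFun heq i) k
      rw [hx, Matrix.mul_diagonal, Matrix.mul_apply,
        Finset.sum_eq_single i (fun b _ hb => by rw [hy i b (Ne.symm hb), zero_mul]) (by simp)] at h
      exact h
    have h1 := hent j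
    have h2 := hent l
    simp only [d, if_pos rfl, if_neg hlj, Units.val_mk0, Units.val_one] at h1 h2
    have hyii : (y : Matrix (Fin n) (Fin n) F) i i = a :=
      mul_right_cancel₀ hj (h1.trans (mul_comm _ _))
    rw [hyii] at h2
    exact ha1 (mul_right_cancel₀ hl (h2.trans (mul_comm _ _)))
  · intro hg
    choose π hπ hπu using hg
    have hent : ∀ i k, k ≠ π i → (g : Matrix (Fin n) (Fin n) F) i k = 0 := fun i k hk =>
      by_contra fun h => hk (hπu i k h)
    have hsurj : Function.Surjective π := fun c => by
      by_contra hc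
      push Not at hc
      apply (Matrix.GeneralLinearGroup.det g).ne_zero
      rw [Matrix.GeneralLinearGroup.val_det_apply]
      exact Matrix.det_eq_zero_of_column_eq_zero c fun r => hent r c (Ne.symm (hc r))
    have hinj : Function.Injective π := Finite.injective_iff_surjective.mpr hsurj
    have hginv : ∀ (k i : Fin n), k ≠ π i →
        ((g⁻¹ : Matrix.GeneralLinearGroup (Fin n) F) : Matrix (Fin n) (Fin n) F) k i = 0 := by
      intro k i hk
      obtain ⟨i', rfl⟩ := hsurj k
      have h := congrFun (congrFun
        (congrArg (fun u : Matrix.GeneralLinearGroup (Fin n) F => (u : Matrix (Fin n) (Fin n) F))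
          (mul_inv_cancel g)) i') i
      simp only [Units.val_mul, Units.val_one, Matrix.mul_apply] at h
      rw [Finset.sum_eq_single (π i') (fun b _ hb => by rw [hent i' b hb, zero_mul]) (by simp),
        Matrix.one_apply_ne (fun e => hk (congrArg π e))] at h
      exact (mul_eq_zero.mp h).resolve_left (hπ i')
    refine Subgroup.mem_normalizer_iff.mpr fun x => ?_
    rw [hmem, hmem]
    constructor
    · intro hx i j hij
      simp only [Units.val_mul, Matrix.mul_apply, Finset.sum_mul]
      refine Finset.sum_eq_zero fun l _ => Finset.sum_eq_zero fun k _ => ?_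
      by_cases hk : k = π i
      · by_cases hl : l = π j
        · by_cases hkl : k = l
          · exact absurd (hinj (hk.symm.trans (hkl.trans hl))) hij
          · rw [hx k l hkl, mul_zero, zero_mul]
        · rw [hginv l j hl, mul_zero]
      · rw [hent i k hk, zero_mul, zero_mul]
    · intro hx i j hij
      have : (x : Matrix (Fin n) (Fin n) F) =
          ((g⁻¹ * (g * x * g⁻¹) * g : Matrix.GeneralLinearGroup (Fin n) F) : Matrix (Fin n) (Fin n) F) := by
        congr 1
        group
      rw [this, Units.val_mul, Units.val_mul, Matrix.mul_apply]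
      refine Finset.sum_eq_zero fun l _ => ?_
      by_cases hl : j = π l
      · rw [Matrix.mul_apply, Finset.sum_mul]
        refine Finset.sum_eq_zero fun k _ => ?_
        by_cases hk : i = π k
        · rw [hx k l (fun e => hij (by rw [hl, hk, e])), mul_zero, zero_mul]
        · rw [hginv i k hk, zero_mul, zero_mul]
      · rw [hent l j hl, mul_zero]

end Cfsg.Agent.S0770
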