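import Cfsg.Statements.S0773
import Cfsg.Agent.Lib.Forms.GLParabolic

set_option autoImplicit false
open Cfsg

namespace Cfsg.Agent.S0773

/-- The stabilisers in GL_n(F), F finite, of the coordinate subspaces of dimensions k and n − k are isomorphic groups, but when 2k ≠ n (and 0 < k < n) no element of GL_n conjugates one onto the other. -/
theorem result {F : Type*} [Field F] [Finite F] (n k : ℕ) (hk0 : 0 < k) (hkn : k < n) (h2 : 2 * k ≠ n) : Nonempty (↥(Cfsg.stabilizing (Cfsg.glToMat (Fin n) F) {v : Fin n → F | ∀ i : Fin n, k ≤ (i : ℕ) → v i = 0}) ≃* ↥(Cfsg.stabilizing (Cfsg.glToMat (Fin n) F) {v : Fin n → F | ∀ i : Fin n, n - k ≤ (i : ℕ) → v i = 0})) ∧ ∀ g : Matrix.GeneralLinearGroup (Fin n) F, (Cfsg.stabilizing (Cfsg.glToMat (Fin n) F) {v : Fin n → F | ∀ i : Fin n, k ≤ (i : ℕ) → v i = 0}).map (MulAut.conj g).toMonoidHom ≠ Cfsg.stabilizing (Cfsg.glToMat (Fin n) F) {v : Fin n → F | ∀ i : Fin n, n - k ≤ (i : ℕ) → v i = 0} := by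
  have hinj : Function.Injective (Forms.graphAut F n) :=
    Function.Involutive.injective Forms.graphAut_graphAut
  refine ⟨⟨((Forms.coordStab F n k).equivMapOfInjective _ hinj).trans
    (MulEquiv.subgroupCongr (Forms.map_graphAut hkn.le))⟩, fun g hg => ?_⟩
  set M := (g : Matrix (Fin n) (Fin n) F) with hM
  let U : Submodule F (Fin n → F) := (Forms.coordSub F n k).map M.mulVecLin
  have hU : ∀ x ∈ Forms.coordStab F n (n - k), ∀ u ∈ U, (x : Matrix (Fin n) (Fin n) F).mulVec u ∈ U := by
    intro x hx u hu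
    obtain ⟨w, hw, rfl⟩ := hu
    obtain ⟨y, hy, rfl⟩ : x ∈ (Forms.coordStab F n k).map (MulAut.conj g).toMonoidHom := hg.symm ▸ hx
    refine ⟨(y : Matrix (Fin n) (Fin n) F).mulVec w, Forms.mem_coordStab_iff_mulVec.mp hy w hw, ?_⟩
    simp [hM, MulAut.conj_apply, Matrix.mulVec_mulVec, mul_assoc]
  have hfin : Module.finrank F U = k := by
    have hinjM : Function.Injective M.mulVecLin := by
      intro a b hab
      have := congrArg (((g⁻¹ : Matrix.GeneralLinearGroup (Fin n) F) : Matrix (Fin n) (Fin n) F).mulVec ·) hab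
      simpa [hM, Matrix.mulVec_mulVec] using this
    rw [← (Submodule.equivMapOfInjective _ hinjM (Forms.coordSub F n k)).finrank_eq, Forms.finrank_coordSub hkn.le]
  rcases Forms.coordStab_invariant U hU with h | h | h <;> rw [h] at hfin
  · rw [finrank_bot] at hfin; omega
  · rw [finrank_top, Module.finrank_fintype_fun_eq_card, Fintype.card_fin] at hfin; omega
  · rw [Forms.finrank_coordSub (Nat.sub_le n k)] at hfin; omega

end Cfsg.Agent.S0773
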