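import Cfsg.Statements.S0774
import Cfsg.Agent.Lib.Forms.SpParabolic

set_option autoImplicit false
open Cfsg

namespace Cfsg.Agent.S0774

open Matrix

variable {m : ℕ} {F : Type*} [Field F]

/-- Coordinate subspace of the first `k + 1` vectors. -/
def tri (m : ℕ) (F : Type*) [Field F] (k : Fin m) : Submodule F (Fin m ⊕ Fin m → F) where
  carrier := {v | (∀ i : Fin m, (k : ℕ) < (i : ℕ) → v (Sum.inl i) = 0) ∧ ∀ i : Fin m, v (Sum.inr i) = 0}
  add_mem' ha hb := ⟨fun i hi => by simp [ha.1 i hi, hb.1 i hi], fun i => by simp [ha.2 i, hb.2 i]⟩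
  zero_mem' := by simp
  smul_mem' a v hv := ⟨fun i hi => by simp [hv.1 i hi], fun i => by simp [hv.2 i]⟩

theorem coe_tri (k : Fin m) : (tri m F k : Set (Fin m ⊕ Fin m → F)) =
    {v | (∀ i : Fin m, (k : ℕ) < (i : ℕ) → v (Sum.inl i) = 0) ∧ ∀ i : Fin m, v (Sum.inr i) = 0} := rfl

/-- Coordinate subspace of the first `k` vectors. -/
def triLt (m : ℕ) (F : Type*) [Field F] (k : Fin m) : Submodule F (Fin m ⊕ Fin m → F) where
  carrier := {v | (∀ i : Fin m, (k : ℕ) ≤ (i : ℕ) → v (Sum.inl i) = 0) ∧ ∀ i : Fin m, v (Sum.inr i) = 0}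
  add_mem' ha hb := ⟨fun i hi => by simp [ha.1 i hi, hb.1 i hi], fun i => by simp [ha.2 i, hb.2 i]⟩
  zero_mem' := by simp
  smul_mem' a v hv := ⟨fun i hi => by simp [hv.1 i hi], fun i => by simp [hv.2 i]⟩

theorem e_mem (j k : Fin m) (h : j ≤ k) : (Pi.single (Sum.inl j) 1 : Fin m ⊕ Fin m → F) ∈ tri m F k := by
  refine ⟨fun i hi => ?_, fun i => by simp⟩
  have : i ≠ j := by rintro rfl; exact absurd h (not_le.mpr hi)
  simp [this]

theorem tri_mono {j k : Fin m} (h : j ≤ k) : tri m F j ≤ tri m F k :=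
  fun _ hv => ⟨fun i hi => hv.1 i (lt_of_le_of_lt h hi), hv.2⟩

theorem tri_le_triLt {j k : Fin m} (h : j < k) : tri m F j ≤ triLt m F k :=
  fun _ hv => ⟨fun i hi => hv.1 i (lt_of_lt_of_le h hi), hv.2⟩

theorem mem_triLt {k : Fin m} {v : Fin m ⊕ Fin m → F} (hv : v ∈ tri m F k) (h0 : v (Sum.inl k) = 0) :
    v ∈ triLt m F k :=
  ⟨fun i hi => (lt_or_eq_of_le hi).elim (hv.1 i) (fun h => (Fin.ext h.symm : i = k) ▸ h0), hv.2⟩

theorem tri_induction {k : Fin m} {v : Fin m ⊕ Fin m → F} {P : Submodule F (Fin m ⊕ Fin m → F)}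
    (hv : v ∈ tri m F k) (h : ∀ j ≤ k, (Pi.single (Sum.inl j) 1 : Fin m ⊕ Fin m → F) ∈ P) : v ∈ P := by
  rw [pi_eq_sum_univ' v]
  refine Submodule.sum_mem _ fun i _ => ?_
  rcases i with j | j
  · by_cases hj : j ≤ k
    · exact P.smul_mem _ (h j hj)
    · rw [hv.1 j (not_le.mp hj), zero_smul]; exact P.zero_mem
  · rw [hv.2 j, zero_smul]; exact P.zero_mem

theorem tri_isotropic {i j : Fin m} {u v : Fin m ⊕ Fin m → F} (hu : u ∈ tri m F i) (hv : v ∈ tri m F j) :
    Cfsg.sympForm m F u v = 0 := by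
  rw [Symplectic.sympForm_eq_sum]
  simp [hu.2, hv.2]

/-- Coordinates on `tri`. -/
def triEquiv (k : Fin m) : tri m F k ≃ₗ[F] ({i : Fin m // i ≤ k} → F) where
  toFun v i := v.1 (Sum.inl i.1)
  invFun w := ⟨Sum.elim (fun i => if h : i ≤ k then w ⟨i, h⟩ else 0) (fun _ => 0),
    fun i hi => by simp [not_le.mpr (show k < i from hi)], fun i => rfl⟩
  left_inv v := by
    refine Subtype.ext (funext fun i => ?_)
    rcases i with i | i
    · by_cases h : i ≤ k
      · simp [h]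
      · simpa [h] using (v.2.1 i (not_le.mp h)).symm
    · simpa using (v.2.2 i).symm
  right_inv w := by funext ⟨i, hi⟩; simp [hi]
  map_add' _ _ := rfl
  map_smul' _ _ := rfl

/-- Coordinates on `triLt`. -/
def triLtEquiv (k : Fin m) : triLt m F k ≃ₗ[F] ({i : Fin m // i < k} → F) where
  toFun v i := v.1 (Sum.inl i.1)
  invFun w := ⟨Sum.elim (fun i => if h : i < k then w ⟨i, h⟩ else 0) (fun _ => 0),
    fun i hi => by simp [not_lt.mpr (show k ≤ i from hi)], fun i => rfl⟩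
  left_inv v := by
    refine Subtype.ext (funext fun i => ?_)
    rcases i with i | i
    · by_cases h : i < k
      · simp [h]
      · simpa [h] using (v.2.1 i (not_lt.mp h)).symm
    · simpa using (v.2.2 i).symm
  right_inv w := by funext ⟨i, hi⟩; simp [hi]
  map_add' _ _ := rfl
  map_smul' _ _ := rfl

theorem finrank_tri (k : Fin m) : Module.finrank F (tri m F k) = k + 1 := by
  rw [(triEquiv k).finrank_eq, Module.finrank_fintype_fun_eq_card, Fintype.card_subtype,
    Finset.filter_ge_eq_Iic, Fin.card_Iic]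

theorem finrank_triLt (k : Fin m) : Module.finrank F (triLt m F k) = k := by
  rw [(triLtEquiv k).finrank_eq, Module.finrank_fintype_fun_eq_card, Fintype.card_subtype,
    Finset.filter_gt_eq_Iio, Fin.card_Iio]

theorem card_D [Fintype F] {q : ℕ} (hF : Fintype.card F = q) (k : Fin m) :
    Nat.card {v : Fin m ⊕ Fin m → F // v ∈ {v | v ∈ tri m F k ∧ v (Sum.inl k) ≠ 0}} =
      q ^ (k : ℕ) * (q - 1) := by
  classical
  have hle : triLt m F k ≤ tri m F k := fun v hv => ⟨fun i hi => hv.1 i hi.le, hv.2⟩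
  have hset : {v : Fin m ⊕ Fin m → F | v ∈ tri m F k ∧ v (Sum.inl k) ≠ 0} =
      (tri m F k : Set (Fin m ⊕ Fin m → F)) \ (triLt m F k : Set (Fin m ⊕ Fin m → F)) := by
    ext v
    exact ⟨fun h => ⟨h.1, fun h' => h.2 (h'.1 k le_rfl)⟩, fun h => ⟨h.1, fun h0 => h.2 (mem_triLt h.1 h0)⟩⟩
  show Nat.card {v : Fin m ⊕ Fin m → F | v ∈ tri m F k ∧ v (Sum.inl k) ≠ 0} = _
  rw [hset, Nat.card_coe_set_eq, Set.ncard_sdiff hle (Set.toFinite _), ← Nat.card_coe_set_eq,
    ← Nat.card_coe_set_eq, SetLike.coe_sort_coe, SetLike.coe_sort_coe, Module.natCard_eq_pow_finrank (K := F),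
    Module.natCard_eq_pow_finrank (K := F) (V := triLt m F k), finrank_tri, finrank_triLt,
    Nat.card_eq_fintype_card, hF, pow_succ, Nat.mul_sub_one]

theorem linearIndependent_tri (t : Fin m → (Fin m ⊕ Fin m → F))
    (ht : ∀ k, t k ∈ tri m F k ∧ t k (Sum.inl k) ≠ 0) : LinearIndependent F t := by
  let M : Matrix (Fin m) (Fin m) F := Matrix.of fun k i => t k (Sum.inl i)
  have hdet : M.det ≠ 0 := by
    rw [Matrix.det_of_isLowerTriangular M fun k i hki => (ht k).1.1 i hki]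
    exact Finset.prod_ne_zero_iff.mpr fun k _ => (ht k).2
  have hrows : LinearIndependent F M.row :=
    Matrix.linearIndependent_rows_iff_isUnit.mpr ((Matrix.isUnit_iff_isUnit_det M).mpr hdet.isUnit)
  exact LinearIndependent.of_comp (LinearMap.funLeft F F (Sum.inl : Fin m → Fin m ⊕ Fin m)) hrows


/-- Borel subgroup of the symplectic group: the elements of Sp_2m(q) stabilising each of the totally isotropic coordinate subspaces ⟨e_0, ..., e_k⟩ (k < m) form a subgroup of order q^(m²) (q − 1)^m. -/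
theorem result {F : Type*} [Field F] [Fintype F] {q : ℕ} (hF : Fintype.card F = q) (m : ℕ) : Nat.card ↥(⨅ k : Fin m, Cfsg.stabilizing (Cfsg.spToMat m F) {v : Fin m ⊕ Fin m → F | (∀ i : Fin m, (k : ℕ) < (i : ℕ) → v (Sum.inl i) = 0) ∧ ∀ i : Fin m, v (Sum.inr i) = 0}) = q ^ (m ^ 2) * (q - 1) ^ m := by
  classical
  let e : Fin m → (Fin m ⊕ Fin m → F) := fun i => Pi.single (Sum.inl i) 1
  have he : LinearIndependent F e :=
    (Pi.linearIndependent_single_one (Fin m ⊕ Fin m) F).comp Sum.inl Sum.inl_injective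
  have hei : ∀ i j, Cfsg.sympForm m F (e i) (e j) = 0 := fun i j => Symplectic.sympForm_eI_eI i j
  set K := ⨅ k : Fin m, Cfsg.stabilizing (Cfsg.spToMat m F) {v : Fin m ⊕ Fin m → F |
    (∀ i : Fin m, (k : ℕ) < (i : ℕ) → v (Sum.inl i) = 0) ∧ ∀ i : Fin m, v (Sum.inr i) = 0} with hK
  have hmem : ∀ g : Symplectic.Sp m F, g ∈ K ↔ ∀ k, g • e k ∈ tri m F k := fun g => by
    simp only [hK, ← coe_tri, Subgroup.mem_iInf, Forms.mem_stab_submodule_iff]
    exact ⟨fun h k => h k _ (e_mem k k le_rfl), fun h k w hw => tri_induction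
      (P := Submodule.comap (Matrix.mulVecLin (g : Matrix (Fin m ⊕ Fin m) (Fin m ⊕ Fin m) F)) (tri m F k))
      hw fun j hj => tri_mono hj (h j)⟩
  have hstab : Nat.card (MulAction.stabilizer K e) = q ^ (m * (m + 1) / 2) := by
    have h : Forms.fixOrder q m m = q ^ (m * (m + 1) / 2) := by simp [Forms.fixOrder]
    rw [← h, ← Forms.card_fix_tuple hF m le_rfl e he hei]
    refine Nat.card_congr ⟨fun g => ⟨g.1.1, g.2⟩, fun g => ⟨⟨g.1, ?_⟩, g.2⟩, fun _ => rfl, fun _ => rfl⟩
    rw [hmem]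
    intro k
    have hgk : g.1 • e k = e k := congrFun g.2 k
    rw [hgk]
    exact e_mem k k le_rfl
  let D : Fin m → Set (Fin m ⊕ Fin m → F) := fun k => {v | v ∈ tri m F k ∧ v (Sum.inl k) ≠ 0}
  have horb : MulAction.orbit K e = {t | ∀ k, t k ∈ D k} := by
    ext t
    constructor
    · rintro ⟨g, rfl⟩ k
      refine ⟨(hmem g.1).mp g.2 k, fun h0 => ?_⟩
      -- otherwise `g` would map `k + 1` independent vectors into `k` coordinates
      obtain ⟨M, hM, hker⟩ : ∃ M : (Fin m ⊕ Fin m → F) →ₗ[F] (Fin m ⊕ Fin m → F),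
          (∀ v, M v = g.1 • v) ∧ Function.Injective M :=
        ⟨Matrix.mulVecLin (g.1 : Matrix (Fin m ⊕ Fin m) (Fin m ⊕ Fin m) F), fun _ => rfl,
          fun x y h => MulAction.injective g.1 h⟩
      have hle : Submodule.map M (tri m F k) ≤ triLt m F k := by
        rintro _ ⟨v, hv, rfl⟩
        refine tri_induction (P := Submodule.comap M (triLt m F k)) hv fun j hj => ?_
        rw [Submodule.mem_comap, hM]
        rcases lt_or_eq_of_le hj with hlt | heq
        · exact tri_le_triLt hlt ((hmem g.1).mp g.2 j)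
        · subst heq
          exact mem_triLt ((hmem g.1).mp g.2 j) h0
      have h1 := Submodule.finrank_mono hle
      rw [(Submodule.equivMapOfInjective M hker _).symm.finrank_eq, finrank_tri, finrank_triLt] at h1
      omega
    · intro ht
      obtain ⟨g, hg⟩ := Forms.exists_smul_tuple e t he (linearIndependent_tri t ht) (fun i j => by
        rw [hei, tri_isotropic (ht i).1 (ht j).1])
      exact ⟨⟨g, (hmem g).mpr fun k => (hg k).symm ▸ (ht k).1⟩, funext hg⟩
  have horbcard : Nat.card (MulAction.orbit K e) = q ^ (m * (m - 1) / 2) * (q - 1) ^ m := by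
    rw [horb]
    show Nat.card {t : Fin m → (Fin m ⊕ Fin m → F) // ∀ k, t k ∈ D k} = _
    rw [Nat.card_congr Equiv.subtypePiEquivPi, Nat.card_pi,
      Finset.prod_congr rfl (fun k _ => card_D hF k), Finset.prod_mul_distrib, Finset.prod_const,
      Finset.prod_pow_eq_pow_sum, Fin.sum_univ_eq_sum_range (fun i => i), Finset.sum_range_id,
      Finset.card_univ, Fintype.card_fin]
  rw [← Forms.card_orbit_mul_card_stab (G := K) e, horbcard, hstab, mul_right_comm, ← pow_add]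
  congr 2
  obtain ⟨s, hs⟩ : ∃ s, m * (m + 1) = 2 * s := even_iff_two_dvd.mp (Nat.even_mul_succ_self m)
  rw [hs, Nat.mul_div_cancel_left _ two_pos]
  rcases Nat.eq_zero_or_pos m with rfl | hm
  · simp at hs ⊢; omega
  obtain ⟨r, hr⟩ : ∃ r, m * (m - 1) = 2 * r := even_iff_two_dvd.mp (Nat.even_mul_pred_self m)
  rw [hr, Nat.mul_div_cancel_left _ two_pos]
  obtain ⟨n, rfl⟩ : ∃ n, m = n + 1 := ⟨m - 1, by omega⟩
  rw [Nat.add_sub_cancel] at hr
  linarith

end Cfsg.Agent.S0774
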