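import Cfsg.Statements.S0775
import Cfsg.Agent.Lib.Forms.SpParabolic

set_option autoImplicit false
open Cfsg

namespace Cfsg.Agent.S0775

/-- Maximal parabolics of the symplectic group: if W is a k-dimensional subspace of F^(2m) on which the symplectic form vanishes identically, its stabiliser in Sp_2m(q) has order q^(k(k+1)/2 + 2k(m−k)) · |Sp_(2m−2k)(q)| · |GL_k(q)|. -/
theorem result {F : Type*} [Field F] [Fintype F] {q : ℕ} (hF : Fintype.card F = q) (m k : ℕ) (hk : k ≤ m) (W : Submodule F (Fin m ⊕ Fin m → F)) (hWk : Module.finrank F W = k) (hW : ∀ u ∈ W, ∀ v ∈ W, Cfsg.sympForm m F u v = 0) : Nat.card ↥(Cfsg.stabilizing (Cfsg.spToMat m F) (W : Set (Fin m ⊕ Fin m → F))) = q ^ (k * (k + 1) / 2 + 2 * k * (m - k)) * (q ^ ((m - k) ^ 2) * ∏ i ∈ Finset.range (m - k), (q ^ (2 * (i + 1)) - 1)) * ∏ i : Fin k, (q ^ k - q ^ (i : ℕ)) := by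
  classical
  let b : Fin k → (Fin m ⊕ Fin m → F) := fun i => (Module.finBasisOfFinrankEq F W hWk i : _)
  have hbW : ∀ i, b i ∈ W := fun i => SetLike.coe_mem _
  have hb : LinearIndependent F b :=
    (Module.finBasisOfFinrankEq F W hWk).linearIndependent.map' W.subtype W.ker_subtype
  have hspan : Submodule.span F (Set.range b) = W := by
    apply Submodule.eq_of_le_of_finrank_eq
    · rw [Submodule.span_le]; rintro _ ⟨i, rfl⟩; exact hbW i
    · rw [finrank_span_eq_card hb, Fintype.card_fin, hWk]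
  set K := Cfsg.stabilizing (Cfsg.spToMat m F) (W : Set (Fin m ⊕ Fin m → F)) with hK
  have hstab : Nat.card (MulAction.stabilizer K b) = Forms.fixOrder q m k := by
    rw [← Forms.card_fix_tuple hF k hk b hb (fun i j => hW _ (hbW i) _ (hbW j))]
    refine Nat.card_congr ⟨fun g => ⟨g.1.1, g.2⟩, fun g => ⟨⟨g.1, ?_⟩, g.2⟩, fun _ => rfl, fun _ => rfl⟩
    rw [hK, Forms.mem_stab_submodule_iff]
    intro w hw
    rw [← hspan] at hw
    obtain ⟨c, rfl⟩ := (Submodule.mem_span_range_iff_exists_fun F).mp hw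
    have hg : ∀ i, g.1 • b i = b i := fun i => congrFun g.2 i
    rw [Forms.smul_sum_smul]
    exact Submodule.sum_mem _ fun i _ => W.smul_mem _ ((hg i).symm ▸ hbW i)
  have horb : Nat.card (MulAction.orbit K b) = ∏ i : Fin k, (q ^ k - q ^ (i : ℕ)) := by
    have h := card_linearIndependent (K := F) (V := W) (k := k) hWk.ge
    rw [hWk, hF] at h
    rw [← h]
    refine Nat.card_congr (Equiv.ofBijective (fun t => ⟨fun i => ⟨t.1 i, ?_⟩, ?_⟩) ⟨?_, ?_⟩)
    · obtain ⟨g, hg⟩ := t.2
      rw [← hg]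
      exact (Forms.mem_stab_submodule_iff W g.1).mp g.2 _ (hbW i)
    · obtain ⟨g, hg⟩ := t.2
      refine LinearIndependent.of_comp W.subtype ?_
      show LinearIndependent F t.1
      rw [← hg]
      exact hb.map' (Matrix.mulVecLin (g.1 : Matrix (Fin m ⊕ Fin m) (Fin m ⊕ Fin m) F))
        (LinearMap.ker_eq_bot.mpr fun x y h => MulAction.injective g.1 h)
    · intro s t h
      exact Subtype.ext (funext fun i => congrArg Subtype.val (congrFun (congrArg Subtype.val h) i))
    · rintro ⟨t, ht⟩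
      have ht' : LinearIndependent F (fun i => (t i : Fin m ⊕ Fin m → F)) := ht.map' W.subtype W.ker_subtype
      obtain ⟨g, hg⟩ := Forms.exists_smul_tuple b (fun i => (t i : Fin m ⊕ Fin m → F)) hb ht'
        (fun i j => by rw [hW _ (t i).2 _ (t j).2, hW _ (hbW i) _ (hbW j)])
      refine ⟨⟨fun i => (t i : Fin m ⊕ Fin m → F), ⟨⟨g, ?_⟩, funext hg⟩⟩, rfl⟩
      rw [hK, Forms.mem_stab_submodule_iff]
      intro w hw
      rw [← hspan] at hw
      obtain ⟨c, rfl⟩ := (Submodule.mem_span_range_iff_exists_fun F).mp hw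
      rw [Forms.smul_sum_smul]
      simp only [hg]
      exact Submodule.sum_mem _ fun i _ => W.smul_mem _ (t i).2
  rw [← Forms.card_orbit_mul_card_stab (G := K) b, horb, hstab, Forms.fixOrder, mul_comm]

end Cfsg.Agent.S0775
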