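import Cfsg.Statements.S0776
import Cfsg.Agent.Lib.Forms.Symp

set_option autoImplicit false
open Cfsg

namespace Cfsg.Agent.S0776

open Cfsg.Agent.Symplectic Cfsg.Agent.Forms

/-- Coordinates of a non-degenerate subspace. -/
theorem exists_coords {F : Type*} [Field F] {m : ℕ} (W : Submodule F (Vec m F)) (r : ℕ)
    (hr : Module.finrank F W = 2 * r) (hW : ∀ u ∈ W, (∀ v ∈ W, Cfsg.sympForm m F u v = 0) → u = 0) :
    ∃ L : Vec r F →ₗ[F] Vec m F, LinearMap.range L = W ∧
      ∀ u v, Cfsg.sympForm m F (L u) (L v) = Cfsg.sympForm r F u v := by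
  obtain ⟨j, e, f, he, hf, hef, hee, hff, hspan⟩ := exists_symplectic_family (sympBilin m F) sympBilin_isAlt W
    (fun w hw h => hW w hw fun v hv => by simpa [sympBilin_apply] using h v hv)
  have hj := finrank_eq_of_symplectic_family (sympBilin m F) sympBilin_isAlt W e f he hf hef hee hff hspan
  obtain rfl : j = r := by omega
  simp only [sympBilin_apply] at hef hee hff
  refine ⟨sympEmb f e, ?_, sympForm_sympEmb f e (fun a b => ?_) hff hee⟩
  · rw [sympEmb, Fintype.range_linearCombination]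
    refine le_antisymm ?_ (hspan.trans (Submodule.span_mono ?_))
    · rw [Submodule.span_le]; rintro _ ⟨a | a, rfl⟩ <;> simp [he, hf]
    · rintro _ ⟨a | a, rfl⟩
      · exact ⟨Sum.inr a, rfl⟩
      · exact ⟨Sum.inl a, rfl⟩
  · rw [sympForm_swap, hef]
    by_cases h : a = b
    · subst h; simp
    · rw [if_neg h, if_neg (Ne.symm h), neg_zero]


/-- If W ≤ F^(2m) is a 2k-dimensional subspace on which the symplectic form is non-degenerate, then the stabiliser of W in Sp_2m(F) is isomorphic to Sp_2k(F) × Sp_(2m−2k)(F). -/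
theorem result {F : Type*} [Field F] (m k : ℕ) (hk : k ≤ m) (W : Submodule F (Fin m ⊕ Fin m → F)) (hWk : Module.finrank F W = 2 * k) (hW : ∀ u ∈ W, (∀ v ∈ W, Cfsg.sympForm m F u v = 0) → u = 0) : Nonempty (↥(Cfsg.stabilizing (Cfsg.spToMat m F) (W : Set (Fin m ⊕ Fin m → F))) ≃* Matrix.symplecticGroup (Fin k) F × Matrix.symplecticGroup (Fin (m - k)) F) := by
  classical
  set P := (sympBilin m F).orthogonal W with hP
  have hmemP : ∀ v, v ∈ P ↔ ∀ w ∈ W, Cfsg.sympForm m F w v = 0 := fun v => by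
    rw [hP, LinearMap.BilinForm.mem_orthogonal_iff]
    exact forall₂_congr fun w _ => by rw [← sympBilin_apply]
  have hPd : Module.finrank F P = 2 * (m - k) := by
    rw [hP, LinearMap.BilinForm.finrank_orthogonal sympBilin_nondegenerate,
      Module.finrank_fintype_fun_eq_card, hWk, Fintype.card_sum, Fintype.card_fin]
    omega
  have hdis : W ⊓ P = ⊥ := by
    rw [Submodule.eq_bot_iff]
    rintro u ⟨h1, h2⟩
    refine hW u h1 fun v hv => ?_
    rw [sympForm_swap, (hmemP u).mp h2 v hv, neg_zero]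
  have hsup : W ⊔ P = ⊤ := by
    apply Submodule.eq_top_of_finrank_eq
    have := Submodule.finrank_sup_add_finrank_inf_eq W P
    rw [hdis, finrank_bot, hWk, hPd] at this
    rw [Module.finrank_fintype_fun_eq_card, Fintype.card_sum, Fintype.card_fin]
    omega
  have hPnd : ∀ u ∈ P, (∀ v ∈ P, Cfsg.sympForm m F u v = 0) → u = 0 := by
    intro u hu h
    refine sympForm_left_cancel fun v => ?_
    obtain ⟨w, hw, p, hp, rfl⟩ := Submodule.mem_sup.mp (hsup ▸ Submodule.mem_top : v ∈ W ⊔ P)
    rw [sympForm_add_right, h p hp, sympForm_swap, (hmemP u).mp hu w hw, neg_zero, add_zero]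
  obtain ⟨L₁, hL₁r, hL₁⟩ := exists_coords W k hWk hW
  obtain ⟨L₂, hL₂r, hL₂⟩ := exists_coords P (m - k) hPd hPnd
  have hL₁m : ∀ a, L₁ a ∈ W := fun a => hL₁r ▸ LinearMap.mem_range_self L₁ a
  have hL₂m : ∀ b, L₂ b ∈ P := fun b => hL₂r ▸ LinearMap.mem_range_self L₂ b
  have hcross : ∀ a b, Cfsg.sympForm m F (L₁ a) (L₂ b) = 0 := fun a b => (hmemP _).mp (hL₂m b) _ (hL₁m a)
  have hcross' : ∀ a b, Cfsg.sympForm m F (L₂ b) (L₁ a) = 0 := fun a b => by
    rw [sympForm_swap, hcross, neg_zero]
  have hbij : Function.Bijective (L₁.coprod L₂) := by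
    refine ⟨?_, ?_⟩
    · rw [injective_iff_map_eq_zero]
      rintro ⟨a, b⟩ hab
      rw [LinearMap.coprod_apply] at hab
      have h1 : a = 0 := sympForm_left_cancel fun v => by
        rw [← hL₁]
        have := congrArg (fun z => Cfsg.sympForm m F z (L₁ v)) hab
        simpa [sympForm_add_left, hcross'] using this
      have h2 : b = 0 := sympForm_left_cancel fun v => by
        rw [← hL₂]
        have := congrArg (fun z => Cfsg.sympForm m F z (L₂ v)) hab
        simpa [sympForm_add_left, hcross] using this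
      rw [h1, h2]; rfl
    · rw [← LinearMap.range_eq_top, LinearMap.range_coprod, hL₁r, hL₂r, hsup]
  let e := LinearEquiv.ofBijective (L₁.coprod L₂) hbij
  have he : ∀ a b, e (a, b) = L₁ a + L₂ b := fun a b => LinearMap.coprod_apply L₁ L₂ (a, b)
  have hform : ∀ x y, Cfsg.sympForm m F (e x) (e y) =
      Cfsg.sympForm k F x.1 y.1 + Cfsg.sympForm (m - k) F x.2 y.2 := by
    rintro ⟨a, b⟩ ⟨c, d⟩
    simp only [he, sympForm_add_left, sympForm_add_right, hL₁, hL₂, hcross, hcross', add_zero, zero_add]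
  let act : Sp k F × Sp (m - k) F → Vec m F →ₗ[F] Vec m F := fun g =>
    e.toLinearMap ∘ₗ (((g.1 : Matrix (Fin k ⊕ Fin k) (Fin k ⊕ Fin k) F).mulVecLin).prodMap
      ((g.2 : Matrix (Fin (m - k) ⊕ Fin (m - k)) (Fin (m - k) ⊕ Fin (m - k)) F).mulVecLin)) ∘ₗ e.symm.toLinearMap
  have hact : ∀ g a b, act g (e (a, b)) = e (g.1 • a, g.2 • b) := fun g a b => by simp [act]; exact ⟨rfl, rfl⟩
  let φ : Sp k F × Sp (m - k) F →* Sp m F :=
    MonoidHom.mk' (fun g => spOfLinearMap (act g) (fun u v => by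
      obtain ⟨⟨a, b⟩, rfl⟩ := e.surjective u
      obtain ⟨⟨c, d⟩, rfl⟩ := e.surjective v
      rw [hact, hact, hform, hform]
      simp)) (fun g g' => eq_of_smul_eq fun v => by
      obtain ⟨⟨a, b⟩, rfl⟩ := e.surjective v
      erw [spOfLinearMap_smul, mul_smul, spOfLinearMap_smul, spOfLinearMap_smul]
      rw [hact, hact, hact]
      simp [mul_smul])
  have hφ : ∀ g a b, φ g • e (a, b) = e (g.1 • a, g.2 • b) := fun g a b => by
    rw [MonoidHom.mk'_apply]
    erw [spOfLinearMap_smul]
    rw [hact]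
  have hinj : Function.Injective φ := by
    intro g g' h
    refine Prod.ext (eq_of_smul_eq fun a => ?_) (eq_of_smul_eq fun b => ?_)
    · have := congrArg (fun x : Sp m F => x • e (a, 0)) h
      simp only [hφ] at this
      exact congrArg Prod.fst (e.injective this)
    · have := congrArg (fun x : Sp m F => x • e (0, b)) h
      simp only [hφ] at this
      exact congrArg Prod.snd (e.injective this)
  have hWe : ∀ w : Vec m F, w ∈ W ↔ ∃ a, w = e (a, 0) := fun w => by
    rw [← hL₁r, LinearMap.mem_range]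
    exact exists_congr fun a => by rw [he, map_zero, add_zero, eq_comm]
  have hrange : φ.range = Cfsg.stabilizing (Cfsg.spToMat m F) (W : Set (Fin m ⊕ Fin m → F)) := by
    apply le_antisymm
    · rintro _ ⟨g, rfl⟩
      rw [mem_stab_submodule_iff]
      intro w hw
      obtain ⟨a, rfl⟩ := (hWe w).mp hw
      erw [hφ]
      rw [smul_zero]
      exact (hWe _).mpr ⟨_, rfl⟩
    · intro A hA
      have hAW := (mem_stab_submodule_iff W A).mp hA
      have hAinv := (mem_stab_submodule_iff W A⁻¹).mp (inv_mem hA)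
      have hAP : ∀ v ∈ P, A • v ∈ P := fun v hv => (hmemP _).mpr fun w hw => by
        rw [← sympForm_smul_smul A⁻¹, inv_smul_smul]
        exact (hmemP v).mp hv _ (hAinv w hw)
      have hPe : ∀ w, w ∈ P → (e.symm w).1 = 0 := fun w hw => by
        obtain ⟨⟨a, b⟩, rfl⟩ := e.surjective w
        rw [LinearEquiv.symm_apply_apply]
        refine sympForm_left_cancel fun v => ?_
        have := (hmemP _).mp hw (L₁ v) (hL₁m v)
        rw [he, sympForm_add_right, hL₁, hcross, add_zero] at this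
        rw [sympForm_swap, this, neg_zero]
      have h1 : ∀ a, (e.symm (A • e (a, 0))).2 = 0 := fun a => by
        obtain ⟨a', ha'⟩ := (hWe _).mp (hAW _ ((hWe _).mpr ⟨a, rfl⟩))
        erw [ha']
        rw [LinearEquiv.symm_apply_apply]
      have h2 : ∀ b, (e.symm (A • e (0, b))).1 = 0 := fun b =>
        hPe _ (hAP _ (by rw [he, map_zero, zero_add]; exact hL₂m b))
      let M := (A : Matrix (Fin m ⊕ Fin m) (Fin m ⊕ Fin m) F).mulVecLin
      let A₁ := LinearMap.fst F (Vec k F) (Vec (m - k) F) ∘ₗ e.symm.toLinearMap ∘ₗ M ∘ₗ e.toLinearMap ∘ₗ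
        LinearMap.inl F (Vec k F) (Vec (m - k) F)
      let A₂ := LinearMap.snd F (Vec k F) (Vec (m - k) F) ∘ₗ e.symm.toLinearMap ∘ₗ M ∘ₗ e.toLinearMap ∘ₗ
        LinearMap.inr F (Vec k F) (Vec (m - k) F)
      have hA₁ : ∀ a, A • e (a, 0) = e (A₁ a, 0) := fun a => by
        conv_lhs => rw [← e.apply_symm_apply (A • e (a, 0))]
        exact congrArg e (Prod.ext rfl (h1 a))
      have hA₂ : ∀ b, A • e (0, b) = e (0, A₂ b) := fun b => by
        conv_lhs => rw [← e.apply_symm_apply (A • e (0, b))]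
        exact congrArg e (Prod.ext (h2 b) rfl)
      have hs₁ : ∀ u v, Cfsg.sympForm k F (A₁ u) (A₁ v) = Cfsg.sympForm k F u v := fun u v => by
        have := sympForm_smul_smul A (e (u, 0)) (e (v, 0))
        rw [hA₁, hA₁, hform, hform] at this
        simpa using this
      have hs₂ : ∀ u v, Cfsg.sympForm (m - k) F (A₂ u) (A₂ v) = Cfsg.sympForm (m - k) F u v := fun u v => by
        have := sympForm_smul_smul A (e (0, u)) (e (0, v))
        rw [hA₂, hA₂, hform, hform] at this
        simpa using this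
      refine ⟨(spOfLinearMap A₁ hs₁, spOfLinearMap A₂ hs₂), eq_of_smul_eq fun v => ?_⟩
      obtain ⟨⟨a, b⟩, rfl⟩ := e.surjective v
      rw [hφ]
      erw [spOfLinearMap_smul A₁ hs₁, spOfLinearMap_smul A₂ hs₂]
      have hsum : ∀ (x : Vec k F) (y : Vec (m - k) F), e (x, y) = e (x, 0) + e (0, y) := fun x y => by
        rw [← map_add, Prod.mk_add_mk, add_zero, zero_add]
      rw [hsum a b, smul_add, hA₁, hA₂, hsum (A₁ a) (A₂ b)]
  exact ⟨((MonoidHom.ofInjective hinj).trans (MulEquiv.subgroupCongr hrange)).symm⟩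

end Cfsg.Agent.S0776
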