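import Cfsg.Statements.S0777
import Cfsg.Agent.Lib.Forms.Symp

set_option autoImplicit false
open Cfsg

namespace Cfsg.Agent.S0777

open Cfsg.Agent.Symplectic Cfsg.Agent.Forms

variable {F : Type*} [Field F] {m : ℕ}

/-- The coordinate vector at `x`. -/
def axis (F : Type*) [Field F] {m : ℕ} (x : Fin m ⊕ Fin m) : Vec m F := Pi.single x 1

/-- The value of the form on a coordinate vector and its partner. -/
def sgn (F : Type*) [Field F] {m : ℕ} (x : Fin m ⊕ Fin m) : F := Sum.elim (fun _ => -1) (fun _ => 1) x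

theorem sympForm_axis (x y : Fin m ⊕ Fin m) :
    Cfsg.sympForm m F (axis F x) (axis F y) = if y = x.swap then sgn F x else 0 := by
  rcases x with i | i
  · rw [show axis F (Sum.inl i) = (eI i : Vec m F) from rfl, sympForm_eI_left, axis, Pi.single_apply]
    by_cases h : y = Sum.inr i
    · subst h; simp [sgn]
    · simp [h, Ne.symm h]
  · rw [show axis F (Sum.inr i) = (fI i : Vec m F) from rfl, sympForm_fI_left, axis, Pi.single_apply]
    by_cases h : y = Sum.inl i
    · subst h; simp [sgn]
    · simp [h, Ne.symm h]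

theorem smul_axis_inj {c c' : F} {x y : Fin m ⊕ Fin m} (hc : c ≠ 0) (h : c • axis F x = c' • axis F y) :
    x = y ∧ c = c' := by
  have h1 := congrFun h x
  by_cases hxy : x = y
  · subst hxy; simpa [axis] using h1
  · simp [axis, hxy, hc] at h1

/-- Monomial symplectic matrices. -/
def IsMono (g : Sp m F) : Prop :=
  ∀ x, ∃ (y : Fin m ⊕ Fin m) (c : F), g • axis F x = c • axis F y

theorem IsMono.ne_zero {g : Sp m F} {x y : Fin m ⊕ Fin m} {c : F} (h : g • axis F x = c • axis F y) : c ≠ 0 := by
  rintro rfl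
  rw [zero_smul, smul_eq_zero_iff_eq] at h
  simp [axis, Pi.single_eq_zero_iff] at h

theorem IsMono.inv {g : Sp m F} (hg : IsMono g) : IsMono g⁻¹ := by
  choose π c hc using hg
  have hinj : Function.Injective π := fun x x' hxx => by
    have h : c x' • (g • axis F x) = c x • (g • axis F x') := by rw [hc, hc, hxx, smul_comm]
    rw [← smul_comm g, ← smul_comm g] at h
    exact (smul_axis_inj (IsMono.ne_zero (hc x')) (MulAction.injective g h)).1
  intro y
  obtain ⟨x, rfl⟩ := Finite.injective_iff_surjective.mp hinj y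
  refine ⟨x, (c x)⁻¹, ?_⟩
  have h : axis F (π x) = (c x)⁻¹ • (g • axis F x) := by
    rw [hc, inv_smul_smul₀ (IsMono.ne_zero (hc x))]
  rw [h, ← smul_comm (c x)⁻¹ g⁻¹, inv_smul_smul]

/-- The diagonal torus of the symplectic group. -/
abbrev torus (F : Type*) [Field F] (m : ℕ) : Subgroup (Sp m F) :=
  ⨅ i : Fin m ⊕ Fin m, Cfsg.stabilizing (Cfsg.spToMat m F)
    ((Submodule.span F {(Pi.single i (1 : F) : Fin m ⊕ Fin m → F)} : Submodule F (Fin m ⊕ Fin m → F)) :
      Set (Fin m ⊕ Fin m → F))

theorem mem_torus {g : Sp m F} : g ∈ torus F m ↔ ∀ x : Fin m ⊕ Fin m, ∃ c : F, g • axis F x = c • axis F x := by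
  simp only [torus, Subgroup.mem_iInf, mem_stab_submodule_iff]
  refine forall_congr' fun x => ⟨fun h => ?_, fun ⟨c, hc⟩ w hw => ?_⟩
  · obtain ⟨c, hc⟩ := Submodule.mem_span_singleton.mp (h _ (Submodule.mem_span_singleton_self _))
    exact ⟨c, hc.symm⟩
  · obtain ⟨a, rfl⟩ := Submodule.mem_span_singleton.mp hw
    refine Submodule.mem_span_singleton.mpr ⟨a * c, ?_⟩
    rw [mul_smul]
    exact ((smul_comm g a (axis F x)).trans (congrArg (a • ·) hc)).symm

/-- Signed permutations with weights. -/
abbrev Param (F : Type*) [Field F] (m : ℕ) := Equiv.Perm (Fin m) × (Fin m → Bool) × (Fin m → Fˣ)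

/-- The image of the `i`-th coordinate vector. -/
def pt (p : Param F m) (i : Fin m) : Fin m ⊕ Fin m := if p.2.1 i then Sum.inr (p.1 i) else Sum.inl (p.1 i)

theorem pt_eq_iff (p : Param F m) {i j : Fin m} :
    (pt p i = pt p j ↔ i = j) ∧ (pt p j ≠ (pt p i).swap) ∧ ((pt p j).swap = (pt p i).swap ↔ i = j) := by
  unfold pt
  by_cases h : i = j
  · subst h; cases p.2.1 i <;> simp
  · cases p.2.1 i <;> cases p.2.1 j <;> simp [h, Ne.symm h]

/-- First half of the images. -/
def imX (p : Param F m) (i : Fin m) : Vec m F := (p.2.2 i : F) • axis F (pt p i)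

/-- Second half of the images. -/
def imY (p : Param F m) (i : Fin m) : Vec m F :=
  (-((p.2.2 i : F) * sgn F (pt p i))⁻¹) • axis F (pt p i).swap

theorem form_im (p : Param F m) :
    (∀ i j, Cfsg.sympForm m F (imX p i) (imY p j) = if i = j then -1 else 0) ∧
    (∀ i j, Cfsg.sympForm m F (imX p i) (imX p j) = 0) ∧ ∀ i j, Cfsg.sympForm m F (imY p i) (imY p j) = 0 := by
  refine ⟨fun i j => ?_, fun i j => ?_, fun i j => ?_⟩
  · rw [imX, imY, sympForm_smul_left, sympForm_smul_right, sympForm_axis]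
    by_cases h : i = j
    · subst h
      have : sgn F (pt p i) ≠ 0 := by cases pt p i <;> simp [sgn]
      rw [if_pos rfl, if_pos rfl]
      field_simp
    · rw [if_neg (fun e => h ((pt_eq_iff p).2.2.mp e)), if_neg h, mul_zero, mul_zero]
  · rw [imX, imX, sympForm_smul_left, sympForm_smul_right, sympForm_axis, if_neg (pt_eq_iff p).2.1]
    simp
  · rw [imY, imY, sympForm_smul_left, sympForm_smul_right, sympForm_axis, if_neg, mul_zero, mul_zero]
    rw [Sum.swap_swap]
    exact fun e => (pt_eq_iff p (i := j) (j := i)).2.1 e.symm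

/-- The monomial element with given parameters. -/
noncomputable def monoElt (p : Param F m) : Sp m F :=
  spOfLinearMap (sympEmb (imX p) (imY p))
    (sympForm_sympEmb _ _ (form_im p).1 (form_im p).2.1 (form_im p).2.2)

theorem monoElt_axis (p : Param F m) (x : Fin m ⊕ Fin m) :
    monoElt p • axis F x = Sum.elim (imX p) (imY p) x := by
  refine (spOfLinearMap_smul (sympEmb (imX p) (imY p)) _ (axis F x)).trans ?_
  rw [sympEmb, axis, Fintype.linearCombination_apply_single, one_smul]

theorem isMono_monoElt (p : Param F m) : IsMono (monoElt p) := by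
  rintro (i | i)
  · exact ⟨_, _, monoElt_axis p (Sum.inl i)⟩
  · exact ⟨_, _, monoElt_axis p (Sum.inr i)⟩

theorem monoElt_injective : Function.Injective (monoElt (F := F) (m := m)) := by
  intro p p' h
  have key : ∀ i, pt p i = pt p' i ∧ p.2.2 i = p'.2.2 i := fun i => by
    have h' := congrArg (fun g : Sp m F => g • axis F (Sum.inl i)) h
    simp only [monoElt_axis, Sum.elim_inl] at h'
    obtain ⟨h1, h2⟩ := smul_axis_inj (p.2.2 i).ne_zero h'
    exact ⟨h1, Units.ext h2⟩
  have key' : ∀ i, p.1 i = p'.1 i ∧ p.2.1 i = p'.2.1 i := fun i => by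
    have h' := (key i).1
    unfold pt at h'
    cases h1 : p.2.1 i <;> cases h2 : p'.2.1 i <;> simp [h1, h2] at h' ⊢ <;> exact h'
  exact Prod.ext (Equiv.ext fun i => (key' i).1)
    (Prod.ext (funext fun i => (key' i).2) (funext fun i => (key i).2))

theorem exists_param {g : Sp m F} (hg : IsMono g) : ∃ p, monoElt p = g := by
  choose π c hc using hg
  have hc0 : ∀ x, c x ≠ 0 := fun x => IsMono.ne_zero (hc x)
  have hrel : ∀ x y, π y = (π x).swap → y = x.swap := by
    intro x y h
    have h1 := sympForm_smul_smul g (axis F x) (axis F y)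
    rw [hc, hc, sympForm_smul_left, sympForm_smul_right, sympForm_axis, sympForm_axis, if_pos h] at h1
    by_contra hne
    rw [if_neg hne] at h1
    have : sgn F (π x) ≠ 0 := by cases π x <;> simp [sgn]
    exact mul_ne_zero (hc0 x) (mul_ne_zero (hc0 y) this) h1
  have hswap : ∀ x, π x.swap = (π x).swap := by
    intro x
    have h1 := sympForm_smul_smul g (axis F x) (axis F x.swap)
    rw [hc, hc, sympForm_smul_left, sympForm_smul_right, sympForm_axis, sympForm_axis, if_pos rfl] at h1
    by_contra hne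
    rw [if_neg hne, mul_zero, mul_zero] at h1
    cases x <;> simp [sgn] at h1
  let idx : Fin m ⊕ Fin m → Fin m := Sum.elim id id
  have hinj : Function.Injective fun i => idx (π (Sum.inl i)) := by
    intro i j h
    have hdich : ∀ a b : Fin m ⊕ Fin m, idx a = idx b → b = a ∨ b = a.swap := by
      rintro (a | a) (b | b) h <;> simp only [idx, Sum.elim_inl, Sum.elim_inr, id] at h <;> subst h <;> simp
    rcases hdich _ _ h with h' | h'
    · have h2 := hrel (Sum.inr i) (Sum.inl j) (by rw [h', show (Sum.inr i : Fin m ⊕ Fin m) = (Sum.inl i : Fin m ⊕ Fin m).swap from rfl, hswap, Sum.swap_swap])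
      simpa using h2.symm
    · exact absurd (hrel _ _ h') (by simp)
  refine ⟨⟨Equiv.ofBijective _ ⟨hinj, Finite.injective_iff_surjective.mp hinj⟩,
    fun i => (π (Sum.inl i)).isRight, fun i => Units.mk0 _ (hc0 (Sum.inl i))⟩, ?_⟩
  set p : Param F m := ⟨Equiv.ofBijective _ ⟨hinj, Finite.injective_iff_surjective.mp hinj⟩,
    fun i => (π (Sum.inl i)).isRight, fun i => Units.mk0 _ (hc0 (Sum.inl i))⟩ with hp
  have hpt : ∀ i, pt p i = π (Sum.inl i) := fun i => by
    show (if (π (Sum.inl i)).isRight then Sum.inr (idx (π (Sum.inl i))) else Sum.inl (idx (π (Sum.inl i)))) = _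
    cases π (Sum.inl i) <;> simp [idx]
  refine eq_of_smul_eq fun v => ?_
  rw [pi_eq_sum_univ' v]
  erw [smul_sum_smul, smul_sum_smul]
  refine Finset.sum_congr rfl fun x _ => congrArg (v x • ·) ?_
  change monoElt p • axis F x = g • axis F x
  rw [monoElt_axis, hc]
  rcases x with i | i
  · simp only [Sum.elim_inl, imX, hpt]; rfl
  · have h1 := sympForm_smul_smul g (axis F (Sum.inl i)) (axis F (Sum.inr i))
    rw [hc, hc, sympForm_smul_left, sympForm_smul_right, sympForm_axis, sympForm_axis,
      if_pos (show π (Sum.inr i) = (π (Sum.inl i)).swap from hswap (Sum.inl i)),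
      if_pos (show (Sum.inr i : Fin m ⊕ Fin m) = (Sum.inl i : Fin m ⊕ Fin m).swap from rfl)] at h1
    have hs : sgn F (π (Sum.inl i)) ≠ 0 := by cases π (Sum.inl i) <;> simp [sgn]
    simp only [Sum.elim_inr, imY, hpt]
    rw [show π (Sum.inr i) = (π (Sum.inl i)).swap from hswap (Sum.inl i)]
    congr 1
    simp only [hp, Units.val_mk0]
    rw [show sgn F (Sum.inl i : Fin m ⊕ Fin m) = -1 from rfl] at h1
    field_simp [hc0 (Sum.inl i), hs]
    linear_combination -h1

theorem exists_torus_elt (t : Fin m → Fˣ) : ∃ d ∈ torus F m,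
    ∀ x, d • axis F x = (Sum.elim (fun i => (t i : F)) (fun i => (t i : F)⁻¹) x) • axis F x := by
  have key : ∀ x, monoElt (⟨1, fun _ => false, t⟩ : Param F m) • axis F x =
      (Sum.elim (fun i => (t i : F)) (fun i => (t i : F)⁻¹) x) • axis F x := by
    rintro (i | i) <;> rw [monoElt_axis] <;> simp [imX, imY, pt, sgn]
  exact ⟨_, mem_torus.mpr fun x => ⟨_, key x⟩, key⟩

theorem exists_separating (a : F) (ha0 : a ≠ 0) (ha : a * a ≠ 1) (x : Fin m ⊕ Fin m) :
    ∃ d ∈ torus F m, ∃ w : Fin m ⊕ Fin m → F,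
      (∀ y, d • axis F y = w y • axis F y) ∧ ∀ y, y ≠ x → w y ≠ w x := by
  classical
  let i := Sum.elim id id x
  obtain ⟨d, hd, hw⟩ := exists_torus_elt (fun k : Fin m => if k = i then Units.mk0 a ha0 else 1)
  refine ⟨d, hd, _, hw, ?_⟩
  have h1 : a ≠ 1 := fun h => ha (by rw [h, one_mul])
  have h2 : a⁻¹ ≠ 1 := fun h => h1 (inv_eq_one.mp h)
  have h3 : a ≠ a⁻¹ := fun h => ha (by nth_rw 2 [h]; rw [mul_inv_cancel₀ ha0])
  intro y hy
  rcases x with x | x <;> rcases y with y | y <;>
    (by_cases hxy : y = x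
     · subst hxy
       first
         | exact absurd rfl hy
         | simp [i, h3, Ne.symm h3]
     · simp [i, hxy, Ne.symm hxy, h1, h2, Ne.symm h1, Ne.symm h2])

theorem isMono_of_normalizes {g : Sp m F} (a : F) (ha0 : a ≠ 0) (ha : a * a ≠ 1)
    (hg : g ∈ Subgroup.normalizer (torus F m : Set (Sp m F))) : IsMono g := by
  intro x
  by_contra hcon
  push Not at hcon
  obtain ⟨y, hy⟩ : ∃ y, (g • axis F x) y ≠ 0 := Function.ne_iff.mp
    (smul_ne_zero_of_ne_zero g (by simp [axis, Pi.single_eq_zero_iff]))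
  obtain ⟨y', hy', hne⟩ : ∃ y', (g • axis F x) y' ≠ 0 ∧ y' ≠ y := by
    by_contra h
    push Not at h
    refine hcon y ((g • axis F x) y) (funext fun z => ?_)
    by_cases hz : z = y
    · subst hz; simp [axis]
    · have : (g • axis F x) z = 0 := by_contra fun h' => hz (h z h')
      rw [this]; simp [axis, hz]
  obtain ⟨d, hd, w, hw, hsep⟩ := exists_separating a ha0 ha y
  have hd' : g⁻¹ * d * g ∈ torus F m := (Subgroup.mem_normalizer_iff''.mp hg d).mp hd
  obtain ⟨c, hc⟩ := mem_torus.mp hd' x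
  have h : d • (g • axis F x) = c • (g • axis F x) := by
    rw [← smul_comm g c, ← hc, ← mul_smul, ← mul_smul, ← mul_assoc, ← mul_assoc, mul_inv_cancel, one_mul]
  have key : ∀ z, w z * (g • axis F x) z = c * (g • axis F x) z := by
    intro z
    have hdz : (d • (g • axis F x)) z = w z * (g • axis F x) z := by
      conv_lhs => rw [pi_eq_sum_univ' (g • axis F x)]
      erw [smul_sum_smul]
      rw [Finset.sum_apply, Finset.sum_eq_single z]
      · change ((g • axis F x) z • (d • axis F z)) z = _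
        rw [hw z]
        simp [axis, mul_comm]
      · intro b _ hb
        change ((g • axis F x) b • (d • axis F b)) z = 0
        rw [hw b]
        simp [axis, Ne.symm hb]
      · simp
    rw [← hdz, h, Pi.smul_apply, smul_eq_mul]
  exact hsep y' hne ((mul_right_cancel₀ hy' (key y')).trans (mul_right_cancel₀ hy (key y)).symm)

theorem IsMono.conj_mem {g d : Sp m F} (hg : IsMono g) (hd : d ∈ torus F m) : g * d * g⁻¹ ∈ torus F m := by
  refine mem_torus.mpr fun y => ?_
  obtain ⟨x, c, hc⟩ := hg.inv y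
  obtain ⟨t, ht⟩ := mem_torus.mp hd x
  refine ⟨t, ?_⟩
  rw [mul_smul, mul_smul, hc, smul_comm d c, ht, smul_comm c t, ← hc, smul_comm g t, smul_inv_smul]

theorem mem_normalizer_of_isMono {g : Sp m F} (hg : IsMono g) :
    g ∈ Subgroup.normalizer (torus F m : Set (Sp m F)) := by
  refine Subgroup.mem_normalizer_iff.mpr fun d => ⟨fun hd => hg.conj_mem hd, fun hd => ?_⟩
  have h := hg.inv.conj_mem hd
  rwa [inv_inv, ← mul_assoc, ← mul_assoc, inv_mul_cancel, one_mul, mul_assoc, inv_mul_cancel, mul_one] at h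


/-- Weyl group of type C_m: for q ≥ 4 the diagonal matrices of Sp_2m(q) form a torus T ≅ (C_(q−1))^m (the elements stabilising every coordinate axis), and the normaliser of T in Sp_2m(q) has order 2^m · m! · (q − 1)^m. -/
theorem result {F : Type*} [Field F] [Fintype F] {q : ℕ} (hF : Fintype.card F = q) (hq : 4 ≤ q) (m : ℕ) : Nat.card ↥(Subgroup.normalizer (⨅ i : Fin m ⊕ Fin m, Cfsg.stabilizing (Cfsg.spToMat m F) ((Submodule.span F {(Pi.single i (1 : F) : Fin m ⊕ Fin m → F)} : Submodule F (Fin m ⊕ Fin m → F)) : Set (Fin m ⊕ Fin m → F)) : Set (Matrix.symplecticGroup (Fin m) F))) = 2 ^ m * Nat.factorial m * (q - 1) ^ m := by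
  classical
  obtain ⟨a, ha0, ha⟩ : ∃ a : F, a ≠ 0 ∧ a * a ≠ 1 := by
    by_contra h
    push Not at h
    have hsub : (Finset.univ : Finset F) ⊆ {0, 1, -1} := fun a _ => by
      simp only [Finset.mem_insert, Finset.mem_singleton]
      rcases eq_or_ne a 0 with h0 | h0
      · exact Or.inl h0
      · exact Or.inr (mul_self_eq_one_iff.mp (h a h0))
    have := (Finset.card_le_card hsub).trans Finset.card_le_three
    rw [Finset.card_univ, hF] at this
    omega
  have hset : (⨅ i : Fin m ⊕ Fin m, (Cfsg.stabilizing (Cfsg.spToMat m F)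
      ((Submodule.span F {(Pi.single i (1 : F) : Fin m ⊕ Fin m → F)} : Submodule F (Fin m ⊕ Fin m → F)) :
        Set (Fin m ⊕ Fin m → F)) : Set (Sp m F))) = (torus F m : Set (Sp m F)) := by
    rw [torus, Subgroup.coe_iInf]; rfl
  rw [hset]
  rw [← Nat.card_congr (Equiv.ofBijective
    (fun p : Param F m => (⟨monoElt p, mem_normalizer_of_isMono (isMono_monoElt p)⟩ :
      Subgroup.normalizer (torus F m : Set (Sp m F))))
    ⟨fun p p' h => monoElt_injective (congrArg Subtype.val h), fun g => by
      obtain ⟨p, hp⟩ := exists_param (isMono_of_normalizes a ha0 ha g.2)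
      exact ⟨p, Subtype.ext hp⟩⟩),
    Nat.card_prod, Nat.card_prod, Nat.card_perm, Nat.card_fun, Nat.card_fun, Nat.card_eq_fintype_card (α := Bool),
    Fintype.card_bool, Nat.card_units, Nat.card_eq_fintype_card (α := F), hF, Nat.card_fin]
  ring

end Cfsg.Agent.S0777
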