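import Cfsg.Statements.S0778
-- no helpers

set_option autoImplicit false
open Cfsg

namespace Cfsg.Agent.S0778

open scoped Matrix


/-- The elements of Sp_2m(F) stabilising both W = ⟨e_1..e_m⟩ and U = ⟨f_1..f_m⟩ form a subgroup isomorphic to GL_m(F) (block-diagonal matrices diag(X, X^(−ᵀ)) up to the sign convention of J), for m ≥ 1 or m = 0 alike. -/
theorem result {F : Type*} [Field F] (m : ℕ) : Nonempty (↥(Cfsg.stabilizing (Cfsg.spToMat m F) {v : Fin m ⊕ Fin m → F | ∀ i : Fin m, v (Sum.inr i) = 0} ⊓ Cfsg.stabilizing (Cfsg.spToMat m F) {v : Fin m ⊕ Fin m → F | ∀ i : Fin m, v (Sum.inl i) = 0}) ≃* Matrix.GeneralLinearGroup (Fin m) F) := by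
  classical
  set K := Cfsg.stabilizing (Cfsg.spToMat m F) {v : Fin m ⊕ Fin m → F | ∀ i : Fin m, v (Sum.inr i) = 0} ⊓
    Cfsg.stabilizing (Cfsg.spToMat m F) {v : Fin m ⊕ Fin m → F | ∀ i : Fin m, v (Sum.inl i) = 0} with hK
  have hφ : ∀ X : Matrix.GeneralLinearGroup (Fin m) F, Matrix.fromBlocks (X : Matrix (Fin m) (Fin m) F) 0 0
      (((X⁻¹ : Matrix.GeneralLinearGroup (Fin m) F) : Matrix (Fin m) (Fin m) F))ᵀ ∈
      Matrix.symplecticGroup (Fin m) F := by
    intro X
    rw [SymplecticGroup.mem_iff]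
    simp [Matrix.J, Matrix.fromBlocks_multiply, Matrix.fromBlocks_transpose, ← Matrix.transpose_mul,
      ← Units.val_mul]
  let φ : Matrix.GeneralLinearGroup (Fin m) F →* Matrix.symplecticGroup (Fin m) F :=
    { toFun := fun X => ⟨_, hφ X⟩
      map_one' := Subtype.ext (by simp)
      map_mul' := fun X Y => Subtype.ext (by
        simp [Matrix.fromBlocks_multiply, mul_inv_rev, Matrix.transpose_mul]) }
  have hinj : Function.Injective φ := fun X Y h => Units.ext (by
    have := congrArg (fun A : Matrix.symplecticGroup (Fin m) F =>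
      (A : Matrix (Fin m ⊕ Fin m) (Fin m ⊕ Fin m) F).toBlocks₁₁) h
    simpa [φ] using this)
  have hrange : φ.range = K := by
    apply le_antisymm
    · rintro _ ⟨X, rfl⟩
      have key : ∀ (Y : Matrix.GeneralLinearGroup (Fin m) F) (v : Fin m → F),
          (Y : Matrix (Fin m) (Fin m) F) *ᵥ v = 0 ↔ v = 0 := fun Y v => by
        refine ⟨fun h => ?_, fun h => by simp [h]⟩
        have := congrArg (((Y⁻¹ : Matrix.GeneralLinearGroup (Fin m) F) : Matrix (Fin m) (Fin m) F) *ᵥ ·) h
        simpa [Matrix.mulVec_mulVec] using this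
      have keyT : ∀ (Y : Matrix.GeneralLinearGroup (Fin m) F) (v : Fin m → F),
          (Y : Matrix (Fin m) (Fin m) F)ᵀ *ᵥ v = 0 ↔ v = 0 := fun Y v => by
        refine ⟨fun h => ?_, fun h => by simp [h]⟩
        have := congrArg ((((Y⁻¹ : Matrix.GeneralLinearGroup (Fin m) F) : Matrix (Fin m) (Fin m) F))ᵀ *ᵥ ·) h
        simpa [Matrix.mulVec_mulVec, ← Matrix.transpose_mul] using this
      constructor
      · intro v
        show (∀ i, v (Sum.inr i) = 0) ↔ ∀ i, (Matrix.fromBlocks _ _ _ _ *ᵥ v) (Sum.inr i) = 0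
        have := keyT X⁻¹ (v ∘ Sum.inr)
        simp only [funext_iff] at this
        simpa [Matrix.fromBlocks_mulVec] using this.symm
      · intro v
        show (∀ i, v (Sum.inl i) = 0) ↔ ∀ i, (Matrix.fromBlocks _ _ _ _ *ᵥ v) (Sum.inl i) = 0
        have := key X (v ∘ Sum.inl)
        simp only [funext_iff] at this
        simpa [Matrix.fromBlocks_mulVec] using this.symm
    · intro A hA
      obtain ⟨h1, h2⟩ := hA
      set M := (A : Matrix (Fin m ⊕ Fin m) (Fin m ⊕ Fin m) F) with hM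
      have h21 : M.toBlocks₂₁ = 0 := by
        ext i j
        have := (h1 (Pi.single (Sum.inl j) 1)).mp (fun i => by simp) i
        simpa [M, Matrix.toBlocks₂₁] using this
      have h12 : M.toBlocks₁₂ = 0 := by
        ext i j
        have := (h2 (Pi.single (Sum.inr j) 1)).mp (fun i => by simp) i
        simpa [M, Matrix.toBlocks₁₂] using this
      have hM' : M = Matrix.fromBlocks M.toBlocks₁₁ 0 0 M.toBlocks₂₂ := by
        conv_lhs => rw [← Matrix.fromBlocks_toBlocks M, h12, h21]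
      have hmem := A.2
      rw [← hM, SymplecticGroup.mem_iff, hM'] at hmem
      simp only [Matrix.J, Matrix.fromBlocks_transpose, Matrix.fromBlocks_multiply, Matrix.fromBlocks_inj,
        Matrix.mul_zero, Matrix.zero_mul, Matrix.mul_one, Matrix.transpose_zero, zero_add, add_zero] at hmem
      have hXY : M.toBlocks₂₂ * M.toBlocks₁₁ᵀ = 1 := hmem.2.2.1
      have hXY' : M.toBlocks₁₁ * M.toBlocks₂₂ᵀ = 1 := by
        rw [← Matrix.transpose_transpose (M.toBlocks₁₁ * _), Matrix.transpose_mul, Matrix.transpose_transpose,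
          hXY, Matrix.transpose_one]
      refine ⟨⟨M.toBlocks₁₁, M.toBlocks₂₂ᵀ, hXY', mul_eq_one_comm.mp hXY'⟩, Subtype.ext ?_⟩
      show Matrix.fromBlocks M.toBlocks₁₁ 0 0 M.toBlocks₂₂ᵀᵀ = M
      rw [Matrix.transpose_transpose, ← hM']
  exact ⟨((MonoidHom.ofInjective hinj).trans (MulEquiv.subgroupCongr hrange)).symm⟩

end Cfsg.Agent.S0778
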