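import Cfsg.Statements.S0779
import Cfsg.Agent.Lib.Unitary.Transvection
-- import your own Cfsg.Agent.* helpers here

set_option autoImplicit false
open Cfsg

namespace Cfsg.Agent.S0779

/-- Unitary transvections: let |F| = q², h the standard Hermitian form Σ x_i y_i^q and v ≠ 0 with h(v, v) = 0. The linear map x ↦ x + c h(x, v) v is an isometry of h if and only if c = 0 or c^(q−1) = −1. -/
theorem result {F : Type*} [Field F] [Fintype F] {q : ℕ} (hF : Fintype.card F = q ^ 2) (n : ℕ) (v : Fin n → F) (hv : v ≠ 0) (hv0 : Cfsg.hermForm n F q v v = 0) (c : F) : (∀ x y : Fin n → F, Cfsg.hermForm n F q ((Cfsg.unitaryTransvection n q v c).mulVec x) ((Cfsg.unitaryTransvection n q v c).mulVec y) = Cfsg.hermForm n F q x y) ↔ (c = 0 ∨ c ^ (q - 1) = -1) := by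
  constructor
  · intro h
    by_cases hc : c = 0
    · exact Or.inl hc
    right
    rw [Unitary.pow_q_sub_one hF hc, div_eq_iff hc, neg_one_mul]
    exact eq_neg_of_add_eq_zero_right (Unitary.trace_zero_of_preserves hF hv hv0 h)
  · intro h x y
    have hc : c + c ^ q = 0 := by
      rcases h with rfl | h
      · rw [Unitary.zero_pow_q hF, add_zero]
      · have hc : c ≠ 0 := fun e => by
          have := Unitary.two_le_q hF
          subst e
          rw [zero_pow (by omega)] at h
          exact absurd h (by simp)
        rw [Unitary.pow_q_sub_one hF hc, div_eq_iff hc, neg_one_mul] at h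
        rw [h, add_neg_cancel]
    have := Unitary.herm_smul_SU (Unitary.tv hF hv0 hc) x y
    rw [← Unitary.coe_tv hF hv0 hc]
    exact this

end Cfsg.Agent.S0779
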