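import Cfsg.Statements.S0781
import Cfsg.Agent.Lib.Unitary.Transvection
import Cfsg.Agent.Lib.Unitary.Simple
-- import your own Cfsg.Agent.* helpers here

set_option autoImplicit false
open Cfsg

namespace Cfsg.Agent.S0781

/-- In SU_n(q) with n ≥ 4, or n = 3 and q > 2, every element whose matrix is a unitary transvection x ↦ x + c h(x, v) v (v isotropic) is a commutator ⁅B, C⁆ of two elements of SU_n(q). -/
theorem result {F : Type*} [Field F] [Fintype F] {q : ℕ} (hF : Fintype.card F = q ^ 2) (n : ℕ) (hn : 4 ≤ n ∨ (n = 3 ∧ 3 ≤ q)) (A : ↥(Cfsg.SU n F q)) (v : Fin n → F) (c : F) (hv0 : Cfsg.hermForm n F q v v = 0) (hA : ((A : Matrix.SpecialLinearGroup (Fin n) F) : Matrix (Fin n) (Fin n) F) = Cfsg.unitaryTransvection n q v c) : A ∈ commutatorSet ↥(Cfsg.SU n F q) := by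
  by_cases hv : v = 0
  · have : A = 1 := Unitary.eq_of_smul_eq_SU fun x => by
      rw [one_smul]
      show ((A : Matrix.SpecialLinearGroup (Fin n) F) : Matrix (Fin n) (Fin n) F).mulVec x = x
      rw [hA, Unitary.unitaryTransvection_mulVec hF, hv]
      simp
    exact ⟨1, 1, by rw [this]; group⟩
  have hc : c + c ^ q = 0 := Unitary.trace_zero_of_preserves hF hv hv0 fun x y => by
    rw [← hA]; exact A.2 x y
  have : A = Unitary.tv hF hv0 hc :=
    Subtype.ext (Subtype.ext (hA.trans (Unitary.coe_tv hF hv0 hc).symm))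
  rw [this]
  exact Unitary.tv_mem_commutatorSet hF (by omega) hv0 hc

end Cfsg.Agent.S0781
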