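import Cfsg.Statements.S0785
import Cfsg.Agent.Lib.Reflections.Basic

set_option autoImplicit false
open Cfsg

namespace Cfsg.Agent.S0785

open Matrix QuadraticMap in
theorem det_sq {F : Type*} [Field F] {n : ℕ} (Q : QuadraticForm F (Fin n → F))
    (hQ : (QuadraticMap.polarBilin Q).Nondegenerate) (g : ↥(Cfsg.isometryGroup F ⇑Q)) :
    (Reflections.mat g).det = 1 ∨ (Reflections.mat g).det = -1 := by
  set M : Matrix (Fin n) (Fin n) F :=
    Matrix.of fun i j => polar ⇑Q (Pi.single i 1) (Pi.single j 1) with hM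
  have hMv : ∀ x, M *ᵥ x = fun i => polar ⇑Q (Pi.single i 1) x := by
    intro x; funext i
    rw [← Reflections.polarVec_dot]; rfl
  have key : ∀ x y, y ⬝ᵥ (M *ᵥ x) = polar ⇑Q y x := by
    intro x y
    rw [hMv, polar_comm ⇑Q y x, ← Reflections.polarVec_dot, dotProduct_comm]
    congr 1; funext i; rw [polar_comm]; rfl
  have hg : (Reflections.mat g)ᵀ * M * Reflections.mat g = M := by
    apply Matrix.ext_iff_mulVec.mpr
    intro x
    apply dotProduct_eq
    intro y
    rw [dotProduct_comm, dotProduct_comm (M *ᵥ x), ← Matrix.mulVec_mulVec, ← Matrix.mulVec_mulVec,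
      Matrix.dotProduct_mulVec, Matrix.vecMul_transpose, key, key]
    exact Reflections.act_polar g y x
  have hdet : M.det ≠ 0 := by
    intro h0
    obtain ⟨x, hx0, hx⟩ := Matrix.exists_mulVec_eq_zero_iff.mpr h0
    refine hx0 (Reflections.eq_zero_of_polar_eq_zero hQ fun y => ?_)
    rw [polar_comm, ← key, hx, dotProduct_zero]
  have h := congrArg Matrix.det hg
  rw [Matrix.det_mul, Matrix.det_mul, Matrix.det_transpose] at h
  apply mul_self_eq_one_iff.mp
  apply mul_right_cancel₀ hdet
  linear_combination h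

/-- det(I) = {±1}: for a quadratic form on F^n whose polar form is non-degenerate, every element of the isometry group has determinant 1 or −1, and as soon as Q takes a non-zero value some isometry has determinant −1. -/
theorem result {F : Type*} [Field F] {n : ℕ} (Q : QuadraticForm F (Fin n → F)) (hQ : (QuadraticMap.polarBilin Q).Nondegenerate) : (∀ g : ↥(Cfsg.isometryGroup F ⇑Q), ((g : Matrix.GeneralLinearGroup (Fin n) F) : Matrix (Fin n) (Fin n) F).det = 1 ∨ ((g : Matrix.GeneralLinearGroup (Fin n) F) : Matrix (Fin n) (Fin n) F).det = -1) ∧ ((∃ v, Q v ≠ 0) → ∃ g : ↥(Cfsg.isometryGroup F ⇑Q), ((g : Matrix.GeneralLinearGroup (Fin n) F) : Matrix (Fin n) (Fin n) F).det = -1) := by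
  refine ⟨det_sq Q hQ, ?_⟩
  rintro ⟨v, hv⟩
  refine ⟨Reflections.refl Q v, ?_⟩
  show (Reflections.mat (Reflections.refl Q v)).det = -1
  rw [Reflections.mat_refl hv, Reflections.det_reflection Q hv]

end Cfsg.Agent.S0785
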