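import Cfsg.Statements.S0790
import Cfsg.Agent.Lib.Reflections.NegOne

set_option autoImplicit false
open Cfsg

namespace Cfsg.Agent.S0790

open Matrix QuadraticMap Reflections

/-- Orthogonal basis vectors of the plus type form. -/
def bas (m : ℕ) (F : Type*) [Field F] : Fin m ⊕ Fin m → (Fin m ⊕ Fin m → F)
  | .inl i => Pi.single (.inl i) 1 + Pi.single (.inr i) 1
  | .inr i => Pi.single (.inl i) 1 - Pi.single (.inr i) 1

theorem qbas (m : ℕ) (F : Type*) [Field F] (k : Fin m ⊕ Fin m) :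
    qPlus m F (bas m F k) = k.elim (fun _ => 1) (fun _ => -1) := by
  rw [coe_qPlus]
  rcases k with i | i <;> simp [bas, Cfsg.quadFormPlus, Pi.single_apply]

theorem orth_bas (m : ℕ) (F : Type*) [Field F] (k l : Fin m ⊕ Fin m) (h : k ≠ l) :
    polar ⇑(qPlus m F) (bas m F k) (bas m F l) = 0 := by
  rw [polar, coe_qPlus]
  rcases k with i | i <;> rcases l with j | j <;>
    simp [bas, Cfsg.quadFormPlus, Pi.single_apply, mul_add, add_mul, mul_sub, sub_mul,
      Finset.sum_add_distrib, Finset.sum_sub_distrib, eq_comm] <;>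
    (try (rcases eq_or_ne i j with rfl | hij <;> simp_all))

theorem main {F : Type*} [Field F] [Fintype F] {q : ℕ} (hF : Fintype.card F = q) (hodd : Odd q)
    (m : ℕ) (hm : 1 ≤ m) :
    (∃ g : ↥(Cfsg.isometryGroup F ⇑(qPlus m F)), g ∈ Cfsg.Omega F ⇑(qPlus m F) ∧ mat g = -1) ↔
      q ^ m % 4 = 1 := by
  classical
  have hchar : ringChar F ≠ 2 := fun h => by
    have := FiniteField.even_card_iff_char_two.mp h
    rw [hF] at this; rcases hodd with ⟨r, rfl⟩; omega
  have h2 : (2 : F) ≠ 0 := Ring.two_ne_zero hchar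
  rw [neg_one_mem_omega_iff h2 (bas m F) rfl (by simp; omega) (by simp)
    (orth_bas m F) (fun k => by rw [qbas]; rcases k with i | i <;> simp)]
  have hfil : (Finset.univ.filter fun k => ¬ IsSquare (qPlus m F (bas m F k))).card
      = if IsSquare (-1 : F) then 0 else m := by
    rw [Finset.card_filter, Fintype.sum_sum_type]
    simp only [qbas, Sum.elim_inl, Sum.elim_inr]
    split_ifs with h1 <;> simp_all
  rw [hfil]
  have hq4 : IsSquare (-1 : F) ↔ q % 4 ≠ 3 := by rw [← hF]; exact FiniteField.isSquare_neg_one_iff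
  rw [Nat.pow_mod]
  rcases Nat.odd_mod_four_iff.mp (Nat.odd_iff.mp hodd) with h | h
  · rw [if_pos (hq4.mpr (by omega)), h]; simp
  · rw [if_neg (fun hh => hq4.mp hh h), h]
    rcases Nat.even_or_odd' m with ⟨r, rfl | rfl⟩
    · simp [pow_mul, Nat.pow_mod]
    · simp [pow_succ, pow_mul, Nat.mul_mod, Nat.pow_mod]

/-- −1 ∈ Ω⁺_2m(q) iff q^m ≡ 1 (mod 4), for q odd and m ≥ 1 (so that in the other case SO⁺_2m(q) = 2 × Ω⁺_2m(q)). -/
theorem result {F : Type*} [Field F] [Fintype F] {q : ℕ} (hF : Fintype.card F = q) (hodd : Odd q) (m : ℕ) (hm : 1 ≤ m) : (∃ g : ↥(Cfsg.isometryGroup F (Cfsg.quadFormPlus m F)), g ∈ Cfsg.Omega F (Cfsg.quadFormPlus m F) ∧ ((g : Matrix.GeneralLinearGroup (Fin m ⊕ Fin m) F) : Matrix (Fin m ⊕ Fin m) (Fin m ⊕ Fin m) F) = -1) ↔ q ^ m % 4 = 1 := by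
  rw [← Reflections.coe_qPlus]
  exact main hF hodd m hm

end Cfsg.Agent.S0790
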