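import Cfsg.Statements.S0791
import Cfsg.Agent.Lib.Reflections.NegOne

set_option autoImplicit false
open Cfsg

namespace Cfsg.Agent.S0791

open Matrix QuadraticMap Reflections

/-- Orthogonal basis vectors of the minus type form. -/
def bas (m : ℕ) (F : Type*) [Field F] (a : F) :
    (Fin m ⊕ Fin m) ⊕ Fin 2 → ((Fin m ⊕ Fin m) ⊕ Fin 2 → F)
  | .inl (.inl i) => Pi.single (.inl (.inl i)) 1 + Pi.single (.inl (.inr i)) 1
  | .inl (.inr i) => Pi.single (.inl (.inl i)) 1 - Pi.single (.inl (.inr i)) 1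
  | .inr j => if j = 0 then Pi.single (.inr 0) 1
      else (-a / 2) • Pi.single (.inr 0) 1 + Pi.single (.inr 1) 1

theorem qbas (m : ℕ) (F : Type*) [Field F] (h2 : (2 : F) ≠ 0) (a b : F)
    (k : (Fin m ⊕ Fin m) ⊕ Fin 2) :
    qMinus m F a b (bas m F a k) = k.elim (fun l => l.elim (fun _ => 1) (fun _ => -1))
      (fun j => if j = 0 then 1 else b - a ^ 2 / 4) := by
  rw [coe_qMinus]
  rcases k with (i | i) | j <;> [skip; skip; fin_cases j] <;>
    simp [bas, Cfsg.quadFormMinus, Pi.single_apply]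
  have : (4 : F) ≠ 0 := by rw [show (4 : F) = 2 * 2 by norm_num]; exact mul_ne_zero h2 h2
  field_simp
  ring

theorem orth_bas (m : ℕ) (F : Type*) [Field F] (h2 : (2 : F) ≠ 0) (a b : F)
    (k l : (Fin m ⊕ Fin m) ⊕ Fin 2) (h : k ≠ l) :
    polar ⇑(qMinus m F a b) (bas m F a k) (bas m F a l) = 0 := by
  rw [polar, coe_qMinus]
  rcases k with (i | i) | k <;> rcases l with (j | j) | l <;>
    (try fin_cases k) <;> (try fin_cases l) <;>
    simp [bas, Cfsg.quadFormMinus, Pi.single_apply, mul_add, add_mul, mul_sub, sub_mul,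
      Finset.sum_add_distrib, Finset.sum_sub_distrib, eq_comm] at h ⊢ <;>
    (try (rcases eq_or_ne i j with rfl | hij <;> simp_all)) <;>
    (try (field_simp; ring))

theorem main {F : Type*} [Field F] [Fintype F] {q : ℕ} (hF : Fintype.card F = q) (hodd : Odd q)
    (m : ℕ) (a b : F) (hab : ∀ z₁ z₂ : F, z₁ ^ 2 + a * z₁ * z₂ + b * z₂ ^ 2 = 0 → z₁ = 0 ∧ z₂ = 0) :
    (∃ g : ↥(Cfsg.isometryGroup F ⇑(qMinus m F a b)),
      g ∈ Cfsg.Omega F ⇑(qMinus m F a b) ∧ mat g = -1) ↔ q ^ (m + 1) % 4 = 3 := by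
  classical
  have hchar : ringChar F ≠ 2 := fun h => by
    have := FiniteField.even_card_iff_char_two.mp h
    rw [hF] at this; rcases hodd with ⟨r, rfl⟩; omega
  have h2 : (2 : F) ≠ 0 := Ring.two_ne_zero hchar
  set d := b - a ^ 2 / 4 with hd
  have h4 : (4 : F) ≠ 0 := by rw [show (4 : F) = 2 * 2 by norm_num]; exact mul_ne_zero h2 h2
  have hnd : ¬ IsSquare (-d) := by
    rintro ⟨t, ht⟩
    have := hab (t - a / 2) 1 (by rw [hd] at ht; field_simp at ht ⊢; linear_combination -ht)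
    exact one_ne_zero this.2
  have hd0 : d ≠ 0 := fun h => hnd (by rw [h, neg_zero]; exact IsSquare.zero)
  rw [neg_one_mem_omega_iff h2 (bas m F a) rfl (by simp) (by simp [parity_simps])
    (orth_bas m F h2 a b) (fun k => by
      rw [qbas m F h2 a b]; rcases k with (i | i) | j <;> [simp; simp; skip]
      show (if j = 0 then (1 : F) else d) ≠ 0
      split_ifs <;> simp [hd0])]
  have hdsq : IsSquare d ↔ ¬ IsSquare (-1 : F) := by
    constructor
    · rintro h h1
      exact hnd (by rw [show -d = (-1) * d by ring]; exact h1.mul h)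
    · intro h1
      have q1 := quadraticChar_neg_one_iff_not_isSquare.mpr hnd
      have q2 := quadraticChar_neg_one_iff_not_isSquare.mpr h1
      refine (quadraticChar_one_iff_isSquare hd0).mp ?_
      rw [show d = (-1) * (-d) by ring, map_mul, q2, q1]; norm_num
  have hfil : (Finset.univ.filter fun k => ¬ IsSquare (qMinus m F a b (bas m F a k))).card
      = if IsSquare (-1 : F) then 1 else m := by
    have e1 : ∀ i, qMinus m F a b (bas m F a (.inl (.inl i))) = 1 := fun i => by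
      rw [qbas m F h2 a b]; rfl
    have e2 : ∀ i, qMinus m F a b (bas m F a (.inl (.inr i))) = -1 := fun i => by
      rw [qbas m F h2 a b]; rfl
    have e3 : qMinus m F a b (bas m F a (.inr 0)) = 1 := by
      rw [qbas m F h2 a b]; rfl
    have e4 : qMinus m F a b (bas m F a (.inr 1)) = d := by
      rw [qbas m F h2 a b]; rfl
    have hone : IsSquare (1 : F) := IsSquare.one
    rw [Finset.card_filter, Fintype.sum_sum_type, Fintype.sum_sum_type, Fin.sum_univ_two]
    simp only [e1, e2, e3, e4, hdsq]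
    by_cases h1 : IsSquare (-1 : F) <;> simp [h1, hone]
  rw [hfil]
  have hq4 : IsSquare (-1 : F) ↔ q % 4 ≠ 3 := by rw [← hF]; exact FiniteField.isSquare_neg_one_iff
  rw [Nat.pow_mod]
  rcases Nat.odd_mod_four_iff.mp (Nat.odd_iff.mp hodd) with h | h
  · rw [if_pos (hq4.mpr (by omega)), h]; simp
  · rw [if_neg (fun hh => hq4.mp hh h), h]
    rcases Nat.even_or_odd' m with ⟨r, rfl | rfl⟩
    · simp [pow_succ, pow_mul, Nat.mul_mod, Nat.pow_mod]
    · simp [pow_succ, pow_mul, Nat.mul_mod, Nat.pow_mod]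

/-- −1 ∈ Ω⁻_2m(q) iff q^m ≡ −1 (mod 4), for q odd and m ≥ 1; for the minus-type form quadFormMinus (m−1) with anisotropic binary part. -/
theorem result {F : Type*} [Field F] [Fintype F] {q : ℕ} (hF : Fintype.card F = q) (hodd : Odd q) (m : ℕ) (hm : 1 ≤ m) (a b : F) (hab : ∀ z₁ z₂ : F, z₁ ^ 2 + a * z₁ * z₂ + b * z₂ ^ 2 = 0 → z₁ = 0 ∧ z₂ = 0) : (∃ g : ↥(Cfsg.isometryGroup F (Cfsg.quadFormMinus (m - 1) F a b)), g ∈ Cfsg.Omega F (Cfsg.quadFormMinus (m - 1) F a b) ∧ ((g : Matrix.GeneralLinearGroup ((Fin (m - 1) ⊕ Fin (m - 1)) ⊕ Fin 2) F) : Matrix ((Fin (m - 1) ⊕ Fin (m - 1)) ⊕ Fin 2) ((Fin (m - 1) ⊕ Fin (m - 1)) ⊕ Fin 2) F) = -1) ↔ q ^ m % 4 = 3 := by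
  obtain ⟨m, rfl⟩ : ∃ k, m = k + 1 := ⟨m - 1, by omega⟩
  rw [show m + 1 - 1 = m from rfl, ← Reflections.coe_qMinus]
  exact main hF hodd m a b hab

end Cfsg.Agent.S0791
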