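import Cfsg.Statements.S0796


set_option autoImplicit false
open Cfsg

namespace Cfsg.Agent.S0796

theorem aux {G X : Type*} [Group G] [MulAction G X] [FaithfulSMul G X]
    (hprim : MulAction.IsPreprimitive G X) (x : X) (A : Subgroup G)
    (hA : A ≤ MulAction.stabilizer G x) (hAn : (A.subgroupOf (MulAction.stabilizer G x)).Normal)
    (hgen : Subgroup.normalClosure (A : Set G) = ⊤) (K : Subgroup G) [K.Normal] (hK : K ≠ ⊥) :
    Function.Surjective ((QuotientGroup.mk' K).comp A.subtype) := by
  haveI := hprim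
  have hnf : MulAction.fixedPoints K X ≠ Set.univ := by
    intro h
    refine hK ((Subgroup.eq_bot_iff_forall K).mpr fun k hk => eq_of_smul_eq_smul (α := X) fun y => ?_)
    rw [one_smul]
    exact (Set.eq_univ_iff_forall.mp h y) ⟨k, hk⟩
  haveI : MulAction.IsPretransitive K X :=
    MulAction.IsQuasiPreprimitive.isPretransitive_of_normal hnf
  rw [← MonoidHom.range_eq_top, eq_top_iff]
  suffices h : ((QuotientGroup.mk' K).comp A.subtype).range.comap (QuotientGroup.mk' K) = ⊤ by
    intro z _
    obtain ⟨g, rfl⟩ := QuotientGroup.mk'_surjective K z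
    exact (Subgroup.eq_top_iff' _).mp h g
  rw [eq_top_iff, ← hgen, Subgroup.normalClosure, Subgroup.closure_le]
  intro y hy
  obtain ⟨a, ha, hconj⟩ := Group.mem_conjugatesOfSet_iff.mp hy
  obtain ⟨g, rfl⟩ := isConj_iff.mp hconj
  obtain ⟨k, hk⟩ := MulAction.exists_smul_eq K x (g • x)
  have hh : (k : G)⁻¹ * g ∈ MulAction.stabilizer G x := by
    rw [MulAction.mem_stabilizer_iff, mul_smul, inv_smul_eq_iff]; exact hk.symm
  have ha' : ((k : G)⁻¹ * g) * a * ((k : G)⁻¹ * g)⁻¹ ∈ A :=
    hAn.conj_mem ⟨a, hA ha⟩ ha ⟨_, hh⟩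
  refine ⟨⟨_, ha'⟩, ?_⟩
  have hk1 : (QuotientGroup.mk' K) (k : G) = 1 := (QuotientGroup.eq_one_iff _).mpr k.2
  simp only [MonoidHom.comp_apply, Subgroup.subtype_apply, map_mul, map_inv, hk1, inv_one, one_mul]

/-- If G is finite and acts faithfully and primitively on X, H is the stabiliser of a point, A is a normal subgroup of H whose normal closure in G is G, then for every non-trivial normal subgroup K of G the quotient G ⧸ K is isomorphic to A ⧸ B for some normal subgroup B of A. -/
theorem result {G X : Type*} [Group G] [Finite G] [MulAction G X] [FaithfulSMul G X] (hprim : MulAction.IsPreprimitive G X) (x : X) (A : Subgroup G) (hA : A ≤ MulAction.stabilizer G x) (hAn : (A.subgroupOf (MulAction.stabilizer G x)).Normal) (hgen : Subgroup.normalClosure (A : Set G) = ⊤) (K : Subgroup G) [K.Normal] (hK : K ≠ ⊥) : ∃ (B : Subgroup A) (_ : B.Normal), Nonempty (G ⧸ K ≃* A ⧸ B) := by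
  let f := (QuotientGroup.mk' K).comp A.subtype
  exact ⟨f.ker, inferInstance, ⟨(QuotientGroup.quotientKerEquivOfSurjective f
    (aux hprim x A hA hAn hgen K hK)).symm⟩⟩

end Cfsg.Agent.S0796
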