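import Cfsg.Statements.S0799
import Cfsg.Agent.Lib.Dickson.Main
import Cfsg.Agent.Lib.Dickson.Transfer

set_option autoImplicit false
open Cfsg

attribute [local instance] Cfsg.Agent.PLocalB.lineAction Cfsg.Agent.Dickson.pslLine

namespace Cfsg.Agent.S0799

/-- Dickson's classification of the subgroups of PSL_2(q), q a power of the prime p, d = gcd(2, q − 1): every subgroup H is (a) cyclic or dihedral with k dividing (q+1)/d or (q−1)/d (cyclic of order k, or dihedral of order 2k), (b) isomorphic to a subgroup of the normaliser of a Sylow p-subgroup, (c) isomorphic to A_4, S_4 or A_5, or (d) isomorphic to PSL_2(K) or PGL_2(K) for a finite field K with |K|^m = q. -/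
theorem result {F : Type*} [Field F] [Fintype F] {q : ℕ} (hF : Fintype.card F = q) (p : ℕ) [Fact p.Prime] [CharP F p] (H : Subgroup (Matrix.ProjectiveSpecialLinearGroup (Fin 2) F)) : (∃ k : ℕ, (k ∣ (q + 1) / Nat.gcd 2 (q - 1) ∨ k ∣ (q - 1) / Nat.gcd 2 (q - 1)) ∧ ((IsCyclic H ∧ Nat.card H = k) ∨ Nonempty (H ≃* DihedralGroup k))) ∨ (∃ (P : Sylow p (Matrix.ProjectiveSpecialLinearGroup (Fin 2) F)) (K : Subgroup (Matrix.ProjectiveSpecialLinearGroup (Fin 2) F)), K ≤ Subgroup.normalizer ((P : Subgroup (Matrix.ProjectiveSpecialLinearGroup (Fin 2) F)) : Set (Matrix.ProjectiveSpecialLinearGroup (Fin 2) F)) ∧ Nonempty (H ≃* K)) ∨ Nonempty (H ≃* alternatingGroup (Fin 4)) ∨ Nonempty (H ≃* Equiv.Perm (Fin 4)) ∨ Nonempty (H ≃* alternatingGroup (Fin 5)) ∨ (∃ (K : Type) (_ : Field K) (_ : Fintype K) (m : ℕ), Fintype.card K ^ m = q ∧ (Nonempty (H ≃* Matrix.ProjectiveSpecialLinearGroup (Fin 2) K) ∨ Nonempty (H ≃* Matrix.ProjGenLinGroup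 (Fin 2) K))) := by
  subst hF
  rcases Cfsg.Agent.Dickson.kind p H with ⟨k, hk, hc, hcard⟩ | ⟨t, ht⟩ | ⟨k, _, hk, hiso⟩ | h | h |
      h | ⟨T, _, ⟨m, _, hm⟩, hiso⟩
  · exact Or.inl ⟨k, hk, Or.inl ⟨hc, hcard⟩⟩
  · obtain ⟨P, hP⟩ := Cfsg.Agent.Dickson.exists_sylow_upp (F := F) p
    refine Or.inr (Or.inl ⟨P, H.map (MulAut.conj t).toMonoidHom, ?_,
      ⟨H.equivMapOfInjective _ (MulAut.conj t).injective⟩⟩)
    rintro x ⟨g, hg, rfl⟩
    rw [hP]
    exact Cfsg.Agent.Dickson.le_normalizer_upp (ht g hg)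
  · exact Or.inl ⟨k, hk, Or.inr hiso⟩
  · exact Or.inr (Or.inr (Or.inl h))
  · exact Or.inr (Or.inr (Or.inr (Or.inl h)))
  · exact Or.inr (Or.inr (Or.inr (Or.inr (Or.inl h))))
  · obtain ⟨K, iK, fK, ⟨e⟩⟩ := Cfsg.Agent.Dickson.exists_field_type0 T
    refine Or.inr (Or.inr (Or.inr (Or.inr (Or.inr ⟨K, iK, fK, m, ?_, ?_⟩))))
    · rw [← Nat.card_eq_fintype_card, ← Nat.card_congr e.toEquiv, hm]
    · rcases hiso with h | h
      · exact Or.inl (h.map fun i => i.trans (Cfsg.Agent.LinearGroup.pslCongr e))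
      · exact Or.inr (h.map fun i => i.trans (Cfsg.Agent.Dickson.pglCongr e))

end Cfsg.Agent.S0799
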