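import Cfsg.Statements.S0800
import Cfsg.Agent.Recog71.SL2Orders

set_option autoImplicit false
open Cfsg

namespace Cfsg.Agent.S0800

/-- Tori of SL_2(q): if g ∈ SL_2(q) has order coprime to the characteristic p, then the order of g divides q − 1 or q + 1. -/
theorem result {F : Type*} [Field F] [Fintype F] {q : ℕ} (hF : Fintype.card F = q) (p : ℕ) [Fact p.Prime] [CharP F p] (g : Matrix.SpecialLinearGroup (Fin 2) F) (hg : Nat.Coprime (orderOf g) p) : orderOf g ∣ q - 1 ∨ orderOf g ∣ q + 1 := by
  have hcast : ∀ n : ℕ, (g : Matrix (Fin 2) (Fin 2) F) ^ n = 1 → orderOf g ∣ n := fun n h =>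
    orderOf_dvd_of_pow_eq_one (Subtype.ext (by rw [Matrix.SpecialLinearGroup.coe_pow, h]; rfl))
  rcases Cfsg.Agent.Recog71.sl2_pow_cases p g with h | h | h | h
  · left; rw [← hF]; exact hcast _ h
  · right; rw [← hF]; exact hcast _ h
  · left
    rw [hg.eq_one_of_dvd (hcast p h)]
    exact one_dvd _
  · left
    have h2 : orderOf g ∣ p * 2 := hcast _ (by rw [pow_mul, h]; simp)
    have h3 : orderOf g ∣ 2 := hg.dvd_of_dvd_mul_left h2
    by_cases hp : p = 2
    · rw [hp] at hg
      rw [hg.eq_one_of_dvd h3]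
      exact one_dvd _
    · refine h3.trans ?_
      have hodd : q % 2 = 1 := by
        have hch : ringChar F ≠ 2 := by rw [ringChar.eq F p]; exact hp
        rw [← hF]
        exact FiniteField.odd_card_of_char_ne_two hch
      omega

end Cfsg.Agent.S0800
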