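import Cfsg.Statements.S0806
import Cfsg.Agent.Lib.Dickson.Maximal

set_option autoImplicit false
open Cfsg

attribute [local instance] Cfsg.Agent.PLocalB.lineAction Cfsg.Agent.Dickson.pslLine

namespace Cfsg.Agent.S0806

/-- Minimal index (Galois): if q ∉ {2, 3, 5, 7, 9, 11} then every proper subgroup of PSL_2(q) has index ≥ q + 1, and some subgroup has index exactly q + 1. -/
theorem result {F : Type*} [Field F] [Fintype F] {q : ℕ} (hF : Fintype.card F = q) (hq : q ∉ ({2, 3, 5, 7, 9, 11} : Finset ℕ)) : (∀ H : Subgroup (Matrix.ProjectiveSpecialLinearGroup (Fin 2) F), H ≠ ⊤ → q + 1 ≤ H.index) ∧ ∃ H : Subgroup (Matrix.ProjectiveSpecialLinearGroup (Fin 2) F), H.index = q + 1 := by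
  subst hF
  refine ⟨fun H hH => ?_, ⟨_, Cfsg.Agent.Dickson.index_stabilizer_point (OnePoint.infty : OnePoint F)⟩⟩
  have h1 := Cfsg.Agent.Dickson.card_le_borel hq H hH
  have h2 := Cfsg.Agent.Dickson.card_psl_eq (F := F)
  rw [← Subgroup.card_mul_index H] at h2
  have hpos : 0 < Fintype.card F * (Fintype.card F - 1) := by
    have := Fintype.one_lt_card (α := F)
    exact Nat.mul_pos (by omega) (by omega)
  refine Nat.le_of_mul_le_mul_right ?_ hpos
  rw [← h2, ← mul_assoc, mul_comm H.index]
  exact Nat.mul_le_mul_right _ h1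

end Cfsg.Agent.S0806
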