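import Cfsg.Statements.S0807
import Cfsg.Agent.Lib.Dickson.Involutions

set_option autoImplicit false
open Cfsg

namespace Cfsg.Agent.S0807

open Cfsg.Agent.Dickson

/-- For q odd, twelve times the number of Klein four-subgroups of PSL_2(q) equals the order of PSL_2(q). -/
theorem result {F : Type*} [Field F] [Fintype F] {q : ℕ} (hF : Fintype.card F = q) (hodd : Odd q) : 12 * Nat.card {V : Subgroup (Matrix.ProjectiveSpecialLinearGroup (Fin 2) F) // IsKleinFour V} = Nat.card (Matrix.ProjectiveSpecialLinearGroup (Fin 2) F) := by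
  subst hF
  haveI : Finite (PSL2 F) := Finite.of_surjective _ QuotientGroup.mk_surjective
  have h2 : (2 : F) ≠ 0 := fun e => by
    haveI := CharTwo.of_one_ne_zero_of_two_eq_zero (R := F) one_ne_zero e
    have := FiniteField.even_card_iff_char_two.mp (ringChar.eq F 2)
    have := Nat.odd_iff.mp hodd
    omega
  obtain ⟨z, N, n, e, hn2, hnev, hz, hC, hez⟩ := exists_centralizer_dihedral h2
  haveI : NeZero n := ⟨by omega⟩
  obtain ⟨j, rfl⟩ := hnev
  have hNcard : Nat.card N = 2 * (j + j) := by rw [Nat.card_congr e.toEquiv, DihedralGroup.nat_card]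
  let I : Set (PSL2 F) := {t | orderOf t = 2}
  have hI : ∀ t, t ∈ I ↔ ∃ c, c * z * c⁻¹ = t := fun t => by
    constructor
    · exact fun ht => isConj_involutions h2 hz ht
    · rintro ⟨c, rfl⟩
      show orderOf (MulAut.conj c z) = 2
      rw [MulEquiv.orderOf_eq, hz]
  have hcnt := card_conjugates_mul z I hI
  rw [hC, hNcard] at hcnt
  -- the fibre over `z`
  have hz_fib : Nat.card {s : PSL2 F // orderOf s = 2 ∧ Commute z s ∧ z ≠ s} = j + j := by
    let f : ZMod (j + j) → {s : PSL2 F // orderOf s = 2 ∧ Commute z s ∧ z ≠ s} := fun i =>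
      ⟨((e.symm (DihedralGroup.sr i) : N) : PSL2 F), by
        refine ⟨by rw [Subgroup.orderOf_coe, MulEquiv.orderOf_eq, DihedralGroup.orderOf_sr], ?_, ?_⟩
        · have : ((e.symm (DihedralGroup.sr i) : N) : PSL2 F) ∈ Subgroup.centralizer ({z} : Set (PSL2 F)) :=
            hC.symm ▸ SetLike.coe_mem _
          rw [Subgroup.mem_centralizer_singleton_iff] at this
          exact this.symm
        · intro h
          rw [← hez] at h
          have := e.symm.injective (Subtype.ext h)
          exact absurd this (by simp)⟩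
    have hf : Function.Bijective f := by
      refine ⟨fun a b h => ?_, fun ⟨s, hs, hcomm, hne⟩ => ?_⟩
      · have h0 : (f a).1 = (f b).1 := by rw [h]
        have h' : ((e.symm (DihedralGroup.sr a) : N) : PSL2 F) = (e.symm (DihedralGroup.sr b) : N) := h0
        have := e.symm.injective (Subtype.ext h')
        simpa using this
      · have hsN : s ∈ N := by
          rw [← hC, Subgroup.mem_centralizer_singleton_iff]
          exact hcomm.symm
        rcases hx : e ⟨s, hsN⟩ with i | i
        · exfalso
          apply hne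
          have ho : orderOf (DihedralGroup.r i) = 2 := by
            rw [← hx, MulEquiv.orderOf_eq, Subgroup.orderOf_mk, hs]
          have h1 := orderOf_dvd_iff_pow_eq_one.mp (dvd_of_eq ho)
          rw [pow_two, DihedralGroup.r_mul_r, DihedralGroup.one_def, DihedralGroup.r.injEq,
            ← ZMod.natCast_zmod_val i, ← Nat.cast_add, ZMod.natCast_eq_zero_iff] at h1
          have hi0 : i.val ≠ 0 := fun h0 => by
            rw [(ZMod.val_eq_zero i).mp h0, DihedralGroup.r_zero, orderOf_one] at ho
            omega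
          have hlt := ZMod.val_lt i
          obtain ⟨c, hc⟩ := h1
          have hc1 : c = 1 := by
            rcases (by omega : c = 0 ∨ c = 1 ∨ 2 ≤ c) with rfl | rfl | h
            · omega
            · rfl
            · have := Nat.mul_le_mul_left (j + j) h; omega
          subst hc1
          have hi : i = (((j + j) / 2 : ℕ) : ZMod (j + j)) := by
            rw [← ZMod.natCast_zmod_val i]; congr 1; omega
          rw [← hi, ← hx, MulEquiv.symm_apply_apply] at hez
          exact hez.symm
        · refine ⟨i, Subtype.ext ?_⟩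
          show ((e.symm (DihedralGroup.sr i) : N) : PSL2 F) = s
          rw [← hx, MulEquiv.symm_apply_apply]
    rw [← Nat.card_congr (Equiv.ofBijective f hf), Nat.card_zmod]
  -- all fibres
  let P : Type _ := Σ t : I, {s : PSL2 F // orderOf s = 2 ∧ Commute (t : PSL2 F) s ∧ (t : PSL2 F) ≠ s}
  have hP : Nat.card P = Nat.card (InvPairs (PSL2 F)) := Nat.card_congr
    { toFun := fun x => ⟨((x.1 : PSL2 F), (x.2 : PSL2 F)), x.1.2, x.2.2⟩
      invFun := fun p => ⟨⟨p.1.1, p.2.1⟩, ⟨p.1.2, p.2.2⟩⟩
      left_inv := fun _ => rfl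
      right_inv := fun _ => rfl }
  have hfib : ∀ t : I, Nat.card {s : PSL2 F // orderOf s = 2 ∧ Commute (t : PSL2 F) s ∧ (t : PSL2 F) ≠ s} = j + j := by
    rintro ⟨t, ht⟩
    obtain ⟨c, rfl⟩ := (hI t).mp ht
    rw [← hz_fib]
    refine Nat.card_congr (Equiv.subtypeEquiv (MulAut.conj c).toEquiv fun s => ?_).symm
    show orderOf s = 2 ∧ Commute z s ∧ z ≠ s ↔ orderOf (MulAut.conj c s) = 2 ∧
      Commute (MulAut.conj c z) (MulAut.conj c s) ∧ MulAut.conj c z ≠ MulAut.conj c s
    rw [MulEquiv.orderOf_eq, commute_iff_eq, commute_iff_eq, ← map_mul, ← map_mul]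
    simp only [ne_eq, EmbeddingLike.apply_eq_iff_eq]
  haveI : Fintype I := Fintype.ofFinite _
  rw [show Nat.card P = Nat.card I * (j + j) by
    rw [Nat.card_sigma, Finset.sum_congr rfl (fun t _ => hfib t), Finset.sum_const, smul_eq_mul,
      Finset.card_univ, ← Nat.card_eq_fintype_card], card_invPairs] at hP
  calc 12 * Nat.card {V : Subgroup (PSL2 F) // IsKleinFour V}
      = 2 * (Nat.card I * (j + j)) := by rw [hP]; ring
    _ = Nat.card (PSL2 F) := by rw [← hcnt]; ring

end Cfsg.Agent.S0807
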