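import Cfsg.Statements.S0809
import Cfsg.Agent.CG26.SL2Inv

set_option autoImplicit false
open Cfsg

namespace Cfsg.Agent.S0809

open Matrix

variable {F : Type*} [Field F] [Fintype F]

local notation "SL2" => Matrix.SpecialLinearGroup (Fin 2) F
local notation "PSL2" => Matrix.ProjectiveSpecialLinearGroup (Fin 2) F

theorem gen_four (h2 : (2 : F) ≠ 0) (A : Subgroup SL2) (hA : Nat.card A = 4) :
    ∃ g : SL2, A = (Subgroup.zpowers (CG26.jj : SL2)).map (MulAut.conj g).toMonoidHom := by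
  classical
  obtain ⟨a, haA, ha1, ha2⟩ : ∃ a ∈ A, a ≠ 1 ∧ a ≠ -1 := by
    by_contra h
    push Not at h
    have : (A : Set SL2) ⊆ {1, -1} := fun a ha => by
      by_cases h1 : a = 1
      · simp [h1]
      · simp [h a ha h1]
    have h' := Nat.card_mono (Set.toFinite _) this
    rw [Nat.card_coe_set_eq ({1, -1} : Set SL2), Set.ncard_pair (CG26.neg_one_ne h2).symm] at h'
    simp only [SetLike.coe_sort_coe, hA] at h'
    omega
  have h4 : a ^ 4 = 1 := by
    rw [← hA]
    exact congrArg Subtype.val (pow_card_eq_one' (x := (⟨a, haA⟩ : A)))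
  have h22 : (a * a) * (a * a) = 1 := by rw [← h4]; simp only [pow_succ, pow_zero, one_mul, mul_assoc]
  have haa : a * a = -1 := by
    rcases (CG26.sq_eq_one_iff h2 _).1 h22 with h | h
    · exact absurd ((CG26.sq_eq_one_iff h2 _).1 h) (by simp [ha1, ha2])
    · exact h
  obtain ⟨g, hg⟩ := CG26.exists_conj_jj h2 a haa
  refine ⟨g, ?_⟩
  rw [MonoidHom.map_zpowers, show (MulAut.conj g).toMonoidHom CG26.jj = a from hg]
  refine (Subgroup.eq_of_le_of_card_ge ((Subgroup.zpowers_le).2 haA) ?_).symm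
  rw [hA, Nat.card_zpowers]
  have hd : orderOf a ∣ 2 ^ 2 := orderOf_dvd_of_pow_eq_one (by simpa using h4)
  obtain ⟨k, hk, hk'⟩ := (Nat.dvd_prime_pow Nat.prime_two).1 hd
  interval_cases k
  · exact absurd (orderOf_eq_one_iff.1 (by simpa using hk')) ha1
  · exfalso
    have h := pow_orderOf_eq_one a
    rw [hk', pow_one, sq, haa] at h
    exact CG26.neg_one_ne h2 h
  · rw [hk']; norm_num

theorem mem_normalizer_iff (h2 : (2 : F) ≠ 0) (h : SL2) :
    h ∈ Subgroup.normalizer ((Subgroup.zpowers (CG26.jj : SL2) : Subgroup SL2) : Set SL2) ↔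
      h * CG26.jj = CG26.jj * h ∨ h * CG26.jj = -(CG26.jj * h) := by
  rw [Subgroup.mem_normalizer_iff_map_conj_eq, MonoidHom.map_zpowers]
  constructor
  · intro he
    have hm : h * CG26.jj * h⁻¹ ∈ Subgroup.zpowers (CG26.jj : SL2) := by
      rw [← he]
      exact Subgroup.mem_zpowers _
    obtain ⟨i, hi⟩ := Subgroup.mem_zpowers_iff.1 hm
    have hJ4 : (CG26.jj : SL2) ^ (4 : ℤ) = 1 := by
      show (CG26.jj : SL2) ^ ((4 : ℕ) : ℤ) = 1
      rw [zpow_natCast, show 4 = 2 * 2 from rfl, pow_mul, sq (CG26.jj : SL2), CG26.jj_sq, sq, neg_mul_neg, one_mul]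
    have hi' : (CG26.jj : SL2) ^ (i % 4) = h * CG26.jj * h⁻¹ := by
      rw [← hi]
      conv_rhs => rw [← Int.emod_add_mul_ediv i 4, _root_.zpow_add, _root_.zpow_mul, hJ4, _root_.one_zpow, mul_one]
    have hnot : ∀ z : SL2, (∀ b : SL2, b * z = z * b) → h * CG26.jj * h⁻¹ = z → False := by
      intro z hz he'
      have hJz : (CG26.jj : SL2) = z := by
        calc (CG26.jj : SL2) = h⁻¹ * (h * CG26.jj * h⁻¹) * h := by group
          _ = z := by rw [he', hz h⁻¹, mul_assoc, inv_mul_cancel, mul_one]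
      have hc : (CG26.jj : SL2) = 1 ∨ (CG26.jj : SL2) = -1 :=
        (CG26.central_eq_two h2 _).1 (Subgroup.mem_center_iff.2 fun b => by rw [hJz]; exact hz b)
      have hsq := (CG26.sq_eq_one_iff h2 _).2 hc
      rw [CG26.jj_sq] at hsq
      exact CG26.neg_one_ne h2 hsq
    have : i % 4 = 0 ∨ i % 4 = 1 ∨ i % 4 = 2 ∨ i % 4 = 3 := by omega
    rcases this with e | e | e | e <;> rw [e] at hi'
    · exact (hnot 1 (fun b => by simp) (by rw [← hi', zpow_zero])).elim
    · left
      rw [zpow_one, eq_mul_inv_iff_mul_eq] at hi'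
      exact hi'.symm
    · refine (hnot (-1) (fun b => by simp) ?_).elim
      rw [← hi', show (2 : ℤ) = ((2 : ℕ) : ℤ) from rfl, zpow_natCast, sq, CG26.jj_sq]
    · right
      rw [show (3 : ℤ) = ((3 : ℕ) : ℤ) from rfl, zpow_natCast, show 3 = 2 + 1 from rfl, pow_succ, sq,
        CG26.jj_sq, neg_one_mul, eq_mul_inv_iff_mul_eq, neg_mul] at hi'
      exact hi'.symm
  · rintro (he | he)
    · show Subgroup.zpowers (h * CG26.jj * h⁻¹) = _
      rw [mul_inv_eq_iff_eq_mul.2 he]
    · have : h * CG26.jj * h⁻¹ = (CG26.jj : SL2)⁻¹ := by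
        rw [mul_inv_eq_iff_eq_mul, eq_inv_mul_iff_mul_eq, he, mul_neg, ← mul_assoc, CG26.jj_sq]
        simp
      show Subgroup.zpowers (h * CG26.jj * h⁻¹) = _
      rw [this, Subgroup.zpowers_inv]


/-- In SL_2(q), q odd: any two subgroups of order 4 are conjugate, and the normaliser of a subgroup of order 4 has order 2(q − 1) if q ≡ 1 (mod 4) and 2(q + 1) if q ≡ 3 (mod 4); consequently all involutions of PSL_2(q) are conjugate. -/
theorem result {F : Type*} [Field F] [Fintype F] {q : ℕ} (hF : Fintype.card F = q) (hodd : Odd q) (A : Subgroup (Matrix.SpecialLinearGroup (Fin 2) F)) (hA : Nat.card A = 4) : (∀ B : Subgroup (Matrix.SpecialLinearGroup (Fin 2) F), Nat.card B = 4 → ∃ g : Matrix.SpecialLinearGroup (Fin 2) F, B = A.map (MulAut.conj g).toMonoidHom) ∧ (q % 4 = 1 → Nat.card ↥(Subgroup.normalizer (A : Set (Matrix.SpecialLinearGroup (Fin 2) F))) = 2 * (q - 1)) ∧ (q % 4 = 3 → Nat.card ↥(Subgroup.normalizer (A : Set (Matrix.SpecialLinearGroup (Fin 2) F))) =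 2 * (q + 1)) ∧ (∀ x y : Matrix.ProjectiveSpecialLinearGroup (Fin 2) F, orderOf x = 2 → orderOf y = 2 → IsConj x y) := by
  have h2 : (2 : F) ≠ 0 := Ring.two_ne_zero fun h => by
    have := FiniteField.even_card_of_char_two h
    rw [hF] at this
    obtain ⟨r, rfl⟩ := hodd
    omega
  obtain ⟨g, rfl⟩ := gen_four h2 A hA
  refine ⟨fun B hB => ?_, ?_⟩
  · obtain ⟨k, rfl⟩ := gen_four h2 B hB
    refine ⟨k * g⁻¹, ?_⟩
    rw [Subgroup.map_map]
    congr 1
    ext x
    simp [mul_assoc]
  have hN : Nat.card (Subgroup.normalizer (((Subgroup.zpowers (CG26.jj : Matrix.SpecialLinearGroup (Fin 2) F)).map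
      (MulAut.conj g).toMonoidHom : Subgroup _) : Set (Matrix.SpecialLinearGroup (Fin 2) F))) =
      2 * Nat.card (CG26.cent : Subgroup (Matrix.SpecialLinearGroup (Fin 2) F)) := by
    set Z := Subgroup.zpowers (CG26.jj : Matrix.SpecialLinearGroup (Fin 2) F)
    have hmap : (Subgroup.normalizer (Z : Set (Matrix.SpecialLinearGroup (Fin 2) F))).map
        (MulAut.conj g).toMonoidHom = Subgroup.normalizer ((Z.map (MulAut.conj g).toMonoidHom : Subgroup _) :
          Set (Matrix.SpecialLinearGroup (Fin 2) F)) :=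
      Subgroup.map_equiv_normalizer_eq Z (MulAut.conj g)
    rw [← hmap, Subgroup.card_map_of_injective (MulAut.conj g).injective]
    obtain ⟨y, hy⟩ := CG26.exists_flp (F := F) h2
    have hmem : ∀ h, h ∈ Subgroup.normalizer (Z : Set (Matrix.SpecialLinearGroup (Fin 2) F)) ↔
        h * CG26.jj = CG26.jj * h ∨ h * CG26.jj = -(CG26.jj * h) := mem_normalizer_iff h2
    let f : Bool × (CG26.cent : Subgroup (Matrix.SpecialLinearGroup (Fin 2) F)) →
        Subgroup.normalizer (Z : Set (Matrix.SpecialLinearGroup (Fin 2) F)) := fun p =>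
      ⟨(if p.1 then y else 1) * p.2.1, (hmem _).2 (by
        have hc := CG26.mem_cent.1 p.2.2
        cases p.1
        · left; simpa using hc
        · right
          simp only [if_true]
          rw [mul_assoc, hc, ← mul_assoc, hy, neg_mul, mul_assoc])⟩
    have hne : ∀ c ∈ (CG26.cent : Subgroup (Matrix.SpecialLinearGroup (Fin 2) F)), y * c ∉
        (CG26.cent : Subgroup (Matrix.SpecialLinearGroup (Fin 2) F)) := by
      intro c hc h
      have hyc : y ∈ (CG26.cent : Subgroup (Matrix.SpecialLinearGroup (Fin 2) F)) := by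
        have := Subgroup.mul_mem _ h (Subgroup.inv_mem _ hc)
        rwa [mul_inv_cancel_right] at this
      have h1 := CG26.mem_cent.1 hyc
      rw [hy] at h1
      have h3 : (-1 : Matrix.SpecialLinearGroup (Fin 2) F) = 1 := by
        rw [← mul_left_inj (CG26.jj * y), neg_one_mul, one_mul]
        exact h1
      exact CG26.neg_one_ne h2 h3
    have hf : Function.Bijective f := by
      constructor
      · rintro ⟨b, c⟩ ⟨b', c'⟩ h
        have h' := congrArg Subtype.val h
        cases b <;> cases b' <;> simp [f] at h'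
        · rw [h']
        · exact absurd (h' ▸ c.2) (hne c'.1 c'.2)
        · exact absurd (h'.symm ▸ c'.2) (hne c.1 c.2)
        · rw [h']
      · rintro ⟨h, hh⟩
        rcases (hmem h).1 hh with he | he
        · exact ⟨(false, ⟨h, CG26.mem_cent.2 he⟩), Subtype.ext (by simp [f])⟩
        · refine ⟨(true, ⟨y⁻¹ * h, CG26.mem_cent.2 ?_⟩), Subtype.ext (by simp [f])⟩
          have hyi : y⁻¹ * CG26.jj = -(CG26.jj * y⁻¹) := by
            rw [inv_mul_eq_iff_eq_mul, mul_neg, ← mul_assoc, hy, neg_mul, neg_neg, mul_assoc, mul_inv_cancel,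
              mul_one]
          rw [mul_assoc, he, mul_neg, ← mul_assoc, hyi, neg_mul, neg_neg, mul_assoc]
    rw [← Nat.card_eq_of_bijective f hf, Nat.card_prod]
    simp
  obtain ⟨hc1, hc3⟩ := CG26.card_cent (F := F) h2
  refine ⟨fun h => ?_, fun h => ?_, fun x y hx hy => ?_⟩
  · rw [hN, hc1 (by rw [hF]; exact h), hF]
  · rw [hN, hc3 (by rw [hF]; exact h), hF]
  · obtain ⟨a, rfl, ha⟩ := CG26.exists_lift_sq h2 hx
    obtain ⟨b, rfl, hb⟩ := CG26.exists_lift_sq h2 hy
    obtain ⟨u, hu⟩ := CG26.exists_conj_jj h2 a ha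
    obtain ⟨v, hv⟩ := CG26.exists_conj_jj h2 b hb
    exact MonoidHom.map_isConj (QuotientGroup.mk' _)
      ((isConj_iff.2 ⟨u, hu⟩).symm.trans (isConj_iff.2 ⟨v, hv⟩))

end Cfsg.Agent.S0809
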