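import Cfsg.Statements.S0812
import Cfsg.Agent.Lib.Dickson.Maximal

set_option autoImplicit false
open Cfsg

namespace Cfsg.Agent.S0812

/-- For q ∉ {2, 3, 5, 7, 9, 11}, PSL_2(q) has a maximal subgroup isomorphic to the dihedral group of order 2(q − 1)/d, d = gcd(2, q − 1). -/
theorem result {F : Type*} [Field F] [Fintype F] {q : ℕ} (hF : Fintype.card F = q) (hq : q ∉ ({2, 3, 5, 7, 9, 11} : Finset ℕ)) : ∃ H : Subgroup (Matrix.ProjectiveSpecialLinearGroup (Fin 2) F), IsCoatom H ∧ Nonempty (H ≃* DihedralGroup ((q - 1) / Nat.gcd 2 (q - 1))) := by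
  subst hF
  have hd : Nat.gcd 2 (Fintype.card F - 1) * ((Fintype.card F - 1) / Nat.gcd 2 (Fintype.card F - 1))
      = Fintype.card F - 1 := Nat.mul_div_cancel' (Nat.gcd_dvd_right _ _)
  have h2 : 2 ≤ (Fintype.card F - 1) / Nat.gcd 2 (Fintype.card F - 1) := by
    have h1 := Fintype.one_lt_card (α := F)
    simp only [Finset.mem_insert, Finset.mem_singleton, not_or] at hq
    rcases Cfsg.Agent.Dickson.d_even_or_odd (F := F) with ⟨e, he⟩ | ⟨e, he⟩ <;> rw [e] at hd ⊢ <;> omega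
  obtain ⟨N, hN⟩ := Cfsg.Agent.Dickson.exists_torus_minus (F := F) h2
  exact ⟨N, Cfsg.Agent.Dickson.isCoatom_torus_minus hq hN hd, hN.2.1⟩

end Cfsg.Agent.S0812
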