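import Cfsg.Statements.S0814
import Cfsg.Agent.CG26.AutPSp.Count
import Cfsg.Agent.CG26.FieldAutCard
-- import your own Cfsg.Agent.* helpers here

set_option autoImplicit false
open Cfsg

namespace Cfsg.Agent.S0814

/-- |Aut(PSp_2m(q))| = gcd(2, q−1) · f · |PSp_2m(q)| for q = p^f, m ≥ 2, (m, q) ≠ (2, 2), with an extra factor 2 exactly when m = 2 and p = 2. -/
theorem result {F : Type*} [Field F] [Fintype F] (p f : ℕ) [Fact p.Prime] (hf : 1 ≤ f) (hF : Fintype.card F = p ^ f) (m : ℕ) (hm : 2 ≤ m) (h22 : m = 2 → 3 ≤ p ^ f) : Nat.card (MulAut (Cfsg.PSp m F)) = (if m = 2 ∧ p = 2 then 2 else 1) * Nat.gcd 2 (p ^ f - 1) * f * Nat.card (Cfsg.PSp m F) := by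
  have hqc : Nat.card F = p ^ f := Nat.card_eq_fintype_card.trans hF
  have hp : p.Prime := Fact.out
  have hz := Cfsg.Agent.Symplectic.card_PSp (m := m) hF (by omega)
  rw [← Cfsg.Agent.Symplectic.card_Sp hF m] at hz
  have hsemi := CG26.AutPSp.card_semiSp (F := F) (m := m) (by omega)
  rw [← hz, CG26.card_fieldAut p f hF] at hsemi
  have hchar : CharP F p := by
    obtain ⟨r, hr⟩ := CharP.exists F
    obtain ⟨k, hk, hk'⟩ := FiniteField.card F r
    have h : r ^ (k : ℕ) = p ^ f := hk'.symm.trans hF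
    have hdvd : r ∣ p ^ f := h ▸ dvd_pow_self r k.pos.ne'
    rwa [← (Nat.prime_dvd_prime_iff_eq hk hp).1 (hk.dvd_of_dvd_pow hdvd)]
  by_cases h : m = 2 ∧ p = 2
  · obtain ⟨rfl, rfl⟩ := h
    rw [if_pos ⟨rfl, rfl⟩]
    obtain ⟨τ, hτ, hall⟩ := CG26.AutPSp.exists_semi_or (F := F) (by rw [hqc]; exact h22 rfl)
    have hbij : Function.Bijective (fun x : Bool × {β : MulAut (Cfsg.PSp 2 F) // CG26.AutPSp.IsSemiSp β} =>
        if x.1 then τ * x.2.1 else x.2.1) := by
      constructor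
      · rintro ⟨a, β⟩ ⟨b, γ⟩ e
        cases a <;> cases b <;>
          simp only [Bool.false_eq_true, if_true, if_false] at e
        · rw [Subtype.ext e]
        · exact absurd (e ▸ β.2) (hτ _ γ.2)
        · exact absurd (e ▸ γ.2) (hτ _ β.2)
        · rw [Subtype.ext (mul_left_cancel e)]
      · intro α
        rcases hall α with h | h
        · exact ⟨(false, ⟨α, h⟩), rfl⟩
        · exact ⟨(true, ⟨τ⁻¹ * α, h⟩), by simp⟩
    rw [← Nat.card_eq_of_bijective _ hbij, Nat.card_prod, hsemi, Nat.card_eq_fintype_card (α := Bool),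
      Fintype.card_bool]
    ring
  · rw [if_neg h, one_mul]
    have hall : ∀ α : MulAut (Cfsg.PSp m F), CG26.AutPSp.IsSemiSp α := fun α =>
      CG26.AutPSp.exists_semi hm (fun h2 h0 => h ⟨h2, by
        haveI : CharP F 2 := CharTwo.of_one_ne_zero_of_two_eq_zero one_ne_zero h0
        exact CharP.eq F hchar ‹CharP F 2›⟩) α
    rw [← Nat.card_congr (Equiv.subtypeUnivEquiv hall), hsemi]
    ring

end Cfsg.Agent.S0814
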