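import Cfsg.Statements.S0817
import Cfsg.Agent.CG26.AutPO.D4Count
-- import your own Cfsg.Agent.* helpers here

set_option autoImplicit false
open Cfsg

namespace Cfsg.Agent.S0817

/-- |Aut(PΩ⁺_2m(q))| for q = p^f, m ≥ 4: |PΩ⁺_2m(q)| times f, times 3 when m = 4, times 2 if p = 2, and times 8 or 4 if p is odd according as m(q−1)/2 is even or odd. -/
theorem result {F : Type*} [Field F] [Fintype F] (p f : ℕ) [Fact p.Prime] (hf : 1 ≤ f) (hF : Fintype.card F = p ^ f) (m : ℕ) (hm : 4 ≤ m) : Nat.card (MulAut (Cfsg.POmega F (Cfsg.quadFormPlus m F))) = (if m = 4 then 3 else 1) * (if p = 2 then 2 else (if Even (m * (p ^ f - 1) / 2) then 8 else 4)) * f * Nat.card (Cfsg.POmega F (Cfsg.quadFormPlus m F)) := by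
  have hfield := Cfsg.Agent.CG26.card_fieldAut p f hF
  have hq : Nat.card F = p ^ f := by rw [Nat.card_eq_fintype_card, hF]
  have harith : (2 * Nat.gcd 4 ((p ^ f) ^ m - 1)) =
      if p = 2 then 2 else (if Even (m * (p ^ f - 1) / 2) then 8 else 4) := by
    have hp := (Fact.out : p.Prime)
    by_cases h2 : p = 2
    · rw [if_pos h2, h2, ← pow_mul]
      have hodd : Odd (2 ^ (f * m) - 1) := Nat.Even.sub_odd Nat.one_le_two_pow
        ((Nat.even_pow' (Nat.mul_ne_zero (by omega) (by omega))).2 even_two) odd_one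
      have hc : Nat.Coprime 4 (2 ^ (f * m) - 1) :=
        Nat.Coprime.pow_left 2 (Nat.coprime_two_left.2 hodd)
      rw [hc.gcd_eq_one]
    · rw [if_neg h2]
      obtain ⟨r, hr⟩ : Odd (p ^ f) := (hp.odd_of_ne_two h2).pow
      rw [hr, Nat.add_sub_cancel, show m * (2 * r) / 2 = m * r by
        rw [mul_left_comm, Nat.mul_div_cancel_left _ two_pos]]
      have key : ((2 * r + 1) ^ m - 1) % 4 = (2 * (m * r)) % 4 := by
        clear hm hfield
        induction m with
        | zero => simp
        | succ n ih =>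
          have h1 : 1 ≤ (2 * r + 1) ^ n := Nat.one_le_pow _ _ (by omega)
          obtain ⟨y, hy⟩ := Nat.exists_eq_add_of_le h1
          rw [hy, Nat.add_sub_cancel_left] at ih
          rw [pow_succ, hy, show (1 + y) * (2 * r + 1) - 1 = y + 2 * r + 2 * (r * y) by
            rw [Nat.sub_eq_iff_eq_add (by nlinarith)]; ring]
          have hyev : 2 ∣ y := by omega
          obtain ⟨z, rfl⟩ := hyev
          rw [show (n + 1) * r = n * r + r by ring, show r * (2 * z) = 2 * (r * z) by ring]
          omega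
      rw [Nat.gcd_rec, key]
      rcases Nat.even_or_odd (m * r) with h | h
      · rw [if_pos h]
        obtain ⟨z, hz⟩ := h
        rw [show 2 * (m * r) % 4 = 0 by omega, Nat.gcd_zero_left]
      · rw [if_neg (Nat.not_even_iff_odd.2 h)]
        obtain ⟨z, hz⟩ := h
        rw [show 2 * (m * r) % 4 = 2 by omega]
        rfl
  rw [← harith, ← hq]
  by_cases h4 : m = 4
  · subst h4
    rw [Cfsg.Agent.CG26.AutPO.D4.card_aut_plus4, hfield, if_pos rfl]
    ring
  · obtain ⟨k, rfl⟩ : ∃ k, m = k + 2 := ⟨m - 2, by omega⟩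
    rw [Cfsg.Agent.CG26.AutPO.card_aut_plus k (by omega), hfield, if_neg h4]
    ring

end Cfsg.Agent.S0817
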