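import Cfsg.Statements.S0818
import Cfsg.Agent.CG26.AutPO.Standard
-- import your own Cfsg.Agent.* helpers here

set_option autoImplicit false
open Cfsg

namespace Cfsg.Agent.S0818

/-- |Aut(PΩ⁻_2m(q))| for q = p^f, m ≥ 4 (form quadFormMinus (m−1) with anisotropic binary part): |PΩ⁻_2m(q)| times f, times 2 if p = 2, and times 4 or 8 if p is odd according as m(q−1)/2 is even or odd. -/
theorem result {F : Type*} [Field F] [Fintype F] (p f : ℕ) [Fact p.Prime] (hf : 1 ≤ f) (hF : Fintype.card F = p ^ f) (m : ℕ) (hm : 4 ≤ m) (a b : F) (hab : ∀ z₁ z₂ : F, z₁ ^ 2 + a * z₁ * z₂ + b * z₂ ^ 2 = 0 → z₁ = 0 ∧ z₂ = 0) : Nat.card (MulAut (Cfsg.POmega F (Cfsg.quadFormMinus (m - 1) F a b))) = (if p = 2 then 2 else (if Even (m * (p ^ f - 1) / 2) then 4 else 8)) * f * Nat.card (Cfsg.POmega F (Cfsg.quadFormMinus (m - 1) F a b)) := by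
  obtain ⟨k, rfl⟩ : ∃ k, m = k + 3 := ⟨m - 3, by omega⟩
  rw [show k + 3 - 1 = k + 2 from rfl,
    Cfsg.Agent.CG26.AutPO.card_aut_minus (a := a) (b := b) hab k (by omega),
    Cfsg.Agent.CG26.card_fieldAut p f hF, Nat.card_eq_fintype_card (α := F), hF]
  suffices h : 2 * Nat.gcd 4 ((p ^ f) ^ (k + 3) + 1) =
      if p = 2 then 2 else (if Even ((k + 3) * (p ^ f - 1) / 2) then 4 else 8) by
    rw [h]; ring
  split_ifs with h2 he
  · subst h2
    have : ¬ 2 ∣ (2 ^ f) ^ (k + 3) + 1 := by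
      have : 2 ∣ (2 ^ f) ^ (k + 3) := dvd_pow (dvd_pow_self 2 (by omega)) (by omega)
      omega
    have hcop : Nat.gcd 4 ((2 ^ f) ^ (k + 3) + 1) = 1 :=
      (Nat.Coprime.pow_left 2 (Nat.prime_two.coprime_iff_not_dvd.2 this) :)
    rw [hcop]
  all_goals
    obtain ⟨r, hr⟩ : Odd (p ^ f) := ((Fact.out : p.Prime).odd_of_ne_two h2).pow
    rw [hr, Nat.add_sub_cancel, show (k + 3) * (2 * r) / 2 = (k + 3) * r by
      rw [mul_left_comm, Nat.mul_div_cancel_left _ two_pos], Nat.even_mul] at he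
    rw [hr, Nat.gcd_rec, Nat.add_mod, Nat.pow_mod]
    rcases Nat.even_or_odd' r with ⟨t, rfl | rfl⟩
    · simp [show (2 * (2 * t) + 1) % 4 = 1 by omega] at he ⊢
    · rw [show (2 * (2 * t + 1) + 1) % 4 = 3 by omega]
      rcases Nat.even_or_odd' (k + 3) with ⟨s, hs | hs⟩ <;> rw [hs] at he ⊢
      all_goals simp [pow_succ, pow_mul, Nat.mul_mod, Nat.pow_mod] at he ⊢

end Cfsg.Agent.S0818
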