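import Cfsg.Statements.S0819
-- import your own Cfsg.Agent.* helpers here

set_option autoImplicit false
open Cfsg

namespace Cfsg.Agent.S0819

open Matrix

/-- multiplication table of the field with four elements `0, 1, w, w + 1` -/
def mul4 (a b : Fin 4) : Fin 4 :=
  ![![0, 0, 0, 0], ![0, 1, 2, 3], ![0, 2, 3, 1], ![0, 3, 1, 2]] a b

/-- addition table -/
def add4 (a b : Fin 4) : Fin 4 :=
  ![![0, 1, 2, 3], ![1, 0, 3, 2], ![2, 3, 0, 1], ![3, 2, 1, 0]] a b

/-- one step of the linear recursion `x ^ 3 = t x ^ 2 + s x + 1` -/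
def step (t s : Fin 4) (v : Fin 4 × Fin 4 × Fin 4) : Fin 4 × Fin 4 × Fin 4 :=
  (add4 (mul4 v.1 t) v.2.1, add4 (mul4 v.1 s) v.2.2, v.1)

/-- the iterate -/
def pw (t s : Fin 4) : ℕ → Fin 4 × Fin 4 × Fin 4
  | 0 => (0, 0, 1)
  | n + 1 => step t s (pw t s n)

theorem key : ∀ t s : Fin 4, ((pw t s 3).1 = 0 ∧ (pw t s 3).2.1 = 0) ∨ ((pw t s 4).1 = 0 ∧ (pw t s 4).2.1 = 0) ∨
    ((pw t s 5).1 = 0 ∧ (pw t s 5).2.1 = 0) ∨ ((pw t s 7).1 = 0 ∧ (pw t s 7).2.1 = 0) := by decide +kernel


/-- No element of PSL_3(4) has order 15. -/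
theorem result {F : Type*} [Field F] [Fintype F] (hF : Fintype.card F = 4) (g : Matrix.ProjectiveSpecialLinearGroup (Fin 3) F) : orderOf g ≠ 15 := by
  intro hord
  obtain ⟨g, rfl⟩ := QuotientGroup.mk_surjective g
  have h20 : (2 : F) = 0 := by
    have h4 : (4 : F) = 0 := by
      have := FiniteField.cast_card_eq_zero F
      rw [hF] at this
      exact_mod_cast this
    exact pow_eq_zero_iff (two_ne_zero) |>.1 (show (2 : F) ^ 2 = 0 by rw [← h4]; norm_num)
  obtain ⟨w, hw⟩ : ∃ w : F, w * w = w + 1 := by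
    classical
    obtain ⟨w, hw⟩ : ∃ w : F, w ∉ ({0, 1} : Finset F) := by
      by_contra hne
      push Not at hne
      have := (Finset.card_le_card (fun x _ => hne x : (Finset.univ : Finset F) ⊆ {0, 1})).trans Finset.card_le_two
      simp [hF] at this
    simp only [Finset.mem_insert, Finset.mem_singleton, not_or] at hw
    refine ⟨w, ?_⟩
    have h := FiniteField.pow_card_sub_one_eq_one w hw.1
    rw [hF] at h
    have : (w - 1) * (w * w + w + 1) = 0 := by linear_combination h
    have h3 := (mul_eq_zero.1 this).resolve_left (sub_ne_zero.2 hw.2)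
    linear_combination h3 - (w + 1) * h20
  let φ : Fin 4 → F := ![0, 1, w, w + 1]
  have hmul : ∀ a b, φ (mul4 a b) = φ a * φ b := fun a b => by
    fin_cases a <;> fin_cases b <;> simp [φ, mul4, hw] <;> grind
  have hadd : ∀ a b, φ (add4 a b) = φ a + φ b := fun a b => by
    fin_cases a <;> fin_cases b <;> simp [φ, add4] <;> grind
  have hsurj : Function.Surjective φ := by
    have hinj : Function.Injective φ := by
      have hw0 : w ≠ 0 := by rintro rfl; simp at hw
      have hw1 : w ≠ 1 := by rintro rfl; grind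
      intro a b
      fin_cases a <;> fin_cases b <;> simp [φ] <;> grind
    exact ((Fintype.bijective_iff_injective_and_card φ).2 ⟨hinj, by simp [hF]⟩).2
  set A : Matrix (Fin 3) (Fin 3) F := (g : Matrix (Fin 3) (Fin 3) F) with hA
  have hch := Matrix.aeval_self_charpoly A
  rw [Polynomial.aeval_eq_sum_range, Matrix.charpoly_natDegree_eq_dim, Fintype.card_fin] at hch
  have h3 : A.charpoly.coeff 3 = 1 := by
    have h := A.charpoly_monic
    rwa [Polynomial.Monic, Polynomial.leadingCoeff, Matrix.charpoly_natDegree_eq_dim, Fintype.card_fin] at h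
  have h0 : A.charpoly.coeff 0 = -1 := by
    have h := Matrix.det_eq_sign_charpoly_coeff A
    rw [g.2, Fintype.card_fin] at h
    linear_combination h
  obtain ⟨t, ht⟩ := hsurj (-A.charpoly.coeff 2)
  obtain ⟨s, hs⟩ := hsurj (-A.charpoly.coeff 1)
  have hcube : A ^ 3 = φ t • A ^ 2 + φ s • A + 1 := by
    rw [ht, hs]
    simp [Finset.sum_range_succ, h3, h0] at hch
    rw [← sub_eq_zero, ← hch, neg_smul, neg_smul]
    abel
  have hpow : ∀ n, A ^ n = φ (pw t s n).1 • A ^ 2 + φ (pw t s n).2.1 • A + φ (pw t s n).2.2 • 1 := by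
    intro n
    induction n with
    | zero => simp [pw, φ]
    | succ n ih =>
      rw [pow_succ, ih]
      simp only [pw, step, hadd, hmul, add_mul, smul_mul_assoc, ← pow_succ, ← pow_two, one_mul]
      rw [show A ^ (2 + 1) = A ^ 3 from rfl, hcube]
      module
  have hkey : ∀ k, ((pw t s k).1 = 0 ∧ (pw t s k).2.1 = 0) → 15 ∣ k := by
    rintro k ⟨h1, h2⟩
    rw [← hord]
    apply orderOf_dvd_of_pow_eq_one
    rw [← QuotientGroup.mk_pow, QuotientGroup.eq_one_iff, Subgroup.mem_center_iff]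
    intro b
    apply Subtype.ext
    have : A ^ k = φ (pw t s k).2.2 • 1 := by rw [hpow, h1, h2]; simp [φ]
    simp [← hA, this]
  rcases key t s with h | h | h | h <;> · have := hkey _ h; omega

end Cfsg.Agent.S0819
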