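import Cfsg.Statements.S0839
-- import your own Cfsg.Agent.* helpers here

set_option autoImplicit false
open Cfsg

namespace Cfsg.Agent.S0839

/-- A matrix of rank one is an outer product. -/
theorem exists_vecMulVec {ι : Type} [Fintype ι] [DecidableEq ι] {F : Type*} [Field F] (M : Matrix ι ι F)
    (h : M.rank = 1) : ∃ v w : ι → F, v ≠ 0 ∧ w ≠ 0 ∧ M = Matrix.vecMulVec v w := by
  have hr : Module.finrank F (LinearMap.range M.mulVecLin) = 1 := h
  obtain ⟨v, hv0, hv⟩ := finrank_eq_one_iff'.1 hr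
  have hcol : ∀ j, ∃ c : F, c • (v : ι → F) = M.col j := by
    intro j
    obtain ⟨c, hc⟩ := hv ⟨M.mulVecLin (Pi.single j 1), LinearMap.mem_range_self _ _⟩
    exact ⟨c, by simpa using congrArg Subtype.val hc⟩
  choose w hw using hcol
  have hM : M = Matrix.vecMulVec (v : ι → F) w := by
    ext a b
    have := congrFun (hw b) a
    simp at this
    rw [Matrix.vecMulVec_apply, mul_comm, ← this]
  refine ⟨v, w, fun hz => hv0 (Subtype.ext hz), fun hz => ?_, hM⟩
  have : M = 0 := by rw [hM, hz]; ext; simp [Matrix.vecMulVec_apply]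
  rw [this, Matrix.rank_zero] at h
  exact zero_ne_one h

/-- `SL` has an element with prescribed non-zero first row. -/
theorem exists_row {F : Type*} [Field F] (n : ℕ) (w : Fin (n + 2) → F) (hw : w ≠ 0) :
    ∃ h : Matrix.SpecialLinearGroup (Fin (n + 2)) F,
      (h : Matrix (Fin (n + 2)) (Fin (n + 2)) F) 0 = w := by
  classical
  obtain ⟨i, hi⟩ := Function.ne_iff.1 hw
  let A : Matrix (Fin (n + 2)) (Fin (n + 2)) F := (1 : Matrix _ _ F).updateRow i w
  have hA : A.det = w i := by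
    have h := Matrix.det_updateRow_sum (1 : Matrix (Fin (n + 2)) (Fin (n + 2)) F) i w
    have hs : (∑ k, w k • (1 : Matrix (Fin (n + 2)) (Fin (n + 2)) F) k) = w := by
      funext j
      rw [Finset.sum_apply]
      simp [Matrix.one_apply]
    rw [hs, Matrix.det_one, smul_eq_mul, mul_one] at h
    exact h
  let B : Matrix (Fin (n + 2)) (Fin (n + 2)) F := A.submatrix (Equiv.swap 0 i) id
  have hB : B.det ≠ 0 := by
    simp only [B, Matrix.det_permute, hA]
    rcases Int.units_eq_one_or (Equiv.Perm.sign (Equiv.swap 0 i)) with h | h <;> simp [h] <;>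
      simpa using hi
  have h01 : (0 : Fin (n + 2)) ≠ 1 := by simp
  refine ⟨⟨B.updateRow 1 (B.det⁻¹ • B 1), ?_⟩, ?_⟩
  · rw [Matrix.det_updateRow_smul, Matrix.updateRow_eq_self, inv_mul_cancel₀ hB]
  · show B.updateRow 1 _ 0 = w
    rw [Matrix.updateRow_ne h01]
    funext j
    simp [B, A]


/-- Every transvection t ∈ SL_(n+2)(F) (rank(t − 1) = 1, (t − 1)² = 0) is conjugate in SL_(n+2)(F) to 1 + v·e_0ᵀ for some column vector v with v_0 = 0 (the group A of matrices that are the identity except in the first column below the diagonal); the dimension is written n + 2 ≥ 2. -/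
theorem result {F : Type*} [Field F] (n : ℕ) (t : Matrix.SpecialLinearGroup (Fin (n + 2)) F) (ht : Cfsg.IsTransvection (t : Matrix (Fin (n + 2)) (Fin (n + 2)) F)) : ∃ (g : Matrix.SpecialLinearGroup (Fin (n + 2)) F) (v : Fin (n + 2) → F), v 0 = 0 ∧ ((g⁻¹ * t * g : Matrix.SpecialLinearGroup (Fin (n + 2)) F) : Matrix (Fin (n + 2)) (Fin (n + 2)) F) = 1 + Matrix.vecMulVec v (Pi.single 0 1) := by
  obtain ⟨hr, hsq⟩ := ht
  obtain ⟨v, w, hv, hw, hM⟩ := exists_vecMulVec _ hr
  have hwv : w ⬝ᵥ v = 0 := by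
    obtain ⟨a, ha⟩ := Function.ne_iff.1 hv
    obtain ⟨b, hb⟩ := Function.ne_iff.1 hw
    have := congrFun (congrFun hsq a) b
    rw [hM, Matrix.vecMulVec_mul_vecMulVec] at this
    simp only [Matrix.vecMulVec_apply, Pi.smul_apply, smul_eq_mul, Matrix.zero_apply] at this
    simp only [Pi.zero_apply] at ha hb
    simpa [ha, hb] using this
  obtain ⟨h, hh⟩ := exists_row n w hw
  refine ⟨h⁻¹, Matrix.mulVec (h : Matrix _ _ F) v, ?_, ?_⟩
  · show (h : Matrix (Fin (n + 2)) (Fin (n + 2)) F) 0 ⬝ᵥ v = 0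
    rw [hh, hwv]
  · have e1 : Matrix.vecMul (Pi.single 0 1) (h : Matrix (Fin (n + 2)) (Fin (n + 2)) F) = w := by
      rw [Matrix.single_one_vecMul]; exact hh
    have hinv : (h : Matrix (Fin (n + 2)) (Fin (n + 2)) F) * ((h⁻¹ : Matrix.SpecialLinearGroup (Fin (n + 2)) F) :
        Matrix (Fin (n + 2)) (Fin (n + 2)) F) = 1 := by
      rw [← Matrix.SpecialLinearGroup.coe_mul, mul_inv_cancel]; rfl
    have htw : (t : Matrix (Fin (n + 2)) (Fin (n + 2)) F) = 1 + Matrix.vecMulVec v w := by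
      rw [← hM]; abel
    rw [inv_inv, Matrix.SpecialLinearGroup.coe_mul, Matrix.SpecialLinearGroup.coe_mul, htw, mul_add,
      add_mul, mul_one, hinv, Matrix.mul_vecMulVec, Matrix.vecMulVec_mul, ← e1, Matrix.vecMul_vecMul,
      hinv, Matrix.vecMul_one]

end Cfsg.Agent.S0839
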