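import Cfsg.Statements.S0820
import Cfsg.Agent.S0839

set_option autoImplicit false
open Cfsg

namespace Cfsg.Agent.S0820

open Matrix

variable {F : Type*} [Field F] [Fintype F]

/-- the standard transvection -/
def T : Matrix.SpecialLinearGroup (Fin 3) F :=
  ⟨Matrix.transvection 1 0 1, Matrix.det_transvection_of_ne 1 0 (by decide) 1⟩

theorem conj_T {t : Matrix.SpecialLinearGroup (Fin 3) F}
    (ht : Cfsg.IsTransvection (t : Matrix (Fin 3) (Fin 3) F)) : IsConj t T := by
  obtain ⟨g, v, hv0, hg⟩ := S0839.result 1 t ht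
  have hc : IsConj t (g⁻¹ * t * g) := isConj_iff.2 ⟨g⁻¹, by rw [inv_inv]⟩
  obtain ⟨M, hM0, hM1, hM2⟩ : ∃ M : Matrix.SpecialLinearGroup (Fin 3) F,
      (M : Matrix (Fin 3) (Fin 3) F) 0 = Pi.single 0 1 ∧
      (M : Matrix (Fin 3) (Fin 3) F) 1 1 = v 1 ∧ (M : Matrix (Fin 3) (Fin 3) F) 2 1 = v 2 := by
    by_cases h1 : v 1 = 0
    · have h2 : v 2 ≠ 0 := by
        intro h2
        have hv : v = 0 := by funext i; fin_cases i <;> assumption
        have h : g⁻¹ * t * g = 1 := Subtype.ext (by rw [hg, hv]; simp)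
        have ht1 : t = 1 := by
          calc t = g * (g⁻¹ * t * g) * g⁻¹ := by group
            _ = 1 := by rw [h]; group
        have hr := ht.1
        rw [ht1] at hr
        simp at hr
      exact ⟨⟨!![1, 0, 0; 0, v 1, -(v 2)⁻¹; 0, v 2, 0], by simp [Matrix.det_fin_three, h2]⟩,
        by funext i; fin_cases i <;> simp, by simp, by simp⟩
    · exact ⟨⟨!![1, 0, 0; 0, v 1, 0; 0, v 2, (v 1)⁻¹], by simp [Matrix.det_fin_three, h1]⟩,
        by funext i; fin_cases i <;> simp, by simp, by simp⟩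
  refine hc.trans (isConj_iff.2 ⟨M⁻¹, ?_⟩)
  rw [inv_inv, mul_assoc, inv_mul_eq_iff_eq_mul]
  apply Subtype.ext
  show ((g⁻¹ * t * g : Matrix.SpecialLinearGroup (Fin 3) F) : Matrix (Fin 3) (Fin 3) F) *
      (M : Matrix (Fin 3) (Fin 3) F) = (M : Matrix (Fin 3) (Fin 3) F) * Matrix.transvection 1 0 1
  rw [hg, Matrix.transvection, add_mul, mul_add, one_mul, mul_one, Matrix.vecMulVec_mul, add_right_inj,
    Matrix.single_one_vecMul]
  ext i j
  fin_cases i <;> fin_cases j <;> simp [Matrix.vecMulVec_apply, Matrix.mul_apply, Fin.sum_univ_three,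
    Matrix.single, Matrix.row, hM0, hM1, hM2, hv0]

theorem lift_transvection (hF : Fintype.card F = 4) (x : Matrix.ProjectiveSpecialLinearGroup (Fin 3) F)
    (hx : orderOf x = 2) : ∃ t : Matrix.SpecialLinearGroup (Fin 3) F,
      Cfsg.IsTransvection (t : Matrix (Fin 3) (Fin 3) F) ∧ QuotientGroup.mk t = x := by
  obtain ⟨g, rfl⟩ := QuotientGroup.mk_surjective x
  have hg2 : g * g ∈ Subgroup.center _ := by
    rw [← QuotientGroup.eq_one_iff, QuotientGroup.mk_mul, ← sq, ← hx]
    exact pow_orderOf_eq_one _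
  obtain ⟨r, hr, hrg⟩ := Matrix.SpecialLinearGroup.mem_center_iff.1 hg2
  have hr3 : r ^ 3 = 1 := by simpa using hr
  have hr0 : r ≠ 0 := by rintro rfl; norm_num at hr3
  have h20 : (2 : F) = 0 := by
    have h4 : (4 : F) = 0 := by
      have := FiniteField.cast_card_eq_zero F
      rw [hF] at this
      exact_mod_cast this
    exact pow_eq_zero_iff (two_ne_zero) |>.1 (show (2 : F) ^ 2 = 0 by rw [← h4]; norm_num)
  let c : Matrix.SpecialLinearGroup (Fin 3) F := ⟨r • 1, by simp [Matrix.det_smul, hr3]⟩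
  have hcv : (c : Matrix (Fin 3) (Fin 3) F) = r • 1 := rfl
  have hc : c ∈ Subgroup.center _ := Subgroup.mem_center_iff.2 fun a => Subtype.ext (by
    rw [Matrix.SpecialLinearGroup.coe_mul, Matrix.SpecialLinearGroup.coe_mul, hcv, mul_smul_comm,
      smul_mul_assoc, mul_one, one_mul])
  have hcg : QuotientGroup.mk (s := Subgroup.center _) (c * g) = (QuotientGroup.mk g :
      Matrix.ProjectiveSpecialLinearGroup (Fin 3) F) := by
    rw [QuotientGroup.mk_mul, (QuotientGroup.eq_one_iff c).2 hc, one_mul]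
  refine ⟨c * g, ?_, hcg⟩
  set N : Matrix (Fin 3) (Fin 3) F := ((c * g : Matrix.SpecialLinearGroup (Fin 3) F) :
    Matrix (Fin 3) (Fin 3) F) with hN
  have hNN : N * N = 1 := by
    have e : (g : Matrix (Fin 3) (Fin 3) F) * g = r • 1 := by
      rw [← Matrix.SpecialLinearGroup.coe_mul, ← hrg]
      rw [Matrix.scalar_apply]
      exact (Matrix.smul_one_eq_diagonal r).symm
    rw [hN, Matrix.SpecialLinearGroup.coe_mul, hcv]
    rw [smul_mul_assoc, one_mul, smul_mul_assoc, mul_smul_comm, e, smul_smul, smul_smul,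
      show r * r * r = 1 by linear_combination hr3, one_smul]
  have hsq : (N - 1) * (N - 1) = 0 := by
    rw [sub_mul, mul_sub, mul_sub, hNN, mul_one, one_mul, one_mul]
    ext i j
    simp only [Matrix.sub_apply, Matrix.zero_apply]
    linear_combination ((1 : Matrix (Fin 3) (Fin 3) F) i j - N i j) * h20
  refine ⟨le_antisymm ?_ ?_, hsq⟩
  · have hle : LinearMap.range (N - 1).mulVecLin ≤ LinearMap.ker (N - 1).mulVecLin := by
      rintro _ ⟨y, rfl⟩
      show (N - 1) *ᵥ ((N - 1) *ᵥ y) = 0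
      rw [Matrix.mulVec_mulVec, hsq, Matrix.zero_mulVec]
    have h1 := Submodule.finrank_mono hle
    have h2 := (N - 1).mulVecLin.finrank_range_add_finrank_ker
    simp at h2
    show Module.finrank F (LinearMap.range (N - 1).mulVecLin) ≤ 1
    omega
  · rw [Nat.one_le_iff_ne_zero]
    intro h0
    have hN1 : N = 1 := by
      have : LinearMap.range (N - 1).mulVecLin = ⊥ := Submodule.finrank_eq_zero.1 h0
      rw [LinearMap.range_eq_bot] at this
      have h1 : N - 1 = 0 := Matrix.toLin'.injective (by rw [Matrix.toLin'_apply', this, map_zero])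
      exact sub_eq_zero.1 h1
    have : (QuotientGroup.mk g : Matrix.ProjectiveSpecialLinearGroup (Fin 3) F) = 1 := by
      rw [← hcg, show c * g = 1 from Subtype.ext hN1]
      rfl
    rw [this, orderOf_one] at hx
    norm_num at hx


/-- Any two elements of order 2 of PSL_3(4) are conjugate. -/
theorem result {F : Type*} [Field F] [Fintype F] (hF : Fintype.card F = 4) (x y : Matrix.ProjectiveSpecialLinearGroup (Fin 3) F) (hx : orderOf x = 2) (hy : orderOf y = 2) : IsConj x y := by
  obtain ⟨s, hs, rfl⟩ := lift_transvection hF x hx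
  obtain ⟨t, ht, rfl⟩ := lift_transvection hF y hy
  exact MonoidHom.map_isConj (QuotientGroup.mk' _) ((conj_T hs).trans (conj_T ht).symm)

end Cfsg.Agent.S0820
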