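import Cfsg.Statements.S0821
import Cfsg.Agent.CG26.PSpElemTwo
import Cfsg.Agent.CG26.OmegaOddElemTwo

set_option autoImplicit false
open Cfsg

namespace Cfsg.Agent.S0821

/-- PSp_2m(q) ≇ PΩ_(2m+1)(q) for q odd and m ≥ 3 (they have the same order). -/
theorem result {F : Type*} [Field F] [Fintype F] (hodd : Odd (Fintype.card F)) (m : ℕ) (hm : 3 ≤ m) : IsEmpty (Cfsg.PSp m F ≃* Cfsg.POmega F (Cfsg.quadFormOdd m F)) := by
  have h2 : (2 : F) ≠ 0 := by
    refine Ring.two_ne_zero ?_
    intro h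
    exact Nat.not_even_iff_odd.2 hodd (Nat.even_iff.2 (FiniteField.even_card_of_char_two h))
  refine ⟨fun e => ?_⟩
  obtain ⟨E, hE, hcard⟩ := CG26.pomega_odd_elem_two h2 m (by omega)
  have h := CG26.psp_elem_two_card_le h2 (m := m) (by omega) (E.map e.symm.toMonoidHom) (by
    rintro _ ⟨x, hx, rfl⟩
    rw [← map_mul, hE x hx, map_one])
  rw [Subgroup.card_map_of_injective e.symm.injective, hcard] at h
  have := (Nat.pow_le_pow_iff_right (by norm_num : 1 < 2)).1 h
  omega

end Cfsg.Agent.S0821
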