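import Cfsg.Statements.S0822
import Cfsg.Agent.CG26.U4Sp4
import Cfsg.Agent.Lib.LinearGroup.Sp42
-- import your own Cfsg.Agent.* helpers here

set_option autoImplicit false
open Cfsg

namespace Cfsg.Agent.S0822

/-- PSU_4(2) ≅ PSp_4(3): with |F| = 4 and |K| = 3, the projective special unitary group of the standard Hermitian form on F^4 is isomorphic to PSp_4(K). -/
theorem result {F K : Type*} [Field F] [Fintype F] [Field K] [Fintype K] (hF : Fintype.card F = 4) (hK : Fintype.card K = 3) : Nonempty (Cfsg.PSU 4 F 2 ≃* Cfsg.PSp 2 K) := by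
  haveI : Fact (Nat.Prime 2) := ⟨Nat.prime_two⟩
  haveI : CharP F 2 := charP_of_card_eq_prime_pow (f := 2) (by rw [hF]; rfl)
  obtain ⟨e⟩ := Cfsg.Agent.CG26.U4Sp4.psu_iso_psp (F := F) hF
  have i : ZMod 3 ≃+* K := ZMod.ringEquivOfPrime K (by decide) (by simpa using hK)
  let sc := Cfsg.Agent.LinearGroup.Sp42.spCongr (l := Fin 2) i
  refine ⟨e.trans (QuotientGroup.congr _ _ sc ?_)⟩
  ext z
  simp only [Subgroup.mem_map, Subgroup.mem_center_iff]
  constructor
  · rintro ⟨y, hy, rfl⟩ g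
    obtain ⟨g, rfl⟩ := sc.surjective g
    simp only [MulEquiv.coe_toMonoidHom, MonoidHom.coe_coe, ← map_mul, hy g]
  · intro h
    obtain ⟨y, rfl⟩ := sc.surjective z
    exact ⟨y, fun g => sc.injective (by rw [map_mul, map_mul, h]), rfl⟩

end Cfsg.Agent.S0822
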