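import Cfsg.Statements.S0823
import Cfsg.Agent.CG26.HeartIso
import Cfsg.Agent.S0286

set_option autoImplicit false
open Cfsg

namespace Cfsg.Agent.S0823

open Matrix

abbrev Q3 := Cfsg.quadFormOdd 1 (ZMod 3)

abbrev I3 := Unit ⊕ (Fin 1 ⊕ Fin 1)

/-- basis -/
def eMat : Matrix (Fin 4) I3 (ZMod 3) :=
  Matrix.of fun i => Sum.elim (fun _ => ![1, 2, 0, 0] i)
    (Sum.elim ![![1, 1, 1, 0] i] ![![2, 2, 0, 2] i])

/-- coordinates -/
def cMat : Matrix I3 (Fin 4) (ZMod 3) :=
  Matrix.of (Sum.elim (fun _ => ![2, 1, 0, 0]) (Sum.elim ![![2, 2, 0, 2]] ![![1, 1, 1, 0]]))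

/-- twice the sum of squares -/
def qSq (v : Fin 4 → ZMod 3) : ZMod 3 := 2 * ∑ i, v i ^ 2

theorem qSq_perm (σ : Equiv.Perm (Fin 4)) (v : Fin 4 → ZMod 3) : qSq (fun i => v (σ i)) = qSq v := by
  unfold qSq
  rw [Equiv.sum_comp σ (fun i => v i ^ 2)]

theorem sum_eMat : ∀ X : I3 → ZMod 3, ∑ i, (eMat *ᵥ X) i = 0 := by decide +kernel

theorem q_eMat : ∀ X : I3 → ZMod 3, qSq (eMat *ᵥ X) = Q3 X := by decide +kernel

theorem eMat_cMat : ∀ v : Fin 4 → ZMod 3, ∑ i, v i = 0 →
    ∃ c : ZMod 3, eMat *ᵥ (cMat *ᵥ v) = v + fun _ => c := by decide +kernel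

/-- the model -/
def model : CG26.Model (ZMod 3) 4 Q3 where
  E := eMat
  C := cMat
  q := qSq
  sum_E := sum_eMat
  C_E := by decide +kernel
  E_C := eMat_cMat
  C_const := by decide +kernel
  q_E := q_eMat
  q_perm := qSq_perm
  q_const := by decide +kernel

abbrev G3 := Cfsg.isometryGroup (ZMod 3) Q3

/-- determinant of an isometry -/
noncomputable abbrev dt : G3 →* (ZMod 3)ˣ := Matrix.GeneralLinearGroup.det.comp G3.subtype

/-- `-1` as an isometry -/
def negOne : G3 := ⟨-1, fun u _ => by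
  show Q3 ((-1 : Matrix I3 I3 (ZMod 3)) *ᵥ u) = Q3 u
  rw [Matrix.neg_mulVec, Matrix.one_mulVec]
  simp [Q3, Cfsg.quadFormOdd]⟩

theorem negOne_central (g : G3) : g * negOne = negOne * g := Subtype.ext (by simp [negOne])

theorem dt_negOne : dt negOne = -1 := by
  apply Units.ext
  show Matrix.det (-1 : Matrix I3 I3 (ZMod 3)) = -1
  rw [Matrix.det_neg, Matrix.det_one, mul_one]
  rfl

theorem units3 : ∀ u : (ZMod 3)ˣ, u = 1 ∨ u = -1 := by decide

/-- the sign correction -/
noncomputable def corr (g : G3) : G3 := if dt g = 1 then g else negOne * g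

theorem dt_corr (g : G3) : dt (corr g) = 1 := by
  unfold corr
  split
  · assumption
  · next h => rw [map_mul, dt_negOne, (units3 _).resolve_left h]; decide

theorem neg_ne : (-1 : (ZMod 3)ˣ) ≠ 1 := by decide

theorem negOne_sq : negOne * negOne = 1 := Subtype.ext (by simp [negOne])

theorem corr_mul (g h : G3) : corr (g * h) = corr g * corr h := by
  have hc : g * negOne = negOne * g := negOne_central g
  rcases units3 (dt g) with h1 | h1 <;> rcases units3 (dt h) with h2 | h2
  · have h3 : dt (g * h) = 1 := by rw [map_mul, h1, h2, one_mul]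
    rw [corr, corr, corr, if_pos h1, if_pos h2, if_pos h3]
  · have h3 : dt (g * h) ≠ 1 := by rw [map_mul, h1, h2, one_mul]; exact neg_ne
    have h2' : dt h ≠ 1 := by rw [h2]; exact neg_ne
    rw [corr, corr, corr, if_pos h1, if_neg h2', if_neg h3, ← mul_assoc g, hc, mul_assoc]
  · have h3 : dt (g * h) ≠ 1 := by rw [map_mul, h1, h2, mul_one]; exact neg_ne
    have h1' : dt g ≠ 1 := by rw [h1]; exact neg_ne
    rw [corr, corr, corr, if_neg h1', if_pos h2, if_neg h3, mul_assoc]
  · have h3 : dt (g * h) = 1 := by rw [map_mul, h1, h2]; decide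
    have h1' : dt g ≠ 1 := by rw [h1]; exact neg_ne
    have h2' : dt h ≠ 1 := by rw [h2]; exact neg_ne
    rw [corr, corr, corr, if_neg h1', if_neg h2', if_pos h3, mul_assoc negOne g, ← mul_assoc g, hc,
      mul_assoc negOne g h, ← mul_assoc negOne negOne, negOne_sq, one_mul]

/-- onto the special group -/
noncomputable def proj : G3 →* Cfsg.specialIsometryGroup (ZMod 3) Q3 :=
  MonoidHom.mk' (fun g => ⟨corr g, dt_corr g⟩) (fun g h => Subtype.ext (corr_mul g h))

/-- the isomorphism's inverse -/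
noncomputable def toSO : Equiv.Perm (Fin 4) →* Cfsg.specialIsometryGroup (ZMod 3) Q3 := proj.comp model.hom

theorem proj_coe (g : G3) : ((proj g : Cfsg.specialIsometryGroup (ZMod 3) Q3) : G3) = corr g := rfl

theorem toSO_injective : Function.Injective toSO := by
  rw [injective_iff_map_eq_one]
  intro σ h
  rw [toSO, MonoidHom.comp_apply] at h
  have h' : corr (model.hom σ) = 1 := by rw [← proj_coe, h, Subgroup.coe_one]
  unfold corr at h'
  split at h'
  · exact model.hom_injective (by norm_num) (Or.inr (by decide)) (h'.trans (map_one _).symm)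
  · have h1 : model.hom σ = negOne := by
      calc model.hom σ = negOne * negOne * model.hom σ := by rw [negOne_sq, one_mul]
        _ = negOne := by rw [mul_assoc, h', mul_one]
    refine model.eq_one_of_scalar (by norm_num) (Or.inr (by decide)) (s := -1) fun X => ?_
    have := congrArg (fun g : G3 => ((g.1 : GL I3 (ZMod 3)) : Matrix I3 I3 (ZMod 3)) *ᵥ X) h1
    simpa [CG26.Model.hom_coe, negOne, LinearMap.toMatrix'_mulVec, Matrix.neg_mulVec] using this


/-- SO_3(3) ≅ S_4: the determinant-one isometries of the form x_0² + x_1y_1 over the field with 3 elements form a group isomorphic to the symmetric group on 4 letters. -/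
theorem result {F : Type*} [Field F] [Fintype F] (hF : Fintype.card F = 3) : Nonempty (↥(Cfsg.specialIsometryGroup F (Cfsg.quadFormOdd 1 F)) ≃* Equiv.Perm (Fin 4)) := by
  obtain ⟨e⟩ := CG26.exists_zmod_equiv 3 hF
  let Ψ := CG26.isometryGroupCongr (Q := Q3) (Q' := Cfsg.quadFormOdd 1 F) e
    (fun v => by simp [Q3, Cfsg.quadFormOdd])
  have hd : ∀ g : G3, Matrix.GeneralLinearGroup.det (Ψ g).1 = 1 ↔ dt g = 1 := by
    intro g
    have h : ((Matrix.GeneralLinearGroup.det (Ψ g).1 : Fˣ) : F) = e ((dt g : (ZMod 3)ˣ) : ZMod 3) := by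
      show Matrix.det (((g.1 : GL I3 (ZMod 3)) : Matrix I3 I3 (ZMod 3)).map e) = _
      exact (RingHom.map_det e.toRingHom _).symm
    rw [← Units.val_eq_one, h, map_eq_one_iff _ e.injective, Units.val_eq_one]
  let Φ : Cfsg.specialIsometryGroup (ZMod 3) Q3 ≃* Cfsg.specialIsometryGroup F (Cfsg.quadFormOdd 1 F) :=
    (Subgroup.equivMapOfInjective _ Ψ.toMonoidHom Ψ.injective).trans (MulEquiv.subgroupCongr (by
      ext x
      obtain ⟨g, rfl⟩ := Ψ.surjective x
      constructor
      · rintro ⟨g', hg', he⟩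
        obtain rfl := Ψ.injective he
        exact (hd g').2 hg'
      · exact fun h => ⟨g, (hd g).1 h, rfl⟩))
  have hG := S0286.result (F := ZMod 3) (q := 3) (ZMod.card 3) (by decide) 1
  have hG' : Nat.card G3 = 48 := hG.trans (by decide)
  have h2 : 2 ≤ Nat.card dt.range := by
    have hne : (⟨dt negOne, negOne, rfl⟩ : dt.range) ≠ 1 := by
      intro h
      exact neg_ne (dt_negOne.symm.trans (congrArg Subtype.val h))
    exact Finite.one_lt_card_iff_nontrivial.2 ⟨⟨_, _, hne⟩⟩
  refine ⟨Φ.symm.trans (MulEquiv.ofBijective toSO ?_).symm⟩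
  refine (Nat.bijective_iff_injective_and_card toSO).2 ⟨toSO_injective, le_antisymm ?_ ?_⟩
  · exact Nat.card_le_card_of_injective _ toSO_injective
  · have h1 : Nat.card (Cfsg.specialIsometryGroup (ZMod 3) Q3) * Nat.card dt.range = 48 := by
      rw [← hG']
      show Nat.card dt.ker * _ = _
      rw [← Nat.card_congr (QuotientGroup.quotientKerEquivRange dt).toEquiv, ← Subgroup.index_eq_card,
        Subgroup.card_mul_index]
    rw [Nat.card_perm, Nat.card_fin]
    have : Nat.card (Cfsg.specialIsometryGroup (ZMod 3) Q3) * 2 ≤ 48 := h1 ▸ Nat.mul_le_mul le_rfl h2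
    norm_num [Nat.factorial]
    omega

end Cfsg.Agent.S0823
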