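import Cfsg.Statements.S0825
import Cfsg.Agent.CG26.HeartIso
import Cfsg.Agent.CG26.HeartWeight
import Cfsg.Agent.S0287

set_option autoImplicit false
open Cfsg

namespace Cfsg.Agent.S0825

open Matrix

abbrev Q2 := Cfsg.quadFormPlus 3 (ZMod 2)

/-- basis -/
def eMat : Matrix (Fin 8) (Fin 3 ⊕ Fin 3) (ZMod 2) := Matrix.of fun i => Sum.elim (![![0, 0, 1], ![0, 1, 0], ![0, 1, 1], ![1, 1, 1], ![1, 0, 1], ![1, 0, 0], ![1, 1, 0], ![0, 0, 0]] i) (![![0, 0, 1], ![0, 1, 1], ![1, 1, 0], ![0, 1, 0], ![1, 0, 0], ![1, 1, 1], ![1, 0, 1], ![0, 0, 0]] i)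

/-- coordinates -/
def cMat : Matrix (Fin 3 ⊕ Fin 3) (Fin 8) (ZMod 2) := Matrix.of (Sum.elim ![![0, 0, 1, 0, 1, 1, 1, 0], ![0, 1, 1, 1, 0, 1, 0, 0], ![1, 1, 0, 0, 0, 1, 1, 0]] ![![0, 0, 0, 1, 1, 1, 1, 0], ![0, 1, 1, 1, 0, 0, 1, 0], ![1, 0, 1, 1, 1, 0, 0, 0]])

theorem sum_eMat : ∀ X : Fin 3 ⊕ Fin 3 → ZMod 2, ∑ i, (eMat *ᵥ X) i = 0 := by decide +kernel

theorem q_eMat : ∀ X : Fin 3 ⊕ Fin 3 → ZMod 2, CG26.qWt (eMat *ᵥ X) = Q2 X := by decide +kernel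

theorem eMat_cMat : ∀ v : Fin 8 → ZMod 2, ∑ i, v i = 0 →
    ∃ c : ZMod 2, eMat *ᵥ (cMat *ᵥ v) = v + fun _ => c := by decide +kernel

theorem cMat_const : ∀ c : ZMod 2, cMat *ᵥ (fun _ : Fin 8 => c) = 0 := by decide +kernel

theorem q_const : ∀ (v : Fin 8 → ZMod 2) (c : ZMod 2), ∑ i, v i = 0 →
    CG26.qWt (v + fun _ => c) = CG26.qWt v := by decide +kernel

/-- the model -/
def model : CG26.Model (ZMod 2) 8 Q2 where
  E := eMat
  C := cMat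
  q := CG26.qWt
  sum_E := sum_eMat
  C_E := by decide +kernel
  E_C := eMat_cMat
  C_const c := Or.inl (cMat_const c)
  q_E := q_eMat
  q_perm := CG26.qWt_perm
  q_const v c hv _ := q_const v c hv

/-- O⁺_6(2) ≅ S_8: the isometry group of the hyperbolic form x_1y_1 + x_2y_2 + x_3y_3 over the field with 2 elements is isomorphic to the symmetric group on 8 letters. -/
theorem result {F : Type*} [Field F] [Fintype F] (hF : Fintype.card F = 2) : Nonempty (↥(Cfsg.isometryGroup F (Cfsg.quadFormPlus 3 F)) ≃* Equiv.Perm (Fin 8)) := by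
  obtain ⟨e⟩ := CG26.exists_zmod_equiv 2 hF
  have h := S0287.result (F := ZMod 2) (q := 2) (ZMod.card 2) 3 (by norm_num)
  obtain ⟨φ⟩ := model.nonempty_equiv (by norm_num) (Or.inl (by norm_num))
    (h.trans (by decide))
  exact ⟨(CG26.isometryGroupCongr e (fun v => by simp [Cfsg.quadFormPlus, map_sum])).symm.trans φ⟩

end Cfsg.Agent.S0825
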