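import Cfsg.Statements.S0826
-- import your own Cfsg.Agent.* helpers here

set_option autoImplicit false
open Cfsg

namespace Cfsg.Agent.S0826

open Matrix

/-- the point set: pairs and two further points -/
abbrev Pt (k : ℕ) := (Fin k × Fin 2) ⊕ Fin 2

abbrev Z2 := ZMod 2

variable {k : ℕ}

/-- first half of the symplectic basis of the heart -/
def va (i : Fin k) : Pt k → Z2
  | .inl p => if p.1 = i then 1 else 0
  | .inr _ => 0

/-- second half of the symplectic basis of the heart -/
def vb (i : Fin k) : Pt k → Z2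
  | .inl p => (if i < p.1 then 1 else 0) + (if p.1 = i ∧ p.2 = 1 then 1 else 0)
  | .inr s => if s = 0 then 1 else 0

/-- the embedding of the heart -/
def emb : (Fin k ⊕ Fin k → Z2) →ₗ[Z2] (Pt k → Z2) where
  toFun X := ∑ i, (X (.inl i) • va i + X (.inr i) • vb i)
  map_add' X Y := by
    rw [← Finset.sum_add_distrib]
    refine Finset.sum_congr rfl fun i _ => ?_
    simp only [Pi.add_apply, add_smul]
    abel
  map_smul' c X := by
    rw [Finset.smul_sum]
    refine Finset.sum_congr rfl fun i _ => ?_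
    simp [smul_smul]

/-- coordinates -/
def coord : (Pt k → Z2) →ₗ[Z2] (Fin k ⊕ Fin k → Z2) where
  toFun v := Sum.elim (fun i => vb i ⬝ᵥ v) (fun i => va i ⬝ᵥ v)
  map_add' u v := by funext j; rcases j with j | j <;> simp [dotProduct_add]
  map_smul' c v := by funext j; rcases j with j | j <;> simp [dotProduct_smul]

theorem va_dot (i : Fin k) (v : Pt k → Z2) : va i ⬝ᵥ v = v (.inl (i, 0)) + v (.inl (i, 1)) := by
  simp [dotProduct, va, Fintype.sum_prod_type, Fin.sum_univ_two, Finset.sum_add_distrib]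

theorem vb_dot (i : Fin k) (v : Pt k → Z2) : vb i ⬝ᵥ v = v (.inl (i, 1)) + v (.inr 0) +
    ∑ j, (if i < j then v (.inl (j, 0)) + v (.inl (j, 1)) else 0) := by
  have h : ∀ j : Fin k, vb i (.inl (j, 0)) * v (.inl (j, 0)) + vb i (.inl (j, 1)) * v (.inl (j, 1)) =
      (if j = i then v (.inl (j, 1)) else 0) + (if i < j then v (.inl (j, 0)) + v (.inl (j, 1)) else 0) := by
    intro j
    simp only [vb]
    by_cases h1 : i < j <;> by_cases h2 : j = i <;> simp [h1, h2]
  rw [dotProduct, Fintype.sum_sum_type, Fintype.sum_prod_type]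
  simp only [Fin.sum_univ_two]
  rw [Finset.sum_congr rfl (fun j _ => h j), Finset.sum_add_distrib]
  simp [vb]
  ring

theorem va_va (i j : Fin k) : va i ⬝ᵥ va j = 0 := by
  rw [va_dot]
  simp [va, CharTwo.add_self_eq_zero]

theorem va_vb (i j : Fin k) : va i ⬝ᵥ vb j = if i = j then 1 else 0 := by
  rw [va_dot]
  simp only [vb]
  by_cases h1 : j < i <;> by_cases h2 : i = j <;> simp [h1, h2, CharTwo.add_self_eq_zero]

theorem vb_vb (i j : Fin k) : vb i ⬝ᵥ vb j = 0 := by
  rw [vb_dot]
  have h : ∀ l : Fin k, (if i < l then vb j (.inl (l, 0)) + vb j (.inl (l, 1)) else 0) =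
      if l = j then (if i < j then 1 else 0) else 0 := by
    intro l
    have := va_vb l j
    rw [va_dot] at this
    rw [this]
    by_cases h2 : l = j
    · subst h2; simp
    · simp [h2]
  simp only [h, Finset.sum_ite_eq', Finset.mem_univ, if_true]
  simp only [vb]
  rcases lt_trichotomy i j with h1 | h1 | h1
  · simp [h1, h1.ne, h1.asymm, CharTwo.add_self_eq_zero]
  · simp [h1, CharTwo.add_self_eq_zero]
  · simp [h1, h1.ne', h1.asymm, CharTwo.add_self_eq_zero]

theorem coord_va (i : Fin k) : coord (va i) = Pi.single (.inl i) 1 := by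
  funext j
  rcases j with j | j
  · simp [coord, dotProduct_comm (vb j), va_vb, Pi.single_apply, eq_comm]
  · simp [coord, va_va, Pi.single_apply]

theorem coord_vb (i : Fin k) : coord (vb i) = Pi.single (.inr i) 1 := by
  funext j
  rcases j with j | j
  · simp [coord, vb_vb, Pi.single_apply]
  · simp [coord, va_vb, Pi.single_apply]

theorem coord_emb (X : Fin k ⊕ Fin k → Z2) : coord (emb X) = X := by
  have : coord (emb X) = ∑ i, (X (.inl i) • Pi.single (.inl i) 1 + X (.inr i) • Pi.single (.inr i) 1) := by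
    show coord (∑ i, (X (.inl i) • va i + X (.inr i) • vb i)) = _
    simp [map_sum, coord_va, coord_vb]
  rw [this]
  funext j
  rcases j with j | j <;> simp [Finset.sum_apply, Pi.single_apply]

theorem sum_va (i : Fin k) : ∑ p, va i p = 0 := by
  have h := va_dot i (fun _ => (1 : Z2))
  simp [-Fintype.sum_sum_type, dotProduct, CharTwo.add_self_eq_zero] at h
  exact h

theorem sum_vb (i : Fin k) : ∑ p, vb i p = 0 := by
  have h := vb_dot i (fun _ => (1 : Z2))
  simp [-Fintype.sum_sum_type, dotProduct, CharTwo.add_self_eq_zero] at h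
  exact h

theorem sum_emb (X : Fin k ⊕ Fin k → Z2) : ∑ p, emb X p = 0 := by
  show ∑ p, (∑ i, (X (.inl i) • va i + X (.inr i) • vb i)) p = 0
  simp only [Finset.sum_apply, Pi.add_apply, Pi.smul_apply, smul_eq_mul]
  rw [Finset.sum_comm]
  simp [-Fintype.sum_sum_type, Finset.sum_add_distrib, ← Finset.mul_sum, sum_va, sum_vb]

theorem emb_coord (v : Pt k → Z2) (hv : ∑ p, v p = 0) :
    ∃ c : Z2, emb (coord v) = v + fun _ => c := by
  obtain ⟨y, hy⟩ : ∃ y, y = emb (coord v) - v := ⟨_, rfl⟩
  have hc : coord y = 0 := by rw [hy, map_sub, coord_emb, sub_self]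
  have hs : ∑ p, y p = 0 := by simp [-Fintype.sum_sum_type, hy, Finset.sum_sub_distrib, sum_emb, hv]
  have h1 : ∀ i, y (.inl (i, 0)) + y (.inl (i, 1)) = 0 := fun i => by
    have := congrFun hc (.inr i)
    rw [← va_dot]
    exact this
  have h2 : ∀ i, y (.inl (i, 1)) = y (.inr 0) := fun i => by
    have h := congrFun hc (.inl i)
    change vb i ⬝ᵥ y = 0 at h
    rw [vb_dot] at h
    simp only [h1, ite_self, Finset.sum_const_zero, add_zero] at h
    exact CharTwo.add_eq_zero.1 h
  have h3 : ∀ i, y (.inl (i, 0)) = y (.inr 0) := fun i => (CharTwo.add_eq_zero.1 (h1 i)).trans (h2 i)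
  have h4 : y (.inr 1) = y (.inr 0) := by
    rw [Fintype.sum_sum_type, Fintype.sum_prod_type] at hs
    simp [Fin.sum_univ_two, h2, h3, CharTwo.add_self_eq_zero] at hs
    exact (CharTwo.add_eq_zero.1 hs).symm
  refine ⟨y (.inr 0), ?_⟩
  funext p
  have hp : y p = y (.inr 0) := by
    rcases p with ⟨i, j⟩ | j <;> fin_cases j
    · exact h3 i
    · exact h2 i
    · rfl
    · exact h4
  rw [Pi.add_apply, ← hp, hy, Pi.sub_apply]
  abel

/-- permutation of coordinates -/
def act (σ : Equiv.Perm (Pt k)) : (Pt k → Z2) →ₗ[Z2] (Pt k → Z2) := LinearMap.funLeft Z2 Z2 σ.symm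

theorem coord_const (c : Z2) : coord (fun _ : Pt k => c) = 0 := by
  funext j
  rcases j with j | j
  · show vb j ⬝ᵥ (fun _ => c) = 0
    simp [-Fintype.sum_sum_type, dotProduct, ← Finset.sum_mul, sum_vb]
  · show va j ⬝ᵥ (fun _ => c) = 0
    simp [-Fintype.sum_sum_type, dotProduct, ← Finset.sum_mul, sum_va]

/-- the action on the heart -/
def heart (σ : Equiv.Perm (Pt k)) : (Fin k ⊕ Fin k → Z2) →ₗ[Z2] (Fin k ⊕ Fin k → Z2) :=
  coord ∘ₗ act σ ∘ₗ emb

theorem heart_coord (σ : Equiv.Perm (Pt k)) (v : Pt k → Z2) (hv : ∑ p, v p = 0) :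
    heart σ (coord v) = coord (act σ v) := by
  obtain ⟨c, hc⟩ := emb_coord v hv
  show coord (act σ (emb (coord v))) = _
  rw [hc, map_add, map_add, show act σ (fun _ => c) = fun _ => c from rfl, coord_const, add_zero]

theorem heart_mul (σ τ : Equiv.Perm (Pt k)) : heart (σ * τ) = heart σ ∘ₗ heart τ := by
  refine LinearMap.ext fun X => ?_
  have hs : ∑ p, act τ (emb X) p = 0 := (Equiv.sum_comp τ.symm (emb X)).trans (sum_emb X)
  show coord (act (σ * τ) (emb X)) = heart σ (coord (act τ (emb X)))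
  rw [heart_coord σ _ hs]
  rfl

theorem dot_emb (v : Pt k → Z2) (X : Fin k ⊕ Fin k → Z2) :
    v ⬝ᵥ emb X = ∑ i, (X (.inl i) * coord v (.inr i) + X (.inr i) * coord v (.inl i)) := by
  show v ⬝ᵥ (∑ i, (X (.inl i) • va i + X (.inr i) • vb i)) = _
  rw [dotProduct_sum]
  simp [dotProduct_add, dotProduct_smul, coord, dotProduct_comm v]

theorem dot_even (v w : Pt k → Z2) (hv : ∑ p, v p = 0) (hw : ∑ p, w p = 0) :
    v ⬝ᵥ w = ∑ i, (coord w (.inl i) * coord v (.inr i) + coord w (.inr i) * coord v (.inl i)) := by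
  obtain ⟨c, hc⟩ := emb_coord w hw
  rw [← dot_emb, hc, dotProduct_add]
  simp [-Fintype.sum_sum_type, dotProduct, ← Finset.sum_mul, hv]

theorem toBilin_J (X Y : Fin k ⊕ Fin k → Z2) :
    X ⬝ᵥ (Matrix.J (Fin k) Z2 *ᵥ Y) = ∑ i, (X (.inl i) * Y (.inr i) + X (.inr i) * Y (.inl i)) := by
  simp [dotProduct, Matrix.mulVec, Matrix.J, Matrix.one_apply, CharTwo.neg_eq, Finset.sum_add_distrib]

theorem heart_mem (σ : Equiv.Perm (Pt k)) :
    LinearMap.toMatrix' (heart σ) ∈ Matrix.symplecticGroup (Fin k) Z2 := by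
  rw [SymplecticGroup.mem_iff']
  apply Matrix.toBilin'.injective
  refine LinearMap.ext fun X => LinearMap.ext fun Y => ?_
  rw [Matrix.toBilin'_apply', Matrix.toBilin'_apply', ← Matrix.mulVec_mulVec, ← Matrix.mulVec_mulVec,
    Matrix.dotProduct_mulVec, Matrix.vecMul_transpose, LinearMap.toMatrix'_mulVec, LinearMap.toMatrix'_mulVec,
    toBilin_J, toBilin_J]
  have hs : ∀ Z, ∑ p, act σ (emb Z) p = 0 := fun Z => (Equiv.sum_comp σ.symm (emb Z)).trans (sum_emb Z)
  show ∑ i, (coord (act σ (emb X)) (.inl i) * coord (act σ (emb Y)) (.inr i) +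
    coord (act σ (emb X)) (.inr i) * coord (act σ (emb Y)) (.inl i)) = _
  rw [← dot_even _ _ (hs Y) (hs X)]
  have e : act σ (emb Y) ⬝ᵥ act σ (emb X) = emb Y ⬝ᵥ emb X :=
    Equiv.sum_comp σ.symm (fun p => emb Y p * emb X p)
  rw [e, dot_emb, coord_emb]

/-- the representation -/
noncomputable def rep : Equiv.Perm (Pt k) →* Matrix.symplecticGroup (Fin k) Z2 :=
  MonoidHom.mk' (fun σ => ⟨LinearMap.toMatrix' (heart σ), heart_mem σ⟩) (fun σ τ => Subtype.ext (by
    show LinearMap.toMatrix' (heart (σ * τ)) = LinearMap.toMatrix' (heart σ) * LinearMap.toMatrix' (heart τ)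
    rw [heart_mul, LinearMap.toMatrix'_comp]))

theorem rep_injective (hk : 2 ≤ k) : Function.Injective (rep (k := k)) := by
  rw [injective_iff_map_eq_one]
  intro σ h
  have h1 : ∀ X, coord (act σ (emb X)) = X := fun X => by
    have := congrArg (fun g => Matrix.mulVec (g : Matrix.symplecticGroup (Fin k) Z2).1 X) h
    simpa [rep, heart] using this
  have h2 : ∀ v : Pt k → Z2, (∑ p, v p = 0) → ∃ c : Z2, act σ v = v + fun _ => c := by
    intro v hv
    obtain ⟨c, hc⟩ := emb_coord v hv
    obtain ⟨d, hd⟩ := emb_coord (act σ v) ((Equiv.sum_comp σ.symm v).trans hv)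
    have he : coord (act σ v) = coord v := by
      have := h1 (coord v)
      rwa [hc, map_add, map_add, show act σ (fun _ => c) = fun _ => c from rfl, coord_const, add_zero] at this
    refine ⟨c + d, ?_⟩
    rw [he, hc] at hd
    funext p
    have := congrFun hd p
    simp only [Pi.add_apply] at this ⊢
    linear_combination -this + (CharTwo.two_eq_zero (R := Z2)) * (-d)
  refine Equiv.ext fun x => ?_
  by_contra hx
  simp only [Equiv.Perm.coe_one, id_eq] at hx
  have hcard : 6 ≤ Fintype.card (Pt k) := by simp; omega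
  have hfind : ∀ s : Finset (Pt k), s.card ≤ 5 → ∃ q, q ∉ s := by
    intro s hs
    by_contra hne
    push Not at hne
    have := Finset.card_le_card (fun q _ => hne q : (Finset.univ : Finset (Pt k)) ⊆ s)
    simp at this
    simp at hcard
    omega
  obtain ⟨q, hq⟩ := hfind {x, σ x, σ.symm x, σ.symm (σ.symm x), σ (σ x)} (Finset.card_le_five ..)
  simp only [Finset.mem_insert, Finset.mem_singleton, not_or] at hq
  obtain ⟨c, hc⟩ := h2 (Pi.single x 1 + Pi.single q 1) (by simp [-Fintype.sum_sum_type, Finset.sum_add_distrib, CharTwo.add_self_eq_zero])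
  obtain ⟨r, hr⟩ := hfind {x, q, σ x, σ q} (by refine (Finset.card_le_four ..).trans ?_; norm_num)
  simp only [Finset.mem_insert, Finset.mem_singleton, not_or] at hr
  have hsr : σ.symm r ≠ x ∧ σ.symm r ≠ q :=
    ⟨fun e => hr.2.2.1 (by rw [← e, Equiv.apply_symm_apply]), fun e => hr.2.2.2 (by rw [← e, Equiv.apply_symm_apply])⟩
  have e1 := congrFun hc r
  simp [act, LinearMap.funLeft_apply, Pi.single_apply, hsr.1, hsr.2, hr.1, hr.2.1] at e1
  have e2 := congrFun hc (σ x)
  have hσxq : σ x ≠ q := fun e => hq.2.1 e.symm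
  simp [act, LinearMap.funLeft_apply, Pi.single_apply, hx, hσxq, ← e1, Ne.symm hq.1] at e2


/-- S_2n ≤ Sp_(2n−2)(2) for n ≥ 3: there is an injective homomorphism from the symmetric group on 2n letters into the symplectic group of degree 2n − 2 over the field with two elements. -/
theorem result (n : ℕ) (hn : 3 ≤ n) : ∃ f : Equiv.Perm (Fin (2 * n)) →* Matrix.symplecticGroup (Fin (n - 1)) (ZMod 2), Function.Injective f := by
  obtain ⟨k, rfl⟩ : ∃ k, n = k + 1 := ⟨n - 1, by omega⟩
  let e : Fin (2 * (k + 1)) ≃ Pt k := Fintype.equivOfCardEq (by simp; ring)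
  exact ⟨(rep (k := k)).comp e.permCongrHom.toMonoidHom,
    (rep_injective (by omega)).comp e.permCongrHom.injective⟩

end Cfsg.Agent.S0826
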