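import Cfsg.Statements.S0828
import Cfsg.Agent.CG26.TSLines

set_option autoImplicit false
open Cfsg

namespace Cfsg.Agent.S0828

open Matrix

variable {F : Type*} [Field F]

theorem sympForm_self (v : Fin 2 ⊕ Fin 2 → F) : Cfsg.sympForm 2 F v v = 0 := by
  simp [Cfsg.sympForm, Matrix.J, dotProduct, Matrix.mulVec, Fintype.sum_sum_type, Fin.sum_univ_two,
    Matrix.one_apply]
  ring

theorem sympForm_swap (u v : Fin 2 ⊕ Fin 2 → F) : Cfsg.sympForm 2 F v u = -Cfsg.sympForm 2 F u v := by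
  simp [Cfsg.sympForm, Matrix.J, dotProduct, Matrix.mulVec, Fintype.sum_sum_type, Fin.sum_univ_two,
    Matrix.one_apply]
  ring

/-- the symplectic form as a `LineForm` -/
def sympLine (F : Type*) [Field F] : CG26.LineForm F (Fin 2 ⊕ Fin 2 → F) where
  f := Cfsg.sympForm 2 F
  add_left u v w := add_dotProduct _ _ _
  add_right u v w := by simp [Cfsg.sympForm, Matrix.mulVec_add, dotProduct_add]
  smul_left a u w h := by
    show (a • u) ⬝ᵥ _ = 0
    rw [smul_dotProduct, show u ⬝ᵥ (Matrix.J (Fin 2) F *ᵥ w) = 0 from h, smul_zero]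
  smul_right a u w h := by
    show u ⬝ᵥ (Matrix.J (Fin 2) F *ᵥ (a • w)) = 0
    rw [Matrix.mulVec_smul, dotProduct_smul, show u ⬝ᵥ (Matrix.J (Fin 2) F *ᵥ w) = 0 from h, smul_zero]
  refl u w h := by rw [sympForm_swap, h, neg_zero]

variable [Fintype F]

theorem card_perp {v : Fin 2 ⊕ Fin 2 → F} (hv : v ≠ 0) :
    Nat.card {w : Fin 2 ⊕ Fin 2 → F // (sympLine F).f v w = 0 ∧ (sympLine F).f w w = 0} =
      Nat.card F ^ 3 := by
  have hw : Matrix.vecMul v (Matrix.J (Fin 2) F) ≠ 0 := by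
    intro h
    have h1 := congrArg (fun x => Matrix.vecMul x (Matrix.J (Fin 2) F)) h
    simp only [Matrix.vecMul_vecMul, Matrix.J_squared, Matrix.vecMul_neg, Matrix.vecMul_one,
      Matrix.zero_vecMul] at h1
    exact hv (neg_eq_zero.1 h1)
  let L : (Fin 2 ⊕ Fin 2 → F) →ₗ[F] F :=
    { toFun := fun w => Matrix.vecMul v (Matrix.J (Fin 2) F) ⬝ᵥ w
      map_add' := fun a b => dotProduct_add _ _ _
      map_smul' := fun a b => dotProduct_smul _ _ _ }
  have hL : Function.Surjective L := by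
    obtain ⟨i, hi⟩ := Function.ne_iff.1 hw
    simp only [Pi.zero_apply] at hi
    intro c
    refine ⟨Pi.single i (c / Matrix.vecMul v (Matrix.J (Fin 2) F) i), ?_⟩
    show Matrix.vecMul v (Matrix.J (Fin 2) F) ⬝ᵥ _ = c
    rw [dotProduct_single]
    field_simp
  have h1 := L.finrank_range_add_finrank_ker
  rw [LinearMap.range_eq_top.2 hL, finrank_top, Module.finrank_self] at h1
  simp at h1
  have e : {w : Fin 2 ⊕ Fin 2 → F // (sympLine F).f v w = 0 ∧ (sympLine F).f w w = 0} ≃ LinearMap.ker L :=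
    Equiv.subtypeEquivRight fun w => by
      show (v ⬝ᵥ _ = 0 ∧ _) ↔ _
      rw [Matrix.dotProduct_mulVec, LinearMap.mem_ker]
      exact ⟨fun h => h.1, fun h => ⟨h, sympForm_self w⟩⟩
  rw [Nat.card_congr e, Module.natCard_eq_pow_finrank (K := F)]
  congr 1
  omega

theorem card_through (q : ℕ) (hQ : Nat.card F = q) (v : Fin 2 ⊕ Fin 2 → F) (hv : v ≠ 0) :
    Nat.card {W : Submodule F (Fin 2 ⊕ Fin 2 → F) // (sympLine F).Plane W ∧ v ∈ W} = q + 1 := by
  have hq : 2 ≤ q := by rw [← hQ, Nat.card_eq_fintype_card]; exact Fintype.one_lt_card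
  have h := (sympLine F).card_through hv (sympForm_self v) (card_perp hv)
  rw [hQ] at h
  have hpos : 0 < q ^ 2 - q := by
    have : q < q ^ 2 := by nlinarith
    omega
  refine Nat.eq_of_mul_eq_mul_right hpos (h.trans ?_)
  have e1 : q ≤ q ^ 2 := Nat.le_self_pow two_ne_zero q
  have e2 : q ≤ q ^ 3 := Nat.le_self_pow three_ne_zero q
  zify [e1, e2]
  ring


/-- The symplectic generalised quadrangle over a field with q elements: the number of 2-dimensional subspaces of F^4 on which the symplectic form vanishes is (q + 1)(q² + 1), and every non-zero vector lies in exactly q + 1 of them. -/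
theorem result {F : Type*} [Field F] [Fintype F] {q : ℕ} (hF : Fintype.card F = q) : Nat.card {W : Submodule F (Fin 2 ⊕ Fin 2 → F) // Module.finrank F W = 2 ∧ ∀ u ∈ W, ∀ v ∈ W, Cfsg.sympForm 2 F u v = 0} = (q + 1) * (q ^ 2 + 1) ∧ ∀ v : Fin 2 ⊕ Fin 2 → F, v ≠ 0 → Nat.card {W : Submodule F (Fin 2 ⊕ Fin 2 → F) // Module.finrank F W = 2 ∧ v ∈ W ∧ ∀ u ∈ W, ∀ w ∈ W, Cfsg.sympForm 2 F u w = 0} = q + 1 := by
  have hQ : Nat.card F = q := by rw [Nat.card_eq_fintype_card, hF]
  have hq : 2 ≤ q := by rw [← hF]; exact Fintype.one_lt_card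
  constructor
  · have h := (sympLine F).card_planes (fun v hv _ => card_through q hQ v hv)
    have hs : Nat.card {v : Fin 2 ⊕ Fin 2 → F // (sympLine F).f v v = 0} = q ^ 4 := by
      rw [Nat.card_congr (Equiv.subtypeUnivEquiv (p := fun v => (sympLine F).f v v = 0) fun v => sympForm_self v), Nat.card_fun, hQ]
      simp
    have h2 := (sympLine F).card_singular
    rw [hQ, show Nat.card {v : Fin 2 ⊕ Fin 2 → F // v ≠ 0 ∧ (sympLine F).f v v = 0} = q ^ 4 - 1 by omega] at h
    have e1 : 1 ≤ q ^ 2 := Nat.one_le_pow _ _ (by omega)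
    have e4 : 1 ≤ q ^ 4 := Nat.one_le_pow _ _ (by omega)
    have hpos : 0 < q ^ 2 - 1 := by
      have : 2 ≤ q ^ 2 := le_trans hq (Nat.le_self_pow two_ne_zero q)
      omega
    refine Nat.eq_of_mul_eq_mul_right hpos (h.trans ?_)
    zify [e1, e4]
    ring
  · intro v hv
    rw [← card_through q hQ v hv]
    exact Nat.card_congr (Equiv.subtypeEquivRight fun W => by
      show _ ↔ ((_ ∧ _) ∧ _)
      exact ⟨fun h => ⟨⟨h.1, h.2.2⟩, h.2.1⟩, fun h => ⟨h.1.1, h.2, h.1.2⟩⟩)

end Cfsg.Agent.S0828
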