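import Cfsg.Statements.S0830
import Cfsg.Agent.CG26.HermLines

set_option autoImplicit false
open Cfsg

namespace Cfsg.Agent.S0830

/-- The unitary quadrangle of PSU_5(q): with |F| = q², the number of 2-dimensional subspaces of F^5 on which the Hermitian form vanishes is (q³ + 1)(q⁵ + 1). -/
theorem result {F : Type*} [Field F] [Fintype F] {q : ℕ} (hF : Fintype.card F = q ^ 2) : Nat.card {W : Submodule F (Fin 5 → F) // Module.finrank F W = 2 ∧ ∀ u ∈ W, ∀ v ∈ W, Cfsg.hermForm 5 F q u v = 0} = (q ^ 3 + 1) * (q ^ 5 + 1) := by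
  have hq : 2 ≤ q := Unitary.two_le_q hF
  have e1 : 1 ≤ q ^ 2 := Nat.one_le_pow _ _ (by omega)
  have e3 : 1 ≤ q ^ 4 := Nat.one_le_pow _ _ (by omega)
  have e2 : q ^ 2 ≤ (q ^ 2) ^ 2 := Nat.le_self_pow two_ne_zero _
  have h2 : Unitary.nvec 3 F q 0 = (q ^ 3 + 1) * (q ^ 2 - 1) + 1 := by
    rw [Unitary.nvec_zero_formula hF, if_neg (by decide)]
  have h4 : Unitary.nvec (3 + 2) F q 0 = (q ^ 5 + 1) * (q ^ 4 - 1) + 1 := by
    rw [Unitary.nvec_zero_formula hF, if_neg (by decide)]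
  have h := CG26.card_hermPlanes hF 3 (M := q ^ 3 + 1) (by
    rw [h2, mul_add, mul_one, Nat.add_sub_cancel]
    zify [e1, e2]
    ring)
  rw [h4, Nat.add_sub_cancel, show (q ^ 2) ^ 2 = q ^ 4 by ring] at h
  have hpos : 0 < q ^ 4 - 1 := by
    have : 2 ≤ q ^ 4 := le_trans hq (Nat.le_self_pow (by norm_num) q)
    omega
  refine Nat.eq_of_mul_eq_mul_right hpos (h.trans ?_)
  ring

end Cfsg.Agent.S0830
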