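import Cfsg.Statements.S0831
import Cfsg.Agent.CG26.PlusParity

set_option autoImplicit false
open Cfsg

namespace Cfsg.Agent.S0831

/-- The two families of maximal totally singular subspaces of the hyperbolic quadric: for the form Σ x_i y_i on F^(2m), m ≥ 1, and m-dimensional subspaces U, W, X on which it vanishes, the parities of m − dim(U ∩ W), m − dim(W ∩ X) and m − dim(U ∩ X) sum to an even number (so 'even codimension of the intersection' is an equivalence relation), and there exist two such subspaces meeting in codimension 1 (so there are exactly two classes). -/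
theorem result {F : Type*} [Field F] (m : ℕ) (hm : 1 ≤ m) : (∀ U W X : Submodule F (Fin m ⊕ Fin m → F), (Module.finrank F U = m ∧ ∀ w ∈ U, Cfsg.quadFormPlus m F w = 0) → (Module.finrank F W = m ∧ ∀ w ∈ W, Cfsg.quadFormPlus m F w = 0) → (Module.finrank F X = m ∧ ∀ w ∈ X, Cfsg.quadFormPlus m F w = 0) → Even ((m - Module.finrank F ↥(U ⊓ W)) + (m - Module.finrank F ↥(W ⊓ X)) + (m - Module.finrank F ↥(U ⊓ X)))) ∧ ∃ U W : Submodule F (Fin m ⊕ Fin m → F), (Module.finrank F U = m ∧ ∀ w ∈ U, Cfsg.quadFormPlus m F w = 0) ∧ (Module.finrank F W = m ∧ ∀ w ∈ W, Cfsg.quadFormPlus m F w = 0) ∧ Module.finrank F ↥(U ⊓ W) + 1 = m := by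
  refine ⟨fun U W X hU hW hX => ?_, ?_⟩
  · have hle := Submodule.finrank_mono (inf_le_left : U ⊓ W ≤ U)
    have hle1 := Submodule.finrank_mono (inf_le_left : U ⊓ X ≤ U)
    have hle2 := Submodule.finrank_mono (inf_le_left : W ⊓ X ≤ W)
    obtain ⟨r, hr⟩ := CG26.Plus.parity hX.2 hX.1 (m - Module.finrank F ↥(U ⊓ W)) U W hU.2 hU.1 hW.2 hW.1 (by omega)
    rw [Nat.even_iff]
    omega
  · have hbot : Module.finrank F ↥(⊥ : Submodule F (Fin m ⊕ Fin m → F)) = 0 := finrank_bot F _
    obtain ⟨H, -, hH, hHd⟩ := CG26.Plus.exists_between (bot_le : ⊥ ≤ CG26.Plus.std m F) (m - 1)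
      (by rw [CG26.Plus.std_finrank]; omega)
    have hHts : CG26.Plus.IsTS H := fun u hu => CG26.Plus.std_ts u (hH hu)
    obtain ⟨U, W, hne, hU, hW, -, -⟩ := CG26.Plus.ts_over hHts (by omega)
    refine ⟨U, W, ⟨hU.1, hU.2.1⟩, ⟨hW.1, hW.2.1⟩, ?_⟩
    have h1 := Submodule.finrank_mono (le_inf hU.2.2 hW.2.2)
    have h2 : U ⊓ W < U := lt_of_le_of_ne inf_le_left fun h => hne
      (Submodule.eq_of_le_of_finrank_le (inf_eq_left.1 h) (by omega))
    have h3 := Submodule.finrank_lt_finrank_of_lt h2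
    omega

end Cfsg.Agent.S0831
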