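import Cfsg.Statements.S0833
import Cfsg.Agent.CG26.TensorForm

set_option autoImplicit false
open Cfsg

namespace Cfsg.Agent.S0833

/-- If B₁, B₂ are non-degenerate alternating forms on U (dim 2k) and W (dim 2l), then B₁ ⊗ B₂ on U ⊗ W is symmetric, non-degenerate, and vanishes identically on some subspace of dimension 2kl (half of dim U ⊗ W). -/
theorem result {F U W : Type*} [Field F] [Fintype F] [AddCommGroup U] [Module F U] [FiniteDimensional F U] [AddCommGroup W] [Module F W] [FiniteDimensional F W] (B₁ : LinearMap.BilinForm F U) (B₂ : LinearMap.BilinForm F W) (h₁ : B₁.Nondegenerate) (h₂ : B₂.Nondegenerate) (hA₁ : B₁.IsAlt) (hA₂ : B₂.IsAlt) (k l : ℕ) (hU : Module.finrank F U = 2 * k) (hW : Module.finrank F W = 2 * l) : (B₁.tmul B₂).IsSymm ∧ (B₁.tmul B₂).Nondegenerate ∧ (∃ X : Submodule F (TensorProduct F U W), Module.finrank F X = 2 * k * l ∧ ∀ x ∈ X, ∀ y ∈ X, (B₁.tmul B₂) x y = 0) := by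
  refine ⟨⟨CG26.tmul_symm_of_alt hA₁ hA₂⟩, CG26.tmul_nondegenerate h₁ h₂, ?_⟩
  obtain ⟨L, hL, hiso⟩ := CG26.exists_lagrangian h₁ hA₁ hU
  refine ⟨LinearMap.range (LinearMap.rTensor W L.subtype), ?_, ?_⟩
  · rw [LinearMap.finrank_range_of_inj (Module.Flat.rTensor_preserves_injective_linearMap _ L.injective_subtype),
      Module.finrank_tensorProduct, hL, hW]
    ring
  · rintro _ ⟨x, rfl⟩ _ ⟨y, rfl⟩
    induction x using TensorProduct.induction_on with
    | zero => simp
    | tmul a b =>
      induction y using TensorProduct.induction_on with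
      | zero => simp
      | tmul a' b' =>
        rw [LinearMap.rTensor_tmul, LinearMap.rTensor_tmul, CG26.tmul_apply, Submodule.subtype_apply,
          Submodule.subtype_apply, hiso _ a.2 _ a'.2, zero_mul]
      | add y₁ y₂ e₁ e₂ => simp only [map_add, LinearMap.add_apply, e₁, e₂, add_zero]
    | add x₁ x₂ e₁ e₂ => simp only [map_add, LinearMap.add_apply, e₁, e₂, add_zero]

end Cfsg.Agent.S0833
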