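import Cfsg.Statements.S0834
import Cfsg.Agent.CG26.TensorForm

set_option autoImplicit false
open Cfsg

namespace Cfsg.Agent.S0834

/-- Over a finite field with 2 ≠ 0: if B₁ on U (dim 2k, k ≥ 1) and B₂ on W (dim 2l, l ≥ 1) are non-degenerate symmetric forms admitting no totally isotropic subspaces of dimensions k, resp. l (minus type), then B₁ ⊗ B₂ admits a totally isotropic subspace of dimension 2kl (plus type). -/
theorem result {F U W : Type*} [Field F] [Fintype F] [AddCommGroup U] [Module F U] [FiniteDimensional F U] [AddCommGroup W] [Module F W] [FiniteDimensional F W] (h2 : (2 : F) ≠ 0) (B₁ : LinearMap.BilinForm F U) (B₂ : LinearMap.BilinForm F W) (h₁ : B₁.Nondegenerate) (h₂ : B₂.Nondegenerate) (hS₁ : B₁.IsSymm) (hS₂ : B₂.IsSymm) (k l : ℕ) (hk : 1 ≤ k) (hl : 1 ≤ l) (hU : Module.finrank F U = 2 * k) (hW : Module.finrank F W = 2 * l) (hm₁ : ¬ (∃ X : Submodule F (U), Module.finrank F X = k ∧ ∀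 x ∈ X, ∀ y ∈ X, (B₁) x y = 0)) (hm₂ : ¬ (∃ X : Submodule F (W), Module.finrank F X = l ∧ ∀ x ∈ X, ∀ y ∈ X, (B₂) x y = 0)) : (∃ X : Submodule F (TensorProduct F U W), Module.finrank F X = 2 * k * l ∧ ∀ x ∈ X, ∀ y ∈ X, (B₁.tmul B₂) x y = 0) := by
  obtain ⟨w, hw, hB₁⟩ := CG26.exists_diagRep h2 B₁ h₁ hS₁ hU
  obtain ⟨u, hu, hB₂⟩ := CG26.exists_diagRep h2 B₂ h₂ hS₂ hW
  have hprod : ∀ (m n : ℕ) (a : Fin m → F) (b : Fin n → F),
      ∏ p : Fin m × Fin n, a p.1 * b p.2 = (∏ i, a i) ^ n * (∏ j, b j) ^ m := by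
    intro m n a b
    rw [Fintype.prod_prod_type]
    simp [Finset.prod_mul_distrib, Finset.prod_pow]
  obtain ⟨X, hX, hiso⟩ := CG26.exists_iso_of_disc_four h2 (CG26.diagRep_tmul hB₁ hB₂)
    (fun p => mul_ne_zero (hw p.1) (hu p.2)) (N := k * l) (by simp; ring) (Nat.mul_pos hk hl)
    (e := (∏ i, w i) ^ l * (∏ j, u j) ^ k) (by rw [hprod]; ring)
  exact ⟨X, by rw [hX]; ring, hiso⟩

end Cfsg.Agent.S0834
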