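import Cfsg.Statements.S0835
import Cfsg.Agent.CG26.TensorForm

set_option autoImplicit false
open Cfsg

namespace Cfsg.Agent.S0835

/-- Over a finite field with 2 ≠ 0: if B₁ on U (dim 2k, k ≥ 1) is non-degenerate symmetric of minus type (no totally isotropic k-subspace) and B₂ on W (dim 2l + 1) is non-degenerate symmetric, then B₁ ⊗ B₂ (dimension 2k(2l+1)) admits no totally isotropic subspace of dimension k(2l+1) (minus type). -/
theorem result {F U W : Type*} [Field F] [Fintype F] [AddCommGroup U] [Module F U] [FiniteDimensional F U] [AddCommGroup W] [Module F W] [FiniteDimensional F W] (h2 : (2 : F) ≠ 0) (B₁ : LinearMap.BilinForm F U) (B₂ : LinearMap.BilinForm F W) (h₁ : B₁.Nondegenerate) (h₂ : B₂.Nondegenerate) (hS₁ : B₁.IsSymm) (hS₂ : B₂.IsSymm) (k l : ℕ) (hk : 1 ≤ k) (hU : Module.finrank F U = 2 * k) (hW : Module.finrank F W = 2 * l + 1) (hm₁ : ¬ (∃ X : Submodule F (U), Module.finrank F X = k ∧ ∀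 x ∈ X, ∀ y ∈ X, (B₁) x y = 0)) : ¬ (∃ X : Submodule F (TensorProduct F U W), Module.finrank F X = k * (2 * l + 1) ∧ ∀ x ∈ X, ∀ y ∈ X, (B₁.tmul B₂) x y = 0) := by
  obtain ⟨w, hw, hB₁⟩ := CG26.exists_diagRep h2 B₁ h₁ hS₁ hU
  obtain ⟨u, hu, hB₂⟩ := CG26.exists_diagRep h2 B₂ h₂ hS₂ hW
  have hprod : ∀ (m n : ℕ) (a : Fin m → F) (b : Fin n → F),
      ∏ p : Fin m × Fin n, a p.1 * b p.2 = (∏ i, a i) ^ n * (∏ j, b j) ^ m := by
    intro m n a b
    rw [Fintype.prod_prod_type]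
    simp [Finset.prod_mul_distrib, Finset.prod_pow]
  rintro ⟨X, hX, hiso⟩
  have hsym : ∀ x y, (B₁.tmul B₂) x y = (B₁.tmul B₂) y x := fun x y => (LinearMap.IsSymm.tmul (LinearMap.BilinForm.isSymm_iff.1 hS₁) (LinearMap.BilinForm.isSymm_iff.1 hS₂)).eq x y
  obtain ⟨e, he⟩ := CG26.disc_of_iso (CG26.diagRep_tmul hB₁ hB₂) hsym (M := k * (2 * l + 1))
    (by rw [Module.finrank_tensorProduct, hU, hW]; ring) hX hiso
  rw [hprod] at he
  have hP : (∏ i, w i) ≠ 0 := Finset.prod_ne_zero_iff.2 fun i _ => hw i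
  have hR : (∏ j, u j) ≠ 0 := Finset.prod_ne_zero_iff.2 fun i _ => hu i
  have hpow : ((-1 : F)) ^ (k * (2 * l + 1)) = (-1) ^ k := by
    rw [mul_comm k, pow_mul, Odd.neg_one_pow ⟨l, rfl⟩]
  rw [hpow] at he
  refine hm₁ (CG26.exists_iso_of_disc h2 hB₁ hw (M := k) (by simp; ring) hk
    (e := e / ((∏ i, w i) ^ l * (∏ j, u j) ^ k)) ?_)
  field_simp
  linear_combination he

end Cfsg.Agent.S0835
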