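import Cfsg.Statements.S0836
-- import your own Cfsg.Agent.* helpers here

set_option autoImplicit false
open Cfsg

namespace Cfsg.Agent.S0836

/-- For i ≠ j and any scalar c, the elementary transvection 1 + c E_ij is a commutator ⁅g, h⁆ of two elements of SL_n(F) provided n ≥ 3, or n = 2 and F contains x ≠ 0 with x² ≠ 1. -/
theorem result {F : Type*} [Field F] (n : ℕ) (hn : 3 ≤ n ∨ (n = 2 ∧ ∃ x : F, x ≠ 0 ∧ x ^ 2 ≠ 1)) (i j : Fin n) (hij : i ≠ j) (c : F) (t : Matrix.SpecialLinearGroup (Fin n) F) (ht : (t : Matrix (Fin n) (Fin n) F) = Matrix.transvection i j c) : t ∈ commutatorSet (Matrix.SpecialLinearGroup (Fin n) F) := by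
  classical
  have hmk : ∀ (a b : Fin n) (h : a ≠ b) (x : F),
      Matrix.det (Matrix.transvection a b x) = 1 := fun a b h x => Matrix.det_transvection_of_ne a b h x
  let T : ∀ (a b : Fin n), a ≠ b → F → Matrix.SpecialLinearGroup (Fin n) F :=
    fun a b h x => ⟨Matrix.transvection a b x, hmk a b h x⟩
  rcases hn with h3 | ⟨rfl, x, hx0, hx2⟩
  · obtain ⟨k, hki, hkj⟩ : ∃ k : Fin n, k ≠ i ∧ k ≠ j := by
      by_contra h
      push Not at h
      have : (Finset.univ : Finset (Fin n)) ⊆ {i, j} := fun k _ => by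
        by_cases hk : k = i
        · simp [hk]
        · simp [h k hk]
      have := (Finset.card_le_card this).trans Finset.card_le_two
      simp at this
      omega
    refine ⟨T i k hki.symm c, T k j hkj 1, ?_⟩
    rw [commutatorElement_def, mul_inv_eq_iff_eq_mul, mul_inv_eq_iff_eq_mul]
    apply Subtype.ext
    show Matrix.transvection i k c * Matrix.transvection k j 1 =
      (t : Matrix (Fin n) (Fin n) F) * Matrix.transvection k j 1 * Matrix.transvection i k c
    rw [ht]
    unfold Matrix.transvection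
    simp [mul_add, add_mul, Matrix.single_mul_single_of_ne, hij.symm, hki, hkj.symm]
    abel
  · have hx1 : x ^ 2 - 1 ≠ 0 := sub_ne_zero.2 hx2
    let dd : Fin 2 → F := fun a => if a = i then x else x⁻¹
    have hd : (Matrix.diagonal dd).det = 1 := by
      rw [Matrix.det_diagonal, Fin.prod_univ_two]
      fin_cases i <;> simp [dd, hx0]
    let D : Matrix.SpecialLinearGroup (Fin 2) F := ⟨Matrix.diagonal dd, hd⟩
    refine ⟨D, T i j hij (c / (x ^ 2 - 1)), ?_⟩
    rw [commutatorElement_def, mul_inv_eq_iff_eq_mul, mul_inv_eq_iff_eq_mul]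
    apply Subtype.ext
    show Matrix.diagonal dd * Matrix.transvection i j (c / (x ^ 2 - 1)) =
      (t : Matrix (Fin 2) (Fin 2) F) * Matrix.transvection i j (c / (x ^ 2 - 1)) * Matrix.diagonal dd
    rw [ht]
    ext a b
    fin_cases i <;> fin_cases j <;> simp at hij <;> fin_cases a <;> fin_cases b <;>
      simp [Matrix.transvection, dd, Matrix.mul_apply, Fin.sum_univ_two, Matrix.single, Matrix.one_apply] <;> field_simp <;> ring

end Cfsg.Agent.S0836
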