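import Cfsg.Statements.S0841
import Mathlib.Tactic

set_option autoImplicit false
open Cfsg

namespace Cfsg.Agent.S0841

/-- If the commutator subgroup of G lies in the centre, then for all x, y in G and every natural number n one has (x * y) ^ n = x ^ n * y ^ n * c ^ (n * (n - 1) / 2) with c = y⁻¹ * x⁻¹ * y * x. -/
theorem result {G : Type*} [Group G] (hG : commutator G ≤ Subgroup.center G) (x y : G) (n : ℕ) : (x * y) ^ n = x ^ n * y ^ n * (y⁻¹ * x⁻¹ * y * x) ^ (n * (n - 1) / 2) := by
  set c := y⁻¹ * x⁻¹ * y * x with hc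
  have hcm : c ∈ Subgroup.center G := by
    apply hG
    have h := Subgroup.commutator_mem_commutator (G := G) (H₁ := ⊤) (H₂ := ⊤)
      (Subgroup.mem_top y⁻¹) (Subgroup.mem_top x⁻¹)
    rw [commutatorElement_def, inv_inv, inv_inv] at h
    exact h
  have hcz : ∀ (g : G) (k : ℕ), g * c ^ k = c ^ k * g := fun g k =>
    Subgroup.mem_center_iff.mp (Subgroup.pow_mem _ hcm k) g
  have hyx : y * x = x * y * c := by rw [hc]; group
  have hynx : ∀ k : ℕ, y ^ k * x = x * y ^ k * c ^ k := by
    intro k
    induction k with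
    | zero => simp
    | succ k ih =>
      calc y ^ (k+1) * x = y * (y ^ k * x) := by rw [pow_succ' y k, mul_assoc]
        _ = (y * x) * y ^ k * c ^ k := by rw [ih]; group
        _ = x * y * (c * y ^ k) * c ^ k := by rw [hyx]; group
        _ = x * y * (y ^ k * c) * c ^ k := by
              have := hcz (y ^ k) 1; rw [pow_one] at this; rw [this]
        _ = x * y ^ (k+1) * c ^ (k+1) := by rw [pow_succ' y k, pow_succ' c k]; group
  induction n with
  | zero => simp
  | succ n ih =>
    have hT : (n + 1) * (n + 1 - 1) / 2 = n + n * (n - 1) / 2 := by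
      rcases n with _ | m
      · rfl
      · simp only [Nat.add_sub_cancel]
        rw [show (m + 1 + 1) * (m + 1) = (m + 1) * m + (m + 1) * 2 by ring,
          Nat.add_mul_div_right _ _ (by norm_num)]
        omega
    rw [hT]
    generalize n * (n - 1) / 2 = T at ih ⊢
    calc (x * y) ^ (n+1) = (x ^ n * y ^ n * c ^ T) * (x * y) := by rw [pow_succ, ih]
      _ = x ^ n * y ^ n * (x * y) * c ^ T := by rw [mul_assoc, ← hcz, ← mul_assoc]
      _ = x ^ n * (y ^ n * x) * y * c ^ T := by group
      _ = x ^ n * (x * y ^ n * (c ^ n * y)) * c ^ T := by rw [hynx]; group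
      _ = x ^ n * (x * y ^ n * (y * c ^ n)) * c ^ T := by rw [← hcz y n]
      _ = x ^ (n+1) * y ^ (n+1) * c ^ (n + T) := by
            rw [pow_succ x n, pow_succ y n, pow_add]; group

end Cfsg.Agent.S0841
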