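import Cfsg.Statements.S0845
import Cfsg.Agent.CharDeep.BrauerSuzuki

set_option autoImplicit false
open Cfsg

namespace Cfsg.Agent.S0845

/-- Suppose a Sylow 2-subgroup S of the finite group G is generalized quaternion of order at least 16. Then G has a normal subgroup M of even order such that G / M is non-abelian, that is, M does not contain the commutator subgroup of G. -/
theorem result {G : Type*} [Group G] [Finite G] (S : Sylow 2 G) (n : ℕ) (e : (S : Subgroup G) ≃* QuaternionGroup (2 ^ (n + 2))) : ∃ M : Subgroup G, M.Normal ∧ Even (Nat.card M) ∧ ¬ commutator G ≤ M := by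
  have := Fintype.ofFinite G
  obtain ⟨z, χ₁, χ₂, hz, -, -, -, hdeg, -, -, hzk, -⟩ := CharDeep.exists_exceptional S n e
  refine ⟨CharDeep.transKer (χ₂ : G → ℂ), CharDeep.transKer_normal (CharCore.irr_isClassFunction χ₂),
    even_iff_two_dvd.mpr (hz ▸ Subgroup.orderOf_dvd_natCard _ hzk), fun h => ?_⟩
  have h1 := CharDeep.irr_apply_one_eq_one χ₂.2 h
  obtain ⟨d, hd0, hd⟩ := CharCore.IsIrrCharacter.exists_degree χ₁.2
  rw [h1, hd] at hdeg
  have : (d : ℂ) = ((0 : ℕ) : ℂ) := by push_cast; linear_combination -hdeg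
  exact hd0.ne' (Nat.cast_injective this)

end Cfsg.Agent.S0845
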