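import Cfsg.Statements.S0849
import Cfsg.Agent.CharDeep.IndBasic

set_option autoImplicit false
open Cfsg

namespace Cfsg.Agent.S0849

/-- Let H be a subgroup of a finite group G and S a subset of H that is mapped to itself under conjugation by H, is disjoint from its conjugate by any element outside H, and is closed under inverses. Let φ be a class function of H vanishing on H away from S, and let u, v be involutions of G. Then the sum of the induced function of φ over all products a * b with a conjugate to u and b conjugate to v equals the index of H times the sum of φ (a * b) over such pairs with a and b in H. -/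
theorem result {G : Type*} [Group G] [Fintype G] (H : Subgroup G) (S : Set G) (hSH : S ⊆ H) (hHS : ∀ h ∈ H, ∀ s ∈ S, h * s * h⁻¹ ∈ S) (hTI : ∀ g : G, g ∉ H → ∀ s ∈ S, g * s * g⁻¹ ∉ S) (hinv : ∀ s ∈ S, s⁻¹ ∈ S) (φ : H → ℂ) (hφ : Cfsg.IsClassFunction H φ) (hφS : ∀ x : H, (x : G) ∉ S → φ x = 0) (u v : G) (hu : orderOf u = 2) (hv : orderOf v = 2) : ∑ᶠ p ∈ {p : G × G | IsConj u p.1 ∧ IsConj v p.2}, Cfsg.indFun H φ (p.1 * p.2) = (H.index : ℂ) * ∑ᶠ p ∈ {p : H × H | IsConj u (p.1 : G) ∧ IsConj v (p.2 : G)}, φ (p.1 * p.2) := by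
  classical
  set T : Set (G × G) := {p | IsConj u p.1 ∧ IsConj v p.2}
  have hTc : ∀ (g : G) (p : G × G), p ∈ T → (g * p.1 * g⁻¹, g * p.2 * g⁻¹) ∈ T :=
    fun g p hp => ⟨hp.1.trans (isConj_iff.mpr ⟨g, rfl⟩), hp.2.trans (isConj_iff.mpr ⟨g, rfl⟩)⟩
  have hfin : ∀ f : G × G → ℂ, ∑ᶠ p ∈ T, f p = ∑ p ∈ T.toFinset, f p :=
    fun f => finsum_mem_eq_toFinset_sum f T
  have hA : ∑ᶠ p ∈ T, Cfsg.indFun H φ (p.1 * p.2) =
      (H.index : ℂ) * ∑ p ∈ T.toFinset, Cfsg.extendByZero H φ (p.1 * p.2) := by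
    rw [hfin]
    unfold Cfsg.indFun
    rw [← Finset.mul_sum, Finset.sum_comm, CharDeep.index_eq_div, mul_assoc]
    congr 1
    have hcard : (Nat.card G : ℂ) = ∑ _x : G, (1 : ℂ) := by simp
    rw [hcard, Finset.sum_mul]
    refine Finset.sum_congr rfl fun x _ => ?_
    rw [one_mul]
    refine Finset.sum_nbij' (fun p => (x⁻¹ * p.1 * x, x⁻¹ * p.2 * x))
      (fun p => (x * p.1 * x⁻¹, x * p.2 * x⁻¹)) ?_ ?_ ?_ ?_ ?_
    · intro p hp
      have := hTc x⁻¹ p (Set.mem_toFinset.mp hp)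
      simpa [inv_inv] using this
    · intro p hp
      simpa using hTc x p (Set.mem_toFinset.mp hp)
    · intro p _; simp [mul_assoc]
    · intro p _; simp [mul_assoc]
    · intro p _; congr 1; group
  rw [hA]
  congr 1
  have hsq : ∀ w : G, orderOf w = 2 → ∀ a : G, IsConj w a → a⁻¹ = a := by
    intro w hw a ha
    obtain ⟨c, rfl⟩ := isConj_iff.mp ha
    have : w⁻¹ = w := inv_eq_of_mul_eq_one_left (by rw [← sq, ← hw, pow_orderOf_eq_one])
    rw [mul_inv_rev, mul_inv_rev, inv_inv, this, mul_assoc]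
  rw [finsum_mem_eq_toFinset_sum]
  symm
  refine Finset.sum_of_injOn (fun q : H × H => ((q.1 : G), (q.2 : G))) ?_ ?_ ?_ ?_
  · intro q _ r _ h
    simp only [Prod.mk.injEq, Subtype.coe_inj] at h
    exact Prod.ext h.1 h.2
  · intro q hq
    simpa [T] using hq
  · intro p hp hnot
    by_contra hne
    obtain ⟨hpu, hpv⟩ := Set.mem_toFinset.mp hp
    by_cases hm : p.1 * p.2 ∈ H
    · rw [CharDeep.extend_mem _ _ hm] at hne
      have hS : p.1 * p.2 ∈ S := by
        by_contra h
        exact hne (hφS _ h)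
      have ha : p.1 ∈ H := by
        by_contra h
        apply hTI _ h _ hS
        have h1 := hinv _ hS
        rw [mul_inv_rev, hsq v hv _ hpv, hsq u hu _ hpu] at h1
        rwa [← mul_assoc, hsq u hu _ hpu, show p.1 * p.1 = 1 by
          conv_lhs => arg 1; rw [← hsq u hu _ hpu]
          exact inv_mul_cancel _, one_mul]
      have hb : p.2 ∈ H := (H.mul_mem_cancel_left ha).mp hm
      exact hnot ⟨(⟨p.1, ha⟩, ⟨p.2, hb⟩), Finset.mem_coe.mpr (Set.mem_toFinset.mpr ⟨hpu, hpv⟩), rfl⟩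
    · exact hne (CharDeep.extend_not_mem _ _ hm)
  · intro q _
    exact (CharDeep.extend_mem H φ (q.1 * q.2).2).symm

end Cfsg.Agent.S0849
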