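import Cfsg.Statements.S0851
import Cfsg.Agent.CharDeep.TIFrob.Setup
import Cfsg.Agent.S0170
-- import your own Cfsg.Agent.* helpers here

set_option autoImplicit false
open Cfsg

namespace Cfsg.Agent.S0851

/-- Let K be a subgroup of the finite group G that meets each conjugate by an element outside its normalizer N trivially, is properly contained in N, and contains the centralizer of each of its non-identity elements (a T.I. subgroup with Frobenius normalizer). Suppose K is abelian, let e be the index of K in N, and call an irreducible character of N relevant when it takes at some element of K a value different from its degree. Then either there is exactly one relevant character and K is an elementary abelian p-group of order e + 1 for some prime p, or there are a sign ε and an injective map f from the relevant characters to the irreducible characters of G such that inducing χ - ξ to G gives ε (f χ - f ξ) for all relevant χ and ξ. -/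
theorem result {G : Type*} [Group G] [Fintype G] (K : Subgroup G) (hTI : ∀ g : G, g ∉ Subgroup.normalizer (K : Set G) → ∀ k ∈ K, g * k * g⁻¹ ∈ K → k = 1) (hlt : K < Subgroup.normalizer (K : Set G)) (hC : ∀ k ∈ K, k ≠ 1 → Subgroup.centralizer ({k} : Set G) ≤ K) (hab : ∀ a ∈ K, ∀ b ∈ K, a * b = b * a) : (Nat.card {χ : Cfsg.IrrCharacter (Subgroup.normalizer (K : Set G)) // ∃ k : Subgroup.normalizer (K : Set G), (k : G) ∈ K ∧ (χ : ↥(Subgroup.normalizer (K : Set G)) → ℂ) k ≠ (χ : ↥(Subgroup.normalizer (K : Set G)) → ℂ) 1} = 1 ∧ ∃ p : ℕ, p.Prime ∧ Cfsg.IsElementaryAbelian p K ∧ Nat.card K = (K.subgroupOf (Subgroup.normalizer (K : Set G))).index + 1) ∨ ∃ (ε : ℂ) (f : {χ : Cfsg.IrrCharacter (Subgroup.normalizer (K : Set G)) // ∃ k : Subgroup.normalizer (K : Set G), (k : G) ∈ K ∧ (χ : ↥(Subgroup.normalizer (K : Set G)) → ℂ) k ≠ (χ : ↥(Subgroup.normalizer (K : Set G)) → ℂ) 1} → Cfsg.IrrCharacter G), (ε = 1 ∨ ε = -1) ∧ Function.Injective f ∧ ∀ χ ξ, Cfsg.indFun (Subgroup.normalizer (K : Set G)) ((χ.1 : ↥(Subgroup.normalizer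 (K : Set G)) → ℂ) - (ξ.1 : ↥(Subgroup.normalizer (K : Set G)) → ℂ)) = ε • ((f χ : G → ℂ) - (f ξ : G → ℂ)) := by
  classical
  have hn : (K.subgroupOf (Subgroup.normalizer (K : Set G))).Normal :=
    CharDeep.TIFrob.kernel_normal K
  have := Fintype.ofFinite (Subgroup.normalizer (K : Set G))
  have := Fintype.ofFinite (K.subgroupOf (Subgroup.normalizer (K : Set G)))
  have hk := CharDeep.TIFrob.kernelish K hC
  refine Or.inr ?_
  let X := {χ : Cfsg.IrrCharacter (Subgroup.normalizer (K : Set G)) //
    ∃ k : Subgroup.normalizer (K : Set G), (k : G) ∈ K ∧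
      (χ : ↥(Subgroup.normalizer (K : Set G)) → ℂ) k ≠
        (χ : ↥(Subgroup.normalizer (K : Set G)) → ℂ) 1}
  have hmem : ∀ χ : X, (χ.1 : ↥(Subgroup.normalizer (K : Set G)) → ℂ) ∈
      CharClifford.FrobTI.inducedSet (K.subgroupOf (Subgroup.normalizer (K : Set G))) := by
    intro χ
    obtain ⟨k, hk', hne⟩ := χ.2
    exact (CharDeep.TIFrob.mem_inducedSet_iff _ hk).mpr
      ⟨χ.1.2, ⟨k, Subgroup.mem_subgroupOf.mpr hk'⟩, hne⟩
  rcases Nat.lt_or_ge (Nat.card X) 2 with hle | htwo
  · have hsub : Subsingleton X :=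
      Finite.card_le_one_iff_subsingleton.mp (Nat.lt_succ_iff.mp hle)
    refine ⟨1, fun _ => ⟨1, CharCore.isIrrCharacter_one⟩, Or.inl rfl,
      fun a b _ => hsub.elim a b, fun χ ξ => ?_⟩
    rw [hsub.elim χ ξ, sub_self, sub_self, smul_zero, CharInd.indFun_zero]
  · let e : X ≃ Fin (Nat.card X) := Finite.equivFin X
    have habK : ∀ a b : K.subgroupOf (Subgroup.normalizer (K : Set G)), a * b = b * a :=
      fun a b => Subtype.ext (Subtype.ext
        (hab _ (Subgroup.mem_subgroupOf.mp a.2) _ (Subgroup.mem_subgroupOf.mp b.2)))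
    have hdeg : ∀ χ : X, (χ.1 : ↥(Subgroup.normalizer (K : Set G)) → ℂ) 1 =
        ((K.subgroupOf (Subgroup.normalizer (K : Set G))).index : ℂ) := by
      intro χ
      obtain ⟨n, -, -, hn', hone⟩ := CharDeep.TIFrob.exists_nat_degree _ (hmem χ)
      rw [hn', hone habK, Nat.cast_one, mul_one]
    obtain ⟨ε, hε, θ, hθ, hinj, hind⟩ := Cfsg.Agent.S0170.result (K : Set G)
      (fun x hx => Subgroup.le_normalizer hx) hTI (Nat.card X) htwo
      (fun i => ((e.symm i).1 : ↥(Subgroup.normalizer (K : Set G)) → ℂ))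
      (fun i => (e.symm i).1.2)
      (fun i j hij => e.symm.injective (Subtype.ext (Subtype.ext hij)))
      (fun i x hx => CharDeep.TIFrob.apply_eq_zero _ (hmem (e.symm i))
        fun h => hx (Subgroup.mem_subgroupOf.mp h))
      (fun i j => (hdeg (e.symm i)).trans (hdeg (e.symm j)).symm)
    refine ⟨ε, fun χ => ⟨θ (e χ), hθ _⟩, hε,
      fun a b hab' => e.injective (hinj (congrArg Subtype.val hab')), fun χ ξ => ?_⟩
    have h := hind (e χ) (e ξ)
    simp only [Equiv.symm_apply_apply] at h
    rw [CharInd.indFun_sub]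
    exact h

end Cfsg.Agent.S0851
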