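import Cfsg.Statements.S0852
import Cfsg.Agent.CharDeep.TIFrob.Setup
-- import your own Cfsg.Agent.* helpers here

set_option autoImplicit false
open Cfsg

namespace Cfsg.Agent.S0852

/-- Let K be a subgroup of the finite group G that meets each conjugate by an element outside its normalizer N trivially, is properly contained in N, and contains the centralizer of each of its non-identity elements (a T.I. subgroup with Frobenius normalizer). Let S be the set of irreducible characters of N taking at some element of K a value different from their degree, suppose S has at least two members, and let star be a linear isometry on the integer span of S into the generalized characters of G that agrees with induction on the members vanishing at the identity (so S is coherent, with star as the extending isometry). Then an irreducible character ψ of G is of the form star χ or -star χ for some χ in S if and only if ψ is not constant on the non-identity elements of K. -/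
theorem result {G : Type*} [Group G] [Fintype G] (K : Subgroup G) (hTI : ∀ g : G, g ∉ Subgroup.normalizer (K : Set G) → ∀ k ∈ K, g * k * g⁻¹ ∈ K → k = 1) (hlt : K < Subgroup.normalizer (K : Set G)) (hC : ∀ k ∈ K, k ≠ 1 → Subgroup.centralizer ({k} : Set G) ≤ K) [Fintype ↥(Subgroup.normalizer (K : Set G))] (S : Set (↥(Subgroup.normalizer (K : Set G)) → ℂ)) (hS : S = {χ : ↥(Subgroup.normalizer (K : Set G)) → ℂ | Cfsg.IsIrrCharacter ↥(Subgroup.normalizer (K : Set G)) χ ∧ ∃ k : ↥(Subgroup.normalizer (K : Set G)), (k : G) ∈ K ∧ χ k ≠ χ 1}) (htwo : ∃ χ ∈ S, ∃ ξ ∈ S, χ ≠ ξ) (star : (↥(Subgroup.normalizer (K : Set G)) → ℂ) → (G → ℂ)) (hstar : Cfsg.IsLinearIsometryOn (Cfsg.zspan S) star) (hext : ∀ α ∈ Cfsg.zspanOn S ({1}ᶜ : Set ↥(Subgroup.normalizer (K : Set G))), star α = Cfsg.indFun (Subgroup.normalizer (K : Set G)) α) (ψ : G → ℂ) (hψ : Cfsg.IsIrrCharacter G ψ) : (∃ χ ∈ S, ψ = star χ ∨ ψ = -star χ) ↔ ∃ a ∈ K, ∃ b ∈ K, a ≠ 1 ∧ b ≠ 1 ∧ ψ a ≠ ψ b := by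
  classical
  have hn : (K.subgroupOf (Subgroup.normalizer (K : Set G))).Normal :=
    CharDeep.TIFrob.kernel_normal K
  have := Fintype.ofFinite (K.subgroupOf (Subgroup.normalizer (K : Set G)))
  rw [CharDeep.TIFrob.coe_set_eq K hC] at hS
  subst hS
  have hk := CharDeep.TIFrob.kernelish K hC
  obtain ⟨χ₀, hχ₀, ξ₀, hξ₀, hne₀⟩ := htwo
  rw [Finset.mem_coe] at hχ₀ hξ₀
  have hK : K ≠ ⊥ := by
    rintro rfl
    obtain ⟨k, hk'⟩ := ((CharDeep.TIFrob.mem_inducedSet_iff _ hk).mp hχ₀).2
    exact hk' (congrArg χ₀ (Subtype.ext (Subgroup.mem_bot.mp (Subgroup.mem_subgroupOf.mp k.2))))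
  constructor
  · rintro ⟨χ, hχ, hψχ⟩
    rw [Finset.mem_coe] at hχ
    obtain ⟨ξ, hξ, hne⟩ : ∃ ξ ∈ CharClifford.FrobTI.inducedSet
        (K.subgroupOf (Subgroup.normalizer (K : Set G))), χ ≠ ξ := by
      by_cases h : χ = χ₀
      · exact ⟨ξ₀, hξ₀, h ▸ hne₀⟩
      · exact ⟨χ₀, hχ₀, h⟩
    obtain ⟨a, b, ha, hb, hab⟩ := CharDeep.TIFrob.exists_apply_ne _ hk hχ hξ hne
    obtain ⟨w, hw⟩ := CharDeep.TIFrob.exists_shift K hC star hstar hext hK hχ
    refine ⟨_, Subgroup.mem_subgroupOf.mp a.2, _, Subgroup.mem_subgroupOf.mp b.2,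
      fun h => ha (Subtype.ext (Subtype.ext h)), fun h => hb (Subtype.ext (Subtype.ext h)), ?_⟩
    rcases hψχ with rfl | rfl
    · intro h
      rw [hw a ha, hw b hb] at h
      exact hab (add_left_cancel h)
    · intro h
      simp only [Pi.neg_apply, neg_inj] at h
      rw [hw a ha, hw b hb] at h
      exact hab (add_left_cancel h)
  · rintro ⟨a, ha, b, hb, ha1, hb1, hab⟩
    by_contra hnot
    apply hab
    have hzero : ∀ ζ ∈ CharClifford.FrobTI.inducedSet
        (K.subgroupOf (Subgroup.normalizer (K : Set G))), Cfsg.classInner ψ (star ζ) = 0 := by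
      intro ζ hζ
      have hgen := hstar.2.2.2 ζ (Coherence.zspan_subset (Finset.mem_coe.mpr hζ))
      have hone : Cfsg.classInner (star ζ) (star ζ) = 1 := by
        rw [CharDeep.TIFrob.star_inner K hC star hstar hζ hζ, if_pos rfl]
      rcases Coherence.gen_norm_one hgen hone with h | h
      · exact Coherence.irr_inner_ne hψ h fun e => hnot ⟨ζ, hζ, Or.inl e⟩
      · have h0 := Coherence.irr_inner_ne hψ h fun e => hnot ⟨ζ, hζ, Or.inr e⟩
        rwa [CharCore.classInner_neg_right, neg_eq_zero] at h0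
    obtain ⟨w, hw⟩ := CharDeep.TIFrob.exists_formula K hC star hstar hext
      (Coherence.irr_gen hψ) hK
    have hval : ∀ c ∈ K, c ≠ 1 → ψ c = w := by
      intro c hc hc1
      have h := hw ⟨⟨c, Subgroup.le_normalizer hc⟩, Subgroup.mem_subgroupOf.mpr hc⟩
        (fun e => hc1 (congrArg (fun z => ((z.1 : Subgroup.normalizer (K : Set G)) : G)) e))
      rw [Finset.sum_eq_zero fun ζ hζ => by rw [hzero ζ hζ, zero_mul], add_zero] at h
      exact h
    rw [hval a ha ha1, hval b hb hb1]

end Cfsg.Agent.S0852
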