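import Cfsg.Statements.S0853
import Cfsg.Agent.CharDeep.TIFrob.Setup
-- import your own Cfsg.Agent.* helpers here

set_option autoImplicit false
open Cfsg

namespace Cfsg.Agent.S0853

/-- Let K be a subgroup of the finite group G that meets each conjugate by an element outside its normalizer N trivially, is properly contained in N, and contains the centralizer of each of its non-identity elements (a T.I. subgroup with Frobenius normalizer). Let S be the set of irreducible characters of N taking at some element of K a value different from their degree, suppose S has at least two members, and let star be a linear isometry on the integer span of S into the generalized characters of G that agrees with induction on the members vanishing at the identity (so S is coherent, with star as the extending isometry). Then there is a single integer m such that star χ k - χ k = m * χ 1 / e for every χ in S and every non-identity element k of K, where e is the index of K in N. -/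
theorem result {G : Type*} [Group G] [Fintype G] (K : Subgroup G) (hTI : ∀ g : G, g ∉ Subgroup.normalizer (K : Set G) → ∀ k ∈ K, g * k * g⁻¹ ∈ K → k = 1) (hlt : K < Subgroup.normalizer (K : Set G)) (hC : ∀ k ∈ K, k ≠ 1 → Subgroup.centralizer ({k} : Set G) ≤ K) [Fintype ↥(Subgroup.normalizer (K : Set G))] (S : Set (↥(Subgroup.normalizer (K : Set G)) → ℂ)) (hS : S = {χ : ↥(Subgroup.normalizer (K : Set G)) → ℂ | Cfsg.IsIrrCharacter ↥(Subgroup.normalizer (K : Set G)) χ ∧ ∃ k : ↥(Subgroup.normalizer (K : Set G)), (k : G) ∈ K ∧ χ k ≠ χ 1}) (htwo : ∃ χ ∈ S, ∃ ξ ∈ S, χ ≠ ξ) (star : (↥(Subgroup.normalizer (K : Set G)) → ℂ) → (G → ℂ)) (hstar : Cfsg.IsLinearIsometryOn (Cfsg.zspan S) star) (hext : ∀ α ∈ Cfsg.zspanOn S ({1}ᶜ : Set ↥(Subgroup.normalizer (K : Set G))), star α = Cfsg.indFun (Subgroup.normalizer (K : Set G)) α) : ∃ m : ℤ, ∀ χ ∈ S, ∀ k : ↥(Subgroup.normalizer (K : Set G)), (k : G) ∈ K → k ≠ 1 → star χ k - χ k = (m : ℂ) * χ 1 / ((K.subgroupOf (Subgroup.normalizer (K : Set G))).index : ℂ)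 := by
  classical
  have hn : (K.subgroupOf (Subgroup.normalizer (K : Set G))).Normal :=
    CharDeep.TIFrob.kernel_normal K
  have := Fintype.ofFinite (K.subgroupOf (Subgroup.normalizer (K : Set G)))
  rw [CharDeep.TIFrob.coe_set_eq K hC] at hS
  subst hS
  have hk := CharDeep.TIFrob.kernelish K hC
  obtain ⟨χ₀, hχ₀, -⟩ := htwo
  rw [Finset.mem_coe] at hχ₀
  obtain ⟨k₀, hk₀⟩ := ((CharDeep.TIFrob.mem_inducedSet_iff _ hk).mp hχ₀).2
  have hK : K ≠ ⊥ := by
    rintro rfl
    exact hk₀ (congrArg χ₀ (Subtype.ext (Subgroup.mem_bot.mp (Subgroup.mem_subgroupOf.mp k₀.2))))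
  have hk₀1 : k₀ ≠ 1 := fun e => hk₀ (by simp [e])
  have hK' : K.subgroupOf (Subgroup.normalizer (K : Set G)) ≠ ⊥ := fun h => hk₀1 (by
    have := k₀.2
    simp only [h, Subgroup.mem_bot] at this
    exact Subtype.ext this)
  have hshift := fun χ (hχ : χ ∈ CharClifford.FrobTI.inducedSet
      (K.subgroupOf (Subgroup.normalizer (K : Set G)))) =>
    CharDeep.TIFrob.exists_shift K hC star hstar hext hK hχ
  choose! w hw using hshift
  obtain ⟨n₀, hn₀, -, hdeg₀, -⟩ := CharDeep.TIFrob.exists_nat_degree _ hχ₀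
  have hn₀' : (n₀ : ℂ) ≠ 0 := Nat.cast_ne_zero.mpr hn₀.ne'
  have hrel : ∀ χ ∈ CharClifford.FrobTI.inducedSet
      (K.subgroupOf (Subgroup.normalizer (K : Set G))), ∀ n : ℕ,
      χ 1 = (K.subgroupOf (Subgroup.normalizer (K : Set G))).index * n →
      (n₀ : ℂ) * w χ = (n : ℂ) * w χ₀ := by
    intro χ hχ n hdeg
    have h := CharDeep.TIFrob.star_apply K hTI hlt hC star hstar hext hχ hχ₀ hdeg hdeg₀ k₀
    rw [hw χ hχ k₀ hk₀1, hw χ₀ hχ₀ k₀ hk₀1, add_sub_cancel_right, add_sub_cancel_right] at h
    exact h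
  obtain ⟨m, hm⟩ := CharDeep.TIFrob.exists_int_of_forall_mul _ hk hK' (z := (w χ₀ : ℂ) / n₀)
    (fun χ hχ n hdeg => ⟨w χ, by
      field_simp
      linear_combination -(hrel χ hχ n hdeg)⟩)
  refine ⟨m, fun χ hχ k hkK hk1 => ?_⟩
  rw [Finset.mem_coe] at hχ
  obtain ⟨n, -, -, hdeg, -⟩ := CharDeep.TIFrob.exists_nat_degree _ hχ
  have h := hw χ hχ ⟨k, Subgroup.mem_subgroupOf.mpr hkK⟩ (fun e => hk1 (congrArg Subtype.val e))
  have hidx : ((K.subgroupOf (Subgroup.normalizer (K : Set G))).index : ℂ) ≠ 0 :=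
    Nat.cast_ne_zero.mpr Subgroup.index_ne_zero_of_finite
  rw [h, add_sub_cancel_right, hdeg, ← hm]
  field_simp
  linear_combination hrel χ hχ n hdeg

end Cfsg.Agent.S0853
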