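import Cfsg.Statements.S0859
import Cfsg.Agent.CharDeep.Ext.RelativeM

set_option autoImplicit false
open Cfsg

namespace Cfsg.Agent.S0859

/-- Let G be a finite solvable group and N a normal subgroup such that for every prime p every Sylow p-subgroup of N is abelian. Suppose every irreducible character of G is induced from an irreducible character of some subgroup containing N whose restriction to N is irreducible. Then every irreducible character of G is induced from a character of degree 1 of some subgroup. -/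
theorem result {G : Type*} [Group G] [Fintype G] [Group.IsSolvable G] (N : Subgroup G) [N.Normal] (hab : ∀ (p : ℕ) [Fact p.Prime] (P : Sylow p N), ∀ a ∈ P, ∀ b ∈ P, a * b = b * a) (hrel : ∀ χ : G → ℂ, Cfsg.IsIrrCharacter G χ → ∃ (H : Subgroup G) (hNH : N ≤ H) (ψ : H → ℂ), Cfsg.IsIrrCharacter H ψ ∧ Cfsg.indFun H ψ = χ ∧ Cfsg.IsIrrCharacter N (fun n : N => ψ ⟨(n : G), hNH n.2⟩)) (χ : G → ℂ) (hχ : Cfsg.IsIrrCharacter G χ) : ∃ (U : Subgroup G) (lam : U → ℂ), Cfsg.IsCharacter U lam ∧ lam 1 = 1 ∧ Cfsg.indFun U lam = χ := by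
  classical
  obtain ⟨H, hNH, ψ, hψ, hind, hirr⟩ := hrel χ hχ
  set N' := N.subgroupOf H
  have hN' : Cfsg.IsIrrCharacter N' (fun x : N' => ψ x) :=
    CharCore.isIrrCharacter_comp_surjective hirr (Subgroup.subgroupOfEquivOfLe hNH).toMonoidHom
      (Subgroup.subgroupOfEquivOfLe hNH).surjective
  obtain ⟨U, lam, hlam, hlam1, hlami⟩ := CharDeep.Ext.exists_monomial_of_restrict _ N' le_rfl
    inferInstance (fun p hp P hPN hP a ha b hb => by
      haveI := Fact.mk hp
      set Q := (P.map H.subtype).subgroupOf N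
      obtain ⟨S, hS⟩ := (show IsPGroup p Q from
        (hP.map H.subtype).comap_subtype).exists_le_sylow
      have hmem : ∀ x ∈ P, (x : G) ∈ N := fun x hx => hPN hx
      have h := hab p S ⟨(a : G), hmem a ha⟩ (hS ⟨a, ha, rfl⟩) ⟨(b : G), hmem b hb⟩ (hS ⟨b, hb, rfl⟩)
      exact Subtype.ext (congrArg (fun z : N => (z : G)) h)) hψ hN'
  let e := U.equivMapOfInjective H.subtype H.subtype_injective
  refine ⟨U.map H.subtype, fun x => lam (e.symm x),
    CharCore.isCharacter_comp hlam e.symm.toMonoidHom, by simp only [map_one]; exact hlam1, ?_⟩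
  rw [← CharInd.indFun_indFun H U lam, hlami, hind]

end Cfsg.Agent.S0859
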