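import Cfsg.Statements.S0869
import Mathlib.Tactic
import Mathlib.Data.Fintype.EquivFin
import Mathlib.Algebra.BigOperators.Group.Finset.Basic

set_option autoImplicit false
open Cfsg

namespace Cfsg.Agent.S0869

/-- Let S be a nonempty finite type and R an additive subgroup of the integer-valued functions on S that is closed under pointwise multiplication. If the constant function 1 is not in R, then there exist a point x of S and a prime p such that p divides f x for every f in R. -/
theorem result {S : Type*} [Finite S] [Nonempty S] (R : AddSubgroup (S → ℤ)) (hmul : ∀ f ∈ R, ∀ g ∈ R, f * g ∈ R) (h1 : (1 : S → ℤ) ∉ R) : ∃ (x : S) (p : ℕ), p.Prime ∧ ∀ f ∈ R, (p : ℤ) ∣ f x := by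
  classical
  have := Fintype.ofFinite S
  by_contra hcon
  push Not at hcon
  apply h1
  have hone : ∀ x : S, ∃ f ∈ R, f x = 1 := by
    intro x
    obtain ⟨d, hd⟩ := Int.subgroup_cyclic (R.map (Pi.evalAddMonoidHom (fun _ : S => ℤ) x))
    by_cases hd1 : d.natAbs = 1
    · have h : (1 : ℤ) ∈ R.map (Pi.evalAddMonoidHom (fun _ : S => ℤ) x) := by
        rw [hd, AddSubgroup.mem_closure_singleton]
        exact ⟨d, by rw [smul_eq_mul, ← Int.natAbs_mul_self, hd1]; rfl⟩
      exact h
    · exfalso
      obtain ⟨p, hp, hpd⟩ := Nat.exists_prime_and_dvd hd1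
      obtain ⟨f, hf, hnd⟩ := hcon x p hp
      apply hnd
      have hfd : f x ∈ R.map (Pi.evalAddMonoidHom (fun _ : S => ℤ) x) :=
        AddSubgroup.mem_map_of_mem _ hf
      rw [hd, AddSubgroup.mem_closure_singleton] at hfd
      obtain ⟨k, hk⟩ := hfd
      rw [← hk, smul_eq_mul]
      exact dvd_mul_of_dvd_right (Int.natCast_dvd.mpr hpd) k
  choose f hf hfx using hone
  have hT : ∀ T : Finset S, (1 : S → ℤ) - ∏ x ∈ T, (1 - f x) ∈ R := by
    intro T
    induction T using Finset.induction with
    | empty => simp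
    | insert a T ha ih =>
      rw [Finset.prod_insert ha]
      have e : (1 : S → ℤ) - (1 - f a) * ∏ x ∈ T, (1 - f x) =
          f a + (1 - ∏ x ∈ T, (1 - f x)) - f a * (1 - ∏ x ∈ T, (1 - f x)) := by ring
      rw [e]
      exact R.sub_mem (R.add_mem (hf a) ih) (hmul _ (hf a) _ ih)
  have h0 : ∏ x : S, ((1 : S → ℤ) - f x) = 0 := by
    funext y
    rw [Finset.prod_apply]
    exact Finset.prod_eq_zero (Finset.mem_univ y) (by simp [hfx y])
  have := hT Finset.univ
  rwa [h0, sub_zero] at this

end Cfsg.Agent.S0869
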