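import Cfsg.Statements.S0872
import Cfsg.Agent.CharB.PermChar

set_option autoImplicit false
open Cfsg

namespace Cfsg.Agent.S0872

/-- For a finite group G and a prime p there are an integer m not divisible by p and a ℤ-linear combination of functions induced from the constant function 1 on subgroups H, each having a cyclic normal subgroup of order prime to p and p-power index in H, that equals the constant function m. -/
theorem result {G : Type*} [Group G] [Fintype G] (p : ℕ) (hp : p.Prime) : ∃ (m : ℤ) (a : Subgroup G → ℤ), ¬ (p : ℤ) ∣ m ∧ (∀ H, a H ≠ 0 → (∃ C : Subgroup G, C ≤ H ∧ H ≤ Subgroup.normalizer (C : Set G) ∧ IsCyclic C ∧ Nat.Coprime (Nat.card C) p ∧ ∃ k : ℕ, C.relIndex H = p ^ k)) ∧ (fun _ : G => (m : ℂ)) = ∑ H : Subgroup G, (a H : ℂ) • Cfsg.indFun H (fun _ => 1) := by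
  classical
  obtain ⟨m, hm, hmem⟩ := Cfsg.Agent.CharB.exists_const_mem_primeSpan (G := G) hp
  obtain ⟨c, hc⟩ := Submodule.mem_span_range_iff_exists_fun ℤ |>.1 hmem
  refine ⟨m, fun H : Subgroup G => if h : Cfsg.Agent.CharInd.IsQuasiElem p ↥H then c ⟨H, h⟩ else 0, hm,
    fun H hH => ?_, ?_⟩
  · by_cases h : Cfsg.Agent.CharInd.IsQuasiElem p ↥H
    · exact Cfsg.Agent.CharB.exists_cyclic_of_isQuasiElem h
    · exact absurd (dif_neg h) hH
  · rw [← hc, ← Finset.sum_filter_of_ne (p := fun H : Subgroup G => Cfsg.Agent.CharInd.IsQuasiElem p ↥H)]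
    · rw [Finset.sum_subtype (Finset.univ.filter fun H : Subgroup G => Cfsg.Agent.CharInd.IsQuasiElem p ↥H)
        (p := fun H : Subgroup G => Cfsg.Agent.CharInd.IsQuasiElem p ↥H) (fun H => by simp)]
      refine Finset.sum_congr rfl fun H _ => ?_
      beta_reduce
      rw [dif_pos H.2, Int.cast_smul_eq_zsmul]
    · intro H _ hne
      by_contra h
      exact hne (by beta_reduce; rw [dif_neg h]; simp)

end Cfsg.Agent.S0872
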