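import Cfsg.Statements.S0875
import Cfsg.Agent.CharB.PiSection
-- import your own Cfsg.Agent.* helpers here

set_option autoImplicit false
open Cfsg

namespace Cfsg.Agent.S0875

/-- Let G be a finite group of order m * n with m and n coprime, and g an element whose order is coprime to m. Every x in G factors uniquely as x = u * v with u, v commuting, the order of u coprime to n and the order of v coprime to m; let ϑ be the function on G equal to n at those x whose factor v is conjugate to g and equal to 0 elsewhere. Then ϑ is a linear combination of the irreducible characters of G with algebraic-integer coefficients. -/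
theorem result {G : Type*} [Group G] [Fintype G] (m n : ℕ) (hmn : Nat.card G = m * n) (hcop : Nat.Coprime m n) (g : G) (hg : Nat.Coprime (orderOf g) m) (ϑ : G → ℂ) (hϑ1 : ∀ x : G, (∃ v : G, IsConj v g ∧ (∃ u : G, x = u * v ∧ Commute u v ∧ Nat.Coprime (orderOf u) n ∧ Nat.Coprime (orderOf v) m)) → ϑ x = n) (hϑ0 : ∀ x : G, (¬ ∃ v : G, IsConj v g ∧ (∃ u : G, x = u * v ∧ Commute u v ∧ Nat.Coprime (orderOf u) n ∧ Nat.Coprime (orderOf v) m)) → ϑ x = 0) : ∃ c : Cfsg.IrrCharacter G → ℂ, (∀ χ, c χ ∈ Cfsg.AlgInt) ∧ ϑ = ∑ᶠ χ : Cfsg.IrrCharacter G, c χ • (χ : G → ℂ) := by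
  classical
  have hn0 : n ≠ 0 := fun h => by rw [h, mul_zero] at hmn; exact Nat.card_pos.ne' hmn
  obtain ⟨e, he0, he1⟩ := Nat.chineseRemainder hcop 0 1
  have he0' : m ∣ e := Nat.modEq_zero_iff_dvd.1 he0
  have hsec : ϑ = CharB.sectionFun n e g := by
    funext x
    by_cases h : ∃ v : G, IsConj v g ∧ (∃ u : G, x = u * v ∧ Commute u v ∧
        Nat.Coprime (orderOf u) n ∧ Nat.Coprime (orderOf v) m)
    · rw [hϑ1 x h]
      obtain ⟨v, hv, u, hx, huv, hu, hv'⟩ := h
      rw [CharB.sectionFun, if_pos]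
      rwa [CharB.pow_eq_of_factorization hmn he0' he1 hx huv hu hv']
    · rw [hϑ0 x h, CharB.sectionFun, if_neg]
      intro hconj
      refine h ⟨x ^ e, hconj, x * (x ^ e)⁻¹, by simp,
        ((Commute.refl x).pow_right e).mul_left ((Commute.refl (x ^ e)).inv_left), ?_, ?_⟩
      · have hdvd : orderOf (x * (x ^ e)⁻¹) ∣ m := orderOf_dvd_of_pow_eq_one (by
          rw [((Commute.refl x).pow_right e).inv_right.mul_pow, inv_pow, ← pow_mul,
            mul_inv_eq_one, pow_eq_pow_iff_modEq]
          refine (Nat.ModEq.of_dvd (hmn ▸ orderOf_dvd_natCard x) ?_)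
          exact ((Nat.modEq_and_modEq_iff_modEq_mul hcop).1
            ⟨(Nat.modEq_zero_iff_dvd.2 dvd_rfl).trans
              (Nat.modEq_zero_iff_dvd.2 (dvd_mul_left m e)).symm,
            by simpa using (he1.mul_right m).symm⟩))
        exact Nat.Coprime.coprime_dvd_left hdvd hcop
      · have hdvd : orderOf (x ^ e) ∣ n := orderOf_dvd_of_pow_eq_one (by
          rw [← pow_mul]
          exact orderOf_dvd_iff_pow_eq_one.1 ((orderOf_dvd_natCard x).trans
            (hmn ▸ Nat.mul_dvd_mul_right he0' n)))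
        exact Nat.Coprime.coprime_dvd_left hdvd hcop.symm
  refine ⟨fun χ => classInner ϑ (χ : G → ℂ), fun χ => ?_, ?_⟩
  · show IsIntegral ℤ (classInner ϑ (χ : G → ℂ))
    rw [hsec]
    exact CharB.isIntegral_classInner_sectionFun hcop hmn he0' he1 g χ
  · rw [CharCore.finsum_irr]
    exact CharCore.eq_sum_classInner (hsec ▸ CharB.isClassFunction_sectionFun n e g)

end Cfsg.Agent.S0875
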