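import Cfsg.Statements.S0876
import Cfsg.Agent.CharB.PiSection
import Cfsg.Agent.Lib.BlocksCore.Height
import Cfsg.Agent.Lib.BlocksCore.PPart
-- import your own Cfsg.Agent.* helpers here

set_option autoImplicit false
open Cfsg

namespace Cfsg.Agent.S0876

/-- Let G be a finite group, p a prime and M a maximal ideal of the ring of algebraic integers containing p. Let x, y be elements with p-parts a and b (so a⁻¹ * x and b⁻¹ * y are their p-regular parts). Then a⁻¹ * x and b⁻¹ * y are conjugate in G if and only if, for every irreducible character χ, the difference χ x - χ y lies in the local ideal at M. -/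
theorem result {G : Type*} [Group G] [Finite G] (p : ℕ) (M : Ideal Cfsg.AlgInt) (hM : Cfsg.IsPModular p M) (x y a b : G) (ha : Cfsg.IsPPart p x a) (hb : Cfsg.IsPPart p y b) : IsConj (a⁻¹ * x) (b⁻¹ * y) ↔ ∀ χ : Cfsg.IrrCharacter G, Cfsg.MemLocalIdeal M ((χ : G → ℂ) x - (χ : G → ℂ) y) := by
  classical
  have := Fintype.ofFinite G
  have hp := hM.1
  haveI : Fact p.Prime := ⟨hp⟩
  haveI := BlocksCore.isPrime hM
  obtain ⟨x', hx', hcx, ⟨k, hk⟩, hxm⟩ := ha
  obtain ⟨y', hy', hcy, ⟨l, hl⟩, hym⟩ := hb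
  rw [← hx', ← hy', inv_mul_cancel_left, inv_mul_cancel_left]
  have hc : ∀ χ : IrrCharacter G,
      MemLocalIdeal M ((χ : G → ℂ) (a * x') - (χ : G → ℂ) x') ∧
      MemLocalIdeal M ((χ : G → ℂ) (b * y') - (χ : G → ℂ) y') := fun χ =>
    ⟨BlocksCore.char_mul_sub_memLocalIdeal hM χ hcx hk hxm,
      BlocksCore.char_mul_sub_memLocalIdeal hM χ hcy hl hym⟩
  constructor
  · intro hconj χ
    have h : (χ : G → ℂ) x' = (χ : G → ℂ) y' :=
      (CharCore.isConj_iff_forall_irr x' y').1 hconj χ
    have := BlocksCore.memLocalIdeal_sub (hc χ).1 (hc χ).2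
    rw [h] at this
    simpa using this
  · intro hall
    obtain ⟨v, n, hn, hmn⟩ :=
      Nat.exists_eq_pow_mul_and_not_dvd (Nat.card_pos (α := G)).ne' p hp.ne_one
    have hcop : Nat.Coprime (p ^ v) n := (hp.coprime_iff_not_dvd.2 hn).pow_left v
    obtain ⟨e, he0, he1⟩ := Nat.chineseRemainder hcop 0 1
    have he0' : p ^ v ∣ e := Nat.modEq_zero_iff_dvd.1 he0
    have hpowe : ∀ (c z : G) (j : ℕ), Commute c z → orderOf c = p ^ j → ¬ p ∣ orderOf z →
        (c * z) ^ e = z := fun c z j hcz hj hz =>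
      CharB.pow_eq_of_factorization hmn he0' he1 rfl hcz
        (hj ▸ (hp.coprime_iff_not_dvd.2 hn).pow_left j)
        (((hp.coprime_iff_not_dvd.2 hz).pow_left v).symm)
    set ϑ := CharB.sectionFun n e y' with hϑ
    by_contra hne
    have h0 : ϑ (a * x') = 0 := by
      rw [hϑ, CharB.sectionFun, if_neg]
      rwa [hpowe a x' k hcx hk hxm]
    have h1 : ϑ (b * y') = (n : ℂ) := by
      rw [hϑ, CharB.sectionFun, if_pos]
      rw [hpowe b y' l hcy hl hym]
    have hmem : MemLocalIdeal M (ϑ (a * x') - ϑ (b * y')) := by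
      rw [hϑ, CharCore.eq_sum_classInner (CharB.isClassFunction_sectionFun n e y')]
      simp only [Finset.sum_apply, Pi.smul_apply, smul_eq_mul, ← Finset.sum_sub_distrib, ← mul_sub]
      refine BlocksCore.memLocalIdeal_sum fun χ _ => BlocksCore.memLocalIdeal_mul_left
        (BlocksCore.memLocalRing_of_mem
          (CharB.isIntegral_classInner_sectionFun hcop hmn he0' he1 y' χ)) ?_
      exact hall χ
    rw [h0, h1, zero_sub] at hmem
    have h2 := BlocksCore.memLocalIdeal_neg hmem
    rw [neg_neg, BlocksCore.memLocalIdeal_natCast_iff hM] at h2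
    exact hn h2

end Cfsg.Agent.S0876
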