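import Cfsg.Statements.S0879
import Cfsg.Agent.CharDeep.ZassBasic
-- import your own Cfsg.Agent.* helpers here

set_option autoImplicit false
open Cfsg

namespace Cfsg.Agent.S0879

/-- Let G be a Zassenhaus group on the finite set Ω and E the stabilizer of two distinct points a, b. Then an element outside the normalizer of E conjugates no non-identity element of E into E, and E has index 2 in its normalizer. -/
theorem result {G Ω : Type*} [Group G] [Finite G] [MulAction G Ω] [Fintype Ω] (hZ : Cfsg.IsZassenhausGroup G Ω) {a b : Ω} (hab : a ≠ b) : (∀ g : G, g ∉ Subgroup.normalizer ((MulAction.stabilizer G a ⊓ MulAction.stabilizer G b : Subgroup G) : Set G) → ∀ x ∈ (MulAction.stabilizer G a ⊓ MulAction.stabilizer G b : Subgroup G), g * x * g⁻¹ ∈ (MulAction.stabilizer G a ⊓ MulAction.stabilizer G b : Subgroup G) → x = 1) ∧ ((MulAction.stabilizer G a ⊓ MulAction.stabilizer G b : Subgroup G).subgroupOf (Subgroup.normalizer ((MulAction.stabilizer G a ⊓ MulAction.stabilizer G b : Subgroup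 G) : Set G))).index = 2 := by
  refine ⟨?_, ?_⟩
  · intro g hg x hx hx'
    by_contra h1
    apply hg
    rw [Cfsg.Agent.CharDeep.Zass.normalizer_two_iff hZ hab]
    have hne : g • a ≠ g • b := fun h => hab (MulAction.injective g h)
    have hne1 : g * x * g⁻¹ ≠ 1 := fun h => h1 (conj_eq_one_iff.1 h)
    have fa : (g * x * g⁻¹) • (g • a) = g • a := by
      simp [mul_smul, (Cfsg.Agent.CharDeep.Zass.mem_two.1 hx).1]
    have fb : (g * x * g⁻¹) • (g • b) = g • b := by
      simp [mul_smul, (Cfsg.Agent.CharDeep.Zass.mem_two.1 hx).2]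
    rcases Cfsg.Agent.CharDeep.Zass.fixed_of_mem_two hZ hab hx' hne1 fa with ha | ha <;>
      rcases Cfsg.Agent.CharDeep.Zass.fixed_of_mem_two hZ hab hx' hne1 fb with hb | hb
    · exact absurd (ha.trans hb.symm) hne
    · exact Or.inl ⟨ha, hb⟩
    · exact Or.inr ⟨ha, hb⟩
    · exact absurd (ha.trans hb.symm) hne
  · obtain ⟨w, hwa, hwb⟩ := Cfsg.Agent.CharDeep.Zass.exists_swap hZ hab
    have hwn := (Cfsg.Agent.CharDeep.Zass.normalizer_two_iff hZ hab (g := w)).2 (Or.inr ⟨hwa, hwb⟩)
    rw [Subgroup.index_eq_two_iff]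
    refine ⟨⟨w, hwn⟩, fun g => ?_⟩
    rcases (Cfsg.Agent.CharDeep.Zass.normalizer_two_iff hZ hab).1 g.2 with hg | hg
    · refine Or.inr ⟨hg, fun h => ?_⟩
      have h' : ((g : G) * w) • a = a := h.1
      rw [mul_smul, hwa, hg.2] at h'
      exact hab h'.symm
    · refine Or.inl ⟨Cfsg.Agent.CharDeep.Zass.swap_mul_mem hg ⟨hwa, hwb⟩, fun h => ?_⟩
      have h' : (g : G) • a = a := h.1
      rw [hg.1] at h'
      exact hab h'.symm


end Cfsg.Agent.S0879
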