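import Cfsg.Statements.S0880
import Cfsg.Agent.CharDeep.ZassKernel
-- import your own Cfsg.Agent.* helpers here

set_option autoImplicit false
open Cfsg

namespace Cfsg.Agent.S0880

/-- Let G be a finite simple Zassenhaus group on Ω with n points whose two-point stabilizer E has odd order less than n - 2. Then there are two elements of G, each fixing no point of Ω, that are not conjugate. -/
theorem result {G Ω : Type*} [Group G] [Finite G] [MulAction G Ω] [Fintype Ω] (hZ : Cfsg.IsZassenhausGroup G Ω) {a b : Ω} (hab : a ≠ b) [IsSimpleGroup G] (hodd : Odd (Nat.card ↥(MulAction.stabilizer G a ⊓ MulAction.stabilizer G b : Subgroup G))) (hlt : Nat.card ↥(MulAction.stabilizer G a ⊓ MulAction.stabilizer G b : Subgroup G) < Fintype.card Ω - 2) : ∃ x y : G, (∀ c : Ω, x • c ≠ c) ∧ (∀ c : Ω, y • c ≠ c) ∧ ¬ IsConj x y := by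
  classical
  have := Fintype.ofFinite G
  have hcard := Cfsg.Agent.CharDeep.Zass.card_fix_zero hZ hab
  have h3 := Cfsg.Agent.CharDeep.Zass.three_le_card hZ hab
  have he1 := Cfsg.Agent.CharDeep.Zass.two_card_gt_one hZ hab
  have hG := Cfsg.Agent.CharDeep.Zass.card_group hZ hab
  obtain ⟨n, hn⟩ := Nat.exists_eq_add_of_le (show 1 ≤ Fintype.card Ω by omega)
  obtain ⟨t, ht⟩ := hodd
  set S := Finset.univ.filter fun g : G => Cfsg.Agent.CharDeep.Zass.nfix Ω g = 0 with hS
  rw [ht] at he1 hlt hcard hG
  rw [show 2 * t + 1 - 1 = 2 * t by omega, hn, show 1 + n - 1 = n by omega] at hcard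
  rw [hn, show 1 + n - 1 = n by omega] at hG
  have hS' : S.card = n * ((1 + n) * t + 1) := by
    have : S.card * 2 = n * ((1 + n) * t + 1) * 2 := by rw [hcard]; ring
    exact Nat.eq_of_mul_eq_mul_right (by norm_num) this
  obtain ⟨x, hx⟩ : S.Nonempty := by
    rw [← Finset.card_pos, hS']
    have : 0 < n := by omega
    positivity
  by_contra hall
  push Not at hall
  have hxf : ∀ c : Ω, x • c ≠ c :=
    Cfsg.Agent.CharDeep.Zass.nfix_eq_zero.1 (Finset.mem_filter.1 hx).2
  have hclass : S = Finset.univ.filter fun y : G => y ∈ MulAction.orbit (ConjAct G) x := by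
    ext y
    simp only [hS, Finset.mem_filter, Finset.mem_univ, true_and, ConjAct.mem_orbit_conjAct]
    constructor
    · intro hy
      exact (hall x y hxf (Cfsg.Agent.CharDeep.Zass.nfix_eq_zero.1 hy)).symm
    · intro hy
      rw [Cfsg.Agent.CharDeep.Zass.nfix_eq_zero]
      intro c hc
      obtain ⟨g, rfl⟩ := isConj_iff.1 hy.symm
      refine hxf (g⁻¹ • c) ?_
      rw [mul_smul, mul_smul] at hc
      exact eq_inv_smul_iff.2 hc
  have hdvd : S.card ∣ Nat.card G := by
    rw [hclass, ← Fintype.card_subtype, ← Nat.card_eq_fintype_card]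
    have h1 := (MulAction.stabilizer (ConjAct G) x).card_mul_index
    rw [MulAction.index_stabilizer] at h1
    change Nat.card ↥(MulAction.orbit (ConjAct G) x) ∣ Nat.card G
    rw [show Nat.card G = Nat.card (ConjAct G) from Nat.card_congr ConjAct.toConjAct.toEquiv,
      Nat.card_coe_set_eq]
    exact ⟨_, by rw [mul_comm] at h1; exact h1.symm⟩
  rw [hS', hG, show (1 + n) * (n * (2 * t + 1)) = n * ((1 + n) * (2 * t + 1)) by ring] at hdvd
  have h1 : (1 + n) * t + 1 ∣ (1 + n) * (2 * t + 1) :=
    Nat.dvd_of_mul_dvd_mul_left (by omega) hdvd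
  have hcop : ((1 + n) * t + 1).Coprime (1 + n) := by
    rw [Nat.coprime_mul_left_add_left]
    exact Nat.coprime_one_left _
  have h2 := Nat.le_of_dvd (by omega) (hcop.dvd_of_dvd_mul_left h1)
  have : 3 * t ≤ (1 + n) * t := Nat.mul_le_mul_right t (by omega)
  omega


end Cfsg.Agent.S0880
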