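import Cfsg.Statements.S0882
import Cfsg.Agent.CharDeep.ZassFrobenius
-- import your own Cfsg.Agent.* helpers here

set_option autoImplicit false
open Cfsg

namespace Cfsg.Agent.S0882

/-- Let G be a finite simple Zassenhaus group on Ω with n = h + 1 points whose two-point stabilizer E has odd order e with 2e < h - 1. Then any two involutions of G are conjugate, and the number of involutions is e * (h + 1) if h is even and e * h if h is odd. -/
theorem result {G Ω : Type*} [Group G] [Finite G] [MulAction G Ω] [Fintype Ω] (hZ : Cfsg.IsZassenhausGroup G Ω) {a b : Ω} (hab : a ≠ b) [IsSimpleGroup G] (h e : ℕ) (hh : Fintype.card Ω = h + 1) (he : Nat.card ↥(MulAction.stabilizer G a ⊓ MulAction.stabilizer G b : Subgroup G) = e) (hodd : Odd e) (hlt : 2 * e < h - 1) : (∀ x y : G, orderOf x = 2 → orderOf y = 2 → IsConj x y) ∧ Nat.card {x : G // orderOf x = 2} = (if Even h then e * (h + 1) else e * h) := by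
  classical
  have := Fintype.ofFinite G
  have hodd' : Odd (Nat.card ↥(Cfsg.Agent.CharDeep.Zass.two G a b)) := he.symm ▸ hodd
  refine ⟨fun x y hx hy => Cfsg.Agent.CharDeep.Zass.invs_conj hZ hab hodd'
    (Cfsg.Agent.CharDeep.Zass.mem_invs_iff_orderOf.2 hx)
    (Cfsg.Agent.CharDeep.Zass.mem_invs_iff_orderOf.2 hy), ?_⟩
  have h1 := Cfsg.Agent.CharDeep.Zass.card_invs hZ hab hodd'
  rw [Nat.card_eq_fintype_card, Fintype.card_subtype]
  have h2 : (Finset.univ.filter fun x : G => orderOf x = 2) = Cfsg.Agent.CharDeep.Zass.invs G := by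
    ext x
    simp [Cfsg.Agent.CharDeep.Zass.mem_invs_iff_orderOf]
  rw [h2, h1, he, hh]
  by_cases hev : Even h
  · rw [if_pos hev.add_one, if_pos hev]
  · rw [if_neg (fun h' => hev (Nat.even_add_one.not_left.1 (Nat.not_even_iff_odd.2 h'))),
      if_neg hev, Nat.add_sub_cancel]

end Cfsg.Agent.S0882
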