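import Cfsg.Statements.S0884
import Cfsg.Agent.CharDeep.ZassClasses

set_option autoImplicit false
open Cfsg

namespace Cfsg.Agent.S0884

/-- Let G be a finite simple Zassenhaus group on Ω with h + 1 points whose two-point stabilizer E has odd order e with 2e < h - 1, and let H be the subgroup of the stabilizer of a consisting of the identity and the elements fixing no point other than a (given here as a subgroup of the stabilizer of order one less than the number of points whose non-identity elements fix only a; it is the Frobenius kernel of the stabilizer). Then at least e conjugacy classes of G contain no element of H. -/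
theorem result {G Ω : Type*} [Group G] [Finite G] [MulAction G Ω] [Fintype Ω] (hZ : Cfsg.IsZassenhausGroup G Ω) {a b : Ω} (hab : a ≠ b) [IsSimpleGroup G] (h e : ℕ) (hh : Fintype.card Ω = h + 1) (he : Nat.card ↥(MulAction.stabilizer G a ⊓ MulAction.stabilizer G b : Subgroup G) = e) (hodd : Odd e) (hlt : 2 * e < h - 1) (H : Subgroup G) (hHa : H ≤ MulAction.stabilizer G a) (hHcard : Nat.card H + 1 = Fintype.card Ω) (hHfix : ∀ u ∈ H, u ≠ 1 → ∀ c : Ω, u • c = c → c = a) : e ≤ Nat.card {C : ConjClasses G // ∀ g : G, ConjClasses.mk g = C → g ∉ H} := by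
  classical
  have := Fintype.ofFinite G
  have hodd' : Odd (Nat.card ↥(Cfsg.Agent.CharDeep.Zass.two G a b)) := he.symm ▸ hodd
  have h1 := Cfsg.Agent.CharDeep.Zass.card_classes hZ hab hodd'
    (by rw [he, hh]; omega)
  rw [he] at h1
  refine h1.trans ?_
  rw [Nat.card_eq_fintype_card, Fintype.card_subtype]
  refine Finset.card_le_card fun C hC => ?_
  obtain ⟨g, hg, rfl⟩ := Finset.mem_image.1 hC
  simp only [Finset.mem_filter, Finset.mem_univ, true_and]
  intro y hy hyH
  obtain ⟨c, hc⟩ := isConj_iff.1 (ConjClasses.mk_eq_mk_iff_isConj.1 hy)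
  simp only [Finset.mem_union, Finset.mem_filter, Finset.mem_univ, true_and] at hg
  rw [← hc, Cfsg.Agent.CharDeep.Zass.nfix_conj] at hg
  have h3 := Cfsg.Agent.CharDeep.Zass.three_le_card hZ hab
  by_cases hy1 : y = 1
  · rw [hy1, Cfsg.Agent.CharDeep.Zass.nfix_one] at hg
    omega
  have : Cfsg.Agent.CharDeep.Zass.nfix Ω y = 1 := by
    rw [Cfsg.Agent.CharDeep.Zass.nfix, Finset.card_eq_one]
    exact ⟨a, Finset.eq_singleton_iff_unique_mem.2
      ⟨by simpa using MulAction.mem_stabilizer_iff.1 (hHa hyH),
        fun d hd => hHfix y hyH hy1 d (by simpa using hd)⟩⟩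
  omega

end Cfsg.Agent.S0884
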