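import Cfsg.Statements.S0891
import Cfsg.Agent.CharB.SpinCover
-- import your own Cfsg.Agent.* helpers here

set_option autoImplicit false
open Cfsg

namespace Cfsg.Agent.S0891

/-- For every n ≥ 4 there are a finite group Γ and a central element z of Γ of order 2 lying in the commutator subgroup of Γ such that the quotient of Γ by the (normal) subgroup generated by z is isomorphic to the alternating group on n letters. -/
theorem result (n : ℕ) (hn : 4 ≤ n) : ∃ (Γ : Type) (_ : Group Γ) (_ : Finite Γ) (z : Γ) (hz : z ∈ Subgroup.center Γ), orderOf z = 2 ∧ z ∈ commutator Γ ∧ ∃ _ : (Subgroup.zpowers z).Normal, Nonempty (Γ ⧸ Subgroup.zpowers z ≃* alternatingGroup (Fin n)) := by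
  have hfin : Finite (CharB.Spin.cover n) := by
    have h1 : (CharB.Spin.proj n).ker.FiniteIndex := Subgroup.finiteIndex_ker _
    have h2 : Finite (CharB.Spin.proj n).ker := by
      rw [CharB.Spin.ker_proj]
      exact Nat.finite_of_card_ne_zero (by
        rw [Nat.card_zpowers, CharB.Spin.orderOf_negOne]; decide)
    exact (CharB.Spin.proj n).finite_iff_finite_ker_range.2 ⟨h2, inferInstance⟩
  have hnormal : (Subgroup.zpowers (CharB.Spin.negOne n)).Normal := by
    rw [← CharB.Spin.ker_proj]; infer_instance
  exact ⟨CharB.Spin.cover n, inferInstance, hfin, CharB.Spin.negOne n,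
    CharB.Spin.negOne_mem_center, CharB.Spin.orderOf_negOne, CharB.Spin.negOne_mem_commutator hn,
    hnormal, ⟨(QuotientGroup.quotientMulEquivOfEq CharB.Spin.ker_proj.symm).trans
      (QuotientGroup.quotientKerEquivOfSurjective _ CharB.Spin.proj_surjective)⟩⟩

end Cfsg.Agent.S0891
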