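import Cfsg.Statements.S0900
import Cfsg.Agent.CharDeep.Ext.Clifford
-- import your own Cfsg.Agent.* helpers here

set_option autoImplicit false
open Cfsg
open scoped ComplexConjugate

namespace Cfsg.Agent.S0900

/-- Let N be a normal subgroup of the finite group G, χ an irreducible character of G and ϑ an irreducible character of N having nonzero inner product with the restriction of χ. Consider: (a) the restriction of χ to N is e • ϑ for a natural number e with e ^ 2 equal to the index of N; (b) χ vanishes outside N and ϑ is invariant under conjugation by G; (c) ϑ is invariant and every irreducible character of G having nonzero inner product with the function induced from ϑ equals χ. Then (a) ↔ (b) and (a) ↔ (c). -/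
theorem result {G : Type*} [Group G] [Fintype G] (N : Subgroup G) [hN : N.Normal] [Fintype N] (χ : G → ℂ) (hχ : Cfsg.IsIrrCharacter G χ) (ϑ : N → ℂ) (hϑ : Cfsg.IsIrrCharacter N ϑ) (hcon : Cfsg.classInner (fun n : N => χ n) ϑ ≠ 0) : ((∃ e : ℕ, (fun n : N => χ n) = (e : ℂ) • ϑ ∧ e ^ 2 = N.index) ↔ ((∀ g : G, g ∉ N → χ g = 0) ∧ ∀ (g : G) (n : N), ϑ ⟨g * n * g⁻¹, hN.conj_mem (n : G) n.2 g⟩ = ϑ n)) ∧ ((∃ e : ℕ, (fun n : N => χ n) = (e : ℂ) • ϑ ∧ e ^ 2 = N.index) ↔ (∀ (g : G) (n : N), ϑ ⟨g * n * g⁻¹, hN.conj_mem (n : G) n.2 g⟩ = ϑ n ∧ ∀ ψ : G → ℂ, Cfsg.IsIrrCharacter G ψ → Cfsg.classInner (Cfsg.indFun N ϑ) ψ ≠ 0 → ψ = χ)) := by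
  classical
  have hres := Cfsg.Agent.CharDeep.Ext.restrict_eq_smul N (φ := ϑ) (β := χ)
  set β : Cfsg.IrrCharacter G := ⟨χ, hχ⟩ with hβ
  obtain ⟨e0, he0, he0'⟩ := Cfsg.Agent.CharDeep.Ext.classInner_indFun_eq_natCast N
    (Cfsg.Agent.CharCore.IsIrrCharacter.isCharacter hϑ) β
  have hne : (e0 : ℂ) ≠ 0 := he0' ▸ hcon
  have hNc : (Nat.card N : ℂ) ≠ 0 := Nat.cast_ne_zero.2 Nat.card_pos.ne'
  have hnormϑ := (Cfsg.Agent.CharCore.isIrrCharacter_iff.mp hϑ).2
  have hsumN : ∀ e : ℕ, (fun n : N => χ n) = (e : ℂ) • ϑ →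
      ∑ g ∈ Finset.univ.filter (· ∈ N), χ g * conj (χ g) = (Nat.card N : ℂ) * ((e : ℂ) * e) := by
    intro e he
    rw [Finset.sum_subtype (p := fun g => g ∈ N) _ (fun g => by simp)]
    have h1 : Cfsg.classInner (fun n : N => χ n) (fun n : N => χ n) = (e : ℂ) * e := by
      rw [he, Cfsg.Agent.CharCore.classInner_smul_left, Cfsg.Agent.CharCore.classInner_smul_right,
        hnormϑ, map_natCast, mul_one]
    rw [← h1, Cfsg.Agent.CharCore.classInner_def, ← mul_assoc, mul_inv_cancel₀ hNc, one_mul]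
  have hnorm : ∑ g : G, χ g * conj (χ g) = (Nat.card G : ℂ) := by
    have h1 := (Cfsg.Agent.CharCore.isIrrCharacter_iff.mp hχ).2
    rw [Cfsg.Agent.CharCore.classInner_def, inv_mul_eq_iff_eq_mul₀
      (Nat.cast_ne_zero.2 Nat.card_pos.ne'), mul_one] at h1
    exact h1
  have hA : ∀ e : ℕ, (fun n : N => χ n) = (e : ℂ) • ϑ → e ^ 2 = N.index →
      (∀ g : G, g ∉ N → χ g = 0) ∧
      ∀ (g : G) (n : N), ϑ ⟨g * n * g⁻¹, hN.conj_mem (n : G) n.2 g⟩ = ϑ n := by
    intro e he he2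
    refine ⟨fun g hg => ?_, fun g n => ?_⟩
    · have h1 := Finset.sum_filter_add_sum_filter_not Finset.univ (· ∈ N)
        (fun g => χ g * conj (χ g))
      rw [hnorm, hsumN e he, ← N.card_mul_index, ← he2, Nat.cast_mul, Nat.cast_pow, sq,
        add_eq_left] at h1
      simp only [Complex.mul_conj, ← Complex.ofReal_sum, Complex.ofReal_eq_zero] at h1
      exact Complex.normSq_eq_zero.1 ((Finset.sum_eq_zero_iff_of_nonneg
        fun x _ => Complex.normSq_nonneg (χ x)).1 h1 g (by simp [hg]))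
    · have h0 : (e : ℂ) ≠ 0 := by
        rw [Nat.cast_ne_zero]
        rintro rfl
        exact Subgroup.index_ne_zero_of_finite he2.symm
      refine mul_left_cancel₀ h0 ?_
      have h1 := congrFun he n
      have h2 := congrFun he ⟨g * n * g⁻¹, hN.conj_mem (n : G) n.2 g⟩
      simp only [Pi.smul_apply, smul_eq_mul] at h1 h2
      rw [← h1, ← h2]
      exact Cfsg.Agent.CharCore.irr_isClassFunction β (n : G) g
  have hB : (∀ g : G, g ∉ N → χ g = 0) →
      (∀ (g : G) (n : N), ϑ ⟨g * n * g⁻¹, hN.conj_mem (n : G) n.2 g⟩ = ϑ n) →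
      (fun n : N => χ n) = (e0 : ℂ) • ϑ ∧ e0 ^ 2 = N.index := by
    intro hv hinv
    have h1 : (fun n : N => χ n) = (e0 : ℂ) • ϑ := he0' ▸ hres hinv hϑ hχ hcon
    refine ⟨h1, ?_⟩
    have h2 := hnorm
    rw [← Finset.sum_subset (Finset.subset_univ (Finset.univ.filter (· ∈ N)))
      (fun g _ hg => by rw [hv g (by simpa using hg), zero_mul]), hsumN e0 h1,
      ← N.card_mul_index, Nat.cast_mul] at h2
    have h3 := mul_left_cancel₀ hNc h2
    rw [sq]
    exact_mod_cast h3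
  refine ⟨⟨fun ⟨e, he, he2⟩ => hA e he he2, fun h => ⟨e0, hB h.1 h.2⟩⟩,
    ⟨fun ⟨e, he, he2⟩ g n => ⟨(hA e he he2).2 g n, fun ψ hψ hψne => ?_⟩, fun h => ?_⟩⟩
  · obtain ⟨hv, hinv⟩ := hA e he he2
    by_contra hne'
    apply hψne
    have h1 : (e : ℂ) • Cfsg.indFun N ϑ = (N.index : ℂ) • χ := by
      funext x
      simp only [Pi.smul_apply, smul_eq_mul]
      by_cases hx : x ∈ N
      · have h2 := congrFun he ⟨x, hx⟩
        simp only [Pi.smul_apply, smul_eq_mul] at h2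
        rw [show Cfsg.indFun N ϑ x = (N.index : ℂ) * ϑ ⟨x, hx⟩ from
          Cfsg.Agent.CharDeep.Ext.indFun_coe N hinv ⟨x, hx⟩, h2]
        ring
      · rw [Cfsg.Agent.CharDeep.Ext.indFun_notMem N ϑ hx, hv x hx, mul_zero, mul_zero]
    have h0 : (e : ℂ) ≠ 0 := by
      rw [Nat.cast_ne_zero]
      rintro rfl
      exact Subgroup.index_ne_zero_of_finite he2.symm
    refine mul_left_cancel₀ h0 ?_
    rw [← Cfsg.Agent.CharCore.classInner_smul_left, h1, Cfsg.Agent.CharCore.classInner_smul_left,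
      mul_zero, Cfsg.Agent.CharCore.classInner_irr_of_ne (χ := β) (ψ := ⟨ψ, hψ⟩)
        (fun hh => hne' (congrArg Subtype.val hh).symm), mul_zero]
  · have hinv : ∀ (g : G) (n : N), ϑ ⟨g * n * g⁻¹, hN.conj_mem (n : G) n.2 g⟩ = ϑ n :=
      fun g n => (h g n).1
    have hu := (h 1 1).2
    have h1 : Cfsg.indFun N ϑ = (e0 : ℂ) • χ := by
      conv_lhs => rw [Cfsg.Agent.CharCore.eq_sum_classInner
        (Cfsg.Agent.CharInd.isClassFunction_indFun N ϑ)]
      rw [Finset.sum_eq_single β (fun ψ _ hne' => ?_) (fun hh => absurd (Finset.mem_univ _) hh),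
        he0]
      by_cases h2 : Cfsg.classInner (Cfsg.indFun N ϑ) ψ = 0
      · rw [h2, zero_smul]
      · exact absurd (Subtype.ext (hu ψ ψ.2 h2)) hne'
    refine ⟨e0, he0' ▸ hres hinv hϑ hχ hcon, ?_⟩
    have h2 := Cfsg.Agent.CharDeep.Ext.classInner_indFun_self N hinv hϑ
    rw [h1, Cfsg.Agent.CharCore.classInner_smul_left, Cfsg.Agent.CharCore.classInner_smul_right,
      (Cfsg.Agent.CharCore.isIrrCharacter_iff.mp hχ).2, map_natCast, mul_one] at h2
    rw [sq]
    exact_mod_cast h2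

end Cfsg.Agent.S0900
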