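import Cfsg.Statements.S0901
import Cfsg.Agent.Lib.BlocksCore.Local
import Mathlib.RingTheory.IntegralClosure.Algebra.Basic
import Mathlib.RingTheory.Finiteness.Cardinality
import Mathlib.RingTheory.RootsOfUnity.Complex
import Mathlib.RingTheory.RootsOfUnity.Minpoly
import Mathlib.Algebra.Algebra.ZMod

set_option autoImplicit false
open Cfsg

namespace Cfsg.Agent.S0901

/-- Let M be a maximal ideal of the ring of algebraic integers containing the prime p, and let U be the set of complex roots of unity of order prime to p. Then reduction modulo M is injective on U, and every algebraic integer not in M is congruent modulo M to an element of U (so U maps bijectively onto the nonzero residues). -/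
theorem result (p : ℕ) [Fact p.Prime] (M : Ideal Cfsg.AlgInt) (hM : Cfsg.IsPModular p M) : (∀ ε₁ ε₂ : Cfsg.AlgInt, (∃ m : ℕ, ¬ p ∣ m ∧ (ε₁ : ℂ) ^ m = 1) → (∃ m : ℕ, ¬ p ∣ m ∧ (ε₂ : ℂ) ^ m = 1) → ε₁ - ε₂ ∈ M → ε₁ = ε₂) ∧ (∀ a : Cfsg.AlgInt, a ∉ M → ∃ ε : Cfsg.AlgInt, (∃ m : ℕ, ¬ p ∣ m ∧ (ε : ℂ) ^ m = 1) ∧ a - ε ∈ M) := by
  have := BlocksCore.isPrime hM
  have hp : p.Prime := hM.1
  refine ⟨?_, ?_⟩
  · rintro ε₁ ε₂ ⟨m₁, hm₁, h₁⟩ ⟨m₂, hm₂, h₂⟩ h
    set N := m₁ * m₂ with hN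
    have hN0 : N ≠ 0 := by
      intro h0; rcases mul_eq_zero.mp h0 with h | h <;> simp [h] at hm₁ hm₂
    have hNp : ¬ p ∣ N := fun hd => (hp.dvd_mul.mp hd).elim hm₁ hm₂
    have e₁ : ε₁ ^ N = 1 := Subtype.ext (by simp [hN, pow_mul, h₁])
    have e₂ : ε₂ ^ N = 1 := Subtype.ext (by simp [hN, mul_comm m₁, pow_mul, h₂])
    have e₃ : ε₂ * ε₂ ^ (N - 1) = 1 := by
      rw [← pow_succ', Nat.sub_add_cancel (Nat.pos_of_ne_zero hN0), e₂]
    have hz := BlocksCore.eq_one_of_sub_one_mem hM hNp (z := ε₁ * ε₂ ^ (N - 1))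
      (by rw [mul_pow, e₁, ← pow_mul, mul_comm (N - 1), pow_mul, e₂, one_pow, one_mul])
      (by rw [← e₃, ← sub_mul]; exact M.mul_mem_right _ h)
    calc ε₁ = ε₁ * (ε₂ * ε₂ ^ (N - 1)) := by rw [e₃, mul_one]
      _ = ε₂ * (ε₁ * ε₂ ^ (N - 1)) := by ring
      _ = ε₂ := by rw [hz, mul_one]
  · intro a ha
    haveI := hM.2.1
    letI : Field (Cfsg.AlgInt ⧸ M) := Ideal.Quotient.field M
    haveI := BlocksCore.charP_quotient hM
    letI : Algebra (ZMod p) (Cfsg.AlgInt ⧸ M) := ZMod.algebra _ p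
    set x : Cfsg.AlgInt ⧸ M := Ideal.Quotient.mk M a with hx
    have hx0 : x ≠ 0 := fun h => ha (Ideal.Quotient.eq_zero_iff_mem.mp h)
    have hint : IsIntegral ℤ x := by
      have h1 : IsIntegral ℤ a := (isIntegral_algHom_iff (Subalgebra.val _) Subtype.val_injective).mp a.2
      exact map_isIntegral_int (Ideal.Quotient.mk M) h1
    have hint' : IsIntegral (ZMod p) x := hint.tower_top
    haveI : Module.Finite (ZMod p) (Algebra.adjoin (ZMod p) {x}) :=
      Module.Finite.iff_fg.mpr hint'.fg_adjoin_singleton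
    haveI : Finite (Algebra.adjoin (ZMod p) {x}) := Module.finite_of_finite (ZMod p)
    let y : Algebra.adjoin (ZMod p) {x} := ⟨x, Algebra.subset_adjoin rfl⟩
    obtain ⟨i, j, hij, he⟩ := Finite.exists_ne_map_eq_of_infinite fun n : ℕ => y ^ n
    have hxm : ∃ m, 0 < m ∧ x ^ m = 1 := by
      have hxe : x ^ i = x ^ j := by simpa [y] using congrArg Subtype.val he
      rcases lt_or_gt_of_ne hij with h | h
      · refine ⟨j - i, by omega, ?_⟩
        exact mul_left_cancel₀ (pow_ne_zero i hx0) (by rw [← pow_add, Nat.add_sub_cancel' h.le, mul_one, hxe])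
      · refine ⟨i - j, by omega, ?_⟩
        exact mul_left_cancel₀ (pow_ne_zero j hx0) (by rw [← pow_add, Nat.add_sub_cancel' h.le, mul_one, hxe])
    obtain ⟨m, hm0, hm⟩ := hxm
    obtain ⟨v, m', hm', rfl⟩ := Nat.exists_eq_pow_mul_and_not_dvd hm0.ne' p hp.ne_one
    have hxm' : x ^ m' = 1 := by
      rw [← sub_eq_zero]
      refine (pow_eq_zero_iff (pow_ne_zero v hp.ne_zero)).mp ?_
      rw [sub_pow_char_pow, one_pow, ← pow_mul, mul_comm, hm, sub_self]
    have hm'0 : m' ≠ 0 := fun h => hm' (h ▸ dvd_zero p)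
    have hζ := Complex.isPrimitiveRoot_exp m' hm'0
    set ζ := Complex.exp (2 * Real.pi * Complex.I / m')
    let z : Cfsg.AlgInt := ⟨ζ, hζ.isIntegral (Nat.pos_of_ne_zero hm'0)⟩
    have hz : IsPrimitiveRoot z m' :=
      IsPrimitiveRoot.of_map_of_injective (f := Subalgebra.val _) (by exact hζ) Subtype.val_injective
    have hmem : a ^ m' - 1 ∈ M := Ideal.Quotient.eq.mp (by rw [map_pow, map_one]; exact hxm')
    have hprod := congrArg (Polynomial.eval a) (Polynomial.X_pow_sub_one_eq_prod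
      (Nat.pos_of_ne_zero hm'0) hz)
    simp only [Polynomial.eval_sub, Polynomial.eval_pow, Polynomial.eval_X, Polynomial.eval_one,
      Polynomial.eval_prod, Polynomial.eval_C] at hprod
    rw [hprod] at hmem
    obtain ⟨w, hw, hwM⟩ := (BlocksCore.isPrime hM).prod_mem_iff.mp hmem
    refine ⟨w, ⟨m', hm', ?_⟩, hwM⟩
    have := (Polynomial.mem_nthRootsFinset (Nat.pos_of_ne_zero hm'0) 1).mp hw
    simpa using congrArg Subtype.val this

end Cfsg.Agent.S0901
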