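import Cfsg.Statements.S0905
import Cfsg.Agent.Blocks88.Modular
import Cfsg.Agent.Lib.BlocksCore.SecondBlock
import Cfsg.Agent.Lib.BlocksDefect.Kernel
import Cfsg.Agent.Lib.Thompson.Cores
import Cfsg.Prelude.Def_CaseTheorems

set_option autoImplicit false
open Cfsg

namespace Cfsg.Agent.S0905

/-- Let F be a field of characteristic p and let g be an element of the finite group G no conjugate of which centralizes O_p(G). Then the class sum of g is a nilpotent element of the group algebra F[G]. -/
theorem result {G : Type*} [Group G] [Finite G] (p : ℕ) [Fact p.Prime] (F : Type*) [Field F] [CharP F p] (g : G) (hg : ∀ x : G, IsConj g x → x ∉ Subgroup.centralizer (Cfsg.pCore p G : Set G)) : IsNilpotent (∑ᶠ x ∈ ConjClasses.carrier (ConjClasses.mk g), MonoidAlgebra.single x (1 : F) : MonoidAlgebra F G) := by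
  classical
  haveI := Fintype.ofFinite G
  obtain ⟨M, hM⟩ := Blocks88.exists_isPModular (Fact.out : p.Prime)
  have := BlocksCore.isPrime hM
  set s : MonoidAlgebra ℤ G :=
    ∑ x ∈ Finset.univ.filter (fun x => IsConj g x), MonoidAlgebra.single x 1 with hs
  have hs0 : ∀ x, ((s.coeff x : ℤ) : ℂ) = BlocksCore.classInd g x := by
    intro x
    rw [hs, MonoidAlgebra.coeff_sum]
    by_cases hx : IsConj g x
    · rw [BlocksCore.classInd_apply_of_isConj hx, Finsupp.finsetSum_apply]
      simp only [MonoidAlgebra.coeff_single]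
      rw [Finset.sum_eq_single_of_mem x (Finset.mem_filter.mpr ⟨Finset.mem_univ x, hx⟩)
          (fun y _ hy => Finsupp.single_eq_of_ne (Ne.symm hy))]
      simp
    · rw [BlocksCore.classInd_apply_of_not_isConj hx, Finsupp.finsetSum_apply, Finset.sum_eq_zero]
      · simp
      · intro y hy
        exact Finsupp.single_eq_of_ne fun h => hx (h ▸ (Finset.mem_filter.mp hy).2)
  have hmul : ∀ (a b : MonoidAlgebra ℤ G) (x : G),
      (((a * b).coeff x : ℤ) : ℂ) =
        BlocksCore.conv (fun t => ((a.coeff t : ℤ) : ℂ)) (fun t => ((b.coeff t : ℤ) : ℂ)) x := by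
    intro a b x
    rw [BlocksCore.conv_apply, MonoidAlgebra.coeff_mul, Finsupp.sum_fintype _ _ (by simp)]
    push_cast
    refine Finset.sum_congr rfl fun t _ => ?_
    rw [Finsupp.sum_fintype _ _ (by simp), Fintype.sum_eq_single (t⁻¹ * x)]
    · simp
    · intro u hu
      rw [if_neg]
      intro h
      exact hu (by rw [← h]; group)
  have hcl := BlocksCore.isIntClassFun_classInd (M := M) g
  have hpow : ∀ n : ℕ, IsClassFunction G (fun t => (((s ^ (n + 1)).coeff t : ℤ) : ℂ)) ∧
      ∀ χ : IrrCharacter G, BlocksCore.omega (χ : G → ℂ)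
        (fun t => (((s ^ (n + 1)).coeff t : ℤ) : ℂ)) =
          BlocksCore.omega (χ : G → ℂ) (BlocksCore.classInd g) ^ (n + 1) := by
    intro n
    induction n with
    | zero =>
      have e : (fun t => (((s ^ (0 + 1)).coeff t : ℤ) : ℂ)) = BlocksCore.classInd g := by
        funext t
        rw [zero_add, pow_one, hs0]
      rw [e]
      exact ⟨hcl.1, fun χ => by simp⟩
    | succ n ih =>
      have e : (fun t => (((s ^ (n + 1 + 1)).coeff t : ℤ) : ℂ)) =
          BlocksCore.conv (fun t => (((s ^ (n + 1)).coeff t : ℤ) : ℂ)) (BlocksCore.classInd g) := by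
        funext t
        rw [pow_succ, hmul, funext hs0]
      rw [e]
      exact ⟨BlocksCore.isClassFunction_conv ih.1 hcl.1, fun χ => by
        rw [BlocksCore.omega_conv χ ih.1 hcl.1, ih.2, ← pow_succ]⟩
  obtain ⟨n, d, hdc, hdm, hdv⟩ := BlocksCore.exists_small_pow
    (v := fun χ : IrrCharacter G => BlocksCore.omega (χ : G → ℂ) (BlocksCore.classInd g))
    ⟨_, hcl, fun _ => rfl⟩ (fun χ => by
      rw [BlocksCore.omega_classInd (BlocksCore.irr_class χ)]
      exact BlocksDefect.centralChar_memLocalIdeal_of_notMem (pCore p G) hM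
        Thompson.isPGroup_pCore hg χ)
  have hd := BlocksCore.eq_of_omega_eq (hpow n).1 hdc fun χ => by rw [(hpow n).2, hdv]
  refine ⟨n + 1, ?_⟩
  have himg : (∑ᶠ x ∈ ConjClasses.carrier (ConjClasses.mk g),
      MonoidAlgebra.single x (1 : F) : MonoidAlgebra F G) =
      MonoidAlgebra.mapRingHom G (Int.castRingHom F) s := by
    rw [finsum_mem_eq_toFinset_sum, hs, map_sum]
    refine Finset.sum_congr ?_ fun x _ => by simp
    ext x
    rw [Set.mem_toFinset, ConjClasses.mem_carrier_iff_mk_eq, ConjClasses.mk_eq_mk_iff_isConj,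
      Finset.mem_filter, isConj_comm]
    simp
  rw [himg, ← map_pow]
  ext x
  rw [MonoidAlgebra.coeff_mapRingHom, eq_intCast]
  have h1 : MemLocalIdeal M ((((s ^ (n + 1)).coeff x : ℤ) : ℂ)) := by
    have := hdm x
    rwa [← hd] at this
  rw [BlocksCore.memLocalIdeal_intCast_iff hM] at h1
  simpa using (CharP.intCast_eq_zero_iff F p _).mpr h1

end Cfsg.Agent.S0905
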