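import Cfsg.Statements.S0906
import Cfsg.Agent.Lib.BlocksCore.Ring

set_option autoImplicit false
open Cfsg

namespace Cfsg.Agent.S0906

/-- Let B be a block of the finite group G relative to a maximal ideal M of the algebraic integers containing the prime p. Then some element g represents a defect class of B: the idempotent coefficient of B at g is a local integer not in the local ideal at M, and the central characters of the members of B at g are not in the local ideal. -/
theorem result {G : Type*} [Group G] [Finite G] (p : ℕ) [Fact p.Prime] (M : Ideal Cfsg.AlgInt) (hM : Cfsg.IsPModular p M) (B : Set (Cfsg.IrrCharacter G)) (hB : Cfsg.IsPBlock M B) : ∃ g : G, Cfsg.IsDefectClass M B g := by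
  classical
  haveI := Fintype.ofFinite G
  have := BlocksCore.isPrime hM
  obtain ⟨χ, hχ⟩ := BlocksCore.isPBlock_nonempty hB
  have he := BlocksCore.isIntClassFun_blockCoeff hM hB
  have h1 := BlocksCore.omega_blockCoeff B χ
  rw [Set.indicator_of_mem hχ, Pi.one_apply] at h1
  by_contra hno
  push Not at hno
  haveI : Finite (ConjClasses G) := Finite.of_surjective _ ConjClasses.mk_surjective
  haveI := Fintype.ofFinite (ConjClasses G)
  rw [BlocksCore.omega_eq_sum_classes _ he.1] at h1
  refine BlocksCore.not_memLocalIdeal_one (M := M) (h1 ▸ BlocksCore.memLocalIdeal_sum fun C _ => ?_)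
  rw [BlocksCore.omega_classInd (BlocksCore.irr_class χ)]
  by_cases hc : Cfsg.MemLocalIdeal M (Cfsg.blockCoeff B (Quotient.out C))
  · exact BlocksCore.memLocalIdeal_mul_right hc (BlocksCore.centralChar_memLocalRing χ _)
  · by_cases hk : Cfsg.MemLocalIdeal M (Cfsg.centralChar (χ : G → ℂ) (Quotient.out C))
    · exact BlocksCore.memLocalIdeal_mul_left (he.2 _) hk
    · exfalso
      refine hno (Quotient.out C) ⟨he.2 _, hc, fun ψ hψ hm => hk ?_⟩
      have := BlocksCore.memLocalIdeal_add (BlocksCore.sameBlock_of_mem hB hχ hψ (Quotient.out C)) hm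
      rwa [sub_add_cancel] at this

end Cfsg.Agent.S0906
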