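import Cfsg.Statements.S0926
import Cfsg.Agent.Lib.BlocksCore.Height
import Cfsg.Agent.S0924

set_option autoImplicit false
open Cfsg

namespace Cfsg.Agent.S0926

/-- Let B be a block of the finite group G with defect group D (relative to a maximal ideal M of the algebraic integers containing p), let χ ∈ B have height zero, and let x be a p-element. Then some conjugate of x lies in D if and only if χ does not vanish on the whole p-section of x (the elements whose p-part is conjugate to x). -/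
theorem result {G : Type*} [Group G] [Finite G] (p : ℕ) [Fact p.Prime] (M : Ideal Cfsg.AlgInt) (hM : Cfsg.IsPModular p M) (B : Set (Cfsg.IrrCharacter G)) (hB : Cfsg.IsPBlock M B) (D : Subgroup G) (hD : Cfsg.IsDefectGroup p M B D) (χ : Cfsg.IrrCharacter G) (hχ : χ ∈ B) (h0 : Cfsg.blockHeight p B (χ : G → ℂ) = 0) (x : G) (hx : ∃ k : ℕ, orderOf x = p ^ k) : (∃ g : G, g * x * g⁻¹ ∈ D) ↔ ∃ u : G, (∃ z : G, Cfsg.IsPPart p u z ∧ IsConj x z) ∧ (χ : G → ℂ) u ≠ 0 := by
  classical
  haveI := Fintype.ofFinite G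
  have := BlocksCore.isPrime hM
  constructor
  · rintro ⟨g, hg⟩
    obtain ⟨y, hy, hD'⟩ := BlocksDefect.isDefectGroup_iff.mp hD
    obtain ⟨k, hk⟩ := hx
    have hk' : orderOf (g * x * g⁻¹) = p ^ k := by rw [BlocksDefect.orderOf_conjugate, hk]
    have hc : Commute (g * x * g⁻¹) y := Subgroup.mem_centralizer_singleton_iff.mp (hD'.le_centralizer hg)
    refine ⟨g * x * g⁻¹ * y, ⟨g * x * g⁻¹, ⟨y, rfl, hc, ⟨k, hk'⟩,
      BlocksCore.defectClass_regular hM hB hy⟩, isConj_iff.mpr ⟨g, rfl⟩⟩, fun h => ?_⟩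
    refine BlocksCore.height_zero_apply_unit hM hB hy hc hk' hχ h0 ?_
    rw [h]
    exact BlocksCore.memLocalIdeal_zero
  · rintro ⟨u, ⟨z, hz, hxz⟩, hne⟩
    by_contra hno
    push Not at hno
    refine hne (S0924.result p M hM χ u z hz fun E hE hzE => ?_)
    rw [← BlocksCore.isPBlock_eq_blockOf hB hχ] at hE
    obtain ⟨a, ha⟩ := BlocksDefect.isConj_defectGroup hM hB hE hD
    obtain ⟨c, rfl⟩ := isConj_iff.mp hxz
    refine hno (a * c) ?_
    rw [← ha, BlocksDefect.map_conj_mem_iff]
    convert hzE using 1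
    group

end Cfsg.Agent.S0926
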