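import Cfsg.Statements.S0927
import Cfsg.Agent.Lib.BlocksCore.Height

set_option autoImplicit false
open Cfsg

namespace Cfsg.Agent.S0927

/-- Let B be a block of the finite group G relative to a maximal ideal M of the algebraic integers containing p, let y represent a defect class of B and let P be a Sylow p-subgroup of the centralizer of y. (a) If x ∈ P and χ ∈ B has height zero, then χ (x * y) is not in the local ideal at M. (b) If x lies in the centre of P, then for every χ ∈ B the central character of χ at x * y is not in the local ideal at M. -/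
theorem result {G : Type*} [Group G] [Finite G] (p : ℕ) [Fact p.Prime] (M : Ideal Cfsg.AlgInt) (hM : Cfsg.IsPModular p M) (B : Set (Cfsg.IrrCharacter G)) (hB : Cfsg.IsPBlock M B) (y : G) (hy : Cfsg.IsDefectClass M B y) (P : Sylow p (Subgroup.centralizer ({y} : Set G))) (x : Subgroup.centralizer ({y} : Set G)) (hx : x ∈ (P : Subgroup (Subgroup.centralizer ({y} : Set G)))) : (∀ χ ∈ B, Cfsg.blockHeight p B (χ : G → ℂ) = 0 → ¬ Cfsg.MemLocalIdeal M ((χ : G → ℂ) ((x : G) * y))) ∧ ((∀ w ∈ (P : Subgroup (Subgroup.centralizer ({y} : Set G))), x * w = w * x) → ∀ χ ∈ B, ¬ Cfsg.MemLocalIdeal M (Cfsg.centralChar (χ : G → ℂ) ((x : G) * y))) := by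
  classical
  haveI := Fintype.ofFinite G
  have := BlocksCore.isPrime hM
  obtain ⟨k, hk⟩ := IsPGroup.iff_orderOf.mp P.isPGroup' ⟨x, hx⟩
  have hkx : orderOf (x : G) = p ^ k := by
    rw [Subgroup.orderOf_coe, ← Subgroup.orderOf_mk x hx]
    exact hk
  have hxy : Commute (x : G) y := Subgroup.mem_centralizer_singleton_iff.mp x.2
  refine ⟨fun χ hχ h0 => BlocksCore.height_zero_apply_unit hM hB hy hxy hkx hχ h0, fun hcen χ hχ => ?_⟩
  obtain ⟨θ, hθ, hθ0⟩ := BlocksDefect.exists_height_zero hM hB
  refine BlocksDefect.centralChar_unit_of_mem hM hB hθ hχ ?_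
  have hu := BlocksCore.height_zero_apply_unit hM hB hy hxy hkx hθ hθ0
  have hyreg := BlocksCore.defectClass_regular hM hB hy
  have hle : Subgroup.centralizer ({(x : G) * y} : Set G) ≤ Subgroup.centralizer ({y} : Set G) := by
    intro c hc
    rw [Subgroup.mem_centralizer_singleton_iff] at hc ⊢
    obtain ⟨e, he1, he2⟩ := Nat.chineseRemainder
      (Nat.Coprime.pow_left k (hM.1.coprime_iff_not_dvd.mpr hyreg)) 0 1
    have h1 : ((x : G) * y) ^ e = y := by
      rw [hxy.mul_pow]
      rw [show (x : G) ^ e = (x : G) ^ 0 from pow_eq_pow_iff_modEq.mpr (hkx ▸ he1),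
        show y ^ e = y ^ 1 from pow_eq_pow_iff_modEq.mpr he2, pow_zero, one_mul, pow_one]
    have h2 : Commute c ((x : G) * y) := hc
    have h3 := h2.pow_right e
    rwa [h1] at h3
  have hPle : (P : Subgroup (Subgroup.centralizer ({y} : Set G))).map
      (Subgroup.centralizer ({y} : Set G)).subtype ≤ Subgroup.centralizer ({(x : G) * y} : Set G) := by
    rintro _ ⟨w, hw, rfl⟩
    rw [Subgroup.mem_centralizer_singleton_iff]
    have h1 : (x : G) * w = w * x := congrArg Subtype.val (hcen w hw)
    have h2 : (w : G) * y = y * w := Subgroup.mem_centralizer_singleton_iff.mp w.2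
    show (w : G) * (x * y) = x * y * w
    rw [← mul_assoc, ← h1, mul_assoc, h2, mul_assoc]
  have hfac : (Nat.card (Subgroup.centralizer ({(x : G) * y} : Set G))).factorization p =
      Cfsg.blockDefect p B := by
    rw [← BlocksCore.defectClass_factorization hM hB hy]
    refine le_antisymm ((Nat.factorization_le_iff_dvd Nat.card_pos.ne' Nat.card_pos.ne').mpr
      (Subgroup.card_dvd_of_le hle) p) ?_
    have h1 := Subgroup.card_dvd_of_le hPle
    rw [Nat.card_congr (Subgroup.equivMapOfInjective _ _ Subtype.val_injective).toEquiv.symm,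
      P.card_eq_multiplicity] at h1
    exact (hM.1.pow_dvd_iff_le_factorization Nat.card_pos.ne').mp h1
  have h1 := BlocksDefect.factorization_of_mul_eq hM
    (Subgroup.index_ne_zero_of_finite (H := Subgroup.centralizer ({(x : G) * y} : Set G)))
    (BlocksCore.charDegree_pos θ).ne' (BlocksCore.memLocalRing_of_isIntegral
      (BlocksCore.isIntegral_irr θ _)) hu (BlocksCore.centralChar_memLocalRing θ _)
    (BlocksDefect.apply_one_mul_centralChar θ _).symm
  refine h1.2 ?_
  rw [BlocksDefect.index_factorization, hfac, BlocksCore.height_zero_degree hθ hθ0]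

end Cfsg.Agent.S0927
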