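import Cfsg.Statements.S0930
import Cfsg.Agent.Lib.BlocksCore.DefectFusion
import Cfsg.Agent.S0927

set_option autoImplicit false
open Cfsg

namespace Cfsg.Agent.S0930

/-- Let H be a subgroup of the finite group G and fix a maximal ideal M of the algebraic integers containing the prime p. If the block b of H with defect group D induces the block B of G with defect group P, then every element of the centre of P is conjugate in G to an element of the centre of D. -/
theorem result {G : Type*} [Group G] [Finite G] (p : ℕ) [Fact p.Prime] (M : Ideal Cfsg.AlgInt) (hM : Cfsg.IsPModular p M) (H : Subgroup G) (b : Set (Cfsg.IrrCharacter H)) (B : Set (Cfsg.IrrCharacter G)) (hind : Cfsg.IsInducedBlock M H b B) (D : Subgroup H) (hD : Cfsg.IsDefectGroup p M b D) (P : Subgroup G) (hP : Cfsg.IsDefectGroup p M B P) (x : G) (hx : x ∈ P) (hxc : ∀ w ∈ P, x * w = w * x) : ∃ g : G, g * x * g⁻¹ ∈ D.map H.subtype ∧ ∀ w ∈ D.map H.subtype, (g * x * g⁻¹) * w = w *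 (g * x * g⁻¹) := by
  classical
  haveI := Fintype.ofFinite G
  haveI := Fintype.ofFinite H
  have := BlocksCore.isPrime hM
  obtain ⟨y, hy, S, rfl⟩ := hP
  obtain ⟨x₀, hx₀, rfl⟩ := hx
  obtain ⟨ξ, hξ⟩ := BlocksCore.isPBlock_nonempty hind.1
  obtain ⟨χ, hχ⟩ := BlocksCore.isPBlock_nonempty hind.2.1
  obtain ⟨k, hk⟩ := IsPGroup.iff_orderOf.mp S.isPGroup' ⟨x₀, hx₀⟩
  have hk' : orderOf (x₀ : G) = p ^ k := by
    rw [Subgroup.orderOf_coe, ← Subgroup.orderOf_mk x₀ hx₀]
    exact hk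
  have hpart : IsPPart p ((x₀ : G) * y) (x₀ : G) :=
    ⟨y, rfl, Subgroup.mem_centralizer_singleton_iff.mp x₀.2, ⟨k, hk'⟩,
      BlocksCore.defectClass_regular hM hind.2.1 hy⟩
  have hu := (Cfsg.Agent.S0927.result p M hM B hind.2.1 y hy S x₀ hx₀).2
    (fun w hw => Subtype.ext (hxc (w : G) ⟨w, hw, rfl⟩)) χ hχ
  have hcl := BlocksCore.isIntClassFun_classInd (M := M) ((x₀ : G) * y)
  have hu' : ¬ MemLocalIdeal M (BlocksCore.omega (ξ : H → ℂ)
      (BlocksDefect.res H (BlocksCore.classInd ((x₀ : G) * y)))) := fun h => hu (by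
    have h2 := BlocksCore.memLocalIdeal_sub h (BlocksDefect.omega_induced hM hind hξ hχ hcl)
    rwa [sub_sub_cancel, BlocksCore.omega_classInd (BlocksCore.irr_class χ)] at h2)
  obtain ⟨h, hh1, hh2⟩ := BlocksDefect.exists_unit_class hM ξ
    (BlocksDefect.isIntClassFun_res H hcl) hu'
  have hconj : IsConj ((x₀ : G) * y) (h : G) := by
    by_contra hn
    refine hh1 ?_
    show MemLocalIdeal M (BlocksCore.classInd ((x₀ : G) * y) (h : G))
    rw [BlocksCore.classInd_apply_of_not_isConj hn]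
    exact BlocksCore.memLocalIdeal_zero
  obtain ⟨x', hx'h, hx'C, hx'p⟩ :=
    BlocksCore.exists_conj_mem_centralizer_defectGroup hM hind.1 hD hξ hh2
  obtain ⟨c, hc⟩ := isConj_iff.mp (hconj.trans (H.subtype.map_isConj hx'h))
  obtain ⟨w, hw⟩ := BlocksCore.exists_pPart hM.1 x'
  obtain ⟨hwD, hwc⟩ := hx'p w hw
  have hwG : IsPPart p (x' : G) (w : G) := by
    obtain ⟨v, hv, hcm, hk, hm⟩ := hw
    exact ⟨v, congrArg Subtype.val hv, congrArg Subtype.val hcm,
      by rwa [Subgroup.orderOf_coe], by rwa [Subgroup.orderOf_coe]⟩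
  have hwx : c * (x₀ : G) * c⁻¹ = (w : G) := by
    have h1 := BlocksCore.isPPart_conj hpart c
    rw [hc] at h1
    exact BlocksCore.isPPart_unique hM.1 h1 hwG
  refine ⟨c, hwx ▸ ⟨w, hwD, rfl⟩, ?_⟩
  rintro _ ⟨v, hv, rfl⟩
  show c * (x₀ : G) * c⁻¹ * (v : G) = (v : G) * (c * (x₀ : G) * c⁻¹)
  rw [hwx]
  exact congrArg Subtype.val (hwc v hv)

end Cfsg.Agent.S0930
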