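import Cfsg.Statements.S0931
import Cfsg.Agent.Lib.BlocksDefect.Induced
import Cfsg.Agent.S0930

set_option autoImplicit false
open Cfsg

namespace Cfsg.Agent.S0931

/-- Let H be a subgroup of the finite group G and fix a maximal ideal M of the algebraic integers containing the prime p. If the block b of H induces the block B of G, then b has defect 0 if and only if B has defect 0. -/
theorem result {G : Type*} [Group G] [Finite G] (p : ℕ) [Fact p.Prime] (M : Ideal Cfsg.AlgInt) (hM : Cfsg.IsPModular p M) (H : Subgroup G) (b : Set (Cfsg.IrrCharacter H)) (B : Set (Cfsg.IrrCharacter G)) (hind : Cfsg.IsInducedBlock M H b B) : Cfsg.blockDefect p b = 0 ↔ Cfsg.blockDefect p B = 0 := by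
  have := BlocksCore.isPrime hM
  obtain ⟨hb, hB⟩ := BlocksDefect.isPBlock_of_induced hind
  obtain ⟨D, hD⟩ := BlocksDefect.exists_isDefectGroup hM hb
  obtain ⟨P, hP, hDP⟩ := BlocksDefect.exists_defectGroup_ge hM hind hD
  have hp := Fact.out (p := p.Prime)
  have hDc := BlocksDefect.defectGroup_natCard hM hb hD
  have hPc := BlocksDefect.defectGroup_natCard hM hB hP
  constructor
  · intro h0
    rw [h0, pow_zero, Subgroup.card_eq_one] at hDc
    by_contra hne
    have : Nontrivial P := by
      rw [← Finite.one_lt_card_iff_nontrivial, hPc]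
      exact one_lt_pow₀ hp.one_lt hne
    have := (BlocksDefect.isPGroup_of_isDefectGroup hP).center_nontrivial
    obtain ⟨⟨x, hx⟩, hx1⟩ := exists_ne (1 : Subgroup.center P)
    obtain ⟨g, hg, -⟩ := Cfsg.Agent.S0930.result p M hM H b B hind D hD P hP (x : G) x.2
      (fun w hw => congrArg Subtype.val (Subgroup.mem_center_iff.mp hx ⟨w, hw⟩).symm)
    rw [hDc, Subgroup.map_bot, Subgroup.mem_bot, conj_eq_one_iff] at hg
    exact hx1 (Subtype.ext (Subtype.ext hg))
  · intro h0
    rw [h0, pow_zero, Subgroup.card_eq_one] at hPc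
    rw [hPc, le_bot_iff, Subgroup.map_eq_bot_iff_of_injective _ H.subtype_injective] at hDP
    rw [hDP, Subgroup.card_bot] at hDc
    exact (pow_eq_one_iff.mp hDc.symm).resolve_left hp.ne_one

end Cfsg.Agent.S0931
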