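import Cfsg.Statements.S0932
import Cfsg.Agent.Lib.BlocksDefect.Induced
import Cfsg.Agent.Lib.CharInd.Basic

set_option autoImplicit false
open Cfsg

namespace Cfsg.Agent.S0932

/-- Let H be a subgroup of the finite group G and ξ a character of H. For every g ∈ G, the sum of ξ h / ξ 1 over the elements h ∈ H that are conjugate in G to g equals the central character at g of the character of G induced from ξ (class size times value divided by degree). -/
theorem result {G : Type*} [Group G] [Fintype G] (H : Subgroup G) (ξ : H → ℂ) (hξ : Cfsg.IsCharacter H ξ) (g : G) : Cfsg.inducedCentralChar H ξ g = Cfsg.centralChar (Cfsg.indFun H ξ) g := by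
  classical
  haveI := Fintype.ofFinite H
  rw [← BlocksCore.omega_classInd (CharInd.isClassFunction_indFun H ξ) g,
    ← BlocksDefect.omega_res_classInd H ξ g, BlocksCore.omega_eq_sum, BlocksCore.omega_eq_sum,
    CharInd.indFun_apply_one]
  have key : ∑ a : G, BlocksCore.classInd g a * Cfsg.indFun H ξ a =
      (H.index : ℂ) * ∑ h : H, BlocksDefect.res H (BlocksCore.classInd g) h * ξ h := by
    have hx : ∀ x : G, ∑ a : G, BlocksCore.classInd g a * Cfsg.extendByZero H ξ (x⁻¹ * a * x) =
        ∑ h : H, BlocksDefect.res H (BlocksCore.classInd g) h * ξ h := by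
      intro x
      calc ∑ a : G, BlocksCore.classInd g a * Cfsg.extendByZero H ξ (x⁻¹ * a * x)
          = ∑ a : G, Cfsg.extendByZero H ξ a * BlocksCore.classInd g a := by
            refine Fintype.sum_equiv ((Equiv.mulLeft x⁻¹).trans (Equiv.mulRight x)) _ _ fun a => ?_
            simp only [Equiv.trans_apply, Equiv.coe_mulLeft, Equiv.coe_mulRight]
            have h1 := BlocksCore.isClassFunction_classInd g a x⁻¹
            rw [inv_inv] at h1
            rw [h1, mul_comm]
        _ = ∑ h : H, ξ h * BlocksCore.classInd g (h : G) :=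
            CharInd.sum_extendByZero_mul H ξ (BlocksCore.classInd g)
        _ = _ := Finset.sum_congr rfl fun h _ => mul_comm _ _
    simp only [CharInd.indFun_apply, Finset.mul_sum]
    rw [Finset.sum_comm]
    simp only [mul_left_comm (BlocksCore.classInd g _) _, ← Finset.mul_sum, hx]
    rw [Finset.sum_const, Finset.card_univ, Fintype.card_eq_nat_card, nsmul_eq_mul,
      ← Subgroup.index_mul_card H, Nat.cast_mul]
    field_simp [(Nat.cast_ne_zero (R := ℂ)).2 (Nat.card_pos (α := H)).ne']
  rw [key, mul_div_mul_left _ _ (Nat.cast_ne_zero.mpr H.index_ne_zero_of_finite)]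

end Cfsg.Agent.S0932
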