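import Cfsg.Statements.S0933
import Cfsg.Agent.S0932

set_option autoImplicit false
open Cfsg

namespace Cfsg.Agent.S0933

/-- Let H be a subgroup of the finite group G and ξ an irreducible character of H such that the induced function ξ^G is an irreducible character of G. Then, relative to any maximal ideal M of the algebraic integers containing the prime p, the block of ξ induces the block of ξ^G. -/
theorem result {G : Type*} [Group G] [Fintype G] (p : ℕ) [Fact p.Prime] (M : Ideal Cfsg.AlgInt) (hM : Cfsg.IsPModular p M) (H : Subgroup G) (ξ : Cfsg.IrrCharacter H) (hind : Cfsg.IsIrrCharacter G (Cfsg.indFun H (ξ : H → ℂ))) : Cfsg.IsInducedBlock M H (Cfsg.blockOf M (ξ : H → ℂ)) (Cfsg.blockOf M (Cfsg.indFun H (ξ : H → ℂ))) := by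
  classical
  haveI := Fintype.ofFinite H
  have := BlocksCore.isPrime hM
  refine ⟨BlocksCore.isPBlock_blockOf ξ, ⟨⟨_, hind⟩, rfl⟩, fun η hη χ hχ g => ?_⟩
  have h32 : Cfsg.inducedCentralChar H (ξ : H → ℂ) g =
      Cfsg.centralChar (Cfsg.indFun H (ξ : H → ℂ)) g :=
    S0932.result H _ (CharCore.irr_isCharacter ξ) g
  have h1 := BlocksCore.omega_sub_memLocalIdeal hη
    (BlocksDefect.isIntClassFun_res H (BlocksCore.isIntClassFun_classInd (M := M) g))
  rw [BlocksDefect.omega_res_classInd, BlocksDefect.omega_res_classInd, h32] at h1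
  have := BlocksCore.memLocalIdeal_sub (hχ g) h1
  rwa [sub_sub_sub_cancel_left] at this

end Cfsg.Agent.S0933
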