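import Cfsg.Statements.S0944
import Cfsg.Agent.Lib.BlocksDefect.Kernel
-- import your own Cfsg.Agent.* helpers here

set_option autoImplicit false
open Cfsg

namespace Cfsg.Agent.S0944

/-- Let χ be an irreducible character of the finite group G and u an involution. Then χ u is a rational integer n with n ≡ χ 1 (mod 2). -/
theorem result {G : Type*} [Group G] [Finite G] (χ : Cfsg.IrrCharacter G) (u : G) (hu : orderOf u = 2) : ∃ n : ℤ, (χ : G → ℂ) u = (n : ℂ) ∧ (2 : ℤ) ∣ (Cfsg.charDegree (χ : G → ℂ) : ℤ) - n := by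
  have := Fintype.ofFinite G
  obtain ⟨n, ρ, -, hρ⟩ := χ.2
  have hu2 : ρ u ^ 2 = 1 := by rw [← map_pow, ← hu, pow_orderOf_eq_one, map_one]
  obtain ⟨b, ω, hb⟩ := CharCore.exists_eigenbasis (ρ u) two_pos hu2
  have htr : (χ : G → ℂ) u = ∑ i, ω i := by
    rw [← hρ]
    exact CharCore.trace_eq_sum_of_eigenbasis b ω (ρ u) fun i => (hb i).2
  have hdeg : Cfsg.charDegree (χ : G → ℂ) = Module.finrank ℂ (Fin n → ℂ) := by
    rw [← hρ]
    simp [Cfsg.charDegree]
  have hω : ∀ i, ∃ z : ℤ, ω i = z ∧ (2 : ℤ) ∣ 1 - z := fun i => by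
    rcases sq_eq_one_iff.mp (hb i).1 with h | h
    · exact ⟨1, by simp [h], by norm_num⟩
    · exact ⟨-1, by simp [h], by norm_num⟩
  choose z hz hz2 using hω
  refine ⟨∑ i, z i, by rw [htr, Int.cast_sum]; exact Finset.sum_congr rfl fun i _ => hz i, ?_⟩
  have := Finset.dvd_sum (s := Finset.univ) (fun i _ => hz2 i)
  rw [Finset.sum_sub_distrib] at this
  simpa [hdeg] using this

end Cfsg.Agent.S0944
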