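import Cfsg.Statements.S0946
import Cfsg.Agent.ZStar.Homocyclic

set_option autoImplicit false
open Cfsg

namespace Cfsg.Agent.S0946

/-- Let P be a Sylow 2-subgroup of the finite group G isomorphic to Z/2^m × Z/2^m with m ≥ 1. Then either P has a normal complement in G, or all involutions of G are conjugate. -/
theorem result {G : Type*} [Group G] [Finite G] (P : Sylow 2 G) (m : ℕ) (hm : 1 ≤ m) (e : (P : Subgroup G) ≃* Multiplicative (ZMod (2 ^ m) × ZMod (2 ^ m))) : (∃ N : Subgroup G, N.Normal ∧ Subgroup.IsComplement' N (P : Subgroup G)) ∨ ∀ s t : G, orderOf s = 2 → orderOf t = 2 → IsConj s t := by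
  haveI : Fact (Nat.Prime 2) := ⟨Nat.prime_two⟩
  obtain ⟨a, b, h⟩ := ZStar.threeInv_of_equiv P hm e
  rcases h.relIndex_dichotomy with ⟨hle, -⟩ | ⟨hall, -⟩
  · exact Or.inl ⟨_, inferInstance, MonoidHom.ker_transferSylow_isComplement' P hle⟩
  · refine Or.inr fun s t hs ht => ?_
    obtain ⟨s', hs', hcs, hso⟩ := Involution.exists_isConj_mem_sylow P hs
    obtain ⟨t', ht', hct, hto⟩ := Involution.exists_isConj_mem_sylow P ht
    obtain ⟨g, -, hg⟩ := hall s' hs' (Involution.mul_self_of_orderOf hso)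
      (Involution.ne_one_of_orderOf hso)
    obtain ⟨g', -, hg'⟩ := hall t' ht' (Involution.mul_self_of_orderOf hto)
      (Involution.ne_one_of_orderOf hto)
    exact hcs.trans ((((isConj_iff.mpr ⟨g, hg⟩ : IsConj a s').symm).trans
      (isConj_iff.mpr ⟨g', hg'⟩ : IsConj a t')).trans hct.symm)

end Cfsg.Agent.S0946
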