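import Cfsg.Statements.S0950
import Cfsg.Agent.ZStar.SmallTwo
import Cfsg.Agent.Lib.Transfer.Residual

set_option autoImplicit false
open Cfsg

namespace Cfsg.Agent.S0950

/-- Let S be a Sylow 2-subgroup of the finite group G that is isomorphic to the quaternion group of order 8, and suppose S has no normal complement in G. Then any two subgroups of order 4 of S are conjugate by an element of the normalizer of S. -/
theorem result {G : Type*} [Group G] [Finite G] (S : Sylow 2 G) (e : (S : Subgroup G) ≃* QuaternionGroup 2) (hnc : ∀ N : Subgroup G, N.Normal → ¬ Subgroup.IsComplement' N (S : Subgroup G)) (A B : Subgroup G) (hA : A ≤ S) (hB : B ≤ S) (hA4 : Nat.card A = 4) (hB4 : Nat.card B = 4) : ∃ n ∈ Subgroup.normalizer ((S : Subgroup G) : Set G), B = A.map (MulAut.conj n).toMonoidHom := by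
  haveI : Fact (Nat.Prime 2) := ⟨Nat.prime_two⟩
  have hno : ¬ Cfsg.HasNormalPComplement 2 G := by
    rintro ⟨P, N, hN, hcompl⟩
    obtain ⟨g, hg⟩ := MulAction.exists_smul_eq G P S
    refine hnc N hN (Subgroup.isComplement'_of_coprime ?_ ?_)
    · rw [← hg, Sylow.coe_subgroup_smul]
      exact (congrArg (Nat.card N * ·) (Subgroup.card_map_of_injective
        (MulAut.conj g).injective)).trans hcompl.card_mul
    · rw [← hcompl.index_eq_card]
      obtain ⟨k, hk⟩ := IsPGroup.iff_card.mp S.2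
      rw [hk]
      exact Nat.Coprime.pow_right k (Nat.coprime_comm.mp
        (Nat.prime_two.coprime_iff_not_dvd.mpr P.not_dvd_index))
  obtain ⟨Q, a, b, y, hQS, hr, haQ, hyQ, hform⟩ :=
    ZStar.exists_rotation_of_no_complement S e hno
  have hbQ : b ∈ Q := hr.conj_a ▸ (Subgroup.mem_normalizer_iff.mp hyQ a).mp haQ
  have hS8 : Nat.card (S : Subgroup G) = 8 := by
    rw [Nat.card_congr e.toEquiv, Nat.card_eq_fintype_card, QuaternionGroup.card]
  have ha4 : orderOf a = 4 := orderOf_eq_prime_pow (p := 2) (n := 1)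
    (by rw [pow_one, pow_two]; exact hr.sq_ne)
    (by rw [show 2 ^ (1 + 1) = 2 + 2 from rfl, pow_add, pow_two]; exact hr.pow_four)
  have ht : orderOf (a * a) = 2 :=
    Involution.orderOf_eq_two_iff'.mpr ⟨hr.pow_four, hr.sq_ne⟩
  have hf := ZStar.q8Facts e (hQS (mul_mem haQ haQ)) ht
  have hb2 : b * b ≠ 1 := by rw [hr.sq_eq]; exact hr.sq_ne
  have hb4 : orderOf b = 4 := by
    rw [← hr.conj_a, ← MulAut.conj_apply, MulEquiv.orderOf_eq, ha4]
  have hba : b ≠ a ∧ b ≠ a⁻¹ := by
    have hne : a ≠ a⁻¹ := fun h => hr.sq_ne (eq_inv_iff_mul_eq_one.mp h)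
    constructor <;> intro h <;> have h1 := hr.inverts <;> rw [h] at h1 <;> group at h1
    all_goals exact hne (by simpa using h1)
  -- `Q = S`
  have hQ : (S : Subgroup G) ≤ Q := by
    intro x hx
    by_cases hx2 : x * x = 1
    · rcases hf.sq_eq_one x hx hx2 with h | h
      · rw [h]; exact one_mem _
      · rw [h]; exact mul_mem haQ haQ
    rcases hf.axes a (hQS haQ) b (hQS hbQ) x hx hr.sq_ne hb2 hba.1 hba.2 hx2 with
      h | h | h | h | h | h <;> rw [h]
    exacts [haQ, inv_mem haQ, hbQ, inv_mem hbQ, mul_mem haQ hbQ, inv_mem (mul_mem haQ hbQ)]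
  have hQeq : Q = S := le_antisymm hQS hQ
  subst hQeq
  -- every subgroup of order four is a rotation of `⟨a⟩`
  have key : ∀ C : Subgroup G, C ≤ (S : Subgroup G) → Nat.card C = 4 →
      ∃ k : ℕ, C = (Subgroup.zpowers a).map (MulAut.conj (y ^ k)).toMonoidHom := by
    intro C hC hC4
    obtain ⟨x, hxC, hx2⟩ : ∃ x ∈ C, x * x ≠ 1 := by
      by_contra hno
      simp only [not_exists, not_and, not_not] at hno
      have hsub : C ≤ Subgroup.zpowers (a * a) := fun x hx => by
        rcases hf.sq_eq_one x (hC hx) (hno x hx) with h | h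
        · rw [h]; exact one_mem _
        · rw [h]; exact Subgroup.mem_zpowers _
      have := Subgroup.card_dvd_of_le hsub
      rw [hC4, Nat.card_zpowers, ht] at this
      norm_num at this
    have hx4 : orderOf x = 4 := orderOf_eq_prime_pow (p := 2) (n := 1)
      (by rw [pow_one, pow_two]; exact hx2)
      (by
        rw [show 2 ^ (1 + 1) = 2 + 2 from rfl, pow_add, pow_two, hf.sq x (hC hxC) hx2]
        exact hr.pow_four)
    have hCx : C = Subgroup.zpowers x := (Subgroup.eq_of_le_of_card_ge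
      (Subgroup.zpowers_le.mpr hxC) (by rw [hC4, Nat.card_zpowers, hx4])).symm
    have hy : ∀ k : ℕ, (Subgroup.zpowers a).map (MulAut.conj (y ^ k)).toMonoidHom =
        Subgroup.zpowers (y ^ k * a * (y ^ k)⁻¹) := fun k => by
      rw [MonoidHom.map_zpowers]; rfl
    have h1 : y ^ 1 * a * (y ^ 1)⁻¹ = b := by rw [pow_one]; exact hr.conj_a
    have h2 : y ^ 2 * a * (y ^ 2)⁻¹ = a * b := by
      rw [pow_two, show y * y * a * (y * y)⁻¹ = y * (y * a * y⁻¹) * y⁻¹ by group, hr.conj_a,
        hr.conj_b]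
    rcases hf.axes a (hQS haQ) b (hQS hbQ) x (hC hxC) hr.sq_ne hb2 hba.1 hba.2 hx2 with
      h | h | h | h | h | h
    · exact ⟨0, by rw [hy, hCx, h]; simp⟩
    · exact ⟨0, by rw [hy, hCx, h, Subgroup.zpowers_inv]; simp⟩
    · exact ⟨1, by rw [hy, hCx, h, h1]⟩
    · exact ⟨1, by rw [hy, hCx, h, h1, Subgroup.zpowers_inv]⟩
    · exact ⟨2, by rw [hy, hCx, h, h2]⟩
    · exact ⟨2, by rw [hy, hCx, h, h2, Subgroup.zpowers_inv]⟩
  obtain ⟨i, rfl⟩ := key A hA hA4
  obtain ⟨j, rfl⟩ := key B hB hB4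
  refine ⟨y ^ j * (y ^ i)⁻¹, mul_mem (pow_mem hyQ _) (inv_mem (pow_mem hyQ _)), ?_⟩
  rw [Subgroup.map_map]
  congr 1
  refine MonoidHom.ext fun v => ?_
  simp [mul_assoc]

end Cfsg.Agent.S0950
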