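import Cfsg.Statements.S4571
import Cfsg.Agent.BC85.Contribution
import Cfsg.Agent.Lib.BlocksDefect.Quotient
import Cfsg.Agent.Lib.BlocksDefect.Kernel
import Cfsg.Agent.Lib.BlocksDefect.Covering
import Cfsg.Agent.BC84.PrincipalTwo
-- import your own Cfsg.Agent.* helpers here

set_option autoImplicit false
open Cfsg

namespace Cfsg.Agent.S4571

/-- Let Q be a normal p-subgroup of the finite group G with G = Q·C_G(Q), and M a maximal ideal of the algebraic integers containing p. Then the principal p-blocks of G and of G/Q have the same p-regular rank (the same number of irreducible Brauer characters). -/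
theorem result {G : Type*} [Group G] [Finite G] (p : ℕ) [Fact p.Prime] (M : Ideal Cfsg.AlgInt) (hM : Cfsg.IsPModular p M) (Q : Subgroup G) [Q.Normal] (hQ : IsPGroup p Q) (hsup : Q ⊔ Subgroup.centralizer (Q : Set G) = ⊤) : Cfsg.blockRank p (Cfsg.principalBlock M G) = Cfsg.blockRank p (Cfsg.principalBlock M (G ⧸ Q)) := by
  classical
  have := BlocksCore.isPrime hM
  have := Fintype.ofFinite G
  have := Fintype.ofFinite (G ⧸ Q)
  have hpp := (Fact.out : p.Prime)
  set C := Subgroup.centralizer (Q : Set G) with hC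
  have hCn : C.Normal := Subgroup.normal_centralizer
  have hidx : ∃ k : ℕ, C.index = p ^ k := by
    have h1 : C.index ∣ Nat.card Q := by
      rw [show C.index = C.relIndex (Q ⊔ C) by rw [hsup, Subgroup.relIndex_top_right],
        Subgroup.relIndex_sup_right]
      exact Subgroup.relIndex_dvd_card C Q
    obtain ⟨n, hn⟩ := IsPGroup.iff_card.mp hQ
    obtain ⟨k, -, hk⟩ := (Nat.dvd_prime_pow hpp).mp (hn ▸ h1)
    exact ⟨k, hk⟩
  let L : (G ⧸ Q → ℂ) →ₗ[ℂ] (G → ℂ) :=
    { toFun := fun f g => if Cfsg.IsPRegular p g then f (QuotientGroup.mk g) else 0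
      map_add' := fun f f' => by funext g; simp only [Pi.add_apply]; split_ifs <;> simp
      map_smul' := fun c f => by funext g; simp only [Pi.smul_apply, RingHom.id_apply]; split_ifs <;> simp }
  have hLreg : ∀ η : Cfsg.IrrCharacter (G ⧸ Q), L (Cfsg.pRegularPart p (η : G ⧸ Q → ℂ)) =
      Cfsg.pRegularPart p (BlocksDefect.inflate Q η : G → ℂ) := by
    intro η
    funext g
    show (if Cfsg.IsPRegular p g then Cfsg.pRegularPart p (η : G ⧸ Q → ℂ) (QuotientGroup.mk g) else 0) = _
    by_cases hg : Cfsg.IsPRegular p g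
    · have hg' : Cfsg.IsPRegular p (QuotientGroup.mk g : G ⧸ Q) := fun h =>
        hg (h.trans (orderOf_map_dvd (QuotientGroup.mk' Q) g))
      simp only [Cfsg.pRegularPart, hg, hg', if_true]
      rfl
    · simp only [Cfsg.pRegularPart, hg, if_false]
  set S := Submodule.span ℂ ((fun η : Cfsg.IrrCharacter (G ⧸ Q) => Cfsg.pRegularPart p (η : G ⧸ Q → ℂ)) ''
    Cfsg.principalBlock M (G ⧸ Q)) with hS
  set T := Submodule.span ℂ ((fun χ : Cfsg.IrrCharacter G => Cfsg.pRegularPart p (χ : G → ℂ)) ''
    Cfsg.principalBlock M G) with hT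
  show Module.finrank ℂ T = Module.finrank ℂ S
  have hinflB : ∀ η : Cfsg.IrrCharacter (G ⧸ Q), η ∈ Cfsg.principalBlock M (G ⧸ Q) ↔
      BlocksDefect.inflate Q η ∈ Cfsg.principalBlock M G := by
    intro η
    have e : BlocksDefect.inflate Q (BC84.oneChar (G ⧸ Q)) = BC84.oneChar G := Subtype.ext rfl
    rw [BC84.mem_principalBlock_iff, BC84.mem_principalBlock_iff, ← e]
    exact ⟨BlocksDefect.sameBlock_inflate Q hM, BlocksDefect.sameBlock_of_inflate_pGroup hM hQ hidx⟩
  have hinj : ∀ s ∈ S, L s = 0 → s = 0 := by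
    intro s hs h0
    have hsing : ∀ q : G ⧸ Q, ¬ Cfsg.IsPRegular p q → s q = 0 := by
      intro q hq
      clear h0
      induction hs using Submodule.span_induction with
      | mem v hv => obtain ⟨η, -, rfl⟩ := hv; simp [Cfsg.pRegularPart, hq]
      | zero => rfl
      | add v w _ _ hv hw => simp [hv, hw]
      | smul c v _ hv => simp [hv]
    funext q
    by_cases hq : Cfsg.IsPRegular p q
    · obtain ⟨g, rfl⟩ := QuotientGroup.mk'_surjective Q q
      obtain ⟨x, hx, hxg⟩ := BlocksDefect.exists_regular_in_coset (N := Q) hq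
      have := congrFun h0 x
      simpa [L, Cfsg.IsPRegular, hx, hxg] using this
    · exact hsing q hq
  have hmap : S.map L = T := by
    refine le_antisymm ?_ ?_
    · rw [hS, Submodule.map_span_le]
      rintro _ ⟨η, hη, rfl⟩
      rw [hLreg]
      exact Submodule.subset_span ⟨_, (hinflB η).mp hη, rfl⟩
    · rw [hT, Submodule.span_le]
      rintro _ ⟨χ, hχ, rfl⟩
      let f : G ⧸ Q → ℂ := fun q =>
        if h : ∃ x : G, ¬ p ∣ orderOf x ∧ (QuotientGroup.mk x : G ⧸ Q) = q then (χ : G → ℂ) h.choose else 0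
      have hf : ∀ x : G, ¬ p ∣ orderOf x → f (QuotientGroup.mk x) = (χ : G → ℂ) x := by
        intro x hx
        have hex : ∃ y : G, ¬ p ∣ orderOf y ∧ (QuotientGroup.mk y : G ⧸ Q) = QuotientGroup.mk x := ⟨x, hx, rfl⟩
        show (if h : ∃ y : G, ¬ p ∣ orderOf y ∧ (QuotientGroup.mk y : G ⧸ Q) = QuotientGroup.mk x then (χ : G → ℂ) h.choose else 0) = _
        rw [dif_pos hex]
        exact congrArg (χ : G → ℂ) (BlocksDefect.eq_of_regular_of_coset hQ hex.choose_spec.1 hx
          (BlocksDefect.regular_mem_centralizer hidx hex.choose_spec.1) hex.choose_spec.2)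
      have hord : ∀ (x c : G), orderOf (c * x * c⁻¹) = orderOf x := fun x c => (MulAut.conj c).orderOf_eq x
      have hfc : Cfsg.IsClassFunction (G ⧸ Q) f := by
        intro q r
        obtain ⟨c, rfl⟩ := QuotientGroup.mk'_surjective Q r
        by_cases h : ∃ x : G, ¬ p ∣ orderOf x ∧ (QuotientGroup.mk x : G ⧸ Q) = q
        · obtain ⟨x, hx, rfl⟩ := h
          show f (QuotientGroup.mk (c * x * c⁻¹)) = f (QuotientGroup.mk x)
          rw [hf x hx, hf _ (by rwa [hord]), CharCore.irr_isClassFunction χ x c]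
        · show f _ = f q
          rw [show f q = 0 from dif_neg h]
          refine dif_neg fun ⟨y, hy, hyq⟩ => h ⟨c⁻¹ * y * c⁻¹⁻¹, by rwa [hord], ?_⟩
          rw [QuotientGroup.mk_mul, QuotientGroup.mk_mul, QuotientGroup.mk_inv, hyq]
          simp [mul_assoc]
      set c := fun η : Cfsg.IrrCharacter (G ⧸ Q) => Cfsg.classInner f (η : G ⧸ Q → ℂ) with hc
      have h1 : Cfsg.pRegularPart p (χ : G → ℂ) =
          ∑ η, c η • Cfsg.pRegularPart p (BlocksDefect.inflate Q η : G → ℂ) := by
        funext g
        simp only [Finset.sum_apply, Pi.smul_apply, smul_eq_mul, Cfsg.pRegularPart]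
        by_cases hg : Cfsg.IsPRegular p g
        · simp only [hg, if_true]
          have h2 := congrFun (CharCore.eq_sum_classInner hfc) (QuotientGroup.mk g)
          simp only [Finset.sum_apply, Pi.smul_apply, smul_eq_mul] at h2
          rw [← hf g hg, h2]
          rfl
        · simp only [hg, if_false, mul_zero, Finset.sum_const_zero]
      let B := Cfsg.principalBlock M G
      have hB : Cfsg.IsPBlock M B := BlocksCore.isPBlock_blockOf (BC84.oneChar G)
      let proj : (G → ℂ) → (G → ℂ) := fun F =>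
        ∑ ψ : Cfsg.IrrCharacter G, (if ψ ∈ B then Cfsg.classInner F (ψ : G → ℂ) else 0) • (ψ : G → ℂ)
      have hproj : ∀ θ : Cfsg.IrrCharacter G, proj (Cfsg.pRegularPart p (θ : G → ℂ)) =
          if θ ∈ B then Cfsg.pRegularPart p (θ : G → ℂ) else 0 := by
        intro θ
        funext x
        simp only [proj, Finset.sum_apply, Pi.smul_apply, smul_eq_mul, ← BC85.prj_def]
        split_ifs with hθ
        · rw [BC85.pRegularPart_eq_sum]
          refine Finset.sum_congr rfl fun ψ _ => ?_
          split_ifs with hψ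
          · rfl
          · rw [BC85.prj_eq_zero_of_notMem hM hB hθ hψ]
        · refine Finset.sum_eq_zero fun ψ _ => ?_
          split_ifs with hψ
          · rw [BC85.prj_comm, BC85.prj_eq_zero_of_notMem hM hB hψ hθ, zero_mul]
          · rw [zero_mul]
      have h2 : Cfsg.pRegularPart p (χ : G → ℂ) = ∑ η, c η • proj (Cfsg.pRegularPart p (BlocksDefect.inflate Q η : G → ℂ)) := by
        have e := hproj χ
        rw [if_pos hχ] at e
        refine e.symm.trans ?_
        rw [h1]
        simp only [proj, CharCore.classInner_sum_left, CharCore.classInner_smul_left, Finset.smul_sum]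
        rw [Finset.sum_comm]
        refine Finset.sum_congr rfl fun ψ _ => ?_
        split_ifs with hψ
        · rw [Finset.sum_smul]
          exact Finset.sum_congr rfl fun η _ => by rw [mul_smul]
        · simp
      show Cfsg.pRegularPart p (χ : G → ℂ) ∈ S.map L
      rw [h2]
      refine Submodule.sum_mem _ fun η _ => Submodule.smul_mem _ _ ?_
      rw [hproj]
      split_ifs with hη
      · exact ⟨_, Submodule.subset_span ⟨η, (hinflB η).mpr hη, rfl⟩, hLreg η⟩
      · exact Submodule.zero_mem _
  rw [← hmap]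
  let e : S →ₗ[ℂ] S.map L := (L.domRestrict S).codRestrict (S.map L) fun s => ⟨s, s.2, rfl⟩
  refine (LinearEquiv.ofBijective e ⟨?_, ?_⟩).finrank_eq.symm
  · refine (injective_iff_map_eq_zero e).mpr fun s hs => Subtype.ext (hinj s s.2 ?_)
    exact congrArg Subtype.val hs
  · rintro ⟨_, s, hs, rfl⟩
    exact ⟨⟨s, hs⟩, rfl⟩


end Cfsg.Agent.S4571
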