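import Cfsg.Statements.S0951
import Cfsg.Agent.ZStar.SectionCount
import Cfsg.Agent.ZStar.Klein
import Cfsg.Agent.ZStar.Quaternion
import Cfsg.Agent.ZStar.SmallTwo
import Cfsg.Agent.S0201
import Cfsg.Agent.S4571
import Cfsg.Agent.Lib.Transfer.Residual

set_option autoImplicit false
open Cfsg

namespace Cfsg.Agent.S0951

/-- Let S be a Sylow 2-subgroup of the finite group G isomorphic to the quaternion group of order 8. Suppose G has no nontrivial normal subgroup of odd order and G ≠ S. Then, relative to any maximal ideal M of the algebraic integers containing 2, the principal block of G consists of exactly 7 irreducible characters. -/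
theorem result {G : Type*} [Group G] [Finite G] (M : Ideal Cfsg.AlgInt) (hM : Cfsg.IsPModular 2 M) (S : Sylow 2 G) (e : (S : Subgroup G) ≃* QuaternionGroup 2) (hO : ∀ N : Subgroup G, N.Normal → Odd (Nat.card N) → N = ⊥) (hG : (S : Subgroup G) ≠ ⊤) : Nat.card (Cfsg.principalBlock M G) = 7 := by
  classical
  haveI : Fact (Nat.Prime 2) := ⟨Nat.prime_two⟩
  have hno : ¬ Cfsg.HasNormalPComplement 2 G := by
    rintro ⟨P, N, hN, hcompl⟩
    have hodd : Odd (Nat.card N) := by
      rw [← hcompl.index_eq_card, ← Nat.not_even_iff_odd, even_iff_two_dvd]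
      exact P.not_dvd_index
    have hNbot := hO N hN hodd
    rw [hNbot, Subgroup.isComplement'_bot_left] at hcompl
    obtain ⟨g, hg⟩ := MulAction.exists_smul_eq G P S
    refine hG ((Subgroup.card_eq_iff_eq_top _).mp ?_)
    rw [← hg, Sylow.coe_subgroup_smul]
    refine (Subgroup.card_map_of_injective (MulAut.conj g).injective).trans ?_
    rw [hcompl, Subgroup.card_top]
  obtain ⟨Q, a, b, y, hQS, hr, haQ, hyQ, hform⟩ :=
    ZStar.exists_rotation_of_no_complement S e hno
  have hbQ : b ∈ Q := hr.conj_a ▸ (Subgroup.mem_normalizer_iff.mp hyQ a).mp haQ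
  set t := a * a with htdef
  have ht : orderOf t = 2 :=
    Involution.orderOf_eq_two_iff'.mpr ⟨hr.pow_four, hr.sq_ne⟩
  have hf := ZStar.q8Facts e (hQS (mul_mem haQ haQ)) ht
  have haS : a ∈ (S : Subgroup G) := hQS haQ
  have hS8 : Nat.card (S : Subgroup G) = 8 := by
    rw [Nat.card_congr e.toEquiv, Nat.card_eq_fintype_card, QuaternionGroup.card]
  -- all elements of order four of `S` are conjugate
  have hclass : ∀ x ∈ (S : Subgroup G), x * x ≠ 1 → IsConj x a := by
    intro x hx hx2
    have hb2 : b * b ≠ 1 := by rw [hr.sq_eq]; exact hr.sq_ne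
    have hne : a ≠ a⁻¹ := fun h => hr.sq_ne (eq_inv_iff_mul_eq_one.mp h)
    have hba : b ≠ a ∧ b ≠ a⁻¹ := by
      constructor <;> intro h <;> have h1 := hr.inverts <;> rw [h] at h1 <;> group at h1
      all_goals exact hne (by simpa using h1)
    have hab : IsConj a b := isConj_iff.mpr ⟨y, hr.conj_a⟩
    have habb : IsConj a (a * b) := hab.trans (isConj_iff.mpr ⟨y, hr.conj_b⟩)
    have hainv : IsConj a a⁻¹ := isConj_iff.mpr ⟨b, hr.inverts⟩
    have hinv : ∀ {v w : G}, IsConj v w → IsConj v⁻¹ w⁻¹ := fun {v w} h => by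
      obtain ⟨c, hc⟩ := isConj_iff.mp h
      exact isConj_iff.mpr ⟨c, by rw [← hc]; group⟩
    rcases hf.axes a haS b (hQS hbQ) x hx hr.sq_ne hb2 hba.1 hba.2 hx2 with
      h | h | h | h | h | h <;> rw [h]
    exacts [hainv.symm, hab.symm, (hainv.trans (hinv hab)).symm, habb.symm,
      (hainv.trans (hinv habb)).symm]
  -- the central involution
  have hcard := S0201.result S 0 e hO
  obtain ⟨z, hzc, hz2⟩ := Involution.exists_involution_of_even (H := Subgroup.center G)
    (by rw [hcard]; decide)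
  have htc : t ∈ Subgroup.center G := by
    obtain ⟨c, hc⟩ := ZStar.isPGroup_two_of_le_sylow
      (IsPGroup.of_card (n := 1) (by rw [hcard, pow_one]) : IsPGroup 2 (Subgroup.center G)) S
    have hzS : z ∈ (S : Subgroup G) := by
      have := hc z hzc
      rwa [Subgroup.mem_center_iff.mp hzc c, mul_inv_cancel_right] at this
    obtain ⟨hz1, hzne⟩ := Involution.orderOf_eq_two_iff'.mp hz2
    have h := (hf.sq_eq_one z hzS hz1).resolve_left hzne
    show a * a ∈ Subgroup.center G
    rw [← h]; exact hzc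
  haveI hZn : (Subgroup.zpowers t).Normal := ⟨fun v hv g => by
    rwa [Subgroup.mem_center_iff.mp (Subgroup.zpowers_le.mpr htc hv) g, mul_inv_cancel_right]⟩
  set N := Subgroup.zpowers t with hNdef
  have hN2 : Nat.card N = 2 := by rw [hNdef, Nat.card_zpowers, ht]
  have hNS : N ≤ (S : Subgroup G) := Subgroup.zpowers_le.mpr (hQS (mul_mem haQ haQ))
  have haN : a ∉ N := fun h => by
    have h1 := orderOf_dvd_of_mem_zpowers h
    rw [ht, hf.orderOf_four haS hr.sq_ne] at h1
    norm_num at h1
  -- two-elements of `G`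
  have hGrep : ∀ g : G, (∃ k : ℕ, orderOf g = 2 ^ k) → IsConj g 1 ∨ IsConj g t ∨ IsConj g a := by
    rintro g ⟨k, hk⟩
    obtain ⟨c, hc⟩ := ZStar.isPGroup_two_of_le_sylow
      (IsPGroup.of_card (n := k) (by rw [Nat.card_zpowers, hk]) : IsPGroup 2 (Subgroup.zpowers g)) S
    have hgc : IsConj g (c * g * c⁻¹) := isConj_iff.mpr ⟨c, rfl⟩
    by_cases h2 : (c * g * c⁻¹) * (c * g * c⁻¹) = 1
    · rcases hf.sq_eq_one _ (hc g (Subgroup.mem_zpowers g)) h2 with h | h
      · exact Or.inl (h ▸ hgc)
      · exact Or.inr (Or.inl (by rw [h] at hgc; exact hgc))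
    · exact Or.inr (Or.inr (hgc.trans (hclass _ (hc g (Subgroup.mem_zpowers g)) h2)))
  -- the quotient
  set Sb : Sylow 2 (G ⧸ N) := S.mapSurjective (QuotientGroup.mk'_surjective N) with hSb
  set ab : G ⧸ N := QuotientGroup.mk' N a with hab
  have htN : (QuotientGroup.mk' N t : G ⧸ N) = 1 :=
    (QuotientGroup.eq_one_iff t).mpr (Subgroup.mem_zpowers t)
  have habne : ab ≠ 1 := fun h => haN ((QuotientGroup.eq_one_iff a).mp h)
  have hab2 : orderOf ab = 2 := Involution.orderOf_eq_two_iff'.mpr
    ⟨by rw [hab, ← map_mul, ← htdef, htN], habne⟩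
  have habS : ab ∈ (Sb : Subgroup (G ⧸ N)) := Subgroup.mem_map_of_mem _ haS
  have hSb4 : Nat.card (Sb : Subgroup (G ⧸ N)) = 4 := by
    rw [hSb, Sylow.coe_mapSurjective, ← Subgroup.relIndex_ker, QuotientGroup.ker_mk']
    have h := Subgroup.card_mul_index (N.subgroupOf (S : Subgroup G))
    rw [Nat.card_congr (Subgroup.subgroupOfEquivOfLe hNS).toEquiv, hN2, hS8] at h
    change N.relIndex (S : Subgroup G) = 4
    rw [Subgroup.relIndex]
    omega
  have hSbrep : ∀ v ∈ (Sb : Subgroup (G ⧸ N)), v = 1 ∨ (v * v = 1 ∧ IsConj v ab) := by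
    intro v hv
    obtain ⟨s, hs, rfl⟩ := hv
    by_cases hs2 : s * s = 1
    · rcases hf.sq_eq_one s hs hs2 with rfl | rfl
      · exact Or.inl (map_one _)
      · exact Or.inl htN
    · refine Or.inr ⟨by rw [← map_mul, hf.sq s hs hs2, htN], ?_⟩
      exact (QuotientGroup.mk' N).map_isConj (hclass s hs hs2)
  have hSbK : IsKleinFour (Sb : Subgroup (G ⧸ N)) := by
    have h2 : ∀ v : (Sb : Subgroup (G ⧸ N)), v ^ 2 = 1 := fun v => by
      rw [pow_two]
      rcases hSbrep v v.2 with h | ⟨h, -⟩
      · exact Subtype.ext (by simp [h])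
      · exact Subtype.ext h
    refine ⟨hSb4, ?_⟩
    rcases (Nat.dvd_prime Nat.prime_two).mp (Monoid.exponent_dvd_of_forall_pow_eq_one h2) with h | h
    · exfalso
      haveI := Monoid.exp_eq_one_iff.mp h
      exact habne (congrArg Subtype.val (Subsingleton.elim (⟨ab, habS⟩ : (Sb : Subgroup (G ⧸ N))) 1))
    · exact h
  have hQrep : ∀ g : G ⧸ N, (∃ k : ℕ, orderOf g = 2 ^ k) → IsConj g 1 ∨ IsConj g ab := by
    rintro g ⟨k, hk⟩
    obtain ⟨c, hc⟩ := ZStar.isPGroup_two_of_le_sylow
      (IsPGroup.of_card (n := k) (by rw [Nat.card_zpowers, hk]) : IsPGroup 2 (Subgroup.zpowers g)) Sb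
    have hgc : IsConj g (c * g * c⁻¹) := isConj_iff.mpr ⟨c, rfl⟩
    rcases hSbrep _ (hc g (Subgroup.mem_zpowers g)) with h | ⟨-, h⟩
    · exact Or.inl (h ▸ hgc)
    · exact Or.inr (hgc.trans h)
  have hone : ∀ s v : G ⧸ N, orderOf s = 2 → orderOf v = 2 → IsConj s v := by
    have h : ∀ s : G ⧸ N, orderOf s = 2 → IsConj s ab := fun s hs => by
      rcases hQrep s ⟨1, by rw [hs, pow_one]⟩ with h | h
      · exact absurd (isConj_one_left.mp h) fun he => by simp [he] at hs
      · exact h
    exact fun s v hs hv => (h s hs).trans (h v hv).symm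
  have horder : ∀ {H : Type _} [Group H] {v w : H}, IsConj v w → orderOf v = orderOf w := by
    intro H _ v w h
    obtain ⟨c, rfl⟩ := isConj_iff.mp h
    exact (Involution.orderOf_conj c v).symm
  -- the count in the quotient
  obtain ⟨Kb, hKb, hKcard, -⟩ := ZStar.klein_sectionData hSbK habS hab2
  have hb1 : Cfsg.blockRank 2
      (Cfsg.principalBlock M (Subgroup.centralizer ({ab} : Set (G ⧸ N)))) = 1 := by
    refine ZStar.blockRank_section_eq_one hM hKb fun c hc hodd => ?_
    set C := Subgroup.centralizer ({ab} : Set (G ⧸ N))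
    haveI : (Kb.subgroupOf C).Normal := Subgroup.normal_subgroupOf_of_le_normalizer hKb.normal
    have hidx : (Kb.subgroupOf C).index = 4 := by
      have h := Subgroup.card_mul_index (Kb.subgroupOf C)
      rw [Nat.card_congr (Subgroup.subgroupOfEquivOfLe hKb.le).toEquiv, hKcard, mul_comm 4] at h
      exact Nat.eq_of_mul_eq_mul_left Nat.card_pos h
    have h4 := Subgroup.pow_index_mem (Kb.subgroupOf C) (⟨c, hc⟩ : C)
    rw [hidx, Subgroup.mem_subgroupOf, SubmonoidClass.coe_pow] at h4
    exact Subgroup.zpowers_le.mpr h4 (mem_zpowers_pow_iff.mpr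
      (Nat.Coprime.pow_left 2 ((Nat.prime_two.coprime_iff_not_dvd).mpr hodd)))
  obtain ⟨ζ₂, ζ₃, ζ₄, ε, -, h2, h3, h23, h24, h34, hB, hval, -⟩ :=
    ZStar.klein_principal_block hM Sb hSbK hone
  have hq4 : Nat.card (Cfsg.principalBlock M (G ⧸ N)) = 4 := by
    set one : Cfsg.IrrCharacter (G ⧸ N) := BlocksDefect.oneIrr (G ⧸ N)
    have h4 : ζ₄ ≠ one := fun h => by
      have := (hval ab hab2).2.2
      rw [h] at this
      simp [one, BlocksDefect.coe_oneIrr] at this
      norm_num at this
    have hset : Cfsg.principalBlock M (G ⧸ N) = ({one, ζ₂, ζ₃, ζ₄} : Finset _) := by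
      rw [hB]; ext χ
      simp only [Set.mem_ofPred_eq, Finset.coe_insert, Finset.coe_singleton, Set.mem_insert_iff,
        Set.mem_singleton_iff]
      exact or_congr ⟨fun h => Subtype.ext h, fun h => by rw [h]; rfl⟩ Iff.rfl
    rw [hset, Nat.card_coe_set_eq, Set.ncard_coe_finset]
    have h2' : one ≠ ζ₂ := fun h => h2 (by rw [← h]; rfl)
    have h3' : one ≠ ζ₃ := fun h => h3 (by rw [← h]; rfl)
    simp [h2', h3', h4.symm, h23, h24, h34]
  have hrankQ : Cfsg.blockRank 2 (Cfsg.principalBlock M (G ⧸ N)) = 3 := by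
    have h := ZStar.natCard_principal_eq_sum hM ({1, ab} : Finset (G ⧸ N)) (fun x hx => by
      simp only [Finset.mem_insert, Finset.mem_singleton] at hx
      rcases hx with rfl | rfl
      · exact ⟨0, by simp⟩
      · exact ⟨1, by rw [hab2, pow_one]⟩) (fun g hg => by
      rcases hQrep g hg with h | h
      · refine ⟨1, ⟨by simp, h⟩, fun x hx => ?_⟩
        simp only [Finset.mem_insert, Finset.mem_singleton] at hx
        rcases hx with ⟨rfl | rfl, hx⟩
        · rfl
        · have := (horder h).symm.trans (horder hx)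
          rw [orderOf_one, hab2] at this
          norm_num at this
      · refine ⟨ab, ⟨by simp, h⟩, fun x hx => ?_⟩
        simp only [Finset.mem_insert, Finset.mem_singleton] at hx
        rcases hx with ⟨rfl | rfl, hx⟩
        · have := (horder h).symm.trans (horder hx)
          rw [orderOf_one, hab2] at this
          norm_num at this
        · rfl)
    rw [Finset.sum_pair (Ne.symm habne),
      ZStar.blockRank_centralizer_of_mem_center (one_mem _), hb1, hq4] at h
    omega
  -- the count in `G`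
  have hrankG : Cfsg.blockRank 2 (Cfsg.principalBlock M G) = 3 := by
    rw [S4571.result 2 M hM N (IsPGroup.of_card (n := 1) (by rw [hN2, pow_one])) ?_, hrankQ]
    refine eq_top_iff.mpr fun g _ => Subgroup.mem_sup_right ?_
    exact Subgroup.mem_centralizer_iff.mpr fun v hv =>
      (Subgroup.mem_center_iff.mp (Subgroup.zpowers_le.mpr htc hv) g).symm
  obtain ⟨K, hK, hgen⟩ := hf.sectionData haS hr.sq_ne
  have ha4 := hf.orderOf_four haS hr.sq_ne
  have ha1 : Cfsg.blockRank 2 (Cfsg.principalBlock M (Subgroup.centralizer ({a} : Set G))) = 1 := by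
    refine ZStar.blockRank_section_eq_one hM hK fun c hc hodd => ?_
    obtain ⟨i, k, hk, hck⟩ := hgen c hc
    have hcom₁ : Commute a k := (Subgroup.mem_centralizer_singleton_iff.mp (hK.le hk)).symm
    have hcom : Commute (a ^ i) k := hcom₁.pow_left i
    have h4 : c ^ 4 ∈ K := by
      rw [hck, hcom.mul_pow, ← pow_mul, mul_comm i 4, pow_mul, ← ha4, pow_orderOf_eq_one,
        one_pow, one_mul]
      exact pow_mem hk _
    exact Subgroup.zpowers_le.mpr h4 (mem_zpowers_pow_iff.mpr
      (Nat.Coprime.pow_left 2 ((Nat.prime_two.coprime_iff_not_dvd).mpr hodd)))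
  have h := ZStar.natCard_principal_eq_sum hM ({1, t, a} : Finset G) (fun x hx => by
    simp only [Finset.mem_insert, Finset.mem_singleton] at hx
    rcases hx with rfl | rfl | rfl
    · exact ⟨0, by simp⟩
    · exact ⟨1, by rw [ht, pow_one]⟩
    · exact ⟨2, by rw [ha4]; rfl⟩) (fun g hg => by
    have huniq : ∀ x₀ ∈ ({1, t, a} : Finset G), IsConj g x₀ →
        ∃! x, x ∈ ({1, t, a} : Finset G) ∧ IsConj g x := by
      intro x₀ hx₀ h₀
      refine ⟨x₀, ⟨hx₀, h₀⟩, fun x ⟨hx, hgx⟩ => ?_⟩
      have ho := (horder hgx).symm.trans (horder h₀)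
      simp only [Finset.mem_insert, Finset.mem_singleton] at hx hx₀
      rcases hx with rfl | rfl | rfl <;> rcases hx₀ with rfl | rfl | rfl <;>
        first
        | rfl
        | (rw [orderOf_one, ht] at ho; norm_num at ho)
        | (rw [orderOf_one, ha4] at ho; norm_num at ho)
        | (rw [ht, ha4] at ho; norm_num at ho)
    rcases hGrep g hg with h | h | h
    · exact huniq 1 (by simp) h
    · exact huniq t (by simp) h
    · exact huniq a (by simp) h)
  have h1t : (1 : G) ≠ t := fun e => by rw [← e, orderOf_one] at ht; norm_num at ht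
  have h1a : (1 : G) ≠ a := fun e => by rw [← e, orderOf_one] at ha4; norm_num at ha4
  have hta : t ≠ a := fun e => by rw [e, ha4] at ht; norm_num at ht
  rw [Finset.sum_insert (by simp [h1t, h1a]), Finset.sum_pair hta,
    ZStar.blockRank_centralizer_of_mem_center (one_mem _),
    ZStar.blockRank_centralizer_of_mem_center htc, hrankG, ha1] at h
  omega

end Cfsg.Agent.S0951
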