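import Cfsg.Statements.S0954
import Cfsg.Agent.Lib.BlocksDefect.Quotient
-- import your own Cfsg.Agent.* helpers here

set_option autoImplicit false
open Cfsg

namespace Cfsg.Agent.S0954

/-- Let N be a normal subgroup of the finite group G of order prime to p and of p-power index (a normal p-complement), and fix a maximal ideal M of the algebraic integers containing p. Then two irreducible characters χ, ψ of G lie in the same block if and only if some irreducible character of N has nonzero inner product with both the restriction of χ and the restriction of ψ. -/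
theorem result {G : Type*} [Group G] [Fintype G] (p : ℕ) [Fact p.Prime] (M : Ideal Cfsg.AlgInt) (hM : Cfsg.IsPModular p M) (N : Subgroup G) [N.Normal] [Fintype N] (hN : ¬ p ∣ Nat.card N) (hidx : ∃ k : ℕ, N.index = p ^ k) (χ ψ : Cfsg.IrrCharacter G) : Cfsg.SameBlock M (χ : G → ℂ) (ψ : G → ℂ) ↔ ∃ θ : Cfsg.IrrCharacter N, Cfsg.classInner (fun n : N => (χ : G → ℂ) n) (θ : N → ℂ) ≠ 0 ∧ Cfsg.classInner (fun n : N => (ψ : G → ℂ) n) (θ : N → ℂ) ≠ 0 := by
  have := BlocksCore.isPrime hM
  classical
  constructor
  · intro h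
    obtain ⟨θ, hθ⟩ := BlocksDefect.exists_constituent_irr (N := N) χ
    obtain ⟨φ, hφ⟩ := BlocksDefect.exists_constituent_irr (N := N) ψ
    have hc := BlocksCore.omega_sub_memLocalIdeal h
      (BlocksDefect.isIntClassFun_orbit_pPrime hM hN ({θ} : Set (Cfsg.IrrCharacter N)))
    rw [BlocksDefect.omega_extFun_orbitSet hθ, BlocksDefect.omega_extFun_orbitSet hφ,
      Set.indicator_of_mem (show θ ∈ BlocksDefect.orbitSet (G := G) ({θ} : Set (Cfsg.IrrCharacter N)) from
        ⟨1, Subtype.ext (BlocksDefect.conjFun_one _)⟩), Pi.one_apply] at hc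
    have hmem : φ ∈ BlocksDefect.orbitSet (G := G) ({θ} : Set (Cfsg.IrrCharacter N)) := by
      by_contra hn
      rw [Set.indicator_of_notMem hn, sub_zero] at hc
      exact BlocksCore.not_memLocalIdeal_one (M := M) hc
    obtain ⟨g, hg⟩ := hmem
    refine ⟨θ, hθ, ?_⟩
    have := BlocksDefect.isConstituent_conjIrr hφ g
    rwa [Set.mem_singleton_iff.mp hg] at this
  · rintro ⟨θ, hθ, hθ'⟩
    obtain ⟨k, hk⟩ := hidx
    have hB := BlocksCore.isPBlock_blockOf (M := M) χ
    have hf := BlocksCore.isIntClassFun_blockCoeff hM hB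
    have hs : ∀ x, x ∉ N → Cfsg.blockCoeff (Cfsg.blockOf M (χ : G → ℂ)) x = 0 := fun x hx =>
      BlocksCore.blockCoeff_eq_zero_of_dvd_orderOf hM hB (by_contra fun hd =>
        hx (BlocksDefect.mem_of_not_dvd_orderOf hk hd))
    have h1 := BlocksDefect.omega_eq_of_constituent hθ hf.1 hs
    have h2 := BlocksDefect.omega_eq_of_constituent hθ' hf.1 hs
    rw [← h1, BlocksCore.omega_blockCoeff, BlocksCore.omega_blockCoeff,
      Set.indicator_of_mem (BlocksCore.mem_blockOf_self χ)] at h2
    by_contra hn
    rw [Set.indicator_of_notMem (by exact hn)] at h2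
    exact zero_ne_one h2

end Cfsg.Agent.S0954
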