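import Cfsg.Statements.S0955
import Cfsg.Agent.Lib.BlocksDefect.Covering
import Cfsg.Agent.Lib.Thompson.Cores
-- import your own Cfsg.Agent.* helpers here

set_option autoImplicit false
open Cfsg

namespace Cfsg.Agent.S0955

/-- Let D be a defect group of a block of the finite group G relative to a maximal ideal M of the algebraic integers containing the prime p. Then D is the largest normal p-subgroup of its own normalizer: O_p(N_G(D)) = D. -/
theorem result {G : Type*} [Group G] [Finite G] (p : ℕ) [Fact p.Prime] (M : Ideal Cfsg.AlgInt) (hM : Cfsg.IsPModular p M) (B : Set (Cfsg.IrrCharacter G)) (hB : Cfsg.IsPBlock M B) (D : Subgroup G) (hD : Cfsg.IsDefectGroup p M B D) : (Cfsg.pCore p (Subgroup.normalizer (D : Set G))).map (Subgroup.normalizer (D : Set G)).subtype = D := by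
  classical
  have := BlocksCore.isPrime hM
  have hDN : D ≤ Subgroup.normalizer (D : Set G) := Subgroup.le_normalizer
  have hCN : Subgroup.centralizer (D : Set G) ≤ Subgroup.normalizer (D : Set G) := by
    intro x hx
    rw [Subgroup.mem_normalizer_iff]
    intro y
    constructor
    · intro hy
      have e := Subgroup.mem_centralizer_iff.mp hx y hy
      rwa [← e, mul_inv_cancel_right]
    · intro hy
      have e := Subgroup.mem_centralizer_iff.mp hx _ hy
      rw [show x * y * x⁻¹ * x = x * y by group] at e
      rw [mul_left_cancel e]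
      exact hy
  have hDp := BlocksDefect.isPGroup_of_isDefectGroup hD
  obtain ⟨b, hind⟩ := (BlocksDefect.exists_inducing_iff hM hDp hDN hCN le_rfl hB).mpr
    ((BlocksDefect.exists_coeff_mem_centralizer_iff hM hB hD hDp).mpr (BlocksDefect.subConj_refl D))
  obtain ⟨E, hE⟩ := BlocksDefect.exists_isDefectGroup hM hind.1
  have h1 := BlocksDefect.le_defectGroup (Cfsg.pCore p (Subgroup.normalizer (D : Set G))) hM
    Thompson.isPGroup_pCore hind.1 hE
  obtain ⟨E', hE', hle⟩ := BlocksDefect.exists_defectGroup_ge hM hind hE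
  obtain ⟨x, hx⟩ := BlocksDefect.isConj_defectGroup hM hB hD hE'
  have h2 : D.subgroupOf (Subgroup.normalizer (D : Set G)) ≤
      Cfsg.pCore p (Subgroup.normalizer (D : Set G)) :=
    Thompson.le_pCore Subgroup.normal_in_normalizer hDp.comap_subtype
  refine (Subgroup.eq_of_le_of_card_ge ?_ ?_).symm
  · intro y hy
    exact ⟨⟨y, hDN hy⟩, h2 (show (⟨y, hDN hy⟩ : Subgroup.normalizer (D : Set G)) ∈ D.subgroupOf _ from hy), rfl⟩
  · rw [← BlocksDefect.natCard_map_conj D x, hx]
    exact Nat.le_of_dvd Nat.card_pos (Subgroup.card_dvd_of_le ((Subgroup.map_mono h1).trans hle))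

end Cfsg.Agent.S0955
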