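import Cfsg.Statements.S0957
import Mathlib.GroupTheory.GroupAction.ConjAct
import Cfsg.Agent.Lib.BlocksDefect.SylowCent
-- import your own Cfsg.Agent.* helpers here

set_option autoImplicit false
open Cfsg

namespace Cfsg.Agent.S0957

/-- Let P be a Sylow p-subgroup of the finite group G, let g, h ∈ G and let p ^ d be the order of a Sylow p-subgroup of the centralizer of g. Then the number of pairs (y, z) with y conjugate to g, z conjugate to h and z * y⁻¹ ∈ P is divisible by the order of P divided by p ^ d. -/
theorem result {G : Type*} [Group G] [Finite G] (p : ℕ) [Fact p.Prime] (P : Sylow p G) (g h : G) (S : Sylow p (Subgroup.centralizer ({g} : Set G))) : Nat.card P / Nat.card S ∣ Nat.card {yz : G × G // IsConj g yz.1 ∧ IsConj h yz.2 ∧ yz.2 * yz.1⁻¹ ∈ (P : Subgroup G)} := by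
  classical
  let T := {yz : G × G // IsConj g yz.1 ∧ IsConj h yz.2 ∧ yz.2 * yz.1⁻¹ ∈ (P : Subgroup G)}
  let act : MulAction (P : Subgroup G) T :=
    { smul := fun u t => ⟨((u : G) * t.1.1 * (u : G)⁻¹, (u : G) * t.1.2 * (u : G)⁻¹),
        t.2.1.trans (isConj_iff.mpr ⟨u, rfl⟩), t.2.2.1.trans (isConj_iff.mpr ⟨u, rfl⟩), by
          have := (P : Subgroup G).mul_mem ((P : Subgroup G).mul_mem u.2 t.2.2.2) ((P : Subgroup G).inv_mem u.2)
          simpa [mul_assoc] using this⟩
      one_smul := fun t => Subtype.ext (by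
        change (((1 : (P : Subgroup G)) : G) * t.1.1 * ((1 : (P : Subgroup G)) : G)⁻¹,
          ((1 : (P : Subgroup G)) : G) * t.1.2 * ((1 : (P : Subgroup G)) : G)⁻¹) = t.1
        simp)
      mul_smul := fun u v t => Subtype.ext (by
        change (((u * v : (P : Subgroup G)) : G) * t.1.1 * ((u * v : (P : Subgroup G)) : G)⁻¹,
          ((u * v : (P : Subgroup G)) : G) * t.1.2 * ((u * v : (P : Subgroup G)) : G)⁻¹) =
          ((u : G) * ((v : G) * t.1.1 * (v : G)⁻¹) * (u : G)⁻¹,
           (u : G) * ((v : G) * t.1.2 * (v : G)⁻¹) * (u : G)⁻¹)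
        simp [mul_assoc]) }
  have hS : BlocksDefect.IsSylowCent p g ((S : Subgroup (Subgroup.centralizer ({g} : Set G))).map
      (Subgroup.centralizer ({g} : Set G)).subtype) := ⟨S, rfl⟩
  have hScard : Nat.card S = Nat.card ((S : Subgroup (Subgroup.centralizer ({g} : Set G))).map
      (Subgroup.centralizer ({g} : Set G)).subtype) :=
    Nat.card_congr (Subgroup.equivMapOfInjective _ _ (Subgroup.subtype_injective _)).toEquiv
  have key : ∀ t : T, Nat.card (P : Subgroup G) / Nat.card S ∣ Nat.card (MulAction.orbit (P : Subgroup G) t) := by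
    intro t
    set K := (MulAction.stabilizer (P : Subgroup G) t).map (P : Subgroup G).subtype with hK
    have hKp : IsPGroup p K := (P.isPGroup'.to_subgroup _).map _
    have hKc : t.1.1 ∈ Subgroup.centralizer (K : Set G) := by
      rw [Subgroup.mem_centralizer_iff]
      rintro _ ⟨u, hu, rfl⟩
      exact mul_inv_eq_iff_eq_mul.mp (congrArg (fun s : T => s.1.1) hu)
    have h1 := (hS.subConj_of_isConj hKp t.2.1 hKc).card_dvd
    have h2 : Nat.card K = Nat.card (MulAction.stabilizer (P : Subgroup G) t) :=
      (Nat.card_congr (Subgroup.equivMapOfInjective _ _ (Subgroup.subtype_injective _)).toEquiv).symm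
    rw [← hScard, h2] at h1
    have h3 : Nat.card (MulAction.orbit (P : Subgroup G) t) * Nat.card (MulAction.stabilizer (P : Subgroup G) t)
        = Nat.card (P : Subgroup G) := by
      rw [← Nat.card_prod]
      exact Nat.card_congr (MulAction.orbitProdStabilizerEquivGroup _ t)
    obtain ⟨c, hc⟩ := h1
    by_cases hdiv : Nat.card S ∣ Nat.card (P : Subgroup G)
    · obtain ⟨d, hd⟩ := hdiv
      rw [hd, Nat.mul_div_cancel_left _ Nat.card_pos]
      rw [hd, hc] at h3
      refine ⟨c, ?_⟩
      have := Nat.eq_of_mul_eq_mul_right (Nat.card_pos (α := MulAction.stabilizer (P : Subgroup G) t))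
        (h3.trans (show Nat.card (MulAction.stabilizer (P : Subgroup G) t) * c * d =
          d * c * Nat.card (MulAction.stabilizer (P : Subgroup G) t) by ring))
      exact this
    · exfalso
      refine hdiv ?_
      obtain ⟨a, ha⟩ := IsPGroup.iff_card.mp S.isPGroup'
      rw [ha, P.card_eq_multiplicity]
      refine pow_dvd_pow p ?_
      refine (Nat.Prime.pow_dvd_iff_le_factorization Fact.out Nat.card_pos.ne').mp ?_
      rw [← ha, hScard]
      exact Subgroup.card_subgroup_dvd_card _
  have := Fintype.ofFinite (MulAction.orbitRel.Quotient (P : Subgroup G) T)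
  rw [Nat.card_congr (MulAction.selfEquivSigmaOrbits (P : Subgroup G) T), Nat.card_sigma]
  exact Finset.dvd_sum fun q _ => key _

end Cfsg.Agent.S0957
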