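import Cfsg.Statements.S0960
import Cfsg.Agent.Lib.BlocksCore.CyclicRank
import Cfsg.Agent.Lib.BlocksCore.CyclicCount

set_option autoImplicit false
open Cfsg

namespace Cfsg.Agent.S0960

/-- Let p be an odd prime and G a finite group whose Sylow p-subgroup P has order p; let e be the index of C_G(P) in N_G(P) (a divisor of p − 1) and fix a maximal ideal M of the algebraic integers containing p. Then the principal block of G consists of exactly e + (p - 1) / e irreducible characters, and the degree d of each of them satisfies d ≡ 1, d ≡ -1, d ≡ e or d ≡ -e modulo p. -/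
theorem result {G : Type*} [Group G] [Finite G] (p : ℕ) [Fact p.Prime] (M : Ideal Cfsg.AlgInt) (hM : Cfsg.IsPModular p M) (hodd : p ≠ 2) (P : Sylow p G) (hP : Nat.card P = p) (e : ℕ) (he : (Subgroup.centralizer ((P : Subgroup G) : Set G)).relIndex (Subgroup.normalizer ((P : Subgroup G) : Set G)) = e) : Nat.card (Cfsg.principalBlock M G) = e + (p - 1) / e ∧ ∀ χ ∈ Cfsg.principalBlock M G, ((Cfsg.charDegree (χ : G → ℂ) : ℤ) ≡ 1 [ZMOD p] ∨ (Cfsg.charDegree (χ : G → ℂ) : ℤ) ≡ -1 [ZMOD p] ∨ (Cfsg.charDegree (χ : G → ℂ) : ℤ) ≡ (e : ℤ) [ZMOD p] ∨ (Cfsg.charDegree (χ : G → ℂ) : ℤ) ≡ -(e : ℤ) [ZMOD p]) := by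
  classical
  have := BlocksCore.isPrime hM
  have hp : p.Prime := Fact.out
  have := Fintype.ofFinite G
  haveI : IsCyclic (P : Subgroup G) := isCyclic_of_prime_card hP
  obtain ⟨⟨z, hzP⟩, hgen⟩ := IsCyclic.exists_generator (α := (P : Subgroup G))
  have hz : orderOf z = p := by
    rw [← Subgroup.orderOf_mk z hzP, orderOf_eq_card_of_forall_mem_zpowers hgen, hP]
  have hzP' : Subgroup.zpowers z = (P : Subgroup G) :=
    Subgroup.eq_of_le_of_card_ge (Subgroup.zpowers_le.mpr hzP)
      (by rw [Nat.card_zpowers, hz, hP])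
  have hidx : ¬ p ∣ (Subgroup.zpowers z).index := hzP' ▸ P.not_dvd_index
  obtain ⟨s, hs⟩ := BlocksCore.CyclicCount.exists_setup hz hidx
  subst hs
  haveI := Fintype.ofFinite s.Orb
  have hC : Subgroup.centralizer ((P : Subgroup G) : Set G) =
      Subgroup.centralizer ({s.z} : Set G) := by
    rw [← hzP', BlocksCore.centralizer_zpowers]
  have he' : Nat.card s.auto = e := by
    have hle : Subgroup.centralizer ((P : Subgroup G) : Set G) ≤
        Subgroup.normalizer ((P : Subgroup G) : Set G) := Subgroup.centralizer_le_normalizer _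
    have h := Subgroup.index_mul_card
      ((Subgroup.centralizer ((P : Subgroup G) : Set G)).subgroupOf
        (Subgroup.normalizer ((P : Subgroup G) : Set G)))
    rw [← Subgroup.relIndex, he, Nat.card_congr (Subgroup.subgroupOfEquivOfLe hle).toEquiv, hC,
      s.card_cent, ← hzP', s.card_normalizer] at h
    exact (Nat.eq_of_mul_eq_mul_right (Nat.mul_pos hp.pos Nat.card_pos) h).symm
  subst he'
  letI : Field (BlocksDefect.Res M) := Ideal.Quotient.field _
  haveI : CharP (BlocksDefect.Res M) p := BlocksDefect.charP_res hM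
  haveI : CharP (AlgebraicClosure (BlocksDefect.Res M)) p :=
    charP_of_injective_ringHom
      (algebraMap (BlocksDefect.Res M) (AlgebraicClosure (BlocksDefect.Res M))).injective p
  have hge := BlocksCore.CyclicRank.card_ge hM s hidx (AlgebraicClosure (BlocksDefect.Res M))
    (algebraMap _ _)
  set B : Finset (IrrCharacter G) := Finset.univ.filter (· ∈ principalBlock M G) with hB
  have hBcard : Nat.card (principalBlock M G) = B.card := by
    rw [Nat.card_eq_fintype_card, Fintype.card_subtype]
  have hr : Fintype.card s.Orb * Nat.card s.auto = p - 1 := by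
    rw [← Nat.card_eq_fintype_card]
    exact s.card_orb_mul
  obtain ⟨hcard, hvec⟩ := BlocksCore.CyclicCount.count B
    (fun χ => (SmallGroups.SelfCent.Setup.deg χ : ℤ))
    (fun χ => by exact_mod_cast (SmallGroups.SelfCent.Setup.deg_spec χ).1)
    (fun o χ => s.vecO χ o) (Nat.card s.auto) s.gram_orb s.sum_deg_mul_vecO
    (fun o χ hχ => BlocksCore.CyclicBlock.vec_of_notMem s hM (by simpa [hB] using hχ) _)
    (fun χ hχ => BlocksCore.CyclicBlock.exists_vecO_ne_zero s hM hidx (by simpa [hB] using hχ))
    (by rwa [← hBcard, ← Nat.card_eq_fintype_card])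
  refine ⟨?_, fun χ hχ => ?_⟩
  · rw [hBcard, hcard, ← hr, Nat.mul_div_cancel _ Nat.card_pos]
  · have hd := BlocksCore.CyclicBlock.charDegree_modEq s hM hχ
    obtain ⟨t, ht, hsum⟩ := hvec χ (by simp [hB, hχ])
    rcases hsum with hsum | hsum <;> rw [hsum] at hd
    · have hm : (Nat.card s.auto : ℤ) * ((Fintype.card s.Orb : ℤ) * t) ≡ -t [ZMOD p] := by
        rw [← mul_assoc, ← Nat.cast_mul, mul_comm (Nat.card s.auto), hr, Nat.cast_sub hp.one_le,
          Int.modEq_iff_dvd]
        exact ⟨-t, by push_cast; ring⟩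
      rcases ht with rfl | rfl
      · exact Or.inr (Or.inl (hd.trans hm))
      · exact Or.inl (hd.trans hm)
    · rcases ht with rfl | rfl
      · exact Or.inr (Or.inr (Or.inl (by rwa [mul_one] at hd)))
      · exact Or.inr (Or.inr (Or.inr (by rwa [mul_neg_one] at hd)))

end Cfsg.Agent.S0960
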