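import Cfsg.Statements.S0963
import Cfsg.Agent.Lib.BlocksDefect.Covering
-- import your own Cfsg.Agent.* helpers here

set_option autoImplicit false
open Cfsg

namespace Cfsg.Agent.S0963

/-- Let N be a normal subgroup of the finite group G, χ an irreducible character of G and θ an irreducible character of N. Then θ occurs in the restriction of χ to N if and only if, for every n ∈ N, the central character of χ at n (class size in G times χ n over χ 1) equals the sum of θ m / θ 1 over the elements m of N conjugate in G to n. -/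
theorem result {G : Type*} [Group G] [Fintype G] (N : Subgroup G) [N.Normal] [Fintype N] (χ : Cfsg.IrrCharacter G) (θ : Cfsg.IrrCharacter N) : Cfsg.classInner (fun n : N => (χ : G → ℂ) n) (θ : N → ℂ) ≠ 0 ↔ ∀ n : N, Cfsg.centralChar (χ : G → ℂ) (n : G) = Cfsg.inducedCentralChar N (θ : N → ℂ) (n : G) := by
  have hG := BlocksCore.finite_irr (G := G)
  refine ⟨fun h n => BlocksDefect.omega_res_classInd_of_mem h n, fun h => ?_⟩
  obtain ⟨φ, hφ⟩ := BlocksDefect.exists_constituent_irr (N := N) χ
  have hcl := BlocksDefect.isClassFunction_extFun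
    (BlocksDefect.conjFun_blockCoeff_orbitSet (G := G) ({θ} : Set (Cfsg.IrrCharacter N)))
  have h1 := BlocksDefect.omega_eq_of_classes h hcl fun x hx => BlocksDefect.extFun_notMem _ hx
  rw [BlocksDefect.omega_extFun_orbitSet hφ, BlocksDefect.res_extFun,
    BlocksCore.omega_blockCoeff, Set.indicator_of_mem (show θ ∈ BlocksDefect.orbitSet (G := G) ({θ} : Set (Cfsg.IrrCharacter N)) from
      ⟨1, Subtype.ext (BlocksDefect.conjFun_one _)⟩)] at h1
  have hmem : φ ∈ BlocksDefect.orbitSet (G := G) ({θ} : Set (Cfsg.IrrCharacter N)) := by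
    by_contra hn
    rw [Set.indicator_of_notMem hn] at h1
    exact zero_ne_one h1
  obtain ⟨g, hg⟩ := hmem
  have := BlocksDefect.isConstituent_conjIrr hφ g
  rwa [Set.mem_singleton_iff.mp hg] at this

end Cfsg.Agent.S0963
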