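import Cfsg.Statements.S0965
import Cfsg.Agent.Lib.BlocksDefect.Covering
-- import your own Cfsg.Agent.* helpers here

set_option autoImplicit false
open Cfsg

namespace Cfsg.Agent.S0965

/-- Let N be a normal subgroup of the finite group G and let B, b be blocks of G and of N relative to a maximal ideal M of the algebraic integers containing the prime p. Then some χ ∈ B has a constituent in b on restriction to N if and only if, for all χ ∈ B, θ ∈ b and n ∈ N, the central character of χ at n is congruent modulo the local ideal at M to the sum of θ m / θ 1 over the elements m ∈ N conjugate in G to n. -/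
theorem result {G : Type*} [Group G] [Fintype G] (p : ℕ) [Fact p.Prime] (M : Ideal Cfsg.AlgInt) (hM : Cfsg.IsPModular p M) (N : Subgroup G) [N.Normal] [Fintype N] (B : Set (Cfsg.IrrCharacter G)) (hB : Cfsg.IsPBlock M B) (b : Set (Cfsg.IrrCharacter N)) (hb : Cfsg.IsPBlock M b) : (∃ χ ∈ B, ∃ θ ∈ b, Cfsg.classInner (fun n : N => (χ : G → ℂ) n) (θ : N → ℂ) ≠ 0) ↔ ∀ χ ∈ B, ∀ θ ∈ b, ∀ n : N, Cfsg.MemLocalIdeal M (Cfsg.centralChar (χ : G → ℂ) (n : G) - Cfsg.inducedCentralChar N (θ : N → ℂ) (n : G)) := by
  have := BlocksCore.isPrime hM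
  classical
  constructor
  · rintro ⟨χ₀, hχ₀, θ₀, hθ₀, hcon⟩ χ hχ θ hθ n
    have hcl := BlocksCore.isIntClassFun_classInd (M := M) (n : G)
    have h1 := BlocksCore.omega_sub_memLocalIdeal (BlocksCore.sameBlock_of_mem hB hχ hχ₀) hcl
    have h2 := BlocksCore.omega_sub_memLocalIdeal (BlocksCore.sameBlock_of_mem hb hθ₀ hθ)
      (BlocksDefect.isIntClassFun_res N hcl)
    rw [BlocksCore.omega_classInd (BlocksCore.irr_class χ), BlocksCore.omega_classInd (BlocksCore.irr_class χ₀),
      BlocksDefect.omega_res_classInd_of_mem hcon n] at h1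
    rw [BlocksDefect.omega_res_classInd, BlocksDefect.omega_res_classInd] at h2
    simpa using BlocksCore.memLocalIdeal_add h1 h2
  · intro h
    obtain ⟨χ, hχ⟩ := BlocksCore.isPBlock_nonempty hB
    obtain ⟨θ, hθ⟩ := BlocksCore.isPBlock_nonempty hb
    obtain ⟨φ, hφ⟩ := BlocksDefect.exists_constituent_irr (N := N) χ
    have hc := BlocksDefect.omega_congr_of_classes hM (h χ hχ θ hθ)
      (BlocksDefect.isIntClassFun_extFun_orbitSet hM hb) fun x hx => BlocksDefect.extFun_notMem _ hx
    rw [BlocksDefect.omega_extFun_orbitSet hφ, BlocksDefect.res_extFun, BlocksCore.omega_blockCoeff,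
      Set.indicator_of_mem (show θ ∈ BlocksDefect.orbitSet (G := G) b from ⟨1, by
        rwa [show BlocksDefect.conjIrr (1 : G) θ = θ from Subtype.ext (BlocksDefect.conjFun_one _)]⟩)] at hc
    have hmem : φ ∈ BlocksDefect.orbitSet (G := G) b := by
      by_contra hn
      rw [Set.indicator_of_notMem hn, Pi.one_apply, zero_sub] at hc
      exact BlocksCore.not_memLocalIdeal_one (M := M) (by simpa using BlocksCore.memLocalIdeal_neg hc)
    obtain ⟨g, hg⟩ := hmem
    exact ⟨χ, hχ, _, hg, BlocksDefect.isConstituent_conjIrr hφ g⟩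

end Cfsg.Agent.S0965
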