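import Cfsg.Statements.S0971
import Cfsg.Agent.Lib.BlocksDefect.Quotient
-- import your own Cfsg.Agent.* helpers here

set_option autoImplicit false
open Cfsg

namespace Cfsg.Agent.S0971

/-- Let Q be a normal p-subgroup of the finite group G, let N = Q ⊔ C_G(Q) (a normal subgroup) and let b be a block of N relative to a maximal ideal M of the algebraic integers containing p. Then b induces some block of G, and every block B of G containing a character whose restriction to N has a constituent in b is induced by b. -/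
theorem result {G : Type*} [Group G] [Fintype G] (p : ℕ) [Fact p.Prime] (M : Ideal Cfsg.AlgInt) (hM : Cfsg.IsPModular p M) (Q : Subgroup G) [Q.Normal] (hQ : IsPGroup p Q) [Fintype ↥(Q ⊔ Subgroup.centralizer (Q : Set G))] (b : Set (Cfsg.IrrCharacter ↥(Q ⊔ Subgroup.centralizer (Q : Set G)))) (hb : Cfsg.IsPBlock M b) : Cfsg.InducedBlockDefined M (Q ⊔ Subgroup.centralizer (Q : Set G)) b ∧ ∀ B : Set (Cfsg.IrrCharacter G), Cfsg.IsPBlock M B → (∃ χ ∈ B, ∃ θ ∈ b, Cfsg.classInner (fun n : ↥(Q ⊔ Subgroup.centralizer (Q : Set G)) => (χ : G → ℂ) n) (θ : ↥(Q ⊔ Subgroup.centralizer (Q : Set G)) → ℂ) ≠ 0) → Cfsg.IsInducedBlock M (Q ⊔ Subgroup.centralizer (Q : Set G)) b B := by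
  have := BlocksCore.isPrime hM
  classical
  have hN : ((Subgroup.normalizer (Q : Set G)) : Subgroup G) = ⊤ := Subgroup.normalizer_eq_top Q
  have hHN : Q ⊔ Subgroup.centralizer (Q : Set G) ≤ Subgroup.normalizer (Q : Set G) := by
    rw [hN]; exact le_top
  refine ⟨BlocksCore.inducedBlockDefined hM hQ le_sup_left le_sup_right hHN hb, ?_⟩
  rintro B hB ⟨χ₀, hχ₀, θ₀, hθ₀, hcon⟩
  rw [BlocksCore.isInducedBlock_iff_brauer hM hQ le_sup_left hHN hb hB]
  intro ξ hξ χ hχ g
  rw [← BlocksCore.omega_brRes_classInd]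
  by_cases hg : g ∈ Subgroup.centralizer (Q : Set G)
  · set g' : (Q ⊔ Subgroup.centralizer (Q : Set G) : Subgroup G) := ⟨g, Subgroup.mem_sup_right hg⟩
    have hcen : (Subgroup.centralizer (Q : Set G)).Normal := inferInstance
    have hres : BlocksCore.brRes Q (Q ⊔ Subgroup.centralizer (Q : Set G)) (BlocksCore.classInd g) =
        BlocksDefect.res _ (BlocksCore.classInd g) := by
      funext h
      by_cases hh : (h : G) ∈ Subgroup.centralizer (Q : Set G)
      · rw [BlocksCore.brRes_of_mem _ hh]; rfl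
      · rw [BlocksCore.brRes_of_notMem _ hh, BlocksDefect.res,
          BlocksCore.classInd_apply_of_not_isConj fun hc => hh ?_]
        obtain ⟨x, hx⟩ := isConj_iff.mp hc
        rw [← hx]
        exact hcen.conj_mem g hg x
    rw [hres]
    have hcl := BlocksCore.isIntClassFun_classInd (M := M) g
    have h1 := BlocksCore.omega_sub_memLocalIdeal (BlocksCore.sameBlock_of_mem hB hχ₀ hχ) hcl
    have h2 := BlocksCore.omega_sub_memLocalIdeal (BlocksCore.sameBlock_of_mem hb hξ hθ₀)
      (BlocksDefect.isIntClassFun_res (Q ⊔ Subgroup.centralizer (Q : Set G)) hcl)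
    rw [BlocksCore.omega_classInd (BlocksCore.irr_class χ₀), BlocksCore.omega_classInd (BlocksCore.irr_class χ),
      show g = (g' : G) from rfl, BlocksDefect.omega_res_classInd_of_mem hcon g',
      ← BlocksDefect.omega_res_classInd] at h1
    simpa [g'] using BlocksCore.memLocalIdeal_add h2 h1
  · have hcen : (Subgroup.centralizer (Q : Set G)).Normal := inferInstance
    have hnc : ∀ x, IsConj g x → x ∉ Subgroup.centralizer (Q : Set G) := fun x hx hxc => hg (by
      obtain ⟨y, hy⟩ := isConj_iff.mp hx.symm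
      rw [← hy]
      exact hcen.conj_mem x hxc y)
    have h0 : BlocksCore.brRes Q (Q ⊔ Subgroup.centralizer (Q : Set G)) (BlocksCore.classInd g) = 0 := by
      funext h
      by_cases hh : (h : G) ∈ Subgroup.centralizer (Q : Set G)
      · rw [BlocksCore.brRes_of_mem _ hh, BlocksCore.classInd_apply_of_not_isConj fun hc => hnc _ hc hh]
        rfl
      · rw [BlocksCore.brRes_of_notMem _ hh]; rfl
    rw [h0, BlocksCore.omega_zero, zero_sub]
    exact BlocksCore.memLocalIdeal_neg (BlocksDefect.centralChar_memLocalIdeal_of_notMem Q hM hQ hnc χ)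

end Cfsg.Agent.S0971
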