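import Cfsg.Statements.S0974
import Cfsg.Agent.Lib.SmallGroups.SelfCent.Sylow

set_option autoImplicit false
open Cfsg

namespace Cfsg.Agent.S0974

/-- No finite simple group has order 3648 = 2^6 * 3 * 19. -/
theorem result {G : Type*} [Group G] [Finite G] [IsSimpleGroup G] : Nat.card G ≠ 3648 := by
  intro hG
  have : Fact (Nat.Prime 19) := ⟨by norm_num⟩
  have hne : ¬ IsMulCommutative G :=
    Cfsg.Agent.SmallGroups.not_comm_of_not_prime (by rw [hG]; norm_num)
  have hm := Cfsg.Agent.SmallGroups.card_sylow_mem_list (G := G) (p := 19) (a := 1) (m := 192)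
    (by rw [hG]; norm_num) (by norm_num)
  rw [show (Nat.divisors 192).filter (fun d => d % 19 = 1) = {1, 96} by decide +kernel] at hm
  simp only [Finset.mem_insert, Finset.mem_singleton] at hm
  have h96 : Nat.card (Sylow 19 G) = 96 := hm.resolve_left
    (Cfsg.Agent.SmallGroups.card_sylow_ne_one hne (by rw [hG]; norm_num))
  obtain ⟨a, b, δ, ε, hδ, hε, ha, had, hbd, hpa, hpb, heq, hle, -⟩ :=
    Cfsg.Agent.SmallGroups.exists_two_degrees_of_sylow hne (by norm_num : 5 ≤ 19) (n := 96)
      (by rw [hG]) h96 (by norm_num)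
  rw [hG] at hle
  norm_num at hle had hbd hpa hpb
  have hb : b ≤ 20 := by nlinarith
  interval_cases b <;> norm_num at hbd <;>
    rcases hδ with rfl | rfl <;> rcases hε with rfl | rfl <;> omega

end Cfsg.Agent.S0974
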