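import Cfsg.Statements.S0976
import Cfsg.Agent.Lib.SmallGroups.SelfCent.Sylow
import Cfsg.Agent.Lib.SmallGroups.Orbits
import Cfsg.Agent.Lib.SmallGroups.Local

set_option autoImplicit false
open Cfsg

namespace Cfsg.Agent.S0976

open Subgroup in
theorem case64 {G : Type*} [Group G] [Finite G] [IsSimpleGroup G] (hG : Nat.card G = 4032)
    (P : Sylow 7 G) [Fact (Nat.Prime 7)] (hn : Nat.card (Sylow 7 G) = 64) : False := by
  have h3 : Fact (Nat.Prime 3) := ⟨Nat.prime_three⟩
  have h2 : Fact (Nat.Prime 2) := ⟨Nat.prime_two⟩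
  have hne : ¬ IsMulCommutative G :=
    Cfsg.Agent.SmallGroups.not_comm_of_not_prime (by rw [hG]; norm_num)
  have hP : Nat.card ↥(P : Subgroup G) = 7 := by
    simpa using Cfsg.Agent.SmallGroups.card_sylow_eq (p := 7) (a := 1) (m := 576)
      (by rw [hG]; norm_num) (by norm_num) P
  set N := normalizer ((P : Subgroup G) : Set G) with hNdef
  set C := centralizer ((P : Subgroup G) : Set G) with hCdef
  have hN : Nat.card N = 63 := Cfsg.Agent.SmallGroups.normalizer_conj_eq_card P hn (by rw [hG])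
  have hrel : C.relIndex N = 3 := by
    have h1 := Cfsg.Agent.SmallGroups.relIndex_centralizer_dvd_of_prime (p := 7) _ hP
    have h2 := hN ▸ Cfsg.Agent.SmallGroups.relIndex_dvd_normalizer P
    have h4 := Nat.dvd_gcd h1 h2
    norm_num at h4
    refine ((Nat.dvd_prime Nat.prime_three).mp h4).resolve_left fun h => ?_
    exact Cfsg.Agent.SmallGroups.not_normalizer_le_centralizer hne (by rw [hG]; norm_num) P
      (relIndex_eq_one.mp h)
  have hCN : C ≤ N := centralizer_le_normalizer _
  have hC : Nat.card C = 21 := by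
    have h := (C.subgroupOf N).card_mul_index
    rw [Nat.card_congr (subgroupOfEquivOfLe hCN).toEquiv] at h
    change Nat.card C * C.relIndex N = Nat.card N at h
    rw [hrel, hN] at h
    omega
  obtain ⟨w₀, hw₀⟩ := exists_prime_orderOf_dvd_card' (G := C) 3 (by rw [hC]; norm_num)
  set w : G := (w₀ : G) with hwdef
  have hw : orderOf w = 3 := by rw [hwdef, orderOf_coe, hw₀]
  have hwC : w ∈ C := w₀.2
  have hw1 : w ≠ 1 := fun h => by rw [h, orderOf_one] at hw; norm_num at hw
  -- `C` is cyclic of order 21, so `⟨w⟩` is normal in `N`, and `N` has odd order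
  have hwN : ∀ g ∈ N, g * w * g⁻¹ = w := by
    intro g hg
    have hCn : ∀ x ∈ C, g * x * g⁻¹ ∈ C := by
      intro x hx
      rw [hCdef, mem_centralizer_iff] at hx ⊢
      intro u hu
      have hu' : g⁻¹ * u * g ∈ (P : Subgroup G) := (mem_normalizer_iff''.mp hg u).mp hu
      have h := hx _ hu'
      calc u * (g * x * g⁻¹) = g * ((g⁻¹ * u * g) * x) * g⁻¹ := by group
        _ = g * (x * (g⁻¹ * u * g)) * g⁻¹ := by rw [h]
        _ = g * x * g⁻¹ * u := by group
    obtain ⟨u₁, hu₁⟩ := exists_prime_orderOf_dvd_card' (G := P) 7 (by rw [hP])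
    have hPC : (P : Subgroup G) ≤ C := by
      have : IsCyclic ↥(P : Subgroup G) := isCyclic_of_prime_card hP
      exact le_centralizer _
    set u₀ : C := ⟨u₁, hPC u₁.2⟩ with hu₀def
    have hu₀ : orderOf u₀ = 7 := by
      rw [← orderOf_coe, hu₀def]
      exact (orderOf_coe u₁).trans hu₁
    have hcomm : Commute w₀ u₀ :=
      Subtype.ext ((mem_centralizer_iff.mp hwC _ u₁.2).symm)
    have htop : zpowers (w₀ * u₀) = ⊤ := eq_top_of_card_eq _ (by
      rw [Nat.card_zpowers, hcomm.orderOf_mul_eq_mul_orderOf_of_coprime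
        (by rw [hw₀, hu₀]; norm_num), hw₀, hu₀, hC])
    have hconj : g * w * g⁻¹ ∈ zpowers w := by
      obtain ⟨k, hk⟩ := htop.symm ▸ mem_top (⟨g * w * g⁻¹, hCn w hwC⟩ : C)
      simp only [hcomm.mul_zpow] at hk
      have h3 : (⟨g * w * g⁻¹, hCn w hwC⟩ : C) ^ 3 = 1 := by
        apply Subtype.ext
        show (g * w * g⁻¹) ^ 3 = 1
        rw [conj_pow, ← hw, pow_orderOf_eq_one, mul_one, mul_inv_cancel]
      rw [← hk, ((hcomm.zpow_left k).zpow_right k).mul_pow, ← zpow_natCast (w₀ ^ k), ← zpow_mul,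
        mul_comm k, zpow_mul, zpow_natCast, ← hw₀, pow_orderOf_eq_one, one_zpow, one_mul,
        hw₀, ← zpow_natCast (u₀ ^ k), ← zpow_mul, ← orderOf_dvd_iff_zpow_eq_one, hu₀] at h3
      obtain ⟨j, hj⟩ : (7 : ℤ) ∣ k := by push_cast at h3; omega
      refine ⟨k, ?_⟩
      have hk' := congrArg Subtype.val hk
      simp only [Subgroup.coe_mul, Subgroup.coe_zpow] at hk'
      show w ^ k = g * w * g⁻¹
      rw [← hk']
      have h7 : ((u₀ : C) : G) ^ k = 1 := by
        rw [hj, zpow_mul, show ((7 : ℤ)) = ((7 : ℕ) : ℤ) from rfl, zpow_natCast,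
          ← hu₀, ← orderOf_coe, pow_orderOf_eq_one, one_zpow]
      rw [h7, mul_one]
    rcases (show g * w * g⁻¹ = w ∨ g * w * g⁻¹ = w ^ 2 by
      obtain ⟨k, hk⟩ := hconj
      have hk' : w ^ (k % 3) = g * w * g⁻¹ := by
        have h := zpow_mod_orderOf w k
        rw [hw] at h
        exact_mod_cast h.trans hk
      rcases (show k % 3 = 0 ∨ k % 3 = 1 ∨ k % 3 = 2 by omega) with h | h | h <;> rw [h] at hk'
      · rw [zpow_zero, eq_comm, mul_inv_eq_one, mul_eq_left] at hk'
        exact absurd hk' hw1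
      · left; rw [← hk', zpow_one]
      · right; rw [← hk']; exact zpow_natCast w 2) with h | h
    · exact h
    · have hgg : (g ^ 2) * w * (g ^ 2)⁻¹ = w := by
        calc g ^ 2 * w * (g ^ 2)⁻¹ = g * (g * w * g⁻¹) * g⁻¹ := by simp [sq, mul_assoc]
          _ = g * w ^ 2 * g⁻¹ := by rw [h]
          _ = (g * w * g⁻¹) ^ 2 := conj_pow.symm
          _ = w ^ (2 * 2) := by rw [h, ← pow_mul]
          _ = w := by rw [← pow_mod_orderOf, hw, pow_one]
      have hg63 : g ^ 63 = 1 := by
        have h := pow_card_eq_one' (x := (⟨g, hg⟩ : N))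
        rw [hN] at h
        exact congrArg Subtype.val h
      have hc2 : Commute (g ^ 2) w := mul_inv_eq_iff_eq_mul.mp hgg
      have hc : Commute g w := by
        have := hc2.pow_left 32
        rwa [← pow_mul, show 2 * 32 = 63 + 1 by norm_num, pow_succ, hg63, one_mul] at this
      rw [hc.eq, mul_inv_cancel_right]
  set D := centralizer ({w} : Set G) with hDdef
  have hND : N ≤ D := fun g hg => by
    rw [hDdef, mem_centralizer_singleton_iff]
    exact mul_inv_eq_iff_eq_mul.mp (hwN g hg)
  have hDne : D ≠ ⊤ := fun h => hw1 (by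
    have h1 : w ∈ center G := mem_center_iff.mpr fun g =>
      mem_centralizer_singleton_iff.mp (h ▸ mem_top g : g ∈ D)
    rwa [Cfsg.Agent.SmallGroups.center_eq_bot_of_not_comm hne, mem_bot] at h1)
  -- `|D : N| = k` is a power of two congruent to `1` modulo `7`
  set k := (N.subgroupOf D).index with hk
  have hkmod : k ≡ 1 [MOD 7] :=
    Cfsg.Agent.SmallGroups.index_normalizer_subgroupOf_modEq P (le_normalizer.trans hND)
  have hDk : Nat.card D = 63 * k := by
    rw [← hN, ← Nat.card_congr (subgroupOfEquivOfLe hND).toEquiv, hk, card_mul_index]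
  have hDi := D.card_mul_index
  rw [hDk, hG] at hDi
  have hk64 : k * D.index = 64 := by
    rw [mul_assoc] at hDi
    omega
  have hclass := Cfsg.Agent.SmallGroups.card_conj_mul_centralizer w
  rw [← hDdef, hDk, hG] at hclass
  have hcl : Nat.card {g : G // IsConj w g} = D.index := by
    apply Nat.eq_of_mul_eq_mul_right (show 0 < 63 * k by rw [← hDk]; exact Nat.card_pos)
    rw [hclass, mul_comm, hDi]
  have hfus := Cfsg.Agent.SmallGroups.card_fixedBy_mul N w
  rw [show N.index = 64 from P.card_eq_index_normalizer ▸ hn, hcl] at hfus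
  have hm7 : Nat.card (MulAction.fixedBy (G ⧸ N) w) ≡ 1 [MOD 7] :=
    Cfsg.Agent.SmallGroups.card_fixedBy_modEq_one P hP hwC
  have hm3 := Cfsg.Agent.SmallGroups.card_fixedBy_modEq_card (q := 3) (α := G ⧸ N) (x := w)
    (i := 1) (by rw [pow_one, ← hw, pow_orderOf_eq_one])
  rw [show Nat.card (G ⧸ N) = 64 from P.card_eq_card_quotient_normalizer.symm.trans hn] at hm3
  have hfixlt : Nat.card (MulAction.fixedBy (G ⧸ N) w) < 64 := by
    rw [← hn, P.card_eq_card_quotient_normalizer]
    obtain ⟨a, ha⟩ : ∃ a : G ⧸ N, w • a ≠ a := by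
      by_contra hc
      push Not at hc
      refine hw1 (Cfsg.Agent.SmallGroups.toPerm_injective (H := N) (fun h => ?_) ?_)
      · have e : Nat.card (Sylow 7 G) = N.index := P.card_eq_index_normalizer
        rw [h, index_top, hn] at e
        norm_num at e
      · rw [map_one]; exact Equiv.ext hc
    exact Finite.card_subtype_lt (x := a) ha
  have hD2 : 2 * Nat.card G ∣ D.index.factorial :=
    Cfsg.Agent.SmallGroups.two_mul_card_dvd_index hne hDne
  rw [hG] at hD2
  obtain ⟨i, hi, hki⟩ := (Nat.dvd_prime_pow Nat.prime_two).mp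
    (show k ∣ 2 ^ 6 from ⟨D.index, hk64.symm⟩)
  have hk18 : k = 1 ∨ k = 8 ∨ k = 64 := by
    unfold Nat.ModEq at hkmod
    interval_cases i <;> omega
  rcases hk18 with hk1 | hk8 | hk64'
  rotate_left
  · -- `|w^G| = 8`
    rw [hk8] at hk64
    have hi8 : D.index = 8 := by omega
    rw [hi8] at hfus
    unfold Nat.ModEq at hm7 hm3
    omega
  · rw [hk64'] at hk64
    have : D.index = 1 := by omega
    exact hDne (index_eq_one.mp this)
  -- `C(w) = N`; now look at a Sylow 3-subgroup containing `w`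
  have hD : Nat.card D = 63 := by rw [hDk, hk1]
  have hinv : ∀ g : G, g * w * g⁻¹ ≠ w⁻¹ := by
    intro g hg
    have hgN : g ∈ N := by
      have hgD : ∀ x, x ∈ D ↔ g * x * g⁻¹ ∈ D := by
        intro x
        simp only [hDdef, mem_centralizer_singleton_iff]
        show Commute x w ↔ Commute (g * x * g⁻¹) w
        rw [← Commute.inv_right_iff (a := g * x * g⁻¹) (b := w), ← hg, Commute.conj_iff]
      have hND' : N = D := eq_of_le_of_card_ge hND (by rw [hD, hN])
      obtain ⟨u₀, hu₀⟩ := exists_prime_orderOf_dvd_card' (G := P) 7 (by rw [hP])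
      have hu1 : (u₀ : G) ≠ 1 := fun h => by
        rw [show u₀ = 1 from Subtype.ext h, orderOf_one] at hu₀
        norm_num at hu₀
      have h := (hgD _).mp (hND (le_normalizer u₀.2))
      rw [← hND', hNdef] at h
      have h' := (Cfsg.Agent.SmallGroups.map_conj_le_normalizer_iff P hP u₀.2 hu1 g⁻¹).mp
        (by rw [inv_inv]; exact h)
      exact inv_mem_iff.mp h'
    have := hwN g hgN
    rw [hg] at this
    have h2 : w ^ 2 = 1 := by
      rw [sq]; nth_rewrite 1 [← this]; rw [inv_mul_cancel]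
    have := orderOf_dvd_of_pow_eq_one h2
    rw [hw] at this
    norm_num at this
  obtain ⟨R, hwR⟩ := Cfsg.Agent.SmallGroups.exists_mem_sylow hw
  have hR : Nat.card ↥(R : Subgroup G) = 9 := by
    simpa using Cfsg.Agent.SmallGroups.card_sylow_eq (p := 3) (a := 2) (m := 448)
      (by rw [hG]; norm_num) (by norm_num) R
  have hRc := IsPGroup.commutative_of_card_eq_prime_sq (G := ↥(R : Subgroup G)) (p := 3) hR
  have hRD : (R : Subgroup G) ≤ D := fun g hg => by
    rw [hDdef, mem_centralizer_singleton_iff]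
    exact congrArg Subtype.val (hRc ⟨g, hg⟩ ⟨w, hwR⟩)
  set M := normalizer ((R : Subgroup G) : Set G) with hMdef
  set d := (R : Subgroup G).relIndex M with hd
  have hRM : (R : Subgroup G) ≤ M := le_normalizer
  have hMcard : Nat.card M = 9 * d := by
    rw [← hR, ← Nat.card_congr (subgroupOfEquivOfLe hRM).toEquiv, hd, relIndex, card_mul_index]
  have hn3 := Cfsg.Agent.SmallGroups.card_normalizer_mul R
  rw [← hMdef, hMcard, hG] at hn3
  have hn3' := Cfsg.Agent.SmallGroups.card_sylow_mem (G := G) (p := 3) (a := 2) (m := 448)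
    (by rw [hG]; norm_num) (by norm_num)
  -- elements of `M` commuting with `w` lie in `D`, which has odd order
  have hMw : ∀ g ∈ M, g * w * g⁻¹ = w → g ∈ (R : Subgroup G) := by
    intro g hg hgw
    have hgD : g ∈ D := by
      rw [hDdef, mem_centralizer_singleton_iff]
      exact mul_inv_eq_iff_eq_mul.mp hgw
    -- `M ⊓ D` is `R`
    have h1 : ((M ⊓ D).subgroupOf D).index ∣ 7 := by
      have h2 := ((R : Subgroup G).subgroupOf D).card_mul_index
      rw [Nat.card_congr (subgroupOfEquivOfLe hRD).toEquiv, hR, hD] at h2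
      have h3 : ((R : Subgroup G).subgroupOf D).index = 7 := by omega
      rw [← h3]
      exact index_dvd_of_le (subgroupOf_mono _ (le_inf hRM hRD))
    rcases (Nat.dvd_prime (Fact.out : Nat.Prime 7)).mp h1 with h2 | h2
    · exfalso
      rw [index_eq_one, subgroupOf_eq_top] at h2
      -- then the element of order 7 normalises `R`
      obtain ⟨u₀, hu₀⟩ := exists_prime_orderOf_dvd_card' (G := P) 7 (by rw [hP])
      have huD : (u₀ : G) ∈ D := hND (le_normalizer u₀.2)
      have h3 : 7 ∣ 9 * d := hMcard ▸ (show orderOf (u₀ : G) = 7 from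
        (orderOf_coe u₀).trans hu₀) ▸ orderOf_dvd_natCard M ((h2 huD).1)
      have h4 : 7 ∣ d := (Nat.Coprime.dvd_mul_left (by norm_num)).mp h3
      obtain ⟨d', hd'⟩ := h4
      rw [hd'] at hn3
      have h5 : Nat.card (Sylow 3 G) ∣ 64 := ⟨d', by linarith⟩
      have hDM : D ≤ M := h2.trans inf_le_left
      -- `P` would be normalised by `R`, and `R` by `P`: then they commute
      have hcomm : ∀ r ∈ (R : Subgroup G), (u₀ : G) * r = r * u₀ := by
        intro r hr
        have hrN : r ∈ N := (eq_of_le_of_card_ge hND (by rw [hD, hN])).symm ▸ hRD hr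
        have hm1 : (u₀ : G) * r * (u₀ : G)⁻¹ * r⁻¹ ∈ (R : Subgroup G) :=
          mul_mem ((mem_normalizer_iff.mp (hDM huD) r).mp hr) (inv_mem hr)
        have hm2 : (u₀ : G) * r * (u₀ : G)⁻¹ * r⁻¹ ∈ (P : Subgroup G) := by
          rw [mul_assoc, mul_assoc, ← mul_assoc r]
          exact mul_mem u₀.2 ((mem_normalizer_iff.mp hrN _).mp (inv_mem u₀.2))
        have h6 : ((u₀ : G) * r * (u₀ : G)⁻¹ * r⁻¹) = 1 := by
          rw [← orderOf_eq_one_iff]
          have a := orderOf_dvd_natCard _ hm1
          have b := orderOf_dvd_natCard _ hm2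
          rw [hR] at a; rw [hP] at b
          exact Nat.eq_one_of_dvd_coprimes (by norm_num) a b
        exact mul_inv_eq_iff_eq_mul.mp (mul_inv_eq_one.mp h6)
      have hu1 : orderOf (u₀ : G) = 7 := (orderOf_coe u₀).trans hu₀
      have hRC : (R : Subgroup G) ≤ C := fun r hr => by
        rw [hCdef, mem_centralizer_iff]
        intro x hx
        have hzp := Cfsg.Agent.SmallGroups.zpowers_eq_of_card_prime hP u₀.2
          (fun h => by rw [h, orderOf_one] at hu1; norm_num at hu1)
        rw [SetLike.mem_coe, ← hzp] at hx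
        obtain ⟨i, rfl⟩ := hx
        exact (Commute.zpow_left (hcomm r hr) i).eq
      have := card_dvd_of_le hRC
      rw [hR, hC] at this
      norm_num at this
    · have h3 := ((M ⊓ D).subgroupOf D).card_mul_index
      rw [h2, hD, Nat.card_congr (subgroupOfEquivOfLe inf_le_right).toEquiv] at h3
      have h4 : (R : Subgroup G) = M ⊓ D :=
        eq_of_le_of_card_ge (le_inf hRM hRD) (by rw [hR]; omega)
      rw [h4]; exact ⟨hg, hgD⟩
  -- the conjugates of `w` and `w⁻¹` under `M` fill `R`
  let F : (M ⧸ (R : Subgroup G).subgroupOf M) × Bool → {y : ↥(R : Subgroup G) // y ≠ 1} := fun q =>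
    if q.2 then ⟨⟨(q.1.out : G) * w * (q.1.out : G)⁻¹,
        (mem_normalizer_iff.mp q.1.out.2 w).mp hwR⟩, fun h => hw1 (by
          simpa [mul_inv_eq_one, mul_eq_left] using congrArg Subtype.val h)⟩
    else ⟨⟨(q.1.out : G) * w⁻¹ * (q.1.out : G)⁻¹,
        (mem_normalizer_iff.mp q.1.out.2 w⁻¹).mp (inv_mem hwR)⟩, fun h => hw1 (by
          simpa [mul_inv_eq_one, mul_eq_left] using congrArg Subtype.val h)⟩
  have hFinj : Function.Injective F := by
    rintro ⟨q, s⟩ ⟨q', s'⟩ h
    have h' := congrArg (fun y : {y : ↥(R : Subgroup G) // y ≠ 1} => (y.1 : G)) h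
    cases s <;> cases s' <;> simp only [F, if_true, if_false, Bool.false_eq_true] at h'
    rotate_left
    · exfalso
      refine hinv ((q.out : G)⁻¹ * q'.out) ?_
      calc (q.out : G)⁻¹ * q'.out * w * ((q.out : G)⁻¹ * q'.out)⁻¹
          = (q.out : G)⁻¹ * ((q'.out : G) * w * (q'.out : G)⁻¹) * q.out := by group
        _ = w⁻¹ := by rw [← h']; group
    · exfalso
      refine hinv ((q'.out : G)⁻¹ * q.out) ?_
      calc (q'.out : G)⁻¹ * q.out * w * ((q'.out : G)⁻¹ * q.out)⁻¹
          = (q'.out : G)⁻¹ * ((q.out : G) * w * (q.out : G)⁻¹) * q'.out := by group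
        _ = w⁻¹ := by rw [h']; group
    all_goals
      refine Prod.ext ?_ rfl
      rw [← QuotientGroup.out_eq' q, ← QuotientGroup.out_eq' q', QuotientGroup.eq]
      rw [mem_subgroupOf]
      refine hMw _ (mul_mem (inv_mem q.out.2) q'.out.2) ?_
      push_cast
      have h'' : (q.out : G) * w * (q.out : G)⁻¹ = (q'.out : G) * w * (q'.out : G)⁻¹ := by
        first | exact h' | (have := congrArg (·⁻¹) h'; simpa [mul_assoc] using this)
      calc (q.out : G)⁻¹ * q'.out * w * ((q.out : G)⁻¹ * q'.out)⁻¹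
          = (q.out : G)⁻¹ * ((q'.out : G) * w * (q'.out : G)⁻¹) * q.out := by group
        _ = w := by rw [← h'']; group
  have h8 : Nat.card {y : ↥(R : Subgroup G) // y ≠ 1} = 8 := by
    classical
    have := Fintype.ofFinite ↥(R : Subgroup G)
    rw [Nat.card_eq_fintype_card, Fintype.card_subtype_compl, Fintype.card_subtype_eq,
      ← Nat.card_eq_fintype_card, hR]
  have hdom : Nat.card ((M ⧸ (R : Subgroup G).subgroupOf M) × Bool) = d * 2 := by
    rw [Nat.card_prod, hd, relIndex, index_eq_card]; simp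
  have hle := Nat.card_le_card_of_injective F hFinj
  rw [h8, hdom] at hle
  have hd4 : d = 4 := by
    have hd1 : d ≠ 1 := fun h => by
      have hMR : M ≤ (R : Subgroup G) := relIndex_eq_one.mp h
      refine Cfsg.Agent.SmallGroups.not_normalizer_le_centralizer hne (p := 3)
        (by rw [hG]; norm_num) R fun x hx => ?_
      rw [mem_centralizer_iff]
      exact fun y hy => congrArg Subtype.val (hRc ⟨y, hy⟩ ⟨x, hMR hx⟩)
    have hdle : d ≤ 4 := by omega
    interval_cases d <;> omega
  have hbij : Function.Bijective F :=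
    (Nat.bijective_iff_injective_and_card F).mpr ⟨hFinj, by rw [h8, hdom, hd4]⟩
  -- an involution of `M` centralises some `y ≠ 1` of `R`
  obtain ⟨a₀, ha₀⟩ := exists_prime_orderOf_dvd_card' (G := M) 2 (by rw [hMcard, hd4]; norm_num)
  have ha2 : (a₀ : G) * a₀ = 1 := by
    have h := pow_orderOf_eq_one a₀
    rw [ha₀, sq] at h
    exact congrArg Subtype.val h
  have ha' : (a₀ : G)⁻¹ = a₀ := inv_eq_of_mul_eq_one_right ha2
  have haw : (a₀ : G) * w * a₀ ∈ (R : Subgroup G) := by
    have := (mem_normalizer_iff.mp a₀.2 w).mp hwR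
    rwa [ha'] at this
  set y : G := w * ((a₀ : G) * w * a₀) with hy
  have hyR : y ∈ (R : Subgroup G) := mul_mem hwR haw
  have hy1 : y ≠ 1 := fun h => hinv a₀ (by
    rw [ha']; exact eq_inv_of_mul_eq_one_right h)
  have hay : (a₀ : G) * y = y * a₀ := by
    have hc : w * ((a₀ : G) * w * a₀) = (a₀ : G) * w * a₀ * w :=
      congrArg Subtype.val (hRc ⟨w, hwR⟩ ⟨_, haw⟩)
    calc (a₀ : G) * y = a₀ * w * a₀ * w * a₀ := by simp [hy, mul_assoc]
      _ = y * a₀ := by rw [hy, hc]
  obtain ⟨⟨q, s⟩, hq⟩ := hbij.2 ⟨⟨y, hyR⟩, fun h => hy1 (congrArg Subtype.val h)⟩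
  have hq' := congrArg (fun y : {y : ↥(R : Subgroup G) // y ≠ 1} => (y.1 : G)) hq
  have hb : ((q.out : G)⁻¹ * a₀ * q.out) ∈ D := by
    rw [hDdef, mem_centralizer_singleton_iff]
    have hcy : Commute (a₀ : G) y := hay
    cases s <;> simp only [F, if_true, if_false, Bool.false_eq_true] at hq'
    · have h' : Commute (a₀ : G) y⁻¹ := hcy.inv_right
      rw [← hq'] at h'
      have := h'.map (MulAut.conj (q.out : G)⁻¹).toMonoidHom
      simpa [mul_assoc, commute_iff_eq] using this
    · rw [← hq'] at hcy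
      have := hcy.map (MulAut.conj (q.out : G)⁻¹).toMonoidHom
      simpa [mul_assoc, commute_iff_eq] using this
  have ho : orderOf ((q.out : G)⁻¹ * a₀ * q.out) = 2 := by
    rw [show (q.out : G)⁻¹ * a₀ * q.out = MulAut.conj (q.out : G)⁻¹ a₀ by simp,
      MulEquiv.orderOf_eq, orderOf_coe, ha₀]
  have := ho ▸ orderOf_dvd_natCard D hb
  rw [hD] at this
  norm_num at this



/-- No finite simple group has order 4032 = 2^6 * 3^2 * 7. -/
theorem result {G : Type*} [Group G] [Finite G] [IsSimpleGroup G] : Nat.card G ≠ 4032 := by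
  intro hG
  have : Fact (Nat.Prime 7) := ⟨by norm_num⟩
  have hne : ¬ IsMulCommutative G :=
    Cfsg.Agent.SmallGroups.not_comm_of_not_prime (by rw [hG]; norm_num)
  have hm := Cfsg.Agent.SmallGroups.card_sylow_mem_list (G := G) (p := 7) (a := 1) (m := 576)
    (by rw [hG]; norm_num) (by norm_num)
  rw [show (Nat.divisors 576).filter (fun d => d % 7 = 1) = {1, 8, 36, 64, 288} by decide +kernel]
    at hm
  simp only [Finset.mem_insert, Finset.mem_singleton] at hm
  replace hm := hm.resolve_left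
    (Cfsg.Agent.SmallGroups.card_sylow_ne_one hne (by rw [hG]; norm_num))
  obtain ⟨P⟩ := (inferInstance : Nonempty (Sylow 7 G))
  have hP : Nat.card ↥(P : Subgroup G) = 7 := by
    simpa using Cfsg.Agent.SmallGroups.card_sylow_eq (p := 7) (a := 1) (m := 576)
      (by rw [hG]; norm_num) (by norm_num) P
  have hsmall : ∀ n, Nat.card (Sylow 7 G) = n * 7 + 1 →
      (Subgroup.centralizer ((P : Subgroup G) : Set G)).relIndex
        (Subgroup.normalizer ((P : Subgroup G) : Set G)) ∣ 6 ∧
      Nat.card (Subgroup.centralizer ((P : Subgroup G) : Set G)) ∣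
        7 * Nat.card (alternatingGroup (Fin n)) := fun n hn =>
    ⟨Cfsg.Agent.SmallGroups.relIndex_centralizer_dvd_of_prime (p := 7) _ hP,
      Cfsg.Agent.SmallGroups.card_centralizer_dvd hne P hP (by norm_num) hn⟩
  have hmul := Cfsg.Agent.SmallGroups.card_centralizer_mul_relIndex (P : Subgroup G)
  rcases hm with h | h | h | h
  · have hN := Cfsg.Agent.SmallGroups.normalizer_conj_eq_card P h (k := 504) (by rw [hG])
    obtain ⟨h1, h2⟩ := hsmall 1 (by rw [h])
    rw [hN] at hmul
    rw [show Nat.card (alternatingGroup (Fin 1)) = 1 from Nat.card_unique, mul_one] at h2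
    have h3 := Nat.le_of_dvd (by norm_num) h1
    have h4 := Nat.le_of_dvd (by norm_num) h2
    have h5 := Nat.mul_le_mul h4 h3
    omega
  · have hN := Cfsg.Agent.SmallGroups.normalizer_conj_eq_card P h (k := 112) (by rw [hG])
    obtain ⟨h1, h2⟩ := hsmall 5 (by rw [h])
    rw [hN] at hmul
    have : Nontrivial (Fin 5) := inferInstance
    rw [show Nat.card (alternatingGroup (Fin 5)) = 60 by
      rw [nat_card_alternatingGroup, Nat.card_eq_fintype_card, Fintype.card_fin]; rfl] at h2
    have h3 := Nat.dvd_gcd h1 (Dvd.intro_left _ hmul)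
    rw [show Nat.gcd 6 112 = 2 from rfl] at h3
    have h4 : 56 ∣ Nat.card (Subgroup.centralizer ((P : Subgroup G) : Set G)) := by
      rcases (Nat.dvd_prime Nat.prime_two).mp h3 with h5 | h5 <;> rw [h5] at hmul <;> omega
    have := h4.trans h2
    norm_num at this
  · exact case64 hG P h
  · obtain ⟨a, b, δ, ε, hδ, hε, ha, had, hbd, hpa, hpb, heq, hle, hsq⟩ :=
      Cfsg.Agent.SmallGroups.exists_two_degrees_of_sylow hne (by norm_num : 5 ≤ 7) (n := 288)
        (by rw [hG]) h (by norm_num)
    rw [hG] at hle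
    norm_num at hle had hbd hpa hpb
    have hb : b ≤ 36 := by
      clear hmul hsmall hsq
      nlinarith
    have htab : ∀ a ∈ Nat.divisors 576, ∀ b ∈ Nat.divisors 576, 2 ≤ a → (a + 1 = b ∨ b + 1 = a) →
        b ≤ 36 → (b % 7 = 2 ∨ b % 7 = 5) → (a % 7 = 1 ∨ a % 7 = 6) → a = 8 ∧ b = 9 := by
      decide +kernel
    obtain ⟨rfl, rfl⟩ := htab a (Nat.mem_divisors.mpr ⟨had, by norm_num⟩)
      b (Nat.mem_divisors.mpr ⟨hbd, by norm_num⟩) ha
      (by rcases hδ with rfl | rfl <;> rcases hε with rfl | rfl <;> omega) hb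
      (by rcases hε with rfl | rfl <;> omega) (by rcases hδ with rfl | rfl <;> omega)
    obtain ⟨r, hr⟩ := hsq
    have h1 : r < 204 := by nlinarith
    have h2 : 203 < r := by nlinarith
    omega

end Cfsg.Agent.S0976
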