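import Cfsg.Statements.S0977
import Cfsg.Agent.Lib.SmallGroups.SelfCent.Count
import Cfsg.Agent.Lib.SmallGroups.SelfCent.TwoDeg
import Cfsg.Agent.Lib.SmallGroups.ThreePrimes

set_option autoImplicit false
open Cfsg

namespace Cfsg.Agent.S0977

open scoped ComplexConjugate in
open Cfsg.Agent.SmallGroups Cfsg.Agent.SmallGroups.SelfCent in
theorem case216 {G : Type*} [Group G] [Fintype G] [IsSimpleGroup G] [Fact (Nat.Prime 5)]
    (hne : ¬ IsMulCommutative G) (hG : Nat.card G = 4320)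
    (hall : ∀ P : Sylow 5 G, Nat.card ↥(P : Subgroup G) = 5 ∧
      Subgroup.centralizer ((P : Subgroup G) : Set G) = (P : Subgroup G))
    (P : Sylow 5 G)
    (hN : Nat.card (Subgroup.normalizer ((P : Subgroup G) : Set G)) = 4 * 5) : False := by
  classical
  obtain ⟨s, hK, -, hcard⟩ := exists_setup_of_prime (P : Subgroup G) (hall P).1 (hall P).2
  rw [hN] at hcard
  have he : Nat.card s.auto = 4 :=
    (Nat.eq_of_mul_eq_mul_right (by norm_num : 0 < 5) hcard).symm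
  have hO1 : Nat.card s.Orb = 1 := by
    have := s.card_orb_mul
    rw [he] at this
    omega
  obtain ⟨hsub, ⟨o₀⟩⟩ := Nat.card_eq_one_iff_unique.mp hO1
  have := Fintype.ofFinite s.Orb
  set u : Cfsg.IrrCharacter G → ℤ := fun χ => s.vecO χ o₀ with hu
  have huall : ∀ χ o, s.vecO χ o = u χ := fun χ o => by rw [hu, Subsingleton.elim o o₀]
  have hnorm : ∑ χ : Cfsg.IrrCharacter G, u χ * u χ = 5 := by
    rw [hu, s.gram_orb o₀ o₀, if_pos rfl, he]; norm_num
  have hrel : ∑ χ : Cfsg.IrrCharacter G, (Setup.deg χ : ℤ) * u χ = 0 := s.sum_deg_mul_vecO o₀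
  have hut : u Setup.triv = -1 := s.vecO_triv o₀
  have hk : s.kset = {1} := by ext w; simp [s.mem_kset, hK]
  have hz : ∀ χ : Cfsg.IrrCharacter G, (χ : G → ℂ) s.z = -(u χ : ℂ) := fun χ => by
    have h := s.phi_of_const χ (u χ) (huall χ) (one_ne_zero (α := ZMod 5))
    simpa [Setup.phi, hk, s.zp_one] using h
  have hdC : ∀ χ : Cfsg.IrrCharacter G, (χ : G → ℂ) 1 = (Setup.deg χ : ℂ) :=
    fun χ => (Setup.deg_spec χ).2.2
  have hmod : ∀ χ, (5 : ℤ) ∣ (Setup.deg χ : ℤ) + u χ := fun χ => by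
    obtain ⟨n, hn, -, hmod⟩ := s.exists_fix χ
    rw [Fintype.sum_subsingleton _ o₀, he] at hmod
    have h0 := s.phi_zero_of_bot hK χ
    rw [hn, hdC] at h0
    have h1 : n = Setup.deg χ := by exact_mod_cast h0
    rw [h1] at hmod
    change ((Setup.deg χ : ℕ) : ℤ) ≡ ((4 : ℕ) : ℤ) * u χ [ZMOD ((5 : ℕ) : ℤ)] at hmod
    unfold Int.ModEq at hmod
    push_cast at hmod
    omega
  have : Nonempty s.Orb := ⟨o₀⟩
  have hdvd : ∀ χ, (Setup.deg χ : ℤ) ∣ 864 * u χ := fun χ => by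
    have h := s.deg_dvd_of_const χ (u χ) (huall χ)
    rw [hG] at h
    exact_mod_cast h
  have hdeg2 : ∀ χ : Cfsg.IrrCharacter G, χ ≠ Setup.triv → 2 ≤ Setup.deg χ := fun χ hχ => by
    have h1 := (Setup.deg_spec χ).1
    have h2 : Setup.deg χ ≠ 1 := fun h => hχ ((deg_eq_one_iff hne χ).mp h)
    omega
  set R := (Finset.univ.erase (Setup.triv : Cfsg.IrrCharacter G)).filter fun χ => u χ ≠ 0 with hR
  have hRmem : ∀ χ, χ ∈ R ↔ χ ≠ Setup.triv ∧ u χ ≠ 0 := fun χ => by simp [hR]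
  have htR : (Setup.triv : Cfsg.IrrCharacter G) ∉ R := by simp [hR]
  have hsplit : ∀ (A : Type) [AddCommMonoid A] (F : Cfsg.IrrCharacter G → A),
      (∀ χ, u χ = 0 → F χ = 0) → ∑ χ, F χ = F Setup.triv + ∑ χ ∈ R, F χ := by
    intro A _ F hF
    rw [← Finset.sum_insert htR]
    refine (Finset.sum_subset (Finset.subset_univ _) fun χ _ hχ => hF χ ?_).symm
    simp only [Finset.mem_insert, hRmem, not_or, not_and, not_not] at hχ
    exact hχ.2 hχ.1
  have hnormR : ∑ χ ∈ R, u χ * u χ = 4 := by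
    rw [hsplit ℤ _ (fun χ h => by rw [h, mul_zero]), hut] at hnorm
    linarith
  have hrelR : ∑ χ ∈ R, (Setup.deg χ : ℤ) * u χ = 1 := by
    rw [hsplit ℤ _ (fun χ h => by rw [h, mul_zero]), hut, Setup.deg_triv] at hrel
    push_cast at hrel
    linarith
  have hone : ∀ χ ∈ R, u χ = 1 ∨ u χ = -1 := by
    intro χ hχ
    have hsingle := Finset.single_le_sum (f := fun χ => u χ * u χ)
      (fun χ _ => mul_self_nonneg _) hχ
    rw [hnormR] at hsingle
    have h0 := ((hRmem χ).mp hχ).2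
    have hlo : -2 ≤ u χ := by nlinarith
    have hhi : u χ ≤ 2 := by nlinarith
    by_contra hcon
    have h22 : u χ = 2 ∨ u χ = -2 := by omega
    have hrest : ∀ ψ ∈ R.erase χ, u ψ * u ψ = 0 := by
      have h4 : u χ * u χ = 4 := by rcases h22 with h | h <;> rw [h] <;> norm_num
      have h5 : ∑ ψ ∈ R.erase χ, u ψ * u ψ = 0 := by
        rw [← Finset.add_sum_erase _ _ hχ, h4] at hnormR
        linarith
      exact (Finset.sum_eq_zero_iff_of_nonneg fun ψ _ => mul_self_nonneg _).mp h5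
    rw [← Finset.add_sum_erase _ _ hχ, Finset.sum_eq_zero (s := R.erase χ) (fun ψ hψ => by
      rw [mul_self_eq_zero.mp (hrest ψ hψ), mul_zero]), add_zero] at hrelR
    rcases h22 with h | h <;> rw [h] at hrelR <;> omega
  have hRcard : R.card = 4 := by
    rw [Finset.sum_congr rfl (g := fun _ => (1 : ℤ)) (fun χ hχ => by
      rcases hone χ hχ with h | h <;> rw [h] <;> norm_num), Finset.sum_const, nsmul_one] at hnormR
    exact_mod_cast hnormR
  have hsq : 1 + ∑ χ ∈ R, Setup.deg χ ^ 2 ≤ 4320 := by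
    have h := CharCore.sum_degree_sq (G := G)
    simp only [hdC] at h
    have h' : ∑ χ : Cfsg.IrrCharacter G, Setup.deg χ ^ 2 = 4320 := by
      rw [← hG]; exact_mod_cast h
    rw [← h', ← one_pow 2, ← Setup.deg_triv (G := G), ← Finset.sum_insert (f := fun χ =>
      Setup.deg χ ^ 2) htR]
    exact Finset.sum_le_univ_sum_of_nonneg fun _ => Nat.zero_le _
  have htype : ∀ χ ∈ R, (Setup.deg χ = 4 ∧ u χ = 1) ∨ (Setup.deg χ = 6 ∧ u χ = -1) ∨
      (Setup.deg χ = 9 ∧ u χ = 1) ∨ (Setup.deg χ = 16 ∧ u χ = -1) ∨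
      (Setup.deg χ = 24 ∧ u χ = 1) ∨ (Setup.deg χ = 36 ∧ u χ = -1) ∨
      (Setup.deg χ = 54 ∧ u χ = 1) := by
    intro χ hχ
    have h2 := hdeg2 χ ((hRmem χ).mp hχ).1
    have hs := Finset.single_le_sum (f := fun χ => Setup.deg χ ^ 2) (fun _ _ => Nat.zero_le _) hχ
    have h65 : Setup.deg χ ≤ 65 := by nlinarith
    have hd' : Setup.deg χ ∣ 864 := by
      apply Int.natCast_dvd_natCast.mp
      have h := hdvd χ
      rcases hone χ hχ with r | r <;> rw [r] at h <;> simpa using h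
    have htab : ∀ a ∈ Nat.divisors 864, 2 ≤ a → a ≤ 65 → (a % 5 = 1 ∨ a % 5 = 4) →
        a = 4 ∨ a = 6 ∨ a = 9 ∨ a = 16 ∨ a = 24 ∨ a = 36 ∨ a = 54 := by decide +kernel
    have hm := hmod χ
    rcases htab _ (Nat.mem_divisors.mpr ⟨hd', by norm_num⟩) h2 h65
      (by rcases hone χ hχ with r | r <;> rw [r] at hm <;> omega) with h | h | h | h | h | h | h <;>
      rw [h] at hm ⊢ <;> rcases hone χ hχ with r | r <;> rw [r] at hm ⊢ <;> omega
  set F : ℕ → Finset (Cfsg.IrrCharacter G) := fun d => R.filter fun χ => Setup.deg χ = d with hF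
  have hby : ∀ (A : Type) [AddCommMonoid A] (f : Cfsg.IrrCharacter G → A),
      ∑ χ ∈ R, f χ = ∑ χ ∈ F 4, f χ + ∑ χ ∈ F 6, f χ + ∑ χ ∈ F 9, f χ + ∑ χ ∈ F 16, f χ +
        ∑ χ ∈ F 24, f χ + ∑ χ ∈ F 36, f χ + ∑ χ ∈ F 54, f χ := by
    intro A _ f
    simp only [hF, Finset.sum_filter, ← Finset.sum_add_distrib]
    exact Finset.sum_congr rfl fun χ hχ => by
      rcases htype χ hχ with h | h | h | h | h | h | h <;> simp [h.1]
  have hFmem : ∀ {d : ℕ} {χ : Cfsg.IrrCharacter G}, χ ∈ F d → χ ∈ R ∧ Setup.deg χ = d :=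
    fun h => Finset.mem_filter.mp h
  have hFu : ∀ {d : ℕ} {χ : Cfsg.IrrCharacter G}, χ ∈ F d → (d : ℤ) * u χ =
      if d = 6 ∨ d = 16 ∨ d = 36 then -(d : ℤ) else (d : ℤ) := fun {d χ} h => by
    obtain ⟨hχ, rfl⟩ := hFmem h
    rcases htype χ hχ with r | r | r | r | r | r | r <;> simp [r.1, r.2]
  have e1 : (F 4).card + (F 6).card + (F 9).card + (F 16).card + (F 24).card + (F 36).card +
      (F 54).card = 4 := by
    have h := hby ℕ (fun _ => 1)
    simp only [Finset.sum_const, smul_eq_mul, mul_one] at h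
    omega
  have e2 : 4 * ((F 4).card : ℤ) - 6 * (F 6).card + 9 * (F 9).card - 16 * (F 16).card +
      24 * (F 24).card - 36 * (F 36).card + 54 * (F 54).card = 1 := by
    have h := hby ℤ (fun χ => (Setup.deg χ : ℤ) * u χ)
    rw [hrelR] at h
    have hc : ∀ d, ∑ χ ∈ F d, (Setup.deg χ : ℤ) * u χ =
        ((F d).card : ℤ) * if d = 6 ∨ d = 16 ∨ d = 36 then -(d : ℤ) else (d : ℤ) := fun d => by
      rw [Finset.sum_congr rfl (fun χ hχ => by rw [(hFmem hχ).2, hFu hχ]), Finset.sum_const,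
        nsmul_eq_mul]
    simp only [hc] at h
    norm_num at h
    linarith
  have e3 : 1 + 16 * (F 4).card + 36 * (F 6).card + 81 * (F 9).card + 256 * (F 16).card +
      576 * (F 24).card + 1296 * (F 36).card + 2916 * (F 54).card ≤ 4320 := by
    have h := hby ℕ (fun χ => Setup.deg χ ^ 2)
    have hc : ∀ d, ∑ χ ∈ F d, Setup.deg χ ^ 2 = (F d).card * d ^ 2 := fun d => by
      rw [Finset.sum_congr rfl (fun χ hχ => by rw [(hFmem hχ).2]), Finset.sum_const, smul_eq_mul]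
    simp only [hc] at h
    norm_num at h
    omega
  have hk9 : (F 9).card = 1 ∧ (F 54).card = 0 ∧ (F 24).card ≤ 1 ∧ (F 36).card ≤ 1 ∧
      ((F 6).card = 0 ∨ ((F 6).card = 2 ∧ (F 24).card = 0 ∧ (F 36).card = 0)) := by
    have b54 : (F 54).card ≤ 1 := by omega
    have b36 : (F 36).card ≤ 3 := by omega
    have b24 : (F 24).card ≤ 4 := by omega
    generalize (F 54).card = k54 at e1 e2 e3 b54 ⊢
    generalize (F 36).card = k36 at e1 e2 e3 b36 ⊢
    generalize (F 24).card = k24 at e1 e2 e3 b24 ⊢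
    interval_cases k54 <;> interval_cases k36 <;> interval_cases k24 <;> omega
  obtain ⟨h9, h54, h24, h36, h6⟩ := hk9
  -- a central involution of a Sylow 2-subgroup
  obtain ⟨T⟩ := (inferInstance : Nonempty (Sylow 2 G))
  obtain ⟨y, hy2, hy1, hyC⟩ := exists_involution_index_dvd T (by rw [hG]; norm_num)
  have : Fact (Nat.Prime 2) := ⟨Nat.prime_two⟩
  rw [index_sylow_eq (p := 2) (a := 5) (m := 135) (by rw [hG]; norm_num) (by norm_num) T] at hyC
  set W := Subgroup.centralizer ({y} : Set G) with hW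
  have hy : orderOf y = 2 := orderOf_eq_prime hy2 hy1
  have hW5 : ¬ 5 ∣ Nat.card W := by
    intro h
    obtain ⟨v, hv⟩ := exists_prime_orderOf_dvd_card' (G := W) 5 h
    have hv' : orderOf (v : G) = 5 := (Subgroup.orderOf_coe v).trans hv
    obtain ⟨Q, hQ⟩ := exists_mem_sylow (p := 5) hv'
    have hzp := zpowers_eq_of_card_prime (hall Q).1 hQ
      (fun h => by rw [h, orderOf_one] at hv'; norm_num at hv')
    have hyQ : y ∈ (Q : Subgroup G) := by
      rw [← (hall Q).2, ← hzp, Subgroup.zpowers_eq_closure, Subgroup.centralizer_closure,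
        Subgroup.mem_centralizer_singleton_iff]
      exact (Subgroup.mem_centralizer_singleton_iff.mp v.2).symm
    have := Subgroup.orderOf_dvd_natCard _ hyQ
    rw [hy, (hall Q).1] at this
    norm_num at this
  have hWmul := W.card_mul_index
  rw [hG] at hWmul
  have h5C : 5 ∣ W.index :=
    ((Nat.Prime.dvd_mul (by norm_num)).mp
      (hWmul ▸ (by norm_num : 5 ∣ 4320))).resolve_left hW5
  have hCcases : W.index = 5 ∨ W.index = 15 ∨ W.index = 45 ∨ W.index = 135 := by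
    have : ∀ x ∈ Nat.divisors 135, 5 ∣ x → x = 5 ∨ x = 15 ∨ x = 45 ∨ x = 135 := by decide
    exact this _ (Nat.mem_divisors.mpr ⟨hyC, by norm_num⟩) h5C
  have hval : ∀ χ : Cfsg.IrrCharacter G, χ ≠ Setup.triv → ∃ n : ℤ, (χ : G → ℂ) y = n ∧ -(Setup.deg χ : ℤ) < n ∧
      n < (Setup.deg χ : ℤ) ∧ (4 : ℤ) ∣ (Setup.deg χ : ℤ) - n ∧
      (Setup.deg χ : ℤ) ∣ (W.index : ℤ) * n := by
    intro χ hχ
    obtain ⟨n, hn, h1, h2, h4⟩ := exists_int_value_four hne χ hy2
    have h1' : n ≠ -(Setup.deg χ : ℤ) := fun h => value_ne_neg_deg hne hχ hy2 hy1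
      (by rw [hn, h]; push_cast; rfl)
    have h2' : n ≠ (Setup.deg χ : ℤ) := fun h => value_ne_deg hχ hy1 (by rw [hn, h]; norm_cast)
    exact ⟨n, hn, by omega, by omega, h4, deg_dvd_index_mul χ hn⟩
  choose! S hS using hval
  have hS' : ∀ {d : ℕ} {χ : Cfsg.IrrCharacter G}, χ ∈ F d → (χ : G → ℂ) y = S χ ∧
      -(d : ℤ) < S χ ∧ S χ < (d : ℤ) ∧ (4 : ℤ) ∣ (d : ℤ) - S χ ∧
      (d : ℤ) ∣ (W.index : ℤ) * S χ := fun {d χ} h => by
    obtain ⟨hχ, rfl⟩ := hFmem h
    exact hS χ ((hRmem χ).mp hχ).1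
  have hyne : ∀ k : ZMod 5, k ≠ 0 → ∀ w ∈ s.K, ¬ IsConj y (s.zp k * w) := by
    intro k hk w hw hc
    rw [hK, Subgroup.mem_bot] at hw
    rw [hw, mul_one] at hc
    obtain ⟨g, hg⟩ := isConj_iff.mp hc
    have h1 : s.zp k ^ 2 = 1 := by rw [← hg, conj_pow, hy2]; group
    rw [s.zp_pow, s.zp_eq_one_iff] at h1
    rcases mul_eq_zero.mp h1 with h | h
    · exact hk h
    · exact absurd ((ZMod.natCast_eq_zero_iff 2 5).mp (by exact_mod_cast h)) (by norm_num)
  have hrelS : ∑ χ ∈ R, u χ * S χ = 1 := by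
    have h := s.sum_vec_mul_apply hyne ((Quotient.out o₀ : (ZMod 5)ˣ) : ZMod 5)
    change ∑ χ : Cfsg.IrrCharacter G, (χ : G → ℂ) y * (u χ : ℂ) = 0 at h
    rw [hsplit ℂ _ (fun χ h => by rw [h]; simp), hut] at h
    apply Int.cast_injective (α := ℂ)
    rw [Int.cast_sum, Finset.sum_congr rfl (g := fun χ : Cfsg.IrrCharacter G => (χ : G → ℂ) y * (u χ : ℂ))
      (fun χ hχ => by rw [Int.cast_mul, (hS χ ((hRmem χ).mp hχ).1).1, mul_comm])]
    simp only [Setup.triv, Pi.one_apply] at h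
    push_cast at h ⊢
    linear_combination h
  have hcol : 1 + ∑ χ ∈ R, S χ ^ 2 ≤ (Nat.card W : ℤ) := by
    have h := sum_sq_le_card_centralizer (insert (Setup.triv : Cfsg.IrrCharacter G) R)
      (fun χ => if χ = Setup.triv then 1 else S χ) (w := y) (fun χ hχ => by
        simp only [Finset.mem_insert] at hχ
        rcases hχ with rfl | hχ
        · simp [Setup.triv]
        · rw [if_neg ((hRmem χ).mp hχ).1]; exact (hS χ ((hRmem χ).mp hχ).1).1)
    rw [Finset.sum_insert htR, if_pos rfl, one_pow] at h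
    rw [Finset.sum_congr rfl (g := fun χ => S χ ^ 2) (fun χ hχ => by
      rw [if_neg ((hRmem χ).mp hχ).1])] at h
    exact h
  -- small degrees
  have hzero : ∀ d, d = 4 ∨ d = 16 → ∀ χ ∈ F d, S χ = 0 := by
    intro d hd χ hχ
    obtain ⟨-, h1, h2, h4, h5⟩ := hS' hχ
    rcases hd with rfl | rfl <;> rcases hCcases with h | h | h | h <;> rw [h] at h5 <;>
      push_cast at h1 h2 h4 h5 <;> omega
  have h54' : F 54 = ∅ := Finset.card_eq_zero.mp h54
  obtain ⟨χ9, hχ9⟩ := Finset.card_eq_one.mp h9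
  obtain ⟨-, l9, g9, m9, d9⟩ := hS' (d := 9) (χ := χ9) (by rw [hχ9]; exact Finset.mem_singleton_self _)
  obtain ⟨L, hL6, hL0, hLbound⟩ : ∃ L : ℤ, ∑ χ ∈ F 6, S χ = L ∧ ((F 6).card = 0 → L = 0) ∧
      (L = -4 ∨ L = 0 ∨ L = 4) := by
    refine ⟨_, rfl, fun h => by rw [Finset.card_eq_zero.mp h, Finset.sum_empty], ?_⟩
    rcases h6 with h | ⟨h, -, -⟩
    · rw [Finset.card_eq_zero.mp h, Finset.sum_empty]; omega
    · obtain ⟨a, b, hab, heq⟩ := Finset.card_eq_two.mp h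
      obtain ⟨-, la, ga, ma, -⟩ := hS' (d := 6) (χ := a) (by rw [heq]; simp)
      obtain ⟨-, lb, gb, mb, -⟩ := hS' (d := 6) (χ := b) (by rw [heq]; simp)
      rw [heq, Finset.sum_pair hab]
      push_cast at la ga ma lb gb mb
      omega
  have hsix : ∀ χ ∈ F 6, S χ ^ 2 = 4 := by
    intro χ hχ
    obtain ⟨-, h1, h2, h4, -⟩ := hS' hχ
    push_cast at h1 h2 h4
    have : S χ = 2 ∨ S χ = -2 := by omega
    rcases this with h | h <;> rw [h] <;> norm_num
  have hsingle : ∀ d, (F d).card ≤ 1 → 0 < d → ∃ v : ℤ, ∑ χ ∈ F d, S χ = v ∧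
      ∑ χ ∈ F d, S χ ^ 2 = v ^ 2 ∧ ((F d).card = 0 → v = 0) ∧ -(d : ℤ) < v ∧ v < d ∧
      (d % 4 = 0 → (4 : ℤ) ∣ v) ∧ (d : ℤ) ∣ (W.index : ℤ) * v := by
    intro d hd hd0
    rcases Nat.le_one_iff_eq_zero_or_eq_one.mp hd with h | h
    · exact ⟨0, by simp [Finset.card_eq_zero.mp h], by simp [Finset.card_eq_zero.mp h],
        fun _ => rfl, by omega, by omega, fun _ => dvd_zero _, by simp⟩
    · obtain ⟨χ, hχ⟩ := Finset.card_eq_one.mp h
      obtain ⟨-, h1, h2, h4, h5⟩ := hS' (d := d) (χ := χ) (by rw [hχ]; simp)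
      exact ⟨S χ, by simp [hχ], by simp [hχ], fun h0 => by omega, h1, h2,
        fun hd4 => by omega, h5⟩
  obtain ⟨s24, hs24, hq24, hz24, l24, g24, m24, d24⟩ := hsingle 24 h24 (by norm_num)
  obtain ⟨s36, hs36, hq36, hz36, l36, g36, m36, d36⟩ := hsingle 36 h36 (by norm_num)
  have m24' := m24 (by norm_num)
  have m36' := m36 (by norm_num)
  -- relation, column, count
  have hus : ∀ d, ∑ χ ∈ F d, u χ * S χ =
      (if d = 6 ∨ d = 16 ∨ d = 36 then -1 else 1) * ∑ χ ∈ F d, S χ := fun d => by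
    rw [Finset.mul_sum]
    refine Finset.sum_congr rfl fun χ hχ => ?_
    obtain ⟨hχR, rfl⟩ := hFmem hχ
    rcases htype χ hχR with r | r | r | r | r | r | r <;> simp [r.1, r.2]
  have hrel' : S χ9 - L + s24 - s36 = 1 := by
    rw [hby ℤ (fun χ => u χ * S χ), hus, hus, hus, hus, hus, hus, hus,
      Finset.sum_eq_zero (fun χ hχ => hzero 4 (Or.inl rfl) χ hχ),
      Finset.sum_eq_zero (fun χ hχ => hzero 16 (Or.inr rfl) χ hχ), hL6, hs24, hs36, hχ9,
      Finset.sum_singleton, h54', Finset.sum_empty] at hrelS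
    norm_num at hrelS
    linarith
  have hcol' : 1 + S χ9 ^ 2 + 4 * (F 6).card + s24 ^ 2 + s36 ^ 2 ≤ (Nat.card W : ℤ) := by
    rw [hby ℤ (fun χ => S χ ^ 2), Finset.sum_congr rfl (fun χ hχ => hsix χ hχ), hq24, hq36, hχ9,
      Finset.sum_singleton, h54', Finset.sum_empty, Finset.sum_const, nsmul_eq_mul,
      Finset.sum_eq_zero (s := F 4) (fun χ hχ => by rw [hzero 4 (Or.inl rfl) χ hχ]; norm_num),
      Finset.sum_eq_zero (s := F 16) (fun χ hχ => by rw [hzero 16 (Or.inr rfl) χ hχ]; norm_num)]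
      at hcol
    linarith
  have hN2 := card_pairs_mul_card y s.z
  rw [← hW, hG, hsplit ℂ _ (fun χ h => by rw [hz χ, h]; simp),
    Finset.sum_congr rfl (g := fun χ => -((u χ : ℂ) * ((S χ : ℂ) ^ 2) / (Setup.deg χ : ℂ)))
      (fun χ hχ => by
        rw [hz χ, (hS χ ((hRmem χ).mp hχ).1).1, hdC, map_neg, map_intCast]; ring),
    hby ℂ] at hN2
  have hterm : ∀ d, ∑ χ ∈ F d, -((u χ : ℂ) * ((S χ : ℂ) ^ 2) / (Setup.deg χ : ℂ)) =
      -(((if d = 6 ∨ d = 16 ∨ d = 36 then -1 else 1 : ℤ) : ℂ) / (d : ℂ)) *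
        ((∑ χ ∈ F d, S χ ^ 2 : ℤ) : ℂ) := fun d => by
    rw [Int.cast_sum, Finset.mul_sum]
    refine Finset.sum_congr rfl fun χ hχ => ?_
    obtain ⟨hχR, rfl⟩ := hFmem hχ
    rcases htype χ hχR with r | r | r | r | r | r | r <;> simp [r.1, r.2] <;> ring
  simp only [hterm] at hN2
  rw [Finset.sum_congr rfl (fun χ hχ => hsix χ hχ), hq24, hq36, hχ9,
    Finset.sum_singleton, h54', Finset.sum_empty, Finset.sum_const, nsmul_eq_mul,
    Finset.sum_eq_zero (s := F 4) (fun χ hχ => by rw [hzero 4 (Or.inl rfl) χ hχ]; norm_num),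
    Finset.sum_eq_zero (s := F 16) (fun χ hχ => by rw [hzero 16 (Or.inr rfl) χ hχ]; norm_num)]
    at hN2
  simp only [Setup.triv, Pi.one_apply, one_pow, div_one, one_mul] at hN2
  rw [map_one] at hN2
  set NN := Nat.card {q : G × G // IsConj y q.1 ∧ IsConj y q.2 ∧ q.1 * q.2 = s.z}
  have hQ : (NN : ℤ) * 622080 = (W.index : ℤ) ^ 2 *
      (144 - 16 * S χ9 ^ 2 + 96 * (F 6).card - 6 * s24 ^ 2 + 4 * s36 ^ 2) := by
    apply Int.cast_injective (α := ℂ)
    norm_num at hN2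
    push_cast
    linear_combination 144 * hN2
  have htabC : ∀ C ∈ [5, 15, 45, 135], ∀ a ∈ [(-7 : ℤ), -3, 1, 5], ∀ k ∈ [(0 : ℤ), 2],
      ∀ L ∈ [(-4 : ℤ), 0, 4], ∀ b ∈ [(-16 : ℤ), -8, 0, 8, 16],
      (k = 0 → L = 0) → (k = 2 → b = 0 ∧ a - L + b - 1 = 0) →
      9 ∣ C * a → 24 ∣ C * b → 36 ∣ C * (a - L + b - 1) →
      1 + a ^ 2 + 4 * k + b ^ 2 + (a - L + b - 1) ^ 2 ≤ 4320 / C →
      ¬ (622080 ∣ C ^ 2 * (144 - 16 * a ^ 2 + 96 * k - 6 * b ^ 2 + 4 * (a - L + b - 1) ^ 2)) := by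
    decide +kernel
  have hWc : (Nat.card W : ℤ) = 4320 / (W.index : ℤ) := by
    have : (Nat.card W : ℤ) * (W.index : ℤ) = 4320 := by exact_mod_cast hWmul
    rw [← this, Int.mul_ediv_cancel]
    rcases hCcases with h | h | h | h <;> rw [h] <;> norm_num
  rw [hWc] at hcol'
  push_cast at d9 d24 d36 l9 g9 m9 l24 g24 l36 g36
  have hs24v : s24 = -16 ∨ s24 = -8 ∨ s24 = 0 ∨ s24 = 8 ∨ s24 = 16 := by
    rcases hCcases with h | h | h | h <;> rw [h] at d24 <;> omega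
  have hs36eq : s36 = S χ9 - L + s24 - 1 := by linarith
  rw [hs36eq] at hcol' hQ d36
  refine htabC (W.index : ℤ) ?_ (S χ9) ?_ ((F 6).card : ℤ) ?_ L ?_ s24 ?_ ?_ ?_ d9 d24 d36
    hcol' ⟨(NN : ℤ), by rw [← hQ]; ring⟩
  · simp only [List.mem_cons, List.not_mem_nil, or_false]
    rcases hCcases with h | h | h | h <;> rw [h] <;> norm_num
  · simp only [List.mem_cons, List.not_mem_nil, or_false]; omega
  · simp only [List.mem_cons, List.not_mem_nil, or_false]; omega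
  · simp only [List.mem_cons, List.not_mem_nil, or_false]; omega
  · simp only [List.mem_cons, List.not_mem_nil, or_false]; omega
  · intro h; exact hL0 (by omega)
  · intro h
    rcases h6 with h6' | ⟨-, h24', h36'⟩
    · omega
    · exact ⟨hz24 h24', hs36eq ▸ hz36 h36'⟩



/-- No finite simple group has order 4320 = 2^5 * 3^3 * 5. -/
theorem result {G : Type*} [Group G] [Finite G] [IsSimpleGroup G] : Nat.card G ≠ 4320 := by
  intro hG
  have : Fact (Nat.Prime 5) := ⟨by norm_num⟩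
  have hne : ¬ IsMulCommutative G :=
    Cfsg.Agent.SmallGroups.not_comm_of_not_prime (by rw [hG]; norm_num)
  have hall := fun S : Sylow 5 G => Cfsg.Agent.SmallGroups.exists_index_three_primes hne
    (a := 5) (b := 3) Nat.prime_two Nat.prime_three (by norm_num) (by norm_num) (by norm_num)
    (by rw [hG]; norm_num) S
  obtain ⟨S⟩ := (inferInstance : Nonempty (Sylow 5 G))
  obtain ⟨-, -, e, he2, hed, hN, hen⟩ := hall S
  have hmod := card_sylow_modEq_one 5 G
  unfold Nat.ModEq at hmod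
  have hele := Nat.le_of_dvd (by norm_num) hed
  norm_num at hen hed hele
  have he : e = 4 := by interval_cases e <;> omega
  have := Fintype.ofFinite G
  exact case216 hne hG (fun Q => ⟨(hall Q).1, (hall Q).2.1⟩) S (by rw [hN, he])

end Cfsg.Agent.S0977
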