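import Cfsg.Statements.S0980
import Cfsg.Agent.Lib.SmallGroups.SelfCent.Count
import Cfsg.Agent.Lib.SmallGroups.SelfCent.TwoDeg
import Cfsg.Agent.Lib.SmallGroups.ThreePrimes

set_option autoImplicit false
open Cfsg

namespace Cfsg.Agent.S0980

open scoped ComplexConjugate in
open Cfsg.Agent.SmallGroups Cfsg.Agent.SmallGroups.SelfCent in
theorem case576 {G : Type*} [Group G] [Fintype G] [IsSimpleGroup G] [Fact (Nat.Prime 5)]
    (hne : ¬ IsMulCommutative G) (hG : Nat.card G = 5760) (P : Sylow 5 G)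
    (hP : Nat.card ↥(P : Subgroup G) = 5)
    (hC : Subgroup.centralizer ((P : Subgroup G) : Set G) = (P : Subgroup G))
    (hN : Nat.card (Subgroup.normalizer ((P : Subgroup G) : Set G)) = 2 * 5) : False := by
  classical
  obtain ⟨s, hK, -, hcard⟩ := exists_setup_of_prime (P : Subgroup G) hP hC
  rw [hN] at hcard
  have he : Nat.card s.auto = 2 :=
    (Nat.eq_of_mul_eq_mul_right (by norm_num : 0 < 5) hcard).symm
  have := Fintype.ofFinite s.Orb
  obtain ⟨D, χa, δ, hδ, hat, hane, hca, hd, hrest⟩ := s.exists_two_data (le_refl 5) he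
  have hane' : ¬ ∃ o, χa = D.f o := fun ⟨o, ho⟩ => hane o ho
  have hm : Nat.card G / 5 = 1152 := by rw [hG]
  have hmoda : (5 : ℤ) ∣ (Setup.deg χa : ℤ) - δ := by
    obtain ⟨n, -, hn, hmod⟩ := D.fix_congr χa
    rw [hn hK, if_neg hane', hca, neg_neg, add_zero] at hmod
    exact_mod_cast hmod.symm.dvd
  obtain ⟨o₀⟩ : Nonempty s.Orb := inferInstance
  have hmodb : (5 : ℤ) ∣ (D.b : ℤ) - 2 * D.eps := by
    obtain ⟨n, -, hn, hmod⟩ := D.fix_congr (D.f o₀)
    rw [hn hK, if_pos ⟨o₀, rfl⟩, D.c_f, hd, D.deg_f, he, neg_zero, zero_add] at hmod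
    exact_mod_cast hmod.symm.dvd
  have hpb : ¬ 5 ∣ D.b := by
    intro h
    rcases D.eps_eq with h' | h' <;> rw [h'] at hmodb <;> omega
  have hdvdb := D.deg_dvd_exceptional o₀ hpb
  rw [hm] at hdvdb
  have hdvda : Setup.deg χa ∣ 1152 := by
    rw [← hm]
    have h := D.deg_dvd χa hane
    rw [hca] at h
    apply Int.natCast_dvd_natCast.mp
    rcases hδ with r | r <;> rw [r] at h <;> simpa using h
  have hdeg : 1 + δ * (Setup.deg χa : ℤ) = D.eps * D.b := by
    have h := D.degree_eq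
    rw [← Finset.sum_subset (Finset.subset_univ {(Setup.triv : Cfsg.IrrCharacter G), χa})
      (fun χ _ hχ => by
        simp only [Finset.mem_insert, Finset.mem_singleton, not_or] at hχ
        rw [hrest χ hχ.1 hχ.2, mul_zero]),
      Finset.sum_pair hat.symm, D.c_triv, hca, Setup.deg_triv] at h
    push_cast at h
    linear_combination -h
  have ha2 : 2 ≤ Setup.deg χa := by
    have h1 := (Setup.deg_spec χa).1
    have h2 : Setup.deg χa ≠ 1 := fun h => hat ((deg_eq_one_iff hne χa).mp h)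
    omega
  have hsum := D.sum_sq_le {(Setup.triv : Cfsg.IrrCharacter G), χa} (fun o => by
    simp [D.triv_ne o, (hane o).symm])
  rw [Finset.sum_pair hat.symm, Setup.deg_triv, one_pow, hG] at hsum
  have hcardO : Nat.card s.Orb = 2 := by
    have := s.card_orb_mul
    rw [he] at this
    omega
  rw [hcardO] at hsum
  have hab : ((Setup.deg χa = 4 ∧ D.b = 3) ∨ (Setup.deg χa = 9 ∧ D.b = 8)) ∧
      δ = -1 ∧ D.eps = -1 := by
    have htab : ∀ a ∈ Nat.divisors 1152, ∀ b ∈ Nat.divisors 1152, 2 ≤ a → a ≤ 75 →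
        (a + 1 = b ∧ a % 5 = 1 ∧ b % 5 = 2 ∨ b + 1 = a ∧ a % 5 = 4 ∧ b % 5 = 3) →
        (a = 4 ∧ b = 3) ∨ (a = 9 ∧ b = 8) := by decide +kernel
    have ha75 : Setup.deg χa ≤ 75 := by nlinarith
    have := htab _ (Nat.mem_divisors.mpr ⟨hdvda, by norm_num⟩) _
      (Nat.mem_divisors.mpr ⟨hdvdb, by norm_num⟩) ha2 ha75 (by
        rcases hδ with rfl | rfl <;> rcases D.eps_eq with h | h <;> rw [h] at hdeg hmodb <;> omega)
    refine ⟨this, ?_⟩
    rcases hδ with rfl | rfl <;> rcases D.eps_eq with h | h <;> rw [h] at hdeg ⊢ <;> omega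
  obtain ⟨habc, hδ1, heps⟩ := hab
  -- a central involution of a Sylow 2-subgroup
  obtain ⟨T⟩ := (inferInstance : Nonempty (Sylow 2 G))
  obtain ⟨y, hy2, hy1, hyC⟩ := exists_involution_index_dvd T (by rw [hG]; norm_num)
  have : Fact (Nat.Prime 2) := ⟨Nat.prime_two⟩
  rw [index_sylow_eq (p := 2) (a := 7) (m := 45) (by rw [hG]; norm_num) (by norm_num) T] at hyC
  set C := (Subgroup.centralizer ({y} : Set G)).index with hCdef
  have hCodd : C % 2 = 1 := Nat.odd_iff.mp (Odd.of_dvd_nat (by decide) hyC)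
  have hsplit : ∀ F : Cfsg.IrrCharacter G → ℂ,
      (∀ χ, χ ≠ Setup.triv → χ ≠ χa → (∀ o, χ ≠ D.f o) → F χ = 0) →
      ∑ χ, F χ = F Setup.triv + F χa + ∑ o, F (D.f o) := by
    intro F hF
    have hdisj : Disjoint ({(Setup.triv : Cfsg.IrrCharacter G), χa} : Finset _)
        (Finset.univ.image D.f) := by
      rw [Finset.disjoint_left]
      intro χ hχ hχ'
      obtain ⟨o, -, rfl⟩ := Finset.mem_image.mp hχ'
      simp [D.triv_ne o, (hane o).symm] at hχ
    rw [← Finset.sum_subset (Finset.subset_univ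
        ({(Setup.triv : Cfsg.IrrCharacter G), χa} ∪ Finset.univ.image D.f)) (fun χ _ hχ => by
      simp only [Finset.mem_union, Finset.mem_insert, Finset.mem_singleton, Finset.mem_image,
        Finset.mem_univ, true_and, not_or, not_exists] at hχ
      exact hF χ hχ.1.1 hχ.1.2 (fun o h => hχ.2 o h.symm)),
      Finset.sum_union hdisj, Finset.sum_pair hat.symm,
      Finset.sum_image fun a _ b _ h => D.inj h]
  have hzval : ∀ χ : Cfsg.IrrCharacter G, (∀ o, χ ≠ D.f o) →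
      (χ : G → ℂ) s.z = -(D.c χ : ℂ) := by
    intro χ hχ
    have h := s.phi_of_const χ (D.c χ) (fun o => by rw [D.vec_eq, if_neg (hχ o), add_zero])
      (one_ne_zero (α := ZMod 5))
    have hk : s.kset = {1} := by ext w; simp [s.mem_kset, hK]
    simpa [Setup.phi, hk, s.zp_one] using h
  have hzero : ∀ χ : Cfsg.IrrCharacter G, χ ≠ Setup.triv → χ ≠ χa → (∀ o, χ ≠ D.f o) →
      (χ : G → ℂ) s.z = 0 := fun χ h1 h2 h3 => by
    rw [hzval χ h3, hrest χ h1 h2]; simp
  have hza : (χa : G → ℂ) s.z = -1 := by rw [hzval χa hane, hca, hδ1]; simp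
  have hdC : ∀ χ : Cfsg.IrrCharacter G, (χ : G → ℂ) 1 = (Setup.deg χ : ℂ) :=
    fun χ => (Setup.deg_spec χ).2.2
  have hb0 : (D.b : ℂ) ≠ 0 := by
    have h : D.b ≠ 0 := by omega
    exact_mod_cast h
  have hzne : ¬ IsConj s.z 1 := by
    intro h
    have h1 := s.orderOf_z
    rw [isConj_one_left.mp h, orderOf_one] at h1
    norm_num at h1
  have hexz : ∑ o, conj ((D.f o : G → ℂ) s.z) = 1 := by
    have h := CharDeep.sum_irr_mul_conj (1 : G) s.z
    rw [BlocksCore.classInd_apply_of_not_isConj (fun h => hzne h.symm), mul_zero] at h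
    have h' := (mul_eq_zero.mp h).resolve_left (CharDeep.class_card_ne_zero 1)
    rw [hsplit _ (fun χ h1 h2 h3 => by simp [hzero χ h1 h2 h3]), hza,
      Finset.sum_congr rfl (g := fun o => (D.b : ℂ) * conj ((D.f o : G → ℂ) s.z))
        (fun o _ => by rw [hdC, D.deg_f]), ← Finset.mul_sum, hdC χa] at h'
    simp only [Setup.triv, Pi.one_apply, map_one, mul_one, map_neg] at h'
    have hdegC : (1 : ℂ) - (Setup.deg χa : ℂ) = -(D.b : ℂ) := by
      rw [hδ1, heps] at hdeg
      have : (1 : ℤ) - (Setup.deg χa : ℤ) = -(D.b : ℤ) := by linarith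
      exact_mod_cast this
    apply mul_left_cancel₀ hb0
    linear_combination h' - hdegC
  obtain ⟨S, hS, hS1, hS2, hS4⟩ := exists_int_value_four hne χa hy2
  have hSne : S ≠ (Setup.deg χa : ℤ) := fun h => value_ne_deg hat hy1 (by rw [hS, h]; norm_cast)
  have hyne : ∀ k : ZMod 5, k ≠ 0 → ∀ w ∈ s.K, ¬ IsConj y (s.zp k * w) := by
    intro k hk w hw hc
    rw [hK, Subgroup.mem_bot] at hw
    rw [hw, mul_one] at hc
    obtain ⟨g, hg⟩ := isConj_iff.mp hc
    have h1 : s.zp k ^ 2 = 1 := by rw [← hg, conj_pow, hy2]; group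
    rw [s.zp_pow, s.zp_eq_one_iff] at h1
    rcases mul_eq_zero.mp h1 with h | h
    · exact hk h
    · exact absurd ((ZMod.natCast_eq_zero_iff 2 5).mp (by exact_mod_cast h)) (by norm_num)
  have hexx : ∀ o, (D.f o : G → ℂ) y = ((S - 1 : ℤ) : ℂ) := by
    intro o
    have h := D.value_eq hyne o
    rw [hsplit _ (fun χ h1 h2 h3 => by rw [hrest χ h1 h2]; simp), D.c_triv] at h
    simp only [hca, D.c_f, hd, hS, Setup.triv, Pi.one_apply, Int.cast_neg, Int.cast_one,
      Int.cast_zero, mul_zero, Finset.sum_const_zero, add_zero, one_mul, hδ1, heps] at h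
    push_cast
    linear_combination -h
  have hdS := deg_dvd_index_mul χa hS
  have hdT := deg_dvd_index_mul (D.f o₀) (hexx o₀)
  rw [D.deg_f] at hdT
  rw [← hCdef] at hdS hdT
  have hN2 := card_pairs_mul_card y s.z
  rw [← hCdef, hG, hsplit _ (fun χ h1 h2 h3 => by simp [hzero χ h1 h2 h3]), hza,
    Finset.sum_congr rfl (g := fun o =>
      (((S - 1 : ℤ) : ℂ) ^ 2 / (D.b : ℂ)) * conj ((D.f o : G → ℂ) s.z))
      (fun o _ => by rw [hexx, hdC, D.deg_f]), ← Finset.mul_sum, hexz, hdC χa, hS] at hN2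
  simp only [Setup.triv, Pi.one_apply, map_one, mul_one, map_neg, one_pow, div_one] at hN2
  set N := Nat.card {q : G × G // IsConj y q.1 ∧ IsConj y q.2 ∧ q.1 * q.2 = s.z}
  have hcop : ∀ n : ℕ, IsCoprime ((2 ^ n : ℕ) : ℤ) ((C : ℤ) ^ 2) := fun n => by
    rw [← Nat.cast_pow, Nat.isCoprime_iff_coprime]
    exact ((Nat.prime_two.coprime_iff_not_dvd.mpr (by omega)).pow n 2)
  rcases habc with ⟨ha, hb⟩ | ⟨ha, hb⟩
  · rw [ha, hb] at hN2
    rw [ha] at hdS hS1 hS2 hS4 hSne
    push_cast at hdS hS1 hS2 hS4 hSne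
    have hS4' : (4 : ℤ) ∣ S := by omega
    have h : (N : ℤ) * 69120 = (C : ℤ) ^ 2 * (12 - 3 * S ^ 2 + 4 * (S - 1) ^ 2) := by
      apply Int.cast_injective (α := ℂ)
      push_cast at hN2 ⊢
      linear_combination 12 * hN2
    have h2 : ((2 ^ 9 : ℕ) : ℤ) ∣ 12 - 3 * S ^ 2 + 4 * (S - 1) ^ 2 :=
      (hcop 9).dvd_of_dvd_mul_left (h ▸ ⟨(N : ℤ) * 135, by push_cast; ring⟩)
    have hS' : S = -4 ∨ S = 0 := by omega
    rcases hS' with rfl | rfl <;> norm_num at h2
  · rw [ha, hb] at hN2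
    rw [hb] at hdT
    rw [ha] at hS1 hS2 hS4 hSne
    push_cast at hdT hS1 hS2 hS4 hSne
    have hS8 : (8 : ℤ) ∣ S - 1 := by
      refine IsCoprime.dvd_of_dvd_mul_left ?_ hdT
      rw [show (8 : ℤ) = ((8 : ℕ) : ℤ) by norm_num, Nat.isCoprime_iff_coprime]
      exact (Nat.prime_two.coprime_iff_not_dvd.mpr (by omega)).pow_left 3
    have h : (N : ℤ) * 414720 = (C : ℤ) ^ 2 * (72 - 8 * S ^ 2 + 9 * (S - 1) ^ 2) := by
      apply Int.cast_injective (α := ℂ)
      push_cast at hN2 ⊢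
      linear_combination 72 * hN2
    have h2 : ((2 ^ 10 : ℕ) : ℤ) ∣ 72 - 8 * S ^ 2 + 9 * (S - 1) ^ 2 :=
      (hcop 10).dvd_of_dvd_mul_left (h ▸ ⟨(N : ℤ) * 405, by push_cast; ring⟩)
    have hS' : S = -7 ∨ S = 1 := by omega
    rcases hS' with rfl | rfl <;> norm_num at h2



/-- No finite simple group has order 5760 = 2^7 * 3^2 * 5. -/
theorem result {G : Type*} [Group G] [Finite G] [IsSimpleGroup G] : Nat.card G ≠ 5760 := by
  intro hG
  have : Fact (Nat.Prime 5) := ⟨by norm_num⟩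
  have hne : ¬ IsMulCommutative G :=
    Cfsg.Agent.SmallGroups.not_comm_of_not_prime (by rw [hG]; norm_num)
  obtain ⟨S⟩ := (inferInstance : Nonempty (Sylow 5 G))
  obtain ⟨hP, hC, e, he2, hed, hN, hen⟩ := Cfsg.Agent.SmallGroups.exists_index_three_primes hne
    (a := 7) (b := 2) Nat.prime_two Nat.prime_three (by norm_num) (by norm_num) (by norm_num)
    (by rw [hG]; norm_num) S
  have hmod := card_sylow_modEq_one 5 G
  unfold Nat.ModEq at hmod
  have hele := Nat.le_of_dvd (by norm_num) hed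
  norm_num at hen hed hele
  have he : e = 2 := by interval_cases e <;> omega
  have := Fintype.ofFinite G
  exact case576 hne hG S hP hC (by rw [hN, he])

end Cfsg.Agent.S0980
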