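import Cfsg.Statements.S0981
import Cfsg.Agent.Lib.SmallGroups.SelfCent.PSLFinish
import Cfsg.Agent.Lib.LinearGroup.SmallPSL

set_option autoImplicit false
open Cfsg

namespace Cfsg.Agent.S0981

/-- A simple group of order 4080 is isomorphic to the projective special linear group of dimension 2 over the field with 16 elements. -/
theorem result {G : Type*} [Group G] [Finite G] [IsSimpleGroup G] (h : Nat.card G = 4080) {F : Type*} [Field F] [Fintype F] (hF : Fintype.card F = 16) : Nonempty (G ≃* Matrix.ProjectiveSpecialLinearGroup (Fin 2) F) := by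
  haveI : Fact (Nat.Prime 17) := ⟨by norm_num⟩
  have hG : ¬ IsMulCommutative G :=
    SmallGroups.not_comm_of_not_prime (by rw [h]; norm_num)
  have hmem := SmallGroups.card_sylow_mem_list (G := G) (p := 17) (a := 1) (m := 240)
    (by rw [h]; norm_num) (by norm_num)
  have hd : (Nat.divisors 240).filter (fun d => d % 17 = 1) = {1, 120} := by decide
  rw [hd, Finset.mem_insert, Finset.mem_singleton] at hmem
  have hn : Nat.card (Sylow 17 G) = 120 :=
    hmem.resolve_left (SmallGroups.card_sylow_ne_one hG (by rw [h]; norm_num))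
  have hPc : ∀ P : Sylow 17 G, Nat.card ↥(P : Subgroup G) = 17 := fun P => by
    simpa using SmallGroups.card_sylow_eq (a := 1) (m := 240) (by rw [h]; norm_num) (by norm_num) P
  have hN : ∀ P : Sylow 17 G,
      Nat.card ↥(Subgroup.normalizer ((P : Subgroup G) : Set G)) = 2 * 17 := fun P =>
    SmallGroups.normalizer_conj_eq_card P hn (by rw [h])
  have hCP : ∀ P : Sylow 17 G,
      Subgroup.centralizer ((P : Subgroup G) : Set G) = (P : Subgroup G) := fun P => by
    have hcomm : (P : Subgroup G) ≤ Subgroup.centralizer ((P : Subgroup G) : Set G) := by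
      haveI : IsCyclic ↥(P : Subgroup G) := isCyclic_of_prime_card (hPc P)
      exact Subgroup.le_centralizer _
    have hle : Subgroup.centralizer ((P : Subgroup G) : Set G) ≤
        Subgroup.normalizer ((P : Subgroup G) : Set G) := Subgroup.centralizer_le_normalizer _
    obtain ⟨k, hk⟩ := Subgroup.card_dvd_of_le hle
    obtain ⟨l, hl⟩ := Subgroup.card_dvd_of_le hcomm
    rw [hN P, hl, hPc P] at hk
    have hk2 : l * k = 2 := by linarith
    have hk1 : k ≠ 1 := by
      rintro rfl
      refine SmallGroups.not_normalizer_le_centralizer hG (by rw [h]; norm_num) P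
        (le_of_eq (Subgroup.eq_of_le_of_card_ge hle ?_).symm)
      rw [hN P, hl, hPc P]; linarith
    have hl1 : l = 1 := by
      rcases (Nat.dvd_prime Nat.prime_two).mp (Dvd.intro_left l hk2) with r | r
      · exact absurd r hk1
      · subst r; omega
    exact (Subgroup.eq_of_le_of_card_ge hcomm (by rw [hl, hl1, mul_one])).symm
  obtain ⟨P⟩ := (inferInstance : Nonempty (Sylow 17 G))
  obtain ⟨a, b, δ, ε, hδ, hε, ha2, had, hbd, hma, hmb, hab, hsq, x, S, hx, hx1, hclass, hS1,
    hS2, hS4, hb4, hcol, heq⟩ := SmallGroups.SelfCent.exists_two_class hG (p := 17) (by norm_num)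
      (P : Subgroup G) (hPc P) (hCP P) (hN P)
  rw [h] at had hbd hsq
  norm_num at had hbd hsq
  have ha : a = 16 ∧ b = 15 ∧ δ = -1 := by
    have ha22 : a ≤ 63 := by nlinarith
    have hb13 : b ≤ 22 := by nlinarith
    obtain ⟨ka, hka⟩ := had
    obtain ⟨kb, hkb⟩ := hbd
    rcases hδ with rfl | rfl <;> rcases hε with rfl | rfl <;> interval_cases b <;> omega
  obtain ⟨rfl, rfl, rfl⟩ := ha
  have hidx : ((Subgroup.centralizer ({x} : Set G)).index : ℤ) *
      (Nat.card (Subgroup.centralizer ({x} : Set G)) : ℤ) = 4080 := by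
    have hh := Subgroup.index_mul_card (Subgroup.centralizer ({x} : Set G))
    rw [h] at hh
    exact_mod_cast hh
  rw [h] at heq
  set C : ℤ := (Nat.card (Subgroup.centralizer ({x} : Set G)) : ℤ) with hC
  set i : ℤ := ((Subgroup.centralizer ({x} : Set G)).index : ℤ) with hi
  push_cast at heq hcol hS1 hS2 hS4
  have hC2 : C ^ 2 = (16 - S) ^ 2 := by
    have h1 : (4080 : ℤ) ^ 2 * (16 - S) ^ 2 = 4080 ^ 2 * C ^ 2 := by
      linear_combination C ^ 2 * heq - (16 - S) ^ 2 * (i * C + 4080) * hidx
    linarith
  have hCS : C = 16 - S := (sq_eq_sq₀ (by rw [hC]; positivity) (by omega)).mp hC2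
  have hxC : Nat.card (Subgroup.centralizer ({x} : Set G)) = 2 ^ 4 := by
    have hS0 : S = 0 := by
      rw [hCS] at hcol
      norm_num at hcol
      interval_cases S <;> norm_num at hcol <;> omega
    rw [hS0] at hCS
    omega
  obtain ⟨F', hF1, hF2, hcard, ⟨φ⟩⟩ := SmallGroups.SelfCent.iso_psl_two_of_count (p := 17)
    (k := 4) (m := 15) (by norm_num) (by norm_num) (by decide) (by norm_num)
    (by rw [h]; norm_num) hCP hx hx1 hclass hxC (fun a b hab => by rw [h, hn] at hab; omega)
  exact ⟨φ.trans (LinearGroup.pslCongr (FiniteField.ringEquivOfCardEq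
    (by rw [hcard, hF]; norm_num)))⟩

end Cfsg.Agent.S0981
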