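import Cfsg.Statements.S0982
import Cfsg.Agent.Lib.SmallGroups.PSLTable23
import Cfsg.Agent.Lib.SmallGroups.PSLPrime

set_option autoImplicit false
open Cfsg

namespace Cfsg.Agent.S0982

theorem cond : ((2 : ℕ) : ZMod 23) ^ 11 = 1 ∧
    ∀ i, i < 11 → 0 < i → ((2 : ℕ) : ZMod 23) ^ i ≠ 1 := by decide


/-- A simple group of order 6072 is isomorphic to the projective special linear group of dimension 2 over the field with 23 elements. -/
theorem result {G : Type*} [Group G] [Finite G] [IsSimpleGroup G] (h : Nat.card G = 6072) {F : Type*} [Field F] [Fintype F] (hF : Fintype.card F = 23) : Nonempty (G ≃* Matrix.ProjectiveSpecialLinearGroup (Fin 2) F) := by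
  have : Fact (Nat.Prime 23) := ⟨by norm_num⟩
  exact Cfsg.Agent.SmallGroups.equiv_psl_of_table 23 2 5 11 (by norm_num) (by norm_num)
    (by rw [h]) ![23, 22, 11, 15, 17, 9, 19, 13, 20, 5, 16, 2, 21, 7, 18, 3, 10, 4, 14, 6, 8, 12, 1, 0] (by decide +kernel) cond
    Cfsg.Agent.SmallGroups.tables23 rfl (by decide) (by decide) (by decide)
    Cfsg.Agent.SmallGroups.check23 hF

end Cfsg.Agent.S0982
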