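import Cfsg.Statements.S0997
import Cfsg.Agent.Lib.SmallGroups.Mod.Few

set_option autoImplicit false
open Cfsg

namespace Cfsg.Agent.S0997

/-- Let G be a non-cyclic finite simple group of order p * q^b * g₀, where p and q are distinct primes and g₀ < p - 1. Then either p has the form 2^m + 1 or 2^m - 1 and G is isomorphic to the projective special linear group of dimension 2 over the field with p elements, or p = 2^m + 1 > 3 and G is isomorphic to that group over the field with 2^m elements. -/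
theorem result {G : Type*} [Group G] [Finite G] [IsSimpleGroup G] (hG : ¬ IsCyclic G) (p q b g₀ : ℕ) (hp : p.Prime) (hq : q.Prime) (hpq : p ≠ q) (hG' : Nat.card G = p * q ^ b * g₀) (hg : g₀ < p - 1) : (∃ (m : ℕ) (F : Type) (_ : Field F) (_ : Fintype F), Fintype.card F = p ∧ (p = 2 ^ m + 1 ∨ p = 2 ^ m - 1) ∧ Nonempty (G ≃* Matrix.ProjectiveSpecialLinearGroup (Fin 2) F)) ∨ (∃ (m : ℕ) (F : Type) (_ : Field F) (_ : Fintype F), Fintype.card F = 2 ^ m ∧ p = 2 ^ m + 1 ∧ 3 < p ∧ Nonempty (G ≃* Matrix.ProjectiveSpecialLinearGroup (Fin 2) F)) := by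
  classical
  have := Fintype.ofFinite G
  haveI : Fact p.Prime := ⟨hp⟩
  have hne : ¬ IsMulCommutative G := by
    intro h
    haveI : Fact (Nat.card G).Prime := ⟨SmallGroups.prime_card_of_comm h⟩
    exact hG (isCyclic_of_prime_card rfl)
  obtain ⟨s, n, hK, hp5, hn1, hn, hcard⟩ := SmallGroups.Mod.few_of_cofactor hne hq hpq hG' hg
  rcases SmallGroups.Few.classify hne s hK hp5 hn1 hn hcard with
    ⟨F, i1, i2, hF, ⟨φ⟩⟩ | ⟨m, F, i1, i2, hF, hpm, hiso⟩
  swap
  · exact Or.inr ⟨m, F, i1, i2, hF, hpm, by omega, hiso⟩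
  -- the order of `PSL(2, p)` forces `p = 2 ^ m ± 1`
  have hPSL := LinearGroup.gcd_mul_card_PSL_two (F := F)
  rw [← Nat.card_congr φ.toEquiv, Nat.card_eq_fintype_card (α := F), hF, hG'] at hPSL
  obtain ⟨c, hc⟩ : ∃ c, p = 2 * c + 1 := hp.odd_of_ne_two (by omega)
  subst hc
  have hgcd : Nat.gcd 2 (2 * c + 1 - 1) = 2 := Nat.gcd_eq_left ⟨c, by omega⟩
  rw [hgcd, show (2 * c + 1) ^ 2 - 1 = 2 * (2 * c * (c + 1)) by
      rw [show (2 * c + 1) ^ 2 = 2 * (2 * c * (c + 1)) + 1 by ring, Nat.add_sub_cancel]] at hPSL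
  have h1 : q ^ b * g₀ = 2 * c * (c + 1) := by
    have h2 : (2 * (2 * c + 1)) * (q ^ b * g₀) = (2 * (2 * c + 1)) * (2 * c * (c + 1)) := by
      linear_combination hPSL
    exact Nat.eq_of_mul_eq_mul_left (by omega) h2
  have hqcop : ∀ u v, (¬ q ∣ v) → q ^ b ∣ u * v → q ^ b ∣ u := fun u v hv h =>
    (Nat.Coprime.pow_left b (hq.coprime_iff_not_dvd.mpr hv)).dvd_of_dvd_mul_right h
  by_cases hq2 : q = 2
  · subst hq2
    refine Or.inl ⟨b, F, i1, i2, hF, ?_, ⟨φ⟩⟩
    rcases Nat.even_or_odd c with ⟨d, hd⟩ | ⟨d, hd⟩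
    · left
      obtain ⟨r, hr⟩ := hqcop (2 * c) (c + 1) (by omega) ⟨g₀, h1.symm⟩
      have h3 : g₀ = r * (c + 1) := by
        apply Nat.eq_of_mul_eq_mul_left (pow_pos two_pos b)
        rw [h1, hr]; ring
      have hr1 : r = 1 := by
        rcases Nat.lt_or_ge r 2 with h | h
        · interval_cases r <;> simp at hr h3 ⊢
          omega
        · have : 2 * (c + 1) ≤ r * (c + 1) := Nat.mul_le_mul_right _ h
          omega
      rw [hr1, mul_one] at hr
      omega
    · right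
      obtain ⟨r, hr⟩ := hqcop (2 * (c + 1)) c (by omega) ⟨g₀, by rw [h1]; ring⟩
      have h3 : g₀ = r * c := by
        apply Nat.eq_of_mul_eq_mul_left (pow_pos two_pos b)
        rw [h1, ← mul_assoc, ← hr]; ring
      have hr1 : r = 1 := by
        rcases Nat.lt_or_ge r 2 with h | h
        · interval_cases r <;> simp at hr h3 ⊢
        · have : 2 * c ≤ r * c := Nat.mul_le_mul_right _ h
          omega
      rw [hr1, mul_one] at hr
      omega
  exfalso
  have hq2' : ¬ q ∣ 2 := fun h => hq2 ((Nat.prime_dvd_prime_iff_eq hq Nat.prime_two).mp h)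
  have hle : q ^ b ≤ c + 1 := by
    by_cases hqc : q ∣ c
    · have hnc : ¬ q ∣ c + 1 := fun h => hq.not_dvd_one ((Nat.dvd_add_right hqc).mp h)
      have h2 := hqcop c (2 * (c + 1))
        (fun h => (hq.dvd_mul.mp h).elim hq2' hnc) ⟨g₀, by rw [h1]; ring⟩
      have := Nat.le_of_dvd (by omega) h2
      omega
    · exact Nat.le_of_dvd (by omega) (hqcop (c + 1) (2 * c)
        (fun h => (hq.dvd_mul.mp h).elim hq2' hqc) ⟨g₀, by rw [h1]; ring⟩)
  have h2 : q ^ b * g₀ ≤ (c + 1) * g₀ := Nat.mul_le_mul_right _ hle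
  have h3 : (c + 1) * g₀ < (c + 1) * (2 * c) := Nat.mul_lt_mul_of_pos_left (by omega) (by omega)
  rw [h1] at h2
  linarith [show (c + 1) * (2 * c) = 2 * c * (c + 1) by ring]

end Cfsg.Agent.S0997
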