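import Cfsg.Statements.S0998
import Cfsg.Agent.S0997
import Cfsg.Agent.Lib.LinearGroup.SmallPSL

set_option autoImplicit false
open Cfsg

namespace Cfsg.Agent.S0998

theorem two_pow_mod_three (k : ℕ) : 2 ^ k % 3 = if k % 2 = 0 then 1 else 2 := by
  induction k with
  | zero => rfl
  | succ k ih => rw [pow_succ, Nat.mul_mod, ih]; split_ifs <;> first | rfl | omega

theorem two_part {u v b c : ℕ} (hu : ¬ 2 ∣ u) (hv : ¬ 2 ∣ v) (h : u * 2 ^ b = v * 2 ^ c) :
    u = v := by
  have hdvd : ∀ x y : ℕ, ∀ a a' : ℕ, ¬ 2 ∣ x → x * 2 ^ a = y * 2 ^ a' → x ∣ y :=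
    fun x y a a' hx h => (Nat.Coprime.pow_right a'
      ((Nat.prime_two.coprime_iff_not_dvd.mpr hx).symm)).dvd_of_dvd_mul_right (Dvd.intro _ h)
  exact Nat.dvd_antisymm (hdvd u v b c hu h) (hdvd v u c b hv h.symm)

/-- The numerical conclusion, for `p` the larger prime. -/
theorem aux {G : Type*} [Group G] [Finite G] [IsSimpleGroup G] (hG : ¬ IsCyclic G) {p q r b : ℕ}
    (hp : p.Prime) (hq : q.Prime) (hr : r.Prime) (hpq : p ≠ q) (hr2 : ¬ 2 ∣ r) (hrp : r < p)
    (hG' : Nat.card G = p * r * q ^ b) :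
    (∃ (F : Type) (_ : Field F) (_ : Fintype F), Fintype.card F = 5 ∧ Nonempty (G ≃* Matrix.ProjectiveSpecialLinearGroup (Fin 2) F)) ∨ (∃ (F : Type) (_ : Field F) (_ : Fintype F), Fintype.card F = 7 ∧ Nonempty (G ≃* Matrix.ProjectiveSpecialLinearGroup (Fin 2) F)) := by
  classical
  have hp2 : p % 2 = 1 := (hp.eq_two_or_odd).resolve_left (by have := hr.two_le; omega)
  have hr3 : 3 ≤ r := by have := hr.two_le; omega
  rcases Cfsg.Agent.S0997.result hG p q b r hp hq hpq (by rw [hG']; ring) (by omega) with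
    ⟨m, F, i1, i2, hF, hm, ⟨φ⟩⟩ | ⟨m, F, i1, i2, hF, hm, h3p, ⟨φ⟩⟩
  · have h := LinearGroup.gcd_mul_card_PSL_two (F := F)
    rw [← Nat.card_congr φ.toEquiv, Nat.card_eq_fintype_card (α := F), hF, hG',
      Nat.gcd_eq_left (show 2 ∣ p - 1 by omega)] at h
    obtain ⟨m, rfl⟩ : ∃ m', m = m' + 1 := by
      rcases m with _ | m
      · simp at hm; omega
      · exact ⟨m, rfl⟩
    obtain ⟨j, rfl⟩ : ∃ j, m = j + 1 := by
      rcases m with _ | j
      · simp at hm; omega
      · exact ⟨j, rfl⟩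
    set E := 2 ^ j with hE
    have hEpos : 0 < E := pow_pos two_pos j
    have hpow : 2 ^ (j + 1 + 1) = 4 * E := by rw [hE]; ring
    rw [hpow] at hm
    have key : 2 * (r * q ^ b) = p ^ 2 - 1 :=
      Nat.eq_of_mul_eq_mul_left hp.pos (by rw [← h]; ring)
    have hq2 : q = 2 := by
      have h2 : 2 ∣ q ^ b := by
        obtain ⟨d, hd⟩ : ∃ d, p = 2 * d + 1 := ⟨p / 2, by omega⟩
        have h4 : r * q ^ b = 2 * (d * d + d) := by
          rw [hd, show (2 * d + 1) ^ 2 = 2 * (2 * (d * d + d)) + 1 by ring, Nat.add_sub_cancel] at key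
          omega
        exact (Nat.prime_two.dvd_mul.mp (Dvd.intro _ h4.symm)).resolve_left hr2
      exact ((Nat.prime_dvd_prime_iff_eq Nat.prime_two hq).mp (Nat.prime_two.dvd_of_dvd_pow h2)).symm
    subst hq2
    have h23 : (2 : ℕ) * E = 2 ^ (j + 1) := by rw [hE]; ring
    have hmod := two_pow_mod_three j
    rw [← hE] at hmod
    rcases hm with hm | hm
    · left
      rw [hm, show (4 * E + 1) ^ 2 - 1 = 8 * E * (2 * E + 1) by
        rw [show (4 * E + 1) ^ 2 = 8 * E * (2 * E + 1) + 1 by ring, Nat.add_sub_cancel]] at key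
      have hr' : r = 2 * E + 1 := two_part hr2 (by omega) (b := b) (c := j + 2)
        (by rw [pow_add, ← hE]; linarith)
      have h3r : 3 ∣ r ∨ 3 ∣ p := by rw [hr', hm]; split_ifs at hmod <;> omega
      have hp5 : p = 5 := by
        rcases h3r with h3 | h3
        · have := (Nat.prime_dvd_prime_iff_eq Nat.prime_three hr).mp h3; omega
        · have := (Nat.prime_dvd_prime_iff_eq Nat.prime_three hp).mp h3; omega
      exact ⟨F, i1, i2, hF.trans hp5, ⟨φ⟩⟩
    · right
      rw [hm, show (4 * E - 1) ^ 2 - 1 = 8 * E * (2 * E - 1) by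
        obtain ⟨f, hf⟩ : ∃ f, E = f + 1 := ⟨E - 1, by omega⟩
        rw [hf, show 4 * (f + 1) - 1 = 4 * f + 3 by omega,
          show (4 * f + 3) ^ 2 = 8 * (f + 1) * (2 * f + 1) + 1 by ring, Nat.add_sub_cancel,
          show 2 * (f + 1) - 1 = 2 * f + 1 by omega]] at key
      have hr' : r = 2 * E - 1 := two_part hr2 (by omega) (b := b) (c := j + 2)
        (by rw [pow_add, ← hE]; linarith)
      have h3r : 3 ∣ r ∨ 3 ∣ p := by rw [hr', hm]; split_ifs at hmod <;> omega
      have hp7 : p = 7 := by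
        rcases h3r with h3 | h3
        · have := (Nat.prime_dvd_prime_iff_eq Nat.prime_three hr).mp h3; omega
        · have := (Nat.prime_dvd_prime_iff_eq Nat.prime_three hp).mp h3; omega
      exact ⟨F, i1, i2, hF.trans hp7, ⟨φ⟩⟩
  · left
    have h := LinearGroup.gcd_mul_card_PSL_two (F := F)
    obtain ⟨m, rfl⟩ : ∃ m', m = m' + 1 := by
      rcases m with _ | m
      · simp at hm; omega
      · exact ⟨m, rfl⟩
    set E := 2 ^ m with hE
    have hEpos : 0 < E := pow_pos two_pos m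
    have hpow : 2 ^ (m + 1) = 2 * E := by rw [hE]; ring
    rw [hpow] at hm hF
    rw [← Nat.card_congr φ.toEquiv, Nat.card_eq_fintype_card (α := F), hF, hG',
      show Nat.gcd 2 (2 * E - 1) = 1 from
        Nat.prime_two.coprime_iff_not_dvd.mpr (by omega), one_mul] at h
    obtain ⟨f, hf⟩ : ∃ f, E = f + 1 := ⟨E - 1, by omega⟩
    have key : r * q ^ b = 2 * E * (2 * f + 1) := by
      refine Nat.eq_of_mul_eq_mul_left hp.pos ?_
      rw [← mul_assoc, h, hm, hf,
        show (2 * (f + 1)) ^ 2 = (2 * f + 1) * (2 * (f + 1) + 1) + 1 by ring, Nat.add_sub_cancel]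
      ring
    have hq2 : q = 2 := by
      have h2 : 2 ∣ q ^ b :=
        (Nat.prime_two.dvd_mul.mp ⟨E * (2 * f + 1), by rw [key]; ring⟩).resolve_left hr2
      exact ((Nat.prime_dvd_prime_iff_eq Nat.prime_two hq).mp (Nat.prime_two.dvd_of_dvd_pow h2)).symm
    subst hq2
    have hr' : r = 2 * f + 1 := two_part hr2 (by omega) (b := b) (c := m + 1)
      (by rw [hpow, key]; ring)
    have hmod := two_pow_mod_three m
    rw [← hE] at hmod
    have hE2 : E = 2 := by
      have h3r : 3 ∣ r ∨ 3 ∣ p := by rw [hr', hm]; split_ifs at hmod <;> omega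
      rcases h3r with h3 | h3
      · have := (Nat.prime_dvd_prime_iff_eq Nat.prime_three hr).mp h3; omega
      · have := (Nat.prime_dvd_prime_iff_eq Nat.prime_three hp).mp h3; omega
    have hF4 : Nat.card F = 4 := by rw [Nat.card_eq_fintype_card, hF, hE2]
    obtain ⟨ψ⟩ := LinearGroup.psl_two_small (F := F) (Or.inr hF4)
    haveI : Fact (Nat.Prime 5) := ⟨by norm_num⟩
    obtain ⟨χ⟩ := LinearGroup.psl_two_five (F := ZMod 5) (Nat.card_zmod 5)
    rw [hF4] at ψ
    exact ⟨ZMod 5, inferInstance, inferInstance, ZMod.card 5, ⟨(φ.trans ψ).trans χ.symm⟩⟩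


/-- A non-cyclic finite simple group whose order has the form p * r * q^b for distinct primes p, q, r is isomorphic to the projective special linear group of dimension 2 over the field with 5 or with 7 elements. -/
theorem result {G : Type*} [Group G] [Finite G] [IsSimpleGroup G] (hG : ¬ IsCyclic G) (p q r b : ℕ) (hp : p.Prime) (hq : q.Prime) (hr : r.Prime) (hpq : p ≠ q) (hpr : p ≠ r) (hqr : q ≠ r) (hG' : Nat.card G = p * r * q ^ b) : (∃ (F : Type) (_ : Field F) (_ : Fintype F), Fintype.card F = 5 ∧ Nonempty (G ≃* Matrix.ProjectiveSpecialLinearGroup (Fin 2) F)) ∨ (∃ (F : Type) (_ : Field F) (_ : Fintype F), Fintype.card F = 7 ∧ Nonempty (G ≃* Matrix.ProjectiveSpecialLinearGroup (Fin 2) F)) := by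
  classical
  have hne : ¬ IsMulCommutative G := by
    intro h
    haveI : Fact (Nat.card G).Prime := ⟨SmallGroups.prime_card_of_comm h⟩
    exact hG (isCyclic_of_prime_card rfl)
  haveI : Fact (Nat.Prime 2) := ⟨Nat.prime_two⟩
  -- a simple group has no Sylow `2`-subgroup of order `2`
  have hodd : ∀ x y : ℕ, Nat.card G = 2 * (x * y) → 2 ∣ x * y := by
    intro x y h
    by_contra hxy
    obtain ⟨S⟩ := (inferInstance : Nonempty (Sylow 2 G))
    have hS : Nat.card (S : Subgroup G) = 2 := by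
      simpa using SmallGroups.card_sylow_eq (p := 2) (a := 1) (by rw [pow_one]; exact h) hxy S
    refine SmallGroups.not_normalizer_le_centralizer hne (p := 2) (by rw [h]; exact dvd_mul_right 2 _)
      S ?_
    obtain ⟨u, v, huv, huniv⟩ := Nat.card_eq_two_iff.mp hS
    intro g hg
    rw [Subgroup.mem_centralizer_iff]
    intro a ha
    rcases eq_or_ne a 1 with rfl | ha1
    · simp
    have h1 : g * a * g⁻¹ ∈ (S : Subgroup G) := (Subgroup.mem_normalizer_iff.mp hg a).mp ha
    have h2 : g * a * g⁻¹ = a := by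
      have key : ∀ x y : (S : Subgroup G), x ≠ 1 → y ≠ 1 → x = y := by
        intro x y hx hy
        have e := huniv ▸ Set.mem_univ x
        have e' := huniv ▸ Set.mem_univ y
        have e'' := huniv ▸ Set.mem_univ (1 : (S : Subgroup G))
        simp only [Set.mem_insert_iff, Set.mem_singleton_iff] at e e' e''
        rcases e with e | e <;> rcases e' with e' | e' <;> rcases e'' with e'' | e'' <;>
          simp_all
      have h3 := key ⟨_, h1⟩ ⟨a, ha⟩ (fun e => ha1 (conj_eq_one_iff.mp (congrArg Subtype.val e)))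
        (fun e => ha1 (congrArg Subtype.val e))
      exact congrArg Subtype.val h3
    exact (mul_inv_eq_iff_eq_mul.mp h2).symm
  have hnot2 : ∀ x y : ℕ, x.Prime → y.Prime → x ≠ y → x ≠ q → y ≠ q →
      Nat.card G = x * y * q ^ b → ¬ 2 ∣ x := by
    intro x y hx hy hxy hxq hyq hcard h2
    have hx2 := (Nat.prime_dvd_prime_iff_eq Nat.prime_two hx).mp h2
    subst hx2
    rcases Nat.prime_two.dvd_mul.mp (hodd y (q ^ b) (by rw [hcard]; ring)) with h | h
    · exact hxy ((Nat.prime_dvd_prime_iff_eq Nat.prime_two hy).mp h)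
    · exact hxq ((Nat.prime_dvd_prime_iff_eq Nat.prime_two hq).mp (Nat.prime_two.dvd_of_dvd_pow h))
  rcases lt_or_gt_of_ne hpr with h | h
  · exact aux (b := b) hG hr hq hp hqr.symm (hnot2 p r hp hr hpr hpq hqr.symm hG') h
      (by rw [hG']; ring)
  · exact aux hG hp hq hr hpq (hnot2 r p hr hp hpr.symm hqr.symm hpq (by rw [hG']; ring)) h hG'

end Cfsg.Agent.S0998
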