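import Cfsg.Statements.S0983
import Cfsg.Agent.SO89.OrdersC
import Cfsg.Agent.SO89.OrdersD
import Cfsg.Agent.SO89.OrdersE
import Cfsg.Agent.S0975
import Cfsg.Agent.S0976
import Cfsg.Agent.S0977
import Cfsg.Agent.S0978
import Cfsg.Agent.S0980
import Cfsg.Agent.S0997
import Cfsg.Agent.S0998

set_option autoImplicit false
open Cfsg

namespace Cfsg.Agent.S0983

theorem card_psl_small {F : Type*} [Field F] [Fintype F] {G : Type*} [Group G]
    (e : Nonempty (G ≃* Matrix.ProjectiveSpecialLinearGroup (Fin 2) F)) {q k : ℕ}
    (hq : Fintype.card F = q) (hk : Nat.gcd 2 (q - 1) * k = q * (q ^ 2 - 1)) :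
    Nat.gcd 2 (q - 1) * Nat.card G = Nat.gcd 2 (q - 1) * k := by
  obtain ⟨e⟩ := e
  have h := LinearGroup.gcd_mul_card_PSL_two (F := F)
  rw [Nat.card_eq_fintype_card (α := F), hq, ← Nat.card_congr e.toEquiv] at h
  rw [hk, h]

/-- A non-abelian finite simple group of order greater than 3640 and at most 6232 has order 4080, 5616, 6048 or 6072. -/
theorem result {G : Type*} [Group G] [Finite G] [IsSimpleGroup G] (hG : ¬ IsMulCommutative G) (h1 : 3640 < Nat.card G) (h2 : Nat.card G ≤ 6232) : Nat.card G = 4080 ∨ Nat.card G = 5616 ∨ Nat.card G = 6048 ∨ Nat.card G = 6072 := by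
  have hcyc : ¬ IsCyclic G := fun h => hG (by exact IsCyclic.isMulCommutative)
  have hthree : ∀ b, Nat.card G = 7 * 11 * 2 ^ b ∨ Nat.card G = 7 * 3 * 2 ^ b →
      Nat.card G ≤ 168 := by
    intro b hb
    have key : ∀ r : ℕ, r.Prime → r ≠ 7 → r ≠ 2 → Nat.card G = 7 * r * 2 ^ b → Nat.card G ≤ 168 := by
      intro r hr h7 h2' h
      rcases S0998.result hcyc 7 2 r b (by norm_num) Nat.prime_two hr (by norm_num) h7.symm h2'.symm h with
        ⟨F, _, _, hF, e⟩ | ⟨F, _, _, hF, e⟩
      · have := card_psl_small (k := 60) e hF (by norm_num)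
        norm_num at this
        omega
      · have := card_psl_small (k := 168) e hF (by norm_num)
        norm_num at this
        omega
    rcases hb with hb | hb
    · exact key 11 (by norm_num) (by norm_num) (by norm_num) hb
    · exact key 3 (by norm_num) (by norm_num) (by norm_num) hb
  have hmem := SO89.card_mem_left hG h1 h2
  simp only [SO89.left, List.mem_cons, List.not_mem_nil, or_false] at hmem
  rcases hmem with h | h | h | h | h | h | h | h | h | h | h | h | h | h | h | h | h | h | h | h | h |
    h | h | h | h | h | h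
  · exact absurd h (SO89.not_3696 hG)
  · exact absurd h S0975.result
  · exact absurd h (SO89.not_3780 hG)
  · exact absurd h (SO89.not_3960 hG)
  · exact absurd h S0976.result
  · exact Or.inl h
  · exact absurd h (SO89.not_4200 hG)
  · exfalso
    rcases S0997.result hcyc 13 3 4 4 (by norm_num) (by norm_num) (by norm_num)
      (by rw [h]; norm_num) (by norm_num) with
      ⟨m, F, _, _, hF, -, e⟩ | ⟨m, F, _, _, hF, hm, -, -⟩
    · have := card_psl_small (k := 1092) e hF (by norm_num)
      norm_num at this
      omega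
    · rcases m with _ | _ | _ | _ | m <;> norm_num at hm
      rw [show m + 4 = m + 4 from rfl, pow_add] at hm
      have : 0 < 2 ^ m := by positivity
      omega
  · exact absurd h S0977.result
  · exact absurd h (SO89.not_4400 hG)
  · exact absurd h (SO89.not_4536 hG)
  · exact absurd h (SO89.not_4620 hG)
  · exact absurd h (SO89.not_4680 hG)
  · exact absurd h (SO89.not_4800 hG)
  · have := hthree 6 (Or.inl (by rw [h]; norm_num)); omega
  · exact absurd h S0978.result
  · exact absurd h (SO89.not_5148 hG)
  · have := hthree 8 (Or.inr (by rw [h]; norm_num)); omega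
  · exact absurd h (SO89.not_5400 hG)
  · exact absurd h (SO89.not_5460 hG)
  · exact absurd h (SO89.not_5600 hG)
  · exact Or.inr (Or.inl h)
  · exact absurd h S0980.result
  · exact absurd h (SO89.not_5880 hG)
  · exact absurd h (SO89.not_5940 hG)
  · exact Or.inr (Or.inr (Or.inl h))
  · exact Or.inr (Or.inr (Or.inr h))

end Cfsg.Agent.S0983
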