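import Cfsg.Statements.S0984
import Cfsg.Agent.BC87.A7.Gens
import Cfsg.Agent.S3335
-- import your own Cfsg.Agent.* helpers here

set_option autoImplicit false
open Cfsg

namespace Cfsg.Agent.S0984

/-- A simple group of order 2520 is isomorphic to the alternating group of degree 7. -/
theorem result {G : Type*} [Group G] [Finite G] [IsSimpleGroup G] (h : Nat.card G = 2520) : Nonempty (G ≃* alternatingGroup (Fin 7)) := by
  classical
  haveI : Fact (Nat.Prime 3) := ⟨Nat.prime_three⟩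
  by_cases hI : ∀ H : Subgroup G, H.index ≠ 7
  swap
  · push_neg at hI
    obtain ⟨H, hH⟩ := hI
    exact Cfsg.Agent.BC87.A7.iso_of_index_seven h hH
  have hh : Cfsg.Agent.BC87.A7.Hyp G := ⟨h, hI⟩
  obtain ⟨x, hx⟩ := hh.exists_good
  obtain ⟨e, he0, h3, ⟨s1, s2, s3, s4⟩, ⟨t1, t2, t3, t4⟩, q1, q2, q3, q4, q5, q6⟩ :=
    hh.exists_gens hx
  obtain ⟨ψ⟩ := Cfsg.Agent.S3335.result 7 (by norm_num)
  have hrels : ∀ r ∈ ({g : FreeGroup (Fin (7 - 2)) | ∃ i : Fin (7 - 2), i.val = 0 ∧ g = FreeGroup.of i ^ 3} ∪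
       {g | ∃ i : Fin (7 - 2), 1 ≤ i.val ∧ g = FreeGroup.of i ^ 2} ∪
       {g | ∃ i j : Fin (7 - 2), j.val = i.val + 1 ∧ g = (FreeGroup.of i * FreeGroup.of j) ^ 3} ∪
       {g | ∃ i j : Fin (7 - 2), i.val + 1 < j.val ∧ g = (FreeGroup.of i * FreeGroup.of j) ^ 2}),
      FreeGroup.lift e r = 1 := by
    rintro r (((⟨i, hi, rfl⟩ | ⟨i, hi, rfl⟩) | ⟨i, j, hij, rfl⟩) | ⟨i, j, hij, rfl⟩) <;>
      simp only [map_pow, map_mul, FreeGroup.lift_apply_of]
    · obtain rfl : i = 0 := Fin.ext hi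
      exact h3
    · fin_cases i <;> first | omega | assumption | simp at hi
    · fin_cases i <;> fin_cases j <;> first | omega | assumption | simp at hij
    · fin_cases i <;> fin_cases j <;> first | omega | assumption | simp at hij
  let f : alternatingGroup (Fin 7) →* G :=
    (PresentedGroup.toGroup hrels).comp ψ.symm.toMonoidHom
  have hfne : f.ker ≠ ⊤ := by
    intro hk
    have h1 : f (ψ (PresentedGroup.of (0 : Fin (7 - 2)))) = 1 := MonoidHom.mem_ker.mp (by rw [hk]; trivial)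
    rw [show f (ψ (PresentedGroup.of (0 : Fin (7 - 2)))) = e 0 by
      simp only [f, MonoidHom.comp_apply, MulEquiv.coe_toMonoidHom, MulEquiv.symm_apply_apply,
        PresentedGroup.toGroup.of], he0] at h1
    exact hh.good_ne hx h1
  haveI : IsSimpleGroup (alternatingGroup (Fin 7)) :=
    alternatingGroup.isSimpleGroup (by rw [Nat.card_fin]; norm_num)
  have hinj : Function.Injective f :=
    (MonoidHom.ker_eq_bot_iff f).mp (f.normal_ker.eq_bot_or_eq_top.resolve_right hfne)
  have hcard : Nat.card G = Nat.card (alternatingGroup (Fin 7)) := by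
    rw [h, nat_card_alternatingGroup, Nat.card_fin]; rfl
  exact ⟨(MulEquiv.ofBijective f (hinj.bijective_of_nat_card_le hcard.le)).symm⟩

end Cfsg.Agent.S0984
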