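import Cfsg.Statements.S0986
import Cfsg.Agent.Lib.SmallGroups.Basic
import Mathlib.GroupTheory.Nilpotent

set_option autoImplicit false
open Cfsg

namespace Cfsg.Agent.S0986

/-- Let P and Q be distinct Sylow p-subgroups of a finite group G chosen so that the order of P ∩ Q is as large as possible among intersections of two distinct Sylow p-subgroups, and let N be the normalizer of P ∩ Q. Then N has more than one Sylow p-subgroup, any two distinct Sylow p-subgroups of N intersect exactly in P ∩ Q, and each Sylow p-subgroup of N lies in exactly one Sylow p-subgroup of G. -/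
theorem result {G : Type*} [Group G] [Finite G] (p : ℕ) [Fact p.Prime] (P Q : Sylow p G) (hPQ : P ≠ Q) (hmax : ∀ P' Q' : Sylow p G, P' ≠ Q' → Nat.card ↥((P' : Subgroup G) ⊓ (Q' : Subgroup G)) ≤ Nat.card ↥((P : Subgroup G) ⊓ (Q : Subgroup G))) : 1 < Nat.card (Sylow p ↥(Subgroup.normalizer (((P : Subgroup G) ⊓ (Q : Subgroup G) : Subgroup G) : Set G))) ∧ (∀ S T : Sylow p ↥(Subgroup.normalizer (((P : Subgroup G) ⊓ (Q : Subgroup G) : Subgroup G) : Set G)), S ≠ T → (S : Subgroup _) ⊓ (T : Subgroup _) = ((P : Subgroup G) ⊓ (Q : Subgroup G)).subgroupOf (Subgroup.normalizer (((P : Subgroup G) ⊓ (Q : Subgroup G) : Subgroup G) : Set G))) ∧ ∀ S : Sylow p ↥(Subgroup.normalizer (((P : Subgroup G) ⊓ (Q : Subgroup G) : Subgroup G) : Set G)), ∃! T : Sylow p G, (S : Subgroup _).map (Subgroup.normalizer (((P : Subgroup G) ⊓ (Q : Subgroup G) : Subgroup G) : Set G)).subtype ≤ (T : Subgroup G) := by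
  classical
  set D := (P : Subgroup G) ⊓ (Q : Subgroup G) with hD
  set N := Subgroup.normalizer (D : Set G)
  have hDN : D ≤ N := Subgroup.le_normalizer
  have hcard : ∀ A B : Sylow p G, Nat.card ↥(A : Subgroup G) = Nat.card ↥(B : Subgroup G) :=
    fun A B => Nat.card_congr (Sylow.equiv A B).toEquiv
  have hlt : ∀ A : Sylow p G, D ≤ (A : Subgroup G) → D < (A : Subgroup G) := by
    intro A hA
    refine lt_of_le_of_ne hA fun h => hPQ (Sylow.ext ?_)
    have hc : Nat.card ↥(P : Subgroup G) ≤ Nat.card ↥D := by rw [h]; exact (hcard P A).le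
    have h1 : D = (P : Subgroup G) := Subgroup.eq_of_le_of_card_ge inf_le_left hc
    have hc2 : Nat.card ↥(Q : Subgroup G) ≤ Nat.card ↥D := by rw [h]; exact (hcard Q A).le
    exact h1.symm.trans (Subgroup.eq_of_le_of_card_ge inf_le_right hc2)
  have hgrow : ∀ A : Sylow p G, D ≤ (A : Subgroup G) → D < (A : Subgroup G) ⊓ N := by
    intro A hA
    have hnil : Group.IsNilpotent ↥(A : Subgroup G) := A.2.isNilpotent
    have h := Group.normalizerCondition_of_isNilpotent (G := ↥(A : Subgroup G)) (D.subgroupOf A)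
      (lt_top_iff_ne_top.mpr fun h => (hlt A hA).not_ge (Subgroup.subgroupOf_eq_top.mp h))
    rw [← Subgroup.subgroupOf_normalizer_eq hA] at h
    refine lt_of_le_of_ne (le_inf hA hDN) fun heq => h.ne ?_
    conv_lhs => rw [heq]
    rw [Subgroup.inf_subgroupOf_left]
  have huniq : ∀ A B : Sylow p G, Nat.card ↥D < Nat.card ↥((A : Subgroup G) ⊓ (B : Subgroup G)) →
      A = B := by
    intro A B h
    by_contra hne
    exact absurd (hmax A B hne) (not_le.mpr h)
  have hclt : ∀ H : Subgroup G, D < H → Nat.card ↥D < Nat.card ↥H := fun H h =>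
    lt_of_not_ge fun h' => h.ne (Subgroup.eq_of_le_of_card_ge h.le h')
  have hS : ∀ S : Sylow p ↥N, D < (S : Subgroup ↥N).map N.subtype := by
    intro S
    have hDS : D.subgroupOf N ≤ (S : Subgroup ↥N) :=
      @IsPGroup.le_sylow_of_normal p ↥N _ (D.subgroupOf N) Subgroup.normal_in_normalizer
        ((P.2.to_le inf_le_left).comap_subtype) S
    have hle : D ≤ (S : Subgroup ↥N).map N.subtype := fun d hd =>
      ⟨⟨d, hDN hd⟩, hDS hd, rfl⟩
    refine lt_of_le_of_ne hle fun h => ?_
    obtain ⟨S₁, hS₁⟩ := ((P.2.to_le (inf_le_left : (P : Subgroup G) ⊓ N ≤ P)).comap_subtype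
      (K := N)).exists_le_sylow
    have h1 : Nat.card ↥((P : Subgroup G) ⊓ N) ≤ Nat.card ↥(S₁ : Subgroup ↥N) := by
      rw [← Nat.card_congr (Subgroup.subgroupOfEquivOfLe
        (inf_le_right : (P : Subgroup G) ⊓ N ≤ N)).toEquiv]
      exact Subgroup.card_le_of_le hS₁
    have h2 := hclt _ (hgrow P inf_le_left)
    rw [Nat.card_congr (Sylow.equiv S₁ S).toEquiv,
      Nat.card_congr ((S : Subgroup ↥N).equivMapOfInjective _ N.subtype_injective).toEquiv,
      ← h] at h1
    omega
  have hex : ∀ S : Sylow p ↥N, ∃! T : Sylow p G, (S : Subgroup ↥N).map N.subtype ≤ (T : Subgroup G) := by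
    intro S
    obtain ⟨T, hT⟩ := (S.2.map N.subtype).exists_le_sylow
    exact ⟨T, hT, fun T' hT' => huniq T' T
      ((hclt _ (hS S)).trans_le (Subgroup.card_le_of_le (le_inf hT' hT)))⟩
  have hback : ∀ (S : Sylow p ↥N) (T : Sylow p G),
      (S : Subgroup ↥N).map N.subtype ≤ (T : Subgroup G) →
      (S : Subgroup ↥N) = (T : Subgroup G).subgroupOf N := fun S T h =>
    (S.3 (Q := (T : Subgroup G).subgroupOf N) T.2.comap_subtype
      (Subgroup.map_le_iff_le_comap.mp h)).symm
  refine ⟨?_, ?_, hex⟩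
  · by_contra h1
    have : Subsingleton (Sylow p ↥N) := Finite.card_le_one_iff_subsingleton.mp (not_lt.mp h1)
    obtain ⟨S⟩ := (inferInstance : Nonempty (Sylow p ↥N))
    obtain ⟨T, hT, -⟩ := hex S
    have hin : ∀ A : Sylow p G, D ≤ (A : Subgroup G) → A = T := by
      intro A hA
      refine huniq A T ((hclt _ (hgrow A hA)).trans_le (Subgroup.card_le_of_le ?_))
      refine le_inf inf_le_left fun a ha => ?_
      obtain ⟨S', hS'⟩ := ((A.2.to_le (inf_le_left : (A : Subgroup G) ⊓ N ≤ A)).comap_subtype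
        (K := N)).exists_le_sylow
      rw [Subsingleton.elim S' S] at hS'
      exact hT ⟨⟨a, ha.2⟩, hS' (show (⟨a, ha.2⟩ : ↥N) ∈ _ from ha), rfl⟩
    exact hPQ ((hin P inf_le_left).trans (hin Q inf_le_right).symm)
  · intro S T hST
    obtain ⟨A, hA, -⟩ := hex S
    obtain ⟨B, hB, -⟩ := hex T
    have hAB : A ≠ B := fun h => hST (Sylow.ext (by
      rw [hback S A hA, hback T B hB, h]))
    have hle : D ≤ (A : Subgroup G) ⊓ (B : Subgroup G) :=
      le_inf ((hS S).le.trans hA) ((hS T).le.trans hB)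
    have heq : D = (A : Subgroup G) ⊓ (B : Subgroup G) :=
      Subgroup.eq_of_le_of_card_ge hle (hmax A B hAB)
    rw [hback S A hA, hback T B hB]
    change (A : Subgroup G).subgroupOf N ⊓ (B : Subgroup G).subgroupOf N = D.subgroupOf N
    rw [heq]
    rfl

end Cfsg.Agent.S0986
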