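import Cfsg.Statements.S0987
import Cfsg.Agent.Lib.SmallGroups.Counting

set_option autoImplicit false
open Cfsg

namespace Cfsg.Agent.S0987

/-- If a finite group has order pqr for primes p < q < r, then its Sylow r-subgroups are normal. -/
theorem result {G : Type*} [Group G] [Finite G] (p q r : ℕ) (hp : p.Prime) (hq : q.Prime) [Fact r.Prime] (hpq : p < q) (hqr : q < r) (hG : Nat.card G = p * q * r) (R : Sylow r G) : (R : Subgroup G).Normal := by
  have : Fact q.Prime := ⟨hq⟩
  have hrp : ¬ r ∣ p * q := by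
    rw [(Fact.out : r.Prime).dvd_mul, Nat.prime_dvd_prime_iff_eq Fact.out hp,
      Nat.prime_dvd_prime_iff_eq Fact.out hq]
    omega
  have hqp : ¬ q ∣ p * r := by
    rw [hq.dvd_mul, Nat.prime_dvd_prime_iff_eq hq hp,
      Nat.prime_dvd_prime_iff_eq hq (Fact.out : r.Prime)]
    omega
  have hGr : Nat.card G = r ^ 1 * (p * q) := by rw [hG]; ring
  have hGq : Nat.card G = q ^ 1 * (p * r) := by rw [hG]; ring
  by_contra hnorm
  have hnr : Nat.card (Sylow r G) = p * q := by
    obtain ⟨hd, hm⟩ := Cfsg.Agent.SmallGroups.card_sylow_mem hGr hrp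
    rcases (Nat.dvd_mul.mp hd) with ⟨a, b, ha, hb, hab⟩
    rcases (Nat.dvd_prime hp).mp ha with rfl | rfl <;>
      rcases (Nat.dvd_prime hq).mp hb with rfl | rfl
    · exact absurd (Cfsg.Agent.SmallGroups.normal_of_card_sylow_eq_one (by omega) R) hnorm
    · rw [← hab, one_mul, Nat.mod_eq_of_lt hqr] at hm; exact absurd hm hq.ne_one
    · rw [← hab, mul_one, Nat.mod_eq_of_lt (hpq.trans hqr)] at hm; exact absurd hm hp.ne_one
    · exact hab.symm
  have hR : ∀ R' : Sylow r G, Nat.card ↥(R' : Subgroup G) = r := fun R' => by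
    simpa using Cfsg.Agent.SmallGroups.card_sylow_eq hGr hrp R'
  have hQ' : ∀ Q : Sylow q G, Nat.card ↥(Q : Subgroup G) = q := fun Q => by
    simpa using Cfsg.Agent.SmallGroups.card_sylow_eq hGq hqp Q
  have hnq : Nat.card (Sylow q G) = 1 := by
    obtain ⟨hd, hm⟩ := Cfsg.Agent.SmallGroups.card_sylow_mem hGq hqp
    by_contra h1
    have hge : r ≤ Nat.card (Sylow q G) := by
      rcases (Nat.dvd_mul.mp hd) with ⟨a, b, ha, hb, hab⟩
      rcases (Nat.dvd_prime hp).mp ha with rfl | rfl <;>
        rcases (Nat.dvd_prime (Fact.out : r.Prime)).mp hb with rfl | rfl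
      · omega
      · omega
      · rw [← hab, mul_one, Nat.mod_eq_of_lt hpq] at hm; exact absurd hm hp.ne_one
      · rw [← hab]; exact Nat.le_mul_of_pos_left _ hp.pos
    classical
    have := Fintype.ofFinite G
    have hdis : Disjoint (Finset.univ.filter fun g : G => orderOf g = r)
        (Finset.univ.filter fun g : G => orderOf g = q) := by
      rw [Finset.disjoint_filter]
      intro g _ h1 h2
      exact hqr.ne (h2.symm.trans h1)
    have hlt := Finset.card_lt_card (s := (Finset.univ.filter fun g : G => orderOf g = r) ∪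
        (Finset.univ.filter fun g : G => orderOf g = q)) (t := Finset.univ)
      (by
        refine Finset.ssubset_univ_iff.mpr fun h => ?_
        have := h.ge (Finset.mem_univ (1 : G))
        simp [(Fact.out : r.Prime).ne_one.symm, hq.ne_one.symm] at this)
    have hr' := Cfsg.Agent.SmallGroups.card_orderOf_eq hR
    have hq' := Cfsg.Agent.SmallGroups.card_orderOf_eq hQ'
    rw [Nat.card_eq_fintype_card, Fintype.card_subtype] at hr' hq'
    rw [Finset.card_union_of_disjoint hdis, hr', hq', hnr, Finset.card_univ,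
      ← Nat.card_eq_fintype_card, hG] at hlt
    obtain ⟨r', rfl⟩ : ∃ r', r = r' + 1 := ⟨r - 1, by omega⟩
    obtain ⟨q', rfl⟩ : ∃ q', q = q' + 1 := ⟨q - 1, by omega⟩
    simp only [Nat.add_sub_cancel] at hlt
    have : (r' + 1) * q' ≤ Nat.card (Sylow (q' + 1) G) * q' := Nat.mul_le_mul_right _ hge
    have h2 : (q' + 1) * (q' + 1) ≤ (r' + 1) * q' + 1 := by
      have : (q' + 2) * q' ≤ (r' + 1) * q' := Nat.mul_le_mul_right _ (by omega)
      linarith
    have h3 : p * (q' + 1) < (q' + 1) * (q' + 1) := Nat.mul_lt_mul_of_pos_right hpq (by omega)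
    nlinarith
  obtain ⟨Q⟩ := (inferInstance : Nonempty (Sylow q G))
  have hQn := Cfsg.Agent.SmallGroups.normal_of_card_sylow_eq_one hnq Q
  set C := Subgroup.centralizer ((Q : Subgroup G) : Set G)
  have hCn : C.Normal := inferInstance
  have hC : C.index ∣ q - 1 := by
    have h := Cfsg.Agent.SmallGroups.relIndex_centralizer_dvd_of_prime _ (hQ' Q)
    rwa [Subgroup.normalizer_eq_top, Subgroup.relIndex_top_right] at h
  have hrC : r ∣ Nat.card ↥C := by
    have h : r ∣ Nat.card ↥C * C.index := by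
      rw [C.card_mul_index, hG]; exact Dvd.intro_left _ rfl
    refine ((Fact.out : r.Prime).dvd_mul.mp h).resolve_right fun h2 => ?_
    have := Nat.le_of_dvd (by have := hq.two_le; omega) (h2.trans hC)
    omega
  obtain ⟨y, hy⟩ := exists_prime_orderOf_dvd_card' (G := ↥C) r hrC
  obtain ⟨R', hR'⟩ := Cfsg.Agent.SmallGroups.exists_mem_sylow
    (show orderOf (y : G) = r by rw [Subgroup.orderOf_coe]; exact hy)
  have hy1 : (y : G) ≠ 1 := by
    intro h
    rw [← Subgroup.orderOf_coe, h, orderOf_one] at hy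
    exact (Fact.out : r.Prime).ne_one hy.symm
  have hle : (R' : Subgroup G) ≤ C := by
    rw [← Cfsg.Agent.SmallGroups.zpowers_eq_of_card_prime (hR R') hR' hy1]
    exact Subgroup.zpowers_le.mpr y.2
  have hQN : (Q : Subgroup G) ≤ Subgroup.normalizer ((R' : Subgroup G) : Set G) :=
    (Subgroup.le_centralizer_iff.mp hle).trans (Subgroup.centralizer_le_normalizer _)
  have hN := Cfsg.Agent.SmallGroups.normalizer_conj_eq_card R' hnr (k := r) (by rw [hG]; ring)
  have hd := Subgroup.card_dvd_of_le hQN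
  rw [hN, hQ' Q, Nat.prime_dvd_prime_iff_eq hq Fact.out] at hd
  omega

end Cfsg.Agent.S0987
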