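import Cfsg.Statements.S0994
import Cfsg.Agent.Lib.SmallGroups.Counting

set_option autoImplicit false
open Cfsg

namespace Cfsg.Agent.S0994

/-- No finite simple group has order 1188 = 2^2 * 3^3 * 11. -/
theorem result {G : Type*} [Group G] [Finite G] [IsSimpleGroup G] : Nat.card G ≠ 1188 := by
  intro hG
  have : Fact (Nat.Prime 11) := ⟨by norm_num⟩
  have hne : ¬ IsMulCommutative G :=
    Cfsg.Agent.SmallGroups.not_comm_of_not_prime (by rw [hG]; norm_num)
  have hm := Cfsg.Agent.SmallGroups.card_sylow_mem_list (G := G) (p := 11) (a := 1) (m := 108)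
    (by rw [hG]; norm_num) (by norm_num)
  rw [show (Nat.divisors 108).filter (fun d => d % 11 = 1) = {1, 12} by decide] at hm
  simp only [Finset.mem_insert, Finset.mem_singleton] at hm
  obtain ⟨P⟩ := (inferInstance : Nonempty (Sylow 11 G))
  have h12 : Nat.card (Sylow 11 G) = 12 := hm.resolve_left
    (Cfsg.Agent.SmallGroups.card_sylow_ne_one hne (by rw [hG]; norm_num))
  have hP := Cfsg.Agent.SmallGroups.card_sylow_eq (p := 11) (a := 1) (m := 108)
    (by rw [hG]; norm_num) (by norm_num) P
  have hN := Cfsg.Agent.SmallGroups.normalizer_conj_eq_card P h12 (k := 99) (by rw [hG])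
  refine Cfsg.Agent.SmallGroups.not_coprime_normalizer hne P (by simpa using hP) ?_
  rw [hN]; norm_num

end Cfsg.Agent.S0994
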