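import Cfsg.Statements.S0995
import Cfsg.Agent.Lib.SmallGroups.Action
import Cfsg.Agent.Lib.SmallGroups.Counting
import Mathlib.Tactic.Ring

set_option autoImplicit false
open Cfsg

namespace Cfsg.Agent.S0995

/-- Let G be a finite perfect group containing an element z of prime order p whose centralizer is the cyclic group it generates. Let t be the number of conjugacy classes of elements of order p. Then t divides p - 1, the number of Sylow p-subgroups has the form 1 + n * p, and |G| * t = (p - 1) * p * (1 + n * p). -/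
theorem result {G : Type*} [Group G] [Finite G] (hperf : commutator G = ⊤) (p : ℕ) [Fact p.Prime] (z : G) (hz : orderOf z = p) (hC : Subgroup.centralizer ({z} : Set G) = Subgroup.zpowers z) : ∃ n t : ℕ, t = Nat.card {c : ConjClasses G // ∃ g : G, ConjClasses.mk g = c ∧ orderOf g = p} ∧ t ∣ p - 1 ∧ Nat.card (Sylow p G) = 1 + n * p ∧ Nat.card G * t = (p - 1) * p * (1 + n * p) := by
  classical
  have := Fintype.ofFinite G
  have hp := (Fact.out : p.Prime)
  obtain ⟨P₀, hzP⟩ := Cfsg.Agent.SmallGroups.exists_mem_sylow hz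
  have hzc : Nat.card ↥(Subgroup.zpowers z) = p := (Nat.card_zpowers z).trans hz
  have hP₀ : (P₀ : Subgroup G) = Subgroup.zpowers z := by
    obtain ⟨w, hw⟩ : ∃ w : Subgroup.center ↥(P₀ : Subgroup G), w ≠ 1 := by
      have : Nontrivial ↥(P₀ : Subgroup G) :=
        ⟨⟨⟨z, hzP⟩, 1, fun h => hp.ne_one
          (hz.symm.trans (orderOf_eq_one_iff.mpr (congrArg Subtype.val h)))⟩⟩
      have := P₀.2.center_nontrivial
      exact exists_ne 1
    have hwz : (w.1 : G) ∈ Subgroup.zpowers z := by
      rw [← hC, Subgroup.mem_centralizer_singleton_iff]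
      exact (congrArg Subtype.val (Subgroup.mem_center_iff.mp w.2 ⟨z, hzP⟩)).symm
    have hgen : Subgroup.zpowers (w.1 : G) = Subgroup.zpowers z :=
      Cfsg.Agent.SmallGroups.zpowers_eq_of_card_prime hzc hwz
        (fun h => hw (Subtype.ext (Subtype.ext h)))
    refine le_antisymm (fun u hu => ?_) (Subgroup.zpowers_le.mpr hzP)
    rw [← hC, Subgroup.mem_centralizer_singleton_iff]
    obtain ⟨k, hk⟩ := Subgroup.mem_zpowers_iff.mp (hgen ▸ Subgroup.mem_zpowers z)
    have hcomm : Commute u (w.1 : G) :=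
      congrArg Subtype.val (Subgroup.mem_center_iff.mp w.2 ⟨u, hu⟩)
    rw [← hk]
    exact (hcomm.zpow_right k).eq
  have hP : ∀ Q : Sylow p G, Nat.card ↥(Q : Subgroup G) = p := fun Q => by
    rw [Nat.card_congr (Sylow.equiv Q P₀).toEquiv, hP₀, hzc]
  obtain ⟨n, hn⟩ : ∃ n, Nat.card (Sylow p G) = 1 + n * p := by
    refine ⟨Nat.card (Sylow p G) / p, ?_⟩
    have h := card_sylow_modEq_one p G
    unfold Nat.ModEq at h
    rw [Nat.one_mod_eq_one.mpr hp.ne_one] at h
    have h2 := Nat.mod_add_div (Nat.card (Sylow p G)) p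
    rw [h] at h2
    rw [mul_comm]; omega
  refine ⟨n, _, rfl, ?_⟩
  set t := Nat.card {c : ConjClasses G // ∃ g : G, ConjClasses.mk g = c ∧ orderOf g = p}
  set N := Subgroup.normalizer ((P₀ : Subgroup G) : Set G)
  have hclass : ∀ y : G, orderOf y = p → Nat.card {g : G // IsConj y g} * p = Nat.card G := by
    intro y hy
    have hCy : Nat.card ↥(Subgroup.centralizer ({y} : Set G)) = p := by
      obtain ⟨Q, hQ⟩ := Cfsg.Agent.SmallGroups.exists_mem_sylow hy
      obtain ⟨g, rfl⟩ := MulAction.exists_smul_eq G P₀ Q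
      rw [Sylow.coe_subgroup_smul, hP₀] at hQ
      rw [Subgroup.pointwise_smul_def] at hQ
      obtain ⟨w, hw, hwy⟩ := hQ
      change g * w * g⁻¹ = y at hwy
      have hw1 : w ≠ 1 := by
        rintro rfl
        rw [← hwy, mul_one, mul_inv_cancel, orderOf_one] at hy
        exact hp.ne_one hy.symm
      have hgen : Subgroup.zpowers w = Subgroup.zpowers z :=
        Cfsg.Agent.SmallGroups.zpowers_eq_of_card_prime hzc hw hw1
      have hCw : Subgroup.centralizer ({w} : Set G) = Subgroup.zpowers z := by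
        rw [← hC, ← Subgroup.centralizer_closure, ← Subgroup.zpowers_eq_closure, hgen,
          Subgroup.zpowers_eq_closure, Subgroup.centralizer_closure]
      refine (Nat.card_congr ((MulAut.conj g).toEquiv.subtypeEquiv fun u => ?_)).symm.trans
        ((congrArg (fun K : Subgroup G => Nat.card ↥K) hCw).trans hzc)
      rw [Subgroup.mem_centralizer_singleton_iff, Subgroup.mem_centralizer_singleton_iff, ← hwy]
      change _ ↔ g * u * g⁻¹ * (g * w * g⁻¹) = g * w * g⁻¹ * (g * u * g⁻¹)
      constructor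
      · intro h
        calc g * u * g⁻¹ * (g * w * g⁻¹) = g * (u * w) * g⁻¹ := by group
          _ = g * (w * u) * g⁻¹ := by rw [h]
          _ = _ := by group
      · intro h
        calc u * w = g⁻¹ * (g * u * g⁻¹ * (g * w * g⁻¹)) * g := by group
          _ = g⁻¹ * (g * w * g⁻¹ * (g * u * g⁻¹)) * g := by rw [h]
          _ = _ := by group
    rw [← hCy]
    exact Cfsg.Agent.SmallGroups.card_conj_mul_centralizer y
  have hsum : Nat.card {g : G // orderOf g = p} * p = t * Nat.card G := by
    let f : {g : G // orderOf g = p} →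
        {c : ConjClasses G // ∃ g : G, ConjClasses.mk g = c ∧ orderOf g = p} :=
      fun g => ⟨ConjClasses.mk g.1, g.1, rfl, g.2⟩
    have hfib : ∀ c, Nat.card {g // f g = c} * p = Nat.card G := by
      rintro ⟨c, y, rfl, hy⟩
      rw [← hclass y hy]
      congr 1
      refine Nat.card_congr
        { toFun := fun g => ⟨g.1.1,
            (ConjClasses.mk_eq_mk_iff_isConj.mp (congrArg Subtype.val g.2)).symm⟩
          invFun := fun g => ⟨⟨g.1, by
            obtain ⟨c, hc⟩ := isConj_iff.mp g.2
            rw [← hc]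
            exact (orderOf_injective (MulAut.conj c).toMonoidHom
              (MulEquiv.injective _) y).trans hy⟩,
            Subtype.ext (ConjClasses.mk_eq_mk_iff_isConj.mpr g.2.symm)⟩
          left_inv := fun g => rfl
          right_inv := fun g => rfl }
    have := Fintype.ofFinite {c : ConjClasses G // ∃ g : G, ConjClasses.mk g = c ∧ orderOf g = p}
    rw [← Nat.card_congr (Equiv.sigmaFiberEquiv f), Nat.card_sigma, Finset.sum_mul,
      Finset.sum_congr rfl (fun c _ => hfib c), Finset.sum_const, Finset.card_univ, smul_eq_mul,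
      ← Nat.card_eq_fintype_card]
  rw [Cfsg.Agent.SmallGroups.card_orderOf_eq hP] at hsum
  have hN := Cfsg.Agent.SmallGroups.card_normalizer_mul P₀
  refine ⟨?_, hn, by rw [← hn, mul_comm (Nat.card G), ← hsum]; ring⟩
  obtain ⟨e, he⟩ : p ∣ Nat.card ↥N := (hP P₀) ▸ Subgroup.card_dvd_of_le Subgroup.le_normalizer
  refine ⟨e, ?_⟩
  refine Nat.eq_of_mul_eq_mul_left
    (Nat.mul_pos (Nat.card_pos (α := Sylow p G)) hp.pos) ?_
  calc Nat.card (Sylow p G) * p * (p - 1) = Nat.card (Sylow p G) * (p - 1) * p := by ring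
    _ = t * (Nat.card ↥N * Nat.card (Sylow p G)) := by rw [hsum, hN]
    _ = _ := by rw [he]; ring

end Cfsg.Agent.S0995
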