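import Cfsg.Statements.S0996
import Cfsg.Agent.Lib.SmallGroups.Few.Main
import Cfsg.Agent.S0995

set_option autoImplicit false
open Cfsg

namespace Cfsg.Agent.S0996

/-- Let G be a finite perfect group containing an element z of prime order p whose centralizer is the cyclic group it generates, and suppose the number 1 + n * p of Sylow p-subgroups satisfies n < (p + 3) / 2. Then p > 3 and G is isomorphic to the projective special linear group of dimension 2 over the field with p elements, or p - 1 is a power of 2 and G is isomorphic to that group over the field with p - 1 elements. -/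
theorem result {G : Type*} [Group G] [Finite G] (hperf : commutator G = ⊤) (p : ℕ) [Fact p.Prime] (z : G) (hz : orderOf z = p) (hC : Subgroup.centralizer ({z} : Set G) = Subgroup.zpowers z) (hn : 2 * Nat.card (Sylow p G) < (p + 1) * (p + 2)) : (∃ (F : Type) (_ : Field F) (_ : Fintype F), Fintype.card F = p ∧ 3 < p ∧ Nonempty (G ≃* Matrix.ProjectiveSpecialLinearGroup (Fin 2) F)) ∨ (∃ (m : ℕ) (F : Type) (_ : Field F) (_ : Fintype F), Fintype.card F = 2 ^ m ∧ p = 2 ^ m + 1 ∧ 3 < p ∧ Nonempty (G ≃* Matrix.ProjectiveSpecialLinearGroup (Fin 2) F)) := by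
  classical
  have := Fintype.ofFinite G
  have hp : p.Prime := Fact.out
  obtain ⟨n, t, -, ht, hsyl, hcard⟩ := Cfsg.Agent.S0995.result hperf p z hz hC
  have hp1 : 1 ≤ p := hp.one_le
  have hnd : ¬ p ∣ 1 + n * p := fun h =>
    hp.not_dvd_one ((Nat.dvd_add_left (dvd_mul_left p n)).mp h)
  -- `⟨z⟩` is a Sylow subgroup
  have hidx : ¬ p ∣ (Subgroup.zpowers z).index := by
    intro h
    have h1 := Subgroup.card_mul_index (Subgroup.zpowers z)
    rw [Nat.card_zpowers, hz] at h1
    have h2 : p * p ∣ Nat.card G * t := dvd_mul_of_dvd_left (h1 ▸ Nat.mul_dvd_mul_left p h) t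
    rw [hcard, mul_comm (p - 1) p, mul_assoc] at h2
    rcases hp.dvd_mul.mp (Nat.dvd_of_mul_dvd_mul_left hp.pos h2) with h3 | h3
    · have := Nat.le_of_dvd (by have := hp.two_le; omega) h3; omega
    · exact hnd h3
  let s : SmallGroups.SelfCent.Setup G p :=
    { z := z
      K := ⊥
      orderOf_z := hz
      comm := fun w hw => by rw [Subgroup.mem_bot.mp hw, one_mul, mul_one]
      not_dvd := by rw [Subgroup.card_bot]; exact hp.not_dvd_one
      card_cent := by rw [hC, Subgroup.card_bot, mul_one, Nat.card_zpowers, hz] }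
  have hPc : Nat.card (Subgroup.zpowers z) = p ^ 1 := by rw [Nat.card_zpowers, hz, pow_one]
  let Q : Sylow p G := (IsPGroup.of_card hPc).toSylow hidx
  have hG : Nat.card G = Nat.card s.auto * p * (n * p + 1) := by
    have h1 := SmallGroups.card_normalizer_mul Q
    rw [show ((Q : Subgroup G) : Set G) = ((Subgroup.zpowers s.z : Subgroup G) : Set G) from rfl,
      s.card_normalizer, show Nat.card s.K = 1 from Subgroup.card_bot, mul_one, hsyl] at h1
    rw [← h1]; ring
  have hn' : 2 * n < p + 3 := by
    rw [hsyl] at hn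
    by_contra hlt
    have h1 : (p + 3) * p ≤ 2 * n * p := Nat.mul_le_mul_right p (by omega)
    nlinarith
  have hsimp := SmallGroups.Few.isSimpleGroup_of_perfect s hperf rfl hG hn'
  have hne : ¬ IsMulCommutative G := by
    intro h
    have hbot : commutator G = ⊥ := by
      rw [commutator_def, Subgroup.commutator_eq_bot_iff_le_centralizer]
      intro a _
      rw [Subgroup.mem_centralizer_iff]
      exact fun b _ => isMulCommutative_iff.mp h b a
    rw [hperf] at hbot
    have hnt : Nontrivial G := Finite.one_lt_card_iff_nontrivial.mp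
      (lt_of_lt_of_le hp.one_lt (Nat.le_of_dvd Nat.card_pos (hz ▸ orderOf_dvd_natCard z)))
    exact top_ne_bot hbot
  have hn1 : 1 ≤ n := by
    by_contra h0
    have hn0 : n = 0 := by omega
    subst hn0
    exact SmallGroups.card_sylow_ne_one hne (hz ▸ orderOf_dvd_natCard z) (by simpa using hsyl)
  have he : 2 ≤ Nat.card s.auto := SmallGroups.Few.two_le_auto hne s hidx
  have he' : Nat.card s.auto ≤ p - 1 := by
    rw [← s.card_orb_mul]; exact Nat.le_mul_of_pos_left _ Nat.card_pos
  by_cases hp5 : 5 ≤ p
  · rcases SmallGroups.Few.classify hne s rfl hp5 hn1 hn' hG with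
      ⟨F, i1, i2, hF, hiso⟩ | ⟨m, F, i1, i2, hF, hpm, hiso⟩
    · exact Or.inl ⟨F, i1, i2, hF, by omega, hiso⟩
    · exact Or.inr ⟨m, F, i1, i2, hF, hpm, by omega, hiso⟩
  exfalso
  have hp3 : p = 3 := by
    have h2 := hp.two_le
    have h4 : p ≠ 4 := fun h => by rw [h] at hp; norm_num at hp
    omega
  subst hp3
  have he2 : Nat.card s.auto = 2 := by omega
  have hn2 : n = 1 ∨ n = 2 := by omega
  rcases hn2 with rfl | rfl
  · -- order 24
    rw [he2] at hG
    haveI : Fact (Nat.Prime 2) := ⟨Nat.prime_two⟩
    have hmem := SmallGroups.card_sylow_mem_list (G := G) (p := 2) (a := 3) (m := 3)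
      (by rw [hG]; norm_num) (by norm_num)
    have hd : (Nat.divisors 3).filter (fun d => d % 2 = 1) = {1, 3} := by decide
    rw [hd, Finset.mem_insert, Finset.mem_singleton] at hmem
    have h2 : 2 ∣ Nat.card G := by rw [hG]; norm_num
    have h3 := SmallGroups.two_mul_card_dvd_sylow hne (p := 2) h2
    rw [hmem.resolve_left (SmallGroups.card_sylow_ne_one hne h2), hG] at h3
    norm_num [Nat.factorial] at h3
  · -- order 42
    rw [he2] at hG
    haveI : Fact (Nat.Prime 7) := ⟨by norm_num⟩
    have hmem := SmallGroups.card_sylow_mem_list (G := G) (p := 7) (a := 1) (m := 6)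
      (by rw [hG]; norm_num) (by norm_num)
    have hd : (Nat.divisors 6).filter (fun d => d % 7 = 1) = {1} := by decide
    rw [hd, Finset.mem_singleton] at hmem
    exact SmallGroups.card_sylow_ne_one hne (p := 7) (by rw [hG]; norm_num) hmem

end Cfsg.Agent.S0996
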