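import Cfsg.Statements.S1001
import Cfsg.Agent.S0904
import Cfsg.Agent.Lib.CharCore.Burnside
import Cfsg.Agent.Lib.SmallGroups.Counting

set_option autoImplicit false
open Cfsg

namespace Cfsg.Agent.S1001

/-- In a finite simple group whose order has the form p * 3^a * 2^b with p prime, the centralizer of any element of order p is the cyclic group it generates. -/
theorem result {G : Type*} [Group G] [Finite G] [IsSimpleGroup G] (p a b : ℕ) (hp : p.Prime) (hG : Nat.card G = p * 3 ^ a * 2 ^ b) (x : G) (hx : orderOf x = p) : Subgroup.centralizer ({x} : Set G) = Subgroup.zpowers x := by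
  have : Fact p.Prime := ⟨hp⟩
  obtain hsmall | ⟨hp2, hp3⟩ : (p = 2 ∨ p = 3) ∨ (p ≠ 2 ∧ p ≠ 3) := by tauto
  · -- the order is `2 ^ i * 3 ^ j`, so the group is solvable, hence of prime order
    obtain ⟨i, j, hij⟩ : ∃ i j : ℕ, Nat.card G = 2 ^ i * 3 ^ j := by
      rcases hsmall with rfl | rfl
      · exact ⟨b + 1, a, by rw [hG]; ring⟩
      · exact ⟨b, a + 1, by rw [hG]; ring⟩
    have hs : Group.IsSolvable G := Cfsg.Agent.CharCore.isSolvable_of_card_eq_prime_pow_mul
      Nat.prime_two Nat.prime_three _ G i j rfl hij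
    have hcomm : ∀ u v : G, u * v = v * u := IsSimpleGroup.comm_iff_isSolvable.mpr hs
    have hG1 : (Nat.card G).Prime :=
      Cfsg.Agent.SmallGroups.prime_card_of_comm (isMulCommutative_iff.mpr hcomm)
    have hpG : p = Nat.card G :=
      (Nat.prime_dvd_prime_iff_eq hp hG1).mp (hx ▸ orderOf_dvd_natCard x)
    have htop : Subgroup.zpowers x = ⊤ :=
      Subgroup.eq_top_of_card_eq _ (by rw [Nat.card_zpowers, hx, hpG])
    rw [htop]
    exact eq_top_iff.mpr fun g _ => Subgroup.mem_centralizer_singleton_iff.mpr (hcomm g x)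
  · obtain ⟨S, hS⟩ := Cfsg.Agent.SmallGroups.exists_mem_sylow (p := p) hx
    have hcard : Nat.card G = 3 ^ a * 2 ^ b * p := by rw [hG]; ring
    have h := Cfsg.Agent.S0904.result 3 2 p a b Nat.prime_three Nat.prime_two (by norm_num)
      (fun h => hp3 h.symm) (fun h => hp2 h.symm) hcard S
    have hSp : Nat.card ↥(S : Subgroup G) = p := by
      have := Cfsg.Agent.SmallGroups.card_sylow_eq (p := p) (a := 1) (m := 3 ^ a * 2 ^ b)
        (by rw [hcard]; ring) (fun h => by
          rcases hp.dvd_mul.mp h with h' | h'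
          · exact hp3 ((Nat.prime_dvd_prime_iff_eq hp Nat.prime_three).mp (hp.dvd_of_dvd_pow h'))
          · exact hp2 ((Nat.prime_dvd_prime_iff_eq hp Nat.prime_two).mp (hp.dvd_of_dvd_pow h'))) S
      simpa using this
    have hzp : Subgroup.zpowers x = (S : Subgroup G) :=
      Cfsg.Agent.SmallGroups.zpowers_eq_of_card_prime hSp hS (fun h => by
        rw [h, orderOf_one] at hx; exact hp.ne_one hx.symm)
    rw [hzp, ← Subgroup.centralizer_closure, ← Subgroup.zpowers_eq_closure, hzp]
    exact h

end Cfsg.Agent.S1001
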