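import Cfsg.Statements.S1002
import Cfsg.Agent.Lib.SmallGroups.SelfCent.ThreeSylow

set_option autoImplicit false
open Cfsg

namespace Cfsg.Agent.S1002

/-- No finite simple group has order 1004913 = 3^3 * 7 * 13 * 409. -/
theorem result {G : Type*} [Group G] [Finite G] [IsSimpleGroup G] : Nat.card G ≠ 1004913 := by
  intro hG
  have : Fact (Nat.Prime 409) := ⟨by norm_num⟩
  have hne : ¬ IsMulCommutative G :=
    Cfsg.Agent.SmallGroups.not_comm_of_not_prime (by rw [hG]; norm_num)
  have hm := Cfsg.Agent.SmallGroups.card_sylow_mem_list (G := G) (p := 409) (a := 1) (m := 2457)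
    (by rw [hG]; norm_num) (by norm_num)
  rw [show (Nat.divisors 2457).filter (fun d => d % 409 = 1) = {1, 819} by decide +kernel] at hm
  simp only [Finset.mem_insert, Finset.mem_singleton] at hm
  have hn : Nat.card (Sylow 409 G) = 819 := hm.resolve_left
    (Cfsg.Agent.SmallGroups.card_sylow_ne_one hne (by rw [hG]; norm_num))
  obtain ⟨a, b, x, u, v, ε, hu, hv, hε, ha, hb, had, hbd, hxd, hpa, hpb, hpx, heq, hle⟩ :=
    Cfsg.Agent.SmallGroups.exists_three_degrees_of_sylow hne (by norm_num : 19 ≤ 409) (n := 819)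
      (by rw [hG]) hn (by norm_num)
  rw [hG] at hle
  norm_num at hle had hbd hxd hpa hpb hpx
  have hab : ∀ c ∈ Nat.divisors 2457, 2 ≤ c → (c % 409 = 1 ∨ c % 409 = 408) → 819 ≤ c := by
    decide +kernel
  have ha' : 819 ≤ a := hab a (Nat.mem_divisors.mpr ⟨had, by norm_num⟩) ha
    (by rcases hu with rfl | rfl <;> omega)
  have hb' : 819 ≤ b := hab b (Nat.mem_divisors.mpr ⟨hbd, by norm_num⟩) hb
    (by rcases hv with rfl | rfl <;> omega)
  nlinarith

end Cfsg.Agent.S1002
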