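import Cfsg.Statements.S1008
import Cfsg.Agent.Lib.SmallGroups.Order168Klein
import Mathlib.Tactic.Ring

set_option autoImplicit false
open Cfsg

namespace Cfsg.Agent.S1008

open Cfsg.Agent.SmallGroups Cfsg.Agent.SmallGroups.Order168


/-- In a simple group of order 168 every maximal subgroup is either isomorphic to the symmetric group of degree 4 or non-abelian of order 21; the maximal subgroups of order 21 form one conjugacy class and those isomorphic to the symmetric group of degree 4 form exactly two conjugacy classes. -/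
theorem result {G : Type*} [Group G] [Finite G] [IsSimpleGroup G] (h : Nat.card G = 168) : (∀ M : Subgroup G, IsCoatom M → Nonempty (↥M ≃* Equiv.Perm (Fin 4)) ∨ (Nat.card ↥M = 21 ∧ ¬ IsMulCommutative ↥M)) ∧ (∀ M M' : Subgroup G, IsCoatom M → IsCoatom M' → Nat.card ↥M = 21 → Nat.card ↥M' = 21 → ∃ g : G, M' = M.map (MulAut.conj g).toMonoidHom) ∧ ∃ M₁ M₂ : Subgroup G, IsCoatom M₁ ∧ IsCoatom M₂ ∧ Nonempty (↥M₁ ≃* Equiv.Perm (Fin 4)) ∧ Nonempty (↥M₂ ≃* Equiv.Perm (Fin 4)) ∧ (∀ g : G, M₂ ≠ M₁.map (MulAut.conj g).toMonoidHom) ∧ ∀ M : Subgroup G, IsCoatom M → Nonempty (↥M ≃* Equiv.Perm (Fin 4)) → ∃ g : G, M = M₁.map (MulAut.conj g).toMonoidHom ∨ M = M₂.map (MulAut.conj g).toMonoidHom := by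
  classical
  have : Fact (Nat.Prime 2) := ⟨Nat.prime_two⟩
  have : Fact (Nat.Prime 3) := ⟨by norm_num⟩
  have : Fact (Nat.Prime 7) := ⟨by norm_num⟩
  obtain ⟨T⟩ := (inferInstance : Nonempty (Sylow 2 G))
  -- the two Klein four-subgroups of T
  obtain ⟨⟨U₁, hU₁T, hU₁⟩, ⟨U₂, hU₂T, hU₂⟩, hU₁₂, hboth⟩ : ∃ a b :
      {U : Subgroup G // U ≤ (T : Subgroup G) ∧ IsKleinFour ↥U}, a ≠ b ∧ ∀ c, c = a ∨ c = b := by
    obtain ⟨a, b, hab, huniv⟩ := Nat.card_eq_two_iff.mp (card_klein_le h T)
    exact ⟨a, b, hab, fun c => by simpa using huniv.ge (Set.mem_univ c)⟩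
  have hne : U₁ ≠ U₂ := fun he => hU₁₂ (Subtype.ext he)
  set N₁ := Subgroup.normalizer (U₁ : Set G)
  set N₂ := Subgroup.normalizer (U₂ : Set G)
  have hcoat : ∀ U : Subgroup G, IsKleinFour ↥U →
      IsCoatom (Subgroup.normalizer (U : Set G)) := by
    intro U hU
    have h24 := card_normalizer_klein h hU
    refine ⟨fun htop => ?_, fun H hH => ?_⟩
    · rw [htop, Subgroup.card_top, h] at h24; omega
    · by_contra hHtop
      have hlt := lt_index h hHtop
      have hmul := H.card_mul_index
      rw [h] at hmul
      have hd : 24 ∣ Nat.card ↥H := h24 ▸ Subgroup.card_dvd_of_le hH.le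
      have hne' : Nat.card ↥H ≠ 24 := fun he =>
        hH.ne (Subgroup.eq_of_le_of_card_ge hH.le (by rw [he, h24]))
      obtain ⟨c, hc⟩ := hd
      have hpos : 0 < Nat.card ↥H := Nat.card_pos
      have hc2 : 2 ≤ c := by omega
      have := Nat.mul_le_mul (show 48 ≤ Nat.card ↥H by omega) (show 7 ≤ H.index by omega)
      omega
  -- conjugacy of subgroups of order 24
  have hconjN : ∀ (U W : Subgroup G) (g : G), W = U.map (MulAut.conj g).toMonoidHom →
      Subgroup.normalizer (W : Set G) =
        (Subgroup.normalizer (U : Set G)).map (MulAut.conj g).toMonoidHom := by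
    intro U W g hW
    subst hW
    exact (Subgroup.map_equiv_normalizer_eq U (MulAut.conj g)).symm
  have h24conj : ∀ M : Subgroup G, Nat.card ↥M = 24 →
      ∃ g : G, M = N₁.map (MulAut.conj g).toMonoidHom ∨ M = N₂.map (MulAut.conj g).toMonoidHom := by
    intro M hM
    obtain ⟨U, hU, rfl⟩ := exists_klein_of_card h hM
    obtain ⟨S, hUS⟩ := exists_sylow_klein h hU
    obtain ⟨g, hg⟩ := MulAction.exists_smul_eq G T S
    set U' := U.map (MulAut.conj g⁻¹).toMonoidHom
    have hU'T : U' ≤ (T : Subgroup G) := by
      rintro _ ⟨u, hu, rfl⟩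
      have hu' := hUS hu
      rw [← hg, Sylow.coe_subgroup_smul, Subgroup.pointwise_smul_def] at hu'
      obtain ⟨t, ht, htu⟩ := hu'
      change g * t * g⁻¹ = u at htu
      change g⁻¹ * u * g⁻¹⁻¹ ∈ _
      rw [← htu]
      have : g⁻¹ * (g * t * g⁻¹) * g⁻¹⁻¹ = t := by group
      rw [this]; exact ht
    have hU'k : IsKleinFour ↥U' :=
      isKleinFour_of_mulEquiv (U.equivMapOfInjective _ (MulAut.conj g⁻¹).injective)
    have hback : U = U'.map (MulAut.conj g).toMonoidHom := by
      rw [Subgroup.map_map]
      conv_lhs => rw [← Subgroup.map_id U]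
      congr 1
      ext u
      change u = g * (g⁻¹ * u * g⁻¹⁻¹) * g⁻¹
      group
    refine ⟨g, ?_⟩
    rcases hboth ⟨U', hU'T, hU'k⟩ with he | he
    · refine Or.inl (hconjN U₁ U g ?_)
      rw [← show U' = U₁ from congrArg Subtype.val he]
      exact hback
    · refine Or.inr (hconjN U₂ U g ?_)
      rw [← show U' = U₂ from congrArg Subtype.val he]
      exact hback
  have hS4 : ∀ M : Subgroup G, Nonempty (↥M ≃* Equiv.Perm (Fin 4)) → Nat.card ↥M = 24 := by
    rintro M ⟨e⟩
    rw [Nat.card_congr e.toEquiv, Nat.card_perm, Nat.card_fin]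
    rfl
  -- a subgroup containing an element of order 7 normalises it
  have h21 : ∀ M : Subgroup G, M ≠ ⊤ → 7 ∣ Nat.card ↥M →
      ∃ P : Sylow 7 G, M ≤ Subgroup.normalizer ((P : Subgroup G) : Set G) := by
    intro M hM h7
    obtain ⟨y, hy⟩ := exists_prime_orderOf_dvd_card' (G := ↥M) 7 h7
    obtain ⟨P, hP⟩ := exists_mem_sylow ((Subgroup.orderOf_coe y).trans hy)
    have hy1 : (y : G) ≠ 1 := by
      intro h1
      rw [← Subgroup.orderOf_coe, h1, orderOf_one] at hy
      norm_num at hy
    have hPM : (P : Subgroup G) ≤ M := by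
      rw [← zpowers_eq_of_card_prime (card_sylow_seven h P) hP hy1]
      exact Subgroup.zpowers_le.mpr y.2
    refine ⟨P, ?_⟩
    have hmul := M.card_mul_index
    rw [h] at hmul
    have hlt := lt_index h hM
    obtain ⟨a, ha⟩ := h7
    have hapos : 0 < a := by
      rcases Nat.eq_zero_or_pos a with h0 | h0
      · rw [h0] at ha; exact absurd ha Nat.card_pos.ne'
      · exact h0
    have ha3 : a ≤ 3 := by
      rw [ha] at hmul
      by_contra hcon
      have := Nat.mul_le_mul (show 28 ≤ 7 * a by omega) (show 7 ≤ M.index by omega)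
      omega
    have hn : Nat.card (Sylow 7 ↥M) = 1 := by
      have hm := card_sylow_mem (G := ↥M) (p := 7) (a := 1) (m := a) (by rw [ha]; ring)
        (fun hd => absurd (Nat.le_of_dvd hapos hd) (by omega))
      have := Nat.le_of_dvd hapos hm.1
      omega
    have := normal_of_card_sylow_eq_one hn (P.subtype hPM)
    rw [Sylow.coe_subtype] at this
    exact (Subgroup.normal_subgroupOf_iff_le_normalizer hPM).mp this
  -- otherwise everything lies in a subgroup of order 24
  have hsmall : ∀ M : Subgroup G, M ≠ ⊤ → ¬ 7 ∣ Nat.card ↥M →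
      ∃ U : Subgroup G, IsKleinFour ↥U ∧ M ≤ Subgroup.normalizer (U : Set G) := by
    intro M hMt h7
    have hd : Nat.card ↥M ∣ 168 := h ▸ Subgroup.card_subgroup_dvd_card M
    have hd24 : Nat.card ↥M ∣ 24 :=
      (((Fact.out : Nat.Prime 7).coprime_iff_not_dvd.mpr h7).symm).dvd_of_dvd_mul_left
        (show _ ∣ 7 * 24 from hd)
    by_cases h3 : 3 ∣ Nat.card ↥M
    · -- M contains a Sylow 3-subgroup
      obtain ⟨y, hy⟩ := exists_prime_orderOf_dvd_card' (G := ↥M) 3 h3
      obtain ⟨Q, hQ⟩ := exists_mem_sylow ((Subgroup.orderOf_coe y).trans hy)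
      have hy1 : (y : G) ≠ 1 := by
        intro h1
        rw [← Subgroup.orderOf_coe, h1, orderOf_one] at hy
        norm_num at hy
      have hQM : (Q : Subgroup G) ≤ M := by
        rw [← zpowers_eq_of_card_prime (card_sylow_three h Q) hQ hy1]
        exact Subgroup.zpowers_le.mpr y.2
      obtain ⟨b, hb⟩ : 3 ∣ Nat.card ↥M := h3
      have hb8 : b ∣ 8 := by
        rw [hb] at hd24
        exact Nat.dvd_of_mul_dvd_mul_left (show 0 < 3 by norm_num) (show 3 * b ∣ 3 * 8 from hd24)
      have hn := card_sylow_mem (G := ↥M) (p := 3) (a := 1) (m := b) (by rw [hb]; ring)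
        (fun hdd => by have := hdd.trans hb8; norm_num at this)
      by_cases hn4 : Nat.card (Sylow 3 ↥M) = 1
      · -- M normalises Q, and N(Q) lies in a group of order 24
        have hnormal := normal_of_card_sylow_eq_one hn4 (Q.subtype hQM)
        rw [Sylow.coe_subtype] at hnormal
        have hMN : M ≤ Subgroup.normalizer ((Q : Subgroup G) : Set G) :=
          (Subgroup.normal_subgroupOf_iff_le_normalizer hQM).mp hnormal
        have hNQ : Nat.card ↥(Subgroup.normalizer ((Q : Subgroup G) : Set G)) = 6 :=
          normalizer_conj_eq_card Q (n_three h) (by rw [h])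
        -- a Sylow 3-subgroup inside N₁
        obtain ⟨w, hw⟩ := exists_prime_orderOf_dvd_card' (G := ↥N₁) 3
          (by rw [card_normalizer_klein h hU₁]; norm_num)
        obtain ⟨R, hR⟩ := exists_mem_sylow ((Subgroup.orderOf_coe w).trans hw)
        have hw1 : (w : G) ≠ 1 := by
          intro h1
          rw [← Subgroup.orderOf_coe, h1, orderOf_one] at hw
          norm_num at hw
        have hRN : (R : Subgroup G) ≤ N₁ := by
          rw [← zpowers_eq_of_card_prime (card_sylow_three h R) hR hw1]
          exact Subgroup.zpowers_le.mpr w.2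
        obtain ⟨g, hg⟩ := MulAction.exists_smul_eq G R Q
        refine ⟨U₁.map (MulAut.conj g).toMonoidHom,
          isKleinFour_of_mulEquiv (U₁.equivMapOfInjective _ (MulAut.conj g).injective), ?_⟩
        rw [hconjN U₁ _ g rfl]
        refine hMN.trans ?_
        rw [← hg, Sylow.coe_subgroup_smul, Subgroup.pointwise_smul_def]
        change Subgroup.normalizer (((R : Subgroup G).map (MulAut.conj g).toMonoidHom : Subgroup G) : Set G) ≤ _
        rw [← Subgroup.map_equiv_normalizer_eq (R : Subgroup G) (MulAut.conj g)]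
        refine Subgroup.map_mono ?_
        -- N(R) has order 6, and so does its part inside N₁
        set NR := Subgroup.normalizer ((R : Subgroup G) : Set G)
        have hNR : Nat.card ↥NR = 6 := normalizer_conj_eq_card R (n_three h) (by rw [h])
        have hS : ∀ S : Sylow 3 ↥N₁, Nat.card ↥(S : Subgroup ↥N₁) = 3 := fun S => by
          simpa using card_sylow_eq (p := 3) (a := 1) (m := 8)
            (by rw [card_normalizer_klein h hU₁]; norm_num) (by norm_num) S
        have hn' : Nat.card (Sylow 3 ↥N₁) = 4 := by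
          have hm := card_sylow_mem_list (G := ↥N₁) (p := 3) (a := 1) (m := 8)
            (by rw [card_normalizer_klein h hU₁]; norm_num) (by norm_num)
          rw [show (Nat.divisors 8).filter (fun d => d % 3 = 1) = {1, 4} by decide] at hm
          simp only [Finset.mem_insert, Finset.mem_singleton] at hm
          refine hm.resolve_left fun h1 => ?_
          have hnr := normal_of_card_sylow_eq_one h1 (R.subtype hRN)
          rw [Sylow.coe_subtype] at hnr
          have := Subgroup.card_dvd_of_le
            ((Subgroup.normal_subgroupOf_iff_le_normalizer hRN).mp hnr)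
          rw [card_normalizer_klein h hU₁, hNR] at this
          norm_num at this
        have hidx : Nat.card ↥(NR.subgroupOf N₁) = 6 := by
          have h1 := card_normalizer_mul (R.subtype hRN)
          rw [hn', card_normalizer_klein h hU₁, Sylow.coe_subtype,
            ← Subgroup.subgroupOf_normalizer_eq hRN] at h1
          change Nat.card ↥(NR.subgroupOf N₁) * 4 = 24 at h1
          omega
        have hinf : NR ⊓ N₁ = NR := Subgroup.eq_of_le_of_card_ge inf_le_left (by
          rw [hNR, ← Nat.card_congr (Subgroup.subgroupOfEquivOfLe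
            (inf_le_right : NR ⊓ N₁ ≤ N₁)).toEquiv, Subgroup.inf_subgroupOf_right, hidx])
        exact inf_eq_left.mp hinf
      · -- four Sylow 3-subgroups: order 12 or 24, a normal four-group
        have hb4 : 4 ∣ b := by
          have h4 : Nat.card (Sylow 3 ↥M) = 4 := by
            have hle := Nat.le_of_dvd (Nat.pos_of_dvd_of_pos hb8 (by norm_num)) hn.1
            have := Nat.le_of_dvd (by norm_num) hb8
            have := (hn.1.trans hb8)
            have hle8 := Nat.le_of_dvd (by norm_num) this
            interval_cases hh : Nat.card (Sylow 3 ↥M) <;> omega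
          exact h4 ▸ hn.1
        have hb' : b = 4 ∨ b = 8 := by
          have := Nat.le_of_dvd (by norm_num) hb8
          obtain ⟨c, rfl⟩ := hb4
          have : c ≤ 2 := by omega
          interval_cases c <;> omega
        rcases hb' with rfl | rfl
        · -- order 12: the Sylow 2-subgroup is a normal four-group
          have hS2 : ∀ S : Sylow 2 ↥M, Nat.card ↥(S : Subgroup ↥M) = 4 := fun S =>
            card_sylow_eq (p := 2) (a := 2) (m := 3) (by rw [hb]; norm_num) (by norm_num) S
          have hS3 : ∀ S : Sylow 3 ↥M, Nat.card ↥(S : Subgroup ↥M) = 3 := fun S => by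
            simpa using card_sylow_eq (p := 3) (a := 1) (m := 4) (by rw [hb]; norm_num)
              (by norm_num) S
          have hn12 : Nat.card (Sylow 3 ↥M) = 4 := by
            have := hn.1
            have hle := Nat.le_of_dvd (by norm_num) this
            interval_cases hh : Nat.card (Sylow 3 ↥M) <;> omega
          have := Fintype.ofFinite ↥M
          have hcnt := card_orderOf_eq hS3
          rw [hn12, Nat.card_eq_fintype_card, Fintype.card_subtype] at hcnt
          have hcompl : ((Finset.univ.filter fun g : ↥M => orderOf g = 3)ᶜ).card = 4 := by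
            rw [Finset.card_compl, hcnt, ← Nat.card_eq_fintype_card, hb]
          obtain ⟨S⟩ := (inferInstance : Nonempty (Sylow 2 ↥M))
          have heq : ∀ S : Sylow 2 ↥M, ((S : Subgroup ↥M) : Set ↥M).toFinset =
              (Finset.univ.filter fun g : ↥M => orderOf g = 3)ᶜ := by
            intro S
            refine Finset.eq_of_subset_of_card_le (fun g hg => ?_) ?_
            · simp only [Set.mem_toFinset, SetLike.mem_coe] at hg
              simp only [Finset.mem_compl, Finset.mem_filter, Finset.mem_univ, true_and]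
              intro h3'
              have h1 := Subgroup.orderOf_dvd_natCard (S : Subgroup ↥M) hg
              rw [h3', hS2 S] at h1
              norm_num at h1
            · rw [hcompl, Set.toFinset_card, ← Nat.card_eq_fintype_card]
              exact (hS2 S).ge
          have hsub : Subsingleton (Sylow 2 ↥M) := ⟨fun A B => Sylow.ext
            (SetLike.coe_injective (Set.toFinset_inj.mp ((heq A).trans (heq B).symm)))⟩
          have hSn : (S : Subgroup ↥M).Normal := Sylow.normal_of_subsingleton S
          have hSk : IsKleinFour ↥(S : Subgroup ↥M) := by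
            refine ⟨hS2 S, (not_isCyclic_iff_exponent_eq_prime Nat.prime_two
              (by rw [hS2 S]; norm_num)).mp fun hcyc => ?_⟩
            -- a cyclic normal subgroup of order 4 would be centralised by an element of order 3
            obtain ⟨v, hv⟩ := IsCyclic.exists_generator (α := ↥(S : Subgroup ↥M))
            have hv4 : orderOf v = 4 := by rw [orderOf_eq_card_of_forall_mem_zpowers hv, hS2 S]
            have hv' : orderOf ((v : ↥M) : G) = 4 := by
              rw [Subgroup.orderOf_coe, Subgroup.orderOf_coe, hv4]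
            obtain ⟨R⟩ := (inferInstance : Nonempty (Sylow 3 ↥M))
            have hk := Subgroup.card_dvd_of_injective _
              (QuotientGroup.kerLift_injective (S : Subgroup ↥M).normalizerMonoidHom)
            rw [Subgroup.normalizerMonoidHom_ker, ← Subgroup.index, ← Subgroup.relIndex,
              hcyc.card_mulAut, hS2 S, Subgroup.normalizer_eq_top,
              Subgroup.relIndex_top_right] at hk
            have hC := (Subgroup.centralizer ((S : Subgroup ↥M) : Set ↥M)).card_mul_index
            have h3C : 3 ∣ Nat.card ↥(Subgroup.centralizer ((S : Subgroup ↥M) : Set ↥M)) := by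
              have hk2 : (Subgroup.centralizer ((S : Subgroup ↥M) : Set ↥M)).index ∣ 2 :=
                hk.trans (by decide)
              rcases (Nat.dvd_prime Nat.prime_two).mp hk2 with hi | hi <;>
                rw [hi, hb] at hC <;> omega
            obtain ⟨c, hc⟩ := exists_prime_orderOf_dvd_card' 3 h3C
            have hc' : orderOf ((c : ↥M) : G) = 3 := by
              rw [Subgroup.orderOf_coe, Subgroup.orderOf_coe, hc]
            have hcomm : Commute ((v : ↥M) : G) ((c : ↥M) : G) :=
              congrArg Subtype.val (Subgroup.mem_centralizer_iff.mp c.2 v v.2)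
            have hdv := hcomm.orderOf_mul_eq_mul_orderOf_of_coprime (by rw [hv', hc']; norm_num)
            rw [hv', hc'] at hdv
            rcases orders h (((v : ↥M) : G) * ((c : ↥M) : G)) with ho | ho | ho | ho | ho <;> omega
          refine ⟨(S : Subgroup ↥M).map M.subtype,
            isKleinFour_of_mulEquiv ((S : Subgroup ↥M).equivMapOfInjective _ M.subtype_injective),
            ?_⟩
          intro m hm
          rw [Subgroup.mem_normalizer_iff]
          intro u
          constructor
          · rintro ⟨v, hv, rfl⟩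
            exact ⟨⟨m, hm⟩ * v * ⟨m, hm⟩⁻¹, hSn.conj_mem _ hv _, rfl⟩
          · rintro ⟨v, hv, hvu⟩
            have hmem := hSn.conj_mem _ hv (⟨m, hm⟩ : ↥M)⁻¹
            rw [inv_inv] at hmem
            refine ⟨⟨m, hm⟩⁻¹ * v * ⟨m, hm⟩, hmem, ?_⟩
            have hvu' : (v : G) = m * u * m⁻¹ := hvu
            simp [hvu', mul_assoc]
        · obtain ⟨U, hU, rfl⟩ := exists_klein_of_card h (show Nat.card ↥M = 24 by omega)
          exact ⟨U, hU, le_rfl⟩
    · -- a 2-group
      have h8 : Nat.card ↥M ∣ 8 :=
        (((Fact.out : Nat.Prime 3).coprime_iff_not_dvd.mpr h3).symm).dvd_of_dvd_mul_left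
          (show _ ∣ 3 * 8 from hd24)
      obtain ⟨j, -, hj⟩ := (Nat.dvd_prime_pow Nat.prime_two).mp (show _ ∣ 2 ^ 3 from h8)
      obtain ⟨S, hMS⟩ := (IsPGroup.of_card (p := 2) (n := j) hj : IsPGroup 2 ↥M).exists_le_sylow
      obtain ⟨g, hg⟩ := MulAction.exists_smul_eq G T S
      refine ⟨U₁.map (MulAut.conj g).toMonoidHom,
        isKleinFour_of_mulEquiv (U₁.equivMapOfInjective _ (MulAut.conj g).injective), ?_⟩
      rw [hconjN U₁ _ g rfl]
      refine hMS.trans ?_
      rw [← hg, Sylow.coe_subgroup_smul, Subgroup.pointwise_smul_def]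
      exact Subgroup.map_mono (le_normalizer_klein h hU₁ hU₁T)
  have hmax : ∀ M : Subgroup G, IsCoatom M → Nat.card ↥M = 24 ∨
      ∃ P : Sylow 7 G, M = Subgroup.normalizer ((P : Subgroup G) : Set G) := by
    intro M hM
    by_cases h7 : 7 ∣ Nat.card ↥M
    · obtain ⟨P, hP⟩ := h21 M hM.1 h7
      rcases lt_or_eq_of_le hP with hlt | heq
      · exfalso
        have htop := hM.2 _ hlt
        have := card_normalizer_seven h P
        rw [htop, Subgroup.card_top, h] at this
        omega
      · exact Or.inr ⟨P, heq⟩
    · obtain ⟨U, hU, hle⟩ := hsmall M hM.1 h7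
      rcases lt_or_eq_of_le hle with hlt | heq
      · exact absurd (hM.2 _ hlt) (hcoat U hU).1
      · exact Or.inl (heq ▸ card_normalizer_klein h hU)
  refine ⟨fun M hM => ?_, ?_, N₁, N₂, hcoat U₁ hU₁, hcoat U₂ hU₂,
    nonempty_normalizer_klein h hU₁, nonempty_normalizer_klein h hU₂, fun g hg => ?_,
    fun M _ hM => h24conj M (hS4 M hM)⟩
  · rcases hmax M hM with h24 | ⟨P, rfl⟩
    · obtain ⟨U, hU, rfl⟩ := exists_klein_of_card h h24
      exact Or.inl (nonempty_normalizer_klein h hU)
    · refine Or.inr ⟨card_normalizer_seven h P, fun hc => ?_⟩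
      refine not_normalizer_le_centralizer (not_comm h) (by rw [h]; norm_num) P ?_
      intro u hu
      rw [Subgroup.mem_centralizer_iff]
      intro v hv
      exact congrArg Subtype.val
        (isMulCommutative_iff.mp hc ⟨v, Subgroup.le_normalizer hv⟩ ⟨u, hu⟩)
  · intro M M' hM hM' h21M h21M'
    rcases hmax M hM with h24 | ⟨P, rfl⟩
    · omega
    rcases hmax M' hM' with h24 | ⟨P', rfl⟩
    · omega
    obtain ⟨g, rfl⟩ := MulAction.exists_smul_eq G P P'
    refine ⟨g, ?_⟩
    rw [Sylow.coe_subgroup_smul, Subgroup.pointwise_smul_def]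
    exact (Subgroup.map_equiv_normalizer_eq (P : Subgroup G) (MulAut.conj g)).symm
  · -- conjugate normalisers would give conjugate four-groups
    apply klein_not_conj h hU₁T hU₂T hU₁ hU₂ hne g
    set W := U₁.map (MulAut.conj g).toMonoidHom
    have hWk : IsKleinFour ↥W :=
      isKleinFour_of_mulEquiv (U₁.equivMapOfInjective _ (MulAut.conj g).injective)
    have hWN : Subgroup.normalizer (W : Set G) = N₂ := (hconjN U₁ W g rfl).trans hg.symm
    -- both are the normal four-group of N₂
    obtain ⟨e⟩ := nonempty_normalizer_klein h hU₂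
    have hd4 : ∀ S : Finset (Equiv.Perm (Fin 4)), S.card = 4 → (1 : Equiv.Perm (Fin 4)) ∈ S →
        (∀ x ∈ S, x * x = 1) → (∀ x : Equiv.Perm (Fin 4), ∀ y ∈ S, x * y * x⁻¹ ∈ S) →
        S = Finset.univ.filter (fun x : Equiv.Perm (Fin 4) => x * x = 1 ∧ Equiv.Perm.sign x = 1) := by
      intro S hS h1 hsq hcj
      refine Finset.eq_of_subset_of_card_le (fun x hx => ?_) ?_
      · simp only [Finset.mem_filter, Finset.mem_univ, true_and]
        refine ⟨hsq x hx, ?_⟩
        by_contra hsgn
        -- an odd involution has six conjugates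
        have hsix : 6 ≤ (Finset.univ.image fun y : Equiv.Perm (Fin 4) => y * x * y⁻¹).card := by
          have key : ∀ x : Equiv.Perm (Fin 4), x * x = 1 → Equiv.Perm.sign x ≠ 1 →
              6 ≤ (Finset.univ.image fun y : Equiv.Perm (Fin 4) => y * x * y⁻¹).card := by
            decide +kernel
          exact key x (hsq x hx) hsgn
        have hsub : (Finset.univ.image fun y : Equiv.Perm (Fin 4) => y * x * y⁻¹) ⊆ S := by
          intro z hz
          simp only [Finset.mem_image, Finset.mem_univ, true_and] at hz
          obtain ⟨y, rfl⟩ := hz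
          exact hcj y x hx
        have := Finset.card_le_card hsub
        omega
      · rw [hS]
        decide +kernel
    have key : ∀ (V : Subgroup G), IsKleinFour ↥V → (hVN : V ≤ N₂) →
        N₂ ≤ Subgroup.normalizer (V : Set G) →
        (((V.subgroupOf N₂).map e.toMonoidHom : Subgroup (Equiv.Perm (Fin 4))) :
          Set (Equiv.Perm (Fin 4))).toFinset =
          Finset.univ.filter (fun x : Equiv.Perm (Fin 4) => x * x = 1 ∧ Equiv.Perm.sign x = 1) := by
      intro V hV hVN hN
      have hk : IsKleinFour ↥((V.subgroupOf N₂).map e.toMonoidHom) :=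
        isKleinFour_of_mulEquiv ((Subgroup.subgroupOfEquivOfLe hVN).symm.trans
          ((V.subgroupOf N₂).equivMapOfInjective _ e.injective))
      have hn : ((V.subgroupOf N₂).map e.toMonoidHom).Normal :=
        ((Subgroup.normal_subgroupOf_iff_le_normalizer hVN).mpr hN).map _ e.surjective
      refine hd4 _ ?_ ?_ ?_ ?_
      · rw [Set.toFinset_card, ← Nat.card_eq_fintype_card]
        exact IsKleinFour.card_four
      · simp only [Set.mem_toFinset, SetLike.mem_coe]
        exact one_mem _
      · intro x hx
        simp only [Set.mem_toFinset, SetLike.mem_coe] at hx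
        exact congrArg Subtype.val (IsKleinFour.mul_self (⟨x, hx⟩ : ↥((V.subgroupOf N₂).map _)))
      · intro x y hy
        simp only [Set.mem_toFinset, SetLike.mem_coe] at hy ⊢
        exact hn.conj_mem y hy x
    have hWle : W ≤ N₂ := hWN ▸ Subgroup.le_normalizer
    have heq := (key W hWk hWle hWN.ge).trans (key U₂ hU₂ Subgroup.le_normalizer le_rfl).symm
    have heq2 := Subgroup.map_injective e.injective
      (SetLike.coe_injective (Set.toFinset_inj.mp heq))
    rw [Subgroup.subgroupOf_inj, inf_eq_left.mpr hWle,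
      inf_eq_left.mpr (Subgroup.le_normalizer : U₂ ≤ N₂)] at heq2
    exact heq2

end Cfsg.Agent.S1008
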