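import Cfsg.Statements.S1014
import Cfsg.Agent.Lib.SmallGroups.Action
import Cfsg.Agent.Lib.SmallGroups.Counting

set_option autoImplicit false
open Cfsg

namespace Cfsg.Agent.S1014

/-- No finite simple group has order 1104 = 2^4 * 3 * 23. -/
theorem result {G : Type*} [Group G] [Finite G] [IsSimpleGroup G] : Nat.card G ≠ 1104 := by
  intro hG
  have : Fact (Nat.Prime 23) := ⟨by norm_num⟩
  have : Fact (Nat.Prime 2) := ⟨Nat.prime_two⟩
  have hne : ¬ IsMulCommutative G :=
    Cfsg.Agent.SmallGroups.not_comm_of_not_prime (by rw [hG]; norm_num)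
  have hm := Cfsg.Agent.SmallGroups.card_sylow_mem_list (G := G) (p := 23) (a := 1) (m := 48)
    (by rw [hG]; norm_num) (by norm_num)
  rw [show (Nat.divisors 48).filter (fun d => d % 23 = 1) = {1, 24} by decide] at hm
  simp only [Finset.mem_insert, Finset.mem_singleton] at hm
  obtain ⟨P⟩ := (inferInstance : Nonempty (Sylow 23 G))
  have h24 : Nat.card (Sylow 23 G) = 24 := hm.resolve_left
    (Cfsg.Agent.SmallGroups.card_sylow_ne_one hne (by rw [hG]; norm_num))
  have hP : Nat.card ↥(P : Subgroup G) = 23 := by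
    simpa using Cfsg.Agent.SmallGroups.card_sylow_eq (p := 23) (a := 1) (m := 48)
      (by rw [hG]; norm_num) (by norm_num) P
  have hN := Cfsg.Agent.SmallGroups.normalizer_conj_eq_card P h24 (k := 46) (by rw [hG])
  set N := Subgroup.normalizer ((P : Subgroup G) : Set G)
  set C := Subgroup.centralizer ((P : Subgroup G) : Set G)
  obtain ⟨x, hx⟩ := exists_prime_orderOf_dvd_card' (G := ↥N) 2 (by rw [hN]; norm_num)
  have hx2 : (x : G) ^ 2 = 1 := by
    rw [← SubmonoidClass.coe_pow, ← hx, pow_orderOf_eq_one]; rfl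
  have hxC : (x : G) ∉ C := by
    intro hxC
    have hk1 : C.relIndex N ≠ 1 := fun h =>
      Cfsg.Agent.SmallGroups.not_normalizer_le_centralizer hne (by rw [hG]; norm_num) P
        (Subgroup.relIndex_eq_one.mp h)
    have hk : C.relIndex N ∣ 22 :=
      Cfsg.Agent.SmallGroups.relIndex_centralizer_dvd_of_prime _ hP
    have hk' : C.relIndex N ∣ 46 := hN ▸ Cfsg.Agent.SmallGroups.relIndex_dvd_normalizer P
    have hk2 : C.relIndex N = 2 :=
      ((Nat.dvd_prime Nat.prime_two).mp (Nat.dvd_gcd hk hk')).resolve_left hk1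
    have hcard := (C.subgroupOf N).card_mul_index
    have hCN : Nat.card ↥(C.subgroupOf N) = 23 := by
      have h' : (C.subgroupOf N).index = 2 := hk2
      rw [h', hN] at hcard; omega
    have h2 : orderOf x ∣ 23 := hCN ▸ Subgroup.orderOf_dvd_natCard (C.subgroupOf N) hxC
    rw [hx] at h2
    norm_num at h2
  obtain ⟨f, hf1, hf2, hf3⟩ :=
    Cfsg.Agent.SmallGroups.exists_fixed_count P hne hP x.2 hxC hx2
  rw [h24] at hf2 hf3
  omega

end Cfsg.Agent.S1014
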