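import Cfsg.Statements.S1015
import Cfsg.Agent.Lib.SmallGroups.Basic

set_option autoImplicit false
open Cfsg

namespace Cfsg.Agent.S1015

/-- No finite simple group has order 1200 = 2^4 * 3 * 5^2. -/
theorem result {G : Type*} [Group G] [Finite G] [IsSimpleGroup G] : Nat.card G ≠ 1200 := by
  intro hG
  have : Fact (Nat.Prime 5) := ⟨by norm_num⟩
  have hne : ¬ IsMulCommutative G :=
    Cfsg.Agent.SmallGroups.not_comm_of_not_prime (by rw [hG]; norm_num)
  have hG5 : Nat.card G = 5 ^ 2 * 48 := by rw [hG]; norm_num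
  have hm := Cfsg.Agent.SmallGroups.card_sylow_mem_list hG5 (by norm_num)
  rw [show (Nat.divisors 48).filter (fun d => d % 5 = 1) = {1, 6, 16} by decide] at hm
  simp only [Finset.mem_insert, Finset.mem_singleton] at hm
  have h5 : 5 ∣ Nat.card G := by rw [hG]; norm_num
  have h16 : Nat.card (Sylow 5 G) = 16 := by
    rcases hm with h | h | h
    · exact absurd h (Cfsg.Agent.SmallGroups.card_sylow_ne_one hne h5)
    · have := Cfsg.Agent.SmallGroups.two_mul_card_dvd_sylow hne h5
      rw [h, hG] at this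
      exact absurd this (by decide)
    · exact h
  obtain ⟨P, R, hPR, hidx⟩ := Cfsg.Agent.SmallGroups.exists_small_index_inter (G := G) (p := 5) 2
    (by rw [h16]; decide)
  have hS : ∀ S : Sylow 5 G, Nat.card ↥(S : Subgroup G) = 25 := fun S =>
    Cfsg.Agent.SmallGroups.card_sylow_eq hG5 (by norm_num) S
  set D := (R : Subgroup G) ⊓ (P : Subgroup G)
  have hD : D ≠ ⊥ := by
    intro h
    have h1 : (R : Subgroup G).subgroupOf (P : Subgroup G) = ⊥ := by
      rw [Subgroup.subgroupOf_eq_bot, disjoint_iff]; exact h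
    rw [h1, Subgroup.index_bot, hS P] at hidx
    norm_num at hidx
  set C := Subgroup.centralizer (D : Set G)
  have hle : ∀ S : Sylow 5 G, D ≤ (S : Subgroup G) → (S : Subgroup G) ≤ C := fun S hDS =>
    Subgroup.le_centralizer_iff.mp (hDS.trans
      (Subgroup.le_centralizer_iff_isMulCommutative.mpr
        (IsPGroup.isMulCommutative_of_card_eq_prime_sq (p := 5) (hS S))))
  have hP : (P : Subgroup G) ≤ C := hle P inf_le_right
  have hR : (R : Subgroup G) ≤ C := hle R inf_le_left
  have hCtop : C ≠ ⊤ := by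
    intro h
    refine hD (le_bot_iff.mp ?_)
    rw [← Cfsg.Agent.SmallGroups.center_eq_bot_of_not_comm hne]
    intro d hd
    rw [Subgroup.mem_center_iff]
    intro g
    exact (Subgroup.mem_centralizer_iff.mp (h ▸ Subgroup.mem_top g : g ∈ C) d hd).symm
  have hlt := Cfsg.Agent.SmallGroups.lt_index_of_not_dvd hne (k := 8)
    (by rw [hG]; decide) hCtop
  have hcard := C.card_mul_index
  rw [hG] at hcard
  have hn6 : 6 ≤ Nat.card (Sylow 5 ↥C) := by
    have hm := card_sylow_modEq_one 5 ↥C
    by_contra h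
    have h1 : Nat.card (Sylow 5 ↥C) = 1 := by
      have hpos : 0 < Nat.card (Sylow 5 ↥C) := Nat.card_pos
      unfold Nat.ModEq at hm
      omega
    have := (Nat.card_eq_one_iff_unique.mp h1).1
    exact hPR (Sylow.subtype_injective (hP := hP) (hQ := hR) (Subsingleton.elim _ _))
  have hdvd := (P.subtype hP).card_dvd_index
  rw [Sylow.coe_subtype] at hdvd
  change Nat.card (Sylow 5 ↥C) ∣ (P : Subgroup G).relIndex C at hdvd
  have hmul := Subgroup.relIndex_mul_index hP
  rw [Cfsg.Agent.SmallGroups.index_sylow_eq hG5 (by norm_num) P] at hmul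
  have hpos : 0 < (P : Subgroup G).relIndex C := Nat.pos_of_ne_zero fun h => by
    rw [h, zero_mul] at hmul; norm_num at hmul
  have h6 : 6 ≤ (P : Subgroup G).relIndex C := hn6.trans (Nat.le_of_dvd hpos hdvd)
  nlinarith

end Cfsg.Agent.S1015
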