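import Cfsg.Statements.S1016
import Cfsg.Agent.Lib.SmallGroups.ThreePrimes

set_option autoImplicit false
open Cfsg

namespace Cfsg.Agent.S1016

/-- No finite simple group has order 1440 = 2^5 * 3^2 * 5. -/
theorem result {G : Type*} [Group G] [Finite G] [IsSimpleGroup G] : Nat.card G ≠ 1440 := by
  intro hG
  have : Fact (Nat.Prime 5) := ⟨by norm_num⟩
  have hne : ¬ IsMulCommutative G :=
    Cfsg.Agent.SmallGroups.not_comm_of_not_prime (by rw [hG]; norm_num)
  obtain ⟨S⟩ := (inferInstance : Nonempty (Sylow 5 G))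
  obtain ⟨-, -, e, he2, hed, -, hen⟩ := Cfsg.Agent.SmallGroups.exists_index_three_primes hne
    (a := 5) (b := 2) Nat.prime_two Nat.prime_three (by norm_num) (by norm_num) (by norm_num)
    (by rw [hG]; norm_num) S
  have hmod := card_sylow_modEq_one 5 G
  unfold Nat.ModEq at hmod
  have hele := Nat.le_of_dvd (by norm_num) hed
  norm_num at hen hed hele
  interval_cases e <;> omega

end Cfsg.Agent.S1016
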