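import Cfsg.Statements.S1018
import Cfsg.Agent.Lib.SmallGroups.Action
import Mathlib.GroupTheory.GroupAction.FixedPoints

set_option autoImplicit false
open Cfsg

namespace Cfsg.Agent.S1018

open scoped Pointwise


/-- Let P be a Sylow p-subgroup of order p of a finite group G, and consider the action of G on the left cosets of the normalizer N of P. Then every element of order p fixes exactly one coset, and an element of N that does not centralize P fixes at most as many cosets as there are orbits of P. -/
theorem result {G : Type*} [Group G] [Finite G] (p : ℕ) [Fact p.Prime] (P : Sylow p G) (hP : Nat.card ↥(P : Subgroup G) = p) : (∀ y : G, orderOf y = p → Nat.card (MulAction.fixedBy (G ⧸ Subgroup.normalizer ((P : Subgroup G) : Set G)) y) = 1) ∧ ∀ x : G, x ∈ Subgroup.normalizer ((P : Subgroup G) : Set G) → x ∉ Subgroup.centralizer ((P : Subgroup G) : Set G) → Nat.card (MulAction.fixedBy (G ⧸ Subgroup.normalizer ((P : Subgroup G) : Set G)) x) ≤ Nat.card (MulAction.orbitRel.Quotient ↥(P : Subgroup G) (G ⧸ Subgroup.normalizer ((P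 : Subgroup G) : Set G))) := by
  refine ⟨fun y hy => ?_, fun x hx hxc =>
    Nat.card_le_card_of_injective _
      (Cfsg.Agent.SmallGroups.fixedBy_orbit_injective P hP hx hxc)⟩
  obtain ⟨Q, hQ⟩ := (IsPGroup.of_card (n := 1)
    (((Nat.card_zpowers y).trans hy).trans (pow_one p).symm)).exists_le_sylow
  obtain ⟨g, rfl⟩ := MulAction.exists_smul_eq G P Q
  obtain ⟨w, hw, hwy⟩ : ∃ w ∈ (P : Subgroup G), g * w * g⁻¹ = y := by
    have hmem : y ∈ ((g • P : Sylow p G) : Subgroup G) := hQ (Subgroup.mem_zpowers y)
    rw [Sylow.coe_subgroup_smul, Subgroup.pointwise_smul_def] at hmem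
    obtain ⟨w, hw, hwy⟩ := hmem
    exact ⟨w, hw, hwy⟩
  have hw1 : w ≠ 1 := by
    rintro rfl
    simp only [mul_one, mul_inv_cancel] at hwy
    subst hwy
    exact (Fact.out : p.Prime).ne_one (hy.symm.trans orderOf_one)
  subst hwy
  set N := Subgroup.normalizer ((P : Subgroup G) : Set G)
  rw [← MulAction.smul_fixedBy, Nat.card_coe_set_eq,
    Cfsg.Agent.SmallGroups.fixedBy_eq_base P hP hw hw1, Set.smul_set_singleton, Set.ncard_singleton]

end Cfsg.Agent.S1018
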