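import Cfsg.Statements.S1021
import Cfsg.Agent.Lib.SmallGroups.PSLTable19
import Cfsg.Agent.Lib.SmallGroups.PSLPrime

set_option autoImplicit false
open Cfsg

namespace Cfsg.Agent.S1021

theorem cond : ((4 : ℕ) : ZMod 19) ^ 9 = 1 ∧
    ∀ i, i < 9 → 0 < i → ((4 : ℕ) : ZMod 19) ^ i ≠ 1 := by decide


/-- A simple group of order 3420 is isomorphic to the projective special linear group of dimension 2 over the field with 19 elements. -/
theorem result {G : Type*} [Group G] [Finite G] [IsSimpleGroup G] (h : Nat.card G = 3420) {F : Type*} [Field F] [Fintype F] (hF : Fintype.card F = 19) : Nonempty (G ≃* Matrix.ProjectiveSpecialLinearGroup (Fin 2) F) := by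
  have : Fact (Nat.Prime 19) := ⟨by norm_num⟩
  exact Cfsg.Agent.SmallGroups.equiv_psl_of_table 19 4 2 9 (by norm_num) (by norm_num)
    (by rw [h]) ![19, 18, 9, 6, 14, 15, 3, 8, 7, 2, 17, 12, 11, 16, 4, 5, 13, 10, 1, 0] (by decide +kernel) cond
    Cfsg.Agent.SmallGroups.tables19 rfl (by decide) (by decide) (by decide)
    Cfsg.Agent.SmallGroups.check19 hF

end Cfsg.Agent.S1021
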