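import Cfsg.Statements.S1022
import Cfsg.Agent.Lib.SmallGroups.SelfCent.Involution
import Cfsg.Agent.Lib.SmallGroups.SelfCent.Sylow
import Cfsg.Agent.Lib.SmallGroups.Orbits
import Cfsg.Agent.Lib.SmallGroups.Local
import Cfsg.Agent.Lib.BlocksCore.CyclicCount
import Cfsg.Agent.Blocks88.Modular

set_option autoImplicit false
open Cfsg

namespace Cfsg.Agent.S1022

open Cfsg.Agent.SmallGroups in
theorem case1008 {G : Type*} [Group G] [Fintype G] [IsSimpleGroup G] [Fact (Nat.Prime 19)]
    (hne : ¬ IsMulCommutative G) (hG : Nat.card G = 459648)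
    (hn : Nat.card (Sylow 19 G) = 1008) : False := by
  classical
  obtain ⟨P⟩ := (inferInstance : Nonempty (Sylow 19 G))
  have hP : Nat.card ↥(P : Subgroup G) = 19 := by
    simpa using card_sylow_eq (p := 19) (a := 1) (m := 24192)
      (by rw [hG]; norm_num) (by norm_num) P
  have hN := normalizer_conj_eq_card P hn (k := 456) (by rw [hG])
  obtain ⟨M, hM⟩ := Cfsg.Agent.Blocks88.exists_isPModular (p := 19) (by norm_num)
  obtain ⟨z₀, hz₀⟩ := exists_prime_orderOf_dvd_card' (G := ↥(P : Subgroup G)) 19 (by rw [hP])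
  have hz : orderOf (z₀ : G) = 19 := (Subgroup.orderOf_coe z₀).trans hz₀
  have hzP : Subgroup.zpowers (z₀ : G) = (P : Subgroup G) :=
    zpowers_eq_of_card_prime hP z₀.2 (fun h => by rw [h, orderOf_one] at hz; norm_num at hz)
  have hidx : ¬ 19 ∣ (Subgroup.zpowers (z₀ : G)).index := by rw [hzP]; exact P.not_dvd_index
  obtain ⟨s, hs⟩ := Cfsg.Agent.BlocksCore.CyclicCount.exists_setup hz hidx
  have := Fintype.ofFinite s.Orb
  have hNs := s.card_normalizer
  rw [hs, hzP, hN] at hNs
  have hCs := s.card_cent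
  rw [hs, ← Subgroup.centralizer_closure, ← Subgroup.zpowers_eq_closure, hzP] at hCs
  have ht := s.card_orb_mul
  set e := Nat.card s.auto with hedef
  have hek : e * Nat.card s.K = 24 := by
    apply Nat.eq_of_mul_eq_mul_left (show 0 < 19 by norm_num)
    linarith
  have he1 : e ≠ 1 := by
    intro he
    rw [he, one_mul] at hek
    refine not_normalizer_le_centralizer hne (p := 19) (by rw [hG]; norm_num) P ?_
    rw [Subgroup.eq_of_le_of_card_ge (Subgroup.centralizer_le_normalizer _)
      (by rw [hN, hCs, hek])]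
  have hecases : e = 2 ∨ e = 3 ∨ e = 6 := by
    have h18 : e ∈ Nat.divisors 18 := Nat.mem_divisors.mpr ⟨Dvd.intro_left _ ht, by norm_num⟩
    have h24 : e ∈ Nat.divisors 24 := Nat.mem_divisors.mpr ⟨Dvd.intro _ hek, by norm_num⟩
    have : ∀ x ∈ Nat.divisors 18, x ∈ Nat.divisors 24 → x ≠ 1 → x = 2 ∨ x = 3 ∨ x = 6 := by
      decide
    exact this e h18 h24 he1
  have ht3 : 3 ≤ Nat.card s.Orb := by rcases hecases with h | h | h <;> rw [h] at ht <;> omega
  -- an involution in `K`
  have hK2 : 2 ∣ Nat.card s.K := by rcases hecases with h | h | h <;> rw [h] at hek <;> omega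
  have : Fact (Nat.Prime 2) := ⟨Nat.prime_two⟩
  obtain ⟨w₀, hw₀⟩ := exists_prime_orderOf_dvd_card' (G := s.K) 2 hK2
  have hw : orderOf (w₀ : G) = 2 := (Subgroup.orderOf_coe w₀).trans hw₀
  obtain ⟨D, R, hd, hRcard, htR, hfR, hR, hfB, hb, hrest⟩ :=
    s.exists_principal_data hM (hs ▸ hidx) ht3
  rw [← hedef] at hRcard hb
  have hval : ∀ χ ∈ Cfsg.principalBlock M G, χ ≠ SelfCent.Setup.triv →
      38 ≤ SelfCent.Setup.deg χ ∧ ∃ n : ℤ, (χ : G → ℂ) (w₀ : G) = n ∧
        -(SelfCent.Setup.deg χ : ℤ) ≤ n ∧ n < SelfCent.Setup.deg χ ∧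
        (76 : ℤ) ∣ (SelfCent.Setup.deg χ : ℤ) - n := by
    intro χ hχ hχ1
    obtain ⟨n, hn1, hn2, hn3, hn4, hn5⟩ :=
      s.exists_involution_value hne hM (by norm_num) hχ hχ1 w₀.2 hw
    push_cast at hn4
    exact ⟨by omega, n, hn1, hn2, hn3, by omega⟩
  obtain ⟨o⟩ : Nonempty s.Orb := inferInstance
  have hsq := D.sum_sq_le (insert SelfCent.Setup.triv R) (fun o => by
    simp only [Finset.mem_insert, not_or]
    exact ⟨D.triv_ne o, hfR o⟩)
  rw [Finset.sum_insert htR, SelfCent.Setup.deg_triv, one_pow, hG] at hsq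
  have hsingle : ∀ χ ∈ R, SelfCent.Setup.deg χ ^ 2 ≤ 459647 := by
    intro χ hχ
    have := Finset.single_le_sum (f := fun χ => SelfCent.Setup.deg χ ^ 2)
      (fun _ _ => Nat.zero_le _) hχ
    omega
  have htab : ∀ a ∈ Nat.divisors 24192, 38 ≤ a → a ≤ 677 → (a % 19 = 1 ∨ a % 19 = 18) →
      a = 56 ∨ a = 96 ∨ a = 189 := by decide +kernel
  have hm : Nat.card G / 19 = 24192 := by rw [hG]
  have hRdeg : ∀ χ ∈ R, (SelfCent.Setup.deg χ = 56 ∧ D.c χ = 1) ∨
      (SelfCent.Setup.deg χ = 96 ∧ D.c χ = -1) ∨ (SelfCent.Setup.deg χ = 189 ∧ D.c χ = 1) := by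
    intro χ hχ
    obtain ⟨hc, hB, hmod, hdvd⟩ := hR χ hχ
    obtain ⟨h38, -⟩ := hval χ hB (fun h => htR (h ▸ hχ))
    rw [hm] at hdvd
    push_cast at hmod
    have hs' := hsingle χ hχ
    have hle : SelfCent.Setup.deg χ ≤ 677 := by nlinarith
    have hmod' : SelfCent.Setup.deg χ % 19 = 1 ∨ SelfCent.Setup.deg χ % 19 = 18 := by
      rcases hc with h | h <;> rw [h] at hmod <;> omega
    rcases htab _ (Nat.mem_divisors.mpr ⟨hdvd, by norm_num⟩) h38 hle hmod' with h | h | h <;>
      rw [h] at hmod ⊢ <;> rcases hc with h' | h' <;> rw [h'] at hmod ⊢ <;> omega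
  set k1 := (R.filter fun χ => SelfCent.Setup.deg χ = 56).card with hk1
  set k2 := (R.filter fun χ => SelfCent.Setup.deg χ = 96).card with hk2
  set k3 := (R.filter fun χ => SelfCent.Setup.deg χ = 189).card with hk3
  have hsumk : k1 + k2 + k3 + 1 = e := by
    rw [← hRcard, hk1, hk2, hk3, ← Finset.card_union_of_disjoint, ← Finset.card_union_of_disjoint]
    · congr 1
      apply congrArg
      ext χ
      simp only [Finset.mem_union, Finset.mem_filter]
      refine ⟨fun h => by rcases h with (h | h) | h <;> exact h.1, fun h => ?_⟩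
      rcases hRdeg χ h with h' | h' | h' <;> simp [h, h'.1]
    · rw [Finset.disjoint_left]
      intro χ h1 h2
      simp only [Finset.mem_union, Finset.mem_filter] at h1 h2
      omega
    · rw [Finset.disjoint_left]
      intro χ h1 h2
      simp only [Finset.mem_filter] at h1 h2
      omega
  have hlin : ∑ χ ∈ R, (SelfCent.Setup.deg χ : ℤ) * D.c χ = 56 * k1 - 96 * k2 + 189 * k3 := by
    rw [Finset.sum_congr rfl (g := fun χ => (56 : ℤ) * (if SelfCent.Setup.deg χ = 56 then 1 else 0)
      - 96 * (if SelfCent.Setup.deg χ = 96 then 1 else 0)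
      + 189 * (if SelfCent.Setup.deg χ = 189 then 1 else 0)) (fun χ hχ => by
        rcases hRdeg χ hχ with h | h | h <;> simp [h.1, h.2]),
      Finset.sum_add_distrib, Finset.sum_sub_distrib, ← Finset.mul_sum, ← Finset.mul_sum,
      ← Finset.mul_sum, Finset.sum_boole, Finset.sum_boole, Finset.sum_boole]
  have hrel : (-1 : ℤ) + (56 * k1 - 96 * k2 + 189 * k3) + D.eps * D.b = 0 := by
    have h := D.degree_eq
    rw [← Finset.sum_subset (Finset.subset_univ (insert SelfCent.Setup.triv R)) (fun χ _ hχ => by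
      simp only [Finset.mem_insert, not_or] at hχ
      rw [hrest χ hχ.1 hχ.2, mul_zero]), Finset.sum_insert htR, D.c_triv,
      SelfCent.Setup.deg_triv, hlin] at h
    push_cast at h
    linarith
  obtain ⟨hb38, -⟩ := hval (D.f o) (hfB o) (D.triv_ne o)
  rw [D.deg_f] at hb38
  push_cast at hb
  have hb19 : ¬ 19 ∣ D.b := by
    intro h
    rcases hecases with he' | he' | he' <;> rw [he'] at hb <;>
      rcases D.eps_eq with h' | h' <;> rw [h'] at hb <;> omega
  have hbd := D.deg_dvd_exceptional o hb19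
  rw [hm] at hbd
  have hble : D.b ≤ 391 := by
    have h3' := Nat.mul_le_mul_right (D.b ^ 2) ht3
    by_contra hcon
    push Not at hcon
    have h4 : 392 ^ 2 ≤ D.b ^ 2 := Nat.pow_le_pow_left hcon 2
    have h5 : Nat.card s.Orb * D.b ^ 2 ≤ 459648 := le_trans (Nat.le_add_left _ _) hsq
    omega
  have htabb : ∀ b ∈ Nat.divisors 24192, 38 ≤ b → b ≤ 391 →
      (b % 19 = 2 ∨ b % 19 = 17 → b = 112 ∨ b = 192 ∨ b = 378) ∧
      (b % 19 = 3 ∨ b % 19 = 16 → b = 54 ∨ b = 168 ∨ b = 288) ∧
      (b % 19 = 6 ∨ b % 19 = 13 → b = 63 ∨ b = 108 ∨ b = 336) := by decide +kernel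
  obtain ⟨hb2, hb3, hb6⟩ := htabb D.b (Nat.mem_divisors.mpr ⟨hbd, by norm_num⟩) hb38 hble
  have key : D.b = 108 ∧ 1 ≤ k1 := by
    rcases hecases with he' | he' | he' <;> rw [he'] at hsumk hb <;>
      rcases D.eps_eq with heps | heps <;> rw [heps] at hrel hb
    · rcases hb2 (by omega) with h | h | h <;> omega
    · rcases hb2 (by omega) with h | h | h <;> omega
    · rcases hb3 (by omega) with h | h | h <;> omega
    · rcases hb3 (by omega) with h | h | h <;> omega
    · rcases hb6 (by omega) with h | h | h <;> omega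
    · rcases hb6 (by omega) with h | h | h <;> omega
  obtain ⟨hb108, hk1pos⟩ := key
  -- the centralizer of the involution is too small
  obtain ⟨χ, hχ⟩ := Finset.card_pos.mp (show 0 < (R.filter fun χ =>
    SelfCent.Setup.deg χ = 56).card by omega)
  obtain ⟨hχR, hχ56⟩ := Finset.mem_filter.mp hχ
  obtain ⟨-, n, hn1, hn2, hn3, hn4⟩ := hval χ (hR χ hχR).2.1 (fun h => htR (h ▸ hχR))
  rw [hχ56] at hn2 hn3 hn4
  have hn20 : n = -20 := by push_cast at hn2 hn3 hn4; omega
  subst hn20
  obtain ⟨-, m, hm1, hm2, hm3, hm4⟩ := hval (D.f o) (hfB o) (D.triv_ne o)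
  rw [D.deg_f, hb108] at hm2 hm3 hm4
  have hm32 : m = 32 ∨ m = -44 := by push_cast at hm2 hm3 hm4; omega
  set W := Subgroup.centralizer ({(w₀ : G)} : Set G) with hW
  have hd56 := SelfCent.deg_dvd_index_mul χ hn1
  have hd108 := SelfCent.deg_dvd_index_mul (D.f o) hm1
  rw [hχ56, ← hW] at hd56
  rw [D.deg_f, hb108, ← hW] at hd108
  push_cast at hd56 hd108
  have h14 : 14 ∣ W.index := by omega
  have h27 : 27 ∣ W.index := by rcases hm32 with rfl | rfl <;> omega
  have h378 : 378 ∣ W.index := (Nat.Coprime.mul_dvd_of_dvd_of_dvd (by norm_num) h14 h27 :)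
  obtain ⟨q, hq⟩ := h378
  have hWi := W.card_mul_index
  rw [hq, hG] at hWi
  have hW1216 : Nat.card W ∣ 1216 := ⟨q, by nlinarith⟩
  have hPW : (P : Subgroup G) ≤ W := by
    rw [← hzP, Subgroup.zpowers_le, hW, Subgroup.mem_centralizer_singleton_iff, ← hs]
    exact (s.comm _ w₀.2).symm
  set j := ((Subgroup.normalizer ((P : Subgroup G) : Set G)).subgroupOf W).index with hj
  have hj1 : j ≡ 1 [MOD 19] := index_normalizer_subgroupOf_modEq P hPW
  have hjm := ((Subgroup.normalizer ((P : Subgroup G) : Set G)).subgroupOf W).card_mul_index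
  have hPsub : 19 ∣ Nat.card ↥((Subgroup.normalizer ((P : Subgroup G) : Set G)).subgroupOf W) := by
    have h := Subgroup.card_dvd_of_le (Subgroup.subgroupOf_mono W
      (Subgroup.le_normalizer (H := (P : Subgroup G))))
    rwa [Nat.card_congr (Subgroup.subgroupOfEquivOfLe hPW).toEquiv, hP] at h
  obtain ⟨q', hq'⟩ := hPsub
  rw [hq', ← hj] at hjm
  have hj64 : j ∣ 64 := by
    have : 19 * j ∣ 19 * 64 := by
      refine dvd_trans ?_ (show Nat.card W ∣ 19 * 64 from hW1216)
      rw [← hjm]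
      exact ⟨q', by ring⟩
    exact Nat.dvd_of_mul_dvd_mul_left (by norm_num) this
  have hj11 : j = 1 := by
    have : ∀ x ∈ Nat.divisors 64, x % 19 = 1 → x = 1 := by decide
    exact this j (Nat.mem_divisors.mpr ⟨hj64, by norm_num⟩) hj1
  have hWN : W ≤ Subgroup.normalizer ((P : Subgroup G) : Set G) :=
    Subgroup.subgroupOf_eq_top.mp (Subgroup.index_eq_one.mp hj11)
  have hW456 : Nat.card W ≤ 456 := hN ▸ Subgroup.card_le_of_le hWN
  -- two values whose squares exceed it
  have hne' : χ ≠ D.f o := fun h => hfR o (h ▸ hχR)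
  have hsum := SelfCent.sum_sq_le_card_centralizer ({χ, D.f o} : Finset _)
    (fun ψ => if ψ = χ then -20 else m) (w := (w₀ : G)) (fun ψ hψ => by
      simp only [Finset.mem_insert, Finset.mem_singleton] at hψ
      rcases hψ with rfl | rfl
      · simpa using hn1
      · rw [if_neg hne'.symm]; exact hm1)
  rw [Finset.sum_pair hne', if_pos rfl, if_neg hne'.symm, ← hW] at hsum
  have hW' : (Nat.card W : ℤ) ≤ 456 := by exact_mod_cast hW456
  rcases hm32 with rfl | rfl <;> linarith



/-- No finite simple group has order 459648 = 2^7 * 3^3 * 7 * 19. -/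
theorem result {G : Type*} [Group G] [Finite G] [IsSimpleGroup G] : Nat.card G ≠ 459648 := by
  intro hG
  have : Fact (Nat.Prime 19) := ⟨by norm_num⟩
  have := Fintype.ofFinite G
  have hne : ¬ IsMulCommutative G :=
    Cfsg.Agent.SmallGroups.not_comm_of_not_prime (by rw [hG]; norm_num)
  have hm := Cfsg.Agent.SmallGroups.card_sylow_mem_list (G := G) (p := 19) (a := 1) (m := 24192)
    (by rw [hG]; norm_num) (by norm_num)
  rw [show (Nat.divisors 24192).filter (fun d => d % 19 = 1) = {1, 96, 1008} by decide +kernel] at hm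
  simp only [Finset.mem_insert, Finset.mem_singleton] at hm
  rcases hm.resolve_left (Cfsg.Agent.SmallGroups.card_sylow_ne_one hne (by rw [hG]; norm_num))
    with hn | hn
  · obtain ⟨P⟩ := (inferInstance : Nonempty (Sylow 19 G))
    have hP : Nat.card ↥(P : Subgroup G) = 19 := by
      simpa using Cfsg.Agent.SmallGroups.card_sylow_eq (p := 19) (a := 1) (m := 24192)
        (by rw [hG]; norm_num) (by norm_num) P
    have hN := Cfsg.Agent.SmallGroups.normalizer_conj_eq_card P hn (k := 4788) (by rw [hG])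
    have hmul := Cfsg.Agent.SmallGroups.card_centralizer_mul_relIndex (P : Subgroup G)
    rw [hN] at hmul
    have h1 := Cfsg.Agent.SmallGroups.relIndex_centralizer_dvd_of_prime (p := 19) _ hP
    have h2 := Cfsg.Agent.SmallGroups.card_centralizer_dvd hne P hP (by norm_num) (n := 5)
      (by rw [hn])
    have : Nontrivial (Fin 5) := inferInstance
    rw [show Nat.card (alternatingGroup (Fin 5)) = 60 by
      rw [nat_card_alternatingGroup, Nat.card_eq_fintype_card, Fintype.card_fin]; rfl] at h2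
    set r := (Subgroup.centralizer ((P : Subgroup G) : Set G)).relIndex
      (Subgroup.normalizer ((P : Subgroup G) : Set G)) with hr
    have h3 : ¬ 7 ∣ r := fun h => absurd (h.trans h1) (by norm_num)
    have h4 : 7 ∣ Nat.card (Subgroup.centralizer ((P : Subgroup G) : Set G)) :=
      ((Nat.Prime.dvd_mul (by norm_num)).mp (hmul ▸ (by norm_num : 7 ∣ 4788))).resolve_right h3
    exact absurd (h4.trans h2) (by norm_num)
  · exact case1008 hne hG hn

end Cfsg.Agent.S1022
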