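import Cfsg.Statements.S1026
import Cfsg.Agent.Lib.ChevCore.SepAll
import Cfsg.Agent.Lib.ChevCore.UStruct

set_option autoImplicit false
open Cfsg

namespace Cfsg.Agent.S1026

open Cfsg.Agent.ChevCore

/-- Every element of `U` has a unique expression `∏_{r ∈ Φ⁺} x_r(t_r)`, the product over the positive roots in increasing index order (the coefficient family `t`, supported on the positive roots, exists and is unique); and conversely every such ordered product is the matrix of an element of `U`. -/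
theorem result {F : Type*} [Field F] (D : Cfsg.Lie.ChevalleyDatum) (hD : D ∈ [Cfsg.Lie.chevG2, Cfsg.Lie.chevB2, Cfsg.Lie.chevD4, Cfsg.Lie.chevF4, Cfsg.Lie.chevE6, Cfsg.Lie.chevE7, Cfsg.Lie.chevE8]) :
    (∀ g : GL D.Idx F, g ∈ D.posUnipotent F →
      ∃! t : ℕ → F, (∀ r, ¬ D.IsPosRoot r → t r = 0) ∧
        (g : Matrix D.Idx D.Idx F) = D.wordMat F (D.posRoots.map fun r => (r, t r))) ∧
    (∀ t : ℕ → F, ∃ g : GL D.Idx F, g ∈ D.posUnipotent F ∧
      (g : Matrix D.Idx D.Idx F) = D.wordMat F (D.posRoots.map fun r => (r, t r))) := by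
  have hU := uGood_of_mem hD
  have hG := hU.toCommGood.toGood
  refine ⟨fun g hg => ?_, fun t => ⟨_, hU.prodL_mem_posUnipotent t, (hG.wordMat_posRoots t).symm⟩⟩
  obtain ⟨t, ⟨h1, h2⟩, h3⟩ := hU.exists_coords hg
  refine ⟨t, ⟨h1, by rw [hG.wordMat_posRoots, h2]⟩, fun t' ht' => h3 t' ⟨ht'.1, Units.ext ?_⟩⟩
  rw [← hG.wordMat_posRoots]
  exact ht'.2.symm

end Cfsg.Agent.S1026
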