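import Cfsg.Statements.S1034
import Cfsg.Agent.Lib.ChevCore.SepAll
import Cfsg.Agent.Lib.ChevCore.TorusGroup

set_option autoImplicit false
open Cfsg

namespace Cfsg.Agent.S1034

open Cfsg.Agent.ChevCore

/-- Every element of `H` is a product `h_{p_1}(c_1) ⋯ h_{p_l}(c_l)` over the fundamental roots, with non-zero `c_i`. -/
theorem result {F : Type*} [Field F] (D : Cfsg.Lie.ChevalleyDatum) (hD : D ∈ [Cfsg.Lie.chevG2, Cfsg.Lie.chevB2, Cfsg.Lie.chevD4, Cfsg.Lie.chevF4, Cfsg.Lie.chevE6, Cfsg.Lie.chevE7, Cfsg.Lie.chevE8]) (g : GL D.Idx F) (hg : g ∈ D.diagonalSubgroup F) :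
    ∃ c : ℕ → F, (∀ i < D.rank, c i ≠ 0) ∧
      (g : Matrix D.Idx D.Idx F) = D.wordMat F ((List.range D.rank).flatMap fun i => D.hWord (D.simple i) (c i)) := by
  have hG := (uGood_of_mem hD).toCommGood.toGood
  rw [hG.diagonalSubgroup_eq_range] at hg
  obtain ⟨c, rfl⟩ := hg
  refine ⟨fun i => if h : i < D.rank then (c ⟨i, h⟩ : F) else 1, fun i hi => ?_, ?_⟩
  · simp [hi]
  · rw [← hG.val_wordG, hG.tau_eq_prod]
    congr 1
    rw [wordG, List.map_flatMap, List.flatMap_def, List.prod_flatten, List.map_map, List.ofFn_eq_map,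
      ← List.map_coe_finRange_eq_range, List.map_map]
    congr 1
    refine List.map_congr_left fun i _ => ?_
    simp [Lie.ChevalleyDatum.hWord, Lie.ChevalleyDatum.nWord, hg, ng, mul_assoc]

end Cfsg.Agent.S1034
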