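import Cfsg.Statements.S1038
import Cfsg.Agent.Lib.ChevCore.Models

set_option autoImplicit false
open Cfsg

namespace Cfsg.Agent.S1038

open Cfsg.Agent.ChevCore

/-- The diagonal subgroup `H` (generated by the `h_r(t)`, `t ≠ 0`) is normal in the monomial subgroup `N` (generated by `H` and the `n_r`). -/
theorem result {F : Type*} [Field F] (D : Cfsg.Lie.ChevalleyDatum) (hD : D ∈ [Cfsg.Lie.chevG2, Cfsg.Lie.chevB2, Cfsg.Lie.chevD4, Cfsg.Lie.chevF4, Cfsg.Lie.chevE6, Cfsg.Lie.chevE7, Cfsg.Lie.chevE8]) : ((D.diagonalSubgroup F).subgroupOf (D.monomialSubgroup F)).Normal := by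
  obtain ⟨T, -, -⟩ := exists_model hD
  have hC := commGood_of_mem hD
  refine ⟨fun t ht n => ?_⟩
  rw [Subgroup.mem_subgroupOf] at ht ⊢
  have hn : ((n : GL D.Idx F)) ∈ (engN (T.rel (Cfsg.Agent.Chev54.rels hC F))).map (D.group F).subtype :=
    (N_map (F := F) T hC).symm ▸ n.2
  rw [← T.H_map (Cfsg.Agent.Chev54.rels hC F)] at ht ⊢
  obtain ⟨n', hn', e⟩ := hn
  obtain ⟨t', ht', e'⟩ := ht
  exact ⟨n' * t' * n'⁻¹, engN_conj_mem_H _ hn' ht', by simp [← e, ← e']⟩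

end Cfsg.Agent.S1038
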