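import Cfsg.Statements.S1039
import Cfsg.Agent.Lib.ChevCore.WeylMap
import Cfsg.Agent.WeylGroup.G2
import Cfsg.Agent.WeylGroup.B2
import Cfsg.Agent.WeylGroup.D4
import Cfsg.Agent.WeylGroup.F4
import Cfsg.Agent.WeylGroup.E6
import Cfsg.Agent.WeylGroup.E7
import Cfsg.Agent.WeylGroup.E8

set_option autoImplicit false
open Cfsg

namespace Cfsg.Agent.S1039

open Cfsg.Agent.ChevCore

/-- `N/H ≅ W`: there is a surjective homomorphism from `N` onto the Coxeter group of the type (Mathlib's Coxeter matrix G₂, B₂, F₄, E₆, E₇, E₈, nodes numbered as the fundamental roots) with kernel `H`, mapping each `n_{p_i}` to the `i`-th simple reflection. -/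
theorem result {F : Type*} [Field F]
    (p : Cfsg.Lie.ChevalleyDatum × (Σ n : ℕ, CoxeterMatrix (Fin n)))
    (hp : p ∈ [(Cfsg.Lie.chevG2, ⟨2, CoxeterMatrix.G₂⟩), (Cfsg.Lie.chevB2, ⟨2, CoxeterMatrix.B 2⟩), (Cfsg.Lie.chevD4, ⟨4, Cfsg.Lie.coxeterD4⟩), (Cfsg.Lie.chevF4, ⟨4, CoxeterMatrix.F₄⟩),
      (Cfsg.Lie.chevE6, ⟨6, CoxeterMatrix.E₆⟩), (Cfsg.Lie.chevE7, ⟨7, CoxeterMatrix.E₇⟩), (Cfsg.Lie.chevE8, ⟨8, CoxeterMatrix.E₈⟩)]) :
    ∃ φ : ↥(p.1.monomialSubgroup F) →* p.2.2.Group, Function.Surjective φ ∧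
      φ.ker = (p.1.diagonalSubgroup F).subgroupOf (p.1.monomialSubgroup F) ∧
      ∀ (i : Fin p.2.1) (g : ↥(p.1.monomialSubgroup F)),
        ((g : GL p.1.Idx F) : Matrix p.1.Idx p.1.Idx F) = p.1.nMat F (p.1.simple i) 1 → φ g = p.2.2.simple i := by
  simp only [List.mem_cons, List.not_mem_nil, or_false] at hp
  rcases hp with rfl | rfl | rfl | rfl | rfl | rfl | rfl
  · exact exists_coxeter_hom (T := Cfsg.Agent.ChevGroup.TypeG2.model) (Mx := CoxeterMatrix.G₂) (A := Cfsg.Agent.WeylGroup.g2Rows)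
      (B := [[2, 3], [1, 2]]) (d := 1) (hC := commGoodG2)
      Cfsg.Agent.WeylGroup.g2_checkRep Cfsg.Agent.WeylGroup.g2_checkAll (by decide +kernel) (by decide +kernel)
  · exact exists_coxeter_hom (T := Cfsg.Agent.ChevGroup.TypeB2.model) (Mx := CoxeterMatrix.B 2) (A := Cfsg.Agent.WeylGroup.b2Rows)
      (B := [[2, 2], [1, 2]]) (d := 2) (hC := commGoodB2)
      Cfsg.Agent.WeylGroup.b2_checkRep Cfsg.Agent.WeylGroup.b2_checkAll (by decide +kernel) (by decide +kernel)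
  · exact exists_coxeter_hom (T := Cfsg.Agent.ChevGroup.TypeD4.model) (Mx := Cfsg.Lie.coxeterD4) (A := Cfsg.Agent.WeylGroup.d4Rows)
      (B := [[2, 2, 1, 1], [2, 4, 2, 2], [1, 2, 2, 1], [1, 2, 1, 2]]) (d := 2) (hC := commGoodD4)
      Cfsg.Agent.WeylGroup.d4_checkRep Cfsg.Agent.WeylGroup.d4_checkAll (by decide +kernel) (by decide +kernel)
  · exact exists_coxeter_hom (T := Cfsg.Agent.ChevGroup.TypeF4.model) (Mx := CoxeterMatrix.F₄) (A := Cfsg.Agent.WeylGroup.f4Rows)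
      (B := [[2, 3, 4, 2], [3, 6, 8, 4], [2, 4, 6, 3], [1, 2, 3, 2]]) (d := 1) (hC := commGoodF4)
      Cfsg.Agent.WeylGroup.f4_checkRep Cfsg.Agent.WeylGroup.f4_checkAll (by decide +kernel) (by decide +kernel)
  · exact exists_coxeter_hom (T := Cfsg.Agent.ChevGroup.TypeE6.model) (Mx := CoxeterMatrix.E₆) (A := Cfsg.Agent.WeylGroup.e6Rows)
      (B := [[4, 3, 5, 6, 4, 2], [3, 6, 6, 9, 6, 3], [5, 6, 10, 12, 8, 4], [6, 9, 12, 18, 12, 6], [4, 6, 8, 12, 10, 5], [2, 3, 4, 6, 5, 4]]) (d := 3) (hC := commGoodE6)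
      Cfsg.Agent.WeylGroup.e6_checkRep Cfsg.Agent.WeylGroup.e6_checkAll (by decide +kernel) (by decide +kernel)
  · exact exists_coxeter_hom (T := Cfsg.Agent.ChevGroup.TypeE7.model) (Mx := CoxeterMatrix.E₇) (A := Cfsg.Agent.WeylGroup.e7Rows)
      (B := [[4, 4, 6, 8, 6, 4, 2], [4, 7, 8, 12, 9, 6, 3], [6, 8, 12, 16, 12, 8, 4], [8, 12, 16, 24, 18, 12, 6], [6, 9, 12, 18, 15, 10, 5], [4, 6, 8, 12, 10, 8, 4], [2, 3, 4, 6, 5, 4, 3]]) (d := 2) (hC := commGoodE7)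
      Cfsg.Agent.WeylGroup.e7_checkRep Cfsg.Agent.WeylGroup.e7_checkAll (by decide +kernel) (by decide +kernel)
  · exact exists_coxeter_hom (T := Cfsg.Agent.ChevGroup.TypeE8.model) (Mx := CoxeterMatrix.E₈) (A := Cfsg.Agent.WeylGroup.e8Rows)
      (B := [[4, 5, 7, 10, 8, 6, 4, 2], [5, 8, 10, 15, 12, 9, 6, 3], [7, 10, 14, 20, 16, 12, 8, 4], [10, 15, 20, 30, 24, 18, 12, 6], [8, 12, 16, 24, 20, 15, 10, 5], [6, 9, 12, 18, 15, 12, 8, 4], [4, 6, 8, 12, 10, 8, 6, 3], [2, 3, 4, 6, 5, 4, 3, 2]]) (d := 1) (hC := commGoodE8)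
      Cfsg.Agent.WeylGroup.e8_checkRep Cfsg.Agent.WeylGroup.e8_checkAll (by decide +kernel) (by decide +kernel)

end Cfsg.Agent.S1039
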