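import Cfsg.Statements.S1042
import Cfsg.Agent.Lib.ChevCore.Models

set_option autoImplicit false
open Cfsg

namespace Cfsg.Agent.S1042

open Cfsg.Agent.ChevCore

/-- The Chevalley group has a (B,N)-pair with `B = UH`, `N` the monomial subgroup and the `n_p`, `p` fundamental, as representatives of the distinguished involutions of `W = N/H`. -/
theorem result {F : Type*} [Field F] (D : Cfsg.Lie.ChevalleyDatum) (hD : D ∈ [Cfsg.Lie.chevG2, Cfsg.Lie.chevB2, Cfsg.Lie.chevD4, Cfsg.Lie.chevF4, Cfsg.Lie.chevE6, Cfsg.Lie.chevE7, Cfsg.Lie.chevE8]) :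
    ∃ P : Cfsg.BNPair ↥(D.group F),
      P.B = (D.borelSubgroup F).subgroupOf (D.group F) ∧ P.N = (D.monomialSubgroup F).subgroupOf (D.group F) ∧
      P.S = {n : ↥(D.group F) | ∃ i < D.rank, ((n : GL D.Idx F) : Matrix D.Idx D.Idx F) = D.nMat F (D.simple i) 1} := by
  obtain ⟨T, ⟨wit, hwit⟩, -⟩ := exists_model hD
  have hC := commGood_of_mem hD
  set R := T.rel (Cfsg.Agent.Chev54.rels hC F)
  have hinj : Function.Injective T.S.simple := fun i j h => Fin.ext
    (hC.toGood.simple_inj (T.lt_l i) (T.lt_l j) (by rw [← T.simple_eq, ← T.simple_eq, h]))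
  obtain ⟨P, hB, hN, hS⟩ := exists_bnPair (T.shapeR _) (fun r t => T.x_ne _ r t)
    (T.group_top (Cfsg.Agent.Chev54.rels hC F) hwit) hinj
  refine ⟨P, ?_, ?_, ?_⟩
  · rw [hB, ← T.B_map (Cfsg.Agent.Chev54.rels hC F), Subgroup.subgroupOf,
      Subgroup.comap_map_eq_self_of_injective Subtype.coe_injective]
  · rw [hN, ← N_map T hC, Subgroup.subgroupOf,
      Subgroup.comap_map_eq_self_of_injective Subtype.coe_injective]
  · rw [hS]
    ext n
    constructor
    · rintro ⟨i, rfl⟩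
      exact ⟨i.val, T.lt_l i, by rw [val_engine_n T hC, hC.toGood.val_ng]⟩
    · rintro ⟨i, hi, e⟩
      refine ⟨⟨i, T.l_eq.symm ▸ hi⟩, Subtype.ext ?_⟩
      rw [val_engine_n T hC]
      exact Units.ext ((hC.toGood.val_ng _ _).trans e.symm)

end Cfsg.Agent.S1042
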