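import Cfsg.Statements.S1044
import Cfsg.Agent.Lib.ChevCore.Models

set_option autoImplicit false
open Cfsg

namespace Cfsg.Agent.S1044

open Cfsg.Agent.ChevCore

/-- For a fundamental root `p` the set `B ∪ B n_p B` is (the carrier of) a subgroup of the general linear group. -/
theorem result {F : Type*} [Field F] (D : Cfsg.Lie.ChevalleyDatum) (hD : D ∈ [Cfsg.Lie.chevG2, Cfsg.Lie.chevB2, Cfsg.Lie.chevD4, Cfsg.Lie.chevF4, Cfsg.Lie.chevE6, Cfsg.Lie.chevE7, Cfsg.Lie.chevE8]) (i : ℕ) (hi : i < D.rank) (n : GL D.Idx F)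
    (hn : (n : Matrix D.Idx D.Idx F) = D.nMat F (D.simple i) 1) :
    ∃ P : Subgroup (GL D.Idx F), (P : Set (GL D.Idx F)) =
      (D.borelSubgroup F : Set (GL D.Idx F)) ∪ DoubleCoset.doubleCoset n (D.borelSubgroup F : Set (GL D.Idx F)) (D.borelSubgroup F) := by
  obtain ⟨T, -, -⟩ := exists_model hD
  have hC := commGood_of_mem hD
  set R := T.rel (Cfsg.Agent.Chev54.rels hC F)
  let i' : Fin T.tab.l := ⟨i, T.l_eq.symm ▸ hi⟩
  obtain ⟨P, hP⟩ := exists_parabolic_one R i'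
  have hni : ((R.n i' : ↥(D.group F)) : GL D.Idx F) = n := by
    rw [val_engine_n T hC]
    exact Units.ext ((hC.toGood.val_ng _ _).trans hn.symm)
  refine ⟨P.map (D.group F).subtype, ?_⟩
  rw [Subgroup.coe_map, hP, Set.image_union, ← T.B_map (Cfsg.Agent.Chev54.rels hC F), Subgroup.coe_map,
    ← hni]
  congr 1
  ext x
  constructor
  · rintro ⟨y, hy, rfl⟩
    obtain ⟨a, ha, b, hb, rfl⟩ := DoubleCoset.mem_doubleCoset.1 hy
    exact DoubleCoset.mem_doubleCoset.2 ⟨_, ⟨a, ha, rfl⟩, _, ⟨b, hb, rfl⟩, by simp⟩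
  · intro hx
    obtain ⟨_, ⟨a, ha, rfl⟩, _, ⟨b, hb, rfl⟩, rfl⟩ := DoubleCoset.mem_doubleCoset.1 hx
    exact ⟨a * R.n i' * b, DoubleCoset.mem_doubleCoset.2 ⟨a, ha, b, hb, rfl⟩, by simp⟩

end Cfsg.Agent.S1044
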