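import Cfsg.Statements.S1045
import Cfsg.Agent.Lib.ChevCore.CommAll
import Cfsg.Agent.Lib.ChevCore.Triangular

set_option autoImplicit false
open Cfsg

namespace Cfsg.Agent.S1045

open Cfsg.Agent.ChevCore

/-- For a fundamental root `p`, the subgroup `U_p` generated by the `X_s`, `s` positive and `s ≠ p`, is normalised by `X_p` and `X_{-p}`, and `U = U_p ⊔ X_p`. -/
theorem result {F : Type*} [Field F] (D : Cfsg.Lie.ChevalleyDatum) (hD : D ∈ [Cfsg.Lie.chevG2, Cfsg.Lie.chevB2, Cfsg.Lie.chevD4, Cfsg.Lie.chevF4, Cfsg.Lie.chevE6, Cfsg.Lie.chevE7, Cfsg.Lie.chevE8]) (i : ℕ) (hi : i < D.rank) :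
    D.rootSubgroup F (D.simple i) ⊔ D.rootSubgroup F (D.neg (D.simple i)) ≤
        Subgroup.normalizer (Subgroup.closure {g : GL D.Idx F | ∃ (s : ℕ) (t : F), D.IsPosRoot s ∧ s ≠ D.simple i ∧
          (g : Matrix D.Idx D.Idx F) = D.x F s t} : Set (GL D.Idx F)) ∧
      Subgroup.closure {g : GL D.Idx F | ∃ (s : ℕ) (t : F), D.IsPosRoot s ∧ s ≠ D.simple i ∧
          (g : Matrix D.Idx D.Idx F) = D.x F s t} ⊔ D.rootSubgroup F (D.simple i) = D.posUnipotent F := by
  have hC := commGood_of_mem hD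
  have hG := hC.toGood

  have hsi := hG.simple_lt hi
  have e : Subgroup.closure {g : GL D.Idx F | ∃ (s : ℕ) (t : F), D.IsPosRoot s ∧ s ≠ D.simple i ∧
      (g : Matrix D.Idx D.Idx F) = D.x F s t} = XS D F (posExcept D i) := by
    refine le_antisymm ((Subgroup.closure_le _).2 ?_) (XS_le fun r t hr h => ?_)
    · rintro g ⟨s, t, hs, hne, he⟩
      rw [show g = xg D F s t from Units.ext (he.trans (hG.val_xg s t).symm)]
      exact xg_mem_XS hs.1 (show s ∈ posExcept D i from ⟨(hG.isPosRoot_iff hs.1).1 hs, hne⟩) t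
    · obtain ⟨h1, h2⟩ : 1 ≤ ht D r ∧ r ≠ D.simple i := h
      exact Subgroup.subset_closure ⟨r, t, (hG.isPosRoot_iff hr).2 h1, h2, hG.val_xg r t⟩
  rw [e]
  refine ⟨sup_le (fun g hg => ?_) (fun g hg => ?_), le_antisymm (sup_le ?_ ?_) ?_⟩
  · obtain ⟨t, rfl⟩ := hG.mem_rootSubgroup.1 hg
    exact hC.simple_le_normalizer hi (Or.inl rfl) t
  · obtain ⟨t, rfl⟩ := hG.mem_rootSubgroup.1 hg
    exact hC.simple_le_normalizer hi (Or.inr rfl) t
  · rw [hG.posUnipotent_eq]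
    exact XS_mono fun r hr => hr.1
  · intro g hg
    obtain ⟨t, rfl⟩ := hG.mem_rootSubgroup.1 hg
    rw [hG.posUnipotent_eq]
    exact xg_mem_XS hsi (show 1 ≤ ht D (D.simple i) by rw [hG.ht_simple hi]) t
  · rw [hG.posUnipotent_eq]
    refine XS_le fun r t hr h => ?_
    by_cases hrp : r = D.simple i
    · subst hrp
      exact Subgroup.mem_sup_right (hG.mem_rootSubgroup.2 ⟨t, rfl⟩)
    · exact Subgroup.mem_sup_left (xg_mem_XS hr (show r ∈ posExcept D i from ⟨h, hrp⟩) t)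

end Cfsg.Agent.S1045
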