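import Cfsg.Statements.S1052
import Cfsg.Agent.ChevGroup.Mat.SimpleG2
import Cfsg.Agent.ChevGroup.Mat.SimpleB2
import Cfsg.Agent.ChevGroup.Mat.SimpleD4
import Cfsg.Agent.ChevGroup.Mat.SimpleF4
import Cfsg.Agent.ChevGroup.Mat.SimpleE6
import Cfsg.Agent.ChevGroup.Mat.SimpleE7
import Cfsg.Agent.ChevGroup.Mat.SimpleE8

set_option autoImplicit false
open Cfsg

namespace Cfsg.Agent.S1052

/-- `G = G'` for every type G₂, B₂, D₄, F₄, E₆, E₇, E₈ over every field, except G₂ and B₂ over the field with two elements. -/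
theorem result {F : Type*} [Field F] (D : Cfsg.Lie.ChevalleyDatum) (hD : D ∈ [Cfsg.Lie.chevG2, Cfsg.Lie.chevB2, Cfsg.Lie.chevD4, Cfsg.Lie.chevF4, Cfsg.Lie.chevE6, Cfsg.Lie.chevE7, Cfsg.Lie.chevE8]) (h2 : D = Cfsg.Lie.chevG2 ∨ D = Cfsg.Lie.chevB2 → ∃ a : F, a ≠ 0 ∧ a ≠ 1) :
    commutator ↥(D.group F) = ⊤ := by
  have key : ∀ {G : Type _} [Group G], IsSimpleGroup G ∧ ¬ IsMulCommutative G → commutator G = ⊤ := by
    intro G _ h
    open scoped commutatorElement in
    haveI := h.1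
    rcases (Subgroup.Normal.eq_bot_or_eq_top (H := commutator G) inferInstance) with hb | ht
    · refine absurd ⟨⟨fun a b => ?_⟩⟩ h.2
      have hm : ⁅a, b⁆ ∈ commutator G :=
        Subgroup.commutator_mem_commutator (Subgroup.mem_top a) (Subgroup.mem_top b)
      rw [hb, Subgroup.mem_bot] at hm
      exact commutatorElement_eq_one_iff_mul_comm.1 hm
    · exact ht
  simp only [List.mem_cons, List.not_mem_nil, or_false] at hD
  rcases hD with rfl | rfl | rfl | rfl | rfl | rfl | rfl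
  · exact key (Cfsg.Agent.ChevGroup.TypeG2.isSimple F (h2 (Or.inl rfl)))
  · exact key (Cfsg.Agent.ChevGroup.TypeB2.isSimple F (h2 (Or.inr rfl)))
  · exact key (Cfsg.Agent.ChevGroup.TypeD4.isSimple F)
  · exact key (Cfsg.Agent.ChevGroup.TypeF4.isSimple F)
  · exact key (Cfsg.Agent.ChevGroup.TypeE6.isSimple F)
  · exact key (Cfsg.Agent.ChevGroup.TypeE7.isSimple F)
  · exact key (Cfsg.Agent.ChevGroup.TypeE8.isSimple F)

end Cfsg.Agent.S1052
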