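import Cfsg.Statements.S1053
import Cfsg.Agent.ChevGroup.Mat.Opposition
import Cfsg.Agent.ChevGroup.Mat.Inst
import Cfsg.Agent.Lib.ChevCore.CommAll
import Cfsg.Agent.ChevGroup.Mat.G2
import Cfsg.Agent.ChevGroup.Mat.B2
import Cfsg.Agent.ChevGroup.Mat.D4
import Cfsg.Agent.ChevGroup.Mat.F4
import Cfsg.Agent.ChevGroup.Mat.E6
import Cfsg.Agent.ChevGroup.Mat.E7
import Cfsg.Agent.ChevGroup.Mat.E8

set_option autoImplicit false
open Cfsg

namespace Cfsg.Agent.S1053

/-- There is `n₀ ∈ N` with `n₀ U n₀⁻¹ = V` (a representative of the longest element of the Weyl group). -/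
theorem result {F : Type*} [Field F] (D : Cfsg.Lie.ChevalleyDatum) (hD : D ∈ [Cfsg.Lie.chevG2, Cfsg.Lie.chevB2, Cfsg.Lie.chevD4, Cfsg.Lie.chevF4, Cfsg.Lie.chevE6, Cfsg.Lie.chevE7, Cfsg.Lie.chevE8]) :
    ∃ n ∈ D.monomialSubgroup F, (D.posUnipotent F).map (MulAut.conj n).toMonoidHom = D.negUnipotent F := by
  simp only [List.mem_cons, List.not_mem_nil, or_false] at hD
  rcases hD with rfl | rfl | rfl | rfl | rfl | rfl | rfl
  · exact ChevGroup.TypeG2.model.exists_opposition (ChevGroup.relsOfCommGood ChevCore.commGoodG2 F)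
      ChevGroup.TypeG2.longest_ok
  · exact ChevGroup.TypeB2.model.exists_opposition (ChevGroup.relsOfCommGood ChevCore.commGoodB2 F)
      ChevGroup.TypeB2.longest_ok
  · exact ChevGroup.TypeD4.model.exists_opposition (ChevGroup.relsOfCommGood ChevCore.commGoodD4 F)
      ChevGroup.TypeD4.longest_ok
  · exact ChevGroup.TypeF4.model.exists_opposition (ChevGroup.relsOfCommGood ChevCore.commGoodF4 F)
      ChevGroup.TypeF4.longest_ok
  · exact ChevGroup.TypeE6.model.exists_opposition (ChevGroup.relsOfCommGood ChevCore.commGoodE6 F)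
      ChevGroup.TypeE6.longest_ok
  · exact ChevGroup.TypeE7.model.exists_opposition (ChevGroup.relsOfCommGood ChevCore.commGoodE7 F)
      ChevGroup.TypeE7.longest_ok
  · exact ChevGroup.TypeE8.model.exists_opposition (ChevGroup.relsOfCommGood ChevCore.commGoodE8 F)
      ChevGroup.TypeE8.longest_ok

end Cfsg.Agent.S1053
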