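import Cfsg.Statements.S1058
import Cfsg.Agent.S1060

set_option autoImplicit false
set_option linter.style.haveILetI false
open Cfsg Cfsg.Lie
open scoped Matrix

namespace Cfsg.Agent.S1058


/-- The six vectors (coordinates `0, 1` on the torus, `2 + r` on the root `r`). -/
def wTab : Fin 6 → List ℕ :=
  ![[1, 4, 7], [1, 3, 4, 7], [1, 3, 8], [1, 3, 4, 8], [1, 3, 7, 8], [1, 4, 7, 8]]

/-- The position of a coordinate. -/
def pos : chevB2.Idx → ℕ := fun x => match x with
  | Sum.inl i => i.val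
  | Sum.inr r => r.val + 2

/-- The six vectors over `F`. -/
def w (F : Type*) [Field F] (i : Fin 6) : chevB2.Idx → F :=
  fun x => if pos x ∈ wTab i then 1 else 0

/-- The fixed vector. -/
def z (F : Type*) [Field F] : chevB2.Idx → F := fun x => if pos x = 0 then 1 else 0

/-- A root index. -/
def rt (i : Fin 8) : Fin chevB2.nroots := i

/-- The permutations induced by the generators. -/
def genPerm : Fin chevB2.nroots → Equiv.Perm (Fin 6) :=
  ![Equiv.swap 0 1 * Equiv.swap 2 3 * Equiv.swap 4 5, Equiv.swap 0 1, Equiv.swap 2 3,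
    Equiv.swap 0 1 * Equiv.swap 2 4 * Equiv.swap 3 5,
    Equiv.swap 0 5 * Equiv.swap 1 4 * Equiv.swap 2 3, Equiv.swap 2 4, Equiv.swap 0 5,
    Equiv.swap 0 5 * Equiv.swap 1 3 * Equiv.swap 2 4]

theorem gen_step : ∀ r : Fin chevB2.nroots,
    (chevB2.xMat (ZMod 2) r 1 *ᵥ z (ZMod 2) = z (ZMod 2)) ∧
    ∀ i : Fin 6, chevB2.xMat (ZMod 2) r 1 *ᵥ w (ZMod 2) i = w (ZMod 2) (genPerm r i) ∨
      chevB2.xMat (ZMod 2) r 1 *ᵥ w (ZMod 2) i = w (ZMod 2) (genPerm r i) + z (ZMod 2) := by
  decide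

theorem gen_zero : ∀ r : Fin chevB2.nroots, chevB2.xMat (ZMod 2) r 0 = 1 := by decide

theorem gen_sq : ∀ r : Fin chevB2.nroots,
    chevB2.xMat (ZMod 2) r 1 * chevB2.xMat (ZMod 2) r 1 = 1 := by decide

theorem zmod_two : ∀ a : ZMod 2, a = 0 ∨ a = 1 := by decide

theorem z_add_z {F : Type*} [Field F] [CharP F 2] : z F + z F = 0 :=
  funext fun _ => CharTwo.add_self_eq_zero _

theorem sep : ∀ i j : Fin 6,
    w (ZMod 2) i = w (ZMod 2) j ∨ w (ZMod 2) i = w (ZMod 2) j + z (ZMod 2) → i = j := by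
  decide

theorem xMat_map {R S : Type*} [Field R] [Field S] (e : R ≃+* S) (r : Fin chevB2.nroots) (t : R) :
    chevB2.xMat S r (e t) = (chevB2.xMat R r t).map e := by
  ext row col
  rcases col with i | s <;> rcases row with i' | u <;>
    simp only [ChevalleyDatum.xMat, Matrix.map_apply, Matrix.of_apply] <;> split_ifs <;>
    simp [map_list_sum, List.map_map, Function.comp_def]

/-- The permutation condition. -/
def Moves {F : Type*} [Field F] (g : GL chevB2.Idx F) (σ : Equiv.Perm (Fin 6)) : Prop :=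
  (g : Matrix chevB2.Idx chevB2.Idx F) *ᵥ z F = z F ∧ ∀ i, (g : Matrix chevB2.Idx chevB2.Idx F) *ᵥ w F i = w F (σ i) ∨
    (g : Matrix chevB2.Idx chevB2.Idx F) *ᵥ w F i = w F (σ i) + z F

theorem Moves.mul {F : Type*} [Field F] [CharP F 2] {g h : GL chevB2.Idx F} {σ τ : Equiv.Perm (Fin 6)}
    (hg : Moves g σ) (hh : Moves h τ) : Moves (g * h) (σ * τ) := by
  refine ⟨by rw [Units.val_mul, ← Matrix.mulVec_mulVec, hh.1, hg.1], fun i => ?_⟩
  rw [Units.val_mul, ← Matrix.mulVec_mulVec, Equiv.Perm.mul_apply]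
  rcases hh.2 i with h1 | h1 <;> rw [h1]
  · exact hg.2 _
  · rw [Matrix.mulVec_add, hg.1]
    rcases hg.2 (τ i) with h2 | h2 <;> rw [h2]
    · exact Or.inr rfl
    · refine Or.inl ?_
      rw [add_assoc, z_add_z, add_zero]

theorem Moves.inv {F : Type*} [Field F] [CharP F 2] {g : GL chevB2.Idx F} {σ : Equiv.Perm (Fin 6)}
    (hg : Moves g σ) : Moves g⁻¹ σ⁻¹ := by
  have hz : ((g⁻¹ : GL chevB2.Idx F) : Matrix chevB2.Idx chevB2.Idx F) *ᵥ z F = z F := by
    conv_lhs => rw [← hg.1]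
    rw [Matrix.mulVec_mulVec, Units.inv_mul, Matrix.one_mulVec]
  refine ⟨hz, fun i => ?_⟩
  rcases hg.2 (σ⁻¹ i) with h | h <;> rw [Equiv.Perm.coe_inv, Equiv.apply_symm_apply] at h
  · left
    rw [← h, Matrix.mulVec_mulVec, Units.inv_mul, Matrix.one_mulVec]
    rfl
  · right
    have h' : w F i = (g : Matrix chevB2.Idx chevB2.Idx F) *ᵥ w F (σ.symm i) + z F := by
      rw [h, add_assoc, z_add_z, add_zero]
    rw [h', Matrix.mulVec_add, hz, Matrix.mulVec_mulVec, Units.inv_mul, Matrix.one_mulVec]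
    rfl


/-- B₂(2) ≅ S₆. -/
theorem result {F : Type*} [Field F] [Fintype F] (hF : Fintype.card F = 2) :
    Nonempty (↥(Cfsg.Lie.chevB2.group F) ≃* Equiv.Perm (Fin 6)) := by
  haveI : Fact (Nat.Prime 2) := ⟨Nat.prime_two⟩
  let e : ZMod 2 ≃+* F := ZMod.ringEquivOfPrime F Nat.prime_two hF
  haveI : CharP F 2 := charP_of_injective_ringHom (f := e.toRingHom) e.injective 2
  have hw : ∀ i, w F i = e ∘ w (ZMod 2) i := fun i => funext fun x => by
    simp only [w, Function.comp_apply]; split_ifs <;> simp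
  have hz : z F = e ∘ z (ZMod 2) := funext fun x => by
    simp only [z, Function.comp_apply]; split_ifs <;> simp
  have hmv : ∀ (M : Matrix chevB2.Idx chevB2.Idx (ZMod 2)) (v : chevB2.Idx → ZMod 2),
      (M.map e) *ᵥ (e ∘ v) = e ∘ (M *ᵥ v) := fun M v => funext fun x => by
    simp [Matrix.mulVec, dotProduct, map_sum]
  have hadd : ∀ u v : chevB2.Idx → ZMod 2, e ∘ u + e ∘ v = e ∘ (u + v) := fun u v =>
    funext fun x => (map_add e _ _).symm
  have hexE : ∀ g ∈ chevB2.group F, ∃ σ, Moves g σ := by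
    intro g hg
    induction hg using Subgroup.closure_induction with
    | mem g hg =>
      obtain ⟨r, t, ht⟩ := hg
      rcases zmod_two (e.symm t) with h | h
      · refine ⟨1, ?_⟩
        have h1 : t = e 0 := by rw [← h, e.apply_symm_apply]
        rw [h1, xMat_map, gen_zero, Matrix.map_one _ (map_zero e) (map_one e)] at ht
        simp [Moves, ht]
      · refine ⟨genPerm r, ?_⟩
        have h1 : t = e 1 := by rw [← h, e.apply_symm_apply]
        rw [h1, xMat_map] at ht
        refine ⟨?_, fun i => ?_⟩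
        · rw [ht, hz, hmv, (gen_step r).1]
        · rw [ht, hw, hw, hz, hmv, hadd]
          exact (gen_step r).2 i |>.imp (congrArg (e ∘ ·)) (congrArg (e ∘ ·))
    | one => exact ⟨1, by simp [Moves]⟩
    | mul g h _ _ hg hh =>
      obtain ⟨⟨σ, hσ⟩, ⟨τ, hτ⟩⟩ := And.intro hg hh
      exact ⟨σ * τ, hσ.mul hτ⟩
    | inv g _ hg =>
      obtain ⟨σ, hσ⟩ := hg
      exact ⟨σ⁻¹, hσ.inv⟩
  have huniq : ∀ (g : GL chevB2.Idx F) σ τ, Moves g σ → Moves g τ → σ = τ := by
    intro g σ τ hσ hτ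
    refine Equiv.ext fun i => sep _ _ ?_
    have inj : Function.Injective fun v : chevB2.Idx → ZMod 2 => e ∘ v := e.injective.comp_left
    rcases hσ.2 i with a | a <;> rcases hτ.2 i with b | b <;> rw [a] at b
    · left; rw [hw, hw] at b; exact inj b
    · right; rw [hw, hw, hz, hadd] at b; exact inj b
    · right
      have b' : w F (σ i) = w F (τ i) + z F := by
        rw [← b, add_assoc, z_add_z, add_zero]
      rw [hw, hw, hz, hadd] at b'; exact inj b'
    · left
      have b' := add_right_cancel b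
      rw [hw, hw] at b'; exact inj b'
  choose σ hσ using hexE
  let φ : ↥(chevB2.group F) →* Equiv.Perm (Fin 6) := MonoidHom.mk' (fun g => σ g g.2) fun g h =>
    huniq _ _ _ (hσ _ (g * h).2) ((hσ _ g.2).mul (hσ _ h.2))
  have hgen : ∀ r : Fin chevB2.nroots, genPerm r ∈ φ.range := by
    intro r
    have hu : IsUnit (chevB2.xMat F r 1) := by
      rw [← map_one e, xMat_map]
      refine (?_ : IsUnit (chevB2.xMat (ZMod 2) r 1)).map e.toRingHom.mapMatrix
      exact IsUnit.of_mul_eq_one (chevB2.xMat (ZMod 2) r 1) (gen_sq r)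
    let g : ↥(chevB2.group F) := ⟨hu.unit, Subgroup.subset_closure ⟨r, 1, rfl⟩⟩
    refine ⟨g, huniq _ _ _ (hσ _ g.2) ⟨?_, fun i => ?_⟩⟩
    · show chevB2.xMat F r 1 *ᵥ _ = _
      rw [← map_one e, xMat_map, hz, hmv, (gen_step r).1]
    · show chevB2.xMat F r 1 *ᵥ _ = _ ∨ chevB2.xMat F r 1 *ᵥ _ = _
      rw [← map_one e, xMat_map, hw, hw, hz, hmv, hadd]
      exact (gen_step r).2 i |>.imp (congrArg (e ∘ ·)) (congrArg (e ∘ ·))
  have hcyc : genPerm (rt 0) * genPerm (rt 7) * genPerm (rt 6) * genPerm (rt 3) * genPerm (rt 1) = finRotate 6 := by decide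
  have hsurj : Function.Surjective φ := by
    rw [← MonoidHom.range_eq_top, eq_top_iff, ← Equiv.Perm.closure_cycle_adjacent_swap
      (isCycle_finRotate (n := 4)) support_finRotate 0, Subgroup.closure_le]
    rintro x (rfl | rfl)
    · rw [← hcyc]
      exact mul_mem (mul_mem (mul_mem (mul_mem (hgen (rt 0)) (hgen (rt 7))) (hgen (rt 6))) (hgen (rt 3))) (hgen (rt 1))
    · have : Equiv.swap (0 : Fin 6) (finRotate 6 0) = genPerm (rt 1) := by decide
      rw [this]
      exact hgen (rt 1)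
  have hc : Nat.card ↥(chevB2.group F) = Nat.card (Equiv.Perm (Fin 6)) := by
    have := S1060.result hF
    rw [Nat.card_eq_fintype_card (α := Equiv.Perm (Fin 6)), Fintype.card_perm, Fintype.card_fin]
    norm_num at this
    rw [this]; rfl
  haveI : Finite ↥(chevB2.group F) := inferInstance
  exact ⟨MulEquiv.ofBijective φ ((Nat.bijective_iff_surjective_and_card φ).2 ⟨hsurj, hc⟩)⟩

end Cfsg.Agent.S1058
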