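import Cfsg.Statements.S1075
import Cfsg.Agent.Ree3.Nontrivial
import Cfsg.Agent.S1069
import Cfsg.Agent.Lib.LinearGroup.Card
-- import your own Cfsg.Agent.* helpers here

set_option autoImplicit false
open Cfsg

namespace Cfsg.Agent.S1075

open Cfsg.Agent.Ree3

/-- The derived subgroup of ²G₂(3) (θ = identity over the field with three elements) has order 504 = 1512/3 and is isomorphic to PSL₂ over the field with eight elements. -/
theorem result {L : Type*} [Field L] [Fintype L] (hL : Fintype.card L = 8) :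
    Nat.card ↥(commutator ↥(Cfsg.Lie.twistedG2 (ZMod 3) 1)) = 504 ∧
      Nonempty (↥(commutator ↥(Cfsg.Lie.twistedG2 (ZMod 3) 1)) ≃* Matrix.ProjectiveSpecialLinearGroup (Fin 2) L) := by
  classical
  have hG : Nat.card ↥(Cfsg.Lie.twistedG2 (ZMod 3) 1) = 1512 := by
    have h := Cfsg.Agent.S1069.result (K := ZMod 3) (m := 0) (ZMod.card 3)
    simpa using h
  obtain ⟨φ, e, he, he1⟩ : ∃ (φ : Matrix.SpecialLinearGroup (Fin 2) L →* ↥(Cfsg.Lie.twistedG2 (ZMod 3) 1))
      (e : ↥(Cfsg.Lie.twistedG2 (ZMod 3) 1)), e ∈ φ.range ∧ e ≠ 1 := by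
    obtain ⟨h, hh⟩ := (inG_u100.append inG_u100).append inG_v100
    obtain ⟨e, he⟩ := (inG_v100.append inG_u001).append inG_v010
    obtain ⟨n, hn⟩ := (inG_u010.append inG_v010).append inG_v010
    let v : ↥(Cfsg.Lie.twistedG2 (ZMod 3) 1) →* Matrix Cfsg.Lie.chevG2.Idx Cfsg.Lie.chevG2.Idx (ZMod 3) :=
      (Units.coeHom _).comp (Cfsg.Lie.twistedG2 (ZMod 3) 1).subtype
    have vinj : Function.Injective v := fun a b hab => Subtype.ext (Units.ext hab)
    have vh : v h = wm wh := hh
    have ve : v e = wm we := he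
    have vn : v n = wm wn := hn
    obtain ⟨c1, c2, c3, c4, c5, c6, c7, c8, c9, c10, c11⟩ := checks
    have vinv : ∀ (a : ↥(Cfsg.Lie.twistedG2 (ZMod 3) 1)) (w : List (ℕ × ℤ)), v a = wm w →
        chk (w ++ invW w) [] = true → v a⁻¹ = wm (invW w) := by
      intro a w ha hc
      have h1 : v a * wm (invW w) = 1 := by rw [ha, ← wm_append, wm_of_chk hc, wm_nil]
      calc v a⁻¹ = v a⁻¹ * (v a * wm (invW w)) := by rw [h1, mul_one]
        _ = wm (invW w) := by rw [← mul_assoc, ← map_mul, inv_mul_cancel, map_one, one_mul]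
    have vhi := vinv h wh vh c9
    have vh2 := vinv (h * h) (wh ++ wh) (by rw [map_mul, vh, wm_append]) c10
    have vh3 := vinv (h * h * h) (wh ++ wh ++ wh) (by rw [map_mul, map_mul, vh, wm_append, wm_append]) c11
    have R : Rel8 h e n := by
      refine ⟨vinj ?_, vinj ?_, vinj ?_, ?_, vinj ?_, ?_, ?_, vinj ?_⟩
      · rw [map_mul, ve, ← wm_append, wm_of_chk c1, wm_nil, map_one]
      · rw [map_mul, vn, ← wm_append, wm_of_chk c2, wm_nil, map_one]
      · rw [pow_succ, pow_succ, pow_succ, pow_succ, pow_succ, pow_succ, pow_one]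
        simp only [map_mul, vh, ← wm_append]
        rw [wm_of_chk c3, wm_nil, map_one]
      · refine eq_inv_of_mul_eq_one_left (vinj ?_)
        simp only [map_mul, vh, vn, ← wm_append]
        rw [wm_of_chk c4, wm_nil, map_one]
      · simp only [map_mul, ve, vn, ← wm_append]
        rw [wm_of_chk c5]
      · refine vinj ?_
        simp only [map_mul, ve, vh, vhi, ← wm_append, ← List.append_assoc]
        exact wm_of_chk c6
      · refine vinj ?_
        simp only [map_mul, vh2, ve, vh]
        simp only [← wm_append]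
        simp only [← List.append_assoc]
        exact wm_of_chk c7
      · rw [map_mul, map_mul, map_mul, map_mul, vh3]
        simp only [map_mul, ve, vh, vhi, ← wm_append, ← List.append_assoc]
        exact wm_of_chk c8
    obtain ⟨φ, hφ⟩ := exists_hom hL R
    refine ⟨φ, e, hφ, fun h1 => we_ne ?_⟩
    rw [← ve, h1, map_one]
  have h2 : (2 : L) = 0 := (exists_delta hL).1
  have hbot : Subgroup.center (Matrix.SpecialLinearGroup (Fin 2) L) = ⊥ := by
    rw [eq_bot_iff]
    intro z hz
    obtain ⟨r, hr, hrz⟩ := Matrix.SpecialLinearGroup.mem_center_iff.1 hz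
    rw [Fintype.card_fin] at hr
    have hr1 : r = 1 := by
      have : (r - 1) ^ 2 = 0 := by linear_combination hr + (1 - r) * h2
      exact sub_eq_zero.1 ((pow_eq_zero_iff two_ne_zero).1 this)
    rw [Subgroup.mem_bot]
    apply Subtype.ext
    rw [← hrz, hr1, map_one]
    rfl
  let π : Matrix.ProjectiveSpecialLinearGroup (Fin 2) L →* ↥(Cfsg.Lie.twistedG2 (ZMod 3) 1) :=
    QuotientGroup.lift _ φ (by rw [hbot]; exact bot_le)
  have hPc : Nat.card (Matrix.ProjectiveSpecialLinearGroup (Fin 2) L) = 504 := by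
    have h := Cfsg.Agent.LinearGroup.gcd_mul_card_PSL_two (F := L)
    rw [Nat.card_eq_fintype_card (α := L), hL] at h
    norm_num at h
    rw [Nat.card_eq_fintype_card]; exact h
  haveI hsim : IsSimpleGroup (Matrix.ProjectiveSpecialLinearGroup (Fin 2) L) :=
    Matrix.ProjectiveSpecialLinearGroup.rank_two_simple (by rw [Nat.card_eq_fintype_card, hL]; omega)
  have hπ : Function.Injective π := by
    rcases π.normal_ker.eq_bot_or_eq_top with h | h
    · exact (MonoidHom.ker_eq_bot_iff π).1 h
    · obtain ⟨g, rfl⟩ := he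
      exact absurd (DFunLike.congr_fun ((MonoidHom.ker_eq_top_iff).1 h)
        (QuotientGroup.mk g)) (fun h' => he1 (by simpa [π] using h'))
  have hnc : commutator (Matrix.ProjectiveSpecialLinearGroup (Fin 2) L) = ⊤ := by
    rcases (inferInstance : (commutator (Matrix.ProjectiveSpecialLinearGroup (Fin 2) L)).Normal).eq_bot_or_eq_top with h | h
    · haveI hcomm := (commutator_eq_bot_iff _).1 h
      obtain ⟨x, hx⟩ := exists_prime_orderOf_dvd_card' 2 (G := Matrix.ProjectiveSpecialLinearGroup (Fin 2) L)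
        (by rw [hPc]; norm_num)
      haveI : (Subgroup.zpowers x).Normal := Subgroup.normal_of_isMulCommutative _
      have hc2 : Nat.card (Subgroup.zpowers x) = 2 := by rw [Nat.card_zpowers, hx]
      rcases (inferInstance : (Subgroup.zpowers x).Normal).eq_bot_or_eq_top with h | h <;> rw [h] at hc2
      · simp at hc2
      · rw [Subgroup.card_top, hPc] at hc2; omega
    · exact h
  set S := π.range with hSdef
  have hSc : Nat.card ↥S = 504 := by
    rw [← hPc]; exact (Nat.card_congr (MonoidHom.ofInjective hπ).toEquiv).symm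
  have hSi : S.index = 3 := by
    have := S.card_mul_index
    rw [hSc, hG] at this
    omega
  have hSle : S ≤ commutator _ := by
    rw [hSdef, MonoidHom.range_eq_map, ← hnc, map_commutator_eq]
    exact Subgroup.commutator_mono le_top le_top
  haveI hSn : S.Normal := by
    have hS2 : S.index = 3 := hSi
    haveI : IsSimpleGroup ↥S := (MonoidHom.ofInjective hπ).symm.isSimpleGroup
    rcases (inferInstance : (S.normalCore.subgroupOf S).Normal).eq_bot_or_eq_top with h | h
    · exfalso
      have hle : S.normalCore ≤ S := Subgroup.normalCore_le S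
      have hb : S.normalCore = ⊥ := by
        rw [← Subgroup.map_subgroupOf_eq_of_le hle, h, Subgroup.map_bot]
      haveI : Fact True := ⟨trivial⟩
      have hd := Subgroup.index_ker (MulAction.toPermHom ↥(Cfsg.Lie.twistedG2 (ZMod 3) 1)
        (↥(Cfsg.Lie.twistedG2 (ZMod 3) 1) ⧸ S))
      rw [← Subgroup.normalCore_eq_ker, hb, Subgroup.index_bot, hG] at hd
      have := Subgroup.card_le_card_group (MulAction.toPermHom ↥(Cfsg.Lie.twistedG2 (ZMod 3) 1)
        (↥(Cfsg.Lie.twistedG2 (ZMod 3) 1) ⧸ S)).range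
      rw [← hd, Nat.card_perm, ← Subgroup.index_eq_card, hS2] at this
      norm_num at this
    · have heq : S.normalCore = S :=
        le_antisymm (Subgroup.normalCore_le S) (Subgroup.subgroupOf_eq_top.1 h)
      rw [← heq]; infer_instance
  have hle : commutator _ ≤ S := by
    haveI : Fact (Nat.Prime 3) := ⟨Nat.prime_three⟩
    haveI : IsCyclic (↥(Cfsg.Lie.twistedG2 (ZMod 3) 1) ⧸ S) :=
      isCyclic_of_prime_card (p := 3) (by rw [← Subgroup.index_eq_card, hSi])
    let _ := IsCyclic.commGroup (α := ↥(Cfsg.Lie.twistedG2 (ZMod 3) 1) ⧸ S)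
    have := Abelianization.commutator_subset_ker (QuotientGroup.mk' S)
    rwa [QuotientGroup.ker_mk'] at this
  have heq : commutator _ = S := le_antisymm hle hSle
  refine ⟨by rw [heq, hSc], ⟨(MulEquiv.subgroupCongr heq).trans (MonoidHom.ofInjective hπ).symm⟩⟩

end Cfsg.Agent.S1075
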