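import Cfsg.Statements.S1078
import Cfsg.Agent.ChevGroup.Steinberg.All
import Cfsg.Agent.ChevGroup.Steinberg.Center

set_option autoImplicit false
open Cfsg

namespace Cfsg.Agent.S1078

/-- For G₂, F₄, E₈ the presented group has trivial centre (the universal and adjoint groups coincide). -/
theorem result {K : Type*} [Field K] (D : Cfsg.Lie.ChevalleyDatum) (hD : D ∈ [Cfsg.Lie.chevG2, Cfsg.Lie.chevF4, Cfsg.Lie.chevE8]) :
    Subgroup.center (D.SteinbergGroup K) = ⊥ := by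
  simp only [List.mem_cons, List.not_mem_nil, or_false] at hD
  rcases hD with rfl | rfl | rfl
  · exact ChevGroup.Stb.center_eq_bot ChevGroup.Stb.certG2 ChevGroup.TypeG2.model
      ChevGroup.TypeG2.wit_ok ChevGroup.TypeG2.longest_ok
      (M := (!![2, 1; 3, 2] : Matrix (Fin 2) (Fin 2) ℤ)) (by decide +kernel)
  · exact ChevGroup.Stb.center_eq_bot ChevGroup.Stb.certF4 ChevGroup.TypeF4.model
      ChevGroup.TypeF4.wit_ok ChevGroup.TypeF4.longest_ok
      (M := (!![2, 3, 2, 1; 3, 6, 4, 2; 4, 8, 6, 3; 2, 4, 3, 2] : Matrix (Fin 4) (Fin 4) ℤ))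
      (by decide +kernel)
  · exact ChevGroup.Stb.center_eq_bot ChevGroup.Stb.certE8 ChevGroup.TypeE8.model
      ChevGroup.TypeE8.wit_ok ChevGroup.TypeE8.longest_ok
      (M := (!![4, 5, 7, 10, 8, 6, 4, 2; 5, 8, 10, 15, 12, 9, 6, 3; 7, 10, 14, 20, 16, 12, 8, 4;
        10, 15, 20, 30, 24, 18, 12, 6; 8, 12, 16, 24, 20, 15, 10, 5; 6, 9, 12, 18, 15, 12, 8, 4;
        4, 6, 8, 12, 10, 8, 6, 3; 2, 3, 4, 6, 5, 4, 3, 2] : Matrix (Fin 8) (Fin 8) ℤ))
      (by decide +kernel)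

end Cfsg.Agent.S1078
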