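import Cfsg.Statements.S1079
import Cfsg.Agent.ChevGroup.Steinberg.All
import Cfsg.Agent.ChevGroup.Minuscule.All

set_option autoImplicit false
open Cfsg

namespace Cfsg.Agent.S1079

/-- `|Z(Ḡ)| = gcd(3, q-1)` for E₆ and `gcd(2, q-1)` for E₇ over a field with `q` elements (the centre is dual to the weight lattice modulo the root lattice). -/
theorem result {K : Type*} [Field K] [Fintype K] {q : ℕ} (hq : Fintype.card K = q)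
    (p : Cfsg.Lie.ChevalleyDatum × ℕ) (hp : p ∈ [(Cfsg.Lie.chevE6, 3), (Cfsg.Lie.chevE7, 2)]) :
    Nat.card (Subgroup.center (p.1.SteinbergGroup K)) = Nat.gcd p.2 (q - 1) := by
  simp only [List.mem_cons, List.not_mem_nil, or_false] at hp
  rcases hp with rfl | rfl
  · subst hq
    rw [ChevGroup.Stb.card_center ChevGroup.Stb.certE6 ChevGroup.TypeE6.model
      ChevGroup.TypeE6.wit_ok ChevGroup.TypeE6.longest_ok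
      (U := (!![-1, 0, 0, 0, 0, 0; 0, -1, 0, 0, 0, 0; 1, -2, 0, -1, 0, 0; 2, -3, 0, -2, -1, 0; -2, 1, -1, 0, 0, 0; -5, 0, -4, -3, -2, -1] : Matrix (Fin 6) (Fin 6) ℤ))
      (U' := (!![-1, 0, 0, 0, 0, 0; 0, -1, 0, 0, 0, 0; 2, -1, 0, 0, -1, 0; -1, 2, -1, 0, 0, 0; 0, -1, 2, -1, 0, 0; 0, 0, -1, 2, 4, -1] : Matrix (Fin 6) (Fin 6) ℤ))
      (V := (!![0, 0, 0, 0, 1, -2; 0, 0, 0, 0, 2, -3; 1, 0, 0, 0, 2, -4; 0, 1, 0, 0, 4, -6; 0, 0, 1, 0, 4, -5; 0, 0, 0, 1, 4, -4] : Matrix (Fin 6) (Fin 6) ℤ))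
      (V' := (!![-2, 0, 1, 0, 0, 0; 0, -2, 0, 1, 0, 0; 2, -3, 0, 0, 1, 0; 4, -4, 0, 0, 0, 1; -3, 2, 0, 0, 0, 0; -2, 1, 0, 0, 0, 0] : Matrix (Fin 6) (Fin 6) ℤ))
      (d := (![1, 1, 1, 1, 1, 3] : Fin 6 → ℕ))
      (by decide +kernel) (by decide +kernel) (by decide +kernel) (by decide +kernel)
      (ChevGroup.Minu.psi_injective _ ChevGroup.Minu.tableE6 ChevGroup.Minu.weightE6
        ChevGroup.Minu.spanE6)]
    show (∏ i : Fin 6, _) = _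
    simp [Fin.prod_univ_succ, Nat.gcd_comm]
  · subst hq
    rw [ChevGroup.Stb.card_center ChevGroup.Stb.certE7 ChevGroup.TypeE7.model
      ChevGroup.TypeE7.wit_ok ChevGroup.TypeE7.longest_ok
      (U := (!![-1, 0, 0, 0, 0, 0, 0; 0, -1, 0, 0, 0, 0, 0; 1, -2, 0, -1, 0, 0, 0; 2, -3, 0, -2, -1, 0, 0; 3, -4, 0, -3, -2, -1, 0; -2, 1, -1, 0, 0, 0, 0; -4, -1, -4, -4, -3, -2, -1] : Matrix (Fin 7) (Fin 7) ℤ))
      (U' := (!![-1, 0, 0, 0, 0, 0, 0; 0, -1, 0, 0, 0, 0, 0; 2, -1, 0, 0, 0, -1, 0; -1, 2, -1, 0, 0, 0, 0; 0, -1, 2, -1, 0, 0, 0; 0, 0, -1, 2, -1, 0, 0; 0, 0, 0, -1, 2, 4, -1] : Matrix (Fin 7) (Fin 7) ℤ))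
      (V := (!![0, 0, 0, 0, 0, 1, -2; 0, 0, 0, 0, 0, 2, -3; 1, 0, 0, 0, 0, 2, -4; 0, 1, 0, 0, 0, 4, -6; 0, 0, 1, 0, 0, 4, -5; 0, 0, 0, 1, 0, 4, -4; 0, 0, 0, 0, 1, 4, -3] : Matrix (Fin 7) (Fin 7) ℤ))
      (V' := (!![-2, 0, 1, 0, 0, 0, 0; 0, -2, 0, 1, 0, 0, 0; 2, -3, 0, 0, 1, 0, 0; 4, -4, 0, 0, 0, 1, 0; 6, -5, 0, 0, 0, 0, 1; -3, 2, 0, 0, 0, 0, 0; -2, 1, 0, 0, 0, 0, 0] : Matrix (Fin 7) (Fin 7) ℤ))
      (d := (![1, 1, 1, 1, 1, 1, 2] : Fin 7 → ℕ))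
      (by decide +kernel) (by decide +kernel) (by decide +kernel) (by decide +kernel)
      (ChevGroup.Minu.psi_injective _ ChevGroup.Minu.tableE7 ChevGroup.Minu.weightE7
        ChevGroup.Minu.spanE7)]
    show (∏ i : Fin 7, _) = _
    simp [Fin.prod_univ_succ, Nat.gcd_comm]

end Cfsg.Agent.S1079
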