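import Cfsg.Statements.S1081
import Cfsg.Agent.ChevGroup.Graph.Cert

set_option autoImplicit false
open Cfsg

namespace Cfsg.Agent.S1081

open ChevGroup.Graph in
theorem of_data {F : Type*} [Field F] {D : Cfsg.Lie.ChevalleyDatum} {L : List ℕ} {P : Data}
    (hG : ChevCore.Good D) (hP : P.checkB D = true) (hL : P.pI = L) :
    ∃ α : ↥(D.group F) ≃* ↥(D.group F), ∀ (g : ↥(D.group F)) (i : ℕ) (t : F), i < D.rank →
      (((g : GL D.Idx F) : Matrix D.Idx D.Idx F) = D.x F (D.simple i) t →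
        ((α g : GL D.Idx F) : Matrix D.Idx D.Idx F) = D.x F (D.simple (L.getD i 0)) t) ∧
      (((g : GL D.Idx F) : Matrix D.Idx D.Idx F) = D.x F (D.neg (D.simple i)) t →
        ((α g : GL D.Idx F) : Matrix D.Idx D.Idx F) = D.x F (D.neg (D.simple (L.getD i 0))) t) := by
  obtain ⟨α, hα⟩ := exists_aut hG hP F
  have h := Data.ok_of_checkB hP
  refine ⟨α, fun g i t hi => ?_⟩
  obtain ⟨hlt, hρ, he⟩ := h.simple i hi
  have hp := hG.simple_lt hi
  subst hL
  constructor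
  · intro hg
    rw [hα g _ t hp hg, hρ, he]
    simp [Data.πf]
  · intro hg
    rw [hα g _ t (hG.neg_lt hp) hg, (h.root _ hp).2.1, hρ, (h.root _ hp).2.2.2.1, he]
    simp [Data.πf]

/-- Graph automorphisms: for E₆ with ρ = (p₁ p₆)(p₃ p₅) and for D₄ with ρ the 3-cycle on the outer nodes there is a group automorphism sending `x_p(t) ↦ x_{ρ(p)}(t)` and `x_{-p}(t) ↦ x_{-ρ(p)}(t)` for every fundamental root `p`. -/
theorem result {F : Type*} [Field F] (p : Cfsg.Lie.ChevalleyDatum × List ℕ)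
    (hp : p ∈ [(Cfsg.Lie.chevE6, [5, 1, 4, 3, 2, 0]), (Cfsg.Lie.chevD4, [2, 1, 3, 0]), (Cfsg.Lie.chevD4, [3, 1, 0, 2])]) :
    ∃ α : ↥(p.1.group F) ≃* ↥(p.1.group F), ∀ (g : ↥(p.1.group F)) (i : ℕ) (t : F), i < p.1.rank →
      (((g : GL p.1.Idx F) : Matrix p.1.Idx p.1.Idx F) = p.1.x F (p.1.simple i) t →
        ((α g : GL p.1.Idx F) : Matrix p.1.Idx p.1.Idx F) = p.1.x F (p.1.simple (p.2.getD i 0)) t) ∧
      (((g : GL p.1.Idx F) : Matrix p.1.Idx p.1.Idx F) = p.1.x F (p.1.neg (p.1.simple i)) t →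
        ((α g : GL p.1.Idx F) : Matrix p.1.Idx p.1.Idx F) = p.1.x F (p.1.neg (p.1.simple (p.2.getD i 0))) t) := by
  simp only [List.mem_cons, List.not_mem_nil, or_false] at hp
  rcases hp with rfl | rfl | rfl
  · exact of_data (ChevCore.good_of_mem (by simp)) ChevGroup.Graph.e6_ok rfl
  · exact of_data (ChevCore.good_of_mem (by simp)) ChevGroup.Graph.d4a_ok rfl
  · exact of_data (ChevCore.good_of_mem (by simp)) ChevGroup.Graph.d4b_ok rfl

end Cfsg.Agent.S1081
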