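import Cfsg.Statements.S1084
import Cfsg.Agent.ChevGroup.CubicE6.Equiv
-- import your own Cfsg.Agent.* helpers here

set_option autoImplicit false
open Cfsg

namespace Cfsg.Agent.S1084

/-- E₆ via the 27-dimensional cubic form: for a finite field with at least three elements, (isometries of the cubic form) / centre ≅ the Chevalley group E₆(F). -/
theorem result {F : Type*} [Field F] [Fintype F] (hF : 3 ≤ Fintype.card F) : Nonempty (Cfsg.Lie.E6 F ≃* ↥(Cfsg.Lie.chevE6.group F)) := by
  classical
  refine ChevGroup.CubicE6.equiv_of_big ?_
  by_contra h
  simp only [ChevGroup.CubicE6.Big, not_exists, not_and, not_not] at h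
  have hle : (Finset.univ : Finset F) ⊆ {0, 1} := fun t _ => by
    rcases eq_or_ne t 0 with h0 | h0
    · simp [h0]
    · simp [h t h0]
  have := (Finset.card_le_card hle).trans Finset.card_le_two
  rw [Finset.card_univ] at this
  omega

end Cfsg.Agent.S1084
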