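import Cfsg.Statements.S1097
import Cfsg.Agent.ChevGroup.Steinberg.All

set_option autoImplicit false
open Cfsg

namespace Cfsg.Agent.S1097

/-- Any homomorphism from the presented group to the Chevalley group with `x̄_r(t) ↦ x_r(t)` has kernel contained in `H̄ = ⟨h̄_p(t) : p fundamental, t ≠ 0⟩`. -/
theorem result {K : Type*} [Field K] (D : Cfsg.Lie.ChevalleyDatum) (hD : D ∈ [Cfsg.Lie.chevG2, Cfsg.Lie.chevB2, Cfsg.Lie.chevD4, Cfsg.Lie.chevF4, Cfsg.Lie.chevE6, Cfsg.Lie.chevE7, Cfsg.Lie.chevE8]) (θ : D.SteinbergGroup K →* ↥(D.group K))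
    (hθ : ∀ (r : ℕ) (t : K), r < D.nroots → ((θ (D.stGen K r t) : GL D.Idx K) : Matrix D.Idx D.Idx K) = D.x K r t) :
    θ.ker ≤ Subgroup.closure {h | ∃ (i : ℕ) (t : K), i < D.rank ∧ t ≠ 0 ∧ h = PresentedGroup.mk (D.steinbergRels K) (D.stH (D.simple i) t)} := by
  obtain ⟨hC, T, ⟨wit, hwit⟩, -⟩ := ChevGroup.Stb.setup_of_mem hD
  have hC' := hC.toUGood.toCommGood
  have hθ' : ∀ g, ((θ g : GL D.Idx K)) = ChevGroup.Stb.thG hC' g := by
    intro g
    refine DFunLike.congr_fun (f := (D.group K).subtype.comp θ) (g := ChevGroup.Stb.thG hC') ?_ g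
    refine PresentedGroup.ext fun ⟨r, t⟩ => Units.ext ?_
    have h := hθ r.val t r.isLt
    have e : (PresentedGroup.of (r, t) : D.SteinbergGroup K) = D.stGen K r.val t := by
      simp [PresentedGroup.of, Lie.ChevalleyDatum.stGen, Lie.ChevalleyDatum.stX]
    rw [MonoidHom.comp_apply, Subgroup.coe_subtype, e, h]
    show _ = ((ChevGroup.Stb.thG hC' (ChevGroup.Stb.xb D K r.val t) : GL D.Idx K) :
      Matrix D.Idx D.Idx K)
    rw [ChevGroup.Stb.thG_xb, hC'.toGood.val_xg]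
  intro g hg
  have h1 : ChevGroup.Stb.th hC' g = 1 := by
    rw [ChevGroup.Stb.th_eq_one, ← hθ', MonoidHom.mem_ker.1 hg]; rfl
  refine Subgroup.closure_mono ?_ (ChevGroup.Stb.ker_le_Hb T hC hC' hwit h1)
  rintro _ ⟨i, t, hi, ht, rfl⟩
  exact ⟨i, t, hi, ht, (ChevGroup.Stb.mk_stH _ t).symm⟩

end Cfsg.Agent.S1097
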