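import Cfsg.Statements.S1100
import Cfsg.Agent.ChevNormal82.Main

set_option autoImplicit false
open Cfsg

namespace Cfsg.Agent.S1100

/-- Canonical form `g = b n_w u` (`b ∈ B`, `u ∈ U_w⁻ = ⟨X_r : r > 0, n_w X_r n_w⁻¹ ≤ V⟩`): such a decomposition exists for every element of the group; the coset `n_w H` is determined by `g`; and for a fixed representative `n_w` the factors `b`, `u` are unique. -/
theorem result {F : Type*} [Field F] (D : Cfsg.Lie.ChevalleyDatum) (hD : D ∈ [Cfsg.Lie.chevG2, Cfsg.Lie.chevB2, Cfsg.Lie.chevD4, Cfsg.Lie.chevF4, Cfsg.Lie.chevE6, Cfsg.Lie.chevE7, Cfsg.Lie.chevE8]) :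
    (∀ g ∈ D.group F, ∃ b ∈ D.borelSubgroup F, ∃ n ∈ D.monomialSubgroup F,
      ∃ u ∈ Subgroup.closure {x : GL D.Idx F | ∃ (r : ℕ) (t : F), D.IsPosRoot r ∧
            (D.rootSubgroup F r).map (MulAut.conj n).toMonoidHom ≤ D.negUnipotent F ∧ (x : Matrix D.Idx D.Idx F) = D.x F r t},
        g = b * n * u) ∧
    (∀ (b b' n n' u u' : GL D.Idx F), b ∈ D.borelSubgroup F → b' ∈ D.borelSubgroup F →
      n ∈ D.monomialSubgroup F → n' ∈ D.monomialSubgroup F →
      u ∈ Subgroup.closure {x : GL D.Idx F | ∃ (r : ℕ) (t : F), D.IsPosRoot r ∧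
            (D.rootSubgroup F r).map (MulAut.conj n).toMonoidHom ≤ D.negUnipotent F ∧ (x : Matrix D.Idx D.Idx F) = D.x F r t} →
      u' ∈ Subgroup.closure {x : GL D.Idx F | ∃ (r : ℕ) (t : F), D.IsPosRoot r ∧
            (D.rootSubgroup F r).map (MulAut.conj n').toMonoidHom ≤ D.negUnipotent F ∧ (x : Matrix D.Idx D.Idx F) = D.x F r t} →
      b * n * u = b' * n' * u' → n⁻¹ * n' ∈ D.diagonalSubgroup F ∧ (n = n' → b = b' ∧ u = u')) := by
  obtain ⟨T, ⟨wit, hwit⟩, -⟩ := Cfsg.Agent.ChevCore.exists_model hD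
  have hC := Cfsg.Agent.ChevCore.commGood_of_mem hD
  let K : Cfsg.Agent.ChevGroup.Rels D F := Cfsg.Agent.Chev54.rels hC F
  set R := T.rel K with hR
  have hN := Cfsg.Agent.ChevCore.N_map (F := F) T hC
  refine ⟨fun g hg => ?_, ?_⟩
  · obtain ⟨b, hb, w, -, u, hu, e⟩ := Cfsg.Agent.ChevNormal82.exists_form R (g := ⟨g, hg⟩)
      (by rw [T.group_top _ hwit]; exact Subgroup.mem_top _)
    refine ⟨(b : GL D.Idx F), T.B_map K ▸ ⟨b, hb, rfl⟩, ((R.nw w : ↥(D.group F)) : GL D.Idx F),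
      hN ▸ ⟨R.nw w, Cfsg.Agent.ChevCore.nw_mem_engN R w, rfl⟩, (u : GL D.Idx F),
      Cfsg.Agent.ChevNormal82.Uw_map_le T K w ⟨u, hu, rfl⟩, congrArg Subtype.val e⟩
  · intro b b' n n' u u' hb hb' hn hn' hu hu' e
    rw [← T.B_map K] at hb hb'
    rw [← hN] at hn hn'
    obtain ⟨b, hb, rfl⟩ := hb
    obtain ⟨b', hb', rfl⟩ := hb'
    obtain ⟨n, hn, rfl⟩ := hn
    obtain ⟨n', hn', rfl⟩ := hn'
    obtain ⟨v, hv, hvn, rfl⟩ := Cfsg.Agent.ChevNormal82.Uneg_le T K n hu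
    obtain ⟨v', hv', hvn', rfl⟩ := Cfsg.Agent.ChevNormal82.Uneg_le T K n' hu'
    have e' : b * n * v = b' * n' * v' := Subtype.ext e
    constructor
    · rw [← T.H_map K]
      refine ⟨n⁻¹ * n', Cfsg.Agent.ChevNormal82.unique_N (T.shapeR K)
        (fun p hp => Cfsg.Agent.ChevNormal82.pres_pos T K hp) hn hn'
        (mul_mem (inv_mem hb') hb) (mul_mem (R.U_le_B hv') (inv_mem (R.U_le_B hv))) ?_, rfl⟩
      calc b'⁻¹ * b * n = b'⁻¹ * (b * n * v) * v⁻¹ := by group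
        _ = _ := by rw [e']; group
    · intro hnn
      have hnn' : n = n' := Subtype.ext hnn
      subst hnn'
      have hmid : n * (v * v'⁻¹) * n⁻¹ = b⁻¹ * b' := by
        calc n * (v * v'⁻¹) * n⁻¹ = b⁻¹ * (b * n * v) * v'⁻¹ * n⁻¹ := by group
          _ = _ := by rw [e']; group
      have h1 : n * (v * v'⁻¹) * n⁻¹ ∈ Cfsg.Agent.ChevNormal82.negU R := by
        have := mul_mem hvn (inv_mem hvn')
        simpa [mul_assoc] using this
      have h2 : b⁻¹ * b' = 1 := Cfsg.Agent.ChevNormal82.B_inter_negU (T.shapeR K)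
        (mul_mem (inv_mem hb) hb') (hmid ▸ h1)
      have hbb : b = b' := inv_mul_eq_one.1 h2
      subst hbb
      exact ⟨rfl, congrArg Subtype.val (mul_left_cancel e')⟩

end Cfsg.Agent.S1100
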