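import Cfsg.Statements.S1118
import Cfsg.Agent.Lib.RankOne.Basic

set_option autoImplicit false
open Cfsg

namespace Cfsg.Agent.S1118

open MulAction Cfsg.Agent.RankOne

/-- In the rank-one set-up (`G` finite and doubly transitive on `Ω`, `t` an involution moving `a`, `Q` normal in `G_a` with `G_a = Q D`, `Q ⊓ D = 1` for the two-point stabiliser `D = G_a ⊓ G_{t • a}`, `|Q|` even, `|D|` odd), the normaliser of a subset of `Q` containing a non-identity element lies in `G_a`; consequently `N_G(Q) = N_G(G_a) = G_a`. -/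
theorem result {G Ω : Type*} [Group G] [Finite G] [MulAction G Ω] {a : Ω} {t : G} {Q : Subgroup G}
    (hS : Cfsg.IsRankOneSetup G Ω a t Q) :
    (∀ X : Set G, X ⊆ (Q : Set G) → (∃ x ∈ X, x ≠ 1) → Subgroup.normalizer X ≤ MulAction.stabilizer G a) ∧
      Subgroup.normalizer (Q : Set G) = MulAction.stabilizer G a ∧
      Subgroup.normalizer (MulAction.stabilizer G a : Set G) = MulAction.stabilizer G a := by
  have key : ∀ X : Set G, X ⊆ (Q : Set G) → (∃ x ∈ X, x ≠ 1) →
      Subgroup.normalizer X ≤ stabilizer G a := by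
    rintro X hX ⟨x, hx, hx1⟩ g hg
    rw [mem_stabilizer_iff]
    have h : g⁻¹ * x * g ∈ X := by
      rw [(Subgroup.mem_set_normalizer_iff.1 hg) _]
      simpa [mul_assoc] using hx
    refine Q_fixed_eq hS (hX hx) hx1 ?_
    have := Q_fix_a hS (hX h)
    rwa [mul_smul, mul_smul, inv_smul_eq_iff] at this
  obtain ⟨x₀, hx₀, hx₀1⟩ : ∃ x ∈ Q, x ≠ 1 := by
    by_contra hne
    push Not at hne
    have : Q = ⊥ := (Subgroup.eq_bot_iff_forall _).2 hne
    have h := hS.even_card
    rw [this, Subgroup.card_bot] at h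
    exact Nat.not_even_one h
  refine ⟨key, le_antisymm (key _ le_rfl ⟨x₀, hx₀, hx₀1⟩) ?_, le_antisymm ?_ Subgroup.le_normalizer⟩
  · intro g hg
    rw [Subgroup.mem_normalizer_iff]
    intro y
    refine ⟨fun hy => hS.conj_mem g hg y hy, fun hy => ?_⟩
    simpa [mul_assoc] using hS.conj_mem g⁻¹ (inv_mem hg) _ hy
  · intro g hg
    rw [mem_stabilizer_iff]
    have h : g⁻¹ * x₀ * g ∈ stabilizer G a := by
      have := (Subgroup.mem_normalizer_iff.1 (inv_mem hg) x₀).1 (hS.le hx₀)
      simpa using this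
    refine Q_fixed_eq hS hx₀ hx₀1 ?_
    rw [mem_stabilizer_iff, mul_smul, mul_smul, inv_smul_eq_iff] at h
    exact h

end Cfsg.Agent.S1118
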