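import Cfsg.Statements.S1124
import Cfsg.Agent.Lib.RankOne.OddOrder

set_option autoImplicit false
open scoped Pointwise
open Cfsg

namespace Cfsg.Agent.S1124

open Cfsg.Agent.RankOne

lemma mem_normalizer_of_conj_le {M : Type*} [Group M] [Finite M] {H : Subgroup M} {c : M}
    (h : H.map (MulAut.conj c).toMonoidHom ≤ H) : c ∈ Subgroup.normalizer (H : Set M) := by
  have he : H.map (MulAut.conj c).toMonoidHom = H :=
    Subgroup.eq_of_le_of_card_ge h
      (Subgroup.card_map_of_injective (MulEquiv.injective (MulAut.conj c))).ge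
  rw [Subgroup.mem_normalizer_iff]
  intro y
  constructor
  · intro hy; exact h ⟨y, hy, rfl⟩
  · intro hy
    rw [← he] at hy
    obtain ⟨z, hz, e⟩ := hy
    have : z = y := (MulAut.conj c).injective e
    exact this ▸ hz

/-- Let `t` be an element of order 2 of a finite group normalising a subgroup `X` of odd order, `Y = C_X(t)` and `Z` the set of elements of `X` inverted by `t`. Then `(y, z) ↦ y z` is a bijection `Y × Z → X`, so `|X| = |Y| |Z|`, and the subgroup generated by `Z` is normal in `X`. -/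
theorem result {M : Type*} [Group M] [Finite M]
    (t : M) (ht : orderOf t = 2) (X : Subgroup M) (hodd : Odd (Nat.card X))
    (hnorm : ∀ x ∈ X, t * x * t⁻¹ ∈ X) :
    (∀ x ∈ X, ∃! p : M × M, p.1 ∈ X ⊓ Subgroup.centralizer {t} ∧ p.2 ∈ Cfsg.invertedBy X t ∧ x = p.1 * p.2) ∧
      Nat.card X = Nat.card ↥(X ⊓ Subgroup.centralizer {t}) * Nat.card (Cfsg.invertedBy X t) ∧
      ∀ x ∈ X, MulAut.conj x • Subgroup.closure (Cfsg.invertedBy X t) = Subgroup.closure (Cfsg.invertedBy X t) := by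
  have ht2 : t * t = 1 := by rw [← pow_two, ← ht, pow_orderOf_eq_one]
  have ht' := inv_eq_self ht2
  have hcomm : ∀ {c : M}, c ∈ Subgroup.centralizer {t} ↔ t * c = c * t := fun {c} => by
    rw [Subgroup.mem_centralizer_singleton_iff, eq_comm]
  refine ⟨fun x hx => ?_, ?_, ?_⟩
  · obtain ⟨c, i, hc, hct, hi, hit, rfl, -⟩ := odd_decomp ht2 hodd hnorm hx
    refine ⟨(c, i), ⟨Subgroup.mem_inf.2 ⟨hc, hcomm.2 hct⟩, ⟨hi, hit⟩, rfl⟩, ?_⟩
    rintro ⟨c', i'⟩ ⟨hc', hi', e⟩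
    obtain ⟨h1, h2⟩ := odd_decomp_unique hodd hc'.1 (hcomm.1 hc'.2) hi'.1 hi'.2 hc hct hi hit e.symm
    exact Prod.ext h1 h2
  · rw [← Nat.card_prod]
    refine (Nat.card_congr (Equiv.ofBijective
      (fun p : (X ⊓ Subgroup.centralizer {t} : Subgroup M) × Cfsg.invertedBy X t =>
        (⟨p.1 * p.2, mul_mem p.1.2.1 p.2.2.1⟩ : X)) ⟨?_, ?_⟩)).symm
    · rintro ⟨c, i⟩ ⟨c', i'⟩ h
      obtain ⟨h1, h2⟩ := odd_decomp_unique hodd c.2.1 (hcomm.1 c.2.2) i.2.1 i.2.2 c'.2.1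
        (hcomm.1 c'.2.2) i'.2.1 i'.2.2 (congrArg Subtype.val h)
      exact Prod.ext (Subtype.ext h1) (Subtype.ext h2)
    · rintro ⟨x, hx⟩
      obtain ⟨c, i, hc, hct, hi, hit, rfl, -⟩ := odd_decomp ht2 hodd hnorm hx
      exact ⟨(⟨c, Subgroup.mem_inf.2 ⟨hc, hcomm.2 hct⟩⟩, ⟨i, hi, hit⟩), rfl⟩
  · intro x hx
    set H := Subgroup.closure (Cfsg.invertedBy X t) with hH
    suffices hN : ∀ g ∈ X, g ∈ Subgroup.normalizer (H : Set M) by
      rw [Subgroup.pointwise_smul_def]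
      exact Subgroup.mem_normalizer_iff_map_conj_eq.1 (hN x hx)
    intro g hg
    obtain ⟨c, i, hc, hct, hi, hit, rfl, -⟩ := odd_decomp ht2 hodd hnorm hg
    refine mul_mem ?_ (Subgroup.le_normalizer (Subgroup.subset_closure ⟨hi, hit⟩))
    refine mem_normalizer_of_conj_le ?_
    rw [hH, MonoidHom.map_closure, Subgroup.closure_le]
    rintro _ ⟨j, ⟨hjX, hjt⟩, rfl⟩
    refine Subgroup.subset_closure ⟨?_, ?_⟩
    · show c * j * c⁻¹ ∈ X
      exact mul_mem (mul_mem hc hjX) (inv_mem hc)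
    · show t * (c * j * c⁻¹) * t⁻¹ = (c * j * c⁻¹)⁻¹
      have e : t * c * t⁻¹ = c := by rw [hct]; group
      calc t * (c * j * c⁻¹) * t⁻¹ = (t * c * t⁻¹) * (t * j * t⁻¹) * (t * c * t⁻¹)⁻¹ := by group
        _ = _ := by rw [e, hjt]; group

end Cfsg.Agent.S1124
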