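import Cfsg.Statements.S1125
import Cfsg.Agent.Lib.RankOne.Fixed

set_option autoImplicit false
open Cfsg

namespace Cfsg.Agent.S1125

open MulAction Cfsg.Agent.RankOne

/-- In the rank-one set-up (`G` finite and doubly transitive on `Ω`, `t` an involution moving `a`, `Q` normal in `G_a` with `G_a = Q D`, `Q ⊓ D = 1` for the two-point stabiliser `D = G_a ⊓ G_{t • a}`, `|Q|` even, `|D|` odd), let `X ⊆ D` fix at least three points of `Ω`. Then `C_G(X)` is doubly transitive on the fixed-point set of `X`, `|C_Q(X)|` is even, and `C_{G_a}(X) = C_Q(X) C_D(X)`. -/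
theorem result {G Ω : Type*} [Group G] [Finite G] [MulAction G Ω] {a : Ω} {t : G} {Q : Subgroup G}
    (hS : Cfsg.IsRankOneSetup G Ω a t Q)
    (X : Set G) (hX : X ⊆ ((MulAction.stabilizer G a ⊓ MulAction.stabilizer G (t • a)) : Set G))
    (h3 : ∃ b c d : Ω, b ≠ c ∧ b ≠ d ∧ c ≠ d ∧ ∀ x ∈ X, x • b = b ∧ x • c = c ∧ x • d = d) :
    (∀ b₁ b₂ c₁ c₂ : Ω, (∀ x ∈ X, x • b₁ = b₁ ∧ x • b₂ = b₂ ∧ x • c₁ = c₁ ∧ x • c₂ = c₂) →
        b₁ ≠ b₂ → c₁ ≠ c₂ → ∃ g ∈ Subgroup.centralizer X, g • b₁ = c₁ ∧ g • b₂ = c₂) ∧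
      Even (Nat.card ↥(Subgroup.centralizer X ⊓ Q)) ∧
      (Subgroup.centralizer X ⊓ Q) ⊔ (Subgroup.centralizer X ⊓ (MulAction.stabilizer G a ⊓ MulAction.stabilizer G (t • a))) = Subgroup.centralizer X ⊓ MulAction.stabilizer G a := by
  have hX' : X ⊆ (twoStab G a t : Set G) := hX
  obtain ⟨ha, hb⟩ := fixes_twoStab hS hX'
  have h3' : ∃ b c d : Ω, b ≠ c ∧ b ≠ d ∧ c ≠ d ∧ Fixes X b ∧ Fixes X c ∧ Fixes X d := by
    obtain ⟨b, c, d, h1, h2, h4, h⟩ := h3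
    exact ⟨b, c, d, h1, h2, h4, fun x hx => (h x hx).1, fun x hx => (h x hx).2.1,
      fun x hx => (h x hx).2.2⟩
  refine ⟨fun b₁ b₂ c₁ c₂ h hb hc => cent_two_transitive hS h3' (fun x hx => (h x hx).1)
    (fun x hx => (h x hx).2.1) (fun x hx => (h x hx).2.2.1) (fun x hx => (h x hx).2.2.2) hb hc,
    ?_, ?_⟩
  · obtain ⟨u, hu, hui, hua⟩ := cent_swap hS h3' ha hb (ta_ne hS).symm
    obtain ⟨c, hc⟩ := exists_fixed hS hui
    have hXc : Fixes X c := fun x hx =>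
      comm_fix hS hui hc (Subgroup.mem_centralizer_iff.1 hu x hx).symm
    have hca : c ≠ a := fun e => ta_ne hS (by rw [e, hua] at hc; exact hc)
    obtain ⟨g, hg, hgc, -⟩ := cent_two_transitive hS h3' hXc ha ha hXc hca hca.symm
    have hs : IsInv (g * u * g⁻¹) := hui.conj g
    have hsa : (g * u * g⁻¹) • a = a := by
      rw [mul_smul, mul_smul, ← hgc, inv_smul_smul, hc]
    have hm : g * u * g⁻¹ ∈ Subgroup.centralizer X ⊓ Q :=
      Subgroup.mem_inf.2 ⟨mul_mem (mul_mem hg hu) (inv_mem hg), invol_mem_Q hS hs hsa⟩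
    have ho : orderOf (g * u * g⁻¹) = 2 := orderOf_eq_prime (by rw [pow_two, hs.2]) hs.1
    rw [even_iff_two_dvd, ← ho]
    exact Subgroup.orderOf_dvd_natCard _ hm
  · refine le_antisymm (sup_le (inf_le_inf_left _ hS.le) (inf_le_inf_left _ inf_le_left)) ?_
    intro g hg
    obtain ⟨hgX, hga⟩ := Subgroup.mem_inf.1 hg
    have hne : g • t • a ≠ a := fun e => ta_ne hS (smul_left_cancel g (e.trans hga.symm))
    obtain ⟨q, hq, hqb⟩ := regular' hS hne
    have hqX := Q_comm_of_fixes hS ha (ta_ne hS) hb (hb.smul hgX) hq hqb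
    have hd : q⁻¹ * g ∈ Subgroup.centralizer X ⊓ twoStab G a t := by
      refine Subgroup.mem_inf.2 ⟨mul_mem (inv_mem hqX) hgX, Subgroup.mem_inf.2 ⟨?_, ?_⟩⟩ <;>
        rw [mem_stabilizer_iff, mul_smul, inv_smul_eq_iff]
      · rw [Q_fix_a hS hq]; exact hga
      · exact hqb.symm
    rw [show g = q * (q⁻¹ * g) by group]
    exact Subgroup.mul_mem_sup (Subgroup.mem_inf.2 ⟨hqX, hq⟩) hd

end Cfsg.Agent.S1125
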