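import Cfsg.Statements.S1134
import Cfsg.Agent.Lib.RankOne.Fixed

set_option autoImplicit false
open Cfsg

namespace Cfsg.Agent.S1134

open MulAction Cfsg.Agent.RankOne

/-- In the rank-one set-up (`G` finite and doubly transitive on `Ω`, `t` an involution moving `a`, `Q` normal in `G_a` with `G_a = Q D`, `Q ⊓ D = 1` for the two-point stabiliser `D = G_a ⊓ G_{t • a}`, `|Q|` even, `|D|` odd), with the action faithful and `G` containing two distinct commuting involutions, with `V = C_D(t)`: subsets of `V` conjugate in `G` are conjugate in `V`. -/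
theorem result {G Ω : Type*} [Group G] [Finite G] [MulAction G Ω] [FaithfulSMul G Ω] {a : Ω} {t : G} {Q : Subgroup G}
    (hS : Cfsg.IsRankOneSetup G Ω a t Q)
    (h2 : ∃ x y : G, x ≠ 1 ∧ y ≠ 1 ∧ x ≠ y ∧ x * x = 1 ∧ y * y = 1 ∧ x * y = y * x)
    (X : Set G) (hX : X ⊆ (((MulAction.stabilizer G a ⊓ MulAction.stabilizer G (t • a)) ⊓ Subgroup.centralizer {t} : Subgroup G) : Set G)) (g : G)
    (hY : (fun x => g * x * g⁻¹) '' X ⊆ (((MulAction.stabilizer G a ⊓ MulAction.stabilizer G (t • a)) ⊓ Subgroup.centralizer {t} : Subgroup G) : Set G)) :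
    ∃ v ∈ (MulAction.stabilizer G a ⊓ MulAction.stabilizer G (t • a)) ⊓ Subgroup.centralizer {t}, (fun x => v * x * v⁻¹) '' X = (fun x => g * x * g⁻¹) '' X := by
  set V := twoStab G a t ⊓ Subgroup.centralizer {t} with hV
  obtain ⟨c, hc⟩ := exists_fixed hS (t_isInv hS)
  set Y : Set G := (fun x => g * x * g⁻¹) '' X with hYdef
  have hfix : ∀ Z : Set G, Z ⊆ (V : Set G) → Fixes Z a ∧ Fixes Z (t • a) ∧ Fixes Z c :=
    fun Z hZ => ⟨fun x hx => (Subgroup.mem_inf.1 (Subgroup.mem_inf.1 (hZ hx)).1).1,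
      fun x hx => (Subgroup.mem_inf.1 (Subgroup.mem_inf.1 (hZ hx)).1).2,
      fun x hx => comm_fix hS (t_isInv hS) hc
        (Subgroup.mem_centralizer_singleton_iff.1 (Subgroup.mem_inf.1 (hZ hx)).2).symm⟩
  obtain ⟨hYa, hYb, hYc⟩ := hfix Y hY
  obtain ⟨hXa, hXb, -⟩ := hfix X hX
  have hg' : ∀ p : Ω, Fixes X p → Fixes Y (g • p) := by
    rintro p hp _ ⟨x, hx, rfl⟩
    rw [mul_smul, inv_smul_smul, mul_smul, hp x hx]
  obtain ⟨h, hh, hha, hhb⟩ := cent_two_transitive hS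
    ⟨a, t • a, c, (ta_ne hS).symm, (t_fix_ne_a hS hc).symm, (t_fix_ne_ta hS hc).symm, hYa, hYb, hYc⟩
    (hg' a hXa) (hg' _ hXb) hYa hYb
    (fun e => ta_ne hS (smul_left_cancel g e).symm) (ta_ne hS).symm
  set g' := h * g with hg'def
  have hg'D : g' ∈ twoStab G a t :=
    Subgroup.mem_inf.2 ⟨by rw [mem_stabilizer_iff, mul_smul, hha],
      by rw [mem_stabilizer_iff, mul_smul, hhb]⟩
  have hg'a : g' • a = a := (Subgroup.mem_inf.1 hg'D).1
  have hg'b : g' • t • a = t • a := (Subgroup.mem_inf.1 hg'D).2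
  have hconj : ∀ x ∈ X, g' * x * g'⁻¹ = g * x * g⁻¹ := by
    intro x hx
    have := Subgroup.mem_centralizer_iff.1 hh _ ⟨x, hx, rfl⟩
    calc h * g * x * (h * g)⁻¹ = h * (g * x * g⁻¹) * h⁻¹ := by group
      _ = _ := by rw [← this]; group
  set u := g' * t * g'⁻¹ with hu
  have huY : u ∈ Subgroup.centralizer Y := by
    rw [Subgroup.mem_centralizer_iff]
    rintro _ ⟨x, hx, rfl⟩
    have hxt := Subgroup.mem_centralizer_singleton_iff.1 (Subgroup.mem_inf.1 (hX hx)).2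
    simp only [← hconj x hx, hu]
    calc g' * x * g'⁻¹ * (g' * t * g'⁻¹) = g' * (x * t) * g'⁻¹ := by group
      _ = _ := by rw [hxt]; group
  have htY : t ∈ Subgroup.centralizer Y := by
    rw [Subgroup.mem_centralizer_iff]
    intro y hy
    exact Subgroup.mem_centralizer_singleton_iff.1 (Subgroup.mem_inf.1 (hY hy)).2
  have hua : u • a = t • a := by
    rw [hu, mul_smul, mul_smul, show g'⁻¹ • a = a by rw [inv_smul_eq_iff, hg'a], hg'b]
  obtain ⟨w, hw, hw1, hw2, hw3⟩ := swap_conj hS ((t_isInv hS).conj g') (t_isInv hS) (p := a)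
    (by rw [← hu, hua]; exact ta_ne hS) (by rw [← hu, hua])
  rw [← hu, hua] at hw2
  rw [← hu] at hw3 hw
  have hwY : w ∈ Subgroup.centralizer Y :=
    (Subgroup.zpowers_le.2 (mul_mem huY htY)) hw
  refine ⟨w * g', Subgroup.mem_inf.2 ⟨mul_mem (Subgroup.mem_inf.2 ⟨hw1, hw2⟩) hg'D,
    Subgroup.mem_centralizer_singleton_iff.2 ?_⟩, Set.image_congr fun x hx => ?_⟩
  · calc w * g' * t = w * u * w⁻¹ * (w * g') := by rw [hu]; group
      _ = _ := by rw [hw3]
  · have := Subgroup.mem_centralizer_iff.1 hwY _ ⟨x, hx, rfl⟩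
    calc w * g' * x * (w * g')⁻¹ = w * (g' * x * g'⁻¹) * w⁻¹ := by group
      _ = w * (g * x * g⁻¹) * w⁻¹ := by rw [hconj x hx]
      _ = _ := by rw [← this]; group

end Cfsg.Agent.S1134
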