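import Cfsg.Statements.S1163
import Cfsg.Agent.Lib.RankOne.SzBridge
import Cfsg.Agent.Lib.Suzuki.Sylow

set_option autoImplicit false
open Cfsg

namespace Cfsg.Agent.S1163

open MulAction Cfsg.Agent

/-- For the Suzuki group Sz(q), q = 2^(2m+1) ≥ 8, realised as the elements g of Sp₄(F) with g* = g^θ (θ the 2^(m+1)-th power map, so that θ² is squaring): `|Sz(q)| = q² (q - 1) (q² + 1)`, and there is a Sylow 2-subgroup `S` whose normaliser `H` has order `q²(q-1)` and index `q² + 1`, the action of `Sz(q)` on the cosets of `H` is doubly transitive, and `S` acts regularly on the cosets other than `H` itself. -/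
theorem result {F : Type*} [Field F] [Fintype F] {m : ℕ} (hm : 1 ≤ m) (hF : Fintype.card F = 2 ^ (2 * m + 1)) :
    Nat.card ↥(Cfsg.Lie.Sz F (2 ^ (m + 1))) = (2 ^ (2 * m + 1)) ^ 2 * (2 ^ (2 * m + 1) - 1) * ((2 ^ (2 * m + 1)) ^ 2 + 1) ∧
    ∃ S : Sylow 2 ↥(Cfsg.Lie.Sz F (2 ^ (m + 1))),
      Nat.card (Subgroup.normalizer ((S : Subgroup ↥(Cfsg.Lie.Sz F (2 ^ (m + 1)))) : Set ↥(Cfsg.Lie.Sz F (2 ^ (m + 1))))) = (2 ^ (2 * m + 1)) ^ 2 * (2 ^ (2 * m + 1) - 1) ∧
      (Subgroup.normalizer ((S : Subgroup ↥(Cfsg.Lie.Sz F (2 ^ (m + 1)))) : Set ↥(Cfsg.Lie.Sz F (2 ^ (m + 1))))).index = (2 ^ (2 * m + 1)) ^ 2 + 1 ∧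
      MulAction.IsMultiplyPretransitive ↥(Cfsg.Lie.Sz F (2 ^ (m + 1))) (↥(Cfsg.Lie.Sz F (2 ^ (m + 1))) ⧸ Subgroup.normalizer ((S : Subgroup ↥(Cfsg.Lie.Sz F (2 ^ (m + 1)))) : Set ↥(Cfsg.Lie.Sz F (2 ^ (m + 1))))) 2 ∧
      ∀ x y : ↥(Cfsg.Lie.Sz F (2 ^ (m + 1))) ⧸ Subgroup.normalizer ((S : Subgroup ↥(Cfsg.Lie.Sz F (2 ^ (m + 1)))) : Set ↥(Cfsg.Lie.Sz F (2 ^ (m + 1)))),
        x ≠ (QuotientGroup.mk 1) → y ≠ (QuotientGroup.mk 1) → ∃! s : ↥(S : Subgroup ↥(Cfsg.Lie.Sz F (2 ^ (m + 1)))), (s : ↥(Cfsg.Lie.Sz F (2 ^ (m + 1)))) • x = y := by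
  obtain ⟨S₀, hS₀⟩ : ∃ S : Sylow 2 ↥(Cfsg.Lie.Sz F (2 ^ (m + 1))),
      (S : Subgroup ↥(Cfsg.Lie.Sz F (2 ^ (m + 1)))) =
        (Suzuki.USub hF).map (RankOne.SzBridge.szEquiv hF hm).toMonoidHom := by
    haveI : Fact (Nat.Prime 2) := ⟨Nat.prime_two⟩
    have hp : IsPGroup 2 ((Suzuki.USub hF).map (RankOne.SzBridge.szEquiv hF hm).toMonoidHom) :=
      (Suzuki.isPGroup_USub hF).map _
    have hi : ¬ 2 ∣ ((Suzuki.USub hF).map (RankOne.SzBridge.szEquiv hF hm).toMonoidHom).index := by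
      rw [Subgroup.index_map_of_bijective (RankOne.SzBridge.szEquiv hF hm).bijective]
      exact Suzuki.index_USub_odd hF hm
    exact ⟨hp.toSylow hi, IsPGroup.toSylow_coe _ _⟩
  have hcard : Nat.card ↥(Cfsg.Lie.Sz F (2 ^ (m + 1))) = (2 ^ (2 * m + 1)) ^ 2 *
      (2 ^ (2 * m + 1) - 1) * ((2 ^ (2 * m + 1)) ^ 2 + 1) := by
    rw [← Nat.card_congr (RankOne.SzBridge.szEquiv hF hm).toEquiv, Suzuki.card_Sz hF hm]; ring
  refine ⟨hcard, S₀, ?_⟩
  set L := ↥(Cfsg.Lie.Sz F (2 ^ (m + 1)))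
  set e := RankOne.SzBridge.szEquiv hF hm with he
  letI : MulAction L (Cfsg.suzukiOvoid F m) :=
    MulAction.compHom _ e.symm.toMonoidHom
  have hsmul : ∀ (g : L) (x : Cfsg.suzukiOvoid F m), g • x = e.symm g • x := fun _ _ => rfl
  set o : Cfsg.suzukiOvoid F m := ⟨_, Suzuki.inf_mem_ovoid⟩ with ho
  have h2L : IsMultiplyPretransitive L (Cfsg.suzukiOvoid F m) 2 := by
    rw [is_two_pretransitive_iff]
    intro a b c d hab hcd
    obtain ⟨g, h1, h2⟩ := is_two_pretransitive_iff.1 (Suzuki.two_pretransitive hF) hab hcd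
    exact ⟨e g, by rw [hsmul, e.symm_apply_apply, h1], by rw [hsmul, e.symm_apply_apply, h2]⟩
  haveI : IsPretransitive L (Cfsg.suzukiOvoid F m) :=
    letI := h2L
    isPretransitive_of_is_two_pretransitive
  have hUo : ∀ u ∈ (S₀ : Subgroup L), u • o = o := by
    intro u hu
    rw [hS₀] at hu
    obtain ⟨v, ⟨a, b, rfl⟩, rfl⟩ := hu
    apply Subtype.ext
    rw [hsmul, MulEquiv.coe_toMonoidHom, e.symm_apply_apply]
    exact Suzuki.U_smul_inf hF a b
  have hU1 : ∀ a b : F, e (Suzuki.U hF a b) ∈ (S₀ : Subgroup L) := fun a b =>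
    hS₀ ▸ Subgroup.mem_map_of_mem _ (Suzuki.U_mem_USub hF a b)
  have hN : Subgroup.normalizer ((S₀ : Subgroup L) : Set L) = stabilizer L o := by
    apply le_antisymm
    · intro g hg
      have hfix : ∀ u ∈ (S₀ : Subgroup L), u • g • o = g • o := by
        intro u hu
        have := hUo _ ((Subgroup.mem_normalizer_iff''.1 hg u).1 hu)
        rw [mul_smul, mul_smul, inv_smul_eq_iff] at this
        exact this
      rw [mem_stabilizer_iff]
      by_contra hne
      rcases Suzuki.mem_ovoid.1 (g • o).2 with h | ⟨x, y, h⟩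
      · exact hne (Subtype.ext h)
      · have h1 := congrArg Subtype.val (hfix (e (Suzuki.U hF 1 0)) (hU1 1 0))
        rw [hsmul, e.symm_apply_apply] at h1
        change Suzuki.U hF 1 0 • ((g • o : Cfsg.suzukiOvoid F m) : Projectivization F (Fin 4 → F)) =
          ((g • o : Cfsg.suzukiOvoid F m) : Projectivization F (Fin 4 → F)) at h1
        rw [h, Suzuki.U_smul_pt] at h1
        exact one_ne_zero (add_eq_left.mp (Suzuki.pt_inj h1).1)
    · intro g hg
      have hfix : e.symm g • Cfsg.suzukiPointInfinity F = Cfsg.suzukiPointInfinity F :=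
        congrArg Subtype.val (mem_stabilizer_iff.1 hg)
      obtain ⟨a, b, k, hg'⟩ := Suzuki.eq_U_T_of_fix hF hm _ hfix
      have : g = e (Suzuki.U hF a b) * e (Suzuki.T hF k) := by
        rw [← map_mul, ← hg', e.apply_symm_apply]
      rw [this]
      refine mul_mem (Subgroup.le_normalizer (hU1 a b)) ?_
      rw [Subgroup.mem_normalizer_iff_map_conj_eq]
      refine Subgroup.eq_of_le_of_card_ge ?_
        (Subgroup.card_map_of_injective (MulEquiv.injective (MulAut.conj _))).ge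
      rintro _ ⟨u, hu, rfl⟩
      rw [hS₀] at hu
      obtain ⟨v, ⟨c, d, rfl⟩, rfl⟩ := hu
      show e (Suzuki.T hF k) * e (Suzuki.U hF c d) * (e (Suzuki.T hF k))⁻¹ ∈ (S₀ : Subgroup L)
      rw [← map_inv, ← map_mul, ← map_mul, Suzuki.T_conj_U hF]
      exact hU1 _ _
  rw [hN]
  have hidx : (stabilizer L o).index = (2 ^ (2 * m + 1)) ^ 2 + 1 := by
    rw [index_stabilizer_of_transitive, Suzuki.card_ovoid, hF]
  refine ⟨?_, hidx, ?_, ?_⟩
  · have h := Subgroup.card_mul_index (stabilizer L o)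
    rw [hidx, hcard] at h
    exact Nat.eq_of_mul_eq_mul_right (by positivity) h
  · rw [is_two_pretransitive_iff]
    intro a b c d hab hcd
    have hinj := MulAction.injective_ofQuotientStabilizer L o
    obtain ⟨g, h1, h2⟩ := is_two_pretransitive_iff.1 h2L (hinj.ne hab) (hinj.ne hcd)
    exact ⟨g, hinj (by rw [ofQuotientStabilizer_smul, h1]),
      hinj (by rw [ofQuotientStabilizer_smul, h2])⟩
  · intro x y hx hy
    have hinj := MulAction.injective_ofQuotientStabilizer L o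
    have h1 : ∀ z : L ⧸ stabilizer L o, z ≠ QuotientGroup.mk 1 →
        ∃ c d, ((ofQuotientStabilizer L o z : Cfsg.suzukiOvoid F m) :
          Projectivization F (Fin 4 → F)) = Suzuki.pt m c d := by
      intro z hz
      rcases Suzuki.mem_ovoid.1 (ofQuotientStabilizer L o z).2 with h | h
      · refine absurd (hinj ?_) hz
        rw [ofQuotientStabilizer_mk, one_smul]
        exact Subtype.ext h
      · exact h
    obtain ⟨c, d, hx'⟩ := h1 x hx
    obtain ⟨c', d', hy'⟩ := h1 y hy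
    have key : ∀ a b : F, (e (Suzuki.U hF a b) • x = y) ↔ (c + a = c' ∧ d + b + Suzuki.sig m a * c = d') := by
      intro a b
      rw [← hinj.eq_iff, ofQuotientStabilizer_smul, Subtype.ext_iff, hsmul, e.symm_apply_apply]
      change Suzuki.U hF a b • ((ofQuotientStabilizer L o x : Cfsg.suzukiOvoid F m) :
          Projectivization F (Fin 4 → F)) = _ ↔ _
      rw [hx', hy', Suzuki.U_smul_pt]
      exact ⟨Suzuki.pt_inj, fun h => by rw [h.1, h.2]⟩
    refine ⟨⟨e (Suzuki.U hF (c' - c) (d' - d - Suzuki.sig m (c' - c) * c)), hU1 _ _⟩,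
      (key _ _).2 ⟨by ring, by ring⟩, ?_⟩
    rintro ⟨u, hu⟩ h
    have hu' := hu
    rw [hS₀] at hu'
    obtain ⟨v, ⟨a, b, rfl⟩, rfl⟩ := hu'
    obtain ⟨ea, eb⟩ := (key a b).1 h
    have e1 : a = c' - c := by linear_combination ea
    subst e1
    have e2 : b = d' - d - Suzuki.sig m (c' - c) * c := by linear_combination eb
    subst e2
    rfl

end Cfsg.Agent.S1163
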