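import Cfsg.Statements.S1167
import Cfsg.Agent.Lib.RankOne.Zassenhaus

set_option autoImplicit false
open Cfsg

namespace Cfsg.Agent.S1167

open MulAction Cfsg.Agent.RankOne

/-- Let `G` be a finite simple Zassenhaus group on `Ω`, `U` a normal subgroup of `G_a` regular on `Ω` minus `a` which is an abelian 2-group, and `v` an involution with `v • a ≠ a`. Then there is a unique `u₀ ∈ U`, `u₀ ≠ 1`, with `v u₀ v = u₀ v u₀`. -/
theorem result {G Ω : Type*} [Group G] [Finite G] [MulAction G Ω] [Finite Ω]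
    (hZ : Cfsg.IsZassenhausGroup G Ω) [IsSimpleGroup G] {a : Ω}
    (U : Subgroup G) (hUle : U ≤ MulAction.stabilizer G a)
    (hUn : ∀ h ∈ MulAction.stabilizer G a, ∀ u ∈ U, h * u * h⁻¹ ∈ U)
    (hreg : ∀ c d : Ω, c ≠ a → d ≠ a → ∃! u : U, (u : G) • c = d)
    (hU2 : IsPGroup 2 U) (hUab : ∀ u ∈ U, ∀ u' ∈ U, u * u' = u' * u)
    (v : G) (hv1 : v ≠ 1) (hv2 : v * v = 1) (hva : v • a ≠ a) :
    ∃! u₀ : G, u₀ ∈ U ∧ u₀ ≠ 1 ∧ v * u₀ * v = u₀ * v * u₀ := by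
  obtain ⟨hS, hfree, hfix3, hnt⟩ := setup_of_zassenhaus hZ hUle hUn hreg hU2 hv1 hv2 hva
  have H := abelianCase_of_zassenhaus hS hUab hfree hfix3 hnt hU2
  obtain ⟨s, r, hs, hr, h⟩ := structure_exists hS
  have hrs := H.r_eq_s hs hr h
  subst hrs
  have hri := inv_eq_self hs.2.2
  refine ⟨r, ⟨hr, hs.2.1, by rw [h, hri]⟩, ?_⟩
  rintro u ⟨huU, hu1, hu⟩
  haveI := Fintype.ofFinite G
  have hu2 := exponent_two H u huU
  exact (structure_unique hS (s := u) (r := u) ⟨hS.le huU, hu1, hu2⟩ huU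
    (by rw [hu, inv_eq_self hu2]) hs hr h).1

end Cfsg.Agent.S1167
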