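import Cfsg.Statements.S1172
import Cfsg.Agent.ProdFus42.Assemble

set_option autoImplicit false
open Cfsg

namespace Cfsg.Agent.S1172

/-- Let G be a finite group with no nontrivial normal subgroup of odd order and no proper normal subgroup of odd index, whose Sylow 2-subgroup S is not commutative and is the internal direct product of two subgroups each isomorphic to a dihedral group of order at least 4 and each strongly closed in S with respect to G (product fusion). Then G is the internal direct product of two normal subgroups G₁, G₂, and S is the internal direct product of dihedral subgroups R₁ ≤ G₁ and R₂ ≤ G₂ of odd index in G₁ and G₂ respectively (so R_i is a Sylow 2-subgroup of G_i). -/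
theorem result {G : Type*} [Group G] [Finite G] (hO : Cfsg.oddCore G = ⊥) (hO' : ∀ N : Subgroup G, N.Normal → Odd N.index → N = ⊤) (S : Sylow 2 G) (hS : ¬ IsMulCommutative (S : Subgroup G)) (S₁ S₂ : Subgroup G) (hprod : Cfsg.IsInternalDirectProduct S₁ S₂ (S : Subgroup G)) (m₁ m₂ : ℕ) (hm₁ : 2 ≤ m₁) (hm₂ : 2 ≤ m₂) (e₁ : S₁ ≃* DihedralGroup m₁) (e₂ : S₂ ≃* DihedralGroup m₂) (hcl₁ : Cfsg.IsStronglyClosed S₁ (S : Subgroup G)) (hcl₂ : Cfsg.IsStronglyClosed S₂ (S : Subgroup G)) : ∃ G₁ G₂ : Subgroup G, G₁.Normal ∧ G₂.Normal ∧ Cfsg.IsInternalDirectProduct G₁ G₂ ⊤ ∧ ∃ R₁ R₂ : Subgroup G, Cfsg.IsInternalDirectProduct R₁ R₂ (S : Subgroup G) ∧ (∃ n₁, 2 ≤ n₁ ∧ Nonempty (R₁ ≃* DihedralGroup n₁)) ∧ (∃ n₂, 2 ≤ n₂ ∧ Nonempty (R₂ ≃* DihedralGroup n₂)) ∧ R₁ ≤ G₁ ∧ R₂ ≤ G₂ ∧ Odd (R₁.relIndex G₁) ∧ Odd (R₂.relIndex G₂) := by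
  obtain ⟨h₁, h₂, hc, hd, hs⟩ := hprod
  obtain ⟨j₁, hj₁, rfl, C₁, hC₁⟩ := ProdFus42.exists_dihLike (S.isPGroup'.to_le h₁) hm₁ e₁
  obtain ⟨j₂, hj₂, rfl, C₂, hC₂⟩ := ProdFus42.exists_dihLike (S.isPGroup'.to_le h₂) hm₂ e₂
  let D : ProdFus42.Hyp G :=
    ⟨S, S₁, S₂, C₁, C₂, hC₁, hC₂, h₁, h₂, hc, hd, hs, hcl₁, hcl₂⟩
  have hbig : 2 ≤ j₁ ∨ 2 ≤ j₂ := by
    by_contra! hsmall
    obtain rfl : j₁ = 1 := by omega
    obtain rfl : j₂ = 1 := by omega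
    have hK : ∀ a b : DihedralGroup (2 ^ 1), a * b = b * a := by
      rintro (a | a) (b | b) <;> revert a b <;> decide
    have hcomm : ∀ (T : Subgroup G) (e : T ≃* DihedralGroup (2 ^ 1)) (a b : G), a ∈ T → b ∈ T →
        a * b = b * a := fun T e a b ha hb =>
      congrArg Subtype.val (e.injective (by rw [map_mul, map_mul, hK] :
        e (⟨a, ha⟩ * ⟨b, hb⟩) = e (⟨b, hb⟩ * ⟨a, ha⟩)))
    refine hS ⟨⟨fun x y => Subtype.ext ?_⟩⟩
    show (x : G) * y = y * x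
    obtain ⟨a, ha, b, hb, hab⟩ := D.exists_mul_of_mem x.2
    obtain ⟨a', ha', b', hb', hab'⟩ := D.exists_mul_of_mem y.2
    rw [← hab, ← hab']
    exact ((Commute.mul_right (hcomm S₁ e₁ a a' ha ha') (hc a ha b' hb')).mul_left
      (Commute.mul_right (hc a' ha' b hb).symm (hcomm S₂ e₂ b b' hb hb'))).eq
  obtain ⟨G₁, G₂, n₁, n₂, hG, l₁, l₂, o₁, o₂⟩ :=
    ProdFus42.exists_factorisation (D := D) hO hO' (hbig.imp
      (fun h => ⟨j₁ + 1, by omega, ⟨e₁⟩⟩) (fun h => ⟨j₂ + 1, by omega, ⟨e₂⟩⟩))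
  exact ⟨G₁, G₂, n₁, n₂, hG, S₁, S₂, ⟨h₁, h₂, hc, hd, hs⟩, ⟨_, hm₁, ⟨e₁⟩⟩, ⟨_, hm₂, ⟨e₂⟩⟩,
    l₁, l₂, o₁, o₂⟩

end Cfsg.Agent.S1172
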