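import Cfsg.Statements.S1176
import Cfsg.Agent.TwoFusion36.Isolated
import Mathlib

set_option autoImplicit false
open Cfsg
open scoped commutatorElement

namespace Cfsg.Agent.S1176

/-- Let x₀ be an involution of the finite group G and D its conjugacy class. Assume (a) for each x ∈ D the subgroup W(x) generated by the members of D commuting with x is a 2-group of nilpotency class at most 2, and (b) the product of two distinct commuting members of D again lies in D. Then for all x, y ∈ D, if xy has even order greater than 2, its order is 4. -/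
theorem result {G : Type*} [Group G] [Finite G] (x₀ : G) (hx₀ : orderOf x₀ = 2) (ha : ∀ x : G, IsConj x₀ x → IsPGroup 2 ↥(Subgroup.closure {y : G | IsConj x₀ y ∧ Commute y x}) ∧ ⁅⁅Subgroup.closure {y : G | IsConj x₀ y ∧ Commute y x}, Subgroup.closure {y : G | IsConj x₀ y ∧ Commute y x}⁆, Subgroup.closure {y : G | IsConj x₀ y ∧ Commute y x}⁆ = ⊥) (hb : ∀ x y : G, IsConj x₀ x → IsConj x₀ y → x ≠ y → Commute x y → IsConj x₀ (x * y)) (x y : G) (hx : IsConj x₀ x) (hy : IsConj x₀ y) (heven : Even (orderOf (x * y))) (hgt : 2 < orderOf (x * y)) : orderOf (x * y) = 4 := by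
  obtain ⟨w₁, hw₁⟩ := isConj_iff.mp hx
  obtain ⟨w₂, hw₂⟩ := isConj_iff.mp hy
  have h00 : x₀ * x₀ = 1 := by rw [← sq, ← hx₀]; exact pow_orderOf_eq_one x₀
  have hxx : x * x = 1 := by rw [← hw₁]; simp [mul_assoc, ← mul_assoc x₀ x₀, h00]
  have hyy : y * y = 1 := by rw [← hw₂]; simp [mul_assoc, ← mul_assoc x₀ x₀, h00]
  obtain ⟨m, hm⟩ := heven
  obtain ⟨hcx, hcy, hne, hcase⟩ := Cfsg.Agent.TwoFusion36.dihedral_even hxx hyy
    (m := m) (by omega) (by omega)
  generalize hc : (x * y) ^ m = c at hcx hcy hne hcase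
  have hcxD : IsConj x₀ (c * x) := by
    rcases hcase with ⟨-, w, hw⟩ | ⟨-, w, hw⟩
    · exact hx.trans (isConj_iff.mpr ⟨w, hw⟩)
    · exact hy.trans (isConj_iff.mpr ⟨w, hw⟩)
  have hcD : IsConj x₀ c := by
    have h := hb (c * x) x hcxD hx (fun h => hne (mul_eq_right.mp h))
      (hcx.mul_left (Commute.refl x))
    rwa [mul_assoc, hxx, mul_one] at h
  obtain ⟨hP, hcl⟩ := ha c hcD
  generalize hW : Subgroup.closure {y : G | IsConj x₀ y ∧ Commute y c} = W at hP hcl
  have hxW : x ∈ W := hW ▸ Subgroup.subset_closure ⟨hx, hcx.symm⟩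
  have hyW : y ∈ W := hW ▸ Subgroup.subset_closure ⟨hy, hcy.symm⟩
  have hxi : x⁻¹ = x := inv_eq_of_mul_eq_one_right hxx
  have hyi : y⁻¹ = y := inv_eq_of_mul_eq_one_right hyy
  have h1 : ⁅⁅x, y⁆, x⁆ = 1 := by
    have := Subgroup.commutator_mem_commutator (Subgroup.commutator_mem_commutator hxW hyW) hxW
    rwa [hcl, Subgroup.mem_bot] at this
  have h4 : (x * y) ^ 4 = 1 := by
    calc (x * y) ^ 4 = ⁅⁅x, y⁆, x⁆ := by
          simp [commutatorElement_def, hxi, hyi, hxx, pow_succ, mul_assoc]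
      _ = 1 := h1
  have hle := Nat.le_of_dvd (by norm_num) (orderOf_dvd_of_pow_eq_one h4)
  omega

end Cfsg.Agent.S1176
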