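import Cfsg.Statements.S1177
import Mathlib

set_option autoImplicit false
open Cfsg

namespace Cfsg.Agent.S1177

/-- Let A be a nontrivial elementary abelian 2-subgroup of a finite group G which is a T.I. set (each conjugate of A meets A trivially or equals A) and which does not commute elementwise with any conjugate of A other than A itself. Then for every a ∈ A, a ≠ 1, every conjugate of A contained in C_G(a) is equal to A (A is weakly closed in C_G(a)). -/
theorem result {G : Type*} [Group G] [Finite G] (A : Subgroup G) (hA : Cfsg.IsElementaryAbelian 2 A) (hA1 : A ≠ ⊥) (hTI : ∀ g : G, A.map (MulAut.conj g).toMonoidHom ⊓ A = ⊥ ∨ A.map (MulAut.conj g).toMonoidHom = A) (hb : ∀ g : G, (∀ a ∈ A, ∀ b ∈ A.map (MulAut.conj g).toMonoidHom, a * b = b * a) → A.map (MulAut.conj g).toMonoidHom = A) (a : G) (ha : a ∈ A) (ha1 : a ≠ 1) (g : G) (hg : A.map (MulAut.conj g).toMonoidHom ≤ Subgroup.centralizer ({a} : Set G)) : A.map (MulAut.conj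 g).toMonoidHom = A := by
  set B := A.map (MulAut.conj g).toMonoidHom with hB
  by_contra hne
  have hAB : B ⊓ A = ⊥ := (hTI g).resolve_right hne
  have hA2 : ∀ x ∈ A, x⁻¹ = x := fun x hx =>
    inv_eq_of_mul_eq_one_right (by rw [← sq]; exact hA.2 x hx)
  have hAc : ∀ x ∈ A, ∀ y ∈ A, x * y = y * x := fun x hx y hy =>
    congrArg Subtype.val (hA.1.is_comm.comm (⟨x, hx⟩ : A) ⟨y, hy⟩)
  have hca : ∀ b ∈ B, b * a = a * b := fun b hb =>
    Subgroup.mem_centralizer_singleton_iff.mp (hg hb)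
  -- `B` normalises `A`
  have hBN : ∀ b ∈ B, ∀ x ∈ A, b * x * b⁻¹ ∈ A := by
    intro b hb x hx
    have h1 : A.map (MulAut.conj b).toMonoidHom = A := by
      refine (hTI b).resolve_left fun h => ha1 ?_
      have hmem : a ∈ A.map (MulAut.conj b).toMonoidHom ⊓ A :=
        ⟨⟨a, ha, show b * a * b⁻¹ = a by rw [hca b hb]; group⟩, ha⟩
      rwa [h, Subgroup.mem_bot] at hmem
    exact h1 ▸ ⟨x, hx, rfl⟩
  have hBc : ∀ b ∈ B, ∀ c ∈ B, b * c = c * b := by
    rintro _ ⟨u, hu, rfl⟩ _ ⟨v, hv, rfl⟩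
    rw [← map_mul, ← map_mul, hAc u hu v hv]
  have hB2 : ∀ b ∈ B, b⁻¹ = b := by
    rintro _ ⟨u, hu, rfl⟩
    rw [← map_inv, hA2 u hu]
  obtain ⟨x, hx, b₀, hb₀, hxb⟩ : ∃ x ∈ A, ∃ b ∈ B, x * b ≠ b * x := by
    by_contra h
    push Not at h
    exact hne (hb g h)
  have hnorm : ∀ y ∈ A, ∀ b ∈ B, b ≠ 1 → y * b = b * y →
      A.map (MulAut.conj (y * g)).toMonoidHom = B := by
    intro y hy b hb hb1 hyb
    obtain ⟨u, hu, rfl⟩ := hb
    have hmap : A.map (MulAut.conj (y * g)).toMonoidHom =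
        B.map (MulAut.conj y).toMonoidHom := by
      rw [hB, Subgroup.map_map, map_mul]; rfl
    have h2 := hTI (g⁻¹ * y * g)
    have hfix : g⁻¹ * y * g * u * (g⁻¹ * y * g)⁻¹ = u := by
      simp only [MulEquiv.toMonoidHom_eq_coe, MonoidHom.coe_coe, MulAut.conj_apply] at hyb
      calc g⁻¹ * y * g * u * (g⁻¹ * y * g)⁻¹ = g⁻¹ * (y * (g * u * g⁻¹)) * y⁻¹ * g := by group
        _ = u := by rw [hyb]; group
    rcases h2 with h2 | h2
    · exfalso
      have hmem : u ∈ A.map (MulAut.conj (g⁻¹ * y * g)).toMonoidHom ⊓ A :=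
        ⟨⟨u, hu, hfix⟩, hu⟩
      rw [h2, Subgroup.mem_bot] at hmem
      exact hb1 (by rw [hmem, map_one])
    · calc A.map (MulAut.conj (y * g)).toMonoidHom
          = (A.map (MulAut.conj (g⁻¹ * y * g)).toMonoidHom).map (MulAut.conj g).toMonoidHom := by
            rw [Subgroup.map_map, show y * g = g * (g⁻¹ * y * g) by group, map_mul]; rfl
        _ = B := by rw [h2]
  -- for each `y ∈ A`: one nontrivial element of `B` centralising `y` forces all to do so
  have hall : ∀ y ∈ A, ∀ b ∈ B, b ≠ 1 → y * b = b * y → ∀ c ∈ B, y * c = c * y := by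
    intro y hy b hb hb1 hyb c hc
    have hN := hnorm y hy b hb hb1 hyb
    have h3 : y * c * y⁻¹ ∈ B := by
      obtain ⟨u, hu, rfl⟩ := hc
      rw [← hN]
      exact ⟨u, hu, by simp [mul_assoc]⟩
    have h4 : y * c * y⁻¹ * c⁻¹ ∈ B ⊓ A :=
      Subgroup.mem_inf.mpr ⟨mul_mem h3 (inv_mem hc), by
        rw [show y * c * y⁻¹ * c⁻¹ = y * (c * y⁻¹ * c⁻¹) by group]
        exact mul_mem hy (hBN c hc _ (inv_mem hy))⟩
    rw [hAB, Subgroup.mem_bot, mul_inv_eq_one, mul_inv_eq_iff_eq_mul] at h4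
    exact h4
  -- commutators lie in the centraliser of `B`
  have hcomm : ∀ b ∈ B, ∀ c ∈ B, b * (c * x * c⁻¹ * x) = (c * x * c⁻¹ * x) * b := by
    intro b hb c hc
    have hd : c * x * c⁻¹ * x ∈ A := mul_mem (hBN c hc x hx) hx
    by_cases hc1 : c = 1
    · subst hc1
      have : (1 : G) * x * 1⁻¹ * x = 1 := by simp [← sq, hA.2 x hx]
      rw [this, mul_one, one_mul]
    refine (hall _ hd c hc hc1 ?_ b hb).symm
    have hcc : c * c = 1 := by
      calc c * c = c * c⁻¹ := by rw [hB2 c hc]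
        _ = 1 := mul_inv_cancel c
    have h5 : c * (c * x * c⁻¹ * x) * c⁻¹ = c * x * c⁻¹ * x := by
      calc c * (c * x * c⁻¹ * x) * c⁻¹ = (c * c) * x * (c * c)⁻¹ * (c * x * c⁻¹) := by group
        _ = x * (c * x * c⁻¹) := by rw [hcc]; group
        _ = _ := hAc x hx _ (hBN c hc x hx)
    exact (mul_inv_eq_iff_eq_mul.mp h5).symm
  -- so `B` commutes elementwise with its conjugate by `x`
  have hk : A.map (MulAut.conj (g⁻¹ * x * g)).toMonoidHom = A := by
    refine hb _ fun u hu v hv => ?_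
    obtain ⟨w, hw, rfl⟩ := hv
    have hbB : g * u * g⁻¹ ∈ B := ⟨u, hu, rfl⟩
    have hcB : g * w * g⁻¹ ∈ B := ⟨w, hw, rfl⟩
    have key : (g * u * g⁻¹) * (x * (g * w * g⁻¹) * x⁻¹) =
        (x * (g * w * g⁻¹) * x⁻¹) * (g * u * g⁻¹) := by
      generalize g * u * g⁻¹ = b at hbB ⊢
      generalize g * w * g⁻¹ = c at hcB ⊢
      have hd := hcomm b hbB c hcB
      have hdd : (c * x * c⁻¹ * x) ∈ A := mul_mem (hBN c hcB x hx) hx
      have he : x * c * x⁻¹ = (c * x * c⁻¹ * x) * c := by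
        have := hA2 _ hdd
        calc x * c * x⁻¹ = x * (c * x⁻¹ * c⁻¹) * c := by group
          _ = x * (c * x * c⁻¹) * c := by rw [hA2 x hx]
          _ = (c * x * c⁻¹ * x) * c := by rw [hAc x hx _ (hBN c hcB x hx)]
      rw [he]
      calc b * (c * x * c⁻¹ * x * c) = b * (c * x * c⁻¹ * x) * c := (mul_assoc _ _ _).symm
        _ = c * x * c⁻¹ * x * (b * c) := by rw [hd, mul_assoc]
        _ = c * x * c⁻¹ * x * (c * b) := by rw [hBc b hbB c hcB]
        _ = _ := (mul_assoc _ _ _).symm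
    have := congrArg (fun t => g⁻¹ * t * g) key
    simp only [mul_assoc, inv_mul_cancel_left, inv_mul_cancel, mul_one] at this
    simpa [mul_assoc] using this
  have hN : A.map (MulAut.conj (x * g)).toMonoidHom = B := by
    calc A.map (MulAut.conj (x * g)).toMonoidHom
        = (A.map (MulAut.conj (g⁻¹ * x * g)).toMonoidHom).map (MulAut.conj g).toMonoidHom := by
          rw [Subgroup.map_map, show x * g = g * (g⁻¹ * x * g) by group, map_mul]; rfl
      _ = B := by rw [hk]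
  refine hxb ?_
  have h3 : x * b₀ * x⁻¹ ∈ B := by
    obtain ⟨u, hu, rfl⟩ := hb₀
    rw [← hN]
    exact ⟨u, hu, by simp [mul_assoc]⟩
  have h4 : x * b₀ * x⁻¹ * b₀⁻¹ ∈ B ⊓ A :=
    Subgroup.mem_inf.mpr ⟨mul_mem h3 (inv_mem hb₀), by
      rw [show x * b₀ * x⁻¹ * b₀⁻¹ = x * (b₀ * x⁻¹ * b₀⁻¹) by group]
      exact mul_mem hx (hBN b₀ hb₀ _ (inv_mem hx))⟩
  rw [hAB, Subgroup.mem_bot, mul_inv_eq_one, mul_inv_eq_iff_eq_mul] at h4
  exact h4

end Cfsg.Agent.S1177
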