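import Cfsg.Statements.S1178
import Mathlib

set_option autoImplicit false
open Cfsg

namespace Cfsg.Agent.S1178

/-- Let A be a subgroup of a Sylow 2-subgroup S of the finite group G which is weakly closed in S. If a conjugate g A g⁻¹ commutes elementwise with A, then g A g⁻¹ = A. -/
theorem result {G : Type*} [Group G] [Finite G] (S : Sylow 2 G) (A : Subgroup G) (hW : Cfsg.IsWeaklyClosed A (S : Subgroup G)) (g : G) (hc : ∀ a ∈ A, ∀ b ∈ A.map (MulAut.conj g).toMonoidHom, a * b = b * a) : A.map (MulAut.conj g).toMonoidHom = A := by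
  have hA : IsPGroup 2 A := S.isPGroup'.to_le hW.1
  have hB : IsPGroup 2 (A.map (MulAut.conj g).toMonoidHom) := hA.map _
  have hle : A ≤ Subgroup.normalizer (A.map (MulAut.conj g).toMonoidHom : Set G) := by
    intro a ha
    rw [Subgroup.mem_normalizer_iff]
    intro b
    constructor
    · intro hb
      rwa [hc a ha b hb, mul_inv_cancel_right]
    · intro hb
      have := hc _ (inv_mem ha) _ hb
      have e : a⁻¹ * (a * b * a⁻¹) * (a⁻¹)⁻¹ = b := by group
      rw [this, mul_inv_cancel_right] at e
      rwa [← e]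
  have hP := hA.to_sup_of_normal_right' hB hle
  obtain ⟨P, hP'⟩ := hP.exists_le_sylow
  obtain ⟨k, hk⟩ := MulAction.exists_smul_eq G P S
  have key : ∀ u : G, A.map (MulAut.conj u).toMonoidHom ≤ P →
      A.map (MulAut.conj (k * u)).toMonoidHom = A := by
    intro u hu
    refine hW.2 (k * u) ?_
    rintro _ ⟨a, ha, rfl⟩
    rw [← hk, Sylow.coe_subgroup_smul]
    exact ⟨u * a * u⁻¹, hu ⟨a, ha, rfl⟩, by simp [mul_assoc]⟩
  have h1 := key 1 (by
    rintro _ ⟨a, ha, rfl⟩
    exact hP' (Subgroup.mem_sup_left (by simpa using ha)))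
  have h2 := key g (le_trans le_sup_right hP')
  rw [mul_one] at h1
  have h3 : ∀ u v : G, A.map (MulAut.conj (u * v)).toMonoidHom =
      (A.map (MulAut.conj v).toMonoidHom).map (MulAut.conj u).toMonoidHom := by
    intro u v
    rw [Subgroup.map_map, map_mul]; rfl
  rw [h3] at h2
  apply Subgroup.map_injective (f := (MulAut.conj k).toMonoidHom) (MulAut.conj k).injective
  rw [h2, h1]

end Cfsg.Agent.S1178
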