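import Cfsg.Statements.S1181
import Cfsg.Agent.TwoFusion36.Isolated

set_option autoImplicit false
open Cfsg

namespace Cfsg.Agent.S1181

/-- Let z be an isolated involution of the finite group G and N a normal subgroup with z ∉ N. Then the centralizer of zN in G/N is the image of C_G(z), and zN is an isolated involution of G/N. -/
theorem result {G : Type*} [Group G] [Finite G] (z : G) (hz : Cfsg.IsIsolatedInvolution z) (N : Subgroup G) [N.Normal] (hzN : z ∉ N) : Subgroup.centralizer ({(QuotientGroup.mk z : G ⧸ N)} : Set (G ⧸ N)) = (Subgroup.centralizer ({z} : Set G)).map (QuotientGroup.mk' N) ∧ Cfsg.IsIsolatedInvolution (QuotientGroup.mk z : G ⧸ N) := by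
  have h2 : z * z = 1 := by rw [← sq, ← hz.1]; exact pow_orderOf_eq_one z
  constructor
  · ext q
    induction q using QuotientGroup.induction_on with
    | _ g =>
      rw [Subgroup.mem_centralizer_singleton_iff]
      constructor
      · intro h
        have hN : g * z * g⁻¹ * z ∈ N := by
          rw [← QuotientGroup.eq_one_iff]
          simp only [QuotientGroup.mk_mul, QuotientGroup.mk_inv]
          rw [h, mul_inv_cancel_right, ← QuotientGroup.mk_mul, h2, QuotientGroup.mk_one]
        have hu := Cfsg.Agent.TwoFusion36.inK_conj_mul hz g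
        set k := Cfsg.Agent.TwoFusion36.sqrtOdd (g * z * g⁻¹ * z) with hk
        have hkN : k ∈ N := pow_mem hN _
        refine ⟨k⁻¹ * g, ?_, ?_⟩
        · show k⁻¹ * g ∈ Subgroup.centralizer ({z} : Set G)
          rw [Subgroup.mem_centralizer_singleton_iff]
          have h3 : k * z * k⁻¹ = g * z * g⁻¹ := by
            rw [hk, hu.conj_mul hz, mul_assoc, h2, mul_one]
          calc k⁻¹ * g * z = k⁻¹ * (g * z * g⁻¹) * g := by group
            _ = z * (k⁻¹ * g) := by rw [← h3]; group
        · simp [(QuotientGroup.eq_one_iff k).mpr hkN]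
      · rintro ⟨c, hc, hcq⟩
        rw [QuotientGroup.mk'_apply] at hcq
        rw [← hcq, ← QuotientGroup.mk_mul, ← QuotientGroup.mk_mul,
          Subgroup.mem_centralizer_singleton_iff.mp hc]
  · refine ⟨orderOf_eq_prime (by rw [← QuotientGroup.mk_pow, sq, h2, QuotientGroup.mk_one])
      (fun h => hzN ((QuotientGroup.eq_one_iff z).mp h)), fun q => ?_⟩
    induction q using QuotientGroup.induction_on with
    | _ g =>
      simp only [← QuotientGroup.mk_inv, ← QuotientGroup.mk_mul]
      intro h
      have hodd := Cfsg.Agent.TwoFusion36.odd_conj_mul hz g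
      have htt : g * z * g⁻¹ * (g * z * g⁻¹) = 1 := by
        calc g * z * g⁻¹ * (g * z * g⁻¹) = g * (z * z) * g⁻¹ := by group
          _ = 1 := by rw [h2]; group
      generalize g * z * g⁻¹ = t at h hodd htt ⊢
      have hsq : (QuotientGroup.mk (t * z) : G ⧸ N) ^ 2 = 1 := by
        rw [QuotientGroup.mk_mul, h.symm.mul_pow, sq, sq, ← QuotientGroup.mk_mul,
          ← QuotientGroup.mk_mul, htt, h2, QuotientGroup.mk_one, mul_one]
      have hd1 := orderOf_dvd_of_pow_eq_one hsq
      have hd2 : orderOf (QuotientGroup.mk (t * z) : G ⧸ N) ∣ orderOf (t * z) :=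
        orderOf_map_dvd (QuotientGroup.mk' N) _
      have hone : (QuotientGroup.mk (t * z) : G ⧸ N) = 1 := by
        rw [← orderOf_eq_one_iff, ← Nat.dvd_one]
        have := Nat.dvd_gcd hd1 hd2
        rwa [(Nat.coprime_two_left.mpr hodd).gcd_eq_one] at this
      rw [QuotientGroup.mk_mul, mul_eq_one_iff_eq_inv] at hone
      rw [hone, ← QuotientGroup.mk_inv, Cfsg.Agent.TwoFusion36.conj_self_inv hz]

end Cfsg.Agent.S1181
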