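import Cfsg.Statements.S1183
import Cfsg.Agent.TwoFusion36.Isolated

set_option autoImplicit false
open Cfsg
open scoped commutatorElement

namespace Cfsg.Agent.S1183

/-- Let z be an isolated involution of the finite group G and C = C_G(z). Then the subgroup of G generated by its elements of odd order is all of G if and only if the subgroup of C generated by its elements of odd order is all of C. -/
theorem result {G : Type*} [Group G] [Finite G] (z : G) (hz : Cfsg.IsIsolatedInvolution z) : Cfsg.pResidual 2 G = ⊤ ↔ Cfsg.pResidual 2 ↥(Subgroup.centralizer ({z} : Set G)) = ⊤ := by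
  set C := Subgroup.centralizer ({z} : Set G) with hC
  constructor
  · intro hG
    obtain ⟨S, hzS⟩ : ∃ S : Sylow 2 G, z ∈ (S : Subgroup G) := by
      have hp : IsPGroup 2 (Subgroup.zpowers z) :=
        IsPGroup.of_card (n := 1) (by rw [Nat.card_zpowers, hz.1, pow_one])
      obtain ⟨S, hS⟩ := hp.exists_le_sylow
      exact ⟨S, hS (Subgroup.mem_zpowers z)⟩
    have hSC : (S : Subgroup G) ≤ C := fun s hs => Subgroup.mem_centralizer_singleton_iff.mpr
      (Cfsg.Agent.TwoFusion36.commute_of_mem_two_subgroup hz S.isPGroup' hzS hs).eq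
    have hfoc : (S : Subgroup G).focalSubgroup = (S : Subgroup G) := by
      refine le_antisymm (Subgroup.focalSubgroup_le _) fun s hs => ?_
      have htriv : ∀ g : G, (S : Subgroup G).transferFocal g = 1 := by
        intro g
        have hg : g ∈ Cfsg.pResidual 2 G := by rw [hG]; trivial
        refine Subgroup.closure_induction (fun x hx => ?_) (map_one _)
          (fun a b _ _ ha hb => by rw [map_mul, ha, hb, one_mul])
          (fun a _ ha => by rw [map_inv, ha, inv_one]) hg
        obtain ⟨k, hk⟩ := (S.isPGroup'.to_quotient (S : Subgroup G).focalSubgroupOf)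
          ((S : Subgroup G).transferFocal x)
        have hd1 := orderOf_dvd_of_pow_eq_one hk
        have hd2 := orderOf_map_dvd (S : Subgroup G).transferFocal x
        rw [← orderOf_eq_one_iff, ← Nat.dvd_one]
        have := Nat.dvd_gcd hd2 hd1
        rwa [(Nat.Coprime.pow_right k hx).gcd_eq_one] at this
      obtain ⟨g, hg⟩ := Subgroup.transferFocal_surjective S
        (QuotientGroup.mk (⟨s, hs⟩ : (S : Subgroup G)))
      rw [htriv, eq_comm, QuotientGroup.eq_one_iff] at hg
      exact hg
    have hsub : (S : Subgroup G) ≤ (commutator C).map C.subtype := by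
      conv_lhs => rw [← hfoc]
      rw [Subgroup.focalSubgroup_def, Subgroup.closure_le]
      rintro s ⟨hs, x, hx, u, rfl⟩
      have hxC := hSC hx
      have hy : u * x⁻¹ * u⁻¹ ∈ C := by
        have hmem := mul_mem (inv_mem hxC) (hSC hs)
        have e : x⁻¹ * ⁅x, u⁆ = u * x⁻¹ * u⁻¹ := by rw [commutatorElement_def]; group
        rwa [e] at hmem
      obtain ⟨c, -, hcz, hc⟩ := Cfsg.Agent.TwoFusion36.exists_conj_commute hz ⊤
        (fun _ _ => trivial) (Subgroup.mem_centralizer_singleton_iff.mp (inv_mem hxC))
        (Subgroup.mem_centralizer_singleton_iff.mp hy) (h := u) trivial rfl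
      refine ⟨⁅(⟨x, hxC⟩ : C), ⟨c, Subgroup.mem_centralizer_singleton_iff.mpr hcz.eq⟩⁆,
        Subgroup.commutator_mem_commutator trivial trivial, ?_⟩
      calc (x * c * x⁻¹ * c⁻¹ : G) = x * (c * x⁻¹ * c⁻¹) := by group
        _ = x * (u * x⁻¹ * u⁻¹) := by rw [hc]
        _ = ⁅x, u⁆ := by rw [commutatorElement_def]; group
    set N := Cfsg.pResidual 2 C with hNdef
    haveI hNn : N.Normal := by
      refine ⟨fun n hn g => ?_⟩
      have hn' : (MulAut.conj g) n ∈ N.map (MulAut.conj g).toMonoidHom := ⟨n, hn, rfl⟩
      rw [hNdef, Cfsg.pResidual, MonoidHom.map_closure] at hn'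
      refine Subgroup.closure_mono ?_ hn'
      rintro _ ⟨k, hk, rfl⟩
      show Nat.Coprime (orderOf ((MulAut.conj g) k)) 2
      rw [MulEquiv.orderOf_eq]
      exact hk
    have hQ : IsPGroup 2 (C ⧸ N) := by
      intro q
      induction q using QuotientGroup.induction_on with
      | _ g =>
        obtain ⟨e, m, hm, hgm⟩ := Nat.exists_eq_two_pow_mul_odd (orderOf_pos g).ne'
        refine ⟨e, ?_⟩
        rw [← QuotientGroup.mk_pow, QuotientGroup.eq_one_iff]
        refine Subgroup.subset_closure ?_
        show Nat.Coprime (orderOf (g ^ 2 ^ e)) 2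
        refine Nat.Coprime.coprime_dvd_left ?_ (Nat.coprime_two_right.mpr hm)
        apply orderOf_dvd_of_pow_eq_one
        rw [← pow_mul, ← hgm, pow_orderOf_eq_one]
    set P := S.subtype hSC with hP
    have hPC : ∀ p ∈ (P : Subgroup C), p ∈ commutator C := by
      intro p hp
      obtain ⟨q, hq, hqp⟩ := hsub (show (p : G) ∈ (S : Subgroup G) from hp)
      rwa [← Subtype.ext (hqp : (q : G) = p)]
    have hperf : commutator (C ⧸ N) = ⊤ := by
      have hmap : (commutator C).map (QuotientGroup.mk' N) = commutator (C ⧸ N) := by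
        rw [commutator_def, Subgroup.map_commutator,
          Subgroup.map_top_of_surjective _ (QuotientGroup.mk'_surjective N), commutator_def]
      refine top_le_iff.mp fun q _ => ?_
      induction q using QuotientGroup.induction_on with
      | _ g =>
        -- `P` covers `C ⧸ N`
        have hcop : Nat.Coprime (P : Subgroup C).index (Nat.card (C ⧸ N)) := by
          obtain ⟨j, hj⟩ := IsPGroup.iff_card.mp hQ
          rw [hj]
          exact Nat.Coprime.pow_right j
            (Nat.coprime_two_right.mpr (Nat.odd_iff.mpr (Nat.two_dvd_ne_zero.mp P.not_dvd_index)))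
        have htop : (P : Subgroup C) ⊔ N = ⊤ := by
          rw [← Subgroup.index_eq_one]
          apply Nat.eq_one_of_dvd_coprimes hcop
          · exact Subgroup.index_dvd_of_le le_sup_left
          · exact Subgroup.index_dvd_of_le le_sup_right
        obtain ⟨p, hp, n, hn, rfl⟩ := Subgroup.mem_sup_of_normal_right.mp
          (htop ▸ Subgroup.mem_top g)
        rw [← hmap]
        exact ⟨p, hPC p hp, by simp [(QuotientGroup.eq_one_iff n).mpr hn]⟩
    haveI := Fact.mk Nat.prime_two
    haveI := hQ.isNilpotent
    refine top_le_iff.mp fun g _ => ?_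
    rw [← QuotientGroup.eq_one_iff]
    by_contra hne
    haveI : Nontrivial (C ⧸ N) := ⟨_, _, hne⟩
    exact (Group.IsSolvable.commutator_lt_top_of_nontrivial (C ⧸ N)).ne hperf
  · intro hCres
    refine top_le_iff.mp fun g _ => ?_
    obtain ⟨k, ⟨hk, hgk⟩, -⟩ := Cfsg.Agent.TwoFusion36.existsUnique_inK hz g
    have hCle : C ≤ Cfsg.pResidual 2 G := by
      have : (Cfsg.pResidual 2 C).map C.subtype ≤ Cfsg.pResidual 2 G := by
        rw [Cfsg.pResidual, MonoidHom.map_closure]
        refine Subgroup.closure_mono ?_
        rintro _ ⟨c, hc, rfl⟩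
        show Nat.Coprime (orderOf (c : G)) 2
        rw [Subgroup.orderOf_coe]; exact hc
      intro c hc
      exact this ⟨⟨c, hc⟩, hCres ▸ trivial, rfl⟩
    have e : g = k * (g⁻¹ * k)⁻¹ := by group
    rw [e]
    exact mul_mem (Subgroup.subset_closure (Nat.coprime_two_right.mpr hk.1))
      (inv_mem (hCle hgk))

end Cfsg.Agent.S1183
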