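import Cfsg.Statements.S1184
import Cfsg.Agent.TwoFusion36.Isolated

set_option autoImplicit false
open Cfsg

namespace Cfsg.Agent.S1184

/-- Let z be an isolated involution of the finite group G. If s and t are distinct conjugates of z, then st does not commute with z. -/
theorem result {G : Type*} [Group G] [Finite G] (z : G) (hz : Cfsg.IsIsolatedInvolution z) (g h : G) (hne : g * z * g⁻¹ ≠ h * z * h⁻¹) : ¬ Commute (g * z * g⁻¹ * (h * z * h⁻¹)) z := by
  intro hc
  have hodd := Cfsg.Agent.TwoFusion36.odd_conj_mul_conj hz g h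
  have hoz := Cfsg.Agent.TwoFusion36.odd_conj_mul hz g
  have h2 : z * z = 1 := by rw [← sq, ← hz.1]; exact pow_orderOf_eq_one z
  have hss : g * z * g⁻¹ * (g * z * g⁻¹) = 1 := by
    calc g * z * g⁻¹ * (g * z * g⁻¹) = g * (z * z) * g⁻¹ := by group
      _ = 1 := by rw [h2]; group
  have htt : h * z * h⁻¹ * (h * z * h⁻¹) = 1 := by
    calc h * z * h⁻¹ * (h * z * h⁻¹) = h * (z * z) * h⁻¹ := by group
      _ = 1 := by rw [h2]; group
  generalize g * z * g⁻¹ = s at *
  generalize h * z * h⁻¹ = t at *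
  have hsi : s⁻¹ = s := inv_eq_of_mul_eq_one_right hss
  have hti : t⁻¹ = t := inv_eq_of_mul_eq_one_right htt
  have hu : s * (s * t) * s⁻¹ = (s * t)⁻¹ := by
    rw [mul_inv_rev, hsi, hti, ← mul_assoc s s t, hss, one_mul]
  have hv : s * z * (s * t) * (s * z)⁻¹ = (s * t)⁻¹ := by
    calc s * z * (s * t) * (s * z)⁻¹ = s * (z * (s * t)) * z⁻¹ * s⁻¹ := by group
      _ = (s * t)⁻¹ := by rw [← hc.eq, ← hu]; group
  generalize hst : s * t = u at hu hv hc hodd
  generalize s * z = v at hv hoz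
  have hpow : ∀ j : ℕ, v ^ (2 * j) * u * (v ^ (2 * j))⁻¹ = u := by
    intro j
    induction j with
    | zero => simp
    | succ j ih =>
      calc v ^ (2 * (j + 1)) * u * (v ^ (2 * (j + 1)))⁻¹
          = v * (v * (v ^ (2 * j) * u * (v ^ (2 * j))⁻¹) * v⁻¹) * v⁻¹ := by
            rw [show 2 * (j + 1) = 2 * j + 2 by ring, pow_add, ← (Commute.pow_pow_self v 2 (2*j)).eq,
              sq]; group
        _ = v * u⁻¹ * v⁻¹ := by rw [ih, hv]
        _ = (v * u * v⁻¹)⁻¹ := by group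
        _ = u := by rw [hv, inv_inv]
  obtain ⟨j, hj⟩ := hoz
  have h1 : u⁻¹ = u := by
    calc u⁻¹ = v * (v ^ (2 * j) * u * (v ^ (2 * j))⁻¹) * v⁻¹ := by rw [hpow, hv]
      _ = v ^ (2 * j + 1) * u * (v ^ (2 * j + 1))⁻¹ := by rw [pow_succ']; group
      _ = u := by rw [← hj, pow_orderOf_eq_one]; group
  have h3 : u = 1 := by
    refine Cfsg.Agent.TwoFusion36.eq_of_mul_self_eq hodd (by simp) ?_
    rw [one_mul]
    nth_rewrite 2 [← h1]
    exact mul_inv_cancel u
  exact hne (by rw [← hsi]; exact (eq_inv_of_mul_eq_one_right (hst.trans h3)).symm)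

end Cfsg.Agent.S1184
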