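import Cfsg.Statements.S1186
import Cfsg.Agent.TwoFusion36.Isolated

set_option autoImplicit false
open Cfsg

namespace Cfsg.Agent.S1186

/-- Let z be an isolated involution of the finite group G, C = C_G(z), K the set of elements of odd order inverted by z, and s an involution of C. Then |G| = |C| · |C_K(sz)| · |C_K(s)|. -/
theorem result {G : Type*} [Group G] [Finite G] (z : G) (hz : Cfsg.IsIsolatedInvolution z) (s : G) (hs : orderOf s = 2) (hsz : Commute s z) : Nat.card G = Nat.card (Subgroup.centralizer ({z} : Set G)) * Nat.card {k : G // Odd (orderOf k) ∧ z * k * z⁻¹ = k⁻¹ ∧ Commute k (s * z)} * Nat.card {k : G // Odd (orderOf k) ∧ z * k * z⁻¹ = k⁻¹ ∧ Commute k s} := by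

  have h2 : z * z = 1 := by rw [← sq, ← hz.1]; exact pow_orderOf_eq_one z
  have hs2 : s * s = 1 := by rw [← sq, ← hs]; exact pow_orderOf_eq_one s
  rw [Cfsg.Agent.TwoFusion36.card_eq_mul_card_inK hz, mul_assoc]
  congr 1
  rw [← Nat.card_prod]
  symm
  have hsc : ∀ k, Cfsg.Agent.TwoFusion36.InK z k →
      Cfsg.Agent.TwoFusion36.InK z (s * k * s⁻¹) := by
    intro k hk
    refine ⟨by rw [← MulAut.conj_apply, MulEquiv.orderOf_eq]; exact hk.1, ?_⟩
    calc z * (s * k * s⁻¹) * z⁻¹ = (z * s) * k * (z * s)⁻¹ := by group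
      _ = (s * z) * k * (s * z)⁻¹ := by rw [hsz.eq]
      _ = s * (z * k * z⁻¹) * s⁻¹ := by group
      _ = (s * k * s⁻¹)⁻¹ := by rw [hk.2]; group
  have hfix : ∀ k, Commute k s → s * k * s⁻¹ = k := fun k hk => by
    rw [← hk.eq]; group
  have hinv : ∀ k, z * k * z⁻¹ = k⁻¹ → (Commute k (s * z) ↔ s * k * s⁻¹ = k⁻¹) := by
    intro k hk
    have e : s * z * k * (s * z)⁻¹ = (s * k * s⁻¹)⁻¹ := by
      calc s * z * k * (s * z)⁻¹ = s * (z * k * z⁻¹) * s⁻¹ := by group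
        _ = _ := by rw [hk]; group
    constructor
    · intro h
      rw [← inv_inv (s * k * s⁻¹), ← e, ← h.eq]; group
    · intro h
      have : s * z * k * (s * z)⁻¹ = k := by rw [e, h, inv_inv]
      exact (mul_inv_eq_iff_eq_mul.mp this).symm
  -- uniqueness of `m` in `m * l * m = k`
  have uniq : ∀ m₁ m₂ l, Cfsg.Agent.TwoFusion36.InK z m₁ → Cfsg.Agent.TwoFusion36.InK z m₂ →
      Cfsg.Agent.TwoFusion36.InK z l → m₁ * l * m₁ = m₂ * l * m₂ → m₁ = m₂ := by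
    intro m₁ m₂ l h₁ h₂ hl h
    set r := Cfsg.Agent.TwoFusion36.sqrtOdd l with hr
    have hrr : r * r = l := Cfsg.Agent.TwoFusion36.sqrtOdd_sq hl.1
    have := Cfsg.Agent.TwoFusion36.eq_of_mul_self_eq (hl.sqrt.conj_by hz h₁).1
      (hl.sqrt.conj_by hz h₂).1 (by
        rw [← hr]
        calc r * m₁ * r * (r * m₁ * r) = r * (m₁ * (r * r) * m₁) * r := by group
          _ = r * (m₂ * (r * r) * m₂) * r := by rw [hrr, h]
          _ = r * m₂ * r * (r * m₂ * r) := by group)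
    exact mul_left_cancel (mul_right_cancel this)
  refine Nat.card_eq_of_bijective (fun p : {k : G // Odd (orderOf k) ∧ z * k * z⁻¹ = k⁻¹ ∧ Commute k (s * z)} × {k : G // Odd (orderOf k) ∧ z * k * z⁻¹ = k⁻¹ ∧ Commute k s} => (⟨p.1.1 * p.2.1 * p.1.1, ?_⟩ :
    {k : G // Cfsg.Agent.TwoFusion36.InK z k})) ⟨?_, ?_⟩
  · exact Cfsg.Agent.TwoFusion36.InK.conj_by hz ⟨p.1.2.1, p.1.2.2.1⟩ ⟨p.2.2.1, p.2.2.2.1⟩
  · rintro ⟨⟨a₁, ho₁, hi₁, hc₁⟩, ⟨b₁, hob₁, hib₁, hd₁⟩⟩ ⟨⟨a₂, ho₂, hi₂, hc₂⟩, ⟨b₂, hob₂, hib₂, hd₂⟩⟩ h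
    simp only [Subtype.mk.injEq] at h
    have img : ∀ a b, s * a * s⁻¹ = a⁻¹ → s * b * s⁻¹ = b →
        (a * a) * (s * (a * b * a) * s⁻¹) * (a * a) = a * b * a := by
      intro a b ha hb
      rw [show s * (a * b * a) * s⁻¹ = s * a * s⁻¹ * (s * b * s⁻¹) * (s * a * s⁻¹) by group, ha, hb]
      group
    have e₁ := img a₁ b₁ ((hinv _ hi₁).mp hc₁) (hfix _ hd₁)
    have e₂ := img a₂ b₂ ((hinv _ hi₂).mp hc₂) (hfix _ hd₂)
    have hsq : ∀ a, Cfsg.Agent.TwoFusion36.InK z a → Cfsg.Agent.TwoFusion36.InK z (a * a) := by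
      intro a ha
      have h1 := ha.conj_by hz (k := 1) ⟨by simp, by simp⟩
      rwa [mul_one] at h1
    have haa := uniq _ _ _ (hsq _ ⟨ho₁, hi₁⟩) (hsq _ ⟨ho₂, hi₂⟩)
      (hsc _ (Cfsg.Agent.TwoFusion36.InK.conj_by hz ⟨ho₁, hi₁⟩ ⟨hob₁, hib₁⟩)) (by
        rw [e₁]; conv_rhs => rw [h]
        rw [e₂, h])
    have ha := Cfsg.Agent.TwoFusion36.eq_of_mul_self_eq ho₁ ho₂ haa
    subst ha
    have hb : b₁ = b₂ := mul_left_cancel (mul_right_cancel h)
    subst hb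
    rfl
  · rintro ⟨k, hk⟩
    set l := s * k * s⁻¹ with hl
    have hlK := hsc k hk
    set r := Cfsg.Agent.TwoFusion36.sqrtOdd l with hr
    have hrr : r * r = l := Cfsg.Agent.TwoFusion36.sqrtOdd_sq hlK.1
    have hrK : Cfsg.Agent.TwoFusion36.InK z r := hlK.sqrt
    have hrkr := hrK.conj_by hz hk
    set q := Cfsg.Agent.TwoFusion36.sqrtOdd (r * k * r) with hq
    have hqq : q * q = r * k * r := Cfsg.Agent.TwoFusion36.sqrtOdd_sq hrkr.1
    set m := r⁻¹ * q * r⁻¹ with hm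
    have hmK : Cfsg.Agent.TwoFusion36.InK z m := hrK.inv.conj_by hz hrkr.sqrt
    have hmlm : m * l * m = k := by
      rw [← hrr, hm]
      calc r⁻¹ * q * r⁻¹ * (r * r) * (r⁻¹ * q * r⁻¹) = r⁻¹ * (q * q) * r⁻¹ := by group
        _ = k := by rw [hqq]; group
    have hsm : s * m * s⁻¹ = m⁻¹ := by
      have e : (s * m * s⁻¹) * k * (s * m * s⁻¹) = l := by
        have hsi : s⁻¹ = s := inv_eq_of_mul_eq_one_right hs2
        have hkl : k = s * l * s⁻¹ := by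
          rw [hl, hsi]
          calc k = (s * s) * k * (s * s) := by rw [hs2]; group
            _ = s * (s * k * s) * s := by group
        calc s * m * s⁻¹ * k * (s * m * s⁻¹) = s * (m * l * m) * s⁻¹ := by
              conv_lhs => rw [hkl]
              group
          _ = l := by rw [hmlm]
      have h1 := uniq (s * m * s⁻¹)⁻¹ m l (hsc m hmK).inv hmK hlK (by
        rw [hmlm]; rw [← e]; group)
      exact (inv_inv _).symm.trans (congrArg (·⁻¹) h1)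
    set a := Cfsg.Agent.TwoFusion36.sqrtOdd m with ha
    have haa : a * a = m := Cfsg.Agent.TwoFusion36.sqrtOdd_sq hmK.1
    have hsa : s * a * s⁻¹ = a⁻¹ := by
      rw [ha, Cfsg.Agent.TwoFusion36.sqrtOdd, ← conj_pow, hsm, inv_pow]
    have hbK : Cfsg.Agent.TwoFusion36.InK z (a⁻¹ * k * a⁻¹) := hmK.sqrt.inv.conj_by hz hk
    refine ⟨(⟨a, hmK.sqrt.1, hmK.sqrt.2, (hinv a hmK.sqrt.2).mpr hsa⟩,
      ⟨a⁻¹ * k * a⁻¹, hbK.1, hbK.2, ?_⟩), Subtype.ext (by simp [mul_assoc])⟩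
    have h3 : s * (a⁻¹ * k * a⁻¹) * s⁻¹ = a⁻¹ * k * a⁻¹ := by
      calc s * (a⁻¹ * k * a⁻¹) * s⁻¹ = (s * a * s⁻¹)⁻¹ * l * (s * a * s⁻¹)⁻¹ := by
            rw [hl]; group
        _ = a * l * a := by rw [hsa, inv_inv]
        _ = a⁻¹ * (a * a * l * (a * a)) * a⁻¹ := by group
        _ = _ := by rw [haa, hmlm]
    exact (mul_inv_eq_iff_eq_mul.mp h3).symm

end Cfsg.Agent.S1186
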