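import Cfsg.Statements.S1189
import Cfsg.Agent.TwoFusion36.QD

set_option autoImplicit false
open Cfsg

namespace Cfsg.Agent.S1189

/-- A quasi-dihedral 2-group has exactly two conjugacy classes of elements of order 2 and exactly two conjugacy classes of elements of order 4. -/
theorem result {S : Type*} [Group S] [Finite S] (hS : Cfsg.IsQuasiDihedral S) : Nat.card {C : ConjClasses S // ∃ t : S, orderOf t = 2 ∧ ConjClasses.mk t = C} = 2 ∧ Nat.card {C : ConjClasses S // ∃ t : S, orderOf t = 4 ∧ ConjClasses.mk t = C} = 2 := by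
  obtain ⟨e, x, y, D⟩ := Cfsg.Agent.TwoFusion36.exists_isQD_top hS
  have ha : ∀ (i j : ℤ), ¬ IsConj (x ^ i) (x ^ j * y) := by
    intro i j h
    obtain ⟨s, hs⟩ := isConj_iff.mp h
    obtain ⟨l, hl⟩ := D.conj_a_form (s := s) trivial i
    exact D.a_ne_b _ _ (hl.symm.trans hs)
  constructor
  · refine Cfsg.Agent.TwoFusion36.card_classes_two (fun t => orderOf t = 2) _ _ D.orderOf_c
      D.orderOf_y ?_ ?_
    · simpa using ha (4 * e) 0
    · intro t ht
      rcases D.invol_class (v := t) trivial ht with h | ⟨k, rfl⟩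
      · exact Or.inl (h ▸ IsConj.refl _)
      · obtain ⟨s, -, hs⟩ := D.conj_rep_even k
        exact Or.inr (isConj_iff.mpr ⟨s, hs⟩)
  · refine Cfsg.Agent.TwoFusion36.card_classes_two (fun t => orderOf t = 4) _ _ D.orderOf_i
      (by simpa using D.orderOf_b_odd 0 : orderOf (x * y) = 4) ?_ ?_
    · simpa using ha (2 * e) 1
    · intro t ht
      rcases D.four_class (v := t) trivial ht with rfl | rfl | ⟨k, rfl⟩
      · exact Or.inl (IsConj.refl _)
      · exact Or.inl (isConj_iff.mpr ⟨y, by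
          rw [← conj_zpow, D.rel, ← zpow_mul]; exact D.zpow_eq_of (-(e : ℤ)) (by ring)⟩)
      · obtain ⟨s, -, hs⟩ := D.conj_rep_odd k
        exact Or.inr (isConj_iff.mpr ⟨s, hs⟩)

end Cfsg.Agent.S1189
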