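import Cfsg.Statements.S1190
import Cfsg.Agent.TwoFusion36.QD

set_option autoImplicit false
open Cfsg

namespace Cfsg.Agent.S1190

/-- In a quasi-dihedral 2-group S, any two Klein four-subgroups are conjugate, and every Klein four-subgroup T satisfies C_S(T) = T and |N_S(T) : T| = 2. -/
theorem result {S : Type*} [Group S] [Finite S] (hS : Cfsg.IsQuasiDihedral S) : (∀ T₁ T₂ : Subgroup S, IsKleinFour T₁ → IsKleinFour T₂ → ∃ s : S, T₁.map (MulAut.conj s).toMonoidHom = T₂) ∧ (∀ T : Subgroup S, IsKleinFour T → Subgroup.centralizer (T : Set S) = T ∧ T.relIndex (Subgroup.normalizer (T : Set S)) = 2) := by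
  obtain ⟨e, x, y, D⟩ := Cfsg.Agent.TwoFusion36.exists_isQD_top hS
  have hk : ∀ T : Subgroup S, IsKleinFour T → ∃ k, T = D.four k := by
    intro T hT
    refine D.eq_four le_top hT.card_four fun v hv => ?_
    have := Monoid.pow_exponent_eq_one (⟨v, hv⟩ : T)
    rw [hT.exponent_two] at this
    simpa [sq] using congrArg Subtype.val this
  refine ⟨fun T₁ T₂ h₁ h₂ => ?_, fun T hT => ?_⟩
  · obtain ⟨k, rfl⟩ := hk T₁ h₁
    obtain ⟨l, rfl⟩ := hk T₂ h₂
    obtain ⟨s, -, hs⟩ := D.four_map_conj k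
    obtain ⟨t, -, ht⟩ := D.four_map_conj l
    refine ⟨t⁻¹ * s, ?_⟩
    rw [Cfsg.Agent.TwoFusion36.map_conj_mul, hs, ← ht, ← Cfsg.Agent.TwoFusion36.map_conj_mul,
      inv_mul_cancel, map_one]
    exact Subgroup.map_id _
  obtain ⟨k, rfl⟩ := hk T hT
  constructor
  · refine le_antisymm (fun v hv => ?_) fun v hv => ?_
    · refine D.mem_four_of_commute trivial ?_
      exact (Subgroup.mem_centralizer_iff.mp hv _ (D.mem_four.mpr ⟨0, Or.inr (by ring_nf)⟩)).symm
    · rw [Subgroup.mem_centralizer_iff]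
      intro u hu
      obtain ⟨f⟩ := D.four_equiv k
      have hcomm : ∀ p q : DihedralGroup 2, p * q = q * p := by decide
      have := hcomm (f ⟨u, hu⟩) (f ⟨v, hv⟩)
      rw [← map_mul, ← map_mul, f.injective.eq_iff] at this
      exact congrArg Subtype.val this
  · refine Cfsg.Agent.TwoFusion36.relIndex_eq_two_of (x ^ (2 * e : ℤ)) ?_ fun v hv => ?_
    · have hfin : ∀ u ∈ D.four k, x ^ (2 * e : ℤ) * u * (x ^ (2 * e : ℤ))⁻¹ ∈ D.four k := by
        intro u hu
        rw [D.mem_four]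
        obtain ⟨m, rfl | rfl⟩ := D.mem_four.mp hu
        · exact ⟨m, Or.inl (by group)⟩
        · refine ⟨m + 1 - 2 * e, Or.inr ?_⟩
          rw [D.a_conj_b]
          ring_nf
      exact Subgroup.mem_normalizer_fintype hfin
    · have h1 := (Subgroup.mem_normalizer_iff.mp hv _).mp
        (D.mem_four.mpr ⟨0, Or.inr (rfl : _ = x ^ (2 * k + 4 * e * (0 : ℤ)) * y)⟩)
      rw [show (2 * k + 4 * e * (0 : ℤ)) = 2 * k by ring] at h1
      obtain ⟨m, rfl | rfl⟩ := D.norm_four (v := v) trivial h1 <;>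
        rcases Int.even_or_odd' m with ⟨l, rfl | rfl⟩
      · refine Or.inr ⟨D.mem_four.mpr ⟨l, Or.inl (by ring_nf)⟩, fun h => ?_⟩
        rw [← zpow_add, D.mem_four] at h
        obtain ⟨j, hj | hj⟩ := h
        · obtain ⟨p, hp⟩ := D.zpow_congr.mp hj
          refine D.not_dvd_odd (m := 2 * e) (mul_ne_zero two_ne_zero D.e_ne) (k := l) ⟨2 * p + j, ?_⟩
          linarith
        · exact D.a_ne_b _ _ hj
      · refine Or.inl ⟨?_, fun h => ?_⟩
        · rw [← zpow_add, D.mem_four]; exact ⟨l + 1, Or.inl (by ring_nf)⟩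
        · rw [D.mem_four] at h
          obtain ⟨j, hj | hj⟩ := h
          · obtain ⟨p, hp⟩ := D.zpow_congr.mp hj
            refine D.not_dvd_odd (m := 2 * e) (mul_ne_zero two_ne_zero D.e_ne) (k := l) ⟨2 * p + j, ?_⟩
            linarith
          · exact D.a_ne_b _ _ hj
      · refine Or.inr ⟨D.mem_four.mpr ⟨l, Or.inr (by ring_nf)⟩, fun h => ?_⟩
        rw [D.b_mul_a, D.mem_four] at h
        obtain ⟨j, hj | hj⟩ := h
        · exact D.a_ne_b _ _ hj.symm
        · obtain ⟨p, hp⟩ := D.b_congr.mp hj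
          refine D.not_dvd_odd (m := 2 * e) (mul_ne_zero two_ne_zero D.e_ne) (k := l - 1) ⟨2 * p + j - 2 * e, ?_⟩
          linarith
      · refine Or.inl ⟨?_, fun h => ?_⟩
        · rw [D.b_mul_a, D.mem_four]; exact ⟨l + 2 * e, Or.inr (by ring_nf)⟩
        · rw [D.mem_four] at h
          obtain ⟨j, hj | hj⟩ := h
          · exact D.a_ne_b _ _ hj.symm
          · obtain ⟨p, hp⟩ := D.b_congr.mp hj
            refine D.not_dvd_odd (m := 2 * e) (mul_ne_zero two_ne_zero D.e_ne) (k := l) ⟨2 * p + j, ?_⟩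
            linarith

end Cfsg.Agent.S1190
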