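import Cfsg.Statements.S1191
import Cfsg.Agent.TwoFusion36.QD

set_option autoImplicit false
open Cfsg

namespace Cfsg.Agent.S1191

/-- In a quasi-dihedral 2-group S, any two subgroups isomorphic to the quaternion group of order 8 are conjugate, and each such subgroup Q satisfies C_S(Q) = Z(Q) and |N_S(Q) : Q| = 2. -/
theorem result {S : Type*} [Group S] [Finite S] (hS : Cfsg.IsQuasiDihedral S) : (∀ Q₁ Q₂ : Subgroup S, Nonempty (Q₁ ≃* QuaternionGroup 2) → Nonempty (Q₂ ≃* QuaternionGroup 2) → ∃ s : S, Q₁.map (MulAut.conj s).toMonoidHom = Q₂) ∧ (∀ Q : Subgroup S, Nonempty (Q ≃* QuaternionGroup 2) → Subgroup.centralizer (Q : Set S) = (Subgroup.center Q).map Q.subtype ∧ Q.relIndex (Subgroup.normalizer (Q : Set S)) = 2) := by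
  obtain ⟨e, x, y, D⟩ := Cfsg.Agent.TwoFusion36.exists_isQD_top hS
  refine ⟨fun Q₁ Q₂ h₁ h₂ => ?_, fun Q hQ => ?_⟩
  · obtain ⟨k, rfl⟩ := D.eq_quat le_top h₁.some
    obtain ⟨l, rfl⟩ := D.eq_quat le_top h₂.some
    obtain ⟨s, -, hs⟩ := D.quat_map_conj k
    obtain ⟨t, -, ht⟩ := D.quat_map_conj l
    refine ⟨t⁻¹ * s, ?_⟩
    rw [Cfsg.Agent.TwoFusion36.map_conj_mul, hs, ← ht, ← Cfsg.Agent.TwoFusion36.map_conj_mul,
      inv_mul_cancel, map_one]
    exact Subgroup.map_id _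
  obtain ⟨k, rfl⟩ := D.eq_quat le_top hQ.some
  constructor
  · refine le_antisymm (fun v hv => ?_) ?_
    · rw [Subgroup.mem_centralizer_iff] at hv
      have hj : Commute v (x ^ (2 * k + 1) * y) :=
        (hv _ (D.mem_quat.mpr ⟨0, Or.inr (by ring_nf)⟩)).symm
      have hvQ : v ∈ D.quat k := by
        obtain ⟨m, rfl | rfl⟩ := D.commute_odd trivial hj
        · exact D.mem_quat.mpr ⟨2 * m, Or.inl (by ring_nf)⟩
        · exact D.mem_quat.mpr ⟨2 * m, Or.inr (by ring_nf)⟩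
      refine ⟨⟨v, hvQ⟩, Subgroup.mem_center_iff.mpr fun u => Subtype.ext ?_, rfl⟩
      exact hv u u.2
    · rintro _ ⟨u, hu, rfl⟩
      rw [Subgroup.mem_centralizer_iff]
      intro w hw
      exact congrArg Subtype.val (Subgroup.mem_center_iff.mp hu ⟨w, hw⟩)
  · refine Cfsg.Agent.TwoFusion36.relIndex_eq_two_of (x ^ (e : ℤ)) ?_ fun v hv => ?_
    · have hfin : ∀ u ∈ D.quat k, x ^ (e : ℤ) * u * (x ^ (e : ℤ))⁻¹ ∈ D.quat k := by
        intro u hu
        rw [D.mem_quat]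
        obtain ⟨m, rfl | rfl⟩ := D.mem_quat.mp hu
        · exact ⟨m, Or.inl (by group)⟩
        · refine ⟨m + 1 - 2 * e, Or.inr ?_⟩
          rw [D.a_conj_b]
          ring_nf
      exact Subgroup.mem_normalizer_fintype hfin
    · have h1 := (Subgroup.mem_normalizer_iff.mp hv _).mp
        (D.mem_quat.mpr ⟨0, Or.inr (rfl : _ = x ^ (2 * k + 1 + 2 * e * (0 : ℤ)) * y)⟩)
      rw [show (2 * k + 1 + 2 * e * (0 : ℤ)) = 2 * k + 1 by ring] at h1
      obtain ⟨m, rfl | rfl⟩ := D.norm_quat (v := v) trivial h1 <;>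
        rcases Int.even_or_odd' m with ⟨l, rfl | rfl⟩
      · refine Or.inr ⟨D.mem_quat.mpr ⟨l, Or.inl (by ring_nf)⟩, fun h => ?_⟩
        rw [← zpow_add, D.mem_quat] at h
        obtain ⟨j, hj | hj⟩ := h
        · obtain ⟨p, hp⟩ := D.zpow_congr.mp hj
          refine D.not_dvd_odd (m := (e : ℤ)) D.e_ne (k := l) ⟨4 * p + j, ?_⟩
          linarith
        · exact D.a_ne_b _ _ hj
      · refine Or.inl ⟨?_, fun h => ?_⟩
        · rw [← zpow_add, D.mem_quat]; exact ⟨l + 1, Or.inl (by ring_nf)⟩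
        · rw [D.mem_quat] at h
          obtain ⟨j, hj | hj⟩ := h
          · obtain ⟨p, hp⟩ := D.zpow_congr.mp hj
            refine D.not_dvd_odd (m := (e : ℤ)) D.e_ne (k := l) ⟨4 * p + j, ?_⟩
            linarith
          · exact D.a_ne_b _ _ hj
      · refine Or.inr ⟨D.mem_quat.mpr ⟨l, Or.inr (by ring_nf)⟩, fun h => ?_⟩
        rw [D.b_mul_a, D.mem_quat] at h
        obtain ⟨j, hj | hj⟩ := h
        · exact D.a_ne_b _ _ hj.symm
        · obtain ⟨p, hp⟩ := D.b_congr.mp hj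
          refine D.not_dvd_odd (m := (e : ℤ)) D.e_ne (k := l - 1) ⟨4 * p + j - 2 * e, ?_⟩
          linarith
      · refine Or.inl ⟨?_, fun h => ?_⟩
        · rw [D.b_mul_a, D.mem_quat]; exact ⟨l + 2 * e, Or.inr (by ring_nf)⟩
        · rw [D.mem_quat] at h
          obtain ⟨j, hj | hj⟩ := h
          · exact D.a_ne_b _ _ hj.symm
          · obtain ⟨p, hp⟩ := D.b_congr.mp hj
            refine D.not_dvd_odd (m := (e : ℤ)) D.e_ne (k := l) ⟨4 * p + j, ?_⟩
            linarith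

end Cfsg.Agent.S1191
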