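import Cfsg.Statements.S1192
import Cfsg.Agent.TwoFusion36.QDSub

set_option autoImplicit false
open Cfsg

namespace Cfsg.Agent.S1192

/-- A quasi-dihedral group S of order 2^(n+1) has exactly three maximal subgroups; one is cyclic, one is isomorphic to the generalized quaternion group of order 2^n and one to the dihedral group of order 2^n. -/
theorem result {S : Type*} [Group S] [Finite S] (hS : Cfsg.IsQuasiDihedral S) (n : ℕ) (hn : Nat.card S = 2 ^ (n + 1)) : ∃ M₁ M₂ M₃ : Subgroup S, IsCoatom M₁ ∧ IsCoatom M₂ ∧ IsCoatom M₃ ∧ M₁ ≠ M₂ ∧ M₁ ≠ M₃ ∧ M₂ ≠ M₃ ∧ (∀ M : Subgroup S, IsCoatom M → M = M₁ ∨ M = M₂ ∨ M = M₃) ∧ IsCyclic M₁ ∧ Nonempty (M₂ ≃* QuaternionGroup (2 ^ (n - 2))) ∧ Nonempty (M₃ ≃* DihedralGroup (2 ^ (n - 1))) := by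
  obtain ⟨e, x, y, D⟩ := Cfsg.Agent.TwoFusion36.exists_isQD_top hS
  obtain ⟨k, hk⟩ := D.hpow
  have hcard : 2 ^ (n + 1) = 2 ^ (k + 4) := by
    rw [← hn, ← Nat.card_congr Subgroup.topEquiv.toEquiv, D.card, hk]; ring
  obtain rfl : n = k + 3 := by
    have := Nat.pow_right_injective le_rfl hcard; omega
  refine ⟨Subgroup.zpowers x, D.gquat, D.dih, D.isCoatom_zpowers, D.isCoatom_gquat,
    D.isCoatom_dih, ?_, ?_, ?_, ?_, inferInstance, ?_, ?_⟩
  · exact fun h => D.x_notMem_gquat (h ▸ Subgroup.mem_zpowers x)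
  · exact fun h => D.x_notMem_dih (h ▸ Subgroup.mem_zpowers x)
  · exact fun h => D.y_notMem_gquat (h.symm ▸ D.y_mem_dih)
  · intro M hM
    rcases D.coatom_cases hM with h | h | h
    · exact Or.inl h
    · exact Or.inr (Or.inr h)
    · exact Or.inr (Or.inl h)
  · obtain ⟨f⟩ := D.gquat_equiv
    rw [show k + 3 - 2 = k + 1 by omega, show 2 ^ (k + 1) = 2 * e by rw [hk]; ring]
    exact ⟨f⟩
  · obtain ⟨f⟩ := D.dih_equiv
    rw [show k + 3 - 1 = k + 2 by omega, show 2 ^ (k + 2) = 4 * e by rw [hk]; ring]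
    exact ⟨f⟩

end Cfsg.Agent.S1192
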