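import Cfsg.Statements.S1193
import Cfsg.Agent.TwoFusion36.QDSub

set_option autoImplicit false
open Cfsg

namespace Cfsg.Agent.S1193

/-- Let S be quasi-dihedral of order 2^(n+1). Then S' = Φ(S) is cyclic of order 2^(n-1), the centre of S has order 2, and the subgroup generated by the involutions of S is dihedral of order 2^n. -/
theorem result {S : Type*} [Group S] [Finite S] (hS : Cfsg.IsQuasiDihedral S) (n : ℕ) (hn : Nat.card S = 2 ^ (n + 1)) : commutator S = frattini S ∧ IsCyclic (commutator S) ∧ Nat.card (commutator S) = 2 ^ (n - 1) ∧ Nat.card (Subgroup.center S) = 2 ∧ Nonempty (↥(Subgroup.closure {x : S | orderOf x = 2}) ≃* DihedralGroup (2 ^ (n - 1))) := by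
  obtain ⟨e, x, y, D⟩ := Cfsg.Agent.TwoFusion36.exists_isQD_top hS
  obtain ⟨k, hk⟩ := D.hpow
  have hcard : 2 ^ (n + 1) = 2 ^ (k + 4) := by
    rw [← hn, ← Nat.card_congr Subgroup.topEquiv.toEquiv, D.card, hk]; ring
  obtain rfl : n = k + 3 := by
    have := Nat.pow_right_injective le_rfl hcard; omega
  have h4 : 2 ^ (k + 3 - 1) = 4 * e := by rw [show k + 3 - 1 = k + 2 by omega, hk]; ring
  rw [h4, D.commutator_eq, D.center_eq]
  refine ⟨?_, inferInstance, ?_, ?_, ?_⟩
  · apply le_antisymm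
    · show _ ≤ Order.radical (Subgroup S)
      refine le_iInf₂ fun M hM => ?_
      intro v hv
      obtain ⟨l, rfl⟩ := D.mem_sq.mp hv
      rcases D.coatom_cases hM with rfl | rfl | rfl
      · exact zpow_mem (Subgroup.mem_zpowers x) _
      · exact D.mem_dih.mpr ⟨l, Or.inl rfl⟩
      · exact D.mem_gquat.mpr ⟨l, Or.inl rfl⟩
    · intro v hv
      have h1 := frattini_le_coatom D.isCoatom_zpowers hv
      obtain ⟨m, hm | hm⟩ := D.mem_dih.mp (frattini_le_coatom D.isCoatom_dih hv)
      · exact D.mem_sq.mpr ⟨m, hm⟩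
      · obtain ⟨i, hi⟩ := Subgroup.mem_zpowers_iff.mp h1
        exact absurd (hi.trans hm) (D.a_ne_b _ _)
  · rw [Nat.card_zpowers]; simpa using D.orderOf_x_sq
  · rw [Nat.card_zpowers, D.orderOf_c]
  · obtain ⟨f⟩ := D.dih_equiv
    refine ⟨(MulEquiv.subgroupCongr ?_).trans f⟩
    apply le_antisymm
    · rw [Subgroup.closure_le]
      intro v hv
      rcases D.invol_class (v := v) trivial hv with rfl | ⟨l, rfl⟩
      · exact D.mem_dih.mpr ⟨2 * e, Or.inl (by ring_nf)⟩
      · exact D.mem_dih.mpr ⟨l, Or.inr rfl⟩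
    · intro v hv
      have hy : y ∈ Subgroup.closure {x : S | orderOf x = 2} := Subgroup.subset_closure D.orderOf_y
      obtain ⟨m, rfl | rfl⟩ := D.mem_dih.mp hv
      · have h : x ^ (2 * m) * y ∈ Subgroup.closure {x : S | orderOf x = 2} :=
          Subgroup.subset_closure (D.orderOf_b_even m)
        simpa [mul_assoc, D.yy] using mul_mem h hy
      · exact Subgroup.subset_closure (D.orderOf_b_even m)

end Cfsg.Agent.S1193
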