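import Cfsg.Statements.S1194
import Cfsg.Agent.TwoFusion36.QDSub

set_option autoImplicit false
open Cfsg

namespace Cfsg.Agent.S1194

/-- In a quasi-dihedral 2-group S, every proper normal subgroup is either a maximal subgroup or a cyclic subgroup contained in the derived subgroup S'. -/
theorem result {S : Type*} [Group S] [Finite S] (hS : Cfsg.IsQuasiDihedral S) (N : Subgroup S) [N.Normal] (hN : N ≠ ⊤) : IsCoatom N ∨ (IsCyclic N ∧ N ≤ commutator S) := by
  obtain ⟨e, x, y, D⟩ := Cfsg.Agent.TwoFusion36.exists_isQD_top hS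
  rw [D.commutator_eq]
  by_cases hX : N ≤ Subgroup.zpowers x
  · by_cases hodd : ∃ l : ℤ, x ^ (2 * l + 1) ∈ N
    · obtain ⟨l, hl⟩ := hodd
      have hNX : N = Subgroup.zpowers x := le_antisymm hX
        (Subgroup.zpowers_le.mpr (Subgroup.zpowers_le.mpr hl (D.x_mem_zpowers_odd l)))
      exact Or.inl (hNX ▸ D.isCoatom_zpowers)
    · refine Or.inr ⟨Subgroup.isCyclic_of_le hX, fun v hv => ?_⟩
      obtain ⟨i, rfl⟩ := Subgroup.mem_zpowers_iff.mp (hX hv)
      rcases Int.even_or_odd' i with ⟨l, rfl | rfl⟩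
      · exact D.mem_sq.mpr ⟨l, rfl⟩
      · exact absurd ⟨l, hv⟩ hodd
  left
  obtain ⟨u, hu, hux⟩ := SetLike.not_le_iff_exists.mp hX
  obtain ⟨i, rfl | rfl⟩ := D.cases (v := u) trivial
  · exact absurd (zpow_mem (Subgroup.mem_zpowers x) i) hux
  have hsq : Subgroup.zpowers (x ^ (2 : ℤ)) ≤ N := by
    apply D.sq_le_of_shift
    have h1 := mul_mem (‹N.Normal›.conj_mem _ hu (x ^ (1 : ℤ))) (inv_mem hu)
    rw [D.a_conj_b, D.b_inv, D.b_mul_b] at h1
    rwa [D.zpow_eq_of (j := i + 1 * (2 - 4 * (e : ℤ)) + (4 * e - 1) * (-(4 * e - 1) * i))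
      ((2 * e - 1) * i) (by ring)]
  rcases Int.even_or_odd' i with ⟨l, rfl | rfl⟩
  · have hdih : D.dih ≤ N := by
      intro v hv
      obtain ⟨m, rfl | rfl⟩ := D.mem_dih.mp hv
      · exact hsq (D.mem_sq.mpr ⟨m, rfl⟩)
      · have := mul_mem (hsq (D.mem_sq.mpr ⟨m - l, rfl⟩)) hu
        rwa [← mul_assoc, ← zpow_add, show 2 * (m - l) + 2 * l = 2 * m by ring] at this
    rcases (D.isCoatom_dih.le_iff).mp hdih with h | h
    · exact absurd h hN
    · exact h ▸ D.isCoatom_dih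
  · have hq : D.gquat ≤ N := by
      intro v hv
      obtain ⟨m, rfl | rfl⟩ := D.mem_gquat.mp hv
      · exact hsq (D.mem_sq.mpr ⟨m, rfl⟩)
      · have := mul_mem (hsq (D.mem_sq.mpr ⟨m - l, rfl⟩)) hu
        rwa [← mul_assoc, ← zpow_add, show 2 * (m - l) + (2 * l + 1) = 2 * m + 1 by ring] at this
    rcases (D.isCoatom_gquat.le_iff).mp hq with h | h
    · exact absurd h hN
    · exact h ▸ D.isCoatom_gquat

end Cfsg.Agent.S1194
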