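import Cfsg.Statements.S1195
import Cfsg.Agent.TwoFusion36.WreathedSub

set_option autoImplicit false
open Cfsg

namespace Cfsg.Agent.S1195

/-- A wreathed 2-group has exactly three conjugacy classes of elements of order 2. -/
theorem result {S : Type*} [Group S] [Finite S] (hS : Cfsg.IsWreathed S) : Nat.card {C : ConjClasses S // ∃ t : S, orderOf t = 2 ∧ ConjClasses.mk t = C} = 3 := by
  obtain ⟨f, x, y, z, D⟩ := Cfsg.Agent.TwoFusion36.exists_isWr_top hS
  refine Cfsg.Agent.TwoFusion36.card_classes_three (fun t => orderOf t = 2)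
    (x ^ (2 * f : ℤ) * y ^ (2 * f : ℤ)) (x ^ (2 * f : ℤ) * y ^ (0 : ℤ)) z
    D.orderOf_c D.orderOf_u1 D.orderOf_z ?_ ?_ ?_ ?_
  · intro h
    obtain ⟨s, hs⟩ := isConj_iff.mp h
    rw [← (D.diag_comm _ (v := s) trivial).eq, mul_inv_cancel_right] at hs
    exact D.not_dvd_half (by simpa using (D.u_congr.mp hs).2)
  · intro h
    obtain ⟨s, hs⟩ := isConj_iff.mp h
    rw [← (D.diag_comm _ (v := s) trivial).eq, mul_inv_cancel_right] at hs
    rw [D.z_eq] at hs
    exact D.u_ne_v _ _ _ _ hs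
  · intro h
    obtain ⟨s, hs⟩ := isConj_iff.mp h
    rw [D.z_eq] at hs
    obtain ⟨a, b, rfl | rfl⟩ := D.cases (v := s) trivial
    · rw [D.u_conj_u] at hs; exact D.u_ne_v _ _ _ _ hs
    · rw [D.v_conj_u] at hs; exact D.u_ne_v _ _ _ _ hs
  · intro t ht
    rcases D.sq_one (v := t) trivial (by rw [← sq, ← ht]; exact pow_orderOf_eq_one t) with
      rfl | rfl | rfl | rfl | ⟨i, j, rfl, hij⟩
    · simp at ht
    · exact Or.inl (IsConj.refl _)
    · exact Or.inr (Or.inl (IsConj.refl _))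
    · exact Or.inr (Or.inl (isConj_iff.mpr ⟨z, D.u2_conj⟩))
    · obtain ⟨s, -, hs⟩ := D.v_conj_rep hij
      exact Or.inr (Or.inr (isConj_iff.mpr ⟨s, hs⟩))

end Cfsg.Agent.S1195
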