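import Cfsg.Statements.S1196
import Cfsg.Agent.TwoFusion36.WreathedSub

set_option autoImplicit false
open Cfsg

namespace Cfsg.Agent.S1196

/-- A wreathed 2-group S of order 2^(2n+1) has a unique commutative subgroup of order 2^(2n), and this subgroup is isomorphic to the direct product of two cyclic groups of order 2^n. -/
theorem result {S : Type*} [Group S] [Finite S] (hS : Cfsg.IsWreathed S) (n : ℕ) (hn : Nat.card S = 2 ^ (2 * n + 1)) : (∃! U : Subgroup S, IsMulCommutative U ∧ Nat.card U = 2 ^ (2 * n)) ∧ ∀ U : Subgroup S, IsMulCommutative U → Nat.card U = 2 ^ (2 * n) → Nonempty (U ≃* Multiplicative (ZMod (2 ^ n) × ZMod (2 ^ n))) := by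
  obtain ⟨f, x, y, z, D⟩ := Cfsg.Agent.TwoFusion36.exists_isWr_top hS
  obtain ⟨k, hk⟩ := D.hpow
  have hcard : 2 ^ (2 * n + 1) = 2 ^ (2 * k + 5) := by
    rw [← hn, ← Nat.card_congr Subgroup.topEquiv.toEquiv, D.card, hk]; ring
  obtain rfl : n = k + 2 := by
    have := Nat.pow_right_injective le_rfl hcard; omega
  have hf4 : 2 ^ (k + 2) = 4 * f := by rw [hk]; ring
  have h2 : 2 ^ (2 * (k + 2)) = 4 * f * (4 * f) := by rw [← hf4, ← pow_add, two_mul]
  have hab : IsMulCommutative D.abel := ⟨⟨fun u v => Subtype.ext (D.abel_comm u.2 v.2).eq⟩⟩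
  refine ⟨⟨D.abel, ⟨hab, by rw [D.card_abel, h2]⟩,
    fun U hU => D.eq_abel le_top hU.1 (hU.2.trans h2)⟩, fun U hU1 hU2 => ?_⟩
  rw [D.eq_abel le_top hU1 (hU2.trans h2), hf4]
  exact D.abel_equiv

end Cfsg.Agent.S1196
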