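import Cfsg.Statements.S1197
import Cfsg.Agent.TwoFusion36.WreathedSub

set_option autoImplicit false
open Cfsg
open scoped commutatorElement

namespace Cfsg.Agent.S1197

/-- Let S be a wreathed 2-group of order 2^(2n+1). Then Z(S) is cyclic of order 2^n, the derived subgroup S' is cyclic of order 2^n, and S/Z(S) is isomorphic to the dihedral group of order 2^(n+1). -/
theorem result {S : Type*} [Group S] [Finite S] (hS : Cfsg.IsWreathed S) (n : ℕ) (hn : Nat.card S = 2 ^ (2 * n + 1)) : IsCyclic (Subgroup.center S) ∧ Nat.card (Subgroup.center S) = 2 ^ n ∧ IsCyclic (commutator S) ∧ Nat.card (commutator S) = 2 ^ n ∧ Nonempty (S ⧸ Subgroup.center S ≃* DihedralGroup (2 ^ n)) := by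
  obtain ⟨f, x, y, z, D⟩ := Cfsg.Agent.TwoFusion36.exists_isWr_top hS
  obtain ⟨k, hk⟩ := D.hpow
  have hcard : 2 ^ (2 * n + 1) = 2 ^ (2 * k + 5) := by
    rw [← hn, ← Nat.card_congr Subgroup.topEquiv.toEquiv, D.card, hk]; ring
  obtain rfl : n = k + 2 := by
    have := Nat.pow_right_injective le_rfl hcard; omega
  have hf4 : 2 ^ (k + 2) = 4 * f := by rw [hk]; ring
  have hcen : Subgroup.center S = Subgroup.zpowers (x * y) := by
    ext v
    rw [Subgroup.mem_center_iff]
    constructor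
    · intro h
      exact D.eq_diag_of_comm (v := v) trivial (h z).symm (h x).symm
    · intro hv g
      obtain ⟨a, rfl⟩ := D.mem_diag.mp hv
      exact (D.diag_comm a (v := g) trivial).eq.symm
  have hgen : ∀ i : ℤ, (x ^ (1 : ℤ) * y ^ (-1 : ℤ)) ^ i = x ^ i * y ^ (-i) := by
    intro i
    rw [(D.comm.zpow_zpow 1 (-1)).mul_zpow, ← zpow_mul, ← zpow_mul]; ring_nf
  have hordg : orderOf (x ^ (1 : ℤ) * y ^ (-1 : ℤ)) = 4 * f := by
    apply Nat.dvd_antisymm
    · apply orderOf_dvd_of_pow_eq_one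
      rw [← zpow_natCast, hgen, D.u_eq_one]
      exact ⟨⟨1, by push_cast; ring⟩, ⟨-1, by push_cast; ring⟩⟩
    · have := pow_orderOf_eq_one (x ^ (1 : ℤ) * y ^ (-1 : ℤ))
      rw [← zpow_natCast, hgen, D.u_eq_one] at this
      exact_mod_cast this.1
  have hcom : commutator S = Subgroup.zpowers (x ^ (1 : ℤ) * y ^ (-1 : ℤ)) := by
    apply le_antisymm
    · rw [commutator_def, Subgroup.commutator_le]
      intro u _ v _
      rw [Subgroup.mem_zpowers_iff, commutatorElement_def]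
      obtain ⟨i, j, rfl | rfl⟩ := D.cases (v := u) trivial <;>
        obtain ⟨a, b, rfl | rfl⟩ := D.cases (v := v) trivial
      · exact ⟨0, by rw [D.u_conj_u, mul_inv_cancel, zpow_zero]⟩
      · refine ⟨i - j, ?_⟩
        rw [hgen, D.u_conj_v, D.v_inv, D.v_mul_v]; ring_nf
      · refine ⟨b - a, ?_⟩
        rw [hgen, D.v_conj_u, D.u_inv, D.u_mul]; ring_nf
      · refine ⟨i - j + (b - a), ?_⟩
        rw [hgen, D.v_conj_v, D.v_inv, D.v_mul_v]; ring_nf
    · rw [Subgroup.zpowers_le]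
      have : ⁅x ^ (1 : ℤ) * y ^ (0 : ℤ), x ^ (0 : ℤ) * y ^ (0 : ℤ) * z⁆ ∈ commutator S :=
        Subgroup.commutator_mem_commutator trivial trivial
      rw [commutatorElement_def, D.u_conj_v, D.v_inv, D.v_mul_v] at this
      simpa using this
  refine ⟨hcen ▸ inferInstance, ?_, hcom ▸ inferInstance, ?_, ?_⟩
  · rw [hcen, Nat.card_zpowers, D.orderOf_xy, hf4]
  · rw [hcom, Nat.card_zpowers, hordg, hf4]
  rw [hf4]
  haveI : NeZero (4 * f) := ⟨by have := D.one_le; omega⟩
  have hmkdiag : ∀ i j : ℤ, (QuotientGroup.mk (x ^ i * y ^ j) : S ⧸ Subgroup.center S)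
      = (QuotientGroup.mk x) ^ (i - j) := by
    intro i j
    have h1 : (QuotientGroup.mk (x ^ j * y ^ j) : S ⧸ Subgroup.center S) = 1 := by
      rw [QuotientGroup.eq_one_iff, hcen]
      exact D.mem_diag.mpr ⟨j, rfl⟩
    have e : x ^ i * y ^ j = x ^ (i - j) * (x ^ j * y ^ j) := by
      rw [← mul_assoc, ← zpow_add, sub_add_cancel]
    rw [e, QuotientGroup.mk_mul, h1, mul_one, QuotientGroup.mk_zpow]
  have hz1 : (QuotientGroup.mk z : S ⧸ Subgroup.center S) * QuotientGroup.mk z = 1 := by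
    rw [← QuotientGroup.mk_mul, D.zz, QuotientGroup.mk_one]
  have hord : orderOf (QuotientGroup.mk x : S ⧸ Subgroup.center S) = 4 * f := by
    apply Nat.dvd_antisymm
    · apply orderOf_dvd_of_pow_eq_one
      rw [← QuotientGroup.mk_pow, ← D.ordx, pow_orderOf_eq_one, QuotientGroup.mk_one]
    · have := pow_orderOf_eq_one (QuotientGroup.mk x : S ⧸ Subgroup.center S)
      rw [← QuotientGroup.mk_pow, QuotientGroup.eq_one_iff] at this
      obtain ⟨a, ha⟩ := D.mem_diag.mp ((SetLike.ext_iff.mp hcen _).mp this)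
      have ha' : x ^ ((orderOf (QuotientGroup.mk x : S ⧸ Subgroup.center S) : ℤ)) * y ^ (0 : ℤ)
          = x ^ a * y ^ a := by simpa using ha
      obtain ⟨h1, h2⟩ := D.u_congr.mp ha'
      have := dvd_sub h1 h2
      rw [show ((orderOf (QuotientGroup.mk x : S ⧸ Subgroup.center S) : ℤ) - a - (0 - a))
        = (orderOf (QuotientGroup.mk x : S ⧸ Subgroup.center S) : ℤ) by ring] at this
      exact_mod_cast this
  suffices h : Nonempty ((⊤ : Subgroup (S ⧸ Subgroup.center S)) ≃* DihedralGroup (4 * f)) by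
    obtain ⟨e⟩ := h
    exact ⟨Subgroup.topEquiv.symm.trans e⟩
  refine Cfsg.Agent.TwoFusion36.nonempty_equiv_dihedral (m := 4 * f)
    (QuotientGroup.mk x : S ⧸ Subgroup.center S) (QuotientGroup.mk z) hord hz1 ?_ ?_ ⊤ ?_
  · have h := hmkdiag 0 1
    rw [zpow_zero, one_mul, zpow_one, zero_sub, zpow_neg_one] at h
    rw [← QuotientGroup.mk_inv, ← QuotientGroup.mk_mul, ← QuotientGroup.mk_mul, D.rel, h]
  · intro m hm
    rw [← QuotientGroup.mk_zpow, QuotientGroup.eq, hcen, D.mem_diag, D.zinv] at hm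
    obtain ⟨a, ha⟩ := hm
    refine D.u_ne_v a a 0 m (ha.symm.trans ?_)
    rw [show z * x ^ m = z * (x ^ m * y ^ (0 : ℤ)) by simp, D.z_mul]
  · intro v
    refine iff_of_true trivial ?_
    induction v using QuotientGroup.induction_on with
    | _ g =>
      obtain ⟨i, j, rfl | rfl⟩ := D.cases (v := g) trivial
      · exact ⟨i - j, Or.inl (hmkdiag i j)⟩
      · refine ⟨j - i, Or.inr ?_⟩
        rw [← hmkdiag j i, ← QuotientGroup.mk_mul, D.z_mul]

end Cfsg.Agent.S1197
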