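import Cfsg.Statements.S1198
import Cfsg.Agent.TwoFusion36.WreathedSub

set_option autoImplicit false
open Cfsg

namespace Cfsg.Agent.S1198

/-- A wreathed 2-group S has a normal Klein four-subgroup T such that every Klein four-subgroup of S other than T is conjugate in S to any other such subgroup; in particular S has exactly two conjugacy classes of Klein four-subgroups. -/
theorem result {S : Type*} [Group S] [Finite S] (hS : Cfsg.IsWreathed S) : ∃ T : Subgroup S, IsKleinFour T ∧ T.Normal ∧ (∃ T₀ : Subgroup S, IsKleinFour T₀ ∧ T₀ ≠ T) ∧ ∀ T₁ T₂ : Subgroup S, IsKleinFour T₁ → IsKleinFour T₂ → T₁ ≠ T → T₂ ≠ T → ∃ s : S, T₁.map (MulAut.conj s).toMonoidHom = T₂ := by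
  obtain ⟨f, x, y, z, D⟩ := Cfsg.Agent.TwoFusion36.exists_isWr_top hS
  have h1sq : x ^ (2 * f : ℤ) * y ^ (0 : ℤ) * (x ^ (2 * f : ℤ) * y ^ (0 : ℤ)) = 1 := by
    rw [← sq, ← D.orderOf_u1, pow_orderOf_eq_one]
  have h2sq : x ^ (0 : ℤ) * y ^ (2 * f : ℤ) * (x ^ (0 : ℤ) * y ^ (2 * f : ℤ)) = 1 := by
    rw [← sq, ← D.orderOf_u2, pow_orderOf_eq_one]
  have hcsq : x ^ (2 * f : ℤ) * y ^ (2 * f : ℤ) * (x ^ (2 * f : ℤ) * y ^ (2 * f : ℤ)) = 1 := by
    rw [← sq, ← D.orderOf_c, pow_orderOf_eq_one]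
  have hinv : x ^ (0 : ℤ) * y ^ (2 * f : ℤ) * (x ^ (2 * f : ℤ) * y ^ (0 : ℤ)) *
      (x ^ (0 : ℤ) * y ^ (2 * f : ℤ))⁻¹ = (x ^ (2 * f : ℤ) * y ^ (0 : ℤ))⁻¹ := by
    rw [D.u_conj_u, inv_eq_of_mul_eq_one_right h1sq]
  have hzc : z * (x ^ (2 * f : ℤ) * y ^ (2 * f : ℤ)) * z⁻¹ =
      (x ^ (2 * f : ℤ) * y ^ (2 * f : ℤ))⁻¹ := by
    rw [D.z_mul, mul_inv_cancel_right, inv_eq_of_mul_eq_one_right hcsq]
  let T : Subgroup S := Cfsg.Agent.TwoFusion36.sub2 _ _ hinv ⟨0, by rw [h2sq, zpow_zero]⟩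
  let T₀ : Subgroup S := Cfsg.Agent.TwoFusion36.sub2 _ _ hzc ⟨0, by rw [D.zz, zpow_zero]⟩
  obtain ⟨eT⟩ := Cfsg.Agent.TwoFusion36.nonempty_equiv_dihedral _ _ D.orderOf_u1 h2sq hinv
    (fun m h => by
      rw [(D.comm.zpow_zpow _ _).mul_zpow, ← zpow_mul, ← zpow_mul] at h
      exact D.not_dvd_half (by simpa using (D.u_congr.mp h).2)) T
    (fun v => Cfsg.Agent.TwoFusion36.mem_sub2)
  obtain ⟨eT₀⟩ := Cfsg.Agent.TwoFusion36.nonempty_equiv_dihedral _ _ D.orderOf_c D.zz hzc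
    (fun m h => by
      rw [(D.comm.zpow_zpow _ _).mul_zpow, ← zpow_mul, ← zpow_mul, D.z_eq] at h
      exact D.u_ne_v _ _ _ _ h.symm) T₀
    (fun v => Cfsg.Agent.TwoFusion36.mem_sub2)
  have hK : ∀ (U : Subgroup S), (U ≃* DihedralGroup 2) → IsKleinFour U := fun U e =>
    { card_four := by rw [Nat.card_congr e.toEquiv, DihedralGroup.nat_card]
      exponent_two := by rw [Monoid.exponent_eq_of_mulEquiv e, DihedralGroup.exponent]; rfl }
  have hexp : ∀ U : Subgroup S, IsKleinFour U → ∀ v ∈ U, v * v = 1 := by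
    intro U hU v hv
    have h := Monoid.pow_exponent_eq_one (⟨v, hv⟩ : U)
    rw [hU.exponent_two] at h
    simpa [sq] using congrArg Subtype.val h
  -- the four-subgroups are `T` and the `{1, c, w, c w}` with `w` outside `⟨x, y⟩`
  have hclass : ∀ U : Subgroup S, IsKleinFour U → U ≠ T →
      ∃ s : S, U.map (MulAut.conj s).toMonoidHom = T₀ := by
    intro U hU hne
    obtain ⟨i, j, hw, hij⟩ : ∃ i j : ℤ, x ^ i * y ^ j * z ∈ U ∧ (4 * f : ℤ) ∣ i + j := by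
      by_contra hno
      refine hne (Subgroup.eq_of_le_of_card_ge ?_ ?_)
      · intro v hv
        rcases D.sq_one (v := v) trivial (hexp U hU v hv) with
          rfl | rfl | rfl | rfl | ⟨i, j, rfl, hij⟩
        · exact one_mem T
        · refine Cfsg.Agent.TwoFusion36.mem_sub2.mpr ⟨1, Or.inr ?_⟩
          rw [zpow_one, D.u_mul]; ring_nf
        · exact Cfsg.Agent.TwoFusion36.mem_sub2.mpr ⟨1, Or.inl (zpow_one _).symm⟩
        · exact Cfsg.Agent.TwoFusion36.mem_sub2.mpr ⟨0, Or.inr (mul_eq_left.mpr (zpow_zero _)).symm⟩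
        · exact absurd ⟨i, j, hv, hij⟩ hno
      · rw [hU.card_four, (hK T eT).card_four]
    obtain ⟨s, -, hs⟩ := D.v_conj_rep hij
    refine ⟨s, Subgroup.eq_of_le_of_card_ge ?_ ?_⟩
    · rintro _ ⟨v, hv, rfl⟩
      show s * v * s⁻¹ ∈ T₀
      have hmem : ∀ p q : ℤ, x ^ p * y ^ q ∈ U → s * (x ^ p * y ^ q) * s⁻¹ ∈ T₀ := by
        intro p q hpq
        have hdiag : (4 * f : ℤ) ∣ p - q := by
          have hs2 : x ^ p * y ^ q * (x ^ i * y ^ j * z) = x ^ i * y ^ j * z * (x ^ p * y ^ q) := by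
            have h1 := hexp U hU _ (mul_mem hpq hw)
            have h2 := hexp U hU _ hpq
            have h3 := hexp U hU _ hw
            generalize x ^ p * y ^ q = u at h1 h2 ⊢
            generalize x ^ i * y ^ j * z = w at h1 h3 ⊢
            calc u * w = (u * w)⁻¹ := (inv_eq_of_mul_eq_one_right h1).symm
              _ = w * u := by
                rw [mul_inv_rev, inv_eq_of_mul_eq_one_right h2, inv_eq_of_mul_eq_one_right h3]
          exact D.commute_u_v.mp hs2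
        rcases D.sq_one (v := x ^ p * y ^ q) trivial (hexp U hU _ hpq) with
          h | h | h | h | ⟨a, b, h, -⟩
        · rw [h]; simp
        · rw [h, ← (D.diag_comm _ (v := s) trivial).eq, mul_inv_cancel_right]
          exact Cfsg.Agent.TwoFusion36.mem_sub2.mpr ⟨1, Or.inl (zpow_one _).symm⟩
        · obtain ⟨h1, h2⟩ := D.u_congr.mp h
          refine absurd ?_ D.not_dvd_half
          have := dvd_sub hdiag (dvd_sub h1 h2)
          rwa [show p - q - (p - 2 * (f : ℤ) - (q - 0)) = 2 * f by ring] at this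
        · obtain ⟨h1, h2⟩ := D.u_congr.mp h
          refine absurd ?_ D.not_dvd_half
          have := dvd_sub (dvd_sub h1 h2) hdiag
          rwa [show p - 0 - (q - 2 * (f : ℤ)) - (p - q) = 2 * f by ring] at this
        · exact absurd h (D.u_ne_v _ _ _ _)
      have hz0 : z ∈ T₀ :=
        Cfsg.Agent.TwoFusion36.mem_sub2.mpr ⟨0, Or.inr (by rw [zpow_zero, mul_one])⟩
      obtain ⟨p, q, rfl | rfl⟩ := D.cases (v := v) trivial
      · exact hmem p q hv
      · have h := mul_mem hv hw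
        rw [D.v_mul_v] at h
        have hsplit : x ^ p * y ^ q * z =
            x ^ (p + j) * y ^ (q + i) * (x ^ i * y ^ j * z)⁻¹ := by
          rw [← D.v_mul_v, mul_inv_cancel_right]
        rw [hsplit, show s * (x ^ (p + j) * y ^ (q + i) * (x ^ i * y ^ j * z)⁻¹) * s⁻¹
            = s * (x ^ (p + j) * y ^ (q + i)) * s⁻¹ * (s * (x ^ i * y ^ j * z) * s⁻¹)⁻¹ by group,
          hs]
        exact mul_mem (hmem _ _ h) (inv_mem hz0)
    · rw [(hK T₀ eT₀).card_four,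
        Subgroup.card_map_of_injective (MulAut.conj s).injective, hU.card_four]
  refine ⟨T, hK T eT, ?_, ⟨T₀, hK T₀ eT₀, ?_⟩, fun T₁ T₂ h₁ h₂ n₁ n₂ => ?_⟩
  · refine ⟨fun v hv g => ?_⟩
    have hvv := hexp T (hK T eT) v hv
    have hvU : v ∈ D.abel := by
      obtain ⟨m, rfl | rfl⟩ := Cfsg.Agent.TwoFusion36.mem_sub2.mp hv
      · exact zpow_mem (D.mem_abel.mpr ⟨_, _, rfl⟩) m
      · exact mul_mem ⟨_, _, rfl⟩ (zpow_mem (D.mem_abel.mpr ⟨_, _, rfl⟩) m)
    have hgU : g * v * g⁻¹ ∈ D.abel := by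
      obtain ⟨p, q, rfl⟩ := hvU
      obtain ⟨a, b, rfl | rfl⟩ := D.cases (v := g) trivial
      · exact ⟨_, _, D.u_conj_u a b p q⟩
      · exact ⟨_, _, D.v_conj_u a b p q⟩
    have hgg : g * v * g⁻¹ * (g * v * g⁻¹) = 1 := by
      calc g * v * g⁻¹ * (g * v * g⁻¹) = g * (v * v) * g⁻¹ := by group
        _ = 1 := by rw [hvv]; group
    rcases D.sq_one (v := g * v * g⁻¹) trivial hgg with h | h | h | h | ⟨a, b, h, -⟩
    · rw [h]; exact one_mem T
    · rw [h]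
      refine Cfsg.Agent.TwoFusion36.mem_sub2.mpr ⟨1, Or.inr ?_⟩
      rw [zpow_one, D.u_mul]; ring_nf
    · rw [h]; exact Cfsg.Agent.TwoFusion36.mem_sub2.mpr ⟨1, Or.inl (zpow_one _).symm⟩
    · rw [h]; exact Cfsg.Agent.TwoFusion36.mem_sub2.mpr ⟨0, Or.inr (mul_eq_left.mpr (zpow_zero _)).symm⟩
    · exact absurd (h ▸ hgU) (D.v_notMem_abel a b)
  · intro h
    have hz0 : z ∈ T₀ :=
      Cfsg.Agent.TwoFusion36.mem_sub2.mpr ⟨0, Or.inr (by rw [zpow_zero, mul_one])⟩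
    rw [h] at hz0
    obtain ⟨m, hm | hm⟩ := Cfsg.Agent.TwoFusion36.mem_sub2.mp hz0
    · have h2 := zpow_mem (D.mem_abel.mpr ⟨2 * (f : ℤ), 0, rfl⟩) m
      rw [← hm] at h2
      exact D.v_notMem_abel 0 0 (by simpa using h2)
    · have h2 := mul_mem (D.mem_abel.mpr ⟨0, 2 * (f : ℤ), rfl⟩)
        (zpow_mem (D.mem_abel.mpr ⟨2 * (f : ℤ), 0, rfl⟩) m)
      rw [← hm] at h2
      exact D.v_notMem_abel 0 0 (by simpa using h2)
  · obtain ⟨s, hs⟩ := hclass T₁ h₁ n₁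
    obtain ⟨t, ht⟩ := hclass T₂ h₂ n₂
    refine ⟨t⁻¹ * s, ?_⟩
    rw [Cfsg.Agent.TwoFusion36.map_conj_mul, hs, ← ht, ← Cfsg.Agent.TwoFusion36.map_conj_mul,
      inv_mul_cancel, map_one]
    exact Subgroup.map_id _

end Cfsg.Agent.S1198
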