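import Cfsg.Statements.S1199
import Cfsg.Agent.TwoFusion36.WreathedSub

set_option autoImplicit false
open Cfsg

namespace Cfsg.Agent.S1199

/-- A wreathed 2-group S of order 2^(2n+1) has exactly one subgroup of order 2^(n+1) isomorphic to a generalized quaternion group, and that subgroup is normal in S. -/
theorem result {S : Type*} [Group S] [Finite S] (hS : Cfsg.IsWreathed S) (n : ℕ) (hn : Nat.card S = 2 ^ (2 * n + 1)) : (∃! Y : Subgroup S, Nat.card Y = 2 ^ (n + 1) ∧ Nonempty (Y ≃* QuaternionGroup (2 ^ (n - 1)))) ∧ ∀ Y : Subgroup S, Nat.card Y = 2 ^ (n + 1) → Nonempty (Y ≃* QuaternionGroup (2 ^ (n - 1))) → Y.Normal := by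
  obtain ⟨f, x, y, z, D⟩ := Cfsg.Agent.TwoFusion36.exists_isWr_top hS
  obtain ⟨k, hk⟩ := D.hpow
  have hcard : 2 ^ (2 * n + 1) = 2 ^ (2 * k + 5) := by
    rw [← hn, ← Nat.card_congr Subgroup.topEquiv.toEquiv, D.card, hk]; ring
  obtain rfl : n = k + 2 := by
    have := Nat.pow_right_injective le_rfl hcard; omega
  have hf4 : 2 ^ (k + 2) = 4 * f := by rw [hk]; ring
  have hf2 : 2 ^ (k + 2 - 1) = 2 * f := by rw [show k + 2 - 1 = k + 1 by omega, hk]; ring
  rw [hf2]
  haveI : NeZero (2 * f) := ⟨by have := D.one_le; omega⟩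
  set Y := D.ssub (4 * f) (2 * f) D.quat_ha with hY
  have huniq : ∀ U : Subgroup S, Nonempty (U ≃* QuaternionGroup (2 * f)) → U = Y :=
    fun U ⟨e⟩ => D.eq_gq le_top e
  refine ⟨⟨Y, ⟨?_, D.gq_equiv⟩, fun U hU => huniq U hU.2⟩, fun U _ hU => ?_⟩
  · obtain ⟨e⟩ := D.gq_equiv
    rw [hY, Nat.card_congr e.toEquiv, Nat.card_eq_fintype_card, QuaternionGroup.card,
      show k + 2 + 1 = (k + 2) + 1 from rfl, pow_succ, hf4]
    ring
  · refine ⟨fun v hv g => ?_⟩
    have e := hU.some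
    have hmap : U.map (MulAut.conj g).toMonoidHom = U := by
      rw [huniq U hU]
      exact huniq _ ⟨((Subgroup.equivMapOfInjective Y _ (MulAut.conj g).injective).symm).trans
        ((MulEquiv.subgroupCongr (huniq U hU).symm).trans e)⟩
    exact hmap ▸ ⟨v, hv, rfl⟩

end Cfsg.Agent.S1199
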