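import Cfsg.Statements.S1200
import Cfsg.Agent.TwoFusion36.WreathedSub

set_option autoImplicit false
open Cfsg

namespace Cfsg.Agent.S1200

/-- Let S be a wreathed 2-group of order 2^(2n+1) and Ω the subgroup generated by its involutions. Then Ω has order 2^(n+2) and S/Ω is cyclic: some s ∈ S together with Ω generates S. -/
theorem result {S : Type*} [Group S] [Finite S] (hS : Cfsg.IsWreathed S) (n : ℕ) (hn : Nat.card S = 2 ^ (2 * n + 1)) : Nat.card (Subgroup.closure {x : S | orderOf x = 2}) = 2 ^ (n + 2) ∧ ∃ s : S, Subgroup.closure {x : S | orderOf x = 2} ⊔ Subgroup.zpowers s = ⊤ := by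
  obtain ⟨f, x, y, z, D⟩ := Cfsg.Agent.TwoFusion36.exists_isWr_top hS
  obtain ⟨k, hk⟩ := D.hpow
  have hcard : 2 ^ (2 * n + 1) = 2 ^ (2 * k + 5) := by
    rw [← hn, ← Nat.card_congr Subgroup.topEquiv.toEquiv, D.card, hk]; ring
  obtain rfl : n = k + 2 := by
    have := Nat.pow_right_injective le_rfl hcard; omega
  have hf4 : 2 ^ (k + 2) = 4 * f := by rw [hk]; ring
  set W := D.ssub (2 * f : ℕ) 0 (by simp) with hW
  have hd : ((2 * f : ℕ) : ℤ) ∣ 4 * f := ⟨2, by push_cast; ring⟩
  have hWcl : Subgroup.closure {x : S | orderOf x = 2} = W := by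
    apply le_antisymm
    · rw [Subgroup.closure_le]
      intro v hv
      rcases D.sq_one (v := v) trivial (by rw [← sq, ← show orderOf v = 2 from hv,
        pow_orderOf_eq_one]) with h | h | h | h | ⟨i, j, h, hij⟩ <;> rw [h]
      · exact one_mem W
      · exact (D.u_mem_ssub hd).mpr ⟨2, by push_cast; ring⟩
      · exact (D.u_mem_ssub hd).mpr ⟨1, by push_cast; ring⟩
      · exact (D.u_mem_ssub hd).mpr ⟨1, by push_cast; ring⟩
      · exact (D.v_mem_ssub hd).mpr (by rw [sub_zero]; exact hd.trans hij)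
    · set C := Subgroup.closure {x : S | orderOf x = 2}
      have hz : z ∈ C := Subgroup.subset_closure D.orderOf_z
      have hu2 : x ^ (0 : ℤ) * y ^ (2 * f : ℤ) ∈ C := Subgroup.subset_closure D.orderOf_u2
      have hvi : ∀ i : ℤ, x ^ i * y ^ (-i) * z ∈ C := by
        intro i
        refine Subgroup.subset_closure (orderOf_eq_prime ?_ fun h => ?_)
        · rw [sq, D.v_sq, add_neg_cancel, zpow_zero, zpow_zero, one_mul]
        · exact D.u_ne_v 0 0 _ _ (by rw [h]; simp)
      rintro _ ⟨i, j, ⟨rfl, p, hp⟩ | ⟨rfl, p, hp⟩⟩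
      · have hm := mul_mem (zpow_mem hu2 p) (mul_mem (hvi i) hz)
        rw [(D.comm.zpow_zpow _ _).mul_zpow, ← zpow_mul, ← zpow_mul, mul_assoc (x ^ i * y ^ (-i)),
          D.zz, mul_one, D.u_mul] at hm
        rwa [D.u_eq_of (i := i) (j := j) (k := 0 * p + i) (l := 2 * f * p + -i) 0 0 (by ring)
          (by push_cast at hp; linarith)]
      · have hm := mul_mem (zpow_mem hu2 p) (hvi i)
        rw [(D.comm.zpow_zpow _ _).mul_zpow, ← zpow_mul, ← zpow_mul, D.u_mul_v] at hm
        rwa [D.u_eq_of (i := i) (j := j) (k := 0 * p + i) (l := 2 * f * p + -i) 0 0 (by ring)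
          (by push_cast at hp; linarith)]
  rw [hWcl]
  refine ⟨?_, x, eq_top_iff.mpr fun v _ => ?_⟩
  · have h := D.card_ssub (d := 2 * f) (a := 0) (by simp) (by have := D.one_le; omega) hd
    have h2 : 2 * f * Nat.card W = 2 * f * (16 * f) := by rw [hW, h]; ring
    rw [Nat.eq_of_mul_eq_mul_left (by have := D.one_le; omega) h2,
      show k + 2 + 2 = (k + 2) + 2 from rfl, pow_add, hf4]
    ring
  · have hx : ∀ i : ℤ, x ^ i ∈ W ⊔ Subgroup.zpowers x := fun i =>
      Subgroup.mem_sup_right (zpow_mem (Subgroup.mem_zpowers x) i)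
    obtain ⟨i, j, rfl | rfl⟩ := D.cases (v := v) trivial
    · have : x ^ i * y ^ j = x ^ (i + j) * (x ^ (-j) * y ^ j) := by
        rw [← mul_assoc, ← zpow_add, add_neg_cancel_right]
      rw [this]
      exact mul_mem (hx _) (Subgroup.mem_sup_left ((D.u_mem_ssub hd).mpr (by simp)))
    · have : x ^ i * y ^ j * z = x ^ (i + j) * (x ^ (-j) * y ^ j * z) := by
        rw [← mul_assoc, ← mul_assoc, ← zpow_add, add_neg_cancel_right]
      rw [this]
      exact mul_mem (hx _) (Subgroup.mem_sup_left ((D.v_mem_ssub hd).mpr (by simp)))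

end Cfsg.Agent.S1200
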