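import Cfsg.Statements.S1201
import Cfsg.Agent.TwoFusion36.WreathedSub

set_option autoImplicit false
open Cfsg

namespace Cfsg.Agent.S1201

/-- If X is a non-commutative subgroup of a wreathed 2-group S, then Z(X) ≤ Z(S). -/
theorem result {S : Type*} [Group S] [Finite S] (hS : Cfsg.IsWreathed S) (X : Subgroup S) (hX : ¬ IsMulCommutative X) : (Subgroup.center X).map X.subtype ≤ Subgroup.center S := by
  obtain ⟨f, x, y, z, D⟩ := Cfsg.Agent.TwoFusion36.exists_isWr_top hS
  refine le_trans (D.center_le_diag le_top hX) fun v hv => ?_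
  rw [Subgroup.mem_center_iff]
  intro g
  obtain ⟨a, rfl⟩ := D.mem_diag.mp hv
  exact (D.diag_comm a (v := g) trivial).eq.symm

end Cfsg.Agent.S1201
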