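import Cfsg.Statements.S1202
import Cfsg.Agent.TwoFusion36.WreathedAut

set_option autoImplicit false
open Cfsg

namespace Cfsg.Agent.S1202

open Cfsg.Agent.TwoFusion36 in
theorem dsub_map {S : Type*} [Group S] {f : ℕ} {x y z : S} (D : IsWr (⊤ : Subgroup S) f x y z)
    {a : ℤ} (ha : 2 ∣ a) :
    ∃ s : S, (D.dsub (2 * f : ℕ) a).map (MulAut.conj s).toMonoidHom = D.dsub (2 * f : ℕ) 0 := by
  obtain ⟨h, rfl⟩ := ha
  have hd : ((2 * f : ℕ) : ℤ) ∣ 4 * f := ⟨2, by push_cast; ring⟩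
  refine ⟨x ^ (-h) * y ^ (0 : ℤ), le_antisymm ?_ ?_⟩
  · rintro _ ⟨v, ⟨i, j, ⟨rfl, hij⟩ | ⟨rfl, hij⟩⟩, rfl⟩
    · show x ^ (-h) * y ^ (0 : ℤ) * (x ^ i * y ^ j) * (x ^ (-h) * y ^ (0 : ℤ))⁻¹ ∈ _
      rw [D.u_conj_u, D.u_mem_dsub hd]; exact hij
    · show x ^ (-h) * y ^ (0 : ℤ) * (x ^ i * y ^ j * z) * (x ^ (-h) * y ^ (0 : ℤ))⁻¹ ∈ _
      rw [D.u_conj_v, D.v_mem_dsub hd]
      rwa [show -h + i - 0 - (0 + j - -h) - 0 = i - j - 2 * h by ring]
  · rintro _ ⟨i, j, ⟨rfl, hij⟩ | ⟨rfl, hij⟩⟩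
    · exact ⟨_, (D.u_mem_dsub hd).mpr hij, D.u_conj_u _ _ _ _⟩
    · refine ⟨x ^ (i + h) * y ^ (j - h) * z, (D.v_mem_dsub hd).mpr ?_, ?_⟩
      · rwa [show i + h - (j - h) - 2 * h = i - j - 0 by ring]
      · show x ^ (-h) * y ^ (0 : ℤ) * (x ^ (i + h) * y ^ (j - h) * z) * (x ^ (-h) * y ^ (0 : ℤ))⁻¹ = _
        rw [D.u_conj_v]; ring_nf

/-- Let S be a wreathed 2-group of order 2^(2n+1) and X a subgroup with C_S(X) ≤ X such that Aut(X) is not a 2-group. Then |N_S(X) : X| = 2, and either X is the commutative subgroup of order 2^(2n), or X = Q·Z(S) for some subgroup Q ≅ Q₈; in the latter case any two such subgroups are conjugate in S. -/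
theorem result {S : Type*} [Group S] [Finite S] (hS : Cfsg.IsWreathed S) (n : ℕ) (hn : Nat.card S = 2 ^ (2 * n + 1)) (X : Subgroup S) (hC : Subgroup.centralizer (X : Set S) ≤ X) (hA : ¬ IsPGroup 2 (MulAut X)) : X.relIndex (Subgroup.normalizer (X : Set S)) = 2 ∧ ((IsMulCommutative X ∧ Nat.card X = 2 ^ (2 * n)) ∨ ∃ Q : Subgroup S, Nonempty (Q ≃* QuaternionGroup 2) ∧ X = Q ⊔ Subgroup.center S) ∧ ∀ X' : Subgroup S, Subgroup.centralizer (X' : Set S) ≤ X' → ¬ IsPGroup 2 (MulAut X') → ¬ IsMulCommutative X → ¬ IsMulCommutative X' → ∃ s : S, X.map (MulAut.conj s).toMonoidHom = X' := by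
  obtain ⟨f, x, y, z, D⟩ := Cfsg.Agent.TwoFusion36.exists_isWr_top hS
  obtain ⟨k, hk⟩ := D.hpow
  have hcard : 2 ^ (2 * n + 1) = 2 ^ (2 * k + 5) := by
    rw [← hn, ← Nat.card_congr Subgroup.topEquiv.toEquiv, D.card, hk]; ring
  obtain rfl : n = k + 2 := by
    have := Nat.pow_right_injective le_rfl hcard; omega
  have hn2 : 2 ^ (2 * (k + 2)) = 4 * f * (4 * f) := by rw [hk]; ring
  have hf := D.one_le
  have habc : IsMulCommutative D.abel := ⟨⟨fun u v => Subtype.ext (D.abel_comm u.2 v.2).eq⟩⟩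
  have hd : ((2 * f : ℕ) : ℤ) ∣ 4 * f := ⟨2, by push_cast; ring⟩
  have hmain : ∀ Y : Subgroup S, Subgroup.centralizer (Y : Set S) ≤ Y → ¬ IsPGroup 2 (MulAut Y) →
      Y = D.abel ∨ ∃ a : ℤ, 2 ∣ a ∧ Y = D.dsub (2 * f : ℕ) a := by
    intro Y hYC hYA
    by_cases hle : Y ≤ D.abel
    · refine Or.inl (le_antisymm hle fun u hu => hYC (Subgroup.mem_centralizer_iff.mpr fun v hv => ?_))
      exact (D.abel_comm (hle hv) hu).eq
    obtain ⟨w, hw, hwU⟩ := SetLike.not_le_iff_exists.mp hle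
    obtain ⟨i, j, rfl | rfl⟩ := D.cases (v := w) trivial
    · exact absurd ⟨i, j, rfl⟩ hwU
    have hZ : Subgroup.zpowers (x * y) ≤ Y := fun u hu => hYC (Subgroup.mem_centralizer_iff.mpr
      fun v _ => by
        obtain ⟨t, rfl⟩ := D.mem_diag.mp hu
        exact (D.diag_comm t (v := v) trivial).eq.symm)
    obtain ⟨d, hdd, rfl⟩ := D.exists_eq_dsub le_top hZ hw
    by_cases h : d = 2 * f ∧ 2 ∣ i - j
    · exact Or.inr ⟨i - j, h.2, by rw [h.1]⟩
    · exact absurd (D.isPGroup_mulAut hdd h) hYA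
  refine ⟨?_, ?_, fun X' hC' hA' hnX hnX' => ?_⟩
  · rcases hmain X hC hA with rfl | ⟨a, ha, rfl⟩
    · have hnorm : ∀ u ∈ D.abel, ∀ g : S, g * u * g⁻¹ ∈ D.abel := by
        rintro _ ⟨i, j, rfl⟩ g
        obtain ⟨p, q, rfl | rfl⟩ := D.cases (v := g) trivial
        · exact ⟨_, _, D.u_conj_u p q i j⟩
        · exact ⟨_, _, D.v_conj_u p q i j⟩
      refine Cfsg.Agent.TwoFusion36.relIndex_eq_two_of z ?_ fun v _ => ?_
      · exact Subgroup.mem_normalizer_fintype fun u hu => hnorm u hu z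
      · obtain ⟨i, j, rfl | rfl⟩ := D.cases (v := v) trivial
        · exact Or.inr ⟨⟨i, j, rfl⟩, fun h => D.v_notMem_abel i j h⟩
        · exact Or.inl ⟨⟨i, j, by rw [mul_assoc, D.zz, mul_one]⟩, fun h => D.v_notMem_abel i j h⟩
    · have hdf : (f : ℤ) ∣ 4 * f := ⟨4, by ring⟩
      have hfn : ∀ t : ℤ, ¬ 2 * (f : ℤ) ∣ f * (2 * t + 1) := fun t ⟨m, hm⟩ => by
        have h2 : (f : ℤ) * (2 * t + 1) = f * (2 * m) := by rw [hm]; ring
        have := mul_left_cancel₀ D.f_ne h2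
        omega
      refine Cfsg.Agent.TwoFusion36.relIndex_eq_two_of (x ^ (f : ℤ) * y ^ (0 : ℤ)) ?_ fun v hv => ?_
      · refine Subgroup.mem_normalizer_fintype ?_
        rintro _ ⟨i, j, ⟨rfl, hij⟩ | ⟨rfl, hij⟩⟩
        · rw [D.u_conj_u]; exact (D.u_mem_dsub hd).mpr hij
        · rw [D.u_conj_v]
          refine (D.v_mem_dsub hd).mpr ?_
          obtain ⟨m, hm⟩ := hij
          exact ⟨m + 1, by push_cast at hm ⊢; linarith⟩
      · have hmem : x ^ a * y ^ (0 : ℤ) * z ∈ D.dsub (2 * f : ℕ) a :=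
          (D.v_mem_dsub hd).mpr (by simp)
        obtain ⟨p, q, ⟨rfl, t, ht⟩ | ⟨rfl, t, ht⟩⟩ :=
          D.norm_dsub_v ha (v := v) trivial _ rfl ((Subgroup.mem_normalizer_iff.mp hv _).mp hmem)
        · rw [D.u_mul, D.u_mem_dsub hd, D.u_mem_dsub hd]
          rcases Int.even_or_odd' t with ⟨m, rfl | rfl⟩
          · refine Or.inr ⟨⟨m, by push_cast; linarith⟩, fun h => hfn m ?_⟩
            rw [Nat.cast_mul, Nat.cast_two] at h
            rwa [show p + f - (q + 0) = (f : ℤ) * (2 * m + 1) by linarith] at h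
          · refine Or.inl ⟨⟨m + 1, by push_cast; linarith⟩, fun h => hfn m ?_⟩
            rw [Nat.cast_mul, Nat.cast_two] at h
            rwa [show p - q = (f : ℤ) * (2 * m + 1) by linarith] at h
        · rw [D.v_mul_u, D.v_mem_dsub hd, D.v_mem_dsub hd]
          rcases Int.even_or_odd' t with ⟨m, rfl | rfl⟩
          · refine Or.inr ⟨⟨m, by push_cast; linarith⟩, fun h => hfn (m - 1) ?_⟩
            rw [Nat.cast_mul, Nat.cast_two] at h
            rwa [show p + 0 - (q + f) - a = (f : ℤ) * (2 * (m - 1) + 1) by linarith] at h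
          · refine Or.inl ⟨⟨m, by push_cast; linarith⟩, fun h => hfn m ?_⟩
            rw [Nat.cast_mul, Nat.cast_two] at h
            rwa [show p - q - a = (f : ℤ) * (2 * m + 1) by linarith] at h
  · rcases hmain X hC hA with rfl | ⟨a, ha, rfl⟩
    · exact Or.inl ⟨habc, by rw [D.card_abel, hn2]⟩
    right
    obtain ⟨h, rfl⟩ := ha
    have hgsq : x ^ (f : ℤ) * y ^ (-(f : ℤ)) * (x ^ (f : ℤ) * y ^ (-(f : ℤ)))
        = x ^ (2 * f : ℤ) * y ^ (2 * f : ℤ) := by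
      rw [D.u_mul]; exact D.u_eq_of 0 (-1) (by ring) (by ring)
    have hord : orderOf (x ^ (f : ℤ) * y ^ (-(f : ℤ))) = 2 * 2 := by
      refine orderOf_eq_prime_pow (p := 2) (n := 1) ?_ ?_
      · rw [pow_one, sq, hgsq]
        intro h1
        exact D.not_dvd_half (D.u_eq_one.mp h1).1
      · rw [show (2 : ℕ) ^ (1 + 1) = 2 * 2 from rfl, pow_mul, sq, sq, hgsq]
        rw [← sq, ← D.orderOf_c, pow_orderOf_eq_one]
    have hab : x ^ (h + 2 * f) * y ^ (-h) * z * (x ^ (f : ℤ) * y ^ (-(f : ℤ))) *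
        (x ^ (h + 2 * f) * y ^ (-h) * z)⁻¹ = (x ^ (f : ℤ) * y ^ (-(f : ℤ)))⁻¹ := by
      rw [D.v_conj_u, D.u_inv]; ring_nf
    have hbb : x ^ (h + 2 * f) * y ^ (-h) * z * (x ^ (h + 2 * f) * y ^ (-h) * z) =
        (x ^ (f : ℤ) * y ^ (-(f : ℤ))) ^ 2 := by
      rw [sq, hgsq, D.v_sq]; exact D.u_eq_of 0 0 (by ring) (by ring)
    let Q : Subgroup S := Cfsg.Agent.TwoFusion36.sub2 _ _ hab ⟨((2 : ℕ) : ℤ), hbb.trans (zpow_natCast _ 2).symm⟩
    obtain ⟨eQ⟩ := Cfsg.Agent.TwoFusion36.nonempty_equiv_quaternion _ _ hord hbb hab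
      (fun m hm => D.v_notMem_abel _ _ (hm ▸ zpow_mem (D.mem_abel.mpr ⟨_, _, rfl⟩) m)) Q
      (fun v => Cfsg.Agent.TwoFusion36.mem_sub2)
    refine ⟨Q, ⟨eQ⟩, ?_⟩
    have hcen : Subgroup.center S = Subgroup.zpowers (x * y) := by
      ext v
      rw [Subgroup.mem_center_iff]
      constructor
      · intro h
        exact D.eq_diag_of_comm (v := v) trivial (h z).symm (h x).symm
      · intro hv g
        obtain ⟨a, rfl⟩ := D.mem_diag.mp hv
        exact (D.diag_comm a (v := g) trivial).eq.symm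
    rw [hcen]
    obtain ⟨a', -, ha'⟩ := D.quat_sup (Q := Q) le_top eQ
    refine (Subgroup.eq_of_le_of_card_ge (sup_le ?_ ?_) ?_).symm
    · intro v hv
      have hg : x ^ (f : ℤ) * y ^ (-(f : ℤ)) ∈ D.dsub (2 * f : ℕ) (2 * h) :=
        (D.u_mem_dsub hd).mpr ⟨1, by push_cast; ring⟩
      obtain ⟨m, rfl | rfl⟩ := Cfsg.Agent.TwoFusion36.mem_sub2.mp hv
      · exact zpow_mem hg m
      · exact mul_mem ((D.v_mem_dsub hd).mpr ⟨1, by push_cast; ring⟩) (zpow_mem hg m)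
    · intro v hv
      obtain ⟨t, rfl⟩ := D.mem_diag.mp hv
      exact (D.u_mem_dsub hd).mpr (by simp)
    · rw [ha']
      have h1 := D.card_dsub (d := 2 * f) (a := a') (by omega) hd
      have h2 := D.card_dsub (d := 2 * f) (a := 2 * h) (by omega) hd
      exact (Nat.eq_of_mul_eq_mul_left (by omega : 0 < 2 * f) (h2.trans h1.symm)).le
  · rcases hmain X hC hA with rfl | ⟨a, ha, rfl⟩
    · exact absurd habc hnX
    rcases hmain X' hC' hA' with rfl | ⟨b, hb, rfl⟩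
    · exact absurd habc hnX'
    obtain ⟨s, hs⟩ := dsub_map D ha
    obtain ⟨t, ht⟩ := dsub_map D hb
    refine ⟨t⁻¹ * s, ?_⟩
    rw [Cfsg.Agent.TwoFusion36.map_conj_mul, hs, ← ht, ← Cfsg.Agent.TwoFusion36.map_conj_mul,
      inv_mul_cancel, map_one]
    exact Subgroup.map_id _

end Cfsg.Agent.S1202
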