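import Cfsg.Statements.S1205
import Cfsg.Agent.TwoFusion36.QDFusion2

set_option autoImplicit false
open Cfsg

namespace Cfsg.Agent.S1205

/-- Let G be a finite group with quasi-dihedral Sylow 2-subgroup S, T a Klein four-subgroup and Q a quaternion subgroup of order 8 of S, with |N_G(T) : C_G(T)| = 2 and |N_G(Q) : Q C_G(Q)| = 6. Then G has a normal subgroup K of index 2 whose Sylow 2-subgroups are generalized quaternion and which has no subgroup of index 2; the centre of S is weakly closed in S; and G has exactly two classes of involutions and one class of elements of order 4. -/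
theorem result {G : Type*} [Group G] [Finite G] (S : Sylow 2 G) (hS : Cfsg.IsQuasiDihedral (S : Subgroup G)) (T : Subgroup G) (hT : IsKleinFour T) (hTS : T ≤ S) (Q : Subgroup G) (hQS : Q ≤ S) (eQ : Q ≃* QuaternionGroup 2) (h₁ : (Subgroup.centralizer (T : Set G)).relIndex (Subgroup.normalizer (T : Set G)) = 2) (h₂ : (Q ⊔ Subgroup.centralizer (Q : Set G)).relIndex (Subgroup.normalizer (Q : Set G)) = 6) : (∃ K : Subgroup G, K.Normal ∧ K.index = 2 ∧ (∀ P : Sylow 2 ↥K, ∃ m : ℕ, 1 ≤ m ∧ Nonempty ((P : Subgroup ↥K) ≃* QuaternionGroup (2 ^ m))) ∧ (∀ H : Subgroup ↥K, H.index ≠ 2)) ∧ Cfsg.IsWeaklyClosed ((Subgroup.center (S : Subgroup G)).map (S : Subgroup G).subtype) (S : Subgroup G) ∧ Nat.card {C : ConjClasses G // ∃ t : G, orderOf t = 2 ∧ ConjClasses.mk t = C} = 2 ∧ Nat.card {C : ConjClasses G // ∃ t : G, orderOf t = 4 ∧ ConjClasses.mk t = C} = 1 := by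
  obtain ⟨e, x, y, W⟩ := Cfsg.Agent.TwoFusion36.exists_qdSylow S hS
  obtain ⟨hT', hQ'⟩ := W.transfer T hT hTS Q hQS eQ
  rw [hT'] at h₁
  rw [hQ'] at h₂
  obtain ⟨k, hk⟩ := W.qd.hpow
  have hc := W.four_eq_two_iff.mp h₁
  refine ⟨?_, W.center_weakly_closed hc, W.count_invol_two hc,
    W.count_four_one (W.isConj_of_quat6 h₂)⟩
  obtain ⟨K, hK, hKi, hKS⟩ := W.exists_ker_gquat hc
  refine ⟨K, hK, hKi, fun P => ⟨k + 1, by omega, ?_⟩, W.no_index_two_ker hKS fun H hH =>
    W.gquat_le_core h₂ _ (W.core_aux hKi (hKS ▸ inf_le_right) H hH)⟩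
  obtain ⟨f⟩ := Cfsg.Agent.TwoFusion36.sylow_normal_equiv S K P
  obtain ⟨g⟩ := W.qd.gquat_equiv
  rw [show 2 ^ (k + 1) = 2 * e by rw [hk]; ring]
  exact ⟨f.trans ((MulEquiv.subgroupCongr hKS).trans g)⟩

end Cfsg.Agent.S1205
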