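import Cfsg.Statements.S1214
import Cfsg.Agent.TwoFusionB.QDSimple
-- import your own Cfsg.Agent.* helpers here

set_option autoImplicit false
open Cfsg

namespace Cfsg.Agent.S1214

open Cfsg.Agent.TwoFusion36 Cfsg.Agent.TwoFusionB

theorem qd_of_equiv {A B : Type*} [Group A] [Group B] (e : A ≃* B)
    (h : Cfsg.IsQuasiDihedral A) : Cfsg.IsQuasiDihedral B := by
  obtain ⟨n, hn, hc, x, y, hx, hy, hr⟩ := h
  exact ⟨n, hn, (Nat.card_congr e.toEquiv).symm.trans hc, e x, e y, (e.orderOf_eq x).trans hx,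
    (e.orderOf_eq y).trans hy, by rw [← map_pow, ← map_inv, ← map_mul, ← map_mul, hr]⟩

theorem wr_of_equiv {A B : Type*} [Group A] [Group B] (e : A ≃* B)
    (h : Cfsg.IsWreathed A) : Cfsg.IsWreathed B := by
  obtain ⟨n, hn, hc, x, y, z, hx, hxy, hint, hz, hr⟩ := h
  refine ⟨n, hn, (Nat.card_congr e.toEquiv).symm.trans hc, e x, e y, e z,
    (e.orderOf_eq x).trans hx, by rw [← map_mul, ← map_mul, hxy], ?_,
    (e.orderOf_eq z).trans hz, by rw [← map_inv, ← map_mul, ← map_mul, hr]⟩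
  have h1 := congrArg (Subgroup.map e.toMonoidHom) hint
  rw [Subgroup.map_inf _ _ _ e.injective, Subgroup.map_bot, MonoidHom.map_zpowers,
    MonoidHom.map_zpowers] at h1
  exact h1

/-- One class of involutions, two that do not commute, and generation by involutions and one more
element. -/
theorem sylow_data {H : Type*} [Group H] [Finite H] (S : Sylow 2 H)
    (hS : Cfsg.IsQuasiDihedral (S : Subgroup H) ∨ Cfsg.IsWreathed (S : Subgroup H))
    (hH : ∀ K : Subgroup H, K.index ≠ 2) :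
    (∃ u v : H, orderOf u = 2 ∧ orderOf v = 2 ∧ ¬ Commute u v) ∧
    (∀ a b : H, orderOf a = 2 → orderOf b = 2 → IsConj a b) ∧
    ∃ s : H, ∀ K : Subgroup H, (∀ a : H, orderOf a = 2 → a ∈ K) → s ∈ K →
      (S : Subgroup H) ≤ K := by
  rcases hS with hS | hS
  · obtain ⟨e, x, y, W⟩ := exists_qdSylow S hS
    have D := W.qd
    have he := D.one_le
    have hy2 : orderOf y = 2 := by
      refine orderOf_eq_prime (by rw [sq, D.yy]) fun h => D.a_ne_b 0 0 ?_
      rw [h, zpow_zero, one_mul]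
    have hv2 : orderOf (x ^ (2 * 1 : ℤ) * y) = 2 :=
      orderOf_eq_prime (by rw [sq, D.b_sq_even]) fun h => D.a_ne_b 0 (2 * 1) (by rw [zpow_zero, h])
    have hcy : IsConj (x ^ (4 * e : ℤ)) y := by
      by_contra h
      obtain ⟨K, -, hK, -⟩ := W.exists_ker_gquat h
      exact hH K hK
    refine ⟨⟨_, _, hy2, hv2, fun hc => ?_⟩, fun a b ha hb => ?_, x, fun K hK hxK v hv => ?_⟩
    · have h1 : x ^ ((4 * (e : ℤ) - 1) * (2 * 1)) = x ^ (2 * 1 : ℤ) := by
        have h := hc.eq
        rw [← mul_assoc, D.y_mul, mul_assoc, mul_assoc, D.yy] at h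
        simpa using h
      obtain ⟨k, hk⟩ := D.zpow_congr.mp h1
      have h8 : (1 : ℤ) ≤ e := by exact_mod_cast he
      rcases lt_trichotomy (k - 1) 0 with h | h | h <;> nlinarith
    · have h : ∀ a : H, orderOf a = 2 → IsConj a y := fun a ha =>
        (W.invol_conj ha).elim (fun h => h.trans hcy) id
      exact (h a ha).trans (h b hb).symm
    · obtain ⟨i, rfl | rfl⟩ := D.cases hv
      · exact zpow_mem hxK i
      · exact mul_mem (zpow_mem hxK i) (hK y hy2)
  · obtain ⟨f, x, y, z, W⟩ := exists_wrSylow S hS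
    have D := W.wr
    have hf := D.one_le
    obtain ⟨hU, hV⟩ := W.UV_of_no_index_two hH
    have hz2 := D.orderOf_z
    have hnec : x ^ (1 : ℤ) * y ^ (-1 : ℤ) * z ≠ 1 := fun h =>
      D.u_ne_v 0 0 1 (-1) (by rw [h]; simp)
    have hv2 : orderOf (x ^ (1 : ℤ) * y ^ (-1 : ℤ) * z) = 2 :=
      orderOf_eq_prime (by rw [sq, D.v_sq]; simp) hnec
    refine ⟨⟨_, _, hz2, hv2, fun hc => ?_⟩, fun a b ha hb => ?_, x, fun K hK hxK v hv => ?_⟩
    · have h := hc.eq
      rw [← mul_assoc, D.z_mul, mul_assoc, mul_assoc, D.zz] at h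
      simp only [mul_one] at h
      have h1 : x ^ (-1 : ℤ) * y ^ (1 : ℤ) * (x ^ (1 : ℤ) * y ^ (-1 : ℤ))⁻¹ = 1 := by
        rw [h, mul_assoc _ z z, D.zz, mul_one, mul_inv_cancel]
      rw [D.u_inv, D.u_mul, D.u_eq_one] at h1
      have h2 := Int.le_of_dvd (by norm_num) h1.2
      have : (1 : ℤ) ≤ f := by exact_mod_cast hf
      norm_num at h2
      omega
    · have h : ∀ a : H, orderOf a = 2 → IsConj a z := fun a ha => by
        rcases W.invol_conj ha with h | h | h
        · exact h.trans ((W.isConj_c_u1 hU).trans (W.isConj_u1_z hV))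
        · exact h.trans (W.isConj_u1_z hV)
        · exact h
      exact (h a ha).trans (h b hb).symm
    · have hzK := hK z hz2
      have hyK : y ∈ K := by
        rw [← D.rel]; exact mul_mem (mul_mem hzK hxK) (inv_mem hzK)
      obtain ⟨i, j, rfl | rfl⟩ := D.cases hv
      · exact mul_mem (zpow_mem hxK i) (zpow_mem hyK j)
      · exact mul_mem (mul_mem (zpow_mem hxK i) (zpow_mem hyK j)) hzK


/-- Let G be a finite group with quasi-dihedral or wreathed Sylow 2-subgroups and no subgroup of index 2. Then G/O(G), the quotient by the largest normal subgroup of odd order, has a normal subgroup of odd index which is a non-abelian simple group. -/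
theorem result {G : Type*} [Group G] [Finite G] (S : Sylow 2 G) (hS : Cfsg.IsQuasiDihedral (S : Subgroup G) ∨ Cfsg.IsWreathed (S : Subgroup G)) (hG : ∀ H : Subgroup G, H.index ≠ 2) : ∃ L : Subgroup (G ⧸ Cfsg.oddCore G), L.Normal ∧ Odd L.index ∧ IsSimpleGroup L ∧ ¬ IsMulCommutative L := by
  haveI : Fact (Nat.Prime 2) := ⟨Nat.prime_two⟩
  set π := QuotientGroup.mk' (Cfsg.oddCore G)
  have hsurj : Function.Surjective π := QuotientGroup.mk'_surjective _
  set T : Sylow 2 (G ⧸ Cfsg.oddCore G) := S.mapSurjective hsurj with hTdef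
  have hT : (T : Subgroup (G ⧸ Cfsg.oddCore G)) = (S : Subgroup G).map π :=
    Sylow.coe_mapSurjective hsurj S
  have hinj : Function.Injective (π.subgroupMap (S : Subgroup G)) := by
    rw [injective_iff_map_eq_one]
    intro a ha
    have h1 : (a : G) ∈ Cfsg.oddCore G := (QuotientGroup.eq_one_iff _).mp (congrArg Subtype.val ha)
    obtain ⟨k, hk⟩ := S.isPGroup'.exists_card_eq
    have hd1 : orderOf (a : G) ∣ 2 ^ k := by
      rw [Subgroup.orderOf_coe, ← hk]; exact orderOf_dvd_natCard a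
    have hd2 : orderOf (a : G) ∣ Nat.card (Cfsg.oddCore G) := by
      rw [← Subgroup.orderOf_mk (a : G) h1]; exact orderOf_dvd_natCard _
    have hco : Nat.Coprime (2 ^ k) (Nat.card (Cfsg.oddCore G)) :=
      Nat.Coprime.pow_left _ (Nat.coprime_two_left.mpr Cfsg.Agent.InvChar.odd_oddCore)
    exact Subtype.ext (orderOf_eq_one_iff.mp (Nat.eq_one_of_dvd_coprimes hco hd1 hd2))
  have e : (S : Subgroup G) ≃* (T : Subgroup (G ⧸ Cfsg.oddCore G)) :=
    (MulEquiv.ofBijective _ ⟨hinj, π.subgroupMap_surjective _⟩).trans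
      (MulEquiv.subgroupCongr hT.symm)
  have hH : ∀ K : Subgroup (G ⧸ Cfsg.oddCore G), K.index ≠ 2 := fun K hK =>
    hG (K.comap π) (by rw [Subgroup.index_comap_of_surjective K hsurj]; exact hK)
  obtain ⟨⟨u, v, hu, hv, huv⟩, hone, s, hgen⟩ :=
    sylow_data T (hS.imp (qd_of_equiv e) (wr_of_equiv e)) hH
  obtain ⟨L, hLn, hsimp, hnc, hall⟩ :=
    exists_simple_all_involutions (oddCore_quotient_eq_bot G) hu hv huv hone
  refine ⟨L, hLn, ?_, hsimp, hnc⟩
  by_contra hodd
  rw [Nat.not_odd_iff_even, Subgroup.index_eq_card] at hodd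
  set ρ := QuotientGroup.mk' L
  have hρ : Function.Surjective ρ := QuotientGroup.mk'_surjective L
  have hle : ((T.mapSurjective hρ : Sylow 2 ((G ⧸ Cfsg.oddCore G) ⧸ L)) :
      Subgroup ((G ⧸ Cfsg.oddCore G) ⧸ L)) ≤ Subgroup.zpowers (ρ s) := by
    rw [Sylow.coe_mapSurjective, Subgroup.map_le_iff_le_comap]
    refine hgen _ (fun a ha => ?_) ?_
    · rw [Subgroup.mem_comap, show ρ a = 1 from (QuotientGroup.eq_one_iff a).mpr (hall a ha)]
      exact one_mem _
    · exact Subgroup.mem_zpowers _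
  have hcyc : IsCyclic (T.mapSurjective hρ : Subgroup ((G ⧸ Cfsg.oddCore G) ⧸ L)) :=
    isCyclic_of_injective (Subgroup.inclusion hle) (Subgroup.inclusion_injective hle)
  obtain ⟨K, hK⟩ := Cfsg.Agent.Involution.exists_index_two_of_cyclic_sylow hodd _ hcyc
  exact hH (K.comap ρ) (by rw [Subgroup.index_comap_of_surjective K hρ]; exact hK)

end Cfsg.Agent.S1214
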