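import Cfsg.Statements.S1217
import Cfsg.Agent.TwoFusionB.SylowShapes
import Cfsg.Agent.Classical10.GL2Unipotent
import Mathlib

/-!
# Sylow 2-subgroups of `GL(2, q)`, `q` odd
-/

set_option autoImplicit false
open Cfsg
open Matrix
open scoped QuadraticAlgebra

namespace Cfsg.Agent.S1217

section
variable {F : Type*} [Field F]

/-- Diagonal matrices. -/
def diagHom (F : Type*) [Field F] : Fˣ × Fˣ →* GL (Fin 2) F :=
  MonoidHom.toHomUnits
    ({ toFun := fun p => !![(p.1 : F), 0; 0, (p.2 : F)]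
       map_one' := by ext i j; fin_cases i <;> fin_cases j <;> simp
       map_mul' := fun a b => by
        ext i j; fin_cases i <;> fin_cases j <;> simp [Matrix.mul_apply, Fin.sum_univ_two] } :
      Fˣ × Fˣ →* Matrix (Fin 2) (Fin 2) F)

theorem coe_diagHom (p : Fˣ × Fˣ) :
    ((diagHom F p : GL (Fin 2) F) : Matrix (Fin 2) (Fin 2) F) = !![(p.1 : F), 0; 0, (p.2 : F)] := rfl

theorem diagHom_injective : Function.Injective (diagHom F) := by
  intro a b h
  have h' := congrArg Units.val h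
  rw [coe_diagHom, coe_diagHom] at h'
  refine Prod.ext (Units.ext ?_) (Units.ext ?_)
  · simpa using congrFun (congrFun h' 0) 0
  · simpa using congrFun (congrFun h' 1) 1

/-- The swap of the two coordinates. -/
def swapGL (F : Type*) [Field F] : GL (Fin 2) F :=
  ⟨!![0, 1; 1, 0], !![0, 1; 1, 0], by simp [Matrix.mul_fin_two, Matrix.one_fin_two],
    by simp [Matrix.mul_fin_two, Matrix.one_fin_two]⟩

/-- The diagonal reflection. -/
def reflGL (F : Type*) [Field F] : GL (Fin 2) F :=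
  ⟨!![1, 0; 0, -1], !![1, 0; 0, -1], by simp [Matrix.mul_fin_two, Matrix.one_fin_two],
    by simp [Matrix.mul_fin_two, Matrix.one_fin_two]⟩

/-- Multiplication by elements of `F(√-1)`. -/
noncomputable def complexHom (F : Type*) [Field F] :
    (QuadraticAlgebra F (-1) 0)ˣ →* GL (Fin 2) F :=
  Units.map
    ({ toFun := fun z => !![z.re, -z.im; z.im, z.re]
       map_one' := by ext i j; fin_cases i <;> fin_cases j <;> simp
       map_mul' := fun a b => by
        ext i j; fin_cases i <;> fin_cases j <;> simp [Matrix.mul_apply, Fin.sum_univ_two] <;> ring } :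
      QuadraticAlgebra F (-1) 0 →* Matrix (Fin 2) (Fin 2) F)

theorem coe_complexHom (z : (QuadraticAlgebra F (-1) 0)ˣ) :
    ((complexHom F z : GL (Fin 2) F) : Matrix (Fin 2) (Fin 2) F) =
      !![(z : QuadraticAlgebra F (-1) 0).re, -(z : QuadraticAlgebra F (-1) 0).im;
        (z : QuadraticAlgebra F (-1) 0).im, (z : QuadraticAlgebra F (-1) 0).re] := rfl

theorem complexHom_injective : Function.Injective (complexHom F) := by
  intro a b h
  have h' := congrArg Units.val h
  rw [coe_complexHom, coe_complexHom] at h'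
  refine Units.ext (QuadraticAlgebra.ext ?_ ?_)
  · simpa using congrFun (congrFun h' 0) 0
  · simpa using congrFun (congrFun h' 1) 0

theorem orderOf_involution [Fintype F] {g : GL (Fin 2) F}
    (hg : g * g = 1) (hne : g ≠ 1) : orderOf g = 2 :=
  orderOf_eq_prime (by rw [sq, hg]) hne

theorem reflGL_ne_one (h2 : (2 : F) ≠ 0) : reflGL F ≠ 1 := by
  intro h
  have := congrArg (fun g : GL (Fin 2) F => (g : Matrix (Fin 2) (Fin 2) F) 1 1) h
  simp [reflGL] at this
  exact h2 (by linear_combination -this)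

variable [Fintype F]

theorem wreathed_case (P : Sylow 2 (GL (Fin 2) F)) (hq : Fintype.card F % 4 = 1) :
    Cfsg.IsWreathed (P : Subgroup (GL (Fin 2) F)) := by
  classical
  set q := Fintype.card F with hqdef
  have hq2 : 5 ≤ q := by have := Fintype.one_lt_card (α := F); omega
  obtain ⟨n, r, hr, hnr⟩ := Nat.exists_eq_two_pow_mul_odd (n := q - 1) (by omega)
  obtain ⟨r', hr', hr'2⟩ : ∃ r', Odd r' ∧ q + 1 = 2 * r' :=
    ⟨(q + 1) / 2, ⟨(q - 1) / 4, by omega⟩, by omega⟩
  have hn : 2 ≤ n := by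
    rcases n with _ | _ | n
    · obtain ⟨c, hc⟩ := hr; omega
    · obtain ⟨c, hc⟩ := hr; omega
    · omega
  obtain ⟨u, hu⟩ := TwoFusionB.exists_orderOf_eq (A := Fˣ) (d := 2 ^ n) (by
    rw [Nat.card_units, Nat.card_eq_fintype_card, ← hqdef]
    exact Dvd.intro r hnr.symm)
  have hc : Nat.card (GL (Fin 2) F) = 2 ^ (2 * n + 1) * (q * r ^ 2 * r') := by
    rw [Classical10.card_GL_two, Nat.card_eq_fintype_card, ← hqdef, hnr, hr'2]
    ring
  have hqodd : Odd q := ⟨q / 2, by omega⟩
  refine TwoFusionB.isWreathed_of_gens P hn hc ((hqodd.mul hr.pow).mul hr')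
    (x := diagHom F (u, 1)) (y := diagHom F (1, u)) (z := swapGL F) ?_ ?_ ?_ ?_ ?_
  · rw [orderOf_injective _ diagHom_injective, Prod.orderOf_mk, orderOf_one, Nat.lcm_one_right, hu]
  · rw [← map_mul, ← map_mul]; simp
  · rw [← MonoidHom.map_zpowers, ← MonoidHom.map_zpowers,
      ← Subgroup.map_inf _ _ _ diagHom_injective,
      Subgroup.map_eq_bot_iff_of_injective _ diagHom_injective, Subgroup.eq_bot_iff_forall]
    rintro w ⟨⟨i, hi⟩, ⟨j, hj⟩⟩
    refine Prod.ext ?_ ?_
    · have h1 := congrArg Prod.fst hj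
      simpa using h1.symm
    · have h1 := congrArg Prod.snd hi
      simpa using h1.symm
  · refine orderOf_involution (Units.ext (by simp [swapGL, Matrix.one_fin_two])) ?_
    intro h
    have := congrArg (fun g : GL (Fin 2) F => (g : Matrix (Fin 2) (Fin 2) F) 0 0) h
    simp [swapGL] at this
  · refine Units.ext ?_
    simp [swapGL, coe_diagHom, Matrix.mul_fin_two]

theorem quasiDihedral_case (P : Sylow 2 (GL (Fin 2) F)) (hq : Fintype.card F % 4 = 3) :
    Cfsg.IsQuasiDihedral (P : Subgroup (GL (Fin 2) F)) := by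
  classical
  set q := Fintype.card F with hqdef
  obtain ⟨m, r, hr, hmr⟩ := Nat.exists_eq_two_pow_mul_odd (n := q + 1) (by omega)
  obtain ⟨r', hr', hr'2⟩ : ∃ r', Odd r' ∧ q - 1 = 2 * r' :=
    ⟨(q - 1) / 2, ⟨(q - 1) / 4, by omega⟩, by omega⟩
  have hm : 2 ≤ m := by
    rcases m with _ | _ | m
    · obtain ⟨c, hc⟩ := hr; omega
    · obtain ⟨c, hc⟩ := hr; omega
    · omega
  have hns : ∀ r : F, r ^ 2 ≠ -1 + 0 * r := by
    intro a ha
    rw [zero_mul, add_zero] at ha
    exact (FiniteField.isSquare_neg_one_iff.1 ⟨a, by rw [← ha, sq]⟩) hq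
  haveI : Fact (∀ r : F, r ^ 2 ≠ -1 + 0 * r) := ⟨hns⟩
  haveI : Finite (QuadraticAlgebra F (-1) 0) := Finite.of_equiv _ (QuadraticAlgebra.equivProd (-1 : F) 0).symm
  obtain ⟨u, hu⟩ := TwoFusionB.exists_orderOf_eq (A := (QuadraticAlgebra F (-1) 0)ˣ) (d := 2 ^ (m + 1)) (by
    rw [Nat.card_units, Nat.card_congr (QuadraticAlgebra.equivProd (-1 : F) 0), Nat.card_prod,
      Nat.card_eq_fintype_card, ← hqdef]
    refine ⟨r * r', ?_⟩
    have h1 : q * q - 1 = (q + 1) * (q - 1) := by
      rw [← Nat.sq_sub_sq, one_pow, sq]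
    rw [h1, hmr, hr'2]
    ring)
  have hc : Nat.card (GL (Fin 2) F) = 2 ^ (m + 1 + 1) * (q * r' ^ 2 * r) := by
    rw [Classical10.card_GL_two, Nat.card_eq_fintype_card, ← hqdef, hmr, hr'2]
    ring
  have hqodd : Odd q := ⟨q / 2, by omega⟩
  have h2 : (2 : F) ≠ 0 := by
    refine Ring.two_ne_zero fun h => ?_
    have := FiniteField.even_card_of_char_two (F := F) h
    omega
  refine TwoFusionB.isQuasiDihedral_of_gens P (n := m + 1) (by omega) hc
    ((hqodd.mul hr'.pow).mul hr) (x := complexHom F u) (y := reflGL F) ?_ ?_ ?_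
  · rw [orderOf_injective _ complexHom_injective, hu]
  · exact orderOf_involution (Units.ext (by simp [reflGL, Matrix.one_fin_two])) (reflGL_ne_one h2)
  · -- `u ^ q` is the conjugate of `u`
    have hfrob : (u : (QuadraticAlgebra F (-1) 0)) ^ q = ⟨(u : (QuadraticAlgebra F (-1) 0)).re, -(u : (QuadraticAlgebra F (-1) 0)).im⟩ := by
      obtain ⟨p, hp⟩ := CharP.exists F
      haveI : Fact p.Prime := ⟨CharP.char_is_prime F p⟩
      obtain ⟨e, he1, he2⟩ := FiniteField.card F p
      haveI : CharP (QuadraticAlgebra F (-1) 0) p := charP_of_injective_algebraMap (algebraMap F (QuadraticAlgebra F (-1) 0)).injective p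
      have hdecomp : (u : (QuadraticAlgebra F (-1) 0)) = algebraMap F (QuadraticAlgebra F (-1) 0) (u : (QuadraticAlgebra F (-1) 0)).re + algebraMap F (QuadraticAlgebra F (-1) 0) (u : (QuadraticAlgebra F (-1) 0)).im * ⟨0, 1⟩ := by
        ext <;> simp [QuadraticAlgebra.algebraMap_eq]
      have hi : (⟨0, 1⟩ : (QuadraticAlgebra F (-1) 0)) ^ q = -⟨0, 1⟩ := by
        have hsq : (⟨0, 1⟩ : (QuadraticAlgebra F (-1) 0)) ^ 2 = -1 := by
          rw [sq]; ext <;> simp
        obtain ⟨c, hc⟩ : ∃ c, q = 2 * (2 * c + 1) + 1 := ⟨q / 4, by omega⟩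
        rw [hc, pow_succ, pow_mul, hsq, Odd.neg_one_pow ⟨c, rfl⟩, neg_one_mul]
      conv_lhs => rw [hdecomp, hqdef, he2, add_pow_char_pow, ← he2, ← hqdef, mul_pow, hi,
        ← map_pow, ← map_pow, FiniteField.pow_card, FiniteField.pow_card]
      ext <;> simp [QuadraticAlgebra.algebraMap_eq]
    have hpow : u ^ (2 ^ (m + 1 - 1) - 1) = u ^ q := by
      rw [pow_inj_mod, hu, Nat.add_sub_cancel]
      obtain ⟨c, hc⟩ := hr
      have h1 : 1 ≤ 2 ^ m := Nat.one_le_two_pow
      have h3 : q = 2 ^ m - 1 + 2 ^ (m + 1) * c := by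
        rw [hc] at hmr
        have : 2 ^ m * (2 * c + 1) = 2 ^ m + 2 ^ (m + 1) * c := by ring
        omega
      rw [h3, Nat.add_mul_mod_self_left]
    rw [← map_pow, hpow]
    refine Units.ext ?_
    rw [Units.val_mul, Units.val_mul, coe_complexHom, coe_complexHom, Units.val_pow_eq_pow_val,
      hfrob]
    simp [reflGL, Matrix.mul_fin_two]

end

/-- Let F be a finite field with q elements, q odd, and P a Sylow 2-subgroup of GL(2,F). If q ≡ 3 (mod 4) then P is quasi-dihedral; if q ≡ 1 (mod 4) then P is wreathed. -/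
theorem result {F : Type*} [Field F] [Fintype F] (P : Sylow 2 (GL (Fin 2) F)) : (Fintype.card F % 4 = 3 → Cfsg.IsQuasiDihedral (P : Subgroup (GL (Fin 2) F))) ∧ (Fintype.card F % 4 = 1 → Cfsg.IsWreathed (P : Subgroup (GL (Fin 2) F))) :=
  ⟨quasiDihedral_case P, wreathed_case P⟩

end Cfsg.Agent.S1217
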