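import Cfsg.Statements.S1218
import Cfsg.Agent.TwoFusionB.SylowShapes
import Cfsg.Agent.Lib.Unitary.Count
import Mathlib

/-!
# Sylow 2-subgroups of `GU(2, q)`, `q` odd
-/

set_option autoImplicit false
open Cfsg
open Matrix

namespace Cfsg.Agent.S1218

section
variable {F : Type*} [Field F]

/-- Diagonal matrices. -/
def diagHom (F : Type*) [Field F] : Fˣ × Fˣ →* GL (Fin 2) F :=
  MonoidHom.toHomUnits
    ({ toFun := fun p => !![(p.1 : F), 0; 0, (p.2 : F)]
       map_one' := by ext i j; fin_cases i <;> fin_cases j <;> simp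
       map_mul' := fun a b => by
        ext i j; fin_cases i <;> fin_cases j <;> simp [Matrix.mul_apply, Fin.sum_univ_two] } :
      Fˣ × Fˣ →* Matrix (Fin 2) (Fin 2) F)

theorem coe_diagHom (p : Fˣ × Fˣ) :
    ((diagHom F p : GL (Fin 2) F) : Matrix (Fin 2) (Fin 2) F) = !![(p.1 : F), 0; 0, (p.2 : F)] := rfl

theorem diagHom_injective : Function.Injective (diagHom F) := by
  intro a b h
  have h' := congrArg Units.val h
  rw [coe_diagHom, coe_diagHom] at h'
  refine Prod.ext (Units.ext ?_) (Units.ext ?_)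
  · simpa using congrFun (congrFun h' 0) 0
  · simpa using congrFun (congrFun h' 1) 1

/-- The swap of the two coordinates. -/
def swapGL (F : Type*) [Field F] : GL (Fin 2) F :=
  ⟨!![0, 1; 1, 0], !![0, 1; 1, 0], by simp [Matrix.one_fin_two],
    by simp [Matrix.one_fin_two]⟩

/-- The diagonal reflection. -/
def reflGL (F : Type*) [Field F] : GL (Fin 2) F :=
  ⟨!![1, 0; 0, -1], !![1, 0; 0, -1], by simp [Matrix.one_fin_two],
    by simp [Matrix.one_fin_two]⟩

/-- The matrix with eigenvalues `a`, `b` on the isotropic vectors `(1, ±c)`. -/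
def isoMat (c : F) (a b : F) : Matrix (Fin 2) (Fin 2) F :=
  !![(a + b) / 2, (a - b) / 2 / c; c * ((a - b) / 2), (a + b) / 2]

theorem isoMat_one (c : F) (h2 : (2 : F) ≠ 0) : isoMat c 1 1 = 1 := by
  ext i j
  fin_cases i <;> fin_cases j <;> simp [isoMat] <;> field_simp <;> ring

theorem isoMat_mul {c : F} (hc : c ≠ 0) (h2 : (2 : F) ≠ 0) (a b a' b' : F) :
    isoMat c (a * a') (b * b') = isoMat c a b * isoMat c a' b' := by
  ext i j
  fin_cases i <;> fin_cases j <;>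
    simp [isoMat, Matrix.mul_apply, Fin.sum_univ_two] <;> field_simp <;> ring

/-- The cyclic torus in the hyperbolic basis. -/
def torusHom {c : F} (hc : c ≠ 0) (h2 : (2 : F) ≠ 0) (q : ℕ) : Fˣ →* GL (Fin 2) F :=
  MonoidHom.toHomUnits
    ({ toFun := fun a => isoMat c (a : F) (((a ^ q)⁻¹ : Fˣ) : F)
       map_one' := by simp [isoMat_one c h2]
       map_mul' := fun a b => by
        rw [← isoMat_mul hc h2, Units.val_mul, mul_pow, mul_inv, Units.val_mul] } :
      Fˣ →* Matrix (Fin 2) (Fin 2) F)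

theorem coe_torusHom {c : F} (hc : c ≠ 0) (h2 : (2 : F) ≠ 0) (q : ℕ) (a : Fˣ) :
    ((torusHom hc h2 q a : GL (Fin 2) F) : Matrix (Fin 2) (Fin 2) F) =
      isoMat c (a : F) (((a ^ q)⁻¹ : Fˣ) : F) := rfl

theorem torusHom_injective {c : F} (hc : c ≠ 0) (h2 : (2 : F) ≠ 0) (q : ℕ) :
    Function.Injective (torusHom hc h2 q) := by
  intro x y h
  have h00 := congrArg (fun g : GL (Fin 2) F => (g : Matrix (Fin 2) (Fin 2) F) 0 0) h
  have h10 := congrArg (fun g : GL (Fin 2) F => (g : Matrix (Fin 2) (Fin 2) F) 1 0) h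
  simp only [coe_torusHom, isoMat, Matrix.of_apply, Matrix.cons_val', Matrix.cons_val_zero,
    Matrix.cons_val_one, Matrix.empty_val', Matrix.cons_val_fin_one] at h00 h10
  have h10' := mul_left_cancel₀ hc h10
  field_simp at h00 h10'
  have h3 : (2 : F) * x = 2 * y := by linear_combination h00 + h10'
  exact Units.ext (mul_left_cancel₀ h2 h3)

theorem eq_two_of_orderOf {G : Type*} [Group G] {g : G} (hg : g * g = 1) (hne : g ≠ 1) :
    orderOf g = 2 :=
  orderOf_eq_prime (by rw [sq, hg]) hne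

theorem reflGL_ne_one (h2 : (2 : F) ≠ 0) : reflGL F ≠ 1 := by
  intro h
  have := congrArg (fun g : GL (Fin 2) F => (g : Matrix (Fin 2) (Fin 2) F) 1 1) h
  simp [reflGL] at this
  exact h2 (by linear_combination -this)

variable {q : ℕ}

theorem mem_GU_of {g : GL (Fin 2) F} {e₁ e₂ e₃ e₄ : F}
    (hg : (g : Matrix (Fin 2) (Fin 2) F) = !![e₁, e₂; e₃, e₄])
    (h₁ : e₁ * e₁ ^ q + e₃ * e₃ ^ q = 1) (h₂ : e₂ * e₂ ^ q + e₄ * e₄ ^ q = 1)
    (h₃ : e₁ * e₂ ^ q + e₃ * e₄ ^ q = 0) (h₄ : e₂ * e₁ ^ q + e₄ * e₃ ^ q = 0)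
    [Fintype F] (hF : Fintype.card F = q ^ 2) : g ∈ Cfsg.GU 2 F q := by
  intro u v
  simp only [Units.coeHom_apply, hg, hermForm, Matrix.mulVec, dotProduct, Fin.sum_univ_two,
    Matrix.of_apply, Matrix.cons_val', Matrix.cons_val_zero, Matrix.cons_val_one,
    Matrix.empty_val', Matrix.cons_val_fin_one, Unitary.add_pow_q hF, mul_pow]
  linear_combination (u 0 * v 0 ^ q) * h₁ + (u 1 * v 1 ^ q) * h₂ + (u 0 * v 1 ^ q) * h₃ +
    (u 1 * v 0 ^ q) * h₄

variable [Fintype F]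

theorem two_ne_zero_of_odd (hF : Fintype.card F = q ^ 2) (hq : Odd q) : (2 : F) ≠ 0 := by
  refine Ring.two_ne_zero fun h => ?_
  have h1 := FiniteField.even_card_of_char_two (F := F) h
  have h2 : Odd (Fintype.card F) := by rw [hF]; exact hq.pow
  rw [Nat.odd_iff] at h2
  omega

theorem natCard_GU (hF : Fintype.card F = q ^ 2) :
    Nat.card (Cfsg.GU 2 F q) = q * ((q + 1) ^ 2 * (q - 1)) := by
  rw [Unitary.card_GU hF, Finset.prod_range_succ, Finset.prod_range_one, if_pos (by decide),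
    if_neg (by decide), zero_add, pow_one,
    show q ^ (1 + 1) - 1 = (q + 1) * (q - 1) by rw [← Nat.sq_sub_sq, one_pow]]
  ring

theorem card_units_eq (hF : Fintype.card F = q ^ 2) : Nat.card Fˣ = (q + 1) * (q - 1) := by
  rw [Nat.card_units, Nat.card_eq_fintype_card, hF, ← Nat.sq_sub_sq, one_pow]

theorem wreathed_case (hF : Fintype.card F = q ^ 2) (hq : Odd q) (hq4 : q % 4 = 3)
    (P : Sylow 2 ↥(Cfsg.GU 2 F q)) : Cfsg.IsWreathed (P : Subgroup ↥(Cfsg.GU 2 F q)) := by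
  classical
  obtain ⟨n, r, hr, hnr⟩ := Nat.exists_eq_two_pow_mul_odd (n := q + 1) (by omega)
  obtain ⟨r', hr', hr'2⟩ : ∃ r', Odd r' ∧ q - 1 = 2 * r' :=
    ⟨(q - 1) / 2, ⟨(q - 1) / 4, by omega⟩, by omega⟩
  have hn : 2 ≤ n := by
    rcases n with _ | _ | n
    · obtain ⟨c, hc⟩ := hr; omega
    · obtain ⟨c, hc⟩ := hr; omega
    · omega
  obtain ⟨u, hu⟩ := TwoFusionB.exists_orderOf_eq (A := Fˣ) (d := 2 ^ n) (by
    rw [card_units_eq hF, hnr]; exact Dvd.intro (r * (q - 1)) (by ring))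
  have hu1 : (u : F) * (u : F) ^ q = 1 := by
    have h1 : u ^ (q + 1) = 1 := orderOf_dvd_iff_pow_eq_one.1 (hu ▸ Dvd.intro r hnr.symm)
    have h2 := congrArg Units.val h1
    simpa [pow_succ'] using h2
  have h2 : (2 : F) ≠ 0 := two_ne_zero_of_odd hF hq
  have hq0 : q ≠ 0 := by omega
  have hc : Nat.card (Cfsg.GU 2 F q) = 2 ^ (2 * n + 1) * (q * r ^ 2 * r') := by
    rw [natCard_GU hF, hnr, hr'2]; ring
  let X : ↥(Cfsg.GU 2 F q) := ⟨diagHom F (u, 1), mem_GU_of (coe_diagHom _)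
    (by simpa [zero_pow hq0] using hu1) (by simp [zero_pow hq0]) (by simp [zero_pow hq0])
    (by simp [zero_pow hq0]) hF⟩
  let Y : ↥(Cfsg.GU 2 F q) := ⟨diagHom F (1, u), mem_GU_of (coe_diagHom _)
    (by simp [zero_pow hq0]) (by simpa [zero_pow hq0] using hu1) (by simp [zero_pow hq0])
    (by simp [zero_pow hq0]) hF⟩
  let Z : ↥(Cfsg.GU 2 F q) := ⟨swapGL F, mem_GU_of (e₁ := 0) (e₂ := 1) (e₃ := 1) (e₄ := 0) rfl
    (by simp [zero_pow hq0]) (by simp [zero_pow hq0]) (by simp [zero_pow hq0])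
    (by simp [zero_pow hq0]) hF⟩
  refine TwoFusionB.isWreathed_of_gens P hn hc ((hq.mul hr.pow).mul hr')
    (x := X) (y := Y) (z := Z) ?_ ?_ ?_ ?_ ?_
  · rw [Subgroup.orderOf_mk, orderOf_injective _ diagHom_injective, Prod.orderOf_mk, orderOf_one,
      Nat.lcm_one_right, hu]
  · refine Subtype.ext ?_
    show diagHom F (u, 1) * diagHom F (1, u) = diagHom F (1, u) * diagHom F (u, 1)
    rw [← map_mul, ← map_mul]; simp
  · rw [Subgroup.eq_bot_iff_forall]
    rintro w ⟨⟨i, hi⟩, ⟨j, hj⟩⟩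
    have hi' : diagHom F ((u, 1) ^ i) = (w : GL (Fin 2) F) := by
      rw [map_zpow, ← hi]; rfl
    have hj' : diagHom F ((1, u) ^ j) = (w : GL (Fin 2) F) := by
      rw [map_zpow, ← hj]; rfl
    have h := diagHom_injective (hi'.trans hj'.symm)
    have h1 : u ^ i = 1 := by simpa using congrArg Prod.fst h
    refine Subtype.ext ?_
    rw [← hi']
    rw [show ((u, 1) : Fˣ × Fˣ) ^ i = 1 from Prod.ext (by simpa using h1) (by simp), map_one]
    rfl
  · refine eq_two_of_orderOf (Subtype.ext (Units.ext ?_)) ?_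
    · simp [Z, swapGL, Matrix.one_fin_two]
    · intro h
      have := congrArg (fun g : ↥(Cfsg.GU 2 F q) =>
        ((g : GL (Fin 2) F) : Matrix (Fin 2) (Fin 2) F) 0 0) h
      simp [Z, swapGL] at this
  · refine Subtype.ext (Units.ext ?_)
    simp [X, Y, Z, swapGL, coe_diagHom]

theorem quasiDihedral_case (hF : Fintype.card F = q ^ 2) (hq : Odd q) (hq4 : q % 4 = 1)
    (P : Sylow 2 ↥(Cfsg.GU 2 F q)) : Cfsg.IsQuasiDihedral (P : Subgroup ↥(Cfsg.GU 2 F q)) := by
  classical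
  have hq5 : 5 ≤ q := by have := Unitary.two_le_q hF; omega
  have hq0 : q ≠ 0 := by omega
  obtain ⟨m, r, hr, hmr⟩ := Nat.exists_eq_two_pow_mul_odd (n := q - 1) (by omega)
  obtain ⟨r', hr', hr'2⟩ : ∃ r', Odd r' ∧ q + 1 = 2 * r' :=
    ⟨(q + 1) / 2, ⟨(q - 1) / 4, by omega⟩, by omega⟩
  have hm : 2 ≤ m := by
    rcases m with _ | _ | m
    · obtain ⟨c, hc⟩ := hr; omega
    · obtain ⟨c, hc⟩ := hr; omega
    · omega
  obtain ⟨u, hu⟩ := TwoFusionB.exists_orderOf_eq (A := Fˣ) (d := 2 ^ (m + 1)) (by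
    rw [card_units_eq hF, hmr, hr'2]; exact Dvd.intro (r * r') (by ring))
  have h2 : (2 : F) ≠ 0 := two_ne_zero_of_odd hF hq
  have h2q : (2 : F) ^ q = 2 := by
    rw [← one_add_one_eq_two, Unitary.add_pow_q hF, one_pow]
  have hneg : (-1 : F) ^ q = -1 := Odd.neg_one_pow hq
  obtain ⟨c, hcn⟩ := Unitary.exists_norm_eq hF (t := (-1 : F)) hneg
  have hc : c ≠ 0 := fun h => by simp [h] at hcn
  rw [pow_succ'] at hcn
  have hcard : Nat.card (Cfsg.GU 2 F q) = 2 ^ (m + 1 + 1) * (q * r' ^ 2 * r) := by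
    rw [natCard_GU hF, hmr, hr'2]; ring
  -- the eigenvalues
  set a : F := (u : F) with ha
  set b : F := (((u ^ q)⁻¹ : Fˣ) : F) with hb
  have hba : b * a ^ q = 1 := by
    rw [hb, ha, ← Units.val_pow_eq_pow_val, ← Units.val_mul, inv_mul_cancel, Units.val_one]
  have hab : a * b ^ q = 1 := by
    have h := congrArg (fun x => x ^ q) hba
    simp only [mul_pow, one_pow, Unitary.pow_q_pow_q hF] at h
    rw [mul_comm]; exact h
  have haq : ((a + b) / 2) ^ q = (a ^ q + b ^ q) / 2 := by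
    rw [div_pow, Unitary.add_pow_q hF, h2q]
  have hdq : ((a - b) / 2) ^ q = (a ^ q - b ^ q) / 2 := by
    rw [div_pow, Unitary.sub_pow_q hF, h2q]
  have hcq : c ^ q ≠ 0 := pow_ne_zero _ hc
  have hnorm : (a + b) / 2 * ((a ^ q + b ^ q) / 2) - (a - b) / 2 * ((a ^ q - b ^ q) / 2) = 1 := by
    field_simp
    linear_combination 2 * hba + 2 * hab
  let X : ↥(Cfsg.GU 2 F q) := ⟨torusHom hc h2 q u, mem_GU_of (coe_torusHom hc h2 q u)
    (by
      rw [mul_pow, haq, hdq]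
      linear_combination hnorm + (a - b) / 2 * ((a ^ q - b ^ q) / 2) * hcn)
    (by
      rw [div_pow ((a - b) / 2) c, haq, hdq, div_mul_div_comm, hcn]
      linear_combination hnorm)
    (by
      rw [div_pow ((a - b) / 2) c, hdq, haq]
      field_simp
      linear_combination 2 * hba - 2 * hab + (a - b) * (a ^ q + b ^ q) * hcn)
    (by
      rw [mul_pow, hdq, haq]
      field_simp
      linear_combination 2 * hab - 2 * hba + (a + b) * (a ^ q - b ^ q) * hcn)
    hF⟩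
  let Y : ↥(Cfsg.GU 2 F q) := ⟨reflGL F, mem_GU_of (e₁ := 1) (e₂ := 0) (e₃ := 0) (e₄ := -1) rfl
    (by simp [zero_pow hq0]) (by simp [zero_pow hq0, hneg]) (by simp [zero_pow hq0])
    (by simp [zero_pow hq0]) hF⟩
  refine TwoFusionB.isQuasiDihedral_of_gens P (n := m + 1) (by omega) hcard
    ((hq.mul hr'.pow).mul hr) (x := X) (y := Y) ?_ ?_ ?_
  · rw [Subgroup.orderOf_mk, orderOf_injective _ (torusHom_injective hc h2 q), hu]
  · refine eq_two_of_orderOf (Subtype.ext (Units.ext ?_)) ?_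
    · simp [Y, reflGL, Matrix.one_fin_two]
    · exact fun h => reflGL_ne_one h2 (congrArg Subtype.val h)
  · refine Subtype.ext ?_
    have hinv : u ^ (2 ^ (m + 1 - 1) - 1) = (u ^ q)⁻¹ := by
      rw [eq_inv_iff_mul_eq_one, ← pow_add, ← orderOf_dvd_iff_pow_eq_one, hu, Nat.add_sub_cancel]
      obtain ⟨s, hs⟩ := hr
      refine ⟨s + 1, ?_⟩
      have h1 : 1 ≤ 2 ^ m := Nat.one_le_two_pow
      have e1 : 2 ^ (m + 1) * (s + 1) = 2 ^ m * (2 * s + 1) + 2 ^ m := by ring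
      rw [e1, ← hs, ← hmr]
      omega
    show reflGL F * torusHom hc h2 q u * (reflGL F)⁻¹ = torusHom hc h2 q u ^ (2 ^ (m + 1 - 1) - 1)
    rw [← map_pow, hinv]
    refine Units.ext ?_
    have hbq : ((((u ^ q)⁻¹ ^ q)⁻¹ : Fˣ) : F) = a := by
      rw [inv_pow, inv_inv, Units.val_pow_eq_pow_val, Units.val_pow_eq_pow_val,
        Unitary.pow_q_pow_q hF]
    rw [Units.val_mul, Units.val_mul, coe_torusHom, coe_torusHom, hbq, ← ha, ← hb]
    ext i j
    fin_cases i <;> fin_cases j <;>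
      simp [reflGL, isoMat, Matrix.mul_apply, Fin.sum_univ_two] <;> ring

end

/-- Let F be a finite field with q² elements, q odd, let GU be the subgroup of GL(2,F) preserving the Hermitian form u₁v₁^q + u₂v₂^q, and P a Sylow 2-subgroup of GU. If q ≡ 1 (mod 4) then P is quasi-dihedral; if q ≡ 3 (mod 4) then P is wreathed. -/
theorem result {F : Type*} [Field F] [Fintype F] (q : ℕ) (hF : Fintype.card F = q ^ 2) (hq : Odd q) (P : Sylow 2 ↥(Cfsg.preserving (Units.coeHom (Matrix (Fin 2) (Fin 2) F)) (Cfsg.hermForm 2 F q))) : (q % 4 = 1 → Cfsg.IsQuasiDihedral (P : Subgroup ↥(Cfsg.preserving (Units.coeHom (Matrix (Fin 2) (Fin 2) F)) (Cfsg.hermForm 2 F q)))) ∧ (q % 4 = 3 → Cfsg.IsWreathed (P : Subgroup ↥(Cfsg.preserving (Units.coeHom (Matrix (Fin 2) (Fin 2) F)) (Cfsg.hermForm 2 F q)))) :=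
  ⟨fun h => quasiDihedral_case hF hq h P, fun h => wreathed_case hF hq h P⟩

end Cfsg.Agent.S1218
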