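import Cfsg.Statements.S1219
import Mathlib

/-!
# Centralisers of involutions in `PSL(3, q)`, `q` odd
-/

set_option autoImplicit false
open Cfsg
open Matrix

namespace Cfsg.Agent.S1219

section
variable {F : Type*} [Field F]

/-- The block matrix of the determinant one embedding. -/
noncomputable def blockMat (A : Matrix (Fin 2) (Fin 2) F) : Matrix (Fin 3) (Fin 3) F :=
  !![A.det⁻¹, 0, 0; 0, A 0 0, A 0 1; 0, A 1 0, A 1 1]

theorem det_blockMat {A : Matrix (Fin 2) (Fin 2) F} (h : A.det ≠ 0) : (blockMat A).det = 1 := by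
  rw [blockMat, Matrix.det_fin_three]
  simp
  field_simp
  rw [Matrix.det_fin_two]

theorem blockMat_one : blockMat (1 : Matrix (Fin 2) (Fin 2) F) = 1 := by
  ext i j; fin_cases i <;> fin_cases j <;> simp [blockMat]

theorem blockMat_mul (A B : Matrix (Fin 2) (Fin 2) F) :
    blockMat (A * B) = blockMat A * blockMat B := by
  ext i j
  fin_cases i <;> fin_cases j <;>
    simp [blockMat, Matrix.mul_apply, Fin.sum_univ_three, Fin.sum_univ_two, mul_comm]

/-- The determinant one block embedding of `GL₂` into `SL₃`. -/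
noncomputable def blockHom (F : Type*) [Field F] :
    GL (Fin 2) F →* Matrix.SpecialLinearGroup (Fin 3) F where
  toFun A := ⟨blockMat (A : Matrix (Fin 2) (Fin 2) F),
    det_blockMat (Matrix.GeneralLinearGroup.det_ne_zero A)⟩
  map_one' := Subtype.ext blockMat_one
  map_mul' A B := Subtype.ext (blockMat_mul _ _)

theorem coe_blockHom (A : GL (Fin 2) F) :
    ((blockHom F A : Matrix.SpecialLinearGroup (Fin 3) F) : Matrix (Fin 3) (Fin 3) F) =
      !![((A : Matrix (Fin 2) (Fin 2) F).det)⁻¹, 0, 0;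
        0, (A : Matrix (Fin 2) (Fin 2) F) 0 0, (A : Matrix (Fin 2) (Fin 2) F) 0 1;
        0, (A : Matrix (Fin 2) (Fin 2) F) 1 0, (A : Matrix (Fin 2) (Fin 2) F) 1 1] := rfl

/-- The standard involution. -/
abbrev invMat (F : Type*) [Field F] : Matrix (Fin 3) (Fin 3) F := !![1, 0, 0; 0, -1, 0; 0, 0, -1]

theorem invMat_comm (A : GL (Fin 2) F) :
    invMat F * (blockHom F A : Matrix (Fin 3) (Fin 3) F) =
      (blockHom F A : Matrix (Fin 3) (Fin 3) F) * invMat F := by
  rw [coe_blockHom]
  ext i j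
  fin_cases i <;> fin_cases j <;> simp [Matrix.mul_apply, Fin.sum_univ_three]

/-- An involution of `SL₃` has a basis of eigenvectors with eigenvalues `1, -1, -1`. -/
theorem exists_diagonalizing (h2 : (2 : F) ≠ 0) (g : Matrix.SpecialLinearGroup (Fin 3) F)
    (hg : g * g = 1) (hne : g ≠ 1) :
    ∃ P : GL (Fin 3) F, (g : Matrix (Fin 3) (Fin 3) F) * (P : Matrix (Fin 3) (Fin 3) F) =
      (P : Matrix (Fin 3) (Fin 3) F) * invMat F := by
  classical
  set f : (Fin 3 → F) →ₗ[F] (Fin 3 → F) := Matrix.toLin' (g : Matrix (Fin 3) (Fin 3) F) with hf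
  have hf2 : ∀ v, f (f v) = v := fun v => by
    rw [hf, ← LinearMap.comp_apply, ← Matrix.toLin'_mul, ← Matrix.SpecialLinearGroup.coe_mul, hg,
      Matrix.SpecialLinearGroup.coe_one, Matrix.toLin'_one, LinearMap.id_apply]
  set p := LinearMap.ker (f - LinearMap.id) with hp
  set q := LinearMap.ker (f + LinearMap.id) with hq
  have hpm : ∀ v, v ∈ p ↔ f v = v := fun v => by
    rw [hp, LinearMap.mem_ker, LinearMap.sub_apply, LinearMap.id_apply, sub_eq_zero]
  have hqm : ∀ v, v ∈ q ↔ f v = -v := fun v => by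
    rw [hq, LinearMap.mem_ker, LinearMap.add_apply, LinearMap.id_apply, add_eq_zero_iff_eq_neg]
  have hpq : IsCompl p q := by
    constructor
    · rw [Submodule.disjoint_def]
      intro v h1 h1'
      have h3 : v + v = 0 := by
        have := ((hpm v).1 h1).symm.trans ((hqm v).1 h1')
        exact add_eq_zero_iff_eq_neg.2 this
      rw [← two_smul F v] at h3
      exact (smul_eq_zero.1 h3).resolve_left h2
    · rw [codisjoint_iff, eq_top_iff]
      intro v _
      refine Submodule.mem_sup.2 ⟨(2 : F)⁻¹ • (v + f v), ?_, (2 : F)⁻¹ • (v - f v), ?_, ?_⟩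
      · rw [hpm, map_smul, map_add, hf2, add_comm]
      · rw [hqm, map_smul, map_sub, hf2, ← smul_neg, neg_sub]
      · rw [← smul_add, add_add_sub_cancel, ← two_smul F v, inv_smul_smul₀ h2]
  let e := Submodule.prodEquivOfIsCompl p q hpq
  have he : ∀ x : p × q, f (e x) = e (x.1, -x.2) := fun x => by
    simp only [e, Submodule.coe_prodEquivOfIsCompl', Submodule.coe_neg]
    rw [map_add, (hpm _).1 x.1.2, (hqm _).1 x.2.2]
  have hdim : Module.finrank F p + Module.finrank F q = 3 := by
    rw [Submodule.finrank_add_eq_of_isCompl hpq, Module.finrank_fin_fun]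
  have hdet : (-1 : F) ^ Module.finrank F q = 1 := by
    have h1 : LinearMap.det f = 1 := by rw [hf, LinearMap.det_toLin', g.2]
    have h3 : f = ((e : _ →ₗ[F] (Fin 3 → F)).comp
        (((LinearMap.id : p →ₗ[F] p).prodMap ((-1 : F) • (LinearMap.id : q →ₗ[F] q))).comp
          (e.symm : (Fin 3 → F) →ₗ[F] _))) := by
      refine LinearMap.ext fun v => ?_
      conv_lhs => rw [← e.apply_symm_apply v, he]
      simp
    rw [h3, LinearMap.det_conj, LinearMap.det_prodMap, LinearMap.det_id, one_mul, LinearMap.det_smul,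
      LinearMap.det_id, mul_one] at h1
    exact h1
  have hq0 : Module.finrank F q ≠ 0 := by
    intro h0
    have hp3 : p = ⊤ := Submodule.eq_top_of_finrank_eq (by rw [Module.finrank_fin_fun]; omega)
    refine hne (Subtype.ext ?_)
    have : f = LinearMap.id := LinearMap.ext fun v => (hpm v).1 (hp3 ▸ Submodule.mem_top)
    rw [hf, ← Matrix.toLin'_one] at this
    exact Matrix.toLin'.injective this
  have hm1 : (-1 : F) ≠ 1 := fun h => h2 (by linear_combination -h)
  have hq2 : Module.finrank F q = 2 := by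
    rcases Nat.even_or_odd (Module.finrank F q) with ⟨c, hc⟩ | ho
    · omega
    · rw [ho.neg_one_pow] at hdet; exact absurd hdet hm1
  let bp : Module.Basis (Fin 1) F p := Module.finBasisOfFinrankEq F p (by omega)
  let bq : Module.Basis (Fin 2) F q := Module.finBasisOfFinrankEq F q hq2
  let B : Module.Basis (Fin 3) F (Fin 3 → F) :=
    ((bp.prod bq).reindex finSumFinEquiv).map e
  have hB : ∀ j : Fin 3, f (B j) = (if j = 0 then (1 : F) else -1) • B j := by
    intro j
    obtain ⟨s, rfl⟩ := (finSumFinEquiv (m := 1) (n := 2)).surjective j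
    simp only [B, Module.Basis.map_apply, Module.Basis.reindex_apply, Equiv.symm_apply_apply]
    rw [he, ← map_smul]
    congr 1
    rcases s with i | i
    · fin_cases i
      rw [if_pos (by decide)]
      simp [Module.Basis.prod_apply]
    · have hne0 : finSumFinEquiv (Sum.inr i : Fin 1 ⊕ Fin 2) ≠ 0 := by
        fin_cases i <;> decide
      rw [if_neg hne0]
      simp [Module.Basis.prod_apply]
      exact (neg_one_smul F (bq i)).symm
  let P : GL (Fin 3) F := ⟨(Pi.basisFun F (Fin 3)).toMatrix B, B.toMatrix (Pi.basisFun F (Fin 3)),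
    Module.Basis.toMatrix_mul_toMatrix_flip _ _, Module.Basis.toMatrix_mul_toMatrix_flip _ _⟩
  refine ⟨P, ?_⟩
  have hP : ∀ i j, (P : Matrix (Fin 3) (Fin 3) F) i j = B j i := fun i j => by
    simp [P, Module.Basis.toMatrix_apply]
  ext i j
  have h := congrFun (hB j) i
  rw [hf, Matrix.toLin'_apply] at h
  simp only [Matrix.mulVec, dotProduct, Pi.smul_apply, smul_eq_mul] at h
  rw [Matrix.mul_apply, Matrix.mul_apply]
  simp only [hP]
  rw [h]
  fin_cases j <;> simp [Fin.sum_univ_three]

theorem natCard_pow_three_eq_one [Fintype F] :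
    Nat.card {r : Fˣ // r ^ 3 = 1} = Nat.gcd (Fintype.card F - 1) 3 := by
  rw [← Nat.card_eq_fintype_card, ← Nat.card_units, ← IsCyclic.card_powMonoidHom_ker]
  exact Nat.card_congr (Equiv.subtypeEquivRight fun r => Iff.rfl)

end

/-- Let F be a finite field of odd order q and t an involution of PSL(3,F). Then C(t) is isomorphic to the quotient of GL(2,F) by a central subgroup of order gcd(q−1, 3). -/
theorem result {F : Type*} [Field F] [Fintype F] (hF : Odd (Fintype.card F)) (t : Matrix.ProjectiveSpecialLinearGroup (Fin 3) F) (ht : orderOf t = 2) : ∃ (Z : Subgroup (GL (Fin 2) F)) (_ : Z.Normal), Z ≤ Subgroup.center (GL (Fin 2) F) ∧ Nat.card Z = Nat.gcd (Fintype.card F - 1) 3 ∧ Nonempty (↥(Subgroup.centralizer ({t} : Set (Matrix.ProjectiveSpecialLinearGroup (Fin 3) F))) ≃* GL (Fin 2) F ⧸ Z) := by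
  classical
  have h2 : (2 : F) ≠ 0 := by
    refine Ring.two_ne_zero fun h => ?_
    have h1 := FiniteField.even_card_of_char_two (F := F) h
    rw [Nat.odd_iff] at hF
    omega
  set π : Matrix.SpecialLinearGroup (Fin 3) F →* Matrix.ProjectiveSpecialLinearGroup (Fin 3) F :=
    QuotientGroup.mk' _ with hπ
  have hker : ∀ g, π g = 1 ↔ ∃ r : F, r ^ 3 = 1 ∧ Matrix.scalar (Fin 3) r = (g : Matrix (Fin 3) (Fin 3) F) := by
    intro g
    rw [hπ, QuotientGroup.mk'_apply, QuotientGroup.eq_one_iff,
      Matrix.SpecialLinearGroup.mem_center_iff, Fintype.card_fin]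
  obtain ⟨g₀, hg₀⟩ := QuotientGroup.mk'_surjective _ t
  rw [← hπ] at hg₀
  -- an involution above `t`
  obtain ⟨g, hg, hgt⟩ : ∃ g : Matrix.SpecialLinearGroup (Fin 3) F, g * g = 1 ∧ π g = t := by
    have h1 : π (g₀ * g₀) = 1 := by rw [map_mul, hg₀, ← sq, ← ht, pow_orderOf_eq_one]
    obtain ⟨r, hr, hrg⟩ := (hker _).1 h1
    refine ⟨g₀ * ⟨Matrix.scalar (Fin 3) r, by
      rw [Matrix.scalar_apply, Matrix.det_diagonal]; simp [hr]⟩, Subtype.ext ?_, ?_⟩
    · have hcomm : Commute (Matrix.scalar (Fin 3) r) (g₀ : Matrix (Fin 3) (Fin 3) F) :=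
        Matrix.scalar_commute r (fun r' => mul_comm r r') _
      show (g₀ : Matrix (Fin 3) (Fin 3) F) * Matrix.scalar (Fin 3) r *
        ((g₀ : Matrix (Fin 3) (Fin 3) F) * Matrix.scalar (Fin 3) r) = 1
      calc (g₀ : Matrix (Fin 3) (Fin 3) F) * Matrix.scalar (Fin 3) r *
          ((g₀ : Matrix (Fin 3) (Fin 3) F) * Matrix.scalar (Fin 3) r)
          = (g₀ : Matrix (Fin 3) (Fin 3) F) * (g₀ : Matrix (Fin 3) (Fin 3) F) *
            (Matrix.scalar (Fin 3) r * Matrix.scalar (Fin 3) r) := by
            rw [mul_assoc, ← mul_assoc (Matrix.scalar (Fin 3) r), hcomm.eq, mul_assoc, mul_assoc]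
        _ = Matrix.scalar (Fin 3) (r * (r * r)) := by
            rw [← Matrix.SpecialLinearGroup.coe_mul, ← hrg, ← map_mul, ← map_mul]
        _ = 1 := by rw [← mul_assoc, ← pow_two, ← pow_succ, hr, map_one]
    · have hz : ∀ z : Matrix.SpecialLinearGroup (Fin 3) F,
          (z : Matrix (Fin 3) (Fin 3) F) = Matrix.scalar (Fin 3) r → π (g₀ * z) = t := fun z hz => by
        rw [map_mul, (hker z).2 ⟨r, hr, hz.symm⟩, mul_one, hg₀]
      exact hz _ rfl
  have hne : g ≠ 1 := fun h => by rw [← hgt, h, map_one, orderOf_one] at ht; omega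
  obtain ⟨P, hP⟩ := exists_diagonalizing h2 g hg hne
  -- conjugation by `P` on `SL₃`
  let c : Matrix.SpecialLinearGroup (Fin 3) F →* Matrix.SpecialLinearGroup (Fin 3) F :=
    { toFun := fun h => ⟨(P : Matrix (Fin 3) (Fin 3) F) * h * ((P⁻¹ : GL (Fin 3) F) : Matrix (Fin 3) (Fin 3) F), by
        rw [Matrix.det_units_conj, h.2]⟩
      map_one' := Subtype.ext (by simp)
      map_mul' := fun x y => Subtype.ext (by
        show (P : Matrix (Fin 3) (Fin 3) F) * ((x : Matrix (Fin 3) (Fin 3) F) * y) * ((P⁻¹ : GL (Fin 3) F) : Matrix (Fin 3) (Fin 3) F) =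
          (P : Matrix (Fin 3) (Fin 3) F) * x * ((P⁻¹ : GL (Fin 3) F) : Matrix (Fin 3) (Fin 3) F) *
          ((P : Matrix (Fin 3) (Fin 3) F) * y * ((P⁻¹ : GL (Fin 3) F) : Matrix (Fin 3) (Fin 3) F))
        simp only [mul_assoc, Units.inv_mul_cancel_left]) }
  have hgP : (g : Matrix (Fin 3) (Fin 3) F) =
      (P : Matrix (Fin 3) (Fin 3) F) * invMat F * ((P⁻¹ : GL (Fin 3) F) : Matrix (Fin 3) (Fin 3) F) := by
    rw [← hP, mul_assoc, Units.mul_inv, mul_one]
  have hcg : ∀ h : Matrix.SpecialLinearGroup (Fin 3) F,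
      c h * g = g * c h ↔ (h : Matrix (Fin 3) (Fin 3) F) * invMat F = invMat F * h := by
    intro h
    refine Subtype.ext_iff.trans ?_
    rw [Matrix.SpecialLinearGroup.coe_mul, Matrix.SpecialLinearGroup.coe_mul, hgP]
    show (P : Matrix (Fin 3) (Fin 3) F) * h * ((P⁻¹ : GL (Fin 3) F) : Matrix (Fin 3) (Fin 3) F) *
      ((P : Matrix (Fin 3) (Fin 3) F) * invMat F * ((P⁻¹ : GL (Fin 3) F) : Matrix (Fin 3) (Fin 3) F)) =
      (P : Matrix (Fin 3) (Fin 3) F) * invMat F * ((P⁻¹ : GL (Fin 3) F) : Matrix (Fin 3) (Fin 3) F) *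
      ((P : Matrix (Fin 3) (Fin 3) F) * h * ((P⁻¹ : GL (Fin 3) F) : Matrix (Fin 3) (Fin 3) F)) ↔ _
    simp only [mul_assoc, Units.inv_mul_cancel_left]
    rw [Units.mul_right_inj, ← mul_assoc, ← mul_assoc, Units.mul_left_inj]
  let θ : GL (Fin 2) F →* ↥(Subgroup.centralizer ({t} : Set (Matrix.ProjectiveSpecialLinearGroup (Fin 3) F))) :=
    (π.comp (c.comp (blockHom F))).codRestrict _ (fun A => by
      rw [Subgroup.mem_centralizer_singleton_iff, ← hgt, MonoidHom.comp_apply, ← map_mul, ← map_mul]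
      exact congrArg π ((hcg _).2 (invMat_comm A).symm))
  have hθ : Function.Surjective θ := by
    rintro ⟨k₀, hk₀⟩
    obtain ⟨k, rfl⟩ := QuotientGroup.mk'_surjective _ k₀
    have hk : π k * t = t * π k := Subgroup.mem_centralizer_singleton_iff.1 hk₀
    -- `k` commutes with `g`
    have hkg : k * g = g * k := by
      have h1 : π (k * g * (g * k)⁻¹) = 1 := by
        rw [map_mul, map_mul, map_inv, map_mul, hgt, hk, mul_inv_cancel]
      obtain ⟨r, hr, hrk⟩ := (hker _).1 h1
      set z := k * g * (g * k)⁻¹ with hz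
      have hzc : z ∈ Subgroup.center (Matrix.SpecialLinearGroup (Fin 3) F) :=
        Matrix.SpecialLinearGroup.mem_center_iff.2 ⟨r, by rwa [Fintype.card_fin], hrk⟩
      have hz2 : z * z = 1 := by
        have e2 : k * g * k⁻¹ = z * g := by rw [hz]; group
        calc z * z = z * z * (g * g) := by rw [hg, mul_one]
          _ = (z * g) * (z * g) := by
            rw [mul_assoc z g, ← mul_assoc g z, (Subgroup.mem_center_iff.1 hzc g)]; group
          _ = k * (g * g) * k⁻¹ := by rw [← e2]; group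
          _ = 1 := by rw [hg, mul_one, mul_inv_cancel]
      have hz1 : r = 1 := by
        have h3 := congrArg (fun x : Matrix.SpecialLinearGroup (Fin 3) F => (x : Matrix (Fin 3) (Fin 3) F) 0 0) hz2
        simp only [Matrix.SpecialLinearGroup.coe_mul, ← hrk, ← map_mul,
          Matrix.SpecialLinearGroup.coe_one, Matrix.scalar_apply, Matrix.diagonal_apply_eq,
          Matrix.one_apply_eq] at h3
        have h4 : r * r = 1 := by simpa using h3
        calc r = r * (r * r) := by rw [h4, mul_one]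
          _ = 1 := by rw [← mul_assoc, ← pow_two, ← pow_succ, hr]
      have hzone : z = 1 := Subtype.ext (by rw [← hrk, hz1, map_one]; rfl)
      rwa [hz, mul_inv_eq_one] at hzone
    -- conjugate back
    let N : Matrix.SpecialLinearGroup (Fin 3) F :=
      ⟨((P⁻¹ : GL (Fin 3) F) : Matrix (Fin 3) (Fin 3) F) * k * (P : Matrix (Fin 3) (Fin 3) F), by
        rw [Matrix.det_units_conj', k.2]⟩
    have hcN : c N = k := Subtype.ext (by
      show (P : Matrix (Fin 3) (Fin 3) F) * (((P⁻¹ : GL (Fin 3) F) : Matrix (Fin 3) (Fin 3) F) * k *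
        (P : Matrix (Fin 3) (Fin 3) F)) * ((P⁻¹ : GL (Fin 3) F) : Matrix (Fin 3) (Fin 3) F) = k
      simp [mul_assoc])
    have hN : (N : Matrix (Fin 3) (Fin 3) F) * invMat F = invMat F * N := by
      rw [← hcg, hcN, hkg]
    have e := fun i j => congrFun (congrFun hN i) j
    have z1 : (N : Matrix (Fin 3) (Fin 3) F) 0 1 = 0 := by
      have := e 0 1
      simp [Matrix.mul_apply, Fin.sum_univ_three] at this
      exact (mul_eq_zero.1 (show (2 : F) * _ = 0 by linear_combination -this)).resolve_left h2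
    have z2 : (N : Matrix (Fin 3) (Fin 3) F) 0 2 = 0 := by
      have := e 0 2
      simp [Matrix.mul_apply, Fin.sum_univ_three] at this
      exact (mul_eq_zero.1 (show (2 : F) * _ = 0 by linear_combination -this)).resolve_left h2
    have z3 : (N : Matrix (Fin 3) (Fin 3) F) 1 0 = 0 := by
      have := e 1 0
      simp [Matrix.mul_apply, Fin.sum_univ_three] at this
      exact (mul_eq_zero.1 (show (2 : F) * _ = 0 by linear_combination this)).resolve_left h2
    have z4 : (N : Matrix (Fin 3) (Fin 3) F) 2 0 = 0 := by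
      have := e 2 0
      simp [Matrix.mul_apply, Fin.sum_univ_three] at this
      exact (mul_eq_zero.1 (show (2 : F) * _ = 0 by linear_combination this)).resolve_left h2
    set A : Matrix (Fin 2) (Fin 2) F :=
      !![(N : Matrix (Fin 3) (Fin 3) F) 1 1, (N : Matrix (Fin 3) (Fin 3) F) 1 2;
        (N : Matrix (Fin 3) (Fin 3) F) 2 1, (N : Matrix (Fin 3) (Fin 3) F) 2 2] with hA
    have hdet : (N : Matrix (Fin 3) (Fin 3) F) 0 0 * A.det = 1 := by
      have := N.2
      rw [Matrix.det_fin_three, z1, z2, z3, z4] at this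
      rw [hA, Matrix.det_fin_two_of]
      linear_combination this
    have hA0 : A.det ≠ 0 := right_ne_zero_of_mul_eq_one hdet
    refine ⟨Matrix.GeneralLinearGroup.mkOfDetNeZero A hA0, Subtype.ext ?_⟩
    show π (c (blockHom F _)) = π k
    rw [← hcN]
    congr 2
    refine Subtype.ext ?_
    rw [coe_blockHom]
    ext i j
    fin_cases i <;> fin_cases j <;>
      simp [z1, z2, z3, z4, Matrix.GeneralLinearGroup.mkOfDetNeZero, hA]
    rw [inv_eq_of_mul_eq_one_left]
    rw [hA, Matrix.det_fin_two_of] at hdet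
    exact hdet
  refine ⟨θ.ker, inferInstance, ?_, ?_, ⟨(QuotientGroup.quotientKerEquivOfSurjective θ hθ).symm⟩⟩
  all_goals
    have hmem : ∀ A : GL (Fin 2) F, A ∈ θ.ker ↔
        ∃ r : F, r ^ 3 = 1 ∧ (A : Matrix (Fin 2) (Fin 2) F) = Matrix.scalar (Fin 2) r := by
      intro A
      rw [MonoidHom.mem_ker, Subtype.ext_iff]
      show π (c (blockHom F A)) = 1 ↔ _
      rw [hker]
      constructor
      · rintro ⟨r, hr, h⟩
        have h' : (blockHom F A : Matrix (Fin 3) (Fin 3) F) = Matrix.scalar (Fin 3) r := by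
          have hs : Commute (Matrix.scalar (Fin 3) r) (P : Matrix (Fin 3) (Fin 3) F) :=
            Matrix.scalar_commute r (fun r' => mul_comm r r') _
          have h1 := congrArg (fun X => ((P⁻¹ : GL (Fin 3) F) : Matrix (Fin 3) (Fin 3) F) * X *
            (P : Matrix (Fin 3) (Fin 3) F)) h
          simp only [mul_assoc, hs.eq, Units.inv_mul_cancel_left] at h1
          rw [h1]
          show (blockHom F A : Matrix (Fin 3) (Fin 3) F) =
            ((P⁻¹ : GL (Fin 3) F) : Matrix (Fin 3) (Fin 3) F) * ((P : Matrix (Fin 3) (Fin 3) F) *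
            blockHom F A * ((P⁻¹ : GL (Fin 3) F) : Matrix (Fin 3) (Fin 3) F) * P)
          simp [mul_assoc]
        refine ⟨r, hr, ?_⟩
        rw [coe_blockHom] at h'
        ext i j
        have e := fun i j => congrFun (congrFun h' i) j
        fin_cases i <;> fin_cases j
        · simpa using e 1 1
        · simpa using e 1 2
        · simpa using e 2 1
        · simpa using e 2 2
      · rintro ⟨r, hr, hA⟩
        refine ⟨r, hr, ?_⟩
        have hb : (blockHom F A : Matrix (Fin 3) (Fin 3) F) = Matrix.scalar (Fin 3) r := by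
          rw [coe_blockHom, hA]
          ext i j
          fin_cases i <;> fin_cases j <;> simp
          have hr0 : r ≠ 0 := fun h0 => by simp [h0] at hr
          field_simp
          linear_combination -hr
        show _ = (P : Matrix (Fin 3) (Fin 3) F) * blockHom F A * ((P⁻¹ : GL (Fin 3) F) : Matrix (Fin 3) (Fin 3) F)
        rw [hb, (Matrix.scalar_commute r (fun r' => mul_comm r r') (P : Matrix (Fin 3) (Fin 3) F)).symm.eq,
          mul_assoc, Units.mul_inv, mul_one]
  · intro A hA
    obtain ⟨r, -, hA⟩ := (hmem A).1 hA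
    rw [Subgroup.mem_center_iff]
    intro B
    refine Units.ext ?_
    rw [Units.val_mul, Units.val_mul, hA]
    exact (Matrix.scalar_commute r (fun r' => mul_comm r r') _).eq.symm
  · rw [← natCard_pow_three_eq_one (F := F)]
    symm
    refine Nat.card_eq_of_bijective (fun r : {r : Fˣ // r ^ 3 = 1} =>
      (⟨Units.map ((Matrix.scalar (Fin 2)).toMonoidHom : F →* Matrix (Fin 2) (Fin 2) F) r.1, (hmem _).2
        ⟨(r.1 : F), by rw [← Units.val_pow_eq_pow_val, r.2, Units.val_one], rfl⟩⟩ : θ.ker)) ⟨?_, ?_⟩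
    · intro a b h
      have h1 := congrArg (fun x : θ.ker => ((x : GL (Fin 2) F) : Matrix (Fin 2) (Fin 2) F) 0 0) h
      simp at h1
      exact Subtype.ext (Units.ext h1)
    · rintro ⟨A, hA⟩
      obtain ⟨r, hr, hAr⟩ := (hmem A).1 hA
      have hr0 : r ≠ 0 := fun h0 => by simp [h0] at hr
      exact ⟨⟨Units.mk0 r hr0, Units.ext (by simpa using hr)⟩, Subtype.ext (Units.ext hAr.symm)⟩

end Cfsg.Agent.S1219
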