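import Cfsg.Statements.S1228
import Cfsg.Agent.TwoFusionB.TripleTransitive

set_option autoImplicit false
open Cfsg

namespace Cfsg.Agent.S1228

/-- Let G be a finite group with a Sylow 2-subgroup T that is neither cyclic nor normal, such that the centralizer of every involution is an elementary abelian 2-group; put H = N_G(T), let u be an involution outside H and D = H ∩ uHu⁻¹. Then N_G(D) = D ⊔ ⟨u⟩, and a coset gH is fixed by every element of D exactly when gH = H or gH = uH. -/
theorem result {G : Type*} [Group G] [Finite G] (T : Sylow 2 G) (hnc : ¬ IsCyclic (T : Subgroup G)) (hnn : ¬ (T : Subgroup G).Normal) (hC : ∀ t : G, orderOf t = 2 → IsMulCommutative (Subgroup.centralizer ({t} : Set G)) ∧ ∀ c ∈ Subgroup.centralizer ({t} : Set G), c ^ 2 = 1) (u : G) (hu : orderOf u = 2) (huH : u ∉ Subgroup.normalizer ((T : Subgroup G) : Set G)) : Subgroup.normalizer ((Subgroup.normalizer ((T : Subgroup G) : Set G) ⊓ (Subgroup.normalizer ((T : Subgroup G) : Set G)).map (MulAut.conj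 u).toMonoidHom : Subgroup G) : Set G) = (Subgroup.normalizer ((T : Subgroup G) : Set G) ⊓ (Subgroup.normalizer ((T : Subgroup G) : Set G)).map (MulAut.conj u).toMonoidHom) ⊔ Subgroup.zpowers u ∧ ∀ g : G, ((∀ d ∈ Subgroup.normalizer ((T : Subgroup G) : Set G) ⊓ (Subgroup.normalizer ((T : Subgroup G) : Set G)).map (MulAut.conj u).toMonoidHom, d • (QuotientGroup.mk g : G ⧸ Subgroup.normalizer ((T : Subgroup G) : Set G)) = QuotientGroup.mk g) ↔ (QuotientGroup.mk g : G ⧸ Subgroup.normalizer ((T : Subgroup G) : Set G)) = QuotientGroup.mk 1 ∨ (QuotientGroup.mk g : G ⧸ Subgroup.normalizer ((T : Subgroup G) : Set G)) = QuotientGroup.mk u) := by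
  have h : TwoFusionB.ECHyp T := ⟨hnc, hnn, hC⟩
  have hy := TwoFusionB.ECHyp.mk_ne_pt (T := T) huH
  have hD := TwoFusionB.ECHyp.stab2_eq_inf (T := T) u
  have hN := h.normalizer_stab2 hy hu (TwoFusionB.ECHyp.smul_pt u)
  rw [hD] at hN
  refine ⟨hN, fun g => ⟨fun hfix => h.fix_stab2 hy (fun d hd => hfix d (hD ▸ hd)), ?_⟩⟩
  rintro (e | e) d hd <;> rw [e]
  · exact TwoFusionB.smul_one_eq_iff.mpr hd.1
  · exact (TwoFusionB.ECHyp.mem_stab2.mp (hD.symm ▸ hd : d ∈ TwoFusionB.ECHyp.stab2 T _)).2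

end Cfsg.Agent.S1228
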