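import Cfsg.Statements.S1231
import Cfsg.Agent.LocalEven61.Conj
import Mathlib

/-!
# Normalisers of subgroups of large rank versus intersections of conjugates
-/

set_option autoImplicit false
open Cfsg
open Cfsg.Agent.LocalEven61

namespace Cfsg.Agent.S1231

section
variable {G : Type*} [Group G] [Finite G] {p j : ℕ}

theorem pRankLE_of_injective {A B : Type*} [Group A] [Group B] (f : A →* B)
    (hf : Function.Injective f) (h : Cfsg.PRankLE p j B) : Cfsg.PRankLE p j A := by
  intro C hC hCp
  rw [← Subgroup.card_map_of_injective hf]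
  haveI := hC
  refine h (C.map f) inferInstance ?_
  rintro b ⟨a, ha, rfl⟩
  rw [← map_pow, hCp a ha, map_one]

theorem pRankLE_of_le {A B : Subgroup G} (hAB : A ≤ B) (h : Cfsg.PRankLE p j B) :
    Cfsg.PRankLE p j A :=
  pRankLE_of_injective (Subgroup.inclusion hAB) (Subgroup.inclusion_injective hAB) h

theorem pRankLE_map_conj {A : Subgroup G} {g : G}
    (h : Cfsg.PRankLE p j (A.map (MulAut.conj g).toMonoidHom)) : Cfsg.PRankLE p j A :=
  pRankLE_of_injective (A.equivMapOfInjective _ (MulAut.conj g).injective).toMonoidHom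
    (MulEquiv.injective _) h

theorem card_map_conj (A : Subgroup G) (g : G) :
    Nat.card (A.map (MulAut.conj g).toMonoidHom) = Nat.card A :=
  Subgroup.card_map_of_injective (MulAut.conj g).injective

/-- A `p`-group inside `R` and properly inside it is properly normalised inside it. -/
theorem exists_mem_normalizer [Fact p.Prime] {Q R : Subgroup G} (hR : IsPGroup p R) (hQR : Q ≤ R)
    (hne : ¬ R ≤ Q) : ∃ x ∈ R, x ∈ Subgroup.normalizer (Q : Set G) ∧ x ∉ Q := by
  haveI := IsPGroup.isNilpotent hR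
  have hlt : Q.subgroupOf R < ⊤ := lt_top_iff_ne_top.2 fun h =>
    hne (Subgroup.subgroupOf_eq_top.1 h)
  obtain ⟨x, hx, hxA⟩ := SetLike.exists_of_lt (normalizerCondition_of_isNilpotent _ hlt)
  rw [← Subgroup.subgroupOf_normalizer_eq hQR] at hx
  exact ⟨x, x.2, hx, hxA⟩

/-- The core of the nontrivial direction. -/
theorem not_pRankLE_inf [Fact p.Prime] (H : Subgroup G) (P : Sylow p ↥H)
    (hN : ∀ X : Subgroup G, X ≤ (P : Subgroup ↥H).map H.subtype → ¬ Cfsg.PRankLE p j ↥X →
      Subgroup.normalizer (X : Set G) ≤ H) {g : G} {Q : Subgroup G} (hQp : IsPGroup p Q)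
    (hQP : Q ≤ (P : Subgroup ↥H).map H.subtype) (hQg : Q ≤ H.map (MulAut.conj g).toMonoidHom)
    (hmax : ∀ Q' : Subgroup G, IsPGroup p Q' → Q ≤ Q' →
      Q' ≤ H → Q' ≤ H.map (MulAut.conj g).toMonoidHom → Q' ≤ Q)
    (hrank : ¬ Cfsg.PRankLE p j Q) : g ∈ H := by
  have hQH : Q ≤ H := hQP.trans (Subgroup.map_subtype_le _)
  have hNQ : Subgroup.normalizer (Q : Set G) ≤ H := hN Q hQP hrank
  set P' := (P : Subgroup ↥H).map H.subtype with hP'
  -- `Q` is a maximal `p`-subgroup of the conjugate of `H`
  obtain ⟨Q₁, hQ₁⟩ := (hQp.comap_of_injective (H.map (MulAut.conj g).toMonoidHom).subtype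
    (Subgroup.subtype_injective _)).exists_le_sylow
  set R := (Q₁ : Subgroup ↥(H.map (MulAut.conj g).toMonoidHom)).map
    (H.map (MulAut.conj g).toMonoidHom).subtype with hR
  have hRp : IsPGroup p R := Q₁.isPGroup'.map _
  have hQR : Q ≤ R := fun x hx => ⟨⟨x, hQg hx⟩, hQ₁ hx, rfl⟩
  have hRQ : R ≤ Q := by
    by_contra hne
    obtain ⟨x, hxR, hxN, hxQ⟩ := exists_mem_normalizer hRp hQR hne
    let Q' := Q ⊔ Subgroup.zpowers x
    have hQ'R : Q' ≤ R := sup_le hQR (Subgroup.zpowers_le.2 hxR)
    exact hxQ (hmax Q' (hRp.to_le hQ'R) le_sup_left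
      (sup_le hQH (Subgroup.zpowers_le.2 (hNQ hxN))) (hQ'R.trans (Subgroup.map_subtype_le _))
      (le_sup_right (a := Q) (Subgroup.mem_zpowers x)))
  have hQeq : Q = R := le_antisymm hQR hRQ
  -- compare the orders
  have hgR : R.map (MulAut.conj g⁻¹).toMonoidHom ≤ H := by
    intro y hy
    rw [mem_map_conj, inv_inv] at hy
    have := Subgroup.map_subtype_le _ hy
    rw [mem_map_conj] at this
    simpa [mul_assoc] using this
  have hcard : Nat.card P' ≤ Nat.card Q := by
    rw [hQeq]
    have hp2 : IsPGroup p (P'.map (MulAut.conj g).toMonoidHom) := (P.isPGroup'.map _).map _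
    obtain ⟨m, _, hle⟩ := exists_conj_le_sylow_map Q₁ hp2
      (Subgroup.map_mono (Subgroup.map_subtype_le _))
    have := Subgroup.card_le_of_le hle
    rwa [card_map_conj, card_map_conj] at this
  have hQP' : Q = P' := Subgroup.eq_of_le_of_card_ge hQP hcard
  obtain ⟨h, hh, hle⟩ := exists_conj_le_sylow_map P (hRp.map (MulAut.conj g⁻¹).toMonoidHom) hgR
  rw [map_conj_map_conj, ← hQeq, hQP', ← hP'] at hle
  have heq : P'.map (MulAut.conj (h * g⁻¹)).toMonoidHom = P' :=
    Subgroup.eq_of_le_of_card_ge hle (card_map_conj _ _).ge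
  have hmem : h * g⁻¹ ∈ H := hN P' le_rfl (hQP' ▸ hrank) (mem_normalizer_of_map_eq heq)
  have := H.inv_mem (H.mul_mem (H.inv_mem hh) hmem)
  simpa using this

end

/-- Let H be a subgroup of the finite group G, p a prime, k ≥ 1, and P a Sylow p-subgroup of H whose p-rank is at least k. Then N_G(X) ≤ H for every subgroup X of P of p-rank at least k if and only if H ∩ gHg⁻¹ has p-rank less than k for every g ∉ H. -/
theorem result {G : Type*} [Group G] [Finite G] {p : ℕ} [Fact p.Prime] (k : ℕ) (hk : 1 ≤ k) (H : Subgroup G) (P : Sylow p ↥H) (hP : ¬ Cfsg.PRankLE p (k - 1) ↥(P : Subgroup ↥H)) : (∀ X : Subgroup G, X ≤ (P : Subgroup ↥H).map H.subtype → ¬ Cfsg.PRankLE p (k - 1) ↥X → Subgroup.normalizer (X : Set G) ≤ H) ↔ (∀ g : G, g ∉ H → Cfsg.PRankLE p (k - 1) ↥(H ⊓ H.map (MulAut.conj g).toMonoidHom)) := by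
  constructor
  · intro hN g hg
    by_contra hr
    set K := H ⊓ H.map (MulAut.conj g).toMonoidHom with hK
    -- an elementary abelian subgroup of rank at least `k` in the intersection
    obtain ⟨A, hA, hAp, hAcard⟩ : ∃ A : Subgroup ↥K,
        IsMulCommutative A ∧ (∀ a ∈ A, a ^ p = 1) ∧ p ^ (k - 1) < Nat.card A := by
      simpa [Cfsg.PRankLE] using hr
    haveI := hA
    have hAG : IsPGroup p (A.map K.subtype) := by
      refine IsPGroup.map (fun a => ⟨1, ?_⟩) _
      rw [pow_one]; exact Subtype.ext (hAp a a.2)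
    have hArank : ¬ Cfsg.PRankLE p (k - 1) (A.map K.subtype) := fun h => by
      have := (pRankLE_of_injective (A.equivMapOfInjective _ K.subtype_injective).toMonoidHom
        (MulEquiv.injective _) h) ⊤ inferInstance
        (fun a _ => Subtype.ext (hAp a a.2))
      rw [Subgroup.card_top] at this
      omega
    -- a `p`-subgroup of `K` of largest order above `A`
    obtain ⟨Q₁, hQ₁⟩ := (hAG.comap_of_injective K.subtype K.subtype_injective).exists_le_sylow
    set Q := (Q₁ : Subgroup ↥K).map K.subtype with hQ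
    have hQrank : ¬ Cfsg.PRankLE p (k - 1) Q := by
      refine fun h => hArank (pRankLE_of_le (fun x hx => ?_) h)
      exact ⟨⟨x, Subgroup.map_subtype_le _ hx⟩, hQ₁ hx, rfl⟩
    obtain ⟨h, hh, hle⟩ := exists_conj_le_sylow_map P (Q₁.isPGroup'.map K.subtype)
      ((Subgroup.map_subtype_le _).trans inf_le_left)
    have hgH : h * g ∈ H := by
      refine not_pRankLE_inf H P hN (Q := Q.map (MulAut.conj h).toMonoidHom)
        ((Q₁.isPGroup'.map K.subtype).map _) hle ?_ ?_ (fun h' => hQrank (pRankLE_map_conj h'))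
      · rw [← map_conj_map_conj]
        exact Subgroup.map_mono ((Subgroup.map_subtype_le _).trans inf_le_right)
      · intro Q' hQ' hQQ' hQ'H hQ'g
        have h1 : Q'.map (MulAut.conj h⁻¹).toMonoidHom ≤ K := by
          refine le_inf (map_conj_le_self_of_mem (H.inv_mem hh) hQ'H) fun y hy => ?_
          rw [mem_map_conj, inv_inv] at hy
          have := hQ'g hy
          rw [mem_map_conj] at this
          rw [mem_map_conj]
          simpa [mul_assoc] using this
        have h2 : Q ≤ Q'.map (MulAut.conj h⁻¹).toMonoidHom := fun y hy => by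
          rw [mem_map_conj, inv_inv]
          exact hQQ' (by rw [mem_map_conj]; simpa [mul_assoc] using hy)
        have h3 := sylow_map_eq_of_le Q₁ (hQ'.map _) h1 h2
        intro x hx
        rw [mem_map_conj, hQ, ← h3, mem_map_conj]
        simpa [mul_assoc] using hx
    have := H.mul_mem (H.inv_mem hh) hgH
    rw [inv_mul_cancel_left] at this
    exact hg this
  · intro hI X hXP hX g hg
    by_contra hgH
    refine hX (pRankLE_of_le (le_inf (hXP.trans (Subgroup.map_subtype_le _)) fun x hx => ?_) (hI g hgH))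
    rw [mem_map_conj]
    refine (hXP.trans (Subgroup.map_subtype_le _)) ?_
    have := (Subgroup.mem_normalizer_iff.1 (Subgroup.inv_mem _ hg) x).1 hx
    simpa using this

end Cfsg.Agent.S1231
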