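import Cfsg.Statements.S1235
import Cfsg.Agent.TwoFusionB.HaradaRankDB

set_option autoImplicit false
open Cfsg

namespace Cfsg.Agent.S1235

/-- Let G be a finite group, x an involution and T ≤ G a Sylow 2-subgroup of C_G(x) (T ≤ C_G(x) with |C_G(x) : T| odd) which is the internal direct product of a subgroup D that is dihedral (of order ≥ 4) or quasi-dihedral and a Klein four-subgroup B. Suppose that for every involution b ∈ B, T ≤ C_G(b) with |C_G(b) : T| odd. Then every section of G has 2-rank at most 4. -/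
theorem result {G : Type*} [Group G] [Finite G] (x : G) (hx : orderOf x = 2) (T D B : Subgroup G) (hT : IsPGroup 2 T) (hTx : T ≤ Subgroup.centralizer ({x} : Set G)) (hTxi : Odd (T.relIndex (Subgroup.centralizer ({x} : Set G)))) (hprod : Cfsg.IsInternalDirectProduct D B T) (hD : (∃ m : ℕ, 2 ≤ m ∧ Nonempty (D ≃* DihedralGroup m)) ∨ Cfsg.IsQuasiDihedral D) (hB : IsKleinFour B) (hTb : ∀ b ∈ B, orderOf b = 2 → T ≤ Subgroup.centralizer ({b} : Set G) ∧ Odd (T.relIndex (Subgroup.centralizer ({b} : Set G)))) : Cfsg.SectionalPRankLE 2 4 G := by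
  have hTb' := hTb
  obtain ⟨hDT, hBT, hcomm, hDB, hsup⟩ := hprod
  obtain ⟨S, hTS⟩ := hT.exists_le_sylow
  have hBsq : ∀ b ∈ B, b * b = 1 := fun b hb => by
    rw [← sq]; exact Classification.isKleinFour_sq hB hb
  have hBc : ∀ a ∈ B, ∀ c ∈ B, a * c = c * a := fun a ha c hc =>
    Classification.isKleinFour_comm hB ha hc
  have h : TwoFusionB.HRHyp (S : Subgroup G) T B := by
    refine ⟨S.2, hTS, hBT, hB.card_four, hBsq, fun b hb hb1 s hs => ?_⟩
    obtain ⟨hle, hodd⟩ := hTb' b hb (orderOf_eq_prime (by rw [sq]; exact hBsq b hb) hb1)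
    refine ⟨fun hsb => ?_, fun hsT => Subgroup.mem_centralizer_singleton_iff.mp (hle hsT)⟩
    set X := (S : Subgroup G) ⊓ Subgroup.centralizer ({b} : Set G) with hX
    have h1 := Subgroup.relIndex_mul_relIndex T X (Subgroup.centralizer ({b} : Set G))
      (le_inf hTS hle) inf_le_right
    have h2 : Odd (T.relIndex X) := hodd.of_dvd_nat (Dvd.intro _ h1)
    have hXp : IsPGroup 2 X := S.2.to_le inf_le_left
    obtain ⟨n, hn⟩ := hXp.exists_card_eq
    have h3 : T.relIndex X ∣ 2 ^ n := hn ▸ (T.subgroupOf X).index_dvd_card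
    obtain ⟨i, -, hi⟩ := (Nat.dvd_prime_pow Nat.prime_two).mp h3
    rw [hi] at h2
    rcases Nat.eq_zero_or_pos i with rfl | hi0
    · exact Subgroup.relIndex_eq_one.mp hi
        ⟨hs, Subgroup.mem_centralizer_singleton_iff.mpr hsb⟩
    · exact absurd h2 (by rw [Nat.not_odd_iff_even, Nat.even_pow]; exact ⟨even_two, hi0.ne'⟩)
  apply TwoFusionB.sectionalPRankLE_of_sqBound S
  have hprod : Cfsg.IsInternalDirectProduct D B T := ⟨hDT, hBT, hcomm, hDB, hsup⟩
  suffices hcase : (∃ x ∈ D, ∃ d ∈ D, x * d ≠ d * x ∧ (Subgroup.zpowers x).relIndex D ≤ 2) ∨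
      (Nat.card D = 4 ∧ ∀ d ∈ D, d * d = 1) by
    rcases hcase with ⟨x, hxD, d, hdD, hxd, hidx⟩ | ⟨hD4, hD2⟩
    · intro P hP
      rw [← TwoFusionB.eq_sylow_of_nonabelian h hprod hBc hxD hdD hxd hidx] at hP
      exact TwoFusionB.sqBound_cyclic_mul hxD hidx hprod hB.card_four hBc hP
    · have hDc : ∀ a ∈ D, ∀ c ∈ D, a * c = c * a := by
        intro a ha c hc
        have h1 := inv_eq_of_mul_eq_one_right (hD2 _ (mul_mem ha hc))
        rw [mul_inv_rev, inv_eq_of_mul_eq_one_right (hD2 a ha),
          inv_eq_of_mul_eq_one_right (hD2 c hc)] at h1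
        exact h1.symm
      let m : D × B → T := fun p => ⟨p.1.1 * p.2.1, mul_mem (hDT p.1.2) (hBT p.2.2)⟩
      have hnorm : B ≤ Subgroup.normalizer (D : Set G) := by
        intro b hb
        rw [Subgroup.mem_normalizer_iff]
        intro e
        constructor
        · intro he; rwa [← hcomm e he b hb, mul_inv_cancel_right]
        · intro he
          have := hcomm _ he b hb
          have e' : e = b * e * b⁻¹ := by
            calc e = b⁻¹ * (b * e * b⁻¹ * b) := by group
              _ = b⁻¹ * (b * (b * e * b⁻¹)) := by rw [this]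
              _ = b * e * b⁻¹ := by group
          rwa [e']
      have hm : Function.Bijective m := by
        constructor
        · rintro ⟨a, c⟩ ⟨a', c'⟩ e
          have e' : a.1 * c.1 = a'.1 * c'.1 := congrArg Subtype.val e
          have he : a'.1⁻¹ * a.1 = c'.1 * c.1⁻¹ := by
            calc a'.1⁻¹ * a.1 = a'.1⁻¹ * (a.1 * c.1) * c.1⁻¹ := by group
              _ = a'.1⁻¹ * (a'.1 * c'.1) * c.1⁻¹ := by rw [e']
              _ = c'.1 * c.1⁻¹ := by group
          have h1 : a'.1⁻¹ * a.1 = 1 := by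
            rw [← Subgroup.mem_bot, ← hDB]
            exact Subgroup.mem_inf.mpr ⟨mul_mem (inv_mem a'.2) a.2, he ▸ mul_mem c'.2 (inv_mem c.2)⟩
          obtain rfl : a = a' := Subtype.ext (inv_mul_eq_one.mp h1).symm
          exact Prod.ext rfl (Subtype.ext (mul_left_cancel e'))
        · rintro ⟨t, ht⟩
          rw [← hsup] at ht
          obtain ⟨e, he, c, hc, rfl⟩ := Coprime.exists_mul_of_mem_sup hnorm ht
          exact ⟨(⟨e, he⟩, ⟨c, hc⟩), rfl⟩
      have h16 : TwoFusionB.HR16 (S : Subgroup G) T B := by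
        refine ⟨h, ?_, ?_⟩
        · rw [← Nat.card_congr (Equiv.ofBijective m hm), Nat.card_prod, hD4, hB.card_four]
        · intro t ht
          obtain ⟨⟨e, c⟩, hec⟩ := hm.2 ⟨t, ht⟩
          have : (e : G) * c = t := congrArg Subtype.val hec
          rw [← this, mul_assoc, ← mul_assoc (c : G), ← hcomm e e.2 c c.2, mul_assoc (e : G) c,
            hBsq c c.2, mul_one, hD2 e e.2]
      exact h16.sqBound
  rcases hD with ⟨m, hm, ⟨e⟩⟩ | hqd
  · have : NeZero m := ⟨by omega⟩
    have hcardD : Nat.card D = 2 * m := by rw [Nat.card_congr e.toEquiv, DihedralGroup.nat_card]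
    rcases Nat.lt_or_ge 2 m with hm2 | hm2
    · left
      refine ⟨_, (e.symm (DihedralGroup.r 1)).2, _, (e.symm (DihedralGroup.sr 0)).2, ?_, ?_⟩
      · intro hxd
        have h1 : e.symm (DihedralGroup.r 1 * DihedralGroup.sr 0) =
            e.symm (DihedralGroup.sr 0 * DihedralGroup.r 1) := by
          apply Subtype.ext
          rw [map_mul, map_mul]
          exact hxd
        have h2 := e.symm.injective h1
        rw [DihedralGroup.r_mul_sr, DihedralGroup.sr_mul_r, DihedralGroup.sr.injEq] at h2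
        have h3 : ((2 : ℕ) : ZMod m) = 0 := by push_cast; linear_combination -h2
        rw [ZMod.natCast_eq_zero_iff] at h3
        have := Nat.le_of_dvd two_pos h3
        omega
      · have h1 := Subgroup.card_mul_index
          ((Subgroup.zpowers ((e.symm (DihedralGroup.r 1) : D) : G)).subgroupOf D)
        rw [Nat.card_congr (Subgroup.subgroupOfEquivOfLe
          (Subgroup.zpowers_le.mpr (e.symm (DihedralGroup.r 1)).2)).toEquiv, Nat.card_zpowers,
          Subgroup.orderOf_coe, MulEquiv.orderOf_eq, DihedralGroup.orderOf_r_one, hcardD,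
          mul_comm 2 m] at h1
        exact (Nat.eq_of_mul_eq_mul_left (by omega) h1).le
    · obtain rfl : m = 2 := by omega
      right
      refine ⟨hcardD, fun d hd => ?_⟩
      have h1 : e ⟨d, hd⟩ * e ⟨d, hd⟩ = 1 := by
        generalize e ⟨d, hd⟩ = y
        revert y
        decide
      rw [← map_mul] at h1
      have h2 : (⟨d, hd⟩ : D) * ⟨d, hd⟩ = 1 := e.injective (h1.trans e.map_one.symm)
      exact congrArg Subtype.val h2
  · left
    obtain ⟨n, hn, hcard, x, y, hx, hy, hxy⟩ := hqd
    refine ⟨x, x.2, y, y.2, ?_, ?_⟩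
    · intro hcom
      have h1 : y * x * y⁻¹ = x := by
        rw [mul_inv_eq_iff_eq_mul]
        exact Subtype.ext hcom.symm
      rw [h1] at hxy
      have h4 : 2 ^ 2 ≤ 2 ^ (n - 1) := Nat.pow_le_pow_right (by norm_num) (by omega)
      have h5 : x ^ (2 ^ (n - 1) - 2) = 1 := by
        have h6 : x * x ^ (2 ^ (n - 1) - 2) = x * 1 := by
          rw [mul_one, ← pow_succ', show 2 ^ (n - 1) - 2 + 1 = 2 ^ (n - 1) - 1 by omega]
          exact hxy.symm
        exact mul_left_cancel h6
      have h7 := Nat.le_of_dvd (by omega) (hx ▸ orderOf_dvd_of_pow_eq_one h5)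
      have h8 : 2 ^ (n - 1) ≤ 2 ^ n := Nat.pow_le_pow_right (by norm_num) (by omega)
      omega
    · have h1 := Subgroup.card_mul_index ((Subgroup.zpowers (x : G)).subgroupOf D)
      rw [Nat.card_congr (Subgroup.subgroupOfEquivOfLe (Subgroup.zpowers_le.mpr x.2)).toEquiv,
        Nat.card_zpowers, Subgroup.orderOf_coe, hx, hcard, pow_succ] at h1
      exact (Nat.eq_of_mul_eq_mul_left (by positivity) h1).le

end Cfsg.Agent.S1235
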