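import Cfsg.Statements.S1236
import Cfsg.Agent.TwoFusionB.CyclicIndexTwo

set_option autoImplicit false
open Cfsg

namespace Cfsg.Agent.S1236

/-- Let R be a finite group, t a central involution of R such that R ⧸ ⟨t⟩ is dihedral (of order ≥ 4) or quasi-dihedral, and A ≤ R an elementary abelian subgroup of order 8 containing t. Then C_R(A) = A. -/
theorem result {R : Type*} [Group R] [Finite R] (t : R) (ht : orderOf t = 2) (htz : t ∈ Subgroup.center R) [(Subgroup.zpowers t).Normal] (hq : (∃ m : ℕ, 2 ≤ m ∧ Nonempty (R ⧸ Subgroup.zpowers t ≃* DihedralGroup m)) ∨ Cfsg.IsQuasiDihedral (R ⧸ Subgroup.zpowers t)) (A : Subgroup R) (hA : Cfsg.IsElementaryAbelian 2 A) (hA8 : Nat.card A = 8) (htA : t ∈ A) : Subgroup.centralizer (A : Set R) = A := by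
  have : IsMulCommutative A := hA.1
  set π := QuotientGroup.mk' (Subgroup.zpowers t)
  set Ab := A.map π
  have htA : Subgroup.zpowers t ≤ A := Subgroup.zpowers_le.mpr htA
  have hAb : IsKleinFour Ab := by
    rw [Classification.isKleinFour_iff]
    constructor
    · have h2 : Nat.card Ab * 2 = 8 := by
        have h4 : Nat.card Ab = (Subgroup.zpowers t).relIndex A := by
          have := Subgroup.relIndex_map_map π (⊥ : Subgroup R) A
          rw [bot_sup_eq, QuotientGroup.ker_mk', sup_of_le_left htA, Subgroup.map_bot,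
            Subgroup.relIndex_bot_left] at this
          exact this
        have h5 := Subgroup.card_mul_index ((Subgroup.zpowers t).subgroupOf A)
        rw [Nat.card_congr (Subgroup.subgroupOfEquivOfLe htA).toEquiv, Nat.card_zpowers, ht,
          hA8] at h5
        rw [h4, mul_comm]
        exact h5
      omega
    · rintro _ ⟨a, ha, rfl⟩
      rw [← map_pow, hA.2 a ha, map_one]
  have hC : Subgroup.centralizer (Ab : Set (R ⧸ Subgroup.zpowers t)) ≤ Ab := by
    rcases hq with ⟨m, hm, ⟨e⟩⟩ | hqd
    · have : NeZero m := ⟨by omega⟩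
      intro c hc
      have h6 := TwoFusionB.centralizer_le_dihedral
        (TwoFusionB.isKleinFour_of_map_equiv e hAb) (x := e c) (by
          rw [Subgroup.mem_centralizer_iff]
          rintro _ ⟨a, ha, rfl⟩
          show e a * e c = e c * e a
          rw [← map_mul, ← map_mul, Subgroup.mem_centralizer_iff.mp hc a ha])
      obtain ⟨a, ha, hae⟩ := h6
      exact e.injective hae ▸ ha
    · exact TwoFusionB.centralizer_le_of_isQuasiDihedral hqd hAb
  refine le_antisymm ?_ (Subgroup.le_centralizer A)
  intro c hc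
  obtain ⟨a, ha, hac⟩ := hC (x := π c) (by
    rw [Subgroup.mem_centralizer_iff]
    rintro _ ⟨b, hb, rfl⟩
    rw [← map_mul, ← map_mul, Subgroup.mem_centralizer_iff.mp hc b hb])
  have : a⁻¹ * c ∈ Subgroup.zpowers t := QuotientGroup.eq.mp hac
  simpa using mul_mem ha (htA this)

end Cfsg.Agent.S1236
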