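import Cfsg.Statements.S1242
import Cfsg.Agent.TwoFusionB.TransferControl
import Cfsg.Agent.Lib.Transfer.Residual

set_option autoImplicit false
open Cfsg

namespace Cfsg.Agent.S1242

/-- Let G be a finite group, p a prime and H a subgroup of index prime to p such that any two elements of H of p-power order that are conjugate in G are conjugate in H. Then (O^p(G)·G') ∩ H = O^p(H)·H', where O^p denotes the subgroup generated by the elements of order prime to p. -/
theorem result {G : Type*} [Group G] [Finite G] {p : ℕ} [Fact p.Prime] (H : Subgroup G) (hidx : Nat.Coprime p H.index) (hfus : ∀ g ∈ H, (∃ k : ℕ, orderOf g = p ^ k) → ∀ a : G, a * g * a⁻¹ ∈ H → ∃ h ∈ H, h * g * h⁻¹ = a * g * a⁻¹) : (Cfsg.pResidual p G ⊔ commutator G) ⊓ H = (Cfsg.pResidual p ↥H ⊔ commutator ↥H).map H.subtype := by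
  classical
  set L := Cfsg.pResidual p ↥H ⊔ commutator ↥H with hL
  have hp : p.Prime := Fact.out
  apply le_antisymm
  swap
  · rw [Subgroup.map_sup, sup_le_iff]
    refine ⟨le_inf (le_sup_of_le_left ?_) (Subgroup.map_subtype_le _),
      le_inf (le_sup_of_le_right ?_) (Subgroup.map_subtype_le _)⟩
    · rw [Subgroup.map_le_iff_le_comap]
      exact Transfer.pResidual_le_iff.mpr fun x hx =>
        Transfer.mem_pResidual_of_coprime (by rw [Subgroup.coe_subtype, Subgroup.orderOf_coe]; exact hx)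
    · rw [commutator_def, Subgroup.map_commutator, commutator_def]
      exact Subgroup.commutator_mono le_top le_top
  intro x hx
  obtain ⟨hxG, hxH⟩ := hx
  suffices h : (⟨x, hxH⟩ : H) ∈ L from ⟨_, h, rfl⟩
  haveI hLn : L.Normal := Subgroup.Normal.of_commutator_le _ (le_sup_right : commutator ↥H ≤ L)
  letI : CommGroup (H ⧸ L) :=
    { (inferInstance : Group (H ⧸ L)) with
      mul_comm := fun a b => by
        induction a using QuotientGroup.induction_on with
        | _ u =>
        induction b using QuotientGroup.induction_on with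
        | _ v =>
        rw [← QuotientGroup.mk_mul, ← QuotientGroup.mk_mul, QuotientGroup.eq]
        rw [show (u * v)⁻¹ * (v * u) = v⁻¹ * u⁻¹ * (v⁻¹)⁻¹ * (u⁻¹)⁻¹ by group]
        exact le_sup_right (α := Subgroup H) (Subgroup.commutator_mem_commutator
          (Subgroup.mem_top _) (Subgroup.mem_top _)) }
  set φ : H →* H ⧸ L := QuotientGroup.mk' L with hφ
  have hPL : IsPGroup p (H ⧸ L) := Transfer.isPGroup_quotient_of_pResidual_le le_sup_left
  have hkill : Cfsg.pResidual p G ⊔ commutator G ≤ (MonoidHom.transfer φ).ker :=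
    sup_le (Transfer.pResidual_le_ker _ hPL) (Abelianization.commutator_subset_ker _)
  obtain ⟨e, he⟩ := hPL (φ ⟨x, hxH⟩)
  -- split off the part of order prime to `p`
  obtain ⟨a, m, hm, ham⟩ := Nat.exists_eq_pow_mul_and_not_dvd (orderOf_pos x).ne' p hp.ne_one
  have hco : Nat.Coprime m (p ^ a) := Nat.Coprime.pow_right a (hp.coprime_iff_not_dvd.mpr hm).symm
  have hgx : (⟨x, hxH⟩ : H) ^ m ∈ L := by
    apply (QuotientGroup.eq_one_iff _).mp
    show φ (⟨x, hxH⟩ ^ m) = 1
    have hgp : ∃ k : ℕ, orderOf (x ^ m) = p ^ k := by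
      obtain ⟨i, -, hi⟩ := (Nat.dvd_prime_pow hp).mp
        (show orderOf (x ^ m) ∣ p ^ a from orderOf_dvd_of_pow_eq_one (by
          rw [← pow_mul, mul_comm, ← ham, pow_orderOf_eq_one]))
      exact ⟨i, hi⟩
    have hxm : x ^ m ∈ H := pow_mem hxH m
    have hone : φ ⟨x ^ m, hxm⟩ = 1 := by
      refine TwoFusionB.map_eq_one_of_control φ hp hidx hxm hgp ?_ (hkill (pow_mem hxG m))
      intro k g₀ hk
      obtain ⟨i, hi⟩ := hgp
      have hkp : ∃ j : ℕ, orderOf ((x ^ m) ^ k) = p ^ j := by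
        obtain ⟨j, -, hj⟩ := (Nat.dvd_prime_pow hp).mp (hi ▸ orderOf_pow_dvd (x := x ^ m) k)
        exact ⟨j, hj⟩
      obtain ⟨h, hh, hconj⟩ := hfus _ (pow_mem hxm k) hkp g₀⁻¹ (by rwa [inv_inv])
      rw [inv_inv] at hconj
      have : (⟨g₀⁻¹ * (x ^ m) ^ k * g₀, hk⟩ : H) = ⟨h, hh⟩ * ⟨x ^ m, hxm⟩ ^ k * (⟨h, hh⟩ : H)⁻¹ :=
        Subtype.ext (by push_cast; exact hconj.symm)
      rw [this, map_mul, map_mul, map_pow, map_inv, mul_right_comm, mul_inv_cancel, one_mul]
    exact hone
  have h2 : (⟨x, hxH⟩ : H) ^ (p ^ a) ∈ L := by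
    refine le_sup_left (α := Subgroup H) (Transfer.mem_pResidual_of_coprime ?_)
    refine Nat.Coprime.coprime_dvd_left ?_ (hp.coprime_iff_not_dvd.mpr hm).symm
    rw [← Subgroup.orderOf_coe]
    push_cast
    exact orderOf_dvd_of_pow_eq_one (by rw [← pow_mul, ← ham, pow_orderOf_eq_one])
  have key : ((⟨x, hxH⟩ : H) : H) ∈ L := by
    have e := Nat.gcd_eq_gcd_ab m (p ^ a)
    rw [hco.gcd_eq_one, Nat.cast_one] at e
    have := mul_mem (Subgroup.zpow_mem L hgx (m.gcdA (p ^ a)))
      (Subgroup.zpow_mem L h2 (m.gcdB (p ^ a)))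
    rwa [← zpow_natCast, ← zpow_natCast, ← zpow_mul, ← zpow_mul, ← zpow_add, ← e, zpow_one] at this
  exact key

end Cfsg.Agent.S1242
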