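import Cfsg.Statements.S1243
-- import your own Cfsg.Agent.* helpers here

set_option autoImplicit false
open Cfsg

namespace Cfsg.Agent.S1243

/-- Let T be a Sylow p-subgroup of the finite group G and W ≤ T a subgroup weakly closed in T. If d and g d g⁻¹ both centralize W, then g d g⁻¹ = h d h⁻¹ for some h ∈ N_G(W). -/
theorem result {G : Type*} [Group G] [Finite G] {p : ℕ} [Fact p.Prime] (T : Sylow p G) (W : Subgroup G) (hW : Cfsg.IsWeaklyClosed W (T : Subgroup G)) (d g : G) (hd : d ∈ Subgroup.centralizer (W : Set G)) (hgd : g * d * g⁻¹ ∈ Subgroup.centralizer (W : Set G)) : ∃ h ∈ Subgroup.normalizer (W : Set G), h * d * h⁻¹ = g * d * g⁻¹ := by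
  obtain ⟨hWT, hcl⟩ := hW
  have hWp : IsPGroup p W := T.2.to_le hWT
  let C := Subgroup.centralizer ({d} : Set G)
  let W' := W.map (MulAut.conj g⁻¹).toMonoidHom
  have hWC : W ≤ C := by
    intro w hw
    exact Subgroup.mem_centralizer_singleton_iff.mpr (Subgroup.mem_centralizer_iff.mp hd w hw)
  have hW'C : W' ≤ C := by
    rintro _ ⟨w, hw, rfl⟩
    have h1 := Subgroup.mem_centralizer_iff.mp hgd w hw
    apply Subgroup.mem_centralizer_singleton_iff.mpr
    simp only [MulEquiv.coe_toMonoidHom, MulAut.conj_apply, inv_inv]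
    calc g⁻¹ * w * g * d = g⁻¹ * (w * (g * d * g⁻¹)) * g := by group
      _ = g⁻¹ * ((g * d * g⁻¹) * w) * g := by rw [h1]
      _ = d * (g⁻¹ * w * g) := by group
  obtain ⟨P1, hP1⟩ := (hWp.comap_subtype (K := C)).exists_le_sylow
  obtain ⟨P2, hP2⟩ := ((hWp.map (MulAut.conj g⁻¹).toMonoidHom).comap_subtype (K := C)).exists_le_sylow
  obtain ⟨c, hc⟩ := MulAction.exists_smul_eq C P2 P1
  obtain ⟨T', hT'⟩ := (P1.2.map C.subtype).exists_le_sylow
  obtain ⟨y, hy⟩ := MulAction.exists_smul_eq G T' T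
  have hWT' : W ≤ (T' : Subgroup G) := fun w hw => hT' ⟨⟨w, hWC hw⟩, hP1 hw, rfl⟩
  have hVT' : ∀ w ∈ W, (c : G) * (g⁻¹ * w * g) * (c : G)⁻¹ ∈ (T' : Subgroup G) := by
    intro w hw
    apply hT'
    have h1 : (⟨g⁻¹ * w * g, hW'C ⟨w, hw, by simp⟩⟩ : C) ∈ (P2 : Subgroup C) :=
      hP2 ⟨w, hw, by simp⟩
    refine ⟨c * ⟨g⁻¹ * w * g, hW'C ⟨w, hw, by simp⟩⟩ * c⁻¹, ?_, rfl⟩
    rw [SetLike.mem_coe, ← hc, Sylow.coe_subgroup_smul]
    exact ⟨_, h1, rfl⟩
  have hTT : ∀ z ∈ (T' : Subgroup G), y * z * y⁻¹ ∈ (T : Subgroup G) := by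
    intro z hz
    rw [← hy, Sylow.coe_subgroup_smul]
    exact ⟨z, hz, rfl⟩
  have key : ∀ a : G, (∀ w ∈ W, a * w * a⁻¹ ∈ (T' : Subgroup G)) →
      W.map (MulAut.conj (y * a)).toMonoidHom = W := by
    intro a ha
    apply hcl
    rintro _ ⟨w, hw, rfl⟩
    have := hTT _ (ha w hw)
    simpa [mul_assoc] using this
  have e1 := key 1 (fun w hw => by simpa using hWT' hw)
  have e2 := key ((c : G) * g⁻¹) (fun w hw => by simpa [mul_assoc] using hVT' w hw)
  rw [mul_one] at e1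
  have hn : ∀ a : G, W.map (MulAut.conj a).toMonoidHom = W →
      a ∈ Subgroup.normalizer (W : Set G) := by
    intro a ha
    rw [Subgroup.mem_normalizer_iff]
    intro w
    constructor
    · intro hw; rw [← ha]; exact ⟨w, hw, rfl⟩
    · intro hw
      rw [← ha] at hw
      obtain ⟨v, hv, hv'⟩ := hw
      simp only [MulEquiv.coe_toMonoidHom, MulAut.conj_apply] at hv'
      rwa [mul_left_cancel (mul_right_cancel hv')] at hv
  refine ⟨g * (c : G)⁻¹, ?_, ?_⟩
  · have := mul_mem (inv_mem (hn _ e2)) (hn _ e1)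
    simpa [mul_assoc] using this
  · have hc' := Subgroup.mem_centralizer_singleton_iff.mp c.2
    have hc2 : (c : G)⁻¹ * d * (c : G) = d := by rw [mul_assoc, ← hc', inv_mul_cancel_left]
    calc g * (c : G)⁻¹ * d * (g * (c : G)⁻¹)⁻¹ = g * ((c : G)⁻¹ * d * (c : G)) * g⁻¹ := by group
      _ = g * d * g⁻¹ := by rw [hc2]

end Cfsg.Agent.S1243
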