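import Cfsg.Statements.S1244
import Cfsg.Agent.TwoFusionB.TransferControl
import Mathlib

/-!
# Thompson transfer for an abelian Sylow 2-subgroup and a corank-one subgroup
-/

set_option autoImplicit false
open Cfsg
open scoped IsMulCommutative

namespace Cfsg.Agent.S1244

section
variable {G : Type*} [Group G] [Finite G]

theorem hom_eq_one (hG : ∀ H : Subgroup G, H.index ≠ 2) {A : Type*} [Group A]
    (hA : IsPGroup 2 A) (f : G →* A) (g : G) : f g = 1 := by
  classical
  haveI : Fact (Nat.Prime 2) := ⟨Nat.prime_two⟩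
  have hrange : IsPGroup 2 f.range := hA.to_subgroup _
  haveI : Finite f.range := Finite.of_surjective _ f.rangeRestrict_surjective
  obtain ⟨n, hn⟩ := hrange.exists_card_eq
  rcases Nat.eq_zero_or_pos n with rfl | hn0
  · have : f.range = ⊥ := Subgroup.card_eq_one.1 (by simpa using hn)
    exact Subgroup.mem_bot.1 (this ▸ (⟨g, rfl⟩ : f g ∈ f.range))
  · exfalso
    obtain ⟨K, hK⟩ := Sylow.exists_subgroup_card_pow_prime 2
      (show 2 ^ (n - 1) ∣ Nat.card f.range from hn ▸ pow_dvd_pow 2 (Nat.sub_le n 1))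
    refine hG (K.comap f.rangeRestrict) ?_
    rw [Subgroup.index_comap_of_surjective _ f.rangeRestrict_surjective]
    have h := K.card_mul_index
    rw [hK, hn, show n = n - 1 + 1 by omega, pow_succ, Nat.add_sub_cancel] at h
    exact Nat.eq_of_mul_eq_mul_left (by positivity) h

/-- An element of an abelian Sylow 2-subgroup centralised by its normaliser is trivial. -/
theorem eq_one_of_fixed (hG : ∀ H : Subgroup G, H.index ≠ 2) (S : Sylow 2 G)
    [IsMulCommutative (S : Subgroup G)] {x : G} (hx : x ∈ (S : Subgroup G))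
    (hfix : ∀ n ∈ Subgroup.normalizer ((S : Subgroup G) : Set G), n * x * n⁻¹ = x) : x = 1 := by
  haveI : Fact (Nat.Prime 2) := ⟨Nat.prime_two⟩
  haveI : (S : Subgroup G).FiniteIndex := inferInstance
  have hord : ∃ k : ℕ, orderOf x = 2 ^ k := by
    obtain ⟨k, hk⟩ := IsPGroup.iff_orderOf.1 S.isPGroup' ⟨x, hx⟩
    exact ⟨k, by rw [← hk, Subgroup.orderOf_mk]⟩
  have h := Cfsg.Agent.TwoFusionB.map_eq_one_of_control (MonoidHom.id (S : Subgroup G))
    Nat.prime_two ((Nat.prime_two.coprime_iff_not_dvd).2 S.not_dvd_index) hx hord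
    (fun k g₀ hk => ?_) (hom_eq_one hG S.isPGroup' _ x)
  · exact congrArg Subtype.val h
  · apply Subtype.ext
    obtain ⟨n, hn, h⟩ := S.conj_eq_normalizer_conj_of_mem (x ^ k) g₀
      ((S : Subgroup G).pow_mem hx k) hk
    have h1 := hfix n⁻¹ (Subgroup.inv_mem _ hn)
    rw [inv_inv] at h1
    have h2 : n⁻¹ * x ^ k * n = x ^ k := by
      have := conj_pow (i := k) (a := n⁻¹) (b := x)
      rw [inv_inv] at this
      rw [← this, h1]
    simp only [MonoidHom.id_apply, SubmonoidClass.coe_pow]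
    rw [h, h2]

theorem card_conj_odd (S : Sylow 2 G) [IsMulCommutative (S : Subgroup G)] {t : G}
    (ht : t ∈ (S : Subgroup G)) :
    Odd (Nat.card {y : G // ∃ n ∈ Subgroup.normalizer ((S : Subgroup G) : Set G),
      n * t * n⁻¹ = y}) := by
  haveI : Fact (Nat.Prime 2) := ⟨Nat.prime_two⟩
  set N := Subgroup.normalizer ((S : Subgroup G) : Set G) with hN
  set C : Subgroup N := (Subgroup.centralizer ({t} : Set G)).subgroupOf N with hC
  have hcard : Nat.card (N ⧸ C) = Nat.card {y : G // ∃ n ∈ N, n * t * n⁻¹ = y} := by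
    refine Nat.card_eq_of_bijective (Quotient.lift
      (fun n : N => (⟨(n : G) * t * (n : G)⁻¹, n, n.2, rfl⟩ : {y : G // ∃ n ∈ N, n * t * n⁻¹ = y}))
      ?_) ⟨?_, ?_⟩
    · intro a b hab
      have hab' : a⁻¹ * b ∈ C := QuotientGroup.leftRel_apply.1 hab
      rw [hC, Subgroup.mem_subgroupOf, Subgroup.mem_centralizer_singleton_iff] at hab'
      apply Subtype.ext
      push_cast at hab' ⊢
      calc (a : G) * t * (a : G)⁻¹ = (a : G) * (((a : G)⁻¹ * b) * t * ((a : G)⁻¹ * b)⁻¹) * (a : G)⁻¹ := by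
            rw [hab', mul_inv_cancel_right]
        _ = _ := by group
    · intro q₁ q₂
      induction q₁ using Quotient.inductionOn with | _ a => ?_
      induction q₂ using Quotient.inductionOn with | _ b => ?_
      intro h
      have h' : (a : G) * t * (a : G)⁻¹ = (b : G) * t * (b : G)⁻¹ := congrArg Subtype.val h
      refine Quotient.sound (QuotientGroup.leftRel_apply.2 ?_)
      rw [hC, Subgroup.mem_subgroupOf, Subgroup.mem_centralizer_singleton_iff]
      push_cast
      calc (a : G)⁻¹ * b * t = (a : G)⁻¹ * ((b : G) * t * (b : G)⁻¹) * b := by group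
        _ = t * ((a : G)⁻¹ * b) := by rw [← h']; group
    · rintro ⟨y, n, hn, rfl⟩
      exact ⟨Quotient.mk _ ⟨n, hn⟩, rfl⟩
  rw [← hcard, ← Subgroup.index]
  refine Nat.not_even_iff_odd.1 fun he => S.not_dvd_index ?_
  refine (even_iff_two_dvd.1 he).trans (dvd_trans ?_
    (Subgroup.relIndex_dvd_index_of_le (Subgroup.le_normalizer (H := (S : Subgroup G)))))
  refine Subgroup.index_dvd_of_le fun x hx => ?_
  rw [Subgroup.mem_subgroupOf] at hx
  rw [hC, Subgroup.mem_subgroupOf, Subgroup.mem_centralizer_singleton_iff]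
  exact (congrArg Subtype.val
    (mul_comm (⟨(x : G), hx⟩ : (S : Subgroup G)) ⟨t, ht⟩) : (x : G) * t = t * x)

end

/-- Let G be a finite group with no subgroup of index 2 whose Sylow 2-subgroup S is commutative, and let R ≤ S be a subgroup whose 2-rank is exactly one less than the 2-rank r of S. Then every involution of S is conjugate, by an element of N_G(S), to an element of R. -/
theorem result {G : Type*} [Group G] [Finite G] (hG : ∀ H : Subgroup G, H.index ≠ 2) (S : Sylow 2 G) (hS : IsMulCommutative (S : Subgroup G)) (r : ℕ) (hr1 : 1 ≤ r) (hSr : Cfsg.PRankLE 2 r (S : Subgroup G) ∧ ¬ Cfsg.PRankLE 2 (r - 1) (S : Subgroup G)) (R : Subgroup G) (hRS : R ≤ S) (hRr : Cfsg.PRankLE 2 (r - 1) R ∧ (r = 1 ∨ ¬ Cfsg.PRankLE 2 (r - 2) R)) (t : G) (ht : orderOf t = 2) (htS : t ∈ S) : ∃ n ∈ Subgroup.normalizer ((S : Subgroup G) : Set G), n * t * n⁻¹ ∈ R := by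
  classical
  haveI := hS
  haveI : Fact (Nat.Prime 2) := ⟨Nat.prime_two⟩
  haveI : Fintype (S : Subgroup G) := Fintype.ofFinite _
  -- the elementary abelian subgroup of the elements of square one
  let V : Subgroup (S : Subgroup G) := (powMonoidHom 2 : (S : Subgroup G) →* (S : Subgroup G)).ker
  have hV : ∀ x : (S : Subgroup G), x ∈ V ↔ x ^ 2 = 1 := fun x => Iff.rfl
  let W : Subgroup (S : Subgroup G) := R.subgroupOf (S : Subgroup G)
  have hVcard : Nat.card V ≤ 2 ^ r := hSr.1 V inferInstance fun a ha => (hV a).1 ha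
  have hWcard : 2 ^ (r - 1) ≤ Nat.card (V ⊓ W : Subgroup (S : Subgroup G)) := by
    rcases hRr.2 with rfl | hR
    · exact Nat.card_pos (α := (V ⊓ W : Subgroup (S : Subgroup G)))
    · simp only [Cfsg.PRankLE, not_forall, not_le] at hR
      obtain ⟨A, hA, hA2, hAcard⟩ := hR
      have hAp : IsPGroup 2 A := (S.isPGroup'.to_le hRS).to_subgroup A
      obtain ⟨a, ha⟩ := hAp.exists_card_eq
      rw [ha] at hAcard
      have : r - 1 ≤ a := by
        have := (Nat.pow_lt_pow_iff_right (by norm_num : 1 < 2)).1 hAcard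
        omega
      refine le_trans (Nat.pow_le_pow_right (by norm_num) this) ?_
      rw [← ha]
      refine Nat.card_le_card_of_injective
        (fun x : A => (⟨⟨((x : R) : G), hRS (x : R).2⟩, ?_⟩ : (V ⊓ W : Subgroup (S : Subgroup G)))) ?_
      · refine ⟨(hV _).2 (Subtype.ext ?_), (x : R).2⟩
        simpa using congrArg Subtype.val (hA2 x x.2)
      · intro x y hxy
        have hxy' := congrArg Subtype.val (congrArg Subtype.val hxy)
        exact Subtype.ext (Subtype.ext hxy')
  have hidx : ((V ⊓ W).relIndex V) ≤ 2 := by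
    have h := Subgroup.relIndex_mul_relIndex ⊥ (V ⊓ W) V bot_le inf_le_left
    rw [Subgroup.relIndex_bot_left, Subgroup.relIndex_bot_left] at h
    have h2 : 2 ^ r = 2 ^ (r - 1) * 2 := by rw [← pow_succ]; congr 1; omega
    have h3 : 2 ^ (r - 1) * (V ⊓ W).relIndex V ≤ 2 ^ (r - 1) * 2 :=
      le_trans (Nat.mul_le_mul_right _ hWcard) (by rw [h]; omega)
    exact Nat.le_of_mul_le_mul_left h3 (by positivity)
  by_contra hno
  push Not at hno
  set N := Subgroup.normalizer ((S : Subgroup G) : Set G) with hN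
  have hmemS : ∀ n ∈ N, ∀ x ∈ (S : Subgroup G), n * x * n⁻¹ ∈ (S : Subgroup G) :=
    fun n hn x hx => (Subgroup.mem_normalizer_iff.1 hn x).1 hx
  -- conjugation by an element of the normaliser, as an automorphism of `S`
  let O : Finset (S : Subgroup G) :=
    Finset.univ.filter (fun y => ∃ n ∈ N, n * t * n⁻¹ = (y : G))
  have hO : ∀ y : (S : Subgroup G), y ∈ O ↔ ∃ n ∈ N, n * t * n⁻¹ = (y : G) := by
    simp [O]
  have hoddO : Odd O.card := by
    have h := card_conj_odd S htS
    have e : Nat.card {y : G // ∃ n ∈ N, n * t * n⁻¹ = y} = Nat.card O := by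
      refine Nat.card_congr ⟨fun y => ⟨⟨y.1, by obtain ⟨n, hn, h⟩ := y.2; exact h ▸ hmemS n hn t htS⟩,
        (hO _).2 y.2⟩, fun y => ⟨((y : (S : Subgroup G)) : G), (hO _).1 y.2⟩, fun y => rfl, fun y => rfl⟩
    rw [e, Nat.card_eq_fintype_card, Fintype.card_coe] at h
    exact h
  have hOV : ∀ y ∈ O, y ∈ V ∧ y ∉ W := by
    intro y hy
    obtain ⟨n, hn, h⟩ := (hO y).1 hy
    refine ⟨(hV y).2 (Subtype.ext ?_), fun hyW => hno n hn (h ▸ hyW)⟩
    simp only [SubmonoidClass.coe_pow, OneMemClass.coe_one]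
    rw [← h, conj_pow, show t ^ 2 = 1 from ht ▸ pow_orderOf_eq_one t]
    simp
  have hidx2 : (V ⊓ W).relIndex V = 2 := by
    rcases Nat.lt_or_ge ((V ⊓ W).relIndex V) 2 with h | h
    · exfalso
      obtain ⟨y, hy⟩ := Finset.card_pos.1 hoddO.pos
      have hne : (V ⊓ W).relIndex V ≠ 0 := Subgroup.FiniteIndex.index_ne_zero
      have h1 : (V ⊓ W).relIndex V = 1 := by omega
      exact (hOV y hy).2 ((Subgroup.relIndex_eq_one.1 h1) (hOV y hy).1).2
    · omega
  have hpar : ∀ s : Finset (S : Subgroup G), s ⊆ O →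
      (∏ y ∈ s, y) ∈ V ∧ ((∏ y ∈ s, y) ∈ W ↔ Even s.card) := by
    intro s
    induction s using Finset.induction_on with
    | empty => intro; simp [one_mem]
    | insert a s has ih =>
      intro hsub
      rw [Finset.insert_subset_iff] at hsub
      obtain ⟨ih1, ih2⟩ := ih hsub.2
      obtain ⟨ha1, ha2⟩ := hOV a hsub.1
      rw [Finset.prod_insert has, Finset.card_insert_of_notMem has]
      refine ⟨V.mul_mem ha1 ih1, ?_⟩
      have h2 := Subgroup.mul_mem_iff_of_index_two (H := (V ⊓ W).subgroupOf V) hidx2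
        (a := ⟨a, ha1⟩) (b := ⟨∏ y ∈ s, y, ih1⟩)
      simp only [Subgroup.mem_subgroupOf, Subgroup.coe_mul, Subgroup.mem_inf] at h2
      rw [Nat.even_add_one, ← ih2]
      simpa [ha1, ha2, ih1, V.mul_mem ha1 ih1] using h2
  obtain ⟨hPV, hPW⟩ := hpar O subset_rfl
  have hne : ((∏ y ∈ O, y : (S : Subgroup G)) : G) ≠ 1 := by
    intro h
    have h1 : (∏ y ∈ O, y : (S : Subgroup G)) = 1 := Subtype.ext h
    rw [h1] at hPW
    exact (Nat.not_even_iff_odd.2 hoddO) (hPW.1 (one_mem _))
  refine hne (eq_one_of_fixed hG S (Subtype.coe_prop _) fun n hn => ?_)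
  let c : (S : Subgroup G) →* (S : Subgroup G) :=
    { toFun := fun x => ⟨n * x * n⁻¹, hmemS n hn x x.2⟩
      map_one' := Subtype.ext (by simp)
      map_mul' := fun x y => Subtype.ext (by simp [mul_assoc]) }
  have hc : c (∏ y ∈ O, y) = ∏ y ∈ O, y := by
    rw [map_prod]
    refine Finset.prod_bij (fun y _ => c y) ?_ ?_ ?_ (fun y _ => rfl)
    · intro y hy
      obtain ⟨m, hm, h⟩ := (hO y).1 hy
      exact (hO _).2 ⟨n * m, N.mul_mem hn hm, by
        show n * m * t * (n * m)⁻¹ = n * y * n⁻¹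
        rw [← h]; group⟩
    · intro y _ z _ h
      have : n * (y : G) * n⁻¹ = n * z * n⁻¹ := congrArg Subtype.val h
      exact Subtype.ext (by simpa using this)
    · intro y hy
      obtain ⟨m, hm, h⟩ := (hO y).1 hy
      refine ⟨⟨n⁻¹ * y * n, ?_⟩, (hO _).2 ⟨n⁻¹ * m, N.mul_mem (N.inv_mem hn) hm, ?_⟩, ?_⟩
      · simpa using hmemS n⁻¹ (N.inv_mem hn) y y.2
      · show n⁻¹ * m * t * (n⁻¹ * m)⁻¹ = n⁻¹ * y * n
        rw [← h]; group
      · exact Subtype.ext (show n * (n⁻¹ * y * n) * n⁻¹ = y by group)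
  exact congrArg Subtype.val hc

end Cfsg.Agent.S1244
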