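import Cfsg.Statements.S1246
import Cfsg.Agent.LocalEven64.GenFittingCharP
import Cfsg.Agent.LargeSub.Basic
import Mathlib

/-!
# The generalised Fitting subgroup of the centraliser of a larger `p`-subgroup
-/

set_option autoImplicit false
open Cfsg
open Subgroup

namespace Cfsg.Agent.S1246

section
open Cfsg.Agent.LocalEven64
variable {G : Type*} [Group G] [Finite G] {p : ℕ} [Fact p.Prime]

theorem charPOf_of_isPGroup {M : Subgroup G}
    (h : IsPGroup p ↥(Cfsg.generalizedFittingSubgroup ↥M)) : CharPOf p M := by
  rw [charPOf_iff_generalizedFitting]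
  refine le_antisymm (Thompson.le_pCore inferInstance h) ?_
  exact (Fitting.pCore_le_fitting p).trans le_sup_right

/-- One step: `V` is normal in `U`. -/
theorem charPOf_centralizer_step {U V : Subgroup G} (hVU : V ≤ U) (hU : IsPGroup p U)
    (hUV : U ≤ normalizer (V : Set G)) (hV : CharPOf p (centralizer (V : Set G))) :
    CharPOf p (centralizer (U : Set G)) := by
  set K := centralizer (V : Set G) with hK
  have hLK : centralizer (U : Set G) ≤ K := centralizer_le hVU
  have hUP : U ≤ normalizer (Cfsg.pCoreOf p K : Set G) :=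
    (le_normalizer_centralizer hUV).trans (LargeSub.normalizer_le_normalizer_pCoreOf p K)
  refine charPOf_iff.mpr fun x hx hxp hxc => hV.eq_one (hLK hx) hxp ?_
  refine pq_lemma (isPGroup_pCoreOf K) hU hUP hxp (le_normalizer_pCoreOf K (hLK hx)) hx ?_
  intro y hy hyU
  have h2 : Cfsg.pCoreOf p K ⊓ centralizer (U : Set G) ≤
      Cfsg.pCoreOf p (centralizer (U : Set G)) :=
    le_pCoreOf inf_le_right
      (le_normalizer_inf (hLK.trans (le_normalizer_pCoreOf K)) le_normalizer)
      ((isPGroup_pCoreOf K).to_le inf_le_left)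
  exact (mem_centralizer_iff.mp hxc y (h2 ⟨hy, hyU⟩)).symm

theorem charPOf_centralizer {U : Subgroup G} (hU : IsPGroup p U) (V : Subgroup G) (hVU : V ≤ U)
    (hV : CharPOf p (centralizer (V : Set G))) : CharPOf p (centralizer (U : Set G)) := by
  induction V using WellFoundedGT.induction with
  | _ V ih =>
    by_cases hUV : U ≤ V
    · rwa [show U = V from le_antisymm hUV hVU]
    · haveI := IsPGroup.isNilpotent hU
      have hlt : V.subgroupOf U < ⊤ := lt_top_iff_ne_top.2 fun h => hUV (subgroupOf_eq_top.1 h)
      obtain ⟨x, hx, hxV⟩ := SetLike.exists_of_lt (normalizerCondition_of_isNilpotent _ hlt)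
      rw [← subgroupOf_normalizer_eq hVU] at hx
      have hVV : V ≤ U ⊓ normalizer (V : Set G) := le_inf hVU le_normalizer
      refine ih (U ⊓ normalizer (V : Set G)) (lt_of_le_not_ge hVV fun h => hxV (h ⟨x.2, hx⟩))
        inf_le_left ?_
      exact charPOf_centralizer_step hVV (hU.to_le inf_le_left) inf_le_right hV

end

/-- Let V ≤ U be p-subgroups of the finite group G. If the generalized Fitting subgroup of C_G(V) is a p-group, then so is that of C_G(U). -/
theorem result {G : Type*} [Group G] [Finite G] {p : ℕ} [Fact p.Prime] (U V : Subgroup G) (hVU : V ≤ U) (hU : IsPGroup p U) (hV : IsPGroup p ↥(Cfsg.generalizedFittingSubgroup ↥(Subgroup.centralizer (V : Set G)))) : IsPGroup p ↥(Cfsg.generalizedFittingSubgroup ↥(Subgroup.centralizer (U : Set G))) := by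
  have h := charPOf_centralizer hU V hVU (charPOf_of_isPGroup hV)
  rw [LocalEven64.charPOf_iff_generalizedFitting] at h
  rw [h]
  exact Thompson.isPGroup_pCore

end Cfsg.Agent.S1246
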