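import Cfsg.Statements.S1247
import Cfsg.Agent.Lib.Components.GenFitting
import Cfsg.Agent.Lib.Components.LBalance
import Cfsg.Agent.Lib.Transfer.Residual
import Cfsg.Agent.OddLocal43.Coprime
import Cfsg.Agent.LocalEven64.CharP
import Cfsg.Agent.FG72.Basic
import Mathlib

/-!
# Cores of subgroups containing a self-centralising subnormal subgroup of `F*` of a maximal subgroup
-/

set_option autoImplicit false
open Cfsg
open Subgroup

namespace Cfsg.Agent.S1247

section Intrinsic

variable {M : Type*} [Group M] [Finite M] {p q : ℕ} [Fact p.Prime] [Fact q.Prime] {S X : Subgroup M}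

local notation "FS" => Cfsg.generalizedFittingSubgroup M

theorem layer_le (hsn : S.IsSubnormal) (hC : FS ⊓ centralizer (S : Set M) ≤ S) :
    Cfsg.layer M ≤ S := by
  rw [Components.layer_le_iff]
  intro L hL
  rcases Components.component_le_or_commutator_eq_bot hL hsn with h | h
  · exact h
  · exact (le_inf (Components.component_le_generalizedFitting hL)
      (commutator_eq_bot_iff_le_centralizer.1 h)).trans hC

/-- The center of `O_q`. -/
noncomputable def zc (q : ℕ) (M : Type*) [Group M] : Subgroup M :=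
  Cfsg.pCore q M ⊓ centralizer (Cfsg.pCore q M : Set M)

omit [Fact p.Prime] in
theorem zc_le (hS : S ≤ FS) (hC : FS ⊓ centralizer (S : Set M) ≤ S) : zc q M ≤ S := by
  refine le_trans ?_ hC
  intro z hz
  have hzF : z ∈ Cfsg.fittingSubgroup M := Fitting.pCore_le_fitting q hz.1
  refine ⟨Components.fitting_le_generalizedFitting hzF, ?_⟩
  have h : FS ≤ centralizer ({z} : Set M) := by
    refine sup_le ?_ ?_
    · intro e he
      exact mem_centralizer_singleton_iff.2
        (mem_centralizer_iff.1 (Components.layer_le_centralizer_fitting he) z hzF).symm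
    · intro f hf
      refine FG72.mem_of_forall_primePow _ f fun r hr j _ i hi => ?_
      haveI : Fact r.Prime := ⟨hr⟩
      have hfr := FG72.mem_pCore_of_fitting ((Cfsg.fittingSubgroup M).pow_mem hf i) hi
      refine mem_centralizer_singleton_iff.2 ?_
      by_cases hrq : r = q
      · subst hrq; exact mem_centralizer_iff.1 hz.2 _ hfr
      · exact Fitting.pCore_commute hrq hfr hz.1
  refine mem_centralizer_iff.2 fun s hs => ?_
  exact mem_centralizer_singleton_iff.1 (h (hS hs))

omit [Fact p.Prime] in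
theorem exists_mem_pCore_of_dvd (h : q ∣ Nat.card (Cfsg.fittingSubgroup M)) :
    Cfsg.pCore q M ≠ ⊥ := by
  intro hbot
  obtain ⟨x, hx⟩ := exists_prime_orderOf_dvd_card' q h
  have := FG72.mem_pCore_of_fitting x.2 (j := 1) (by rw [Subgroup.orderOf_coe, hx, pow_one])
  rw [hbot, mem_bot] at this
  have hq : orderOf x = 1 := by rw [← Subgroup.orderOf_coe, this, orderOf_one]
  exact (Fact.out : q.Prime).ne_one (hx ▸ hq)

omit [Fact p.Prime] in
theorem zc_ne_bot (h : Cfsg.pCore q M ≠ ⊥) : zc q M ≠ ⊥ := by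
  haveI : Nontrivial (Cfsg.pCore q M) := (nontrivial_iff_ne_bot _).2 h
  haveI := (Fitting.pCore_isPGroup (G := M) q).center_nontrivial
  obtain ⟨z, hz⟩ := exists_ne (1 : center (Cfsg.pCore q M))
  intro hbot
  refine hz (Subtype.ext (Subtype.ext ((eq_bot_iff_forall _).1 hbot _ ⟨z.1.2, ?_⟩)))
  exact mem_centralizer_iff.2 fun y hy =>
    congrArg Subtype.val (mem_center_iff.1 z.2 ⟨y, hy⟩)

omit [Fact q.Prime] in
/-- A `p`-subgroup normalised by `S` centralises the layer. -/
theorem layer_le_centralizer (hsn : S.IsSubnormal) (hC : FS ⊓ centralizer (S : Set M) ≤ S)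
    (hX : IsPGroup p X) (hSX : S ≤ normalizer (X : Set M)) :
    Cfsg.layer M ≤ centralizer (X : Set M) := by
  rw [Components.layer_le_iff]
  intro L hL
  haveI := hX.isNilpotent
  exact commutator_eq_bot_iff_le_centralizer.1 (Components.component_commutator_solvable hL
    inferInstance (((Components.component_le_layer hL).trans (layer_le hsn hC)).trans hSX))

/-- A `p`-subgroup normalised by `S` centralises `O_q` for `q ≠ p`. -/
theorem pCore_le_centralizer (hsn : S.IsSubnormal) (hS : S ≤ FS)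
    (hC : FS ⊓ centralizer (S : Set M) ≤ S) (hX : IsPGroup p X) (hSX : S ≤ normalizer (X : Set M))
    (hpq : q ≠ p) : Cfsg.pCore q M ≤ centralizer (X : Set M) := by
  set R := Cfsg.pCore q M with hR
  haveI : R.Normal := Fitting.pCore_normal q
  have hRq : IsPGroup q R := Fitting.pCore_isPGroup q
  have hdis : X ⊓ R = ⊥ := disjoint_iff.1 (IsPGroup.disjoint_of_ne p q hpq.symm X R hX hRq)
  have hT : R ⊓ S ≤ R ⊓ centralizer (X : Set M) := by
    rintro t ⟨htR, htS⟩
    refine ⟨htR, mem_centralizer_iff.2 fun x hx => ?_⟩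
    have h1 : t * x * t⁻¹ * x⁻¹ ∈ X ⊓ R := by
      refine ⟨X.mul_mem ((mem_normalizer_iff.1 (hSX htS) x).1 hx) (X.inv_mem hx), ?_⟩
      rw [show t * x * t⁻¹ * x⁻¹ = t * (x * t⁻¹ * x⁻¹) by group]
      exact R.mul_mem htR (‹R.Normal›.conj_mem _ (R.inv_mem htR) x)
    rw [hdis, mem_bot, mul_inv_eq_one, mul_inv_eq_iff_eq_mul] at h1
    exact h1.symm
  haveI := hRq.isNilpotent
  have hcop : (Nat.card X).Coprime (Nat.card R) :=
    IsPGroup.coprime_card_of_ne p q hpq.symm X R hX hRq
  refine OddLocal43.le_centralizer_of_self_centralizing inferInstance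
    (by rw [normalizer_eq_top_iff.mpr ‹R.Normal›]; exact le_top) hcop ?_
  rintro c ⟨hcR, hcC⟩
  refine hT ⟨hcR, hC ⟨Components.fitting_le_generalizedFitting (Fitting.pCore_le_fitting q hcR),
    mem_centralizer_iff.2 fun s hs => ?_⟩⟩
  -- `c` commutes with every element of `S`
  have hsF : s ∈ Cfsg.layer M ⊔ Cfsg.fittingSubgroup M := hS hs
  haveI : (Cfsg.fittingSubgroup M).Normal := Fitting.fitting_normal
  obtain ⟨e, he, f, hf, rfl⟩ := Subgroup.mem_sup_of_normal_right.1 hsF
  have hce : e * c = c * e :=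
    (mem_centralizer_iff.1 (Components.layer_le_centralizer_fitting he) c
      (Fitting.pCore_le_fitting q hcR)).symm
  have hfS : f ∈ S := by
    have := S.mul_mem (S.inv_mem (layer_le hsn hC he)) hs
    rwa [inv_mul_cancel_left] at this
  have hcf : f * c = c * f := by
    refine mem_centralizer_singleton_iff.1 ?_
    refine FG72.mem_of_forall_primePow (centralizer ({c} : Set M)) f fun r hr j _ i hi => ?_
    haveI : Fact r.Prime := ⟨hr⟩
    have hfr := FG72.mem_pCore_of_fitting ((Cfsg.fittingSubgroup M).pow_mem hf i) hi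
    refine mem_centralizer_singleton_iff.2 ?_
    by_cases hrq : r = q
    · subst hrq
      exact mem_centralizer_iff.1 hcC _ (hT ⟨hfr, S.pow_mem hfS i⟩)
    · exact Fitting.pCore_commute hrq hfr hcR
  rw [mul_assoc, hcf, ← mul_assoc, hce, mul_assoc]

omit [Fact q.Prime] in
theorem eq_bot_of_not_dvd (hsn : S.IsSubnormal) (hS : S ≤ FS)
    (hC : FS ⊓ centralizer (S : Set M) ≤ S) (hX : IsPGroup p X) (hSX : S ≤ normalizer (X : Set M))
    (hp : ¬ p ∣ Nat.card (Cfsg.fittingSubgroup M)) : X = ⊥ := by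
  have hXF : X ≤ centralizer (FS : Set M) := by
    rw [le_centralizer_iff]
    refine sup_le (layer_le_centralizer hsn hC hX hSX) fun f hf => ?_
    refine FG72.mem_of_forall_primePow _ f fun r hr j _ i hi => ?_
    haveI : Fact r.Prime := ⟨hr⟩
    have hfr := FG72.mem_pCore_of_fitting ((Cfsg.fittingSubgroup M).pow_mem hf i) hi
    by_cases hrp : r = p
    · subst hrp
      have h0 : j = 0 := by
        by_contra hj
        refine hp ((dvd_pow_self r hj).trans (hi ▸ ?_))
        exact Subgroup.orderOf_dvd_natCard _ ((Cfsg.fittingSubgroup M).pow_mem hf i)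
      rw [h0, pow_zero, orderOf_eq_one_iff] at hi
      rw [hi]
      exact one_mem _
    · exact pCore_le_centralizer hsn hS hC hX hSX hrp hfr
  -- the centraliser of `F*` is an abelian normal subgroup, hence inside the Fitting subgroup
  set Z := centralizer (FS : Set M) with hZ
  haveI : IsMulCommutative Z := ⟨⟨fun a b => Subtype.ext
    (mem_centralizer_iff.1 b.2 a (Components.centralizer_generalizedFitting_le a.2))⟩⟩
  haveI : (Cfsg.layer M).Normal := inferInstance
  haveI : (Cfsg.fittingSubgroup M).Normal := Fitting.fitting_normal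
  haveI : (FS : Subgroup M).Normal := Subgroup.sup_normal _ _
  haveI : Z.Normal := inferInstance
  have hXfit : X ≤ Cfsg.fittingSubgroup M :=
    hXF.trans (Fitting.le_fitting inferInstance (show Group.IsNilpotent Z from
      open scoped IsMulCommutative in inferInstance))
  obtain ⟨n, hn⟩ := hX.exists_card_eq
  have hdvd : p ^ n ∣ Nat.card (Cfsg.fittingSubgroup M) := hn ▸ card_dvd_of_le hXfit
  rcases Nat.eq_zero_or_pos n with rfl | hn0
  · exact card_eq_one.1 (by simpa using hn)
  · exact absurd ((dvd_pow_self p hn0.ne').trans hdvd) hp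

omit [Fact q.Prime] in
/-- `O^p(F*)` is generated by the layer and the cores for other primes. -/
theorem pResidual_le (hE : Cfsg.layer M ≤ centralizer (X : Set M))
    (hR : ∀ r : ℕ, r.Prime → r ≠ p → Cfsg.pCore r M ≤ centralizer (X : Set M)) :
    (Cfsg.pResidual p ↥(FS : Subgroup M)).map (FS : Subgroup M).subtype ≤
      centralizer (X : Set M) := by
  let N : Subgroup M := Cfsg.layer M ⊔ ⨆ r : {r : ℕ // r.Prime ∧ r ≠ p}, Cfsg.pCore r.1 M
  haveI : (⨆ r : {r : ℕ // r.Prime ∧ r ≠ p}, Cfsg.pCore r.1 M).Normal :=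
    Subgroup.sSup_normal _ (by rintro _ ⟨r, rfl⟩; exact Fitting.pCore_normal _)
  haveI : (Cfsg.pCore p M).Normal := Fitting.pCore_normal _
  haveI : N.Normal := Subgroup.sup_normal _ _
  have hN : N ≤ centralizer (X : Set M) := sup_le hE (iSup_le fun r => hR _ r.2.1 r.2.2)
  refine le_trans ?_ hN
  rw [map_le_iff_le_comap, Transfer.pResidual_le_iff]
  intro y hy
  rw [mem_comap]
  have hF : (FS : Subgroup M) ≤ Cfsg.pCore p M ⊔ N := by
    refine sup_le (le_sup_left.trans le_sup_right) fun f hf => ?_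
    refine FG72.mem_of_forall_primePow _ f fun r hr j _ i hi => ?_
    haveI : Fact r.Prime := ⟨hr⟩
    have hfr := FG72.mem_pCore_of_fitting ((Cfsg.fittingSubgroup M).pow_mem hf i) hi
    by_cases hrp : r = p
    · subst hrp; exact mem_sup_left hfr
    · have h1 : f ^ i ∈ ⨆ s : {s : ℕ // s.Prime ∧ s ≠ p}, Cfsg.pCore s.1 M :=
        le_iSup (fun s : {s : ℕ // s.Prime ∧ s ≠ p} => Cfsg.pCore s.1 M) ⟨r, hr, hrp⟩ hfr
      have h2 : f ^ i ∈ N := Subgroup.mem_sup_right (S := Cfsg.layer M) h1
      exact Subgroup.mem_sup_right (S := Cfsg.pCore p M) h2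
  obtain ⟨a, ha, b, hb, hab⟩ := Subgroup.mem_sup_of_normal_right.1 (hF y.2)
  rw [coe_subtype, ← QuotientGroup.eq_one_iff, ← hab, QuotientGroup.mk_mul,
    (QuotientGroup.eq_one_iff b).2 hb, mul_one]
  refine Transfer.eq_one_of_coprime_of_mem ((Fitting.pCore_isPGroup p).map (QuotientGroup.mk' N))
    ⟨a, ha, rfl⟩ ?_
  refine hy.coprime_dvd_left ?_
  have h1 : ((a : M) : M ⧸ N) = QuotientGroup.mk' N (y : M) := by
    rw [QuotientGroup.mk'_apply, ← hab, QuotientGroup.mk_mul, (QuotientGroup.eq_one_iff b).2 hb,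
      mul_one]
  rw [h1, ← Subgroup.orderOf_coe y]
  exact orderOf_map_dvd _ _

end Intrinsic

section Ambient

variable {G : Type*} [Group G] [Finite G] {p : ℕ} [Fact p.Prime]

theorem normalizer_eq [IsSimpleGroup G] {A : Subgroup G} (hA : IsCoatom A) {W : Subgroup ↥A}
    (hW : W.Normal) (hne : W ≠ ⊥) : normalizer ((W.map A.subtype : Subgroup G) : Set G) = A := by
  have hle : A ≤ normalizer ((W.map A.subtype : Subgroup G) : Set G) := by
    intro a ha
    rw [mem_normalizer_iff]
    intro x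
    constructor
    · rintro ⟨w, hw, rfl⟩
      exact ⟨⟨a, ha⟩ * w * ⟨a, ha⟩⁻¹, hW.conj_mem w hw _, by simp⟩
    · rintro ⟨w, hw, hwx⟩
      refine ⟨⟨a, ha⟩⁻¹ * w * ⟨a, ha⟩⁻¹⁻¹, hW.conj_mem w hw _, ?_⟩
      rw [Subgroup.coe_subtype] at hwx
      simp [hwx, mul_assoc]
  rcases hle.lt_or_eq with h | h
  · exfalso
    have htop := normalizer_eq_top_iff.1 (hA.2 _ h)
    rcases htop.eq_bot_or_eq_top with h1 | h1
    · exact hne ((Subgroup.map_eq_bot_iff_of_injective _ A.subtype_injective).1 h1)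
    · exact hA.1 (eq_top_iff.2 (h1 ▸ map_subtype_le W))
  · exact h.symm

end Ambient

/-- Let G be a non-abelian finite simple group, A a maximal subgroup, F = F*(A) its generalized Fitting subgroup (viewed in G), and S ≤ F a subgroup subnormal in F with C_F(S) ≤ S. Let B be any subgroup of G containing S. Then (a) for every prime q not dividing |F(A)|, O_q(B) ∩ A = 1; and (b) for every prime p dividing |F(A)|, O_p(B) commutes elementwise with the subgroup of F generated by its elements of order prime to p. -/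
theorem result {G : Type*} [Group G] [Finite G] [IsSimpleGroup G] (hna : ¬ IsMulCommutative G) (A : Subgroup G) (hA : IsCoatom A) (S : Subgroup G) (hSF : S ≤ (Cfsg.generalizedFittingSubgroup ↥A).map A.subtype) (hSsn : (S.subgroupOf ((Cfsg.generalizedFittingSubgroup ↥A).map A.subtype)).IsSubnormal) (hSC : (Cfsg.generalizedFittingSubgroup ↥A).map A.subtype ⊓ Subgroup.centralizer (S : Set G) ≤ S) (B : Subgroup G) (hSB : S ≤ B) : (∀ q : ℕ, q.Prime → ¬ q ∣ Nat.card (Cfsg.fittingSubgroup ↥A) → (Cfsg.pCore q ↥B).map B.subtype ⊓ A = ⊥) ∧ (∀ p : ℕ, p.Prime → p ∣ Nat.card (Cfsg.fittingSubgroup ↥A) → ∀ x ∈ (Cfsg.pCore p ↥B).map B.subtype, ∀ y ∈ (Cfsg.pResidual p ↥(Cfsg.generalizedFittingSubgroup ↥A)).map ((Cfsg.generalizedFittingSubgroup ↥A).subtype) , x * (A.subtype y) = (A.subtype y) * x) := by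
  set F := Cfsg.generalizedFittingSubgroup ↥A with hFdef
  set S' := S.subgroupOf A with hS'def
  have hSA : S ≤ A := hSF.trans (map_subtype_le _)
  have hS : S' ≤ F := by
    intro s hs
    obtain ⟨t, ht, hts⟩ := hSF hs
    rwa [← show t = s from Subtype.ext hts]
  have hsn : S'.IsSubnormal := by
    haveI : (Cfsg.fittingSubgroup ↥A).Normal := Fitting.fitting_normal
    haveI : F.Normal := Subgroup.sup_normal _ _
    refine Subgroup.IsSubnormal.trans hS ?_ (inferInstance : F.Normal).isSubnormal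
    let f : ↥F →* ↥(F.map A.subtype) := (A.subtype.comp F.subtype).codRestrict _
      (fun x => mem_map_of_mem _ x.2)
    have h : S'.subgroupOf F = (S.subgroupOf (F.map A.subtype)).comap f := rfl
    rw [h]
    exact hSsn.comap f
  have hC : F ⊓ centralizer (S' : Set ↥A) ≤ S' := by
    rintro c ⟨hcF, hcS⟩
    refine hSC ⟨mem_map_of_mem _ hcF, mem_centralizer_iff.2 fun s hs => ?_⟩
    exact congrArg Subtype.val (mem_centralizer_iff.1 hcS ⟨s, hSA hs⟩ hs)
  -- the `p`-part of `B`, intersected with `A`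
  have hnorm : ∀ p : ℕ,
      S' ≤ normalizer ((((Cfsg.pCore p ↥B).map B.subtype).subgroupOf A : Subgroup ↥A) : Set ↥A) := by
    intro p s hs
    rw [mem_normalizer_iff]
    intro x
    have hn := LocalEven64.le_normalizer_pCoreOf (p := p) B (hSB hs)
    exact mem_normalizer_iff.1 hn (x : G)
  have hpg : ∀ p : ℕ, [Fact p.Prime] →
      IsPGroup p (((Cfsg.pCore p ↥B).map B.subtype).subgroupOf A) := fun p _ =>
    (LocalEven64.isPGroup_pCoreOf B).comap_of_injective A.subtype A.subtype_injective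
  refine ⟨fun q hq hqF => ?_, fun p hp hpF x hx y hy => ?_⟩
  · haveI : Fact q.Prime := ⟨hq⟩
    have h := eq_bot_of_not_dvd hsn hS hC (hpg q) (hnorm q) hqF
    rw [eq_bot_iff]
    rintro z ⟨hzB, hzA⟩
    have hz : (⟨z, hzA⟩ : ↥A) ∈ ((Cfsg.pCore q ↥B).map B.subtype).subgroupOf A := hzB
    rw [h, mem_bot] at hz
    exact mem_bot.2 (congrArg Subtype.val hz)
  haveI : Fact p.Prime := ⟨hp⟩
  set P := (Cfsg.pCore p ↥B).map B.subtype with hPdef
  have hPp : IsPGroup p P := LocalEven64.isPGroup_pCoreOf B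
  have hE := layer_le_centralizer hsn hC (hpg p) (hnorm p)
  have hR : ∀ r : ℕ, r.Prime → r ≠ p →
      Cfsg.pCore r ↥A ≤ centralizer ((P.subgroupOf A : Subgroup ↥A) : Set ↥A) := fun r hr hrp => by
    haveI : Fact r.Prime := ⟨hr⟩
    exact pCore_le_centralizer hsn hS hC (hpg p) (hnorm p) hrp
  suffices hPA : F ≤ Cfsg.pCore p ↥A ∨ P ≤ A by
    rcases hPA with h | h
    · have hbot : Cfsg.pResidual p ↥F = ⊥ := le_bot_iff.1 <| by
        have h1 := Transfer.pResidual_le_ker (MonoidHom.id ↥F)
          ((Fitting.pCore_isPGroup (G := ↥A) p).to_le h)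
        rwa [MonoidHom.ker_id] at h1
      rw [hbot, Subgroup.map_bot, mem_bot] at hy
      simp [hy]
    · have h1 := mem_centralizer_iff.1 (pResidual_le hE hR hy) ⟨x, h hx⟩ hx
      exact congrArg Subtype.val h1
  -- a normal subgroup of `A` inside `S`, generated by `p'`-elements
  by_contra hno
  rw [not_or] at hno
  obtain ⟨W, hWn, hWne, hWS, hWgen, hWcomm, hWX⟩ : ∃ W : Subgroup ↥A, W.Normal ∧ W ≠ ⊥ ∧ W ≤ S' ∧
      (∀ K : Subgroup ↥A, (∀ w ∈ W, (orderOf w).Coprime p → w ∈ K) → W ≤ K) ∧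
      (∀ w ∈ W, ∀ z ∈ Cfsg.pCore p ↥A, Commute w z) ∧
      W ≤ centralizer ((P.subgroupOf A : Subgroup ↥A) : Set ↥A) := by
    by_cases hlay : Cfsg.layer ↥A = ⊥
    · obtain ⟨r, hr, hrp, hne⟩ : ∃ r : ℕ, r.Prime ∧ r ≠ p ∧ Cfsg.pCore r ↥A ≠ ⊥ := by
        by_contra hall
        push Not at hall
        refine hno.1 ?_
        rw [hFdef, Cfsg.generalizedFittingSubgroup, hlay, bot_sup_eq]
        intro f hf
        refine FG72.mem_of_forall_primePow _ f fun r hr j _ i hi => ?_
        haveI : Fact r.Prime := ⟨hr⟩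
        have hfr := FG72.mem_pCore_of_fitting ((Cfsg.fittingSubgroup ↥A).pow_mem hf i) hi
        by_cases hrp : r = p
        · exact hrp ▸ hfr
        · rw [hall r hr hrp, mem_bot] at hfr
          rw [hfr]; exact one_mem _
      haveI : Fact r.Prime := ⟨hr⟩
      haveI : (Cfsg.pCore r ↥A).Normal := Fitting.pCore_normal r
      refine ⟨zc r ↥A, Subgroup.normal_inf_normal _ _, zc_ne_bot hne, zc_le hS hC,
        fun K hK w hw => hK w hw ?_, fun w hw z hz => Fitting.pCore_commute hrp hw.1 hz,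
        inf_le_left.trans (hR r hr hrp)⟩
      obtain ⟨k, hk⟩ := IsPGroup.iff_orderOf.1 (Fitting.pCore_isPGroup (G := ↥A) r) ⟨w, hw.1⟩
      rw [Subgroup.orderOf_mk] at hk
      rw [hk]
      exact Nat.Coprime.pow_left k ((Nat.coprime_primes hr hp).2 hrp)
    · refine ⟨Cfsg.layer ↥A, inferInstance, hlay, layer_le hsn hC, ?_, ?_, hE⟩
      · intro K hK w hw
        have htop : Cfsg.pResidual p ↥(Cfsg.layer ↥A) = ⊤ := by
          haveI := Components.layer_isPerfect (G := ↥A)
          by_contra h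
          haveI : Nontrivial (↥(Cfsg.layer ↥A) ⧸ Cfsg.pResidual p ↥(Cfsg.layer ↥A)) :=
            QuotientGroup.nontrivial_iff.2 h
          haveI : Group.IsPerfect (↥(Cfsg.layer ↥A) ⧸ Cfsg.pResidual p ↥(Cfsg.layer ↥A)) :=
            Group.IsPerfect.ofSurjective (QuotientGroup.mk'_surjective _)
          haveI := (Transfer.isPGroup_quotient_pResidual (p := p) (G := ↥(Cfsg.layer ↥A))).isNilpotent
          exact Group.IsPerfect.not_isNilpotent
            (↥(Cfsg.layer ↥A) ⧸ Cfsg.pResidual p ↥(Cfsg.layer ↥A)) (by assumption)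
        have h : Cfsg.pResidual p ↥(Cfsg.layer ↥A) ≤ K.subgroupOf (Cfsg.layer ↥A) :=
          Transfer.pResidual_le_iff.2 fun g hg => hK g g.2 (by rwa [Subgroup.orderOf_coe])
        rw [htop] at h
        exact h (mem_top (⟨w, hw⟩ : ↥(Cfsg.layer ↥A)))
      · intro w hw z hz
        exact (mem_centralizer_iff.1 (Components.layer_le_centralizer_fitting hw) z
          (Fitting.pCore_le_fitting p hz)).symm
  -- the center of `O_p(A)`
  have hZne := zc_ne_bot (exists_mem_pCore_of_dvd (M := ↥A) hpF)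
  haveI : (Cfsg.pCore p ↥A).Normal := Fitting.pCore_normal p
  have hZN := normalizer_eq hA (W := zc p ↥A) (Subgroup.normal_inf_normal _ _) hZne
  set Z := (zc p ↥A).map A.subtype with hZdef
  have hZp : IsPGroup p Z := ((Fitting.pCore_isPGroup p).to_le inf_le_left).map _
  have hZS : Z ≤ S := by
    rintro _ ⟨z, hz, rfl⟩; exact zc_le hS hC hz
  refine hno.2 ?_
  rw [← normalizer_eq hA hWn hWne]
  refine le_trans ?_ (centralizer_le_normalizer _)
  rw [le_centralizer_iff, map_le_iff_le_comap]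
  refine hWgen _ fun w hw hwp => ?_
  refine LocalEven64.pq_lemma hPp hZp ((hZS.trans hSB).trans (LocalEven64.le_normalizer_pCoreOf B))
    (by rwa [Subgroup.coe_subtype, Subgroup.orderOf_coe])
    (LocalEven64.le_normalizer_pCoreOf B (hSB (hWS hw))) ?_ ?_
  · rw [mem_centralizer_iff]
    rintro _ ⟨z, hz, rfl⟩
    exact (congrArg Subtype.val (hWcomm w hw z hz.1).eq).symm
  · intro u hu huC
    have huA : u ∈ A := hZN ▸ centralizer_le_normalizer _ huC
    exact (congrArg Subtype.val (mem_centralizer_iff.1 (hWX hw) ⟨u, huA⟩ hu)).symm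

end Cfsg.Agent.S1247
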