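import Cfsg.Statements.S1249
-- import your own Cfsg.Agent.* helpers here

set_option autoImplicit false
open Cfsg

namespace Cfsg.Agent.S1249

/-- Let P and Q be Sylow p-subgroups of the finite group G both containing the subgroup A. If A is strongly closed in P, then A is strongly closed in Q. -/
theorem result {G : Type*} [Group G] [Finite G] {p : ℕ} [Fact p.Prime] (P Q : Sylow p G) (A : Subgroup G) (hAQ : A ≤ Q) (hA : Cfsg.IsStronglyClosed A (P : Subgroup G)) : Cfsg.IsStronglyClosed A (Q : Subgroup G) := by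
  obtain ⟨hAP, hcl⟩ := hA
  refine ⟨hAQ, ?_⟩
  intro x hx g hg
  obtain ⟨c, hc⟩ := MulAction.exists_smul_eq G Q P
  have hQP : ∀ y ∈ (Q : Subgroup G), c * y * c⁻¹ ∈ (P : Subgroup G) := by
    intro y hy
    rw [← hc, Sylow.coe_subgroup_smul]
    exact ⟨y, hy, rfl⟩
  have hmap : A.map (MulAut.conj c).toMonoidHom = A := by
    apply Subgroup.eq_of_le_of_card_ge
    · rintro _ ⟨y, hy, rfl⟩
      exact hcl y hy c (hQP y (hAQ hy))
    · rw [Subgroup.card_map_of_injective]
      exact (MulAut.conj c).injective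
  have h1 := hcl x hx (c * g) (by
    have := hQP _ hg
    simpa [mul_assoc] using this)
  rw [← hmap] at h1
  obtain ⟨y, hy, hyeq⟩ := h1
  have : g * x * g⁻¹ = y := by
    simp only [MulEquiv.coe_toMonoidHom, MulAut.conj_apply] at hyeq
    have h2 : c * y * c⁻¹ = c * (g * x * g⁻¹) * c⁻¹ := by rw [hyeq]; group
    exact (mul_left_cancel (mul_right_cancel h2)).symm
  rw [this]
  exact hy

end Cfsg.Agent.S1249
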