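import Cfsg.Statements.S1253
import Cfsg.Agent.ZStar.InvariantSylow

set_option autoImplicit false
open Cfsg

namespace Cfsg.Agent.S1253

/-- Let z be an isolated involution of the finite group G with centralizer C, p an odd prime and P a Sylow p-subgroup of G normalized by z. Then P ∩ C has p-power-free index in C (it is a Sylow p-subgroup of C), and |P : C_P(z)| equals the number of elements x ∈ P with z x z⁻¹ = x⁻¹. -/
theorem result {G : Type*} [Group G] [Finite G] (z : G) (hz : Cfsg.IsIsolatedInvolution z) {p : ℕ} [Fact p.Prime] (hp : p ≠ 2) (P : Sylow p G) (hzP : z ∈ Subgroup.normalizer ((P : Subgroup G) : Set G)) : ¬ p ∣ ((P : Subgroup G) ⊓ Subgroup.centralizer ({z} : Set G)).relIndex (Subgroup.centralizer ({z} : Set G)) ∧ ((P : Subgroup G) ⊓ Subgroup.centralizer ({z} : Set G)).relIndex (P : Subgroup G) = Nat.card {x : G // x ∈ P ∧ z * x * z⁻¹ = x⁻¹} := by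
  classical
  set C := Subgroup.centralizer ({z} : Set G) with hC
  have hzC : z ∈ C := Subgroup.mem_centralizer_singleton_iff.mpr rfl
  refine ⟨?_, ?_⟩
  · -- `P ⊓ C` is a Sylow subgroup of `C`
    obtain ⟨R, hR⟩ := (P.2.to_le (inf_le_left : (P : Subgroup G) ⊓ C ≤ P)).of_equiv
      (Subgroup.subgroupOfEquivOfLe (inf_le_right : (P : Subgroup G) ⊓ C ≤ C)).symm
      |>.exists_le_sylow
    set R' : Subgroup G := (R : Subgroup C).map C.subtype with hR'
    have hzR' : z ∈ Subgroup.normalizer (R' : Set G) := by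
      refine (Subgroup.centralizer_le_normalizer _) (Subgroup.mem_centralizer_iff.mpr ?_)
      rintro _ ⟨y, -, rfl⟩
      exact Subgroup.mem_centralizer_singleton_iff.mp y.2
    -- enlarge to an invariant Sylow subgroup
    obtain ⟨Q, ⟨hQp, hQz, hQle⟩, hQmax⟩ := (Set.toFinite {Q : Subgroup G | IsPGroup p Q ∧
      z ∈ Subgroup.normalizer (Q : Set G) ∧ R' ≤ Q}).exists_maximal ⟨R', R.2.map _, hzR', le_rfl⟩
    obtain ⟨P', hP'⟩ := ZStar.exists_sylow_eq_of_maximal hz Q hQp hQz
      fun T hT hTz hQT => le_antisymm (hQmax ⟨hT, hTz, hQle.trans hQT⟩ hQT) hQT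
    obtain ⟨h, hhz, hh⟩ := ZStar.exists_centralizer_conj hz P P' hzP (hP' ▸ hQz)
    have hsub : R' ≤ ((P : Subgroup G) ⊓ C).map (MulAut.conj h).toMonoidHom := by
      intro x hx
      have hxP : x ∈ ((h • P : Sylow p G) : Subgroup G) := by rw [hh, hP']; exact hQle hx
      rw [Sylow.coe_subgroup_smul] at hxP
      obtain ⟨w, hw, hwx⟩ := hxP
      refine ⟨w, ⟨hw, ?_⟩, hwx⟩
      obtain ⟨y, -, hy⟩ := hx
      have hxC : x * z = z * x := by
        rw [← hy]; exact Subgroup.mem_centralizer_singleton_iff.mp y.2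
      have hwx' : h * w * h⁻¹ = x := hwx
      refine Subgroup.mem_centralizer_singleton_iff.mpr ?_
      calc w * z = h⁻¹ * (h * w * h⁻¹) * (h * z) := by group
        _ = h⁻¹ * (x * z) * h := by rw [hwx', ← hhz]; group
        _ = h⁻¹ * (z * x) * h := by rw [hxC]
        _ = h⁻¹ * z * (h * w * h⁻¹) * h := by rw [hwx']; group
        _ = h⁻¹ * (z * h) * w := by group
        _ = z * w := by rw [hhz]; group
    have hle : Nat.card (R : Subgroup C) ≤ Nat.card (((P : Subgroup G) ⊓ C).subgroupOf C) := by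
      rw [Nat.card_congr (Subgroup.subgroupOfEquivOfLe
        (inf_le_right : (P : Subgroup G) ⊓ C ≤ C)).toEquiv,
        ← (show Nat.card (((P : Subgroup G) ⊓ C).map (MulAut.conj h).toMonoidHom) =
          Nat.card ((P : Subgroup G) ⊓ C : Subgroup G) from
            Subgroup.card_map_of_injective (MulAut.conj h).injective),
        ← (show Nat.card ((R : Subgroup C).map C.subtype) = Nat.card (R : Subgroup C) from
            Subgroup.card_map_of_injective (Subgroup.subtype_injective C))]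
      exact Nat.le_of_dvd Nat.card_pos (Subgroup.card_dvd_of_le hsub)
    rw [Subgroup.relIndex, Subgroup.eq_of_le_of_card_ge hR hle]
    exact R.not_dvd_index
  · set D := ((P : Subgroup G) ⊓ C).subgroupOf (P : Subgroup G) with hD
    have hodd : ∀ x ∈ P, Odd (orderOf x) := by
      intro x hx
      obtain ⟨k, hk⟩ := P.2 ⟨x, hx⟩
      exact ((Nat.Prime.odd_of_ne_two (Fact.out : p.Prime) hp).pow).of_dvd_nat
        (orderOf_dvd_of_pow_eq_one (congrArg Subtype.val hk : x ^ p ^ k = 1))
    refine (Nat.card_eq_of_bijective (fun x : {x : G // x ∈ P ∧ z * x * z⁻¹ = x⁻¹} =>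
      ((⟨x.1, x.2.1⟩ : (P : Subgroup G)) : (P : Subgroup G) ⧸ D)) ⟨?_, ?_⟩).symm
    · rintro ⟨x, hx⟩ ⟨y, hy⟩ hxy
      obtain ⟨k, -, huniq⟩ := TwoFusion36.existsUnique_inK hz x
      have h1 := huniq x ⟨⟨hodd x hx.1, hx.2⟩, by simp⟩
      have h2 := huniq y ⟨⟨hodd y hy.1, hy.2⟩,
        (Subgroup.mem_subgroupOf.mp (QuotientGroup.eq.mp hxy)).2⟩
      exact Subtype.ext (h1.trans h2.symm)
    · intro q
      induction q using QuotientGroup.induction_on with
      | _ g =>
        have hu := TwoFusion36.inK_conj_mul hz (g : G)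
        set k := TwoFusion36.sqrtOdd ((g : G) * z * (g : G)⁻¹ * z) with hk
        have hkP : k ∈ (P : Subgroup G) := by
          refine pow_mem ?_ _
          have h2 := (Subgroup.mem_normalizer_iff.mp hzP _).mp (inv_mem g.2)
          rw [TwoFusion36.conj_self_inv hz] at h2
          simpa [mul_assoc] using mul_mem g.2 h2
        refine ⟨⟨k, hkP, hu.sqrt.2⟩, QuotientGroup.eq.mpr ?_⟩
        rw [Subgroup.mem_subgroupOf]
        have h0 : k⁻¹ * (g : G) ∈ (P : Subgroup G) := mul_mem (inv_mem hkP) g.2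
        refine ⟨h0, ?_⟩
        have h3 := hu.conj_mul hz
        rw [← hk, mul_assoc _ z z, Involution.mul_self_of_orderOf hz.1, mul_one] at h3
        refine Subgroup.mem_centralizer_singleton_iff.mpr ?_
        simp only [Subgroup.coe_mul, InvMemClass.coe_inv]
        calc k⁻¹ * g * z = k⁻¹ * ((g : G) * z * (g : G)⁻¹) * g := by group
          _ = z * (k⁻¹ * g) := by rw [← h3]; group

end Cfsg.Agent.S1253
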