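import Cfsg.Statements.S1254
import Cfsg.Agent.TwoFusionB.DihedralAut
import Cfsg.Agent.Lib.Transfer.Frobenius
import Mathlib

/-!
# Normal 2-complements with a dihedral Sylow 2-subgroup
-/

set_option autoImplicit false
open Cfsg

namespace Cfsg.Agent.S1254

/-- Let X be a finite group whose Sylow 2-subgroup S is dihedral (of order at least 4). Then X has a normal 2-complement if and only if, for every Klein four-subgroup U ≤ S, the normalizer N_X(U) is generated by C_X(U) and N_S(U). -/
theorem result {X : Type*} [Group X] [Finite X] (S : Sylow 2 X) (m : ℕ) (hm : 2 ≤ m) (eS : (S : Subgroup X) ≃* DihedralGroup m) : Cfsg.HasNormalPComplement 2 X ↔ ∀ U : Subgroup X, U ≤ S → IsKleinFour U → Subgroup.normalizer (U : Set X) = Subgroup.centralizer (U : Set X) ⊔ ((S : Subgroup X) ⊓ Subgroup.normalizer (U : Set X)) := by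
  haveI : Fact (Nat.Prime 2) := ⟨Nat.prime_two⟩
  constructor
  · intro h U hUS _
    refine le_antisymm (fun x hx => ?_)
      (sup_le (Subgroup.centralizer_le_normalizer _) inf_le_right)
    have hN := Transfer.isComplement'_pResidual h S
    set N := Cfsg.pResidual 2 X
    haveI : N.Normal := inferInstance
    have hdis : N ⊓ (S : Subgroup X) = ⊥ := disjoint_iff.1 hN.disjoint
    obtain ⟨n, hn, s, hs, rfl⟩ :=
      Subgroup.mem_sup_of_normal_left.1 (hN.sup_eq_top.ge (Subgroup.mem_top x))
    have key : ∀ u ∈ U, n * (s * u * s⁻¹) * n⁻¹ = s * u * s⁻¹ := by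
      intro u hu
      have hv : s * u * s⁻¹ ∈ (S : Subgroup X) :=
        (S : Subgroup X).mul_mem ((S : Subgroup X).mul_mem hs (hUS hu))
          ((S : Subgroup X).inv_mem hs)
      have hw : n * (s * u * s⁻¹) * n⁻¹ ∈ (S : Subgroup X) := by
        have := hUS ((Subgroup.mem_normalizer_iff.1 hx u).1 hu)
        rw [mul_inv_rev] at this
        simpa [mul_assoc] using this
      have h1 : n * (s * u * s⁻¹) * n⁻¹ * (s * u * s⁻¹)⁻¹ ∈ N ⊓ (S : Subgroup X) := by
        refine ⟨?_, (S : Subgroup X).mul_mem hw ((S : Subgroup X).inv_mem hv)⟩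
        rw [mul_assoc, mul_assoc, ← mul_assoc (s * u * s⁻¹)]
        exact N.mul_mem hn (‹N.Normal›.conj_mem _ (N.inv_mem hn) _)
      rwa [hdis, Subgroup.mem_bot, mul_inv_eq_one] at h1
    have hsN : s ∈ Subgroup.normalizer (U : Set X) := by
      rw [Subgroup.mem_normalizer_iff_map_conj_eq]
      refine Subgroup.eq_of_le_of_card_ge ?_
        (Subgroup.card_map_of_injective (MulAut.conj s).injective).ge
      rintro _ ⟨u, hu, rfl⟩
      have h2 : n * (s * u * s⁻¹) * n⁻¹ = n * s * u * (n * s)⁻¹ := by group
      show s * u * s⁻¹ ∈ U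
      rw [← key u hu, h2]
      exact (Subgroup.mem_normalizer_iff.1 hx u).1 hu
    refine Subgroup.mul_mem_sup ?_ ⟨hs, hsN⟩
    rw [Subgroup.mem_centralizer_iff]
    intro u hu
    have hu' : s⁻¹ * u * s ∈ U := by
      have := (Subgroup.mem_normalizer_iff.1 (Subgroup.inv_mem _ hsN) u).1 hu
      rwa [inv_inv] at this
    have := key _ hu'
    rw [show s * (s⁻¹ * u * s) * s⁻¹ = u by group, mul_inv_eq_iff_eq_mul] at this
    exact this.symm
  · intro h
    obtain ⟨k, rfl⟩ := TwoFusionB.exists_eq_two_pow S hm eS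
    refine Transfer.hasNormalPComplement_of_normalizer_centralizer S fun Q hQS _ g hg hgp => ?_
    have hodd : Odd (orderOf g) := Nat.coprime_two_right.1 hgp
    by_cases hK : IsKleinFour Q
    · -- the automiser of a four-group is a 2-group
      set N := Subgroup.normalizer (Q : Set X)
      have hNeq := h Q hQS hK
      set C := (Subgroup.centralizer (Q : Set X)).subgroupOf N with hC
      haveI : C.Normal := Subgroup.normal_subgroupOf_centralizer_normalizer _
      set T := ((S : Subgroup X) ⊓ N).subgroupOf N with hT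
      have htop : C ⊔ T = ⊤ := by
        rw [hC, hT, ← Subgroup.subgroupOf_sup (Subgroup.centralizer_le_normalizer _) inf_le_right,
          ← hNeq, Subgroup.subgroupOf_self]
      obtain ⟨c, hc, s, hs, hcs⟩ :=
        Subgroup.mem_sup_of_normal_left.1 (htop.ge (Subgroup.mem_top (⟨g, hg⟩ : N)))
      have hTp : IsPGroup 2 T :=
        (S.isPGroup'.to_le inf_le_left).comap_of_injective N.subtype N.subtype_injective
      have h1 : QuotientGroup.mk' C ⟨g, hg⟩ = 1 := by
        refine Transfer.eq_one_of_coprime_of_mem (hTp.map (QuotientGroup.mk' C)) ?_ ?_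
        · exact ⟨s, hs, by
            rw [← hcs, map_mul, show QuotientGroup.mk' C c = 1 from (QuotientGroup.eq_one_iff c).2 hc, one_mul]⟩
        · refine Nat.coprime_two_right.2 (hodd.of_dvd_nat ?_)
          rw [← Subgroup.orderOf_mk g hg]
          exact orderOf_map_dvd _ _
      exact (QuotientGroup.eq_one_iff (N := C) (⟨g, hg⟩ : N)).1 h1
    · exact TwoFusionB.mem_centralizer_of_dihedral eS hQS hK hg hodd

end Cfsg.Agent.S1254
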