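import Cfsg.Statements.S1255
import Cfsg.Agent.TwoFusionB.DihedralSylow
import Cfsg.Agent.Lib.Involution.IndexTwo
import Mathlib

/-!
# One class of involutions with a dihedral Sylow 2-subgroup
-/

set_option autoImplicit false
open Cfsg
open DihedralGroup
open Cfsg.Agent.TwoFusionB

namespace Cfsg.Agent.S1255

section
variable {X : Type*} [Group X] [Finite X] {S : Sylow 2 X} {k : ℕ}
  (eS : (S : Subgroup X) ≃* DihedralGroup (2 ^ (k + 1)))

include eS in
theorem isConj_all (h : ∀ i, IsConj (emb eS (r (half k))) (emb eS (sr i))) (a b : X)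
    (ha : orderOf a = 2) (hb : orderOf b = 2) : IsConj a b := by
  haveI : Fact (Nat.Prime 2) := ⟨Nat.prime_two⟩
  have key : ∀ x : X, orderOf x = 2 → IsConj (emb eS (r (half k))) x := by
    intro x hx
    obtain ⟨Q, hQ⟩ := (IsPGroup.of_card (G := Subgroup.zpowers x) (p := 2) (n := 1)
      (by rw [Nat.card_zpowers, hx, pow_one])).exists_le_sylow
    obtain ⟨g, hg⟩ := MulAction.exists_smul_eq X Q S
    have hxS : g * x * g⁻¹ ∈ (S : Subgroup X) := by
      rw [← hg, Sylow.coe_subgroup_smul]
      exact Subgroup.smul_mem_pointwise_smul x (MulAut.conj g) _ (hQ (Subgroup.mem_zpowers x))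
    obtain ⟨d, hd⟩ : g * x * g⁻¹ ∈ (emb eS).range := by rw [range_emb]; exact hxS
    have hd2 : orderOf d = 2 := by
      rw [← orderOf_injective (emb eS) (emb_injective eS), hd,
        show g * x * g⁻¹ = MulAut.conj g x from rfl, MulEquiv.orderOf_eq, hx]
    have hdd : d * d = 1 := by
      have := pow_orderOf_eq_one d
      rwa [hd2, sq] at this
    have hc : IsConj x (g * x * g⁻¹) := isConj_iff.2 ⟨g, rfl⟩
    rcases mul_self_eq_one_iff.1 hdd with rfl | rfl | ⟨i, rfl⟩
    · rw [orderOf_one] at hd2; omega
    · rw [hd]; exact hc.symm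
    · exact (h i).trans (hd ▸ hc.symm)
  exact (key a ha).symm.trans (key b hb)

include eS in
theorem isConj_of_no_index_two (hG : ∀ H : Subgroup X, H.index ≠ 2) (i : ZMod (2 ^ (k + 1))) :
    IsConj (emb eS (r (half k))) (emb eS (sr i)) := by
  set Q := (Subgroup.zpowers (r (1 : ZMod (2 ^ (k + 1))))).map (emb eS) with hQ
  have hQS : Q ≤ (S : Subgroup X) := map_emb_le eS _
  have hidx : Q.relIndex (S : Subgroup X) = 2 := by
    have h := Subgroup.relIndex_mul_relIndex ⊥ Q (S : Subgroup X) bot_le hQS
    rw [Subgroup.relIndex_bot_left, Subgroup.relIndex_bot_left, hQ, card_map_emb, Nat.card_zpowers,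
      orderOf_r_one, Nat.card_congr eS.toEquiv, DihedralGroup.nat_card, ← hQ, mul_comm 2] at h
    exact Nat.eq_of_mul_eq_mul_left (by positivity) h
  obtain ⟨g, hg⟩ : ∃ g : X, g * emb eS (sr i) * g⁻¹ ∈ Q := by
    by_contra hno
    push Not at hno
    obtain ⟨M, -, hM, -⟩ := Involution.thompson_transfer S Q hQS hidx (u := emb eS (sr i))
      (by rw [← map_mul, sr_mul_self, map_one]) hno
    exact hG M hM
  obtain ⟨d, ⟨a, ha⟩, hd⟩ := hg
  have ha' : d = r (a : ZMod (2 ^ (k + 1))) := by simp [← ha]
  subst ha'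
  have h2 : emb eS (r (a : ZMod (2 ^ (k + 1)))) * emb eS (r (a : ZMod (2 ^ (k + 1)))) = 1 := by
    rw [hd]
    calc _ = g * (emb eS (sr i) * emb eS (sr i)) * g⁻¹ := by group
      _ = 1 := by rw [← map_mul, sr_mul_self, map_one]; group
  rw [← map_mul, ← map_one (emb eS), (emb_injective eS).eq_iff] at h2
  rcases mul_self_eq_one_iff.1 h2 with h | h | ⟨j, h⟩
  · exfalso
    rw [h, map_one, eq_comm, mul_inv_eq_one, mul_eq_left, ← map_one (emb eS),
      (emb_injective eS).eq_iff] at hd
    exact nomatch hd
  · rw [h] at hd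
    exact (isConj_iff.2 ⟨g, hd.symm⟩).symm
  · simp at h

end

/-- In a Klein four-group whose automiser has order divisible by three the involutions are
conjugate. -/
theorem isConj_of_three_dvd {X : Type*} [Group X] [Finite X] {U : Subgroup X} (hU : IsKleinFour U)
    (h3 : 3 ∣ (Subgroup.centralizer (U : Set X)).relIndex (Subgroup.normalizer (U : Set X)))
    {a b : X} (ha : a ∈ U) (hb : b ∈ U) (ha1 : a ≠ 1) (hb1 : b ≠ 1) : IsConj a b := by
  classical
  haveI : Fact (Nat.Prime 3) := ⟨Nat.prime_three⟩
  set N := Subgroup.normalizer (U : Set X)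
  set C := (Subgroup.centralizer (U : Set X)).subgroupOf N with hC
  haveI : C.Normal := Subgroup.normal_subgroupOf_centralizer_normalizer _
  rw [Subgroup.relIndex, ← hC, Subgroup.index_eq_card] at h3
  obtain ⟨q, hq⟩ := exists_prime_orderOf_dvd_card' 3 h3
  obtain ⟨g, rfl⟩ := QuotientGroup.mk'_surjective C q
  have hconj : ∀ x ∈ U, (g : X) * x * (g : X)⁻¹ ∈ U := fun x hx =>
    (Subgroup.mem_normalizer_iff.1 g.2 x).1 hx
  -- `g` fixes no involution of `U`
  have hnofix : ∀ u ∈ U, u ≠ 1 → (g : X) * u * (g : X)⁻¹ ≠ u := by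
    intro u hu hu1 hfix
    have hsq : g ^ 2 ∈ C := by
      rw [hC, Subgroup.mem_subgroupOf, Subgroup.mem_centralizer_iff, SubgroupClass.coe_pow]
      intro x hx
      suffices h : (g : X) * ((g : X) * x * (g : X)⁻¹) * (g : X)⁻¹ = x by
        calc x * (g : X) ^ 2 = (g : X) * ((g : X) * x * (g : X)⁻¹) * (g : X)⁻¹ * (g : X) ^ 2 := by
              rw [h]
          _ = (g : X) ^ 2 * x := by rw [sq]; group
      by_cases hx1 : x = 1
      · simp [hx1]
      by_cases hxu : x = u
      · subst hxu; rw [hfix, hfix]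
      -- the other two involutions are `x` and `u * x`
      have hsqU : ∀ y ∈ U, y * y = 1 := fun y hy => by
        rw [← sq]; exact Classification.isKleinFour_sq hU hy
      have hall : ∀ y ∈ U, y = 1 ∨ y = u ∨ y = x ∨ y = u * x := by
        intro y hy
        by_contra hno
        simp only [not_or] at hno
        have h5 : ({1, u, x, u * x, y} : Finset X).card = 5 := by
          have e1 : u * x ≠ 1 := fun h => hxu (by
            rw [← mul_left_cancel_iff (a := u), h, hsqU u hu])
          have e2 : u * x ≠ u := fun h => hx1 (mul_eq_left.1 h)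
          have e3 : u * x ≠ x := fun h => hu1 (mul_eq_right.1 h)
          rw [Finset.card_insert_of_notMem, Finset.card_insert_of_notMem,
            Finset.card_insert_of_notMem, Finset.card_insert_of_notMem, Finset.card_singleton] <;>
            simp [Ne.symm hu1, Ne.symm hx1, Ne.symm e1, Ne.symm hno.1, Ne.symm hxu, Ne.symm e2,
              Ne.symm hno.2.1, Ne.symm e3, Ne.symm hno.2.2.1, Ne.symm hno.2.2.2]
        have hsub : (({1, u, x, u * x, y} : Finset X) : Set X) ⊆ U := by
          intro z hz
          simp only [Finset.coe_insert, Finset.coe_singleton, Set.mem_insert_iff,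
            Set.mem_singleton_iff] at hz
          rcases hz with rfl | rfl | rfl | rfl | rfl
          · exact U.one_mem
          · exact hu
          · exact hx
          · exact U.mul_mem hu hx
          · exact hy
        have := Set.ncard_le_ncard hsub (Set.toFinite _)
        rw [Set.ncard_coe_finset, h5, ← Nat.card_coe_set_eq] at this
        have h4 : Nat.card (U : Set X) = 4 := hU.card_four
        omega
      rcases hall _ (hconj x hx) with h | h | h | h
      · exact absurd (by simpa using h) hx1
      · exact absurd (mul_left_cancel (mul_right_cancel (h.trans hfix.symm))) hxu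
      · rw [h, h]
      · rw [h]
        calc (g : X) * (u * x) * (g : X)⁻¹
            = ((g : X) * u * (g : X)⁻¹) * ((g : X) * x * (g : X)⁻¹) := by group
          _ = x := by rw [hfix, h, ← mul_assoc, hsqU u hu, one_mul]
    have h2 : orderOf (QuotientGroup.mk' C g) ∣ 2 :=
      orderOf_dvd_of_pow_eq_one (by rw [← map_pow]; exact (QuotientGroup.eq_one_iff _).2 hsq)
    rw [hq] at h2
    omega
  -- so it permutes the three involutions cyclically
  by_cases hab : a = b
  · subst hab; exact IsConj.refl a
  set a1 := (g : X) * a * (g : X)⁻¹ with ha1def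
  set a2 := (g : X) * a1 * (g : X)⁻¹ with ha2def
  have ha1U : a1 ∈ U := hconj a ha
  have ha11 : a1 ≠ 1 := fun h => ha1 (by simpa [ha1def] using h)
  have h01 : a1 ≠ a := hnofix a ha ha1
  have ha2U : a2 ∈ U := hconj a1 ha1U
  have ha21 : a2 ≠ 1 := fun h => ha11 (by simpa [ha2def] using h)
  have h12 : a2 ≠ a1 := hnofix a1 ha1U ha11
  by_cases hb' : b = a1
  · exact isConj_iff.2 ⟨g, hb'.symm⟩
  by_cases hb'' : b = a2
  · exact (isConj_iff.2 ⟨g, rfl⟩ : IsConj a a1).trans (isConj_iff.2 ⟨g, hb''.symm⟩)
  exfalso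
  by_cases h02 : a2 = a
  · -- then `g` swaps `a` and `a1`, so it fixes their product
    have hprod : a * a1 ∈ U := U.mul_mem ha ha1U
    have hne : a * a1 ≠ 1 := fun h => h01 (by
      have haa : a * a = 1 := by rw [← sq]; exact Classification.isKleinFour_sq hU ha
      rw [← mul_left_cancel_iff (a := a), h, haa])
    refine hnofix _ hprod hne ?_
    calc (g : X) * (a * a1) * (g : X)⁻¹ = a1 * a2 := by rw [ha2def, ha1def]; group
      _ = a * a1 := by rw [h02]; exact Classification.isKleinFour_comm hU ha1U ha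
  have h5 : ({1, a, a1, a2, b} : Finset X).card = 5 := by
    rw [Finset.card_insert_of_notMem, Finset.card_insert_of_notMem,
      Finset.card_insert_of_notMem, Finset.card_insert_of_notMem, Finset.card_singleton] <;>
      simp [Ne.symm ha1, Ne.symm ha11, Ne.symm ha21, Ne.symm hb1, Ne.symm h01, Ne.symm h12,
        Ne.symm h02, hab, Ne.symm hb', Ne.symm hb'']
  have hsub : (({1, a, a1, a2, b} : Finset X) : Set X) ⊆ U := by
    intro z hz
    simp only [Finset.coe_insert, Finset.coe_singleton, Set.mem_insert_iff,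
      Set.mem_singleton_iff] at hz
    rcases hz with rfl | rfl | rfl | rfl | rfl
    · exact U.one_mem
    · exact ha
    · exact ha1U
    · exact ha2U
    · exact hb
  have := Set.ncard_le_ncard hsub (Set.toFinite _)
  rw [Set.ncard_coe_finset, h5, ← Nat.card_coe_set_eq] at this
  have h4 : Nat.card (U : Set X) = 4 := hU.card_four
  omega

/-- Let X be a finite group whose Sylow 2-subgroup S is dihedral of order 2m ≥ 4. Then X has no subgroup of index 2 and no isolated involution if and only if either all involutions of X are conjugate, or for every Klein four-subgroup U ≤ S the index |N_X(U) : C_X(U)| equals 3 when |S| = 4 and equals 6 when |S| > 4. -/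
theorem result {X : Type*} [Group X] [Finite X] (S : Sylow 2 X) (m : ℕ) (hm : 2 ≤ m) (eS : (S : Subgroup X) ≃* DihedralGroup m) : ((∀ H : Subgroup X, H.index ≠ 2) ∧ (∀ z : X, ¬ Cfsg.IsIsolatedInvolution z)) ↔ ((∀ a b : X, orderOf a = 2 → orderOf b = 2 → IsConj a b) ∨ (∀ U : Subgroup X, U ≤ S → IsKleinFour U → (Subgroup.centralizer (U : Set X)).relIndex (Subgroup.normalizer (U : Set X)) = (if Nat.card S = 4 then 3 else 6))) := by
  obtain ⟨k, rfl⟩ := exists_eq_two_pow S hm eS
  constructor
  · rintro ⟨hG, -⟩
    exact Or.inl fun a b ha hb => isConj_all eS (isConj_of_no_index_two eS hG) a b ha hb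
  intro h
  have hall : ∀ a b : X, orderOf a = 2 → orderOf b = 2 → IsConj a b := by
    rcases h with h | h
    · exact h
    · intro a b ha hb
      refine isConj_all eS (fun i => ?_) a b ha hb
      have hU : IsKleinFour ((fourSub i).map (emb eS)) :=
        Classification.isKleinFour_of_mulEquiv
          ((fourSub i).equivMapOfInjective _ (emb_injective eS)) (isKleinFour_fourSub i)
      refine isConj_of_three_dvd hU ?_ (Subgroup.mem_map_of_mem _ (r_half_mem_fourSub i))
        (Subgroup.mem_map_of_mem _ (mem_fourSub_self i)) ?_ ?_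
      · rw [h _ (map_emb_le eS _) hU]; split_ifs <;> norm_num
      · rw [← map_one (emb eS), Ne, (emb_injective eS).eq_iff, one_def, r.injEq]
        exact half_ne_zero
      · rw [← map_one (emb eS), Ne, (emb_injective eS).eq_iff]
        exact fun h => nomatch h
  have hmem : ∀ d : DihedralGroup (2 ^ (k + 1)), d ≠ 1 → d * d = 1 → orderOf (emb eS d) = 2 := by
    intro d hd hdd
    rw [orderOf_injective (emb eS) (emb_injective eS)]
    exact orderOf_eq_prime (by rw [sq, hdd]) hd
  have hz : r (half k) ≠ (1 : DihedralGroup (2 ^ (k + 1))) := by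
    rw [one_def, Ne, r.injEq]; exact half_ne_zero
  have hzz : r (half k) * r (half k) = (1 : DihedralGroup (2 ^ (k + 1))) := by
    rw [r_mul_r, add_half_self]; rfl
  have hs : ∀ i, sr i ≠ (1 : DihedralGroup (2 ^ (k + 1))) := fun i h => nomatch h
  refine ⟨fun H hH => ?_, fun z hz' => ?_⟩
  · haveI : H.Normal := Subgroup.normal_of_index_eq_two hH
    have hsq : emb eS (r (half k)) ∈ H ∨ ∃ i, emb eS (sr i) ∈ H := by
      by_contra hno
      simp only [not_or, not_exists] at hno
      have h1 := hno.2 0
      have h2 := hno.2 (half k)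
      have h3 := (Subgroup.mul_mem_iff_of_index_two hH (a := emb eS (sr 0))
        (b := emb eS (sr (half k)))).2 (by tauto)
      rw [← map_mul, sr_mul_sr, sub_zero] at h3
      exact hno.1 h3
    obtain ⟨a, ha, haH⟩ : ∃ a, orderOf a = 2 ∧ a ∈ H := by
      rcases hsq with h1 | ⟨i, h1⟩
      · exact ⟨_, hmem _ hz hzz, h1⟩
      · exact ⟨_, hmem _ (hs i) (sr_mul_self i), h1⟩
    have hin : ∀ b, orderOf b = 2 → b ∈ H := by
      intro b hb
      obtain ⟨c, hc⟩ := isConj_iff.1 (hall a b ha hb)
      rw [← hc]
      exact ‹H.Normal›.conj_mem a haH c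
    have hSH : (S : Subgroup X) ≤ H := by
      rw [← range_emb eS]
      rintro _ ⟨d, rfl⟩
      rcases d with i | i
      · have := H.mul_mem (hin _ (hmem _ (hs 0) (sr_mul_self 0)))
          (hin _ (hmem _ (hs i) (sr_mul_self i)))
        rwa [← map_mul, sr_mul_sr, sub_zero] at this
      · exact hin _ (hmem _ (hs i) (sr_mul_self i))
    haveI : Fact (Nat.Prime 2) := ⟨Nat.prime_two⟩
    refine S.not_dvd_index ?_
    have hd := Subgroup.index_dvd_of_le hSH
    rwa [hH] at hd
  · -- an isolated involution would have no other conjugate commuting with it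
    obtain ⟨hz2, hiso⟩ := hz'
    obtain ⟨g, hg⟩ := isConj_iff.1 (hall z (emb eS (r (half k))) hz2 (hmem _ hz hzz))
    obtain ⟨g', hg'⟩ := isConj_iff.1 (hall z (emb eS (sr 0)) hz2 (hmem _ (hs 0) (sr_mul_self 0)))
    have hcomm : Commute (emb eS (r (half k))) (emb eS (sr 0)) :=
      by
        have h := congrArg (emb eS) (mem_fourSub.1 (r_half_mem_fourSub (k := k) 0))
        rwa [map_mul, map_mul] at h
    have h1 : g⁻¹ * g' * z * (g⁻¹ * g')⁻¹ = z := by
      refine hiso _ ?_
      have h2 := hcomm.map (MulAut.conj g⁻¹).toMonoidHom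
      rw [← hg, ← hg'] at h2
      simpa [mul_assoc] using h2
    have h4 : emb eS (sr 0) = emb eS (r (half k)) := by
      calc emb eS (sr 0) = g * (g⁻¹ * g' * z * (g⁻¹ * g')⁻¹) * g⁻¹ := by rw [← hg']; group
        _ = _ := by rw [h1, hg]
    exact absurd (emb_injective eS h4) (by simp)

end Cfsg.Agent.S1255
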