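import Cfsg.Statements.S1256
import Cfsg.Agent.TwoFusionB.DihedralSylow

set_option autoImplicit false
open Cfsg

namespace Cfsg.Agent.S1256

/-- Let X be a finite group whose Sylow 2-subgroup S is dihedral of order 2m ≥ 4. If |S| = 4, any two Klein four-subgroups of X are conjugate; if |S| > 4, there are Klein four-subgroups U₁, U₂ of X that are not conjugate, and every Klein four-subgroup of X is conjugate to U₁ or to U₂. -/
theorem result {X : Type*} [Group X] [Finite X] (S : Sylow 2 X) (m : ℕ) (hm : 2 ≤ m) (eS : (S : Subgroup X) ≃* DihedralGroup m) : (Nat.card S = 4 → ∀ U V : Subgroup X, IsKleinFour U → IsKleinFour V → (∃ x : X, U.map (MulAut.conj x).toMonoidHom = V)) ∧ (4 < Nat.card S → ∃ U₁ U₂ : Subgroup X, IsKleinFour U₁ ∧ IsKleinFour U₂ ∧ ¬ (∃ x : X, U₁.map (MulAut.conj x).toMonoidHom = U₂) ∧ ∀ V : Subgroup X, IsKleinFour V → (∃ x : X, V.map (MulAut.conj x).toMonoidHom = U₁) ∨ (∃ x : X, V.map (MulAut.conj x).toMonoidHom = U₂)) := by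
  obtain ⟨k, rfl⟩ := TwoFusionB.exists_eq_two_pow S hm eS
  constructor
  · intro h4 U V hU hV
    have key : ∀ W : Subgroup X, IsKleinFour W →
        ∃ x : X, Classification.cj x (S : Subgroup X) = W := by
      intro W hW
      obtain ⟨x, hx⟩ := Classification.exists_le_cj_sylow S (Classification.isKleinFour_isPGroup hW)
      refine ⟨x, (Subgroup.eq_of_le_of_card_ge hx ?_).symm⟩
      rw [Classification.card_cj, h4, hW.card_four]
    obtain ⟨a, ha⟩ := key U hU
    obtain ⟨b, hb⟩ := key V hV
    refine ⟨b * a⁻¹, ?_⟩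
    show Classification.cj (b * a⁻¹) U = V
    rw [← Classification.cj_mul, ← ha, Classification.cj_inv_cancel, hb]
  · intro h4
    have hk : 1 ≤ k := by
      by_contra hk
      obtain rfl : k = 0 := by omega
      rw [Nat.card_congr eS.toEquiv, DihedralGroup.nat_card] at h4
      norm_num at h4
    set f := TwoFusionB.emb eS
    refine ⟨(TwoFusionB.fourSub 0).map f, (TwoFusionB.fourSub 1).map f,
      Classification.isKleinFour_map _ (TwoFusionB.emb_injective eS)
        (TwoFusionB.isKleinFour_fourSub 0),
      Classification.isKleinFour_map _ (TwoFusionB.emb_injective eS)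
        (TwoFusionB.isKleinFour_fourSub 1), ?_, ?_⟩
    · rintro ⟨x, hx⟩
      have := TwoFusionB.par_eq_of_conj_fourSub S eS hk hx
      rw [map_zero, map_one] at this
      exact absurd this (by decide)
    · intro V hV
      obtain ⟨h, hh⟩ := Classification.exists_le_cj_sylow S (Classification.isKleinFour_isPGroup hV)
      obtain ⟨i, hi⟩ := TwoFusionB.exists_eq_map_fourSub eS
        (Classification.isKleinFour_cj h⁻¹ hV)
        (Classification.cj_le_iff.mpr (by rw [inv_inv]; exact hh))
      have key : ∀ j, TwoFusionB.par k i = TwoFusionB.par k j →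
          ∃ x : X, Classification.cj x V = (TwoFusionB.fourSub j).map f := by
        intro j hj
        obtain ⟨d, hd⟩ := TwoFusionB.exists_cj_fourSub hj
        exact ⟨f d * h⁻¹, by rw [← Classification.cj_mul, hi, TwoFusionB.cj_map_emb, hd]⟩
      have h2 : ∀ a : ZMod 2, a = 0 ∨ a = 1 := by decide
      rcases h2 (TwoFusionB.par k i) with h | h
      · exact Or.inl (key 0 (by rw [h, map_zero]))
      · exact Or.inr (key 1 (by rw [h, map_one]))

end Cfsg.Agent.S1256
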