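import Cfsg.Statements.S1264
import Cfsg.Agent.Lib.Components.GenFitting

set_option autoImplicit false
open Cfsg

namespace Cfsg.Agent.S1264

/-- Let G be finite, C = C_G(F(G)) the centralizer of the Fitting subgroup, and N a solvable subgroup of C normalized by C. Then N ≤ Z(F(G)). -/
theorem result {G : Type*} [Group G] [Finite G] (N : Subgroup G) (hN : N ≤ Subgroup.centralizer (Cfsg.fittingSubgroup G : Set G)) (hnorm : Subgroup.centralizer (Cfsg.fittingSubgroup G : Set G) ≤ Subgroup.normalizer (N : Set G)) (hsolv : Group.IsSolvable ↥N) : N ≤ (Subgroup.center ↥(Cfsg.fittingSubgroup G)).map (Cfsg.fittingSubgroup G).subtype := by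
  set F := Cfsg.fittingSubgroup G with hFdef
  set C := Subgroup.centralizer (F : Set G) with hCdef
  set Z := (Subgroup.center ↥F).map F.subtype with hZdef
  have hZ : ∀ K : Subgroup G, K ≤ C → K ≤ F → K ≤ Z := fun K hKC hKF x hx =>
    ⟨⟨x, hKF hx⟩, Subgroup.mem_center_iff.mpr fun g =>
      Subtype.ext (Subgroup.mem_centralizer_iff.mp (hKC hx) g g.2), rfl⟩
  obtain ⟨n, hn⟩ := hsolv.solvable
  have step : ∀ K : Subgroup G, K ≤ C → C ≤ Subgroup.normalizer (K : Set G) → ⁅K, K⁆ ≤ Z →
      K ≤ Z := by
    intro K hKC hKn hKK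
    refine hZ K hKC (Components.le_fitting_of_isSubnormal ?_ ?_)
    · exact Subgroup.IsSubnormal.step K C hKC (inferInstance : C.Normal).isSubnormal
        ((Subgroup.normal_subgroupOf_iff_le_normalizer hKC).mpr hKn)
    · rw [Subgroup.isNilpotent_iff_lowerCentralSeries]
      refine ⟨2, ?_⟩
      rw [Subgroup.lowerCentralSeries_succ, Subgroup.lowerCentralSeries_succ,
        Subgroup.lowerCentralSeries_zero, Subgroup.commutator_eq_bot_iff_le_centralizer]
      refine hKK.trans ?_
      rintro x ⟨z, -, rfl⟩
      exact Subgroup.mem_centralizer_iff.mpr fun k hk =>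
        (Subgroup.mem_centralizer_iff.mp (hKC hk) z z.2).symm
  suffices H : ∀ j, j ≤ n → (derivedSeries N (n - j)).map N.subtype ≤ Z by
    have := H n le_rfl
    rwa [Nat.sub_self, derivedSeries_zero, ← MonoidHom.range_eq_map, Subgroup.range_subtype]
      at this
  have hnorm : ∀ i, C ≤ Subgroup.normalizer (((derivedSeries N i).map N.subtype : Subgroup G) : Set G) := by
    intro i
    induction i with
    | zero => rwa [derivedSeries_zero, ← MonoidHom.range_eq_map, Subgroup.range_subtype]
    | succ i ih =>
      rw [derivedSeries_succ, Subgroup.map_commutator]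
      intro c hc
      rw [← Components.map_conj_eq_iff_mem_normalizer, Subgroup.map_commutator,
        Components.map_conj_eq_iff_mem_normalizer.mpr (ih hc)]
  intro j
  induction j with
  | zero => intro _; rw [Nat.sub_zero, hn, Subgroup.map_bot]; exact bot_le
  | succ j ih =>
    intro hj
    refine step _ ((Subgroup.map_subtype_le _).trans hN) (hnorm _) ?_
    have h1 := ih (by omega)
    rwa [show n - j = (n - (j + 1)) + 1 by omega, derivedSeries_succ, Subgroup.map_commutator]
      at h1

end Cfsg.Agent.S1264
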