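import Cfsg.Statements.S1287
import Cfsg.Agent.Lib.Signalizer.OrderFormula
import Mathlib.Data.Set.Card
import Mathlib.Tactic.Ring

set_option autoImplicit false
open scoped Pointwise
open Cfsg

namespace Cfsg.Agent.S1287

set_option linter.style.haveILetI false
set_option linter.unusedVariables false
open Subgroup
open scoped Pointwise IsMulCommutative

/-- `|X| |Y| = |XY| |X ∩ Y|`. -/
theorem card_mul_card_eq {G : Type*} [Group G] [Finite G] (X Y : Subgroup G) :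
    Nat.card X * Nat.card Y = Nat.card ↥((X : Set G) * (Y : Set G)) * Nat.card ↥(X ⊓ Y) := by
  rw [← Nat.card_prod, ← Nat.card_prod]
  have hz : ∀ z : ↥((X : Set G) * (Y : Set G)), ∃ x : X, ∃ y : Y, (x : G) * y = z := fun z => by
    obtain ⟨x, hx, y, hy, h⟩ := z.2
    exact ⟨⟨x, hx⟩, ⟨y, hy⟩, h⟩
  choose fx fy hf using hz
  refine Nat.card_congr
    { toFun := fun v => (⟨(v.1 : G) * v.2, Set.mul_mem_mul v.1.2 v.2.2⟩,
        ⟨((fx ⟨(v.1 : G) * v.2, Set.mul_mem_mul v.1.2 v.2.2⟩ : G))⁻¹ * v.1,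
          X.mul_mem (X.inv_mem (fx _).2) v.1.2, ?_⟩)
      invFun := fun v => (fx v.1 * ⟨v.2, v.2.2.1⟩, (⟨v.2, v.2.2.2⟩ : Y)⁻¹ * fy v.1)
      left_inv := ?_
      right_inv := ?_ }
  · set z : ↥((X : Set G) * (Y : Set G)) := ⟨(v.1 : G) * v.2, Set.mul_mem_mul v.1.2 v.2.2⟩
    have h : (fx z : G) * fy z = v.1 * v.2 := hf z
    have e : ((fx z : G))⁻¹ * v.1 = fy z * (v.2 : G)⁻¹ := by
      rw [eq_mul_inv_iff_mul_eq, mul_assoc, ← h, inv_mul_cancel_left]
    rw [e]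
    exact Y.mul_mem (fy z).2 (Y.inv_mem v.2.2)
  · rintro ⟨x, y⟩
    refine Prod.ext (Subtype.ext (by simp)) (Subtype.ext ?_)
    have h := hf ⟨(x : G) * y, Set.mul_mem_mul x.2 y.2⟩
    simp only [Subgroup.coe_mul, Subgroup.coe_inv, mul_inv_rev, inv_inv, mul_assoc]
    rw [h, ← mul_assoc, inv_mul_cancel, one_mul]
  · rintro ⟨z, i⟩
    have h : (fx z : G) * (i : G) * ((i : G)⁻¹ * fy z) = z := by
      rw [mul_assoc, mul_inv_cancel_left]; exact hf z
    refine Prod.ext (Subtype.ext h) (Subtype.ext ?_)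
    have hz' : (⟨(fx z : G) * i * ((i : G)⁻¹ * fy z), Set.mul_mem_mul
        (X.mul_mem (fx z).2 i.2.1) (Y.mul_mem (Y.inv_mem i.2.2) (fy z).2)⟩ :
        ↥((X : Set G) * (Y : Set G))) = z := Subtype.ext h
    simp only [Subgroup.coe_mul, Subgroup.coe_inv]
    rw [hz', inv_mul_cancel_left]

/-- If `C_K(S) = C_X(S) C_Y(S)` as sets then the orders factorise. -/
theorem card_fixed_eq {G : Type*} [Group G] [Finite G] (X Y K C : Subgroup G)
    (h : ((K ⊓ C : Subgroup G) : Set G) = ((X ⊓ C : Subgroup G) : Set G) * ((Y ⊓ C : Subgroup G) : Set G)) :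
    Nat.card ↥(K ⊓ C) * Nat.card ↥(X ⊓ Y ⊓ C) = Nat.card ↥(X ⊓ C) * Nat.card ↥(Y ⊓ C) := by
  conv_rhs => rw [card_mul_card_eq]
  rw [← h, show X ⊓ C ⊓ (Y ⊓ C) = X ⊓ Y ⊓ C from inf_inf_distrib_right X Y C |>.symm]
  rfl


/-- Let A be a noncyclic elementary abelian p-subgroup of a finite group H normalizing a subgroup K of order prime to p, and X, Y ≤ K subgroups normalized by A with C_K(a) = C_X(a) C_Y(a) (as sets) for every non-identity a ∈ A, where X is also normalized by C_K(A). Then K = XY as sets. -/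
theorem result {H : Type*} [Group H] [Finite H] (p : ℕ) [Fact p.Prime] (A K X Y : Subgroup H) (hA : Cfsg.IsElementaryAbelian p A) (hA2 : p ^ 2 ≤ Nat.card ↥A) (hK : ¬ p ∣ Nat.card ↥K) (hAK : A ≤ Subgroup.normalizer (K : Set H)) (hX : X ≤ K) (hY : Y ≤ K) (hAX : A ≤ Subgroup.normalizer (X : Set H)) (hAY : A ≤ Subgroup.normalizer (Y : Set H)) (hCX : K ⊓ Subgroup.centralizer (A : Set H) ≤ Subgroup.normalizer (X : Set H)) (hfac : ∀ a ∈ A, a ≠ 1 → ((K ⊓ Subgroup.centralizer {a} : Subgroup H) : Set H) = ((X ⊓ Subgroup.centralizer {a} : Subgroup H) : Set H) * ((Y ⊓ Subgroup.centralizer {a} : Subgroup H) : Set H)) : (K : Set H) = (X : Set H) * (Y : Set H) := by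
  classical
  cases nonempty_fintype (Subgroup H)
  have hp : p.Prime := Fact.out
  haveI := hA.1
  obtain ⟨n, hn⟩ := IsPGroup.iff_card.mp
    (show IsPGroup p A from fun a => ⟨1, Subtype.ext (by simpa using hA.2 a a.2)⟩)
  have hn2 : 2 ≤ n := (Nat.pow_le_pow_iff_right hp.one_lt).mp (hn ▸ hA2)
  obtain ⟨A0', hA0'⟩ := Sylow.exists_subgroup_card_pow_prime (G := A) p
    (show p ^ 2 ∣ Nat.card A from hn ▸ pow_dvd_pow p hn2)
  set A0 := A0'.map A.subtype with hA0def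
  have hA0A : A0 ≤ A := Subgroup.map_subtype_le _
  have hA0 : Nat.card A0 = p ^ 2 := by
    rw [hA0def, Subgroup.card_map_of_injective A.subtype_injective, hA0']
  haveI : IsMulCommutative A0 := ⟨⟨fun x y => Subtype.ext
    (congrArg (fun z : A => (z : H)) (mul_comm' (⟨x, hA0A x.2⟩ : A) ⟨y, hA0A y.2⟩))⟩⟩
  have hexp : ∀ x ∈ A0, x ^ p = 1 := fun x hx => hA.2 x (hA0A hx)
  let ℬ : Finset (Subgroup H) := Finset.univ.filter fun B => B ≤ A0 ∧ Nat.card B = p
  have hℬ : ∀ B, B ∈ ℬ ↔ B ≤ A0 ∧ Nat.card B = p := fun B => by simp [ℬ]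
  have hK' : ∀ S : Subgroup H, S ≤ K → ¬ p ∣ Nat.card S := fun S hS h =>
    hK (h.trans (Subgroup.card_dvd_of_le hS))
  have F := fun (S : Subgroup H) (hS : S ≤ K) (hn : A ≤ Subgroup.normalizer (S : Set H)) =>
    Signalizer.card_mul_fixed (p := p) A0 S hA0 hexp (hK' S hS) (hA0A.trans hn) ℬ hℬ
  have eK := F K le_rfl hAK
  have eX := F X hX hAX
  have eY := F Y hY hAY
  have eI := F (X ⊓ Y) (inf_le_left.trans hX) (Coprime.le_normalizer_inf hAX hAY)
  have hB : ∀ B ∈ ℬ, Nat.card ↥(K ⊓ Subgroup.centralizer (B : Set H)) *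
      Nat.card ↥(X ⊓ Y ⊓ Subgroup.centralizer (B : Set H)) =
      Nat.card ↥(X ⊓ Subgroup.centralizer (B : Set H)) *
        Nat.card ↥(Y ⊓ Subgroup.centralizer (B : Set H)) := by
    intro B hB
    obtain ⟨hBA, hBc⟩ := (hℬ B).mp hB
    haveI : Nontrivial B := Finite.one_lt_card_iff_nontrivial.mp (hBc ▸ hp.one_lt)
    obtain ⟨b, hb⟩ := exists_ne (1 : B)
    have hb1 : (b : H) ≠ 1 := fun h => hb (Subtype.ext h)
    have hbB : B = Subgroup.zpowers (b : H) := by
      refine (Subgroup.eq_of_le_of_card_ge (Subgroup.zpowers_le.mpr b.2) ?_).symm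
      rw [hBc, Nat.card_zpowers, orderOf_eq_prime (hexp b (hBA b.2)) hb1]
    have hc : Subgroup.centralizer (B : Set H) = Subgroup.centralizer {(b : H)} := by
      refine (congrArg (fun S : Subgroup H => Subgroup.centralizer (S : Set H)) hbB).trans ?_
      show Subgroup.centralizer ((Subgroup.zpowers (b : H) : Subgroup H) : Set H) = _
      rw [Subgroup.zpowers_eq_closure, Subgroup.centralizer_closure]
    rw [hc]
    exact card_fixed_eq X Y K _ (hfac b (hA0A (hBA b.2)) hb1)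
  have h0 : Nat.card ↥(K ⊓ Subgroup.centralizer (A0 : Set H)) *
      Nat.card ↥(X ⊓ Y ⊓ Subgroup.centralizer (A0 : Set H)) =
      Nat.card ↥(X ⊓ Subgroup.centralizer (A0 : Set H)) *
        Nat.card ↥(Y ⊓ Subgroup.centralizer (A0 : Set H)) := by
    refine card_fixed_eq X Y K _ (Set.Subset.antisymm ?_ ?_)
    · intro z hz
      haveI : Nontrivial A0 := Finite.one_lt_card_iff_nontrivial.mp
        (hA0 ▸ Nat.one_lt_pow two_ne_zero hp.one_lt)
      obtain ⟨b, hb⟩ := exists_ne (1 : A0)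
      have hzb : z ∈ ((K ⊓ Subgroup.centralizer {(b : H)} : Subgroup H) : Set H) :=
        ⟨hz.1, Subgroup.centralizer_le (Set.singleton_subset_iff.mpr b.2) hz.2⟩
      rw [hfac b (hA0A b.2) fun h => hb (Subtype.ext h)] at hzb
      obtain ⟨x, hx, y, hy, rfl⟩ := hzb
      obtain ⟨x', hx', y', hy', he⟩ := Coprime.exists_mul_fixed A0 X Y (hA0A.trans hAX)
        (hA0A.trans hAY) (by
          rw [hA0]
          exact (hp.coprime_iff_not_dvd.mpr (hK' _ (inf_le_left.trans hX))).pow_left 2)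
        (Or.inl inferInstance) x y hx.1 hy.1 hz.2
      exact ⟨x', hx', y', hy', he.symm⟩
    · rintro _ ⟨x, hx, y, hy, rfl⟩
      exact ⟨mul_mem (hX hx.1) (hY hy.1), mul_mem hx.2 hy.2⟩
  have hprod := Finset.prod_congr rfl hB
  rw [Finset.prod_mul_distrib, Finset.prod_mul_distrib] at hprod
  set k := ℬ.card
  set cK := Nat.card ↥(K ⊓ Subgroup.centralizer (A0 : Set H))
  set cX := Nat.card ↥(X ⊓ Subgroup.centralizer (A0 : Set H))
  set cY := Nat.card ↥(Y ⊓ Subgroup.centralizer (A0 : Set H))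
  set cI := Nat.card ↥(X ⊓ Y ⊓ Subgroup.centralizer (A0 : Set H))
  have hcard : Nat.card K * Nat.card ↥(X ⊓ Y) = Nat.card X * Nat.card Y := by
    refine Nat.eq_of_mul_eq_mul_right (show 0 < (cX * cY) ^ k from
      pow_pos (Nat.mul_pos Nat.card_pos Nat.card_pos) k) ?_
    calc _ = (Nat.card K * cK ^ k) * (Nat.card ↥(X ⊓ Y) * cI ^ k) := by
          rw [← h0, mul_pow]; ring
      _ = (cK * cI) * ((∏ B ∈ ℬ, Nat.card ↥(K ⊓ Subgroup.centralizer (B : Set H))) *
          ∏ B ∈ ℬ, Nat.card ↥(X ⊓ Y ⊓ Subgroup.centralizer (B : Set H))) := by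
          rw [eK, eI]; ring
      _ = (cX * ∏ B ∈ ℬ, Nat.card ↥(X ⊓ Subgroup.centralizer (B : Set H))) *
          (cY * ∏ B ∈ ℬ, Nat.card ↥(Y ⊓ Subgroup.centralizer (B : Set H))) := by
          rw [h0, hprod]; ring
      _ = _ := by rw [← eX, ← eY, mul_pow]; ring
  have hsub : (X : Set H) * (Y : Set H) ⊆ (K : Set H) := by
    rintro _ ⟨x, hx, y, hy, rfl⟩
    exact mul_mem (hX hx) (hY hy)
  refine (Set.eq_of_subset_of_ncard_le hsub ?_ (Set.toFinite _)).symm
  have h3 := hcard.trans (card_mul_card_eq X Y)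
  have h4 := Nat.eq_of_mul_eq_mul_right Nat.card_pos h3
  rw [← Nat.card_coe_set_eq, ← Nat.card_coe_set_eq]
  exact le_of_eq h4

end Cfsg.Agent.S1287
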