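import Cfsg.Statements.S1288
import Cfsg.Agent.Lib.Components.Balance
import Cfsg.Agent.Lib.Thompson.PSolvable
import Cfsg.Agent.FG72.CocyclicGeneration
import Cfsg.Agent.Lib.Coprime.Generation

set_option autoImplicit false
open Cfsg

namespace Cfsg.Agent.S1288

set_option linter.style.haveILetI false
set_option linter.unusedVariables false
open Subgroup
open scoped commutatorElement IsMulCommutative

theorem pPrimePCore_characteristic {q : ℕ} {K : Type*} [Group K] :
    (Cfsg.pPrimePCore q K).Characteristic := by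
  rw [characteristic_iff_map_le]
  intro φ
  have hN : (Cfsg.pPrimeCore q K).map φ.toMonoidHom = Cfsg.pPrimeCore q K :=
    Thompson.map_pPrimeCore_equiv φ
  rintro _ ⟨x, hx, rfl⟩
  let e := QuotientGroup.congr (Cfsg.pPrimeCore q K) (Cfsg.pPrimeCore q K) φ hN
  show QuotientGroup.mk' (Cfsg.pPrimeCore q K) (φ x) ∈ Cfsg.pCore q _
  rw [← Thompson.map_pCore_equiv e]
  exact ⟨_, hx, rfl⟩

theorem mem_pPrimeCore_of_coprime {q : ℕ} [Fact q.Prime] {K : Type*} [Group K] [Finite K] {x : K}
    (hx : x ∈ Cfsg.pPrimePCore q K) (ho : ¬ q ∣ orderOf x) : x ∈ Cfsg.pPrimeCore q K := by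
  set π := QuotientGroup.mk' (Cfsg.pPrimeCore q K)
  obtain ⟨k, hk⟩ := (Thompson.isPGroup_pCore (p := q) (G := K ⧸ Cfsg.pPrimeCore q K))
    (⟨π x, hx⟩ : Cfsg.pCore q (K ⧸ Cfsg.pPrimeCore q K))
  have h1 : orderOf (π x) ∣ q ^ k :=
    orderOf_dvd_of_pow_eq_one (by simpa using congrArg Subtype.val hk)
  have h2 : orderOf (π x) ∣ orderOf x := orderOf_map_dvd π x
  have h3 := Nat.eq_one_of_dvd_coprimes
    (((Fact.out : q.Prime).coprime_iff_not_dvd.mpr ho).pow_left k) h1 h2
  exact (QuotientGroup.eq_one_iff x).mp (orderOf_eq_one_iff.mp h3)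


/-- Let A be a noncyclic elementary abelian p-subgroup of a finite group H normalizing a solvable subgroup K of order prime to p, q a prime dividing |K|, and U ≤ K a subgroup of order prime to q such that ⁅U, C_K(B)⁆ has order prime to q for every subgroup B of index p in A. Then U ≤ O_{q'}(K). -/
theorem result {H : Type*} [Group H] [Finite H] (p : ℕ) [Fact p.Prime] (A K : Subgroup H) (hA : Cfsg.IsElementaryAbelian p A) (hA2 : p ^ 2 ≤ Nat.card ↥A) (hK : ¬ p ∣ Nat.card ↥K) (hKs : Group.IsSolvable ↥K) (hAK : A ≤ Subgroup.normalizer (K : Set H)) (q : ℕ) [Fact q.Prime] (hqK : q ∣ Nat.card ↥K) (U : Subgroup H) (hU : U ≤ K) (hUq : ¬ q ∣ Nat.card ↥U) (hcomm : ∀ B : Subgroup H, B ≤ A → B.relIndex A = p → ¬ q ∣ Nat.card ↥⁅U, K ⊓ Subgroup.centralizer (B : Set H)⁆) : U ≤ (Cfsg.pPrimeCore q ↥K).map K.subtype := by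
  haveI := hA.1
  have hp : p.Prime := Fact.out
  have hApg : IsPGroup p A := fun a => ⟨1, Subtype.ext (by simpa using hA.2 a a.2)⟩
  obtain ⟨n, hn⟩ := IsPGroup.iff_card.mp hApg
  have hcopK : (Nat.card A).Coprime (Nat.card K) := by
    rw [hn]; exact (hp.coprime_iff_not_dvd.mpr hK).pow_left n
  set M := Cfsg.pPrimePCore q ↥K with hMd
  set N := Cfsg.pPrimeCore q ↥K with hNd
  set π := QuotientGroup.mk' N with hπ
  haveI : M.Characteristic := pPrimePCore_characteristic
  set MG := M.map K.subtype with hMG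
  have hAM : A ≤ Subgroup.normalizer (MG : Set H) :=
    hAK.trans (Components.normalizer_le_normalizer_map_characteristic K M)
  have hMK : MG ≤ K := Subgroup.map_subtype_le _
  have hcopM : (Nat.card A).Coprime (Nat.card MG) :=
    hcopK.coprime_dvd_right (Subgroup.card_dvd_of_le hMK)
  obtain ⟨P, hP⟩ := Coprime.exists_invariant_sylow A MG hAM hcopM (Or.inl inferInstance) q
  set PG := (P : Subgroup MG).map MG.subtype with hPG
  have hPM : PG ≤ MG := Subgroup.map_subtype_le _
  -- `U` centralizes `P` modulo `N`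
  have key : ∀ x ∈ PG, ∀ u ∈ U, ∀ (hx : x ∈ K) (hu : u ∈ K), Commute (π ⟨u, hu⟩) (π ⟨x, hx⟩) := by
    intro x hxP u hu hxK huK
    let S : Subgroup H :=
      ((Subgroup.centralizer ({π ⟨u, huK⟩} : Set (↥K ⧸ N))).comap π).map K.subtype
    have hS : PG ≤ S := by
      refine (FG72.le_iSup_cocyclic _ H A PG rfl hA.1 hP
        (hcopM.coprime_dvd_right (Subgroup.card_dvd_of_le hPM))).trans (iSup₂_le ?_)
      rintro B ⟨hBA, a, ha, hsup⟩
      have hidx : B.relIndex A ∣ p := by
        have h1 : (B.subgroupOf A).Normal := inferInstance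
        let g := QuotientGroup.mk' (B.subgroupOf A) ⟨a, ha⟩
        have h2 : Subgroup.zpowers g = ⊤ := by
          have h3 : B.subgroupOf A ⊔ (Subgroup.zpowers a).subgroupOf A = ⊤ := by
            rw [← Subgroup.subgroupOf_sup hBA (Subgroup.zpowers_le.mpr ha), hsup,
              Subgroup.subgroupOf_self]
          have h4 : (Subgroup.zpowers a).subgroupOf A = Subgroup.zpowers (⟨a, ha⟩ : A) :=
            map_injective A.subtype_injective (by
              rw [Subgroup.map_subgroupOf_eq_of_le (Subgroup.zpowers_le.mpr ha),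
                MonoidHom.map_zpowers]
              rfl)
          rw [eq_top_iff, ← Subgroup.map_top_of_surjective _ (QuotientGroup.mk'_surjective
            (B.subgroupOf A)), ← h3, Subgroup.map_sup, QuotientGroup.map_mk'_self, bot_sup_eq, h4,
            MonoidHom.map_zpowers]
        rw [Subgroup.relIndex, Subgroup.index_eq_card, ← Subgroup.card_top, ← h2, Nat.card_zpowers]
        exact (orderOf_map_dvd _ _).trans
          (orderOf_dvd_of_pow_eq_one (Subtype.ext (by simpa using hA.2 a ha)))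
      obtain ⟨B', hB'A, hB'i, hB'B⟩ : ∃ B' : Subgroup H, B' ≤ A ∧ B'.relIndex A = p ∧ B' ≤ B := by
        rcases (Nat.dvd_prime hp).mp hidx with h | h
        · obtain ⟨m, hm⟩ : ∃ m, n = m + 1 := by
            refine ⟨n - 1, (Nat.succ_pred_eq_of_pos ?_).symm⟩
            by_contra h0
            rw [hn, show n = 0 by omega, pow_zero] at hA2
            exact absurd hA2 (not_le.mpr (Nat.one_lt_pow two_ne_zero hp.one_lt))
          obtain ⟨B0, hB0⟩ := Sylow.exists_subgroup_card_pow_prime (G := A) p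
            (show p ^ m ∣ Nat.card A by rw [hn, hm, pow_succ]; exact dvd_mul_right _ _)
          refine ⟨B0.map A.subtype, Subgroup.map_subtype_le _, ?_,
            (Subgroup.map_subtype_le _).trans (Subgroup.relIndex_eq_one.mp h)⟩
          rw [Subgroup.relIndex, Subgroup.subgroupOf,
            Subgroup.comap_map_eq_self_of_injective A.subtype_injective]
          have h5 := B0.card_mul_index
          rw [hB0, hn, hm, pow_succ] at h5
          exact Nat.eq_of_mul_eq_mul_left (pow_pos hp.pos m) h5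
        · exact ⟨B, hBA, h, le_rfl⟩
      intro y hy
      obtain ⟨hyP, hyC⟩ := Subgroup.mem_inf.mp hy
      have hyK : y ∈ K := hMK (hPM hyP)
      refine ⟨⟨y, hyK⟩, ?_, rfl⟩
      show π ⟨y, hyK⟩ ∈ Subgroup.centralizer ({π ⟨u, huK⟩} : Set (↥K ⧸ N))
      have hc : ⁅u, y⁆ ∈ ⁅U, K ⊓ Subgroup.centralizer (B' : Set H)⁆ :=
        Subgroup.commutator_mem_commutator hu ⟨hyK, Subgroup.centralizer_le hB'B hyC⟩
      have ho : ¬ q ∣ orderOf (⁅(⟨u, huK⟩ : K), (⟨y, hyK⟩ : K)⁆) := fun hd =>
        hcomm B' hB'A hB'i (by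
          rw [← Subgroup.orderOf_coe] at hd
          exact hd.trans (Subgroup.orderOf_dvd_natCard _ hc))
      have hyM : (⟨y, hyK⟩ : K) ∈ M := by
        obtain ⟨z, hz, hzy⟩ := hPM hyP
        rwa [← show z = ⟨y, hyK⟩ from Subtype.ext hzy]
      have hcM : ⁅(⟨u, huK⟩ : K), ⟨y, hyK⟩⁆ ∈ M := by
        rw [commutatorElement_def]
        exact mul_mem ((inferInstance : M.Normal).conj_mem _ hyM _) (inv_mem hyM)
      have := (QuotientGroup.eq_one_iff _).mpr (mem_pPrimeCore_of_coprime hcM ho)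
      rw [← QuotientGroup.mk'_apply, ← hπ, map_commutatorElement,
        commutatorElement_eq_one_iff_mul_comm] at this
      exact mem_centralizer_singleton_iff.mpr this.symm
    obtain ⟨z, hz, hzx⟩ := hS hxP
    obtain rfl : z = ⟨x, hxK⟩ := Subtype.ext hzx
    exact (mem_centralizer_singleton_iff.mp hz).symm
  intro u hu
  refine ⟨⟨u, hU hu⟩, ?_, rfl⟩
  refine mem_pPrimeCore_of_coprime ?_ ?_
  · show π ⟨u, hU hu⟩ ∈ Cfsg.pCore q (↥K ⧸ N)
    haveI := hKs
    have hV := Components.centralizer_generalizedFitting_le (G := ↥K ⧸ N)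
    rw [Components.generalizedFitting_eq_fitting_of_isSolvable inferInstance,
      Components.fitting_eq_pCore_of_pPrimeCore_eq_bot Thompson.pPrimeCore_quotient_pPrimeCore] at hV
    refine hV (mem_centralizer_iff.mpr fun v hv => ?_)
    rw [SetLike.mem_coe, ← Thompson.map_mk'_pPrimePCore] at hv
    obtain ⟨m, hm, rfl⟩ := hv
    -- write `m` as an element of `N P`
    let e : ↥M ≃* ↥MG := M.equivMapOfInjective _ K.subtype_injective
    have hPe : (((Sylow.comapOfInjective P e.toMonoidHom e.injective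
        (fun y _ => ⟨e.symm y, e.apply_symm_apply y⟩) : Sylow q ↥M) : Subgroup ↥M).map
          M.subtype).map K.subtype = PG := by
      ext y
      constructor
      · rintro ⟨_, ⟨w, hw, rfl⟩, rfl⟩
        exact ⟨e w, hw, rfl⟩
      · rintro ⟨w, hw, rfl⟩
        exact ⟨_, ⟨e.symm w, by simpa using hw, rfl⟩, congrArg Subtype.val (e.apply_symm_apply w)⟩
    rw [SetLike.mem_coe, ← Thompson.sylow_pPrimePCore_sup (Sylow.comapOfInjective P e.toMonoidHom
      e.injective (fun y _ => ⟨e.symm y, e.apply_symm_apply y⟩))] at hm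
    obtain ⟨a, ha, b, hb, rfl⟩ := mem_sup_of_normal_left.mp hm
    rw [map_mul, show π a = 1 from (QuotientGroup.eq_one_iff a).mpr ha, one_mul]
    show π b * π ⟨u, hU hu⟩ = π ⟨u, hU hu⟩ * π b
    exact (key b (hPe ▸ ⟨b, hb, rfl⟩) u hu b.2 (hU hu)).eq.symm
  · intro hd
    rw [← Subgroup.orderOf_coe] at hd
    exact hUq (hd.trans (Subgroup.orderOf_dvd_natCard _ hu))

end Cfsg.Agent.S1288
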