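import Cfsg.Statements.S1289
import Cfsg.Agent.Lib.Components.PComponents

set_option autoImplicit false
open Cfsg

namespace Cfsg.Agent.S1289

set_option linter.style.haveILetI false
open Subgroup
open scoped commutatorElement


/-- A p-component K of the finite group X is subnormal, perfect, of order divisible by p, and minimal among the subnormal perfect subgroups of X of order divisible by p. -/
theorem result {X : Type*} [Group X] [Finite X] (p : ℕ) [Fact p.Prime] (K : Subgroup X) (hK : Cfsg.IsPComponent p K) : K.IsSubnormal ∧ ⁅K, K⁆ = K ∧ p ∣ Nat.card ↥K ∧ ∀ H : Subgroup X, H ≤ K → H.IsSubnormal → ⁅H, H⁆ = H → p ∣ Nat.card ↥H → H = K := by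
  set π := QuotientGroup.mk' (Cfsg.pPrimeCore p X) with hπ
  refine ⟨hK.1, Components.pComponent_commutator_eq_self hK, ?_, ?_⟩
  · exact (Components.dvd_card_component Thompson.pPrimeCore_quotient_pPrimeCore hK.2.1).trans
      (Subgroup.card_map_dvd K π)
  · intro H hHK hH hperf hp
    set Kb := K.map π with hKb
    have hle : H.map π ≤ Kb := Subgroup.map_mono hHK
    have hsn : (H.map π).IsSubnormal := hH.map (QuotientGroup.mk'_surjective _)
    rcases Components.isSubnormal_eq_top_or_le_center hK.2.1.2 (hsn.subgroupOf (K := Kb)) with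
      h | h
    · exact hK.2.2 H hH hHK (le_antisymm hle (subgroupOf_eq_top.mp h))
    · exfalso
      have h1 : ⁅H.map π, H.map π⁆ = ⊥ := by
        rw [commutator_eq_bot_iff_le_centralizer]
        intro a ha
        rw [mem_centralizer_iff]
        intro b hb
        exact congrArg Subtype.val (mem_center_iff.mp
          (h (show (⟨a, hle ha⟩ : Kb) ∈ (H.map π).subgroupOf Kb from ha)) ⟨b, hle hb⟩)
      rw [← Subgroup.map_commutator, hperf, Subgroup.map_eq_bot_iff, hπ,
        QuotientGroup.ker_mk'] at h1
      exact (Nat.Prime.coprime_iff_not_dvd Fact.out).mp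
        ((Thompson.card_pPrimeCore_coprime (p := p) (G := X)).symm) (hp.trans (card_dvd_of_le h1))

end Cfsg.Agent.S1289
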