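import Cfsg.Statements.S1293
import Cfsg.Agent.Lib.Components.LBalance

set_option autoImplicit false
open Cfsg

namespace Cfsg.Agent.S1293

/-- Let G be finite with L_{p'}(G) = 1, and H = N_G(P) for a nontrivial p-subgroup P. Then L_{p'}(H) = 1 and O_{p'}(H) ≤ O_{p'}(G). -/
theorem result {G : Type*} [Group G] [Finite G] (p : ℕ) [Fact p.Prime] (hL : Cfsg.pLayer p G = ⊥) (P : Subgroup G) (hP : IsPGroup p ↥P) (hP1 : P ≠ ⊥) : Cfsg.pLayer p ↥(Subgroup.normalizer (P : Set G)) = ⊥ ∧ (Cfsg.pPrimeCore p ↥(Subgroup.normalizer (P : Set G))).map (Subgroup.normalizer (P : Set G)).subtype ≤ Cfsg.pPrimeCore p G := by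
  have hO : Cfsg.pPrimeCore p (G ⧸ Cfsg.pPrimeCore p G) = ⊥ :=
    Thompson.pPrimeCore_quotient_pPrimeCore
  have hE := Components.pLayer_eq_bot_iff.mp hL
  constructor
  · refine (Subgroup.map_eq_bot_iff_of_injective _ (Subgroup.subtype_injective _)).mp
      (le_bot_iff.mp (hL ▸ Components.map_pLayer_normalizer_le hP fun H _ _ L hC =>
        absurd hC (Components.layer_eq_bot_iff.mp hE L)))
  · set π := QuotientGroup.mk' (Cfsg.pPrimeCore p G)
    set D := (Cfsg.pPrimeCore p ↥(Subgroup.normalizer (P : Set G))).map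
      (Subgroup.normalizer (P : Set G)).subtype
    have h1 : D.map π ≤ Cfsg.pCore p (G ⧸ Cfsg.pPrimeCore p G) :=
      ((Subgroup.map_mono Components.map_pPrimeCore_le_localLayerCover).trans
        (Components.map_localLayerCover_le hP)).trans
          (Components.localLayerCover_le_pCore_of_layer_eq_bot hO hE (hP.map π))
    have h2 : (Nat.card (D.map π)).Coprime p :=
      Thompson.card_pPrimeCore_coprime.coprime_dvd_left
        ((Subgroup.card_map_dvd _ _).trans (Subgroup.card_map_dvd _ _))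
    have h3 := Thompson.inf_eq_bot_of_isPGroup_of_coprime Thompson.isPGroup_pCore h2
    rw [inf_eq_right.mpr h1, Subgroup.map_eq_bot_iff, QuotientGroup.ker_mk'] at h3
    exact h3

end Cfsg.Agent.S1293
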