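import Cfsg.Statements.S1300
import Mathlib.Tactic.Group

set_option autoImplicit false
open Cfsg

namespace Cfsg.Agent.S1300

/-- For a finite group G, balance in the sense of commuting involutions is the same as 1-balance for the prime 2. -/
theorem result {G : Type*} [Group G] [Finite G] : Cfsg.IsBalanced G ↔ Cfsg.IsKBalanced 2 1 G := by
  constructor
  · intro hbal A hA hcard b hb hAb
    have : Nontrivial A := (Finite.one_lt_card_iff_nontrivial).mp (by omega)
    obtain ⟨⟨a, haA⟩, ha1⟩ := exists_ne (1 : A)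
    have ha1' : a ≠ 1 := fun h => ha1 (Subtype.ext h)
    have hord : orderOf a = 2 := orderOf_eq_prime (hA.2 a haA) ha1'
    rintro x ⟨hx1, hx2⟩
    have hx3 : x ∈ Cfsg.centralizerPPrimeCore 2 a :=
      Subgroup.mem_iInf.mp hx1 ⟨a, haA, ha1'⟩
    have : x ∈ Cfsg.centralizerPPrimeCore 2 a ⊓ Subgroup.centralizer {b} := ⟨hx3, hx2⟩
    rw [hbal a b hord hb (hAb a haA)] at this
    exact this.1
  · intro hk
    have key : ∀ x y : G, orderOf x = 2 → orderOf y = 2 → x * y = y * x →
        Cfsg.centralizerPPrimeCore 2 x ⊓ Subgroup.centralizer {y} ≤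
          Cfsg.centralizerPPrimeCore 2 y ⊓ Subgroup.centralizer {x} := by
      intro x y hx hy hxy g hg
      have hxs : g ∈ Subgroup.centralizer {x} := Subgroup.map_subtype_le _ hg.1
      refine ⟨?_, hxs⟩
      have hA : Cfsg.IsElementaryAbelian 2 (Subgroup.zpowers x) := by
        refine ⟨inferInstance, ?_⟩
        intro a ha
        exact orderOf_dvd_iff_pow_eq_one.mp (hx ▸ orderOf_dvd_of_mem_zpowers ha)
      have hc : Nat.card (Subgroup.zpowers x) = 2 ^ 1 := by rw [Nat.card_zpowers, hx, pow_one]
      refine hk _ hA hc y hy ?_ ⟨?_, hg.2⟩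
      · intro a ha
        obtain ⟨n, rfl⟩ := Subgroup.mem_zpowers_iff.mp ha
        exact (Commute.zpow_left hxy n).eq
      · refine Subgroup.mem_iInf.mpr ?_
        rintro ⟨a, ha, ha1⟩
        have : Nat.card (Subgroup.zpowers x) = 2 := by rw [hc, pow_one]
        have hax : a = x := by
          obtain ⟨n, rfl⟩ := Subgroup.mem_zpowers_iff.mp ha
          rcases Int.even_or_odd n with ⟨k, rfl⟩ | ⟨k, rfl⟩
          · exfalso
            apply ha1
            rw [← two_mul, zpow_mul, zpow_ofNat, show x ^ 2 = 1 from hx ▸ pow_orderOf_eq_one x, one_zpow]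
          · rw [zpow_add_one, zpow_mul, zpow_ofNat, show x ^ 2 = 1 from hx ▸ pow_orderOf_eq_one x, one_zpow, one_mul]
        subst hax
        exact hg.1
    intro x y hx hy hxy
    exact le_antisymm (key x y hx hy hxy) (key y x hy hx hxy.symm)

end Cfsg.Agent.S1300
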