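import Cfsg.Statements.S1302
import Cfsg.Agent.Lib.Components.Balance
import Cfsg.Agent.Lib.Thompson.PSolvable
import Cfsg.Agent.Lib.PGroup.Basic
import Cfsg.Agent.Lib.PGroup.Commutator
import Cfsg.Agent.Lib.Coprime.Action
import Cfsg.Agent.FG72.Baer

set_option autoImplicit false
open Cfsg

namespace Cfsg.Agent.S1302

set_option linter.style.haveILetI false
open Subgroup
open scoped commutatorElement IsMulCommutative

/-- `P × Q` lemma with fixed points of order `p` only (`p` odd). -/
theorem le_centralizer_of_omega {G : Type*} [Group G] [Finite G] {p : ℕ} [Fact p.Prime] (hp : p ≠ 2)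
    (P Q U : Subgroup G) (hP : IsPGroup p P) (hQ : (Nat.card Q).Coprime p)
    (hPQ : P ≤ Subgroup.normalizer (Q : Set G)) (hU : IsPGroup p U)
    (hPU : P ≤ Subgroup.normalizer (U : Set G)) (hQU : Q ≤ Subgroup.normalizer (U : Set G))
    (hC : ∀ x ∈ U, x ^ p = 1 → x ∈ Subgroup.centralizer (P : Set G) →
      x ∈ Subgroup.centralizer (Q : Set G)) :
    Q ≤ Subgroup.centralizer (U : Set G) := by
  induction hc : Nat.card U using Nat.strong_induction_on generalizing U with
  | _ c IH =>
  rcases eq_or_ne U ⊥ with rfl | hne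
  · intro q _
    exact mem_centralizer_iff.mpr fun x hx => by simp [Subgroup.mem_bot.mp hx]
  have hsmall : ∀ V : Subgroup G, V ≤ U → V ≠ U → P ≤ Subgroup.normalizer (V : Set G) →
      Q ≤ Subgroup.normalizer (V : Set G) → Q ≤ Subgroup.centralizer (V : Set G) := by
    intro V hVU hne' hPV hQV
    refine IH _ ?_ V (hU.to_le hVU) hPV hQV (fun x hx => hC x (hVU hx)) rfl
    rw [← hc]
    exact lt_of_le_of_ne (Subgroup.card_le_of_le hVU)
      fun he => hne' (Subgroup.eq_of_le_of_card_ge hVU he.ge)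
  have hcop : (Nat.card Q).Coprime (Nat.card U) := by
    obtain ⟨n, hn⟩ := IsPGroup.iff_card.mp hU
    rw [hn]; exact hQ.pow_right n
  have hsol : Group.IsSolvable U := Coprime.isSolvable_of_isNilpotent' hU.isNilpotent
  have hnorm : ∀ K : Subgroup U, K.Characteristic →
      P ≤ Subgroup.normalizer (K.map U.subtype : Set G) ∧
        Q ≤ Subgroup.normalizer (K.map U.subtype : Set G) := fun K hK => by
    haveI := hK
    exact ⟨hPU.trans (Components.normalizer_le_normalizer_map_characteristic U K),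
      hQU.trans (Components.normalizer_le_normalizer_map_characteristic U K)⟩
  -- the derived subgroup
  have hD : Q ≤ Subgroup.centralizer ((⁅U, U⁆ : Subgroup G) : Set G) := by
    refine hsmall _ (Subgroup.commutator_le_self U) (fun he => hne ?_) ?_ ?_
    · exact Coprime.eq_bot_of_le_commutator U hU.isNilpotent le_rfl he.ge
    · have := (hnorm (commutator U) inferInstance).1
      rwa [Subgroup.map_subtype_commutator] at this
    · have := (hnorm (commutator U) inferInstance).2
      rwa [Subgroup.map_subtype_commutator] at this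
  by_cases hfull : ⁅U, Q⁆ = U
  swap
  · have hQV : Q ≤ Subgroup.normalizer ((⁅U, Q⁆ : Subgroup G) : Set G) :=
      Coprime.le_normalizer_commutator_right Q U
    have hPV : P ≤ Subgroup.normalizer ((⁅U, Q⁆ : Subgroup G) : Set G) := by
      refine Coprime.le_normalizer_of_conj_mem fun g hg x hx => ?_
      refine ((Subgroup.commutator_le.mpr fun u hu y hy => ?_) :
        ⁅U, Q⁆ ≤ (⁅U, Q⁆ : Subgroup G).comap ((MulAut.conj g : G ≃* G) : G →* G)) hx
      show g * ⁅u, y⁆ * g⁻¹ ∈ (⁅U, Q⁆ : Subgroup G)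
      have := Subgroup.commutator_mem_commutator (Coprime.conj_mem_of_mem_normalizer (hPU hg) hu)
        (Coprime.conj_mem_of_mem_normalizer (hPQ hg) hy)
      simpa [commutatorElement_def, mul_assoc] using this
    have h1 := hsmall _ (Coprime.commutator_le_of_le_normalizer hQU) hfull hPV hQV
    have h2 : ⁅⁅U, Q⁆, Q⁆ = ⊥ :=
      commutator_eq_bot_iff_le_centralizer.mpr (Subgroup.le_centralizer_iff.mp h1)
    rw [Coprime.commutator_commutator_eq Q U hQU hcop (Or.inr hsol), Subgroup.commutator_comm] at h2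
    exact commutator_eq_bot_iff_le_centralizer.mp h2
  -- class two
  have hcl : ⁅⁅U, U⁆, U⁆ = ⊥ := by
    have hW : ⁅U, ⁅U, U⁆⁆ ≤ ⁅U, U⁆ := Subgroup.commutator_mono le_rfl (Subgroup.commutator_le_self U)
    have a1 : ⁅⁅U, ⁅U, U⁆⁆, Q⁆ = ⊥ := commutator_eq_bot_iff_le_centralizer.mpr
      (hW.trans (Subgroup.le_centralizer_iff.mp hD))
    have a2 : ⁅⁅⁅U, U⁆, Q⁆, U⁆ = ⊥ := by
      rw [show ⁅(⁅U, U⁆ : Subgroup G), Q⁆ = ⊥ from
        commutator_eq_bot_iff_le_centralizer.mpr (Subgroup.le_centralizer_iff.mp hD),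
        Subgroup.commutator_bot_left]
    have a3 := Subgroup.commutator_commutator_eq_bot_of_rotate a1 a2
    rwa [Subgroup.commutator_comm Q U, hfull, Subgroup.commutator_comm U] at a3
  have hcenter : commutator U ≤ Subgroup.center U := by
    rw [← Subgroup.commutator_top_right_eq_bot_iff_le_center]
    refine Subgroup.map_injective U.subtype_injective ?_
    rw [Subgroup.map_commutator, Subgroup.map_subtype_commutator, ← MonoidHom.range_eq_map,
      Subgroup.range_subtype, Subgroup.map_bot, hcl]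
  have hpodd : p ∣ p.choose 2 := Nat.Prime.dvd_choose_self Fact.out two_ne_zero
    (lt_of_le_of_ne (Fact.out : p.Prime).two_le (Ne.symm hp))
  -- the subgroup of elements of order dividing `p`
  have hcomm_pow : ∀ a b : U, a ^ p = 1 → ⁅b, a⁆ ^ p = 1 := fun a b ha => by
    rw [← PGroup.comm_pow_right hcenter, ha, commutatorElement_one_right]
  let Ω : Subgroup U :=
    { carrier := {x | x ^ p = 1}
      one_mem' := one_pow p
      mul_mem' := fun {a b} (ha : a ^ p = 1) (hb : b ^ p = 1) => by
        show (a * b) ^ p = 1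
        obtain ⟨j, hj⟩ := hpodd
        rw [PGroup.mul_pow_classTwo hcenter, ha, hb, hj, pow_mul, hcomm_pow a b ha]
        simp
      inv_mem' := fun {a} (ha : a ^ p = 1) => by
        show a⁻¹ ^ p = 1
        rw [inv_pow, ha, inv_one] }
  haveI hΩc : Ω.Characteristic := characteristic_iff_comap_eq.mpr fun φ => by
    ext x
    show φ x ^ p = 1 ↔ x ^ p = 1
    rw [← map_pow, map_eq_one_iff φ φ.injective]
  by_cases hΩ : Ω.map U.subtype = U
  · refine FG72.le_centralizer_of_classTwo hp P Q U hP hQ hPQ hU hPU hQU hcl ?_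
    intro x hx
    obtain ⟨z, hz, hzx⟩ := hΩ.ge hx.1
    refine hC x hx.1 ?_ hx.2
    rw [← hzx]
    exact (congrArg Subtype.val hz : ((z ^ p : U) : G) = 1)
  have hΩQ := hsmall _ (Subgroup.map_subtype_le _) hΩ (hnorm Ω hΩc).1 (hnorm Ω hΩc).2
  have hUpg : IsPGroup p U := hU
  haveI : Nontrivial U := (Subgroup.nontrivial_iff_ne_bot U).mpr hne
  have hFne : (frattini U).map U.subtype ≠ U := fun he => by
    obtain ⟨M, hM⟩ :=
      (eq_top_or_exists_le_coatom (⊥ : Subgroup U)).resolve_left bot_ne_top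
    refine hM.1.1 (top_le_iff.mp ?_)
    refine le_trans ?_ (frattini_le_coatom hM.1)
    rw [← Subgroup.map_subtype_le_map_subtype, ← MonoidHom.range_eq_map, Subgroup.range_subtype, he]
  have hFQ := hsmall _ (Subgroup.map_subtype_le _) hFne (hnorm (frattini U) inferInstance).1
    (hnorm (frattini U) inferInstance).2
  have hfix : ∀ q ∈ Q, ∀ z ∈ Ω.map U.subtype, q * z = z * q := fun q hq z hz =>
    (mem_centralizer_iff.mp (hΩQ hq) z hz).symm
  -- `u⁻¹ (q u q⁻¹)` has order dividing `p`
  have hd : ⁅U, Q⁆ ≤ Ω.map U.subtype ⊓ U := by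
    refine Subgroup.commutator_le.mpr fun u hu q hq => ?_
    have hw : q * u⁻¹ * q⁻¹ ∈ U := Coprime.conj_mem_of_mem_normalizer (hQU hq) (inv_mem hu)
    let a : U := ⟨u, hu⟩
    let b : U := ⟨q * u⁻¹ * q⁻¹, hw⟩
    have hval : ((a * b : U) : G) = ⁅u, q⁆ := by simp [a, b, commutatorElement_def, mul_assoc]
    have hbp : b ^ p = a⁻¹ ^ p := by
      apply Subtype.ext
      have h1 : ((a⁻¹ ^ p : U) : G) ∈ (frattini U).map U.subtype :=
        ⟨_, PGroup.pow_mem_frattini hUpg _, rfl⟩
      have h2 : q * ((a⁻¹ ^ p : U) : G) = ((a⁻¹ ^ p : U) : G) * q :=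
        (mem_centralizer_iff.mp (hFQ hq) _ h1).symm
      simp only [Subgroup.coe_pow, Subgroup.coe_inv, a, b] at h2 ⊢
      rw [conj_pow, h2, mul_inv_cancel_right]
    have habp : (a * b) ^ p = 1 := by
      obtain ⟨j, hj⟩ := hpodd
      have hba : ⁅b, a⁆ ^ p = 1 := by
        rw [← PGroup.comm_pow_left hcenter, hbp, inv_pow, PGroup.comm_inv_left hcenter,
          PGroup.comm_pow_left hcenter, commutatorElement_self, one_pow, inv_one]
      rw [PGroup.mul_pow_classTwo hcenter, hbp, hj, pow_mul, hba]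
      simp
    exact ⟨⟨a * b, habp, hval⟩, hval ▸ (a * b).2⟩
  rw [hfull] at hd
  exact absurd (le_antisymm (Subgroup.map_subtype_le _) (hd.trans inf_le_left)) hΩ


/-- Let X be a finite p-constrained group, p an odd prime, and A an abelian p-subgroup of X containing every element of order p of C_X(A). Then every subgroup of X of order prime to p that is normalized by A lies in O_{p'}(X). -/
theorem result {X : Type*} [Group X] [Finite X] (p : ℕ) [Fact p.Prime] (hp : p ≠ 2) (hX : Cfsg.IsPConstrained p X) (A : Subgroup X) (hA : IsMulCommutative ↥A) (hAp : IsPGroup p ↥A) (hΩ : ∀ x ∈ Subgroup.centralizer (A : Set X), orderOf x = p → x ∈ A) (Q : Subgroup X) (hQ : ¬ p ∣ Nat.card ↥Q) (hAQ : A ≤ Subgroup.normalizer (Q : Set X)) : Q ≤ Cfsg.pPrimeCore p X := by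
  haveI := hA
  have hpp : p.Prime := Fact.out
  set N := Cfsg.pPrimeCore p X with hN
  set π := QuotientGroup.mk' N with hπ
  set V := Cfsg.pCore p (X ⧸ N) with hV
  have hN' : ¬ p ∣ Nat.card N := fun h =>
    (hpp.coprime_iff_not_dvd.mp Thompson.card_pPrimeCore_coprime.symm) h
  have hnN : ∀ S : Subgroup X, S ≤ Subgroup.normalizer (N : Set X) := fun S => by
    rw [normalizer_eq_top_iff.mpr (inferInstance : N.Normal)]; exact le_top
  have hcopN : ∀ S : Subgroup X, IsPGroup p S → (Nat.card S).Coprime (Nat.card N) := fun S hS => by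
    obtain ⟨n, hn⟩ := IsPGroup.iff_card.mp hS
    rw [hn]; exact (hpp.coprime_iff_not_dvd.mpr hN').pow_left n
  -- `C(V) ≤ V`
  have hCV : Subgroup.centralizer (V : Set (X ⧸ N)) ≤ V := by
    intro z hz
    obtain ⟨x, rfl⟩ := QuotientGroup.mk'_surjective N z
    obtain ⟨P⟩ := (inferInstance : Nonempty (Sylow p ↥(Cfsg.pPrimePCore p X)))
    set PX := (P : Subgroup ↥(Cfsg.pPrimePCore p X)).map (Cfsg.pPrimePCore p X).subtype with hPX
    have hPXp : IsPGroup p PX := P.isPGroup'.map _
    obtain ⟨n, hn, hc⟩ := Coprime.exists_fixed_in_coset PX N (hnN _) (hcopN _ hPXp)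
      (Or.inl (Coprime.isSolvable_of_isNilpotent' hPXp.isNilpotent)) x (fun y hy => by
        have hyV : π y ∈ V := by
          obtain ⟨w, hw, rfl⟩ := hy
          exact w.2
        rw [← QuotientGroup.eq_one_iff, ← QuotientGroup.mk'_apply]
        simp only [map_mul, map_inv]
        show (π x)⁻¹ * (π y * π x * (π y)⁻¹) = 1
        rw [mem_centralizer_iff.mp hz _ hyV]
        show (π x)⁻¹ * (π x * π y * (π y)⁻¹) = 1
        group)
    have hxn : x * n ∈ Cfsg.pPrimePCore p X := hX P hc
    have : x ∈ Cfsg.pPrimePCore p X :=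
      (mul_mem_cancel_right (Thompson.pPrimeCore_le_pPrimePCore hn)).mp hxn
    exact this
  set Qb := Q.map π with hQb
  set Ab := A.map π with hAb
  have hQcop : (Nat.card Qb).Coprime p :=
    ((hpp.coprime_iff_not_dvd.mpr hQ).symm).coprime_dvd_left (Subgroup.card_map_dvd _ _)
  have hnV : ∀ S : Subgroup (X ⧸ N), S ≤ Subgroup.normalizer (V : Set (X ⧸ N)) := fun S => by
    rw [normalizer_eq_top_iff.mpr (inferInstance : V.Normal)]; exact le_top
  have hAQb : Ab ≤ Subgroup.normalizer (Qb : Set (X ⧸ N)) :=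
    (Subgroup.map_mono hAQ).trans (Subgroup.le_normalizer_map _)
  have hVp : IsPGroup p V := Thompson.isPGroup_pCore
  have key : Qb ≤ Subgroup.centralizer (V : Set (X ⧸ N)) := by
    refine le_centralizer_of_omega hp Ab Qb V (hAp.map π) hQcop hAQb hVp (hnV _) (hnV _)
      fun z hzV hzp hzA => ?_
    have hzAb : z ∈ Ab := by
      obtain ⟨x, rfl⟩ := QuotientGroup.mk'_surjective N z
      obtain ⟨n, hn, hc⟩ := Coprime.exists_fixed_in_coset A N (hnN _) (hcopN _ hAp)
        (Or.inl inferInstance) x (fun a ha => by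
          rw [← QuotientGroup.eq_one_iff, ← QuotientGroup.mk'_apply]
          simp only [map_mul, map_inv]
          rw [mem_centralizer_iff.mp hzA (QuotientGroup.mk' N a) ⟨a, ha, rfl⟩]
          group)
      set y := x * n with hy
      have hπy : π y = π x := by
        rw [hy, map_mul, show π n = 1 from (QuotientGroup.eq_one_iff n).mpr hn, mul_one]
      have hyp : y ^ p ∈ N := by
        rw [← QuotientGroup.eq_one_iff, ← QuotientGroup.mk'_apply, map_pow]
        show π y ^ p = 1
        rw [hπy]; exact hzp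
      have ho : (orderOf (y ^ p)).Coprime p :=
        (hpp.coprime_iff_not_dvd.mpr hN').symm.coprime_dvd_left (Subgroup.orderOf_dvd_natCard _ hyp)
      set o := orderOf (y ^ p) with hod
      have hzo : y ^ o ∈ A := by
        by_cases h1 : y ^ o = 1
        · rw [h1]; exact one_mem _
        · refine hΩ _ (pow_mem hc o) (orderOf_eq_prime ?_ h1)
          rw [← pow_mul, mul_comm, pow_mul, pow_orderOf_eq_one]
      obtain ⟨m, -, hm⟩ := Nat.exists_mul_mod_eq_one_of_coprime ho hpp.one_lt
      have h2 : (π x ^ o) ^ m = π x := by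
        rw [← pow_mul, ← Nat.mod_add_div (o * m) p, pow_add, pow_mul, hm]
        rw [show π x ^ p = 1 from hzp]
        simp
      show π x ∈ Ab
      rw [← h2, ← hπy, ← map_pow]
      exact pow_mem (Subgroup.mem_map_of_mem π hzo) m
    refine mem_centralizer_iff.mpr fun q (hq : q ∈ Qb) => ?_
    have h1 : q * z * q⁻¹ * z⁻¹ ∈ Qb ⊓ V := by
      refine ⟨?_, mul_mem ((inferInstance : V.Normal).conj_mem z hzV q) (V.inv_mem hzV)⟩
      have := Qb.mul_mem hq
        (Coprime.conj_mem_of_mem_normalizer (hAQb hzAb) (Qb.inv_mem hq))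
      simpa [mul_assoc] using this
    rw [inf_comm, Thompson.inf_eq_bot_of_isPGroup_of_coprime hVp hQcop, Subgroup.mem_bot,
      mul_inv_eq_one, mul_inv_eq_iff_eq_mul] at h1
    exact h1
  intro q hq
  have hqb : π q ∈ Qb := Subgroup.mem_map_of_mem π hq
  have h : π q ∈ V ⊓ Qb := Subgroup.mem_inf.mpr ⟨hCV (key hqb), hqb⟩
  rw [Thompson.inf_eq_bot_of_isPGroup_of_coprime hVp hQcop, Subgroup.mem_bot] at h
  exact (QuotientGroup.eq_one_iff q).mp h

end Cfsg.Agent.S1302
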