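import Cfsg.Statements.S1303
import Mathlib.Tactic.Group
import Mathlib.Data.Matrix.Basic
import Mathlib.Data.Matrix.Mul
import Mathlib.Data.ZMod.Basic
import Mathlib.Data.Fintype.Pi
import Mathlib.Tactic.IntervalCases
import Mathlib.GroupTheory.OrderOfElement

set_option autoImplicit false
open Cfsg

namespace Cfsg.Agent.S1303

local notation "SL" => Matrix.SpecialLinearGroup (Fin 2) (ZMod 3)

/-- The group X = SL(2, 3): it is 2-constrained, O_{2'}(X) = 1, its centre A = Z(X) contains every involution of X = C_X(A), and X has a subgroup of order 3 (normalized by A) not contained in O_{2'}(X). -/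
theorem result : Cfsg.IsPConstrained 2 (Matrix.SpecialLinearGroup (Fin 2) (ZMod 3)) ∧ Cfsg.pPrimeCore 2 (Matrix.SpecialLinearGroup (Fin 2) (ZMod 3)) = ⊥ ∧ (∀ t : Matrix.SpecialLinearGroup (Fin 2) (ZMod 3), orderOf t = 2 → t ∈ Subgroup.center (Matrix.SpecialLinearGroup (Fin 2) (ZMod 3))) ∧ ∃ Q : Subgroup (Matrix.SpecialLinearGroup (Fin 2) (ZMod 3)), Nat.card ↥Q = 3 ∧ ¬ (Q ≤ Cfsg.pPrimeCore 2 (Matrix.SpecialLinearGroup (Fin 2) (ZMod 3))) := by
  have hQmul : ∀ g h : SL, g ^ 4 = 1 → h ^ 4 = 1 → (g * h) ^ 4 = 1 := by decide +kernel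
  have hQcent : ∀ g : SL, (∀ h : SL, h ^ 4 = 1 → h * g = g * h) → g ^ 4 = 1 := by decide +kernel
  have h3 : ∀ g : SL, g ^ 3 = 1 → g ≠ 1 → ∃ h : SL, h * g * h⁻¹ ≠ 1 ∧ h * g * h⁻¹ ≠ g ∧ h * g * h⁻¹ ≠ g * g := by
    decide +kernel
  have h2 : ∀ t : SL, t ^ 2 = 1 → ∀ g : SL, g * t = t * g := by decide +kernel
  obtain ⟨g₀, hg₀, hg₀3⟩ : ∃ g : SL, g ≠ 1 ∧ g ^ 3 = 1 := by decide +kernel
  have hcard : Nat.card SL = 24 := by
    rw [Nat.card_eq_fintype_card]; decide +kernel
  have hcore : Cfsg.pPrimeCore 2 SL = ⊥ := by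
    refine le_antisymm (sSup_le ?_) bot_le
    rintro N ⟨hN, hcop⟩
    have hdvd : Nat.card N ∣ 24 := hcard ▸ N.card_subgroup_dvd_card
    have hodd : Nat.card N % 2 = 1 := Nat.odd_iff.mp (Nat.coprime_two_right.mp hcop)
    have hle : Nat.card N ≤ 24 := Nat.le_of_dvd (by norm_num) hdvd
    have h13 : Nat.card N = 1 ∨ Nat.card N = 3 := by
      generalize Nat.card N = n at *
      interval_cases n <;> omega
    rcases h13 with h1 | h1
    · exact le_of_eq (Subgroup.card_eq_one.mp h1)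
    · intro g hg
      by_contra hg1
      have hg3 : g ^ 3 = 1 := by
        have := congrArg (Subgroup.subtype N) (pow_card_eq_one' (x := (⟨g, hg⟩ : N)))
        rw [h1] at this; simpa using this
      obtain ⟨h, a, b, c⟩ := h3 g hg3 hg1
      haveI : Fact (Nat.Prime 3) := ⟨by norm_num⟩
      have hord : orderOf g = 3 := orderOf_eq_prime hg3 hg1
      have hz : Subgroup.zpowers g = N := by
        apply Subgroup.eq_of_le_of_card_ge (Subgroup.zpowers_le.mpr hg)
        rw [Nat.card_zpowers, hord, h1]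
      have hm := hN.conj_mem g hg h
      rw [← hz, (isOfFinOrder_of_finite g).mem_zpowers_iff_mem_range_orderOf, hord] at hm
      simp only [Finset.mem_image, Finset.mem_range] at hm
      obtain ⟨k, hk, hk'⟩ := hm
      interval_cases k
      · exact a (by rw [← hk', pow_zero])
      · exact b (by rw [← hk', pow_one])
      · exact c (by rw [← hk', pow_two])
  let Q8 : Subgroup SL :=
    { carrier := {g | g ^ 4 = 1}
      mul_mem' := fun {a b} ha hb => hQmul a b ha hb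
      one_mem' := one_pow 4
      inv_mem' := fun {a} ha => by simp only [Set.mem_ofPred_eq, inv_pow] at *; rw [ha, inv_one] }
  have hQn : Q8.Normal := ⟨fun a ha g => by
    show (g * a * g⁻¹) ^ 4 = 1
    rw [← MulAut.conj_apply, ← map_pow, show a ^ 4 = 1 from ha, map_one]⟩
  have hQ2 : IsPGroup 2 Q8 := fun g => ⟨2, Subtype.ext (show (g : SL) ^ (2 ^ 2) = 1 from g.2)⟩
  have hQle : Q8 ≤ Cfsg.pPrimePCore 2 SL := by
    rw [Cfsg.pPrimePCore, ← Subgroup.map_le_iff_le_comap]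
    exact le_sSup ⟨hQn.map _ (QuotientGroup.mk'_surjective _), hQ2.map _⟩
  refine ⟨?_, hcore, ?_, ?_⟩
  · intro P g hg
    apply hQle
    refine hQcent g (fun h hh => hg h ?_)
    haveI : (Q8.subgroupOf (Cfsg.pPrimePCore 2 SL)).Normal := hQn.subgroupOf _
    have hp : IsPGroup 2 (Q8.subgroupOf (Cfsg.pPrimePCore 2 SL)) :=
      hQ2.comap_of_injective (Cfsg.pPrimePCore 2 SL).subtype (Subgroup.subtype_injective _)
    obtain ⟨P', hP'⟩ := hp.exists_le_sylow
    obtain ⟨c, rfl⟩ := MulAction.exists_smul_eq (↥(Cfsg.pPrimePCore 2 SL)) P' P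
    refine ⟨⟨h, hQle hh⟩, ?_, rfl⟩
    show (⟨h, hQle hh⟩ : ↥(Cfsg.pPrimePCore 2 SL)) ∈ (c • P' : Sylow 2 _).toSubgroup
    rw [Sylow.coe_subgroup_smul, Subgroup.mem_pointwise_smul_iff_inv_smul_mem]
    apply hP'
    rw [← map_inv, MulAut.smul_def, MulAut.conj_apply]
    exact Subgroup.Normal.conj_mem inferInstance _ (show (⟨h, hQle hh⟩ : ↥(Cfsg.pPrimePCore 2 SL)) ∈ Q8.subgroupOf _ from hh) _
  · intro t ht
    have h2t : t ^ 2 = 1 := by
      have := pow_orderOf_eq_one t; rwa [ht] at this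
    exact Subgroup.mem_center_iff.mpr (h2 t h2t)
  · refine ⟨Subgroup.zpowers g₀, ?_, ?_⟩
    · haveI : Fact (Nat.Prime 3) := ⟨by norm_num⟩
      rw [Nat.card_zpowers]; exact orderOf_eq_prime hg₀3 hg₀
    · rw [hcore]
      intro hle
      exact hg₀ (hle (Subgroup.mem_zpowers g₀))

end Cfsg.Agent.S1303
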