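import Cfsg.Statements.S1305
import Cfsg.Agent.Lib.Components.BProperty
import Cfsg.Agent.Lib.Components.InvolutionOnLayer

set_option autoImplicit false
open Cfsg

namespace Cfsg.Agent.S1305

/-- Let G be a finite group of component type with the B-property and no nontrivial normal subgroup of odd order. Let a be an involution and K a component of C_G(a) such that (a) |K| is maximal among the orders of components of centralizers of involutions of G, (b) subject to (a) the 2-rank of the centralizer of K in C_G(a) is as large as possible, and (c) K has 2-rank at least 2. If B is an elementary abelian 2-subgroup of that centralizer of the largest possible order, then K is a component of C_G(b) for every non-identity b ∈ B. -/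
theorem result {G : Type*} [Group G] [Finite G] (hO : Cfsg.oddCore G = ⊥) (hB : Cfsg.HasBProperty G) (hct : Cfsg.IsComponentType G) (a : G) (ha : orderOf a = 2) (K : Subgroup G) (hKa : K ≤ Subgroup.centralizer ({a} : Set G)) (hK : Cfsg.IsComponent (K.subgroupOf (Subgroup.centralizer ({a} : Set G)))) (hmax : ∀ y : G, orderOf y = 2 → ∀ K' : Subgroup G, K' ≤ Subgroup.centralizer ({y} : Set G) → Cfsg.IsComponent (K'.subgroupOf (Subgroup.centralizer ({y} : Set G))) → Nat.card ↥K' ≤ Nat.card ↥K ∧ (Nat.card ↥K' = Nat.card ↥K → ∀ k : ℕ, Cfsg.PRankLE 2 k ↥(Subgroup.centralizer ({a} : Set G) ⊓ Subgroup.centralizer (K : Set G)) → Cfsg.PRankLE 2 k ↥(Subgroup.centralizer ({y} : Set G) ⊓ Subgroup.centralizer (K' : Set G)))) (hrk : ¬ Cfsg.PRankLE 2 1 ↥K) (B : Subgroup G) (hBle : B ≤ Subgroup.centralizer ({a} : Set G) ⊓ Subgroup.centralizer (K : Set G)) (hBel : Cfsg.IsElementaryAbelian 2 B) (hBmax : ∀ B' : Subgroup G, B' ≤ Subgroup.centralizer ({a} : Set G) ⊓ Subgroup.centralizer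 (K : Set G) → Cfsg.IsElementaryAbelian 2 B' → Nat.card ↥B' ≤ Nat.card ↥B) (b : G) (hb : b ∈ B) (hb1 : b ≠ 1) : K ≤ Subgroup.centralizer ({b} : Set G) ∧ Cfsg.IsComponent (K.subgroupOf (Subgroup.centralizer ({b} : Set G))) := by
  classical
  haveI : Fact (Nat.Prime 2) := ⟨Nat.prime_two⟩
  have hb2 : b ^ 2 = 1 := hBel.2 b hb
  have hbo : orderOf b = 2 := orderOf_eq_prime hb2 hb1
  obtain ⟨hbCa, hbCK⟩ := Subgroup.mem_inf.mp (hBle hb)
  have hab : a * b = b * a := (Subgroup.mem_centralizer_singleton_iff.mp hbCa).symm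
  have hKb : K ≤ Subgroup.centralizer ({b} : Set G) := fun k hk =>
    Subgroup.mem_centralizer_singleton_iff.mpr (Subgroup.mem_centralizer_iff.mp hbCK k hk)
  refine ⟨hKb, ?_⟩
  set X := Subgroup.centralizer ({b} : Set G) with hX
  set a' : ↥X := ⟨a, Subgroup.mem_centralizer_singleton_iff.mpr hab⟩ with ha'
  set K' := K.subgroupOf X with hK'
  set H := Subgroup.centralizer ({a} : Set G) ⊓ X with hH
  have hCa' : Subgroup.centralizer ({a'} : Set ↥X) = H.subgroupOf X := by
    ext ⟨x, hx⟩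
    simp only [Subgroup.mem_centralizer_singleton_iff, Subgroup.mem_subgroupOf, hH, Subgroup.mem_inf,
      ha', Subtype.ext_iff, Subgroup.coe_mul, hx, and_true]
  have hKH : Cfsg.IsComponent (K.subgroupOf H) := by
    refine (Components.componentIn_subgroupOf_iff (inf_le_left : H ≤ _)).mp ?_
    exact Components.component_subgroupOf hK (fun k hk =>
      Subgroup.mem_inf.mpr ⟨k.2, hKb hk⟩)
  have hK'c : Cfsg.IsComponent (K'.subgroupOf (Subgroup.centralizer ({a'} : Set ↥X))) := by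
    rw [hCa']
    exact (Components.componentIn_subgroupOf_iff (inf_le_right : H ≤ X)).mpr hKH
  have hK'le : K' ≤ Subgroup.centralizer ({a'} : Set ↥X) := fun k hk =>
    Subgroup.mem_centralizer_singleton_iff.mpr
      (Subtype.ext (Subgroup.mem_centralizer_singleton_iff.mp (hKa hk)))
  have hKeven : 2 ∣ Nat.card ↥K := by
    by_contra hodd
    apply hrk
    intro E _ hE
    have h1 : (Nat.card ↥E) = 1 := by
      by_contra h1
      haveI : Nontrivial ↥E := Finite.one_lt_card_iff_nontrivial.mp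
        (lt_of_le_of_ne Nat.card_pos (Ne.symm h1))
      obtain ⟨⟨e, he⟩, he1⟩ := exists_ne (1 : ↥E)
      have : orderOf e = 2 := orderOf_eq_prime (hE e he) fun h => he1 (Subtype.ext h)
      exact hodd (this ▸ orderOf_dvd_natCard e)
    rw [h1]; norm_num
  have hKE := Components.subgroupOf_le_layer_of_hasBProperty hO hB ha hbo hab hKa hKb hK'c hKeven
  have ha'2 : a' * a' = 1 := Subtype.ext (by
    show a * a = 1
    rw [← pow_two, ← ha]; exact pow_orderOf_eq_one a)
  obtain ⟨L, hL, hcase⟩ := Components.exists_component_of_componentIn ha'2 hK'le hK'c hKE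
  -- the component `L` as a subgroup of `G`
  set L₁ := L.map X.subtype with hL₁
  have hL₁X : L₁ ≤ X := Subgroup.map_subtype_le L
  have hL₁o : L₁.subgroupOf X = L := Subgroup.comap_map_eq_self_of_injective X.subtype_injective L
  obtain ⟨hLK, hLrank⟩ := hmax b hbo L₁ hL₁X (hL₁o.symm ▸ hL)
  have hcL : Nat.card ↥L₁ = Nat.card ↥L := Subgroup.card_map_of_injective X.subtype_injective
  have hcK : Nat.card ↥K' = Nat.card ↥K :=
    Nat.card_congr (Subgroup.subgroupOfEquivOfLe hKb).toEquiv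
  rcases hcase with hle | ⟨hswap, hdiag⟩
  · -- `K = L`
    have : K' = L := Subgroup.eq_of_le_of_card_ge hle (by rw [← hcL, hcK]; exact hLK)
    rw [this]; exact hL
  exfalso
  set La := L.map (MulAut.conj a').toMonoidHom with hLa
  have hLac : Cfsg.IsComponent La := Components.component_map_conj a' hL
  have hLLa : ∀ u ∈ L, ∀ v ∈ La, Commute u v := fun u hu v hv =>
    (Subgroup.mem_centralizer_iff.mp
      (Components.component_le_centralizer hL hLac (Ne.symm hswap) hu) v hv).symm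
  have hca : ∀ l ∈ L, a' * l * a'⁻¹ ∈ La := fun l hl => ⟨l, hl, rfl⟩
  -- the diagonal map is a bijection onto `K'`
  let δ : ↥L → ↥X := fun l => (l : ↥X) * (a' * l * a'⁻¹)
  have hsub : (K' : Set ↥X) ⊆ Set.range δ := by
    intro k hk
    obtain ⟨l, hl, rfl⟩ := hdiag k hk
    exact ⟨⟨l, hl⟩, rfl⟩
  haveI : Fintype ↥L := Fintype.ofFinite ↥L
  have hrange : Set.range δ = (K' : Set ↥X) := by
    refine (Set.eq_of_subset_of_ncard_le hsub ?_ (Set.toFinite _)).symm
    calc (Set.range δ).ncard ≤ Nat.card ↥L := by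
          rw [← Nat.card_coe_set_eq]; exact Finite.card_range_le δ
      _ ≤ Nat.card ↥K' := by rw [← hcL, hcK]; exact hLK
      _ = (K' : Set ↥X).ncard := (Nat.card_coe_set_eq (K' : Set ↥X))
  have hcardKL : Nat.card ↥K' = Nat.card ↥L := by
    refine le_antisymm ?_ (by rw [← hcL, hcK]; exact hLK)
    calc Nat.card ↥K' = (K' : Set ↥X).ncard := (Nat.card_coe_set_eq (K' : Set ↥X))
      _ = (Set.range δ).ncard := by rw [hrange]
      _ ≤ Nat.card ↥L := by rw [← Nat.card_coe_set_eq]; exact Finite.card_range_le δ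
  have hinj : Function.Injective δ := by
    let f : ↥L → ↥K' := fun l => ⟨δ l, hrange.le ⟨l, rfl⟩⟩
    have hs : Function.Surjective f := by
      rintro ⟨k, hk⟩
      obtain ⟨l, hl⟩ := hsub hk
      exact ⟨l, Subtype.ext hl⟩
    intro u v huv
    exact ((Nat.bijective_iff_surjective_and_card f).mpr ⟨hs, hcardKL.symm⟩).1 (Subtype.ext huv)
  -- `a ∈ B`
  have hBab : ∀ u ∈ B, ∀ v ∈ B, u * v = v * u := fun u hu v hv =>
    congrArg Subtype.val (hBel.1.is_comm.comm (⟨u, hu⟩ : ↥B) ⟨v, hv⟩)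
  have haC : a ∈ Subgroup.centralizer ({a} : Set G) ⊓ Subgroup.centralizer (K : Set G) := by
    refine Subgroup.mem_inf.mpr ⟨Subgroup.mem_centralizer_singleton_iff.mpr rfl, ?_⟩
    exact Subgroup.mem_centralizer_iff.mpr fun k hk =>
      Subgroup.mem_centralizer_singleton_iff.mp (hKa hk)
  have elem : ∀ (s : Set G), (∀ u ∈ s, ∀ v ∈ s, u * v = v * u) → (∀ u ∈ s, u ^ 2 = 1) →
      Cfsg.IsElementaryAbelian 2 (Subgroup.closure s) := by
    intro s hc hs
    have hcm : IsMulCommutative (Subgroup.closure s) := Subgroup.isMulCommutative_closure hc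
    refine ⟨hcm, fun u hu => ?_⟩
    induction hu using Subgroup.closure_induction with
    | mem u hu => exact hs u hu
    | one => simp
    | mul u v hu hv ihu ihv =>
      have : Commute u v := congrArg Subtype.val
        (hcm.is_comm.comm (⟨u, hu⟩ : Subgroup.closure s) ⟨v, hv⟩)
      rw [this.mul_pow, ihu, ihv, one_mul]
    | inv u _ ihu => rw [inv_pow, ihu, inv_one]
  have haB : a ∈ B := by
    have hle : Subgroup.closure ((B : Set G) ∪ {a}) ≤
        Subgroup.centralizer ({a} : Set G) ⊓ Subgroup.centralizer (K : Set G) :=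
      (Subgroup.closure_le _).mpr (Set.union_subset hBle (Set.singleton_subset_iff.mpr haC))
    have hcom : ∀ u ∈ B, u * a = a * u := fun u hu =>
      Subgroup.mem_centralizer_singleton_iff.mp (Subgroup.mem_inf.mp (hBle hu)).1
    have he := elem ((B : Set G) ∪ {a}) (by
        rintro u (hu | hu) v (hv | hv)
        · exact hBab u hu v hv
        · obtain rfl : v = a := hv; exact hcom u hu
        · obtain rfl : u = a := hu; exact (hcom v hv).symm
        · obtain rfl : u = a := hu; obtain rfl : v = u := hv; rfl) (by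
        rintro u (hu | hu)
        · exact hBel.2 u hu
        · obtain rfl : u = a := hu; rw [← ha]; exact pow_orderOf_eq_one u)
    have heq : B = Subgroup.closure ((B : Set G) ∪ {a}) :=
      Subgroup.eq_of_le_of_card_ge (fun u hu => Subgroup.subset_closure (Or.inl hu))
        (hBmax _ hle he)
    rw [heq]; exact Subgroup.subset_closure (Or.inr rfl)
  -- the normalizer of `L` in `B`
  set B₀ := B ⊓ (Subgroup.normalizer (L : Set ↥X)).map X.subtype with hB₀
  have hBX : B ≤ X := fun u hu =>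
    Subgroup.mem_centralizer_singleton_iff.mpr (hBab u hu b hb)
  have hBfix : ∀ β : ↥X, (β : G) ∈ B → ∀ l : ↥L, β * δ l * β⁻¹ = δ l := by
    intro β hβ l
    have h1 : ((δ l : ↥X) : G) ∈ K := hrange.le ⟨l, rfl⟩
    apply Subtype.ext
    show (β : G) * (δ l : G) * (β : G)⁻¹ = (δ l : G)
    rw [← Subgroup.mem_centralizer_iff.mp (Subgroup.mem_inf.mp (hBle hβ)).2 _ h1]
    group
  have hBa' : ∀ β : ↥X, (β : G) ∈ B → Commute β a' := fun β hβ =>
    Subtype.ext (hBab _ hβ a haB)
  have hperm : ∀ β : ↥X, (β : G) ∈ B → β ∈ Subgroup.normalizer (L : Set ↥X) ∨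
      a' * β ∈ Subgroup.normalizer (L : Set ↥X) := by
    intro β hβ
    set M := L.map (MulAut.conj β).toMonoidHom with hM
    have hMc : Cfsg.IsComponent M := Components.component_map_conj β hL
    by_cases h1 : M = L
    · exact Or.inl (Components.map_conj_eq_iff_mem_normalizer.mp h1)
    by_cases h2 : M = La
    · right
      rw [← Components.map_conj_eq_iff_mem_normalizer, ← Components.map_conj_map_conj, ← hM, h2,
        hLa, Components.map_conj_map_conj, ha'2, Components.map_conj_one]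
    exfalso
    -- otherwise `L` would be abelian
    apply Components.not_isMulCommutative_of_isQuasisimple hL.2
    refine ⟨⟨fun u v => ?_⟩⟩
    have hM' : M.map (MulAut.conj a').toMonoidHom ≤ Subgroup.centralizer (L : Set ↥X) := by
      refine Components.component_le_centralizer (Components.component_map_conj a' hMc) hL fun e => h2 ?_
      rw [hLa, ← e, Components.map_conj_map_conj, ha'2, Components.map_conj_one]
    have hMl : M ≤ Subgroup.centralizer (L : Set ↥X) :=
      Components.component_le_centralizer hMc hL h1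
    have h3 : δ u ∈ Subgroup.centralizer (L : Set ↥X) := by
      rw [← hBfix β hβ u]
      have e1 : β * δ u * β⁻¹ = (β * u * β⁻¹) * (a' * (β * u * β⁻¹) * a'⁻¹) := by
        have hc := hBa' β hβ
        calc β * δ u * β⁻¹ = β * u * β⁻¹ * ((β * a') * u * (β * a')⁻¹) := by
              show β * ((u : ↥X) * (a' * u * a'⁻¹)) * β⁻¹ = _
              group
          _ = _ := by rw [hc.eq]; group
      rw [e1]
      exact mul_mem (hMl ⟨u, u.2, rfl⟩) (hM' ⟨_, ⟨u, u.2, rfl⟩, rfl⟩)
    have h4 := Subgroup.mem_centralizer_iff.mp h3 v v.2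
    have h5 : Commute (v : ↥X) (a' * u * a'⁻¹) := hLLa v v.2 _ (hca u u.2)
    apply Subtype.ext
    show (u : ↥X) * v = v * u
    have h6 : Commute (v : ↥X) ((u : ↥X) * (a' * u * a'⁻¹) * (a' * u * a'⁻¹)⁻¹) :=
      (show Commute (v : ↥X) (δ u) from h4).mul_right h5.inv_right
    rw [mul_inv_cancel_right] at h6
    exact h6.eq.symm
  have hB₀cent : ∀ β : ↥X, (β : G) ∈ B → β ∈ Subgroup.normalizer (L : Set ↥X) →
      ∀ l ∈ L, β * l * β⁻¹ = l := by
    intro β hβ hN l hl
    have hl' := (Subgroup.mem_normalizer_iff.mp hN l).mp hl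
    have h := hBfix β hβ ⟨l, hl⟩
    have e1 : δ ⟨_, hl'⟩ = β * δ ⟨l, hl⟩ * β⁻¹ := by
      show β * l * β⁻¹ * (a' * (β * l * β⁻¹) * a'⁻¹) = β * (l * (a' * l * a'⁻¹)) * β⁻¹
      calc β * l * β⁻¹ * (a' * (β * l * β⁻¹) * a'⁻¹)
          = β * l * β⁻¹ * ((a' * β) * l * (a' * β)⁻¹) := by group
        _ = β * (l * (a' * l * a'⁻¹)) * β⁻¹ := by rw [← (hBa' β hβ).eq]; group
    rw [h] at e1
    exact congrArg Subtype.val (hinj e1)
  have hidx : Nat.card ↥B ≤ 2 * Nat.card ↥B₀ := by
    let f : Bool × ↥B₀ → ↥B := fun q => match q.1 with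
      | true => ⟨q.2, (Subgroup.mem_inf.mp q.2.2).1⟩
      | false => ⟨a * q.2, mul_mem haB (Subgroup.mem_inf.mp q.2.2).1⟩
    have hf : Function.Surjective f := by
      rintro ⟨β, hβ⟩
      rcases hperm ⟨β, hBX hβ⟩ hβ with h | h
      · exact ⟨(true, ⟨β, Subgroup.mem_inf.mpr ⟨hβ, ⟨_, h, rfl⟩⟩⟩), rfl⟩
      · refine ⟨(false, ⟨a * β, Subgroup.mem_inf.mpr ⟨mul_mem haB hβ, ⟨_, h, rfl⟩⟩⟩), Subtype.ext ?_⟩
        show a * (a * β) = β
        rw [← mul_assoc, show a * a = 1 from congrArg Subtype.val ha'2, one_mul]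
    have := Nat.card_le_card_of_surjective f hf
    rwa [Nat.card_prod, Nat.card_eq_fintype_card (α := Bool), Fintype.card_bool] at this
  -- four-subgroup of `L`, moved to the conjugate
  have hLrk : ¬ Cfsg.PRankLE 2 1 ↥L := by
    intro h
    apply hrk
    let δK : ↥L ≃* ↥K := (MulEquiv.ofBijective (MonoidHom.mk' (fun l => (⟨δ l, hrange.le ⟨l, rfl⟩⟩ : ↥K'))
      (fun u v => Subtype.ext (by
        have hc := (hLLa v v.2 _ (hca u u.2)).eq
        show ((u * v : ↥L) : ↥X) * (a' * ((u * v : ↥L) : ↥X) * a'⁻¹) =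
          (u : ↥X) * (a' * u * a'⁻¹) * ((v : ↥X) * (a' * v * a'⁻¹))
        calc ((u * v : ↥L) : ↥X) * (a' * ((u * v : ↥L) : ↥X) * a'⁻¹)
            = (u : ↥X) * ((v : ↥X) * (a' * u * a'⁻¹)) * (a' * v * a'⁻¹) := by
              simp only [Subgroup.coe_mul]; group
          _ = _ := by rw [hc]; group)))
      ⟨fun u v huv => hinj (congrArg Subtype.val huv), fun k => by
        obtain ⟨l, hl⟩ := hsub k.2
        exact ⟨l, Subtype.ext hl⟩⟩).trans (Subgroup.subgroupOfEquivOfLe hKb)
    intro E hEc hE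
    haveI := hEc
    have := h (E.map δK.symm.toMonoidHom) inferInstance (by
      rintro _ ⟨e, he, rfl⟩
      rw [← map_pow, hE e he, map_one])
    rwa [Subgroup.card_map_of_injective δK.symm.injective] at this
  obtain ⟨E, hEc, hE2, hEcard⟩ : ∃ E : Subgroup ↥L, IsMulCommutative E ∧ (∀ e ∈ E, e ^ 2 = 1) ∧
      2 < Nat.card E := by
    by_contra hcon
    exact hLrk fun E hEc hE => by
      by_contra h
      exact hcon ⟨E, hEc, hE, by simpa using h⟩
  let σ : ↥L →* G := (X.subtype.comp (MulAut.conj a').toMonoidHom).comp L.subtype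
  have hσ : Function.Injective σ :=
    (X.subtype_injective.comp (MulAut.conj a').injective).comp L.subtype_injective
  set E₂ := E.map σ with hE₂
  have hE₂c : Nat.card ↥E₂ = Nat.card ↥E := Subgroup.card_map_of_injective hσ
  have hE₂comm : ∀ u ∈ E₂, ∀ v ∈ E₂, u * v = v * u := by
    rintro _ ⟨u, hu, rfl⟩ _ ⟨v, hv, rfl⟩
    rw [← map_mul, ← map_mul]
    exact congrArg σ (congrArg Subtype.val (hEc.is_comm.comm (⟨u, hu⟩ : E) ⟨v, hv⟩))
  have hE₂X : ∀ u ∈ E₂, ∃ l ∈ L, u = ((a' * l * a'⁻¹ : ↥X) : G) ∧ l ^ 2 = 1 := by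
    rintro _ ⟨u, hu, rfl⟩
    exact ⟨u, u.2, rfl, by rw [← Subgroup.coe_pow, hE2 u hu, Subgroup.coe_one]⟩
  have hB₀E : ∀ u ∈ B₀, ∀ v ∈ E₂, u * v = v * u := by
    intro u hu v hv
    obtain ⟨huB, β, hβN, rfl⟩ := Subgroup.mem_inf.mp hu
    obtain ⟨l, hl, rfl, -⟩ := hE₂X v hv
    have h1 : Commute β l := mul_inv_eq_iff_eq_mul.mp (hB₀cent β huB hβN l hl)
    exact congrArg Subtype.val ((hBa' β huB).mul_right h1 |>.mul_right (hBa' β huB).inv_right).eq
  set U := Subgroup.closure ((B₀ : Set G) ∪ (E₂ : Set G)) with hU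
  have hUel : Cfsg.IsElementaryAbelian 2 U := elem _ (by
      rintro u (hu | hu) v (hv | hv)
      · exact hBab u (Subgroup.mem_inf.mp hu).1 v (Subgroup.mem_inf.mp hv).1
      · exact hB₀E u hu v hv
      · exact (hB₀E v hv u hu).symm
      · exact hE₂comm u hu v hv) (by
      rintro u (hu | hu)
      · exact hBel.2 u (Subgroup.mem_inf.mp hu).1
      · obtain ⟨l, hl, rfl, hl2⟩ := hE₂X u hu
        rw [← Subgroup.coe_pow, conj_pow, hl2, mul_one, mul_inv_cancel, Subgroup.coe_one])
  have hUle : U ≤ X ⊓ Subgroup.centralizer (L₁ : Set G) := by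
    refine (Subgroup.closure_le _).mpr ?_
    rintro u (hu | hu)
    · obtain ⟨huB, β, hβN, rfl⟩ := Subgroup.mem_inf.mp hu
      refine Subgroup.mem_inf.mpr ⟨β.2, Subgroup.mem_centralizer_iff.mpr ?_⟩
      rintro _ ⟨l, hl, rfl⟩
      exact (congrArg Subtype.val (mul_inv_eq_iff_eq_mul.mp (hB₀cent β huB hβN l hl)) :).symm
    · obtain ⟨m, hm, rfl, -⟩ := hE₂X u hu
      refine Subgroup.mem_inf.mpr ⟨Subtype.property _, Subgroup.mem_centralizer_iff.mpr ?_⟩
      rintro _ ⟨l, hl, rfl⟩
      exact congrArg Subtype.val (hLLa l hl _ (hca m hm)).eq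
  -- count
  have hdisj : ∀ u ∈ B₀, u ∈ E₂ → u = 1 := by
    intro u hu hu'
    obtain ⟨huB, β, hβN, rfl⟩ := Subgroup.mem_inf.mp hu
    obtain ⟨l, hl, he, hl2⟩ := hE₂X _ hu'
    have he' : β = a' * l * a'⁻¹ := Subtype.ext he
    have hβl : β = l := by
      have h1 : a' * β * a'⁻¹ = β := by rw [← (hBa' β huB).eq, mul_inv_cancel_right]
      rw [← h1, he', show a' * (a' * l * a'⁻¹) * a'⁻¹ = (a' * a') * l * (a' * a')⁻¹ by group, ha'2,
        one_mul, inv_one, mul_one]
    have h2 : δ ⟨l, hl⟩ = δ ⟨1, one_mem L⟩ := by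
      show (l : ↥X) * (a' * l * a'⁻¹) = 1 * (a' * 1 * a'⁻¹)
      rw [← he', hβl, ← pow_two, hl2]
      simp
    have h3 : l = 1 := congrArg Subtype.val (hinj h2)
    rw [hβl, h3]; rfl
  have hUcard : Nat.card ↥B₀ * Nat.card ↥E₂ ≤ Nat.card ↥U := by
    rw [← Nat.card_prod]
    refine Nat.card_le_card_of_injective (fun q : ↥B₀ × ↥E₂ => (⟨(q.1 : G) * q.2,
      mul_mem (Subgroup.subset_closure (Or.inl q.1.2)) (Subgroup.subset_closure (Or.inr q.2.2))⟩ : ↥U)) ?_
    intro q r h
    have h' : (q.1 : G) * q.2 = r.1 * r.2 := congrArg Subtype.val h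
    have h2 : (r.1 : G)⁻¹ * q.1 = r.2 * (q.2 : G)⁻¹ := by
      calc (r.1 : G)⁻¹ * q.1 = (r.1 : G)⁻¹ * (q.1 * q.2) * (q.2 : G)⁻¹ := by group
        _ = r.2 * (q.2 : G)⁻¹ := by rw [h']; group
    have h3 := hdisj _ (mul_mem (inv_mem r.1.2) q.1.2) (h2 ▸ mul_mem r.2.2 (inv_mem q.2.2))
    refine Prod.ext (Subtype.ext (inv_mul_eq_one.mp h3).symm) (Subtype.ext ?_)
    exact (mul_inv_eq_one.mp (h2.symm.trans h3)).symm
  -- the rank of `C_G(a) ∩ C_G(K)` is that of `B`
  obtain ⟨m, hm⟩ := IsPGroup.iff_card.mp (show IsPGroup 2 ↥B from fun u =>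
    ⟨1, Subtype.ext (by simpa using hBel.2 u u.2)⟩)
  set D := Subgroup.centralizer ({a} : Set G) ⊓ Subgroup.centralizer (K : Set G) with hD
  have hrkD : Cfsg.PRankLE 2 m ↥D := by
    intro A hAc hA
    haveI := hAc
    rw [← Subgroup.card_map_of_injective D.subtype_injective, ← hm]
    refine hBmax _ (Subgroup.map_subtype_le A) ⟨inferInstance, ?_⟩
    rintro _ ⟨u, hu, rfl⟩
    rw [← map_pow, hA u hu, map_one]
  have hrkU := hLrank (by rw [hcL, ← hcardKL, hcK]) m hrkD
  haveI := hUel.1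
  have hUb := hrkU (U.subgroupOf _) inferInstance (fun u hu => Subtype.ext (by simpa using hUel.2 u hu))
  rw [Nat.card_congr (Subgroup.subgroupOfEquivOfLe hUle).toEquiv, ← hm] at hUb
  have hB₀pos : 0 < Nat.card ↥B₀ := Nat.card_pos
  have h3 : 3 ≤ Nat.card ↥E₂ := by rw [hE₂c]; exact hEcard
  have h4 : Nat.card ↥B₀ * 3 ≤ Nat.card ↥B₀ * Nat.card ↥E₂ := Nat.mul_le_mul_left _ h3
  omega

end Cfsg.Agent.S1305
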