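import Cfsg.Statements.S1306
import Cfsg.Agent.Lib.Components.ComponentIn

set_option autoImplicit false
open Cfsg

namespace Cfsg.Agent.S1306

/-- Let G be finite, x an involution and L ≤ C_G(x) a component of C_G(x). Suppose L is a component of C_G(y) for every involution y ∈ C_G(L), and ⁅L, g L g⁻¹⁆ ≠ 1 whenever g L g⁻¹ ≠ L. Then L is a standard subgroup of G. -/
theorem result {G : Type*} [Group G] [Finite G] (x : G) (hx : orderOf x = 2) (L : Subgroup G) (hLx : L ≤ Subgroup.centralizer ({x} : Set G)) (hL : Cfsg.IsComponent (L.subgroupOf (Subgroup.centralizer ({x} : Set G)))) (hne : ∀ y : G, orderOf y = 2 → y ∈ Subgroup.centralizer (L : Set G) → L ≤ Subgroup.centralizer ({y} : Set G) ∧ Cfsg.IsComponent (L.subgroupOf (Subgroup.centralizer ({y} : Set G)))) (hnc : ∀ g : G, L.map (MulAut.conj g).toMonoidHom ≠ L → ⁅L, L.map (MulAut.conj g).toMonoidHom⁆ ≠ ⊥) : Cfsg.IsStandardSubgroup L := by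
  classical
  have hxK : x ∈ Subgroup.centralizer (L : Set G) := by
    rw [Subgroup.mem_centralizer_iff]
    intro l hl
    exact Subgroup.mem_centralizer_singleton_iff.mp (hLx hl)
  have hQ : Cfsg.IsQuasisimple L := Components.isQuasisimple_of_componentIn hLx hL
  -- if an involution `y` centralizes both `L` and a conjugate of `L`, they coincide
  have key : ∀ g y : G, orderOf y = 2 → y ∈ Subgroup.centralizer (L : Set G) →
      y ∈ (Subgroup.centralizer (L : Set G)).map (MulAut.conj g).toMonoidHom →
      L.map (MulAut.conj g).toMonoidHom = L := by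
    rintro g y hy hyK ⟨y', hy'K, rfl⟩
    have hy' : orderOf y' = 2 := by
      rw [← hy]
      exact (orderOf_injective _ (MulAut.conj g).injective y').symm
    obtain ⟨hLy, hLyc⟩ := hne _ hy hyK
    obtain ⟨hLy', hLy'c⟩ := hne _ hy' hy'K
    have hM := Components.componentIn_map_conj g y' hLy'c
    simp only [MulEquiv.coe_toMonoidHom, MulAut.conj_apply] at hLy hLyc
    have hMle : L.map (MulAut.conj g).toMonoidHom ≤
        Subgroup.centralizer ({g * y' * g⁻¹} : Set G) := by
      rw [← Components.map_conj_centralizer_singleton]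
      exact Subgroup.map_mono hLy'
    by_contra hne'
    rcases Components.componentIn_eq_or_commutator_eq_bot hLy hMle hLyc hM with h | h
    · exact hne' h.symm
    · exact hnc g hne' h
  refine ⟨hQ, ⟨?_, ?_⟩, hnc, ?_⟩
  · rw [even_iff_two_dvd, ← hx, ← Subgroup.orderOf_mk x hxK]
    exact orderOf_dvd_natCard _
  · intro g hg
    rw [← Nat.not_even_iff_odd, even_iff_two_dvd]
    intro hd
    haveI : Fact (Nat.Prime 2) := ⟨Nat.prime_two⟩
    obtain ⟨⟨y, hy'⟩, hy⟩ := exists_prime_orderOf_dvd_card' 2 hd
    rw [Subgroup.orderOf_mk] at hy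
    obtain ⟨hyK, hyg⟩ := Subgroup.mem_inf.mp hy'
    have h := key g y hy hyK hyg
    apply hg
    rw [← Components.map_conj_eq_iff_mem_normalizer, Components.map_conj_centralizer, h]
  · apply le_antisymm
    · intro g hg
      rw [← Components.map_conj_eq_iff_mem_normalizer] at hg ⊢
      rw [Components.map_conj_centralizer, hg]
    · intro g hg
      rw [← Components.map_conj_eq_iff_mem_normalizer] at hg ⊢
      exact key g x hx hxK (hg.symm ▸ hxK)

end Cfsg.Agent.S1306
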