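import Cfsg.Statements.S1307
import Cfsg.Agent.Lib.Components.ComponentIn
import Cfsg.Agent.Lib.Involution.IndexTwo
import Cfsg.Agent.S0016
import Cfsg.Agent.S0225

set_option autoImplicit false
open Cfsg

namespace Cfsg.Agent.S1307

/-- Let G be finite, x an involution and L ≤ C_G(x) a component of C_G(x) of even order and 2-rank 1, such that L is a component of C_G(y) for every involution y ∈ C_G(L). Then some involution of L is a classical involution of G. -/
theorem result {G : Type*} [Group G] [Finite G] (x : G) (hx : orderOf x = 2) (L : Subgroup G) (hLx : L ≤ Subgroup.centralizer ({x} : Set G)) (hL : Cfsg.IsComponent (L.subgroupOf (Subgroup.centralizer ({x} : Set G)))) (heven : Even (Nat.card ↥L)) (hrk : Cfsg.PRankLE 2 1 ↥L) (hne : ∀ y : G, orderOf y = 2 → y ∈ Subgroup.centralizer (L : Set G) → L ≤ Subgroup.centralizer ({y} : Set G) ∧ Cfsg.IsComponent (L.subgroupOf (Subgroup.centralizer ({y} : Set G)))) : ∃ t ∈ L, Cfsg.IsClassicalInvolution t := by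
  classical
  haveI : Fact (Nat.Prime 2) := ⟨Nat.prime_two⟩
  have hQ : Cfsg.IsQuasisimple L := Components.isQuasisimple_of_componentIn hLx hL
  haveI hperf : Group.IsPerfect L := Components.isPerfect_of_isQuasisimple hQ
  have hK4 : ∀ E : Subgroup L, ¬ IsKleinFour E := by
    intro E hE
    have h1 := hrk E ⟨⟨mul_comm_of_exponent_two hE.exponent_two⟩⟩ (fun a ha => by
      have := Monoid.pow_exponent_eq_one (⟨a, ha⟩ : E)
      rw [hE.exponent_two] at this
      simpa using congrArg Subtype.val this)
    rw [hE.card_four] at h1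
    norm_num at h1
  -- a central involution
  obtain ⟨z, hz, N, hN, hNodd, hzN⟩ := S0225.result heven hK4
  have hNc : N ≤ Subgroup.center L := by
    refine (Components.normal_eq_top_or_le_center hQ N).resolve_left ?_
    rintro rfl
    rw [Subgroup.card_top] at hNodd
    exact Nat.not_even_iff_odd.mpr hNodd heven
  let φ : L →* Subgroup.center L := MonoidHom.mk'
    (fun g => ⟨z * g * z⁻¹ * g⁻¹, hNc (hzN g)⟩) (fun g h => by
      apply Subtype.ext
      have hc := Subgroup.mem_center_iff.mp (hNc (hzN h)) g
      calc z * (g * h) * z⁻¹ * (g * h)⁻¹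
          = z * g * z⁻¹ * (z * h * z⁻¹ * h⁻¹) * g⁻¹ := by group
        _ = z * g * z⁻¹ * g⁻¹ * (g * (z * h * z⁻¹ * h⁻¹)) * g⁻¹ := by group
        _ = z * g * z⁻¹ * g⁻¹ * (z * h * z⁻¹ * h⁻¹ * g) * g⁻¹ := by rw [hc]
        _ = z * g * z⁻¹ * g⁻¹ * (z * h * z⁻¹ * h⁻¹) := by group)
  have hzc : ∀ g : L, z * g = g * z := by
    intro g
    have h1 : φ.range ≤ ⊤ := le_top
    have hker : commutator L ≤ φ.ker := by
      rw [_root_.commutator_def, Subgroup.commutator_le]
      intro a _ b _
      rw [MonoidHom.mem_ker, map_commutatorElement]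
      exact commutatorElement_eq_one_iff_mul_comm.mpr (Subtype.ext
        (Subgroup.mem_center_iff.mp (φ b).2 _))
    rw [hperf.commutator_eq_top] at hker
    have := congrArg Subtype.val (MonoidHom.mem_ker.mp (hker (Subgroup.mem_top g)))
    simp only [φ, MonoidHom.mk'_apply, OneMemClass.coe_one] at this
    exact mul_inv_eq_one.mp (by simpa [mul_assoc] using this)
  have hz' : orderOf (z : G) = 2 := by rw [Subgroup.orderOf_coe, hz]
  have hzL : (z : G) ∈ Subgroup.centralizer (L : Set G) := by
    rw [Subgroup.mem_centralizer_iff]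
    intro l hl
    exact (congrArg Subtype.val (hzc ⟨l, hl⟩)).symm
  obtain ⟨hLz, hLzc⟩ := hne _ hz' hzL
  refine ⟨z, z.2, hz', L, hLz, z.2, hLzc.1, ?_⟩
  obtain ⟨S⟩ : Nonempty (Sylow 2 L) := inferInstance
  refine ⟨S, ?_⟩
  have hne2 : ¬ IsCyclic (S : Subgroup L) := by
    intro hS
    obtain ⟨H, hH⟩ := Involution.exists_index_two_of_cyclic_sylow heven S hS
    haveI := Subgroup.normal_of_index_eq_two hH
    haveI : IsCyclic (L ⧸ H) := isCyclic_of_prime_card (p := 2) hH
    have h2 : commutator L ≤ H :=
      Subgroup.Normal.quotient_commutative_iff_commutator_le.mp inferInstance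
    rw [hperf.commutator_eq_top, top_le_iff] at h2
    rw [h2, Subgroup.index_top] at hH
    exact absurd hH (by norm_num)
  -- `z` is the only involution of `L`
  have hinv : ∀ u : L, orderOf u = 2 → u = z := by
    intro u hu
    by_contra hne'
    let E : Subgroup L := Subgroup.closure {z, u}
    have hcomm : IsMulCommutative E := Subgroup.isMulCommutative_closure (by
      rintro a (rfl | rfl) b (rfl | rfl)
      · rfl
      · exact hzc _
      · exact (hzc _).symm
      · rfl)
    have hsq : ∀ a ∈ E, a ^ 2 = 1 := by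
      intro a ha
      induction ha using Subgroup.closure_induction with
      | mem a ha =>
        rcases ha with rfl | rfl
        · rw [← hz]; exact pow_orderOf_eq_one _
        · rw [← hu]; exact pow_orderOf_eq_one _
      | one => simp
      | mul a b ha hb iha ihb =>
        have : Commute a b := congrArg Subtype.val
          (hcomm.is_comm.comm (⟨a, ha⟩ : E) ⟨b, hb⟩)
        rw [this.mul_pow, iha, ihb, one_mul]
      | inv a _ iha => rw [inv_pow, iha, inv_one]
    have h1 : z ∈ E := Subgroup.subset_closure (Set.mem_insert _ _)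
    have h2 : u ∈ E := Subgroup.subset_closure (Set.mem_insert_of_mem _ rfl)
    have h0 : Nat.card E ≤ 2 := by simpa using hrk E hcomm hsq
    haveI : Fintype E := Fintype.ofFinite E
    have h3 : ({1, ⟨z, h1⟩, ⟨u, h2⟩} : Finset E).card = 3 := by
      rw [Finset.card_eq_three]
      refine ⟨_, _, _, ?_, ?_, ?_, rfl⟩
      · intro h
        have : z = 1 := (congrArg Subtype.val h).symm
        rw [this, orderOf_one] at hz
        exact absurd hz (by norm_num)
      · intro h
        have : u = 1 := (congrArg Subtype.val h).symm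
        rw [this, orderOf_one] at hu
        exact absurd hu (by norm_num)
      · intro h
        exact hne' (congrArg Subtype.val h).symm
    have h4 := Finset.card_le_univ ({1, ⟨z, h1⟩, ⟨u, h2⟩} : Finset E)
    rw [h3, ← Nat.card_eq_fintype_card] at h4
    omega
  have huniq : ∀ H K : Subgroup (S : Subgroup L), Nat.card H = 2 → Nat.card K = 2 → H = K := by
    suffices key : ∀ H : Subgroup (S : Subgroup L), Nat.card H = 2 →
        H.map (S : Subgroup L).subtype = Subgroup.zpowers z by
      intro H K hH hK
      exact Subgroup.map_injective (Subgroup.subtype_injective _) ((key H hH).trans (key K hK).symm)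
    intro H hH
    obtain ⟨⟨w, hw⟩, hw'⟩ := exists_prime_orderOf_dvd_card' (G := H) 2 (by rw [hH])
    rw [Subgroup.orderOf_mk] at hw'
    have hwz : (w : L) = z := hinv _ (by rw [Subgroup.orderOf_coe, hw'])
    symm
    apply Subgroup.eq_of_le_of_card_ge
    · rw [Subgroup.zpowers_le, ← hwz]
      exact ⟨w, hw, rfl⟩
    · rw [Subgroup.card_map_of_injective (Subgroup.subtype_injective _), hH, Nat.card_zpowers, hz]
  rcases S0016.result 2 S.2 huniq with hc | ⟨_, n, ⟨e⟩⟩
  · exact absurd hc hne2
  · cases n with
    | zero =>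
      exfalso
      apply hne2
      haveI : IsCyclic (QuaternionGroup (2 ^ 0)) := by
        simpa using QuaternionGroup.quaternionGroup_one_isCyclic
      exact isCyclic_of_surjective e.symm e.symm.surjective
    | succ n => exact ⟨n, ⟨e⟩⟩

end Cfsg.Agent.S1307
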