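import Cfsg.Statements.S1312
import Cfsg.Agent.Lib.Components.Balance
import Cfsg.Agent.Lib.Fitting
import Cfsg.Agent.FG72.Basic

set_option autoImplicit false
open Cfsg

namespace Cfsg.Agent.S1312

set_option linter.style.haveILetI false
open Subgroup
open scoped commutatorElement IsMulCommutative

variable {G : Type*} [Group G] [Finite G]

omit [Finite G] in
theorem conj_mem_map (M : Subgroup G) (K : Subgroup M) [K.Normal] {g x : G} (hg : g ∈ M)
    (hx : x ∈ K.map M.subtype) : g * x * g⁻¹ ∈ K.map M.subtype := by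
  obtain ⟨k, hk, rfl⟩ := hx
  exact ⟨⟨g, hg⟩ * k * ⟨g, hg⟩⁻¹, ‹K.Normal›.conj_mem k hk _, rfl⟩

theorem map_pCore_le_fittingStar {M : Subgroup G} (q : ℕ) [Fact q.Prime] :
    (Cfsg.pCore q M).map M.subtype ≤ (Cfsg.generalizedFittingSubgroup M).map M.subtype :=
  Subgroup.map_mono ((Fitting.pCore_le_fitting q).trans Components.fitting_le_generalizedFitting)

theorem commute_cross {M N : Subgroup G}
    (h1 : (Cfsg.generalizedFittingSubgroup M).map M.subtype ≤ N)
    (h2 : (Cfsg.generalizedFittingSubgroup N).map N.subtype ≤ M)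
    {q s : ℕ} [Fact q.Prime] [Fact s.Prime] (hqs : q ≠ s) {x y : G}
    (hx : x ∈ (Cfsg.pCore q M).map M.subtype) (hy : y ∈ (Cfsg.pCore s N).map N.subtype) :
    Commute x y := by
  have ha : x * y * x⁻¹ * y⁻¹ ∈ (Cfsg.pCore q M).map M.subtype := by
    have := mul_mem hx (conj_mem_map M _ (h2 (map_pCore_le_fittingStar s hy)) (inv_mem hx))
    simpa [mul_assoc] using this
  have hb : x * y * x⁻¹ * y⁻¹ ∈ (Cfsg.pCore s N).map N.subtype :=
    mul_mem (conj_mem_map N _ (h1 (map_pCore_le_fittingStar q hx)) hy) (inv_mem hy)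
  have hd := IsPGroup.disjoint_of_ne q s hqs _ _
    ((Thompson.isPGroup_pCore (p := q) (G := M)).map M.subtype)
    ((Thompson.isPGroup_pCore (p := s) (G := N)).map N.subtype)
  have := Subgroup.mem_bot.mp (hd.le_bot ⟨ha, hb⟩)
  exact mul_inv_eq_iff_eq_mul.mp (mul_inv_eq_one.mp this)

/-- Cross inclusion of Fitting subgroups gives inclusion of one core in the other. -/
theorem pCore_le_pCore {M N : Subgroup G}
    (h1 : (Cfsg.generalizedFittingSubgroup M).map M.subtype ≤ N)
    (h2 : (Cfsg.generalizedFittingSubgroup N).map N.subtype ≤ M)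
    (hE : Cfsg.layer N = ⊥) {q r : ℕ} [Fact q.Prime] [Fact r.Prime] (hqr : q ≠ r)
    (hcent : Subgroup.centralizer ((Cfsg.pCore q M).map M.subtype : Set G) ≤ M) :
    (Cfsg.pCore r M).map M.subtype ≤ (Cfsg.pCore r N).map N.subtype := by
  set P := (Cfsg.pCore q M).map M.subtype with hP
  set R := (Cfsg.pCore r M).map M.subtype with hR
  set QN := (Cfsg.pCore q N).map N.subtype with hQN
  have hPN : P ≤ N := (map_pCore_le_fittingStar q).trans h1
  have hRN : R ≤ N := (map_pCore_le_fittingStar r).trans h1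
  set X' : Subgroup N := Subgroup.centralizer (Cfsg.pCore q N : Set N) with hX'
  set X0 : Subgroup N := X' ⊓ (Subgroup.centralizer (P : Set G)).subgroupOf N with hX0
  haveI hX'n : X'.Normal := Subgroup.normal_centralizer
  have hfix : ∀ x ∈ X', ∀ y : N, (y : G) ∈ P →
      y⁻¹ * (x⁻¹ * y * x) ∈ Cfsg.pCore q N := by
    intro x hx y hy
    set c := y⁻¹ * (x⁻¹ * y * x) with hc
    have hys : ∀ (s : ℕ) [Fact s.Prime], s ≠ q → ∀ z ∈ Cfsg.pCore s N, Commute y z :=
      fun s _ hs z hz => Subtype.ext (commute_cross h1 h2 (Ne.symm hs) hy ⟨z, hz, rfl⟩).eq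
    have hcF : ∀ (s : ℕ) [Fact s.Prime], ∀ z ∈ Cfsg.pCore s N, Commute c z := by
      intro s _ z hz
      rcases eq_or_ne s q with rfl | hs
      · -- `x` fixes `z` and its conjugates
        have hxz : ∀ w ∈ Cfsg.pCore s N, Commute x w := fun w hw =>
          ((mem_centralizer_iff.mp hx) w hw).symm
        have h3 : Commute x (y * z * y⁻¹) := hxz _ ((inferInstance : (Cfsg.pCore s N).Normal).conj_mem z hz y)
        show c * z = z * c
        calc c * z = y⁻¹ * x⁻¹ * y * (x * z) := by rw [hc]; group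
          _ = y⁻¹ * x⁻¹ * (y * z * y⁻¹) * y * x := by rw [(hxz z hz).eq]; group
          _ = y⁻¹ * ((y * z * y⁻¹) * x⁻¹) * y * x := by
              rw [mul_assoc y⁻¹ x⁻¹, (h3.inv_left).eq]
          _ = z * c := by rw [hc]; group
      · have h3 : Commute (x⁻¹ * y * x) z := by
          have h4 := (hys s hs (x * z * x⁻¹)
            ((inferInstance : (Cfsg.pCore s N).Normal).conj_mem z hz x)).map
              (MulAut.conj x⁻¹).toMonoidHom
          simpa [mul_assoc] using h4
        exact (hys s hs z hz).inv_left.mul_left h3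
    have hcC : c ∈ Subgroup.centralizer (Cfsg.fittingSubgroup N : Set N) := by
      have : Cfsg.fittingSubgroup N ≤ Subgroup.centralizer ({c} : Set N) := by
        rw [Fitting.fitting_eq_iSup_pCore]
        refine iSup_le fun s z hz => mem_centralizer_singleton_iff.mpr ?_
        haveI : Fact (s : ℕ).Prime := ⟨s.2⟩
        exact (hcF (s : ℕ) z hz).eq.symm
      exact mem_centralizer_iff.mpr fun z hz => mem_centralizer_singleton_iff.mp (this hz)
    have hcFit : c ∈ Cfsg.fittingSubgroup N := by
      have h5 := Components.centralizer_generalizedFitting_le (G := N)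
      rw [Cfsg.generalizedFittingSubgroup, hE, bot_sup_eq] at h5
      exact h5 hcC
    obtain ⟨a, m, hm, ham⟩ := Nat.exists_eq_pow_mul_and_not_dvd (orderOf_pos c).ne' q
      (Fact.out : q.Prime).ne_one
    have hm0 : 0 < m := Nat.pos_of_ne_zero (fun h0 => hm (h0 ▸ dvd_zero q))
    have hcop : (q ^ a).Coprime m := ((Fact.out : q.Prime).coprime_iff_not_dvd.mpr hm).pow_left a
    have hoq : c ^ m ∈ Cfsg.pCore q N := by
      refine FG72.mem_pCore_of_fitting (pow_mem hcFit m) (j := a) ?_
      rw [orderOf_pow_of_dvd hm0.ne' (ham ▸ dvd_mul_left m _), ham, Nat.mul_div_cancel _ hm0]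
    set d := c ^ q ^ a with hd
    have hdm : d ^ m = 1 := by rw [hd, ← pow_mul, ← ham, pow_orderOf_eq_one]
    have hdy : Commute y d := by
      have : d ∈ Subgroup.centralizer ({y} : Set N) := by
        refine FG72.mem_of_forall_primePow _ d fun s hs j hj i hi => ?_
        haveI : Fact s.Prime := ⟨hs⟩
        rcases Nat.eq_zero_or_pos j with rfl | hj0
        · rw [pow_zero, orderOf_eq_one_iff] at hi
          rw [hi]; exact one_mem _
        have hsq : s ≠ q := fun h => hm (h ▸ (dvd_pow_self s hj0.ne').trans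
          (hj.trans (orderOf_dvd_of_pow_eq_one hdm)))
        exact mem_centralizer_singleton_iff.mpr
          (hys s hsq _ (FG72.mem_pCore_of_fitting (pow_mem (pow_mem hcFit _) i) hi)).eq.symm
      exact (mem_centralizer_singleton_iff.mp this).symm
    obtain ⟨u, v, huv⟩ : ∃ u v : ℤ, ((q ^ a : ℕ) : ℤ) * u + (m : ℤ) * v = 1 := by
      refine ⟨Nat.gcdA (q ^ a) m, Nat.gcdB (q ^ a) m, ?_⟩
      rw [← Nat.gcd_eq_gcd_ab, hcop.gcd_eq_one]
      rfl
    set o := (c ^ m) ^ v with ho
    set d' := d ^ u with hd'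
    have hcdo : c = o * d' := by
      rw [ho, hd', hd, ← zpow_natCast c m, ← zpow_natCast c (q ^ a), ← zpow_mul, ← zpow_mul,
        ← zpow_add]
      conv_lhs => rw [← zpow_one c]
      congr 1
      linarith
    have hoO : o ∈ Cfsg.pCore q N := Subgroup.zpow_mem _ hoq v
    have hd'o : Commute d' o := ((((Commute.refl c).pow_pow (q ^ a) m).zpow_zpow u v))
    have hS : IsPGroup q ↥(P.subgroupOf N ⊔ Cfsg.pCore q N) :=
      (((Thompson.isPGroup_pCore (p := q) (G := M)).map M.subtype).of_equiv
        (Subgroup.subgroupOfEquivOfLe hPN).symm).to_sup_of_normal_right Thompson.isPGroup_pCore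
    obtain ⟨k1, hk1⟩ := hS ⟨y * o, Subgroup.mul_mem_sup (show y ∈ P.subgroupOf N from hy) hoO⟩
    obtain ⟨k2, hk2⟩ := hS ⟨y, Subgroup.mem_sup_left (show y ∈ P.subgroupOf N from hy)⟩
    have hk1' : (y * o) ^ q ^ k1 = 1 := by simpa using congrArg Subtype.val hk1
    have hk2' : y ^ q ^ k2 = 1 := by simpa using congrArg Subtype.val hk2
    have hd'1 : d' = 1 := by
      have e1 : x⁻¹ * y * x = (y * o) * d' := by
        rw [mul_assoc y o, ← hcdo, hc]; group
      have e2 : (x⁻¹ * y * x) ^ q ^ (k1 + k2) = 1 := by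
        have hz : y ^ q ^ (k1 + k2) = 1 := by rw [pow_add, mul_comm, pow_mul, hk2', one_pow]
        rw [show x⁻¹ * y * x = x⁻¹ * y * (x⁻¹)⁻¹ by group, conj_pow, hz]
        group
      rw [e1, ((hdy.zpow_right u).mul_left hd'o.symm).mul_pow, pow_add, pow_mul, hk1', one_pow,
        one_mul, ← pow_add] at e2
      have h6 : orderOf d' ∣ q ^ (k1 + k2) := orderOf_dvd_of_pow_eq_one e2
      have h7 : orderOf d' ∣ m := by
        refine orderOf_dvd_of_pow_eq_one ?_
        rw [hd', ← zpow_natCast, ← zpow_mul, mul_comm, zpow_mul, zpow_natCast, hdm, one_zpow]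
      exact orderOf_eq_one_iff.mp (Nat.eq_one_of_dvd_coprimes
        (((Fact.out : q.Prime).coprime_iff_not_dvd.mpr hm).pow_left _) h6 h7)
    rw [hcdo, hd'1, mul_one]
    exact hoO
  have hX0n : (X0.subgroupOf X').Normal := by
    refine ⟨fun z hz g => ?_⟩
    obtain ⟨hz1, hz2⟩ := Subgroup.mem_inf.mp (mem_subgroupOf.mp hz)
    refine mem_subgroupOf.mpr (Subgroup.mem_inf.mpr ⟨(g * z * g⁻¹).2, mem_subgroupOf.mpr ?_⟩)
    rw [mem_centralizer_iff]
    intro w hw
    let y : N := ⟨w, hPN hw⟩
    have hmem := hfix g g.2 y hw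
    have h8 : Commute (z : N) y := (Subtype.ext (mem_centralizer_iff.mp hz2 w hw)).symm
    have h9 : Commute (z : N) (y⁻¹ * ((g : N)⁻¹ * y * (g : N))) :=
      ((mem_centralizer_iff.mp hz1) _ hmem).symm
    have h10 : Commute (z : N) ((g : N)⁻¹ * y * (g : N)) := by
      simpa using h8.mul_right h9
    have h11 := congrArg Subtype.val (h10.map (MulAut.conj (g : N)).toMonoidHom).eq
    simpa [mul_assoc, y] using h11.symm
  have hR' : R.subgroupOf N ≤ X0 := by
    intro z hz
    refine Subgroup.mem_inf.mpr ⟨?_, mem_subgroupOf.mpr ?_⟩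
    · exact mem_centralizer_iff.mpr fun w hw =>
        Subtype.ext (commute_cross h1 h2 (Ne.symm hqr) hz ⟨w, hw, rfl⟩).eq.symm
    · refine mem_centralizer_iff.mpr ?_
      rintro _ ⟨w, hw, rfl⟩
      obtain ⟨z', hz', hzz⟩ := hz
      show M.subtype w * ((z : N) : G) = ((z : N) : G) * M.subtype w
      rw [show ((z : N) : G) = M.subtype z' from hzz.symm]
      exact congrArg Subtype.val (Fitting.pCore_commute hqr hw hz').eq
  have hsn : (R.subgroupOf N).IsSubnormal := by
    refine Subgroup.IsSubnormal.step _ X0 hR' (Subgroup.IsSubnormal.step _ X' inf_le_left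
      hX'n.isSubnormal hX0n) ((normal_subgroupOf_iff_le_normalizer hR').mpr ?_)
    refine Coprime.le_normalizer_of_conj_mem fun g hg z hz => ?_
    exact conj_mem_map M _ (hcent (Subgroup.mem_inf.mp hg).2) hz
  have := Thompson.le_pCore_of_isSubnormal hsn
    (((Thompson.isPGroup_pCore (p := r) (G := M)).map M.subtype).of_equiv
      (Subgroup.subgroupOfEquivOfLe hRN).symm)
  intro z hz
  exact ⟨⟨z, hRN hz⟩, this hz, rfl⟩

/-- A component of `M` is a component of `N`. -/
theorem component_transfer {M N : Subgroup G}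
    (h1 : (Cfsg.generalizedFittingSubgroup M).map M.subtype ≤ N)
    (h2 : (Cfsg.generalizedFittingSubgroup N).map N.subtype ≤ M)
    (L : Subgroup M) (hL : Cfsg.IsComponent L) :
    ∃ K : Subgroup N, Cfsg.IsComponent K ∧ K.map N.subtype = L.map M.subtype := by
  set LG := L.map M.subtype with hLG
  have hLN : LG ≤ N :=
    (Subgroup.map_mono (Components.component_le_generalizedFitting hL)).trans h1
  set D := M ⊓ N with hD
  have hLD : LG ≤ D := le_inf (Subgroup.map_subtype_le _) hLN
  let j : D →* M := Subgroup.inclusion inf_le_left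
  have hLd : Cfsg.IsComponent (LG.subgroupOf D) := by
    refine ⟨?_, Components.isQuasisimple_of_mulEquiv
      ((Subgroup.subgroupOfEquivOfLe hLD).trans
        (L.equivMapOfInjective _ M.subtype_injective).symm).symm.symm.symm hL.2⟩
    have h3 := hL.1.comap j
    convert h3 using 1
    ext z
    constructor
    · rintro ⟨w, hw, he⟩
      have : w = j z := Subtype.ext he
      show j z ∈ L
      exact this ▸ hw
    · intro hz
      exact ⟨j z, hz, rfl⟩
  by_contra hno
  have hcomp : ∀ K : Subgroup N, Cfsg.IsComponent K →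
      K.map N.subtype ≤ Subgroup.centralizer (LG : Set G) := by
    intro K hK
    have hKD : K.map N.subtype ≤ D := le_inf
      ((Subgroup.map_mono (Components.component_le_generalizedFitting hK)).trans h2)
      (Subgroup.map_subtype_le _)
    have hKd : Cfsg.IsComponent ((K.map N.subtype).subgroupOf D) := by
      refine ⟨?_, Components.isQuasisimple_of_mulEquiv
        ((K.equivMapOfInjective _ N.subtype_injective).trans
          (Subgroup.subgroupOfEquivOfLe hKD).symm) hK.2⟩
      let i : D →* N := Subgroup.inclusion inf_le_right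
      have h3 := hK.1.comap i
      convert h3 using 1
      ext z
      constructor
      · rintro ⟨w, hw, he⟩
        have : w = i z := Subtype.ext he
        show i z ∈ K
        exact this ▸ hw
      · intro hz
        exact ⟨i z, hz, rfl⟩
    rcases Components.component_eq_or_commutator_eq_bot hKd hLd with h | h
    · refine absurd ⟨K, hK, ?_⟩ hno
      have h4 := congrArg (Subgroup.map D.subtype) h
      rwa [map_subgroupOf_eq_of_le hKD, map_subgroupOf_eq_of_le hLD] at h4
    · have h4 := congrArg (Subgroup.map D.subtype) h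
      rw [Subgroup.map_commutator, map_subgroupOf_eq_of_le hKD, map_subgroupOf_eq_of_le hLD,
        Subgroup.map_bot] at h4
      exact commutator_eq_bot_iff_le_centralizer.mp h4
  have hcore : ∀ (s : ℕ) [Fact s.Prime],
      (Cfsg.pCore s N).map N.subtype ≤ Subgroup.centralizer (LG : Set G) := by
    intro s _
    set S := (Cfsg.pCore s N).map N.subtype with hS
    have hSD : S ≤ D := le_inf ((map_pCore_le_fittingStar s).trans h2) (Subgroup.map_subtype_le _)
    have hn : LG.subgroupOf D ≤ Subgroup.normalizer ((S.subgroupOf D : Subgroup D) : Set D) := by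
      refine Coprime.le_normalizer_of_conj_mem fun g hg z hz => ?_
      exact conj_mem_map N _ g.2.2 hz
    have h := Components.component_commutator_solvable hLd
      (Coprime.isSolvable_of_isNilpotent' (((Thompson.isPGroup_pCore (p := s) (G := N)).map
        N.subtype).of_equiv (Subgroup.subgroupOfEquivOfLe hSD).symm).isNilpotent) hn
    have h4 := congrArg (Subgroup.map D.subtype) h
    rw [Subgroup.map_commutator, map_subgroupOf_eq_of_le hLD, map_subgroupOf_eq_of_le hSD,
      Subgroup.map_bot] at h4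
    exact Subgroup.le_centralizer_iff.mp (commutator_eq_bot_iff_le_centralizer.mp h4)
  have hcF : Cfsg.generalizedFittingSubgroup N ≤
      (Subgroup.centralizer (LG : Set G)).comap N.subtype := by
    rw [Cfsg.generalizedFittingSubgroup, sup_le_iff, Components.layer_le_iff,
      Fitting.fitting_eq_iSup_pCore]
    refine ⟨fun K hK => map_le_iff_le_comap.mp (hcomp K hK), iSup_le fun s => ?_⟩
    haveI : Fact (s : ℕ).Prime := ⟨s.2⟩
    exact map_le_iff_le_comap.mp (hcore (s : ℕ))
  have hC : LG.subgroupOf N ≤ Subgroup.centralizer (Cfsg.generalizedFittingSubgroup N : Set N) :=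
    fun z hz => mem_centralizer_iff.mpr fun w hw =>
      Subtype.ext (mem_centralizer_iff.mp (hcF hw) z hz).symm
  refine Components.not_isMulCommutative_of_isQuasisimple hL.2 ⟨⟨fun a b => ?_⟩⟩
  apply Subtype.ext
  apply Subtype.ext
  have hb : (⟨((b : M) : G), hLN ⟨b, b.2, rfl⟩⟩ : N) ∈ LG.subgroupOf N := ⟨b, b.2, rfl⟩
  exact (mem_centralizer_iff.mp (hcF (Components.centralizer_generalizedFitting_le (hC hb)))
    ((a : M) : G) ⟨a, a.2, rfl⟩)


/-- Let G be a non-abelian finite simple group and M ≠ N maximal subgroups of G with F*(M) ≤ N and F*(N) ≤ M. Then there is a prime p such that F*(M) and F*(N) are both p-groups. -/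
theorem result {G : Type*} [Group G] [Finite G] [IsSimpleGroup G] (hna : ¬ IsMulCommutative G) (M N : Subgroup G) (hM : IsCoatom M) (hN : IsCoatom N) (hMN : M ≠ N) (h1 : (Cfsg.generalizedFittingSubgroup ↥M).map M.subtype ≤ N) (h2 : (Cfsg.generalizedFittingSubgroup ↥N).map N.subtype ≤ M) : ∃ p : ℕ, p.Prime ∧ IsPGroup p ↥(Cfsg.generalizedFittingSubgroup ↥M) ∧ IsPGroup p ↥(Cfsg.generalizedFittingSubgroup ↥N) := by
  have hbot : ∀ K : Subgroup G, IsCoatom K → K ≠ ⊥ := by
    intro K hK hKb
    subst hKb
    obtain ⟨g, hg⟩ : ∃ g : G, g ≠ 1 := exists_ne 1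
    have hz : Subgroup.zpowers g = ⊤ := hK.2 _ (bot_lt_iff_ne_bot.mpr (by simpa using hg))
    refine hna ⟨⟨fun a b => ?_⟩⟩
    obtain ⟨i, rfl⟩ := Subgroup.mem_zpowers_iff.mp (hz.ge (Subgroup.mem_top a))
    obtain ⟨j, rfl⟩ := Subgroup.mem_zpowers_iff.mp (hz.ge (Subgroup.mem_top b))
    exact ((Commute.refl g).zpow_zpow i j).eq
  -- normalizers of nontrivial normal subgroups
  have hnorm : ∀ K : Subgroup G, IsCoatom K → ∀ X : Subgroup K, X.Normal → X ≠ ⊥ →
      Subgroup.normalizer ((X.map K.subtype : Subgroup G) : Set G) = K := by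
    intro K hK X hX hX1
    have hle : K ≤ Subgroup.normalizer ((X.map K.subtype : Subgroup G) : Set G) :=
      Coprime.le_normalizer_of_conj_mem fun g hg z hz => by
        haveI := hX
        exact conj_mem_map K X hg hz
    rcases hK.le_iff.mp hle with h | h
    · exfalso
      rcases (normalizer_eq_top_iff.mp h).eq_bot_or_eq_top with h' | h'
      · exact hX1 ((Subgroup.map_eq_bot_iff_of_injective _ K.subtype_injective).mp h')
      · exact hK.1 (top_le_iff.mp (h' ▸ Subgroup.map_subtype_le X))
    · exact h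
  -- the layers are trivial
  have hEeq : (Cfsg.layer M).map M.subtype = (Cfsg.layer N).map N.subtype := by
    have half : ∀ (A B : Subgroup G),
        (Cfsg.generalizedFittingSubgroup A).map A.subtype ≤ B →
        (Cfsg.generalizedFittingSubgroup B).map B.subtype ≤ A →
        (Cfsg.layer A).map A.subtype ≤ (Cfsg.layer B).map B.subtype := by
      intro A B ha hb
      rw [map_le_iff_le_comap, Components.layer_le_iff]
      intro L hL
      obtain ⟨K, hK, hKL⟩ := component_transfer ha hb L hL
      rw [← map_le_iff_le_comap, ← hKL]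
      exact Subgroup.map_mono (Components.component_le_layer hK)
    exact le_antisymm (half M N h1 h2) (half N M h2 h1)
  have hEM : Cfsg.layer M = ⊥ := by
    by_contra h
    have h' : Cfsg.layer N ≠ ⊥ := fun he => h (by
      rw [he, Subgroup.map_bot] at hEeq
      exact (Subgroup.map_eq_bot_iff_of_injective _ M.subtype_injective).mp hEeq)
    exact hMN ((hnorm M hM _ inferInstance h).symm.trans
      ((congrArg (fun S : Subgroup G => Subgroup.normalizer (S : Set G)) hEeq).trans
        (hnorm N hN _ inferInstance h')))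
  have hEN : Cfsg.layer N = ⊥ := by
    rw [hEM, Subgroup.map_bot] at hEeq
    exact (Subgroup.map_eq_bot_iff_of_injective _ N.subtype_injective).mp hEeq.symm
  have hFM : Cfsg.generalizedFittingSubgroup M = Cfsg.fittingSubgroup M := by
    rw [Cfsg.generalizedFittingSubgroup, hEM, bot_sup_eq]
  have hFN : Cfsg.generalizedFittingSubgroup N = Cfsg.fittingSubgroup N := by
    rw [Cfsg.generalizedFittingSubgroup, hEN, bot_sup_eq]
  -- same primes
  have hpi : ∀ (A B : Subgroup G),
      (Cfsg.generalizedFittingSubgroup A).map A.subtype ≤ B →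
      (Cfsg.generalizedFittingSubgroup B).map B.subtype ≤ A →
      Cfsg.generalizedFittingSubgroup B = Cfsg.fittingSubgroup B →
      ∀ (q : ℕ) [Fact q.Prime], Cfsg.pCore q A ≠ ⊥ → Cfsg.pCore q B ≠ ⊥ := by
    intro A B ha hb hFB q _ hne hBq
    apply hne
    refine (Subgroup.map_eq_bot_iff_of_injective _ A.subtype_injective).mp ?_
    set P := (Cfsg.pCore q A).map A.subtype with hP
    have hPB : P ≤ B := (map_pCore_le_fittingStar q).trans ha
    have hc : P.subgroupOf B ≤ Cfsg.fittingSubgroup B := by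
      have h5 := Components.centralizer_generalizedFitting_le (G := B)
      rw [hFB] at h5
      refine le_trans ?_ h5
      rw [Subgroup.le_centralizer_iff, Fitting.fitting_eq_iSup_pCore]
      refine iSup_le fun s z hz => ?_
      haveI : Fact (s : ℕ).Prime := ⟨s.2⟩
      rw [Subgroup.mem_centralizer_iff]
      intro w hw
      rcases eq_or_ne q (s : ℕ) with hqs | hqs
      · have : z = 1 := by rw [← hqs, hBq] at hz; exact Subgroup.mem_bot.mp hz
        simp [this]
      · exact Subtype.ext (commute_cross ha hb hqs hw ⟨z, hz, rfl⟩).eq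
    rw [eq_bot_iff]
    intro z hz
    obtain ⟨k, hk⟩ := ((Thompson.isPGroup_pCore (p := q) (G := A)).map A.subtype) ⟨z, hz⟩
    have ho : orderOf (⟨z, hPB hz⟩ : B) ∣ q ^ k :=
      orderOf_dvd_of_pow_eq_one (Subtype.ext (by simpa using congrArg Subtype.val hk))
    obtain ⟨j, -, hj⟩ := (Nat.dvd_prime_pow (Fact.out : q.Prime)).mp ho
    have := FG72.mem_pCore_of_fitting (hc hz) hj
    rw [hBq, Subgroup.mem_bot] at this
    exact Subgroup.mem_bot.mpr (congrArg Subtype.val this)
  have hcent : ∀ (K : Subgroup G), IsCoatom K → ∀ q : ℕ, Cfsg.pCore q K ≠ ⊥ →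
      Subgroup.centralizer ((Cfsg.pCore q K).map K.subtype : Set G) ≤ K := fun K hK q h =>
    (Subgroup.centralizer_le_normalizer _).trans (hnorm K hK _ inferInstance h).le
  -- some prime
  have hex : ∃ p : ℕ, p.Prime ∧ Cfsg.pCore p M ≠ ⊥ := by
    by_contra hall
    have : Cfsg.fittingSubgroup M = ⊥ := by
      rw [Fitting.fitting_eq_iSup_pCore, iSup_eq_bot]
      exact fun s => by_contra fun h => hall ⟨s, s.2, h⟩
    have h6 := Components.generalizedFitting_eq_bot_iff.mp (hFM.trans this)
    exact hbot M hM (Subgroup.eq_bot_of_subsingleton M)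
  obtain ⟨p, hp, hpM⟩ := hex
  haveI : Fact p.Prime := ⟨hp⟩
  have huniq : ∀ (q : ℕ), q.Prime → q ≠ p → Cfsg.pCore q M = ⊥ := by
    intro q hq hqp
    by_contra hqM
    haveI : Fact q.Prime := ⟨hq⟩
    have hpN := hpi M N h1 h2 hFN p hpM
    have hqN := hpi M N h1 h2 hFN q hqM
    have e1 := le_antisymm
      (pCore_le_pCore h1 h2 hEN hqp (hcent M hM q hqM))
      (pCore_le_pCore h2 h1 hEM hqp (hcent N hN q hqN))
    exact hMN ((hnorm M hM _ inferInstance hpM).symm.trans
      ((congrArg (fun S : Subgroup G => Subgroup.normalizer (S : Set G)) e1).trans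
        (hnorm N hN _ inferInstance hpN)))
  refine ⟨p, hp, ?_, ?_⟩
  · rw [hFM]
    refine Thompson.isPGroup_pCore.to_le (show _ ≤ Cfsg.pCore p M from ?_)
    rw [Fitting.fitting_eq_iSup_pCore]
    refine iSup_le fun s => ?_
    rcases eq_or_ne (s : ℕ) p with h | h
    · rw [h]
    · rw [huniq s s.2 h]; exact bot_le
  · rw [hFN]
    refine Thompson.isPGroup_pCore.to_le (show _ ≤ Cfsg.pCore p N from ?_)
    rw [Fitting.fitting_eq_iSup_pCore]
    refine iSup_le fun s => ?_
    haveI : Fact (s : ℕ).Prime := ⟨s.2⟩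
    rcases eq_or_ne (s : ℕ) p with h | h
    · rw [h]
    · by_contra hs
      have hsN : Cfsg.pCore (s : ℕ) N ≠ ⊥ := fun he => hs (he.le.trans bot_le)
      exact hpi N M h2 h1 hFM (s : ℕ) hsN (huniq s s.2 h)

end Cfsg.Agent.S1312
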