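import Cfsg.Statements.S1313
import Cfsg.Agent.Lib.Components.GenFitting
import Mathlib.GroupTheory.GroupAction.ConjAct
import Mathlib.Tactic.Group

set_option autoImplicit false
open Cfsg

namespace Cfsg.Agent.S1313

set_option linter.style.haveILetI false
open Subgroup

theorem card_mulAut_mul_card_le (F : Type*) [Group F] [Finite F] :
    Nat.card (MulAut F) * Nat.card F ≤ Nat.factorial (Nat.card F) := by
  classical
  rw [← Nat.card_prod, ← Nat.card_perm]
  refine Nat.card_le_card_of_injective
    (fun x : MulAut F × F => x.1.toEquiv.trans (Equiv.mulLeft x.2)) ?_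
  rintro ⟨φ, f⟩ ⟨ψ, g⟩ h
  have h1 : f = g := by simpa using congrArg (fun σ : Equiv.Perm F => σ 1) h
  subst h1
  refine Prod.ext ?_ rfl
  refine MulEquiv.ext fun x => ?_
  simpa using congrArg (fun σ : Equiv.Perm F => σ x) h


/-- For a finite group H, |H| ≤ |F*(H)|!. -/
theorem result {H : Type*} [Group H] [Finite H] : Nat.card H ≤ Nat.factorial (Nat.card ↥(Cfsg.generalizedFittingSubgroup H)) := by
  set F := Cfsg.generalizedFittingSubgroup H with hF
  haveI : F.Normal := inferInstance
  let c : H →* MulAut F := MulAut.conjNormal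
  have hker : c.ker ≤ F := by
    intro x hx
    refine Components.centralizer_generalizedFitting_le ?_
    rw [mem_centralizer_iff]
    intro y hy
    have h1 : x * y * x⁻¹ = y :=
      congrArg Subtype.val (DFunLike.congr_fun (MonoidHom.mem_ker.mp hx) (⟨y, hy⟩ : F))
    exact (mul_inv_eq_iff_eq_mul.mp h1).symm
  have h2 : Nat.card H ≤ Nat.card (MulAut F) * Nat.card F := by
    rw [← Subgroup.index_mul_card c.ker, Subgroup.index_ker]
    exact Nat.mul_le_mul (Nat.card_le_card_of_injective _ Subtype.val_injective)
      (Subgroup.card_le_of_le hker)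
  exact h2.trans (card_mulAut_mul_card_le F)

end Cfsg.Agent.S1313
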