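import Cfsg.Statements.S1314
import Mathlib.Tactic.Group

set_option autoImplicit false
open Cfsg
open scoped commutatorElement

namespace Cfsg.Agent.S1314

/-- Let x be an involution of a group G and L a perfect subgroup with ⁅L, x L x⁻¹⁆ = 1. Then l ↦ l (x l x⁻¹) is a group homomorphism π from L to G whose kernel is central in L and whose image lies in C_G(x); and the commutator subgroup of C_{L ⊔ xLx⁻¹}(x) equals the image of π. -/
theorem result {G : Type*} [Group G] [Finite G] (x : G) (hx : orderOf x = 2) (L : Subgroup G) (hperf : ⁅L, L⁆ = L) (hcomm : ⁅L, L.map (MulAut.conj x).toMonoidHom⁆ = ⊥) : ∃ π : ↥L →* G, (∀ l : ↥L, π l = (l : G) * (x * (l : G) * x⁻¹)) ∧ π.ker ≤ Subgroup.center ↥L ∧ π.range ≤ Subgroup.centralizer ({x} : Set G) ∧ ⁅(L ⊔ L.map (MulAut.conj x).toMonoidHom) ⊓ Subgroup.centralizer ({x} : Set G), (L ⊔ L.map (MulAut.conj x).toMonoidHom) ⊓ Subgroup.centralizer ({x} : Set G)⁆ = π.range := by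
  have hxx : x * x = 1 := by
    have := pow_orderOf_eq_one x; rwa [hx, pow_two] at this
  have hxinv : x⁻¹ = x := inv_eq_of_mul_eq_one_right hxx
  have hconj2 : ∀ g : G, x * (x * g * x⁻¹) * x⁻¹ = g := by
    intro g
    rw [show x * (x * g * x⁻¹) * x⁻¹ = (x * x) * g * (x⁻¹ * x⁻¹) by group, hxinv, hxx]
    group
  set M : Subgroup G := L.map (MulAut.conj x).toMonoidHom with hM
  have hMmem : ∀ l ∈ L, x * l * x⁻¹ ∈ M := fun l hl => ⟨l, hl, rfl⟩
  have hcom : ∀ l ∈ L, ∀ m ∈ M, l * m = m * l := by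
    intro l hl m hm
    exact (Subgroup.commutator_eq_bot_iff_le_centralizer.mp hcomm hl m hm).symm
  let π : ↥L →* G :=
    { toFun := fun l => (l : G) * (x * (l : G) * x⁻¹)
      map_one' := by simp
      map_mul' := by
        intro a b
        have hc := hcom b b.2 _ (hMmem a a.2)
        simp only [Subgroup.coe_mul]
        calc (a : G) * b * (x * (a * b) * x⁻¹)
            = (a : G) * ((b : G) * (x * a * x⁻¹)) * (x * b * x⁻¹) := by group
          _ = (a : G) * ((x * a * x⁻¹) * (b : G)) * (x * b * x⁻¹) := by rw [hc]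
          _ = _ := by group }
  have hπ : ∀ l : ↥L, π l = (l : G) * (x * (l : G) * x⁻¹) := fun _ => rfl
  have hker : π.ker ≤ Subgroup.center ↥L := by
    intro l hl
    rw [Subgroup.mem_center_iff]
    intro m
    have hl' : (l : G) = (x * (l : G) * x⁻¹)⁻¹ := eq_inv_of_mul_eq_one_left hl
    have hlM : (l : G) ∈ M := by rw [hl']; exact inv_mem (hMmem l l.2)
    exact Subtype.ext (hcom m m.2 l hlM)
  have hrange : π.range ≤ Subgroup.centralizer ({x} : Set G) := by
    rintro _ ⟨l, rfl⟩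
    rw [Subgroup.mem_centralizer_singleton_iff, hπ]
    have h1 : x * ((l : G) * (x * l * x⁻¹)) * x⁻¹ = (l : G) * (x * l * x⁻¹) := by
      calc x * ((l : G) * (x * l * x⁻¹)) * x⁻¹
          = (x * l * x⁻¹) * (x * (x * l * x⁻¹) * x⁻¹) := by group
        _ = (x * l * x⁻¹) * (l : G) := by rw [hconj2]
        _ = (l : G) * (x * l * x⁻¹) := (hcom l l.2 _ (hMmem l l.2)).symm
    calc (l : G) * (x * l * x⁻¹) * x = x * ((l : G) * (x * l * x⁻¹)) * x⁻¹ * x := by rw [h1]
      _ = _ := by group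
  refine ⟨π, hπ, hker, hrange, ?_⟩
  have hrsup : π.range ≤ L ⊔ M := by
    rintro _ ⟨l, rfl⟩
    exact mul_mem (Subgroup.mem_sup_left l.2) (Subgroup.mem_sup_right (hMmem l l.2))
  apply le_antisymm
  · have hLnorm : L ≤ Subgroup.normalizer (M : Set G) := fun l hl =>
      Subgroup.centralizer_le_normalizer (M : Set G) (fun m hm => (hcom l hl m hm).symm)
    have hdec : ∀ c ∈ (L ⊔ M) ⊓ Subgroup.centralizer ({x} : Set G), ∃ m : ↥L, ∃ z : G,
        c = π m * z ∧ ∀ g ∈ L ⊔ M, z * g = g * z := by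
      rintro c ⟨hc, hcx⟩
      have hc' : c ∈ (↑(L ⊔ M) : Set G) := hc
      rw [Subgroup.coe_mul_of_left_le_normalizer_right L M hLnorm] at hc'
      obtain ⟨l, hl, _, ⟨m, hm, rfl⟩, rfl⟩ := hc'
      simp only [MulEquiv.coe_toMonoidHom, MulAut.conj_apply] at hcx ⊢
      replace hcx : l * (x * m * x⁻¹) * x = x * (l * (x * m * x⁻¹)) :=
        Subgroup.mem_centralizer_singleton_iff.mp hcx
      have hfix : (x * l * x⁻¹) * m = l * (x * m * x⁻¹) := by
        calc (x * l * x⁻¹) * m = (x * l * x⁻¹) * (x * (x * m * x⁻¹) * x⁻¹) := by rw [hconj2]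
          _ = x * (l * (x * m * x⁻¹)) * x⁻¹ := by group
          _ = l * (x * m * x⁻¹) * x * x⁻¹ := by rw [hcx]
          _ = _ := by group
      rw [← hcom m hm _ (hMmem l hl)] at hfix
      have hz : m⁻¹ * l = (x * l * x⁻¹) * (x * m * x⁻¹)⁻¹ := by
        calc m⁻¹ * l = m⁻¹ * (l * (x * m * x⁻¹)) * (x * m * x⁻¹)⁻¹ := by group
          _ = m⁻¹ * (m * (x * l * x⁻¹)) * (x * m * x⁻¹)⁻¹ := by rw [hfix]
          _ = _ := by group
      have hzL : m⁻¹ * l ∈ L := mul_mem (inv_mem hm) hl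
      have hzM : m⁻¹ * l ∈ M := by rw [hz]; exact mul_mem (hMmem l hl) (inv_mem (hMmem m hm))
      refine ⟨⟨m, hm⟩, m⁻¹ * l, ?_, ?_⟩
      · rw [hπ]
        have hc2 := hcom _ hzL _ (hMmem m hm)
        calc l * (x * m * x⁻¹) = m * ((m⁻¹ * l) * (x * m * x⁻¹)) := by group
          _ = m * ((x * m * x⁻¹) * (m⁻¹ * l)) := by rw [hc2]
          _ = m * (x * m * x⁻¹) * (m⁻¹ * l) := by group
      · have hle : L ⊔ M ≤ Subgroup.centralizer ({m⁻¹ * l} : Set G) := by
          refine sup_le (fun g hg => ?_) (fun g hg => ?_)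
          · exact Subgroup.mem_centralizer_singleton_iff.mpr (hcom g hg _ hzM)
          · exact Subgroup.mem_centralizer_singleton_iff.mpr (hcom _ hzL g hg).symm
        intro g hg
        exact (Subgroup.mem_centralizer_singleton_iff.mp (hle hg)).symm
    rw [Subgroup.commutator_le]
    intro c hc d hd
    obtain ⟨m, z, rfl, hzc⟩ := hdec c hc
    obtain ⟨n, w, rfl, hwc⟩ := hdec d hd
    refine ⟨⁅m, n⁆, ?_⟩
    have hm' : π m ∈ L ⊔ M := hrsup ⟨m, rfl⟩
    have hn' : π n ∈ L ⊔ M := hrsup ⟨n, rfl⟩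
    have hz1 : Commute z (π n) := hzc _ hn'
    have hw1 : Commute w (π m) := hwc _ hm'
    have hzw : Commute z w := by
      have : w ∈ L ⊔ M := by simpa using mul_mem (inv_mem hn') hd.1
      exact hzc _ this
    rw [map_commutatorElement, commutatorElement_def, commutatorElement_def]
    calc π m * π n * (π m)⁻¹ * (π n)⁻¹
        = π m * (π n * (z * z⁻¹)) * (w * (π m)⁻¹ * w⁻¹) * (π n)⁻¹ := by
          rw [hw1.inv_right.eq]; group
      _ = π m * ((π n * z) * (z⁻¹ * w)) * (π m)⁻¹ * w⁻¹ * (π n)⁻¹ := by group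
      _ = π m * ((z * π n) * (w * z⁻¹)) * (π m)⁻¹ * w⁻¹ * (π n)⁻¹ := by
          rw [hz1.symm.eq, hzw.inv_left.eq]
      _ = _ := by group
  · have hrC : π.range ≤ (L ⊔ M) ⊓ Subgroup.centralizer ({x} : Set G) := le_inf hrsup hrange
    have htop : Subgroup.map L.subtype ⁅(⊤ : Subgroup ↥L), (⊤ : Subgroup ↥L)⁆ = L := by
      rw [Subgroup.map_commutator, ← MonoidHom.range_eq_map, Subgroup.range_subtype]; exact hperf
    have htop' : ⁅(⊤ : Subgroup ↥L), (⊤ : Subgroup ↥L)⁆ = ⊤ := by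
      apply Subgroup.map_injective (Subgroup.subtype_injective L)
      rw [htop, ← MonoidHom.range_eq_map, Subgroup.range_subtype]
    calc π.range = Subgroup.map π ⁅(⊤ : Subgroup ↥L), (⊤ : Subgroup ↥L)⁆ := by rw [htop', MonoidHom.range_eq_map]
      _ = ⁅π.range, π.range⁆ := by rw [Subgroup.map_commutator, ← MonoidHom.range_eq_map]
      _ ≤ _ := Subgroup.commutator_mono hrC hrC

end Cfsg.Agent.S1314
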