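import Cfsg.Statements.S1315
import Cfsg.Agent.Intrinsic63.Reduce

set_option autoImplicit false
open Cfsg

namespace Cfsg.Agent.S1315

open Cfsg.Agent.Intrinsic63

theorem innCard_eq (X : Type*) [Group X] : innCard X = Nat.card (X ⧸ Subgroup.center X) := by
  have hker : (MulAut.conj : X →* MulAut X).ker = Subgroup.center X := by
    ext x
    rw [MonoidHom.mem_ker, Subgroup.mem_center_iff]
    constructor
    · intro h w
      have h1 := DFunLike.congr_fun h w
      rw [MulAut.conj_apply, MulAut.one_apply, mul_inv_eq_iff_eq_mul] at h1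
      exact h1.symm
    · intro h
      ext w
      rw [MulAut.conj_apply, MulAut.one_apply, ← h w, mul_inv_cancel_right]
  rw [← hker, ← Subgroup.index_eq_card, Subgroup.index_ker]

/-- Let G be finite and J ≠ K subgroups, each containing exactly one involution, z(J) resp. z(K), each a 2-component of the centralizer of its involution, with J / O(J) and K / O(K) both isomorphic to SL(2, F) for one finite field F of odd order, or both non-split double covers of A7. Then (i) every 2-element of K of order at least 4 centralizing z(J) normalizes J; (ii) if z(J) normalizes K then z(K) normalizes J. -/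
theorem result {G : Type*} [Group G] [Finite G] (J K : Subgroup G) (hJK : J ≠ K) (zJ zK : G) (hzJ : zJ ∈ J ∧ orderOf zJ = 2 ∧ ∀ t ∈ J, orderOf t = 2 → t = zJ) (hzK : zK ∈ K ∧ orderOf zK = 2 ∧ ∀ t ∈ K, orderOf t = 2 → t = zK) (hJ : J ≤ Subgroup.centralizer ({zJ} : Set G) ∧ Cfsg.IsPComponent 2 (J.subgroupOf (Subgroup.centralizer ({zJ} : Set G)))) (hK : K ≤ Subgroup.centralizer ({zK} : Set G) ∧ Cfsg.IsPComponent 2 (K.subgroupOf (Subgroup.centralizer ({zK} : Set G)))) (htype : (∃ (F : Type) (_ : Field F) (_ : Fintype F), Odd (Fintype.card F) ∧ Nonempty (↥J ⧸ Cfsg.oddCore ↥J ≃* Matrix.SpecialLinearGroup (Fin 2) F) ∧ Nonempty (↥K ⧸ Cfsg.oddCore ↥K ≃* Matrix.SpecialLinearGroup (Fin 2) F)) ∨ (Cfsg.IsNonsplitDoubleCover (↥J ⧸ Cfsg.oddCore ↥J) ↥(alternatingGroup (Fin 7)) ∧ Cfsg.IsNonsplitDoubleCover (↥K ⧸ Cfsg.oddCore ↥K) ↥(alternatingGroup (Fin 7)))) : (∀ y ∈ K, IsPGroup 2 ↥(Subgroup.zpowers y) → 4 ≤ orderOf y → y * zJ = zJ * y → y ∈ Subgroup.normalizer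 (J : Set G)) ∧ (zJ ∈ Subgroup.normalizer (K : Set G) → zK ∈ Subgroup.normalizer (J : Set G)) := by
  have hcJ : IComp zJ J := ⟨hzJ.2.1, hzJ.1, hzJ.2.2, hJ⟩
  have hcK : IComp zK K := ⟨hzK.2.1, hzK.1, hzK.2.2, hK⟩
  have hcard : innCard (↥K ⧸ Cfsg.pPrimeCore 2 ↥K) = innCard (↥J ⧸ Cfsg.pPrimeCore 2 ↥J) := by
    rcases htype with ⟨F, iF, iFf, -, ⟨eJ⟩, ⟨eK⟩⟩ | ⟨⟨-, ⟨eJ⟩, -⟩, ⟨-, ⟨eK⟩, -⟩⟩
    · exact innCard_congr (eK.trans eJ.symm)
    · rw [innCard_eq, innCard_eq]
      exact Nat.card_congr (eK.trans eJ.symm).toEquiv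
  rcases eq_or_ne zJ zK with rfl | hne
  · exact ⟨fun y hy _ _ _ => hcJ.le_normalizer hcK hy, fun _ => Subgroup.le_normalizer hzJ.1⟩
  refine ⟨fun y hy hp h4 hyc => ?_, mem_normalizer_swap hcJ hcK hcard hne⟩
  obtain ⟨k, hk⟩ := two_pow_of_mem hp (Subgroup.mem_zpowers y)
  have hyy : y * y ≠ 1 := fun e => by
    have h1 := Nat.le_of_dvd two_pos (orderOf_dvd_of_pow_eq_one (show y ^ 2 = 1 by rw [pow_two, e]))
    omega
  have hzc : Commute zK zJ := by
    have hP := hp
    obtain ⟨S, hS, hyS⟩ := exists_isSyl (z := zK) hP (Subgroup.zpowers_le.mpr (hcK.le hy))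
    obtain ⟨i, hi⟩ := Subgroup.mem_zpowers_iff.mp ((hcK.uniqInv hS).mem_zpowers_z
      ⟨hyS (Subgroup.mem_zpowers y), hy⟩ (fun e => hyy (by rw [e, one_mul])))
    exact hi ▸ (show Commute y zJ from hyc).zpow_left i
  have hzJN : zJ ∈ Subgroup.normalizer (K : Set G) := by
    rw [← cj_eq_self]
    have hy' : y ∈ cj zJ K := by
      have h1 := conj_mem_cj (g := zJ) hy
      rwa [← hyc, mul_inv_cancel_right] at h1
    exact (hcK.eq_of_four (hcK.conj_of_commute hzc.symm) hy hy' ⟨k, hk⟩ hyy).symm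
  have hzN := mem_normalizer_swap hcJ hcK hcard hne hzJN
  have key : ∀ k : ℕ, ∀ y ∈ K, Commute y zJ → y ^ 2 ^ k = 1 →
      y ∈ Subgroup.normalizer (J : Set G) := by
    intro k
    induction k with
    | zero =>
      intro y _ _ e
      rw [show y = 1 by simpa using e]
      exact one_mem _
    | succ k ih =>
      intro y hy hc e
      by_contra hnot
      refine false_of_moves hcJ hcK hne hzN hy ⟨k + 1, e⟩ hc ?_ (fun h => hnot (cj_eq_self.mp h))
      refine ih (y * y) (K.mul_mem hy hy) (hc.mul_left hc) ?_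
      rw [← pow_two, ← pow_mul, ← pow_succ']
      exact e
  exact key k y hy hyc hk

end Cfsg.Agent.S1315
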