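import Cfsg.Statements.S1316
import Cfsg.Agent.Lib.Components.GenFitting

set_option autoImplicit false
open Cfsg

namespace Cfsg.Agent.S1316

set_option linter.style.haveILetI false
open Subgroup


/-- For a finite group X, E(X) equals the intersection of the derived series of F*(X) (its last term). -/
theorem result {X : Type*} [Group X] [Finite X] : (⨅ n : ℕ, (derivedSeries ↥(Cfsg.generalizedFittingSubgroup X) n).map (Cfsg.generalizedFittingSubgroup X).subtype) = Cfsg.layer X := by
  set F := Cfsg.generalizedFittingSubgroup X with hF
  set E := Cfsg.layer X with hE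
  have hEF : E ≤ F := Components.layer_le_generalizedFitting
  refine le_antisymm ?_ (le_iInf fun n => ?_)
  · set E' := E.subgroupOf F with hE'
    set π := QuotientGroup.mk' E' with hπ
    let g : Cfsg.fittingSubgroup X →* F ⧸ E' :=
      π.comp (Subgroup.inclusion Components.fitting_le_generalizedFitting)
    have hg : Function.Surjective g := by
      intro q
      obtain ⟨⟨x, hx⟩, rfl⟩ := QuotientGroup.mk'_surjective E' q
      have hx' : x ∈ E ⊔ Cfsg.fittingSubgroup X := hx
      obtain ⟨e, he, f, hf, hef⟩ := mem_sup_of_normal_left.mp hx'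
      refine ⟨⟨f, hf⟩, ?_⟩
      refine (QuotientGroup.eq).mpr ?_
      show f⁻¹ * x ∈ E
      rw [← hef]
      have := (inferInstance : E.Normal).conj_mem e he f⁻¹
      simpa [mul_assoc] using this
    haveI : Group.IsNilpotent (Cfsg.fittingSubgroup X) := Fitting.fitting_isNilpotent
    haveI : Group.IsNilpotent (F ⧸ E') := Group.nilpotent_of_surjective g hg
    obtain ⟨n, hn⟩ := (inferInstance : Group.IsSolvable (F ⧸ E')).solvable
    refine (iInf_le _ n).trans ?_
    rw [Subgroup.map_le_iff_le_comap]
    intro x hx
    have h1 : π x ∈ derivedSeries (F ⧸ E') n :=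
      map_derivedSeries_le_derivedSeries π n ⟨x, hx, rfl⟩
    rw [hn, Subgroup.mem_bot, hπ, QuotientGroup.mk'_apply, QuotientGroup.eq_one_iff] at h1
    exact h1
  · induction n with
    | zero => rwa [derivedSeries_zero, ← MonoidHom.range_eq_map, Subgroup.range_subtype]
    | succ n ih =>
      rw [derivedSeries_succ, Subgroup.map_commutator]
      calc E = ⁅E, E⁆ := Components.layer_commutator_eq_self.symm
        _ ≤ _ := Subgroup.commutator_mono ih ih

end Cfsg.Agent.S1316
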