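import Cfsg.Statements.S1317
import Cfsg.Agent.Lib.Components.GenFitting

set_option autoImplicit false
open Cfsg

namespace Cfsg.Agent.S1317

set_option linter.style.haveILetI false
open Subgroup
open scoped IsMulCommutative Pointwise


/-- For a finite group X, the centre of the layer E(X) is F(X) ∩ E(X). -/
theorem result {X : Type*} [Group X] [Finite X] : (Subgroup.center ↥(Cfsg.layer X)).map (Cfsg.layer X).subtype = Cfsg.fittingSubgroup X ⊓ Cfsg.layer X := by
  refine le_antisymm (le_inf ?_ (Subgroup.map_subtype_le _)) ?_
  · have h : ((Subgroup.center ↥(Cfsg.layer X)).map (Cfsg.layer X).subtype).Normal := inferInstance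
    exact Fitting.le_fitting h (Fitting.isNilpotent_map _ inferInstance)
  · rintro x ⟨hxF, hxE⟩
    refine ⟨⟨x, hxE⟩, mem_center_iff.mpr fun g => Subtype.ext ?_, rfl⟩
    exact mem_centralizer_iff.mp (Components.fitting_le_centralizer_layer hxF) g g.2

end Cfsg.Agent.S1317
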