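import Cfsg.Statements.S1318
import Cfsg.Agent.Lib.Components.GenFitting

set_option autoImplicit false
open Cfsg

namespace Cfsg.Agent.S1318

set_option linter.style.haveILetI false
open Subgroup
open scoped IsMulCommutative Pointwise
open scoped commutatorElement


/-- Let X be finite and S ≤ F*(X) a subgroup subnormal in F*(X). Then F(S) = F(X) ∩ S (inside X) and S = F(S)E(S). -/
theorem result {X : Type*} [Group X] [Finite X] (S : Subgroup X) (hS : S ≤ Cfsg.generalizedFittingSubgroup X) (hsn : (S.subgroupOf (Cfsg.generalizedFittingSubgroup X)).IsSubnormal) : (Cfsg.fittingSubgroup ↥S).map S.subtype = Cfsg.fittingSubgroup X ⊓ S ∧ Cfsg.fittingSubgroup ↥S ⊔ Cfsg.layer ↥S = ⊤ := by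
  have hsnX : S.IsSubnormal := Subgroup.IsSubnormal.trans hS hsn
    (inferInstance : (Cfsg.generalizedFittingSubgroup X).Normal).isSubnormal
  set F := Cfsg.fittingSubgroup X with hF
  have hFn : Group.IsNilpotent F := Fitting.fitting_isNilpotent
  have hle : F.subgroupOf S ≤ Cfsg.fittingSubgroup ↥S := by
    refine Fitting.le_fitting inferInstance ?_
    refine Group.nilpotent_of_mulEquiv
      (G := ↥((F.subgroupOf S).map S.subtype)) (_h := ?_)
      ((F.subgroupOf S).equivMapOfInjective _ S.subtype_injective).symm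
    rw [Subgroup.subgroupOf_map_subtype]
    exact Fitting.isNilpotent_of_le hFn inf_le_left
  refine ⟨le_antisymm (le_inf (Components.map_fitting_isSubnormal_le hsnX)
    (Subgroup.map_subtype_le _)) (fun x hx => ⟨⟨x, hx.2⟩, hle hx.1, rfl⟩), ?_⟩
  set T1 := {L : Subgroup X | Cfsg.IsComponent L ∧ L ≤ S} with hT1
  set T2 := {L : Subgroup X | Cfsg.IsComponent L ∧ ¬ L ≤ S} with hT2
  have h12 : sSup T2 ≤ Subgroup.centralizer ((sSup T1 : Subgroup X) : Set X) :=
    sSup_le fun M hM => Subgroup.le_centralizer_iff.mp (sSup_le fun L hL =>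
      Components.component_le_centralizer hL.1 hM.1 fun e => hM.2 (e ▸ hL.2))
  have hS2 : sSup T2 ≤ Subgroup.centralizer (S : Set X) :=
    sSup_le fun M hM => commutator_eq_bot_iff_le_centralizer.mp
      ((Components.component_le_or_commutator_eq_bot hM.1 hsnX).resolve_left hM.2)
  have hE : Cfsg.layer X = sSup T1 ⊔ sSup T2 := by
    refine le_antisymm (Components.layer_le_iff.mpr fun L hL => ?_)
      (sup_le (sSup_le fun L hL => Components.component_le_layer hL.1)
        (sSup_le fun L hL => Components.component_le_layer hL.1))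
    by_cases h : L ≤ S
    · exact le_sup_of_le_left (le_sSup ⟨hL, h⟩)
    · exact le_sup_of_le_right (le_sSup ⟨hL, h⟩)
  have hT1S : sSup T1 ≤ S := sSup_le fun L hL => hL.2
  have hT1E : sSup T1 ≤ (Cfsg.layer ↥S).map S.subtype := sSup_le fun L hL => by
    rw [← Subgroup.map_subgroupOf_eq_of_le hL.2]
    exact Subgroup.map_mono (Components.component_le_layer
      (Components.component_subgroupOf hL.1 hL.2))
  rw [eq_top_iff]
  rintro ⟨x, hx⟩ -
  have hx' : x ∈ Cfsg.layer X ⊔ F := hS hx
  obtain ⟨e, he, f, hf, rfl⟩ := mem_sup_of_normal_left.mp hx'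
  have hnorm : sSup T1 ≤ Subgroup.normalizer ((sSup T2 : Subgroup X) : Set X) :=
    (Subgroup.le_centralizer_iff.mp h12).trans (Subgroup.centralizer_le_normalizer _)
  have he' : e ∈ ((sSup T1 : Subgroup X) : Set X) * ((sSup T2 : Subgroup X) : Set X) := by
    rw [← coe_mul_of_left_le_normalizer_right _ _ hnorm, ← hE]
    exact he
  obtain ⟨e1, he1, e2, he2, rfl⟩ := he'
  have hefS : e2 * f ∈ S := by
    have := mul_mem (inv_mem (hT1S he1)) hx
    simpa [mul_assoc] using this
  have hcS : e2 * f ∈ Subgroup.centralizer ((sSup T2 : Subgroup X) : Set X) :=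
    Subgroup.le_centralizer_iff.mp hS2 hefS
  have he2c : e2 ∈ Subgroup.centralizer ((sSup T2 : Subgroup X) : Set X) := by
    refine (mul_mem_cancel_right (Subgroup.centralizer_le
      (show ((sSup T2 : Subgroup X) : Set X) ⊆ (Cfsg.layer X : Set X) from
        SetLike.coe_subset_coe.mpr (hE.ge.trans' le_sup_right))
      (Components.fitting_le_centralizer_layer hf))).mp hcS
  have he2E : e2 ∈ Cfsg.layer X := hE ▸ mem_sup_right he2
  have he2F : e2 ∈ F := by
    have hz : e2 ∈ (Subgroup.center ↥(Cfsg.layer X)).map (Cfsg.layer X).subtype := by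
      refine ⟨⟨e2, he2E⟩, mem_center_iff.mpr fun g => Subtype.ext ?_, rfl⟩
      have key : Cfsg.layer X ≤ Subgroup.centralizer ({e2} : Set X) := by
        rw [hE, sup_le_iff]
        constructor
        · exact fun a ha => mem_centralizer_singleton_iff.mpr
            (mem_centralizer_iff.mp (h12 he2) a ha)
        · exact fun a ha => mem_centralizer_singleton_iff.mpr (mem_centralizer_iff.mp he2c a ha)
      exact mem_centralizer_singleton_iff.mp (key g.2)
    have h : ((Subgroup.center ↥(Cfsg.layer X)).map (Cfsg.layer X).subtype).Normal := inferInstance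
    exact Fitting.le_fitting h (Fitting.isNilpotent_map _ inferInstance) hz
  obtain ⟨z, hz, hze⟩ := hT1E he1
  have hxe : (⟨e1 * e2 * f, hx⟩ : S) = z * ⟨e2 * f, hefS⟩ := by
    ext
    show e1 * e2 * f = (z : X) * (e2 * f)
    rw [show (z : X) = e1 from hze, mul_assoc]
  rw [hxe]
  exact mul_mem (mem_sup_right hz) (mem_sup_left (hle (mul_mem he2F hf)))

end Cfsg.Agent.S1318
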