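import Cfsg.Statements.S1319
import Cfsg.Agent.Lib.Coprime.Action
import Cfsg.Agent.Lib.Components.GenFitting

set_option autoImplicit false
open Cfsg

namespace Cfsg.Agent.S1319

set_option linter.style.haveILetI false
open Subgroup


/-- Let A be a subnormal subgroup of the finite group X with E(A) = A. Then A ≤ E(X) and A is normal in E(X). -/
theorem result {X : Type*} [Group X] [Finite X] (A : Subgroup X) (hsn : A.IsSubnormal) (hA : Cfsg.layer ↥A = ⊤) : A ≤ Cfsg.layer X ∧ (A.subgroupOf (Cfsg.layer X)).Normal := by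
  have hAE : A ≤ Cfsg.layer X := by
    have h := Components.map_layer_isSubnormal_le hsn
    rwa [hA, ← MonoidHom.range_eq_map, Subgroup.range_subtype] at h
  refine ⟨hAE, (normal_subgroupOf_iff_le_normalizer hAE).mpr ?_⟩
  refine Coprime.le_normalizer_of_conj_mem fun g hg x hx => ?_
  have key : Cfsg.layer ↥A ≤ A.comap ((MulAut.conj g).toMonoidHom.comp A.subtype) := by
    rw [Components.layer_le_iff]
    intro L hL l hl
    have hLX := (Components.isComponent_map_subtype_iff hsn L).mp hL
    have h1 : g * (l : X) * g⁻¹ ∈ L.map A.subtype :=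
      (mem_normalizer_iff.mp (Components.layer_le_normalizer hLX hg) (l : X)).mp ⟨l, hl, rfl⟩
    show g * (l : X) * g⁻¹ ∈ A
    exact Subgroup.map_subtype_le _ h1
  rw [hA] at key
  exact key (mem_top (⟨x, hx⟩ : A))

end Cfsg.Agent.S1319
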