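import Cfsg.Statements.S1323
import Cfsg.Agent.H40.Standard

set_option autoImplicit false
open Cfsg

namespace Cfsg.Agent.S1323

open Equiv Equiv.Perm

variable {α : Type*} [Fintype α] [DecidableEq α]

theorem mem_R_iff (s : Finset α) (k : alternatingGroup α) :
    k ∈ (alternatingGroup.ofSubtype s).range ↔ ∀ x, x ∉ s → (k : Perm α) x = x := by
  rw [alternatingGroup.mem_range_ofSubtype_iff]
  constructor
  · intro h x hx
    by_contra hne
    exact hx (h (mem_support.mpr hne))
  · intro h x hx
    by_contra hne
    exact mem_support.mp hx (h x hne)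

theorem exists_cycle (s : Finset α) {y : α} (hy : y ∈ s) (x : α)
    (hs : 4 ≤ s.card) :
    ∃ k ∈ (alternatingGroup.ofSubtype s).range, (k : Perm α) y ≠ y ∧ (x ≠ y → (k : Perm α) x = x) := by
  have h2 : 1 < ((s.erase y).erase x).card := by
    have h1 := Finset.card_erase_of_mem hy
    have h2 := Finset.pred_card_le_card_erase (a := x) (s := s.erase y)
    omega
  obtain ⟨a, ha, b, hb, hab⟩ := Finset.one_lt_card.1 h2
  simp only [Finset.mem_erase] at ha hb
  have h3 : (swap y a * swap y b).IsThreeCycle :=
    isThreeCycle_swap_mul_swap_same (Ne.symm ha.2.1) (Ne.symm hb.2.1) hab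
  refine ⟨⟨_, h3.mem_alternatingGroup⟩, (mem_R_iff s _).mpr fun z hz => ?_, ?_, fun hxy => ?_⟩
  · have hzy : z ≠ y := fun h => hz (h ▸ hy)
    have hza : z ≠ a := fun h => hz (h ▸ ha.2.2)
    have hzb : z ≠ b := fun h => hz (h ▸ hb.2.2)
    simp [swap_apply_of_ne_of_ne, hzy, hza, hzb]
  · simp only [Perm.coe_mul, Function.comp_apply, swap_apply_left]
    rw [swap_apply_of_ne_of_ne hb.2.1 (Ne.symm hab)]
    exact hb.2.1
  · simp [swap_apply_of_ne_of_ne, hxy, Ne.symm ha.1, Ne.symm hb.1]

theorem commute_of_disjoint (q : Finset α) (g k : alternatingGroup α)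
    (hg : g ∈ (alternatingGroup.ofSubtype q).range)
    (hk : k ∈ (alternatingGroup.ofSubtype qᶜ).range) : g * k = k * g := by
  rw [mem_R_iff] at hg hk
  refine Subtype.ext ?_
  refine (Equiv.Perm.Disjoint.commute (fun x => ?_)).eq
  by_cases hx : x ∈ q
  · exact Or.inr (hk x (by simp [hx]))
  · exact Or.inl (hg x hx)

theorem centralizer_range (q : Finset α) (hq : 4 ≤ qᶜ.card) :
    Subgroup.centralizer ((alternatingGroup.ofSubtype qᶜ).range : Set (alternatingGroup α)) =
      (alternatingGroup.ofSubtype q).range := by
  refine le_antisymm (fun g hg => ?_) fun g hg => ?_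
  · rw [mem_R_iff]
    intro x hx
    by_contra hne
    have hx' : x ∈ qᶜ := Finset.mem_compl.2 hx
    have hc : ∀ k ∈ (alternatingGroup.ofSubtype qᶜ).range, ∀ z,
        (k : Perm α) ((g : Perm α) z) = (g : Perm α) ((k : Perm α) z) := by
      intro k hk z
      have h := congrArg (fun u : alternatingGroup α => (u : Perm α) z)
        (Subgroup.mem_centralizer_iff.mp hg k hk)
      simpa using h
    by_cases hy : (g : Perm α) x ∈ q
    · obtain ⟨k, hk, hkx, -⟩ := exists_cycle qᶜ hx' x hq
      have h := hc k hk x
      rw [(mem_R_iff _ k).mp hk _ (by simp [hy])] at h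
      exact hkx ((g : Perm α).injective h.symm)
    · obtain ⟨k, hk, hky, hkx⟩ := exists_cycle qᶜ (Finset.mem_compl.2 hy) x hq
      have h := hc k hk x
      rw [hkx (Ne.symm hne)] at h
      exact hky h
  · exact Subgroup.mem_centralizer_iff.mpr fun k hk => (commute_of_disjoint q g k hg hk).symm

open scoped Pointwise in
theorem smul_eq_of_range_eq (q : Finset α) (hq : 4 ≤ q.card) (g : alternatingGroup α)
    (h : MulAut.conj g • (alternatingGroup.ofSubtype q).range = (alternatingGroup.ofSubtype q).range) :
    g • q = q := by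
  rw [alternatingGroup.conj_smul_range_ofSubtype] at h
  refine (Finset.eq_of_subset_of_card_le ?_ (by simp)).symm
  intro y hy
  obtain ⟨k, hk, hky, -⟩ := exists_cycle q hy y hq
  rw [← h, mem_R_iff] at hk
  by_contra hy'
  exact hky (hk y hy')

theorem isSolvable_alt_four {β : Type*} [Fintype β] [DecidableEq β] (h : Nat.card β = 4) :
    Group.IsSolvable (alternatingGroup β) := by
  rw [Group.isSolvable_def]
  refine ⟨2, ?_⟩
  rw [show (2 : ℕ) = 1 + 1 from rfl, derivedSeries_succ, derivedSeries_one,
    ← alternatingGroup.kleinFour_eq_commutator h, Subgroup.commutator_eq_bot_iff_le_centralizer]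
  intro x hx
  rw [Subgroup.mem_centralizer_iff]
  intro y hy
  have hK := alternatingGroup.kleinFour_isKleinFour h
  exact congrArg Subtype.val (mul_comm_of_exponent_two hK.exponent_two ⟨y, hy⟩ ⟨x, hx⟩)

open scoped Pointwise in
theorem standard (q : Finset α) (hq : q.card = 4) (hq' : 5 ≤ qᶜ.card) :
    Cfsg.IsStandardSubgroup (alternatingGroup.ofSubtype qᶜ).range := by
  have hC := centralizer_range q (le_of_lt hq')
  have hcard : Nat.card ↥q = 4 := by simp [hq]
  refine H40.isStandardSubgroup_of_solvable_centralizer _ ?_ ?_ ?_ ?_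
  · refine Components.isQuasisimple_of_mulEquiv
      (MonoidHom.ofInjective alternatingGroup.ofSubtype_injective) ?_
    haveI := alternatingGroup.isSimpleGroup (α := ↥qᶜ) (by rwa [Nat.card_eq_fintype_card, Fintype.card_coe])
    refine Components.isQuasisimple_of_isSimpleGroup ?_
    rw [alternatingGroup.isMulCommutative_iff_card_le_three]
    simp only [Nat.card_eq_fintype_card, Fintype.card_coe]
    omega
  · rw [hC]
    haveI := isSolvable_alt_four hcard
    exact Group.isSolvable_of_surjective (alternatingGroup.ofSubtype q).rangeRestrict_surjective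
  · rw [hC]
    refine ⟨?_, fun g hg => ?_⟩
    · rw [Nat.card_congr (MonoidHom.ofInjective alternatingGroup.ofSubtype_injective).toEquiv.symm]
      rw [alternatingGroup.card_of_card_eq_four hcard]
      decide
    · set R := (alternatingGroup.ofSubtype q).range
      have hmap : R.map (MulAut.conj g).toMonoidHom = MulAut.conj g • R := rfl
      rw [hmap]
      rw [Nat.odd_iff]
      by_contra hodd
      have h2 : 2 ∣ Nat.card ↥(R ⊓ MulAut.conj g • R) := by omega
      haveI : Fact (Nat.Prime 2) := ⟨Nat.prime_two⟩
      obtain ⟨⟨x, hx⟩, hord⟩ := exists_prime_orderOf_dvd_card' 2 h2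
      obtain ⟨hx1, hx2⟩ := Subgroup.mem_inf.mp hx
      rw [Subgroup.orderOf_mk] at hord
      have hord2 : orderOf (x : Perm α) = 2 := by rw [Subgroup.orderOf_coe, hord]
      rw [alternatingGroup.mem_range_ofSubtype_iff] at hx1
      rw [alternatingGroup.conj_smul_range_ofSubtype, alternatingGroup.mem_range_ofSubtype_iff] at hx2
      have hne : g • q ≠ q := by
        intro he
        apply hg
        have hR : MulAut.conj g • R = R := by
          rw [alternatingGroup.conj_smul_range_ofSubtype, he]
        rw [Subgroup.mem_normalizer_iff]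
        intro y
        conv_rhs => rw [← hR]
        exact (Subgroup.smul_mem_pointwise_smul_iff (a := MulAut.conj g) (S := R) (x := y)).symm
      have hlt : (x : Perm α).support.card < 4 := by
        have hsub : (x : Perm α).support ⊆ q ∩ (g • q) := Finset.subset_inter hx1 hx2
        have h1 : (q ∩ (g • q)).card < q.card := by
          refine Finset.card_lt_card (Finset.ssubset_iff_subset_ne.2 ⟨Finset.inter_subset_left, ?_⟩)
          intro he
          exact hne (Finset.eq_of_subset_of_card_le (Finset.inter_eq_left.mp he) (by simp)).symm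
        have := Finset.card_le_card hsub
        omega
      have hsign : Equiv.Perm.sign (x : Perm α) = 1 := Equiv.Perm.mem_alternatingGroup.mp x.2
      interval_cases hn : (x : Perm α).support.card
      · rw [Finset.card_eq_zero, support_eq_empty_iff] at hn
        rw [hn, orderOf_one] at hord2
        omega
      · exact card_support_ne_one _ hn
      · rw [(card_support_eq_two.mp hn).sign_eq] at hsign
        exact absurd hsign (by decide)
      · rw [(card_support_eq_three_iff.mp hn).orderOf] at hord2
        omega
  · rw [hC]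
    intro g hg
    have hsm : g • q = q := by
      apply smul_eq_of_range_eq q hq.ge g
      ext y
      rw [Subgroup.mem_pointwise_smul_iff_inv_smul_mem, ← map_inv, MulAut.smul_def,
        MulAut.conj_apply]
      exact ((Subgroup.mem_normalizer_iff.mp (inv_mem hg)) y).symm
    have hsc : g • qᶜ = qᶜ := by
      ext x
      rw [← Finset.inv_smul_mem_iff, Finset.mem_compl, Finset.mem_compl, Finset.inv_smul_mem_iff, hsm]
    rw [Subgroup.mem_normalizer_iff]
    intro y
    conv_rhs => rw [← hsc, ← alternatingGroup.conj_smul_range_ofSubtype]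
    exact (Subgroup.smul_mem_pointwise_smul_iff (a := MulAut.conj g) (x := y)).symm

/-- For n ≥ 9, the subgroup of the alternating group on Fin n fixing each of the points 0, 1, 2, 3 is a standard subgroup. -/
theorem result (n : ℕ) (h4 : 4 ≤ n) (hn : 9 ≤ n) : Cfsg.IsStandardSubgroup (⨅ i : Fin 4, MulAction.stabilizer ↥(alternatingGroup (Fin n)) (Fin.castLE h4 i : Fin n)) := by
  have hq : (Finset.univ.image (Fin.castLE h4)).card = 4 := by
    rw [Finset.card_image_of_injective _ (Fin.castLE_injective h4)]
    simp
  have h := standard (Finset.univ.image (Fin.castLE h4)) hq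
    (by rw [Finset.card_compl, hq, Fintype.card_fin]; omega)
  convert h using 1
  ext k
  rw [Subgroup.mem_iInf, mem_R_iff]
  simp [MulAction.mem_stabilizer_iff, Subgroup.smul_def]

end Cfsg.Agent.S1323
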