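import Cfsg.Statements.S1331
import Cfsg.Prelude.Def_Balance
import Cfsg.Agent.H40.Hyperplane

set_option autoImplicit false
open Cfsg

namespace Cfsg.Agent.S1331

/-- Let θ be a solvable A-signalizer functor on the finite group G for the prime p, A elementary abelian of rank at least 3, X a member of the family of θ, and B ≤ A with |B| ≥ p². Then X is generated by the subgroups X ∩ ⋂_{d ∈ D, d ≠ 1} θ d, D ranging over the subgroups of index p in B. -/
theorem result {G : Type*} [Group G] [Finite G] (p : ℕ) [Fact p.Prime] (A : Subgroup G) (hA : Cfsg.IsElementaryAbelian p A) (hA3 : p ^ 3 ≤ Nat.card ↥A) (θ : G → Subgroup G) (hθ : Cfsg.IsSolvableSignalizerFunctor p A θ) (X : Subgroup G) (hX : X ∈ Cfsg.signalizerFamily p A θ) (B : Subgroup G) (hB : B ≤ A) (hB2 : p ^ 2 ≤ Nat.card ↥B) : X = ⨆ D : {D : Subgroup G // D ≤ B ∧ D.relIndex B = p}, X ⊓ Cfsg.signalizerInf (D : Subgroup G) θ := by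
  obtain ⟨-, hXp, hXA, hXθ⟩ := hX
  have hp : p.Prime := Fact.out
  refine le_antisymm ?_ (iSup_le fun _ => inf_le_left)
  have hBe : Cfsg.IsElementaryAbelian p B := H40.elementary_of_le hA hB
  have hBX : B ≤ Subgroup.normalizer (X : Set G) :=
    Subgroup.le_normalizer_iff.mpr fun b hb x hx => hXA b (hB hb) x hx
  refine (H40.le_iSup_hyperplane hBe hXp hBX).trans (iSup_le fun D => ?_)
  obtain ⟨D, hDB, hD⟩ := D
  obtain ⟨n, hn⟩ := H40.card_elementary hBe
  have hn2 : 2 ≤ n := (Nat.pow_le_pow_iff_right hp.one_lt).mp (hn ▸ hB2)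
  have hDrel : Nat.card D * D.relIndex B = p ^ n := by
    have h := Subgroup.relIndex_mul_relIndex ⊥ D B bot_le hDB
    rwa [Subgroup.relIndex_bot_left, Subgroup.relIndex_bot_left, hn] at h
  -- a hyperplane inside `D`
  obtain ⟨D', hD'D, hD'⟩ : ∃ D' : Subgroup G, D' ≤ D ∧ D'.relIndex B = p := by
    obtain ⟨r, -, hr⟩ := (Nat.dvd_prime_pow hp).mp (Dvd.intro_left _ hDrel)
    have hdvd : p ^ (n - 1) ∣ Nat.card D := by
      obtain ⟨d, hd⟩ := H40.card_elementary (H40.elementary_of_le hBe hDB)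
      rw [hd]
      refine pow_dvd_pow p ?_
      rw [hd, hr, ← pow_add] at hDrel
      have h1 := Nat.pow_right_injective hp.two_le hDrel
      have h2 : r ≤ 1 := (Nat.pow_le_pow_iff_right hp.one_lt).mp (by rw [pow_one]; exact hr ▸ hD)
      omega
    obtain ⟨K, hK⟩ := Sylow.exists_subgroup_card_pow_prime (G := D) p hdvd
    refine ⟨K.map D.subtype, Subgroup.map_subtype_le K, ?_⟩
    have h := Subgroup.relIndex_mul_relIndex ⊥ (K.map D.subtype) B bot_le
      ((Subgroup.map_subtype_le K).trans hDB)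
    rw [Subgroup.relIndex_bot_left, Subgroup.relIndex_bot_left, hn,
      Subgroup.card_map_of_injective D.subtype_injective, hK] at h
    refine Nat.eq_of_mul_eq_mul_left (pow_pos hp.pos (n - 1)) (h.trans ?_)
    rw [← pow_succ, Nat.sub_add_cancel (by omega)]
  refine le_trans ?_ (le_iSup_of_le ⟨D', hD'D.trans hDB, hD'⟩ le_rfl)
  refine le_inf inf_le_left (le_iInf fun a => ?_)
  obtain ⟨a, haD, ha1⟩ := a
  intro x hx
  refine hXθ a (hB (hDB (hD'D haD))) ha1 ⟨hx.1, ?_⟩
  show x ∈ Subgroup.centralizer {a}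
  rw [Subgroup.mem_centralizer_singleton_iff]
  exact (Subgroup.mem_centralizer_iff.mp hx.2 a (hD'D haD)).symm

end Cfsg.Agent.S1331
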