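import Cfsg.Statements.S1335
import Cfsg.Agent.H40.Basic

set_option autoImplicit false
open Cfsg

namespace Cfsg.Agent.S1335

/-- Let H be a subgroup of the finite group G, p a prime, k ≥ 1, P a Sylow p-subgroup of H of p-rank at least k, and suppose N_G(X) ≤ H for every subgroup X ≤ P of p-rank at least k. Then P is a Sylow p-subgroup of G. -/
theorem result {G : Type*} [Group G] [Finite G] {p : ℕ} [Fact p.Prime] (k : ℕ) (hk : 1 ≤ k) (H : Subgroup G) (P : Sylow p ↥H) (hP : ¬ Cfsg.PRankLE p (k - 1) ↥(P : Subgroup ↥H)) (hΓ : (∀ X : Subgroup G, X ≤ (P : Subgroup ↥H).map H.subtype → ¬ Cfsg.PRankLE p (k - 1) ↥X → Subgroup.normalizer (X : Set G) ≤ H)) : ∃ Q : Sylow p G, (Q : Subgroup G) = (P : Subgroup ↥H).map H.subtype := by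
  set P' : Subgroup G := (P : Subgroup ↥H).map H.subtype with hP'
  have hP'p : IsPGroup p P' := P.isPGroup'.map H.subtype
  obtain ⟨Q, hQ⟩ := hP'p.exists_le_sylow
  refine ⟨Q, ?_⟩
  by_contra hne
  obtain ⟨g, hgQ, hgP, hgN⟩ := H40.exists_normalizer_gt Q.isPGroup' hQ (Ne.symm hne)
  have hgH : g ∈ H := hΓ P' le_rfl (fun h => hP (H40.rankLE_of_mulEquiv
    ((P : Subgroup ↥H).equivMapOfInjective H.subtype H.subtype_injective).symm h)) hgN
  have hR : IsPGroup p ↥((P : Subgroup ↥H) ⊔ Subgroup.zpowers (⟨g, hgH⟩ : H)) := by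
    refine (Q.isPGroup'.comap_subtype (K := H)).to_le ?_
    refine sup_le ?_ ?_
    · intro x hx
      exact hQ ⟨x, hx, rfl⟩
    · rw [Subgroup.zpowers_le]
      exact hgQ
  have h2 := P.is_maximal' hR le_sup_left
  apply hgP
  refine ⟨⟨g, hgH⟩, ?_, rfl⟩
  have : (⟨g, hgH⟩ : H) ∈ (P : Subgroup ↥H) ⊔ Subgroup.zpowers (⟨g, hgH⟩ : H) :=
    Subgroup.mem_sup_right (Subgroup.mem_zpowers _)
  rw [h2] at this
  exact this

end Cfsg.Agent.S1335
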