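import Cfsg.Statements.S1336
import Cfsg.Prelude.Def_Balance
import Cfsg.Agent.H40.Basic

set_option autoImplicit false
open Cfsg

namespace Cfsg.Agent.S1336

/-- Let G be finite and p prime. Then G has a proper subgroup H with p ∣ |H| and p ∤ |H ∩ gHg⁻¹| for every g ∉ H (a strongly p-embedded subgroup) if and only if G is not 1-connected for p. -/
theorem result {G : Type*} [Group G] [Finite G] (p : ℕ) [Fact p.Prime] : (∃ H : Subgroup G, H ≠ ⊤ ∧ p ∣ Nat.card ↥H ∧ ∀ g : G, g ∉ H → ¬ p ∣ Nat.card ↥(H ⊓ H.map (MulAut.conj g).toMonoidHom)) ↔ ¬ Cfsg.IsKConnected p 1 G := by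
  let R : Subgroup G → Subgroup G → Prop := fun A B => Cfsg.IsElementaryAbelian p A ∧
    p ^ 1 ≤ Nat.card ↥A ∧ Cfsg.IsElementaryAbelian p B ∧ p ^ 1 ≤ Nat.card ↥B ∧
    ∀ a ∈ A, ∀ b ∈ B, a * b = b * a
  have hp : p.Prime := Fact.out
  constructor
  · rintro ⟨H, hH, hpH, hsep⟩ hconn
    obtain ⟨z, hz⟩ := exists_prime_orderOf_dvd_card' p hpH
    have hzG : orderOf (z : G) = p := by rw [Subgroup.orderOf_coe]; exact hz
    have hz0 : Cfsg.IsElementaryAbelian p (Subgroup.zpowers (z : G)) :=
      H40.elementary_zpowers (by conv_lhs => rw [← hzG, pow_orderOf_eq_one])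
    have stay : ∀ A B, Relation.ReflTransGen R A B → A ≤ H → B ≤ H := by
      intro A B h
      induction h with
      | refl => exact id
      | @tail B C _ hBC ih =>
        intro hA b hb
        have hB := ih hA
        by_contra hbH
        refine hsep b hbH ?_
        have hle : B ≤ H ⊓ H.map (MulAut.conj b).toMonoidHom := fun x hx => by
          refine ⟨hB hx, x, hB hx, ?_⟩
          show b * x * b⁻¹ = x
          rw [← hBC.2.2.2.2 x hx b hb, mul_inv_cancel_right]
        have hd := Subgroup.card_dvd_of_le hle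
        obtain ⟨n, hn⟩ := H40.card_elementary hBC.1
        have hpos : n ≠ 0 := by
          intro h0
          have := hBC.2.1
          rw [hn, h0, pow_zero, pow_one] at this
          exact absurd this (not_le.mpr hp.one_lt)
        exact ((dvd_pow_self p hpos).trans (hn ▸ dvd_rfl)).trans hd
    have hall : ∀ x : G, orderOf x = p → x ∈ H := by
      intro x hx
      have hx0 : Cfsg.IsElementaryAbelian p (Subgroup.zpowers x) :=
        H40.elementary_zpowers (by conv_lhs => rw [← hx, pow_orderOf_eq_one])
      exact stay _ _ (hconn _ _ hz0 (by rw [Nat.card_zpowers, hzG, pow_one]) hx0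
        (by rw [Nat.card_zpowers, hx, pow_one])) (Subgroup.zpowers_le.mpr z.2) (Subgroup.mem_zpowers x)
    obtain ⟨g, hg⟩ : ∃ g : G, g ∉ H := by
      by_contra h
      push Not at h
      exact hH (eq_top_iff.mpr fun x _ => h x)
    refine hsep g hg ?_
    have hle : Subgroup.zpowers ((MulAut.conj g) (z : G)) ≤ H ⊓ H.map (MulAut.conj g).toMonoidHom := by
      rw [Subgroup.zpowers_le]
      exact ⟨hall _ (by rw [MulEquiv.orderOf_eq, hzG]), ⟨z, z.2, rfl⟩⟩
    have hd := Subgroup.card_dvd_of_le hle
    rw [Nat.card_zpowers, MulEquiv.orderOf_eq, hzG] at hd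
    exact hd
  · intro hnc
    unfold Cfsg.IsKConnected at hnc
    push Not at hnc
    obtain ⟨E, E', hE, hE1, hE', hE1', hEE'⟩ := hnc
    have hsymm : ∀ A B, Relation.ReflTransGen R A B → Relation.ReflTransGen R B A := by
      intro A B h
      induction h with
      | refl => exact .refl
      | @tail B C _ hBC ih =>
        exact .head ⟨hBC.2.2.1, hBC.2.2.2.1, hBC.1, hBC.2.1,
          fun a ha b hb => (hBC.2.2.2.2 b hb a ha).symm⟩ ih
    have hmap : ∀ (e : G ≃* G) A B, Relation.ReflTransGen R A B →
        Relation.ReflTransGen R (A.map e.toMonoidHom) (B.map e.toMonoidHom) := by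
      intro e A B h
      induction h with
      | refl => exact .refl
      | @tail B C _ hBC ih =>
        refine .tail ih ⟨H40.elementary_map hBC.1 _, ?_, H40.elementary_map hBC.2.2.1 _, ?_, ?_⟩
        · rw [Subgroup.card_map_of_injective e.injective]; exact hBC.2.1
        · rw [Subgroup.card_map_of_injective e.injective]; exact hBC.2.2.2.1
        · rintro _ ⟨a, ha, rfl⟩ _ ⟨b, hb, rfl⟩
          rw [← map_mul, ← map_mul, hBC.2.2.2.2 a ha b hb]
    obtain ⟨S, hES⟩ := (H40.isPGroup_elementary hE).exists_le_sylow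
    haveI : Nontrivial ↥(S : Subgroup G) := by
      rw [← Finite.one_lt_card_iff_nontrivial]
      have h1 := Nat.le_of_dvd Nat.card_pos (Subgroup.card_dvd_of_le hES)
      rw [pow_one] at hE1
      exact lt_of_lt_of_le hp.one_lt (hE1.trans h1)
    haveI := S.isPGroup'.center_nontrivial
    have hcp := (S.isPGroup'.to_subgroup (Subgroup.center ↥(S : Subgroup G))).card_eq_or_dvd
    obtain ⟨z, hz⟩ : ∃ z : Subgroup.center ↥(S : Subgroup G), orderOf z = p :=
      exists_prime_orderOf_dvd_card' p (hcp.resolve_left Finite.one_lt_card.ne')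
    set w : G := ((z : ↥(S : Subgroup G)) : G) with hw
    have hwp : orderOf w = p := by rw [hw, Subgroup.orderOf_coe, Subgroup.orderOf_coe, hz]
    have hwS : ∀ s ∈ (S : Subgroup G), s * w = w * s := fun s hs =>
      congrArg Subtype.val (Subgroup.mem_center_iff.mp z.2 ⟨s, hs⟩)
    have hW : ∀ g : G, Cfsg.IsElementaryAbelian p (Subgroup.zpowers (g * w * g⁻¹)) ∧
        p ^ 1 ≤ Nat.card ↥(Subgroup.zpowers (g * w * g⁻¹)) := by
      intro g
      have : orderOf (MulAut.conj g w) = p := by rw [MulEquiv.orderOf_eq, hwp]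
      rw [MulAut.conj_apply] at this
      refine ⟨H40.elementary_zpowers (by conv_lhs => rw [← this, pow_orderOf_eq_one]), ?_⟩
      rw [Nat.card_zpowers, this, pow_one]
    let Z : G → Subgroup G := fun g => Subgroup.zpowers (g * w * g⁻¹)
    have hcomm : ∀ (g : G) (A : Subgroup G), Cfsg.IsElementaryAbelian p A → p ^ 1 ≤ Nat.card ↥A →
        (∀ a ∈ A, g⁻¹ * a * g ∈ (S : Subgroup G)) → R A (Z g) := by
      refine fun g A hA hA1 h => ⟨hA, hA1, (hW g).1, (hW g).2, ?_⟩
      rintro a ha _ ⟨i, rfl⟩
      refine (Commute.zpow_right ?_ i).eq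
      have := hwS _ (h a ha)
      show a * (g * w * g⁻¹) = g * w * g⁻¹ * a
      calc a * (g * w * g⁻¹) = g * (g⁻¹ * a * g * w) * g⁻¹ := by group
        _ = g * (w * (g⁻¹ * a * g)) * g⁻¹ := by rw [this]
        _ = g * w * g⁻¹ * a := by group
    have hconjZ : ∀ g h : G, (Z h).map (MulAut.conj g).toMonoidHom = Z (g * h) := by
      intro g h
      show (Subgroup.zpowers _).map _ = Subgroup.zpowers _
      rw [MonoidHom.map_zpowers]
      congr 1
      show g * (h * w * h⁻¹) * g⁻¹ = g * h * w * (g * h)⁻¹
      group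
    let H : Subgroup G :=
      { carrier := {g | Relation.ReflTransGen R (Z 1) (Z g)}
        one_mem' := Relation.ReflTransGen.refl
        mul_mem' := by
          intro a b ha hb
          have := hmap (MulAut.conj a) _ _ hb
          rw [hconjZ, hconjZ, mul_one] at this
          exact Relation.ReflTransGen.trans ha this
        inv_mem' := by
          intro a ha
          have := hmap (MulAut.conj a⁻¹) _ _ ha
          rw [hconjZ, hconjZ, mul_one, inv_mul_cancel] at this
          exact hsymm _ _ this }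
    have hSH : (S : Subgroup G) ≤ H := by
      intro s hs
      show Relation.ReflTransGen R (Z 1) (Z s)
      have : Z s = Z 1 := by
        show Subgroup.zpowers _ = Subgroup.zpowers _
        rw [hwS s hs, mul_inv_cancel_right, one_mul, inv_one, mul_one]
      rw [this]
    have hreach : ∀ A : Subgroup G, Cfsg.IsElementaryAbelian p A → p ^ 1 ≤ Nat.card ↥A →
        ∃ g, R A (Z g) := by
      intro A hA hA1
      obtain ⟨T, hT⟩ := (H40.isPGroup_elementary hA).exists_le_sylow
      obtain ⟨g, rfl⟩ := MulAction.exists_smul_eq G S T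
      refine ⟨g, hcomm g A hA hA1 fun a ha => ?_⟩
      have := hT ha
      rw [Sylow.coe_subgroup_smul, Subgroup.mem_pointwise_smul_iff_inv_smul_mem] at this
      simpa [← map_inv, MulAut.conj_apply, MulAut.smul_def] using this
    refine ⟨H, ?_, ?_, ?_⟩
    · intro htop
      apply hEE'
      obtain ⟨g, hg⟩ := hreach E hE hE1
      obtain ⟨g', hg'⟩ := hreach E' hE' hE1'
      have h1 : g ∈ H := htop ▸ Subgroup.mem_top g
      have h2 : g' ∈ H := htop ▸ Subgroup.mem_top g'
      exact ((Relation.ReflTransGen.single hg).trans (hsymm _ _ h1)).trans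
        (Relation.ReflTransGen.trans h2 (hsymm _ _ (.single hg')))
    · have hwH : w ∈ H := hSH (z : ↥(S : Subgroup G)).2
      rw [← hwp]
      exact Subgroup.orderOf_dvd_natCard H hwH
    · intro g hg hdvd
      obtain ⟨x, hx⟩ := exists_prime_orderOf_dvd_card' p hdvd
      have hxG : orderOf (x : G) = p := by rw [Subgroup.orderOf_coe, hx]
      have main : ∀ y : G, orderOf y = p → y ∈ H →
          Relation.ReflTransGen R (Z 1) (Subgroup.zpowers y) := by
        intro y hy hyH
        have hyp : Cfsg.IsElementaryAbelian p (Subgroup.zpowers y) :=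
          H40.elementary_zpowers (by conv_lhs => rw [← hy, pow_orderOf_eq_one])
        obtain ⟨T, hT⟩ := ((H40.isPGroup_elementary hyp).comap_subtype (K := H)).exists_le_sylow
        obtain ⟨h, hh⟩ := MulAction.exists_smul_eq ↥H (S.subtype hSH) T
        refine Relation.ReflTransGen.trans h.2 (hsymm _ _ (.single
          (hcomm h _ hyp (by rw [Nat.card_zpowers, hy, pow_one]) fun a ha => ?_)))
        have haH : a ∈ H := Subgroup.zpowers_le.mpr hyH ha
        have := hT (show (⟨a, haH⟩ : H) ∈ (Subgroup.zpowers y).comap H.subtype from ha)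
        rw [← hh, Sylow.coe_subgroup_smul, Subgroup.mem_pointwise_smul_iff_inv_smul_mem] at this
        simpa [← map_inv, MulAut.conj_apply, MulAut.smul_def, Subgroup.mem_subgroupOf] using this
      obtain ⟨y, hyH, hy⟩ := x.2.2
      have hyp : orderOf y = p := by rw [← hxG, ← hy]; exact (MulEquiv.orderOf_eq _ _).symm
      have h1 := main x hxG x.2.1
      have h2 := hmap (MulAut.conj g) _ _ (main y hyp hyH)
      rw [hconjZ, mul_one, MonoidHom.map_zpowers, hy] at h2
      exact hg (Relation.ReflTransGen.trans h1 (hsymm _ _ h2))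

end Cfsg.Agent.S1336
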