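import Cfsg.Statements.S1338
import Cfsg.Prelude.Def_Balance
import Cfsg.Agent.H40.NormalRankFour
import Cfsg.Agent.H40.Connected

set_option autoImplicit false
open Cfsg

namespace Cfsg.Agent.S1338

/-- A finite 3-group of 3-rank at least 4 is 2-connected for the prime 3: its commuting graph on elementary abelian subgroups of order ≥ 9 is connected. -/
theorem result {P : Type*} [Group P] [Finite P] (hP : IsPGroup 3 P) (hrk : ¬ Cfsg.PRankLE 3 3 P) : Cfsg.IsKConnected 3 2 P := by
  haveI : Fact (Nat.Prime 3) := ⟨Nat.prime_three⟩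
  have hrk2 : ¬ Cfsg.PRankLE 3 2 P := fun h => hrk fun A h1 h2 =>
    (h A h1 h2).trans (Nat.pow_le_pow_right (by norm_num) (by norm_num))
  obtain ⟨U, hUn, hU, hUc⟩ := H40.exists_normal_elementary_sq hP hrk2
  obtain ⟨W, hWn, hW, hW4⟩ := H40.exists_normal_elementary_four hP (by norm_num) hrk
  have hall : ∀ X : Subgroup P, Cfsg.IsElementaryAbelian 3 X → 3 ^ 2 ≤ Nat.card ↥X →
      Relation.ReflTransGen (H40.Adj 3) X U := fun X hX hX2 =>
    (H40.connected_iff hP hrk2 hUn hU hUc hX hX2).mpr (H40.rank_centralizer_three hP hWn hW hW4 hX hX2)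
  intro E E' hE hE2 hE' hE2'
  exact (hall E hE hE2).trans (H40.adj_symm (hall E' hE' hE2'))

end Cfsg.Agent.S1338
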