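import Cfsg.Statements.S1349
import Cfsg.Agent.H40.Dihedral

set_option autoImplicit false
open Cfsg

namespace Cfsg.Agent.S1349

/-- Let G be finite, L ≤ G solvable of odd order, and A an elementary abelian 2-subgroup of order 2^d (d ≥ 1) normalizing L with C_A(L) = 1. Then there are subgroups A_1, …, A_d of A of order 2 generating A and subgroups L_1, …, L_d of L such that each A_i ⊔ L_i is dihedral of order 2 n_i with n_i odd and at least 3, and A_i ⊔ L_i commutes elementwise with A_j ⊔ L_j for i ≠ j. -/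
theorem result {G : Type*} [Group G] [Finite G] (L A : Subgroup G) (hLs : Group.IsSolvable ↥L) (hLodd : Odd (Nat.card ↥L)) (hA : Cfsg.IsElementaryAbelian 2 A) (d : ℕ) (hd : 1 ≤ d) (hAd : Nat.card ↥A = 2 ^ d) (hAL : A ≤ Subgroup.normalizer (L : Set G)) (hfaith : A ⊓ Subgroup.centralizer (L : Set G) = ⊥) : ∃ (Ai : Fin d → Subgroup G) (Li : Fin d → Subgroup G) (n : Fin d → ℕ), (∀ i, Ai i ≤ A ∧ Nat.card ↥(Ai i) = 2 ∧ Li i ≤ L ∧ Odd (n i) ∧ 3 ≤ n i ∧ Nonempty (↥(Ai i ⊔ Li i) ≃* DihedralGroup (n i))) ∧ (⨆ i, Ai i) = A ∧ ∀ i j, i ≠ j → ∀ x ∈ Ai i ⊔ Li i, ∀ y ∈ Ai j ⊔ Li j, x * y = y * x := by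
  haveI := hLs
  have sq : ∀ a ∈ A, a * a = 1 := fun a ha => by rw [← pow_two]; exact hA.2 a ha
  set F : Subgroup G := (Cfsg.fittingSubgroup ↥L).map L.subtype with hFdef
  have hFL : F ≤ L := Subgroup.map_subtype_le _
  have hNF : Subgroup.normalizer (L : Set G) ≤ Subgroup.normalizer (F : Set G) :=
    Subgroup.le_normalizer_iff.mpr fun g hg x hx => H40.conj_mem_map_of_characteristic _ hg hx
  have hFnil : Group.IsNilpotent F := Fitting.isNilpotent_map _ Fitting.fitting_isNilpotent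
  obtain ⟨M, hMF, hFM, hAM, hMab, hCM⟩ :=
    H40.exists_invariant_selfcentralizing hA hFnil (hAL.trans hNF)
  have hoddF : Odd (Nat.card F) := hLodd.of_dvd_nat (Subgroup.card_dvd_of_le hFL)
  have hModd : Odd (Nat.card M) := hoddF.of_dvd_nat (Subgroup.card_dvd_of_le hMF)
  have hCF : L ⊓ Subgroup.centralizer (F : Set G) ≤ F := by
    rintro l ⟨hl, hlc⟩
    refine ⟨⟨l, hl⟩, Fitting.centralizer_fitting_le (G := L) ?_, rfl⟩
    rw [Subgroup.mem_centralizer_iff]
    exact fun y hy => Subtype.ext (Subgroup.mem_centralizer_iff.mp hlc y ⟨y, hy, rfl⟩)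
  have hf : ∀ a ∈ A, (∀ m ∈ M, a * m = m * a) → a = 1 := by
    intro a ha h
    have h1 := H40.commute_of_selfcentralizing hoddF hMF hFM hCM (sq a ha) (hNF (hAL ha)) h
    have h2 := H40.commute_of_selfcentralizing hLodd hFL (Subgroup.le_normalizer.trans hNF) hCF
      (sq a ha) (hAL ha) h1
    have : a ∈ A ⊓ Subgroup.centralizer (L : Set G) :=
      ⟨ha, Subgroup.mem_centralizer_iff.mpr fun l hl => (h2 l hl).symm⟩
    rwa [hfaith, Subgroup.mem_bot] at this
  obtain ⟨a, x, hprop, hsup, horth, -⟩ := H40.exists_dual_basis hA hMab hModd hAM hf d A le_rfl hAd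
  have hodd : ∀ i, Odd (orderOf (x i)) := fun i =>
    hModd.of_dvd_nat (Subgroup.orderOf_dvd_natCard M (hprop i).2.1)
  have ha1 : ∀ i, a i ≠ 1 := fun i h => by
    have h4 := (hprop i).2.2.2
    rw [h, one_mul, inv_one, mul_one] at h4
    exact (hprop i).2.2.1 (H40.eq_of_sq_eq_one_of_odd hModd (hprop i).2.1
      (by nth_rewrite 2 [h4]; rw [mul_inv_cancel]))
  refine ⟨fun i => Subgroup.zpowers (a i), fun i => Subgroup.zpowers (x i), fun i => orderOf (x i),
    fun i => ⟨Subgroup.zpowers_le.mpr (hprop i).1, ?_, Subgroup.zpowers_le.mpr (hFL (hMF (hprop i).2.1)),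
      hodd i, ?_, ?_⟩, hsup, fun i j hij => ?_⟩
  · rw [Nat.card_zpowers]
    exact orderOf_eq_prime (hA.2 _ (hprop i).1) (ha1 i)
  · obtain ⟨k, hk⟩ := hodd i
    have : orderOf (x i) ≠ 1 := fun h => (hprop i).2.2.1 (orderOf_eq_one_iff.mp h)
    show 3 ≤ orderOf (x i); omega
  · refine H40.nonempty_mulEquiv_dihedral rfl (sq _ (hprop i).1) (hprop i).2.2.2 fun h => ha1 i ?_
    exact H40.eq_of_sq_eq_one_of_odd hModd (Subgroup.zpowers_le.mpr (hprop i).2.1 h) (sq _ (hprop i).1)
  · have c1 : ∀ i j, i ≠ j → Commute (a i) (x j) := fun i j h =>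
      mul_inv_eq_iff_eq_mul.mp (horth i j h)
    have hle : Subgroup.zpowers (a i) ⊔ Subgroup.zpowers (x i) ≤
        Subgroup.centralizer ((Subgroup.zpowers (a j) ⊔ Subgroup.zpowers (x j) : Subgroup G) : Set G) := by
      rw [Subgroup.le_centralizer_iff]
      refine sup_le (Subgroup.zpowers_le.mpr ?_) (Subgroup.zpowers_le.mpr ?_)
      all_goals
        rw [Subgroup.mem_centralizer_iff]
        intro u hu
      · have hle2 : Subgroup.zpowers (a i) ⊔ Subgroup.zpowers (x i) ≤ Subgroup.centralizer ({a j} : Set G) := by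
          refine sup_le (Subgroup.zpowers_le.mpr ?_) (Subgroup.zpowers_le.mpr ?_) <;>
            rw [Subgroup.mem_centralizer_singleton_iff]
          · exact H40.elementary_comm hA (hprop i).1 (hprop j).1
          · exact (c1 j i hij.symm).eq.symm
        exact Subgroup.mem_centralizer_singleton_iff.mp (hle2 hu)
      · have hle2 : Subgroup.zpowers (a i) ⊔ Subgroup.zpowers (x i) ≤ Subgroup.centralizer ({x j} : Set G) := by
          refine sup_le (Subgroup.zpowers_le.mpr ?_) (Subgroup.zpowers_le.mpr ?_) <;>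
            rw [Subgroup.mem_centralizer_singleton_iff]
          · exact (c1 i j hij).eq
          · exact hMab _ (hprop i).2.1 _ (hprop j).2.1
        exact Subgroup.mem_centralizer_singleton_iff.mp (hle2 hu)
    exact fun u hu v hv => (Subgroup.mem_centralizer_iff.mp (hle hu) v hv).symm

end Cfsg.Agent.S1349
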