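import Cfsg.Statements.S1358
import Cfsg.Agent.BGSummary.Compl
import Cfsg.Agent.BGTwelve.TauTwoCompl
import Cfsg.Agent.BGTwelve.Inputs

set_option autoImplicit false
open Cfsg Subgroup

namespace Cfsg.Agent.S1358

/-- Let G be a minimal simple group of odd order and M a maximal subgroup with standard factorisation M = K U M_σ. Then for every prime p, every Sylow p-subgroup of U is abelian and has no elementary abelian subgroup of order p ^ 3. -/
theorem result {G : Type*} [Group G] [Finite G] (hG : Cfsg.IsMinSimpleOddOrder G)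
    (M : Subgroup G) (hM : IsCoatom M) (K U : Subgroup G) (hKU : Cfsg.IsSigmaDecomposition M K U) :
    ∀ (p : ℕ), p.Prime → ∀ P : Sylow p U, IsMulCommutative (P : Subgroup U) ∧ Cfsg.PRankLE p 2 (P : Subgroup U) := by
  intro p hp P
  haveI := Fact.mk hp
  refine ⟨?_, BGSigma.prankLE_subgroup_self _ (BGSigma.prankLE_subgroup le_sup_left
    (BGTwelve.prankLE_compl hG hM (BGSummary.Loc.compl_sup hKU) hp))⟩
  haveI : IsMulCommutative ((P : Subgroup U).map U.subtype) := by
    refine BGTwelve.isMulCommutative_of_nilpotent_sigma' hG (BGTwelve.localInputs hG) hM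
      ((map_subtype_le _).trans hKU.compl.1) (P.isPGroup'.map U.subtype).isNilpotent
      fun q hq hd => ?_
    exact (BGSummary.Loc.not_mem_of_dvd_U hG hM hKU hq
      (hd.trans (card_dvd_of_le (map_subtype_le _)))).1
  exact ⟨⟨fun a b => Subtype.ext (U.subtype_injective (congrArg Subtype.val (mul_comm'
    (⟨_, mem_map_of_mem U.subtype a.2⟩ : (P : Subgroup U).map U.subtype)
    ⟨_, mem_map_of_mem U.subtype b.2⟩)))⟩⟩

end Cfsg.Agent.S1358
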