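import Cfsg.Statements.S1386
import Cfsg.Agent.BGUniq.TypePBasic

set_option autoImplicit false
open Cfsg Cfsg.Agent.BGUniq

namespace Cfsg.Agent.S1386

lemma exists_ne_one {G : Type*} [Group G] {A : Subgroup G} (h : A ≠ ⊥) : ∃ x ∈ A, x ≠ 1 := by
  by_contra hne
  push Not at hne
  exact h ((Subgroup.eq_bot_iff_forall _).mpr hne)

lemma eq_of_card_eq_of_le_cyclic {G : Type*} [Group G] [Finite G] {W A B : Subgroup G}
    (hW : IsCyclic W) (hA : A ≤ W) (hB : B ≤ W) (h : Nat.card A = Nat.card B) : A = B := by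
  classical
  have key : ∀ C : Subgroup W, (C : Set W) = {z | z ^ Nat.card C = 1} := by
    intro C
    have hsub : (C : Set W) ⊆ {z | z ^ Nat.card C = 1} := fun z hz =>
      Subtype.ext_iff.mp (pow_card_eq_one' (x := (⟨z, hz⟩ : C)))
    refine Set.eq_of_subset_of_ncard_le hsub ?_ (Set.toFinite _)
    have := Fintype.ofFinite W
    rw [← Nat.card_coe_set_eq (C : Set W), Set.ncard_eq_toFinset_card']
    simpa using IsCyclic.card_pow_eq_one_le (α := W) (n := Nat.card C) Nat.card_pos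
  have hA' := key (A.subgroupOf W)
  have hB' := key (B.subgroupOf W)
  rw [Nat.card_congr (Subgroup.subgroupOfEquivOfLe hA).toEquiv] at hA'
  rw [Nat.card_congr (Subgroup.subgroupOfEquivOfLe hB).toEquiv] at hB'
  rw [h, ← hB'] at hA'
  have := SetLike.coe_injective hA'
  rwa [Subgroup.subgroupOf_inj, inf_eq_left.mpr hA, inf_eq_left.mpr hB] at this

/-- Let G be a finite group, W₁, W₂ subgroups forming a self-normalizing cyclic pair, S a subgroup with W₂ ≤ S and W₁ a complement to S' in S, and (W₁, U, W₂') type-P data for S. Then W₂' = W₂ (that is, C_{S'}(W₁) = W₂). -/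
theorem result {G : Type*} [Group G] [Finite G] (W₁ W₂ S U W₂' : Subgroup G) (hW : Cfsg.IsSelfNormalizingCyclic W₁ W₂)
    (hSW : Cfsg.IsComplIn ⁅S, S⁆ W₁ S) (hW₂S : W₂ ≤ S) (hP : Cfsg.IsTypePWith S W₁ U W₂') :
    W₂' = W₂ := by
  obtain ⟨hW1, hW2, hWd, hWc, hWcyc, hN⟩ := hW
  obtain ⟨-, hV2, hVd, hVc, hVcyc, -⟩ := hP.selfNormalizing
  obtain ⟨-, hW₁S, -, hfac⟩ := hSW
  obtain ⟨x, hxW, hx1⟩ := exists_ne_one hW1
  obtain ⟨y, hyW, hy1⟩ := exists_ne_one hW2
  have := hP.W₁_cyclic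
  have hle : W₂ ≤ W₁ ⊔ W₂' := by
    intro b hb
    obtain ⟨s, hs, a, ha, hb'⟩ := hfac b (hW₂S hb)
    have hsx : Commute s x := by
      have h1 : Commute (s * a) x := by rw [← hb']; exact (hWc x hxW b hb).symm
      have h2 : Commute a x :=
        congrArg Subtype.val (IsCyclic.isMulCommutative.is_comm.comm (⟨a, ha⟩ : W₁) ⟨x, hxW⟩)
      simpa using h1.mul_left h2.inv_left
    have hsW : s ∈ W₂' := by
      rw [← hP.W₂_centralizer x hxW hx1]
      exact ⟨hs, Subgroup.mem_centralizer_singleton_iff.mpr hsx⟩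
    rw [hb']
    exact mul_mem (Subgroup.mem_sup_right hsW) (Subgroup.mem_sup_left ha)
  have hw : x * y ∈ ((↑(W₁ ⊔ W₂) : Set G) \ (↑W₁ ∪ ↑W₂)) := by
    refine ⟨mul_mem (Subgroup.mem_sup_left hxW) (Subgroup.mem_sup_right hyW), ?_⟩
    rintro (h | h)
    · apply hy1
      have : y ∈ W₁ ⊓ W₂ := ⟨(W₁.mul_mem_cancel_left hxW).mp h, hyW⟩
      rwa [hWd, Subgroup.mem_bot] at this
    · apply hx1
      have : x ∈ W₁ ⊓ W₂ := ⟨hxW, (W₂.mul_mem_cancel_right hyW).mp h⟩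
      rwa [hWd, Subgroup.mem_bot] at this
  have heq : W₁ ⊔ W₂' = W₁ ⊔ W₂ := by
    refine le_antisymm ?_ (sup_le le_sup_left hle)
    intro g hg
    have hwV : x * y ∈ W₁ ⊔ W₂' := (sup_le le_sup_left hle : W₁ ⊔ W₂ ≤ W₁ ⊔ W₂') hw.1
    have hgw : Commute g (x * y) :=
      congrArg Subtype.val (IsCyclic.isMulCommutative.is_comm.comm (⟨g, hg⟩ : ↥(W₁ ⊔ W₂')) ⟨x * y, hwV⟩)
    rw [← hN {x * y} (Set.singleton_subset_iff.mpr hw) (Set.singleton_nonempty _),
      Subgroup.mem_normalizer_iff_conj_image_eq]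
    simp [hgw.eq]
  have hc1 := (sup_factors W₁ W₂ hWc).2 hWd
  have hc2 := (sup_factors W₁ W₂' hVc).2 hVd
  rw [heq, hc1] at hc2
  have hcard : Nat.card W₂ = Nat.card W₂' := Nat.eq_of_mul_eq_mul_left Nat.card_pos hc2
  refine eq_of_card_eq_of_le_cyclic (W := W₁ ⊔ W₂) hWcyc ?_ le_sup_right hcard.symm
  rw [← heq]
  exact le_sup_right

end Cfsg.Agent.S1386
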