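import Cfsg.Statements.S1387
import Cfsg.Agent.BGUniq.TypePBasic

set_option autoImplicit false
open Cfsg Cfsg.Agent.BGUniq

namespace Cfsg.Agent.S1387

/-- Let M be a subgroup of a finite group G with type-P data (W₁, U, W₂) and H = M_F. Then the Fitting subgroup F(M) is generated by H and the centralizer of H in U. -/
theorem result {G : Type*} [Group G] [Finite G] (M W₁ U W₂ : Subgroup G) (hP : Cfsg.IsTypePWith M W₁ U W₂) :
    Cfsg.fittingOf M = Cfsg.fittingHallOf M ⊔ (U ⊓ Subgroup.centralizer (Cfsg.fittingHallOf M : Set G)) := by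
  have hUM : U ≤ M :=
    hP.U_compl.2.1.trans M.commutator_le_self
  refine le_antisymm ?_ ?_
  · intro x hx
    obtain ⟨a, ha, u, hu, rfl⟩ := hP.U_compl.2.2.2 x (hP.fitting_le hx)
    refine mul_mem (Subgroup.mem_sup_left ha) (Subgroup.mem_sup_right ⟨hu, ?_⟩)
    refine complement_mem_centralizer M W₁ U W₂ hP u hu ?_
    have haF : a ∈ fittingOf M := by rw [← hP.fitting_eq]; exact Subgroup.mem_sup_left ha
    simpa using mul_mem (inv_mem haF) hx
  · rw [← hP.fitting_eq]
    exact sup_le le_sup_left (le_sup_of_le_right (inf_le_inf_right _ hUM))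

end Cfsg.Agent.S1387
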