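import Cfsg.Statements.S1388
import Cfsg.Agent.BGUniq.TypePBasic

set_option autoImplicit false
open Cfsg Cfsg.Agent.BGUniq

namespace Cfsg.Agent.S1388

/-- Let M be a subgroup of a finite group G with type-P data (W₁, U, W₂) and H = M_F. Then the derived subgroup of U centralizes H, and if U ≠ 1 then U does not centralize H. -/
theorem result {G : Type*} [Group G] [Finite G] (M W₁ U W₂ : Subgroup G) (hP : Cfsg.IsTypePWith M W₁ U W₂) :
    ⁅U, U⁆ ≤ Subgroup.centralizer (Cfsg.fittingHallOf M : Set G) ∧ (U ≠ ⊥ → ¬ U ≤ Subgroup.centralizer (Cfsg.fittingHallOf M : Set G)) := by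
  constructor
  · refine Subgroup.commutator_le.mpr fun a ha b hb => ?_
    refine complement_mem_centralizer M W₁ U W₂ hP _ (U.commutator_le_self (Subgroup.commutator_mem_commutator ha hb)) ?_
    rw [← hP.fitting_eq]
    exact hP.derived_two_le
      (Subgroup.commutator_mem_commutator (hP.U_compl.2.1 ha) (hP.U_compl.2.1 hb))
  · intro hU hle
    set H := fittingHallOf M with hH
    have : Group.IsNilpotent U := hP.U_nilpotent
    have : Group.IsNilpotent (fittingHall M) := fittingHall_isNilpotent M
    have : Group.IsNilpotent H :=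
      Group.nilpotent_of_mulEquiv ((fittingHall M).equivMapOfInjective M.subtype M.subtype_injective)
    have hcomm : ∀ a ∈ H, ∀ b ∈ U, a * b = b * a := fun a ha b hb => hle hb a ha
    have hM' : ⁅M, M⁆ = H ⊔ U := by
      refine le_antisymm (fun x hx => ?_) (sup_le hP.U_compl.1 hP.U_compl.2.1)
      obtain ⟨a, ha, b, hb, rfl⟩ := hP.U_compl.2.2.2 x hx
      exact mul_mem (Subgroup.mem_sup_left ha) (Subgroup.mem_sup_right hb)
    have hmap := Subgroup.map_subtype_commutator M
    have hnil : Group.IsNilpotent ↥((_root_.commutator M).map M.subtype) := by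
      rw [hmap, hM']; exact isNilpotent_sup_of_commute H U hcomm
    have hnil' : Group.IsNilpotent ↥(_root_.commutator M) :=
      Group.nilpotent_of_mulEquiv
        ((_root_.commutator M).equivMapOfInjective M.subtype M.subtype_injective).symm
    have hcompl : (_root_.commutator M).IsComplement' (W₁.subgroupOf M) := by
      obtain ⟨-, hW₁M, hd, hfac⟩ := hP.W₁_compl
      refine Subgroup.isComplement'_of_disjoint_and_mul_eq_univ ?_ ?_
      · rw [Subgroup.disjoint_def]
        intro m hm hm'
        have : (m : G) ∈ ⁅M, M⁆ ⊓ W₁ := ⟨hmap ▸ ⟨m, hm, rfl⟩, hm'⟩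
        rw [hd, Subgroup.mem_bot] at this
        exact Subtype.ext this
      · refine Set.eq_univ_of_forall fun m => ?_
        obtain ⟨a, ha, b, hb, hab⟩ := hfac (m : G) m.2
        rw [← hmap] at ha
        obtain ⟨a', ha', rfl⟩ := ha
        exact ⟨a', ha', ⟨b, hW₁M hb⟩, hb, Subtype.ext hab.symm⟩
    have hco : (Nat.card ↥(_root_.commutator M)).Coprime (_root_.commutator M).index := by
      rw [hcompl.symm.index_eq_card]
      have h1 := hP.W₁_hall
      rw [Subgroup.relIndex, hcompl.index_eq_card] at h1
      rw [Nat.card_congr (Subgroup.subgroupOfEquivOfLe hP.W₁_compl.2.1).toEquiv]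
      exact h1.symm
    have hle' : ⁅M, M⁆ ≤ H := by
      rw [← hmap]
      exact Subgroup.map_mono (le_fittingHall inferInstance hnil' hco)
    apply hU
    rw [eq_bot_iff, ← hP.U_compl.2.2.1]
    exact le_inf (hP.U_compl.2.1.trans hle') le_rfl

end Cfsg.Agent.S1388
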