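import Cfsg.Statements.S1398
import Cfsg.Agent.BGUniq.Uniqueness

set_option autoImplicit false
open Cfsg

namespace Cfsg.Agent.S1398

/-- Let G be a minimal simple group of odd order, M a maximal subgroup, p a prime, and B a noncyclic elementary abelian p-subgroup of M. If C_G(b) ≤ M for every non-identity b ∈ B, or if every subgroup of G of order coprime to p normalized by B is contained in M, then M is the only maximal subgroup of G containing B. -/
theorem result {G : Type*} [Group G] [Finite G] (hG : Cfsg.IsMinSimpleOddOrder G)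
    (M : Subgroup G) (hM : IsCoatom M) (p : ℕ) [Fact p.Prime] (B : Subgroup G) (hBM : B ≤ M)
    (hBe : Cfsg.IsElementaryAbelian p B) (hBnc : ¬ IsCyclic B)
    (h : (∀ b ∈ B, b ≠ 1 → Subgroup.centralizer ({b} : Set G) ≤ M) ∨
      ∀ Y ∈ Cfsg.invSubgroups ⊤ B (Cfsg.primesNotDvd p), Y ≤ M) :
    Cfsg.InUniqueMaximal B := by
  have hBp : IsPGroup p B := BGUniq.isPGroup_of_elementary hBe
  have hB0 : B ≠ ⊥ := fun h => hBnc (h ▸ (inferInstance : IsCyclic (⊥ : Subgroup G)))
  rcases h with h | h
  · exact BGUniq.inU_of_centralizers_le hG hM hBp hBe.1 hBnc hBM h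
  · exact BGUniq.inU_of_inv_le hG hM hBp hB0 hBM fun Y hY hBY =>
      h Y ⟨le_top, BGUniq.isPiSub_coprime hY Fact.out, hBY⟩

end Cfsg.Agent.S1398
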