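import Cfsg.Statements.S1400
import Cfsg.Agent.BGUniq.RankThreeU

set_option autoImplicit false
open Cfsg

namespace Cfsg.Agent.S1400

/-- Let G be a minimal simple group of odd order, p a prime, A an abelian p-subgroup containing an elementary abelian subgroup of order p ^ 3 and lying in exactly one maximal subgroup, and B a noncyclic p-subgroup whose centralizer contains an elementary abelian subgroup of order p ^ 3. Then B lies in exactly one maximal subgroup of G. -/
theorem result {G : Type*} [Group G] [Finite G] (hG : Cfsg.IsMinSimpleOddOrder G)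
    (p : ℕ) [Fact p.Prime] (A B : Subgroup G) (hAp : IsPGroup p A) (hAc : IsMulCommutative A) (hA3 : ¬ Cfsg.PRankLE p 2 ↥A)
    (hAU : Cfsg.InUniqueMaximal A) (hBp : IsPGroup p B) (hBnc : ¬ IsCyclic B) (hB3 : ¬ Cfsg.PRankLE p 2 ↥(Subgroup.centralizer (B : Set G))) :
    Cfsg.InUniqueMaximal B := by
  have hB0 : B ≠ ⊥ := fun h => hBnc (h ▸ (inferInstance : IsCyclic (⊥ : Subgroup G)))
  obtain ⟨E, hEB, hE, hEc⟩ := BGUniq.exists_elementary_of_not_pRankLE hB3
  have hEU := BGUniq.inU_of_rank_three hG hAp hAc hA3 hAU (X := E)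
    (BGUniq.ne_top_of_isPGroup hG (BGUniq.isPGroup_of_elementary hE))
    (BGUniq.not_pRankLE_of_elementary le_rfl hE hEc)
  obtain ⟨W, -, hWc, hWp, hW2⟩ := PGroup.exists_normal_elementary_sq hBp
    (BGUniq.prime_ne_two hG (BGUniq.dvd_card_of_ne_bot hG hBp hB0)) hBnc
  refine BGUniq.inU_of_centralizes hG hEU (Subgroup.le_centralizer_iff.mp hEB) fun h => ?_
  have h1 := h p Fact.out W hWc hWp
  rw [hW2] at h1
  exact absurd h1 (not_le.mpr (Nat.pow_lt_pow_right (Fact.out : p.Prime).one_lt one_lt_two))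

end Cfsg.Agent.S1400
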