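import Cfsg.Statements.S1441
import Cfsg.Agent.OddLocal43.Coprime

set_option autoImplicit false
open Cfsg

namespace Cfsg.Agent.S1441

open scoped commutatorElement

/-- Let G be a finite group, H a solvable subgroup and A a subgroup normalizing H. Suppose there is a chain H = H₀ ≥ H₁ ≥ ⋯ ≥ H_n = 1 of subgroups normal in H and normalized by A such that A acts trivially on each factor H_{i-1}/H_i (that is, [H_{i-1}, A] ≤ H_i). Then every prime dividing the index of C_A(H) in A divides the order of H. -/
theorem result {G : Type*} [Group G] [Finite G] (H A : Subgroup G) (hH : Group.IsSolvable H) (hA : (A ≤ Subgroup.normalizer (H : Set G)))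
    (n : ℕ) (c : Fin (n + 1) → Subgroup G) (hc0 : c 0 = H) (hcn : c (Fin.last n) = ⊥) (hanti : Antitone c)
    (hcN : ∀ i, H ≤ Subgroup.normalizer ((c i : Subgroup G) : Set G)) (hcA : ∀ i, A ≤ Subgroup.normalizer ((c i : Subgroup G) : Set G))
    (htriv : ∀ i : Fin n, ⁅c i.castSucc, A⁆ ≤ c i.succ) :
    ∀ p : ℕ, p.Prime → p ∣ (A ⊓ Subgroup.centralizer (H : Set G)).relIndex A → p ∣ Nat.card H := by
  intro p hp hdvd
  by_contra hpH
  haveI : Fact p.Prime := ⟨hp⟩
  set K := (A ⊓ Subgroup.centralizer (H : Set G)) with hK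
  obtain ⟨S⟩ : Nonempty (Sylow p A) := inferInstance
  have hnot : ¬ (S : Subgroup A) ≤ K.subgroupOf A := fun hle =>
    S.not_dvd_index' (Subgroup.index_ne_zero_of_finite) (hdvd.trans (Subgroup.index_dvd_of_le hle))
  obtain ⟨a, haS, haK⟩ := SetLike.not_le_iff_exists.mp hnot
  apply haK
  rw [Subgroup.mem_subgroupOf]
  refine ⟨a.2, ?_⟩
  obtain ⟨k, hk⟩ := S.isPGroup' ⟨a, haS⟩
  have hord : orderOf (a : G) ∣ p ^ k := orderOf_dvd_of_pow_eq_one (by
    have := congrArg (fun t : (S : Subgroup A) => ((t : A) : G)) hk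
    simpa using this)
  suffices ∀ i : Fin (n + 1), (a : G) ∈ Subgroup.centralizer (c i : Set G) by
    simpa [hc0] using this 0
  intro i
  induction i using Fin.reverseInduction with
  | last =>
    rw [hcn]
    exact Subgroup.mem_centralizer_iff.mpr (by simp)
  | cast i ih =>
    rw [Subgroup.mem_centralizer_iff]
    intro h hh
    have hci : ⁅(a : G), h⁆ ∈ c i.succ :=
      htriv i (by rw [Subgroup.commutator_comm]; exact Subgroup.commutator_mem_commutator a.2 hh)
    refine (OddLocal43.commute_of_stab (Subgroup.mem_centralizer_iff.mp ih _ hci).symm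
      (by rw [commutatorElement_def]; group) ?_).eq.symm
    refine Nat.Coprime.coprime_dvd_left hord (Nat.Coprime.pow_left k ?_)
    rw [hp.coprime_iff_not_dvd]
    exact fun h' => hpH (h'.trans ((Subgroup.orderOf_dvd_natCard _ hci).trans
      (Subgroup.card_dvd_of_le (hc0 ▸ hanti (Fin.zero_le _)))))

end Cfsg.Agent.S1441
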