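import Cfsg.Statements.S1447
import Cfsg.Agent.OddLocal43.MetacyclicAction

set_option autoImplicit false
open Cfsg

namespace Cfsg.Agent.S1447

/-- Let G be a finite group, p an odd prime, R a metacyclic p-subgroup and A a subgroup of order coprime to p normalizing R. Then [R, A] is abelian; R is generated by [R, A] and R ∩ C_G(A), which meet trivially; and if R is non-abelian and A does not centralize R, then [R, A] and R ∩ C_G(A) are nontrivial cyclic groups and [R, R] ≤ [R, A]. -/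
theorem result {G : Type*} [Group G] [Finite G] (p : ℕ) [Fact p.Prime] (hp : p ≠ 2) (R A : Subgroup G) (hR : IsPGroup p R) (hRm : Cfsg.IsMetacyclic R)
    (hA : (A ≤ Subgroup.normalizer (R : Set G))) (hcop : (Nat.card A).Coprime p) :
    IsMulCommutative ↥⁅R, A⁆ ∧ ⁅R, A⁆ ⊔ (R ⊓ Subgroup.centralizer (A : Set G)) = R ∧ ⁅R, A⁆ ⊓ (R ⊓ Subgroup.centralizer (A : Set G)) = ⊥ ∧
      (¬ IsMulCommutative R → ¬ A ≤ Subgroup.centralizer (R : Set G) →
        ⁅R, A⁆ ≠ ⊥ ∧ IsCyclic ↥⁅R, A⁆ ∧ (R ⊓ Subgroup.centralizer (A : Set G)) ≠ ⊥ ∧ IsCyclic ↥(R ⊓ Subgroup.centralizer (A : Set G)) ∧ ⁅R, R⁆ ≤ ⁅R, A⁆) := by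
  obtain ⟨k, hk⟩ := IsPGroup.iff_card.mp hR
  set T := ⁅R, A⁆ with hT
  set C := R ⊓ Subgroup.centralizer (A : Set G) with hC
  have hTR : T ≤ R := OddLocal43.commutator_le_of_normalizes hA
  have hCR : C ≤ R := inf_le_left
  have hcopR : (Nat.card A).Coprime (Nat.card R) := hk ▸ hcop.pow_right k
  have hsol : Group.IsSolvable A ∨ Group.IsSolvable R :=
    Or.inr (Coprime.isSolvable_of_isNilpotent' hR.isNilpotent)
  have hab : IsMulCommutative T := OddLocal43.isMulCommutative_commutator_of_metacyclic hp hcop hR hRm hA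
  have hsup : T ⊔ C = R := Coprime.commutator_sup_centralizer A R hA hcopR hsol
  have hAT : A ≤ Subgroup.normalizer (T : Set G) := OddLocal43.normalizes_commutator hA Subgroup.le_normalizer
  have hinf : T ⊓ C = ⊥ := by
    have h1 := Coprime.commutator_inf_centralizer_eq_bot A T hAT
      (hcopR.coprime_dvd_right (Subgroup.card_dvd_of_le hTR))
    rw [hT, Coprime.commutator_commutator_eq A R hA hcopR hsol] at h1
    exact le_bot_iff.mp ((inf_le_inf_left _ inf_le_right).trans h1.le)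
  refine ⟨hab, hsup, hinf, fun hna hnc => ?_⟩
  have hT1 : T ≠ ⊥ := fun h => hnc
    (OddLocal43.le_centralizer_symm (Subgroup.commutator_eq_bot_iff_le_centralizer.mp h))
  have hC1 : C ≠ ⊥ := fun h => hna (by rw [← hsup, h, sup_bot_eq]; exact hab)
  obtain ⟨W, hW, hWmem⟩ := OddLocal43.exists_omega_of_metacyclic hp hR hRm
  have hW' : Nat.card (W.map R.subtype) ≤ p ^ 2 := by
    rwa [← Nat.card_congr (Subgroup.equivMapOfInjective _ R.subtype R.subtype_injective).toEquiv]
  have hmem : ∀ g ∈ R, g ^ p = 1 → g ∈ W.map R.subtype := fun g hg hgp =>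
    ⟨⟨g, hg⟩, hWmem _ (Subtype.ext hgp), rfl⟩
  have hTc : IsCyclic T := OddLocal43.isCyclic_of_omega_le hp (hR.to_le hTR) (hR.to_le hCR) hC1 hinf hW'
    (fun g hg => hmem g (hTR hg)) (fun g hg => hmem g (hCR hg))
  have hCc : IsCyclic C := OddLocal43.isCyclic_of_omega_le hp (hR.to_le hCR) (hR.to_le hTR) hT1
    (by rw [inf_comm, hinf]) hW' (fun g hg => hmem g (hCR hg)) (fun g hg => hmem g (hTR hg))
  refine ⟨hT1, hTc, hC1, hCc, ?_⟩
  have hRT : R ≤ Subgroup.normalizer (T : Set G) := Coprime.le_normalizer_commutator_left A R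
  have : (T.subgroupOf R).Normal := Subgroup.normal_subgroupOf_of_le_normalizer hRT
  have hsurj : Function.Surjective ((QuotientGroup.mk' (T.subgroupOf R)).comp (Subgroup.inclusion hCR)) := by
    intro q
    obtain ⟨r, rfl⟩ := QuotientGroup.mk'_surjective _ q
    obtain ⟨x, hx, c, hc, hr⟩ := Coprime.exists_commutator_mul_centralizer A R hA hcopR hsol r r.2
    refine ⟨⟨c, hc⟩, ?_⟩
    have hxR : x ∈ R := hTR hx
    have e : r = (⟨x, hxR⟩ : R) * Subgroup.inclusion hCR ⟨c, hc⟩ := Subtype.ext hr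
    rw [e, map_mul]
    show _ = QuotientGroup.mk' _ (⟨x, hxR⟩ : R) * _
    rw [QuotientGroup.mk'_apply, QuotientGroup.mk'_apply,
      (QuotientGroup.eq_one_iff _).mpr (show (⟨x, hxR⟩ : R) ∈ T.subgroupOf R from hx), one_mul]
    rfl
  have hcR : commutator R ≤ T.subgroupOf R :=
    Subgroup.Normal.quotient_commutative_iff_commutator_le.mp ⟨⟨fun a b => by
      obtain ⟨a, rfl⟩ := hsurj a
      obtain ⟨b, rfl⟩ := hsurj b
      rw [← map_mul, ← map_mul]
      congr 1
      obtain ⟨g, hg⟩ := hCc.exists_generator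
      obtain ⟨i, rfl⟩ := Subgroup.mem_zpowers_iff.mp (hg a)
      obtain ⟨j, rfl⟩ := Subgroup.mem_zpowers_iff.mp (hg b)
      exact (Commute.zpow_zpow_self g i j).eq⟩⟩
  rw [← Subgroup.map_subtype_commutator]
  rintro _ ⟨z, hz, rfl⟩
  exact hcR hz

end Cfsg.Agent.S1447
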