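import Cfsg.Statements.S1454
import Cfsg.Agent.OddLocal44.NarrowAction
import Cfsg.Agent.S1448

set_option autoImplicit false
open Cfsg

namespace Cfsg.Agent.S1454

/-- Let G be a finite group, p an odd prime, R a narrow p-subgroup and A a solvable subgroup of odd order normalizing R with A ∩ C_G(R) = 1. Then [A, A] ≤ O_p(A) and the index of O_p(A) in A is coprime to p; if R has an elementary abelian subgroup of order p ^ 3 then the order of every element of A of order coprime to p divides p − 1; and if the order of A is a prime not dividing p(p − 1), then 2·#A divides p + 1, and if in addition [R, A] = R and R is non-abelian then #R = p ^ 3. -/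
theorem result {G : Type*} [Group G] [Finite G] (p : ℕ) [Fact p.Prime] (hp : p ≠ 2) (R A : Subgroup G) (hR : IsPGroup p R) (hRn : Cfsg.IsNarrow p R)
    (hA : (A ≤ Subgroup.normalizer (R : Set G))) (hAs : Group.IsSolvable A) (hAodd : Odd (Nat.card A)) (hfaith : A ⊓ Subgroup.centralizer (R : Set G) = ⊥) :
    (commutator ↥A ≤ Cfsg.pCore p ↥A ∧ ((Cfsg.pCore p ↥A).index).Coprime p) ∧
      (¬ Cfsg.PRankLE p 2 R → ∀ a ∈ A, (orderOf a).Coprime p → orderOf a ∣ p - 1) ∧
      ((Nat.card A).Prime → ¬ Nat.card A ∣ p * (p - 1) →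
        2 * Nat.card A ∣ p + 1 ∧ (⁅R, A⁆ = R → ¬ IsMulCommutative R → Nat.card R = p ^ 3)) := by
  refine ⟨OddLocal44.commutator_le_pCore (?_ : IsPGroup p ↥(commutator ↥A)),
    fun hr a ha hac => OddLocal44.orderOf_dvd_sub_one hp hR hRn hr hA hfaith ha hac, fun hq hnd => ?_⟩
  · have h := OddLocal44.isPGroup_commutator_narrow hp hR hRn hA hAs hAodd hfaith
    rw [← Subgroup.map_subtype_commutator] at h
    exact h.of_equiv (Subgroup.equivMapOfInjective _ A.subtype A.subtype_injective).symm
  have hcop : (Nat.card A).Coprime p :=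
    (hq.coprime_iff_not_dvd).mpr fun h => hnd (h.mul_right _)
  have hr : Cfsg.PRankLE p 2 R := by
    by_contra hr
    obtain ⟨a, ha, ha1⟩ := A.bot_or_exists_ne_one.resolve_left fun h => by
      rw [h, Subgroup.card_bot] at hq; exact Nat.not_prime_one hq
    have hao : orderOf a = Nat.card A :=
      (hq.eq_one_or_self_of_dvd _ (Subgroup.orderOf_dvd_natCard A ha)).resolve_left
        (fun h => ha1 (orderOf_eq_one_iff.mp h))
    exact hnd ((hao ▸ OddLocal44.orderOf_dvd_sub_one hp hR hRn hr hA hfaith ha (hao ▸ hcop)).mul_left p)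
  refine ⟨OddLocal44.dvd_succ_of_rank_two hp hR hr hA hAodd hfaith hq hnd, fun hRA hnc => ?_⟩
  have hR1 : R ≠ ⊥ := fun h => hnc (by subst h; infer_instance)
  obtain ⟨R₁, R₂, hsup, hcomm, hnc₁, hcard, -, hcyc, hcl⟩ :=
    (S1448.result p hp R A hR hR1 hr hA hcop hAodd hRA).2.resolve_left hnc
  refine OddLocal44.card_eq_pow_three hR hA hq hnd hRA hsup hcomm hnc₁ hcard hcyc ?_
  rw [← hcl]
  exact (Subgroup.closure_le _).mpr fun x hx => hx.1

end Cfsg.Agent.S1454
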