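import Cfsg.Statements.S1456
import Cfsg.Agent.OddLocal43.RankTwoSolvable
import Cfsg.Agent.OddLocal44.Narrow

set_option autoImplicit false
open Cfsg

namespace Cfsg.Agent.S1456

/-- Let G be a solvable group of odd order, p a prime, and E an elementary abelian p-subgroup of the Fitting subgroup F(G) such that F(G) ∩ C_G(E) has no elementary abelian subgroup of order q ^ 3 for any prime q. Then the derived subgroup of G is contained in F(G). -/
theorem result {G : Type*} [Group G] [Finite G] [Group.IsSolvable G] (hodd : Odd (Nat.card G)) (p : ℕ) [Fact p.Prime] (E : Subgroup G) (hE : E ≤ Cfsg.fittingSubgroup G) (hEe : Cfsg.IsElementaryAbelian p E)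
    (hr : Cfsg.RankLE 2 ↥(Cfsg.fittingSubgroup G ⊓ Subgroup.centralizer (E : Set G))) :
    commutator G ≤ Cfsg.fittingSubgroup G := by
  classical
  set F := Cfsg.fittingSubgroup G with hF
  -- a Fitting element of prime power order lies in the corresponding core
  have hFr : ∀ (r k : ℕ), r.Prime → ∀ x ∈ F, orderOf x = r ^ k → x ∈ Cfsg.pCore r G := by
    intro r k hr' x hx hxo
    have : Fact r.Prime := ⟨hr'⟩
    have : Group.IsNilpotent F := Fitting.fitting_isNilpotent
    have hz : IsPGroup r (Subgroup.zpowers (⟨x, hx⟩ : F)) := by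
      refine IsPGroup.of_card (n := k) ?_
      rw [Nat.card_zpowers, Subgroup.orderOf_mk, hxo]
    obtain ⟨S, hS⟩ := hz.exists_le_sylow
    have : (S : Subgroup F).Normal := inferInstance
    have := Sylow.characteristic_of_normal S this
    exact Thompson.le_pCore (inferInstance : ((S : Subgroup F).map F.subtype).Normal)
      (S.isPGroup'.map _) ⟨_, hS (Subgroup.mem_zpowers _), rfl⟩
  have htriv : ∀ (r : ℕ), r.Prime → ¬ r ∣ Nat.card G → Cfsg.pCore r G = ⊥ := by
    intro r hr' hdvd
    have : Fact r.Prime := ⟨hr'⟩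
    refine (Cfsg.pCore r G).eq_bot_of_card_eq ((Thompson.isPGroup_pCore (p := r) (G := G)).card_eq_or_dvd.resolve_right
      fun h => hdvd (h.trans (Subgroup.card_subgroup_dvd_card _)))
  set CE := F ⊓ Subgroup.centralizer (E : Set G) with hCE
  have hEP : E ≤ Cfsg.pCore p G := by
    intro e he
    obtain ⟨k, -, hk⟩ := (Nat.dvd_prime_pow Fact.out).mp
      (orderOf_dvd_of_pow_eq_one (show e ^ p ^ 1 = 1 by rw [pow_one]; exact hEe.2 e he))
    exact hFr p k Fact.out e (hE he) hk
  have hsol : Group.IsSolvable ↥(⊤ : Subgroup G) :=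
    Group.isSolvable_of_surjective (f := (Subgroup.topEquiv (G := G)).symm.toMonoidHom)
      (Subgroup.topEquiv (G := G)).symm.surjective
  have hcent1 : ∀ (r : ℕ), r.Prime → ∀ b ∈ commutator G, (orderOf b).Coprime r →
      b ∈ Subgroup.centralizer (Cfsg.pCore r G : Set G) := by
    intro r hr' b hb hcop
    have : Fact r.Prime := ⟨hr'⟩
    by_cases hd : r ∣ Nat.card G
    swap
    · exact Subgroup.mem_centralizer_iff.mpr fun y hy => by
        rw [htriv r hr' hd] at hy
        rw [show y = 1 from hy, mul_one, one_mul]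
    have hr2 : r ≠ 2 := OddLocal43.ne_two_of_dvd_odd hodd hd
    set R := Cfsg.pCore r G with hR
    have hRp : IsPGroup r R := Thompson.isPGroup_pCore
    by_cases hr3 : Cfsg.PRankLE r 2 R
    · exact OddLocal43.commutator_coprime_le_centralizer hr2 hRp hr3 (A := ⊤)
        Subgroup.le_normalizer_of_normal hsol (by rwa [Subgroup.card_top]) (by rwa [← commutator_def])
        hcop
    have hEC : ∀ A : Subgroup G, A ≤ R → A ≤ Subgroup.centralizer (E : Set G) → A ≤ CE :=
      fun A hAR hAE => le_inf (hAR.trans (Fitting.pCore_le_fitting r)) hAE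
    obtain rfl : r = p := by
      by_contra hne
      refine hr3 (OddLocal43.prankLE_mono (hEC R le_rfl fun y hy => ?_) (hr r hr'))
      exact Subgroup.mem_centralizer_iff.mpr fun e he =>
        (Fitting.pCore_commute (Ne.symm hne) (hEP he) hy).eq
    -- `p` itself
    have hx : ∃ e ∈ E, ∃ y ∈ R, e * y ≠ y * e := by
      by_contra hcon
      push Not at hcon
      exact hr3 (OddLocal43.prankLE_mono (hEC R le_rfl fun y hy =>
        Subgroup.mem_centralizer_iff.mpr fun e he => hcon e he y hy) (hr _ hr'))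
    obtain ⟨e, he, y, hy, hey⟩ := hx
    obtain ⟨z, hzR, hzc, hzp⟩ : ∃ z ∈ R, (∀ w ∈ R, z * w = w * z) ∧ orderOf z = r := by
      haveI : Nontrivial R := Subgroup.nontrivial_iff_ne_bot R |>.mpr fun h => hey (by
        rw [h, Subgroup.mem_bot] at hy; rw [hy, mul_one, one_mul])
      haveI := hRp.center_nontrivial
      have hd' : r ∣ Nat.card (Subgroup.center R) :=
        ((hRp.to_subgroup _).card_eq_or_dvd).resolve_left Finite.one_lt_card.ne'
      obtain ⟨z, hz⟩ := exists_prime_orderOf_dvd_card' r hd'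
      exact ⟨((z : R) : G), (z : R).2, fun w hw =>
        (congrArg Subtype.val (Subgroup.mem_center_iff.mp z.2 ⟨w, hw⟩)).symm,
        by rw [Subgroup.orderOf_coe, Subgroup.orderOf_coe, hz]⟩
    have hzE : ∀ a ∈ E, ∀ b ∈ Subgroup.zpowers z, a * b = b * a := by
      intro a ha b hb
      obtain ⟨j, rfl⟩ := Subgroup.mem_zpowers_iff.mp hb
      exact ((show Commute z a from hzc a (hEP ha)).zpow_left j).eq.symm
    set E' := E ⊔ Subgroup.zpowers z with hE'
    have hE'e : Cfsg.IsElementaryAbelian r E' := H40.elementary_sup hEe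
      (H40.elementary_zpowers (by rw [← hzp, pow_orderOf_eq_one])) hzE
    have hsmallE : ∀ A : Subgroup G, Cfsg.IsElementaryAbelian r A → A ≤ CE → Nat.card A ≤ r ^ 2 :=
      fun A hA hAC => by
        by_contra hcon
        exact H40.not_rankLE_subgroup hA hAC (not_le.mp hcon) (hr _ hr')
    have hE'C : E' ≤ CE := hEC E' (sup_le hEP (Subgroup.zpowers_le.mpr hzR)) (sup_le
      (fun a ha => Subgroup.mem_centralizer_iff.mpr fun b hb => H40.elementary_comm hEe hb ha)
      (Subgroup.zpowers_le.mpr (Subgroup.mem_centralizer_iff.mpr fun a ha =>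
        hzE a ha z (Subgroup.mem_zpowers z))))
    -- `E` lies in `⟨e, z⟩`
    set T := Subgroup.zpowers e ⊔ Subgroup.zpowers z with hT
    have hTE : T ≤ E' := sup_le ((Subgroup.zpowers_le.mpr he).trans le_sup_left) le_sup_right
    have hTcard : r ^ 2 ≤ Nat.card T := by
      have h1 : Subgroup.zpowers z < T := lt_of_le_of_ne le_sup_right fun h => by
        obtain ⟨j, hj⟩ := Subgroup.mem_zpowers_iff.mp (h.ge (Subgroup.mem_sup_left (Subgroup.mem_zpowers e)))
        exact hey (hj ▸ ((show Commute z y from hzc y hy).zpow_left j).eq)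
      have h2 := OddLocal43.mul_le_card_of_lt hr' (hRp.to_le (hTE.trans (sup_le hEP
        (Subgroup.zpowers_le.mpr hzR)))) h1
      rwa [Nat.card_zpowers, hzp, ← pow_two] at h2
    have hTeq : T = E' :=
      Subgroup.eq_of_le_of_card_ge hTE ((hsmallE E' hE'e hE'C).trans hTcard)
    refine OddLocal44.small_mem_centralizer hr2 hRp ⟨⟨e, hEP he⟩, Subtype.ext (hEe.2 e he), ?_⟩ hr3
      (A := ⊤) Subgroup.le_normalizer_of_normal (Subgroup.mem_top b)
      (Or.inl (by rwa [← commutator_def])) hcop
    intro A hA hAC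
    rw [← Subgroup.card_map_of_injective R.subtype_injective]
    refine hsmallE _ (H40.elementary_map hA R.subtype) (hEC _ (Subgroup.map_subtype_le _) ?_)
    rintro _ ⟨a, ha, rfl⟩
    have h1 : T ≤ Subgroup.centralizer ({(a : G)} : Set G) :=
      sup_le (Subgroup.zpowers_le.mpr (Subgroup.mem_centralizer_singleton_iff.mpr
          (congrArg Subtype.val (Subgroup.mem_centralizer_singleton_iff.mp (hAC ha))).symm))
        (Subgroup.zpowers_le.mpr (Subgroup.mem_centralizer_singleton_iff.mpr (hzc a a.2)))
    exact Subgroup.mem_centralizer_iff.mpr fun c hc =>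
      Subgroup.mem_centralizer_singleton_iff.mp (h1 (hTeq.ge (Subgroup.mem_sup_left hc)))
  -- the derived subgroup lies in the Fitting subgroup
  have hDF : commutator G ≤ F := by
    rw [← Subgroup.subgroupOf_eq_top]
    refine OddLocal43.eq_top_of_prime_pow_mem fun q k hq g hg => ?_
    rw [Subgroup.mem_subgroupOf]
    have : Fact q.Prime := ⟨hq⟩
    set H := commutator G ⊓ ⨅ r : {r : Nat.Primes // (r : ℕ) ≠ q},
      Subgroup.centralizer (Cfsg.pCore ((r : Nat.Primes) : ℕ) G : Set G) with hH
    have : (⨅ r : {r : Nat.Primes // (r : ℕ) ≠ q},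
        Subgroup.centralizer (Cfsg.pCore ((r : Nat.Primes) : ℕ) G : Set G)).Normal :=
      Subgroup.normal_iInf_normal fun _ => inferInstance
    have hHn : H.Normal := inferInstance
    have hgH : (g : G) ∈ H := ⟨g.2, Subgroup.mem_iInf.mpr fun r => hcent1 _ r.1.2 _ g.2 (by
      rw [Subgroup.orderOf_coe, hg]
      exact Nat.Coprime.pow_left k ((Nat.coprime_primes hq r.1.2).mpr (Ne.symm r.2)))⟩
    have hq' : ∀ (r j : ℕ), r.Prime → r ≠ q → ∀ x : H, orderOf x = r ^ j → x ∈ Subgroup.center H := by
      intro r j hr' hrq x hx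
      have : Fact r.Prime := ⟨hr'⟩
      have hxo : orderOf (x : G) = r ^ j := by rw [Subgroup.orderOf_coe, hx]
      have hxF : (x : G) ∈ F := by
        refine Fitting.centralizer_fitting_le ?_
        have : F ≤ Subgroup.centralizer ({(x : G)} : Set G) := by
          rw [hF, Fitting.fitting_eq_iSup_pCore]
          refine iSup_le fun s y hy => Subgroup.mem_centralizer_singleton_iff.mpr ?_
          by_cases hs : (s : ℕ) = q
          · rw [hs] at hy
            exact Subgroup.mem_centralizer_iff.mp (hcent1 q hq _ x.2.1 (by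
              rw [hxo]; exact Nat.Coprime.pow_left j ((Nat.coprime_primes hr' hq).mpr hrq))) y hy
          · exact Subgroup.mem_centralizer_iff.mp (Subgroup.mem_iInf.mp x.2.2 ⟨s, hs⟩) y hy
        exact Subgroup.mem_centralizer_iff.mpr fun y hy =>
          Subgroup.mem_centralizer_singleton_iff.mp (this hy)
      have hxr := hFr r j hr' _ hxF hxo
      refine Subgroup.mem_center_iff.mpr fun h => Subtype.ext ?_
      exact (Subgroup.mem_centralizer_iff.mp (Subgroup.mem_iInf.mp h.2.2 ⟨⟨r, hr'⟩, hrq⟩) _ hxr).symm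
    have hpg : IsPGroup q (H ⧸ Subgroup.center H) := by
      refine IsPGroup.of_card (Nat.eq_prime_pow_of_unique_prime_dvd Nat.card_pos.ne' ?_)
      intro r hr' hdvd
      by_contra hrq
      have : Fact r.Prime := ⟨hr'⟩
      obtain ⟨S⟩ : Nonempty (Sylow r H) := inferInstance
      rw [← Subgroup.index_eq_card] at hdvd
      refine S.not_dvd_index' Subgroup.index_ne_zero_of_finite (hdvd.trans (Subgroup.index_dvd_of_le ?_))
      intro x hx
      obtain ⟨m, hm⟩ := S.isPGroup' ⟨x, hx⟩
      obtain ⟨j, -, hj⟩ := (Nat.dvd_prime_pow hr').mp (orderOf_dvd_of_pow_eq_one (congrArg Subtype.val hm))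
      exact hq' r j hr' hrq x hj
    have := hpg.isNilpotent
    have hnil : Group.IsNilpotent H := Subgroup.isNilpotent_of_ker_le_center
      (QuotientGroup.mk' (Subgroup.center H)) (QuotientGroup.ker_mk' _).le
    exact Fitting.le_fitting hHn hnil hgH
  exact hDF

end Cfsg.Agent.S1456
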