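import Cfsg.Statements.S1458
import Cfsg.Agent.OddLocal44.ZJCenter
import Cfsg.Agent.OddLocal44.Quadratic
import Cfsg.Agent.OddLocal44.Stability
import Cfsg.Agent.Lib.Thompson.PSolvable

set_option autoImplicit false
open Cfsg

namespace Cfsg.Agent.S1458

/-- Let G be a solvable group of odd order, p a prime and S a Sylow p-subgroup of G. Then the subgroup generated by the centre of the Thompson subgroup of S and O_{p'}(G) is normal in G. -/
theorem result {G : Type*} [Group G] [Finite G] [Group.IsSolvable G] (hodd : Odd (Nat.card G)) (p : ℕ) [Fact p.Prime] (S : Sylow p G) :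
    (Cfsg.centerThompsonOf p (S : Subgroup G) ⊔ Cfsg.pPrimeCore p G).Normal := by
  have hSle : Cfsg.centerThompsonOf p (S : Subgroup G) ≤ (S : Subgroup G) :=
    inf_le_left.trans (Thompson.thompsonSubgroupOf_le _)
  rcases eq_or_ne p 2 with hp | hp
  · subst hp
    have hS : (S : Subgroup G) = ⊥ := by
      rw [← Subgroup.card_eq_one]
      obtain ⟨n, hn⟩ := IsPGroup.iff_card.mp S.2
      rcases n with _ | n
      · simpa using hn
      · exfalso
        have h2 : 2 ∣ Nat.card G := (by rw [hn, pow_succ']; exact dvd_mul_right _ _ :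
          2 ∣ Nat.card (S : Subgroup G)).trans (Subgroup.card_subgroup_dvd_card _)
        exact (Nat.not_even_iff_odd.mpr hodd) (even_iff_two_dvd.mpr h2)
    rw [hS, le_bot_iff] at hSle
    rw [hS, hSle, bot_sup_eq]
    infer_instance
  set π := QuotientGroup.mk' (Cfsg.pPrimeCore p G) with hπ
  have hπs : Function.Surjective π := QuotientGroup.mk'_surjective _
  have hinj : Set.InjOn π (S : Subgroup G) := fun a ha b hb hab => by
    have h1 : a⁻¹ * b ∈ (S : Subgroup G) ⊓ Cfsg.pPrimeCore p G :=
      ⟨(S : Subgroup G).mul_mem ((S : Subgroup G).inv_mem ha) hb, QuotientGroup.eq.mp hab⟩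
    rw [Thompson.inf_eq_bot_of_isPGroup_of_coprime S.2 Thompson.card_pPrimeCore_coprime,
      Subgroup.mem_bot, inv_mul_eq_one] at h1
    exact h1
  have hoddQ : Odd (Nat.card (G ⧸ Cfsg.pPrimeCore p G)) :=
    hodd.of_dvd_nat (Subgroup.card_quotient_dvd_card _)
  have hnorm := OddLocal44.centerThompsonOf_normal_of_stable hp
    (Thompson.centralizer_pCore_le OddLocal44.isPSolvable_of_isSolvable
      Thompson.pPrimeCore_quotient_pPrimeCore)
    (fun B _ hB a ha => OddLocal44.quadratic_mem_pCore_quotient hp hoddQ B hB a ha)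
    (S.mapSurjective hπs)
  rw [Sylow.coe_mapSurjective, ← PComplement.centerThompsonOf_map π _ hinj] at hnorm
  have heq : Cfsg.centerThompsonOf p (S : Subgroup G) ⊔ Cfsg.pPrimeCore p G =
      ((Cfsg.centerThompsonOf p (S : Subgroup G)).map π).comap π := by
    rw [Subgroup.comap_map_eq, QuotientGroup.ker_mk']
  rw [heq]
  exact hnorm.comap π

end Cfsg.Agent.S1458
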