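import Cfsg.Statements.S1460
import Cfsg.Agent.OddLocal44.Conj
import Mathlib.GroupTheory.QuotientGroup.Basic

set_option autoImplicit false
open Cfsg
open scoped commutatorElement

namespace Cfsg.Agent.S1460

/-- Let G be a finite solvable group, K a normal subgroup and U a subgroup with G = KU, and H ≤ U a subgroup whose order is coprime to that of K. Then H ∩ G' = H ∩ U'; N_G(H) is generated by K ∩ C_G(H) and U ∩ N_G(H); and if gHg⁻¹ ≤ U for some g ∈ G then g = u c with u ∈ U and c ∈ K ∩ C_G(H). -/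
theorem result {G : Type*} [Group G] [Finite G] [Group.IsSolvable G] (K U H : Subgroup G) [K.Normal] (hKU : K ⊔ U = ⊤) (hH : H ≤ U) (hcop : (Nat.card H).Coprime (Nat.card K)) :
    H ⊓ commutator G = H ⊓ ⁅U, U⁆ ∧
      Subgroup.normalizer (H : Set G) = (K ⊓ Subgroup.centralizer (H : Set G)) ⊔ (U ⊓ Subgroup.normalizer (H : Set G)) ∧
      ∀ g : G, H.map (MulAut.conj g).toMonoidHom ≤ U → ∃ u ∈ U, ∃ c ∈ K ⊓ Subgroup.centralizer (H : Set G), g = u * c := by
  have hmem : ∀ g : G, ∃ u ∈ U, ∃ k ∈ K, u * k = g := fun g =>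
    Subgroup.mem_sup_of_normal_right.1 ((sup_comm K U ▸ hKU).ge (Subgroup.mem_top g))
  have third : ∀ g : G, H.map (MulAut.conj g).toMonoidHom ≤ U →
      ∃ u ∈ U, ∃ c ∈ K ⊓ Subgroup.centralizer (H : Set G), g = u * c := by
    intro g hg
    obtain ⟨u₀, hu₀, k, hk, rfl⟩ := hmem g
    set KU := K ⊓ U with hKUdef
    set H' := H.map (MulAut.conj k).toMonoidHom with hH'
    haveI : (KU.subgroupOf U).Normal := ⟨fun a ha u => by
      rw [Subgroup.mem_subgroupOf] at ha ⊢
      exact ⟨(inferInstance : K.Normal).conj_mem _ ha.1 u, (u * a * u⁻¹).2⟩⟩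
    have hH'U : H' ≤ U := by
      rintro _ ⟨h, hh, rfl⟩
      have h1 := U.mul_mem (U.mul_mem (U.inv_mem hu₀) (hg (Subgroup.mem_map_of_mem _ hh))) hu₀
      simpa [mul_assoc] using h1
    have hle : H' ≤ KU ⊔ H := by
      rintro x hx
      obtain ⟨h, hh, rfl⟩ := hx
      have hxU := hH'U (Subgroup.mem_map_of_mem _ hh)
      have h2 : k * h * k⁻¹ * h⁻¹ ∈ KU :=
        ⟨by
          have := K.mul_mem hk ((inferInstance : K.Normal).conj_mem _ (K.inv_mem hk) h)
          simpa [mul_assoc] using this, U.mul_mem hxU (U.inv_mem (hH hh))⟩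
      have := (KU ⊔ H).mul_mem (Subgroup.mem_sup_left h2) (Subgroup.mem_sup_right hh)
      simpa [mul_assoc] using this
    haveI : Group.IsSolvable ↥(KU.subgroupOf U) := inferInstance
    obtain ⟨w, hw, hwH⟩ := OddLocal44.exists_conj_eq (KU.subgroupOf U) (H.subgroupOf U)
      (H'.subgroupOf U)
      (by
        rw [← Subgroup.subgroupOf_sup (inf_le_right : KU ≤ U) hH]
        exact Subgroup.comap_mono hle)
      (by
        rw [Nat.card_congr (Subgroup.subgroupOfEquivOfLe hH).toEquiv,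
          Nat.card_congr (Subgroup.subgroupOfEquivOfLe (inf_le_right : KU ≤ U)).toEquiv]
        exact hcop.coprime_dvd_right (Subgroup.card_dvd_of_le inf_le_left))
      (by
        rw [Nat.card_congr (Subgroup.subgroupOfEquivOfLe hH).toEquiv,
          Nat.card_congr (Subgroup.subgroupOfEquivOfLe hH'U).toEquiv, hH', OddLocal44.card_conjBy])
    have hw' : (w : G) ∈ KU := hw
    have hcH : ∀ h ∈ H, (w : G)⁻¹ * k * h * ((w : G)⁻¹ * k)⁻¹ ∈ H := by
      intro h hh
      have h1 : (⟨_, hH'U (Subgroup.mem_map_of_mem _ hh)⟩ : U) ∈ H'.subgroupOf U :=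
        Subgroup.mem_map_of_mem _ hh
      rw [hwH] at h1
      obtain ⟨x, hx, hxe⟩ := h1
      have hxe' : (w : G) * x * (w : G)⁻¹ = k * h * k⁻¹ := by
        simpa using congrArg Subtype.val hxe
      have : (w : G)⁻¹ * k * h * ((w : G)⁻¹ * k)⁻¹ = x := by
        calc (w : G)⁻¹ * k * h * ((w : G)⁻¹ * k)⁻¹ = (w : G)⁻¹ * (k * h * k⁻¹) * w := by group
          _ = _ := by rw [← hxe']; group
      rw [this]
      exact hx
    have hcK : (w : G)⁻¹ * k ∈ K := K.mul_mem (K.inv_mem hw'.1) hk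
    refine ⟨u₀ * w, U.mul_mem hu₀ w.2, (w : G)⁻¹ * k, ⟨hcK, ?_⟩, by group⟩
    refine Subgroup.mem_centralizer_iff.2 ?_
    intro h hh
    set c := (w : G)⁻¹ * k
    have h1 : c * h * c⁻¹ * h⁻¹ = 1 := by
      have h2 : c * h * c⁻¹ * h⁻¹ ∈ H ⊓ K :=
        ⟨H.mul_mem (hcH h hh) (H.inv_mem hh), by
          have := K.mul_mem hcK ((inferInstance : K.Normal).conj_mem _ (K.inv_mem hcK) h)
          simpa [mul_assoc] using this⟩
      rwa [Subgroup.inf_eq_bot_of_coprime hcop, Subgroup.mem_bot] at h2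
    calc h * c = c * h * c⁻¹ * h⁻¹ * (h * c) := by rw [h1, one_mul]
      _ = c * h := by group
  refine ⟨le_antisymm ?_ (inf_le_inf_left _ (Subgroup.commutator_mono le_top le_top)), ?_, third⟩
  · rintro h ⟨hh, hhG⟩
    set f := QuotientGroup.mk' K
    have hfU : U.map f = ⊤ := by
      rw [eq_top_iff]
      intro x _
      obtain ⟨g, rfl⟩ := QuotientGroup.mk'_surjective K x
      obtain ⟨u, hu, k, hk, rfl⟩ := hmem g
      refine ⟨u, hu, ?_⟩
      show QuotientGroup.mk' K u = QuotientGroup.mk' K (u * k)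
      rw [map_mul, show QuotientGroup.mk' K k = 1 from (QuotientGroup.eq_one_iff k).2 hk, mul_one]
    obtain ⟨v, hv, hvh⟩ : f h ∈ ⁅U, U⁆.map f := by
      rw [Subgroup.map_commutator, hfU, ← Subgroup.map_top_of_surjective f
        (QuotientGroup.mk'_surjective K), ← Subgroup.map_commutator]
      exact Subgroup.mem_map_of_mem f hhG
    refine ⟨hh, ?_⟩
    haveI : (commutator U).Normal := inferInstance
    have hv' : (⟨v, Subgroup.commutator_le_self U hv⟩ : U) ∈ commutator U := by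
      rw [← Subgroup.map_subtype_commutator U] at hv
      obtain ⟨v', hv'', rfl⟩ := hv
      exact hv''
    let q := QuotientGroup.mk' (commutator U)
    have hvK : v⁻¹ * h ∈ K := by
      rw [← QuotientGroup.eq_one_iff]
      show f (v⁻¹ * h) = 1
      rw [map_mul, map_inv, hvh, inv_mul_cancel]
    have h1 : q ⟨h, hH hh⟩ = q ⟨v⁻¹ * h, U.mul_mem (U.inv_mem (Subgroup.commutator_le_self U hv)) (hH hh)⟩ := by
      rw [show (⟨v⁻¹ * h, _⟩ : U) = (⟨v, Subgroup.commutator_le_self U hv⟩ : U)⁻¹ * ⟨h, hH hh⟩ from rfl,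
        map_mul, map_inv, show q ⟨v, Subgroup.commutator_le_self U hv⟩ = 1 from
          (QuotientGroup.eq_one_iff _).2 hv', inv_one, one_mul]
    have h2 : q ⟨h, hH hh⟩ = 1 := by
      rw [← orderOf_eq_one_iff]
      refine Nat.eq_one_of_dvd_coprimes hcop ?_ ?_
      · refine (orderOf_map_dvd q _).trans ?_
        rw [← Subgroup.orderOf_coe]
        exact (Subgroup.orderOf_coe (⟨h, hh⟩ : H)).dvd.trans (orderOf_dvd_natCard _)
      · rw [h1]
        refine (orderOf_map_dvd q _).trans ?_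
        rw [← Subgroup.orderOf_coe]
        exact (Subgroup.orderOf_coe (⟨_, hvK⟩ : K)).dvd.trans (orderOf_dvd_natCard _)
    show h ∈ ⁅U, U⁆
    rw [← Subgroup.map_subtype_commutator U]
    exact ⟨⟨h, hH hh⟩, (QuotientGroup.eq_one_iff _).1 h2, rfl⟩
  · refine le_antisymm (fun g hg => ?_) (sup_le (inf_le_right.trans (Subgroup.centralizer_le_normalizer _)) inf_le_right)
    obtain ⟨u, hu, c, hc, rfl⟩ := third g (by rw [OddLocal44.conjBy_eq_of_mem_normalizer hg]; exact hH)
    have hcN : c ∈ Subgroup.normalizer (H : Set G) := Subgroup.centralizer_le_normalizer _ hc.2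
    have huN : u ∈ Subgroup.normalizer (H : Set G) := by
      simpa using mul_mem hg (inv_mem hcN)
    exact mul_mem (Subgroup.mem_sup_right ⟨hu, huN⟩) (Subgroup.mem_sup_left hc)

end Cfsg.Agent.S1460
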