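import Cfsg.Statements.S1461
import Cfsg.Agent.BGSigma.SylowFusion
import Cfsg.Agent.OddLocal44.Conj

set_option autoImplicit false
open Cfsg

namespace Cfsg.Agent.S1461

/-- Let G be a finite solvable group, p a prime with G = O_{p',p,p'}(G), and S a Sylow p-subgroup. Then: if S ≤ G' then S ≤ [N_G(S), N_G(S)]; if Y ⊆ S and xYx⁻¹ ⊆ S then x = g c for some g ∈ N_G(S) and c centralizing Y; and for every p-subgroup Q there is x ∈ C_G(Q ∩ S) with xQx⁻¹ ≤ S. -/
theorem result {G : Type*} [Group G] [Finite G] [Group.IsSolvable G] (p : ℕ) [Fact p.Prime] (hpl : Cfsg.PLengthLE p 1 G) (S : Sylow p G) :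
    ((S : Subgroup G) ≤ commutator G → (S : Subgroup G) ≤ ⁅Subgroup.normalizer ((S : Subgroup G) : Set G), Subgroup.normalizer ((S : Subgroup G) : Set G)⁆) ∧
      (∀ (Y : Set G) (x : G), Y ⊆ (S : Subgroup G) → (fun y => x * y * x⁻¹) '' Y ⊆ (S : Subgroup G) →
        ∃ g ∈ Subgroup.normalizer ((S : Subgroup G) : Set G), ∃ c ∈ Subgroup.centralizer Y, g * c = x) ∧
      ∀ Q : Subgroup G, IsPGroup p Q → ∃ x ∈ Subgroup.centralizer ((Q ⊓ (S : Subgroup G) : Subgroup G) : Set G), Q.map (MulAut.conj x).toMonoidHom ≤ (S : Subgroup G) := by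
  have h := BGSigma.plengthLE_one_iff.1 hpl
  refine ⟨fun hS => BGSigma.sylow_le_commutator_normalizer h S hS, fun Y x hY hx => ?_, fun Q hQ => ?_⟩
  · obtain ⟨n, hn, c, hc, hxe⟩ := BGSigma.exists_normalizer_mul_centralizer h S hY
      (fun y hy => hx ⟨y, hy, rfl⟩)
    exact ⟨n, hn, c, hc, hxe.symm⟩
  · obtain ⟨R, hR⟩ := hQ.exists_le_sylow
    obtain ⟨g, hg⟩ := MulAction.exists_smul_eq G R S
    have hgQ : ∀ q ∈ Q, g * q * g⁻¹ ∈ (S : Subgroup G) := fun q hq => by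
      rw [← hg, Sylow.coe_subgroup_smul]
      exact ⟨q, hR hq, rfl⟩
    obtain ⟨n, hn, c, hc, hxe⟩ := BGSigma.exists_normalizer_mul_centralizer h S
      (Y := ((Q ⊓ (S : Subgroup G) : Subgroup G) : Set G)) (x := g) (fun y hy => hy.2)
      (fun y hy => hgQ y hy.1)
    refine ⟨c, hc, ?_⟩
    rintro _ ⟨q, hq, rfl⟩
    have h1 := hgQ q hq
    rw [hxe] at h1
    refine (Subgroup.mem_normalizer_iff.1 hn _).2 ?_
    show n * (c * q * c⁻¹) * n⁻¹ ∈ (S : Subgroup G)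
    convert h1 using 1
    group

end Cfsg.Agent.S1461
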