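import Cfsg.Statements.S1464
import Cfsg.Agent.OddLocal44.Stability

set_option autoImplicit false
open Cfsg
open scoped commutatorElement

namespace Cfsg.Agent.S1464

/-- Let p be an odd prime and G a solvable group of odd order, P a p-subgroup with O_{p'}(G)P normal in G, and A a p-subgroup of N_G(P) with [[P, A], A] = 1. Then the image of A in the quotient N_G(P)/C_G(P) is contained in the p-core of that quotient. -/
theorem result {G : Type*} [Group G] [Finite G] [Group.IsSolvable G] (hodd : Odd (Nat.card G)) (p : ℕ) [Fact p.Prime] (hp : p ≠ 2) (P A : Subgroup G) (hP : IsPGroup p P) (hPn : (Cfsg.pPrimeCore p G ⊔ P).Normal)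
    (hA : IsPGroup p A) (hAN : A ≤ Subgroup.normalizer (P : Set G)) (hquad : ⁅⁅P, A⁆, A⁆ = ⊥) :
    (A.subgroupOf (Subgroup.normalizer (P : Set G))).map
        (QuotientGroup.mk' ((Subgroup.centralizer (P : Set G)).subgroupOf (Subgroup.normalizer (P : Set G))))
      ≤ Cfsg.pCore p _ := by
  set N := Subgroup.normalizer (P : Set G) with hN
  set P' := P.subgroupOf N with hP'
  haveI : P'.Normal := Subgroup.normal_subgroupOf_of_le_normalizer le_rfl
  have hC : Subgroup.centralizer (P' : Set N) = (Subgroup.centralizer (P : Set G)).subgroupOf N := by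
    ext n
    simp only [Subgroup.mem_centralizer_iff, Subgroup.mem_subgroupOf, SetLike.mem_coe]
    constructor
    · intro h u hu
      exact congrArg Subtype.val (h ⟨u, Subgroup.le_normalizer hu⟩ hu)
    · intro h u hu
      exact Subtype.ext (h u hu)
  rintro _ ⟨a, ha, rfl⟩
  have hmem := OddLocal44.quadratic_mem_pCore_quotient hp
    (hodd.of_dvd_nat (Subgroup.card_subgroup_dvd_card N)) P'
    ((hP.of_equiv (Subgroup.subgroupOfEquivOfLe Subgroup.le_normalizer).symm)) a (fun u hu => by
      apply Subtype.ext
      have h1 : ⁅⁅(u : G), (a : G)⁆, (a : G)⁆ ∈ ⁅⁅P, A⁆, A⁆ :=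
        Subgroup.commutator_mem_commutator (Subgroup.commutator_mem_commutator hu ha) ha
      rw [hquad, Subgroup.mem_bot] at h1
      exact h1)
  rw [← Thompson.map_pCore_equiv (QuotientGroup.quotientMulEquivOfEq hC)]
  exact ⟨_, hmem, rfl⟩

end Cfsg.Agent.S1464
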