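import Cfsg.Statements.S1466
import Cfsg.Agent.OddLocal44.SelfCentralizing

set_option autoImplicit false
open Cfsg

namespace Cfsg.Agent.S1466

/-- Let p be a prime and R a nontrivial finite p-group. Then for every i > 0, Z(R) ≤ C_R(L_i(R)) ≤ L_i(R); likewise Z(R) ≤ C_R(L_*(R)) ≤ L_*(R) and Z(R) ≤ C_R(L(R)) ≤ L(R); and L(R) ≠ 1, L_*(R) ≠ 1. -/
theorem result {R : Type*} [Group R] [Finite R] (p : ℕ) [Fact p.Prime] (hR : IsPGroup p R) [Nontrivial R] :
    (∀ i : ℕ, 0 < i → Subgroup.center R ≤ Subgroup.centralizer ((Cfsg.puigSeq R i : Subgroup R) : Set R) ∧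
        Subgroup.centralizer ((Cfsg.puigSeq R i : Subgroup R) : Set R) ≤ Cfsg.puigSeq R i) ∧
      (Subgroup.center R ≤ Subgroup.centralizer ((Cfsg.puigLower R : Subgroup R) : Set R) ∧ Subgroup.centralizer ((Cfsg.puigLower R : Subgroup R) : Set R) ≤ Cfsg.puigLower R) ∧
      (Subgroup.center R ≤ Subgroup.centralizer ((Cfsg.puigSubgroup R : Subgroup R) : Set R) ∧ Subgroup.centralizer ((Cfsg.puigSubgroup R : Subgroup R) : Set R) ≤ Cfsg.puigSubgroup R) ∧
      Cfsg.puigSubgroup R ≠ ⊥ ∧ Cfsg.puigLower R ≠ ⊥ := by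
  haveI : Group.IsNilpotent R := hR.isNilpotent
  obtain ⟨A, -, hAn, hAc⟩ := OddLocal44.exists_normal_centralizer_eq_ge (⊥ : Subgroup R) bot_le
  have hmem : ∀ X : Subgroup R, A ≤ Cfsg.puigStep X := fun X =>
    le_sSup ⟨Subgroup.le_centralizer_iff_isMulCommutative.1 hAc.ge,
      (Subgroup.normalizer_eq_top_iff.2 hAn).ge.trans' le_top⟩
  have key : ∀ X : Subgroup R, A ≤ X → Subgroup.center R ≤ Subgroup.centralizer (X : Set R) ∧
      Subgroup.centralizer (X : Set R) ≤ X := fun X hX =>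
    ⟨Subgroup.center_le_centralizer _, (Subgroup.centralizer_le hX).trans (hAc.le.trans hX)⟩
  have hseq : ∀ i : ℕ, 0 < i → A ≤ Cfsg.puigSeq R i := by
    rintro (_ | i) hi
    · exact absurd hi (lt_irrefl 0)
    · exact hmem _
  have hlow : A ≤ Cfsg.puigLower R :=
    (hseq 2 (by omega)).trans (le_iSup (fun n => Cfsg.puigSeq R (2 * n)) 1)
  have hup : A ≤ Cfsg.puigSubgroup R := le_iInf fun n => hseq _ (by omega)
  have hA1 : A ≠ ⊥ := fun h => by
    rw [h, Subgroup.coe_bot, Subgroup.centralizer_eq_top_iff_subset.2 (by simp)] at hAc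
    exact top_ne_bot hAc
  exact ⟨fun i hi => key _ (hseq i hi), key _ hlow, key _ hup,
    fun h => hA1 (le_bot_iff.1 (h ▸ hup)), fun h => hA1 (le_bot_iff.1 (h ▸ hlow))⟩

end Cfsg.Agent.S1466
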