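import Cfsg.Statements.S1470
import Mathlib.FieldTheory.Finite.GaloisField
import Mathlib.RingTheory.Norm.Transitivity

set_option autoImplicit false
open Cfsg

namespace Cfsg.Agent.S1470

open Polynomial

/-- If all elements `1 + k • b`, `k` in the prime field, have norm one and `b ≠ 0`, then the number of
such `k` is at most the degree of the extension. -/
lemma le_of_norm_one_add (p q : ℕ) [Fact p.Prime] [Fact q.Prime] (b : GaloisField p q) (hb : b ≠ 0)
    (h : ∀ k : ℕ, Algebra.norm (ZMod p) (1 + (k : GaloisField p q) * b) = 1) : p ≤ q := by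
  classical
  have hq : q ≠ 0 := (Fact.out : q.Prime).ne_zero
  let P : (GaloisField p q)[X] :=
    ∏ σ : GaloisField p q ≃ₐ[ZMod p] GaloisField p q, (C 1 + C (σ b) * X)
  have hcard : Nat.card (GaloisField p q ≃ₐ[ZMod p] GaloisField p q) = q := by
    rw [IsGalois.card_aut_eq_finrank, GaloisField.finrank p hq]
  have hnat : ∀ σ : GaloisField p q ≃ₐ[ZMod p] GaloisField p q,
      (C 1 + C (σ b) * X).natDegree = 1 := by
    intro σ
    rw [add_comm, natDegree_linear (by simpa using hb)]
  have hdeg : P.natDegree = q := by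
    rw [natDegree_prod _ _ (fun σ _ hσ => absurd (hnat σ) (by rw [hσ]; simp))]
    rw [Finset.sum_congr rfl fun σ _ => hnat σ, ← Finset.card_eq_sum_ones, Finset.card_univ,
      ← Nat.card_eq_fintype_card, hcard]
  have hne : P - 1 ≠ 0 := by
    intro h0
    rw [sub_eq_zero] at h0
    rw [h0, natDegree_one] at hdeg
    exact hq hdeg.symm
  have hroot : ∀ k : ZMod p, (P - 1).IsRoot (k.val : GaloisField p q) := by
    intro k
    have := Algebra.norm_eq_prod_automorphisms (ZMod p) (1 + (k.val : GaloisField p q) * b)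
    rw [h k.val, map_one] at this
    simp only [IsRoot.def, eval_sub, eval_one, P, eval_prod, eval_add, eval_mul, eval_C, eval_X]
    rw [sub_eq_zero]
    refine Eq.trans ?_ this.symm
    refine Finset.prod_congr rfl fun σ _ => ?_
    rw [map_add, map_one, map_mul, map_natCast, mul_comm]
  have hinj : Function.Injective (fun k : ZMod p => (k.val : GaloisField p q)) := by
    intro a c hac
    have : ((a.val : ℕ) : GaloisField p q) = (c.val : ℕ) := hac
    have h' : (a.val : ZMod p) = (c.val : ZMod p) := by
      apply (algebraMap (ZMod p) (GaloisField p q)).injective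
      rw [map_natCast, map_natCast]
      exact this
    rwa [ZMod.natCast_zmod_val, ZMod.natCast_zmod_val] at h'
  have hle : (Finset.univ.image fun k : ZMod p => (k.val : GaloisField p q)).card
      ≤ (P - 1).natDegree := by
    refine card_le_degree_of_subset_roots fun x hx => ?_
    simp only [Finset.mem_val, Finset.mem_image] at hx
    obtain ⟨k, -, rfl⟩ := hx
    rw [mem_roots hne]
    exact hroot k
  rw [Finset.card_image_of_injective _ hinj, Finset.card_univ, ZMod.card] at hle
  exact hle.trans ((natDegree_sub_le _ _).trans (by simp [hdeg]))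


/-- Let p and q be odd primes with (p^q − 1)/(p − 1) coprime to p − 1, and let E be the set of elements a of the field with p ^ q elements whose norm to the prime field is 1 and for which 2 − a also has norm 1. If a⁻¹ ∈ E for every a ∈ E and E has at least two elements, then p ≤ q. -/
theorem result (p q : ℕ) [Fact p.Prime] [Fact q.Prime] (hp : p ≠ 2) (hq : q ≠ 2) (hA : Nat.Coprime ((p ^ q - 1) / (p - 1)) (p - 1))
    (hinv : ∀ a ∈ {a : GaloisField p q | Algebra.norm (ZMod p) a = 1 ∧ Algebra.norm (ZMod p) (2 - a) = 1}, a⁻¹ ∈ {a : GaloisField p q | Algebra.norm (ZMod p) a = 1 ∧ Algebra.norm (ZMod p) (2 - a) = 1})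
    (h2 : 2 ≤ Set.ncard {a : GaloisField p q | Algebra.norm (ZMod p) a = 1 ∧ Algebra.norm (ZMod p) (2 - a) = 1}) :
    p ≤ q := by
  set E := {a : GaloisField p q | Algebra.norm (ZMod p) a = 1 ∧ Algebra.norm (ZMod p) (2 - a) = 1}
  obtain ⟨a, haE, ha1⟩ := Set.exists_ne_of_one_lt_ncard (s := E) h2 (1 : GaloisField p q)
  have hmem_ne : ∀ z ∈ E, z ≠ 0 := by
    rintro z ⟨hz, -⟩ rfl
    simp at hz
  have hsym : ∀ z ∈ E, 2 - z⁻¹ ∈ E := fun z hz =>
    ⟨(hinv z hz).2, by rw [sub_sub_cancel]; exact (hinv z hz).1⟩
  have key : ∀ k : ℕ, Algebra.norm (ZMod p) (1 + (k : GaloisField p q) * (a - 1)) = 1 ∧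
      (1 + ((k + 1 : ℕ) : GaloisField p q) * (a - 1)) / (1 + (k : GaloisField p q) * (a - 1)) ∈ E := by
    intro k
    induction k with
    | zero => exact ⟨by simp, by simpa using haE⟩
    | succ k ih =>
      obtain ⟨hk, hy⟩ := ih
      set u : GaloisField p q := 1 + (k : GaloisField p q) * (a - 1)
      set v : GaloisField p q := 1 + ((k + 1 : ℕ) : GaloisField p q) * (a - 1) with hv
      have hu : u ≠ 0 := fun h0 => by simp [h0] at hk
      have hvn : Algebra.norm (ZMod p) v = 1 := by
        have h3 := hy.1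
        rw [← mul_one (Algebra.norm (ZMod p) (v / u)), ← hk, ← map_mul, div_mul_cancel₀ _ hu] at h3
        exact h3.trans hk
      have hv0 : v ≠ 0 := fun h0 => by simp [h0] at hvn
      refine ⟨hvn, ?_⟩
      convert hsym _ hy using 1
      rw [inv_div, eq_sub_iff_add_eq, ← add_div, div_eq_iff hv0]
      simp only [hv, u]
      push_cast
      ring
  exact le_of_norm_one_add p q (a - 1) (sub_ne_zero.2 ha1) fun k => (key k).1

end Cfsg.Agent.S1470
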