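import Cfsg.Statements.S1471
import Mathlib.FieldTheory.Finite.GaloisField
import Mathlib.RingTheory.Norm.Transitivity
import Mathlib.NumberTheory.LegendreSymbol.Complex
import Mathlib.Analysis.RCLike.Basic
import Mathlib.LinearAlgebra.Matrix.Charpoly.Minpoly
import Mathlib.RingTheory.AdjoinRoot

set_option autoImplicit false
open Cfsg

namespace Cfsg.Agent.S1471

open Finset
open scoped ComplexConjugate

section CharacterSum

variable {F : Type*} [Field F] [Fintype F]

/-- The character sum over a set. -/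
noncomputable def periodSum (U : Finset F) (t : F) : ℂ :=
  ∑ u ∈ U, AddChar.FiniteField.primitiveChar_to_Complex F (t * u)

lemma periodSum_zero (U : Finset F) : periodSum U 0 = U.card := by
  simp [periodSum]

lemma sum_char [DecidableEq F] (x : F) :
    ∑ t : F, AddChar.FiniteField.primitiveChar_to_Complex F (t * x)
      = if x = 0 then (Fintype.card F : ℂ) else 0 := by
  rw [AddChar.sum_mulShift x (AddChar.FiniteField.primitiveChar_to_Complex_isPrimitive F)]
  split_ifs <;> simp

lemma sum_sq_periodSum [DecidableEq F] (U : Finset F) :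
    ∑ t : F, ‖periodSum U t‖ ^ 2 = (Fintype.card F : ℝ) * U.card := by
  have h : ∀ t, ((‖periodSum U t‖ ^ 2 : ℝ) : ℂ)
      = ∑ u ∈ U, ∑ v ∈ U, AddChar.FiniteField.primitiveChar_to_Complex F (t * (u - v)) := by
    intro t
    rw [Complex.ofReal_pow, ← Complex.mul_conj', periodSum, map_sum, Finset.sum_mul_sum]
    refine Finset.sum_congr rfl fun u _ => Finset.sum_congr rfl fun v _ => ?_
    rw [← AddChar.map_neg_eq_conj, ← AddChar.map_add_eq_mul]
    congr 1
    ring
  have h2 : ((∑ t : F, ‖periodSum U t‖ ^ 2 : ℝ) : ℂ) = (((Fintype.card F : ℝ) * U.card : ℝ) : ℂ) := by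
    rw [Complex.ofReal_sum]
    simp only [h]
    rw [Finset.sum_comm]
    have h3 : ∀ u ∈ U, ∑ t : F, ∑ v ∈ U, AddChar.FiniteField.primitiveChar_to_Complex F (t * (u - v))
        = (Fintype.card F : ℂ) := by
      intro u hu
      rw [Finset.sum_comm, Finset.sum_eq_single_of_mem u hu]
      · rw [sum_char, if_pos (sub_self u)]
      · intro v _ hv
        rw [sum_char, if_neg (sub_ne_zero.2 (Ne.symm hv))]
    rw [Finset.sum_congr rfl h3]
    simp [mul_comm]
  exact_mod_cast h2

variable [DecidableEq F] {U : Finset F}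

lemma image_mul_right (h0 : (0 : F) ∉ U) (hmul : ∀ u ∈ U, ∀ v ∈ U, u * v ∈ U) {w : F} (hw : w ∈ U) :
    U.image (fun u => u * w) = U := by
  refine Finset.eq_of_subset_of_card_le (fun x hx => ?_) (le_of_eq ?_)
  · obtain ⟨u, hu, rfl⟩ := Finset.mem_image.1 hx
    exact hmul u hu w hw
  · rw [Finset.card_image_of_injective _ (mul_left_injective₀ (fun h => h0 (by rw [← h]; exact hw)))]

lemma periodSum_mul (h0 : (0 : F) ∉ U) (hmul : ∀ u ∈ U, ∀ v ∈ U, u * v ∈ U) (t : F) {w : F}
    (hw : w ∈ U) : periodSum U (t * w) = periodSum U t := by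
  conv_rhs => rw [periodSum, ← image_mul_right h0 hmul hw]
  rw [Finset.sum_image fun a _ b _ hab => mul_right_cancel₀ (fun h => h0 (by rw [← h]; exact hw)) hab,
    periodSum]
  exact Finset.sum_congr rfl fun u _ => by rw [mul_comm u w, mul_assoc]

lemma norm_periodSum_le (h0 : (0 : F) ∉ U) (hmul : ∀ u ∈ U, ∀ v ∈ U, u * v ∈ U) (hU : U.Nonempty)
    {t : F} (ht : t ≠ 0) : ‖periodSum U t‖ ≤ Real.sqrt (Fintype.card F) := by
  have h1 : (U.card : ℝ) * ‖periodSum U t‖ ^ 2 ≤ (Fintype.card F : ℝ) * U.card := by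
    rw [← sum_sq_periodSum U]
    refine le_trans (le_of_eq ?_) (Finset.sum_le_sum_of_subset_of_nonneg
      (Finset.subset_univ (U.image fun w => t * w)) fun i _ _ => by positivity)
    rw [Finset.sum_image fun a _ b _ hab => mul_left_cancel₀ ht hab]
    rw [Finset.sum_congr rfl fun w hw => by rw [periodSum_mul h0 hmul t hw]]
    simp
  refine Real.le_sqrt_of_sq_le (le_of_mul_le_mul_left ?_ (show (0 : ℝ) < U.card by
    exact_mod_cast hU.card_pos))
  linarith

/-- A lower bound for the number of `a ∈ U` with `c - a ∈ U`. -/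
lemma card_filter_ge (h0 : (0 : F) ∉ U) (hmul : ∀ u ∈ U, ∀ v ∈ U, u * v ∈ U) (hU : U.Nonempty)
    {c : F} (hc : c ≠ 0) :
    (U.card : ℝ) ^ 2 / Fintype.card F - Real.sqrt (Fintype.card F)
      ≤ (U.filter fun a => c - a ∈ U).card := by
  set M := (U.filter fun a => c - a ∈ U).card
  set Q := (Fintype.card F : ℝ) with hQ
  have hcount : ∀ w ∈ U, ∑ u ∈ U, ∑ v ∈ U, (if u + v - c * w = 0 then (1 : ℕ) else 0) = M := by
    intro w hw
    have hw0 : w ≠ 0 := fun h => h0 (h ▸ hw)
    have h1 : ∀ u, (∑ v ∈ U, (if u + v - c * w = 0 then (1 : ℕ) else 0))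
        = if c * w - u ∈ U then 1 else 0 := by
      intro u
      rw [← Finset.sum_ite_eq U (c * w - u) fun _ => (1 : ℕ)]
      refine Finset.sum_congr rfl fun v _ => ?_
      refine if_congr ?_ rfl rfl
      constructor <;> intro h <;> linear_combination -h
    simp only [h1]
    conv_lhs => rw [← image_mul_right h0 hmul hw]
    rw [Finset.sum_image fun a _ b _ hab => mul_right_cancel₀ hw0 hab]
    simp only [M, Finset.card_filter]
    refine Finset.sum_congr rfl fun a _ => if_congr ?_ rfl rfl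
    rw [← sub_mul]
    constructor
    · intro h
      obtain ⟨x, hx, hxw⟩ := Finset.mem_image.1 h
      rwa [mul_right_cancel₀ hw0 hxw] at hx
    · exact fun h => Finset.mem_image.2 ⟨c - a, h, rfl⟩
  have hid : (Fintype.card F : ℂ) * ((U.card * M : ℕ) : ℂ)
      = ∑ t : F, periodSum U t * periodSum U t * periodSum U (-(c * t)) := by
    have h2 : ((U.card * M : ℕ) : ℂ)
        = ∑ w ∈ U, ∑ u ∈ U, ∑ v ∈ U, (if u + v - c * w = 0 then (1 : ℂ) else 0) := by
      rw [show U.card * M = ∑ w ∈ U, ∑ u ∈ U, ∑ v ∈ U, (if u + v - c * w = 0 then (1 : ℕ) else 0) by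
        rw [Finset.sum_congr rfl hcount]; simp]
      push_cast
      rfl
    have h5 : ∀ t : F, periodSum U t * periodSum U t * periodSum U (-(c * t))
        = ∑ w ∈ U, ∑ u ∈ U, ∑ v ∈ U,
            AddChar.FiniteField.primitiveChar_to_Complex F (t * (u + v - c * w)) := by
      intro t
      simp only [periodSum]
      rw [Finset.sum_mul_sum, Finset.sum_mul, Finset.sum_comm (γ := F)]
      refine Finset.sum_congr rfl fun u _ => ?_
      rw [Finset.sum_mul_sum, Finset.sum_comm]
      refine Finset.sum_congr rfl fun w _ => Finset.sum_congr rfl fun v _ => ?_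
      rw [← AddChar.map_add_eq_mul, ← AddChar.map_add_eq_mul]
      congr 1
      ring
    simp only [h5, h2, Finset.mul_sum]
    rw [Finset.sum_comm (s := (Finset.univ : Finset F))]
    refine Finset.sum_congr rfl fun w _ => ?_
    rw [Finset.sum_comm (s := (Finset.univ : Finset F))]
    refine Finset.sum_congr rfl fun u _ => ?_
    rw [Finset.sum_comm (s := (Finset.univ : Finset F))]
    refine Finset.sum_congr rfl fun v _ => ?_
    rw [sum_char, mul_ite, mul_one, mul_zero]
  set T : F → ℂ := fun t => periodSum U t * periodSum U t * periodSum U (-(c * t))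
  rw [← Finset.add_sum_erase _ _ (Finset.mem_univ (0 : F))] at hid
  simp only [periodSum_zero, mul_zero, neg_zero] at hid
  have herr : ‖∑ t ∈ Finset.univ.erase (0 : F), T t‖ ≤ Real.sqrt Q * (Q * U.card) := by
    refine (norm_sum_le _ _).trans ?_
    refine le_trans (Finset.sum_le_sum (g := fun t => Real.sqrt Q * ‖periodSum U t‖ ^ 2) fun t ht => ?_) ?_
    · have ht0 : -(c * t) ≠ 0 := neg_ne_zero.2 (mul_ne_zero hc (Finset.mem_erase.1 ht).1)
      simp only [T, norm_mul]
      rw [mul_comm (Real.sqrt Q), pow_two]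
      exact mul_le_mul_of_nonneg_left (norm_periodSum_le h0 hmul hU ht0) (by positivity)
    · rw [← Finset.mul_sum]
      refine mul_le_mul_of_nonneg_left ?_ (Real.sqrt_nonneg _)
      rw [hQ, ← sum_sq_periodSum U]
      exact Finset.sum_le_sum_of_subset_of_nonneg (Finset.subset_univ _) fun i _ _ => by positivity
  have hreal : Q * (U.card * M : ℝ) ≥ (U.card : ℝ) ^ 3 - Real.sqrt Q * (Q * U.card) := by
    have h3 : ((Q * (U.card * M : ℝ) - (U.card : ℝ) ^ 3 : ℝ) : ℂ)
        = ∑ t ∈ Finset.univ.erase (0 : F), T t := by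
      simp only [T]
      push_cast [hQ]
      push_cast at hid
      linear_combination hid
    have h4 := herr
    rw [← h3, Complex.norm_real, Real.norm_eq_abs] at h4
    linarith [(abs_le.1 h4).1]
  have hn : (0 : ℝ) < U.card := by exact_mod_cast hU.card_pos
  have hQ0 : (0 : ℝ) < Q := by rw [hQ]; exact_mod_cast Fintype.card_pos
  rw [sub_le_iff_le_add, div_le_iff₀ hQ0]
  refine le_of_mul_le_mul_left ?_ hn
  linarith

end CharacterSum

section Cubic

open Polynomial

/-- For an odd prime there is an element of the cubic extension with `N a = 1 = N (2 - a)`, `a ≠ 1`. -/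
lemma exists_cubic (p : ℕ) [Fact p.Prime] (hp : p ≠ 2) :
    ∃ a : GaloisField p 3, a ≠ 1 ∧ Algebra.norm (ZMod p) a = 1 ∧
      Algebra.norm (ZMod p) (2 - a) = 1 := by
  classical
  have h2 : (2 : ZMod p) ≠ 0 := by
    intro h
    have : ((2 : ℕ) : ZMod p) = 0 := by exact_mod_cast h
    rw [ZMod.natCast_eq_zero_iff] at this
    exact hp ((Nat.prime_dvd_prime_iff_eq Fact.out Nat.prime_two).1 this)
  obtain ⟨b, hb⟩ : ∃ b : ZMod p, ∀ x : ZMod p, x ^ 3 + b * x ^ 2 + (-3 - 2 * b) * x - 1 ≠ 0 := by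
    by_contra! hcon
    choose x hx using hcon
    have hx0 : ∀ b, x b ≠ 0 := fun b h => by simpa [h] using hx b
    have hx2 : ∀ b, x b ≠ 2 := fun b h => by
      have h' := hx b
      rw [h] at h'
      exact one_ne_zero (by linear_combination h' : (1 : ZMod p) = 0)
    have hinj : Function.Injective x := by
      intro b c hbc
      have h1 := hx b
      have h3 := hx c
      rw [← hbc] at h3
      refine mul_right_cancel₀ (mul_ne_zero (hx0 b) (sub_ne_zero.2 (hx2 b))) ?_
      linear_combination h1 - h3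
    obtain ⟨b, hb⟩ := (Finite.injective_iff_surjective.1 hinj) 0
    exact hx0 b hb
  let f : (ZMod p)[X] := X ^ 3 + C b * X ^ 2 + C (-3 - 2 * b) * X + C (-1)
  have hdeg : f.natDegree = 3 := by
    simp only [f]
    compute_degree!
  have hmon : f.Monic := by
    simp only [f]
    monicity!
  have hirr : Irreducible f := by
    refine Polynomial.irreducible_of_degree_le_three_of_not_isRoot (by simp [hdeg]) fun x hx => hb x ?_
    simp only [f, IsRoot.def, eval_add, eval_mul, eval_C, eval_pow, eval_X] at hx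
    linear_combination hx
  haveI : Fact (Irreducible f) := ⟨hirr⟩
  let pb := AdjoinRoot.powerBasis hmon.ne_zero
  have hfin : Module.finrank (ZMod p) (AdjoinRoot f) = 3 := by
    rw [pb.finrank, AdjoinRoot.powerBasis_dim, hdeg]
  haveI : Module.Finite (ZMod p) (AdjoinRoot f) := pb.finite
  haveI : Finite (AdjoinRoot f) := Module.finite_of_finite (ZMod p)
  have hcard : Nat.card (AdjoinRoot f) = p ^ 3 := by
    rw [Module.natCard_eq_pow_finrank (K := ZMod p), hfin, Nat.card_zmod]
  let e := GaloisField.algEquivGaloisField p 3 hcard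
  have hmin : minpoly (ZMod p) pb.gen = f := by
    rw [AdjoinRoot.powerBasis_gen, AdjoinRoot.minpoly_root hmon.ne_zero, hmon.leadingCoeff,
      inv_one, map_one, mul_one]
  have hnorm : ∀ r : ZMod p,
      Algebra.norm (ZMod p) (algebraMap (ZMod p) (AdjoinRoot f) r - pb.gen) = f.eval r := by
    intro r
    rw [Algebra.norm_eq_matrix_det pb.basis, map_sub, AlgHom.commutes,
      congrArg (eval r) (hmin.symm.trans (charpoly_leftMulMatrix pb).symm),
      Matrix.eval_charpoly]
    rfl
  refine ⟨e pb.gen, ?_, ?_, ?_⟩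
  · intro h
    have hg : pb.gen = 1 := e.injective (by rw [h, map_one])
    have h1 := hnorm 1
    rw [map_one, hg, sub_self, Algebra.norm_zero] at h1
    apply hb 1
    have h' := h1.symm
    simp only [f, eval_add, eval_mul, eval_C, eval_pow, eval_X] at h'
    linear_combination h'
  · rw [Algebra.norm_eq_of_algEquiv e]
    have h1 := hnorm 0
    rw [map_zero, zero_sub, ← neg_one_mul, map_mul,
      show (-1 : AdjoinRoot f) = algebraMap (ZMod p) _ (-1) by simp, Algebra.norm_algebraMap, hfin] at h1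
    simp only [f, eval_add, eval_mul, eval_C, eval_pow, eval_X] at h1
    linear_combination -h1
  · rw [show (2 : GaloisField p 3) - e pb.gen = e (algebraMap (ZMod p) (AdjoinRoot f) 2 - pb.gen) by
      rw [map_sub, AlgEquiv.commutes, map_ofNat], Algebra.norm_eq_of_algEquiv e, hnorm]
    simp only [f, eval_add, eval_mul, eval_C, eval_pow, eval_X]
    ring

end Cubic

/-- The numerical estimate used for `q ≥ 5`. -/
lemma estimate {p q n : ℕ} (hp : 3 ≤ p) (hq : 5 ≤ q) (hn : p ^ q - 1 ≤ n * (p - 1)) :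
    (1 : ℝ) + Real.sqrt ((p ^ q : ℕ) : ℝ) < (n : ℝ) ^ 2 / ((p ^ q : ℕ) : ℝ) := by
  obtain ⟨r, rfl⟩ : ∃ r, q = r + 5 := ⟨q - 5, by omega⟩
  have h1 : p ^ (r + 4) ≤ n := by
    by_contra! h
    have hlt : n * (p - 1) ≤ (p ^ (r + 4) - 1) * (p - 1) := Nat.mul_le_mul_right _ (by omega)
    have hpos : 1 ≤ p ^ (r + 4) := Nat.one_le_pow _ _ (by omega)
    have hexp : p ^ (r + 5) = p ^ (r + 4) * p := pow_succ p (r + 4)
    have h2 : p ^ (r + 5) - 1 ≤ (p ^ (r + 4) - 1) * (p - 1) := hn.trans hlt
    zify [hpos, show 1 ≤ p by omega, show 1 ≤ p ^ (r + 5) from Nat.one_le_pow _ _ (by omega)] at h2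
    have hP : (1 : ℤ) ≤ (p : ℤ) ^ (r + 4) := by exact_mod_cast hpos
    have hp' : (3 : ℤ) ≤ p := by exact_mod_cast hp
    rw [show (p : ℤ) ^ (r + 5) = (p : ℤ) ^ (r + 4) * p from pow_succ _ _] at h2
    nlinarith
  set A : ℝ := (p : ℝ) ^ (r + 3) with hA
  have hp' : (3 : ℝ) ≤ p := by exact_mod_cast hp
  have hQ : ((p ^ (r + 5) : ℕ) : ℝ) = (p : ℝ) ^ (r + 5) := by push_cast; ring
  have hge : A ≤ (n : ℝ) ^ 2 / ((p ^ (r + 5) : ℕ) : ℝ) := by
    rw [hQ, le_div_iff₀ (by positivity)]
    have : ((p : ℝ) ^ (r + 4)) ^ 2 ≤ (n : ℝ) ^ 2 := by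
      refine pow_le_pow_left₀ (by positivity) ?_ 2
      exact_mod_cast h1
    calc A * (p : ℝ) ^ (r + 5) = ((p : ℝ) ^ (r + 4)) ^ 2 := by rw [hA]; ring
      _ ≤ _ := this
  refine lt_of_lt_of_le ?_ hge
  have hA27 : (27 : ℝ) ≤ A := by
    calc (27 : ℝ) = 3 ^ 3 := by norm_num
      _ ≤ (p : ℝ) ^ 3 := pow_le_pow_left₀ (by norm_num) hp' 3
      _ ≤ A := pow_le_pow_right₀ (by linarith) (by omega)
  have hsq : ((p ^ (r + 5) : ℕ) : ℝ) < (A - 1) ^ 2 := by
    rw [hQ, show (p : ℝ) ^ (r + 5) = A * (p : ℝ) ^ 2 by rw [hA]; ring]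
    have hp2 : (p : ℝ) ^ 2 * 3 ≤ A := by
      calc (p : ℝ) ^ 2 * 3 ≤ (p : ℝ) ^ 2 * p := by gcongr
        _ = (p : ℝ) ^ 3 := by ring
        _ ≤ A := pow_le_pow_right₀ (by linarith) (by omega)
    nlinarith
  have := (Real.sqrt_lt (by positivity) (by linarith)).2 hsq
  linarith


/-- Let p and q be odd primes with (p^q − 1)/(p − 1) coprime to p − 1. Then there are at least two elements a of the field with p ^ q elements such that both a and 2 − a have norm 1 to the prime field. -/
theorem result (p q : ℕ) [Fact p.Prime] [Fact q.Prime] (hp : p ≠ 2) (hq : q ≠ 2) (hA : Nat.Coprime ((p ^ q - 1) / (p - 1)) (p - 1)) :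
    2 ≤ Set.ncard {a : GaloisField p q | Algebra.norm (ZMod p) a = 1 ∧ Algebra.norm (ZMod p) (2 - a) = 1} := by
  classical
  set E := {a : GaloisField p q | Algebra.norm (ZMod p) a = 1 ∧ Algebra.norm (ZMod p) (2 - a) = 1}
  have h1E : (1 : GaloisField p q) ∈ E := ⟨map_one _, by norm_num⟩
  have hq0 : q ≠ 0 := (Fact.out : q.Prime).ne_zero
  haveI : Finite (GaloisField p q) := inferInstance
  suffices h : ∃ a ∈ E, a ≠ 1 by
    obtain ⟨a, haE, ha⟩ := h
    exact (Set.one_lt_ncard).2 ⟨a, haE, 1, h1E, ha⟩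
  rcases (show q = 3 ∨ 5 ≤ q by
    have := (Fact.out : q.Prime).two_le
    rcases Nat.lt_or_ge q 5 with h | h
    · interval_cases q
      · exact absurd rfl hq
      · exact Or.inl rfl
      · exact absurd (Fact.out : Nat.Prime 4) (by norm_num)
    · exact Or.inr h) with rfl | hq5
  · obtain ⟨a, ha, h1, h2'⟩ := exists_cubic p hp
    exact ⟨a, ⟨h1, h2'⟩, ha⟩
  · haveI : Fintype (GaloisField p q) := Fintype.ofFinite _
    set U : Finset (GaloisField p q) := Finset.univ.filter fun a => Algebra.norm (ZMod p) a = 1 with hU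
    have hp3 : 3 ≤ p := by
      have := (Fact.out : p.Prime).two_le
      omega
    have hmem : ∀ a, a ∈ U ↔ Algebra.norm (ZMod p) a = 1 := fun a => by simp [hU]
    have h0 : (0 : GaloisField p q) ∉ U := by simp [hmem]
    have hne : U.Nonempty := ⟨1, by simp [hmem]⟩
    have hmul : ∀ u ∈ U, ∀ v ∈ U, u * v ∈ U := fun u hu v hv => by
      rw [hmem] at *
      rw [map_mul, hu, hv, mul_one]
    have hF : Fintype.card (GaloisField p q) = p ^ q := by
      rw [← Nat.card_eq_fintype_card, GaloisField.card p q hq0]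
    have hn : p ^ q - 1 ≤ U.card * (p - 1) := by
      set S : Finset (GaloisField p q) := Finset.univ.erase 0
      have h1 : S.card ≤ U.card * (S.image (Algebra.norm (ZMod p))).card := by
        refine Finset.card_le_mul_card_image _ _ fun r hr => ?_
        obtain ⟨a, ha, rfl⟩ := Finset.mem_image.1 hr
        have ha0 : a ≠ 0 := (Finset.mem_erase.1 ha).1
        refine Finset.card_le_card_of_injOn (fun x => x * a⁻¹) (fun x hx => ?_)
          fun x _ y _ hxy => mul_right_cancel₀ (inv_ne_zero ha0) hxy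
        have hx' := (Finset.mem_filter.1 hx).2
        rw [Finset.mem_coe, hmem, map_mul, hx', ← map_mul, mul_inv_cancel₀ ha0, map_one]
      have h2' : (S.image (Algebra.norm (ZMod p))).card ≤ p - 1 := by
        refine (Finset.card_le_card (t := Finset.univ.erase (0 : ZMod p)) ?_).trans (le_of_eq ?_)
        · intro r hr
          obtain ⟨a, ha, rfl⟩ := Finset.mem_image.1 hr
          exact Finset.mem_erase.2
            ⟨Algebra.norm_ne_zero_iff.2 (Finset.mem_erase.1 ha).1, Finset.mem_univ _⟩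
        · rw [Finset.card_erase_of_mem (Finset.mem_univ _), Finset.card_univ, ZMod.card]
      rw [← hF, ← Finset.card_univ, ← Finset.card_erase_of_mem (Finset.mem_univ (0 : GaloisField p q))]
      exact h1.trans (Nat.mul_le_mul_left _ h2')
    have hc : (2 : GaloisField p q) ≠ 0 := by
      intro h
      have h' : ((2 : ℕ) : GaloisField p q) = 0 := by exact_mod_cast h
      rw [CharP.cast_eq_zero_iff (GaloisField p q) p] at h'
      exact hp ((Nat.prime_dvd_prime_iff_eq Fact.out Nat.prime_two).1 h')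
    have hge := card_filter_ge h0 hmul hne hc
    rw [hF] at hge
    have hM : 1 < (U.filter fun a => 2 - a ∈ U).card := by
      have h' : (1 : ℝ) < ((U.filter fun a => 2 - a ∈ U).card : ℝ) := by
        linarith [estimate hp3 hq5 hn]
      exact_mod_cast h'
    obtain ⟨a, ha, ha1⟩ := Finset.exists_mem_ne hM 1
    rw [Finset.mem_filter, hmem, hmem] at ha
    exact ⟨a, ha, ha1⟩

end Cfsg.Agent.S1471
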