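import Cfsg.Statements.S1472
import Cfsg.Agent.S1470
import Cfsg.Agent.S1471
import Cfsg.Agent.OddLocal44.FieldConfig
-- import your own Cfsg.Agent.* helpers here

set_option autoImplicit false
open Cfsg

namespace Cfsg.Agent.S1472

/-- Let p, q be primes with (p^q − 1)/(p − 1) coprime to p − 1, G a finite group, F a field with p ^ q elements, and P, U, Q subgroups of G with: f : G → F bijective from P onto F and additive on P; U normalizing P and acting through ψ : G → F, injective and multiplicative on U with ψ(u) ≠ 0 and f(uxu⁻¹) = ψ(u) f(x); #U · (p − 1) = p^q − 1; Q abelian of order coprime to p, normalized by every x ∈ P with f(x) in the prime field; and some y ∈ Q such that y x y⁻¹ normalizes U for every such x. Then p ≤ q. -/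
theorem result {G : Type*} [Group G] [Finite G] (p q : ℕ) [Fact p.Prime] [Fact q.Prime] (hA : Nat.Coprime ((p ^ q - 1) / (p - 1)) (p - 1))
    (F : Type*) [Field F] [Fintype F] (hF : Fintype.card F = p ^ q) (P U Q : Subgroup G) (f ψ : G → F)
    (hf : Set.BijOn f (P : Set G) Set.univ) (hfadd : ∀ x ∈ P, ∀ z ∈ P, f (x * z) = f x + f z)
    (hUP : U ≤ Subgroup.normalizer (P : Set G)) (hψ : ∀ u ∈ U, ψ u ≠ 0 ∧ ∀ x ∈ P, f (u * x * u⁻¹) = ψ u * f x)
    (hψmul : ∀ u ∈ U, ∀ v ∈ U, ψ (u * v) = ψ u * ψ v) (hψinj : Set.InjOn ψ (U : Set G)) (hUcard : Nat.card U * (p - 1) = p ^ q - 1)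
    (hQ : IsMulCommutative Q) (hQp : (Nat.card Q).Coprime p) (hP0Q : ∀ x ∈ P, f x ^ p = f x → x ∈ Subgroup.normalizer (Q : Set G))
    (y : G) (hy : y ∈ Q) (hP0U : ∀ x ∈ P, f x ^ p = f x → y * x * y⁻¹ ∈ Subgroup.normalizer (U : Set G)) :
    p ≤ q := by
  have hp : p.Prime := Fact.out
  have hq : q.Prime := Fact.out
  by_contra hlt
  push_neg at hlt
  have hp2 : p ≠ 2 := fun h => by have := hq.two_le; omega
  have hn : (p ^ q - 1) / (p - 1) * (p - 1) = p ^ q - 1 :=
    Nat.div_mul_cancel (by simpa using Nat.sub_dvd_pow_sub_pow p 1 q)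
  have hU : Nat.card U = (p ^ q - 1) / (p - 1) := by
    have : 0 < p - 1 := by have := hp.two_le; omega
    exact Nat.eq_of_mul_eq_mul_right this (hUcard.trans hn.symm)
  have hq2 : q ≠ 2 := by
    rintro rfl
    obtain ⟨k, hk⟩ := hp.odd_of_ne_two hp2
    have hdiv : (p ^ 2 - 1) / (p - 1) = p + 1 := by
      apply Nat.div_eq_of_eq_mul_left (by have := hp.two_le; omega)
      rw [← one_pow 2, Nat.sq_sub_sq, one_pow]
    rw [hdiv] at hA
    have h2 : 2 ∣ Nat.gcd (p + 1) (p - 1) := Nat.dvd_gcd ⟨k + 1, by omega⟩ ⟨k, by omega⟩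
    rw [hA.gcd_eq_one] at h2
    omega
  haveI : CharP F p := charP_of_card_eq_prime_pow hF
  have hcard : Nat.card F = p ^ q := by rw [Nat.card_eq_fintype_card, hF]
  set e : F → G := Function.invFunOn f (P : Set G) with he
  have he_mem : ∀ x, e x ∈ P := fun x => Function.invFunOn_mem (hf.surjOn (Set.mem_univ x))
  have hfe : ∀ x, f (e x) = x := fun x => Function.invFunOn_eq (hf.surjOn (Set.mem_univ x))
  have hef : ∀ a ∈ P, e (f a) = a := fun a ha => hf.injOn (he_mem _) ha (hfe _)
  have h1pow : ∀ x, x = e 1 → f x ^ p = f x := by rintro x rfl; rw [hfe, one_pow]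
  have C : Cfsg.Agent.OddLocal44.FieldCfg p U Q e ψ y :=
    { hp := hp
      hp2 := hp2
      charF := inferInstance
      e_inj := fun a b h => by rw [← hfe a, h, hfe]
      e_add := fun a b => by
        refine hf.injOn (he_mem _) (P.mul_mem (he_mem a) (he_mem b)) ?_
        rw [hfe, hfadd _ (he_mem a) _ (he_mem b), hfe, hfe]
      u_e := fun u hu x => by
        have hm := (Subgroup.mem_normalizer_iff.1 (hUP hu) _).1 (he_mem x)
        rw [← hef _ hm, (hψ u hu).2 _ (he_mem x), hfe]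
      ψ_mul := hψmul
      ψ_ne := fun u hu => (hψ u hu).1
      ψ_inj := hψinj
      card_U := by rw [hcard]; exact hUcard
      cop_U := by rw [hU]; exact hA
      one_lt_U := by
        by_contra hle
        push_neg at hle
        have h1 : p ^ q - 1 ≤ 1 * (p - 1) := hUcard ▸ Nat.mul_le_mul_right _ hle
        have h2 : p < p ^ q := by
          conv_lhs => rw [← pow_one p]
          exact Nat.pow_lt_pow_right hp.one_lt hq.one_lt
        omega
      Q_comm := hQ
      cop_Q := hQp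
      s_norm_Q := hP0Q _ (he_mem 1) (h1pow _ rfl)
      y_mem := hy
      t_norm_U := hP0U _ (he_mem 1) (h1pow _ rfl) }
  haveI : Fintype (GaloisField p q) := Fintype.ofFinite _
  have hcardG : Fintype.card F = Fintype.card (GaloisField p q) := by
    rw [hF, ← Nat.card_eq_fintype_card, GaloisField.card p q hq.ne_zero]
  let R : F ≃+* GaloisField p q := FiniteField.ringEquivOfCardEq hcardG
  have hmem : ∀ a : GaloisField p q, Algebra.norm (ZMod p) a = 1 ↔ ∃ u ∈ U, R (ψ u) = a := by
    have hUn : ∀ u ∈ U, ψ u ^ Nat.card U = 1 := fun u hu => by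
      rw [← C.ψ_pow hu, orderOf_dvd_iff_pow_eq_one.1 (Subgroup.orderOf_dvd_natCard U hu), C.ψ_one]
    have key : ∀ a : GaloisField p q, Algebra.norm (ZMod p) a = 1 ↔ a ^ Nat.card U = 1 := by
      intro a
      have h := FiniteField.algebraMap_norm_eq_pow (K := ZMod p) (K' := GaloisField p q) (x := a)
      rw [GaloisField.card p q hq.ne_zero, Nat.card_zmod] at h
      rw [hU, ← h, ← map_one (algebraMap (ZMod p) (GaloisField p q))]
      exact ((algebraMap (ZMod p) (GaloisField p q)).injective.eq_iff).symm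
    intro a
    rw [key]
    constructor
    · intro ha
      have ha0 : R.symm a ≠ 0 := fun h0 => by
        rw [← R.apply_symm_apply a, h0, map_zero, zero_pow Nat.card_pos.ne'] at ha
        exact zero_ne_one ha
      obtain ⟨c, -, ω, hω, hcω⟩ := C.decomp ha0
      refine ⟨ω, hω, ?_⟩
      have h1 : (c : F) ^ Nat.card U = 1 := by
        have h2 : (R.symm a) ^ Nat.card U = 1 := by rw [← map_pow, ha, map_one]
        rwa [hcω, mul_pow, hUn ω hω, mul_one] at h2
      have h2 : (c : F) ^ (p - 1) = 1 := by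
        have hc0 : (c : F) ≠ 0 := fun h0 => by rw [h0, zero_mul] at hcω; exact ha0 hcω
        apply mul_left_cancel₀ hc0
        rw [mul_one, ← pow_succ', Nat.sub_add_cancel hp.one_le, C.intCast_pow_p]
      have h3 := pow_gcd_eq_one.2 ⟨h1, h2⟩
      rw [C.cop_U.gcd_eq_one, pow_one] at h3
      rw [← R.apply_symm_apply a, hcω, h3, one_mul]
    · rintro ⟨u, hu, rfl⟩
      rw [← map_pow, hUn u hu, map_one]
  have hinv : ∀ a ∈ {a : GaloisField p q | Algebra.norm (ZMod p) a = 1 ∧
      Algebra.norm (ZMod p) (2 - a) = 1},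
      a⁻¹ ∈ {a : GaloisField p q | Algebra.norm (ZMod p) a = 1 ∧ Algebra.norm (ZMod p) (2 - a) = 1} := by
    rintro a ⟨h1, h2⟩
    obtain ⟨u, hu, rfl⟩ := (hmem a).1 h1
    obtain ⟨v, hv, hv2⟩ := (hmem _).1 h2
    have huv : ψ u + ψ v = 2 := R.injective (by rw [map_add, hv2, map_ofNat, add_sub_cancel])
    obtain ⟨v', hv', hv'2⟩ := C.inv_closed hu hv huv
    have hi : R (ψ u⁻¹) = (R (ψ u))⁻¹ := by rw [C.ψ_inv hu, map_inv₀]
    refine ⟨(hmem _).2 ⟨u⁻¹, U.inv_mem hu, hi⟩, (hmem _).2 ⟨v', hv', ?_⟩⟩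
    rw [← hi, eq_sub_iff_add_eq, ← map_add, add_comm, hv'2, map_ofNat]
  exact absurd (Cfsg.Agent.S1470.result p q hp2 hq2 hA hinv (Cfsg.Agent.S1471.result p q hp2 hq2 hA))
    (not_le.2 hlt)

end Cfsg.Agent.S1472
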