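import Cfsg.Statements.S1476
import Cfsg.Agent.CN7.NormalSylow
import Cfsg.Agent.CN7.Bad
-- import your own Cfsg.Agent.* helpers here

set_option autoImplicit false
open Cfsg

namespace Cfsg.Agent.S1476

/-- Let G be a finite solvable group in which every non-identity element has nilpotent centralizer. Then either G is nilpotent; or G has a normal subgroup K with a Frobenius complement E (K E = G, K ∩ E = 1, E meets its conjugates by outside elements trivially) such that E is cyclic or E is generated by two elementwise-commuting subgroups, one cyclic of odd order and one isomorphic to a generalized quaternion group; or G is a three-step group with respect to some prime p. -/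
theorem result {G : Type*} [Group G] [Finite G] [Group.IsSolvable G] (hCN : Cfsg.IsCNGroup G) :
    Group.IsNilpotent G ∨
      (∃ K E : Subgroup G, K.Normal ∧ Subgroup.IsComplement' K E ∧ Cfsg.IsFrobeniusComplement E ∧
        (IsCyclic E ∨ ∃ C Q : Subgroup G, C ⊔ Q = E ∧ (∀ a ∈ C, ∀ b ∈ Q, a * b = b * a) ∧ IsCyclic C ∧ Odd (Nat.card C) ∧
          ∃ n : ℕ, Nonempty (↥Q ≃* QuaternionGroup (2 ^ n)))) ∨
      ∃ p : ℕ, p.Prime ∧ Cfsg.IsThreeStepGroup p G := by
  by_cases hnil : Group.IsNilpotent G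
  · exact Or.inl hnil
  refine Or.inr ?_
  by_cases hS : ∃ (p : ℕ) (_ : Fact p.Prime) (P : Sylow p G),
      (P : Subgroup G) ≠ ⊥ ∧ (P : Subgroup G).Normal
  · obtain ⟨p, hp, P, hP1, hPn⟩ := hS
    obtain ⟨h1, -, E, hE, hF, -, hfpf, hEnil, -⟩ :=
      CN7.frobenius_of_normal_sylow hCN hnil P hP1 hPn
    exact Or.inl ⟨Cfsg.fittingHall G, E, inferInstance, hE, hF,
      CN7.nilpotent_fpf_shape hfpf h1 hEnil⟩
  · refine Or.inr ?_
    obtain ⟨p, hp, hcore⟩ : ∃ p : ℕ, p.Prime ∧ Cfsg.pCore p G ≠ ⊥ := by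
      haveI : Nontrivial G := not_subsingleton_iff_nontrivial.1 fun h => hnil inferInstance
      obtain ⟨M, hM⟩ := Fitting.exists_isMinNormal (G := G)
      obtain ⟨p, hp, hel⟩ := hM.exists_isElementaryAbelian_of_isSolvable
      exact ⟨p, hp, fun h => hM.2.1 (le_bot_iff.1
        ((Thompson.le_pCore hM.1 (Fitting.isPGroup_of_isElementaryAbelian hel)).trans h.le))⟩
    haveI := Fact.mk hp
    have hbad : CN7.Bad p G := ⟨hcore, fun P hPn => hS ⟨p, Fact.mk hp, P, fun h => hcore
      (le_bot_iff.1 ((Thompson.pCore_le_sylow P).trans h.le)), hPn⟩⟩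
    obtain ⟨A, hA1, hAc, hAo, hAp, hn, -, hidx, hfix, hout⟩ := CN7.bad_structure hCN hbad
    refine ⟨p, hp, hcore, A, hA1, hAc, hAo, hAp, hn, fun h => ?_, hidx, hfix, hout⟩
    exact CN7.not_sylow_le hbad hAp (default : Sylow p G) (by rw [h]; exact le_top)

end Cfsg.Agent.S1476
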