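import Cfsg.Statements.S1483
import Cfsg.Agent.CN7.MaxNil
-- import your own Cfsg.Agent.* helpers here

set_option autoImplicit false
open Cfsg

namespace Cfsg.Agent.S1483

/-- Let G be a minimal simple group of odd order in which every non-identity element has nilpotent centralizer. Then any two nilpotent subgroups each contained in no larger nilpotent subgroup are either conjugate or of coprime orders; and for primes p, q, r: if some elements x, y ≠ 1 of p-power and q-power order commute, and some elements y', z ≠ 1 of q-power and r-power order commute, then some elements of p-power and r-power order, both ≠ 1, commute. -/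
theorem result {G : Type*} [Group G] [Finite G] (hG : Cfsg.IsMinSimpleOddOrder G) (hCN : Cfsg.IsCNGroup G) :
    (∀ H₁ H₂ : Subgroup G, (Group.IsNilpotent ↥H₁ ∧ ∀ L : Subgroup G, Group.IsNilpotent L → H₁ ≤ L → L = H₁) → (Group.IsNilpotent ↥H₂ ∧ ∀ L : Subgroup G, Group.IsNilpotent L → H₂ ≤ L → L = H₂) → (∃ g : G, H₂ = H₁.map (MulAut.conj g).toMonoidHom) ∨ (Nat.card H₁).Coprime (Nat.card H₂)) ∧
      ∀ (p q r : ℕ), p.Prime → q.Prime → r.Prime → ∀ (x y y' z : G), x ≠ 1 → y ≠ 1 → y' ≠ 1 → z ≠ 1 →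
        IsPGroup p (Subgroup.zpowers x) → IsPGroup q (Subgroup.zpowers y) → IsPGroup q (Subgroup.zpowers y') → IsPGroup r (Subgroup.zpowers z) →
        x * y = y * x → y' * z = z * y' →
        ∃ x' z' : G, x' ≠ 1 ∧ z' ≠ 1 ∧ IsPGroup p (Subgroup.zpowers x') ∧ IsPGroup r (Subgroup.zpowers z') ∧ x' * z' = z' * x' := by
  refine ⟨fun H₁ H₂ h₁ h₂ => CN7.IsMaxNil.conj_or_coprime hCN h₁ h₂, ?_⟩
  intro p q r hp hq hr x y y' z hx hy hy' hz hpx hqy hqy' hrz hxy hyz
  haveI := Fact.mk hp
  haveI := Fact.mk hq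
  haveI := Fact.mk hr
  rcases eq_or_ne p r with rfl | hpr
  · exact ⟨x, x, hx, hx, hpx, hpx, rfl⟩
  have hdvd : ∀ {s : ℕ}, s.Prime → ∀ {w : G}, w ≠ 1 → IsPGroup s (Subgroup.zpowers w) →
      ∀ {H : Subgroup G}, w ∈ H → s ∣ Nat.card H := by
    intro s hs w hw hsw H hwH
    haveI := Fact.mk hs
    obtain ⟨k, hk⟩ := CN7.exists_orderOf_prime_pow hsw (Subgroup.mem_zpowers w)
    refine (dvd_pow_self s ?_).trans (hk ▸ Subgroup.orderOf_dvd_natCard H hwH)
    rintro rfl
    exact hw (orderOf_eq_one_iff.1 (by rw [hk, pow_zero]))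
  have hmax : ∀ a b : G, a * b = b * a →
      ∃ H : Subgroup G, CN7.IsMaxNil H ∧ a ∈ H ∧ b ∈ H := by
    intro a b hab
    haveI : IsMulCommutative ↥(Subgroup.closure ({a, b} : Set G)) :=
      Subgroup.isMulCommutative_closure (by
        intro u hu v hv
        rcases Set.mem_insert_iff.1 hu with rfl | rfl <;>
          rcases Set.mem_insert_iff.1 hv with rfl | rfl <;> first | rfl | exact hab | exact hab.symm)
    obtain ⟨H, hH, hle⟩ := CN7.exists_isMaxNil
      (K := Subgroup.closure ({a, b} : Set G)) (by open scoped IsMulCommutative in infer_instance)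
    exact ⟨H, hH, hle (Subgroup.subset_closure (Set.mem_insert _ _)),
      hle (Subgroup.subset_closure (Set.mem_insert_of_mem _ rfl))⟩
  obtain ⟨H, hH, hxH, hyH⟩ := hmax x y hxy
  obtain ⟨H', hH', hy'H, hzH⟩ := hmax y' z hyz
  obtain ⟨g, hg⟩ := hH.conj_of_common_prime hCN hH' (hdvd hq hy hqy hyH) (hdvd hq hy' hqy' hy'H)
  have hr' : r ∣ Nat.card H := by
    have := hdvd hr hz hrz hzH
    rwa [hg, OddLocal44.card_conjBy] at this
  obtain ⟨⟨a, ha⟩, hao⟩ := exists_prime_orderOf_dvd_card' p (hdvd hp hx hpx hxH)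
  obtain ⟨⟨c, hc⟩, hco⟩ := exists_prime_orderOf_dvd_card' r hr'
  rw [Subgroup.orderOf_mk] at hao hco
  refine ⟨a, c, fun h => hp.ne_one (by rw [← hao, h, orderOf_one]),
    fun h => hr.ne_one (by rw [← hco, h, orderOf_one]), ?_, ?_,
    CN7.commute_of_coprime_orders hH.1 ha hc (by
      rw [hao, hco]; exact (Nat.coprime_primes hp hr).2 hpr)⟩
  · exact IsPGroup.of_card (n := 1) (by rw [Nat.card_zpowers, hao, pow_one])
  · exact IsPGroup.of_card (n := 1) (by rw [Nat.card_zpowers, hco, pow_one])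

end Cfsg.Agent.S1483
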