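import Cfsg.Statements.S1484
import Cfsg.Agent.CN7.Classes
-- import your own Cfsg.Agent.* helpers here

set_option autoImplicit false
open Cfsg

namespace Cfsg.Agent.S1484

/-- Let G be a minimal simple group of odd order in which every non-identity element has nilpotent centralizer, and M₁, …, M_k maximal subgroups, pairwise non-conjugate, such that every maximal subgroup is conjugate to some M_i. Let H_i be the largest normal nilpotent Hall subgroup of M_i. Then the orders of the H_i are pairwise coprime, their product is the order of G, and every element of G is conjugate to an element of some H_i. -/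
theorem result {G : Type*} [Group G] [Finite G] (hG : Cfsg.IsMinSimpleOddOrder G) (hCN : Cfsg.IsCNGroup G) (k : ℕ) (Mrep : Fin k → Subgroup G) (hmax : ∀ i, IsCoatom (Mrep i))
    (hnc : ∀ i j, i ≠ j → ∀ g : G, Mrep j ≠ (Mrep i).map (MulAut.conj g).toMonoidHom) (hall : ∀ M : Subgroup G, IsCoatom M → ∃ i, ∃ g : G, M = (Mrep i).map (MulAut.conj g).toMonoidHom) :
    (∀ i j, i ≠ j → (Nat.card (Cfsg.fittingHallOf (Mrep i))).Coprime (Nat.card (Cfsg.fittingHallOf (Mrep j)))) ∧
      ∏ i, Nat.card (Cfsg.fittingHallOf (Mrep i)) = Nat.card G ∧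
      ∀ x : G, ∃ i, ∃ g : G, g * x * g⁻¹ ∈ Cfsg.fittingHallOf (Mrep i) := by
  have hrep : ∀ i, ∃ H : Subgroup G, CN7.IsMaxNil H ∧ Mrep i = Subgroup.normalizer (H : Set G) ∧
      Cfsg.fittingHallOf (Mrep i) = H := by
    intro i
    obtain ⟨H, hH, he⟩ := CN7.coatom_eq hG hCN (hmax i)
    exact ⟨H, hH, he, by rw [he]; exact CN7.fittingHallOf_normalizer hG hCN hH⟩
  choose K hK hMK hFK using hrep
  simp only [hFK]
  have hcov : ∀ H : Subgroup G, CN7.IsMaxNil H →
      ∃ i, ∃ g : G, H = (K i).map (MulAut.conj g).toMonoidHom := by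
    intro H hH
    obtain ⟨i, g, hg⟩ := hall _ (CN7.coatom_normalizer hG hCN hH)
    refine ⟨i, g, ?_⟩
    have h1 := CN7.fittingHallOf_normalizer hG hCN hH
    rw [hg, hMK i, Subgroup.map_equiv_normalizer_eq (K i) (MulAut.conj g)] at h1
    rw [← h1]
    exact CN7.fittingHallOf_normalizer hG hCN ((hK i).map_conj g)
  have hcop : ∀ i j, i ≠ j → (Nat.card (K i)).Coprime (Nat.card (K j)) := fun i j hij =>
    ((hK i).conj_or_coprime hCN (hK j)).resolve_left fun ⟨g, hg⟩ => hnc i j hij g (by
      rw [hMK j, hg, hMK i]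
      exact (Subgroup.map_equiv_normalizer_eq (K i) (MulAut.conj g)).symm)
  refine ⟨hcop, Nat.dvd_antisymm ?_ ?_, fun x => ?_⟩
  · exact Fintype.prod_dvd_of_isRelPrime (fun i j hij => Nat.coprime_iff_isRelPrime.1 (hcop i j hij))
      fun i => Subgroup.card_subgroup_dvd_card (K i)
  · rw [Nat.dvd_iff_prime_pow_dvd_dvd]
    intro p m hp hm
    rcases Nat.eq_zero_or_pos m with rfl | hm0
    · simp
    haveI := Fact.mk hp
    obtain ⟨H, hH, hPH⟩ := CN7.exists_isMaxNil (K := ((default : Sylow p G) : Subgroup G))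
      (default : Sylow p G).2.isNilpotent
    obtain ⟨i, g, hg⟩ := hcov H hH
    refine Dvd.dvd.trans ?_ (Finset.dvd_prod_of_mem _ (Finset.mem_univ i))
    rw [← OddLocal44.card_conjBy (K i) g, ← hg]
    exact ((default : Sylow p G).pow_dvd_card_of_pow_dvd_card hm).trans
      (Subgroup.card_dvd_of_le hPH)
  · obtain ⟨H, hH, hxH⟩ := CN7.exists_isMaxNil (K := Subgroup.zpowers x)
      (by open scoped IsMulCommutative in infer_instance)
    obtain ⟨i, g, hg⟩ := hcov H hH
    refine ⟨i, g⁻¹, ?_⟩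
    rw [hg] at hxH
    obtain ⟨y, hy, hyx⟩ := hxH (Subgroup.mem_zpowers x)
    simp only [← hyx, MulEquiv.coe_toMonoidHom, MulAut.conj_apply]
    simpa [mul_assoc] using hy

end Cfsg.Agent.S1484
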