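import Cfsg.Statements.S1485
import Cfsg.Agent.OddChar.Normal
open Cfsg.Agent Cfsg.Agent.OddChar

set_option autoImplicit false
open Cfsg

namespace Cfsg.Agent.S1485

/-- Let H be a normal subgroup of the finite group G and θ an irreducible character of H. On H, the function induced from θ equals r times the sum of the distinct G-conjugates of θ, where r is the number of elements of G fixing θ under conjugation divided by the order of H (the index of H in the inertia group). -/
theorem result {G : Type*} [Group G] [Fintype G] (H : Subgroup G) [hN : H.Normal] (θ : H → ℂ) (hθ : Cfsg.IsIrrCharacter H θ) : (fun h : H => Cfsg.indFun H θ h) = ((Nat.card {g : G // ∀ h : H, θ ⟨g * h * g⁻¹, hN.conj_mem h h.2 g⟩ = θ h} : ℂ) / (Nat.card H : ℂ)) • ∑ᶠ ψ ∈ {ψ : H → ℂ | ∃ g : G, ψ = fun h : H => θ ⟨g * h * g⁻¹, hN.conj_mem h h.2 g⟩}, ψ := by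
  classical
  have _ := hθ
  funext h
  rw [indFun_coe]
  simp only [Pi.smul_apply, smul_eq_mul]
  rw [div_eq_inv_mul, mul_assoc]
  congr 1
  let orb : Finset (H → ℂ) := Finset.univ.image fun g : G => conjBy H g θ
  have horb : {ψ : H → ℂ | ∃ g : G, ψ = fun h : H => θ ⟨g * h * g⁻¹, hN.conj_mem h h.2 g⟩}
      = (orb : Set (H → ℂ)) := by
    ext ψ
    simp only [Set.mem_ofPred_eq, orb, Finset.coe_image, Finset.coe_univ, Set.image_univ,
      Set.mem_range]
    exact exists_congr fun g => eq_comm
  rw [horb, finsum_mem_coe_finset, Finset.sum_apply, Finset.mul_sum,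
    ← Finset.sum_fiberwise_of_maps_to (g := fun g : G => conjBy H g θ) (t := orb)
      (fun g _ => Finset.mem_image_of_mem _ (Finset.mem_univ g))]
  refine Finset.sum_congr rfl fun ψ hψ => ?_
  obtain ⟨a, -, rfl⟩ := Finset.mem_image.mp hψ
  rw [Finset.sum_congr rfl fun g hg => congrFun (Finset.mem_filter.mp hg).2 h,
    Finset.sum_const, nsmul_eq_mul]
  congr 1
  norm_cast
  rw [← Nat.card_eq_finsetCard]
  refine (Nat.card_congr ?_).symm
  refine (Equiv.mulRight a).subtypeEquiv fun g => ?_
  simp only [Finset.mem_filter, Finset.mem_univ, true_and, Equiv.coe_mulRight]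
  constructor
  · intro hg
    have : conjBy H g θ = θ := funext hg
    rw [conjBy_mul, this]
  · intro hg h'
    rw [conjBy_mul] at hg
    have := congrArg (conjBy H a⁻¹) hg
    simp only [← conjBy_mul, mul_inv_cancel, mul_one, mul_inv_cancel_right, conjBy_one] at this
    exact congrFun this h'

end Cfsg.Agent.S1485
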