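import Cfsg.Statements.S1488

set_option autoImplicit false
open Cfsg

namespace Cfsg.Agent.S1488

/-- Let A be a normal subgroup of the finite group G contained in the subgroup H, let θ be a function on H and θ₁ a function on the image of H in G ⧸ A whose composite with the projection is θ. Then the function induced from θ₁ to G ⧸ A, composed with the projection G → G ⧸ A, equals the function induced from θ to G. -/
theorem result {G : Type*} [Group G] [Fintype G] (A H : Subgroup G) [A.Normal] (hAH : A ≤ H) [Fintype (G ⧸ A)] [Fintype ↥(H.map (QuotientGroup.mk' A))] (θ : H → ℂ) (θ₁ : ↥(H.map (QuotientGroup.mk' A)) → ℂ) (hθ : ∀ x : H, θ₁ ⟨QuotientGroup.mk' A x, Subgroup.mem_map_of_mem _ x.2⟩ = θ x) (g : G) : Cfsg.indFun (H.map (QuotientGroup.mk' A)) θ₁ (QuotientGroup.mk' A g) = Cfsg.indFun H θ g := by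
  classical
  have hext : ∀ y : G, extendByZero (H.map (QuotientGroup.mk' A)) θ₁ (QuotientGroup.mk' A y)
      = extendByZero H θ y := by
    intro y
    unfold extendByZero
    by_cases hy : y ∈ H
    · rw [show (QuotientGroup.mk' A y) = ((⟨QuotientGroup.mk' A ((⟨y, hy⟩ : H) : G),
        Subgroup.mem_map_of_mem _ hy⟩ : ↥(H.map (QuotientGroup.mk' A))) : G ⧸ A) from rfl,
        Subtype.val_injective.extend_apply, hθ ⟨y, hy⟩]
      exact (Subtype.val_injective.extend_apply θ 0 (⟨y, hy⟩ : H)).symm
    · rw [Function.extend_apply' θ (0 : G → ℂ) y (fun ⟨z, hz⟩ => hy (hz ▸ z.2)),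
        Function.extend_apply' θ₁ (0 : G ⧸ A → ℂ) _ ?_]
      · rfl
      rintro ⟨⟨z, hz⟩, he⟩
      obtain ⟨h, hh, rfl⟩ := Subgroup.mem_map.mp hz
      refine hy ?_
      have : h⁻¹ * y ∈ A := QuotientGroup.eq.mp he
      simpa using H.mul_mem hh (hAH this)
  have hsum : ∀ F : G ⧸ A → ℂ, ∑ x : G, F (QuotientGroup.mk' A x) =
      (Nat.card A : ℂ) * ∑ q : G ⧸ A, F q := by
    intro F
    rw [← Equiv.sum_comp (Subgroup.groupEquivQuotientProdSubgroup (s := A)).symm,
      Fintype.sum_prod_type, Finset.mul_sum]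
    refine Finset.sum_congr rfl fun q _ => ?_
    have : ∀ a : A, QuotientGroup.mk' A
        ((Subgroup.groupEquivQuotientProdSubgroup (s := A)).symm (q, a)) = q := fun a => by
      have h := congrArg Prod.fst
        ((Subgroup.groupEquivQuotientProdSubgroup (s := A)).apply_symm_apply (q, a))
      simpa [Subgroup.groupEquivQuotientProdSubgroup] using h
    simp [this, Nat.card_eq_fintype_card]
  have hcard : Nat.card H = Nat.card A * Nat.card ↥(H.map (QuotientGroup.mk' A)) := by
    have h := Subgroup.card_mul_index ((QuotientGroup.mk' A).comp H.subtype).ker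
    rw [Subgroup.index_ker, MonoidHom.range_eq_map, ← Subgroup.map_map,
      ← MonoidHom.range_eq_map, Subgroup.range_subtype] at h
    rw [← h]
    congr 1
    rw [show ((QuotientGroup.mk' A).comp H.subtype).ker = A.subgroupOf H by
      rw [← MonoidHom.comap_ker, QuotientGroup.ker_mk']; rfl]
    exact Nat.card_congr (Subgroup.subgroupOfEquivOfLe hAH).toEquiv
  have hA0 : (Nat.card A : ℂ) ≠ 0 := Nat.cast_ne_zero.mpr Nat.card_pos.ne'
  unfold indFun
  rw [Finset.sum_congr rfl fun x _ => (hext (x⁻¹ * g * x)).symm]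
  simp only [map_mul, map_inv]
  rw [hsum fun q => extendByZero (H.map (QuotientGroup.mk' A)) θ₁ (q⁻¹ * QuotientGroup.mk' A g * q),
    hcard]
  push_cast
  field_simp

end Cfsg.Agent.S1488
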