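import Cfsg.Statements.S1497

set_option autoImplicit false
open Cfsg

namespace Cfsg.Agent.S1497

/-- Let A be a nonempty subset of the finite group G not containing 1 and L a subgroup. Then A is a TI-subset whose normaliser is L if and only if the Dade hypothesis holds for A, L and the constant choice H(a) = ⊥. -/
theorem result {G : Type*} [Group G] [Finite G] (A : Set G) (hA : A.Nonempty) (h1 : (1 : G) ∉ A) (L : Subgroup G) : (Cfsg.IsTISubset A ∧ Subgroup.normalizer A = L) ↔ Cfsg.DadeHypothesis A L (fun _ => ⊥) := by
  have _ := hA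
  constructor
  · rintro ⟨hTI, hN⟩
    subst hN
    have hfus : ∀ a ∈ A, ∀ g : G, g * a * g⁻¹ ∈ A → g ∈ Subgroup.normalizer A := by
      intro a ha g hga
      by_contra hg
      exact h1 (hTI g hg a ha hga ▸ ha)
    have hC : ∀ a ∈ A, Subgroup.centralizer ({a} : Set G) ≤ Subgroup.normalizer A := by
      intro a ha c hc
      refine hfus a ha c ?_
      rw [Subgroup.mem_centralizer_singleton_iff.mp hc, mul_inv_cancel_right]
      exact ha
    exact
      { one_not_mem := h1
        subset := fun a ha => hfus a ha a (by simpa using ha)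
        conj_mem := fun x hx a ha => ((Subgroup.mem_set_normalizer_iff.mp hx) a).mp ha
        fusion := fun a ha g hg => ⟨g, hfus a ha g hg, rfl⟩
        le_centralizer := fun a _ => bot_le
        conj_mem_H := fun a _ c _ u hu => by simp_all
        inf_eq_bot := fun a _ => bot_inf_eq _
        sup_eq := fun a ha => by rw [bot_sup_eq, inf_eq_right.mpr (hC a ha)]
        coprime := fun a _ b _ => by simp }
  · intro hD
    have hL : ∀ a ∈ A, ∀ g : G, g * a * g⁻¹ ∈ A → g ∈ L := by
      intro a ha g hg
      obtain ⟨x, hx, hxa⟩ := hD.fusion a ha g hg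
      have hc : x⁻¹ * g ∈ Subgroup.centralizer ({a} : Set G) := by
        rw [Subgroup.mem_centralizer_singleton_iff]
        have := congrArg (fun t => x⁻¹ * t * g) hxa
        simp [mul_assoc] at this
        simpa [mul_assoc] using this.symm
      have := hD.sup_eq a ha
      rw [bot_sup_eq] at this
      rw [← this] at hc
      simpa using L.mul_mem hx hc.1
    have hle : L ≤ Subgroup.normalizer A := by
      intro x hx
      rw [Subgroup.mem_set_normalizer_iff]
      refine fun n => ⟨hD.conj_mem x hx n, fun hn => ?_⟩
      simpa [mul_assoc] using hD.conj_mem x⁻¹ (L.inv_mem hx) _ hn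
    obtain ⟨a, ha⟩ := hA
    refine ⟨fun g hg b hb hgb => absurd (hle (hL b hb g hgb)) hg, le_antisymm ?_ hle⟩
    exact fun g hg => hL a ha g ((Subgroup.mem_set_normalizer_iff.mp hg a).mp ha)

end Cfsg.Agent.S1497
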