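import Cfsg.Statements.S1499
import Cfsg.Agent.OddChar.Dade
open Cfsg.Agent.OddChar

set_option autoImplicit false
open Cfsg

namespace Cfsg.Agent.S1499

/-- Under the Dade hypothesis for (A, L, H), let a, b ∈ A. If an element of the coset a·H(a) is conjugate in G to an element of b·H(b), then a and b are conjugate by an element of L. Moreover the set normaliser of the coset a·H(a) is the centraliser of a. -/
theorem result {G : Type*} [Group G] [Finite G] (A : Set G) (L : Subgroup G) (H : G → Subgroup G) (hD : Cfsg.DadeHypothesis A L H) (a b : G) (ha : a ∈ A) (hb : b ∈ A) : ((∃ u ∈ H a, ∃ v ∈ H b, ∃ g : G, g * (a * u) * g⁻¹ = b * v) → ∃ x ∈ L, x * a * x⁻¹ = b) ∧ Subgroup.normalizer ((fun u : G => a * u) '' (H a : Set G)) = Subgroup.centralizer ({a} : Set G) := by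
  constructor
  · rintro ⟨u, hu, v, hv, g, hg⟩
    have h := dade_conj_eq hD ha hb hu hv hg
    obtain ⟨x, hx, hxa⟩ := hD.fusion a ha g (h.symm ▸ hb)
    exact ⟨x, hx, hxa.trans h⟩
  · ext g
    rw [Subgroup.mem_set_normalizer_iff, Subgroup.mem_centralizer_singleton_iff]
    constructor
    · intro hg
      obtain ⟨v, hv, he⟩ := (hg a).mp ⟨1, (H a).one_mem, by simp⟩
      have := dade_conj_eq hD ha ha (H a).one_mem hv (g := g) (by rw [mul_one]; exact he.symm)
      exact mul_inv_eq_iff_eq_mul.mp this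
    · intro hg n
      have key : ∀ c : G, c * a = a * c → ∀ u ∈ H a,
          c * (a * u) * c⁻¹ ∈ (fun u : G => a * u) '' (H a : Set G) := fun c hc u hu =>
        ⟨c * u * c⁻¹, hD.conj_mem_H a ha c (Subgroup.mem_centralizer_singleton_iff.mpr hc) u hu,
          by simp [← mul_assoc, hc]⟩
      refine ⟨fun ⟨u, hu, hn⟩ => hn ▸ key g hg u hu, fun ⟨u, hu, hn⟩ => ?_⟩
      have := key g⁻¹ (Commute.inv_left hg).eq u hu
      simp only at hn
      rwa [hn, inv_inv, show g⁻¹ * (g * n * g⁻¹) * g = n by group] at this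

end Cfsg.Agent.S1499
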