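import Cfsg.Statements.S1504
import Cfsg.Agent.OddChar.CyclicW
import Mathlib.RingTheory.IntegralDomain
import Mathlib.LinearAlgebra.LinearIndependent.Lemmas
import Mathlib.FieldTheory.LinearDisjoint
open Cfsg.Agent Cfsg.Agent.OddChar

set_option autoImplicit false
open Cfsg

namespace Cfsg.Agent.S1504

/-- Let W₁, W₂ be subgroups of a finite group with W₁ ⊓ W₂ = ⊥ whose elements commute, and W = W₁ ⊔ W₂. For linear characters φ, ψ of W with φ trivial on W₂ and ψ trivial on W₁, the function (1 − φ)(1 − ψ) vanishes on W₁ ∪ W₂; and the family of these functions, indexed by pairs (φ, ψ) with φ ≠ 1 ≠ ψ, is linearly independent over ℂ. -/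
theorem result {G : Type*} [Group G] [Finite G] (W₁ W₂ : Subgroup G) (hdisj : W₁ ⊓ W₂ = ⊥) (hcomm : ∀ a ∈ W₁, ∀ b ∈ W₂, a * b = b * a) : (∀ φ ψ : ↥(W₁ ⊔ W₂) →* ℂˣ, (∀ w : ↥(W₁ ⊔ W₂), (w : G) ∈ W₂ → φ w = 1) → (∀ w : ↥(W₁ ⊔ W₂), (w : G) ∈ W₁ → ψ w = 1) → ∀ w : ↥(W₁ ⊔ W₂), ((w : G) ∈ W₁ ∨ (w : G) ∈ W₂) → (1 - (φ w : ℂ) - (ψ w : ℂ) + (φ w : ℂ) * (ψ w : ℂ)) = 0) ∧ LinearIndependent ℂ (fun p : {p : (↥(W₁ ⊔ W₂) →* ℂˣ) × (↥(W₁ ⊔ W₂) →* ℂˣ) // p.1 ≠ 1 ∧ p.2 ≠ 1 ∧ (∀ w : ↥(W₁ ⊔ W₂), (w : G) ∈ W₂ → p.1 w = 1) ∧ (∀ w : ↥(W₁ ⊔ W₂), (w : G) ∈ W₁ → p.2 w = 1)} => fun w : ↥(W₁ ⊔ W₂) => 1 - (p.1.1 w : ℂ) - (p.1.2 w : ℂ) + (p.1.1 w : ℂ) * (p.1.2 w : ℂ)) := by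
  classical
  have _ := hdisj
  have _ := hcomm
  refine ⟨fun φ ψ hφ hψ w hw => CycTI.beta_vanish W₁ W₂ (φ := φ) (ψ := ψ) hφ hψ w hw, ?_⟩
  have hlin : LinearIndependent ℂ
      (fun ω : ↥(W₁ ⊔ W₂) →* ℂˣ => (fun w => (ω w : ℂ))) :=
    (linearIndependent_monoidHom ↥(W₁ ⊔ W₂) ℂ).comp (fun ω => (Units.coeHom ℂ).comp ω)
      fun a b h => MonoidHom.ext fun w => Units.ext (DFunLike.congr_fun h w)
  rw [linearIndependent_iff']
  intro s c hc q hq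
  rw [linearIndependent_iff] at hlin
  let F : (↥(W₁ ⊔ W₂) →* ℂˣ) →₀ ℂ := ∑ p ∈ s, (Finsupp.single 1 (c p) - Finsupp.single p.1.1 (c p)
    - Finsupp.single p.1.2 (c p) + Finsupp.single (p.1.1 * p.1.2) (c p))
  have h0 : F = 0 := by
    refine hlin F ?_
    rw [← hc]
    simp only [F, map_sum, map_add, map_sub, Finsupp.linearCombination_single]
    refine Finset.sum_congr rfl fun p _ => ?_
    funext w
    simp only [Pi.add_apply, Pi.sub_apply, Pi.smul_apply, smul_eq_mul, MonoidHom.one_apply,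
      MonoidHom.mul_apply, Units.val_one, Units.val_mul]
    ring
  have h1 := DFunLike.congr_fun h0 (q.1.1 * q.1.2)
  obtain ⟨q1, q2, q3, q4⟩ := q.2
  simp only [F, Finsupp.finset_sum_apply, Finsupp.add_apply, Finsupp.sub_apply,
    Finsupp.zero_apply] at h1
  rw [Finset.sum_eq_single q ?_ (fun h => absurd hq h)] at h1
  · have a1 : q.1.1 * q.1.2 ≠ 1 := fun e => q1 (CycTI.mul_inj W₁ W₂ q3 (one_mem _) q4 (one_mem _) (by rw [one_mul]; exact e)).1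
    have a2 : q.1.1 * q.1.2 ≠ q.1.1 := fun e => q2 (CycTI.mul_inj W₁ W₂ q3 q3 q4 (one_mem _) (by rw [mul_one]; exact e)).2
    have a3 : q.1.1 * q.1.2 ≠ q.1.2 := fun e => q1 (CycTI.mul_inj W₁ W₂ q3 (one_mem _) q4 q4 (by rw [one_mul]; exact e)).1
    simpa [Finsupp.single_eq_of_ne a1, Finsupp.single_eq_of_ne a2, Finsupp.single_eq_of_ne a3] using h1
  · intro p _ hpq
    obtain ⟨p1, p2, p3, p4⟩ := p.2
    have a1 : q.1.1 * q.1.2 ≠ 1 := fun e => q1 (CycTI.mul_inj W₁ W₂ q3 (one_mem _) q4 (one_mem _) (by rw [one_mul]; exact e)).1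
    have a2 : q.1.1 * q.1.2 ≠ p.1.1 := fun e => q2 (CycTI.mul_inj W₁ W₂ q3 p3 q4 (one_mem _) (by rw [mul_one]; exact e)).2
    have a3 : q.1.1 * q.1.2 ≠ p.1.2 := fun e => q1 (CycTI.mul_inj W₁ W₂ q3 (one_mem _) q4 p4 (by rw [one_mul]; exact e)).1
    have a4 : q.1.1 * q.1.2 ≠ p.1.1 * p.1.2 := fun e => hpq (by
      obtain ⟨e1, e2⟩ := CycTI.mul_inj W₁ W₂ q3 p3 q4 p4 e
      exact Subtype.ext (Prod.ext e1.symm e2.symm))
    simp [Finsupp.single_eq_of_ne a1, Finsupp.single_eq_of_ne a2, Finsupp.single_eq_of_ne a3, Finsupp.single_eq_of_ne a4]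

end Cfsg.Agent.S1504
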