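import Cfsg.Statements.S1507
import Cfsg.Agent.OddChar.CyclicExist
open Cfsg.Agent Cfsg.Agent.OddChar

set_option autoImplicit false
open Cfsg

namespace Cfsg.Agent.S1507

open Classical in
/-- Let W₁, W₂ ≤ G form a self-normalising cyclic subgroup W = W₁ ⊔ W₂ of odd order with Nat.card W₁ < Nat.card W₂, and χ an orthonormal family of irreducible characters of G up to sign, indexed by the linear characters ω of W, with χ_1 = 1, χ_ω = ω on W outside W₁ ∪ W₂, and the induction identity for (1 − φ)(1 − ψ). Let θ be a class function of G vanishing on W outside W₁ ∪ W₂, and suppose fewer than 2 · Nat.card W₁ linear characters ω of W have ⟨θ, χ ω⟩ ≠ 0. Then one of: all ⟨θ, χ ω⟩ vanish; or there are ψ₀ and a with ⟨θ, χ ω⟩ = a when ω ψ₀⁻¹ is trivial on W₂ and 0 otherwise; or there are φ₀ and a with ⟨θ, χ ω⟩ = a when ω φ₀⁻¹ is trivial on W₁ and 0 otherwise.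 -/
theorem result {G : Type*} [Group G] [Fintype G] (W₁ W₂ : Subgroup G) (hW : Cfsg.IsSelfNormalizingCyclic W₁ W₂) (hodd : Odd (Nat.card ↥(W₁ ⊔ W₂))) (χ : (↥(W₁ ⊔ W₂) →* ℂˣ) → (G → ℂ)) (hχ : Cfsg.IsCyclicTIFamily W₁ W₂ χ) (hlt : Nat.card W₁ < Nat.card W₂) (θ : G → ℂ) (hθ : Cfsg.IsClassFunction G θ) (hθV : ∀ w : ↥(W₁ ⊔ W₂), (w : G) ∉ W₁ → (w : G) ∉ W₂ → θ w = 0) (hfew : Nat.card {ω : ↥(W₁ ⊔ W₂) →* ℂˣ // Cfsg.classInner θ (χ ω) ≠ 0} < 2 * Nat.card W₁) : (∀ ω, Cfsg.classInner θ (χ ω) = 0) ∨ (∃ (ψ₀ : ↥(W₁ ⊔ W₂) →* ℂˣ) (a : ℂ), ∀ ω, Cfsg.classInner θ (χ ω) = if (∀ w : ↥(W₁ ⊔ W₂), (w : G) ∈ W₂ → (ω * ψ₀⁻¹) w = 1) then a else 0) ∨ (∃ (φ₀ : ↥(W₁ ⊔ W₂) →* ℂˣ) (a : ℂ), ∀ ω, Cfsg.classInner θ (χ ω) = if (∀ w : ↥(W₁ ⊔ W₂), (w : G) ∈ W₁ → (ω * φ₀⁻¹) w = 1) then a else 0) := by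
  classical
  have h := CycTI.Split.of_selfNormalizing hW
  obtain ⟨ho1, ho2, h31, h32, -⟩ := CycTI.card_facts hW hodd
  have := h.finite_dual
  have : Fintype (↥(W₁ ⊔ W₂) →* ℂˣ) := Fintype.ofFinite _
  let X := ↥(CycTI.D1 W₁ W₂)
  let Y := ↥(CycTI.D2 W₁ W₂)
  have hX : Fintype.card X = Nat.card W₁ := by rw [← Nat.card_eq_fintype_card, h.card_d1]
  have hY : Fintype.card Y = Nat.card W₂ := by rw [← Nat.card_eq_fintype_card, h.card_d2]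
  let c := fun ω => classInner θ (χ ω)
  let x : X → ℂ := fun φ => c φ.1
  let y : Y → ℂ := fun ψ => c ψ.1 - c 1
  have hxy : ∀ φ ψ, c (φ.1 * ψ.1) = x φ + y ψ := fun φ ψ => by
    simp only [c, x, y]
    rw [CycTI.coeff_additive hχ hθ hθV φ.2 ψ.2]; ring
  let e : X × Y ≃ (↥(W₁ ⊔ W₂) →* ℂˣ) := Equiv.ofBijective (fun p => p.1.1 * p.2.1)
    ⟨fun p q hpq => by
      obtain ⟨a, b⟩ := CycTI.mul_inj W₁ W₂ p.1.2 q.1.2 p.2.2 q.2.2 hpq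
      exact Prod.ext (Subtype.ext a) (Subtype.ext b),
     fun ω => by
      obtain ⟨a, ha, b, hb, hab⟩ := CycTI.exists_factor W₁ W₂ h.disj h.comm ω
      exact ⟨(⟨a, ha⟩, ⟨b, hb⟩), hab⟩⟩
  have hgap : Fintype.card X + 2 ≤ Fintype.card Y := by
    rw [hX, hY]
    obtain ⟨k, hk⟩ := ho1
    obtain ⟨l, hl⟩ := ho2
    omega
  have hfew' : Nat.card {p : X × Y // x p.1 + y p.2 ≠ 0} < 2 * Fintype.card X := by
    rw [hX]
    refine lt_of_eq_of_lt (Nat.card_congr (e.subtypeEquiv fun p => ?_)) hfew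
    show _ ↔ c (p.1.1 * p.2.1) ≠ 0
    rw [hxy]
  rcases CycTI.additive_few hgap x y hfew' with h0 | ⟨j₀, a, ha⟩ | ⟨i₀, a, ha⟩
  · refine Or.inl fun ω => ?_
    obtain ⟨p, rfl⟩ := e.surjective ω
    exact (hxy p.1 p.2).trans (h0 _ _)
  · refine Or.inr (Or.inl ⟨j₀.1, a, fun ω => ?_⟩)
    obtain ⟨⟨φ, ψ⟩, rfl⟩ := e.surjective ω
    show c (φ.1 * ψ.1) = _
    rw [hxy]
    by_cases hψ : ψ = j₀
    · subst hψ
      refine (ha φ).1.trans (if_pos fun w hw => ?_).symm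
      simp only [MonoidHom.mul_apply, MonoidHom.inv_apply]
      show φ.1 w * ψ.1 w * (ψ.1 w)⁻¹ = 1
      rw [φ.2 w hw, one_mul, mul_inv_cancel]
    · refine ((ha φ).2 ψ hψ).trans (if_neg fun hcond => hψ ?_).symm
      refine Subtype.ext (CycTI.eq_of_eq_on W₁ W₂ (fun w hw => by rw [ψ.2 w hw, j₀.2 w hw]) ?_)
      intro w hw
      have q : φ.1 w * ψ.1 w * (j₀.1 w)⁻¹ = 1 := hcond w hw
      rw [φ.2 w hw, one_mul, mul_inv_eq_one] at q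
      exact q
  · refine Or.inr (Or.inr ⟨i₀.1, a, fun ω => ?_⟩)
    obtain ⟨⟨φ, ψ⟩, rfl⟩ := e.surjective ω
    show c (φ.1 * ψ.1) = _
    rw [hxy]
    by_cases hφ : φ = i₀
    · subst hφ
      refine (ha ψ).1.trans (if_pos fun w hw => ?_).symm
      show φ.1 w * ψ.1 w * (φ.1 w)⁻¹ = 1
      rw [ψ.2 w hw, mul_one, mul_inv_cancel]
    · refine ((ha ψ).2 φ hφ).trans (if_neg fun hcond => hφ ?_).symm
      refine Subtype.ext (CycTI.eq_of_eq_on W₁ W₂ ?_ (fun w hw => by rw [φ.2 w hw, i₀.2 w hw]))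
      intro w hw
      have q : φ.1 w * ψ.1 w * (i₀.1 w)⁻¹ = 1 := hcond w hw
      rw [ψ.2 w hw, mul_one, mul_inv_eq_one] at q
      exact q

end Cfsg.Agent.S1507
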