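import Cfsg.Statements.S1515
import Cfsg.Agent.OddChar.SignedIrr
open Cfsg.Agent Cfsg.Agent.OddChar
open scoped ComplexConjugate

set_option autoImplicit false
open Cfsg

namespace Cfsg.Agent.S1515

/-- Let (S, τ, R) be a coherence system from L to G, χ ∈ S, and ψ an integer combination of S with ⟨χ, ψ⟩ = ⟨conj χ, ψ⟩ = 0. Let τ₁ be a linear isometry on the integer combinations of χ − ψ and χ − conj χ, with virtual-character values, agreeing with τ on integer multiples of χ − conj χ. Then the sum over α ∈ R χ of the squared absolute values of ⟨τ₁(χ − ψ), α⟩ is at least ⟨χ, χ⟩; and if ⟨τ₁(χ − ψ), τ₁(χ − ψ)⟩ minus that sum is at least ⟨ψ, ψ⟩, then the sum equals ⟨χ, χ⟩ and every ⟨τ₁(χ − ψ), α⟩ with α ∈ R χ is 0 or 1. -/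
theorem result {L : Type*} [Group L] [Fintype L] {G : Type*} [Group G] [Fintype G] (S : Set (L → ℂ)) (τ : (L → ℂ) → (G → ℂ)) (R : (L → ℂ) → Finset (G → ℂ)) (hS : Cfsg.IsCoherenceSystem S τ R) (χ : L → ℂ) (hχ : χ ∈ S) (ψ : L → ℂ) (hψ : ψ ∈ Cfsg.zspan S) (h1 : Cfsg.classInner χ ψ = 0) (h2 : Cfsg.classInner (Cfsg.conjFun χ) ψ = 0) (τ₁ : (L → ℂ) → (G → ℂ)) (hτ₁ : Cfsg.IsLinearIsometryOn (Cfsg.zspan {χ - ψ, χ - Cfsg.conjFun χ}) τ₁) (hagree : ∀ n : ℤ, τ₁ (n • (χ - Cfsg.conjFun χ)) = τ (n • (χ - Cfsg.conjFun χ))) : (Cfsg.classInner χ χ).re ≤ ∑ α ∈ R χ, ‖Cfsg.classInner (τ₁ (χ - ψ)) α‖ ^ 2 ∧ ((Cfsg.classInner ψ ψ).re ≤ (Cfsg.classInner (τ₁ (χ - ψ)) (τ₁ (χ - ψ))).re - ∑ α ∈ R χ, ‖Cfsg.classInner (τ₁ (χ - ψ)) α‖ ^ 2 → (∑ α ∈ R χ, ‖Cfsg.classInner (τ₁ (χ - ψ)) α‖ ^ 2 = (Cfsg.classInner χ χ).re ∧ ∀ α ∈ R χ, Cfsg.classInner (τ₁ (χ - ψ)) α = 0 ∨ Cfsg.classInner (τ₁ (χ - ψ)) α = 1)) := by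
  classical
  set X := τ₁ (χ - ψ) with hX
  have hχc : conjFun χ ∈ S := hS.conj_mem χ hχ
  have hne := hS.conj_ne χ hχ
  have hz1 : classInner χ (conjFun χ) = 0 := hS.orthogonal χ hχ _ hχc hne.symm
  have hz2 : classInner (conjFun χ) χ = 0 := hS.orthogonal _ hχc χ hχ hne
  obtain ⟨N, hN⟩ := Coherence.inner_char_nat (hS.isCharacter χ hχ) (hS.isCharacter χ hχ)
  have hcc : classInner (conjFun χ) (conjFun χ) = N := by
    have : classInner (conjFun χ) (conjFun χ) = conj (classInner χ χ) := by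
      simp [classInner, conjFun, map_sum]
    rw [this, hN, Complex.conj_natCast]
  set D := χ - conjFun χ with hD
  have hDmem : D ∈ zspan {χ - ψ, χ - conjFun χ} := Coherence.zspan_subset (Or.inr rfl)
  have hXmem : χ - ψ ∈ zspan {χ - ψ, χ - conjFun χ} := Coherence.zspan_subset (Or.inl rfl)
  have hDon : D ∈ zspanOn S {1}ᶜ := Coherence.mem_zspanOn_one.2
    ⟨Coherence.zspan_sub (Coherence.zspan_subset hχ) (Coherence.zspan_subset hχc), by
      rw [hD, Pi.sub_apply, Coherence.conjFun_one_of_char (hS.isCharacter χ hχ), sub_self]⟩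
  have hτD : τ₁ D = ∑ α ∈ R χ, α := by
    have := hagree 1
    rw [one_smul] at this
    rw [hD, this, hS.sum_eq χ hχ]
  have hsum : ∑ α ∈ R χ, classInner X α = N := by
    rw [← CharCore.classInner_sum_right, ← hτD, hτ₁.2.2.1 _ hXmem _ hDmem, hD,
      CharCore.classInner_sub_left, CharCore.classInner_sub_right, CharCore.classInner_sub_right,
      hz1, hN]
    have e1 : classInner ψ χ = 0 := by rw [← CharCore.conj_classInner, h1, map_zero]
    have e2 : classInner ψ (conjFun χ) = 0 := by rw [← CharCore.conj_classInner, h2, map_zero]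
    rw [e1, e2]; simp
  have hint : ∀ α ∈ R χ, ∃ n : ℤ, classInner X α = n := fun α hα =>
    Coherence.inner_gen_int (hτ₁.2.2.2 _ hXmem) (hS.virtual χ hχ α hα)
  choose! c hc using hint
  have hcsum : ∑ α ∈ R χ, c α = (N : ℤ) := by
    rw [Finset.sum_congr rfl hc] at hsum
    exact_mod_cast hsum
  have hsq : ∑ α ∈ R χ, ‖classInner X α‖ ^ 2 = ((∑ α ∈ R χ, c α * c α : ℤ) : ℝ) := by
    push_cast
    refine Finset.sum_congr rfl fun α hα => ?_
    rw [hc α hα, Complex.norm_intCast, sq_abs, pow_two]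
  have hle : ∀ α, c α ≤ c α * c α := fun α => Int.le_self_sq (c α) |>.trans (by rw [pow_two])
  have hA : (N : ℤ) ≤ ∑ α ∈ R χ, c α * c α := hcsum ▸ Finset.sum_le_sum fun α _ => hle α
  refine ⟨?_, fun hB => ?_⟩
  · rw [hN, hsq, Complex.natCast_re]
    exact_mod_cast hA
  · have hXX : classInner X X = N + classInner ψ ψ := by
      rw [hX, hτ₁.2.2.1 _ hXmem _ hXmem, CharCore.classInner_sub_left,
        CharCore.classInner_sub_right, CharCore.classInner_sub_right, hN, h1,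
        show classInner ψ χ = 0 by rw [← CharCore.conj_classInner, h1, map_zero]]
      ring
    rw [hXX, Complex.add_re, Complex.natCast_re, hsq] at hB
    have hB' : (∑ α ∈ R χ, c α * c α : ℤ) ≤ (N : ℤ) := by
      have : ((∑ α ∈ R χ, c α * c α : ℤ) : ℝ) ≤ (N : ℝ) := by linarith
      exact_mod_cast this
    have heq : ∑ α ∈ R χ, c α * c α = (N : ℤ) := le_antisymm hB' hA
    refine ⟨by rw [hsq, heq, hN, Complex.natCast_re]; norm_num, fun α hα => ?_⟩
    have h0 : c α * c α = c α := by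
      by_contra hne'
      have := Finset.sum_lt_sum (fun β _ => hle β) ⟨α, hα, lt_of_le_of_ne (hle α) (Ne.symm hne')⟩
      omega
    rw [hc α hα]
    rcases eq_or_ne (c α) 0 with e | e
    · left; rw [e]; simp
    · right; rw [mul_left_cancel₀ e (by rw [h0, mul_one] : c α * c α = c α * 1)]; simp

end Cfsg.Agent.S1515
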