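import Cfsg.Statements.S1516
import Cfsg.Agent.Coherence.Subcoherent

set_option autoImplicit false
open Cfsg

namespace Cfsg.Agent.S1516

/-- Let (S, τ, R) be a coherence system from L to G with degrees φ 1 = d φ and squared norms ⟨φ, φ⟩ = n φ for φ ∈ S. Let S₁ ⊆ S be a finite subset closed under complex conjugation such that (S₁, L minus 1, τ) is coherent, let χ ∈ S with χ ∉ S₁ and conj χ ∉ S₁, and let χ₁ ∈ S₁ with d χ₁ dividing d χ and 2 d χ d χ₁ < Σ_{φ ∈ S₁} (d φ)² / n φ. Then S₁ together with χ and conj χ is coherent. -/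
theorem result {L : Type*} [Group L] [Fintype L] {G : Type*} [Group G] [Fintype G] (S : Set (L → ℂ)) (τ : (L → ℂ) → (G → ℂ)) (R : (L → ℂ) → Finset (G → ℂ)) (hS : Cfsg.IsCoherenceSystem S τ R) (d n : (L → ℂ) → ℕ) (hd : ∀ φ ∈ S, φ 1 = (d φ : ℂ)) (hn : ∀ φ ∈ S, Cfsg.classInner φ φ = (n φ : ℂ)) (S₁ : Finset (L → ℂ)) (hS₁ : ↑S₁ ⊆ S) (hS₁c : ∀ φ ∈ S₁, Cfsg.conjFun φ ∈ S₁) (hcoh : Cfsg.IsCoherent (↑S₁ : Set (L → ℂ)) {1}ᶜ τ) (χ : L → ℂ) (hχ : χ ∈ S) (hχ₁ : χ ∉ S₁) (hχ₂ : Cfsg.conjFun χ ∉ S₁) (χ₁ : L → ℂ) (hχ₁S : χ₁ ∈ S₁) (hdvd : d χ₁ ∣ d χ) (hineq : (2 * d χ * d χ₁ : ℝ) < ∑ φ ∈ S₁, ((d φ : ℝ) ^ 2 / (n φ : ℝ))) : Cfsg.IsCoherent (↑S₁ ∪ {χ, Cfsg.conjFun χ} : Set (L → ℂ)) {1}ᶜ τ := by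
  classical
  obtain ⟨hne₁, τ₁, hτ₁, hag⟩ := hcoh
  obtain ⟨k, hk⟩ := hdvd
  have hχ₁' : χ₁ ∈ S := hS₁ hχ₁S
  have hχc : conjFun χ ∈ S := hS.conj_mem χ hχ
  have hne0 : ∀ φ ∈ S, φ ≠ 0 := fun φ h => Coherence.sys_ne_zero hS h
  have hnpos : ∀ φ ∈ S, 0 < n φ := by
    intro φ h
    refine Nat.pos_of_ne_zero fun h0 => hne0 φ h (Coherence.inner_self_eq_zero.1 ?_)
    rw [hn φ h, h0, Nat.cast_zero]
  have hd1 : 0 < d χ₁ := by
    refine Nat.pos_of_ne_zero fun h0 =>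
      Coherence.char_one_ne_zero (hS.isCharacter _ hχ₁') (hne0 _ hχ₁') ?_
    rw [hd _ hχ₁', h0, Nat.cast_zero]
  have hdχ : 0 < d χ := by
    refine Nat.pos_of_ne_zero fun h0 =>
      Coherence.char_one_ne_zero (hS.isCharacter _ hχ) (hne0 _ hχ) ?_
    rw [hd _ hχ, h0, Nat.cast_zero]
  set θ : L → ℂ := (k : ℤ) • χ₁ - χ with hθ
  have hθ1 : θ 1 = 0 := by
    simp [hθ, hd _ hχ₁', hd _ hχ, hk]; ring
  have hθm : θ ∈ zspanOn S {1}ᶜ := Coherence.mem_zspanOn_one.2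
    ⟨Coherence.zspan_sub (Coherence.zspan_zsmul _ (Coherence.zspan_subset hχ₁'))
      (Coherence.zspan_subset hχ), hθ1⟩
  have horχ : ∀ φ ∈ S₁, classInner χ φ = 0 := fun φ h =>
    hS.orthogonal χ hχ φ (hS₁ h) fun e => hχ₁ (e ▸ h)
  have horχc : ∀ φ ∈ S₁, classInner (conjFun χ) φ = 0 := fun φ h =>
    hS.orthogonal _ hχc φ (hS₁ h) fun e => hχ₂ (e ▸ h)
  have hRo : ∀ φ ∈ S₁, ∀ α ∈ R χ, classInner α (τ₁ φ) = 0 := by
    intro φ hφ α hα
    rw [← Coherence.inner_conj_symm, Coherence.coherent_inner_R hS hS₁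
      (fun ψ h => hS₁c ψ h) hτ₁ hag hχ hχ₁ hχ₂ hφ hα, map_zero]
  have hξ := hS.isometry.2.2.2 _ hθm
  set ξ := τ θ with hξdef
  set P := Coherence.proj (R χ) ξ with hP
  have hPs : classInner ξ (∑ α ∈ R χ, α) = ((-(n χ : ℝ) : ℝ) : ℂ) := by
    rw [Coherence.sys_inner_sum hS hχ hθm, hθ]
    simp only [Coherence.inner_sub_left, Coherence.inner_sub_right, Coherence.inner_zsmul_left,
      Coherence.sys_orth_conj hS hχ, hn χ hχ]
    rw [hS.orthogonal χ₁ hχ₁' χ hχ (fun e => hχ₁ (e ▸ hχ₁S)),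
      hS.orthogonal χ₁ hχ₁' _ hχc (fun e => hχ₂ (e ▸ hχ₁S))]
    push_cast; ring
  have hPge : (n χ : ℝ) ≤ Coherence.normSqFn P := by
    have h := Coherence.proj_norm_ge (Coherence.sys_orthonormal hS hχ) (hS.virtual χ hχ) hξ hPs
    rwa [abs_neg, abs_of_nonneg (Nat.cast_nonneg _)] at h
  have hξn : Coherence.normSqFn ξ = (k : ℝ) ^ 2 * n χ₁ + n χ := by
    apply Complex.ofReal_injective
    rw [← Coherence.inner_self, hξdef, hS.isometry.2.2.1 _ hθm _ hθm, hθ]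
    simp only [Coherence.inner_sub_left, Coherence.inner_sub_right, Coherence.inner_zsmul_left,
      Coherence.inner_zsmul_right, hn χ hχ, hn χ₁ hχ₁', horχ χ₁ hχ₁S,
      hS.orthogonal χ₁ hχ₁' χ hχ (fun e => hχ₁ (e ▸ hχ₁S))]
    push_cast; ring
  -- the pairing with the coherent images
  have hbex : ∀ φ, ∃ b : ℤ, φ ∈ S₁ → classInner ξ (τ₁ φ) = b := by
    intro φ
    by_cases h : φ ∈ S₁
    · exact (Coherence.inner_gen_int hξ (hτ₁.2.2.2 _ (Coherence.zspan_subset h))).imp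
        fun b hb _ => hb
    · exact ⟨0, fun h' => absurd h' h⟩
  choose b hb using hbex
  have hlin : ∀ φ ∈ S₁, (d χ₁ : ℤ) * (b φ - if φ = χ₁ then (k : ℤ) * n χ₁ else 0) =
      (d φ : ℤ) * (b χ₁ - (k : ℤ) * n χ₁) := by
    intro φ hφ
    by_cases he : φ = χ₁
    · subst he; simp
    rw [if_neg he, sub_zero]
    have hη : ((d χ₁ : ℤ) • φ - (d φ : ℤ) • χ₁) ∈ zspanOn (↑S₁ : Set (L → ℂ)) {1}ᶜ :=
      Coherence.mem_zspanOn_one.2
        ⟨Coherence.zspan_sub (Coherence.zspan_zsmul _ (Coherence.zspan_subset hφ))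
          (Coherence.zspan_zsmul _ (Coherence.zspan_subset hχ₁S)),
          by simp [hd _ (hS₁ hφ), hd _ hχ₁']; ring⟩
    have h := hS.isometry.2.2.1 _ hθm _ (Coherence.zspanOn_mono hS₁ _ hη)
    rw [← hag _ hη, ← hξdef, Coherence.iso_map_sub hτ₁
      (Coherence.zspan_zsmul _ (Coherence.zspan_subset hφ))
      (Coherence.zspan_zsmul _ (Coherence.zspan_subset hχ₁S))
      (Coherence.zspan_neg (Coherence.zspan_zsmul _ (Coherence.zspan_subset hχ₁S))),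
      hτ₁.2.1 _ (Coherence.zspan_subset hφ), hτ₁.2.1 _ (Coherence.zspan_subset hχ₁S), hθ] at h
    simp only [Coherence.inner_sub_left, Coherence.inner_sub_right, Coherence.inner_zsmul_left,
      Coherence.inner_zsmul_right, hb φ hφ, hb χ₁ hχ₁S, horχ φ hφ, horχ χ₁ hχ₁S,
      hn χ₁ hχ₁', hS.orthogonal χ₁ hχ₁' φ (hS₁ hφ) (Ne.symm he)] at h
    have h' : ((((d χ₁ : ℤ) * b φ : ℤ)) : ℂ) = (((d φ : ℤ) * (b χ₁ - (k : ℤ) * n χ₁) : ℤ) : ℂ) := by
      push_cast at h ⊢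
      linear_combination h
    exact_mod_cast h'
  set e : ℤ := b χ₁ - (k : ℤ) * n χ₁ with he
  have hbess := Coherence.bessel (ξ := ξ - P) S₁ τ₁ (fun φ => (n φ : ℝ)) (fun φ => (b φ : ℝ))
    (fun φ h => by exact_mod_cast (hnpos φ (hS₁ h)).ne')
    (fun φ h => by
      rw [hτ₁.2.2.1 _ (Coherence.zspan_subset h) _ (Coherence.zspan_subset h), hn φ (hS₁ h)]
      simp)
    (fun φ h ψ h' hne => by
      rw [hτ₁.2.2.1 _ (Coherence.zspan_subset h) _ (Coherence.zspan_subset h'),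
        hS.orthogonal φ (hS₁ h) ψ (hS₁ h') hne])
    (fun φ h => by
      rw [Coherence.inner_sub_left, hP, Coherence.inner_proj_of_orth (hRo φ h), sub_zero, hb φ h]
      simp)
  set σ : ℝ := ∑ φ ∈ S₁, (d φ : ℝ) ^ 2 / (n φ : ℝ) with hσ
  have hsum : ∑ φ ∈ S₁, (b φ : ℝ) ^ 2 / (n φ : ℝ) =
      (e : ℝ) ^ 2 / (d χ₁ : ℝ) ^ 2 * σ + 2 * k * e + (k : ℝ) ^ 2 * n χ₁ := by
    have hd1' : (d χ₁ : ℝ) ≠ 0 := by exact_mod_cast hd1.ne'
    have hterm : ∀ φ ∈ S₁, (b φ : ℝ) ^ 2 / (n φ : ℝ) =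
        (e : ℝ) ^ 2 / (d χ₁ : ℝ) ^ 2 * ((d φ : ℝ) ^ 2 / (n φ : ℝ)) +
          if φ = χ₁ then 2 * k * (e : ℝ) + (k : ℝ) ^ 2 * n χ₁ else 0 := by
      intro φ hφ
      have h : ((((d χ₁ : ℤ) * (b φ - if φ = χ₁ then (k : ℤ) * n χ₁ else 0)) : ℤ) : ℝ) =
          (((d φ : ℤ) * e : ℤ) : ℝ) := by rw [hlin φ hφ]
      have hnφ : (n φ : ℝ) ≠ 0 := by exact_mod_cast (hnpos φ (hS₁ hφ)).ne'
      by_cases hh : φ = χ₁
      · subst hh
        rw [if_pos rfl] at h ⊢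
        have hbe : (b φ : ℝ) = e + k * n φ := by rw [he]; push_cast; ring
        rw [hbe]
        field_simp
        ring
      · rw [if_neg hh] at h ⊢
        push_cast at h
        have hbe : (b φ : ℝ) = d φ * e / d χ₁ := by
          rw [eq_div_iff hd1']; linear_combination h
        rw [hbe]
        field_simp
        ring
    rw [Finset.sum_congr rfl hterm, Finset.sum_add_distrib, ← Finset.mul_sum, ← hσ,
      Finset.sum_ite_eq', if_pos hχ₁S]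
    ring
  rw [hsum] at hbess
  have hpy := Coherence.proj_pythag (ξ := ξ) (Coherence.sys_orthonormal hS hχ)
  rw [← hP] at hpy
  have hr := Coherence.normSqFn_nonneg
    ((ξ - P) - ∑ i ∈ S₁, (((b i : ℝ) / (n i : ℝ) : ℝ) : ℂ) • τ₁ i)
  have he0 : e = 0 := by
    by_contra hne
    have h1 : (e : ℝ) ^ 2 / (d χ₁ : ℝ) ^ 2 * σ + 2 * k * e ≤ 0 := by linarith
    have h2 : 2 * (k : ℝ) * (d χ₁ : ℝ) ^ 2 < σ := by
      refine lt_of_le_of_lt (le_of_eq ?_) hineq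
      rw [hk]; push_cast; ring
    have hdd : (0 : ℝ) < (d χ₁ : ℝ) ^ 2 := by positivity
    have h3 : (e : ℝ) ^ 2 * (2 * k) < (e : ℝ) ^ 2 / (d χ₁ : ℝ) ^ 2 * σ := by
      have he2 : (0 : ℝ) < (e : ℝ) ^ 2 := by positivity
      rw [div_mul_eq_mul_div, lt_div_iff₀ hdd]
      nlinarith
    have h4 : (0 : ℝ) ≤ (e : ℝ) ^ 2 + e := by
      have : (0 : ℤ) ≤ e ^ 2 + e := by
        rcases le_or_gt 0 e with h | h <;> nlinarith
      exact_mod_cast this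
    nlinarith [(Nat.cast_nonneg k : (0 : ℝ) ≤ k)]
  have hgood : ∀ ψ ∈ S₁, classInner ξ (τ₁ ψ) = classInner θ ψ := by
    intro ψ hψ
    have h := hlin ψ hψ
    rw [he0, mul_zero, mul_eq_zero, sub_eq_zero] at h
    have hbv := h.resolve_left (by exact_mod_cast hd1.ne')
    rw [hb ψ hψ, hbv, hθ, Coherence.inner_sub_left, Coherence.inner_zsmul_left, horχ ψ hψ,
      sub_zero]
    by_cases hh : ψ = χ₁
    · subst hh; rw [if_pos rfl, hn _ hχ₁']; push_cast; ring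
    · rw [if_neg hh, hS.orthogonal χ₁ hχ₁' ψ (hS₁ hψ) (Ne.symm hh)]; simp
  set U : Finset (L → ℂ) := S₁ ∪ {χ, conjFun χ} with hU
  have hUcoe : (↑U : Set (L → ℂ)) = ↑S₁ ∪ {χ, conjFun χ} := by simp [hU]
  have hUS : ∀ φ ∈ U, φ ∈ S := by
    intro φ h
    simp only [hU, Finset.mem_union, Finset.mem_insert, Finset.mem_singleton] at h
    rcases h with h | rfl | rfl
    · exact hS₁ h
    · exact hχ
    · exact hχc
  rw [← hUcoe]
  refine Coherence.coherent_extend (S₀ := S₁) Finset.subset_union_left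
    (fun φ h => hne0 φ (hUS φ h)) (fun φ h ψ h' => hS.orthogonal φ (hUS φ h) ψ (hUS ψ h'))
    ⟨fun α hα β hβ => hS.isometry.1 α (Coherence.zspanOn_mono hUS _ hα) β
        (Coherence.zspanOn_mono hUS _ hβ),
      fun α hα => hS.isometry.2.1 α (Coherence.zspanOn_mono hUS _ hα),
      fun α hα β hβ => hS.isometry.2.2.1 α (Coherence.zspanOn_mono hUS _ hα) β
        (Coherence.zspanOn_mono hUS _ hβ),
      fun α hα => hS.isometry.2.2.2 α (Coherence.zspanOn_mono hUS _ hα)⟩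
    hτ₁ hag hχ₁S ?_ ?_
  · intro φ hφ hφ1
    simp only [hU, Finset.mem_union, Finset.mem_insert, Finset.mem_singleton] at hφ
    rcases hφ.resolve_left hφ1 with rfl | rfl
    · exact ⟨k, hθ1, hgood⟩
    · refine ⟨k, ?_, fun ψ hψ => ?_⟩
      · have := Coherence.sys_conj_one hS hχ
        simp only [hθ, Pi.sub_apply] at hθ1 ⊢
        rw [this]; exact hθ1
      · have e' : (k : ℤ) • χ₁ - conjFun χ = θ + (χ - conjFun χ) := by rw [hθ]; abel
        rw [e', hS.isometry.1 _ hθm _ (Coherence.sys_sub_conj_mem hS hχ),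
          Coherence.inner_add_left, Coherence.inner_add_left, ← hξdef, hgood ψ hψ, hS.sum_eq χ hχ,
          Coherence.inner_sum_left, Finset.sum_eq_zero (hRo ψ hψ),
          Coherence.inner_sub_left χ (conjFun χ), horχ ψ hψ, horχc ψ hψ]
        ring
  · obtain ⟨α, hα, hα0⟩ := hne₁
    exact ⟨α, Coherence.zspanOn_mono (Finset.coe_subset.2 Finset.subset_union_left) _ hα, hα0⟩


end Cfsg.Agent.S1516
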