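import Cfsg.Statements.S1525
import Cfsg.Agent.Coherence.DadeCount
import Mathlib.Algebra.Order.Chebyshev
import Mathlib.Analysis.Complex.Basic

set_option autoImplicit false
open Cfsg

namespace Cfsg.Agent.S1525

/-- Under the Dade hypothesis for (A, L, H), let χ be a class function of G and let ψ be a function on L whose value at each a ∈ A is the average of χ over the coset a·H(a). Then (1/|G|) Σ |χ g|² over the elements g of G conjugate into some coset a·H(a) with a ∈ A is at least (1/|L|) Σ_{a ∈ A ∩ L} |ψ a|². -/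
theorem result {G : Type*} [Group G] [Fintype G] (A : Set G) (L : Subgroup G) [Fintype L] (H : G → Subgroup G) (hD : Cfsg.DadeHypothesis A L H) (χ : G → ℂ) (hχ : Cfsg.IsClassFunction G χ) (ψ : L → ℂ) (hψ : ∀ a : L, (a : G) ∈ A → ψ a = (Nat.card (H a) : ℂ)⁻¹ * ∑ᶠ u ∈ (H a : Set G), χ (a * u)) : (Nat.card L : ℝ)⁻¹ * ∑ᶠ a ∈ {a : L | (a : G) ∈ A}, ‖ψ a‖ ^ 2 ≤ (Nat.card G : ℝ)⁻¹ * ∑ᶠ g ∈ {g : G | ∃ a ∈ A, ∃ u ∈ H a, ∃ x : G, x * g * x⁻¹ = a * u}, ‖χ g‖ ^ 2 := by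
  classical
  have hpt : ∀ a ∈ Finset.univ.filter (fun a : L => (a : G) ∈ A),
      ‖ψ a‖ ^ 2 ≤ (Nat.card (H (a : G)) : ℝ)⁻¹ * ∑ u : H (a : G), ‖χ ((a : G) * u)‖ ^ 2 := by
    intro a ha
    have hh : 0 < (Nat.card (H (a : G)) : ℝ) := Nat.cast_pos.2 Nat.card_pos
    rw [hψ a (Finset.mem_filter.1 ha).2,
      finsum_mem_eq_toFinset_sum, norm_mul, mul_pow, norm_inv, Complex.norm_natCast]
    have hs : ∑ u ∈ (H (a : G) : Set G).toFinset, χ ((a : G) * u) =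
        ∑ u : H (a : G), χ ((a : G) * u) :=
      Finset.sum_subtype (p := fun u => u ∈ H (a : G)) _ (fun u => by simp) fun u => χ ((a : G) * u)
    rw [hs]
    have hcs : ‖∑ u : H (a : G), χ ((a : G) * u)‖ ^ 2 ≤
        (Nat.card (H (a : G)) : ℝ) * ∑ u : H (a : G), ‖χ ((a : G) * u)‖ ^ 2 := by
      refine (pow_le_pow_left₀ (norm_nonneg _) (norm_sum_le _ _) 2).trans ?_
      have := sq_sum_le_card_mul_sum_sq (s := (Finset.univ : Finset (H (a : G))))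
        (f := fun u => ‖χ ((a : G) * u)‖)
      simpa [Finset.card_univ, Nat.card_eq_fintype_card] using this
    rw [inv_pow, sq (Nat.card (H (a : G)) : ℝ), mul_inv, mul_assoc]
    gcongr
    rw [inv_mul_le_iff₀ hh]
    exact hcs
  have hL : 0 < (Nat.card L : ℝ) := Nat.cast_pos.2 Nat.card_pos
  have hG : 0 < (Nat.card G : ℝ) := Nat.cast_pos.2 Nat.card_pos
  have hid := Coherence.dade_sum_eq hD (fun g => ‖χ g‖ ^ 2) (fun g x => by simp only [hχ g x])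
  have hl : ∑ᶠ a ∈ {a : L | (a : G) ∈ A}, ‖ψ a‖ ^ 2 =
      ∑ a ∈ Finset.univ.filter (fun a : L => (a : G) ∈ A), ‖ψ a‖ ^ 2 :=
    finsum_mem_eq_sum_of_inter_support_eq _ (by simp)
  have hr : ∑ᶠ g ∈ {g : G | ∃ a ∈ A, ∃ u ∈ H a, ∃ x : G, x * g * x⁻¹ = a * u}, ‖χ g‖ ^ 2 =
      ∑ g ∈ Finset.univ.filter (· ∈ Coherence.dadeSupp A H), ‖χ g‖ ^ 2 :=
    finsum_mem_eq_sum_of_inter_support_eq _ (by
      ext g
      simp only [Set.mem_inter_iff, Finset.mem_coe, Finset.mem_filter, Finset.mem_univ, true_and]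
      exact Iff.rfl)
  have hA : ∑ a ∈ Finset.univ.filter (fun a : L => (a : G) ∈ A),
      (Nat.card (H (a : G)) : ℝ)⁻¹ * ∑ u : H (a : G), ‖χ ((a : G) * u)‖ ^ 2 =
      ∑ a ∈ Finset.univ.filter (· ∈ A), (Nat.card (H a) : ℝ)⁻¹ * ∑ u : H a, ‖χ (a * u)‖ ^ 2 :=
    Finset.sum_nbij (fun a => (a : G)) (fun a ha => by simpa using ha)
      Subtype.val_injective.injOn
      (fun a ha => ⟨⟨a, hD.subset (by simpa using ha)⟩, by simpa using ha, rfl⟩) (fun _ _ => rfl)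
  rw [hl, hr]
  refine (mul_le_mul_of_nonneg_left (Finset.sum_le_sum hpt) (inv_nonneg.2 hL.le)).trans (le_of_eq ?_)
  rw [hA]
  refine mul_left_cancel₀ (mul_pos hL hG).ne' ?_
  field_simp
  simp only [inv_mul_eq_div] at hid
  linarith [hid]


end Cfsg.Agent.S1525
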