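import Cfsg.Statements.S1527

set_option autoImplicit false
open Cfsg

namespace Cfsg.Agent.S1527

/-- Let G be a finite group and H i (i in a finite index type) subgroups of pairwise coprime orders, each of whose underlying sets is a TI-subset of G, such that every non-identity element of G is conjugate to an element of some H i. Then Nat.card G − 1 = Σ_i [G : N_G(H i)] · (Nat.card (H i) − 1). -/
theorem result {G : Type*} [Group G] [Finite G] {ι : Type*} [Fintype ι] (H : ι → Subgroup G) (hcop : ∀ i j, i ≠ j → Nat.Coprime (Nat.card (H i)) (Nat.card (H j))) (hTI : ∀ i, Cfsg.IsTISubset (H i : Set G)) (hcover : ∀ g : G, g ≠ 1 → ∃ i, ∃ x : G, x * g * x⁻¹ ∈ H i) : Nat.card G - 1 = ∑ i, (Subgroup.normalizer (H i : Set G)).index * (Nat.card (H i) - 1) := by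
  classical
  set T := Σ i : ι, (G ⧸ Subgroup.normalizer (H i : Set G)) × {h : H i // h ≠ 1} with hT
  let F : T → {g : G // g ≠ 1} := fun t => ⟨t.2.1.out * (t.2.2.1 : G) * t.2.1.out⁻¹, fun e => t.2.2.2 (by
    have h1 : t.2.1.out * (t.2.2.1 : G) = t.2.1.out * 1 := by
      rw [mul_one]; exact mul_inv_eq_one.1 e
    exact Subtype.ext (by simpa using mul_left_cancel h1))⟩
  have hbij : Function.Bijective F := by
    constructor
    · rintro ⟨i, q, ⟨h, hh⟩⟩ ⟨j, r, ⟨k, hk⟩⟩ he
      have he' : q.out * (h : G) * q.out⁻¹ = r.out * (k : G) * r.out⁻¹ := congrArg Subtype.val he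
      have hord : orderOf (h : G) = orderOf (k : G) := by
        rw [← MulEquiv.orderOf_eq (MulAut.conj q.out) (h : G),
          ← MulEquiv.orderOf_eq (MulAut.conj r.out) (k : G)]
        exact congrArg orderOf he'
      have hij : i = j := by
        by_contra hne
        have h1 : orderOf (h : G) ∣ Nat.card (H i) := by
          rw [Subgroup.orderOf_coe]; exact orderOf_dvd_natCard h
        have h2 : orderOf (h : G) ∣ Nat.card (H j) := by
          rw [hord, Subgroup.orderOf_coe]; exact orderOf_dvd_natCard k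
        have := Nat.eq_one_of_dvd_coprimes (hcop i j hne) h1 h2
        rw [orderOf_eq_one_iff] at this
        exact hh (Subtype.ext this)
      subst hij
      have hk' : (r.out⁻¹ * q.out) * (h : G) * (r.out⁻¹ * q.out)⁻¹ = k := by
        rw [show (r.out⁻¹ * q.out) * (h : G) * (r.out⁻¹ * q.out)⁻¹ =
          r.out⁻¹ * (q.out * (h : G) * q.out⁻¹) * r.out by group, he']
        group
      have hN : r.out⁻¹ * q.out ∈ Subgroup.normalizer (H i : Set G) := by
        by_contra hn
        exact hh (Subtype.ext (hTI i _ hn h h.2 (by rw [hk']; exact k.2)))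
      have hqr : r = q := by
        rw [← QuotientGroup.out_eq' r, ← QuotientGroup.out_eq' q]
        exact QuotientGroup.eq.2 hN
      subst hqr
      have : (h : G) = k := by simpa using hk'
      obtain rfl := Subtype.ext this; rfl
    · rintro ⟨g, hg⟩
      obtain ⟨i, x, hx⟩ := hcover g hg
      set q : G ⧸ Subgroup.normalizer (H i : Set G) := QuotientGroup.mk x⁻¹
      have hn : (x⁻¹)⁻¹ * q.out ∈ Subgroup.normalizer (H i : Set G) :=
        QuotientGroup.eq.1 (QuotientGroup.out_eq' q).symm
      rw [inv_inv] at hn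
      have hmem : (x * q.out)⁻¹ * (x * g * x⁻¹) * (x * q.out) ∈ H i :=
        (Subgroup.mem_set_normalizer_iff''.1 hn (x * g * x⁻¹)).1 hx
      refine ⟨⟨i, q, ⟨⟨_, hmem⟩, fun e => hg ?_⟩⟩, Subtype.ext ?_⟩
      · have e' := congrArg Subtype.val e
        simp only [Subgroup.coe_one] at e'
        have : q.out * ((x * q.out)⁻¹ * (x * g * x⁻¹) * (x * q.out)) * q.out⁻¹ = g := by group
        rw [e'] at this
        simpa using this.symm
      · show q.out * ((x * q.out)⁻¹ * (x * g * x⁻¹) * (x * q.out)) * q.out⁻¹ = g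
        group
  have hcard := Nat.card_congr (Equiv.ofBijective F hbij)
  have hne1 : ∀ (α : Type u_1) [One α] [Finite α], Nat.card {a : α // a ≠ 1} = Nat.card α - 1 := by
    intro α _ _
    haveI := Fintype.ofFinite α
    rw [Nat.card_eq_fintype_card, Nat.card_eq_fintype_card, Fintype.card_subtype_compl,
      Fintype.card_subtype_eq]
  rw [← hne1 G, ← hcard, hT, Nat.card_sigma]
  refine Finset.sum_congr rfl fun i _ => ?_
  rw [Nat.card_prod, hne1 (H i)]
  rfl


end Cfsg.Agent.S1527
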