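import Cfsg.Statements.S1528
import Cfsg.Agent.Coherence.Fixed

set_option autoImplicit false
open Cfsg

namespace Cfsg.Agent.S1528

/-- Let N be a normal subgroup of the finite group G such that every element of G commuting with a non-identity element of N lies in N. If χ is an irreducible character of G with χ n ≠ χ 1 for some n ∈ N, then χ is the function induced from some irreducible character of N. -/
theorem result {G : Type*} [Group G] [Fintype G] (N : Subgroup G) [N.Normal] (hC : ∀ n ∈ N, n ≠ 1 → Subgroup.centralizer ({n} : Set G) ≤ N) (χ : G → ℂ) (hχ : Cfsg.IsIrrCharacter G χ) (hker : ∃ n ∈ N, χ n ≠ χ 1) : ∃ φ : N → ℂ, Cfsg.IsIrrCharacter N φ ∧ χ = Cfsg.indFun N φ := by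
  classical
  set r : N → ℂ := fun n => χ (n : G) with hr
  have hrc : IsCharacter N r := CharCore.isCharacter_restrict (Coherence.irr_isCharacter hχ) N
  obtain ⟨φ, hφ, hφne⟩ : ∃ φ : IrrCharacter N, classInner r φ ≠ 0 ∧ (φ : N → ℂ) ≠ fun _ => 1 := by
    by_contra hall
    push Not at hall
    obtain ⟨n, hn, hne⟩ := hker
    have h := CharCore.IsCharacter.eq_sum_classInner hrc
    refine hne ?_
    have h1 := congrFun h ⟨n, hn⟩
    have h2 := congrFun h 1
    simp only [Finset.sum_apply, Pi.smul_apply, smul_eq_mul] at h1 h2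
    have : r ⟨n, hn⟩ = r 1 := by
      rw [h1, h2]
      refine Finset.sum_congr rfl fun ψ _ => ?_
      by_cases h0 : classInner r ψ = 0
      · simp [h0]
      · rw [hall ψ h0]
    simpa [hr] using this
  have hst : ∀ x : G, OddChar.conjBy N x φ.1 = φ.1 → x ∈ N := fun x hx =>
    Coherence.fixed_mem_of_centralizer_le N hC φ.2 hφne hx
  have hind := Coherence.indFun_irr_of_stabilizer N φ.2 hst
  refine ⟨φ.1, φ.2, ?_⟩
  by_contra hne
  refine hφ ?_
  have h := Coherence.irr_inner_ne hind hχ (Ne.symm hne)
  rw [CharInd.classInner_indFun_left N φ.1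
    (CharCore.IsCharacter.isClassFunction (Coherence.irr_isCharacter hχ))] at h
  rw [← Coherence.inner_conj_symm, h, map_zero]


end Cfsg.Agent.S1528
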