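import Cfsg.Statements.S1530
import Cfsg.Agent.Coherence.Irr

set_option autoImplicit false
open Cfsg

namespace Cfsg.Agent.S1530

/-- Let N be a subgroup of the finite group G and S₀ a finite set of irreducible characters of N, χ an irreducible character of N not in S₀, with degrees ξ 1 = d ξ. Let τ be a linear isometry on the integer combinations of S₀ ∪ {χ} vanishing at 1, with values virtual characters of G vanishing at 1, such that (S₀, N minus 1, τ) is coherent. If some ψ ∈ S₀ has d ψ dividing d χ and 2 · d ψ · d χ < Σ_{ξ ∈ S₀} (d ξ)², then (S₀ ∪ {χ}, N minus 1, τ) is coherent. -/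
theorem result {G : Type*} [Group G] [Fintype G] (N : Subgroup G) [Fintype N] (S₀ : Finset (N → ℂ)) (χ : N → ℂ) (hirr : ∀ ξ ∈ S₀, Cfsg.IsIrrCharacter N ξ) (hχ : Cfsg.IsIrrCharacter N χ) (hχS : χ ∉ S₀) (d : (N → ℂ) → ℕ) (hd : ∀ ξ ∈ insert χ S₀, ξ 1 = (d ξ : ℂ)) (τ : (N → ℂ) → (G → ℂ)) (hτ : Cfsg.IsLinearIsometryOn (Cfsg.zspanOn (↑(insert χ S₀) : Set (N → ℂ)) {1}ᶜ) τ) (hτ1 : ∀ α ∈ Cfsg.zspanOn (↑(insert χ S₀) : Set (N → ℂ)) {1}ᶜ, τ α 1 = 0) (hcoh : Cfsg.IsCoherent (↑S₀ : Set (N → ℂ)) {1}ᶜ τ) (ψ : N → ℂ) (hψ : ψ ∈ S₀) (hdvd : d ψ ∣ d χ) (hlt : 2 * d ψ * d χ < ∑ ξ ∈ S₀, d ξ ^ 2) : Cfsg.IsCoherent (↑(insert χ S₀) : Set (N → ℂ)) {1}ᶜ τ := by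
  classical
  obtain ⟨hne₀, τ₁, hτ₁, hag⟩ := hcoh
  obtain ⟨k, hk⟩ := hdvd
  set U : Finset (N → ℂ) := insert χ S₀ with hU
  have hUirr : ∀ ξ ∈ U, IsIrrCharacter N ξ := by
    intro ξ h
    rcases Finset.mem_insert.1 h with rfl | h
    · exact hχ
    · exact hirr ξ h
  have horth : ∀ φ ∈ U, ∀ ξ ∈ U, φ ≠ ξ → classInner φ ξ = 0 := fun φ h ξ h' hne =>
    Coherence.irr_inner_ne (hUirr φ h) (hUirr ξ h') hne
  have hψU : ψ ∈ U := Finset.mem_insert_of_mem hψ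
  have hχU : χ ∈ U := Finset.mem_insert_self χ S₀
  have hdpos : ∀ ξ ∈ U, 0 < d ξ := fun ξ h => Nat.pos_of_ne_zero fun h0 =>
    Coherence.irr_one_ne_zero (hUirr ξ h) (by rw [hd ξ h, h0, Nat.cast_zero])
  have hkpos : 0 < k := Nat.pos_of_ne_zero fun h0 =>
    absurd (hdpos χ hχU) (by rw [hk, h0, mul_zero]; exact lt_irrefl 0)
  set θ : N → ℂ := (k : ℤ) • ψ - χ with hθ
  have hθ1 : θ 1 = 0 := by simp [hθ, hd ψ hψU, hd χ hχU, hk]; ring
  have hθm : θ ∈ zspanOn (↑U : Set (N → ℂ)) {1}ᶜ := Coherence.mem_zspanOn_one.2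
    ⟨Coherence.zspan_sub (Coherence.zspan_zsmul _ (Coherence.zspan_subset hψU))
      (Coherence.zspan_subset hχU), hθ1⟩
  have hξ := hτ.2.2.2 _ hθm
  have hξ1 : τ θ 1 = 0 := hτ1 _ hθm
  set ξ := τ θ with hξdef
  have hχφ : ∀ φ ∈ S₀, classInner χ φ = 0 := fun φ h =>
    horth χ hχU φ (Finset.mem_insert_of_mem h) fun e => hχS (e ▸ h)
  have hψχ : classInner ψ χ = 0 := horth ψ hψU χ hχU fun e => hχS (e ▸ hψ)
  have hψψ : classInner ψ ψ = 1 := Coherence.irr_inner_self (hUirr ψ hψU)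
  have hξn : Coherence.normSqFn ξ = (k : ℝ) ^ 2 + 1 := by
    apply Complex.ofReal_injective
    rw [← Coherence.inner_self, hξdef, hτ.2.2.1 _ hθm _ hθm, hθ]
    simp only [Coherence.inner_sub_left, Coherence.inner_sub_right, Coherence.inner_zsmul_left,
      Coherence.inner_zsmul_right, Coherence.irr_inner_self hχ, hψψ, hψχ, hχφ ψ hψ]
    push_cast; ring
  have hbex : ∀ φ, ∃ b : ℤ, φ ∈ S₀ → classInner ξ (τ₁ φ) = b := by
    intro φ
    by_cases h : φ ∈ S₀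
    · exact (Coherence.inner_gen_int hξ (hτ₁.2.2.2 _ (Coherence.zspan_subset h))).imp
        fun b hb _ => hb
    · exact ⟨0, fun h' => absurd h' h⟩
  choose b hb using hbex
  set e : ℤ := b ψ - k with he
  set c : (N → ℂ) → ℤ := fun φ => b φ - if φ = ψ then (k : ℤ) else 0 with hc
  have hη : ∀ φ ∈ S₀, ((d ψ : ℤ) • φ - (d φ : ℤ) • ψ) ∈ zspanOn (↑S₀ : Set (N → ℂ)) {1}ᶜ :=
    fun φ hφ => Coherence.mem_zspanOn_one.2
      ⟨Coherence.zspan_sub (Coherence.zspan_zsmul _ (Coherence.zspan_subset hφ))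
        (Coherence.zspan_zsmul _ (Coherence.zspan_subset hψ)),
        by simp [hd φ (Finset.mem_insert_of_mem hφ), hd ψ hψU]; ring⟩
  have hτ₁η : ∀ φ ∈ S₀, τ₁ ((d ψ : ℤ) • φ - (d φ : ℤ) • ψ) =
      (d ψ : ℤ) • τ₁ φ - (d φ : ℤ) • τ₁ ψ := fun φ hφ => by
    rw [Coherence.iso_map_sub hτ₁ (Coherence.zspan_zsmul _ (Coherence.zspan_subset hφ))
      (Coherence.zspan_zsmul _ (Coherence.zspan_subset hψ))
      (Coherence.zspan_neg (Coherence.zspan_zsmul _ (Coherence.zspan_subset hψ))),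
      hτ₁.2.1 _ (Coherence.zspan_subset hφ), hτ₁.2.1 _ (Coherence.zspan_subset hψ)]
  have hsub : (↑S₀ : Set (N → ℂ)) ⊆ ↑U := Finset.coe_subset.2 (Finset.subset_insert χ S₀)
  have hlin : ∀ φ ∈ S₀, (d ψ : ℤ) * c φ = (d φ : ℤ) * e := by
    intro φ hφ
    by_cases hh : φ = ψ
    · subst hh; simp [hc, he]
    have h := hτ.2.2.1 _ hθm _ (Coherence.zspanOn_mono hsub _ (hη φ hφ))
    rw [← hag _ (hη φ hφ), ← hξdef, hτ₁η φ hφ, hθ] at h
    simp only [Coherence.inner_sub_left, Coherence.inner_sub_right, Coherence.inner_zsmul_left,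
      Coherence.inner_zsmul_right, hb φ hφ, hb ψ hψ, hχφ φ hφ, hχφ ψ hψ, hψψ,
      horth ψ hψU φ (Finset.mem_insert_of_mem hφ) (Ne.symm hh)] at h
    have h' : (((d ψ : ℤ) * b φ : ℤ) : ℂ) = (((d φ : ℤ) * (b ψ - k) : ℤ) : ℂ) := by
      push_cast at h ⊢
      linear_combination h
    simp only [hc, if_neg hh, sub_zero, he]
    exact_mod_cast h'
  have hbc : ∀ φ, b φ = c φ + if φ = ψ then (k : ℤ) else 0 := fun φ => by simp [hc]
  have hcψ : c ψ = e := by simp [hc, he]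
  have hbess := Coherence.bessel (ξ := ξ) S₀ τ₁ (fun _ => 1) (fun φ => (b φ : ℝ))
    (fun _ _ => one_ne_zero)
    (fun φ h => by
      rw [hτ₁.2.2.1 _ (Coherence.zspan_subset h) _ (Coherence.zspan_subset h),
        Coherence.irr_inner_self (hirr φ h)]
      simp)
    (fun φ h φ' h' hne => by
      rw [hτ₁.2.2.1 _ (Coherence.zspan_subset h) _ (Coherence.zspan_subset h'),
        Coherence.irr_inner_ne (hirr φ h) (hirr φ' h') hne])
    (fun φ h => by rw [hb φ h]; simp)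
  simp only [div_one] at hbess
  set rest : G → ℂ := ξ - ∑ i ∈ S₀, ((b i : ℝ) : ℂ) • τ₁ i with hrest
  have hB : ∑ φ ∈ S₀, (b φ) ^ 2 = (∑ φ ∈ S₀, c φ ^ 2) + 2 * k * e + (k : ℤ) ^ 2 := by
    have : ∀ φ ∈ S₀, b φ ^ 2 = c φ ^ 2 + if φ = ψ then 2 * k * e + (k : ℤ) ^ 2 else 0 := by
      intro φ _
      rw [hbc φ]
      by_cases hh : φ = ψ
      · subst hh; rw [if_pos rfl, if_pos rfl, hcψ]; ring
      · rw [if_neg hh, if_neg hh]; ring
    rw [Finset.sum_congr rfl this, Finset.sum_add_distrib, Finset.sum_ite_eq', if_pos hψ]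
    ring
  have hD : (d ψ : ℤ) ^ 2 * (∑ φ ∈ S₀, c φ ^ 2) = e ^ 2 * ∑ φ ∈ S₀, (d φ : ℤ) ^ 2 := by
    rw [Finset.mul_sum, Finset.mul_sum]
    exact Finset.sum_congr rfl fun φ hφ => by rw [← mul_pow, hlin φ hφ, mul_pow]; ring
  have hlt' : 2 * (k : ℤ) * (d ψ : ℤ) ^ 2 < ∑ φ ∈ S₀, (d φ : ℤ) ^ 2 := by
    have : ((2 * d ψ * d χ : ℕ) : ℤ) < ((∑ ξ ∈ S₀, d ξ ^ 2 : ℕ) : ℤ) := by exact_mod_cast hlt
    rw [hk] at this
    push_cast at this
    linarith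
  have he0 : e = 0 := by
    by_contra hne
    have hle : ∑ φ ∈ S₀, (b φ : ℤ) ^ 2 ≤ (k : ℤ) ^ 2 + 1 := by
      have h : ((∑ φ ∈ S₀, (b φ : ℤ) ^ 2 : ℤ) : ℝ) ≤ (((k : ℤ) ^ 2 + 1 : ℤ) : ℝ) := by
        push_cast
        linarith [Coherence.normSqFn_nonneg rest]
      exact_mod_cast h
    have hdψ : (0 : ℤ) < (d ψ : ℤ) ^ 2 := by
      have : (0 : ℤ) < d ψ := by exact_mod_cast hdpos ψ hψU
      positivity
    have he2 : (0 : ℤ) < e ^ 2 := by positivity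
    have hC : 2 * (k : ℤ) * e ^ 2 < ∑ φ ∈ S₀, c φ ^ 2 := by
      refine lt_of_mul_lt_mul_left (a := (d ψ : ℤ) ^ 2) ?_ hdψ.le
      rw [hD]; nlinarith
    have hk' : (0 : ℤ) < k := by exact_mod_cast hkpos
    have h1 : 2 * (k : ℤ) * (e * (e + 1)) < 1 := by nlinarith
    have hee : e = -1 := by
      rcases lt_trichotomy e (-1) with h | h | h
      · have : (2 : ℤ) ≤ e * (e + 1) := by nlinarith
        nlinarith
      · exact h
      · have h' : 0 < e := by omega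
        have : (2 : ℤ) ≤ e * (e + 1) := by nlinarith
        nlinarith
    rw [hee] at hC hB hlin
    have hsum : ∑ φ ∈ S₀, (b φ : ℤ) ^ 2 = (k : ℤ) ^ 2 + 1 := by linarith
    have hr0 : rest = 0 := by
      apply Coherence.normSqFn_eq_zero.1
      have h : ((∑ φ ∈ S₀, (b φ : ℤ) ^ 2 : ℤ) : ℝ) = (((k : ℤ) ^ 2 + 1 : ℤ) : ℝ) := by rw [hsum]
      push_cast at h
      linarith
    rw [hrest, sub_eq_zero] at hr0
    have hval : ∀ φ ∈ S₀, (d ψ : ℂ) * τ₁ φ 1 = (d φ : ℂ) * τ₁ ψ 1 := by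
      intro φ hφ
      have h : τ₁ ((d ψ : ℤ) • φ - (d φ : ℤ) • ψ) 1 = 0 := by
        rw [hag _ (hη φ hφ)]; exact hτ1 _ (Coherence.zspanOn_mono hsub _ (hη φ hφ))
      rw [hτ₁η φ hφ] at h
      simp only [Coherence.zsmul_eq, Pi.sub_apply, Pi.smul_apply, smul_eq_mul,
        Int.cast_natCast] at h
      exact sub_eq_zero.1 h
    have h0 : (d ψ : ℂ) * ((d ψ : ℂ) * ξ 1) =
        (((k : ℤ) * (d ψ : ℤ) ^ 2 - ∑ φ ∈ S₀, (d φ : ℤ) ^ 2 : ℤ) : ℂ) * τ₁ ψ 1 := by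
      rw [hr0]
      simp only [Finset.sum_apply, Pi.smul_apply, smul_eq_mul, Finset.mul_sum]
      push_cast
      rw [sub_mul, Finset.sum_mul]
      have : ∀ φ ∈ S₀, (d ψ : ℂ) * ((d ψ : ℂ) * ((b φ : ℂ) * τ₁ φ 1)) =
          (if φ = ψ then (k : ℂ) * (d ψ : ℂ) ^ 2 * τ₁ ψ 1 else 0) - (d φ : ℂ) ^ 2 * τ₁ ψ 1 := by
        intro φ hφ
        have h : (d ψ : ℂ) * (c φ : ℂ) = (d φ : ℂ) * (-1) := by
          have := congrArg (Int.cast : ℤ → ℂ) (hlin φ hφ)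
          push_cast at this; exact this
        have h' := hval φ hφ
        rw [hbc φ]
        by_cases hh : φ = ψ
        · subst hh
          rw [if_pos rfl, if_pos rfl]
          push_cast
          linear_combination (d φ : ℂ) * τ₁ φ 1 * h
        · rw [if_neg hh, if_neg hh, add_zero]
          linear_combination (d ψ : ℂ) * τ₁ φ 1 * h - (d φ : ℂ) * h'
      rw [Finset.sum_congr rfl this, Finset.sum_sub_distrib, Finset.sum_ite_eq', if_pos hψ]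
    rw [hξ1, mul_zero, mul_zero] at h0
    have hψv : τ₁ ψ 1 ≠ 0 := Coherence.gen_norm_one_apply_one
      (hτ₁.2.2.2 _ (Coherence.zspan_subset hψ))
      (by rw [hτ₁.2.2.1 _ (Coherence.zspan_subset hψ) _ (Coherence.zspan_subset hψ), hψψ])
    have h2 : (k : ℤ) * (d ψ : ℤ) ^ 2 - ∑ φ ∈ S₀, (d φ : ℤ) ^ 2 = 0 := by
      have h3 := (mul_eq_zero.1 h0.symm).resolve_right hψv
      exact_mod_cast h3
    nlinarith
  refine Coherence.coherent_extend (S₀ := S₀) (Finset.subset_insert χ S₀)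
    (fun φ h => Coherence.irr_ne_zero (hUirr φ h)) horth hτ hτ₁ hag hψ ?_ ?_
  · intro φ hφ hφ0
    obtain rfl := (Finset.mem_insert.1 hφ).resolve_right hφ0
    refine ⟨k, hθ1, fun φ' hφ' => ?_⟩
    have h := hlin φ' hφ'
    rw [he0, mul_zero, mul_eq_zero] at h
    have hc0 : c φ' = 0 := h.resolve_left (by exact_mod_cast (hdpos ψ hψU).ne')
    rw [← hξdef, hb φ' hφ', hbc φ', hc0, Coherence.inner_sub_left, Coherence.inner_zsmul_left,
      hχφ φ' hφ']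
    by_cases hh : φ' = ψ
    · subst hh; rw [if_pos rfl, hψψ]; push_cast; ring
    · rw [if_neg hh, horth ψ hψU φ' (Finset.mem_insert_of_mem hφ') (Ne.symm hh)]; simp
  · obtain ⟨α, hα, hα0⟩ := hne₀
    exact ⟨α, Coherence.zspanOn_mono hsub _ hα, hα0⟩


end Cfsg.Agent.S1530
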