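import Cfsg.Statements.S1532
import Cfsg.Agent.Coherence.KernelOdd

set_option autoImplicit false
open Cfsg Cfsg.Agent

namespace Cfsg.Agent.S1532

/-- Let G be a finite group, p an odd prime and P a Sylow p-subgroup that is non-abelian, whose underlying set is a TI-subset of G, with P properly contained in its set normaliser N and C_G(x) ≤ P for every non-identity x ∈ P. Let Z be a nontrivial subgroup of the centre of P normalised by N. Then the set of irreducible characters χ of N with χ z ≠ χ 1 for some z ∈ Z is coherent for the map induced by induction from N to G. -/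
theorem result {G : Type*} [Group G] [Fintype G] (p : ℕ) [Fact p.Prime] (hp : p ≠ 2) (P : Sylow p G) (hna : ¬ IsMulCommutative (P : Subgroup G)) (hTI : Cfsg.IsTISubset ((P : Subgroup G) : Set G)) (hlt : (P : Subgroup G) < Subgroup.normalizer ((P : Subgroup G) : Set G)) (hC : ∀ k ∈ (P : Subgroup G), k ≠ 1 → Subgroup.centralizer ({k} : Set G) ≤ (P : Subgroup G)) [Fintype ↥(Subgroup.normalizer ((P : Subgroup G) : Set G))] (Z : Subgroup G) (hZ1 : Z ≠ ⊥) (hZP : ∀ z ∈ Z, z ∈ (P : Subgroup G) ∧ ∀ y ∈ (P : Subgroup G), z * y = y * z) (hZn : ∀ x ∈ Subgroup.normalizer ((P : Subgroup G) : Set G), ∀ z ∈ Z, x * z * x⁻¹ ∈ Z) : Cfsg.IsCoherent {χ : ↥(Subgroup.normalizer ((P : Subgroup G) : Set G)) → ℂ | Cfsg.IsIrrCharacter ↥(Subgroup.normalizer ((P : Subgroup G) : Set G)) χ ∧ ∃ z : ↥(Subgroup.normalizer ((P : Subgroup G) : Set G)), (z : G) ∈ Z ∧ χ z ≠ χ 1} {1}ᶜ (fun α => Cfsg.indFun (Subgroup.normalizer ((P : Subgroup G) : Set G)) α) := by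
  classical
  let L := Subgroup.normalizer ((P : Subgroup G) : Set G)
  have hHL : (P : Subgroup G) ≤ L := Subgroup.le_normalizer
  set K := (P : Subgroup G).subgroupOf L with hKdef
  haveI hKn : K.Normal := Subgroup.normal_in_normalizer
  have hCL : ∀ n ∈ K, n ≠ 1 → Subgroup.centralizer ({n} : Set L) ≤ K := fun n hn hn1 x hx =>
    Subgroup.mem_subgroupOf.2 (hC n (Subgroup.mem_subgroupOf.1 hn)
      (fun e => hn1 (Subtype.ext e))
      (Subgroup.mem_centralizer_singleton_iff.2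
        (congrArg Subtype.val (Subgroup.mem_centralizer_singleton_iff.1 hx))))
  have hKT : K < ⊤ := by
    rw [lt_top_iff_ne_top, Ne, hKdef]
    exact fun h => hlt.not_ge (Subgroup.subgroupOf_eq_top.1 h)
  have hcardK : Nat.card K = Nat.card (P : Subgroup G) :=
    Nat.card_congr (Subgroup.subgroupOfEquivOfLe hHL).toEquiv
  have hKodd : Odd (Nat.card K) := by
    rw [hcardK]
    obtain ⟨k, hk⟩ := IsPGroup.iff_card.1 P.2
    rw [hk]
    exact ((Fact.out : p.Prime).odd_of_ne_two hp).pow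
  have hP1 : (P : Subgroup G) ≠ ⊥ := fun h => hZ1 ((Subgroup.eq_bot_iff_forall _).2 fun z hz =>
    Subgroup.mem_bot.1 (h ▸ (hZP z hz).1 : z ∈ (⊥ : Subgroup G)))
  have hodd : Odd (Nat.card L) := by
    rw [← K.index_mul_card]
    refine Odd.mul (Nat.not_even_iff_odd.1 fun hev => hna ?_) hKodd
    haveI := Coherence.abelian_of_even_index K hCL hKodd (even_iff_two_dvd.1 hev)
    refine ⟨⟨fun a b => ?_⟩⟩
    apply (Subgroup.subgroupOfEquivOfLe hHL).symm.injective
    simp only [map_mul]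
    exact mul_comm' _ _
  have hcoh := Coherence.sibley_ti (P : Subgroup G) L hodd hHL hP1 hKT hCL hTI rfl
  have hsub : {χ : L → ℂ | IsIrrCharacter L χ ∧ ∃ z : L, (z : G) ∈ Z ∧ χ z ≠ χ 1} ⊆
      inducedIrrAbove K (⊥ : Subgroup L) := fun χ hχ => by
    obtain ⟨hirr, z, hz, hne⟩ := hχ
    exact Coherence.mem_seq_of_irr K hCL hirr (Subgroup.mem_subgroupOf.2 (hZP z hz).1) hne
  refine Coherence.coherent_subset hsub hcoh ?_
  obtain ⟨z₀, hz₀, hz₀1⟩ := (Subgroup.bot_or_exists_ne_one Z).resolve_left hZ1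
  set zL : L := ⟨z₀, hHL (hZP z₀ hz₀).1⟩ with hzL
  obtain ⟨χ, hχ⟩ : ∃ χ : IrrCharacter L, (χ : L → ℂ) zL ≠ (χ : L → ℂ) 1 := by
    by_contra hall
    push Not at hall
    have h := (CharCore.isConj_iff_forall_irr zL (1 : L)).2 hall
    exact hz₀1 (congrArg Subtype.val (isConj_one_left.1 h))
  have hmem : (χ : L → ℂ) ∈ {χ : L → ℂ | IsIrrCharacter L χ ∧
      ∃ z : L, (z : G) ∈ Z ∧ χ z ≠ χ 1} := ⟨χ.2, zL, hz₀, hχ⟩
  have hmemc : conjFun (χ : L → ℂ) ∈ {χ : L → ℂ | IsIrrCharacter L χ ∧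
      ∃ z : L, (z : G) ∈ Z ∧ χ z ≠ χ 1} := ⟨CharCore.isIrrCharacter_star χ.2, zL, hz₀,
    fun h => hχ (starRingEnd ℂ |>.injective h)⟩
  exact ⟨(χ : L → ℂ) - conjFun (χ : L → ℂ), Coherence.mem_zspanOn_one.2
    ⟨Coherence.zspan_sub (Coherence.zspan_subset hmem) (Coherence.zspan_subset hmemc),
      by simp [Coherence.conjFun_one_of_char (Coherence.irr_isCharacter χ.2)]⟩,
    sub_ne_zero.2 (Coherence.frob_seq_conj_ne K hodd hKT.ne hCL (hsub hmem)).symm⟩

end Cfsg.Agent.S1532
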