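import Cfsg.Statements.S1533
import Cfsg.Agent.Coherence.KernelOdd

set_option autoImplicit false
open Cfsg Cfsg.Agent

namespace Cfsg.Agent.S1533

/-- Let G be a finite group, p an odd prime, and P a nontrivial Sylow p-subgroup whose underlying set is a TI-subset of G, with P properly contained in its set normaliser N and C_G(x) ≤ P for every non-identity x ∈ P. Let S be the set of irreducible characters χ of N with χ x ≠ χ 1 for some x ∈ P. Then either S has exactly one member, P is elementary abelian and Nat.card P = [N:P] + 1; or (S, N minus 1, induction to G) is coherent. -/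
theorem result {G : Type*} [Group G] [Fintype G] (p : ℕ) [Fact p.Prime] (hp : p ≠ 2) (P : Sylow p G) (hP1 : (P : Subgroup G) ≠ ⊥) (hTI : Cfsg.IsTISubset ((P : Subgroup G) : Set G)) (hlt : (P : Subgroup G) < Subgroup.normalizer ((P : Subgroup G) : Set G)) (hC : ∀ k ∈ (P : Subgroup G), k ≠ 1 → Subgroup.centralizer ({k} : Set G) ≤ (P : Subgroup G)) [Fintype ↥(Subgroup.normalizer ((P : Subgroup G) : Set G))] : (Nat.card {χ : ↥(Subgroup.normalizer ((P : Subgroup G) : Set G)) → ℂ // Cfsg.IsIrrCharacter ↥(Subgroup.normalizer ((P : Subgroup G) : Set G)) χ ∧ ∃ x : ↥(Subgroup.normalizer ((P : Subgroup G) : Set G)), (x : G) ∈ (P : Subgroup G) ∧ χ x ≠ χ 1} = 1 ∧ Cfsg.IsElementaryAbelian p (P : Subgroup G) ∧ Nat.card (P : Subgroup G) = ((P : Subgroup G).subgroupOf (Subgroup.normalizer ((P : Subgroup G) : Set G))).index + 1) ∨ Cfsg.IsCoherent {χ : ↥(Subgroup.normalizer ((P : Subgroup G) : Set G)) → ℂ | Cfsg.IsIrrCharacter ↥(Subgroup.normalizer ((P : Subgroup G) : Set G)) χ ∧ ∃ x : ↥(Subgroup.normalizer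 ((P : Subgroup G) : Set G)), (x : G) ∈ (P : Subgroup G) ∧ χ x ≠ χ 1} {1}ᶜ (fun α => Cfsg.indFun (Subgroup.normalizer ((P : Subgroup G) : Set G)) α) := by
  classical
  let L := Subgroup.normalizer ((P : Subgroup G) : Set G)
  have hHL : (P : Subgroup G) ≤ L := Subgroup.le_normalizer
  set K := (P : Subgroup G).subgroupOf L with hKdef
  haveI hKn : K.Normal := Subgroup.normal_in_normalizer
  have hCL : ∀ n ∈ K, n ≠ 1 → Subgroup.centralizer ({n} : Set L) ≤ K := fun n hn hn1 x hx =>
    Subgroup.mem_subgroupOf.2 (hC n (Subgroup.mem_subgroupOf.1 hn)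
      (fun e => hn1 (Subtype.ext e))
      (Subgroup.mem_centralizer_singleton_iff.2
        (congrArg Subtype.val (Subgroup.mem_centralizer_singleton_iff.1 hx))))
  have hKT : K < ⊤ := by
    rw [lt_top_iff_ne_top, Ne, hKdef]
    exact fun h => hlt.not_ge (Subgroup.subgroupOf_eq_top.1 h)
  have hcardK : Nat.card K = Nat.card (P : Subgroup G) :=
    Nat.card_congr (Subgroup.subgroupOfEquivOfLe hHL).toEquiv
  have hKodd : Odd (Nat.card K) := by
    rw [hcardK]
    obtain ⟨k, hk⟩ := IsPGroup.iff_card.1 P.2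
    rw [hk]
    exact ((Fact.out : p.Prime).odd_of_ne_two hp).pow
  have hset : {χ : L → ℂ | IsIrrCharacter L χ ∧ ∃ x : L, (x : G) ∈ (P : Subgroup G) ∧ χ x ≠ χ 1} =
      inducedIrrAbove K (⊥ : Subgroup L) := by
    rw [← Coherence.seq_eq_irr_set K hCL]
    rfl
  have hcardset : Nat.card {χ : L → ℂ // IsIrrCharacter L χ ∧
      ∃ x : L, (x : G) ∈ (P : Subgroup G) ∧ χ x ≠ χ 1} = (Coherence.seqFinset K (⊥ : Subgroup L)).card := by
    rw [← Nat.card_eq_finsetCard]
    refine Nat.card_congr (Equiv.subtypeEquivRight fun χ => ?_)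
    rw [← Finset.mem_coe, Coherence.coe_seqFinset, ← hset]
    exact Iff.rfl
  obtain ⟨hiso, hone⟩ := Coherence.ti_isometry (P : Subgroup G) L hTI rfl (inducedIrrAbove K ⊥)
    (fun φ h => Coherence.gen_of_char (Coherence.seq_isCharacter K h))
    (by
      rintro φ ⟨θ, -, -, -, rfl⟩ x hx
      exact OddChar.indFun_eq_zero_of_notMem K θ fun h => hx (Subgroup.mem_subgroupOf.1 h))
  by_cases hev : Even K.index
  swap
  · right
    have hodd : Odd (Nat.card L) := by
      rw [← K.index_mul_card]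
      exact Odd.mul (Nat.not_even_iff_odd.1 hev) hKodd
    rw [hset]
    exact Coherence.sibley_ti (P : Subgroup G) L hodd hHL hP1 hKT hCL hTI rfl
  haveI := Coherence.abelian_of_even_index K hCL hKodd (even_iff_two_dvd.1 hev)
  obtain ⟨hdeg, hcount⟩ := Coherence.seq_abelian K hCL
  by_cases hn : 2 ≤ (Coherence.seqFinset K (⊥ : Subgroup L)).card
  · right
    rw [hset, ← Coherence.coe_seqFinset]
    rw [← Coherence.coe_seqFinset] at hiso hone
    exact Coherence.equal_degree_coherent _ (fun φ h => Coherence.frob_seq_irr K hCL (by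
        rw [← Coherence.coe_seqFinset]; exact Finset.mem_coe.2 h))
      (fun φ h ψ h' => by rw [hdeg φ h, hdeg ψ h']) hn _ hiso hone
  left
  have hK1 : K ≠ ⊥ := by
    rw [Ne, hKdef, Subgroup.subgroupOf_eq_bot, disjoint_iff, inf_eq_left.2 hHL]
    exact hP1
  haveI := Coherence.kernel_nilpotent K hK1 hKT.ne hCL
  obtain ⟨m, hm⟩ : ∃ m, (Coherence.seqFinset K (⊥ : Subgroup L)).card = m := ⟨_, rfl⟩
  rw [hm] at hn hcount
  have hgt : 1 < Nat.card K := by
    have h0 : 0 < Nat.card K := Nat.card_pos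
    have h1 : Nat.card K ≠ 1 := fun h => hK1 (Subgroup.card_eq_one.1 h)
    omega
  have hm1 : m = 1 := by
    rcases Nat.eq_zero_or_pos m with h | h
    · rw [h, zero_mul] at hcount; omega
    · omega
  rw [hm1, one_mul] at hcount
  have hcard : Nat.card K = K.index + 1 := by omega
  obtain ⟨-, q, hq, hexp⟩ := Coherence.elementary_of_card_eq K hCL hK1 hcard
  refine ⟨by rw [hcardset, hm, hm1], ⟨?_, ?_⟩, by rw [← hcardK, hcard]⟩
  · refine ⟨⟨fun a b => ?_⟩⟩
    apply (Subgroup.subgroupOfEquivOfLe hHL).symm.injective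
    simp only [map_mul]
    exact mul_comm' _ _
  · intro a ha
    have hqp : q = p := by
      obtain ⟨y, hy⟩ := exists_prime_orderOf_dvd_card' (G := K) p (by
        rw [hcardK]
        obtain ⟨k, hk⟩ := IsPGroup.iff_card.1 P.2
        rw [hk]
        refine dvd_pow_self p fun h0 => hP1 ?_
        rw [h0, pow_zero, Subgroup.card_eq_one] at hk
        exact hk)
      have h1 : orderOf (y : L) ∣ q := orderOf_dvd_of_pow_eq_one (hexp y y.2)
      rw [Subgroup.orderOf_coe, hy] at h1
      exact ((Nat.prime_dvd_prime_iff_eq Fact.out hq).1 h1).symm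
    have h := hexp ⟨a, hHL ha⟩ (Subgroup.mem_subgroupOf.2 ha)
    rw [hqp] at h
    exact congrArg Subtype.val h

end Cfsg.Agent.S1533
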