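import Cfsg.Statements.S1535
import Cfsg.Agent.Coherence.IrrExtend
import Cfsg.Agent.Coherence.NilpDegree
import Cfsg.Agent.Coherence.Partition
import Mathlib.GroupTheory.GroupAction.ConjAct

set_option autoImplicit false
open Cfsg Cfsg.Agent

namespace Cfsg.Agent.S1535

/-- Let N be a finite group with a proper nontrivial normal subgroup H such that every element commuting with a non-identity element of H lies in H (N is a Frobenius group with kernel H); let e be the index of H and suppose Nat.card H ≠ e + 1. Let S be the set of irreducible characters χ of N with χ h ≠ χ 1 for some h ∈ H, and τ a linear isometry on the integer combinations of S vanishing at 1, with values virtual characters of a finite group G vanishing at 1. Then (S, N minus 1, τ) is coherent, or there is a prime p with Nat.card H a power of p, H non-abelian and [H : [H,H]] ≤ 4e² + 1. -/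
theorem result {N : Type*} [Group N] [Fintype N] {G : Type*} [Group G] [Fintype G] (H : Subgroup N) [H.Normal] (hH1 : H ≠ ⊥) (hH2 : H ≠ ⊤) (hC : ∀ h ∈ H, h ≠ 1 → Subgroup.centralizer ({h} : Set N) ≤ H) (he : Nat.card H ≠ H.index + 1) (τ : (N → ℂ) → (G → ℂ)) (hτ : Cfsg.IsLinearIsometryOn (Cfsg.zspanOn {χ : N → ℂ | Cfsg.IsIrrCharacter N χ ∧ ∃ h ∈ H, χ h ≠ χ 1} {1}ᶜ) τ) (hτ1 : ∀ α ∈ Cfsg.zspanOn {χ : N → ℂ | Cfsg.IsIrrCharacter N χ ∧ ∃ h ∈ H, χ h ≠ χ 1} {1}ᶜ, τ α 1 = 0) : Cfsg.IsCoherent {χ : N → ℂ | Cfsg.IsIrrCharacter N χ ∧ ∃ h ∈ H, χ h ≠ χ 1} {1}ᶜ τ ∨ ∃ p : ℕ, p.Prime ∧ (∃ m : ℕ, Nat.card H = p ^ m) ∧ ¬ IsMulCommutative H ∧ (⁅H, H⁆.subgroupOf H).index ≤ 4 * H.index ^ 2 + 1 := by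
  classical
  haveI := Fintype.ofFinite H
  haveI hnil : Group.IsNilpotent H := Coherence.kernel_nilpotent H hH1 hH2 hC
  -- the set is the induced one
  have hSet : {χ : N → ℂ | IsIrrCharacter N χ ∧ ∃ h ∈ H, χ h ≠ χ 1} =
      inducedIrrAbove H (⊥ : Subgroup N) := by
    ext φ
    constructor
    · rintro ⟨hφ, h, hh, hne⟩
      exact Coherence.mem_seq_of_irr H hC hφ hh hne
    · intro hφ
      refine ⟨Coherence.frob_seq_irr H hC hφ, ?_⟩
      by_contra hall
      push Not at hall
      obtain ⟨θ, hθ, rfl⟩ := (Coherence.mem_seq_iff H).1 hφ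
      refine ((Coherence.mem_irrNP H).1 hθ).1 (funext fun k => ?_)
      have hker : ∀ k : H, (θ : H → ℂ) k = (θ : H → ℂ) 1 :=
        fun k => (S1487.result H H le_rfl θ θ.2).2 hall k k.2
      -- a character constant on the group is principal
      have hone := Coherence.irr_inner_self θ.2
      simp only [classInner, hker, Finset.sum_const, Finset.card_univ, nsmul_eq_mul] at hone
      obtain ⟨d, hd, hd0⟩ := Coherence.char_one_nat (Coherence.irr_isCharacter θ.2)
      rw [hd, ← Nat.card_eq_fintype_card,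
        inv_mul_cancel_left₀ (Nat.cast_ne_zero.2 Nat.card_pos.ne')] at hone
      simp only [map_natCast] at hone
      have hd1 : d = 1 := by
        have : d * d = 1 := by exact_mod_cast hone
        exact Nat.eq_one_of_mul_eq_one_right this
      rw [hker k, hd, hd1, Nat.cast_one]
  rw [hSet] at hτ hτ1 ⊢
  -- indices of characteristic subgroups
  set e := H.index with hedef
  have he1 : 1 < e := by
    have h0 := Subgroup.index_ne_zero_of_finite (H := H)
    have h1 : e ≠ 1 := fun h => hH2 (Subgroup.index_eq_one.1 h)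
    omega
  have hmod : ∀ M : Subgroup H, M.Characteristic → M ≠ ⊥ → e + 1 ≤ (commutator M).index := by
    intro M hM hM1
    haveI := hM
    haveI hML : (M.map H.subtype).Normal := inferInstance
    have hle : M.map H.subtype ≤ H := Subgroup.map_subtype_le M
    haveI : (⁅M.map H.subtype, M.map H.subtype⁆).Normal := Subgroup.commutator_normal _ _
    have h1 := Coherence.index_dvd_card_sub_one_of_le H hC (M.map H.subtype) hle
    have h2 := Coherence.index_dvd_card_sub_one_of_le H hC ⁅M.map H.subtype, M.map H.subtype⁆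
      ((Subgroup.commutator_le_self _).trans hle)
    rw [Subgroup.card_map_of_injective H.subtype_injective] at h1
    rw [← Subgroup.map_commutator, Subgroup.card_map_of_injective H.subtype_injective,
      ← Subgroup.map_subtype_commutator,
      Subgroup.card_map_of_injective M.subtype_injective] at h2
    haveI : Nontrivial M := (Subgroup.nontrivial_iff_ne_bot M).2 hM1
    have hidx : 1 < (commutator M).index := by
      have h0 := Subgroup.index_ne_zero_of_finite (H := commutator M)
      have h3 : (commutator M).index ≠ 1 := fun h =>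
        (Group.IsSolvable.commutator_lt_top_of_nontrivial M).ne (Subgroup.index_eq_one.1 h)
      omega
    rw [← (commutator M).index_mul_card] at h1
    rw [← hedef] at h1 h2
    set c := Nat.card (commutator M)
    set i := (commutator M).index
    have hc : 0 < c := Nat.card_pos
    have h4 : i * c - 1 = (i - 1) * c + (c - 1) := by
      obtain ⟨i', hi'⟩ : ∃ i', i = i' + 1 := ⟨i - 1, by omega⟩
      rw [hi', add_mul, one_mul, Nat.add_sub_cancel]; omega
    rw [h4, Nat.dvd_add_left h2] at h1
    have hco : Nat.Coprime e c := by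
      rw [← Nat.coprime_pow_right_iff (n := 1) one_pos, pow_one]
      refine Nat.eq_one_of_dvd_one ?_
      have := Nat.dvd_sub (Nat.gcd_dvd_right e c) ((Nat.gcd_dvd_left e c).trans h2)
      rwa [Nat.sub_sub_self hc] at this
    have := Nat.le_of_dvd (by omega) (hco.dvd_of_dvd_mul_right h1)
    omega
  have hcomH : (⁅H, H⁆.subgroupOf H).index = (commutator H).index := by
    rw [← Subgroup.map_subtype_commutator, Subgroup.subgroupOf,
      Subgroup.comap_map_eq_self_of_injective H.subtype_injective]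
  by_cases hexc : (∃ p m : ℕ, p.Prime ∧ Nat.card H = p ^ m ∧
      (commutator H).index ≤ 4 * e ^ 2 + 1) ∧ ¬ IsMulCommutative H
  · obtain ⟨⟨p, m, hp, hm, hle⟩, hna⟩ := hexc
    exact Or.inr ⟨p, hp, ⟨m, hm⟩, hna, by rw [hcomH]; exact hle⟩
  left
  set x := (commutator H).index with hxdef
  have habel : IsMulCommutative H → x = Nat.card H := fun h => by
    haveI := h
    rw [hxdef, commutator_def, (Subgroup.commutator_eq_bot_iff_le_centralizer).2 (fun a _ b _ =>
      mul_comm' b a), Subgroup.index_bot]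
  -- the linear layer
  set U := Coherence.seqFinset H (⊥ : Subgroup N) with hUdef
  have hU : (↑U : Set (N → ℂ)) = inducedIrrAbove H ⊥ := Coherence.coe_seqFinset H ⊥
  have hUirr : ∀ φ ∈ U, IsIrrCharacter N φ := fun φ h => Coherence.frob_seq_irr H hC (by
    rw [← hU]; exact Finset.mem_coe.2 h)
  set dg : (N → ℂ) → ℕ := fun φ => charDegree φ with hdg
  have hdgU : ∀ φ ∈ U, φ 1 = (dg φ : ℂ) := fun φ h =>
    Coherence.charDegree_eq (Coherence.irr_isCharacter (hUirr φ h))
  have hdgθ : ∀ θ : IrrCharacter H,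
      dg (indFun H (θ : H → ℂ)) = e * charDegree (θ : H → ℂ) := by
    intro θ
    apply Nat.cast_injective (R := ℂ)
    rw [hdg, ← Coherence.charDegree_eq (CharInd.isCharacter_indFun H
      (Coherence.irr_isCharacter θ.2)), CharInd.indFun_apply_one,
      Coherence.charDegree_eq (Coherence.irr_isCharacter θ.2)]
    push_cast [hedef]
    ring
  have hcount : ∀ (p : ℕ → Prop) [DecidablePred p], (∑ φ ∈ U.filter (fun φ => p (dg φ)), dg φ ^ 2) =
      e * ∑ θ ∈ (Coherence.irrNP H (⊥ : Subgroup N)).filter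
        (fun θ : IrrCharacter H => p (e * charDegree (θ : H → ℂ))), charDegree (θ : H → ℂ) ^ 2 := by
    intro p _
    set s := (Coherence.irrNP H (⊥ : Subgroup N)).filter
        (fun θ : IrrCharacter H => p (e * charDegree (θ : H → ℂ))) with hs
    rw [← Finset.sum_fiberwise_of_maps_to (t := U.filter (fun φ => p (dg φ))) (s := s)
      (g := fun θ : IrrCharacter H => indFun H (θ : H → ℂ))
      (fun θ hθ => Finset.mem_filter.2 ⟨(Coherence.mem_seqFinset H).2
        ⟨θ, (Finset.mem_filter.1 hθ).1, rfl⟩, by rw [hdgθ]; exact (Finset.mem_filter.1 hθ).2⟩),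
      Finset.mul_sum]
    refine Finset.sum_congr rfl fun φ hφ => ?_
    obtain ⟨hφU, hpφ⟩ := Finset.mem_filter.1 hφ
    obtain ⟨θ, hθ, rfl⟩ := (Coherence.mem_seqFinset H).1 hφU
    rw [hdgθ] at hpφ
    set F := s.filter fun ψ : IrrCharacter H => indFun H (ψ : H → ℂ) = indFun H (θ : H → ℂ)
    have hconjdeg : ∀ g, charDegree (Coherence.conjIrr H g θ : H → ℂ) = charDegree (θ : H → ℂ) :=
      fun g => by
        show charDegree (OddChar.conjBy H g θ.1) = charDegree θ.1
        unfold charDegree
        rw [Coherence.conjBy_apply_one]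
    have hmaps : ∀ g ∈ (Finset.univ : Finset N), Coherence.conjIrr H g θ ∈ F := fun g _ =>
      Finset.mem_filter.2 ⟨Finset.mem_filter.2 ⟨Coherence.conjIrr_mem H hθ g, by
        rw [hconjdeg]; exact hpφ⟩, OddChar.indFun_conjBy H g θ.1⟩
    have hfib : ∀ ψ ∈ F, (Finset.univ.filter fun g : N => Coherence.conjIrr H g θ = ψ).card =
        Nat.card H := by
      intro ψ hψ
      obtain ⟨g₀, hg₀⟩ := (Coherence.ind_eq_iff H ψ θ).1 (Finset.mem_filter.1 hψ).2
      rw [Nat.card_eq_fintype_card, Fintype.card_subtype]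
      refine Finset.card_bij' (fun g _ => g * g₀⁻¹) (fun g _ => g * g₀) ?_ ?_
        (fun g _ => by group) (fun g _ => by group)
      · intro g hg
        simp only [Finset.mem_filter, Finset.mem_univ, true_and] at hg ⊢
        refine Coherence.fixed_mem_of_centralizer_le H hC θ.2
          ((Coherence.mem_irrNP H).1 hθ).1 ?_
        rw [OddChar.conjBy_mul, show OddChar.conjBy H g θ.1 = ψ.1 from congrArg Subtype.val hg,
          show ψ.1 = OddChar.conjBy H g₀ θ.1 from congrArg Subtype.val hg₀, ← OddChar.conjBy_mul,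
          mul_inv_cancel, OddChar.conjBy_one]
      · intro g hg
        simp only [Finset.mem_filter, Finset.mem_univ, true_and] at hg ⊢
        refine Subtype.ext ?_
        show OddChar.conjBy H (g * g₀) θ.1 = ψ.1
        have hfix : OddChar.conjBy H g θ.1 = θ.1 := by
          funext k
          show θ.1 _ = θ.1 k
          conv_rhs => rw [← CharCore.irr_isClassFunction θ k ⟨g, hg⟩]
          rfl
        rw [OddChar.conjBy_mul, hfix, hg₀]
        rfl
    have hcard : F.card = e := by
      have h := Finset.card_eq_sum_card_fiberwise hmaps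
      rw [Finset.card_univ, Finset.sum_congr rfl hfib, Finset.sum_const, smul_eq_mul,
        ← Nat.card_eq_fintype_card, ← H.index_mul_card] at h
      exact (Nat.eq_of_mul_eq_mul_right Nat.card_pos h).symm
    have hval : ∀ ψ ∈ F, charDegree (ψ : H → ℂ) ^ 2 = charDegree (θ : H → ℂ) ^ 2 := by
      intro ψ hψ
      obtain ⟨g₀, hg₀⟩ := (Coherence.ind_eq_iff H ψ θ).1 (Finset.mem_filter.1 hψ).2
      rw [hg₀, hconjdeg]
    rw [Finset.sum_congr rfl hval, Finset.sum_const, smul_eq_mul, hcard, hdgθ]
    ring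
  have hnp : Coherence.irrNP H (⊥ : Subgroup N) =
      Finset.univ.filter (fun θ : IrrCharacter H => (θ : H → ℂ) ≠ fun _ => 1) := by
    ext θ
    rw [Coherence.mem_irrNP, Finset.mem_filter]
    exact ⟨fun h => ⟨Finset.mem_univ _, h.1⟩, fun h => ⟨h.2, fun a ha => by
      rw [show a = 1 from Subtype.ext (Subgroup.mem_bot.1 ha)]⟩⟩
  set Y := U.filter (fun φ => dg φ = e) with hYdef
  have hYcard : Y.card * e = x - 1 := by
    have h := hcount (fun k => k = e)
    rw [Finset.sum_congr rfl (fun φ hφ => show dg φ ^ 2 = e ^ 2 by rw [(Finset.mem_filter.1 hφ).2]),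
      Finset.sum_const, smul_eq_mul, hnp, Finset.filter_filter] at h
    have hset : Finset.univ.filter (fun θ : IrrCharacter H =>
        (θ : H → ℂ) ≠ (fun _ => 1) ∧ e * charDegree (θ : H → ℂ) = e) =
        (Finset.univ.filter fun θ : IrrCharacter H => charDegree (θ : H → ℂ) = 1).erase
          ⟨fun _ => 1, CharCore.isIrrCharacter_one⟩ := by
      ext θ
      simp only [Finset.mem_filter, Finset.mem_univ, true_and, Finset.mem_erase,
        Nat.mul_eq_left (show e ≠ 0 by omega)]
      exact and_congr_left fun _ => ⟨fun h e => h (congrArg Subtype.val e),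
        fun h e => h (Subtype.ext e)⟩
    have h1' : ∀ θ ∈ (Finset.univ.filter fun θ : IrrCharacter H =>
          charDegree (θ : H → ℂ) = 1).erase ⟨fun _ => 1, CharCore.isIrrCharacter_one⟩,
        charDegree (θ : H → ℂ) ^ 2 = 1 := fun θ hθ => by
      rw [(Finset.mem_filter.1 (Finset.mem_of_mem_erase hθ)).2, one_pow]
    rw [hset, Finset.sum_congr rfl h1', Finset.sum_const,
      smul_eq_mul, mul_one, Finset.card_erase_of_mem
        (show (⟨fun _ => 1, CharCore.isIrrCharacter_one⟩ : IrrCharacter H) ∈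
          Finset.univ.filter (fun θ : IrrCharacter H => charDegree (θ : H → ℂ) = 1) from
          Finset.mem_filter.2 ⟨Finset.mem_univ _, Coherence.one_charDegree⟩), Coherence.card_filter_linear, ← hxdef, sq,
      ← mul_assoc, mul_comm e (x - 1)] at h
    exact Nat.eq_of_mul_eq_mul_right (by omega) h
  have hY2 : 2 ≤ Y.card := by
    have hx1 : x ≠ e + 1 := by
      by_cases hab : IsMulCommutative H
      · rw [habel hab]; exact he
      have hnp' : ∀ p : ℕ, p.Prime → p ∣ Nat.card H → x ≠ e + 1 := by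
        intro p hp hpd
        haveI := Fact.mk hp
        by_cases hpp : ∃ m, Nat.card H = p ^ m
        · obtain ⟨m, hm⟩ := hpp
          intro hxe
          refine hexc ⟨⟨p, m, hp, hm, ?_⟩, hab⟩
          rw [hxe]; nlinarith
        · have h := Coherence.nilpotent_index_big hnil e hmod p hpd hpp
          rw [← hxdef] at h
          intro hxe
          rw [hxe] at h
          nlinarith
      have hH : Nat.card H ≠ 1 := fun h => hH1 (Subgroup.card_eq_one.1 h)
      obtain ⟨p, hp, hpd⟩ := Nat.exists_prime_and_dvd hH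
      exact hnp' p hp hpd
    have hx2 : 1 < x := by
      haveI : Nontrivial H := (Subgroup.nontrivial_iff_ne_bot H).2 hH1
      have h0 := Subgroup.index_ne_zero_of_finite (H := commutator H)
      have h3 : x ≠ 1 := fun h =>
        (Group.IsSolvable.commutator_lt_top_of_nontrivial H).ne (Subgroup.index_eq_one.1 h)
      omega
    rcases Nat.lt_or_ge Y.card 2 with hlt | hge
    · exfalso
      interval_cases hc : Y.card <;> omega
    · exact hge
  have hsubiso : ∀ T : Finset (N → ℂ), T ⊆ U →
      IsLinearIsometryOn (zspanOn (↑T : Set (N → ℂ)) {1}ᶜ) τ ∧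
      ∀ α ∈ zspanOn (↑T : Set (N → ℂ)) ({1}ᶜ : Set N), τ α 1 = 0 := by
    intro T hT
    have hm := Coherence.zspanOn_mono (show (↑T : Set (N → ℂ)) ⊆ inducedIrrAbove H ⊥ by
      rw [← hU]; exact Finset.coe_subset.2 hT) ({1}ᶜ : Set N)
    exact ⟨⟨fun a ha b hb => hτ.1 a (hm ha) b (hm hb), fun a ha => hτ.2.1 a (hm ha),
      fun a ha b hb => hτ.2.2.1 a (hm ha) b (hm hb), fun a ha => hτ.2.2.2 a (hm ha)⟩,
      fun a ha => hτ1 a (hm ha)⟩
  have hYU : Y ⊆ U := Finset.filter_subset _ _
  have hYcoh := Coherence.equal_degree_coherent Y (fun φ h => hUirr φ (hYU h))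
    (fun φ h ψ h' => by
      rw [hdgU φ (hYU h), hdgU ψ (hYU h'), (Finset.mem_filter.1 h).2, (Finset.mem_filter.1 h').2])
    hY2 τ (hsubiso Y hYU).1 (hsubiso Y hYU).2
  -- a maximal coherent piece
  obtain ⟨T, hT, hmax⟩ := Finset.exists_max_image (U.powerset.filter fun T =>
      Y ⊆ T ∧ IsCoherent (↑T : Set (N → ℂ)) {1}ᶜ τ) Finset.card
    ⟨Y, Finset.mem_filter.2 ⟨Finset.mem_powerset.2 hYU, subset_refl _, hYcoh⟩⟩
  obtain ⟨hTU, hYT, hTcoh⟩ := Finset.mem_filter.1 hT
  rw [Finset.mem_powerset] at hTU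
  by_cases hTU' : T = U
  · rw [← hU, ← hTU']; exact hTcoh
  exfalso
  obtain ⟨χ, hχ, hχmin⟩ := Finset.exists_min_image (U \ T) dg (by
    rw [Finset.sdiff_nonempty]
    exact fun h => hTU' (Finset.Subset.antisymm hTU h))
  obtain ⟨hχU, hχT⟩ := Finset.mem_sdiff.1 hχ
  obtain ⟨θ, hθ, hθe⟩ := (Coherence.mem_seqFinset H).1 hχU
  obtain ⟨ψ, hψ⟩ := Finset.card_pos.1 (show 0 < Y.card by omega)
  have hdχ : dg χ = e * charDegree (θ : H → ℂ) := by rw [← hθe, hdgθ]
  have ht : 1 < charDegree (θ : H → ℂ) := by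
    have h1 := Coherence.charDegree_irr_pos θ
    have h2 : charDegree (θ : H → ℂ) ≠ 1 := fun h => hχT (hYT (Finset.mem_filter.2 ⟨hχU, by
      rw [hdχ, h, mul_one]⟩))
    omega
  have hnex : ¬ ∃ p m : ℕ, p.Prime ∧ Nat.card H = p ^ m ∧ x ≤ 4 * e ^ 2 + 1 := by
    intro h
    refine hexc ⟨h, fun hab => ?_⟩
    haveI := hab
    obtain ⟨d, hd, hdvd⟩ : ∃ d, charDegree (θ : H → ℂ) = d ∧
        d ∣ (Subgroup.center H).index := by
      obtain ⟨d, -, hdd, hd⟩ := CharClifford.exists_degree_dvd_index_center θ.2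
      exact ⟨d, Nat.cast_injective (R := ℂ)
        (by rw [← Coherence.charDegree_eq (Coherence.irr_isCharacter θ.2), hd]), hdd⟩
    rw [show Subgroup.center H = ⊤ from eq_top_iff.2 fun a _ =>
      Subgroup.mem_center_iff.2 fun b => mul_comm' b a, Subgroup.index_top, Nat.dvd_one] at hdvd
    omega
  have hkey := Coherence.nilpotent_degree_weight hnil e (by omega) hmod hnex θ ht
  have hsum : 2 * e * dg χ < ∑ ξ ∈ T, dg ξ ^ 2 := by
    have hlow : ∑ ξ ∈ U.filter (fun φ => dg φ < dg χ), dg ξ ^ 2 ≤ ∑ ξ ∈ T, dg ξ ^ 2 := by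
      refine Finset.sum_le_sum_of_subset fun φ hφ => ?_
      obtain ⟨hφU, hlt⟩ := Finset.mem_filter.1 hφ
      by_contra hφT
      exact (not_le.2 hlt) (hχmin φ (Finset.mem_sdiff.2 ⟨hφU, hφT⟩))
    refine lt_of_lt_of_le ?_ hlow
    rw [hcount (fun k => k < dg χ), hnp, Finset.filter_filter, hdχ]
    simp only [Nat.mul_lt_mul_left (show 0 < e by omega)]
    calc 2 * e * (e * charDegree (θ : H → ℂ)) = e * (2 * e * charDegree (θ : H → ℂ)) := by ring
      _ < _ := Nat.mul_lt_mul_of_pos_left hkey (by omega)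
  have hins : insert χ T ⊆ U := Finset.insert_subset hχU hTU
  have hψd : dg ψ = e := (Finset.mem_filter.1 hψ).2
  have hnew := Coherence.irr_extend T χ (fun ξ h => hUirr ξ (hTU h)) (hUirr χ hχU) hχT dg
    (fun ξ h => hdgU ξ (hins h)) τ (hsubiso _ hins).1 (hsubiso _ hins).2 hTcoh ψ (hYT hψ)
    (by rw [hψd, hdχ]; exact dvd_mul_right _ _) (by rw [hψd]; exact hsum)
  have hmem : insert χ T ∈ U.powerset.filter fun T =>
      Y ⊆ T ∧ IsCoherent (↑T : Set (N → ℂ)) {1}ᶜ τ :=
    Finset.mem_filter.2 ⟨Finset.mem_powerset.2 hins, hYT.trans (Finset.subset_insert _ _), hnew⟩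
  have := hmax _ hmem
  rw [Finset.card_insert_of_notMem hχT] at this
  omega

end Cfsg.Agent.S1535
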