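import Cfsg.Statements.S1534
import Cfsg.Agent.Coherence.KernelOdd
import Cfsg.Agent.S1535

set_option autoImplicit false
open Cfsg Cfsg.Agent

namespace Cfsg.Agent.S1534

/-- Let G be a finite group and K a nontrivial nilpotent subgroup whose underlying set is a TI-subset of G, properly contained in its set normaliser N, with C_G(k) ≤ K for every non-identity k ∈ K; let e be the index of K in N and S the set of irreducible characters χ of N with χ k ≠ χ 1 for some k ∈ K. Then one of: S has exactly one member, Nat.card K = e + 1 and K is an elementary abelian p-group for some prime p; or K is a Sylow 2-subgroup of G (Nat.card K is the largest power of 2 dividing Nat.card G) and [K : [K,K]] < 4e²; or (S, N minus 1, induction to G) is coherent. -/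
theorem result {G : Type*} [Group G] [Fintype G] (K : Subgroup G) (hK1 : K ≠ ⊥) (hnil : Group.IsNilpotent K) (hTI : Cfsg.IsTISubset (K : Set G)) (hlt : K < Subgroup.normalizer (K : Set G)) (hC : ∀ k ∈ K, k ≠ 1 → Subgroup.centralizer ({k} : Set G) ≤ K) [Fintype ↥(Subgroup.normalizer (K : Set G))] : (Nat.card {χ : ↥(Subgroup.normalizer (K : Set G)) → ℂ // Cfsg.IsIrrCharacter ↥(Subgroup.normalizer (K : Set G)) χ ∧ ∃ k : ↥(Subgroup.normalizer (K : Set G)), (k : G) ∈ K ∧ χ k ≠ χ 1} = 1 ∧ Nat.card K = (K.subgroupOf (Subgroup.normalizer (K : Set G))).index + 1 ∧ ∃ p : ℕ, p.Prime ∧ Cfsg.IsElementaryAbelian p K) ∨ (Nat.card K = 2 ^ (Nat.card G).factorization 2 ∧ (⁅K, K⁆.subgroupOf K).index < 4 * (K.subgroupOf (Subgroup.normalizer (K : Set G))).index ^ 2) ∨ Cfsg.IsCoherent {χ : ↥(Subgroup.normalizer (K : Set G)) → ℂ | Cfsg.IsIrrCharacter ↥(Subgroup.normalizer (K : Set G)) χ ∧ ∃ k : ↥(Subgroup.normalizer (K : Set G)), (k : G) ∈ K ∧ χ k ≠ χ 1} {1}ᶜ (fun α => Cfsg.indFun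 (Subgroup.normalizer (K : Set G)) α) := by
  classical
  let L := Subgroup.normalizer (K : Set G)
  have hHL : K ≤ L := Subgroup.le_normalizer
  set KL := K.subgroupOf L with hKdef
  haveI hKn : KL.Normal := Subgroup.normal_in_normalizer
  have hCL : ∀ n ∈ KL, n ≠ 1 → Subgroup.centralizer ({n} : Set L) ≤ KL := fun n hn hn1 x hx =>
    Subgroup.mem_subgroupOf.2 (hC n (Subgroup.mem_subgroupOf.1 hn)
      (fun e => hn1 (Subtype.ext e))
      (Subgroup.mem_centralizer_singleton_iff.2
        (congrArg Subtype.val (Subgroup.mem_centralizer_singleton_iff.1 hx))))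
  have hKT : KL < ⊤ := by
    rw [lt_top_iff_ne_top, Ne, hKdef]
    exact fun h => hlt.not_ge (Subgroup.subgroupOf_eq_top.1 h)
  have hcardK : Nat.card KL = Nat.card K :=
    Nat.card_congr (Subgroup.subgroupOfEquivOfLe hHL).toEquiv
  have hKL1 : KL ≠ ⊥ := by
    rw [Ne, hKdef, Subgroup.subgroupOf_eq_bot, disjoint_iff, inf_eq_left.2 hHL]
    exact hK1
  haveI := Coherence.kernel_nilpotent KL hKL1 hKT.ne hCL
  have hset : {χ : L → ℂ | IsIrrCharacter L χ ∧ ∃ x : L, (x : G) ∈ K ∧ χ x ≠ χ 1} =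
      inducedIrrAbove KL (⊥ : Subgroup L) := by
    rw [← Coherence.seq_eq_irr_set KL hCL]
    rfl
  by_cases he : Nat.card KL = KL.index + 1
  · left
    obtain ⟨hab, q, hq, hexp⟩ := Coherence.elementary_of_card_eq KL hCL hKL1 he
    haveI := hab
    obtain ⟨-, hcount⟩ := Coherence.seq_abelian KL hCL
    rw [he, Nat.add_sub_cancel] at hcount
    refine ⟨?_, by rw [← hcardK, he], q, hq, ⟨⟨fun a b => ?_⟩⟩, fun a ha => ?_⟩
    · rw [← Nat.eq_of_mul_eq_mul_right (Nat.pos_of_ne_zero Subgroup.index_ne_zero_of_finite)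
        (hcount.trans (one_mul _).symm), ← Nat.card_eq_finsetCard]
      refine Nat.card_congr (Equiv.subtypeEquivRight fun χ => ?_)
      rw [← Finset.mem_coe, Coherence.coe_seqFinset, ← hset]
      exact Iff.rfl
    · apply (Subgroup.subgroupOfEquivOfLe hHL).symm.injective
      simp only [map_mul]
      exact mul_comm' _ _
    · exact congrArg Subtype.val (hexp ⟨a, hHL ha⟩ (Subgroup.mem_subgroupOf.2 ha))
  right
  obtain ⟨hiso, hone⟩ := Coherence.ti_isometry K L hTI rfl (inducedIrrAbove KL ⊥)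
    (fun φ h => Coherence.gen_of_char (Coherence.seq_isCharacter KL h))
    (by
      rintro φ ⟨θ, -, -, -, rfl⟩ x hx
      exact OddChar.indFun_eq_zero_of_notMem KL θ fun h => hx (Subgroup.mem_subgroupOf.1 h))
  have h35 := S1535.result KL hKL1 hKT.ne hCL he (fun α => indFun L α)
    (by rw [Coherence.seq_eq_irr_set KL hCL]; exact hiso)
    (by rw [Coherence.seq_eq_irr_set KL hCL]; exact hone)
  rw [Coherence.seq_eq_irr_set KL hCL] at h35
  rcases h35 with h | ⟨p, hp, ⟨m, hm⟩, hna, hle⟩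
  · exact Or.inr (by rw [hset]; exact h)
  haveI := Fact.mk hp
  by_cases hp2 : p = 2
  swap
  · right
    have hKodd : Odd (Nat.card KL) := by rw [hm]; exact (hp.odd_of_ne_two hp2).pow
    have hodd : Odd (Nat.card L) := by
      rw [← KL.index_mul_card]
      exact Odd.mul (Nat.not_even_iff_odd.1 fun hev =>
        hna (Coherence.abelian_of_even_index KL hCL hKodd (even_iff_two_dvd.1 hev))) hKodd
    rw [hset]
    exact Coherence.sibley_ti K L hodd hHL hK1 hKT hCL hTI rfl
  left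
  subst hp2
  have hpK : IsPGroup 2 K := IsPGroup.of_card (hcardK ▸ hm)
  obtain ⟨P, hP⟩ := Coherence.sylow_of_kernel K L 2 hpK hK1 hHL hCL rfl
  refine ⟨by rw [← hP]; exact P.card_eq_multiplicity, ?_⟩
  have hidx : (⁅K, K⁆.subgroupOf K).index = (⁅KL, KL⁆.subgroupOf KL).index := by
    have e1 : ⁅K, K⁆ = (⁅KL, KL⁆).map L.subtype := by
      rw [Subgroup.map_commutator, hKdef, Subgroup.map_subgroupOf_eq_of_le hHL]
    show ⁅K, K⁆.relIndex K = ⁅KL, KL⁆.relIndex KL
    conv_lhs => rw [e1, ← Subgroup.map_subgroupOf_eq_of_le hHL, ← hKdef]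
    rw [Subgroup.relIndex_map_map_of_injective _ _ L.subtype_injective]
  rw [hidx, show (K.subgroupOf (Subgroup.normalizer (K : Set G))).index = KL.index from rfl]
  have heodd : Odd KL.index := by
    have h1 := Coherence.index_dvd_card_sub_one_of_le KL hCL KL le_rfl
    have hgt : 1 < Nat.card KL := by
      have h0 : 0 < Nat.card KL := Nat.card_pos
      have h2 : Nat.card KL ≠ 1 := fun h => hKL1 (Subgroup.card_eq_one.1 h)
      omega
    refine Odd.of_dvd_nat ?_ h1
    have hm0 : m ≠ 0 := fun h0 => by rw [hm, h0, pow_zero] at hgt; omega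
    obtain ⟨m', rfl⟩ : ∃ m', m = m' + 1 := ⟨m - 1, by omega⟩
    rw [hm, pow_succ]
    have : 1 ≤ 2 ^ m' := Nat.one_le_two_pow
    exact ⟨2 ^ m' - 1, by omega⟩
  have he1 : 1 < KL.index := by
    have h0 := Subgroup.index_ne_zero_of_finite (H := KL)
    have h1 : KL.index ≠ 1 := fun h => hKT.ne (Subgroup.index_eq_one.1 h)
    omega
  have hdvd : (⁅KL, KL⁆.subgroupOf KL).index ∣ 2 ^ m := hm ▸ Subgroup.index_dvd_card _
  obtain ⟨j, -, hj⟩ := (Nat.dvd_prime_pow Nat.prime_two).1 hdvd
  rcases Nat.lt_or_ge (⁅KL, KL⁆.subgroupOf KL).index (4 * KL.index ^ 2) with h | h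
  · exact h
  exfalso
  rw [hj] at h hle
  have hj1 : 2 ∣ 2 ^ j := dvd_pow_self 2 (fun h0 => by
    rw [h0, pow_zero] at h; nlinarith)
  have heq : 2 ^ j = 4 * KL.index ^ 2 := by omega
  have hdv : KL.index ∣ 2 ^ j := by rw [heq]; exact dvd_mul_of_dvd_right (dvd_pow_self _ two_ne_zero) _
  obtain ⟨i, -, hi⟩ := (Nat.dvd_prime_pow Nat.prime_two).1 hdv
  rcases Nat.eq_zero_or_pos i with h0 | h0
  · rw [h0, pow_zero] at hi; omega
  · exact Nat.not_even_iff_odd.2 heodd (by
      rw [hi]; exact (Nat.even_pow).2 ⟨even_two, by omega⟩)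

end Cfsg.Agent.S1534
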