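import Cfsg.Statements.S1536
import Cfsg.Agent.Coherence.Fixed
import Cfsg.Agent.S1496
import Mathlib.Data.Nat.ChineseRemainder

set_option autoImplicit false
open Cfsg

namespace Cfsg.Agent.S1536

/-- Let H be a normal subgroup of the finite group M whose order is coprime to its index. For x ∈ M: some non-principal irreducible character of H is unchanged under h ↦ θ(x h x⁻¹) if and only if some non-identity element of H commutes with x. -/
theorem result {M : Type*} [Group M] [Finite M] (H : Subgroup M) [hN : H.Normal] (hHall : Nat.Coprime (Nat.card H) H.index) (x : M) : (∃ θ : H → ℂ, Cfsg.IsIrrCharacter H θ ∧ θ ≠ (fun _ => 1) ∧ (fun h : H => θ ⟨x * h * x⁻¹, hN.conj_mem h h.2 x⟩) = θ) ↔ ∃ h ∈ H, h ≠ 1 ∧ x * h = h * x := by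
  classical
  set n := Nat.card H with hn
  have hquot : Nat.card (M ⧸ H) = H.index := rfl
  constructor
  · intro hθ
    obtain ⟨θ, hθ1, hθ2, hθ3⟩ := hθ
    obtain ⟨h, hh, hconj⟩ := (Coherence.exists_fixed_irr_iff H x).1 ⟨θ, hθ1, hθ2, hθ3⟩
    by_cases hu : x ^ H.index = 1
    · obtain ⟨k, hk⟩ := isConj_iff.1 hconj
      have hk' : (k : M) * (x * h * x⁻¹) * (k : M)⁻¹ = h := by
        have := congrArg Subtype.val hk
        simpa using this
      set y := (k : M) * x with hy
      have hyh : y * h = h * y :=
        calc y * h = (k : M) * (x * h * x⁻¹) * (k : M)⁻¹ * y := by rw [hy]; group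
          _ = (h : M) * y := by rw [hk']
      obtain ⟨a, ha0, ha1⟩ := Nat.chineseRemainder hHall 0 1
      have hxa : x ^ a = x := by
        have : a ≡ 1 [MOD orderOf x] := Nat.ModEq.of_dvd (orderOf_dvd_of_pow_eq_one hu) ha1
        conv_rhs => rw [← pow_one x]
        exact pow_eq_pow_iff_modEq.2 this
      have hmk : (QuotientGroup.mk' H) y = QuotientGroup.mk' H x := by
        rw [hy, map_mul, show QuotientGroup.mk' H (k : M) = 1 from (QuotientGroup.eq_one_iff _).2 k.2,
          one_mul]
      have hmem : y ^ a * x⁻¹ ∈ H := by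
        refine (QuotientGroup.eq_one_iff _).1 ?_
        show QuotientGroup.mk' H (y ^ a * x⁻¹) = 1
        rw [map_mul, map_inv, map_pow, hmk, ← map_pow, hxa, mul_inv_cancel]
      have hyi : y ^ H.index ∈ H := by
        refine (QuotientGroup.eq_one_iff _).1 ?_
        show QuotientGroup.mk' H (y ^ H.index) = 1
        rw [map_pow, hmk, ← map_pow, hu, map_one]
      have hord : (y ^ a) ^ H.index = 1 := by
        obtain ⟨c, hc⟩ := Nat.modEq_zero_iff_dvd.1 ha0
        rw [← pow_mul, mul_comm, pow_mul, hc, pow_mul]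
        have : (y ^ H.index) ^ Nat.card H = 1 := by
          have := pow_card_eq_one' (x := (⟨y ^ H.index, hyi⟩ : H))
          exact congrArg Subtype.val this
        rw [this, one_pow]
      have hxN : x ∈ Subgroup.normalizer (H : Set M) := by
        rw [Subgroup.normalizer_eq_top]; trivial
      haveI := Fintype.ofFinite M
      obtain ⟨z, hz, c, hc, hcx, he⟩ := S1496.result H x hxN
        ((Nat.Coprime.coprime_dvd_right (orderOf_dvd_of_pow_eq_one hu) hHall).symm)
        (y ^ a * x⁻¹) hmem
      rw [inv_mul_cancel_right] at he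
      have hc1 : c = 1 := by
        have hp : (c * x) ^ H.index = 1 := by
          rw [← he, conj_pow, hord, mul_one, mul_inv_cancel]
        rw [(show Commute c x from hcx).mul_pow, hu, mul_one] at hp
        have hd1 : orderOf c ∣ Nat.card H := by
          have := orderOf_dvd_natCard (⟨c, hc⟩ : H)
          rwa [← Subgroup.orderOf_coe] at this
        exact orderOf_eq_one_iff.1
          (Nat.eq_one_of_dvd_coprimes hHall hd1 (orderOf_dvd_of_pow_eq_one hp))
      rw [hc1, one_mul] at he
      refine ⟨z * h * z⁻¹, H.mul_mem (H.mul_mem hz h.2) (H.inv_mem hz), fun e => hh (Subtype.ext ?_), ?_⟩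
      · have := congrArg (fun w => z⁻¹ * w * z) e
        simpa [mul_assoc] using this
      · have hcomm : y ^ a * h = h * y ^ a := (show Commute y h from hyh).pow_left a
        calc x * (z * h * z⁻¹) = z * y ^ a * z⁻¹ * (z * h * z⁻¹) := by rw [he]
          _ = z * (y ^ a * h) * z⁻¹ := by group
          _ = z * (h * y ^ a) * z⁻¹ := by rw [hcomm]
          _ = z * h * z⁻¹ * (z * y ^ a * z⁻¹) := by group
          _ = z * h * z⁻¹ * x := by rw [he]
    · refine ⟨x ^ H.index, ?_, hu, ((Commute.refl x).pow_right _)⟩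
      refine (QuotientGroup.eq_one_iff _).1 ?_
      show QuotientGroup.mk' H (x ^ H.index) = 1
      rw [map_pow, ← hquot, pow_card_eq_one']
  · rintro ⟨h, hh, hne, hc⟩
    obtain ⟨θ, h1, h2, h3⟩ := (Coherence.exists_fixed_irr_iff H x).2
      ⟨⟨h, hh⟩, fun e => hne (congrArg Subtype.val e), by
        rw [show MulAut.conjNormal x (⟨h, hh⟩ : H) = ⟨h, hh⟩ from Subtype.ext (by
          simp [hc])]⟩
    exact ⟨θ, h1, h2, h3⟩


end Cfsg.Agent.S1536
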