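import Cfsg.Statements.S1541
import Cfsg.Agent.PF12.Main
import Cfsg.Agent.PF12.NotAllOne
import Cfsg.Agent.PF8.PF12Glue
-- import your own Cfsg.Agent.* helpers here

set_option autoImplicit false
open Cfsg

namespace Cfsg.Agent.S1541

/-- Let G be a minimal simple group of odd order. Then some maximal subgroup of G is not of Type I. -/
theorem result {G : Type*} [Group G] [Finite G] (hG : Cfsg.IsMinSimpleOddOrder G) : ∃ M : Subgroup G, IsCoatom M ∧ ¬ Cfsg.IsOfTypeI M := by
  by_contra hno
  have hI : ∀ M : Subgroup G, IsCoatom M → Cfsg.IsOfTypeI M := fun M hM =>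
    by_contra fun h => hno ⟨M, hM, h⟩
  have hk : ∀ M : Subgroup G, IsCoatom M → Cfsg.kappa M = ∅ := fun M hM =>
    PF8.kappa_of_typeI hG M hM (hI M hM)
  have inputs : PF12.Inputs G :=
    { minSimple := hG
      data := fun M hM hκ => BGSummary.oneData hG hM hκ
      kappa_of_typeI := fun M hM h => PF8.kappa_of_typeI hG M hM h
      dade := fun M hM hκ => PF8.dade_suppA hG M hM hκ
      typeP_centralizer := fun L hL hne => absurd (hk L hL) hne.ne_empty }
  obtain ⟨M, hM, hne⟩ := PF12.exists_kappa_nonempty hG (PF12.frobenius inputs)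
  exact hne.ne_empty (hk M hM)

end Cfsg.Agent.S1541
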