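import Cfsg.Statements.S1563
import Cfsg.Agent.SporStruct.M24Counts
import Cfsg.Agent.SporStruct.Suborbit

set_option autoImplicit false
open scoped Pointwise
open Cfsg

namespace Cfsg.Agent.S1563

/-- The stabiliser of a pair of points (setwise) is a maximal proper subgroup of the group of the length-24 code. -/
theorem result (s : Finset Cfsg.GolayPt) (hs : s.card = 2) : IsCoatom (MulAction.stabilizer Cfsg.M24 s) := by
  have hmem : ∀ g : Cfsg.M24, ∀ t : Finset Cfsg.GolayPt, g • t = (g : Equiv.Perm Cfsg.GolayPt) • t :=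
    fun _ _ => rfl
  have horb : ∀ t : Finset Cfsg.GolayPt, t ∈ MulAction.orbit Cfsg.M24 s ↔ t.card = 2 := by
    intro t
    constructor
    · rintro ⟨g, rfl⟩
      simpa [hmem] using hs
    · intro ht
      obtain ⟨g, hg, h1, -⟩ := SporStruct.M24.exists_map_venn (s := s) (t := s) (s' := t) (t' := t)
        (by omega) (by omega) (by simp [hs, ht]) (by simp [hs])
      exact ⟨⟨g, hg⟩, h1⟩
  let sz : Fin 2 → ℕ := ![44, 231]
  let O : Fin 2 → Set (Finset Cfsg.GolayPt) := fun i =>
    {t | t.card = 2 ∧ (s ∩ t).card = ![1, 0] i}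
  refine SporStruct.isCoatom_stabilizer_of_suborbits s (by norm_num) O sz
    (fun i => Set.toFinite _) ?_ ?_ ?_ ?_ ?_ ?_ ?_ (by decide)
  · intro i
    fin_cases i
    · have := SporStruct.M24.card_filter_inter s 1 1
      rw [hs, Cfsg.Agent.Golay.card_golayPt] at this
      exact this
    · have := SporStruct.M24.card_filter_inter s 0 2
      rw [hs, Cfsg.Agent.Golay.card_golayPt] at this
      exact this
  · decide
  · intro i j hij
    rw [Set.disjoint_left]
    rintro t ⟨-, h1⟩ ⟨-, h2⟩
    apply hij
    fin_cases i <;> fin_cases j <;> simp_all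
  · intro i h
    have h2 : (s ∩ s).card = ![1, 0] i := h.2
    rw [Finset.inter_self, hs] at h2
    fin_cases i <;> simp_all
  · intro i t ht
    exact (horb t).2 ht.1
  · intro t ht
    rw [horb] at ht
    have hle : (s ∩ t).card ≤ 2 := hs ▸ Finset.card_le_card Finset.inter_subset_left
    rcases (by omega : (s ∩ t).card = 0 ∨ (s ∩ t).card = 1 ∨ (s ∩ t).card = 2) with h | h | h
    · exact Or.inr ⟨1, ht, h⟩
    · exact Or.inr ⟨0, ht, h⟩
    · have e1 := Finset.eq_of_subset_of_card_le (s := s ∩ t) (t := s) Finset.inter_subset_left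
        (by omega)
      have e2 := Finset.eq_of_subset_of_card_le (s := s ∩ t) (t := t) Finset.inter_subset_right
        (by omega)
      exact Or.inl (e2.symm.trans e1)
  · intro i y hy z hz
    obtain ⟨g, hg, h1, h2⟩ := SporStruct.M24.exists_map_venn (s := s) (t := y) (s' := s) (t' := z)
      rfl (hy.1.trans hz.1.symm) (hy.2.trans hz.2.symm)
      (by have := Finset.card_union_le s y; have := hy.1; omega)
    exact ⟨⟨g, hg⟩, h1, h2⟩

end Cfsg.Agent.S1563
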