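import Cfsg.Statements.S1564
import Cfsg.Agent.SporStruct.M24Counts
import Cfsg.Agent.SporStruct.Suborbit

set_option autoImplicit false
open scoped Pointwise
open Cfsg

namespace Cfsg.Agent.S1564

/-- The stabiliser of a set of three points (setwise) is a maximal proper subgroup of the group of the length-24 code. -/
theorem result (s : Finset Cfsg.GolayPt) (hs : s.card = 3) : IsCoatom (MulAction.stabilizer Cfsg.M24 s) := by
  have hmem : ∀ g : Cfsg.M24, ∀ t : Finset Cfsg.GolayPt, g • t = (g : Equiv.Perm Cfsg.GolayPt) • t :=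
    fun _ _ => rfl
  have horb : ∀ t : Finset Cfsg.GolayPt, t ∈ MulAction.orbit Cfsg.M24 s ↔ t.card = 3 := by
    intro t
    constructor
    · rintro ⟨g, rfl⟩
      simpa [hmem] using hs
    · intro ht
      obtain ⟨g, hg, h1, -⟩ := SporStruct.M24.exists_map_venn (s := s) (t := s) (s' := t) (t' := t)
        (by omega) (by omega) (by simp [hs, ht]) (by simp [hs])
      exact ⟨⟨g, hg⟩, h1⟩
  let P : Fin 4 → Finset Cfsg.GolayPt → Prop :=
    ![fun t => (s ∩ t).card = 2, fun t => (s ∩ t).card = 1,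
      fun t => Disjoint s t ∧ ∃ o ∈ Cfsg.octads, s ∪ t ⊆ o,
      fun t => Disjoint s t ∧ ¬ ∃ o ∈ Cfsg.octads, s ∪ t ⊆ o]
  let sz : Fin 4 → ℕ := ![63, 630, 210, 1120]
  let O : Fin 4 → Set (Finset Cfsg.GolayPt) := fun i => {t | t.card = 3 ∧ P i t}
  refine SporStruct.isCoatom_stabilizer_of_suborbits s (by norm_num) O sz
    (fun i => Set.toFinite _) ?_ ?_ ?_ ?_ ?_ ?_ ?_ (by decide)
  · intro i
    fin_cases i
    · have := SporStruct.M24.card_filter_inter s 2 1
      rw [hs, Cfsg.Agent.Golay.card_golayPt] at this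
      exact this
    · have := SporStruct.M24.card_filter_inter s 1 2
      rw [hs, Cfsg.Agent.Golay.card_golayPt] at this
      exact this
    · exact SporStruct.M24.card_triads_in_octad hs
    · exact SporStruct.M24.card_triads_out hs
  · decide
  · intro i j hij
    rw [Set.disjoint_left]
    rintro t ⟨-, h1⟩ ⟨-, h2⟩
    apply hij
    fin_cases i <;> fin_cases j <;>
      simp [P, Finset.disjoint_iff_inter_eq_empty, ← Finset.card_eq_zero] at h1 h2 ⊢ <;>
      first
        | omega
        | (exact absurd h1.2 (by simpa using h2.2))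
        | (obtain ⟨o, ho, ho'⟩ := h1.2; exact h2.2 o ho ho')
        | (obtain ⟨o, ho, ho'⟩ := h2.2; exact h1.2 o ho ho')
  · intro i h
    have h2 : P i s := h.2
    fin_cases i <;>
      simp [P, hs, Finset.disjoint_iff_inter_eq_empty, ← Finset.card_eq_zero] at h2
  · intro i t ht
    exact (horb t).2 ht.1
  · intro t ht
    rw [horb] at ht
    have hle : (s ∩ t).card ≤ 3 := hs ▸ Finset.card_le_card Finset.inter_subset_left
    rcases (by omega : (s ∩ t).card = 0 ∨ (s ∩ t).card = 1 ∨ (s ∩ t).card = 2 ∨ (s ∩ t).card = 3)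
      with h | h | h | h
    · have hd : Disjoint s t := Finset.disjoint_iff_inter_eq_empty.2 (Finset.card_eq_zero.1 h)
      by_cases ho : ∃ o ∈ Cfsg.octads, s ∪ t ⊆ o
      · exact Or.inr ⟨2, ht, hd, ho⟩
      · exact Or.inr ⟨3, ht, hd, ho⟩
    · exact Or.inr ⟨1, ht, h⟩
    · exact Or.inr ⟨0, ht, h⟩
    · have e1 := Finset.eq_of_subset_of_card_le (s := s ∩ t) (t := s) Finset.inter_subset_left
        (by omega)
      have e2 := Finset.eq_of_subset_of_card_le (s := s ∩ t) (t := t) Finset.inter_subset_right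
        (by omega)
      exact Or.inl (e2.symm.trans e1)
  · intro i y hy z hz
    have hP : P i y ∧ P i z := ⟨hy.2, hz.2⟩
    have hu := Finset.card_union_add_card_inter s y
    have hyc : y.card = 3 := hy.1
    fin_cases i
    · obtain ⟨g, hg, h1, h2⟩ := SporStruct.M24.exists_map_venn (s := s) (t := y) (s' := s) (t' := z)
        rfl (hy.1.trans hz.1.symm) (hP.1.trans hP.2.symm) (by have h2' := hP.1; simp [P] at h2'; omega)
      exact ⟨⟨g, hg⟩, h1, h2⟩
    · obtain ⟨g, hg, h1, h2⟩ := SporStruct.M24.exists_map_venn (s := s) (t := y) (s' := s) (t' := z)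
        rfl (hy.1.trans hz.1.symm) (hP.1.trans hP.2.symm) (by have h2' := hP.1; simp [P] at h2'; omega)
      exact ⟨⟨g, hg⟩, h1, h2⟩
    · obtain ⟨g, hg, h1, h2⟩ := SporStruct.M24.triad_orbits hs hs hy.1 hz.1 hP.1.1 hP.2.1
        ⟨fun _ => hP.2.2, fun _ => hP.1.2⟩
      exact ⟨⟨g, hg⟩, h1, h2⟩
    · obtain ⟨g, hg, h1, h2⟩ := SporStruct.M24.triad_orbits hs hs hy.1 hz.1 hP.1.1 hP.2.1
        ⟨fun h => absurd h hP.1.2, fun h => absurd h hP.2.2⟩
      exact ⟨⟨g, hg⟩, h1, h2⟩

end Cfsg.Agent.S1564
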