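import Cfsg.Statements.S1565
import Cfsg.Agent.SporStruct.M24Classes
import Cfsg.Agent.SporStruct.Suborbit

set_option autoImplicit false
open scoped Pointwise
open Cfsg

namespace Cfsg.Agent.S1565

/-- The stabiliser of an octad is a maximal proper subgroup of the group of the length-24 code. -/
theorem result (o : Finset Cfsg.GolayPt) (ho : o ∈ Cfsg.octads) : IsCoatom (MulAction.stabilizer Cfsg.M24 o) := by
  have horb : ∀ t : Finset Cfsg.GolayPt, t ∈ MulAction.orbit Cfsg.M24 o ↔ t ∈ Cfsg.octads := by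
    intro t
    constructor
    · rintro ⟨g, rfl⟩; exact Cfsg.Agent.Golay.smul_mem_octads g.2 ho
    · intro ht
      obtain ⟨g, hg, h1⟩ := Cfsg.Agent.Golay.octad_transitive ho ht
      exact ⟨⟨g, hg⟩, h1⟩
  let sz : Fin 3 → ℕ := ![30, 448, 280]
  let O : Fin 3 → Set (Finset Cfsg.GolayPt) := fun i =>
    {t | t ∈ Cfsg.octads ∧ (o ∩ t).card = ![0, 2, 4] i}
  obtain ⟨c, hc, hco⟩ := SporStruct.M24.exists_base_octad ho
  refine SporStruct.isCoatom_stabilizer_of_suborbits o (by norm_num) O sz
    (fun i => Set.toFinite _) ?_ ?_ ?_ ?_ ?_ ?_ ?_ (by decide)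
  · intro i
    subst hco
    fin_cases i
    · exact (SporStruct.M24.ncard_class_smul hc 8536111 8 0).trans SporStruct.M24.classCount_values.1
    · exact (SporStruct.M24.ncard_class_smul hc 8536111 8 2).trans SporStruct.M24.classCount_values.2.1
    · exact (SporStruct.M24.ncard_class_smul hc 8536111 8 4).trans SporStruct.M24.classCount_values.2.2.1
  · decide
  · intro i j hij
    rw [Set.disjoint_left]
    rintro t ⟨-, h1⟩ ⟨-, h2⟩
    apply hij
    fin_cases i <;> fin_cases j <;> simp_all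
  · intro i h
    have h2 : (o ∩ o).card = ![0, 2, 4] i := h.2
    rw [Finset.inter_self, Cfsg.Agent.Golay.card_of_mem_octads ho] at h2
    fin_cases i <;> simp_all
  · intro i t ht
    exact (horb t).2 ht.1
  · intro t ht
    rw [horb] at ht
    rcases SporStruct.M24.octad_inter_card ho ht with e | e | e | e
    · exact Or.inr ⟨0, ht, e⟩
    · exact Or.inr ⟨1, ht, e⟩
    · exact Or.inr ⟨2, ht, e⟩
    · exact Or.inl e
  · intro i y hy z hz
    obtain ⟨g, hg, h1, h2⟩ := SporStruct.M24.octad_suborbit ho hy.1 hz.1 (hy.2.trans hz.2.symm)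
    exact ⟨⟨g, hg⟩, h1, h2⟩

end Cfsg.Agent.S1565
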