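import Cfsg.Statements.S1566
import Cfsg.Agent.SporStruct.M24Classes
import Cfsg.Agent.SporStruct.Suborbit

set_option autoImplicit false
open scoped Pointwise
open Cfsg

namespace Cfsg.Agent.S1566

/-- The setwise stabiliser of a dodecad together with its complement is a maximal proper subgroup of the group of the length-24 code. -/
theorem result (d : Finset Cfsg.GolayPt) (hd : d ∈ Cfsg.dodecads) : IsCoatom (MulAction.stabilizer Cfsg.M24 ({d, dᶜ} : Finset (Finset Cfsg.GolayPt))) := by
  set pr : Finset Cfsg.GolayPt → Finset (Finset Cfsg.GolayPt) := fun e => {e, eᶜ} with hpr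
  have hsmul : ∀ (g : Equiv.Perm Cfsg.GolayPt) (e : Finset Cfsg.GolayPt), g • pr e = pr (g • e) := by
    intro g e
    have hc' : g • eᶜ = (g • e)ᶜ := by
      ext x
      simp [Finset.mem_compl, ← Finset.inv_smul_mem_iff]
    rw [hpr]
    simp only [Finset.smul_finset_insert, Finset.smul_finset_singleton, hc']
  have heq : ∀ e e' : Finset Cfsg.GolayPt, pr e = pr e' → e = e' ∨ e = e'ᶜ := by
    intro e e' h
    have : e ∈ pr e' := h ▸ Finset.mem_insert_self e {eᶜ}
    simpa [hpr] using this
  have hdc := Cfsg.Agent.Golay.card_of_mem_dodecads hd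
  have horb : ∀ P : Finset (Finset Cfsg.GolayPt),
      P ∈ MulAction.orbit Cfsg.M24 (pr d) ↔ ∃ e ∈ Cfsg.dodecads, pr e = P := by
    intro P
    constructor
    · rintro ⟨g, rfl⟩
      exact ⟨(g : Equiv.Perm Cfsg.GolayPt) • d, Cfsg.Agent.Golay.smul_mem_dodecads g.2 hd,
        (hsmul _ _).symm⟩
    · rintro ⟨e, he, rfl⟩
      obtain ⟨g, hg, hge⟩ := Cfsg.Agent.Golay.dodecad_transitive hd he
      exact ⟨⟨g, hg⟩, (hsmul g d).trans (congrArg pr hge)⟩
  let sz : Fin 2 → ℕ := ![495, 792]
  let S : Fin 2 → Set (Finset Cfsg.GolayPt) := fun i =>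
    {e | e ∈ Cfsg.dodecads ∧ (d ∩ e).card = ![4, 6] i}
  let O : Fin 2 → Set (Finset (Finset Cfsg.GolayPt)) := fun i => pr '' S i
  obtain ⟨c, hc, hcd⟩ := SporStruct.M24.exists_base_dodecad hd
  refine SporStruct.isCoatom_stabilizer_of_suborbits (pr d) (by norm_num) O sz
    (fun i => Set.toFinite _) ?_ ?_ ?_ ?_ ?_ ?_ ?_ (by decide)
  · intro i
    fin_cases i
    · show (pr '' S 0).ncard = 495
      rw [Set.InjOn.ncard_image]
      · subst hcd
        exact (SporStruct.M24.ncard_class_smul hc 8245261 12 4).trans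
          SporStruct.M24.classCount_values.2.2.2.1
      · rintro e ⟨he, he4⟩ e' ⟨he', he4'⟩ h
        rcases heq e e' h with rfl | rfl
        · rfl
        · have := SporStruct.M24.inter_compl_card (d' := e') hdc
          simp at he4 he4'
          omega
    · show (pr '' S 1).ncard = 792
      classical
      have hS : (S 1).ncard = 1584 := by
        subst hcd
        exact (SporStruct.M24.ncard_class_smul hc 8245261 12 6).trans
          SporStruct.M24.classCount_values.2.2.2.2.1
      have hfib : ∀ P ∈ (Set.toFinite (S 1)).toFinset.image pr,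
          ((Set.toFinite (S 1)).toFinset.filter fun e => pr e = P).card = 2 := by
        intro P hP
        obtain ⟨e, he, rfl⟩ := Finset.mem_image.1 hP
        rw [Set.Finite.mem_toFinset] at he
        have hne : e ≠ eᶜ := by
          intro h
          obtain ⟨x, hx⟩ : e.Nonempty := Finset.card_pos.1
            (by rw [Cfsg.Agent.Golay.card_of_mem_dodecads he.1]; norm_num)
          exact Finset.mem_compl.1 (h ▸ hx) hx
        have hec : eᶜ ∈ S 1 := by
          refine ⟨SporStruct.M24.compl_mem_dodecads he.1, ?_⟩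
          have := SporStruct.M24.inter_compl_card (d' := e) hdc
          have h6 : (d ∩ e).card = 6 := he.2
          show (d ∩ eᶜ).card = 6
          omega
        refine (congrArg Finset.card ?_).trans (Finset.card_pair hne)
        ext e'
        simp only [Finset.mem_filter, Set.Finite.mem_toFinset, Finset.mem_insert, Finset.mem_singleton]
        constructor
        · exact fun h => heq e' e h.2
        · rintro (rfl | rfl)
          · exact ⟨he, rfl⟩
          · exact ⟨hec, by simp [hpr, compl_compl, Finset.pair_comm]⟩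
      have hsum := Finset.card_eq_sum_card_image pr (Set.toFinite (S 1)).toFinset
      rw [Finset.sum_congr rfl hfib, Finset.sum_const, smul_eq_mul,
        ← Set.ncard_eq_toFinset_card _ (Set.toFinite (S 1)), hS] at hsum
      have : (pr '' S 1).ncard = ((Set.toFinite (S 1)).toFinset.image pr).card := by
        rw [← Set.ncard_coe_finset, Finset.coe_image, Set.Finite.coe_toFinset]
      omega
  · decide
  · intro i j hij
    rw [Set.disjoint_left]
    rintro P ⟨e, he, rfl⟩ ⟨e', he', h⟩
    apply hij
    have h1 : (d ∩ e).card = ![4, 6] i := he.2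
    have h2 : (d ∩ e').card = ![4, 6] j := he'.2
    have := SporStruct.M24.inter_compl_card (d' := e) hdc
    rcases heq e' e h with rfl | rfl
    · fin_cases i <;> fin_cases j <;> simp_all
    · fin_cases i <;> fin_cases j <;> simp at h1 h2 ⊢ <;> omega
  · rintro i ⟨e, he, h⟩
    have h1 : (d ∩ e).card = ![4, 6] i := he.2
    rcases heq e d h with rfl | rfl
    · rw [Finset.inter_self, hdc] at h1
      fin_cases i <;> simp at h1
    · rw [Finset.inter_compl, Finset.card_empty] at h1
      fin_cases i <;> simp at h1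
  · rintro i P ⟨e, he, rfl⟩
    exact (horb _).2 ⟨e, he.1, rfl⟩
  · intro P hP
    obtain ⟨e, he, rfl⟩ := (horb P).1 hP
    have hcompl := SporStruct.M24.inter_compl_card (d' := e) hdc
    rcases SporStruct.M24.dodecad_inter_card hd he with h | h | h | h | h
    · left
      have : e = dᶜ := by
        refine Finset.eq_of_subset_of_card_le (fun x hx => Finset.mem_compl.2 fun hxd => ?_)
          (by rw [Finset.card_compl, Cfsg.Agent.Golay.card_golayPt, hdc,
            Cfsg.Agent.Golay.card_of_mem_dodecads he])
        exact Finset.notMem_empty x (Finset.card_eq_zero.1 h ▸ Finset.mem_inter.2 ⟨hxd, hx⟩)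
      rw [this, hpr]
      simp [Finset.pair_comm]
    · exact Or.inr ⟨0, e, ⟨he, h⟩, rfl⟩
    · exact Or.inr ⟨1, e, ⟨he, h⟩, rfl⟩
    · refine Or.inr ⟨0, eᶜ, ⟨SporStruct.M24.compl_mem_dodecads he, ?_⟩, ?_⟩
      · show (d ∩ eᶜ).card = 4
        omega
      · simp [hpr, compl_compl, Finset.pair_comm]
    · exact Or.inl (by rw [h])
  · rintro i _ ⟨e, he, rfl⟩ _ ⟨e', he', rfl⟩
    obtain ⟨g, hg, h1, h2⟩ :=
      SporStruct.M24.dodecad_suborbit hd he.1 he'.1 (he.2.trans he'.2.symm)
    exact ⟨⟨g, hg⟩, (hsmul g d).trans (congrArg pr h1), (hsmul g e).trans (congrArg pr h2)⟩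

end Cfsg.Agent.S1566
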