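import Cfsg.Statements.S1590
import Cfsg.Agent.SporStruct.Ternary

set_option autoImplicit false
open Cfsg

namespace Cfsg.Agent.S1590

/-- The length-12 ternary code has 729 words with weight distribution 0^1 6^264 9^440 12^24. -/
theorem result : Nat.card ↥Cfsg.ternaryGolayCode = 729 ∧ (∀ x ∈ Cfsg.ternaryGolayCode, x ≠ 0 → (Cfsg.ternarySupport x).card = 6 ∨ (Cfsg.ternarySupport x).card = 9 ∨ (Cfsg.ternarySupport x).card = 12) ∧ {x : Cfsg.ArrayPt → ZMod 3 | x ∈ Cfsg.ternaryGolayCode ∧ (Cfsg.ternarySupport x).card = 6}.ncard = 264 ∧ {x : Cfsg.ArrayPt → ZMod 3 | x ∈ Cfsg.ternaryGolayCode ∧ (Cfsg.ternarySupport x).card = 9}.ncard = 440 ∧ {x : Cfsg.ArrayPt → ZMod 3 | x ∈ Cfsg.ternaryGolayCode ∧ (Cfsg.ternarySupport x).card = 12}.ncard = 24 := by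
  refine ⟨?_, fun x hx hx0 => ?_, ?_, ?_, ?_⟩
  · rw [← Nat.card_congr SporStruct.Ternary.codeEquiv, Nat.card_eq_fintype_card, Fintype.card_fun,
      ZMod.card, Fintype.card_fin]
    norm_num
  · obtain ⟨a, rfl⟩ := (SporStruct.Ternary.mem_code_iff x).mp hx
    refine SporStruct.Ternary.encode_weights a fun ha => hx0 ?_
    rw [ha, SporStruct.Ternary.encode_eq_sum]; simp
  all_goals rw [SporStruct.Ternary.ncard_weight]; decide +kernel

end Cfsg.Agent.S1590
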