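import Cfsg.Statements.S1595
import Cfsg.Agent.SporStruct.SteinerCount

set_option autoImplicit false
open Cfsg

namespace Cfsg.Agent.S1595

/-- Leech triangle of S(5, 6, 12): blocks meet in 0, 2, 3 or 4 points, and a block is met exactly in a given 2-, 3- or 4-subset by 3, 2, 3 blocks respectively. -/
theorem result {α : Type*} [Fintype α] [DecidableEq α] (hα : Fintype.card α = 12) {B : Set (Finset α)} (hB : Cfsg.IsSteinerSystem 5 6 B) (b : Finset α) (hb : b ∈ B) : (∀ c ∈ B, c ≠ b → (b ∩ c).card = 0 ∨ (b ∩ c).card = 2 ∨ (b ∩ c).card = 3 ∨ (b ∩ c).card = 4) ∧ ∀ s ⊆ b, (s.card = 2 → {c : Finset α | c ∈ B ∧ b ∩ c = s}.ncard = 3) ∧ (s.card = 3 → {c : Finset α | c ∈ B ∧ b ∩ c = s}.ncard = 2) ∧ (s.card = 4 → {c : Finset α | c ∈ B ∧ b ∩ c = s}.ncard = 3) := by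
  have key : ∀ s ⊆ b, {c : Finset α | c ∈ B ∧ b ∩ c = s}.ncard = [1, 0, 3, 2, 3, 0, 1].getD s.card 0 := by
    intro s hs
    rw [← SporStruct.trace_five_six_twelve hα hB hb hs, ← Set.ncard_coe_finset]
    congr 1
    ext c; simp [SporStruct.mem_blocksTrace]
  refine ⟨fun c hc hne => ?_, fun s hs => ⟨fun h => ?_, fun h => ?_, fun h => ?_⟩⟩
  · have hk := key (b ∩ c) Finset.inter_subset_left
    have hpos : 0 < {d : Finset α | d ∈ B ∧ b ∩ d = b ∩ c}.ncard :=
      (Set.ncard_pos (Set.toFinite _)).mpr ⟨c, hc, rfl⟩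
    have hle : (b ∩ c).card ≤ 6 := (Finset.card_le_card Finset.inter_subset_left).trans (hB.1 b hb).le
    have h6 : (b ∩ c).card ≠ 6 := by
      intro h6
      have e1 := Finset.eq_of_subset_of_card_le (s := b ∩ c) (t := b) Finset.inter_subset_left
        (by rw [hB.1 b hb, h6])
      have e2 := Finset.eq_of_subset_of_card_le (s := b ∩ c) (t := c) Finset.inter_subset_right
        (by rw [hB.1 c hc, h6])
      exact hne (e2.symm.trans e1)
    rw [hk] at hpos
    generalize (b ∩ c).card = i at hpos hle h6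
    interval_cases i <;> simp at hpos h6 ⊢
  all_goals rw [key s hs, h]; rfl

end Cfsg.Agent.S1595
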