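import Cfsg.Statements.S1602
import Cfsg.Agent.Lib.Golay.M12
-- import your own Cfsg.Agent.* helpers here

set_option autoImplicit false
open scoped Pointwise
open Cfsg

namespace Cfsg.Agent.S1602

open Cfsg.Agent.Golay
open scoped Pointwise

/-- The five points permuted by the base pair stabiliser. -/
def five : Fin 5 → GolayPt := fun i => pt ([2, 6, 18, 8, 3].getD i.val 0)

/-- An element inducing a 5-cycle. -/
def cycT : List ℕ := [0, 9, 6, 2, 4, 5, 18, 7, 3, 13, 15, 14, 16, 12, 20, 11, 1, 21, 8, 22, 10, 19, 23, 17]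

/-- An element inducing a transposition. -/
def swpT : List ℕ := [0, 4, 6, 3, 1, 7, 2, 5, 8, 13, 21, 19, 16, 9, 14, 15, 12, 22, 18, 11, 20, 10, 17, 23]

theorem tab_facts :
    ok11 cycT = true ∧ ok11 swpT = true ∧
    (∀ i : Fin 5, cycT.getD ([2, 6, 18, 8, 3].getD i.val 0) 0 = [2, 6, 18, 8, 3].getD (finRotate 5 i).val 0) ∧
    (∀ i : Fin 5, swpT.getD ([2, 6, 18, 8, 3].getD i.val 0) 0 =
      [2, 6, 18, 8, 3].getD (Equiv.swap (0 : Fin 5) 1 i).val 0) ∧
    (cycT.getD 5 0 = 5 ∧ cycT.getD 7 0 = 7) ∧ (swpT.getD 5 0 = 7 ∧ swpT.getD 7 0 = 5) ∧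
    (∀ i : Fin 5, [2, 6, 18, 8, 3].getD i.val 0 < 24) := by
  decide +kernel

theorem five_facts' : (∀ i, five i ∈ Spor.squareDodecad) ∧ Function.Injective five ∧
    (∀ i, five i ≠ some 0) ∧ pt 5 ≠ pt 7 := by
  refine ⟨fun i => mem_D_iff.2 ?_, ?_, ?_, by decide +kernel⟩
  · revert i; decide +kernel
  · decide +kernel
  · decide +kernel

/-- The base pair. -/
def basePair : Finset GolayPt := {pt 5, pt 7}

/-- The elements of M₁₁ permuting the five points and the pair. -/
def Hgrp : Subgroup (Equiv.Perm GolayPt) :=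
  Spor.M11 ⊓ MulAction.stabilizer (Equiv.Perm GolayPt) basePair ⊓
    MulAction.stabilizer (Equiv.Perm GolayPt) (Finset.univ.image five)

theorem mem_five {g : Equiv.Perm GolayPt} (hg : g ∈ Hgrp) (i : Fin 5) : ∃ j, g (five i) = five j := by
  have h : g • five i ∈ g • Finset.univ.image five :=
    Finset.smul_mem_smul_finset (Finset.mem_image_of_mem five (Finset.mem_univ i))
  rw [MulAction.mem_stabilizer_iff.1 hg.2] at h
  obtain ⟨j, -, hj⟩ := Finset.mem_image.1 h
  exact ⟨j, hj.symm⟩

/-- The induced permutation. -/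
noncomputable def indF (g : Hgrp) (i : Fin 5) : Fin 5 := (mem_five g.2 i).choose

theorem indF_spec (g : Hgrp) (i : Fin 5) : g.1 (five i) = five (indF g i) := (mem_five g.2 i).choose_spec

/-- The action on the five points. -/
noncomputable def indHom : Hgrp →* Equiv.Perm (Fin 5) :=
  MonoidHom.toHomPerm
    { toFun := fun g => indF g
      map_one' := funext fun i => five_facts'.2.1 (indF_spec 1 i).symm
      map_mul' := fun g h => funext fun i => five_facts'.2.1 (by
        show five (indF (g * h) i) = five (indF g (indF h i))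
        rw [← indF_spec, ← indF_spec, ← indF_spec]
        rfl) }

theorem indHom_apply (g : Hgrp) (i : Fin 5) : g.1 (five i) = five (indHom g i) := indF_spec g i

theorem indHom_injective : Function.Injective indHom := by
  rw [injective_iff_map_eq_one]
  intro g hg
  obtain ⟨hM12, h0⟩ := mem_M11_iff.1 g.2.1.1
  have hfix : ∀ i, g.1 (five i) = five i := fun i => by rw [indHom_apply, hg]; rfl
  refine Subtype.ext (eq12_of_five hM12 Spor.M12.one_mem (s := Finset.univ.image five) (fun x hx => ?_) ?_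
    fun x hx => ?_)
  · obtain ⟨i, -, rfl⟩ := Finset.mem_image.1 hx
    exact five_facts'.1 i
  · rw [Finset.card_image_of_injective _ five_facts'.2.1, Finset.card_univ, Fintype.card_fin]
  · obtain ⟨i, -, rfl⟩ := Finset.mem_image.1 hx
    exact hfix i

theorem five_surjective : Function.Surjective indHom := by
  obtain ⟨hc, hs, hce, hse, ⟨hc5, hc7⟩, ⟨hs5, hs7⟩, hlt⟩ := tab_facts
  have key : ∀ (T : List ℕ) (π : Equiv.Perm (Fin 5)), ok11 T = true →
      (∀ i : Fin 5, T.getD ([2, 6, 18, 8, 3].getD i.val 0) 0 = [2, 6, 18, 8, 3].getD (π i).val 0) →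
      (({pt (T.getD 5 0), pt (T.getD 7 0)} : Finset GolayPt) = basePair) → ∃ h : Hgrp, indHom h = π := by
    intro T π hT hπ hpair
    obtain ⟨g, hg, tg⟩ := exists_M11 hT
    have hgi : ∀ i, g (five i) = five (π i) := fun i => tg.apply_pt (hlt i) (hπ i)
    have hmem : g ∈ Hgrp := by
      refine ⟨⟨hg, ?_⟩, ?_⟩
      · show g • basePair = basePair
        rw [basePair, Finset.smul_finset_insert, Finset.smul_finset_singleton, Equiv.Perm.smul_def,
          Equiv.Perm.smul_def, tg.apply_pt (by norm_num) rfl, tg.apply_pt (by norm_num) rfl, hpair]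
        rfl
      · show g • Finset.univ.image five = Finset.univ.image five
        refine Finset.eq_of_subset_of_card_le (fun x hx => ?_) (Finset.card_smul_finset _ _).ge
        obtain ⟨y, hy, rfl⟩ := Finset.mem_smul_finset.1 hx
        obtain ⟨i, -, rfl⟩ := Finset.mem_image.1 hy
        exact Finset.mem_image.2 ⟨π i, Finset.mem_univ _, (hgi i).symm⟩
    refine ⟨⟨g, hmem⟩, Equiv.ext fun i => five_facts'.2.1 ?_⟩
    rw [← indHom_apply]
    exact hgi i
  obtain ⟨a, ha⟩ := key cycT (finRotate 5) hc hce (by rw [hc5, hc7]; rfl)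
  obtain ⟨b, hb⟩ := key swpT (Equiv.swap 0 1) hs hse (by rw [hs5, hs7, basePair, Finset.pair_comm])
  have htop : indHom.range = ⊤ := by
    have h := Equiv.Perm.closure_cycle_adjacent_swap (isCycle_finRotate (n := 3))
      (support_finRotate (n := 3)) (0 : Fin 5)
    rw [eq_top_iff, ← h, Subgroup.closure_le]
    rintro x (rfl | rfl)
    · exact ⟨a, ha⟩
    · exact ⟨b, hb⟩
  exact MonoidHom.range_eq_top.1 htop

/-- The whole pair stabiliser in M₁₁. -/
def Kgrp : Subgroup (Equiv.Perm GolayPt) :=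
  Spor.M11 ⊓ MulAction.stabilizer (Equiv.Perm GolayPt) basePair

theorem card_Kgrp_le : Nat.card Kgrp ≤ 120 := by
  have h5 : pt 5 ∉ Spor.squareDodecad := fun h => absurd (mem_D_iff.1 h) (by decide +kernel)
  have h7 : pt 7 ∉ Spor.squareDodecad := fun h => absurd (mem_D_iff.1 h) (by decide +kernel)
  have horb : ((Finset.univ \ Spor.squareDodecad).powersetCard 2 : Set (Finset GolayPt)) ⊆
      MulAction.orbit Spor.M11 basePair := by
    intro s hs
    rw [Finset.mem_coe, Finset.mem_powersetCard, Finset.card_eq_two] at hs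
    obtain ⟨hsub, x, y, hxy, rfl⟩ := hs
    have hx := (Finset.mem_sdiff.1 (hsub (Finset.mem_insert_self x {y}))).2
    have hy := (Finset.mem_sdiff.1 (hsub (Finset.mem_insert_of_mem (Finset.mem_singleton_self y)))).2
    obtain ⟨g, hg, h1, h2⟩ : ∃ g ∈ Spor.M11, g (pt 5) = x ∧ g (pt 7) = y := by
      obtain ⟨z, hz⟩ : ((Finset.univ \ Spor.squareDodecad) \ {x, y}).Nonempty := by
        rw [← Finset.card_pos, Finset.card_sdiff_of_subset hsub,
          Finset.card_sdiff_of_subset (Finset.subset_univ _), card_squareDodecad, Finset.card_pair hxy,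
          show (Finset.univ : Finset GolayPt).card = 24 by decide +kernel]
        norm_num
      simp only [Finset.mem_sdiff, Finset.mem_univ, true_and, Finset.mem_insert, Finset.mem_singleton,
        not_or] at hz
      obtain ⟨g, hg, hgi⟩ := exists_mapC' ![pt 5, pt 7, pt 10] ![x, y, z] (by decide +kernel)
        (by
          intro i j
          fin_cases i <;> fin_cases j <;> simp [hxy, Ne.symm hxy, hz.2.1, hz.2.2, Ne.symm hz.2.1, Ne.symm hz.2.2])
        (fun i h => absurd (mem_D_iff.1 h) (by revert i; decide +kernel))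
        (fun i => by fin_cases i <;> simp [hx, hy, hz.1])
      exact ⟨g, hg, hgi 0, hgi 1⟩
    refine ⟨⟨g, hg⟩, ?_⟩
    show g • basePair = {x, y}
    rw [basePair, Finset.smul_finset_insert, Finset.smul_finset_singleton, Equiv.Perm.smul_def,
      Equiv.Perm.smul_def, h1, h2]
  have h66 : 66 ≤ Nat.card (MulAction.orbit Spor.M11 basePair) := by
    have h := Set.ncard_le_ncard horb (Set.toFinite _)
    rw [Set.ncard_coe_finset, Finset.card_powersetCard,
      Finset.card_sdiff_of_subset (Finset.subset_univ _), card_squareDodecad] at h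
    rw [Nat.card_coe_set_eq]
    have h24 : (Finset.univ : Finset GolayPt).card = 24 := by decide +kernel
    rw [h24] at h
    exact le_trans (by decide) h
  have hstab := (MulAction.stabilizer Spor.M11 basePair).card_mul_index
  rw [card_M11, MulAction.index_stabilizer] at hstab
  rw [Nat.card_coe_set_eq] at h66
  have hK : Nat.card Kgrp = Nat.card (MulAction.stabilizer Spor.M11 basePair) :=
    Nat.card_congr ⟨fun g => ⟨⟨g.1, g.2.1⟩, g.2.2⟩, fun g => ⟨g.1.1, g.1.2, g.2⟩, fun g => rfl, fun g => rfl⟩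
  rw [hK]
  have := Nat.mul_le_mul_left (Nat.card (MulAction.stabilizer Spor.M11 basePair)) h66
  rw [hstab] at this
  omega

theorem kgrp_equiv : Nonempty (Kgrp ≃* Equiv.Perm (Fin 5)) := by
  have e : Hgrp ≃* Equiv.Perm (Fin 5) := MulEquiv.ofBijective indHom ⟨indHom_injective, five_surjective⟩
  have hc : Nat.card Hgrp = 120 := by
    rw [Nat.card_congr e.toEquiv, Nat.card_perm, Nat.card_fin]; rfl
  have hle : Hgrp ≤ Kgrp := inf_le_left
  have hHK : Hgrp = Kgrp := Subgroup.eq_of_le_of_card_ge hle (hc ▸ card_Kgrp_le)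
  exact ⟨hHK ▸ e⟩

/-- In the 12-point action of the smallest Mathieu group the setwise stabiliser of a pair is isomorphic to the symmetric group of degree 5. -/
theorem result (d : Finset Cfsg.GolayPt) (hd : d ∈ Cfsg.dodecads) (p q q' : Cfsg.GolayPt) (hp : p ∈ d) (hq : q ∉ d) (hq' : q' ∉ d) (hqq' : q ≠ q') : Nonempty (↥(MulAction.stabilizer Cfsg.M24 d ⊓ MulAction.stabilizer Cfsg.M24 p ⊓ MulAction.stabilizer Cfsg.M24 ({q, q'} : Finset Cfsg.GolayPt)) ≃* Equiv.Perm (Fin 5)) := by
  obtain ⟨a, ha, had, hap⟩ := exists_conj11 hd hp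
  have hout : ∀ r, r ∉ d → a⁻¹ r ∉ Spor.squareDodecad := fun r hr h => hr (by
    rw [← had, ← Finset.inv_smul_mem_iff]
    exact h)
  obtain ⟨z, hz⟩ : ∃ z, z ∉ Spor.squareDodecad ∧ z ≠ a⁻¹ q ∧ z ≠ a⁻¹ q' := by
    by_contra hne
    push Not at hne
    have hsub : Finset.univ \ Spor.squareDodecad ⊆ {a⁻¹ q, a⁻¹ q'} := fun z hz => by
      rw [Finset.mem_sdiff] at hz
      rw [Finset.mem_insert, Finset.mem_singleton]
      by_cases h : z = a⁻¹ q
      · exact Or.inl h
      · exact Or.inr (hne z hz.2 h)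
    have h := (Finset.card_le_card hsub).trans Finset.card_le_two
    rw [Finset.card_sdiff_of_subset (Finset.subset_univ _), card_squareDodecad,
      show (Finset.univ : Finset GolayPt).card = 24 by decide +kernel] at h
    omega
  have hne : a⁻¹ q ≠ a⁻¹ q' := fun h => hqq' (Equiv.injective _ h)
  obtain ⟨m, hm, hmi⟩ := exists_mapC' ![pt 5, pt 7, pt 10] ![a⁻¹ q, a⁻¹ q', z] (by decide +kernel)
    (by
      intro i j
      fin_cases i <;> fin_cases j <;>
        simp [-Equiv.Perm.coe_inv, hne, Ne.symm hne, hz.2.1, hz.2.2, Ne.symm hz.2.1, Ne.symm hz.2.2])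
    (fun i h => absurd (mem_D_iff.1 h) (by revert i; decide +kernel))
    (fun i => by fin_cases i <;> simp [-Equiv.Perm.coe_inv, hout _ hq, hout _ hq', hz.1])
  obtain ⟨hm12, hm0⟩ := mem_M11_iff.1 hm
  obtain ⟨hm24, hmD⟩ := mem_M12_iff.1 hm12
  have hb : a * m ∈ M24 := M24.mul_mem ha hm24
  have hbd : (a * m) • Spor.squareDodecad = d := by rw [mul_smul, hmD, had]
  have hbp : (a * m) (some 0) = p := by rw [Equiv.Perm.mul_apply, hm0, hap]
  have hb5 : (a * m) (pt 5) = q := by
    rw [Equiv.Perm.mul_apply, show m (pt 5) = a⁻¹ q from hmi 0, Equiv.Perm.inv_def, Equiv.apply_symm_apply]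
  have hb7 : (a * m) (pt 7) = q' := by
    rw [Equiv.Perm.mul_apply, show m (pt 7) = a⁻¹ q' from hmi 1, Equiv.Perm.inv_def, Equiv.apply_symm_apply]
  set b := a * m with hbdef
  have hbP : b • basePair = ({q, q'} : Finset GolayPt) := by
    rw [basePair, Finset.smul_finset_insert, Finset.smul_finset_singleton, Equiv.Perm.smul_def,
      Equiv.Perm.smul_def, hb5, hb7]
  have key : ∀ g : M24, g ∈ MulAction.stabilizer M24 d ⊓ MulAction.stabilizer M24 p ⊓
      MulAction.stabilizer M24 ({q, q'} : Finset GolayPt) ↔ b⁻¹ * g.1 * b ∈ Kgrp := by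
    intro g
    show g ∈ MulAction.stabilizer M24 d ⊓ MulAction.stabilizer M24 p ∧
      g ∈ MulAction.stabilizer M24 ({q, q'} : Finset GolayPt) ↔
        b⁻¹ * g.1 * b ∈ Spor.M11 ∧ (b⁻¹ * g.1 * b) • basePair = basePair
    rw [mem_stab_pair_iff hb hbd hbp, mul_smul, mul_smul, hbP, inv_smul_eq_iff, hbP]
    exact Iff.rfl
  obtain ⟨e⟩ := kgrp_equiv
  refine ⟨MulEquiv.trans ?_ e⟩
  exact
    { toFun := fun g => ⟨b⁻¹ * g.1.1 * b, (key g.1).1 g.2⟩
      invFun := fun h => ⟨⟨b * h.1 * b⁻¹,
          M24.mul_mem (M24.mul_mem hb (mem_M12_iff.1 (mem_M11_iff.1 h.2.1).1).1) (M24.inv_mem hb)⟩,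
        (key _).2 (by
          show b⁻¹ * (b * h.1 * b⁻¹) * b ∈ Kgrp
          rw [show b⁻¹ * (b * h.1 * b⁻¹) * b = h.1 by group]
          exact h.2)⟩
      left_inv := fun g => Subtype.ext (Subtype.ext (by simp only; group))
      right_inv := fun h => Subtype.ext (by simp only; group)
      map_mul' := fun g g' => Subtype.ext (by simp only [Subgroup.coe_mul]; group) }

end Cfsg.Agent.S1602
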