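import Cfsg.Statements.S1603
import Cfsg.Agent.Lib.Golay.M12
import Cfsg.Agent.Class49.PatternM11
-- import your own Cfsg.Agent.* helpers here

set_option autoImplicit false
open scoped Pointwise
open Cfsg

namespace Cfsg.Agent.S1603

/-- Centralisers of conjugate or corresponding elements are isomorphic. -/
theorem centralizer_equiv {A B : Type*} [Group A] [Group B] (e : A ≃* B) (a : A) (b : B) (h : e a = b) :
    Nonempty (↥(Subgroup.centralizer ({a} : Set A)) ≃* ↥(Subgroup.centralizer ({b} : Set B))) := by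
  subst h
  refine ⟨(e.subgroupMap _).trans (MulEquiv.subgroupCongr ?_)⟩
  ext x
  rw [Subgroup.mem_map, Subgroup.mem_centralizer_singleton_iff]
  constructor
  · rintro ⟨y, hy, rfl⟩
    show e y * e a = e a * e y
    rw [← map_mul, ← map_mul, Subgroup.mem_centralizer_singleton_iff.1 hy]
  · intro hx
    refine ⟨e.symm x, Subgroup.mem_centralizer_singleton_iff.2 (e.injective ?_), e.apply_symm_apply x⟩
    rw [map_mul, map_mul, e.apply_symm_apply, hx]

/-- Involution centralisers in the smallest Mathieu group are isomorphic to GL(2, 3). -/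
theorem result (d : Finset Cfsg.GolayPt) (hd : d ∈ Cfsg.dodecads) (p : Cfsg.GolayPt) (hp : p ∈ d) (x : ↥(MulAction.stabilizer Cfsg.M24 d ⊓ MulAction.stabilizer Cfsg.M24 p)) (hx : orderOf x = 2) : Nonempty (↥(Subgroup.centralizer ({x} : Set ↥(MulAction.stabilizer Cfsg.M24 d ⊓ MulAction.stabilizer Cfsg.M24 p))) ≃* GL (Fin 2) (ZMod 3)) := by
  obtain ⟨a, ha, had, hap⟩ := Cfsg.Agent.Golay.exists_conj11 hd hp
  let e := Cfsg.Agent.Golay.stabEquivM11 ha had hap
  have hx' : orderOf (e x) = 2 := by rw [MulEquiv.orderOf_eq, hx]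
  obtain ⟨g, hg⟩ := isConj_iff.1 (Cfsg.Agent.Class49.Pattern.isConj11 (e x) hx')
  obtain ⟨f⟩ := centralizer_equiv e x (e x) rfl
  obtain ⟨f'⟩ := centralizer_equiv (MulAut.conj g) Cfsg.Agent.Class49.Pattern.inv11 (e x)
    (by rw [MulAut.conj_apply]; exact hg)
  exact ⟨f.trans (f'.symm.trans Cfsg.Agent.Class49.Pattern.centralizerEquiv11.symm)⟩

end Cfsg.Agent.S1603
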