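import Cfsg.Statements.S1617
import Cfsg.Agent.PTrans81.RankThree

set_option autoImplicit false
open Cfsg

namespace Cfsg.Agent.S1617

/-- A generating conjugacy class of involutions on which the group (with trivial solvable radical) acts with rank 3 is a class of 3-transpositions. -/
theorem result {G : Type*} [Group G] [Finite G] (hsol : ∀ N : Subgroup G, N.Normal → Group.IsSolvable ↥N → N = ⊥) {D : Set G} (hinv : ∀ d ∈ D, orderOf d = 2) (hconj : ∃ d ∈ D, D = conjugatesOf d) (hgen : Subgroup.closure D = ⊤) (hrank : ∀ x ∈ D, ∃ y ∈ D, ∃ z ∈ D, {w : G | ∃ g : G, Commute g x ∧ g * y * g⁻¹ = w} ≠ {w : G | ∃ g : G, Commute g x ∧ g * x * g⁻¹ = w} ∧ {w : G | ∃ g : G, Commute g x ∧ g * z * g⁻¹ = w} ≠ {w : G | ∃ g : G, Commute g x ∧ g * x * g⁻¹ = w} ∧ {w : G | ∃ g : G, Commute g x ∧ g * y * g⁻¹ = w} ≠ {w : G | ∃ g : G, Commute g x ∧ g * z * g⁻¹ = w} ∧ D = {w : G | ∃ g : G, Commute g x ∧ g * x * g⁻¹ = w} ∪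 {w : G | ∃ g : G, Commute g x ∧ g * y * g⁻¹ = w} ∪ {w : G | ∃ g : G, Commute g x ∧ g * z * g⁻¹ = w}) : Cfsg.IsThreeTranspositionClass D := by
  obtain ⟨d₀, hd₀, hD⟩ := hconj
  have hmem : ∀ {x}, x ∈ D ↔ IsConj d₀ x := fun {x} => by rw [hD]; exact Iff.rfl
  refine ⟨(PTrans81.IsRankThree.isThreeTranspositionSet
    { inv := fun x hx => Involution.mul_self_of_orderOf (hinv x hx)
      ne_one := fun x hx => Involution.ne_one_of_orderOf (hinv x hx)
      conj_mem := fun g x hx => hmem.2 ((hmem.1 hx).trans (isConj_iff.2 ⟨g, rfl⟩))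
      trans := fun x hx y hy => isConj_iff.1 ((hmem.1 hx).symm.trans (hmem.1 hy))
      gen := hgen
      sol := hsol
      rank := ?_ }), ⟨d₀, hd₀, hD⟩, hgen⟩
  intro x hx a ha b hb c hc hax hbx hcx
  obtain ⟨y, -, z, -, -, -, -, hU⟩ := hrank x hx
  have hcl : ∀ w ∈ D, w ≠ x → (∃ g, Commute g x ∧ g * y * g⁻¹ = w) ∨
      ∃ g, Commute g x ∧ g * z * g⁻¹ = w := by
    intro w hw hwx
    rw [hU] at hw
    rcases hw with (⟨g, hg, rfl⟩ | h) | h
    · exact absurd (PTrans81.commute_left_conj hg) hwx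
    · exact Or.inl h
    · exact Or.inr h
  have hpair : ∀ {t u v : G}, (∃ g, Commute g x ∧ g * t * g⁻¹ = u) →
      (∃ g, Commute g x ∧ g * t * g⁻¹ = v) → ∃ g, Commute g x ∧ g * u * g⁻¹ = v := by
    rintro t _ _ ⟨g, hg, rfl⟩ ⟨k, hk, rfl⟩
    exact ⟨k * g⁻¹, hk.mul_left hg.inv_left, by group⟩
  rcases hcl a ha hax with h1 | h1 <;> rcases hcl b hb hbx with h2 | h2 <;>
    rcases hcl c hc hcx with h3 | h3
  all_goals
    first
    | exact (hpair h1 h2).imp fun g h => ⟨h.1, Or.inl h.2⟩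
    | exact (hpair h1 h3).imp fun g h => ⟨h.1, Or.inr (Or.inl h.2)⟩
    | exact (hpair h2 h3).imp fun g h => ⟨h.1, Or.inr (Or.inr h.2)⟩

end Cfsg.Agent.S1617
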