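import Cfsg.Statements.S1618
import Cfsg.Agent.SporStructure.PPowerProducts
import Cfsg.Agent.S0215

set_option autoImplicit false
open Cfsg

namespace Cfsg.Agent.S1618

/-- A group generated by a class of involutions whose pairwise products (of distinct members) have p-power order for a fixed odd prime p has nilpotent derived subgroup. -/
theorem result {G : Type*} [Group G] [Finite G] (p : ℕ) (hp : p.Prime) (hodd : p ≠ 2) {D : Set G} (hinv : ∀ d ∈ D, orderOf d = 2) (hconj : ∃ d ∈ D, D = conjugatesOf d) (hgen : Subgroup.closure D = ⊤) (hprod : ∀ x ∈ D, ∀ y ∈ D, x ≠ y → ∃ k : ℕ, orderOf (x * y) = p ^ k) : Group.IsNilpotent ↥(commutator G) := by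
  haveI : Fact p.Prime := ⟨hp⟩
  obtain ⟨x, hxD, hD⟩ := hconj
  subst hD
  have hord : orderOf x = 2 := hinv x hxD
  have hprod' : ∀ a ∈ conjugatesOf x, ∀ b ∈ conjugatesOf x, ∃ k : ℕ, orderOf (a * b) = p ^ k := by
    intro a ha b hb
    by_cases hab : a = b
    · refine ⟨0, ?_⟩
      subst hab
      rw [pow_zero, orderOf_eq_one_iff]
      have := pow_orderOf_eq_one a
      rwa [hinv a ha, pow_two] at this
    · exact hprod a ha b hb hab
  obtain ⟨S, hxS, hiso⟩ := Cfsg.Agent.SporStructure.exists_isolated_sylow hodd hord hprod'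
  obtain ⟨P, hPn, hP, hPD⟩ := Cfsg.Agent.SporStructure.products_mem_pSubgroup hodd hxD hord rfl hgen
    hprod' (Cfsg.Agent.S0215.result S x hord hxS hiso)
  exact ((hP.to_le (Cfsg.Agent.SporStructure.commutator_le_of_products hxD hgen hPn hPD))).isNilpotent

end Cfsg.Agent.S1618
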