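import Cfsg.Statements.S1623
import Cfsg.Agent.Lib.Steiner.Ico.Cent
import Cfsg.Agent.Lib.LargeExtraspecial.Pullback

set_option autoImplicit false
open Quaternion
open Cfsg

namespace Cfsg.Agent.S1623

/-- A reflection centraliser in the Hall–Janko group is an extension of an extraspecial group of order 32 by the alternating group of degree 5. -/
theorem result (f : Equiv.Perm ↥Cfsg.Spor.icoLeech) (hf : Cfsg.Spor.IsIcoReflection f) (hfm : f ∈ Cfsg.Spor.twoJ2) : ∃ (Q : Subgroup ↥(Subgroup.centralizer {(QuotientGroup.mk ⟨f, hfm⟩ : Cfsg.Spor.J2)})) (_ : Q.Normal), Nat.card Q = 32 ∧ Cfsg.IsExtraspecial 2 Q ∧ Nonempty (↥(Subgroup.centralizer {(QuotientGroup.mk ⟨f, hfm⟩ : Cfsg.Spor.J2)}) ⧸ Q ≃* alternatingGroup (Fin 5)) := by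
  obtain ⟨k, hk, rfl⟩ := Steiner.Ico.isRefl_iff.mp hf
  have hz : (QuotientGroup.mk ⟨Steiner.Ico.refl k, hfm⟩ : Cfsg.Spor.J2) = Steiner.Ico.reflJ k :=
    (Steiner.Ico.reflJ_eq_mk k).symm
  rw [hz]
  obtain ⟨c, hc⟩ := isConj_iff.mp (Steiner.Ico.conj_class.mpr ⟨k, hk, rfl⟩)
  have hmap : Steiner.Ico.centZa.map (MulAut.conj c).toMonoidHom =
      Subgroup.centralizer {Steiner.Ico.reflJ k} := by
    ext x
    rw [Subgroup.mem_map_equiv, MulAut.conj_symm_apply, Steiner.Ico.mem_centZa,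
      Subgroup.mem_centralizer_singleton_iff, ← hc]
    constructor
    · intro h
      have h2 := congrArg (fun y => c * y * c⁻¹) h
      simpa [mul_assoc] using h2
    · intro h
      have h2 := congrArg (fun y => c⁻¹ * y * c) h
      simpa [mul_assoc] using h2
  let e : Steiner.Ico.centZa ≃* Subgroup.centralizer {Steiner.Ico.reflJ k} :=
    ((MulAut.conj c).subgroupMap Steiner.Ico.centZa).trans (MulEquiv.subgroupCongr hmap)
  haveI hn : (Steiner.Ico.qSub.map e.toMonoidHom).Normal :=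
    Subgroup.Normal.map Steiner.Ico.qSub_normal e.toMonoidHom e.surjective
  refine ⟨Steiner.Ico.qSub.map e.toMonoidHom, hn, ?_, ?_, ⟨?_⟩⟩
  · rw [Subgroup.card_map_of_injective e.injective, Steiner.Ico.quot_counts.1]
  · exact LargeExtraspecial.isExtraspecial_equiv
      (Steiner.Ico.qSub.equivMapOfInjective _ e.injective) Steiner.Ico.qSub_extraspecial
  · exact (@QuotientGroup.congr _ _ _ _ Steiner.Ico.qSub (Steiner.Ico.qSub.map e.toMonoidHom)
      Steiner.Ico.qSub_normal hn e rfl).symm.trans Steiner.Ico.quotEquiv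

end Cfsg.Agent.S1623
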