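import Cfsg.Statements.S1624
import Cfsg.Agent.Lib.Steiner.Ico.Iso
import Cfsg.Agent.HJ.U33

set_option autoImplicit false
open Quaternion
open Cfsg

namespace Cfsg.Agent.S1624

/-- The Hall–Janko group contains PSU(3, 3) with index 100 and acts on the 100 cosets with rank 3 and subdegrees 1, 36, 63. -/
theorem result : ∃ H : Subgroup Cfsg.Spor.J2, H.index = 100 ∧ (∃ (F : Type) (_ : Field F) (_ : Fintype F), Fintype.card F = 9 ∧ Nonempty (↥H ≃* Cfsg.PSU 3 F 3)) ∧ ∃ c₁ c₂ : Cfsg.Spor.J2 ⧸ H, (MulAction.orbit ↥H c₁).ncard = 36 ∧ (MulAction.orbit ↥H c₂).ncard = 63 := by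
  obtain ⟨e⟩ := HJ.U33.stab_equiv
  obtain ⟨q₁, q₂, h₁, h₂⟩ := HJ.U33.orbits
  let S := Cfsg.Agent.Steiner.J2.rep.stab Cfsg.Agent.Steiner.J2.nodup
  let H : Subgroup Cfsg.Spor.J2 := S.map Cfsg.Agent.Steiner.Ico.presEquiv.toMonoidHom
  refine ⟨H, ?_, ⟨HJ.U33.F9, inferInstance, HJ.U33.fintypeF9, HJ.U33.card_F9.trans (by norm_num),
    ⟨(Subgroup.equivMapOfInjective S Cfsg.Agent.Steiner.Ico.presEquiv.toMonoidHom Cfsg.Agent.Steiner.Ico.presEquiv.injective).symm.trans e⟩⟩, ?_⟩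
  · exact (Subgroup.index_map_equiv S Cfsg.Agent.Steiner.Ico.presEquiv).trans
      (CosetEnum.InvPres.Rep.index_stab _ Cfsg.Agent.Steiner.J2.nodup Cfsg.Agent.Steiner.J2.descend)
  · let φ : Cfsg.Agent.Steiner.J2.pres.Gp ⧸ S → Cfsg.Spor.J2 ⧸ H :=
      Quotient.map' Cfsg.Agent.Steiner.Ico.presEquiv fun a b hab => by
        rw [QuotientGroup.leftRel_apply] at hab ⊢
        exact ⟨_, hab, by simp⟩
    have hφ : Function.Injective φ := by
      intro p q
      induction p using Quotient.inductionOn' with | h a =>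
      induction q using Quotient.inductionOn' with | h b =>
      intro h
      apply QuotientGroup.eq.mpr
      have h' : (Cfsg.Agent.Steiner.Ico.presEquiv a)⁻¹ * Cfsg.Agent.Steiner.Ico.presEquiv b ∈ H := QuotientGroup.eq.mp h
      obtain ⟨x, hx, hxe⟩ := h'
      have : x = a⁻¹ * b := Cfsg.Agent.Steiner.Ico.presEquiv.injective (by simpa using hxe)
      exact this ▸ hx
    have horb : ∀ q, (MulAction.orbit ↥H (φ q)).ncard = (MulAction.orbit ↥S q).ncard := by
      intro q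
      rw [← Set.ncard_image_of_injective _ hφ]
      congr 1
      induction q using Quotient.inductionOn' with | h a =>
      ext c
      constructor
      · rintro ⟨⟨_, x, hx, rfl⟩, rfl⟩
        refine ⟨_, ⟨⟨x, hx⟩, rfl⟩, ?_⟩
        exact congrArg QuotientGroup.mk (map_mul Cfsg.Agent.Steiner.Ico.presEquiv x a)
      · rintro ⟨_, ⟨⟨x, hx⟩, rfl⟩, rfl⟩
        refine ⟨⟨_, x, hx, rfl⟩, ?_⟩
        exact (congrArg QuotientGroup.mk (map_mul Cfsg.Agent.Steiner.Ico.presEquiv x a)).symm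
    exact ⟨φ q₁, φ q₂, (horb q₁).trans h₁, (horb q₂).trans h₂⟩

end Cfsg.Agent.S1624
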