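import Cfsg.Statements.S1636
import Cfsg.Agent.SporStructure.GolayCosets

set_option autoImplicit false
open Cfsg

namespace Cfsg.Agent.S1636

/-- The punctured length-23 code has weight distribution 0^1 7^253 8^506 11^1288 12^1288 15^506 16^253 23^1. -/
theorem result : {u : ZMod 23 → ZMod 2 | ∃ w ∈ Cfsg.golayCode, ∀ x : ZMod 23, u x = w (some x)}.ncard = 4096 ∧ {u : ZMod 23 → ZMod 2 | u ∈ {u : ZMod 23 → ZMod 2 | ∃ w ∈ Cfsg.golayCode, ∀ x : ZMod 23, u x = w (some x)} ∧ hammingNorm u = 7}.ncard = 253 ∧ {u : ZMod 23 → ZMod 2 | u ∈ {u : ZMod 23 → ZMod 2 | ∃ w ∈ Cfsg.golayCode, ∀ x : ZMod 23, u x = w (some x)} ∧ hammingNorm u = 8}.ncard = 506 ∧ {u : ZMod 23 → ZMod 2 | u ∈ {u : ZMod 23 → ZMod 2 | ∃ w ∈ Cfsg.golayCode, ∀ x : ZMod 23, u x = w (some x)} ∧ hammingNorm u = 11}.ncard = 1288 ∧ {u : ZMod 23 → ZMod 2 | u ∈ {u : ZMod 23 → ZMod 2 | ∃ w ∈ Cfsg.golayCode, ∀ x : ZMod 23, u x = w (some x)} ∧ hammingNorm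 u = 12}.ncard = 1288 ∧ {u : ZMod 23 → ZMod 2 | u ∈ {u : ZMod 23 → ZMod 2 | ∃ w ∈ Cfsg.golayCode, ∀ x : ZMod 23, u x = w (some x)} ∧ hammingNorm u = 15}.ncard = 506 ∧ {u : ZMod 23 → ZMod 2 | u ∈ {u : ZMod 23 → ZMod 2 | ∃ w ∈ Cfsg.golayCode, ∀ x : ZMod 23, u x = w (some x)} ∧ hammingNorm u = 16}.ncard = 253 ∧ ∀ u ∈ {u : ZMod 23 → ZMod 2 | ∃ w ∈ Cfsg.golayCode, ∀ x : ZMod 23, u x = w (some x)}, u ≠ 0 → 7 ≤ hammingNorm u := by
  refine ⟨?_, Cfsg.Agent.SporStructure.GolayCosets.ncard_punct_weight 7 253 (by decide +kernel), Cfsg.Agent.SporStructure.GolayCosets.ncard_punct_weight 8 506 (by decide +kernel),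
    Cfsg.Agent.SporStructure.GolayCosets.ncard_punct_weight 11 1288 (by decide +kernel), Cfsg.Agent.SporStructure.GolayCosets.ncard_punct_weight 12 1288 (by decide +kernel),
    Cfsg.Agent.SporStructure.GolayCosets.ncard_punct_weight 15 506 (by decide +kernel), Cfsg.Agent.SporStructure.GolayCosets.ncard_punct_weight 16 253 (by decide +kernel), ?_⟩
  · show Cfsg.Agent.SporStructure.GolayCosets.punctured.ncard = 4096
    rw [Cfsg.Agent.SporStructure.GolayCosets.punctured_eq, Cfsg.Agent.SporStructure.GolayCosets.punct_injOn.ncard_image, ← Cfsg.Agent.Golay.card_golayCode, ← Nat.card_coe_set_eq]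
    rfl
  · rintro u ⟨w, hw, hu⟩ hne
    by_contra hlt
    obtain rfl : u = Cfsg.Agent.SporStructure.GolayCosets.punct w := funext hu
    have := Cfsg.Agent.SporStructure.GolayCosets.punct_small hw (by omega)
    subst this
    exact hne rfl

end Cfsg.Agent.S1636
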