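import Cfsg.Statements.S1714
import Cfsg.Agent.Fi23Cent.Inst
import Cfsg.Agent.Fi23Cent.Fi22Core
import Cfsg.Agent.OddLocal44.M23.Unique

set_option autoImplicit false
open Cfsg

namespace Cfsg.Agent.S1714

/-- The Fischer group Fi₂₃ from a transposition centraliser: let G be a finite group with an involution d such that the centraliser C of d is quasisimple, C modulo the subgroup generated by d is isomorphic to the presented Fischer group Fi₂₂, and some conjugate of d different from d commutes with d. Then G is isomorphic to the presented Fischer group Fi₂₃. -/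
theorem result {G : Type*} [Group G] [Finite G] (d : G) (hd : orderOf d = 2) (hq : Cfsg.IsQuasisimple (Subgroup.centralizer ({d} : Set G))) [((Subgroup.zpowers d).subgroupOf (Subgroup.centralizer ({d} : Set G))).Normal] (e : Cfsg.Spor.IsoFi22 ((Subgroup.centralizer ({d} : Set G)) ⧸ (Subgroup.zpowers d).subgroupOf (Subgroup.centralizer ({d} : Set G)))) (hnwc : ∃ g : G, g * d * g⁻¹ ∈ Subgroup.centralizer ({d} : Set G) ∧ g * d * g⁻¹ ≠ d) : Cfsg.Spor.IsoFi23 G := by
  classical
  obtain ⟨e⟩ := e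
  obtain ⟨D₀, hD₀, hcore₀⟩ := Fi23Cent.Fi22Core.exists_core22
  let φ : CosetEnum.Fi22.pres.Gp ≃*
      ((Subgroup.centralizer ({d} : Set G)) ⧸ (Subgroup.zpowers d).subgroupOf (Subgroup.centralizer ({d} : Set G))) :=
    e.symm
  set E := φ '' D₀ with hE
  have hgrp : Cfsg.IsThreeTranspositionGroup E := by
    refine ⟨⟨?_, ?_⟩, ?_, ?_⟩
    · rintro _ ⟨x, hx, rfl⟩
      rw [MulEquiv.orderOf_eq]
      exact hD₀.1.1 x hx
    · rintro _ ⟨x, hx, rfl⟩ _ ⟨y, hy, rfl⟩
      rw [← map_mul, ← map_pow, ← map_pow, map_eq_one_iff φ φ.injective, map_eq_one_iff φ φ.injective]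
      exact hD₀.1.2 x hx y hy
    · rintro g _ ⟨x, hx, rfl⟩
      exact ⟨φ.symm g * x * (φ.symm g)⁻¹, hD₀.2.1 _ x hx, by simp⟩
    · rw [hE, Fi23Cent.closure_image_equiv, hD₀.2.2, Subgroup.map_top_of_surjective _ φ.surjective]
  have hcore := Fi23Cent.core22_map φ hcore₀
  haveI := TT95.Gen.of_group hgrp
  have hC := TT95.cfg22_of_core22 (TT95.TTSet.of_group hgrp) hcore
  obtain ⟨L, h⟩ := (Fi23Cent.hyp_of_quot d hd hq hC hcore hnwc).exists_loc
  haveI := h.gen₁
  obtain ⟨ψ, -⟩ := OddLocal44.M23.exists_iso_fi23 h.cfg23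
  obtain ⟨χ, -, -⟩ := h.exists_equiv
  exact ⟨χ.symm.trans ψ.symm⟩

end Cfsg.Agent.S1714
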