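import Cfsg.Statements.S1721
import Cfsg.Agent.J2Order38.Order
import Cfsg.Agent.Lib.LargeExtraspecial.Sections
import Cfsg.Agent.Lib.LargeExtraspecial.Pullback
import Cfsg.Agent.S0824

set_option autoImplicit false
open Cfsg

namespace Cfsg.Agent.S1721

/-- The order of a group of Hall–Janko type: under the large-extraspecial hypothesis with Q of order 32, quotient Ω⁻(4, 2), z not weakly closed in Q, and more than one class of involutions, the group has order 2^7·3^3·5^2·7 = 604800. -/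
theorem result {G : Type*} [Group G] [Finite G] (z : G) (hz : orderOf z = 2) (Q : Subgroup (Subgroup.centralizer ({z} : Set G))) [Q.Normal] (hF : Cfsg.generalizedFittingSubgroup (Subgroup.centralizer ({z} : Set G)) = Q) (hQ : Cfsg.IsExtraspecial 2 Q) (hcard : Nat.card Q = 2 ^ 5) (e : (Subgroup.centralizer ({z} : Set G)) ⧸ Q ≃* Cfsg.Omega (ZMod 2) (Cfsg.quadFormMinus 1 (ZMod 2) 1 1)) (hnwc : ∃ g : G, (∃ hq : g * z * g⁻¹ ∈ Subgroup.centralizer ({z} : Set G), (⟨g * z * g⁻¹, hq⟩ : Subgroup.centralizer ({z} : Set G)) ∈ Q) ∧ g * z * g⁻¹ ≠ z) (hcl : ∃ x y : G, orderOf x = 2 ∧ orderOf y = 2 ∧ ¬ IsConj x y) : Nat.card G = 604800 := by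
  classical
  obtain ⟨φ⟩ := S0824.result (F := ZMod 2) (ZMod.card 2)
  let e2 : ↥(Cfsg.Omega (ZMod 2) (Cfsg.quadFormMinus 1 (ZMod 2) 1 1)) ≃* alternatingGroup (Fin 5) :=
    (φ.subgroupMap _).trans (MulEquiv.subgroupCongr (by
      rw [show (↑φ : ↥(Cfsg.isometryGroup (ZMod 2) (Cfsg.quadFormMinus 1 (ZMod 2) 1 1)) →* Equiv.Perm (Fin 5))
          = φ.toMonoidHom from rfl, Cfsg.Omega, commutator_def, Subgroup.map_commutator,
        Subgroup.map_top_of_surjective _ φ.surjective, ← commutator_def,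
        alternatingGroup.commutator_perm_eq (by simp)]))
  have hle : Q.map (Subgroup.centralizer ({z} : Set G)).subtype ≤ Subgroup.centralizer ({z} : Set G) :=
    Subgroup.map_subtype_le Q
  have hE : Cfsg.IsExtraspecial 2 ↥(Q.map (Subgroup.centralizer ({z} : Set G)).subtype) :=
    LargeExtraspecial.isExtraspecial_equiv
      (Q.equivMapOfInjective _ (Subgroup.centralizer ({z} : Set G)).subtype_injective) hQ
  have hS := LargeExtraspecial.setup_of_centralizer hz hle (by rw [hF]) hE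
  have hmem : ∀ h : Subgroup.centralizer ({z} : Set G),
      (h : G) ∈ Q.map (Subgroup.centralizer ({z} : Set G)).subtype ↔ h ∈ Q := fun h =>
    Subgroup.mem_map_iff_mem (Subgroup.centralizer ({z} : Set G)).subtype_injective
  obtain ⟨g, ⟨hq, hqQ⟩, hne⟩ := hnwc
  refine J2Order38.HJ.card_eq (z := z) (Q := Q.map (Subgroup.centralizer ({z} : Set G)).subtype)
    ⟨hS, ?_, ?_, ?_⟩ hcl
  · rw [Subgroup.card_map_of_injective (Subgroup.centralizer ({z} : Set G)).subtype_injective, hcard]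
    rfl
  · refine ⟨((e.trans e2).toMonoidHom).comp (QuotientGroup.mk' Q),
      (e.trans e2).surjective.comp (QuotientGroup.mk'_surjective Q), fun h => ?_⟩
    rw [hmem, MonoidHom.comp_apply, MulEquiv.coe_toMonoidHom, MulEquiv.map_eq_one_iff,
      QuotientGroup.mk'_apply, QuotientGroup.eq_one_iff]
  · exact ⟨g * z * g⁻¹, (hmem ⟨_, hq⟩).mpr hqQ, hne, isConj_iff.mpr ⟨g, rfl⟩⟩

end Cfsg.Agent.S1721
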