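import Cfsg.Statements.S1722
import Cfsg.Agent.J2Order38.Setup
import Cfsg.Agent.J2Order38.FiveSylow

set_option autoImplicit false
open Cfsg

namespace Cfsg.Agent.S1722

/-- Sylow 5-structure of a group of Hall–Janko type (large-extraspecial hypothesis with Q of order 32, quotient Ω⁻(4, 2), z not weakly closed in Q, more than one class of involutions): a Sylow 5-subgroup P is its own centraliser, has order 25, its normaliser has order 300, and the subgroups of order 5 fall into exactly two conjugacy classes. -/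
theorem result {G : Type*} [Group G] [Finite G] (z : G) (hz : orderOf z = 2) (Q : Subgroup (Subgroup.centralizer ({z} : Set G))) [Q.Normal] (hF : Cfsg.generalizedFittingSubgroup (Subgroup.centralizer ({z} : Set G)) = Q) (hQ : Cfsg.IsExtraspecial 2 Q) (hcard : Nat.card Q = 2 ^ 5) (e : (Subgroup.centralizer ({z} : Set G)) ⧸ Q ≃* Cfsg.Omega (ZMod 2) (Cfsg.quadFormMinus 1 (ZMod 2) 1 1)) (hnwc : ∃ g : G, (∃ hq : g * z * g⁻¹ ∈ Subgroup.centralizer ({z} : Set G), (⟨g * z * g⁻¹, hq⟩ : Subgroup.centralizer ({z} : Set G)) ∈ Q) ∧ g * z * g⁻¹ ≠ z) (hcl : ∃ x y : G, orderOf x = 2 ∧ orderOf y = 2 ∧ ¬ IsConj x y) (P : Sylow 5 G) : Subgroup.centralizer ((P : Subgroup G) : Set G) = P ∧ Nat.card P = 25 ∧ Nat.card (Subgroup.normalizer ((P : Subgroup G) : Set G)) = 300 ∧ ∃ X Y : Subgroup G, Nat.card X = 5 ∧ Nat.card Y = 5 ∧ (∀ g : G, X.map (MulAut.conj g).toMonoidHom ≠ Y) ∧ ∀ W : Subgroup G, Nat.card W = 5 → ∃ g : G, W.map (MulAut.conj g).toMonoidHom = X ∨ W.map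 (MulAut.conj g).toMonoidHom = Y := by
  have h := J2Order38.hj_of_type z hz Q hF hQ hcard e hnwc
  obtain ⟨t, D⟩ := h.exists_hjg hcl
  have R := D.fiveResult
  refine ⟨R.self_cent P, R.card_sylow P, R.card_norm P, ?_⟩
  obtain ⟨x, y, A, B, -, hnc, hall⟩ := R.reps
  refine ⟨Subgroup.zpowers x, Subgroup.zpowers y, by rw [Nat.card_zpowers, A.order],
    by rw [Nat.card_zpowers, B.order], fun g hg => ?_, fun W hW => ?_⟩
  · rw [MonoidHom.map_zpowers] at hg
    have hm : y ∈ Subgroup.zpowers ((MulAut.conj g).toMonoidHom x) := hg ▸ Subgroup.mem_zpowers y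
    obtain ⟨k, hk⟩ := Subgroup.mem_zpowers_iff.mp hm
    have hk' : (g * x * g⁻¹) ^ k = y := hk
    refine hnc g⁻¹ (Subgroup.mem_zpowers_iff.mpr ⟨k, ?_⟩)
    rw [← hk', conj_zpow]
    group
  · haveI : Fact (Nat.Prime 5) := ⟨Nat.prime_five⟩
    haveI : IsCyclic W := isCyclic_of_prime_card hW
    obtain ⟨w, hwz⟩ := IsCyclic.exists_zpow_surjective (G := W)
    have hw5 : orderOf w = 5 := by
      rw [orderOf_eq_card_of_forall_mem_zpowers fun b => ?_, hW]
      exact hwz b
    have hwo : orderOf (w : G) = 5 := by rw [Subgroup.orderOf_coe, hw5]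
    have hWeq : Subgroup.zpowers (w : G) = W := by
      refine Subgroup.eq_of_le_of_card_ge (Subgroup.zpowers_le.mpr w.2) ?_
      rw [Nat.card_zpowers, hwo, hW]
    have key : ∀ a : G, orderOf a = 5 → IsConj a (w : G) →
        ∃ g : G, W.map (MulAut.conj g).toMonoidHom = Subgroup.zpowers a := by
      intro a _ hc
      obtain ⟨g, hg⟩ := isConj_iff.mp hc.symm
      refine ⟨g, ?_⟩
      rw [← hWeq, MonoidHom.map_zpowers, show (MulAut.conj g).toMonoidHom (w : G) = a from hg]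
    have hsq : ∀ a : G, orderOf a = 5 →
        orderOf (a ^ 2) = 5 ∧ Subgroup.zpowers (a ^ 2) = Subgroup.zpowers a := by
      intro a ha
      have h2 : orderOf (a ^ 2) = 5 := by rw [orderOf_pow, ha]; norm_num
      refine ⟨h2, Subgroup.eq_of_le_of_card_ge
        (Subgroup.zpowers_le.mpr (Subgroup.pow_mem _ (Subgroup.mem_zpowers a) 2)) ?_⟩
      rw [Nat.card_zpowers, Nat.card_zpowers, h2, ha]
    rcases hall _ hwo with hc | hc | hc | hc
    · obtain ⟨g, hg⟩ := key x A.order hc; exact ⟨g, Or.inl hg⟩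
    · obtain ⟨g, hg⟩ := key _ (hsq x A.order).1 hc
      exact ⟨g, Or.inl (hg.trans (hsq x A.order).2)⟩
    · obtain ⟨g, hg⟩ := key y B.order hc; exact ⟨g, Or.inr hg⟩
    · obtain ⟨g, hg⟩ := key _ (hsq y B.order).1 hc
      exact ⟨g, Or.inr (hg.trans (hsq y B.order).2)⟩

end Cfsg.Agent.S1722
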