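import Cfsg.Statements.S1724
import Cfsg.Agent.J2Order38.Setup
import Cfsg.Agent.J2Order38.ThreeSylow

set_option autoImplicit false
open Cfsg

namespace Cfsg.Agent.S1724

/-- In a group of Hall–Janko type (large-extraspecial hypothesis with Q of order 32, quotient Ω⁻(4, 2), z not weakly closed in Q, more than one class of involutions), a Sylow 7-subgroup is its own centraliser and its normaliser is non-abelian of order 42. -/
theorem result {G : Type*} [Group G] [Finite G] (z : G) (hz : orderOf z = 2) (Q : Subgroup (Subgroup.centralizer ({z} : Set G))) [Q.Normal] (hF : Cfsg.generalizedFittingSubgroup (Subgroup.centralizer ({z} : Set G)) = Q) (hQ : Cfsg.IsExtraspecial 2 Q) (hcard : Nat.card Q = 2 ^ 5) (e : (Subgroup.centralizer ({z} : Set G)) ⧸ Q ≃* Cfsg.Omega (ZMod 2) (Cfsg.quadFormMinus 1 (ZMod 2) 1 1)) (hnwc : ∃ g : G, (∃ hq : g * z * g⁻¹ ∈ Subgroup.centralizer ({z} : Set G), (⟨g * z * g⁻¹, hq⟩ : Subgroup.centralizer ({z} : Set G)) ∈ Q) ∧ g * z * g⁻¹ ≠ z) (hcl : ∃ x y : G, orderOf x = 2 ∧ orderOf y = 2 ∧ ¬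 IsConj x y) (D : Sylow 7 G) : Subgroup.centralizer ((D : Subgroup G) : Set G) = D ∧ Nat.card (Subgroup.normalizer ((D : Subgroup G) : Set G)) = 42 ∧ ¬ IsMulCommutative (Subgroup.normalizer ((D : Subgroup G) : Set G)) := by
  classical
  have h := J2Order38.hj_of_type z hz Q hF hQ hcard e hnwc
  obtain ⟨t, H⟩ := h.exists_hjg hcl
  have hG := H.card
  have R3 := H.threeResult
  have R5 := H.fiveResult
  haveI : Fact (Nat.Prime 7) := ⟨by norm_num⟩
  have hD : Nat.card (D : Subgroup G) = 7 := by
    rw [Sylow.card_eq_multiplicity, hG, show (604800 : ℕ) = 7 ^ 1 * 86400 by norm_num,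
      Nat.factorization_mul_apply_of_coprime (by norm_num), Nat.Prime.factorization_pow (by norm_num),
      Nat.factorization_eq_zero_of_not_dvd (show ¬ (7 : ℕ) ∣ 86400 by norm_num)]
    simp
  obtain ⟨a, b, ha, hb, -, hca, hcb, hall3⟩ := R3.reps
  obtain ⟨x, y, A, B, -, -, hall5⟩ := R5.reps
  -- no centralizer of an element of order two, three or five has order divisible by seven
  have key : ∀ g : G, (orderOf g = 2 ∨ orderOf g = 3 ∨ orderOf g = 5) →
      ¬ 7 ∣ Nat.card ↥(Subgroup.centralizer ({g} : Set G)) := by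
    intro g hg
    have tr : ∀ {p q : G}, IsConj p q → Nat.card ↥(Subgroup.centralizer ({q} : Set G)) =
        Nat.card ↥(Subgroup.centralizer ({p} : Set G)) := fun hpq => by
      obtain ⟨c, rfl⟩ := isConj_iff.mp hpq
      exact J2Order38.card_cent_conj c _
    rcases hg with h2 | h3 | h5
    · rcases H.all g h2 with e | e
      · rw [tr e, H.pair.hj.card_H]; norm_num
      · rw [tr e, H.card_cent_t]; norm_num
    · rcases hall3 g h3 with e | e
      · rw [tr e.symm, hca]; norm_num
      · rw [tr e.symm, hcb]; norm_num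
    · have hsq : ∀ w : G, orderOf w = 5 →
          Nat.card ↥(Subgroup.centralizer ({w ^ 2} : Set G)) = Nat.card ↥(Subgroup.centralizer ({w} : Set G)) := by
        intro w hw
        have e1 : (w ^ 2) ^ 3 = w := by
          rw [← pow_mul, show 2 * 3 = 5 + 1 from rfl, pow_succ,
            orderOf_dvd_iff_pow_eq_one.mp (dvd_of_eq hw), one_mul]
        congr 2
        ext n
        rw [Subgroup.mem_centralizer_singleton_iff, Subgroup.mem_centralizer_singleton_iff]
        constructor
        · intro hm
          have := (show Commute n (w ^ 2) from hm).pow_right 3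
          rwa [e1] at this
        · intro hm
          exact ((show Commute n w from hm).pow_right 2).eq
      rcases hall5 g h5 with e | e | e | e
      · rw [tr e, A.card]; norm_num
      · rw [tr e, hsq x A.order, A.card]; norm_num
      · rw [tr e, B.card]; norm_num
      · rw [tr e, hsq y B.order, B.card]; norm_num
  haveI : IsCyclic (D : Subgroup G) := isCyclic_of_prime_card hD
  have hDcomm : ∀ p ∈ (D : Subgroup G), ∀ q ∈ (D : Subgroup G), Commute p q := fun p hp q hq =>
    congrArg Subtype.val ((IsCyclic.commGroup (α := (D : Subgroup G))).mul_comm ⟨p, hp⟩ ⟨q, hq⟩)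
  set C := Subgroup.centralizer ((D : Subgroup G) : Set G) with hC
  have hle : (D : Subgroup G) ≤ C := fun p hp => Subgroup.mem_centralizer_iff.mpr fun q hq => hDcomm q hq p hp
  have hCD : C = D := by
    symm
    refine Subgroup.eq_of_le_of_card_ge hle ?_
    have hd : Nat.card C ∣ 604800 := hG ▸ Subgroup.card_subgroup_dvd_card C
    have hno : ∀ p : ℕ, p.Prime → (p = 2 ∨ p = 3 ∨ p = 5) → ¬ p ∣ Nat.card C := by
      intro p hp hp' hdvd
      haveI := Fact.mk hp
      obtain ⟨g, hg⟩ := exists_prime_orderOf_dvd_card' (G := C) p hdvd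
      refine key (g : G) (by rw [Subgroup.orderOf_coe, hg]; exact hp') ?_
      rw [← hD]
      exact Subgroup.card_dvd_of_le fun q hq =>
        Subgroup.mem_centralizer_singleton_iff.mpr (Subgroup.mem_centralizer_iff.mp g.2 q hq)
    have hcop : Nat.Coprime (Nat.card C) 86400 := by
      have c2 : Nat.Coprime (Nat.card C) 2 :=
        (Nat.prime_two.coprime_iff_not_dvd.mpr (hno 2 Nat.prime_two (Or.inl rfl))).symm
      have c3 : Nat.Coprime (Nat.card C) 3 :=
        (Nat.prime_three.coprime_iff_not_dvd.mpr (hno 3 Nat.prime_three (Or.inr (Or.inl rfl)))).symm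
      have c5 : Nat.Coprime (Nat.card C) 5 :=
        (Nat.prime_five.coprime_iff_not_dvd.mpr (hno 5 Nat.prime_five (Or.inr (Or.inr rfl)))).symm
      exact (show 86400 = 2 ^ 7 * 3 ^ 3 * 5 ^ 2 by norm_num) ▸
        ((c2.pow_right 7).mul_right (c3.pow_right 3)).mul_right (c5.pow_right 2)
    rw [hD]
    exact Nat.le_of_dvd (by norm_num) (hcop.dvd_of_dvd_mul_right
      (by rw [show 7 * 86400 = 604800 by norm_num]; exact hd))
  set N := Subgroup.normalizer ((D : Subgroup G) : Set G) with hN
  have hDN : (D : Subgroup G) ≤ N := Subgroup.le_normalizer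
  obtain ⟨d, hd⟩ := IsCyclic.exists_zpow_surjective (G := (D : Subgroup G))
  have hd7 : orderOf d = 7 := by
    rw [orderOf_eq_card_of_forall_mem_zpowers fun w => hd w, hD]
  let dN : N := ⟨d, hDN d.2⟩
  have hcent : Nat.card ↥(Subgroup.centralizer ({dN} : Set N)) = 7 := by
    rw [← hD]
    refine Nat.card_congr
      { toFun := fun n => ⟨((n.1 : N) : G), ?_⟩
        invFun := fun n => ⟨⟨n.1, hDN n.2⟩, ?_⟩
        left_inv := fun _ => rfl
        right_inv := fun _ => rfl }
    · rw [← hCD]
      refine Subgroup.mem_centralizer_iff.mpr fun q hq => ?_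
      obtain ⟨k, hk⟩ := hd ⟨q, hq⟩
      have hk' : (d : G) ^ k = q := congrArg Subtype.val hk
      rw [← hk']
      exact ((show Commute ((n.1 : N) : G) (d : G) from
        congrArg Subtype.val (Subgroup.mem_centralizer_singleton_iff.mp n.2)).zpow_right k).eq.symm
    · exact Subgroup.mem_centralizer_singleton_iff.mpr (Subtype.ext (hDcomm _ n.2 _ d.2).eq)
  have hcls : Nat.card {u : N // IsConj dN u} ≤ 6 := by
    let f : {u : N // IsConj dN u} → {q : (D : Subgroup G) // q ≠ 1} := fun u => ⟨⟨((u.1 : N) : G), by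
      obtain ⟨c, hc⟩ := isConj_iff.mp u.2
      rw [← hc]
      exact (Subgroup.mem_normalizer_iff.mp c.2 (d : G)).mp d.2⟩, fun h' => by
      obtain ⟨c, hc⟩ := isConj_iff.mp u.2
      have h1 : (c : G) * d * (c : G)⁻¹ = 1 :=
        (congrArg Subtype.val hc).trans (congrArg Subtype.val h')
      rw [conj_eq_one_iff] at h1
      rw [← Subgroup.orderOf_coe, h1, orderOf_one] at hd7
      omega⟩
    have hf : Function.Injective f := fun u v h' => Subtype.ext (Subtype.ext
      (congrArg (fun q : {q : (D : Subgroup G) // q ≠ 1} => ((q.1 : (D : Subgroup G)) : G)) h'))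
    refine (Nat.card_le_card_of_injective f hf).trans ?_
    letI := Fintype.ofFinite (D : Subgroup G)
    rw [Nat.card_eq_fintype_card, Fintype.card_subtype_compl, Fintype.card_subtype_eq,
      ← Nat.card_eq_fintype_card, hD]
  have h1 := S1875.card_class dN
  rw [hcent] at h1
  have h2 := N.card_mul_index
  rw [show N.index = Nat.card (Sylow 7 G) from (Sylow.card_eq_index_normalizer D).symm, hG, ← h1] at h2
  have hmod := card_sylow_modEq_one 7 G
  rw [Nat.ModEq] at hmod
  set m := Nat.card {u : N // IsConj dN u} with hm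
  clear_value m
  set n := Nat.card (Sylow 7 G) with hn
  clear_value n
  have hN42 : Nat.card N = 42 := by
    rw [← h1]
    interval_cases m <;> omega
  refine ⟨hCD, hN42, fun hcomm => ?_⟩
  have : N ≤ C := fun g hg => Subgroup.mem_centralizer_iff.mpr fun q hq =>
    congrArg Subtype.val (hcomm.is_comm.comm (⟨q, hDN hq⟩ : N) ⟨g, hg⟩)
  have h3 := Subgroup.card_le_of_le this
  rw [hN42, hCD, hD] at h3
  omega

end Cfsg.Agent.S1724
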