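import Cfsg.Statements.S1743
import Cfsg.Agent.G2Syl.Fusion
import Cfsg.Agent.G2Syl.Embed

set_option autoImplicit false
open Cfsg

namespace Cfsg.Agent.S1743

/-- Let G be a finite simple group whose Sylow 2-subgroups are isomorphic to a Sylow 2-subgroup of the Chevalley group of type G₂ over a finite field of odd order, and let S be a Sylow 2-subgroup of G. Then either all involutions of G are conjugate, or S has order 64 and the involutions of G form exactly two conjugacy classes. -/
theorem result {G : Type*} [Group G] [Finite G] [IsSimpleGroup G]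
    {F : Type*} [Field F] [Fintype F] (hF : Odd (Fintype.card F)) (S : Sylow 2 G) (P : Sylow 2 ↥(Cfsg.Lie.chevG2.group F))
    (hS : Nonempty (↥(S : Subgroup G) ≃* ↥(P : Subgroup ↥(Cfsg.Lie.chevG2.group F)))) :
    (∀ x y : G, orderOf x = 2 → orderOf y = 2 → IsConj x y) ∨
      (Nat.card ↥(S : Subgroup G) = 64 ∧ ∃ x y : G, orderOf x = 2 ∧ orderOf y = 2 ∧ ¬ IsConj x y ∧
        ∀ z : G, orderOf z = 2 → IsConj z x ∨ IsConj z y) := by
  classical
  haveI : Fact (Nat.Prime 2) := ⟨Nat.prime_two⟩
  obtain ⟨b, f, hf, hcard⟩ := Cfsg.Agent.G2Syl.exists_model hF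
  haveI : Finite ↥(Cfsg.Lie.chevG2.group F) := inferInstance
  let R : Sylow 2 ↥(Cfsg.Lie.chevG2.group F) := Sylow.ofCard f.range
    (by rw [← Nat.card_congr (MonoidHom.ofInjective hf).toEquiv, hcard])
  obtain ⟨e⟩ := hS
  let ψ : Cfsg.Agent.G2Syl.Mdl (2 ^ (b + 2)) ≃* ↥(S : Subgroup G) :=
    MulEquiv.trans (MonoidHom.ofInjective hf) ((R.equiv P).trans e.symm)
  refine Cfsg.Agent.G2Syl.classes ((S : Subgroup G).subtype.comp ψ.toMonoidHom)
    (Subtype.val_injective.comp ψ.injective) ?_
  rw [MonoidHom.range_comp, MonoidHom.range_eq_top.2 ψ.surjective, ← MonoidHom.range_eq_map,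
    Subgroup.range_subtype]

end Cfsg.Agent.S1743
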