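import Cfsg.Statements.S1755
import Cfsg.Agent.Lib.Components.GenFitting
import Cfsg.Agent.Lib.PGroup.Basic


set_option autoImplicit false
open Cfsg

namespace Cfsg.Agent.S1755

theorem main {G : Type*} [Group G] [Finite G] (z : G) (hz : orderOf z = 2) (H : Subgroup G)
    (hH : H = Subgroup.centralizer ({z} : Set G)) (Qh : Subgroup ↥H) [Qh.Normal]
    (hF : Cfsg.fittingSubgroup ↥H ≤ Qh) (hQ : Cfsg.IsOfSymplecticType ↥Qh)
    (B : Subgroup ↥Qh) (hBc : B.Characteristic) (hBa : IsMulCommutative ↥B) (g : G) :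
    ((B.map Qh.subtype).map H.subtype).map (MulAut.conj g).toMonoidHom =
        (B.map Qh.subtype).map H.subtype ∨
      ((B.map Qh.subtype).map H.subtype).map (MulAut.conj g).toMonoidHom ⊓
        (B.map Qh.subtype).map H.subtype = ⊥ := by
  classical
  set B' : Subgroup G := (B.map Qh.subtype).map H.subtype with hB'
  by_cases hbot : B = ⊥
  · exact Or.inl (by simp [hB', hbot])
  refine or_iff_not_imp_right.mpr fun hint => ?_
  haveI := hBc
  have hzH : z ∈ H := hH ▸ Subgroup.mem_centralizer_singleton_iff.mpr rfl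
  have hz1 : z ≠ 1 := by intro h; rw [h, orderOf_one] at hz; omega
  have hzc : (⟨z, hzH⟩ : ↥H) ∈ Subgroup.center ↥H := by
    rw [Subgroup.mem_center_iff]
    exact fun k => Subtype.ext (Subgroup.mem_centralizer_singleton_iff.mp (hH.le k.2))
  have hzQ : (⟨z, hzH⟩ : ↥H) ∈ Qh := by
    refine hF ?_
    have hnil : Group.IsNilpotent ↥(Subgroup.center ↥H) := by
      letI : CommGroup ↥(Subgroup.center ↥H) :=
        { (inferInstance : Group ↥(Subgroup.center ↥H)) with
          mul_comm := fun a b => Subtype.ext (Subgroup.mem_center_iff.mp b.2 a) }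
      exact CommGroup.isNilpotent
    exact Cfsg.Agent.Fitting.le_fitting inferInstance hnil hzc
  have huniq : ∀ (C : Subgroup ↥Qh), IsCyclic ↥C → ∀ a ∈ C, ∀ b ∈ C, a ^ 2 = 1 → a ≠ 1 →
      b ^ 2 = 1 → b ≠ 1 → a = b := by
    intro C hC a ha b hb ha2 ha1 hb2 hb1
    by_contra hab
    haveI := hC
    haveI : Fintype ↥C := Fintype.ofFinite _
    have h := IsCyclic.card_pow_eq_one_le (α := ↥C) (n := 2) two_pos
    have hsub : ({1, ⟨a, ha⟩, ⟨b, hb⟩} : Finset ↥C) ⊆ Finset.univ.filter fun x => x ^ 2 = 1 := by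
      intro x hx
      simp only [Finset.mem_insert, Finset.mem_singleton] at hx
      simp only [Finset.mem_filter, Finset.mem_univ, true_and]
      rcases hx with rfl | rfl | rfl
      · exact one_pow 2
      · exact Subtype.ext ha2
      · exact Subtype.ext hb2
    have hcard : ({1, ⟨a, ha⟩, ⟨b, hb⟩} : Finset ↥C).card = 3 := by
      rw [Finset.card_insert_of_notMem, Finset.card_insert_of_notMem, Finset.card_singleton]
      · rw [Finset.mem_singleton]
        exact fun h => hab (congrArg Subtype.val h)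
      · simp only [Finset.mem_insert, Finset.mem_singleton, not_or]
        exact ⟨fun h => ha1 (congrArg Subtype.val h).symm, fun h => hb1 (congrArg Subtype.val h).symm⟩
    have := Finset.card_le_card hsub
    omega
  set zq : ↥Qh := ⟨⟨z, hzH⟩, hzQ⟩ with hzq
  have hzq2 : zq ^ 2 = 1 := Subtype.ext (Subtype.ext (by
    show z ^ 2 = 1
    rw [← hz, pow_orderOf_eq_one]))
  have hzq1 : zq ≠ 1 := fun h => hz1 (congrArg (fun w : ↥Qh => ((w : ↥H) : G)) h)
  have hzqc : zq ∈ Subgroup.center ↥Qh := by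
    rw [Subgroup.mem_center_iff]
    exact fun k => Subtype.ext (Subgroup.mem_center_iff.mp hzc k)
  have hBcyc : IsCyclic ↥B := hQ.2 B hBc hBa
  have hZcyc : IsCyclic ↥(Subgroup.center ↥Qh) := hQ.2 _ inferInstance inferInstance
  have hzB : zq ∈ B := by
    haveI : B.Normal := inferInstance
    obtain ⟨u, hu, hu1, hu2⟩ : ∃ u ∈ B ⊓ Subgroup.center ↥Qh, u ≠ 1 ∧ u ^ 2 = 1 := by
      obtain ⟨u, hu, hu1, hup⟩ := Cfsg.Agent.PGroup.exists_mem_pow_eq_one hQ.1
        (Cfsg.Agent.PGroup.inf_center_ne_bot hQ.1 hbot)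
      exact ⟨u, hu, hu1, hup⟩
    rw [← huniq _ hZcyc u hu.2 zq hzqc hu2 hu1 hzq2 hzq1]
    exact hu.1
  have hinv : ∀ w ∈ B', w ^ 2 = 1 → w ≠ 1 → w = z := by
    rintro _ ⟨_, ⟨b, hb, rfl⟩, rfl⟩ hw2 hw1
    have hb2 : b ^ 2 = 1 := by
      apply Qh.subtype_injective
      apply H.subtype_injective
      simpa using hw2
    have hb1 : b ≠ 1 := fun h => hw1 (by simp [h])
    rw [huniq B hBcyc b hb zq hzB hb2 hb1 hzq2 hzq1]
    rfl
  have hp : IsPGroup 2 ↥B' := ((hQ.1.to_subgroup B).map _).map _
  obtain ⟨w, hw, hw1, hw2⟩ := Cfsg.Agent.PGroup.exists_mem_pow_eq_one (p := 2) (G := ↥B')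
    hp (H := (B'.map (MulAut.conj g).toMonoidHom).subgroupOf B') (by
      intro h
      apply hint
      rw [eq_bot_iff]
      intro x hx
      have : (⟨x, hx.2⟩ : ↥B') ∈ (B'.map (MulAut.conj g).toMonoidHom).subgroupOf B' :=
        Subgroup.mem_subgroupOf.mpr hx.1
      rw [h, Subgroup.mem_bot] at this
      exact Subgroup.mem_bot.mpr (congrArg Subtype.val this))
  have hwz : (w : G) = z := hinv _ w.2 (congrArg Subtype.val hw2) fun h => hw1 (Subtype.ext h)
  obtain ⟨v, hv, hvw⟩ := Subgroup.mem_subgroupOf.mp hw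
  have hvz : v = z := hinv v hv
    ((MulAut.conj g).injective (by
      rw [map_pow, map_one]
      exact (congrArg (· ^ 2) hvw).trans (congrArg Subtype.val hw2)))
    fun h => hw1 (Subtype.ext (by rw [← hvw, h, map_one]; rfl))
  rw [hvz, hwz] at hvw
  change g * z * g⁻¹ = z at hvw
  have hgH : g ∈ H := by
    rw [hH, Subgroup.mem_centralizer_singleton_iff]
    exact mul_inv_eq_iff_eq_mul.mp hvw
  haveI : (B.map Qh.subtype).Normal := ConjAct.normal_of_characteristic_of_normal
  refine Subgroup.mem_normalizer_iff_map_conj_eq.mp ?_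
  rw [Subgroup.mem_normalizer_iff]
  intro x
  constructor
  · rintro ⟨y, hy, rfl⟩
    exact ⟨_, (inferInstance : (B.map Qh.subtype).Normal).conj_mem y hy ⟨g, hgH⟩, rfl⟩
  · rintro ⟨y, hy, hxy⟩
    refine ⟨_, (inferInstance : (B.map Qh.subtype).Normal).conj_mem y hy ⟨g, hgH⟩⁻¹, ?_⟩
    show g⁻¹ * (y : G) * g⁻¹⁻¹ = x
    rw [show (y : G) = g * x * g⁻¹ from hxy]
    group

/-- Let G be a finite group and let z be an involution of G such that Q, the generalized Fitting subgroup of the centralizer C of z, is a 2-group of symplectic type (every characteristic abelian subgroup of Q is cyclic). Let B be a characteristic abelian subgroup of Q, viewed as a subgroup of G. Then for every g in G, the conjugate of B by g either equals B or meets B trivially. -/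
theorem result {G : Type*} [Group G] [Finite G] (z : G) (hz : orderOf z = 2) (hQ : Cfsg.IsOfSymplecticType ↥(Cfsg.generalizedFittingSubgroup ↥(Subgroup.centralizer ({z} : Set G))))
    (B : Subgroup ↥(Cfsg.generalizedFittingSubgroup ↥(Subgroup.centralizer ({z} : Set G)))) (hBc : B.Characteristic) (hBa : IsMulCommutative ↥B) (g : G) :
    ((B.map (Cfsg.generalizedFittingSubgroup ↥(Subgroup.centralizer ({z} : Set G))).subtype).map (Subgroup.centralizer ({z} : Set G)).subtype).map (MulAut.conj g).toMonoidHom =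
        (B.map (Cfsg.generalizedFittingSubgroup ↥(Subgroup.centralizer ({z} : Set G))).subtype).map (Subgroup.centralizer ({z} : Set G)).subtype ∨
      ((B.map (Cfsg.generalizedFittingSubgroup ↥(Subgroup.centralizer ({z} : Set G))).subtype).map (Subgroup.centralizer ({z} : Set G)).subtype).map (MulAut.conj g).toMonoidHom ⊓
        (B.map (Cfsg.generalizedFittingSubgroup ↥(Subgroup.centralizer ({z} : Set G))).subtype).map (Subgroup.centralizer ({z} : Set G)).subtype = ⊥ := by
  exact main z hz _ rfl _ Cfsg.Agent.Components.fitting_le_generalizedFitting hQ B hBc hBa g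

end Cfsg.Agent.S1755
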