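import Cfsg.Statements.S1756
import Cfsg.Agent.Class49.Extraspecial


set_option autoImplicit false
open Cfsg
open scoped commutatorElement

namespace Cfsg.Agent.S1756

/-- Let Q be an extraspecial 2-subgroup of the finite group G (special with centre of order 2) and t an involution of G normalizing Q such that the centralizer of t in Q has index at most 2 in Q. Then t lies in the product of Q with the centralizer of Q. -/
theorem result {G : Type*} [Group G] [Finite G] (Q : Subgroup G)
    (hQ : Cfsg.IsExtraspecial 2 ↥Q) (t : G) (ht : orderOf t = 2) (htN : t ∈ Subgroup.normalizer (Q : Set G))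
    (hi : (Subgroup.centralizer ({t} : Set G) ⊓ Q).relIndex Q ≤ 2) :
    t ∈ Q ⊔ Subgroup.centralizer (Q : Set G) := by
  classical
  set C : Subgroup ↥Q := (Subgroup.centralizer ({t} : Set G) ⊓ Q).subgroupOf Q with hC
  have hi' : C.index ≤ 2 := hi
  have hmem : ∀ u : ↥Q, u ∈ C ↔ t * (u : G) = (u : G) * t := by
    intro u
    rw [hC, Subgroup.mem_subgroupOf, Subgroup.mem_inf, Subgroup.mem_centralizer_singleton_iff,
      and_iff_left u.2]
    exact eq_comm
  by_cases hall : C = ⊤
  · refine Subgroup.mem_sup_right (Subgroup.mem_centralizer_iff.mpr fun q hq => ?_)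
    exact ((hmem ⟨q, hq⟩).mp (by rw [hall]; exact Subgroup.mem_top _)).symm
  have hC2 : C.index = 2 := by
    have h1 : C.index ≠ 1 := fun h => hall (Subgroup.index_eq_one.mp h)
    have h2 : C.index ≠ 0 := Subgroup.index_ne_zero_of_finite
    omega
  haveI : C.Normal := Subgroup.normal_of_index_eq_two hC2
  let φ : MulAut ↥Q := Subgroup.normalizerMonoidHom Q ⟨t, htN⟩
  have hφ : ∀ q : ↥Q, ((φ q : ↥Q) : G) = t * (q : G) * t⁻¹ := fun q => rfl
  have hφfix : ∀ u : ↥Q, u ∈ C ↔ φ u = u := by
    intro u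
    rw [hmem, Subtype.ext_iff, hφ, mul_inv_eq_iff_eq_mul]
  have hcomm := Cfsg.Agent.Class49.exSp_commutator_le_center hQ
  have hZC : Subgroup.center ↥Q ≤ C := by
    intro z hz
    by_cases hz1 : z = 1
    · rw [hz1]; exact C.one_mem
    rw [hφfix]
    refine Cfsg.Agent.Class49.exSp_eq_of_mem_center hQ ?_ ?_ hz hz1
    · rw [Subgroup.mem_center_iff]
      intro g
      apply φ.symm.injective
      rw [map_mul, map_mul, MulEquiv.symm_apply_apply]
      exact Subgroup.mem_center_iff.mp hz _
    · exact fun h => hz1 (φ.injective (h.trans (map_one φ).symm))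
  have hcent : ∀ x : ↥Q, x ∈ Subgroup.centralizer (C : Set ↥Q) → ∀ y : ↥Q, y ∉ C →
      x * y = y * x → x ∈ Subgroup.center ↥Q := by
    intro x hx y hy hxy
    have htop : Subgroup.centralizer ({x} : Set ↥Q) = ⊤ := by
      refine ((Cfsg.Agent.PGroup.isCoatom_of_index_prime (hC2 ▸ Nat.prime_two)).2 _
        (lt_of_le_of_ne (fun u hu => ?_) fun h => hy ?_))
      · rw [Subgroup.mem_centralizer_singleton_iff]
        exact Subgroup.mem_centralizer_iff.mp hx u hu
      · rw [h, Subgroup.mem_centralizer_singleton_iff]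
        exact hxy.symm
    rw [Subgroup.mem_center_iff]
    intro g
    exact Subgroup.mem_centralizer_singleton_iff.mp (htop ▸ Subgroup.mem_top g)
  have hinC : ∀ x : ↥Q, x ∈ Subgroup.centralizer (C : Set ↥Q) → x ∈ C := by
    intro x hx
    by_contra hxC
    exact hxC (hZC (hcent x hx x hxC rfl))
  obtain ⟨q, hq⟩ : ∃ q : ↥Q, q ∉ C := by
    by_contra h
    push Not at h
    exact hall ((Subgroup.eq_top_iff' C).mpr h)
  set c : ↥Q := q⁻¹ * φ q with hc
  have hcC : c ∈ Subgroup.centralizer (C : Set ↥Q) := by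
    rw [Subgroup.mem_centralizer_iff]
    intro u hu
    have h1 : φ (q * u * q⁻¹) = q * u * q⁻¹ :=
      (hφfix _).mp ((inferInstance : C.Normal).conj_mem u hu q)
    rw [map_mul, map_mul, map_inv, (hφfix u).mp hu, show φ q = q * c by rw [hc]; group] at h1
    have h2 : c * u * c⁻¹ = u := by
      calc c * u * c⁻¹ = q⁻¹ * (q * c * u * (q * c)⁻¹) * q := by group
        _ = q⁻¹ * (q * u * q⁻¹) * q := by rw [h1]
        _ = u := by group
    exact (mul_inv_eq_iff_eq_mul.mp h2).symm
  have hφq : φ q = q * c := by rw [hc]; group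
  have hc1 : c ≠ 1 := fun h => hq ((hφfix q).mpr (by rw [hφq, h, mul_one]))
  have hcfix : φ c = c := (hφfix c).mp (hinC c hcC)
  have hcsq : c ^ 2 = 1 := by
    have h1 : φ (φ q) = q := by
      apply Subtype.ext
      rw [hφ, hφ]
      have h2 : t * t = 1 := by rw [← pow_two, ← ht, pow_orderOf_eq_one]
      calc t * (t * (q : G) * t⁻¹) * t⁻¹ = t * t * (q : G) * (t * t)⁻¹ := by group
        _ = q := by rw [h2]; group
    rw [hφq, map_mul, hφq, hcfix, mul_assoc, mul_eq_left] at h1
    rw [pow_two]; exact h1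
  have hcZ : c ∈ Subgroup.center ↥Q := by
    refine hcent c hcC q hq ?_
    have h1 : (q * c) ^ 2 = q ^ 2 := by
      rw [← hφq, ← map_pow]
      exact (hφfix _).mp (hZC (Cfsg.Agent.Class49.exSp_sq_mem_center hQ q))
    rw [Cfsg.Agent.PGroup.mul_pow_classTwo hcomm, hcsq, mul_one, mul_eq_left,
      Nat.choose_self, pow_one, commutatorElement_eq_one_iff_mul_comm] at h1
    exact h1
  obtain ⟨w, hw, hwZ⟩ : ∃ w ∈ Subgroup.centralizer (C : Set ↥Q), w ∉ Subgroup.center ↥Q := by
    by_contra h
    push Not at h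
    have h1 : Nat.card (Subgroup.centralizer (C : Set ↥Q)) ≤ 2 :=
      (Subgroup.card_le_of_le h).trans hQ.2.le
    have h2 := Cfsg.Agent.Class49.exSp_card_centralizer hQ hZC
    have h3 := Subgroup.card_mul_index C
    rw [hC2] at h3
    have h4 : 0 < Nat.card ↥C := Nat.card_pos
    nlinarith
  have hwq : ⁅w, q⁆ = c := by
    refine Cfsg.Agent.Class49.exSp_eq_of_mem_center hQ
      (Cfsg.Agent.Class49.exSp_comm_mem_center hQ w q) ?_ hcZ hc1
    intro h
    exact hwZ (hcent w hw q hq (commutatorElement_eq_one_iff_mul_comm.mp h))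
  have hsame : ∀ x : ↥Q, φ x = w * x * w⁻¹ := by
    have hK : (MulEquiv.toMonoidHom φ).eqLocus (MulAut.conj w).toMonoidHom = ⊤ := by
      refine ((Cfsg.Agent.PGroup.isCoatom_of_index_prime (hC2 ▸ Nat.prime_two)).2 _
        (lt_of_le_of_ne (fun u hu => ?_) fun h => hq ?_))
      · show φ u = w * u * w⁻¹
        rw [(hφfix u).mp hu, ← Subgroup.mem_centralizer_iff.mp hw u hu, mul_inv_cancel_right]
      · rw [h]
        show φ q = w * q * w⁻¹
        rw [hφq, Cfsg.Agent.PGroup.conj_eq_comm_mul, hwq]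
        exact Subgroup.mem_center_iff.mp hcZ q
    intro x
    exact (hK ▸ Subgroup.mem_top x : x ∈ (MulEquiv.toMonoidHom φ).eqLocus (MulAut.conj w).toMonoidHom)
  have hC' : (w : G)⁻¹ * t ∈ Subgroup.centralizer (Q : Set G) := by
    rw [Subgroup.mem_centralizer_iff]
    intro x hx
    have h1 := congrArg Subtype.val (hsame ⟨x, hx⟩)
    rw [hφ] at h1
    change t * x * t⁻¹ = (w : G) * x * (w : G)⁻¹ at h1
    calc x * ((w : G)⁻¹ * t) = (w : G)⁻¹ * ((w : G) * x * (w : G)⁻¹) * t := by group
      _ = (w : G)⁻¹ * (t * x * t⁻¹) * t := by rw [h1]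
      _ = (w : G)⁻¹ * t * x := by group
  have := mul_mem (Subgroup.mem_sup_left (T := Subgroup.centralizer (Q : Set G)) w.2)
    (Subgroup.mem_sup_right (S := Q) hC')
  rwa [mul_inv_cancel_left] at this


end Cfsg.Agent.S1756
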