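import Cfsg.Statements.S1774
import Cfsg.Agent.Class49.CharTwo
import Cfsg.Agent.Lib.PGroup.Basic
import Cfsg.Agent.Lib.Involution.IndexTwo
import Cfsg.Agent.Lib.Thompson.Cores


set_option autoImplicit false
open Cfsg
open scoped commutatorElement

namespace Cfsg.Agent.S1774

/-- A 2-group of symplectic type and exponent 4: its squares and commutators lie in the subgroup
generated by the central involution. -/
theorem symplectic_facts {P : Type*} [Group P] [Finite P] (hs : Cfsg.IsOfSymplecticType P)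
    (h4 : ∀ x : P, x ^ 4 = 1) {z0 : P} (hz0 : z0 * z0 = 1) (hz1 : z0 ≠ 1)
    (hz0c : z0 ∈ Subgroup.center P) :
    (∀ a ∈ frattini P, a = 1 ∨ a = z0) ∧
      ∀ a ∈ Subgroup.center P, a * a = 1 → a = 1 ∨ a = z0 := by
  haveI : Fact (Nat.Prime 2) := ⟨Nat.prime_two⟩
  have hcen : ∀ a ∈ Subgroup.center P, a * a = 1 → a = 1 ∨ a = z0 := by
    intro a ha ha2
    by_contra hcon
    push Not at hcon
    haveI : IsCyclic ↥(Subgroup.center P) := hs.2 (Subgroup.center P) inferInstance inferInstance
    have h := Cfsg.Agent.Involution.involution_unique_of_isCyclic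
      (a := (⟨a, ha⟩ : ↥(Subgroup.center P))) (b := ⟨z0, hz0c⟩)
      (orderOf_eq_prime (by rw [pow_two]; exact Subtype.ext ha2) fun h => hcon.1 (congrArg Subtype.val h))
      (orderOf_eq_prime (by rw [pow_two]; exact Subtype.ext hz0) fun h => hz1 (congrArg Subtype.val h))
    exact hcon.2 (congrArg Subtype.val h)
  refine ⟨?_, hcen⟩
  set Φ := frattini P with hΦ
  have hΦeq := Cfsg.Agent.PGroup.frattini_eq_closure_sq hs.1
  have hsq : ∀ x : P, x ^ 2 ∈ Φ := Cfsg.Agent.PGroup.pow_mem_frattini hs.1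
  rcases eq_or_ne Φ ⊥ with hbot | hne
  · intro a ha; rw [hbot, Subgroup.mem_bot] at ha; exact Or.inl ha
  -- `A` is the centre of `Φ`
  set A : Subgroup P := Φ ⊓ Subgroup.centralizer (Φ : Set P) with hA
  have hAc : A.Characteristic := by
    refine Subgroup.characteristic_iff_map_le.mpr fun φ => ?_
    have hΦm : Φ.map φ.toMonoidHom = Φ :=
      (Subgroup.characteristic_iff_map_eq.mp inferInstance) φ
    rintro _ ⟨a, ⟨ha, hac⟩, rfl⟩
    refine ⟨hΦm.le ⟨a, ha, rfl⟩, Subgroup.mem_centralizer_iff.mpr fun y hy => ?_⟩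
    obtain ⟨y', hy', rfl⟩ := hΦm.ge hy
    rw [← map_mul, Subgroup.mem_centralizer_iff.mp hac y' hy', map_mul]
  have hAcomm : IsMulCommutative A :=
    ⟨⟨fun a b => Subtype.ext (Subgroup.mem_centralizer_iff.mp b.2.2 a a.2.1)⟩⟩
  haveI hAcyc : IsCyclic A := hs.2 A hAc hAcomm
  haveI : A.Normal := inferInstance
  haveI : Φ.Normal := inferInstance
  obtain ⟨w, ⟨hwΦ, hwc⟩, hw1, hw2⟩ := Cfsg.Agent.PGroup.exists_mem_pow_eq_one hs.1
    (Cfsg.Agent.PGroup.inf_center_ne_bot hs.1 hne)
  have hwz : w = z0 := (hcen w hwc (by rw [← pow_two]; exact hw2)).resolve_left hw1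
  have hz0A : z0 ∈ A := by
    refine ⟨hwz ▸ hwΦ, Subgroup.mem_centralizer_iff.mpr fun y _ => Subgroup.mem_center_iff.mp hz0c y⟩
  have hAinv : ∀ a ∈ A, a * a = 1 → a = 1 ∨ a = z0 := by
    intro a ha ha2
    by_contra hcon
    push Not at hcon
    have h := Cfsg.Agent.Involution.involution_unique_of_isCyclic
      (a := (⟨a, ha⟩ : A)) (b := ⟨z0, hz0A⟩)
      (orderOf_eq_prime (by rw [pow_two]; exact Subtype.ext ha2) fun h => hcon.1 (congrArg Subtype.val h))
      (orderOf_eq_prime (by rw [pow_two]; exact Subtype.ext hz0) fun h => hz1 (congrArg Subtype.val h))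
    exact hcon.2 (congrArg Subtype.val h)
  have hzc : ∀ p : P, p * z0 = z0 * p := fun p => Subgroup.mem_center_iff.mp hz0c p
  -- key: no element of `Φ` outside `A` has all its conjugates among `e, e z0`
  have key : ∀ e ∈ Φ, (∀ p : P, p * e * p⁻¹ = e ∨ p * e * p⁻¹ = e * z0) → e ∈ A := by
    intro e he hconj
    refine ⟨he, Subgroup.mem_centralizer_iff.mpr fun y hy => ?_⟩
    have hy' : y ∈ Subgroup.centralizer ({e} : Set P) := by
      have hy1 : y ∈ Φ := hy
      rw [hΦ, hΦeq] at hy1
      refine (Subgroup.closure_le _).mpr ?_ hy1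
      rintro _ ⟨p, rfl⟩
      refine Subgroup.mem_centralizer_singleton_iff.mpr ?_
      have h2 : p * (p * e * p⁻¹) * p⁻¹ = e := by
        rcases hconj p with h | h
        · rw [h, h]
        · rw [h]
          calc p * (e * z0) * p⁻¹ = p * e * (z0 * p⁻¹) := by group
            _ = p * e * (p⁻¹ * z0) := by rw [hzc p⁻¹]
            _ = (p * e * p⁻¹) * z0 := by group
            _ = e := by rw [h, mul_assoc, hz0, mul_one]
      calc p ^ 2 * e = p * (p * e * p⁻¹) * p⁻¹ * (p * p) := by rw [pow_two]; group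
        _ = e * p ^ 2 := by rw [h2, pow_two]
    exact Subgroup.mem_centralizer_singleton_iff.mp hy'
  have hΦA : Φ ≤ A := by
    by_contra hle
    let π := QuotientGroup.mk' A
    haveI : (Φ.map π).Normal := Subgroup.Normal.map inferInstance π (QuotientGroup.mk'_surjective A)
    have hPp : IsPGroup 2 (P ⧸ A) := hs.1.to_quotient A
    have hne' : Φ.map π ≠ ⊥ := by
      rw [ne_eq, Subgroup.map_eq_bot_iff, QuotientGroup.ker_mk']; exact hle
    obtain ⟨q, ⟨⟨b, hb, rfl⟩, hqc⟩, hq1, hq2⟩ := Cfsg.Agent.PGroup.exists_mem_pow_eq_one hPp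
      (Cfsg.Agent.PGroup.inf_center_ne_bot hPp hne')
    have hbA : b ∉ A := fun h => hq1 ((QuotientGroup.eq_one_iff b).mpr h)
    have hb2 : b * b ∈ A := by
      rw [← QuotientGroup.eq_one_iff, ← QuotientGroup.mk'_apply, map_mul]
      rw [← pow_two]; exact hq2
    have hbc : ∀ p : P, b⁻¹ * (p * b * p⁻¹) ∈ A := fun p => by
      rw [← QuotientGroup.eq_one_iff, ← QuotientGroup.mk'_apply, map_mul, map_mul, map_mul,
        map_inv, map_inv]
      change (π b)⁻¹ * (π p * π b * (π p)⁻¹) = 1
      rw [Subgroup.mem_center_iff.mp hqc (π p), mul_inv_cancel_right, inv_mul_cancel]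
    -- replace `b` by an involution when `A` has an element of order four
    by_cases hbig : ∀ a ∈ A, a * a = 1
    · refine hbA (key b hb fun p => ?_)
      rcases hAinv _ (hbc p) (hbig _ (hbc p)) with h | h
      · exact Or.inl (inv_mul_eq_one.mp h).symm
      · exact Or.inr (inv_mul_eq_iff_eq_mul.mp h)
    push Not at hbig
    obtain ⟨a, ha, ha2⟩ := hbig
    have haz : a * a = z0 := by
      refine (hAinv _ (A.mul_mem ha ha) ?_).resolve_left ha2
      rw [← pow_two, ← pow_two, ← pow_mul]; exact h4 a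
    obtain ⟨e, heΦ, heA, he2, hec⟩ : ∃ e ∈ Φ, e ∉ A ∧ e * e = 1 ∧
        ∀ p : P, e⁻¹ * (p * e * p⁻¹) ∈ A := by
      rcases hAinv _ hb2 (by rw [← pow_two, ← pow_two, ← pow_mul]; exact h4 b) with h | h
      · exact ⟨b, hb, hbA, h, hbc⟩
      · have hab : a * b = b * a := (Subgroup.mem_centralizer_iff.mp ha.2 b hb).symm
        refine ⟨a * b, Φ.mul_mem ha.1 hb, fun h' => hbA ?_, ?_, fun p => ?_⟩
        · have := A.mul_mem (A.inv_mem ha) h'
          simpa using this
        · calc a * b * (a * b) = a * (b * a) * b := by group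
            _ = a * (a * b) * b := by rw [← hab]
            _ = (a * a) * (b * b) := by group
            _ = 1 := by rw [haz, h, hz0]
        · have h1 : p * a * p⁻¹ ∈ A := (inferInstance : A.Normal).conj_mem a ha p
          have h2 := hbc p
          have h3 : b⁻¹ * (a⁻¹ * (p * a * p⁻¹)) * b ∈ A := by
            have := (inferInstance : A.Normal).conj_mem _ (A.mul_mem (A.inv_mem ha) h1) b⁻¹
            simpa using this
          have := A.mul_mem h3 h2
          simpa [mul_assoc] using this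
    refine heA (key e heΦ fun p => ?_)
    have hcm : e * (e⁻¹ * (p * e * p⁻¹)) = (e⁻¹ * (p * e * p⁻¹)) * e :=
      Subgroup.mem_centralizer_iff.mp (hec p).2 e heΦ
    have hsq1 : (e⁻¹ * (p * e * p⁻¹)) * (e⁻¹ * (p * e * p⁻¹)) = 1 := by
      have hei : e⁻¹ = e := inv_eq_of_mul_eq_one_right he2
      calc (e⁻¹ * (p * e * p⁻¹)) * (e⁻¹ * (p * e * p⁻¹))
          = (e⁻¹ * (p * e * p⁻¹)) * e⁻¹ * (p * e * p⁻¹) := by group
        _ = (e⁻¹ * (p * e * p⁻¹)) * e * (p * e * p⁻¹) := by rw [hei]
        _ = (e * (e⁻¹ * (p * e * p⁻¹))) * (p * e * p⁻¹) := by rw [hcm]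
        _ = p * (e * e) * p⁻¹ := by group
        _ = 1 := by rw [he2, mul_one, mul_inv_cancel]
    rcases hAinv _ (hec p) hsq1 with h | h
    · exact Or.inl (inv_mul_eq_one.mp h).symm
    · exact Or.inr (inv_mul_eq_iff_eq_mul.mp h)
  have hclos : Φ ≤ Subgroup.zpowers z0 := by
    rw [hΦ, hΦeq, Subgroup.closure_le]
    rintro _ ⟨p, rfl⟩
    rcases hAinv (p ^ 2) (hΦA (hsq p)) (by rw [← pow_two, ← pow_mul]; exact h4 p) with h | h
    · show p ^ 2 ∈ Subgroup.zpowers z0
      rw [h]; exact one_mem _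
    · show p ^ 2 ∈ Subgroup.zpowers z0
      rw [h]; exact Subgroup.mem_zpowers _
  intro a ha
  refine hAinv a (hΦA ha) ?_
  obtain ⟨i, rfl⟩ := Subgroup.mem_zpowers_iff.mp (hclos ha)
  rw [← ((Commute.refl z0).mul_zpow i), hz0, one_zpow]

variable {G : Type*} [Group G]

/-- The properties of `Q = F*(C(z))` that are used. -/
structure Sys (z : G) (Q : Subgroup G) : Prop where
  ne_one : z ≠ 1
  mul_self : z * z = 1
  le : ∀ q ∈ Q, q * z = z * q
  mem : z ∈ Q
  norm : ∀ c : G, c * z = z * c → ∀ q ∈ Q, c * q * c⁻¹ ∈ Q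
  sq : ∀ q ∈ Q, q * q = 1 ∨ q * q = z
  comm : ∀ a ∈ Q, ∀ b ∈ Q, a * b * a⁻¹ = b ∨ a * b * a⁻¹ = z * b
  cen : ∀ a ∈ Q, a * a = 1 → (∀ b ∈ Q, a * b = b * a) → a = 1 ∨ a = z
  self : ∀ c : G, c * z = z * c → (∀ q ∈ Q, c * q * c⁻¹ = q ∨ c * q * c⁻¹ = z * q) → c ∈ Q
  twoGroup : IsPGroup 2 ↥(Subgroup.centralizer ({z} : Set G)) → ∀ c : G, c * z = z * c → c ∈ Q

theorem Sys.conj {z : G} {Q : Subgroup G} (h : Sys z Q) (g : G) :
    Sys (g * z * g⁻¹) (Q.map (MulAut.conj g).toMonoidHom) := by
  set φ : G ≃* G := MulAut.conj g with hφ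
  have hz : g * z * g⁻¹ = φ z := rfl
  rw [hz]
  have hcomm : ∀ c : G, c * φ z = φ z * c → ∃ d, φ d = c ∧ d * z = z * d := fun c hc => by
    obtain ⟨d, rfl⟩ := φ.surjective c
    exact ⟨d, rfl, φ.injective (by rw [map_mul, map_mul, hc])⟩
  refine ⟨by simpa using h.ne_one, by rw [← map_mul, h.mul_self, map_one], ?_, ⟨z, h.mem, rfl⟩,
    ?_, ?_, ?_, ?_, ?_, ?_⟩
  · rintro _ ⟨q, hq, rfl⟩
    exact by rw [MulEquiv.coe_toMonoidHom, ← map_mul, h.le q hq, map_mul]
  · rintro c hc _ ⟨q, hq, rfl⟩
    obtain ⟨d, rfl, hd⟩ := hcomm c hc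
    exact ⟨d * q * d⁻¹, h.norm d hd q hq, by simp [φ.map_mul]⟩
  · rintro _ ⟨q, hq, rfl⟩
    rcases h.sq q hq with h' | h'
    · left; simp only [MulEquiv.coe_toMonoidHom]; rw [← map_mul, h', map_one]
    · right; simp only [MulEquiv.coe_toMonoidHom]; rw [← map_mul, h']
  · rintro _ ⟨a, ha, rfl⟩ _ ⟨b, hb, rfl⟩
    simp only [MulEquiv.coe_toMonoidHom]
    rcases h.comm a ha b hb with h' | h'
    · left; rw [← map_inv, ← map_mul, ← map_mul, h']
    · right; rw [← map_inv, ← map_mul, ← map_mul, h', map_mul]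
  · rintro _ ⟨a, ha, rfl⟩ ha2 hab
    simp only [MulEquiv.coe_toMonoidHom] at *
    rcases h.cen a ha (φ.injective (by rw [map_mul, ha2, map_one]))
      (fun b hb => φ.injective (by rw [map_mul, map_mul]; exact hab _ ⟨b, hb, rfl⟩)) with h' | h'
    · left; rw [h', map_one]
    · right; rw [h']
  · intro c hc hq
    obtain ⟨d, rfl, hd⟩ := hcomm c hc
    refine ⟨d, h.self d hd fun q hqQ => ?_, rfl⟩
    rcases hq (φ q) ⟨q, hqQ, rfl⟩ with h' | h'
    · left; exact φ.injective (by rw [map_mul, map_mul, map_inv, h'])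
    · right; exact φ.injective (by rw [map_mul, map_mul, map_inv, h', map_mul])
  · intro hp c hc
    obtain ⟨d, rfl, hd⟩ := hcomm c hc
    refine ⟨d, h.twoGroup ?_ d hd, rfl⟩
    intro x
    have hx : φ (x : G) ∈ Subgroup.centralizer ({φ z} : Set G) :=
      Subgroup.mem_centralizer_singleton_iff.mpr (by
        rw [← map_mul, Subgroup.mem_centralizer_singleton_iff.mp x.2, map_mul])
    obtain ⟨k, hk⟩ := hp ⟨_, hx⟩
    refine ⟨k, Subtype.ext (φ.injective ?_)⟩
    have := congrArg Subtype.val hk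
    simpa using this

/-- If `u ∈ Q` then `z ∈ V`, where `(u, V)` is another such system. -/
theorem Sys.mem_of_mem [Finite G] {z u : G} {Q V : Subgroup G} (hQ : Sys z Q) (hV : Sys u V)
    (huQ : u ∈ Q) (hne : u ≠ z) {g : G} (hgu : g * z * g⁻¹ = u)
    (hgV : Q.map (MulAut.conj g).toMonoidHom = V) : z ∈ V := by
  by_contra hzV
  have hzu : z * u = u * z := (hQ.le u huQ).symm
  have huu : u * u = 1 := hV.mul_self
  -- `u` is not central in `Q`
  obtain ⟨q, hqQ, hq⟩ : ∃ q ∈ Q, q * u * q⁻¹ = z * u := by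
    by_contra hcon
    push Not at hcon
    rcases hQ.cen u huQ huu (fun b hb => by
      rcases hQ.comm b hb u huQ with h | h
      · exact (mul_inv_eq_iff_eq_mul.mp h).symm
      · exact absurd h (hcon b hb)) with h | h
    · exact hV.ne_one h
    · exact hne h
  -- no element of `V` moves `z` to `z u`
  have hB : ∀ w ∈ V, w * z * w⁻¹ ≠ z * u := by
    intro w hw hwz
    apply hzV
    have hwu : w * u = u * w := hV.le w hw
    have h1 : q * w * z * (q * w)⁻¹ = u := by
      calc q * w * z * (q * w)⁻¹ = q * (w * z * w⁻¹) * q⁻¹ := by group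
        _ = q * (z * u) * q⁻¹ := by rw [hwz]
        _ = (q * z) * q⁻¹ * (q * u * q⁻¹) := by group
        _ = z * q * q⁻¹ * (z * u) := by rw [hQ.le q hqQ, hq]
        _ = (z * z) * u := by group
        _ = u := by rw [hQ.mul_self, one_mul]
    set h := q * w with hh
    have hgh : (g⁻¹ * h) * z = z * (g⁻¹ * h) := by
      calc (g⁻¹ * h) * z = g⁻¹ * (h * z * h⁻¹) * h := by group
        _ = g⁻¹ * (g * z * g⁻¹) * h := by rw [h1, hgu]
        _ = z * (g⁻¹ * h) := by group
    have hwinv : w⁻¹ * z * w = z * u := by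
      have : w⁻¹ * (z * u) * w = z := by rw [← hwz]; group
      calc w⁻¹ * z * w = w⁻¹ * (z * (u * u)) * w := by rw [huu, mul_one]
        _ = w⁻¹ * (z * u) * (u * w) := by group
        _ = w⁻¹ * (z * u) * (w * u) := by rw [hwu]
        _ = (w⁻¹ * (z * u) * w) * u := by group
        _ = z * u := by rw [this]
    have hmem : h⁻¹ * z * h ∈ Q := by
      have e : h⁻¹ * z * h = w⁻¹ * z * w := by
        calc h⁻¹ * z * h = w⁻¹ * q⁻¹ * (z * q) * w := by rw [hh]; group
          _ = w⁻¹ * q⁻¹ * (q * z) * w := by rw [hQ.le q hqQ]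
          _ = _ := by group
      rw [e, hwinv]
      exact Q.mul_mem hQ.mem huQ
    rw [← hgV]
    refine ⟨(g⁻¹ * h) * (h⁻¹ * z * h) * (g⁻¹ * h)⁻¹, hQ.norm _ hgh _ hmem, ?_⟩
    simp only [MulEquiv.coe_toMonoidHom, MulAut.conj_apply]
    group
  -- `z` fixes everything in `V` modulo `u` only if it fixes it
  have hfix : ∀ w ∈ V, z * w * z⁻¹ = u * w → False := by
    intro w hw h
    refine hB w hw ?_
    have hzi : z⁻¹ = z := inv_eq_of_mul_eq_one_right hQ.mul_self
    calc w * z * w⁻¹ = z * (z * w * z⁻¹) * z * z * w⁻¹ * 1 := by rw [hzi, mul_one]; simp [mul_assoc, ← mul_assoc z z, hQ.mul_self]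
      _ = z * (u * w) * (z * z) * w⁻¹ * 1 := by rw [h]; group
      _ = z * u := by rw [hQ.mul_self]; group
  have hzn : ∀ w ∈ V, z * w * z⁻¹ ∈ V := fun w hw => hV.norm z hzu w hw
  -- `C_V(C_V(z)) ≤ C_V(z)`
  have hCY : ∀ v ∈ V, (∀ y ∈ V, y * z = z * y → v * y = y * v) → v * z = z * v := by
    intro v hv hvY
    have hzi : z⁻¹ = z := inv_eq_of_mul_eq_one_right hQ.mul_self
    set c := z * v * z⁻¹ * v⁻¹ with hc
    have hcV : c ∈ V := V.mul_mem (hzn v hv) (V.inv_mem hv)
    have hinv : z * c * z⁻¹ = c⁻¹ := by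
      rw [hc, hzi]
      calc z * (z * v * z * v⁻¹) * z = (z * z) * v * z * v⁻¹ * z := by group
        _ = v * z * v⁻¹ * z := by rw [hQ.mul_self, one_mul]
        _ = v * z⁻¹ * v⁻¹ * z⁻¹ := by rw [hzi]
        _ = (z * v * z * v⁻¹)⁻¹ := by group
    have hccen : ∀ w ∈ V, c * w = w * c := by
      intro w hw
      set w' := z * w * z⁻¹ with hw'
      have hw'V : w' ∈ V := hzn w hw
      have hy : (w * w') * z = z * (w * w') := by
        have e : z * (w * w') * z⁻¹ = w' * w := by
          rw [hw', hzi]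
          calc z * (w * (z * w * z)) * z = z * w * z * w * (z * z) := by group
            _ = z * w * z * w := by rw [hQ.mul_self, mul_one]
            _ = z * w * z * w := rfl
        rcases hV.comm w' hw'V w hw with h | h
        · rw [mul_inv_eq_iff_eq_mul.mp h] at e
          exact (mul_inv_eq_iff_eq_mul.mp e).symm
        · exfalso
          refine hfix _ (V.mul_mem hw hw'V) ?_
          rw [e, mul_inv_eq_iff_eq_mul.mp h]; group
      have hvyy : v * (w * w') = (w * w') * v := hvY _ (V.mul_mem hw hw'V) hy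
      -- compare commutators
      have key : ∀ a ∈ V, ∀ b ∈ V, ∃ e, (e = 1 ∨ e = u) ∧ a * b = e * (b * a) := by
        intro a ha b hb
        rcases hV.comm a ha b hb with h | h
        · exact ⟨1, Or.inl rfl, by rw [one_mul]; exact mul_inv_eq_iff_eq_mul.mp h⟩
        · exact ⟨u, Or.inr rfl, by rw [← mul_assoc]; exact mul_inv_eq_iff_eq_mul.mp h⟩
      have hec : ∀ e, (e = 1 ∨ e = u) → (e * e = 1 ∧ z * e = e * z ∧ ∀ a ∈ V, a * e = e * a) := by
        rintro e (rfl | rfl)
        · simp
        · exact ⟨huu, hzu, hV.le⟩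
      obtain ⟨e₁, he₁, h₁⟩ := key v hv w hw
      obtain ⟨e₂, he₂, h₂⟩ := key v hv w' hw'V
      obtain ⟨he₁2, he₁z, he₁c⟩ := hec e₁ he₁
      obtain ⟨he₂2, he₂z, he₂c⟩ := hec e₂ he₂
      have h12 : e₁ * e₂ = 1 := by
        have e : v * (w * w') = e₁ * e₂ * ((w * w') * v) := by
          calc v * (w * w') = (v * w) * w' := by group
            _ = e₁ * w * (v * w') := by rw [h₁]; group
            _ = e₁ * (w * e₂) * (w' * v) := by rw [h₂]; group
            _ = e₁ * e₂ * ((w * w') * v) := by rw [he₂c w hw]; group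
        rw [hvyy] at e
        exact mul_eq_right.mp e.symm
      have h21 : e₂ = e₁ := by
        calc e₂ = (e₁ * e₁) * e₂ := by rw [he₁2, one_mul]
          _ = e₁ * (e₁ * e₂) := by group
          _ = e₁ := by rw [h12, mul_one]
      set v' := z * v * z⁻¹ with hv'
      have hv'V : v' ∈ V := hzn v hv
      have h3 : v' * w = e₁ * (w * v') := by
        have := congrArg (fun t => z * t * z⁻¹) h₂
        simp only [hw', h21] at this
        rw [hv', hzi] at *
        calc z * v * z * w = z * v * z * w * (z * z) := by rw [hQ.mul_self, mul_one]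
          _ = z * (v * (z * w * z)) * z := by group
          _ = z * (e₁ * (z * w * z * v)) * z := this
          _ = (z * e₁) * z * w * z * v * z := by group
          _ = (e₁ * z) * z * w * z * v * z := by rw [he₁z]
          _ = e₁ * (z * z) * w * (z * v * z) := by group
          _ = e₁ * (w * (z * v * z)) := by rw [hQ.mul_self, mul_one]; group
      have hcv : c = v' * v⁻¹ := by rw [hc, hv']
      have h4 : v⁻¹ * w = e₁ * (w * v⁻¹) := by
        have h5 : w * v = e₁ * (v * w) := by
          rw [h₁, ← mul_assoc, he₁2, one_mul]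
        calc v⁻¹ * w = v⁻¹ * (w * v) * v⁻¹ := by group
          _ = v⁻¹ * ((e₁ * v) * w) * v⁻¹ := by rw [h5]; group
          _ = v⁻¹ * ((v * e₁) * w) * v⁻¹ := by rw [he₁c v hv]
          _ = e₁ * (w * v⁻¹) := by group
      rw [hcv]
      calc v' * v⁻¹ * w = v' * (e₁ * (w * v⁻¹)) := by rw [mul_assoc, h4]
        _ = (v' * e₁) * w * v⁻¹ := by group
        _ = e₁ * (v' * w) * v⁻¹ := by rw [he₁c v' hv'V]; group
        _ = e₁ * e₁ * w * v' * v⁻¹ := by rw [h3]; group
        _ = w * (v' * v⁻¹) := by rw [he₁2]; group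
    have hc2 : c * c = 1 := by
      rcases hV.sq c hcV with h | h
      · exact h
      · exfalso
        refine hfix c hcV ?_
        rw [hinv, ← h]
        have : c * c * (c * c) = 1 := by rw [h, huu]
        calc c⁻¹ = c⁻¹ * (c * c * (c * c)) := by rw [this, mul_one]
          _ = c * c * c := by group
    rcases hV.cen c hcV hc2 hccen with h | h
    · rw [hc, mul_inv_eq_one, mul_inv_eq_iff_eq_mul] at h
      exact h.symm
    · exfalso
      refine hfix v hv ?_
      rw [hc, mul_inv_eq_iff_eq_mul] at h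
      exact h
  -- `C_Q(C_Q(u)) ≤ Z(Q) ⟨u⟩`
  have hdual : ∀ x ∈ Q, x * x = 1 → (∀ a ∈ Q, a * u = u * a → x * a = a * x) →
      x = 1 ∨ x = z ∨ x = u ∨ x = z * u := by
    intro x hx hx2 hxX
    have hcov : ∀ a ∈ Q, ¬ a * u = u * a → (q⁻¹ * a) * u = u * (q⁻¹ * a) := by
      intro a ha hau
      rcases hQ.comm a ha u huQ with h | h
      · exact absurd (mul_inv_eq_iff_eq_mul.mp h) hau
      · have h2 : q * u * q⁻¹ = a * u * a⁻¹ := by rw [h, hq]
        calc q⁻¹ * a * u = q⁻¹ * (a * u * a⁻¹) * a := by group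
          _ = q⁻¹ * (q * u * q⁻¹) * a := by rw [h2]
          _ = u * (q⁻¹ * a) := by group
    rcases hQ.comm q hqQ x hx with h | h
    · have hxc : ∀ a ∈ Q, x * a = a * x := by
        intro a ha
        by_cases hau : a * u = u * a
        · exact hxX a ha hau
        · have h1 : Commute x q := (mul_inv_eq_iff_eq_mul.mp h).symm
          have h2 : Commute x (q⁻¹ * a) := hxX _ (Q.mul_mem (Q.inv_mem hqQ) ha) (hcov a ha hau)
          have := h1.mul_right h2
          rw [mul_inv_cancel_left] at this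
          exact this
      rcases hQ.cen x hx hx2 hxc with h' | h'
      · exact Or.inl h'
      · exact Or.inr (Or.inl h')
    · have hxu : x * u = u * x := hxX u huQ rfl
      have hqxu : q * (x * u) * q⁻¹ = x * u := by
        calc q * (x * u) * q⁻¹ = (q * x * q⁻¹) * (q * u * q⁻¹) := by group
          _ = z * (x * z) * u := by rw [h, hq]; group
          _ = z * (z * x) * u := by rw [hQ.le x hx]
          _ = (z * z) * (x * u) := by group
          _ = x * u := by rw [hQ.mul_self, one_mul]
      have hxc : ∀ a ∈ Q, (x * u) * a = a * (x * u) := by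
        intro a ha
        have hcomm1 : ∀ b ∈ Q, b * u = u * b → Commute (x * u) b := fun b hb hbu =>
          (show Commute x b from hxX b hb hbu).mul_left (show Commute u b from hbu.symm)
        by_cases hau : a * u = u * a
        · exact hcomm1 a ha hau
        · have h1 : Commute (x * u) q := (mul_inv_eq_iff_eq_mul.mp hqxu).symm
          have := h1.mul_right (hcomm1 _ (Q.mul_mem (Q.inv_mem hqQ) ha) (hcov a ha hau))
          rw [mul_inv_cancel_left] at this
          exact this
      have hxu2 : x * u * (x * u) = 1 := by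
        calc x * u * (x * u) = x * (u * x) * u := by group
          _ = x * (x * u) * u := by rw [hxu]
          _ = (x * x) * (u * u) := by group
          _ = 1 := by rw [hx2, huu, mul_one]
      have hxeq : x = (x * u) * u := by rw [mul_assoc, huu, mul_one]
      rcases hQ.cen (x * u) (Q.mul_mem hx huQ) hxu2 hxc with h' | h'
      · rw [h', one_mul] at hxeq; exact Or.inr (Or.inr (Or.inl hxeq))
      · rw [h'] at hxeq; exact Or.inr (Or.inr (Or.inr hxeq))
  have hzuV : z * u ∉ V := fun h => hzV (by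
    have := V.mul_mem h hV.mem
    rwa [mul_assoc, huu, mul_one] at this)
  -- the intersection
  have hI : ∀ i, i ∈ Q → i ∈ V → i = 1 ∨ i = u := by
    intro i hiQ hiV
    have hi2 : i * i = 1 := by
      rcases hQ.sq i hiQ with h | h
      · exact h
      · rcases hV.sq i hiV with h' | h'
        · exact h'
        · exact absurd (h'.symm.trans h) hne
    have hix : ∀ a ∈ Q, a * u = u * a → i * a = a * i := by
      intro a ha hau
      rcases hQ.comm a ha i hiQ with h | h
      · exact (mul_inv_eq_iff_eq_mul.mp h).symm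
      · exfalso
        apply hzV
        have := V.mul_mem (hV.norm a hau i hiV) (V.inv_mem hiV)
        rwa [h, mul_inv_cancel_right] at this
    rcases hdual i hiQ hi2 hix with h | h | h | h
    · exact Or.inl h
    · exact absurd (h ▸ hiV) hzV
    · exact Or.inr h
    · exact absurd (h ▸ hiV) hzuV
  -- `C_Q(u)` is elementary abelian
  have hX2 : ∀ x ∈ Q, x * u = u * x → x * x = 1 := by
    intro x hx hxu
    refine (hQ.sq x hx).resolve_right fun hxx => hzV ?_
    rw [← hxx]
    refine hV.self _ (by rw [mul_assoc, hxu, ← mul_assoc, hxu, mul_assoc]) fun v hv => ?_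
    have hxv : ∀ v ∈ V, x * v * x⁻¹ ∈ V := fun v hv => hV.norm x hxu v hv
    set d := x * v * x⁻¹ * v⁻¹ with hd
    have hdV : d ∈ V := V.mul_mem (hxv v hv) (V.inv_mem hv)
    have hdz : d * z = z * d := by
      refine hCY d hdV fun y hy hyz => ?_
      -- `x` fixes `y` modulo `u`
      have hxy : ∃ e, (e = 1 ∨ e = u) ∧ x * y * x⁻¹ = e * y := by
        refine ⟨x * y * x⁻¹ * y⁻¹, hI _ ?_ ?_, by group⟩
        · have := Q.mul_mem hx (hQ.norm y hyz _ (Q.inv_mem hx))
          simpa [mul_assoc] using this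
        · exact V.mul_mem (hxv y hy) (V.inv_mem hy)
      obtain ⟨e, he, hxy⟩ := hxy
      have hec : (∀ a ∈ V, a * e = e * a) ∧ x * e = e * x ∧ e * e = 1 := by
        rcases he with rfl | rfl
        · simp
        · exact ⟨hV.le, hxu, huu⟩
      obtain ⟨hec, hex, hee⟩ := hec
      have hvy : ∃ f, (f = 1 ∨ f = u) ∧ v * y = f * (y * v) := by
        rcases hV.comm v hv y hy with h | h
        · exact ⟨1, Or.inl rfl, by rw [one_mul]; exact mul_inv_eq_iff_eq_mul.mp h⟩
        · exact ⟨u, Or.inr rfl, by rw [← mul_assoc]; exact mul_inv_eq_iff_eq_mul.mp h⟩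
      obtain ⟨f, hf, hvy⟩ := hvy
      have hfc : (∀ a ∈ V, a * f = f * a) ∧ x * f = f * x ∧ f * f = 1 := by
        rcases hf with rfl | rfl
        · simp
        · exact ⟨hV.le, hxu, huu⟩
      obtain ⟨hfc, hfx, hff⟩ := hfc
      set v1 := x * v * x⁻¹ with hv1
      have h1 : v1 * y = f * (y * v1) := by
        have h2 : v1 * (x * y * x⁻¹) = f * ((x * y * x⁻¹) * v1) := by
          calc v1 * (x * y * x⁻¹) = x * (v * y) * x⁻¹ := by rw [hv1]; group
            _ = (x * f) * (y * v) * x⁻¹ := by rw [hvy]; group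
            _ = f * x * (y * v) * x⁻¹ := by rw [hfx]
            _ = _ := by rw [hv1]; group
        rw [hxy] at h2
        have heV : e ∈ V := by rcases he with rfl | rfl; exacts [V.one_mem, hV.mem]
        apply mul_left_cancel (a := e)
        calc e * (v1 * y) = (e * v1) * y := by group
          _ = (v1 * e) * y := by rw [hec v1 (hxv v hv)]
          _ = v1 * (e * y) := by group
          _ = f * (e * y * v1) := h2
          _ = (f * e) * (y * v1) := by group
          _ = (e * f) * (y * v1) := by rw [hfc e heV]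
          _ = e * (f * (y * v1)) := by group
      have h3 : v⁻¹ * y = f * (y * v⁻¹) := by
        have h5 : y * v = f * (v * y) := by rw [hvy, ← mul_assoc, hff, one_mul]
        calc v⁻¹ * y = v⁻¹ * (y * v) * v⁻¹ := by group
          _ = v⁻¹ * ((f * v) * y) * v⁻¹ := by rw [h5]; group
          _ = v⁻¹ * ((v * f) * y) * v⁻¹ := by rw [hfc v hv]
          _ = f * (y * v⁻¹) := by group
      calc d * y = v1 * (v⁻¹ * y) := by rw [hd]; group
        _ = (v1 * f) * y * v⁻¹ := by rw [h3]; group
        _ = f * (v1 * y) * v⁻¹ := by rw [hfc v1 (hxv v hv)]; group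
        _ = f * f * y * v1 * v⁻¹ := by rw [h1]; group
        _ = y * d := by rw [hff, hd]; group
    -- `x` fixes `d` modulo `u`
    have hxd : ∃ e, (e = 1 ∨ e = u) ∧ x * d * x⁻¹ = e * d := by
      refine ⟨x * d * x⁻¹ * d⁻¹, hI _ ?_ ?_, by group⟩
      · have := Q.mul_mem hx (hQ.norm d hdz _ (Q.inv_mem hx))
        simpa [mul_assoc] using this
      · exact V.mul_mem (hxv d hdV) (V.inv_mem hdV)
    obtain ⟨e, he, hxd⟩ := hxd
    have e1 : x * x * v * (x * x)⁻¹ = e * (d * d) * v := by
      calc x * x * v * (x * x)⁻¹ = x * (d * v) * x⁻¹ := by rw [hd]; group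
        _ = (x * d * x⁻¹) * (x * v * x⁻¹) := by group
        _ = e * d * (d * v) := by rw [hxd, hd]; group
        _ = _ := by group
    rw [e1]
    rcases he with rfl | rfl <;> rcases hV.sq d hdV with h | h <;> rw [h]
    · left; rw [one_mul, one_mul]
    · right; rw [one_mul]
    · right; rw [mul_one]
    · left; rw [huu, one_mul]
  have hzu2 : z * u * (z * u) = 1 := by
    calc z * u * (z * u) = z * (u * z) * u := by group
      _ = z * (z * u) * u := by rw [hzu]
      _ = (z * z) * (u * u) := by group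
      _ = 1 := by rw [hQ.mul_self, huu, one_mul]
  have hXset : ∀ x ∈ Q, x * u = u * x → x = 1 ∨ x = z ∨ x = u ∨ x = z * u := by
    intro x hx hxu
    refine hdual x hx (hX2 x hx hxu) fun a ha hau => ?_
    have h1 := hX2 x hx hxu
    have h2 := hX2 a ha hau
    have h3 := hX2 _ (Q.mul_mem hx ha) (by rw [mul_assoc, hau, ← mul_assoc, hxu, mul_assoc])
    calc x * a = x * (x * a * (x * a)) * a := by rw [h3, mul_one]
      _ = (x * x) * (a * x) * (a * a) := by group
      _ = a * x := by rw [h1, h2, one_mul, mul_one]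
  -- `C(z)` is a 2-group
  have hC2 : IsPGroup 2 ↥(Subgroup.centralizer ({z} : Set G)) := by
    obtain ⟨a, haQ, hau, haa⟩ : ∃ a ∈ Q, a * u * a⁻¹ = z * u ∧ a * a = z := by
      rcases hQ.sq q hqQ with h | h
      · refine ⟨q * u, Q.mul_mem hqQ huQ, ?_, ?_⟩
        · calc q * u * u * (q * u)⁻¹ = q * (u * u) * u⁻¹ * q⁻¹ := by group
            _ = q * u⁻¹ * q⁻¹ := by rw [huu, mul_one]
            _ = q * u * q⁻¹ := by rw [inv_eq_of_mul_eq_one_right huu]
            _ = _ := hq
        · calc q * u * (q * u) = (q * u * q⁻¹) * (q * q) * u := by group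
            _ = z * (u * u) := by rw [hq, h, mul_one, mul_assoc]
            _ = z := by rw [huu, mul_one]
      · exact ⟨q, hqQ, hq, h⟩
    have hai : a⁻¹ = a * z := by
      refine inv_eq_of_mul_eq_one_right ?_
      rw [← mul_assoc, haa, hQ.mul_self]
    have hua : u * a = z * (a * u) := by
      have h1 : a * u = z * u * a := mul_inv_eq_iff_eq_mul.mp hau
      rw [h1, ← mul_assoc, ← mul_assoc, hQ.mul_self, one_mul]
    have hauau : a * u * (a * u) = 1 := by
      calc a * u * (a * u) = a * (u * a) * u := by group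
        _ = (a * z) * a * (u * u) := by rw [hua]; group
        _ = z * (a * a) := by rw [hQ.le a haQ, huu, mul_one, mul_assoc]
        _ = 1 := by rw [haa, hQ.mul_self]
    -- elements of `Q`
    have hQset : ∀ x ∈ Q, (x = 1 ∨ x = z ∨ x = u ∨ x = z * u) ∨
        ∃ b, (b = 1 ∨ b = z ∨ b = u ∨ b = z * u) ∧ x = a * b := by
      intro x hx
      by_cases hxu : x * u = u * x
      · exact Or.inl (hXset x hx hxu)
      · refine Or.inr ⟨a⁻¹ * x, hXset _ (Q.mul_mem (Q.inv_mem haQ) hx) ?_, by group⟩
        rcases hQ.comm x hx u huQ with h | h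
        · exact absurd (mul_inv_eq_iff_eq_mul.mp h) hxu
        · have h2 : x * u * x⁻¹ = a * u * a⁻¹ := by rw [h, hau]
          calc a⁻¹ * x * u = a⁻¹ * (x * u * x⁻¹) * x := by group
            _ = a⁻¹ * (a * u * a⁻¹) * x := by rw [h2]
            _ = u * (a⁻¹ * x) := by group
    have hfour : ∀ x ∈ Q, x * x = z → x = a ∨ x = z * a := by
      intro x hx hxx
      have hx2 : x * x ≠ 1 := by rw [hxx]; exact hQ.ne_one
      rcases hQset x hx with (rfl | rfl | rfl | rfl) | ⟨b, (rfl | rfl | rfl | rfl), rfl⟩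
      · exact absurd (one_mul 1) hx2
      · exact absurd hQ.mul_self hx2
      · exact absurd huu hx2
      · exact absurd hzu2 hx2
      · left; exact mul_one a
      · right; exact hQ.le a haQ
      · exact absurd hauau hx2
      · refine absurd ?_ hx2
        calc a * (z * u) * (a * (z * u)) = (a * z) * u * ((a * z) * u) := by group
          _ = z * (a * u * z) * (a * u) := by rw [hQ.le a haQ]; group
          _ = z * z * (a * u * (a * u)) := by
              rw [hQ.le (a * u) (Q.mul_mem haQ huQ)]; group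
          _ = 1 := by rw [hauau, hQ.mul_self, one_mul]
    intro c
    have hcz : (c : G) * z = z * c := Subgroup.mem_centralizer_singleton_iff.mp c.2
    have hcz' : ∀ d : G, d * z = z * d → d * a * d⁻¹ = a ∨ d * a * d⁻¹ = z * a := fun d hd => by
      refine hfour _ (hQ.norm d hd a haQ) ?_
      calc d * a * d⁻¹ * (d * a * d⁻¹) = d * (a * a) * d⁻¹ := by group
        _ = z := by rw [haa, hd, mul_inv_cancel_right]
    set φ : G ≃* G := MulAut.conj (c : G) with hφ
    have hφz : φ z = z := by rw [hφ, MulAut.conj_apply, hcz, mul_inv_cancel_right]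
    have hφa : φ a = a ∨ φ a = z * a := hcz' _ hcz
    have hau' : φ u = u ∨ φ u = z * u ∨ φ u = a * u ∨ φ u = z * (a * u) := by
      have hm : φ u ∈ Q := hQ.norm _ hcz u huQ
      have h2 : φ u * φ u = 1 := by rw [← map_mul, huu, map_one]
      rcases hQset _ hm with (h | h | h | h) | ⟨b, hb, h⟩
      · exfalso
        rw [← map_one φ] at h
        exact hV.ne_one (φ.injective h)
      · exfalso
        rw [← hφz] at h
        exact hne (φ.injective h)
      · exact Or.inl h
      · exact Or.inr (Or.inl h)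
      · rcases hb with hb | hb | hb | hb <;> subst b
        · exfalso; rw [h, mul_one, haa] at h2; exact hQ.ne_one h2
        · exfalso
          rw [h, hQ.le a haQ] at h2
          refine hQ.ne_one ?_
          calc z = a * a := haa.symm
            _ = (z * z) * (a * a) := by rw [hQ.mul_self, one_mul]
            _ = z * (z * a) * a := by group
            _ = z * (a * z) * a := by rw [hQ.le a haQ]
            _ = (z * a) * (z * a) := by group
            _ = 1 := h2
        · exact Or.inr (Or.inr (Or.inl h))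
        · right; right; right
          rw [h, ← mul_assoc, hQ.le a haQ, mul_assoc]
    have hu2 : φ (φ u) = u ∨ φ (φ u) = z * u := by
      have hzz : ∀ t : G, z * (z * t) = t := fun t => by rw [← mul_assoc, hQ.mul_self, one_mul]
      have haz : ∀ t : G, a * (z * t) = z * (a * t) := fun t => by
        rw [← mul_assoc, hQ.le a haQ, mul_assoc]
      have haa' : ∀ t : G, a * (a * t) = z * t := fun t => by rw [← mul_assoc, haa]
      rcases hau' with h | h | h | h <;> rcases hφa with h' | h' <;>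
        simp [h, h', map_mul, hφz, hzz, haz, haa', mul_assoc]
    have ha2 : φ (φ a) = a := by
      rcases hφa with h | h
      · rw [h, h]
      · rw [h, map_mul, hφz, h, ← mul_assoc, hQ.mul_self, one_mul]
    have hsq : (c : G) * c ∈ Q := by
      refine hQ.self _ (by rw [mul_assoc, hcz, ← mul_assoc, hcz, mul_assoc]) fun x hx => ?_
      have e : (c : G) * c * x * ((c : G) * c)⁻¹ = φ (φ x) := by
        simp only [hφ, MulAut.conj_apply]; group
      rw [e]
      rcases hQset x hx with (rfl | rfl | rfl | rfl) | ⟨b, hb, rfl⟩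
      · left; simp
      · left; rw [hφz, hφz]
      · exact hu2
      · rw [map_mul, map_mul, hφz, hφz]
        rcases hu2 with h | h <;> rw [h]
        · exact Or.inl rfl
        · exact Or.inr rfl
      · rw [map_mul, map_mul, ha2]
        rcases hb with hb | hb | hb | hb <;> subst b
        · left; simp
        · left; rw [hφz, hφz]
        · rcases hu2 with h | h <;> rw [h]
          · exact Or.inl rfl
          · right; rw [← mul_assoc, hQ.le a haQ, mul_assoc]
        · rw [map_mul, map_mul, hφz, hφz]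
          rcases hu2 with h | h <;> rw [h]
          · exact Or.inl rfl
          · right; rw [← mul_assoc, hQ.le a haQ, mul_assoc]
    refine ⟨3, Subtype.ext ?_⟩
    show (c : G) ^ 2 ^ 3 = 1
    rw [show (2 : ℕ) ^ 3 = 2 * 4 from rfl, pow_mul, pow_two]
    rcases hQ.sq _ hsq with h | h
    · rw [show (4 : ℕ) = 2 * 2 from rfl, pow_mul, pow_two ((c : G) * c), h, one_pow]
    · rw [show (4 : ℕ) = 2 * 2 from rfl, pow_mul, pow_two ((c : G) * c), h, pow_two, hQ.mul_self]
  have hV2 : IsPGroup 2 ↥(Subgroup.centralizer ({u} : Set G)) := by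
    intro c
    have hc : (c : G) * (g * z * g⁻¹) = (g * z * g⁻¹) * c := by
      rw [hgu]; exact Subgroup.mem_centralizer_singleton_iff.mp c.2
    have hd : g⁻¹ * (c : G) * g ∈ Subgroup.centralizer ({z} : Set G) :=
      Subgroup.mem_centralizer_singleton_iff.mpr (by
        calc g⁻¹ * (c : G) * g * z = g⁻¹ * ((c : G) * (g * z * g⁻¹)) * g := by group
          _ = g⁻¹ * ((g * z * g⁻¹) * c) * g := by rw [hc]
          _ = _ := by group)
    obtain ⟨k, hk⟩ := hC2 ⟨_, hd⟩
    refine ⟨k, Subtype.ext ?_⟩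
    have h1 := congrArg Subtype.val hk
    rw [SubmonoidClass.coe_pow] at h1
    have h2 : (g⁻¹ * (c : G) * g) ^ (2 ^ k) = g⁻¹ * (c : G) ^ (2 ^ k) * g := by
      simpa using (map_pow (MulAut.conj g⁻¹) (c : G) (2 ^ k)).symm
    rw [h2] at h1
    show (c : G) ^ (2 ^ k) = 1
    calc (c : G) ^ (2 ^ k) = g * (g⁻¹ * (c : G) ^ (2 ^ k) * g) * g⁻¹ := by group
      _ = 1 := by rw [h1]; simp
  exact hzV (hV.twoGroup hV2 z hzu)


/-- Let G be a finite group and let z be an involution of G such that Q, the generalized Fitting subgroup of the centralizer C of z, is a 2-group of symplectic type (every characteristic abelian subgroup of Q is cyclic); suppose every element of Q has order dividing 4. Let g ∈ G with z' = g z g⁻¹ ≠ z and z' ∈ Q. Then z lies in the conjugate g Q g⁻¹, and the subgroup X generated by Q and g Q g⁻¹ induces every automorphism of the four-group generated by z and z': for any two distinct non-identity elements u, v of that four-group there is x ∈ X with x z x⁻¹ = u and x z' x⁻¹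 = v. -/
theorem result {G : Type*} [Group G] [Finite G] (z : G) (hz : orderOf z = 2) (hQ : Cfsg.IsOfSymplecticType ↥(Cfsg.generalizedFittingSubgroup ↥(Subgroup.centralizer ({z} : Set G))))
    (h4 : ∀ q ∈ (Cfsg.generalizedFittingSubgroup ↥(Subgroup.centralizer ({z} : Set G))).map (Subgroup.centralizer ({z} : Set G)).subtype, q ^ 4 = 1) (g : G) (hne : g * z * g⁻¹ ≠ z) (hin : g * z * g⁻¹ ∈ (Cfsg.generalizedFittingSubgroup ↥(Subgroup.centralizer ({z} : Set G))).map (Subgroup.centralizer ({z} : Set G)).subtype) :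
    z ∈ ((Cfsg.generalizedFittingSubgroup ↥(Subgroup.centralizer ({z} : Set G))).map (Subgroup.centralizer ({z} : Set G)).subtype).map (MulAut.conj g).toMonoidHom ∧
      ∀ u ∈ Subgroup.closure ({z, g * z * g⁻¹} : Set G), ∀ v ∈ Subgroup.closure ({z, g * z * g⁻¹} : Set G),
        u ≠ 1 → v ≠ 1 → u ≠ v →
          ∃ x ∈ (Cfsg.generalizedFittingSubgroup ↥(Subgroup.centralizer ({z} : Set G))).map (Subgroup.centralizer ({z} : Set G)).subtype ⊔ ((Cfsg.generalizedFittingSubgroup ↥(Subgroup.centralizer ({z} : Set G))).map (Subgroup.centralizer ({z} : Set G)).subtype).map (MulAut.conj g).toMonoidHom, x * z * x⁻¹ = u ∧ x * (g * z * g⁻¹) * x⁻¹ = v := by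
  haveI : Fact (Nat.Prime 2) := ⟨Nat.prime_two⟩
  set C := Subgroup.centralizer ({z} : Set G) with hC
  set F := Cfsg.generalizedFittingSubgroup ↥C with hF
  set Q := F.map C.subtype with hQdef
  haveI : F.Normal := inferInstance
  have hFcore : F = Cfsg.pCore 2 ↥C :=
    le_antisymm (Thompson.le_pCore inferInstance hQ.1) Class49.pCore_le_fStar
  have hchar := Class49.centralizer_pCore_le_of_fStar_eq hFcore
  have hz' : z ∈ C := Subgroup.mem_centralizer_singleton_iff.mpr rfl
  have hz2 : z * z = 1 := by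
    rw [← pow_two, ← hz, pow_orderOf_eq_one]
  have hz1 : z ≠ 1 := fun h => by rw [h, orderOf_one] at hz; omega
  have hzF : (⟨z, hz'⟩ : ↥C) ∈ F := by
    rw [hFcore]
    exact hchar (Subgroup.mem_centralizer_iff.mpr fun y _ =>
      Subtype.ext (Subgroup.mem_centralizer_singleton_iff.mp y.2))
  set z0 : ↥F := ⟨⟨z, hz'⟩, hzF⟩ with hz0
  have hz0c : z0 ∈ Subgroup.center ↥F := Subgroup.mem_center_iff.mpr fun y =>
    Subtype.ext (Subtype.ext (Subgroup.mem_centralizer_singleton_iff.mp y.1.2))
  obtain ⟨hΦ, hcen⟩ := symplectic_facts hQ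
    (fun x => Subtype.ext (Subtype.ext (h4 _ ⟨x.1, x.2, rfl⟩))) (z0 := z0)
    (Subtype.ext (Subtype.ext hz2)) (fun h => hz1 (congrArg (fun t : ↥F => ((t : ↥C) : G)) h)) hz0c
  have hsysQ : Sys z Q := by
    refine ⟨hz1, hz2, ?_, ⟨_, hzF, rfl⟩, ?_, ?_, ?_, ?_, ?_, ?_⟩
    · rintro _ ⟨y, _, rfl⟩
      exact Subgroup.mem_centralizer_singleton_iff.mp y.2
    · rintro c hc _ ⟨y, hy, rfl⟩
      exact ⟨⟨c, Subgroup.mem_centralizer_singleton_iff.mpr hc⟩ * y *
        ⟨c, Subgroup.mem_centralizer_singleton_iff.mpr hc⟩⁻¹,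
        (inferInstance : F.Normal).conj_mem y hy _, rfl⟩
    · rintro _ ⟨y, hy, rfl⟩
      rcases hΦ ((⟨y, hy⟩ : ↥F) ^ 2) (Cfsg.Agent.PGroup.pow_mem_frattini hQ.1 _) with h | h
      · left; rw [pow_two] at h; exact congrArg (fun t : ↥F => ((t : ↥C) : G)) h
      · right; rw [pow_two] at h; exact congrArg (fun t : ↥F => ((t : ↥C) : G)) h
    · rintro _ ⟨a, ha, rfl⟩ _ ⟨b, hb, rfl⟩
      rcases hΦ ⁅(⟨a, ha⟩ : ↥F), (⟨b, hb⟩ : ↥F)⁆ (Cfsg.Agent.PGroup.comm_mem_frattini hQ.1 _ _) with h | h
      · left; rw [commutatorElement_def, mul_inv_eq_one] at h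
        exact congrArg (fun t : ↥F => ((t : ↥C) : G)) h
      · right; rw [commutatorElement_def, mul_inv_eq_iff_eq_mul] at h
        exact congrArg (fun t : ↥F => ((t : ↥C) : G)) h
    · rintro _ ⟨a, ha, rfl⟩ ha2 hab
      rcases hcen ⟨a, ha⟩ (Subgroup.mem_center_iff.mpr fun b =>
        Subtype.ext (Subtype.ext (hab _ ⟨b.1, b.2, rfl⟩).symm)) (Subtype.ext (Subtype.ext ha2)) with h | h
      · left; exact congrArg (fun t : ↥F => ((t : ↥C) : G)) h
      · right; exact congrArg (fun t : ↥F => ((t : ↥C) : G)) h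
    · intro c hc hq
      set c' : ↥C := ⟨c, Subgroup.mem_centralizer_singleton_iff.mpr hc⟩ with hc'
      refine ⟨c', ?_, rfl⟩
      rcases eq_or_ne (frattini ↥F) ⊥ with hbot | hne'
      · -- `F` is elementary abelian and cyclic
        have hab : ∀ a b : ↥F, a * b = b * a := fun a b => by
          have h := Cfsg.Agent.PGroup.comm_mem_frattini hQ.1 a b
          rw [hbot, Subgroup.mem_bot, commutatorElement_eq_one_iff_mul_comm] at h
          exact h
        rw [hFcore]
        refine hchar (Subgroup.mem_centralizer_iff.mpr fun y hy => ?_)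
        have hy' : y ∈ F := hFcore ▸ hy
        rcases hcen ⟨y, hy'⟩ (Subgroup.mem_center_iff.mpr fun b => hab b _) (by
            have h := Cfsg.Agent.PGroup.pow_mem_frattini hQ.1 (⟨y, hy'⟩ : ↥F)
            rwa [hbot, Subgroup.mem_bot, pow_two] at h) with h | h
        · rw [show y = 1 from congrArg Subtype.val h]; simp
        · rw [show y = ⟨z, hz'⟩ from congrArg Subtype.val h]
          exact Subtype.ext hc.symm
      · have hz0Φ : z0 ∈ frattini ↥F := by
          obtain ⟨⟨t, ht⟩, ht1⟩ := (frattini ↥F).ne_bot_iff_exists_ne_one.mp hne'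
          rcases hΦ t ht with h | h
          · exact absurd (Subtype.ext h) ht1
          · exact h ▸ ht
        have key : ∀ P : Subgroup ↥C, P = F → (∀ y ∈ P,
            c' * y * c'⁻¹ * y⁻¹ ∈ (frattini ↥P).map P.subtype) := by
          rintro P rfl y hy
          rcases hq _ ⟨y, hy, rfl⟩ with h | h
          · have : c' * y * c'⁻¹ * y⁻¹ = 1 := by
              rw [mul_inv_eq_one]; exact Subtype.ext h
            rw [this]; exact one_mem _
          · refine ⟨z0, hz0Φ, Subtype.ext ?_⟩
            show z = ((c' * y * c'⁻¹ * y⁻¹ : ↥C) : G)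
            have h' : c * (y : G) * c⁻¹ = z * (y : G) := h
            simp only [hc', Subgroup.coe_mul, InvMemClass.coe_inv]
            rw [h', mul_inv_cancel_right]
        rw [hFcore]
        exact Class49.mem_pCore_of_frattini_trivial hchar (key _ hFcore.symm)
    · intro hp c hc
      refine ⟨⟨c, Subgroup.mem_centralizer_singleton_iff.mpr hc⟩, ?_, rfl⟩
      rw [hFcore, Thompson.pCore_eq_top_iff.mpr hp]
      exact Subgroup.mem_top _
  set u := g * z * g⁻¹ with hu
  set V := Q.map (MulAut.conj g).toMonoidHom with hVdef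
  have hsysV : Sys u V := hsysQ.conj g
  have hzV : z ∈ V := hsysQ.mem_of_mem hsysV hin hne (g := g) hu.symm hVdef.symm
  refine ⟨hzV, ?_⟩
  obtain ⟨q, hqQ, hq⟩ : ∃ q ∈ Q, q * u * q⁻¹ = z * u := by
    by_contra hcon
    push Not at hcon
    rcases hsysQ.cen u hin hsysV.mul_self (fun b hb => by
      rcases hsysQ.comm b hb u hin with h | h
      · exact (mul_inv_eq_iff_eq_mul.mp h).symm
      · exact absurd h (hcon b hb)) with h | h
    · exact hsysV.ne_one h
    · exact hne h
  obtain ⟨r, hrV, hr⟩ : ∃ r ∈ V, r * z * r⁻¹ = u * z := by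
    by_contra hcon
    push Not at hcon
    rcases hsysV.cen z hzV hz2 (fun b hb => by
      rcases hsysV.comm b hb z hzV with h | h
      · exact (mul_inv_eq_iff_eq_mul.mp h).symm
      · exact absurd h (hcon b hb)) with h | h
    · exact hz1 h
    · exact hne h.symm
  have hqz : q * z * q⁻¹ = z := by rw [hsysQ.le q hqQ, mul_inv_cancel_right]
  have hru : r * u * r⁻¹ = u := by rw [hsysV.le r hrV, mul_inv_cancel_right]
  have huz : u * z = z * u := hsysQ.le u hin
  intro a ha b hb ha1 hb1 hab
  have hset : ∀ t ∈ Subgroup.closure ({z, u} : Set G), t = 1 ∨ t = z ∨ t = u ∨ t = z * u := by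
    intro t ht
    have hzz : ∀ t : G, z * (z * t) = t := fun t => by rw [← mul_assoc, hz2, one_mul]
    have huu : ∀ t : G, u * (u * t) = t := fun t => by rw [← mul_assoc, hsysV.mul_self, one_mul]
    have huz' : ∀ t : G, u * (z * t) = z * (u * t) := fun t => by rw [← mul_assoc, huz, mul_assoc]
    induction ht using Subgroup.closure_induction with
    | mem t ht => rcases ht with rfl | rfl <;> simp
    | one => simp
    | mul s t _ _ ihs iht =>
      rcases ihs with rfl | rfl | rfl | rfl <;> rcases iht with rfl | rfl | rfl | rfl <;>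
        simp [mul_assoc, hz2, hsysV.mul_self, hzz, huu, huz', huz]
    | inv t _ iht =>
      have hzi : z⁻¹ = z := inv_eq_of_mul_eq_one_right hz2
      have hui : u⁻¹ = u := inv_eq_of_mul_eq_one_right hsysV.mul_self
      rcases iht with rfl | rfl | rfl | rfl <;> simp [hzi, hui, huz]
  set φq : G ≃* G := MulAut.conj q with hφq
  set φr : G ≃* G := MulAut.conj r with hφr
  have qz : φq z = z := hqz
  have qu : φq u = z * u := hq
  have rz : φr z = z * u := hr.trans huz
  have ru : φr u = u := hru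
  have hQX : q ∈ Q ⊔ V := Subgroup.mem_sup_left hqQ
  have hRX : r ∈ Q ⊔ V := Subgroup.mem_sup_right hrV
  have e1 : φq (φr z) = u := by rw [rz, map_mul, qz, qu, ← mul_assoc, hz2, one_mul]
  have e2 : φq (φr u) = z * u := by rw [ru, qu]
  have e3 : φr (φq z) = z * u := by rw [qz, rz]
  have e4 : φr (φq u) = z := by rw [qu, map_mul, rz, ru, mul_assoc, hsysV.mul_self, mul_one]
  have fin : ∀ x ∈ Q ⊔ V, x * z * x⁻¹ = a → x * u * x⁻¹ = b →
      ∃ x ∈ Q ⊔ V, x * z * x⁻¹ = a ∧ x * u * x⁻¹ = b := fun x hx h1 h2 => ⟨x, hx, h1, h2⟩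
  rcases hset a ha with h | h | h | h <;> subst a <;>
      rcases hset b hb with h | h | h | h <;> subst b <;>
    (try exact absurd rfl ha1) <;> (try exact absurd rfl hb1) <;> (try exact absurd rfl hab)
  · exact fin 1 (one_mem _) (by simp) (by simp)
  · exact fin q hQX qz qu
  · refine fin (q * r * q) (mul_mem (mul_mem hQX hRX) hQX) ?_ ?_
    · have : (q * r * q) * z * (q * r * q)⁻¹ = φq (φr (φq z)) := by
        simp only [hφq, hφr, MulAut.conj_apply]; group
      rw [this, qz, e1]
    · have : (q * r * q) * u * (q * r * q)⁻¹ = φq (φr (φq u)) := by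
        simp only [hφq, hφr, MulAut.conj_apply]; group
      rw [this, e4, qz]
  · refine fin (q * r) (mul_mem hQX hRX) ?_ ?_
    · have : (q * r) * z * (q * r)⁻¹ = φq (φr z) := by
        simp only [hφq, hφr, MulAut.conj_apply]; group
      rw [this, e1]
    · have : (q * r) * u * (q * r)⁻¹ = φq (φr u) := by
        simp only [hφq, hφr, MulAut.conj_apply]; group
      rw [this, e2]
  · refine fin (r * q) (mul_mem hRX hQX) ?_ ?_
    · have : (r * q) * z * (r * q)⁻¹ = φr (φq z) := by
        simp only [hφq, hφr, MulAut.conj_apply]; group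
      rw [this, e3]
    · have : (r * q) * u * (r * q)⁻¹ = φr (φq u) := by
        simp only [hφq, hφr, MulAut.conj_apply]; group
      rw [this, e4]
  · exact fin r hRX rz ru

end Cfsg.Agent.S1774
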