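import Cfsg.Statements.S1775
import Cfsg.Agent.Class49.PComp
import Cfsg.Agent.Lib.Components.LBalance


set_option autoImplicit false
open Cfsg
open scoped commutatorElement

namespace Cfsg.Agent.S1775

theorem core {G : Type*} [Group G] [Finite G]
    (hF : IsSimpleGroup ↥(Cfsg.generalizedFittingSubgroup G)) (hF' : ¬ IsMulCommutative ↥(Cfsg.generalizedFittingSubgroup G))
    (hsec : ∀ (H : Subgroup G) (N : Subgroup ↥H) [N.Normal], (H ≠ ⊤ ∨ N ≠ ⊥) → Cfsg.HasBProperty (↥H ⧸ N))
    (x y : G) (hx : orderOf x = 2) (hy : orderOf y = 2) (hxy : x * y = y * x)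
    (D : Subgroup G) (hD : D = (Cfsg.pLayer 2 ↥(Subgroup.centralizer ({x} : Set G))).map (Subgroup.centralizer ({x} : Set G)).subtype ⊓ Subgroup.centralizer ({y} : Set G))
    (J : Subgroup ↥D)
    (hJ : Cfsg.IsPComponent 2 J) :
    Cfsg.IsComponent
        ((((J.map (Subgroup.subtype _)).subgroupOf (Subgroup.centralizer ({y} : Set G))).map (QuotientGroup.mk' (Cfsg.oddCore ↥(Subgroup.centralizer ({y} : Set G))))).subgroupOf
          (Subgroup.centralizer ({(QuotientGroup.mk' (Cfsg.oddCore ↥(Subgroup.centralizer ({y} : Set G))) ⟨x, Subgroup.mem_centralizer_singleton_iff.mpr hxy⟩ : ↥(Subgroup.centralizer ({y} : Set G)) ⧸ Cfsg.oddCore ↥(Subgroup.centralizer ({y} : Set G)))} : Set _))) ∧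
      ∀ E : Subgroup G, E ≤ Subgroup.centralizer ({x} : Set G) ⊓ Subgroup.centralizer ({y} : Set G) → Odd (Nat.card ↥E) →
        (∀ j ∈ J.map (Subgroup.subtype _), ∀ e ∈ E, j * e * j⁻¹ ∈ E) →
          ⁅J.map (Subgroup.subtype _), E⁆ ≤ (Cfsg.oddCore ↥(Subgroup.centralizer ({y} : Set G))).map (Subgroup.centralizer ({y} : Set G)).subtype := by
  haveI : Fact (Nat.Prime 2) := ⟨Nat.prime_two⟩
  set Cx := Subgroup.centralizer ({x} : Set G) with hCx
  set Cy := Subgroup.centralizer ({y} : Set G) with hCy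
  set O := Cfsg.oddCore ↥Cy with hO
  set π := QuotientGroup.mk' O with hπ
  set x' : ↥Cy := ⟨x, Subgroup.mem_centralizer_singleton_iff.mpr hxy⟩ with hx'
  -- `C(y)` is proper
  have hCyne : Cy ≠ ⊤ := by
    intro htop
    have hyc : ∀ g : G, g * y = y * g := fun g =>
      Subgroup.mem_centralizer_singleton_iff.mp (htop ▸ Subgroup.mem_top g : g ∈ Cy)
    have hyF : y ∈ Cfsg.generalizedFittingSubgroup G :=
      Components.centralizer_generalizedFitting_le
        (Subgroup.mem_centralizer_iff.mpr fun g _ => hyc g)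
    have hyZ : (⟨y, hyF⟩ : ↥(Cfsg.generalizedFittingSubgroup G)) ∈ Subgroup.center _ :=
      Subgroup.mem_center_iff.mpr fun g => Subtype.ext (hyc g)
    rcases hF.eq_bot_or_eq_top_of_normal (Subgroup.center _) inferInstance with h | h
    · rw [h, Subgroup.mem_bot] at hyZ
      rw [show y = 1 from congrArg Subtype.val hyZ, orderOf_one] at hy
      omega
    · exact hF' ⟨⟨fun a b => Subgroup.mem_center_iff.mp (h ▸ Subgroup.mem_top b) a⟩⟩
  have hOc : (Nat.card O).Coprime 2 := Thompson.card_pPrimeCore_coprime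
  -- `x'` is an involution modulo the core
  have hx'2 : orderOf x' = 2 := by rw [hx', Subgroup.orderOf_mk, hx]
  have hxb : orderOf (π x') = 2 := by
    refine orderOf_eq_prime (by rw [← map_pow, orderOf_dvd_iff_pow_eq_one.mp (dvd_of_eq hx'2), map_one]) fun h => ?_
    rw [hπ, ← MonoidHom.mem_ker, QuotientGroup.ker_mk'] at h
    have hd := Subgroup.orderOf_dvd_natCard _ h
    rw [hx'2] at hd
    exact absurd (Nat.eq_one_of_dvd_coprimes hOc hd dvd_rfl) (by norm_num)
  set W := Subgroup.centralizer ({x'} : Set ↥Cy) with hW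
  set CQ := Subgroup.centralizer ({π x'} : Set (↥Cy ⧸ O)) with hCQ
  have hxW : ∀ w ∈ W, π w ∈ CQ := fun w hw => Subgroup.mem_centralizer_singleton_iff.mpr (by
    rw [← map_mul, Subgroup.mem_centralizer_singleton_iff.mp hw, map_mul])
  let πW : ↥W →* ↥CQ := (π.comp W.subtype).codRestrict CQ fun w => hxW w w.2
  have hπW : Function.Surjective πW := by
    rintro ⟨q, hq⟩
    obtain ⟨k, rfl⟩ := QuotientGroup.mk'_surjective O q
    have hk : ∀ a ∈ Subgroup.zpowers x', a * k * a⁻¹ * k⁻¹ ∈ O := by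
      intro a ha
      obtain ⟨i, rfl⟩ := Subgroup.mem_zpowers_iff.mp ha
      have hc : Commute (π x') (π k) := (Subgroup.mem_centralizer_singleton_iff.mp hq).symm
      rw [← QuotientGroup.ker_mk' O, MonoidHom.mem_ker, map_mul, map_mul, map_mul, map_inv,
        map_inv, map_zpow, (hc.zpow_left i).eq, mul_inv_cancel_right, mul_inv_cancel]
    have hcop : (Nat.card (Subgroup.zpowers x')).Coprime (Nat.card O) := by
      rw [Nat.card_zpowers, hx'2]; exact hOc.symm
    obtain ⟨n, hn, hc⟩ := Coprime.exists_fixed_in_coset_of_normal (Subgroup.zpowers x') O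
      (by rw [Subgroup.normalizer_eq_top (H := O)]; exact le_top) hcop (Or.inl inferInstance) k
      (by rw [Subgroup.normalizer_eq_top (H := O)]; exact Subgroup.mem_top k) hk
    rw [Subgroup.zpowers_eq_closure, Subgroup.centralizer_closure] at hc
    refine ⟨⟨k * n, hc⟩, Subtype.ext ?_⟩
    show π (k * n) = π k
    rw [map_mul, show π n = 1 from (QuotientGroup.eq_one_iff n).mpr hn, mul_one]
  have hπWker : (Nat.card πW.ker).Coprime 2 := by
    refine hOc.coprime_dvd_left ?_
    rw [← Subgroup.card_map_of_injective W.subtype_injective]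
    refine Subgroup.card_dvd_of_le ?_
    rintro _ ⟨w, hw, rfl⟩
    rw [← QuotientGroup.ker_mk' O]
    exact congrArg Subtype.val (MonoidHom.mem_ker.mp hw)
  -- `D` inside `W`
  have hDCy : D ≤ Cy := hD.le.trans inf_le_right
  have hDW : D.subgroupOf Cy ≤ W := fun d hd => Subgroup.mem_centralizer_singleton_iff.mpr
    (Subtype.ext (Subgroup.mem_centralizer_singleton_iff.mp (Subgroup.map_subtype_le _ (hD.le hd).1)))
  set ND := (D.subgroupOf Cy).subgroupOf W with hND
  haveI : ND.Normal := by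
    refine ⟨fun n hn g => ?_⟩
    obtain ⟨⟨l, hl, hln⟩, hny⟩ := hD.le hn
    have hgx : ((g : ↥Cy) : G) ∈ Cx := Subgroup.mem_centralizer_singleton_iff.mpr
      (congrArg Subtype.val (Subgroup.mem_centralizer_singleton_iff.mp g.2))
    refine hD.ge ⟨⟨⟨_, hgx⟩ * l * ⟨_, hgx⟩⁻¹, Components.pLayer_normal.conj_mem l hl _, ?_⟩,
      (g * n * g⁻¹ : ↥W).1.2⟩
    show ((g : ↥Cy) : G) * (l : G) * ((g : ↥Cy) : G)⁻¹ = _
    rw [show (l : G) = ((n : ↥Cy) : G) from hln]
    rfl
  let e : ↥D ≃* ↥ND :=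
    ((Subgroup.subgroupOfEquivOfLe hDW).trans (Subgroup.subgroupOfEquivOfLe hDCy)).symm
  have hJ1 : IsPComponent 2 (((J.map e.toMonoidHom).map ND.subtype).map πW) := by
    refine Class49.isPComponent_map_of_coprime_ker πW hπW hπWker
      (Class49.isPComponent_map_subtype ND ?_)
    refine Class49.isPComponent_map_of_coprime_ker e.toMonoidHom e.surjective ?_ hJ
    rw [show e.toMonoidHom.ker = ⊥ from (MonoidHom.ker_eq_bot_iff _).mpr e.injective,
      Subgroup.card_bot]
    exact Nat.coprime_one_left 2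
  set T := ((J.map (Subgroup.subtype _)).subgroupOf Cy).map π with hT
  have hTeq : T.subgroupOf CQ = ((J.map e.toMonoidHom).map ND.subtype).map πW := by
    ext q
    constructor
    · intro hq
      obtain ⟨a, ⟨j, hj, hja⟩, hq⟩ := Subgroup.mem_subgroupOf.mp hq
      refine ⟨ND.subtype (e j), ⟨e j, ⟨j, hj, rfl⟩, rfl⟩, Subtype.ext ?_⟩
      rw [← hq]
      exact congrArg π (Subtype.ext hja)
    · rintro ⟨_, ⟨_, ⟨j, hj, rfl⟩, rfl⟩, rfl⟩
      exact ⟨((ND.subtype (e j) : ↥W) : ↥Cy), ⟨j, hj, rfl⟩, rfl⟩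
  have hTle : T ≤ CQ := by
    rintro _ ⟨a, ⟨j, hj, hja⟩, rfl⟩
    refine hxW a (hDW ?_)
    show (a : G) ∈ D
    rw [← show (j : G) = (a : G) from hja]
    exact j.2
  have hJc : IsComponent (T.subgroupOf CQ) := by
    rw [hTeq]
    refine (Class49.isComponent_pComponent_iff hJ1).mpr ?_
    have hB := hsec Cy O (Or.inl hCyne) (π x') hxb
    have hbot : Cfsg.oddCore (↥Cy ⧸ O) = ⊥ := Thompson.pPrimeCore_quotient_pPrimeCore
    rw [hbot, le_bot_iff, Subgroup.map_eq_bot_iff_of_injective _ CQ.subtype_injective] at hB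
    exact le_bot_iff.mp ((Subgroup.commutator_mono (Components.pComponent_le_pLayer hJ1) le_rfl).trans
      hB.le)
  refine ⟨hJc, fun E hE hEodd hEJ => ?_⟩
  have hEy : E ≤ Cy := hE.trans inf_le_right
  set Eb := (E.subgroupOf Cy).map π with hEb
  have hEle : Eb ≤ CQ := by
    rintro _ ⟨a, ha, rfl⟩
    exact hxW a (Subgroup.mem_centralizer_singleton_iff.mpr
      (Subtype.ext (Subgroup.mem_centralizer_singleton_iff.mp (hE ha).1)))
  have hnorm : T.subgroupOf CQ ≤ Subgroup.normalizer ((Eb.subgroupOf CQ : Subgroup ↥CQ) : Set ↥CQ) := by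
    refine Coprime.le_normalizer_of_conj_mem fun t ht q hq => ?_
    obtain ⟨a, ⟨j, hj, hja⟩, hta⟩ := Subgroup.mem_subgroupOf.mp ht
    obtain ⟨b, hb, hqb⟩ := Subgroup.mem_subgroupOf.mp hq
    refine Subgroup.mem_subgroupOf.mpr ⟨a * b * a⁻¹, hEJ (a : G) ⟨j, hj, hja⟩ _ hb, ?_⟩
    rw [map_mul, map_mul, map_inv, hta, hqb]
    rfl
  have hev : 2 ∣ Nat.card ↥(T.subgroupOf CQ) := by
    rw [hTeq]; exact Class49.dvd_card_pComponent hJ1
  rcases Components.component_le_or_commutator_eq_bot_of_le_normalizer hJc hnorm with h | h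
  · exfalso
    have h2 : 2 ∣ Nat.card ↥(E.subgroupOf Cy) :=
      (hev.trans ((Subgroup.card_dvd_of_le h).trans
        (Nat.card_congr (Subgroup.subgroupOfEquivOfLe hEle).toEquiv).dvd)).trans
        (Subgroup.card_map_dvd _ _)
    rw [Nat.card_congr (Subgroup.subgroupOfEquivOfLe hEy).toEquiv] at h2
    exact hEodd.not_two_dvd_nat h2
  · have h' := congrArg (Subgroup.map CQ.subtype) h
    rw [Subgroup.map_commutator, Subgroup.map_subgroupOf_eq_of_le hTle,
      Subgroup.map_subgroupOf_eq_of_le hEle, Subgroup.map_bot, hT, hEb, ← Subgroup.map_commutator,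
      Subgroup.map_eq_bot_iff, hπ, QuotientGroup.ker_mk'] at h'
    have h'' := Subgroup.map_mono (f := Cy.subtype) h'
    have hJy : J.map (Subgroup.subtype _) ≤ Cy := (Subgroup.map_subtype_le _).trans hDCy
    rw [Subgroup.map_commutator, Subgroup.map_subgroupOf_eq_of_le hJy,
      Subgroup.map_subgroupOf_eq_of_le hEy] at h''
    exact h''


/-- Let G be a finite group whose generalized Fitting subgroup is a non-abelian simple group and in which every proper section (every quotient H/N of a proper subgroup H, or of G by a nontrivial normal subgroup) has the B-property. Let x, y be commuting involutions, let D be the intersection of the 2-layer of C_G(x) with C_G(y), and let J be a 2-component of D. Write Q for the quotient of C_G(y) by its largest normal odd-order subgroup. Then (i) the image of J in Q is a component of the centralizer in Q of the image of x; and (ii) for every J-invariant subgroup E of odd order of C_G(x) ∩ C_G(y), the commutator subgroup [J, E] lies in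 the largest normal odd-order subgroup of C_G(y). -/
theorem result {G : Type*} [Group G] [Finite G]
    (hF : IsSimpleGroup ↥(Cfsg.generalizedFittingSubgroup G)) (hF' : ¬ IsMulCommutative ↥(Cfsg.generalizedFittingSubgroup G))
    (hsec : ∀ (H : Subgroup G) (N : Subgroup ↥H) [N.Normal], (H ≠ ⊤ ∨ N ≠ ⊥) → Cfsg.HasBProperty (↥H ⧸ N))
    (x y : G) (hx : orderOf x = 2) (hy : orderOf y = 2) (hxy : x * y = y * x)
    (J : Subgroup ↥((Cfsg.pLayer 2 ↥(Subgroup.centralizer ({x} : Set G))).map (Subgroup.centralizer ({x} : Set G)).subtype ⊓ Subgroup.centralizer ({y} : Set G)))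
    (hJ : Cfsg.IsPComponent 2 J) :
    Cfsg.IsComponent
        ((((J.map (Subgroup.subtype _)).subgroupOf (Subgroup.centralizer ({y} : Set G))).map (QuotientGroup.mk' (Cfsg.oddCore ↥(Subgroup.centralizer ({y} : Set G))))).subgroupOf
          (Subgroup.centralizer ({(QuotientGroup.mk' (Cfsg.oddCore ↥(Subgroup.centralizer ({y} : Set G))) ⟨x, Subgroup.mem_centralizer_singleton_iff.mpr hxy⟩ : ↥(Subgroup.centralizer ({y} : Set G)) ⧸ Cfsg.oddCore ↥(Subgroup.centralizer ({y} : Set G)))} : Set _))) ∧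
      ∀ E : Subgroup G, E ≤ Subgroup.centralizer ({x} : Set G) ⊓ Subgroup.centralizer ({y} : Set G) → Odd (Nat.card ↥E) →
        (∀ j ∈ J.map (Subgroup.subtype _), ∀ e ∈ E, j * e * j⁻¹ ∈ E) →
          ⁅J.map (Subgroup.subtype _), E⁆ ≤ (Cfsg.oddCore ↥(Subgroup.centralizer ({y} : Set G))).map (Subgroup.centralizer ({y} : Set G)).subtype := by
  exact core hF hF' hsec x y hx hy hxy _ rfl J hJ

end Cfsg.Agent.S1775
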