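import Cfsg.Statements.S1781
import Cfsg.Agent.Class49.TI


set_option autoImplicit false
open Cfsg

namespace Cfsg.Agent.S1781

/-- Let A be an abelian 2-subgroup of the finite group G such that every conjugate of A equals A or meets A trivially, and let g ∈ G with g A g⁻¹ ≠ A. Then either the subgroup of those elements of A that normalize g A g⁻¹ is an elementary abelian 2-group, or A and g A g⁻¹ commute elementwise. -/
theorem result {G : Type*} [Group G] [Finite G] (A : Subgroup G)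
    (hA2 : IsPGroup 2 ↥A) (hAa : IsMulCommutative ↥A)
    (hti : ∀ h : G, A.map (MulAut.conj h).toMonoidHom = A ∨ A.map (MulAut.conj h).toMonoidHom ⊓ A = ⊥)
    (g : G) (hg : A.map (MulAut.conj g).toMonoidHom ≠ A) :
    Cfsg.IsElementaryAbelian 2 (A ⊓ Subgroup.normalizer ((A.map (MulAut.conj g).toMonoidHom : Subgroup G) : Set G)) ∨
      ⁅A, A.map (MulAut.conj g).toMonoidHom⁆ = ⊥ := by
  set B : Subgroup G := A.map (MulAut.conj g).toMonoidHom with hB
  have hA : Cfsg.Agent.Class49.IsTI A := hti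
  have hBti : Cfsg.Agent.Class49.IsTI B := hA.map_cj g
  have hAB : A ⊓ B = ⊥ := by
    rw [inf_comm]
    exact (hti g).resolve_left hg
  have hB2 : IsPGroup 2 ↥B := hA2.map _
  haveI : IsMulCommutative ↥B := Subgroup.map_isMulCommutative A _
  by_cases hsq : ∀ a ∈ A ⊓ Subgroup.normalizer (B : Set G), a ^ 2 = 1
  · left
    refine ⟨?_, hsq⟩
    refine ⟨⟨fun a b => Subtype.ext ?_⟩⟩
    have h := congrArg (fun z : ↥A => (z : G))
      (mul_comm' (⟨(a : G), a.2.1⟩ : ↥A) ⟨(b : G), b.2.1⟩)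
    simpa using h
  right
  push Not at hsq
  obtain ⟨a, ha, ha2⟩ := hsq
  have ha1 : a ≠ 1 := fun h => ha2 (by rw [h, one_pow])
  letI : CommGroup ↥B := { (inferInstance : Group ↥B) with mul_comm := mul_comm' }
  let t : MulAut ↥B := Subgroup.normalizerMonoidHom B ⟨a, ha.2⟩
  have htv : ∀ (b : ↥B), ((t b : ↥B) : G) = a * (b : G) * a⁻¹ := fun b => rfl
  have htk : ∃ k : ℕ, t ^ (2 ^ k) = 1 := by
    obtain ⟨k, hk⟩ := hA2 (⟨a, ha.1⟩ : ↥A)
    refine ⟨k, ?_⟩
    have : (⟨a, ha.2⟩ : ↥(Subgroup.normalizer (B : Set G))) ^ (2 ^ k) = 1 :=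
      Subtype.ext (by simpa using congrArg (fun z : ↥A => (z : G)) hk)
    rw [← map_pow, this, map_one]
  have hfix : ∀ b : ↥B, t (t b) = b → t b = b := by
    intro b hb
    have h := congrArg Subtype.val hb
    rw [htv, htv] at h
    have hbN : (b : G) ∈ Subgroup.normalizer (A : Set G) := by
      refine hA.mem_normalizer (a := a ^ 2) (A.pow_mem ha.1 2) ha2 ?_
      rw [pow_two]
      conv_lhs => rw [← h]
      group
    apply Subtype.ext
    rw [htv, Cfsg.Agent.Class49.commute_of_normalizes hAB ha.1 b.2 ha.2 hbN, mul_inv_cancel_right]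
  have hBN : B ≤ Subgroup.normalizer (A : Set G) := by
    intro b hb
    refine hA.mem_normalizer ha.1 ha1 ?_
    have h := congrArg Subtype.val
      (Cfsg.Agent.Class49.fixed_of_fixed_sq hB2 t htk hfix ⟨b, hb⟩)
    rw [htv] at h
    calc b * a = a * b * a⁻¹ * a := by rw [h]
      _ = a * b := inv_mul_cancel_right _ _
  exact Cfsg.Agent.Class49.ti_commute hA2 hB2 hBti (Cfsg.Agent.Class49.card_cj g A).ge hAB hBN


end Cfsg.Agent.S1781
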