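import Cfsg.Statements.S1782
import Cfsg.Agent.Class49.TIFamily


set_option autoImplicit false
open Cfsg

namespace Cfsg.Agent.S1782

/-- Let S be a finite 2-group and Δ a set of subgroups of S closed under conjugation by S, all of the same order, each with nontrivial Frattini subgroup, and such that two distinct members of Δ meet trivially. Then any two distinct members of Δ commute elementwise. -/
theorem result {S : Type*} [Group S] [Finite S] (hS : IsPGroup 2 S)
    (Δ : Set (Subgroup S)) (hinv : ∀ s : S, ∀ R ∈ Δ, R.map (MulAut.conj s).toMonoidHom ∈ Δ)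
    (hΦ : ∀ R ∈ Δ, frattini ↥R ≠ ⊥) (hord : ∀ R ∈ Δ, ∀ T ∈ Δ, Nat.card ↥R = Nat.card ↥T)
    (hti : ∀ R ∈ Δ, ∀ T ∈ Δ, R = T ∨ R ⊓ T = ⊥) :
    ∀ R ∈ Δ, ∀ T ∈ Δ, R ≠ T → ⁅R, T⁆ = ⊥ := by
  intro R hR T hT hne
  refine Cfsg.Agent.Class49.family_commute Δ (fun g X hX => hinv g X hX) ?_ hord hti R hR T hT
    (hS.to_subgroup _) hne
  intro X hX
  by_contra hc
  push Not at hc
  have hexp : ∀ a : ↥X, a ^ 2 = 1 := fun a => Subtype.ext (hc a a.2)
  refine hΦ X hX (Cfsg.Agent.PGroup.frattini_eq_bot (p := 2) (fun a b => ?_) hexp)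
  have key : ∀ c : ↥X, c⁻¹ = c := fun c => inv_eq_iff_mul_eq_one.mpr (by rw [← pow_two]; exact hexp c)
  calc a * b = (a * b)⁻¹ := (key _).symm
    _ = b * a := by rw [mul_inv_rev, key, key]


end Cfsg.Agent.S1782
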