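import Cfsg.Statements.S1783
import Cfsg.Agent.Class49.TIFamily
import Cfsg.Agent.Class49.CharTwo


set_option autoImplicit false
open Cfsg

namespace Cfsg.Agent.S1783

/-- Let X be a finite group whose generalized Fitting subgroup equals its largest normal 2-subgroup Q, and let A be an abelian 2-subgroup of X such that every conjugate of A equals A or meets A trivially. Let B be the subgroup generated by the squares of the elements of A. Then B lies in Q, and if B is not an elementary abelian 2-group then the normal closure of B in X is commutative. -/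
theorem result {X : Type*} [Group X] [Finite X]
    (hX : Cfsg.generalizedFittingSubgroup X = Cfsg.pCore 2 X) (A : Subgroup X) (hA2 : IsPGroup 2 ↥A) (hAa : IsMulCommutative ↥A)
    (hti : ∀ h : X, A.map (MulAut.conj h).toMonoidHom = A ∨ A.map (MulAut.conj h).toMonoidHom ⊓ A = ⊥) :
    Subgroup.closure ((fun a : X => a ^ 2) '' (A : Set X)) ≤ Cfsg.pCore 2 X ∧
      (¬ Cfsg.IsElementaryAbelian 2 (Subgroup.closure ((fun a : X => a ^ 2) '' (A : Set X))) →
        IsMulCommutative ↥(Subgroup.normalClosure ((fun a : X => a ^ 2) '' (A : Set X)))) := by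
  set Q := Cfsg.pCore 2 X with hQ
  have hC := Cfsg.Agent.Class49.centralizer_pCore_le_of_fStar_eq hX
  have hA : Cfsg.Agent.Class49.IsTI A := hti
  have hpart1 : Subgroup.closure ((fun a : X => a ^ 2) '' (A : Set X)) ≤ Q := by
    rw [Subgroup.closure_le]
    rintro _ ⟨a, ha, rfl⟩
    show a ^ 2 ∈ Q
    by_cases hsq : a ^ 2 = 1
    · rw [hsq]; exact Q.one_mem
    refine Cfsg.Agent.Class49.mem_pCore_of_frattini_trivial hC fun q hq => ?_
    set Δ : Set (Subgroup X) := Set.range (fun x => Cfsg.Agent.Class49.cj x A) with hΔ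
    have hcomm : Commute a (q * a⁻¹ * q⁻¹) := by
      by_cases hAq : Cfsg.Agent.Class49.cj q A = A
      · have h1 : q * a⁻¹ * q⁻¹ ∈ A := by
          have := Cfsg.Agent.Class49.conj_mem_cj (g := q) (A.inv_mem ha)
          rwa [hAq] at this
        exact congrArg Subtype.val (mul_comm' (⟨a, ha⟩ : ↥A) ⟨_, h1⟩)
      · have hp : IsPGroup 2 ↥(A ⊔ Cfsg.Agent.Class49.cj q A : Subgroup X) := by
          have h2 : IsPGroup 2 ↥(Q ⊔ A : Subgroup X) :=
            (Cfsg.Agent.Thompson.isPGroup_pCore (p := 2)).to_sup_of_normal_left hA2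
          refine h2.to_le (sup_le le_sup_right ?_)
          intro y hy
          rw [Cfsg.Agent.Class49.mem_cj] at hy
          have h3 : q * (q⁻¹ * y * q) * q⁻¹ ∈ Q ⊔ A :=
            mul_mem (mul_mem (Subgroup.mem_sup_left hq) (Subgroup.mem_sup_right hy))
              (inv_mem (Subgroup.mem_sup_left hq))
          simpa [mul_assoc] using h3
        have hbot := Cfsg.Agent.Class49.family_commute Δ
          (fun g R hR => by
            obtain ⟨x, rfl⟩ := hR
            exact ⟨g * x, (Cfsg.Agent.Class49.cj_cj g x A).symm⟩)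
          (fun R hR => by
            obtain ⟨x, rfl⟩ := hR
            refine ⟨x * a * x⁻¹, Cfsg.Agent.Class49.conj_mem_cj ha, ?_⟩
            rw [conj_pow]
            exact fun h => hsq (conj_eq_one_iff.mp h))
          (fun R hR T hT => by
            obtain ⟨x, rfl⟩ := hR; obtain ⟨y, rfl⟩ := hT
            simp only [Cfsg.Agent.Class49.card_cj])
          (fun R hR T hT => by
            obtain ⟨x, rfl⟩ := hR; obtain ⟨y, rfl⟩ := hT
            rcases (hA.map_cj y) (x * y⁻¹) with h | h <;>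
              rw [Cfsg.Agent.Class49.cj_cj, inv_mul_cancel_right] at h
            · exact Or.inl h
            · exact Or.inr h)
          A ⟨1, Cfsg.Agent.Class49.cj_one A⟩ (Cfsg.Agent.Class49.cj q A) ⟨q, rfl⟩ hp (Ne.symm hAq)
        exact Cfsg.Agent.Class49.commute_of_commutator_eq_bot hbot ha
          (Cfsg.Agent.Class49.conj_mem_cj (A.inv_mem ha))
    have hcc : Commute a (a * q * a⁻¹ * q⁻¹) := by
      have := (Commute.refl a).mul_right hcomm
      simpa [mul_assoc] using this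
    have hcQ : a * q * a⁻¹ * q⁻¹ ∈ Q :=
      Q.mul_mem ((inferInstance : Q.Normal).conj_mem q hq a) (Q.inv_mem hq)
    have h2 := Cfsg.Agent.PGroup.pow_mem_frattini (p := 2)
      (Cfsg.Agent.Thompson.isPGroup_pCore (p := 2) (G := X)) (⟨_, hcQ⟩ : ↥Q)
    refine ⟨_, h2, ?_⟩
    show (a * q * a⁻¹ * q⁻¹) ^ 2 = a ^ 2 * q * (a ^ 2)⁻¹ * q⁻¹
    have h3 : a ^ 2 * q * (a ^ 2)⁻¹ * q⁻¹ =
        a * (a * q * a⁻¹ * q⁻¹) * a⁻¹ * (a * q * a⁻¹ * q⁻¹) := by
      rw [pow_two]; group
    rw [h3, hcc.eq, mul_inv_cancel_right, pow_two]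
  refine ⟨hpart1, fun hne => ?_⟩
  have hBA : Subgroup.closure ((fun a : X => a ^ 2) '' (A : Set X)) ≤ A := by
    rw [Subgroup.closure_le]
    rintro _ ⟨a, ha, rfl⟩
    exact A.pow_mem ha 2
  obtain ⟨b, hb, hb2⟩ : ∃ b ∈ Subgroup.closure ((fun a : X => a ^ 2) '' (A : Set X)), b ^ 2 ≠ 1 := by
    by_contra hcon
    push Not at hcon
    refine hne ⟨⟨⟨fun u v => Subtype.ext ?_⟩⟩, hcon⟩
    have h := congrArg (fun z : ↥A => (z : X))
      (mul_comm' (⟨(u : X), hBA u.2⟩ : ↥A) ⟨(v : X), hBA v.2⟩)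
    simpa using h
  have hA₀ : ∀ x : X, Cfsg.Agent.Class49.cj x (A ⊓ Q) = Cfsg.Agent.Class49.cj x A ⊓ Q := by
    intro x
    rw [Cfsg.Agent.Class49.cj, Subgroup.map_inf _ _ _ (MulAut.conj x).injective]
    congr 1
    exact Cfsg.Agent.Class49.cj_eq_of_mem_normalizer (by
      rw [Subgroup.normalizer_eq_top]; exact Subgroup.mem_top x)
  set Δ : Set (Subgroup X) := Set.range (fun x => Cfsg.Agent.Class49.cj x (A ⊓ Q)) with hΔ
  have hpair : ∀ R ∈ Δ, ∀ T ∈ Δ, ∀ r ∈ R, ∀ t ∈ T, r * t = t * r := by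
    intro R hR T hT r hr t ht
    by_cases hRT : R = T
    · subst hRT
      obtain ⟨x, rfl⟩ := hR
      obtain ⟨r', hr', rfl⟩ := hr
      obtain ⟨t', ht', rfl⟩ := ht
      rw [← map_mul, ← map_mul]
      exact congrArg _ (congrArg Subtype.val (mul_comm' (⟨r', hr'.1⟩ : ↥A) ⟨t', ht'.1⟩))
    refine Cfsg.Agent.Class49.commute_of_commutator_eq_bot ?_ hr ht
    refine Cfsg.Agent.Class49.family_commute Δ ?_ ?_ ?_ ?_ R hR T hT ?_ hRT
    · intro g S hS
      obtain ⟨x, rfl⟩ := hS
      exact ⟨g * x, (Cfsg.Agent.Class49.cj_cj g x _).symm⟩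
    · intro S hS
      obtain ⟨x, rfl⟩ := hS
      refine ⟨x * b * x⁻¹, Cfsg.Agent.Class49.conj_mem_cj ⟨hBA hb, hpart1 hb⟩, ?_⟩
      rw [conj_pow]
      exact fun h => hb2 (conj_eq_one_iff.mp h)
    · intro S hS U hU
      obtain ⟨x, rfl⟩ := hS; obtain ⟨y, rfl⟩ := hU
      simp only [Cfsg.Agent.Class49.card_cj]
    · intro S hS U hU
      obtain ⟨x, rfl⟩ := hS; obtain ⟨y, rfl⟩ := hU
      simp only [hA₀]
      rcases (hA.map_cj y) (x * y⁻¹) with h | h <;>
        rw [Cfsg.Agent.Class49.cj_cj, inv_mul_cancel_right] at h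
      · exact Or.inl (by rw [h])
      · refine Or.inr (eq_bot_iff.mpr ?_)
        rw [← h]
        exact inf_le_inf inf_le_left inf_le_left
    · obtain ⟨x, rfl⟩ := hR; obtain ⟨y, rfl⟩ := hT
      refine (Cfsg.Agent.Thompson.isPGroup_pCore (p := 2)).to_le (sup_le ?_ ?_) <;>
        simp only [hA₀] <;> exact inf_le_right
  have hcl : ∀ c ∈ Group.conjugatesOfSet ((fun a : X => a ^ 2) '' (A : Set X)),
      ∃ R ∈ Δ, c ∈ R := by
    intro c hc
    rw [Group.mem_conjugatesOfSet_iff] at hc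
    obtain ⟨d, hd, hcd⟩ := hc
    obtain ⟨x, hx⟩ := isConj_iff.mp hcd
    exact ⟨_, ⟨x, rfl⟩, hx ▸ Cfsg.Agent.Class49.conj_mem_cj
      ⟨hBA (Subgroup.subset_closure hd), hpart1 (Subgroup.subset_closure hd)⟩⟩
  have hcc : Subgroup.normalClosure ((fun a : X => a ^ 2) '' (A : Set X)) ≤
      Subgroup.centralizer (Subgroup.normalClosure ((fun a : X => a ^ 2) '' (A : Set X)) : Set X) := by
    rw [Subgroup.normalClosure, Subgroup.closure_le]
    intro c hc
    rw [SetLike.mem_coe, Subgroup.mem_centralizer_iff]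
    intro d hd
    have : Subgroup.closure (Group.conjugatesOfSet ((fun a : X => a ^ 2) '' (A : Set X))) ≤
        Subgroup.centralizer ({c} : Set X) := by
      rw [Subgroup.closure_le]
      intro e he
      rw [SetLike.mem_coe, Subgroup.mem_centralizer_singleton_iff]
      obtain ⟨R, hR, hcR⟩ := hcl c hc
      obtain ⟨T, hT, heT⟩ := hcl e he
      exact hpair T hT R hR e heT c hcR
    exact Subgroup.mem_centralizer_singleton_iff.mp (this hd)
  exact ⟨⟨fun u v => Subtype.ext (Subgroup.mem_centralizer_iff.mp (hcc v.2) u u.2)⟩⟩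


end Cfsg.Agent.S1783
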