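import Cfsg.Statements.S1784
import Cfsg.Agent.Class49.Extraspecial
import Cfsg.Agent.Lib.Components.GenFitting
import Cfsg.Agent.Lib.Thompson.Cores


set_option autoImplicit false
open Cfsg
open scoped commutatorElement

namespace Cfsg.Agent.S1784

/-- Let G be a finite group and let z be an involution of G such that Q, the generalized Fitting subgroup of the centralizer C of z, is a 2-group of symplectic type (every characteristic abelian subgroup of Q is cyclic); suppose Q is extraspecial, and view Q inside G. Let α be an involution of C that is not in Q, and let Q₀ be the subgroup of those q ∈ Q whose commutator with α lies in the subgroup generated by z. Then (a) the subgroup generated by the commutators α q α⁻¹ q⁻¹, q ∈ Q, equals the centre of Q₀; and (b) if Q₀ is not contained in the product of the centralizer of α in Q with the subgroup generated by z, then some element of Q conjugates α to α z. -/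
theorem result {G : Type*} [Group G] [Finite G] (z : G) (hz : orderOf z = 2) (hQ : Cfsg.IsOfSymplecticType ↥(Cfsg.generalizedFittingSubgroup ↥(Subgroup.centralizer ({z} : Set G)))) (hE : Cfsg.IsExtraspecial 2 ↥(Cfsg.generalizedFittingSubgroup ↥(Subgroup.centralizer ({z} : Set G))))
    (α : G) (hα : orderOf α = 2) (hαC : α ∈ Subgroup.centralizer ({z} : Set G)) (hαQ : α ∉ (Cfsg.generalizedFittingSubgroup ↥(Subgroup.centralizer ({z} : Set G))).map (Subgroup.centralizer ({z} : Set G)).subtype)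
    (Q₀ : Subgroup G) (hQ₀ : ∀ q : G, q ∈ Q₀ ↔ (q ∈ (Cfsg.generalizedFittingSubgroup ↥(Subgroup.centralizer ({z} : Set G))).map (Subgroup.centralizer ({z} : Set G)).subtype ∧ α * q * α⁻¹ * q⁻¹ ∈ Subgroup.zpowers z)) :
    Subgroup.closure ((fun q : G => α * q * α⁻¹ * q⁻¹) '' ((Cfsg.generalizedFittingSubgroup ↥(Subgroup.centralizer ({z} : Set G))).map (Subgroup.centralizer ({z} : Set G)).subtype : Set G)) = (Subgroup.center ↥Q₀).map Q₀.subtype ∧
      (¬ Q₀ ≤ ((Cfsg.generalizedFittingSubgroup ↥(Subgroup.centralizer ({z} : Set G))).map (Subgroup.centralizer ({z} : Set G)).subtype ⊓ Subgroup.centralizer ({α} : Set G)) ⊔ Subgroup.zpowers z →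
        ∃ q ∈ (Cfsg.generalizedFittingSubgroup ↥(Subgroup.centralizer ({z} : Set G))).map (Subgroup.centralizer ({z} : Set G)).subtype, q * α * q⁻¹ = α * z) := by
  classical
  set H : Subgroup G := Subgroup.centralizer ({z} : Set G) with hH
  set Qh : Subgroup ↥H := Cfsg.generalizedFittingSubgroup ↥H with hQh
  set ι : ↥Qh →* G := H.subtype.comp Qh.subtype with hι
  have hιinj : Function.Injective ι := H.subtype_injective.comp Qh.subtype_injective
  have hιapp : ∀ q : ↥Qh, ι q = ((q : ↥H) : G) := fun q => rfl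
  have hQi : ∀ x : G, x ∈ Qh.map H.subtype ↔ ∃ q : ↥Qh, ι q = x := by
    intro x
    constructor
    · rintro ⟨h, hh, rfl⟩; exact ⟨⟨h, hh⟩, rfl⟩
    · rintro ⟨q, rfl⟩; exact ⟨_, q.2, rfl⟩
  -- the action of `α`
  let φ : MulAut ↥Qh := MulAut.conjNormal (⟨α, hαC⟩ : ↥H)
  have hφ : ∀ q : ↥Qh, ι (φ q) = α * ι q * α⁻¹ := fun q => rfl
  have hαα : α * α = 1 := by rw [← pow_two, ← hα, pow_orderOf_eq_one]
  have hφφ : ∀ q, φ (φ q) = q := by
    intro q
    apply hιinj
    rw [hφ, hφ]
    calc α * (α * ι q * α⁻¹) * α⁻¹ = α * α * ι q * (α * α)⁻¹ := by group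
      _ = ι q := by rw [hαα]; group
  -- the centre
  have hzH : z ∈ H := Subgroup.mem_centralizer_singleton_iff.mpr rfl
  have hz1 : z ≠ 1 := by
    intro h; rw [h, orderOf_one] at hz; omega
  have hzc : (⟨z, hzH⟩ : ↥H) ∈ Subgroup.center ↥H := by
    rw [Subgroup.mem_center_iff]
    intro g
    exact Subtype.ext (Subgroup.mem_centralizer_singleton_iff.mp g.2)
  have hzQ : (⟨z, hzH⟩ : ↥H) ∈ Qh := by
    refine Cfsg.Agent.Components.fitting_le_generalizedFitting ?_
    have hnil : Group.IsNilpotent ↥(Subgroup.center ↥H) := by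
      letI : CommGroup ↥(Subgroup.center ↥H) :=
        { (inferInstance : Group ↥(Subgroup.center ↥H)) with
          mul_comm := fun a b => Subtype.ext (Subgroup.mem_center_iff.mp b.2 a) }
      exact CommGroup.isNilpotent
    exact Cfsg.Agent.Fitting.le_fitting inferInstance hnil hzc
  set zq : ↥Qh := ⟨⟨z, hzH⟩, hzQ⟩ with hzq
  have hzqc : zq ∈ Subgroup.center ↥Qh := by
    rw [Subgroup.mem_center_iff]
    intro g
    exact Subtype.ext (Subgroup.mem_center_iff.mp hzc g)
  have hzq1 : zq ≠ 1 := fun h => hz1 (congrArg ι h)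
  have hcen : ∀ c : ↥Qh, c ∈ Subgroup.center ↥Qh ↔ ι c ∈ Subgroup.zpowers z := by
    intro c
    constructor
    · intro hc
      by_cases hc1 : c = 1
      · rw [hc1, map_one]; exact one_mem _
      · rw [Cfsg.Agent.Class49.exSp_eq_of_mem_center hE hc hc1 hzqc hzq1]
        exact Subgroup.mem_zpowers z
    · rintro ⟨k, hk⟩
      have : zq ^ k = c := hιinj (by rw [map_zpow]; exact hk)
      exact this ▸ (Subgroup.center ↥Qh).zpow_mem hzqc k
  have hφc : ∀ c ∈ Subgroup.center ↥Qh, φ c = c := by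
    intro c hc
    apply hιinj
    obtain ⟨k, hk⟩ := (hcen c).mp hc
    change z ^ k = ι c at hk
    rw [hφ, ← hk, mul_inv_eq_iff_eq_mul]
    exact (Commute.zpow_right (Subgroup.mem_centralizer_singleton_iff.mp hαC : Commute α z) k).eq
  have hcomm := Cfsg.Agent.Class49.exSp_commutator_le_center hE
  let π := QuotientGroup.mk' (Subgroup.center ↥Qh)
  have hab : ∀ a b : ↥Qh, π a * π b = π b * π a := by
    intro a b
    rw [← map_mul, ← map_mul]
    refine QuotientGroup.eq.mpr ?_
    have := Cfsg.Agent.Class49.exSp_comm_mem_center hE b⁻¹ a⁻¹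
    simpa [commutatorElement_def, mul_assoc] using this
  let f : ↥Qh → ↥Qh := fun q => φ q * q⁻¹
  let fb : ↥Qh →* (↥Qh ⧸ Subgroup.center ↥Qh) :=
    { toFun := fun q => π (f q)
      map_one' := by simp [f]
      map_mul' := fun a b => by
        simp only [f, map_mul, map_inv, mul_inv_rev]
        rw [hab (φ a) (φ b)]
        have e1 : π (φ a) * (π b)⁻¹ = (π b)⁻¹ * π (φ a) := by rw [← map_inv]; exact hab _ _
        have e2 : π (φ a) * (π a)⁻¹ * (π (φ b) * (π b)⁻¹) = π (φ b) * (π b)⁻¹ * (π (φ a) * (π a)⁻¹) := by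
          rw [← map_inv, ← map_inv, ← map_mul, ← map_mul]; exact hab _ _
        rw [e2]
        calc π (φ b) * π (φ a) * ((π b)⁻¹ * (π a)⁻¹)
            = π (φ b) * (π (φ a) * (π b)⁻¹) * (π a)⁻¹ := by group
          _ = π (φ b) * ((π b)⁻¹ * π (φ a)) * (π a)⁻¹ := by rw [e1]
          _ = π (φ b) * (π b)⁻¹ * (π (φ a) * (π a)⁻¹) := by group }
  set Q00 : Subgroup ↥Qh := fb.ker with hQ00
  have hQ00mem : ∀ q, q ∈ Q00 ↔ f q ∈ Subgroup.center ↥Qh := fun q => by
    rw [hQ00, MonoidHom.mem_ker]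
    exact QuotientGroup.eq_one_iff _
  set I : Subgroup ↥Qh := Subgroup.closure (Set.range f) with hI
  have hfI : ∀ q, f q ∈ I := fun q => Subgroup.subset_closure ⟨q, rfl⟩
  have hIn : I.Normal := by
    refine ⟨fun x hx g => ?_⟩
    induction hx using Subgroup.closure_induction with
    | mem x hx =>
      obtain ⟨q, rfl⟩ := hx
      have : g * f q * g⁻¹ = (f g)⁻¹ * f (g * q) := by simp only [f, map_mul]; group
      rw [this]
      exact I.mul_mem (I.inv_mem (hfI g)) (hfI _)
    | one => simp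
    | mul x y _ _ hx hy => simpa [mul_assoc] using I.mul_mem hx hy
    | inv x _ hx => simpa [mul_assoc] using I.inv_mem hx
  have hIne : I ≠ ⊥ := by
    intro h
    apply hαQ
    refine ⟨⟨α, hαC⟩, ?_, rfl⟩
    apply Cfsg.Agent.Components.centralizer_generalizedFitting_le
    rw [Subgroup.mem_centralizer_iff]
    intro x hx
    have h1 : f ⟨x, hx⟩ = 1 := Subgroup.mem_bot.mp (h ▸ hfI _)
    have h2 : φ ⟨x, hx⟩ = ⟨x, hx⟩ := mul_inv_eq_one.mp h1
    have h3 := congrArg ι h2
    rw [hφ, mul_inv_eq_iff_eq_mul] at h3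
    exact Subtype.ext h3.symm
  haveI := hIn
  have hZI : Subgroup.center ↥Qh ≤ I := by
    obtain ⟨⟨c, hcI, hcZ⟩, hc1⟩ := Subgroup.ne_bot_iff_exists_ne_one.mp
      (Cfsg.Agent.PGroup.inf_center_ne_bot hE.1.1 hIne)
    intro d hd
    by_cases hd1 : d = 1
    · rw [hd1]; exact I.one_mem
    rwa [Cfsg.Agent.Class49.exSp_eq_of_mem_center hE hd hd1 hcZ fun h => hc1 (Subtype.ext h)]
  have hfinv : ∀ q, φ (f q) = (f q)⁻¹ := fun q => by
    simp only [f, map_mul, map_inv, hφφ, mul_inv_rev, inv_inv]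
  have hIQ : I ≤ Q00 := by
    rw [hI, Subgroup.closure_le]
    rintro _ ⟨q, rfl⟩
    rw [SetLike.mem_coe, hQ00mem]
    show φ (f q) * (f q)⁻¹ ∈ _
    rw [hfinv, ← pow_two, inv_pow]
    exact (Subgroup.center ↥Qh).inv_mem (Cfsg.Agent.Class49.exSp_sq_mem_center hE _)
  have hIC : I ≤ Subgroup.centralizer (Q00 : Set ↥Qh) := by
    rw [hI, Subgroup.closure_le]
    rintro _ ⟨q, rfl⟩
    rw [SetLike.mem_coe, Subgroup.mem_centralizer_iff]
    intro u hu
    have hk : φ u = f u * u := by simp only [f, inv_mul_cancel_right]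
    have h1 : ⁅φ q, u⁆ = ⁅q, u⁆ := by
      have h2 : φ ⁅q, u⁆ = ⁅q, u⁆ := hφc _ (Cfsg.Agent.Class49.exSp_comm_mem_center hE q u)
      rw [map_commutatorElement, hk, Cfsg.Agent.PGroup.comm_mul_right hcomm,
        commutatorElement_eq_one_iff_mul_comm.mpr
          (Subgroup.mem_center_iff.mp ((hQ00mem u).mp hu) _), one_mul] at h2
      exact h2
    rw [show φ q = f q * q by simp only [f, inv_mul_cancel_right],
      Cfsg.Agent.PGroup.comm_mul_left hcomm, mul_eq_right,
      commutatorElement_eq_one_iff_mul_comm] at h1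
    exact h1.symm
  have hZQ : Subgroup.center ↥Qh ≤ Q00 := hZI.trans hIQ
  have hcard : Nat.card (Subgroup.centralizer (Q00 : Set ↥Qh)) ≤ Nat.card I := by
    have h1 := Cfsg.Agent.Class49.exSp_card_centralizer hE hZQ
    have h2 : Q00.index ≤ Nat.card (I.map π) := by
      rw [hQ00, Subgroup.index_ker]
      refine Subgroup.card_le_of_le ?_
      rintro _ ⟨q, rfl⟩
      exact ⟨f q, hfI q, rfl⟩
    have h3 : Nat.card I = Nat.card (I.map π) * 2 := by
      rw [← hE.2, ← Cfsg.Agent.Thompson.card_comap_quotient]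
      rw [Subgroup.comap_map_eq_self (by rw [QuotientGroup.ker_mk']; exact hZI)]
    have h4 := Subgroup.card_mul_index Q00
    have h5 : 0 < Nat.card ↥Q00 := Nat.card_pos
    nlinarith
  have hIeq : I = Subgroup.centralizer (Q00 : Set ↥Qh) := Subgroup.eq_of_le_of_card_ge hIC hcard
  have hQ₀map : Q₀ = Q00.map ι := by
    ext x
    rw [hQ₀]
    constructor
    · rintro ⟨hxQ, hx⟩
      obtain ⟨q, rfl⟩ := (hQi x).mp hxQ
      refine ⟨q, (hQ00mem q).mpr ((hcen _).mpr ?_), rfl⟩
      rw [map_mul, map_inv, hφ]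
      exact hx
    · rintro ⟨q, hq, rfl⟩
      refine ⟨(hQi _).mpr ⟨q, rfl⟩, ?_⟩
      have := (hcen _).mp ((hQ00mem q).mp hq)
      rwa [map_mul, map_inv, hφ] at this
  refine ⟨?_, ?_⟩
  · have hset : ((fun q : G => α * q * α⁻¹ * q⁻¹) '' (Qh.map H.subtype : Set G)) =
        ι '' Set.range f := by
      ext x
      constructor
      · rintro ⟨y, hy, rfl⟩
        obtain ⟨q, rfl⟩ := (hQi y).mp hy
        exact ⟨f q, ⟨q, rfl⟩, by simp only [f, map_mul, map_inv, hφ]⟩
      · rintro ⟨_, ⟨q, rfl⟩, rfl⟩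
        exact ⟨ι q, (hQi _).mpr ⟨q, rfl⟩, by simp only [f, map_mul, map_inv, hφ]⟩
    rw [hset, ← MonoidHom.map_closure, ← hI]
    ext x
    constructor
    · rintro ⟨q, hq, rfl⟩
      have hq0 : ι q ∈ Q₀ := hQ₀map ▸ ⟨q, hIQ hq, rfl⟩
      refine ⟨⟨ι q, hq0⟩, ?_, rfl⟩
      refine Subgroup.mem_center_iff.mpr fun g => Subtype.ext ?_
      obtain ⟨u, hu, hug⟩ : (g : G) ∈ Q00.map ι := hQ₀map ▸ g.2
      show (g : G) * ι q = ι q * (g : G)
      rw [← hug, ← map_mul, ← map_mul, Subgroup.mem_centralizer_iff.mp (hIC hq) u hu]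
    · rintro ⟨y, hy, rfl⟩
      obtain ⟨q, hq, hqy⟩ : (y : G) ∈ Q00.map ι := hQ₀map ▸ y.2
      refine ⟨q, ?_, hqy⟩
      show q ∈ I
      rw [hIeq, Subgroup.mem_centralizer_iff]
      intro u hu
      apply hιinj
      rw [map_mul, map_mul, hqy]
      have hu0 : ι u ∈ Q₀ := hQ₀map ▸ ⟨u, hu, rfl⟩
      exact congrArg Subtype.val (Subgroup.mem_center_iff.mp hy ⟨ι u, hu0⟩)
  · intro hnot
    obtain ⟨q, hq, hqn⟩ := SetLike.not_le_iff_exists.mp hnot
    obtain ⟨hqQ, hqz⟩ := (hQ₀ q).mp hq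
    refine ⟨q, hqQ, ?_⟩
    have hne : α * q * α⁻¹ * q⁻¹ ≠ 1 := by
      intro h
      refine hqn (Subgroup.mem_sup_left ⟨hqQ, Subgroup.mem_centralizer_singleton_iff.mpr ?_⟩)
      rw [← commutatorElement_def, commutatorElement_eq_one_iff_mul_comm] at h
      exact h.symm
    have heq : α * q * α⁻¹ * q⁻¹ = z := by
      obtain ⟨u, rfl⟩ := (hQi q).mp hqQ
      have hfc : f u ∈ Subgroup.center ↥Qh := (hcen _).mpr (by
        simp only [f, map_mul, map_inv, hφ]; exact hqz)
      have hf1 : f u ≠ 1 := fun h => hne (by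
        have := congrArg ι h
        simpa [f, hφ] using this)
      have := congrArg ι (Cfsg.Agent.Class49.exSp_eq_of_mem_center hE hfc hf1 hzqc hzq1)
      simp only [f, map_mul, map_inv, hφ] at this
      exact this
    have hαinv : α⁻¹ = α := inv_eq_of_mul_eq_one_right hαα
    have hzinv : z⁻¹ = z := inv_eq_of_mul_eq_one_right (by rw [← pow_two, ← hz, pow_orderOf_eq_one])
    calc q * α * q⁻¹ = q * α⁻¹ * q⁻¹ := by rw [hαinv]
      _ = α⁻¹ * (α * q * α⁻¹ * q⁻¹) := by group
      _ = α * z := by rw [heq, hαinv]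


end Cfsg.Agent.S1784
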