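import Cfsg.Statements.S1785
import Cfsg.Agent.Lib.PGroup.Basic


set_option autoImplicit false
open Cfsg

namespace Cfsg.Agent.S1785

variable {X : Type*} [Group X]

theorem isElementaryAbelian_sup {A B : Subgroup X} (hA : Cfsg.IsElementaryAbelian 2 A)
    (hB : Cfsg.IsElementaryAbelian 2 B) (h : ∀ a ∈ A, ∀ b ∈ B, a * b = b * a) :
    Cfsg.IsElementaryAbelian 2 (A ⊔ B) := by
  have hAc : ∀ a ∈ A, ∀ a' ∈ A, a * a' = a' * a := fun a ha a' ha' =>
    congrArg Subtype.val (hA.1.is_comm.comm ⟨a, ha⟩ ⟨a', ha'⟩)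
  have hBc : ∀ a ∈ B, ∀ a' ∈ B, a * a' = a' * a := fun a ha a' ha' =>
    congrArg Subtype.val (hB.1.is_comm.comm ⟨a, ha⟩ ⟨a', ha'⟩)
  have h1 : A ⊔ B ≤ Subgroup.centralizer ((A ⊔ B : Subgroup X) : Set X) := by
    have hA' : A ⊔ B ≤ Subgroup.centralizer (A : Set X) :=
      sup_le (fun a ha => Subgroup.mem_centralizer_iff.mpr fun a' ha' => hAc a' ha' a ha)
        (fun b hb => Subgroup.mem_centralizer_iff.mpr fun a' ha' => h a' ha' b hb)
    have hB' : A ⊔ B ≤ Subgroup.centralizer (B : Set X) :=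
      sup_le (fun a ha => Subgroup.mem_centralizer_iff.mpr fun b hb => (h a ha b hb).symm)
        (fun b hb => Subgroup.mem_centralizer_iff.mpr fun b' hb' => hBc b' hb' b hb)
    rw [Subgroup.le_centralizer_iff]
    exact sup_le (Subgroup.le_centralizer_iff.mp hA') (Subgroup.le_centralizer_iff.mp hB')
  have hsub : A ⊔ B ≤ Subgroup.centralizer ((A ⊔ B : Subgroup X) : Set X) := h1
  refine ⟨⟨⟨fun x y => Subtype.ext ((Subgroup.mem_centralizer_iff.mp (hsub x.2) y y.2)).symm⟩⟩, ?_⟩
  intro x hx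
  have hmem : x ∈ ((A ⊔ B : Subgroup X) : Set X) := hx
  have hN : B ≤ Subgroup.normalizer (A : Set X) := fun b hb => by
    rw [Subgroup.mem_normalizer_iff]
    intro a
    refine ⟨fun ha => ?_, fun ha => ?_⟩
    · rwa [← h a ha b hb, mul_inv_cancel_right]
    · have h2 := h _ ha b hb
      rw [inv_mul_cancel_right] at h2
      rwa [← mul_left_cancel h2] at ha
  rw [Subgroup.coe_mul_of_right_le_normalizer_left A B hN] at hmem
  obtain ⟨a, ha, b, hb, rfl⟩ := hmem
  rw [(show Commute a b from h a ha b hb).mul_pow, hA.2 a ha, hB.2 b hb, one_mul]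

theorem isElementaryAbelian_of_le {A B : Subgroup X} (hB : Cfsg.IsElementaryAbelian 2 B)
    (hle : A ≤ B) : Cfsg.IsElementaryAbelian 2 A :=
  ⟨⟨⟨fun x y => Subtype.ext (congrArg (fun w : ↥B => (w : X))
    (hB.1.is_comm.comm ⟨(x : X), hle x.2⟩ ⟨(y : X), hle y.2⟩))⟩⟩, fun a ha => hB.2 a (hle ha)⟩

theorem centralizer_sq [Finite X] (hX : IsPGroup 2 X) (E : Subgroup X) [E.Normal]
    (hE : Cfsg.IsElementaryAbelian 2 E) {S' S : Subgroup X} (hS : Cfsg.IsElementaryAbelian 2 S)
    (hle : S' ≤ S) (hcard : Nat.card S = 2 * Nat.card S') :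
    Nat.card ↥(E ⊓ Subgroup.centralizer (S' : Set X)) ≤
      Nat.card ↥(E ⊓ Subgroup.centralizer (S : Set X)) *
        Nat.card ↥(E ⊓ Subgroup.centralizer (S : Set X)) := by
  obtain ⟨x, hxS, hx⟩ : ∃ x ∈ S, x ∉ S' := by
    by_contra h
    push Not at h
    have := Subgroup.card_le_of_le (show S ≤ S' from h)
    have : 0 < Nat.card ↥S' := Nat.card_pos
    omega
  have hEc : ∀ a ∈ E, ∀ b ∈ E, a * b = b * a := fun a ha b hb =>
    congrArg Subtype.val (hE.1.is_comm.comm ⟨a, ha⟩ ⟨b, hb⟩)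
  have hSc : ∀ a ∈ S, ∀ b ∈ S, a * b = b * a := fun a ha b hb =>
    congrArg Subtype.val (hS.1.is_comm.comm ⟨a, ha⟩ ⟨b, hb⟩)
  have hgen : ∀ d, (∀ s ∈ S', s * d = d * s) → x * d = d * x → ∀ s ∈ S, s * d = d * s := by
    intro d h1 h2 s hs
    have hlt : S' < S' ⊔ Subgroup.zpowers x :=
      lt_of_le_of_ne le_sup_left fun h =>
        hx (h ▸ Subgroup.mem_sup_right (Subgroup.mem_zpowers x))
    have hle2 : S' ⊔ Subgroup.zpowers x ≤ S := sup_le hle (Subgroup.zpowers_le.mpr hxS)
    have heq : S' ⊔ Subgroup.zpowers x = S := by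
      refine Subgroup.eq_of_le_of_card_ge hle2 ?_
      obtain ⟨n, hn⟩ := (IsPGroup.iff_card (p := 2)).mp (hX.to_subgroup S')
      obtain ⟨m, hm⟩ := (IsPGroup.iff_card (p := 2)).mp (hX.to_subgroup (S' ⊔ Subgroup.zpowers x))
      have h3 : Nat.card ↥S' < Nat.card ↥(S' ⊔ Subgroup.zpowers x) :=
        lt_of_le_of_ne (Subgroup.card_le_of_le hlt.le) fun h =>
          hlt.ne (Subgroup.eq_of_le_of_card_ge hlt.le h.ge)
      rw [hn, hm, Nat.pow_lt_pow_iff_right one_lt_two] at h3
      rw [hcard, hn, hm, ← pow_succ']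
      exact Nat.pow_le_pow_right two_pos h3
    have hc : S' ⊔ Subgroup.zpowers x ≤ Subgroup.centralizer ({d} : Set X) :=
      sup_le (fun y hy => Subgroup.mem_centralizer_singleton_iff.mpr (h1 y hy))
        (Subgroup.zpowers_le.mpr (Subgroup.mem_centralizer_singleton_iff.mpr h2))
    exact Subgroup.mem_centralizer_singleton_iff.mp (hc (heq.ge hs))
  set D := E ⊓ Subgroup.centralizer (S' : Set X) with hD
  set C := E ⊓ Subgroup.centralizer (S : Set X) with hC
  have hxx : x * x = 1 := by rw [← pow_two]; exact hS.2 x hxS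
  have hxD : ∀ d ∈ D, x * d * x⁻¹ ∈ D := by
    intro d hd
    refine ⟨(inferInstance : E.Normal).conj_mem d hd.1 x, Subgroup.mem_centralizer_iff.mpr ?_⟩
    intro s hs
    have h1 := Subgroup.mem_centralizer_iff.mp hd.2 s hs
    have h2 := hSc s (hle hs) x hxS
    have h2' : s * x⁻¹ = x⁻¹ * s := (Commute.inv_right (h2 : Commute s x)).eq
    calc s * (x * d * x⁻¹) = (s * x) * d * x⁻¹ := by group
      _ = x * (s * d) * x⁻¹ := by rw [h2]; group
      _ = x * d * (s * x⁻¹) := by rw [h1]; group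
      _ = x * d * x⁻¹ * s := by rw [h2']; group
  let f : ↥D →* ↥D :=
    { toFun := fun d => ⟨(d : X) * (x * (d : X) * x⁻¹), D.mul_mem d.2 (hxD d d.2)⟩
      map_one' := Subtype.ext (by simp)
      map_mul' := fun a b => Subtype.ext (by
        show (a : X) * b * (x * (a * b) * x⁻¹) = a * (x * a * x⁻¹) * (b * (x * b * x⁻¹))
        have := hEc (b : X) b.2.1 (x * a * x⁻¹) ((inferInstance : E.Normal).conj_mem _ a.2.1 x)
        calc (a : X) * b * (x * (a * b) * x⁻¹) = a * ((b : X) * (x * a * x⁻¹)) * (x * b * x⁻¹) := by group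
          _ = _ := by rw [this]; group) }
  have hker : Nat.card f.ker ≤ Nat.card C := by
    refine Nat.card_le_card_of_injective (fun d => ⟨((d : ↥D) : X), (d : ↥D).2.1,
      Subgroup.mem_centralizer_iff.mpr fun s hs => hgen _ ?_ ?_ s hs⟩) ?_
    · exact fun s hs => Subgroup.mem_centralizer_iff.mp (d : ↥D).2.2 s hs
    · have h1 : ((d : ↥D) : X) * (x * ((d : ↥D) : X) * x⁻¹) = 1 :=
        congrArg Subtype.val (MonoidHom.mem_ker.mp d.2)
      have h2 : ((d : ↥D) : X) * ((d : ↥D) : X) = 1 := by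
        rw [← pow_two]; exact hE.2 _ (d : ↥D).2.1
      have h3 := mul_left_cancel (h1.trans h2.symm)
      rwa [mul_inv_eq_iff_eq_mul] at h3
    · intro a b hab
      exact Subtype.ext (Subtype.ext (congrArg (fun w : ↥C => (w : X)) hab))
  have hrange : Nat.card f.range ≤ Nat.card C := by
    refine Nat.card_le_card_of_injective (fun d => ⟨((d : ↥D) : X), (d : ↥D).2.1,
      Subgroup.mem_centralizer_iff.mpr fun s hs => hgen _ ?_ ?_ s hs⟩) ?_
    · exact fun s hs => Subgroup.mem_centralizer_iff.mp (d : ↥D).2.2 s hs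
    · obtain ⟨e, he⟩ := d.2
      rw [← he]
      show x * ((e : X) * (x * e * x⁻¹)) = (e : X) * (x * e * x⁻¹) * x
      have hxi : x⁻¹ = x := inv_eq_of_mul_eq_one_right hxx
      have := hEc (e : X) e.2.1 (x * e * x⁻¹) ((inferInstance : E.Normal).conj_mem _ e.2.1 x)
      calc x * ((e : X) * (x * e * x⁻¹)) = (x * e * x⁻¹) * (x * x) * e * x⁻¹ := by group
        _ = (x * e * x⁻¹) * e * x⁻¹ := by rw [hxx]; group
        _ = (e : X) * (x * e * x⁻¹) * x := by rw [← this, hxi]
    · intro a b hab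
      exact Subtype.ext (Subtype.ext (congrArg (fun w : ↥C => (w : X)) hab))
  have h4 := Subgroup.card_mul_index f.ker
  rw [Subgroup.index_ker] at h4
  calc Nat.card D = Nat.card f.ker * Nat.card f.range := h4.symm
    _ ≤ _ := Nat.mul_le_mul hker hrange

theorem exists_e8 [Finite X] {W : Subgroup X} (hW : Cfsg.IsElementaryAbelian 2 W)
    (hcard : 8 ≤ Nat.card W) (hX : IsPGroup 2 X) {V : Subgroup X} (hVW : V ≤ W)
    (hV : Nat.card V ≤ 8) : ∃ A : Subgroup X, V ≤ A ∧ A ≤ W ∧ Nat.card A = 8 := by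
  obtain ⟨n, hn⟩ := (IsPGroup.iff_card (p := 2)).mp (hX.to_subgroup W)
  obtain ⟨m, hm⟩ := (IsPGroup.iff_card (p := 2)).mp (hX.to_subgroup V)
  have hn3 : 3 ≤ n := by
    rw [hn] at hcard
    by_contra h
    have := Nat.pow_le_pow_right two_pos (show n ≤ 2 by omega)
    omega
  have hm3 : m ≤ 3 := by
    rw [hm] at hV
    exact (Nat.pow_le_pow_iff_right one_lt_two).mp (hV.trans (by norm_num))
  have hV' : Nat.card ↥(V.subgroupOf W) = 2 ^ m := by
    rw [Nat.card_congr (Subgroup.subgroupOfEquivOfLe hVW).toEquiv, hm]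
  obtain ⟨K, hK, hVK⟩ := Sylow.exists_subgroup_card_pow_prime_le (m := 3) 2
    (hn ▸ Nat.pow_dvd_pow 2 hn3) (V.subgroupOf W) hV' hm3
  refine ⟨K.map W.subtype, fun v hv => ⟨⟨v, hVW hv⟩, hVK hv, rfl⟩, Subgroup.map_subtype_le _, ?_⟩
  rw [← Nat.card_congr (K.equivMapOfInjective _ W.subtype_injective).toEquiv, hK]
  norm_num


/-- Let X be a finite 2-group having a normal elementary abelian subgroup of order at least 32. Then (a) for any two elementary abelian subgroups A, B of X of order 8 there is a chain A = A₁, A₂, …, Aₙ = B of elementary abelian subgroups of order 8 in which consecutive members commute elementwise; and (b) every elementary abelian subgroup of X of order 4 is contained in an elementary abelian subgroup of order 8. -/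
theorem result {X : Type*} [Group X] [Finite X]
    (hX : IsPGroup 2 X) (E : Subgroup X) [E.Normal] (hE : Cfsg.IsElementaryAbelian 2 E) (hE32 : 32 ≤ Nat.card ↥E) :
    (∀ A B : Subgroup X, Cfsg.IsElementaryAbelian 2 A → Nat.card ↥A = 8 → Cfsg.IsElementaryAbelian 2 B → Nat.card ↥B = 8 →
        Relation.ReflTransGen
          (fun C D : Subgroup X => Cfsg.IsElementaryAbelian 2 C ∧ Nat.card ↥C = 8 ∧ Cfsg.IsElementaryAbelian 2 D ∧ Nat.card ↥D = 8 ∧ ⁅C, D⁆ = ⊥)
          A B) ∧
      (∀ V : Subgroup X, Cfsg.IsElementaryAbelian 2 V → Nat.card ↥V = 4 →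
        ∃ A : Subgroup X, V ≤ A ∧ Cfsg.IsElementaryAbelian 2 A ∧ Nat.card ↥A = 8) := by
  classical
  set Rel := fun C D : Subgroup X => Cfsg.IsElementaryAbelian 2 C ∧ Nat.card ↥C = 8 ∧
    Cfsg.IsElementaryAbelian 2 D ∧ Nat.card ↥D = 8 ∧ ⁅C, D⁆ = ⊥ with hRel
  have hadj : ∀ W A B : Subgroup X, Cfsg.IsElementaryAbelian 2 W → A ≤ W → B ≤ W →
      Nat.card A = 8 → Nat.card B = 8 → Rel A B := by
    intro W A B hW hA hB hA8 hB8
    refine ⟨isElementaryAbelian_of_le hW hA, hA8, isElementaryAbelian_of_le hW hB, hB8, ?_⟩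
    rw [Subgroup.commutator_eq_bot_iff_le_centralizer]
    intro a ha
    rw [Subgroup.mem_centralizer_iff]
    exact fun b hb => congrArg Subtype.val (hW.1.is_comm.comm ⟨b, hB hb⟩ ⟨a, hA ha⟩)
  have hEbot : Nat.card E ≤ Nat.card ↥(E ⊓ Subgroup.centralizer ((⊥ : Subgroup X) : Set X)) := by
    refine Subgroup.card_le_of_le (le_inf le_rfl fun e _ => Subgroup.mem_centralizer_iff.mpr ?_)
    intro y hy
    rw [Subgroup.mem_bot.mp hy, one_mul, mul_one]
  have hpow : ∀ (H : Subgroup X) (k : ℕ), 2 ^ k < Nat.card H → 2 ^ (k + 1) ≤ Nat.card H := by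
    intro H k hk
    obtain ⟨n, hn⟩ := (IsPGroup.iff_card (p := 2)).mp (hX.to_subgroup H)
    rw [hn] at hk ⊢
    exact Nat.pow_le_pow_right two_pos ((Nat.pow_lt_pow_iff_right one_lt_two).mp hk)
  have hC2 : ∀ S : Subgroup X, Cfsg.IsElementaryAbelian 2 S → Nat.card S = 2 →
      8 ≤ Nat.card ↥(E ⊓ Subgroup.centralizer (S : Set X)) := by
    intro S hS hS2
    have h1 := centralizer_sq hX E hE hS bot_le (by rw [hS2, Subgroup.card_bot])
    refine hpow _ 2 ?_
    nlinarith
  have hC4 : ∀ S : Subgroup X, Cfsg.IsElementaryAbelian 2 S → Nat.card S = 4 →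
      4 ≤ Nat.card ↥(E ⊓ Subgroup.centralizer (S : Set X)) := by
    intro S hS hS4
    obtain ⟨K, hK, -⟩ := Sylow.exists_subgroup_card_pow_prime_le (G := ↥S) (m := 1) 2
      (by rw [hS4]; norm_num) ⊥ (n := 0) (by simp) (by norm_num)
    have hK' : Nat.card ↥(K.map S.subtype) = 2 := by
      rw [← Nat.card_congr (K.equivMapOfInjective _ S.subtype_injective).toEquiv, hK]; norm_num
    have h1 := centralizer_sq hX E hE hS (Subgroup.map_subtype_le K) (by rw [hS4, hK'])
    have h2 := hC2 _ (isElementaryAbelian_of_le hS (Subgroup.map_subtype_le K)) hK'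
    refine hpow _ 1 ?_
    nlinarith
  have hC8 : ∀ S : Subgroup X, Cfsg.IsElementaryAbelian 2 S → Nat.card S = 8 →
      2 ≤ Nat.card ↥(E ⊓ Subgroup.centralizer (S : Set X)) := by
    intro S hS hS8
    obtain ⟨K, hK, -⟩ := Sylow.exists_subgroup_card_pow_prime_le (G := ↥S) (m := 2) 2
      (by rw [hS8]; norm_num) ⊥ (n := 0) (by simp) (by norm_num)
    have hK' : Nat.card ↥(K.map S.subtype) = 4 := by
      rw [← Nat.card_congr (K.equivMapOfInjective _ S.subtype_injective).toEquiv, hK]; norm_num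
    have h1 := centralizer_sq hX E hE hS (Subgroup.map_subtype_le K) (by rw [hS8, hK'])
    have h2 := hC4 _ (isElementaryAbelian_of_le hS (Subgroup.map_subtype_le K)) hK'
    nlinarith
  have hW : ∀ S : Subgroup X, Cfsg.IsElementaryAbelian 2 S →
      Cfsg.IsElementaryAbelian 2 (S ⊔ E ⊓ Subgroup.centralizer (S : Set X)) := fun S hS =>
    isElementaryAbelian_sup hS (isElementaryAbelian_of_le hE inf_le_left)
      fun a ha b hb => Subgroup.mem_centralizer_iff.mp hb.2 a ha
  have hEC : ∀ S : Subgroup X, S ≤ E → E ≤ Subgroup.centralizer (S : Set X) := fun S hS e he =>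
    Subgroup.mem_centralizer_iff.mpr fun s hs =>
      congrArg Subtype.val (hE.1.is_comm.comm ⟨s, hS hs⟩ ⟨e, he⟩)
  refine ⟨?_, ?_⟩
  · have key : ∀ A : Subgroup X, Cfsg.IsElementaryAbelian 2 A → Nat.card A = 8 →
        ∃ T, T ≤ E ∧ Nat.card T = 8 ∧ Relation.ReflTransGen Rel A T := by
      intro A hA hA8
      obtain ⟨⟨e, heE, heC⟩, he1⟩ : ∃ e : ↥(E ⊓ Subgroup.centralizer (A : Set X)), e ≠ 1 :=
        Subgroup.ne_bot_iff_exists_ne_one.mp fun h => by
          have := hC8 A hA hA8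
          rw [h, Subgroup.card_bot] at this
          omega
      obtain ⟨U, hUA, hU4, heU⟩ : ∃ U : Subgroup X, U ≤ A ∧ Nat.card U = 4 ∧ e ∉ U := by
        by_cases heA : e ∈ A
        · obtain ⟨M, -, hM, hMe⟩ := Cfsg.Agent.PGroup.exists_isCoatom_not_mem (p := 2) (G := ↥A)
            (fun a b => hA.1.is_comm.comm a b) (fun a => Subtype.ext (hA.2 a a.2))
            (H := ⊥) (v := ⟨e, heA⟩)
            (fun h => he1 (Subtype.ext (congrArg Subtype.val (Subgroup.mem_bot.mp h) :)))
          refine ⟨M.map A.subtype, Subgroup.map_subtype_le M, ?_, fun h => hMe ?_⟩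
          · have h1 := Subgroup.card_mul_index M
            rw [Cfsg.Agent.PGroup.index_eq_prime_of_isCoatom (hX.to_subgroup A) hM, hA8] at h1
            rw [← Nat.card_congr (M.equivMapOfInjective _ A.subtype_injective).toEquiv]
            omega
          · obtain ⟨w, hw, hwe⟩ := h
            rwa [show (⟨e, heA⟩ : ↥A) = w from Subtype.ext hwe.symm]
        · obtain ⟨K, hK, -⟩ := Sylow.exists_subgroup_card_pow_prime_le (G := ↥A) (m := 2) 2
            (by rw [hA8]; norm_num) ⊥ (n := 0) (by simp) (by norm_num)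
          refine ⟨K.map A.subtype, Subgroup.map_subtype_le K, ?_,
            fun h => heA (Subgroup.map_subtype_le K h)⟩
          rw [← Nat.card_congr (K.equivMapOfInjective _ A.subtype_injective).toEquiv, hK]; norm_num
      have hU := isElementaryAbelian_of_le hA hUA
      have heU' : e ∈ E ⊓ Subgroup.centralizer (U : Set X) :=
        ⟨heE, Subgroup.centralizer_le (show (U : Set X) ⊆ A from hUA) heC⟩
      set T1 := U ⊔ Subgroup.zpowers e with hT1
      have hT1A : T1 ≤ A ⊔ E ⊓ Subgroup.centralizer (A : Set X) :=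
        sup_le (hUA.trans le_sup_left)
          (Subgroup.zpowers_le.mpr (Subgroup.mem_sup_right ⟨heE, heC⟩))
      have hT18 : 8 ≤ Nat.card T1 := by
        refine hpow _ 2 ?_
        rw [show 2 ^ 2 = Nat.card U from hU4.symm]
        refine lt_of_le_of_ne (Subgroup.card_le_of_le le_sup_left) fun h => heU ?_
        rw [Subgroup.eq_of_le_of_card_ge (le_sup_left : U ≤ T1) h.ge]
        exact Subgroup.mem_sup_right (Subgroup.mem_zpowers e)
      obtain ⟨K1, -, hK1, hK18⟩ := exists_e8 (isElementaryAbelian_of_le (hW A hA) hT1A) hT18 hX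
        (V := ⊥) bot_le (by simp)
      have step1 : Rel A K1 := hadj _ A K1 (hW A hA) le_sup_left (hK1.trans hT1A) hA8 hK18
      by_cases hUE : U ≤ E
      · exact ⟨K1, hK1.trans (sup_le hUE (Subgroup.zpowers_le.mpr heE)), hK18,
          Relation.ReflTransGen.single step1⟩
      obtain ⟨a, haU, haE⟩ := SetLike.not_le_iff_exists.mp hUE
      have hS := isElementaryAbelian_of_le hU (Subgroup.zpowers_le.mpr haU)
      have hS2 : Nat.card ↥(Subgroup.zpowers a) = 2 := by
        rw [Nat.card_zpowers]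
        exact orderOf_eq_prime (hU.2 a haU) fun h => haE (h ▸ E.one_mem)
      set T2 := Subgroup.zpowers a ⊔ E ⊓ Subgroup.centralizer (U : Set X) with hT2
      have hT2U : T2 ≤ U ⊔ E ⊓ Subgroup.centralizer (U : Set X) :=
        sup_le_sup_right (Subgroup.zpowers_le.mpr haU) _
      have hsub : E ⊓ Subgroup.centralizer (U : Set X) ≤
          E ⊓ Subgroup.centralizer (Subgroup.zpowers a : Set X) :=
        inf_le_inf_left _ (Subgroup.centralizer_le
          (show (Subgroup.zpowers a : Set X) ⊆ U from Subgroup.zpowers_le.mpr haU))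
      have hT2a : T2 ≤ Subgroup.zpowers a ⊔
          E ⊓ Subgroup.centralizer (Subgroup.zpowers a : Set X) := sup_le_sup_left hsub _
      have hT28 : 8 ≤ Nat.card T2 := by
        refine hpow _ 2 ?_
        refine lt_of_le_of_lt ((show 2 ^ 2 = 4 from rfl).le.trans (hC4 U hU hU4)) ?_
        refine lt_of_le_of_ne (Subgroup.card_le_of_le le_sup_right) fun h => haE ?_
        have h' := Subgroup.eq_of_le_of_card_ge
          (le_sup_right : E ⊓ Subgroup.centralizer (U : Set X) ≤ T2) h.ge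
        exact (h'.symm ▸ Subgroup.mem_sup_left (Subgroup.mem_zpowers a) :
          a ∈ E ⊓ Subgroup.centralizer (U : Set X)).1
      obtain ⟨K2, -, hK2, hK28⟩ := exists_e8 (isElementaryAbelian_of_le (hW U hU) hT2U) hT28 hX
        (V := ⊥) bot_le (by simp)
      have step2 : Rel K1 K2 := hadj _ K1 K2 (hW U hU)
        (hK1.trans (sup_le le_sup_left (Subgroup.zpowers_le.mpr (Subgroup.mem_sup_right heU'))))
        (hK2.trans hT2U) hK18 hK28
      obtain ⟨K3, -, hK3, hK38⟩ := exists_e8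
        (isElementaryAbelian_of_le hE
          (inf_le_left : E ⊓ Subgroup.centralizer (Subgroup.zpowers a : Set X) ≤ E))
        (hC2 _ hS hS2) hX (V := ⊥) bot_le (by simp)
      have step3 : Rel K2 K3 := hadj _ K2 K3 (hW _ hS) (hK2.trans hT2a)
        (hK3.trans le_sup_right) hK28 hK38
      exact ⟨K3, hK3.trans inf_le_left, hK38,
        ((Relation.ReflTransGen.single step1).tail step2).tail step3⟩
    intro A B hA hA8 hB hB8
    obtain ⟨T, hT, hT8, hAT⟩ := key A hA hA8
    obtain ⟨T', hT', hT8', hBT⟩ := key B hB hB8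
    have hsymm : ∀ C D, Rel C D → Rel D C := fun C D h =>
      ⟨h.2.2.1, h.2.2.2.1, h.1, h.2.1, by rw [Subgroup.commutator_comm]; exact h.2.2.2.2⟩
    have hTB : Relation.ReflTransGen Rel T' B := by
      haveI : Std.Symm Rel := ⟨hsymm⟩
      exact symm hBT
    exact (hAT.tail (hadj E T T' hE hT hT' hT8 hT8')).trans hTB
  · intro V hV hV4
    set W := V ⊔ E ⊓ Subgroup.centralizer (V : Set X) with hWdef
    have hWc : 8 ≤ Nat.card W := by
      refine hpow _ 2 ?_
      rw [show 2 ^ 2 = Nat.card V from hV4.symm]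
      refine lt_of_le_of_ne (Subgroup.card_le_of_le le_sup_left) fun h => ?_
      have h' : E ⊓ Subgroup.centralizer (V : Set X) ≤ V := by
        conv_rhs => rw [Subgroup.eq_of_le_of_card_ge (le_sup_left : V ≤ W) h.ge]
        exact le_sup_right
      have h'' := Subgroup.eq_of_le_of_card_ge h' (hV4.le.trans (hC4 V hV hV4))
      have h3 : E ≤ V := fun e he =>
        h' ⟨he, hEC V (h''.ge.trans inf_le_left) he⟩
      have := Subgroup.card_le_of_le h3
      omega
    obtain ⟨A, hVA, hAW, hA8⟩ := exists_e8 (hW V hV) hWc hX (V := V) le_sup_left (by omega)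
    exact ⟨A, hVA, isElementaryAbelian_of_le (hW V hV) hAW, hA8⟩


end Cfsg.Agent.S1785
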