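import Cfsg.Statements.S1786
import Cfsg.Agent.TI1786.Line
import Cfsg.Agent.Lib.PGroup.Basic
-- import your own Cfsg.Agent.* helpers here

set_option autoImplicit false
open Cfsg

namespace Cfsg.Agent.S1786

/-- Let G be a finite group, V an elementary abelian 2-subgroup of G and M the normalizer of V; write Q for the largest normal 2-subgroup of M. Suppose (1) the generalized Fitting subgroup of M equals Q; (2) V is a maximal abelian normal subgroup of M; (3) every conjugate of V equals V or meets V trivially, and for some g ∈ G the conjugate V' = g V g⁻¹ is different from V and contained in Q. Let P be the centralizer of V in Q, W the subgroup generated by V and V', and H the subgroup generated by P and g P g⁻¹. Then: (a) V is contained in g Q g⁻¹; (b) every non-identity element of W lies in exactly one conjugate of V contained in W, H normalizes W, and H modulo the centralizer of W in H is isomorphic to the special linear group of dimension 2 over the field with |V| elements; (c) P = Q, and V equals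 the Frattini subgroup, the centre and the commutator subgroup of Q. -/
theorem result {G : Type*} [Group G] [Finite G] (V : Subgroup G)
    (hV : Cfsg.IsElementaryAbelian 2 V)
    (h1 : (Cfsg.generalizedFittingSubgroup ↥(Subgroup.normalizer (V : Set G))).map (Subgroup.normalizer (V : Set G)).subtype =
      (Cfsg.pCore 2 ↥(Subgroup.normalizer (V : Set G))).map (Subgroup.normalizer (V : Set G)).subtype)
    (h2 : ∀ A : Subgroup G, V ≤ A → A ≤ Subgroup.normalizer (V : Set G) → IsMulCommutative ↥A →
      (∀ m ∈ Subgroup.normalizer (V : Set G), ∀ a ∈ A, m * a * m⁻¹ ∈ A) → A = V)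
    (hti : ∀ x : G, V.map (MulAut.conj x).toMonoidHom = V ∨ V.map (MulAut.conj x).toMonoidHom ⊓ V = ⊥)
    (g : G) (hg : V.map (MulAut.conj g).toMonoidHom ≠ V)
    (hgQ : V.map (MulAut.conj g).toMonoidHom ≤ (Cfsg.pCore 2 ↥(Subgroup.normalizer (V : Set G))).map (Subgroup.normalizer (V : Set G)).subtype) :
    let Q : Subgroup G := (Cfsg.pCore 2 ↥(Subgroup.normalizer (V : Set G))).map (Subgroup.normalizer (V : Set G)).subtype
    let P : Subgroup G := Q ⊓ Subgroup.centralizer (V : Set G)
    let W : Subgroup G := V ⊔ V.map (MulAut.conj g).toMonoidHom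
    let H : Subgroup G := P ⊔ P.map (MulAut.conj g).toMonoidHom
    V ≤ Q.map (MulAut.conj g).toMonoidHom ∧
      (∀ w ∈ W, w ≠ 1 → ∃! U : Subgroup G, (∃ x : G, U = V.map (MulAut.conj x).toMonoidHom) ∧ U ≤ W ∧ w ∈ U) ∧
      H ≤ Subgroup.normalizer (W : Set G) ∧
      (∀ hN : ((Subgroup.centralizer (W : Set G)).subgroupOf H).Normal, ∃ (F : Type) (_ : Field F) (_ : Fintype F), Fintype.card F = Nat.card ↥V ∧
        Nonempty (↥H ⧸ (Subgroup.centralizer (W : Set G)).subgroupOf H ≃* Matrix.SpecialLinearGroup (Fin 2) F)) ∧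
      P = Q ∧ (frattini ↥Q).map Q.subtype = V ∧ (Subgroup.center ↥Q).map Q.subtype = V ∧ (commutator ↥Q).map Q.subtype = V := by
  classical
  haveI : Fact (Nat.Prime 2) := ⟨Nat.prime_two⟩
  intro Q P W H
  have hne : V ≠ ⊥ := by
    rintro rfl
    exact hg (Subgroup.map_bot _)
  have hT : TI1786.TI V :=
    { elem := fun a ha => by simpa [pow_two] using hV.2 a ha
      ne := hne
      ti := by
        intro x v hv hv1 hxv
        rw [TI1786.mem_normalizer_iff_cj]
        rcases hti x with h | h
        · exact h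
        · exfalso
          have h1 : x * v * x⁻¹ ∈ V.map (MulAut.conj x).toMonoidHom ⊓ V :=
            ⟨TI1786.conj_mem_cj hv, hxv⟩
          rw [h, Subgroup.mem_bot, mul_inv_eq_one, mul_eq_left] at h1
          exact hv1 h1
      core := by
        intro y hy hc
        have hF : generalizedFittingSubgroup ↥(Subgroup.normalizer (V : Set G)) =
            pCore 2 ↥(Subgroup.normalizer (V : Set G)) :=
          Subgroup.map_injective Subtype.val_injective h1
        have h := Components.centralizer_generalizedFitting_le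
          (G := ↥(Subgroup.normalizer (V : Set G))) (x := ⟨y, hy⟩) (by
            rw [hF]
            exact Subgroup.mem_centralizer_iff.2 fun q hq => Subtype.ext (hc q.1 ⟨q, hq, rfl⟩))
        rw [hF] at h
        exact ⟨⟨y, hy⟩, h, rfl⟩
      maxab := h2 }
  have hA : TI1786.Mem V (TI1786.cj g V) := ⟨⟨g, rfl⟩, hg, hgQ⟩
  obtain ⟨B, hB⟩ := TI1786.exists_partner hT hA
  have hPA : TI1786.cj g (TI1786.Psub V) = TI1786.Psub (TI1786.cj g V) := TI1786.cj_Psub g V
  have hPQ : TI1786.Psub V = TI1786.Qsub V := TI1786.Psub_eq_Qsub hT hA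
  have hQP : ∀ q, q ∈ Q → q ∈ TI1786.Psub V := fun q hq => by rw [hPQ]; exact hq
  have hVQ : V ≤ Q := (TI1786.le_Psub hT).trans inf_le_left
  have hcomm : (commutator ↥Q).map Q.subtype = V := by
    rw [Subgroup.map_subtype_commutator]
    refine le_antisymm ((Subgroup.commutator_mono hQP hQP).trans
      (TI1786.Psub_commutator hT)) fun v hv => ?_
    obtain ⟨⟨a, ha⟩, ha1⟩ := Subgroup.ne_bot_iff_exists_ne_one.1 (hT.of_isC hA.conj).ne
    obtain ⟨b, hb, rfl⟩ := hB.exists_tw hT hA ha (fun h => ha1 (Subtype.ext h)) hv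
    have hbQ : b ∈ Q := (hB.le hb).1
    have haQ : a ∈ Q := hA.le ha
    have := Subgroup.commutator_mem_commutator (Q.inv_mem haQ) hbQ
    simpa [TI1786.tw, commutatorElement_def, mul_assoc] using this
  refine ⟨?_, ?_, ?_, ?_, hPQ, ?_, ?_, hcomm⟩
  · exact (TI1786.le_Qsub_symm hT hA).trans_eq (TI1786.cj_Qsub g V).symm
  · intro w hw hw1
    have hex : ∃ U : Subgroup G, (∃ x : G, U = V.map (MulAut.conj x).toMonoidHom) ∧ U ≤ W ∧ w ∈ U := by
      obtain ⟨a, ha, v, hv, rfl⟩ := (TI1786.mem_W_iff hT hA).1 hw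
      rcases eq_or_ne a 1 with rfl | ha1
      · exact ⟨V, TI1786.IsC.self V, le_sup_left, by simpa using hv⟩
      · obtain ⟨b, hb, hbv⟩ := hB.exists_tw hT hA ha ha1 hv
        refine ⟨_, hA.conj.cj b, TI1786.cj_le_W hT hA (hB.le hb), ?_⟩
        rw [← hbv, ← TI1786.conj_eq_mul_tw]
        exact TI1786.conj_mem_cj ha
    obtain ⟨U, hU, hUW, hwU⟩ := hex
    exact ⟨U, ⟨hU, hUW, hwU⟩, fun U' hU' => TI1786.eq_of_mem hT hU'.1 hU hU'.2.2 hwU hw1⟩
  · have h := TI1786.sup_le_normalizer hT hA
    rw [← hPA] at h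
    exact h
  · have h := TI1786.line_iso hT hA
    rw [← hPA] at h
    exact h
  · refine le_antisymm ?_ ?_
    · rintro _ ⟨q, hq, rfl⟩
      haveI : (V.subgroupOf Q).Normal := ⟨fun v hv q =>
        (Subgroup.mem_normalizer_iff.1 (TI1786.Qsub_le V q.2) v).1 hv⟩
      refine PGroup.frattini_le_of_quotient (p := 2) (N := V.subgroupOf Q) ?_ ?_ hq
      · intro c hc
        rw [Subgroup.mem_subgroupOf, ← hcomm]
        exact ⟨c, hc, rfl⟩
      · intro x
        rw [Subgroup.mem_subgroupOf, pow_two]
        exact TI1786.Psub_sq hT (hQP _ x.2)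
    · exact hcomm.symm.trans_le
        (Subgroup.map_mono (PGroup.commutator_le_frattini (TI1786.Qsub_isPGroup V)))
  · refine le_antisymm ?_ fun v hv => ⟨⟨v, hVQ hv⟩, Subgroup.mem_center_iff.2 fun q =>
      Subtype.ext (TI1786.Psub_le_centralizer (hQP _ q.2) hv), rfl⟩
    rintro _ ⟨z, hz, rfl⟩
    exact TI1786.Psub_center hT (hQP _ z.2) fun p hp =>
      congrArg Subtype.val (Subgroup.mem_center_iff.1 hz ⟨p, hp.1⟩)

end Cfsg.Agent.S1786
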