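import Cfsg.Statements.S1850
import Cfsg.Agent.Class49.CharTwoLocal


set_option autoImplicit false
open Cfsg

namespace Cfsg.Agent.S1850

/-- Let G be a non-abelian finite simple QTKE-group and T a Sylow 2-subgroup of G. If U is a nontrivial 2-subgroup of G with U ∩ Z(T) ≠ 1, then F*(N_G(U)) = O₂(N_G(U)). -/
theorem result {G : Type*} [Group G] [Finite G] [IsSimpleGroup G]
    (hG : ¬ IsMulCommutative G) (hQ : Cfsg.IsQTKE G) (T : Sylow 2 G) (U : Subgroup G)
    (hU : IsPGroup 2 ↥U) (hZ : U ⊓ ((T : Subgroup G) ⊓ Subgroup.centralizer ((T : Subgroup G) : Set G)) ≠ ⊥) :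
    Subgroup.normalizer (U : Set G) ∈ Cfsg.calHe G := by
  obtain ⟨z, ⟨hzU, hzT, hzC⟩, hz2⟩ :
      ∃ z ∈ U ⊓ ((T : Subgroup G) ⊓ Subgroup.centralizer ((T : Subgroup G) : Set G)), orderOf z = 2 := by
    set Z := U ⊓ ((T : Subgroup G) ⊓ Subgroup.centralizer ((T : Subgroup G) : Set G)) with hZdef
    have hZp : IsPGroup 2 Z := hU.to_le inf_le_left
    haveI : Nontrivial Z := Z.nontrivial_iff_ne_bot.mpr hZ
    obtain ⟨n, hn, hn'⟩ := hZp.nontrivial_iff_card.mp inferInstance
    obtain ⟨⟨z, hz⟩, hz'⟩ := exists_prime_orderOf_dvd_card' (G := Z) 2 (hn' ▸ dvd_pow_self 2 hn.ne')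
    exact ⟨z, hz, by rwa [Subgroup.orderOf_mk] at hz'⟩
  have hzp : IsPGroup 2 (Subgroup.zpowers z) :=
    IsPGroup.of_card (n := 1) (by rw [Nat.card_zpowers, hz2, pow_one])
  have hzne : Subgroup.zpowers z ≠ ⊥ := by
    rw [Subgroup.zpowers_ne_bot]; intro h; rw [h, orderOf_one] at hz2; omega
  have hzeq : Subgroup.centralizer ((Subgroup.zpowers z : Subgroup G) : Set G) =
      Subgroup.centralizer ({z} : Set G) := by
    rw [Subgroup.zpowers_eq_closure, Subgroup.centralizer_closure]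
  have hTz : (T : Subgroup G) ≤ Subgroup.centralizer ({z} : Set G) := fun t ht =>
    Subgroup.mem_centralizer_singleton_iff.mpr (Subgroup.mem_centralizer_iff.mp hzC t ht)
  have hCz : LocalEven64.CharPOf 2 (Subgroup.centralizer ({z} : Set G)) :=
    hQ.2.2 _ ⟨_, hzp, hzne, (Class49.normalizer_zpowers_of_orderOf_two hz2).symm⟩ ⟨T, hTz⟩
  have hCU : LocalEven64.CharPOf 2 (Subgroup.centralizer (U : Set G)) :=
    Class49.charPOf_centralizer_of_le hU (Subgroup.zpowers_le.mpr hzU) (hzeq.symm ▸ hCz)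
  refine Class49.fStar_eq_of_centralizer_pCore_le ?_
  set N := Subgroup.normalizer (U : Set G) with hN
  show LocalEven64.CharPOf 2 N
  refine LocalEven64.charPOf_iff.mpr fun x hx hxp hxc => ?_
  have hxU : x ∈ Subgroup.centralizer (U : Set G) :=
    Subgroup.centralizer_le (LocalEven64.le_pCoreOf Subgroup.le_normalizer le_rfl hU) hxc
  refine hCU.eq_one hxU hxp (Subgroup.centralizer_le ?_ hxc)
  exact Class49.pCoreOf_le_pCoreOf (Subgroup.centralizer_le_normalizer _)
    (LocalEven64.le_normalizer_centralizer le_rfl)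

end Cfsg.Agent.S1850
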