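import Cfsg.Statements.S1851
import Cfsg.Agent.Class49.CharTwoLocal
import Cfsg.Agent.Lib.PGroup.Basic


set_option autoImplicit false
open Cfsg
open scoped commutatorElement

namespace Cfsg.Agent.S1851

open Subgroup LocalEven64

section lemmas

variable {X : Type*} [Group X] [Finite X]

/-- A subnormal `L` with `L R = X` for a normal `p`-subgroup `R` contains all `p'`-elements. -/
theorem mem_of_sup_eq_top {p : ℕ} [Fact p.Prime] {L R : Subgroup X} [R.Normal] (hL : L.IsSubnormal)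
    (hR : IsPGroup p R) (h : L ⊔ R = ⊤) {g : X} (hg : (orderOf g).Coprime p) : g ∈ L := by
  suffices H : ∀ K : Subgroup X, K.IsSubnormal → L ≤ K → g ∈ K from H L hL le_rfl
  intro K hK
  induction hK with
  | top => exact fun _ => mem_top g
  | step H K hHK hK hn ih =>
    intro hLH
    have hgK : g ∈ K := ih (hLH.trans hHK)
    obtain ⟨l, hl, r, hr, hlr⟩ := (mem_sup_of_normal_right).mp (h.ge (mem_top g))
    have hrK : r ∈ K := by
      have : r = l⁻¹ * g := by rw [← hlr]; group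
      rw [this]; exact K.mul_mem (K.inv_mem (hHK (hLH hl))) hgK
    haveI := hn
    let π := QuotientGroup.mk' (H.subgroupOf K)
    have hπ : π ⟨g, hgK⟩ = π ⟨r, hrK⟩ := by
      have e : (⟨g, hgK⟩ : K) = ⟨l, hHK (hLH hl)⟩ * ⟨r, hrK⟩ := Subtype.ext hlr.symm
      have hl1 : π ⟨l, hHK (hLH hl)⟩ = 1 := by
        rw [← MonoidHom.mem_ker, QuotientGroup.ker_mk']; exact hLH hl
      rw [e, map_mul, hl1, one_mul]
    have h1 : orderOf (π ⟨g, hgK⟩) ∣ orderOf g := by
      rw [← Subgroup.orderOf_mk g hgK]; exact orderOf_map_dvd π _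
    have h2 : orderOf (π ⟨g, hgK⟩) ∣ orderOf r := by
      rw [hπ, ← Subgroup.orderOf_mk r hrK]; exact orderOf_map_dvd π _
    obtain ⟨k, hk⟩ := IsPGroup.iff_orderOf.mp hR ⟨r, hr⟩
    rw [Subgroup.orderOf_mk] at hk
    have h3 : orderOf (π ⟨g, hgK⟩) = 1 :=
      Nat.eq_one_of_dvd_coprimes (hk ▸ hg.pow_right k) h1 h2
    rw [orderOf_eq_one_iff, ← MonoidHom.mem_ker, QuotientGroup.ker_mk'] at h3
    exact h3

/-- If `S` commutes with `l` on the elementary abelian `V` and `l` centralizes `C_V(S)`, then `l`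
centralizes `V`. -/
theorem commute_of_fixed {S V : Subgroup X} {l : X} (hl : Odd (orderOf l)) (hS : IsPGroup 2 S)
    (hc : ∀ a ∈ V, ∀ b ∈ V, Commute a b) (h2 : ∀ a ∈ V, a ^ 2 = 1)
    (hlV : l ∈ normalizer (V : Set X)) (hSV : S ≤ normalizer (V : Set X))
    (hls : ∀ s ∈ S, ∀ v ∈ V, l * (s * v * s⁻¹) * l⁻¹ = s * (l * v * l⁻¹) * s⁻¹)
    (hfix : ∀ v ∈ V, v ∈ centralizer (S : Set X) → Commute l v) : ∀ v ∈ V, Commute l v := by
  have hconj : ∀ v ∈ V, l * v * l⁻¹ ∈ V := fun v hv => (mem_normalizer_iff.mp hlV v).mp hv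
  let W : Subgroup X :=
    { carrier := {w | ∃ u ∈ V, w = l * u * l⁻¹ * u⁻¹}
      one_mem' := ⟨1, V.one_mem, by simp⟩
      mul_mem' := by
        rintro a b ⟨u, hu, rfl⟩ ⟨u', hu', rfl⟩
        refine ⟨u * u', V.mul_mem hu hu', ?_⟩
        have e1 : Commute u⁻¹ (l * u' * l⁻¹ * u'⁻¹) :=
          hc _ (V.inv_mem hu) _ (V.mul_mem (hconj u' hu') (V.inv_mem hu'))
        calc l * u * l⁻¹ * u⁻¹ * (l * u' * l⁻¹ * u'⁻¹)
            = l * u * l⁻¹ * (u⁻¹ * (l * u' * l⁻¹ * u'⁻¹)) := by group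
          _ = l * u * l⁻¹ * ((l * u' * l⁻¹ * u'⁻¹) * u⁻¹) := by rw [e1.eq]
          _ = _ := by group
      inv_mem' := by
        rintro a ⟨u, hu, rfl⟩
        refine ⟨u⁻¹, V.inv_mem hu, ?_⟩
        have e1 : Commute u (l * u⁻¹ * l⁻¹) := hc _ hu _ (hconj _ (V.inv_mem hu))
        calc (l * u * l⁻¹ * u⁻¹)⁻¹ = u * (l * u⁻¹ * l⁻¹) := by group
          _ = (l * u⁻¹ * l⁻¹) * u := e1.eq
          _ = _ := by group }
  have hWV : W ≤ V := by
    rintro _ ⟨u, hu, rfl⟩; exact V.mul_mem (hconj u hu) (V.inv_mem hu)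
  have hW2 : IsPGroup 2 W := fun w => ⟨1, Subtype.ext (by simpa using h2 _ (hWV w.2))⟩
  by_cases hW : W = ⊥
  · intro v hv
    have h : l * v * l⁻¹ * v⁻¹ ∈ W := ⟨v, hv, rfl⟩
    rw [hW, Subgroup.mem_bot, mul_inv_eq_one, mul_inv_eq_iff_eq_mul] at h
    exact h
  exfalso
  have hSW : S ≤ normalizer (W : Set X) := by
    have key : ∀ s ∈ S, ∀ w ∈ W, s * w * s⁻¹ ∈ W := by
      rintro s hs _ ⟨u, hu, rfl⟩
      refine ⟨s * u * s⁻¹, (mem_normalizer_iff.mp (hSV hs) u).mp hu, ?_⟩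
      calc s * (l * u * l⁻¹ * u⁻¹) * s⁻¹
          = (s * (l * u * l⁻¹) * s⁻¹) * (s * u * s⁻¹)⁻¹ := by group
        _ = _ := by rw [hls s hs u hu]
    intro s hs
    rw [mem_normalizer_iff]
    refine fun w => ⟨key s hs w, fun hw => ?_⟩
    have := key s⁻¹ (S.inv_mem hs) _ hw
    simpa [mul_assoc] using this
  have hP : IsPGroup 2 ↥(W ⊔ S) := hW2.to_sup_of_normal_left' hS hSW
  haveI : (W.subgroupOf (W ⊔ S)).Normal := by
    rw [normal_subgroupOf_iff_le_normalizer le_sup_left]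
    exact sup_le le_normalizer hSW
  have hne : W.subgroupOf (W ⊔ S) ≠ ⊥ := fun h =>
    hW (le_bot_iff.mp ((disjoint_iff.mp ((subgroupOf_eq_bot (H := W) (K := W ⊔ S)).mp h)) ▸
      le_inf le_rfl le_sup_left))
  have h1 := Cfsg.Agent.PGroup.inf_center_ne_bot hP hne
  obtain ⟨⟨⟨w, hw'⟩, hwW, hwC⟩, hw1⟩ := ne_bot_iff_exists_ne_one.mp h1
  have hwW' : w ∈ W := hwW
  have hwS : w ∈ centralizer (S : Set X) := mem_centralizer_iff.mpr fun s hs =>
    congrArg Subtype.val (mem_center_iff.mp hwC ⟨s, mem_sup_right hs⟩)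
  have hlw : Commute l w := hfix w (hWV hwW') hwS
  obtain ⟨u, hu, hwu⟩ := id hwW'
  have hpow : ∀ n : ℕ, l ^ n * u * (l ^ n)⁻¹ = w ^ n * u := by
    intro n
    induction n with
    | zero => simp
    | succ n ih =>
      calc l ^ (n + 1) * u * (l ^ (n + 1))⁻¹ = l * (l ^ n * u * (l ^ n)⁻¹) * l⁻¹ := by
            rw [pow_succ']; group
        _ = l * (w ^ n * u) * l⁻¹ := by rw [ih]
        _ = (l * w ^ n) * u * l⁻¹ := by group
        _ = (w ^ n * l) * u * l⁻¹ := by rw [(hlw.pow_right n).eq]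
        _ = w ^ n * (l * u * l⁻¹ * u⁻¹) * u := by group
        _ = w ^ n * w * u := by rw [← hwu]
        _ = _ := by rw [← pow_succ]
  have h := hpow (orderOf l)
  rw [pow_orderOf_eq_one, one_mul, inv_one, mul_one, eq_comm, mul_eq_right] at h
  obtain ⟨k, hk⟩ := hl
  rw [hk, pow_add, pow_mul, h2 w (hWV hwW'), one_pow, one_mul, pow_one] at h
  exact hw1 (Subtype.ext (Subtype.ext h))

theorem oddGenerated_of_perfect {K : Subgroup X} (hK : ⁅K, K⁆ = K) : Cfsg.oddGenerated K = K := by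
  refine le_antisymm ((closure_le _).mpr fun x hx => hx.1) ?_
  set O := Cfsg.oddGenerated K with hO
  have hOK : O ≤ K := (closure_le _).mpr fun x hx => hx.1
  have hn : K ≤ normalizer (O : Set X) := by
    refine fun k hk => mem_normalizer_iff_map_conj_eq.mpr ?_
    rw [hO, Cfsg.oddGenerated, MonoidHom.map_closure]
    congr 1
    ext x
    constructor
    · rintro ⟨y, ⟨hy, hyo⟩, rfl⟩
      exact ⟨K.mul_mem (K.mul_mem hk hy) (K.inv_mem hk), ((MulAut.conj k).orderOf_eq y).symm ▸ hyo⟩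
    · rintro ⟨hx, hxo⟩
      refine ⟨(MulAut.conj k).symm x, ⟨?_, by rwa [MulEquiv.orderOf_eq]⟩, by simp [mul_assoc]⟩
      simpa using K.mul_mem (K.mul_mem (K.inv_mem hk) hx) hk
  haveI : (O.subgroupOf K).Normal := (normal_subgroupOf_iff_le_normalizer hOK).mpr hn
  have hp : IsPGroup 2 (↥K ⧸ O.subgroupOf K) := by
    intro q
    obtain ⟨g, rfl⟩ := QuotientGroup.mk'_surjective (O.subgroupOf K) q
    obtain ⟨k, m, hm, hkm⟩ :=
      Nat.exists_eq_pow_mul_and_not_dvd (orderOf_pos (g : X)).ne' 2 (by norm_num)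
    refine ⟨k, ?_⟩
    rw [← map_pow, ← MonoidHom.mem_ker, QuotientGroup.ker_mk', mem_subgroupOf]
    refine subset_closure ⟨(g ^ 2 ^ k).2, ?_⟩
    rw [SubmonoidClass.coe_pow, orderOf_pow' _ (pow_pos two_pos k).ne', hkm,
      Nat.gcd_eq_right (dvd_mul_right _ _), Nat.mul_div_cancel_left _ (pow_pos two_pos k)]
    exact Nat.not_even_iff_odd.mp fun he => hm (even_iff_two_dvd.mp he)
  haveI := hp.isNilpotent
  haveI : Group.IsPerfect ↥K := Subgroup.isPerfect_iff.mpr hK
  by_contra hne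
  haveI : Nontrivial (↥K ⧸ O.subgroupOf K) := by
    rw [← not_subsingleton_iff_nontrivial, QuotientGroup.subsingleton_iff, subgroupOf_eq_top]
    exact hne
  exact Group.IsPerfect.not_isNilpotent (↥K ⧸ O.subgroupOf K) inferInstance

/-- A subnormal subgroup of a group with `F* = O_p` again has `F* = O_p`. -/
theorem fStar_subnormal {p : ℕ} [Fact p.Prime] {K H : Subgroup X} (hKH : K ≤ H)
    (hsn : (K.subgroupOf H).IsSubnormal)
    (hH : generalizedFittingSubgroup ↥H = pCore p ↥H) :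
    generalizedFittingSubgroup ↥K = pCore p ↥K := by
  have h1 : IsPGroup p ↥(generalizedFittingSubgroup ↥(K.subgroupOf H)) := by
    have hle : generalizedFittingSubgroup ↥(K.subgroupOf H) ≤
        (pCore p ↥H).comap (K.subgroupOf H).subtype := by
      rw [← map_le_iff_le_comap, ← hH]
      exact Components.map_generalizedFitting_isSubnormal_le hsn
    exact ((Thompson.isPGroup_pCore (p := p)).comap_of_injective _
      (K.subgroupOf H).subtype_injective).to_le hle
  have h2 : generalizedFittingSubgroup ↥(K.subgroupOf H) = pCore p ↥(K.subgroupOf H) :=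
    le_antisymm (Thompson.le_pCore inferInstance h1)
      ((Fitting.pCore_le_fitting p).trans Components.fitting_le_generalizedFitting)
  rw [← Components.map_generalizedFitting_equiv (subgroupOfEquivOfLe hKH), h2,
    Thompson.map_pCore_equiv]

theorem pCoreOf_le_of_subnormal {p : ℕ} {K H : Subgroup X} (hKH : K ≤ H)
    (hsn : (K.subgroupOf H).IsSubnormal) : Cfsg.pCoreOf p K ≤ Cfsg.pCoreOf p H := by
  rintro _ ⟨y, hy, rfl⟩
  rw [← Thompson.map_pCore_equiv (p := p) (subgroupOfEquivOfLe hKH)] at hy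
  obtain ⟨y', hy', rfl⟩ := hy
  exact ⟨y'.1, Thompson.map_pCore_isSubnormal_le hsn ⟨y', hy', rfl⟩, rfl⟩

theorem le_sylow {p : ℕ} [Fact p.Prime] (T : Sylow p X) {R : Subgroup X} (hR : IsPGroup p R)
    (hT : (T : Subgroup X) ≤ normalizer (R : Set X)) : R ≤ (T : Subgroup X) := by
  rw [← T.is_maximal' (hR.to_sup_of_normal_left' T.isPGroup' hT) le_sup_right]
  exact le_sup_left

theorem omegaOne_facts {P : Subgroup X} (hc : ∀ a ∈ P, ∀ b ∈ P, Commute a b) :
    Cfsg.omegaOne 2 P ≤ P ∧ (∀ a ∈ Cfsg.omegaOne 2 P, a ^ 2 = 1) ∧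
      normalizer (P : Set X) ≤ normalizer ((Cfsg.omegaOne 2 P : Subgroup X) : Set X) := by
  have hle : Cfsg.omegaOne 2 P ≤ P := (closure_le _).mpr fun x hx => hx.1
  refine ⟨hle, fun a ha => ?_, fun g hg => mem_normalizer_iff_map_conj_eq.mpr ?_⟩
  · induction ha using closure_induction with
    | mem x hx => exact hx.2
    | one => simp
    | mul x y hx hy ihx ihy => rw [(hc x (hle hx) y (hle hy)).mul_pow, ihx, ihy, one_mul]
    | inv x _ ih => rw [inv_pow, ih, inv_one]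
  · rw [Cfsg.omegaOne, MonoidHom.map_closure]
    congr 1
    ext x
    constructor
    · rintro ⟨y, ⟨hy, hy2⟩, rfl⟩
      refine ⟨(mem_normalizer_iff.mp hg y).mp hy, ?_⟩
      rw [← map_pow, hy2, map_one]
    · rintro ⟨hx, hx2⟩
      refine ⟨(MulAut.conj g).symm x, ⟨?_, by rw [← map_pow, hx2, map_one]⟩, by simp [mul_assoc]⟩
      simpa [mul_assoc] using (mem_normalizer_iff.mp (inv_mem hg) x).mp hx

end lemmas


/-- Let G be a non-abelian finite simple QTKE-group and T a Sylow 2-subgroup of G, and let L be a member of ℒ_f(G, T) (a member of ℒ(G, T) that lies in 𝒳 — L ≠ 1, L = O²(L), F*(L) = O₂(L) — and acts nontrivially on Ω₁(Z(O₂(L)))). Then (1) every member K of ℒ(G, T) containing L is again in ℒ_f(G, T) (a sharper form of (1) also compares the modules [Ω₁(Z(R)), L] and [Ω₁(Z(R')), K] for suitable 2-subgroups R, R'; that comparison is not included); and (2) if L is maximal under inclusion among the members of ℒ_f(G, T), then L is a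 maximal member of ℒ(G, T), hence a member of ℒ_f*(G, T). -/
theorem result {G : Type*} [Group G] [Finite G] [IsSimpleGroup G]
    (hG : ¬ IsMulCommutative G) (hQ : Cfsg.IsQTKE G) (T : Sylow 2 G) (L : Subgroup G)
    (hL : L ∈ Cfsg.calLf (T : Subgroup G)) :
    (∀ K ∈ Cfsg.calL (T : Subgroup G), L ≤ K → K ∈ Cfsg.calLf (T : Subgroup G)) ∧
    ((∀ K ∈ Cfsg.calLf (T : Subgroup G), L ≤ K → K = L) → L ∈ Cfsg.calLfMax (T : Subgroup G)) := by
  obtain ⟨hLl, ⟨hLne, hLodd, -⟩, hLV⟩ := id hL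
  obtain ⟨⟨-, -, hLsn, -⟩, -, -⟩ := id hLl
  suffices part1 : ∀ K ∈ Cfsg.calL (T : Subgroup G), L ≤ K → K ∈ Cfsg.calLf (T : Subgroup G) from
    ⟨part1, fun hmax => ⟨⟨hLl, fun K hK hLK => hmax K (part1 K hK hLK) hLK⟩, hL.2⟩⟩
  intro K hKl hLK
  obtain ⟨⟨-, hKperf', hKsn, -⟩, -, hKO⟩ := id hKl
  set H := K ⊔ (T : Subgroup G) with hH
  set HL := L ⊔ (T : Subgroup G) with hHL
  have hKH : K ≤ H := le_sup_left
  have hKperf : ⁅K, K⁆ = K := by
    have h := congrArg (Subgroup.map H.subtype) hKperf'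
    rwa [map_commutator, map_subgroupOf_eq_of_le hKH] at h
  set S := Cfsg.pCoreOf 2 H with hS
  have hSp : IsPGroup 2 S := LocalEven64.isPGroup_pCoreOf H
  have hSne : S ≠ ⊥ := fun h => hKO ((map_eq_bot_iff_of_injective _ H.subtype_injective).mp h)
  have hHN : H ≤ normalizer (S : Set G) := LocalEven64.le_normalizer_pCoreOf H
  have hN : CharPOf 2 (normalizer (S : Set G)) :=
    hQ.2.2 _ ⟨S, hSp, hSne, rfl⟩ ⟨T, le_sup_right.trans hHN⟩
  have hN2 : Cfsg.pCoreOf 2 (normalizer (S : Set G)) ≤ (T : Subgroup G) :=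
    le_sylow T (LocalEven64.isPGroup_pCoreOf _)
      ((le_sup_right.trans hHN).trans (LocalEven64.le_normalizer_pCoreOf _))
  have hHc : CharPOf 2 H :=
    hN.of_pCoreOf_le_normalizer hHN ((hN2.trans le_sup_right).trans le_normalizer)
  have hFK : generalizedFittingSubgroup ↥K = pCore 2 ↥K :=
    fStar_subnormal hKH hKsn (Class49.fStar_eq_of_centralizer_pCore_le hHc)
  refine ⟨hKl, ⟨fun h => hLne (le_bot_iff.mp (h ▸ hLK)), oddGenerated_of_perfect hKperf, hFK⟩, ?_⟩
  -- `S` normalizes `L`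
  have hST : S ≤ (T : Subgroup G) := le_sylow T hSp (le_sup_right.trans hHN)
  have hHLH : HL ≤ H := sup_le (hLK.trans hKH) le_sup_right
  have hSL : S ≤ normalizer (L : Set G) := by
    set M := L ⊔ S with hM
    have hMHL : M ≤ HL := sup_le le_sup_left (hST.trans le_sup_right)
    have hLM : (L.subgroupOf M).IsSubnormal := by
      have h := hLsn.comap (Subgroup.inclusion hMHL)
      exact h
    haveI : (S.subgroupOf M).Normal := by
      rw [normal_subgroupOf_iff_le_normalizer le_sup_right]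
      exact (hMHL.trans hHLH).trans hHN
    have htop : L.subgroupOf M ⊔ S.subgroupOf M = ⊤ := by
      rw [← subgroupOf_sup le_sup_left le_sup_right, subgroupOf_self]
    have key : ∀ g ∈ M, Odd (orderOf g) → g ∈ L := fun g hg ho =>
      mem_of_sup_eq_top hLM (hSp.of_equiv (subgroupOfEquivOfLe le_sup_right).symm) htop
        (g := ⟨g, hg⟩) (by rw [Subgroup.orderOf_mk]; exact Nat.coprime_two_right.mpr ho)
    have hconj : ∀ s ∈ S, ∀ l ∈ L, s * l * s⁻¹ ∈ L := by
      intro s hs l hl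
      rw [← hLodd] at hl
      have hle : L.map (MulAut.conj s).toMonoidHom ≤ L := by
        conv_lhs => rw [← hLodd]
        rw [Cfsg.oddGenerated, MonoidHom.map_closure, closure_le]
        rintro _ ⟨y, ⟨hy, hyo⟩, rfl⟩
        exact key _ (mul_mem (mul_mem (mem_sup_right hs) (mem_sup_left hy))
          (inv_mem (mem_sup_right hs))) (((MulAut.conj s).orderOf_eq y).symm ▸ hyo)
      exact hle ⟨l, hLodd ▸ hl, rfl⟩
    intro s hs
    rw [mem_normalizer_iff]
    refine fun x => ⟨hconj s hs x, fun hx => ?_⟩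
    simpa [mul_assoc] using hconj s⁻¹ (S.inv_mem hs) _ hx
  set OL := Cfsg.pCoreOf 2 L with hOL
  set P := OL ⊓ centralizer (OL : Set G) with hPdef
  set V := Cfsg.omegaOne 2 P with hVdef
  have hPc : ∀ a ∈ P, ∀ b ∈ P, Commute a b := fun a ha b hb =>
    (mem_centralizer_iff.mp hb.2 a ha.1)
  obtain ⟨hVP, hV2, hVn⟩ := omegaOne_facts hPc
  have hNV : normalizer (L : Set G) ≤ normalizer (V : Set G) :=
    ((LocalEven62.normalizer_le_normalizer_pCoreOf L).trans
      (LocalEven64.le_normalizer_inf le_rfl (LocalEven64.le_normalizer_centralizer le_rfl))).trans hVn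
  obtain ⟨l, hl, hlo, hlV⟩ : ∃ l ∈ L, Odd (orderOf l) ∧ ¬ ∀ v ∈ V, Commute l v := by
    by_contra hcon
    push Not at hcon
    apply hLV
    change ⁅V, L⁆ = ⊥
    rw [commutator_comm, commutator_eq_bot_iff_le_centralizer, ← hLodd, Cfsg.oddGenerated, closure_le]
    exact fun x hx => mem_centralizer_iff.mpr fun v hv => (hcon x hx.1 hx.2 v hv).eq.symm
  obtain ⟨v, hvV, hvS, hlv⟩ : ∃ v ∈ V, v ∈ centralizer (S : Set G) ∧ ¬ Commute l v := by
    by_contra hcon
    push Not at hcon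
    refine hlV (commute_of_fixed hlo hSp (fun a ha b hb => hPc a (hVP ha) b (hVP hb)) hV2
      (hNV (le_normalizer hl)) (hSL.trans hNV) ?_ hcon)
    intro s hs v hv
    set c := s⁻¹ * l * s * l⁻¹ with hc
    have hcS : c ∈ S := by
      have h := (mem_normalizer_iff.mp (hHN (hKH (hLK hl))) s).mp hs
      have := S.mul_mem (S.inv_mem hs) h
      simpa [hc, mul_assoc] using this
    have hcL : c ∈ L := by
      have h := (mem_normalizer_iff.mp (hSL (S.inv_mem hs)) l).mp hl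
      have := L.mul_mem h (L.inv_mem hl)
      simpa [hc, mul_assoc] using this
    have hcOL : c ∈ OL :=
      LocalEven64.le_pCoreOf inf_le_right
        (LocalEven64.le_normalizer_inf (((hLK.trans hKH)).trans hHN) le_normalizer)
        (hSp.to_le inf_le_left) (mem_inf.mpr ⟨hcS, hcL⟩)
    have hw : l * v * l⁻¹ ∈ V := (mem_normalizer_iff.mp (hNV (le_normalizer hl)) v).mp hv
    have e : c * (l * v * l⁻¹) = (l * v * l⁻¹) * c := mem_centralizer_iff.mp (hVP hw).2 c hcOL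
    calc l * (s * v * s⁻¹) * l⁻¹ = s * (c * (l * v * l⁻¹) * c⁻¹) * s⁻¹ := by rw [hc]; group
      _ = _ := by rw [e, mul_inv_cancel_right]
  have hvL : v ∈ L := LocalEven64.pCoreOf_le L (hVP hvV).1
  have hvSmem : v ∈ S := by
    refine ⟨⟨v, hKH (hLK hvL)⟩, hHc ?_, rfl⟩
    rw [mem_centralizer_iff]
    exact fun y hy => Subtype.ext (mem_centralizer_iff.mp hvS _ ⟨y, hy, rfl⟩)
  have hvK : v ∈ Cfsg.pCoreOf 2 K :=
    LocalEven64.le_pCoreOf inf_le_right
      (LocalEven64.le_normalizer_inf (hKH.trans hHN) le_normalizer) (hSp.to_le inf_le_left)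
      (mem_inf.mpr ⟨hvSmem, hLK hvL⟩)
  have hvKc : v ∈ centralizer (Cfsg.pCoreOf 2 K : Set G) :=
    centralizer_le (pCoreOf_le_of_subnormal hKH hKsn) hvS
  intro hbot
  have hvl : ⁅v, l⁆ ∈ Cfsg.moduleV K :=
    commutator_mem_commutator (subset_closure ⟨⟨hvK, hvKc⟩, hV2 v hvV⟩) (hLK hl)
  rw [hbot, mem_bot, commutatorElement_eq_one_iff_mul_comm] at hvl
  exact hlv hvl.symm

end Cfsg.Agent.S1851
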