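import Cfsg.Statements.S1892
import Cfsg.Agent.Lib.Thompson.PSolvable
import Cfsg.Agent.Lib.Coprime.Action

set_option autoImplicit false
open Cfsg

namespace Cfsg.Agent.S1892

/-- Let S be a finite p-solvable group with no nontrivial normal subgroup of order prime to p, A a p-subgroup of S, and Q a nontrivial A-invariant subgroup of order prime to p with [A, Q] = Q. Then the commutator [O_p(S), A, Q] is nontrivial. -/
theorem result {S : Type*} [Group S] [Finite S] {p : ℕ} [Fact p.Prime]
    (hS : Cfsg.IsPSolvable p S) (hred : Cfsg.pPrimeCore p S = ⊥)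
    (A Q : Subgroup S) (hA : IsPGroup p A) (hQ : ¬ p ∣ Nat.card Q) (hQ1 : Q ≠ ⊥)
    (hinv : ∀ a ∈ A, ∀ x ∈ Q, a * x * a⁻¹ ∈ Q) (hAQ : ⁅A, Q⁆ = Q) :
    ⁅⁅Cfsg.pCore p S, A⁆, Q⁆ ≠ ⊥ := by
  intro hbot
  apply hQ1
  set P := Cfsg.pCore p S with hP
  set W := ⁅P, A⁆ with hW
  set N := Subgroup.normalizer (W : Set S) with hN
  have hPn : P.Normal := inferInstance
  have hWP : W ≤ P := Subgroup.commutator_le_left _ _
  have hPN : P ≤ N := Coprime.le_normalizer_commutator_left A P
  have hAN : A ≤ N := Coprime.le_normalizer_commutator_right A P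
  have hQW : Q ≤ Subgroup.centralizer (W : Set S) :=
    Subgroup.le_centralizer_iff.mp ((Subgroup.commutator_eq_bot_iff_le_centralizer).mp hbot)
  have hQN : Q ≤ N := hQW.trans (Subgroup.centralizer_le_normalizer _)
  have hWN : W ≤ N := hWP.trans hPN
  set W' := W.subgroupOf N with hW'
  haveI : W'.Normal := Subgroup.normal_in_normalizer
  set f := QuotientGroup.mk' W' with hf
  have hmap : ∀ (H K : Subgroup S), H ≤ N → K ≤ N → ⁅H, K⁆ ≤ W →
      ⁅(H.subgroupOf N).map f, (K.subgroupOf N).map f⁆ = ⊥ := by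
    intro H K hH hK h
    rw [← Subgroup.map_commutator, Subgroup.map_eq_bot_iff, hf, QuotientGroup.ker_mk', hW',
      ← Subgroup.map_subtype_le_map_subtype, Subgroup.map_commutator,
      Subgroup.map_subgroupOf_eq_of_le hH, Subgroup.map_subgroupOf_eq_of_le hK,
      Subgroup.map_subgroupOf_eq_of_le hWN]
    exact h
  have hA' := hmap P A hPN hAN le_rfl
  have h2 : ⁅⁅(P.subgroupOf N).map f, (A.subgroupOf N).map f⁆, (Q.subgroupOf N).map f⁆ = ⊥ := by
    rw [hA', Subgroup.commutator_bot_left]
  have h1 : ⁅⁅(Q.subgroupOf N).map f, (P.subgroupOf N).map f⁆, (A.subgroupOf N).map f⁆ = ⊥ := by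
    rw [← le_bot_iff, ← hA']
    apply Subgroup.commutator_mono _ le_rfl
    rw [← Subgroup.map_commutator]
    apply Subgroup.map_mono
    have hPn' : (P.subgroupOf N).Normal := inferInstance
    exact Subgroup.commutator_le_right _ _
  have h3 := Subgroup.commutator_commutator_eq_bot_of_rotate h1 h2
  rw [← Subgroup.map_commutator, ← Subgroup.map_commutator, Subgroup.map_eq_bot_iff, hf,
    QuotientGroup.ker_mk', hW', ← Subgroup.map_subtype_le_map_subtype, Subgroup.map_commutator,
    Subgroup.map_commutator, Subgroup.map_subgroupOf_eq_of_le hAN,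
    Subgroup.map_subgroupOf_eq_of_le hPN, Subgroup.map_subgroupOf_eq_of_le hQN,
    Subgroup.map_subgroupOf_eq_of_le hWN, hAQ, Subgroup.commutator_comm] at h3
  have hcop : (Nat.card Q).Coprime (Nat.card P) := by
    obtain ⟨k, hk⟩ := IsPGroup.iff_card.mp (Thompson.isPGroup_pCore (p := p) (G := S))
    rw [hk]
    exact Nat.Coprime.pow_right k ((Fact.out : p.Prime).coprime_iff_not_dvd.mpr hQ).symm
  have hsol : Group.IsSolvable Q ∨ Group.IsSolvable P := by
    right
    haveI := (Thompson.isPGroup_pCore (p := p) (G := S)).isNilpotent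
    exact Coprime.isSolvable_of_isNilpotent' inferInstance
  have hQP : Q ≤ Subgroup.normalizer (P : Set S) := by
    rw [Subgroup.normalizer_eq_top]; exact le_top
  have h4 : ⁅P, Q⁆ = ⊥ := by
    rw [← Coprime.commutator_commutator_eq Q P hQP hcop hsol, ← le_bot_iff]
    refine (Subgroup.commutator_mono h3 le_rfl).trans ?_
    rw [hbot]
  have h5 : Q ≤ P := (Subgroup.le_centralizer_iff.mp
    ((Subgroup.commutator_eq_bot_iff_le_centralizer).mp h4)).trans (Thompson.centralizer_pCore_le hS hred)
  rw [← inf_eq_right.mpr h5]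
  exact Thompson.inf_eq_bot_of_isPGroup_of_coprime (Thompson.isPGroup_pCore (p := p) (G := S))
    ((Fact.out : p.Prime).coprime_iff_not_dvd.mpr hQ).symm

end Cfsg.Agent.S1892
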