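import Cfsg.Statements.S1894
import Cfsg.Agent.Lib.PGroup.Basic

set_option autoImplicit false
open Cfsg

namespace Cfsg.Agent.S1894

/-- Let P be a finite p-group, A a normal subgroup of P and B an abelian subgroup of A that is normal in P. Then some subgroup C of A containing B is normal in P and is self-centralizing and normal in A (C ∈ SCN(A)). -/
theorem result {P : Type*} [Group P] [Finite P] {p : ℕ} [Fact p.Prime] (hP : IsPGroup p P)
    (A : Subgroup P) [A.Normal] (B : Subgroup P) [B.Normal] (hBA : B ≤ A) (hB : IsMulCommutative B) :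
    ∃ C : Subgroup P, C.Normal ∧ B ≤ C ∧ Cfsg.IsSCN A C := by
  classical
  let ok : Subgroup P → Prop := fun C => C.Normal ∧ IsMulCommutative C ∧ B ≤ C ∧ C ≤ A
  let _ := Fintype.ofFinite (Subgroup P)
  obtain ⟨C, hC, hmax⟩ := Finset.exists_max_image (Finset.univ.filter ok) (fun C => Nat.card C)
    ⟨B, by simp only [Finset.mem_filter, Finset.mem_univ, true_and]; exact ⟨inferInstance, hB, le_rfl, hBA⟩⟩
  simp only [Finset.mem_filter, Finset.mem_univ, true_and] at hC hmax
  obtain ⟨hn, hab, hBC, hCA⟩ := hC
  have := hn; have := hab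
  refine ⟨C, hn, hBC, hCA, fun a _ => by rw [Subgroup.normalizer_eq_top]; trivial, ?_⟩
  set W := A ⊓ Subgroup.centralizer (C : Set P) with hW
  have hCW : C ≤ W := le_inf hCA (fun c hc => Subgroup.mem_centralizer_iff.mpr (fun d hd =>
    congrArg Subtype.val (mul_comm' (⟨d, hd⟩ : C) ⟨c, hc⟩)))
  refine le_antisymm ?_ hCW
  by_contra hlt
  have hne : W.map (QuotientGroup.mk' C) ≠ ⊥ := by
    rw [ne_eq, Subgroup.map_eq_bot_iff, QuotientGroup.ker_mk']
    exact hlt
  have hWn : W.Normal := by
    have : (Subgroup.centralizer (C : Set P)).Normal := inferInstance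
    exact inferInstance
  have : (W.map (QuotientGroup.mk' C)).Normal := hWn.map _ (QuotientGroup.mk'_surjective C)
  have hQ : IsPGroup p (P ⧸ C) := hP.to_quotient C
  obtain ⟨z', hz'⟩ := Subgroup.ne_bot_iff_exists_ne_one.mp (PGroup.inf_center_ne_bot hQ hne)
  obtain ⟨z, hz, hzc⟩ := z'
  have hz1 : z ≠ 1 := fun e => hz' (Subtype.ext e)
  have hzW := hz
  obtain ⟨x, hx, rfl⟩ := hzW
  let C' := C ⊔ Subgroup.zpowers x
  have hC'le : C' ≤ W := sup_le hCW (Subgroup.zpowers_le.mpr hx)
  have hok : ok C' := by
    refine ⟨⟨?_⟩, ?_, hBC.trans le_sup_left, hC'le.trans inf_le_left⟩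
    · intro c hc g
      have h1 : C' = (Subgroup.zpowers (QuotientGroup.mk' C x)).comap (QuotientGroup.mk' C) := by
        rw [← MonoidHom.map_zpowers, Subgroup.comap_map_eq, QuotientGroup.ker_mk', sup_comm]
      rw [h1] at hc ⊢
      rw [Subgroup.mem_comap] at hc ⊢
      obtain ⟨k, hk⟩ := hc
      refine ⟨k, ?_⟩
      simp only [map_mul, map_inv] at hk ⊢
      rw [← hk]
      have := (Subgroup.mem_center_iff.mp (Subgroup.zpow_mem _ hzc k)) (QuotientGroup.mk' C g)
      rw [this, mul_inv_cancel_right]
    · have hcomm : ∀ a ∈ C', ∀ b ∈ C', a * b = b * a := by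
        intro a ha b hb
        have h1 : C' ≤ Subgroup.centralizer (C' : Set P) := by
          apply sup_le
          · intro c hc
            rw [Subgroup.mem_centralizer_iff]
            intro d hd
            exact (Subgroup.mem_centralizer_iff.mp (Subgroup.mem_inf.mp (hC'le hd)).2 c hc).symm
          · rw [Subgroup.zpowers_le, ← Subgroup.centralizer_closure]
            rw [Subgroup.mem_centralizer_iff]
            intro d hd
            rw [Subgroup.closure_eq] at hd
            have h2 : C' ≤ Subgroup.centralizer {x} := by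
              refine sup_le (fun c hc => ?_) (Subgroup.zpowers_le.mpr (Subgroup.mem_centralizer_singleton_iff.mpr rfl))
              exact Subgroup.mem_centralizer_singleton_iff.mpr
                (Subgroup.mem_centralizer_iff.mp (Subgroup.mem_inf.mp hx).2 c hc)
            exact Subgroup.mem_centralizer_singleton_iff.mp (h2 hd)
        exact (Subgroup.mem_centralizer_iff.mp (h1 hb)) a ha
      exact ⟨⟨fun a b => Subtype.ext (hcomm a a.2 b b.2)⟩⟩
  have hle := hmax C' hok
  have heq : C = C' := Subgroup.eq_of_le_of_card_ge le_sup_left hle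
  apply hz1
  rw [QuotientGroup.mk'_apply, QuotientGroup.eq_one_iff, heq]
  exact Subgroup.mem_sup_right (Subgroup.mem_zpowers x)

end Cfsg.Agent.S1894
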