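import Cfsg.Statements.S1895
import Cfsg.Agent.ClassTech.RankTwoChief.Main
-- import your own Cfsg.Agent.* helpers here

set_option autoImplicit false
open Cfsg

namespace Cfsg.Agent.S1895

/-- Let p be an odd prime and G a finite p-solvable group with no elementary abelian subgroup of order p³. Then every chief factor H/K of G (H, K normal in G with no normal subgroup of G strictly between them) whose order is a power of p has order p or p². -/
theorem result {G : Type*} [Group G] [Finite G] {p : ℕ} [Fact p.Prime] (hp : p ≠ 2)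
    (hG : Cfsg.IsPSolvable p G) (hr : Cfsg.PRankLE p 2 G)
    (H K : Subgroup G) [H.Normal] [K.Normal] (hKH : K < H) (hpow : ∃ n : ℕ, K.relIndex H = p ^ n)
    (hchief : ∀ L : Subgroup G, L.Normal → K ≤ L → L ≤ H → L = K ∨ L = H) :
    K.relIndex H = p ∨ K.relIndex H = p ^ 2 := by
  classical
  have hpp : p.Prime := Fact.out
  obtain ⟨n, hn⟩ := hpow
  -- a Sylow subgroup of `H` covers the section
  obtain ⟨P⟩ := (inferInstance : Nonempty (Sylow p H))
  set R := (P : Subgroup H).map H.subtype with hRdef
  have hRH : R ≤ H := Subgroup.map_subtype_le _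
  have hHR : H = K ⊔ R := by
    refine le_antisymm ?_ (sup_le hKH.le hRH)
    rw [← Subgroup.relIndex_eq_one]
    refine Nat.eq_one_of_dvd_coprimes (a := p ^ n) (b := R.relIndex H) ?_ ?_
      (Subgroup.relIndex_dvd_of_le_left H le_sup_right)
    · refine Nat.Coprime.pow_left n (hpp.coprime_iff_not_dvd.mpr ?_)
      have : R.subgroupOf H = (P : Subgroup H) := by
        rw [hRdef, Subgroup.subgroupOf, Subgroup.comap_map_eq_self_of_injective H.subtype_injective]
      rw [Subgroup.relIndex, this]
      exact P.not_dvd_index' Subgroup.index_ne_zero_of_finite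
    · exact hn ▸ Subgroup.relIndex_dvd_of_le_left H le_sup_left
  set L := Subgroup.normalizer (R : Set G) with hL
  have hRL : R ≤ L := Subgroup.le_normalizer
  have hfr : L ⊔ H = ⊤ := Sylow.normalizer_sup_eq_top P
  set R' := R.subgroupOf L with hR'
  haveI : R'.Normal := Subgroup.normal_in_normalizer
  have hR'p : IsPGroup p R' :=
    (P.isPGroup'.map H.subtype).of_equiv (Subgroup.subgroupOfEquivOfLe hRL).symm
  have hr' : Cfsg.PRankLE p 2 R' :=
    OddLocal43.prankLE_of_injective (L.subtype.comp R'.subtype)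
      (L.subtype_injective.comp R'.subtype_injective) hr
  set K' := (K.subgroupOf L).subgroupOf R' with hK'
  haveI : K'.Normal := inferInstance
  have hmem : ∀ x : R', x ∈ K' ↔ ((x : L) : G) ∈ K := fun x => Iff.rfl
  have hidx : K'.index = p ^ n := by
    have h1 : K'.index = K.relIndex R := by
      rw [hK', hR']
      show (K.subgroupOf L).relIndex (R.subgroupOf L) = _
      exact Subgroup.relIndex_subgroupOf hRL
    rw [h1, ← Subgroup.relIndex_sup_left (K := K) (H := R), ← hHR, hn]
  have hconj : ∀ (g : L) (x : R'),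
      (((MulAut.conjNormal g x : R') : L) : G) = g * ((x : L) : G) * (g : G)⁻¹ := fun g x => by
    rw [MulAut.conjNormal_apply]; rfl
  have hn0 : n ≠ 0 := by
    intro h0
    rw [h0, pow_zero, Subgroup.relIndex_eq_one] at hn
    exact lt_irrefl _ (lt_of_lt_of_le hKH hn)
  have hmain := ClassTech.RankTwoChief.card_section_le_sq hp
    (Thompson.isPSolvable_subgroup L hG) R' hR'p hr' K'
    (fun g x hx => by
      rw [hmem, hconj]
      exact (inferInstance : K.Normal).conj_mem _ hx _)
    (fun h => by
      rw [h, Subgroup.index_top] at hidx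
      exact hn0 ((Nat.pow_eq_one.mp hidx.symm).resolve_left hpp.one_lt.ne'))
    (fun N hNn hKN hNinv => by
      set Ng := N.map (L.subtype.comp R'.subtype) with hNg
      have hNR : Ng ≤ R := by rintro _ ⟨x, -, rfl⟩; exact x.2
      have hLN : ∀ g ∈ L, ∀ y ∈ Ng, g * y * g⁻¹ ∈ Ng := by
        rintro g hg _ ⟨x, hx, rfl⟩
        exact ⟨_, hNinv ⟨g, hg⟩ x hx, hconj ⟨g, hg⟩ x⟩
      have hnormal : (Ng ⊔ K).Normal := by
        rw [← Subgroup.normalizer_eq_top_iff, eq_top_iff, ← hfr]
        have hKle : K ≤ Subgroup.normalizer ((Ng ⊔ K : Subgroup G) : Set G) :=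
          le_sup_right.trans Subgroup.le_normalizer
        have hLle : L ≤ Subgroup.normalizer ((Ng ⊔ K : Subgroup G) : Set G) :=
          Coprime.le_normalizer_sup (Coprime.le_normalizer_of_conj_mem hLN)
            (by rw [Subgroup.normalizer_eq_top_iff.mpr (inferInstance : K.Normal)]; exact le_top)
        exact sup_le hLle (hHR.le.trans (sup_le hKle (hRL.trans hLle)))
      rcases hchief (Ng ⊔ K) hnormal le_sup_right (sup_le (hNR.trans hRH) hKH.le) with h | h
      · refine Or.inl (le_antisymm (fun x hx => ?_) hKN)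
        rw [hmem]
        exact h.le (Subgroup.mem_sup_left ⟨x, hx, rfl⟩)
      · refine Or.inr (eq_top_iff.mpr fun x _ => ?_)
        have hxm : ((x : L) : G) ∈ Ng ⊔ K := h.ge (hRH x.2)
        obtain ⟨a, ⟨y, hy, rfl⟩, k, hk, hak⟩ := Subgroup.mem_sup_of_normal_right.mp hxm
        have hk' : y⁻¹ * x ∈ K' := by
          rw [hmem]
          show ((y : L) : G)⁻¹ * ((x : L) : G) ∈ K
          rw [← hak]
          show ((y : L) : G)⁻¹ * (((y : L) : G) * k) ∈ K
          rwa [inv_mul_cancel_left]
        simpa using mul_mem hy (hKN hk'))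
  rw [hidx, Nat.pow_le_pow_iff_right hpp.one_lt] at hmain
  rcases (show n = 1 ∨ n = 2 by omega) with rfl | rfl
  · exact Or.inl (by rw [hn, pow_one])
  · exact Or.inr hn

end Cfsg.Agent.S1895
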