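import Cfsg.Statements.S1898


set_option autoImplicit false
open Cfsg
open scoped commutatorElement

namespace Cfsg.Agent.S1898

/-- Let X be a finite 2-group whose derived subgroup is elementary abelian and central. Then the subgroup generated by the elements of order dividing 4 has exponent dividing 4, and every automorphism of X fixing each element of order dividing 4 has 2-power order. -/
theorem result {X : Type*} [Group X] [Finite X] (hX : IsPGroup 2 X)
    (hel : Cfsg.IsElementaryAbelian 2 (commutator X)) (hcen : commutator X ≤ Subgroup.center X) :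
    (∀ x ∈ Subgroup.closure {g : X | g ^ 4 = 1}, x ^ 4 = 1) ∧
      ∀ φ : MulAut X, (∀ g : X, g ^ 4 = 1 → φ g = g) → ∃ k : ℕ, φ ^ (2 ^ k) = 1 := by
  have hc : ∀ a b : X, Commute ⁅a, b⁆ a ∧ Commute ⁅a, b⁆ b ∧ ⁅a, b⁆ ^ 2 = 1 := by
    intro a b
    have h : ⁅a, b⁆ ∈ commutator X := by
      rw [commutator_def]
      exact Subgroup.commutator_mem_commutator (Subgroup.mem_top _) (Subgroup.mem_top _)
    have hz := Subgroup.mem_center_iff.mp (hcen h)
    exact ⟨(hz a).symm, (hz b).symm, hel.2 _ h⟩
  have hsq : ∀ a b : X, (a * b) ^ 2 = ⁅b, a⁆ * (a ^ 2 * b ^ 2) := by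
    intro a b
    have h1 : b * a = ⁅b, a⁆ * (a * b) := by rw [commutatorElement_def]; group
    rw [pow_two, pow_two, pow_two]
    calc a * b * (a * b) = a * (b * a) * b := by group
      _ = a * (⁅b, a⁆ * (a * b)) * b := by rw [h1]
      _ = (a * ⁅b, a⁆) * a * (b * b) := by group
      _ = (⁅b, a⁆ * a) * a * (b * b) := by rw [(hc b a).2.1.eq]
      _ = _ := by group
  have h4 : ∀ a b : X, (a * b) ^ 4 = a ^ 4 * b ^ 4 := by
    intro a b
    have hz : ∀ u v : X, Commute ⁅u, v⁆ (a ^ 2 * b ^ 2) := by
      intro u v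
      have h : ⁅u, v⁆ ∈ commutator X := by
        rw [commutator_def]
        exact Subgroup.commutator_mem_commutator (Subgroup.mem_top _) (Subgroup.mem_top _)
      exact ((Subgroup.mem_center_iff.mp (hcen h)) _).symm
    rw [show (4 : ℕ) = 2 * 2 from rfl, pow_mul, pow_mul, pow_mul, hsq, (hz b a).mul_pow,
      (hc b a).2.2, one_mul, hsq]
    have hz2 : ⁅b ^ 2, a ^ 2⁆ = 1 := by
      have hb : b ^ 2 ∈ Subgroup.center X := by
        rw [Subgroup.mem_center_iff]
        intro g
        have h1 : g * b = ⁅g, b⁆ * (b * g) := by rw [commutatorElement_def]; group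
        calc g * b ^ 2 = g * b * b := by rw [pow_two, mul_assoc]
          _ = ⁅g, b⁆ * b * (g * b) := by rw [h1]; group
          _ = ⁅g, b⁆ * b * (⁅g, b⁆ * (b * g)) := by rw [← h1]
          _ = ⁅g, b⁆ * ⁅g, b⁆ * (b * b * g) := by
            rw [mul_assoc ⁅g, b⁆ b, ← mul_assoc b ⁅g, b⁆, (hc g b).2.1.symm.eq]; group
          _ = b ^ 2 * g := by rw [← pow_two, (hc g b).2.2, one_mul, pow_two]
      rw [commutatorElement_eq_one_iff_commute]
      exact (Subgroup.mem_center_iff.mp hb _).symm
    rw [hz2, one_mul]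
  refine ⟨fun x hx => ?_, fun φ hφ => ?_⟩
  · induction hx using Subgroup.closure_induction with
    | mem x hx => exact hx
    | one => exact one_pow _
    | mul a b _ _ ha hb => rw [h4, ha, hb, one_mul]
    | inv a _ ha => rw [inv_pow, ha, inv_one]
  · have hstep : ∀ (ψ : MulAut X) (j : ℕ), (∀ g : X, g ^ 4 = 1 → ψ g = g) →
        (∀ g : X, g ^ (2 ^ j) = 1 → ψ g = g) → ∀ g : X, g ^ (2 ^ (j + 1)) = 1 → (ψ ^ 4) g = g := by
      intro ψ j hψ hj g hg
      have hsqfix : ψ (g ^ 2) = g ^ 2 := by
        apply hj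
        rw [← pow_mul]
        rw [pow_succ'] at hg
        exact hg
      set c := g⁻¹ * ψ g with hc'
      have hψg : ψ g = g * c := by rw [hc']; group
      have h1 : (g * c) ^ 2 = g ^ 2 := by rw [← hψg, ← map_pow, hsqfix]
      have hc4 : c ^ 4 = 1 := by
        have h3 := h4 g c
        have h5 : (g * c) ^ 4 = g ^ 4 := by
          rw [show (4 : ℕ) = 2 * 2 from rfl, pow_mul, pow_mul, h1]
        rw [h5] at h3
        exact mul_eq_left.mp h3.symm
      have hψc := hψ c hc4
      have hm : ∀ m : ℕ, (ψ ^ m) g = g * c ^ m := by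
        intro m
        induction m with
        | zero => simp
        | succ m ih =>
          rw [pow_succ' ψ m, MulAut.mul_apply, ih, map_mul, map_pow, hψc, hψg, pow_succ' c m, mul_assoc]
      rw [hm, hc4, mul_one]
    have hall : ∀ j : ℕ, ∀ g : X, g ^ (2 ^ j) = 1 → (φ ^ (4 ^ j)) g = g := by
      intro j
      induction j with
      | zero => intro g hg; simp at hg; simp [hg]
      | succ j ih =>
        intro g hg
        have h4fix : ∀ (m : ℕ) (x : X), x ^ 4 = 1 → (φ ^ m) x = x := by
          intro m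
          induction m with
          | zero => intro x _; simp
          | succ m ihm => intro x hx; rw [pow_succ, MulAut.mul_apply, hφ x hx, ihm x hx]
        have := hstep (φ ^ (4 ^ j)) j (h4fix _) ih g hg
        rw [← pow_mul, ← pow_succ] at this
        exact this
    obtain ⟨K, hK⟩ := (IsPGroup.iff_card.mp hX)
    refine ⟨2 * K, ?_⟩
    apply DFunLike.ext
    intro g
    rw [MulAut.one_apply, pow_mul, show (2 : ℕ) ^ 2 = 4 from rfl]
    apply hall
    rw [← hK, pow_card_eq_one']

end Cfsg.Agent.S1898
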