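import Cfsg.Statements.S1899


set_option autoImplicit false
open Cfsg

namespace Cfsg.Agent.S1899

/-- Let a dihedral group of order 2n, n odd and n > 1, act on a finite abelian 2-group A through automorphisms d and t with d^n = 1, t² = 1 and t d t⁻¹ = d⁻¹, and suppose that d fixes only the identity. Then A is the internal direct product of C_A(t) and its image under d. -/
theorem result {A : Type*} [CommGroup A] [Finite A] (hA : IsPGroup 2 A)
    {n : ℕ} (hn : Odd n) (hn1 : 1 < n) (d t : MulAut A) (hd : d ^ n = 1) (ht : t ^ 2 = 1) (hdt : t * d * t⁻¹ = d⁻¹)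
    (hfix : ∀ a : A, d a = a → a = 1) :
    (MulEquiv.toMonoidHom t).eqLocus (MonoidHom.id A) ⊓ ((MulEquiv.toMonoidHom t).eqLocus (MonoidHom.id A)).map d.toMonoidHom = ⊥ ∧
      (MulEquiv.toMonoidHom t).eqLocus (MonoidHom.id A) ⊔ ((MulEquiv.toMonoidHom t).eqLocus (MonoidHom.id A)).map d.toMonoidHom = ⊤ := by
  set C := (MulEquiv.toMonoidHom t).eqLocus (MonoidHom.id A) with hC
  have memC : ∀ a, a ∈ C ↔ t a = a := fun a => Iff.rfl
  have hpow : ∀ a, (d ^ 2) a = a → d a = a := by
    intro a ha
    obtain ⟨k, hk⟩ := hn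
    have h1 : d = (d ^ 2) ^ (k + 1) := by
      rw [← pow_mul, show 2 * (k + 1) = n + 1 by omega, pow_succ, hd, one_mul]
    have h2 : ∀ j : ℕ, ((d ^ 2) ^ j) a = a := by
      intro j
      induction j with
      | zero => rfl
      | succ j ih => rw [pow_succ, MulAut.mul_apply, ha, ih]
    rw [h1]; exact h2 _
  have htd : ∀ a, t (d a) = d.symm (t a) := by
    intro a
    have h := DFunLike.congr_fun hdt (t a)
    have htt : t (t a) = a := by
      have := DFunLike.congr_fun ht a
      simpa [pow_two] using this
    have hti : t⁻¹ (t a) = a := t.symm_apply_apply a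
    simp only [MulAut.mul_apply, hti] at h
    exact h
  have hinj : ∀ a, d a = d.symm a → a = 1 := by
    intro a h
    apply hfix
    apply hpow
    rw [pow_two, MulAut.mul_apply, h]
    exact d.apply_symm_apply a
  have hbot : C ⊓ C.map d.toMonoidHom = ⊥ := by
    rw [eq_bot_iff]
    rintro x ⟨hx, b, hb, rfl⟩
    have h1 : t (d b) = d b := hx
    rw [htd, (memC b).mp hb] at h1
    have := hinj b h1.symm
    show d b = 1
    rw [this, map_one]
  refine ⟨hbot, ?_⟩
  apply Subgroup.eq_top_of_card_eq
  apply le_antisymm (Subgroup.card_le_card_group _)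
  let f : A →* A := MonoidHom.id A * t.toMonoidHom
  have hf : ∀ a, f a = a * t a := fun a => rfl
  have htt : ∀ a, t (t a) = a := by
    intro a
    have := DFunLike.congr_fun ht a
    simpa [pow_two] using this
  have hrange : f.range ≤ C := by
    rintro _ ⟨a, rfl⟩
    rw [memC, hf, map_mul, htt, mul_comm]
  have hmem : ∀ a ∈ f.ker, d a * (d.symm a)⁻¹ ∈ C := by
    intro a ha
    have h1 : t a = a⁻¹ := eq_inv_of_mul_eq_one_right ha
    have hts : t (d.symm a) = d (t a) := by
      have := htd (d.symm a)
      rw [d.apply_symm_apply] at this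
      have h := congrArg d this
      rwa [d.apply_symm_apply, eq_comm] at h
    rw [memC, map_mul, map_inv, htd, hts, h1, map_inv, map_inv, inv_inv, mul_comm]
  let g : f.ker → C := fun a => ⟨d a * (d.symm a)⁻¹, hmem a a.2⟩
  have hginj : Function.Injective g := by
    intro a b h
    have h' : d (a : A) * (d.symm (a : A))⁻¹ = d (b : A) * (d.symm (b : A))⁻¹ := congrArg Subtype.val h
    have h2 : d ((a : A) * (b : A)⁻¹) = d.symm ((a : A) * (b : A)⁻¹) := by
      simp only [map_mul, map_inv]
      simp only [← div_eq_mul_inv] at h' ⊢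
      exact div_eq_div_iff_div_eq_div.mp h'
    exact Subtype.ext (mul_inv_eq_one.mp (hinj _ h2))
  have hk : Nat.card f.ker ≤ Nat.card C := Nat.card_le_card_of_injective g hginj
  have hr : Nat.card f.range ≤ Nat.card C := Subgroup.card_le_of_le hrange
  have hA' : Nat.card A = Nat.card f.ker * Nat.card f.range := by
    rw [← Subgroup.index_ker, Subgroup.card_mul_index]
  let m : C × C.map d.toMonoidHom → (C ⊔ C.map d.toMonoidHom : Subgroup A) := fun q =>
    ⟨(q.1 : A) * q.2, Subgroup.mul_mem_sup q.1.2 q.2.2⟩
  have hminj : Function.Injective m := by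
    intro q r h
    exact Subgroup.mul_injective_of_disjoint (disjoint_iff.mpr hbot) (congrArg Subtype.val h)
  have hm := Nat.card_le_card_of_injective m hminj
  rw [Nat.card_prod, Subgroup.card_map_of_injective d.injective] at hm
  calc Nat.card A = Nat.card f.ker * Nat.card f.range := hA'
    _ ≤ Nat.card C * Nat.card C := Nat.mul_le_mul hk hr
    _ ≤ _ := hm

end Cfsg.Agent.S1899
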