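import Cfsg.Statements.S1900
import Cfsg.Agent.Lib.Coprime.Generation
import Cfsg.Agent.Lib.Coprime.Action
import Cfsg.Agent.Lib.Thompson.Cores

set_option autoImplicit false
open Cfsg
open scoped commutatorElement

namespace Cfsg.Agent.S1900

theorem conj_mem_iff_of_mem_normalizer {S : Type*} [Group S] {H : Subgroup S} {g x : S}
    (h : g ∈ Subgroup.normalizer (H : Set S)) (hx : x ∈ H) : g * x * g⁻¹ ∈ H :=
  (Subgroup.mem_normalizer_iff.mp h x).mp hx

theorem step {S : Type*} [Group S] (P X Y Zp Zn C D : Subgroup S)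
    (hDP : D ≤ P) (hCX : ∀ c ∈ C, ∀ x ∈ X, x * c = c * x) (hDY : ∀ d ∈ D, ∀ y ∈ Y, y * d = d * y)
    (hdec : ∀ z ∈ Zp, ∃ z₁ ∈ C, ∃ z₂ ∈ D, z = z₁ * z₂)
    (hZn : ∀ c ∈ Zn, ∀ v ∈ P, c * v * c⁻¹ * v⁻¹ ∈ Zp)
    (hDX : ⁅D, X⁆ = D) (hKY : ⁅C ⊓ Zn, Y⁆ = C ⊓ Zn)
    (hXD : X ≤ Subgroup.normalizer (D : Set S)) :
    ∀ c ∈ C ⊓ Zn, ∀ v ∈ D, Commute c v := by
  have hz : ∀ c ∈ C ⊓ Zn, ∀ v ∈ D, c * v * c⁻¹ ∈ D := by
    intro c hc
    suffices h : D ≤ D.comap (MulAut.conj c).toMonoidHom from fun v hv => h hv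
    conv_lhs => rw [← hDX]
    rw [Subgroup.commutator_le]
    intro w hw x hx
    obtain ⟨z₁, hz₁, z₂, hz₂, he⟩ := hdec _ (hZn c hc.2 w⁻¹ (hDP (inv_mem hw)))
    have hd : z₂ * w⁻¹ ∈ D := mul_mem hz₂ (inv_mem hw)
    have hcv : c * w⁻¹ * c⁻¹ = z₁ * (z₂ * w⁻¹) := by rw [← mul_assoc, ← he]; group
    have hcx := hCX c hc.1 x hx
    have hxz := hCX z₁ hz₁ x hx
    show c * ⁅w, x⁆ * c⁻¹ ∈ D
    have : c * ⁅w, x⁆ * c⁻¹ = (z₂ * w⁻¹)⁻¹ * (x * (z₂ * w⁻¹) * x⁻¹) := by
      calc c * ⁅w, x⁆ * c⁻¹ = (c * w⁻¹ * c⁻¹)⁻¹ * ((c * x) * w⁻¹ * (c * x)⁻¹) := by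
            rw [commutatorElement_def]; group
        _ = (c * w⁻¹ * c⁻¹)⁻¹ * ((x * c) * w⁻¹ * (x * c)⁻¹) := by rw [hcx]
        _ = (c * w⁻¹ * c⁻¹)⁻¹ * (x * (c * w⁻¹ * c⁻¹) * x⁻¹) := by group
        _ = (z₁ * (z₂ * w⁻¹))⁻¹ * ((x * z₁) * (z₂ * w⁻¹) * x⁻¹) := by rw [hcv]; group
        _ = (z₁ * (z₂ * w⁻¹))⁻¹ * ((z₁ * x) * (z₂ * w⁻¹) * x⁻¹) := by rw [hxz]
        _ = _ := by group
    rw [this]
    exact mul_mem (inv_mem hd) ((Subgroup.mem_normalizer_iff.mp (hXD hx) _).mp hd)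
  intro c hc v hv
  suffices h : C ⊓ Zn ≤ Subgroup.centralizer {v} from Subgroup.mem_centralizer_singleton_iff.mp (h hc)
  conv_lhs => rw [← hKY]
  rw [Subgroup.commutator_le]
  intro w hw y hy
  have hzD : w⁻¹ * v * w ∈ D := by simpa using hz w⁻¹ (inv_mem hw) v hv
  have hwy := hDY _ hzD y hy
  have hvy := hDY v hv y hy
  rw [Subgroup.mem_centralizer_singleton_iff, commutatorElement_def]
  calc w * y * w⁻¹ * y⁻¹ * v = w * y * w⁻¹ * y⁻¹ * (v * y) * y⁻¹ := by group
    _ = w * y * w⁻¹ * y⁻¹ * (y * v) * y⁻¹ := by rw [hvy]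
    _ = w * (y * (w⁻¹ * v * w)) * w⁻¹ * y⁻¹ := by group
    _ = w * ((w⁻¹ * v * w) * y) * w⁻¹ * y⁻¹ := by rw [hwy]
    _ = v * (w * y * w⁻¹ * y⁻¹) := by group

/-- Let S = PQ be a finite group with P a normal Sylow p-subgroup and Q elementary abelian of order q², q a prime different from p. If exactly two subgroups X₁, X₂ of order q in Q have a nontrivial centralizer in P, then P is the internal direct product of C_P(X₁) and C_P(X₂): they commute elementwise, meet trivially and generate P. -/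
theorem result {S : Type*} [Group S] [Finite S] {p q : ℕ} [Fact p.Prime] [Fact q.Prime] (hpq : p ≠ q)
    (P : Sylow p S) [(P : Subgroup S).Normal] (Q : Subgroup S) (hQ : Cfsg.IsElementaryAbelian q Q) (hQc : Nat.card Q = q ^ 2)
    (hS : (P : Subgroup S) ⊔ Q = ⊤)
    (X₁ X₂ : Subgroup S) (h₁ : X₁ ≤ Q) (h₂ : X₂ ≤ Q) (h₁₂ : X₁ ≠ X₂) (hc₁ : Nat.card X₁ = q) (hc₂ : Nat.card X₂ = q)
    (hf₁ : (P : Subgroup S) ⊓ Subgroup.centralizer (X₁ : Set S) ≠ ⊥)
    (hf₂ : (P : Subgroup S) ⊓ Subgroup.centralizer (X₂ : Set S) ≠ ⊥)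
    (honly : ∀ X : Subgroup S, X ≤ Q → Nat.card X = q →
      (P : Subgroup S) ⊓ Subgroup.centralizer (X : Set S) ≠ ⊥ → X = X₁ ∨ X = X₂) :
    ⁅(P : Subgroup S) ⊓ Subgroup.centralizer (X₁ : Set S), (P : Subgroup S) ⊓ Subgroup.centralizer (X₂ : Set S)⁆ = ⊥ ∧
      ((P : Subgroup S) ⊓ Subgroup.centralizer (X₁ : Set S)) ⊓ ((P : Subgroup S) ⊓ Subgroup.centralizer (X₂ : Set S)) = ⊥ ∧
      ((P : Subgroup S) ⊓ Subgroup.centralizer (X₁ : Set S)) ⊔ ((P : Subgroup S) ⊓ Subgroup.centralizer (X₂ : Set S)) = P := by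
  have hp : Fact p.Prime := inferInstance
  have hq := (Fact.out : q.Prime)
  haveI := hQ.1
  set P' : Subgroup S := (P : Subgroup S) with hP'
  set C₁ := P' ⊓ Subgroup.centralizer (X₁ : Set S) with hC₁
  set C₂ := P' ⊓ Subgroup.centralizer (X₂ : Set S) with hC₂
  have hPp : IsPGroup p P' := P.isPGroup'
  have hcomm : ∀ a ∈ Q, ∀ b ∈ Q, a * b = b * a := fun a ha b hb =>
    congrArg Subtype.val (mul_comm' (⟨a, ha⟩ : Q) ⟨b, hb⟩)
  have hcopQ : ∀ H K : Subgroup S, H ≤ P' → K ≤ Q → (Nat.card K).Coprime (Nat.card H) := by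
    intro H K hH hK
    obtain ⟨a, ha⟩ := IsPGroup.iff_card.mp hPp
    refine Nat.Coprime.coprime_dvd_left (Subgroup.card_dvd_of_le hK)
      (Nat.Coprime.coprime_dvd_right (Subgroup.card_dvd_of_le hH) ?_)
    rw [hQc, ha]
    exact Nat.Coprime.pow _ _ ((Nat.coprime_primes hq hp.out).mpr (Ne.symm hpq))
  have hsol : ∀ H : Subgroup S, H ≤ P' → Group.IsSolvable H := fun H hH => by
    have := (hPp.to_le hH).isNilpotent
    exact Coprime.isSolvable_of_isNilpotent' inferInstance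
  have hQP : Q ≤ Subgroup.normalizer (P' : Set S) := by rw [Subgroup.normalizer_eq_top]; exact le_top
  have hQC : ∀ X : Subgroup S, X ≤ Q → Q ≤ Subgroup.normalizer (Subgroup.centralizer (X : Set S) : Set S) := by
    intro X hX
    refine Coprime.le_normalizer_centralizer (fun a ha => ?_)
    rw [Subgroup.mem_normalizer_iff]
    intro b
    constructor
    · intro hb; rw [hcomm a ha b (hX hb), mul_inv_cancel_right]; exact hb
    · intro hb
      have h1 : a⁻¹ * (a * b * a⁻¹) * a = b := by group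
      have h2 := hcomm a⁻¹ (inv_mem ha) _ (hX hb)
      rw [h2] at h1
      simp [mul_assoc] at h1
      have h3 : a * b * a⁻¹ = b := by simpa [mul_assoc] using h1
      rwa [h3] at hb
  have honly' : ∀ e ∈ Q, e ≠ 1 → P' ⊓ Subgroup.centralizer {e} ≠ ⊥ →
      Subgroup.zpowers e = X₁ ∨ Subgroup.zpowers e = X₂ := by
    intro e he he1 hne
    refine honly _ (Subgroup.zpowers_le.mpr he) ?_ ?_
    · rw [Nat.card_zpowers]; exact orderOf_eq_prime (hQ.2 e he) he1
    · rwa [Subgroup.zpowers_eq_closure, Subgroup.centralizer_closure]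
  have hQcyc : ¬ IsCyclic Q := by
    intro hc
    obtain ⟨g, hg⟩ := hc.exists_generator
    have h1 : orderOf g ≤ q := Nat.le_of_dvd hq.pos (orderOf_dvd_of_pow_eq_one (Subtype.ext (hQ.2 g g.2)))
    rw [orderOf_eq_card_of_forall_mem_zpowers hg, hQc] at h1
    nlinarith [hq.two_le]
  have hgen : ∀ K : Subgroup S, K ≤ P' → Q ≤ Subgroup.normalizer (K : Set S) →
      K ≤ (C₁ ⊓ K) ⊔ (C₂ ⊓ K) := by
    intro K hK hQK
    refine Coprime.le_of_centralizer_le Q K _ hQcyc hQK (hcopQ K Q hK le_rfl) (fun e he he1 => ?_)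
    by_cases hne : P' ⊓ Subgroup.centralizer {e} = ⊥
    · refine le_trans ?_ bot_le
      rw [← hne]
      exact inf_le_inf_right _ hK
    · have hcl : Subgroup.centralizer ({e} : Set S) = Subgroup.centralizer (Subgroup.zpowers e : Set S) := by
        rw [Subgroup.zpowers_eq_closure, Subgroup.centralizer_closure]
      rw [hcl]
      rcases honly' e he he1 hne with h | h <;> rw [h]
      · exact le_trans (le_inf (le_inf (inf_le_left.trans hK) inf_le_right) inf_le_left) le_sup_left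
      · exact le_trans (le_inf (le_inf (inf_le_left.trans hK) inf_le_right) inf_le_left) le_sup_right
  have hbot : C₁ ⊓ C₂ = ⊥ := by
    classical
    let _ := Fintype.ofFinite S
    obtain ⟨e, he, he12⟩ : ∃ e ∈ Q, e ∉ X₁ ∧ e ∉ X₂ := by
      by_contra h
      push Not at h
      have hsub : Finset.univ.filter (· ∈ Q) ⊆ Finset.univ.filter (· ∈ X₁) ∪ Finset.univ.filter (· ∈ X₂) := by
        intro e he
        simp only [Finset.mem_filter, Finset.mem_univ, true_and, Finset.mem_union] at he ⊢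
        exact (em _).imp_right (h e he)
      have hc := (Finset.card_le_card hsub)
      have hlt := Finset.card_union_add_card_inter (Finset.univ.filter (· ∈ X₁)) (Finset.univ.filter (· ∈ X₂))
      have h1 : 1 ∈ Finset.univ.filter (· ∈ X₁) ∩ Finset.univ.filter (· ∈ X₂) := by simp
      have h2 := Finset.card_pos.mpr ⟨_, h1⟩
      have e : ∀ H : Subgroup S, (Finset.univ.filter (· ∈ H)).card = Nat.card H := fun H => by
        rw [Nat.card_eq_fintype_card, Fintype.card_subtype]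
      rw [e, hQc] at hc
      rw [e, e, hc₁, hc₂] at hlt
      nlinarith [hq.two_le]
    have he1 : e ≠ 1 := fun h => he12.1 (h ▸ one_mem _)
    by_contra hne
    have hsup : Q ≤ X₁ ⊔ X₂ := by
      have hd : X₁ ⊓ X₂ = ⊥ := by
        have hdv := Subgroup.card_dvd_of_le (inf_le_left : X₁ ⊓ X₂ ≤ X₁)
        rw [hc₁] at hdv
        rcases (Nat.dvd_prime hq).mp hdv with h | h
        · exact Subgroup.card_eq_one.mp h
        · exact absurd ((Subgroup.eq_of_le_of_card_ge inf_le_left (by rw [h, hc₁])).symm.trans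
            (Subgroup.eq_of_le_of_card_ge inf_le_right (by rw [h, hc₂]))) h₁₂
      have hlt : X₁ < X₁ ⊔ X₂ := lt_of_le_not_ge le_sup_left (fun h => by
        have : X₂ ≤ X₁ := le_sup_right.trans h
        rw [inf_eq_right.mpr this] at hd
        rw [hd, Subgroup.card_bot] at hc₂
        exact hq.one_lt.ne hc₂)
      have hle : X₁ ⊔ X₂ ≤ Q := sup_le h₁ h₂
      have hd' := Subgroup.card_dvd_of_le hle
      rw [hQc] at hd'
      obtain ⟨l, hl, hl'⟩ := (Nat.dvd_prime_pow hq).mp hd'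
      have hl2 : l = 2 := by
        by_contra hl2
        refine hlt.ne (Subgroup.eq_of_le_of_card_ge hlt.le ?_)
        rw [hl', hc₁]
        exact le_trans (Nat.pow_le_pow_right hq.pos (by omega : l ≤ 1)) (pow_one q).le
      exact (Subgroup.eq_of_le_of_card_ge hle (by rw [hl', hl2, hQc])).ge
    rcases honly' e he he1 (by
      intro h
      apply hne
      rw [eq_bot_iff, ← h]
      refine le_inf (inf_le_left.trans inf_le_left) (fun c hc => ?_)
      rw [Subgroup.mem_centralizer_singleton_iff]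
      have : X₁ ⊔ X₂ ≤ Subgroup.centralizer {c} := sup_le
        (fun x hx => Subgroup.mem_centralizer_singleton_iff.mpr (Subgroup.mem_centralizer_iff.mp hc.1.2 x hx))
        (fun x hx => Subgroup.mem_centralizer_singleton_iff.mpr (Subgroup.mem_centralizer_iff.mp hc.2.2 x hx))
      exact (Subgroup.mem_centralizer_singleton_iff.mp (this (hsup he))).symm) with h | h
    · exact he12.1 (h ▸ Subgroup.mem_zpowers e)
    · exact he12.2 (h ▸ Subgroup.mem_zpowers e)
  have hsupP : C₁ ⊔ C₂ = P' := by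
    refine le_antisymm (sup_le inf_le_left inf_le_left) ?_
    exact (hgen P' le_rfl hQP).trans (sup_le_sup inf_le_left inf_le_left)
  refine ⟨?_, hbot, hsupP⟩
  let Z : ℕ → Subgroup S := fun i => (Subgroup.upperCentralSeries P' i).map P'.subtype
  have hZle : ∀ i, Z i ≤ P' := fun i => Subgroup.map_subtype_le _
  have hQZ : ∀ i, Q ≤ Subgroup.normalizer (Z i : Set S) := by
    intro i
    have : (Z i).Normal := Thompson.map_subtype_normal_of_characteristic _ _
    rw [Subgroup.normalizer_eq_top]; exact le_top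
  have main : ∀ i, ∀ c ∈ C₁ ⊓ Z i, ∀ v ∈ C₂, Commute c v := by
    intro i
    induction i with
    | zero =>
      intro c hc v _
      have : c = 1 := by
        have h := hc.2
        simp [Z] at h
        exact h
      subst this; exact Commute.one_left v
    | succ i ih =>
      refine step P' X₁ X₂ (Z i) (Z (i + 1)) C₁ C₂ inf_le_left
        (fun c hc x hx => Subgroup.mem_centralizer_iff.mp hc.2 x hx)
        (fun c hc x hx => Subgroup.mem_centralizer_iff.mp hc.2 x hx) ?_ ?_ ?_ ?_ ?_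
      · intro z hz
        have h := hgen (Z i) (hZle i) (hQZ i) hz
        have hN : C₂ ⊓ Z i ≤ Subgroup.normalizer ((C₁ ⊓ Z i : Subgroup S) : Set S) := by
          refine (fun v hv => Subgroup.centralizer_le_normalizer _ ?_)
          exact Subgroup.mem_centralizer_iff.mpr (fun c hc => (ih c hc v hv.1).eq)
        rw [← SetLike.mem_coe, Subgroup.coe_mul_of_right_le_normalizer_left _ _ hN] at h
        obtain ⟨z₁, hz₁, z₂, hz₂, rfl⟩ := h
        exact ⟨z₁, hz₁.1, z₂, hz₂.1, rfl⟩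
      · rintro c ⟨c', hc', rfl⟩ v hv
        exact ⟨_, (Subgroup.mem_upperCentralSeries_succ_iff.mp hc') ⟨v, hv⟩, rfl⟩
      · have hn : X₁ ≤ Subgroup.normalizer (C₂ : Set S) :=
          h₁.trans (Coprime.le_normalizer_inf hQP (hQC X₂ h₂))
        have h := Coprime.commutator_sup_centralizer X₁ C₂ hn (hcopQ C₂ X₁ inf_le_left h₁)
          (Or.inr (hsol _ inf_le_left))
        rwa [show C₂ ⊓ Subgroup.centralizer (X₁ : Set S) = ⊥ by
          rw [eq_bot_iff, ← hbot]; exact le_inf (le_inf (inf_le_left.trans inf_le_left) inf_le_right) inf_le_left,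
          sup_bot_eq] at h
      · have hn : X₂ ≤ Subgroup.normalizer ((C₁ ⊓ Z (i + 1) : Subgroup S) : Set S) :=
          h₂.trans (Coprime.le_normalizer_inf (Coprime.le_normalizer_inf hQP (hQC X₁ h₁)) (hQZ _))
        have h := Coprime.commutator_sup_centralizer X₂ (C₁ ⊓ Z (i + 1)) hn
          (hcopQ _ X₂ (inf_le_left.trans inf_le_left) h₂)
          (Or.inr (hsol _ (inf_le_left.trans inf_le_left)))
        rwa [show C₁ ⊓ Z (i + 1) ⊓ Subgroup.centralizer (X₂ : Set S) = ⊥ by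
          rw [eq_bot_iff, ← hbot]
          exact le_inf (inf_le_left.trans inf_le_left) (le_inf (inf_le_left.trans (inf_le_left.trans inf_le_left)) inf_le_right),
          sup_bot_eq] at h
      · exact h₁.trans (Coprime.le_normalizer_inf hQP (hQC X₂ h₂))
  haveI := hPp.isNilpotent
  obtain ⟨n, hn⟩ := Group.IsNilpotent.nilpotent P'
  rw [Subgroup.commutator_eq_bot_iff_le_centralizer]
  intro c hc
  rw [Subgroup.mem_centralizer_iff]
  intro v hv
  refine ((main n c ⟨hc, ?_⟩ v hv).eq).symm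
  exact ⟨⟨c, hc.1⟩, hn ▸ Subgroup.mem_top _, rfl⟩

end Cfsg.Agent.S1900
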