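import Cfsg.Statements.S1901
import Cfsg.Agent.Lib.Thompson.PSolvable

set_option autoImplicit false
open Cfsg

namespace Cfsg.Agent.S1901

theorem mem_of_pElement {G : Type*} [Group G] [Finite G] {p : ℕ} [Fact p.Prime] {H C : Subgroup G}
    [(C.subgroupOf H).Normal] {x : G} (hx : ∃ k : ℕ, x ^ p ^ k = 1) (hxH : x ∈ H)
    (hidx : ¬ p ∣ (C.subgroupOf H).index) : x ∈ C := by
  obtain ⟨k, hk⟩ := hx
  have h1 : (QuotientGroup.mk (⟨x, hxH⟩ : H) : H ⧸ C.subgroupOf H) = 1 := by
    refine orderOf_eq_one_iff.mp (Nat.eq_one_of_dvd_coprimes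
      (Nat.Coprime.pow_left k ((Fact.out : p.Prime).coprime_iff_not_dvd.mpr hidx)) ?_ ?_)
    · apply orderOf_dvd_of_pow_eq_one
      rw [← QuotientGroup.mk_pow, show (⟨x, hxH⟩ : H) ^ p ^ k = 1 from Subtype.ext hk, QuotientGroup.mk_one]
    · exact orderOf_dvd_natCard _
  exact Subgroup.mem_subgroupOf.mp ((QuotientGroup.eq_one_iff (N := C.subgroupOf H) _).mp h1)

theorem key {p : ℕ} [Fact p.Prime] (n : ℕ) : ∀ {G : Type*} [Group G] [Finite G], Nat.card G ≤ n →
    Cfsg.IsPSolvable p G → ∀ (Q : Subgroup G), ¬ p ∣ Nat.card Q → ∀ P : Sylow p G,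
    Q ≤ Subgroup.normalizer ((P : Subgroup G) : Set G) → ∀ x : G, (∃ k : ℕ, x ^ p ^ k = 1) →
    x ∈ Subgroup.normalizer (Q : Set G) → ∀ q ∈ Q, Commute x q := by
  induction n with
  | zero => intro G _ _ h; exact absurd h (by have := Nat.card_pos (α := G); omega)
  | succ n ih =>
    intro G _ _ hcard hG Q hQ P hQP x hx hxQ q hq
    have hxq : x * q * x⁻¹ * q⁻¹ ∈ Q := mul_mem ((Subgroup.mem_normalizer_iff.mp hxQ q).mp hq) (inv_mem hq)
    rcases subsingleton_or_nontrivial G with h | h
    · exact Subsingleton.elim _ _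
    have step : ∀ N : Subgroup G, N.Normal → N ≠ ⊥ → x * q * x⁻¹ * q⁻¹ ∈ N := by
      intro N hN hne
      have hlt : Nat.card (G ⧸ N) ≤ n := by
        have h1 := N.card_mul_index
        have h2 : 1 < Nat.card N := Finite.one_lt_card_iff_nontrivial.mpr ((Subgroup.nontrivial_iff_ne_bot N).mpr hne)
        have h3 : N.index = Nat.card (G ⧸ N) := rfl
        have h4 := Nat.card_pos (α := G ⧸ N)
        nlinarith
      set f := QuotientGroup.mk' N with hf
      have hsurj : Function.Surjective f := QuotientGroup.mk'_surjective N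
      have hQ' : ¬ p ∣ Nat.card (Q.map f) := fun h => hQ (h.trans (Subgroup.card_map_dvd _ f))
      have hnorm : ∀ (H : Subgroup G) (g : G), g ∈ Subgroup.normalizer (H : Set G) →
          f g ∈ Subgroup.normalizer ((H.map f : Subgroup _) : Set (G ⧸ N)) :=
        fun H g hg => Subgroup.le_normalizer_map f ⟨g, hg, rfl⟩
      have h1 := ih hlt (Thompson.isPSolvable_quotient N hG) (Q.map f) hQ' (P.mapSurjective hsurj)
        (by
          rintro _ ⟨a, ha, rfl⟩
          rw [Sylow.coe_mapSurjective]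
          exact hnorm _ a (hQP ha))
        (f x) (by obtain ⟨k, hk⟩ := hx; exact ⟨k, by rw [← map_pow, hk, map_one]⟩)
        (hnorm _ x hxQ) (f q) ⟨q, hq, rfl⟩
      rw [← QuotientGroup.eq_one_iff]
      show f (x * q * x⁻¹ * q⁻¹) = 1
      rw [map_mul, map_mul, map_mul, map_inv, map_inv, h1.eq]
      group
    have hcomm : x * q * x⁻¹ * q⁻¹ = 1 → Commute x q := fun h =>
      mul_inv_eq_iff_eq_mul.mp (mul_inv_eq_one.mp h)
    rcases Thompson.pCore_ne_bot_or_pPrimeCore_ne_bot hG with hne | hne
    · apply hcomm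
      rw [← Subgroup.mem_bot, ← Thompson.inf_eq_bot_of_isPGroup_of_coprime (Thompson.isPGroup_pCore (p := p) (G := G))
        ((((Fact.out : p.Prime).coprime_iff_not_dvd.mpr hQ)).symm)]
      exact ⟨step _ inferInstance hne, hxq⟩
    · set L := Cfsg.pPrimeCore p G with hL
      set Q0 := Q ⊓ L with hQ0
      set z := x * q * x⁻¹ * q⁻¹ with hz
      have hz0 : z ∈ Q0 := ⟨hxq, step _ inferInstance hne⟩
      have hPC : (P : Subgroup G) ≤ Subgroup.centralizer (Q0 : Set G) := by
        intro u hu
        rw [Subgroup.mem_centralizer_iff]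
        intro a ha
        have h1 : a * u * a⁻¹ * u⁻¹ ∈ (P : Subgroup G) :=
          mul_mem ((Subgroup.mem_normalizer_iff.mp (hQP ha.1) u).mp hu) (inv_mem hu)
        have h2 : a * u * a⁻¹ * u⁻¹ ∈ L := by
          have := mul_mem ha.2 ((inferInstance : L.Normal).conj_mem _ (inv_mem ha.2) u)
          simpa [mul_assoc] using this
        have h3 : a * u * a⁻¹ * u⁻¹ ∈ (⊥ : Subgroup G) := by
          rw [← Thompson.inf_eq_bot_of_isPGroup_of_coprime P.isPGroup' (Thompson.card_pPrimeCore_coprime (p := p) (G := G))]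
          exact ⟨h1, h2⟩
        exact mul_inv_eq_iff_eq_mul.mp (mul_inv_eq_one.mp (Subgroup.mem_bot.mp h3))
      have hxN : x ∈ Subgroup.normalizer (Q0 : Set G) := by
        rw [Subgroup.mem_normalizer_iff]
        intro a
        constructor
        · exact fun ha => ⟨(Subgroup.mem_normalizer_iff.mp hxQ a).mp ha.1, (inferInstance : L.Normal).conj_mem _ ha.2 x⟩
        · intro ha
          refine ⟨(Subgroup.mem_normalizer_iff.mp hxQ a).mpr ha.1, ?_⟩
          have := (inferInstance : L.Normal).conj_mem _ ha.2 x⁻¹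
          simpa [mul_assoc] using this
      have : ((Subgroup.centralizer (Q0 : Set G)).subgroupOf (Subgroup.normalizer (Q0 : Set G))).Normal := inferInstance
      have hidx : ¬ p ∣ ((Subgroup.centralizer (Q0 : Set G)).subgroupOf (Subgroup.normalizer (Q0 : Set G))).index := by
        intro hd
        apply P.not_dvd_index
        have h := Subgroup.relIndex_dvd_index_of_le (H := Subgroup.centralizer (Q0 : Set G))
          (K := Subgroup.normalizer (Q0 : Set G)) (Subgroup.centralizer_le_normalizer _)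
        exact hd.trans (h.trans (Subgroup.index_dvd_of_le hPC))
      have hxc := mem_of_pElement hx hxN hidx
      have hcz : Commute x z := ((Subgroup.mem_centralizer_iff.mp hxc) z hz0).symm
      obtain ⟨k, hk⟩ := hx
      have hpow : ∀ j : ℕ, x ^ j * q * (x ^ j)⁻¹ = z ^ j * q := by
        intro j
        induction j with
        | zero => simp
        | succ j ihj =>
          calc x ^ (j + 1) * q * (x ^ (j + 1))⁻¹ = x * (x ^ j * q * (x ^ j)⁻¹) * x⁻¹ := by rw [pow_succ']; group
            _ = x * (z ^ j * q) * x⁻¹ := by rw [ihj]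
            _ = (x * z ^ j) * q * x⁻¹ := by group
            _ = (z ^ j * x) * q * x⁻¹ := by rw [(hcz.pow_right j).eq]
            _ = z ^ (j + 1) * q := by rw [pow_succ, hz]; group
      have h := hpow (p ^ k)
      rw [hk, inv_one, mul_one, one_mul] at h
      have hzk : z ^ p ^ k = 1 := (right_eq_mul.mp h)
      apply hcomm
      rw [← orderOf_eq_one_iff]
      refine Nat.eq_one_of_dvd_coprimes (Nat.Coprime.pow_left k ((Fact.out : p.Prime).coprime_iff_not_dvd.mpr hQ))
        (orderOf_dvd_of_pow_eq_one hzk) ?_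
      exact Subgroup.orderOf_dvd_natCard _ hz0.1

/-- Let G be a finite p-solvable group and Q a subgroup of order prime to p such that p divides the index of C_G(Q) in N_G(Q). Then Q normalizes no Sylow p-subgroup of G. -/
theorem result {G : Type*} [Group G] [Finite G] {p : ℕ} [Fact p.Prime]
    (hG : Cfsg.IsPSolvable p G) (Q : Subgroup G) (hQ : ¬ p ∣ Nat.card Q)
    (hA : p ∣ (Subgroup.centralizer (Q : Set G)).relIndex (Subgroup.normalizer (Q : Set G)))
    (P : Sylow p G) : ¬ Q ≤ Subgroup.normalizer ((P : Subgroup G) : Set G) := by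
  intro hQP
  set N := Subgroup.normalizer (Q : Set G) with hN
  set C := (Subgroup.centralizer (Q : Set G)).subgroupOf N with hC
  obtain ⟨R⟩ := (inferInstance : Nonempty (Sylow p N))
  apply R.not_dvd_index
  refine hA.trans (Subgroup.index_dvd_of_le (fun r hr => ?_))
  rw [Subgroup.mem_subgroupOf, Subgroup.mem_centralizer_iff]
  intro q hq
  obtain ⟨k, hk⟩ := R.isPGroup' ⟨r, hr⟩
  refine (key (Nat.card G) le_rfl hG Q hQ P hQP (r : G) ⟨k, ?_⟩ r.2 q hq).eq.symm
  exact congrArg (fun e : (R : Subgroup N) => ((e : N) : G)) hk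

end Cfsg.Agent.S1901
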