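import Cfsg.Statements.S1902
import Cfsg.Agent.S1302
import Cfsg.Agent.S0629
import Cfsg.Agent.Lib.Thompson.PSolvable
-- import your own Cfsg.Agent.* helpers here

set_option autoImplicit false
open Cfsg

namespace Cfsg.Agent.S1902

/-- Let p be an odd prime, G a finite p-solvable group, and B an elementary abelian subgroup of order p² such that B is the subgroup generated by the elements of order p of some Sylow p-subgroup of C_G(b₀), for some nontrivial b₀ ∈ B. Then every B-invariant subgroup of G of order prime to p lies in O_{p'}(G). -/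
theorem result {G : Type*} [Group G] [Finite G] {p : ℕ} [Fact p.Prime] (hp : p ≠ 2)
    (hG : Cfsg.IsPSolvable p G) (B : Subgroup G) (hB : Cfsg.IsElementaryAbelian p B) (hBc : Nat.card B = p ^ 2)
    (b₀ : G) (hb₀ : b₀ ∈ B) (hb₁ : b₀ ≠ 1) (P : Sylow p ↥(Subgroup.centralizer ({b₀} : Set G)))
    (hBP : B = Subgroup.closure {x : G | x ∈ ((P : Subgroup ↥(Subgroup.centralizer ({b₀} : Set G))).map
      (Subgroup.centralizer ({b₀} : Set G)).subtype : Subgroup G) ∧ orderOf x = p})
    (Q : Subgroup G) (hQ : ¬ p ∣ Nat.card Q) (hinv : ∀ b ∈ B, ∀ x ∈ Q, b * x * b⁻¹ ∈ Q) :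
    Q ≤ Cfsg.pPrimeCore p G := by
  classical
  have hpp : p.Prime := Fact.out
  haveI := hB.1
  have hBab : ∀ a ∈ B, ∀ b ∈ B, a * b = b * a := fun a ha b hb =>
    congrArg Subtype.val (mul_comm' (⟨a, ha⟩ : B) ⟨b, hb⟩)
  have hBp : IsPGroup p B := fun a => ⟨1, by rw [pow_one]; exact Subtype.ext (hB.2 a a.2)⟩
  -- `G` is `p`-constrained
  have hX : Cfsg.IsPConstrained p G := by
    obtain ⟨S⟩ := (inferInstance : Nonempty (Sylow p ↥(Cfsg.pPrimePCore p G)))
    exact S0629.result S (Thompson.isPSolvable_subgroup _ hG)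
  refine S1302.result p hp hX B hB.1 hBp (fun x hx hxo => ?_) Q hQ
    (Coprime.le_normalizer_of_conj_mem hinv)
  -- the elements of order `p` centralizing `B` lie in `B`
  have hBC : B ≤ (Subgroup.centralizer ({b₀} : Set G)) := fun b hb => Subgroup.mem_centralizer_singleton_iff.mpr (hBab b hb b₀ hb₀)
  have hxC : x ∈ (Subgroup.centralizer ({b₀} : Set G)) :=
    Subgroup.mem_centralizer_singleton_iff.mpr (Subgroup.mem_centralizer_iff.mp hx b₀ hb₀).symm
  set Z := Subgroup.zpowers x with hZ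
  have hZp : IsPGroup p Z := IsPGroup.of_card (n := 1) (by rw [hZ, Nat.card_zpowers, hxo, pow_one])
  have hBZn : Z ≤ Subgroup.normalizer (B : Set G) := by
    rw [hZ, Subgroup.zpowers_le]
    exact Subgroup.centralizer_le_normalizer _ hx
  have hsup : IsPGroup p ↥(B ⊔ Z) := hBp.to_sup_of_normal_left' hZp hBZn
  have hle : B ⊔ Z ≤ (Subgroup.centralizer ({b₀} : Set G)) := sup_le hBC (by rw [hZ, Subgroup.zpowers_le]; exact hxC)
  obtain ⟨R, hR⟩ := (hsup.comap_of_injective (Subgroup.centralizer ({b₀} : Set G)).subtype (Subgroup.centralizer ({b₀} : Set G)).subtype_injective).exists_le_sylow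
  obtain ⟨g, hg⟩ := MulAction.exists_smul_eq (Subgroup.centralizer ({b₀} : Set G)) R P
  have hmem : ∀ y ∈ B ⊔ Z, orderOf y = p → (g : G) * y * (g : G)⁻¹ ∈ B := fun y hy hyo => by
    rw [hBP]
    refine Subgroup.subset_closure ⟨⟨g * ⟨y, hle hy⟩ * g⁻¹, ?_, rfl⟩, ?_⟩
    · have h1 : (⟨y, hle hy⟩ : (Subgroup.centralizer ({b₀} : Set G))) ∈ (R : Subgroup (Subgroup.centralizer ({b₀} : Set G))) := hR hy
      show g * ⟨y, hle hy⟩ * g⁻¹ ∈ (P : Subgroup (Subgroup.centralizer ({b₀} : Set G)))
      rw [← hg]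
      rw [Sylow.coe_subgroup_smul]
      exact Subgroup.smul_mem_pointwise_smul _ (MulAut.conj g) _ h1
    · rw [← MulAut.conj_apply, MulEquiv.orderOf_eq]
      exact hyo
  have hord : ∀ y ∈ B, y ≠ 1 → orderOf y = p := fun y hy hy1 =>
    orderOf_eq_prime (hB.2 y hy) hy1
  have hconj : ∀ y ∈ B, (g : G) * y * (g : G)⁻¹ ∈ B := fun y hy => by
    rcases eq_or_ne y 1 with rfl | hy1
    · simp
    · exact hmem y (Subgroup.mem_sup_left hy) (hord y hy hy1)
  let f : B → B := fun y => ⟨(g : G) * y * (g : G)⁻¹, hconj y y.2⟩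
  have hf : Function.Injective f := fun a b h => by
    have := congrArg Subtype.val h
    exact Subtype.ext (mul_left_cancel (mul_right_cancel this))
  obtain ⟨y, hy⟩ := (Finite.injective_iff_surjective.mp hf)
    ⟨_, hmem x (Subgroup.mem_sup_right (Subgroup.mem_zpowers x)) hxo⟩
  have := congrArg Subtype.val hy
  have he : (y : G) = x := mul_left_cancel (mul_right_cancel this)
  exact he ▸ y.2

end Cfsg.Agent.S1902
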