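import Cfsg.Statements.S1905
import Cfsg.Agent.Lib.Involution.Dihedral
import Cfsg.Agent.Lib.Components.Basic

set_option autoImplicit false
open Cfsg

namespace Cfsg.Agent.S1905

section
variable {S : Type*} [Group S] [Finite S] (M : Subgroup S)
  (hC : ∀ i ∈ M, orderOf i = 2 → Subgroup.centralizer ({i} : Set S) ≤ M)

theorem orderOf_conj' (g a : S) : orderOf (g * a * g⁻¹) = orderOf a := by
  rw [← MulAut.conj_apply, MulEquiv.orderOf_eq]

include hC in
theorem isConj_of_mem_of_not_mem {a b : S} (ha : orderOf a = 2) (hb : orderOf b = 2) (haM : a ∈ M)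
    (hbM : b ∉ M) : IsConj a b := by
  by_contra h
  obtain ⟨z, hz, hza, hzb, -⟩ := Involution.exists_commuting_involution ha hb h
  have hzM : z ∈ M := hC a haM ha (Subgroup.mem_centralizer_singleton_iff.mpr hza.eq)
  exact hbM (hC z hzM hz (Subgroup.mem_centralizer_singleton_iff.mpr hzb.eq.symm))

include hC in
theorem inverted_trivial {z i s : S} (hi : orderOf i = 2) (hs : orderOf s = 2) (hiM : i ∈ M)
    (hsM : s ∉ M) (hzodd : Odd (orderOf z)) (hzi : Commute z i) (hzs : s * z * s⁻¹ = z⁻¹) :
    z = 1 := by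
  rcases Nat.even_or_odd (orderOf (i * s)) with he | ho
  · exfalso
    have hpos : orderOf (i * s) ≠ 0 := (orderOf_pos _).ne'
    have hw := Involution.orderOf_pow_half he hpos
    have h1 := Involution.commute_pow_half_left (Involution.mul_self_of_orderOf hi)
      (Involution.mul_self_of_orderOf hs) he
    have h2 := Involution.commute_pow_half_right (Involution.mul_self_of_orderOf hi)
      (Involution.mul_self_of_orderOf hs) he
    have hwM := hC i hiM hi (Subgroup.mem_centralizer_singleton_iff.mpr h1.eq)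
    exact hsM (hC _ hwM hw (Subgroup.mem_centralizer_singleton_iff.mpr h2.eq.symm))
  · obtain ⟨k, hk⟩ := Involution.exists_conj_of_odd (Involution.mul_self_of_orderOf hi)
      (Involution.mul_self_of_orderOf hs) ho
    set H := Subgroup.zpowers z with hH
    have hiN : i ∈ Subgroup.centralizer (H : Set S) := by
      rw [hH, Subgroup.mem_centralizer_iff]
      rintro w ⟨j, rfl⟩
      exact (hzi.zpow_left j).eq
    have hmap : H.map (MulAut.conj s).toMonoidHom = H := by
      rw [hH, MonoidHom.map_zpowers]
      show Subgroup.zpowers (s * z * s⁻¹) = _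
      rw [hzs, Subgroup.zpowers_inv]
    have hmapi : H.map (MulAut.conj i).toMonoidHom = H := by
      rw [hH, MonoidHom.map_zpowers]
      show Subgroup.zpowers (i * z * i⁻¹) = _
      rw [← hzi.eq, mul_inv_cancel_right]
    have hsN : s ∈ Subgroup.normalizer (H : Set S) := Components.map_conj_eq_iff_mem_normalizer.mp hmap
    have hiN' : i ∈ Subgroup.normalizer (H : Set S) := Components.map_conj_eq_iff_mem_normalizer.mp hmapi
    have hr := (Subgroup.normalizer (H : Set S)).zpow_mem (mul_mem hiN' hsN) k
    have hsc : s ∈ Subgroup.centralizer (H : Set S) := by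
      rw [← hk, Subgroup.mem_centralizer_iff]
      intro w hw
      have hw' : ((i * s) ^ k)⁻¹ * w * ((i * s) ^ k) ∈ H :=
        (Subgroup.mem_normalizer_iff''.mp hr w).mp hw
      have h := (Subgroup.mem_centralizer_iff.mp hiN) _ hw'
      calc w * ((i * s) ^ k * i * ((i * s) ^ k)⁻¹)
          = (i * s) ^ k * (((i * s) ^ k)⁻¹ * w * ((i * s) ^ k) * i) * ((i * s) ^ k)⁻¹ := by group
        _ = (i * s) ^ k * (i * (((i * s) ^ k)⁻¹ * w * ((i * s) ^ k))) * ((i * s) ^ k)⁻¹ := by rw [h]
        _ = (i * s) ^ k * i * ((i * s) ^ k)⁻¹ * w := by group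
    have h := (Subgroup.mem_centralizer_iff.mp hsc) z (Subgroup.mem_zpowers z)
    rw [← h, mul_inv_cancel_right] at hzs
    have h2 : z ^ 2 = 1 := by rw [pow_two]; nth_rewrite 2 [hzs]; exact mul_inv_cancel z
    rcases (Nat.dvd_prime Nat.prime_two).mp (orderOf_dvd_of_pow_eq_one h2) with h1 | h1
    · exact orderOf_eq_one_iff.mp h1
    · rw [h1] at hzodd; exact absurd hzodd (by decide)

end

/-- Let M be a subgroup of even order of a finite group S such that M contains the centralizer in S of each of its involutions and the normal core of M in S has odd order. Then all involutions of S are conjugate. If moreover N_S(X) ≤ M for a Sylow 2-subgroup X of M and I is an involution in the centre of X, then all involutions of M are conjugate in M and M = M₀ C_M(I) for some subgroup M₀ of M of odd order. -/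
theorem result {S : Type*} [Group S] [Finite S] (M : Subgroup S) (hM : Even (Nat.card M))
    (hC : ∀ i ∈ M, orderOf i = 2 → Subgroup.centralizer ({i} : Set S) ≤ M) (hcore : Odd (Nat.card M.normalCore)) :
    (∀ x y : S, orderOf x = 2 → orderOf y = 2 → IsConj x y) ∧
      ∀ (X : Sylow 2 M) (I : M), I ∈ (Subgroup.center ↥(X : Subgroup ↥M)).map (X : Subgroup ↥M).subtype → orderOf I = 2 →
        Subgroup.normalizer (((X : Subgroup M).map M.subtype : Subgroup S) : Set S) ≤ M →
        (∀ x y : M, orderOf x = 2 → orderOf y = 2 → IsConj x y) ∧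
          ∃ M₀ : Subgroup M, Odd (Nat.card M₀) ∧
            ∀ m : M, ∃ a ∈ M₀, ∃ c ∈ Subgroup.centralizer ({I} : Set M), m = a * c := by
  classical
  haveI : Fact (Nat.Prime 2) := ⟨Nat.prime_two⟩
  obtain ⟨x₀', hx₀'⟩ := exists_prime_orderOf_dvd_card' 2 (even_iff_two_dvd.mp hM)
  have hx₀ : orderOf (x₀' : S) = 2 := by rw [Subgroup.orderOf_coe, hx₀']
  obtain ⟨y₀, hy₀, hy₀M⟩ : ∃ y : S, orderOf y = 2 ∧ y ∉ M := by
    by_contra h
    push Not at h
    have hle : Subgroup.normalClosure {(x₀' : S)} ≤ M.normalCore := by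
      rw [← Subgroup.normalClosure_eq_self (H := M.normalCore)]
      apply Subgroup.normalClosure_mono
      rintro w rfl
      intro g
      exact h _ (by rw [orderOf_conj', hx₀])
    have hmem : (x₀' : S) ∈ M.normalCore := hle (Subgroup.subset_normalClosure rfl)
    have h1 := Subgroup.orderOf_dvd_natCard _ hmem
    rw [hx₀] at h1
    exact (Nat.not_even_iff_odd.mpr hcore) (even_iff_two_dvd.mpr h1)
  have hxy : IsConj (x₀' : S) y₀ := isConj_of_mem_of_not_mem M hC hx₀ hy₀ x₀'.2 hy₀M
  have hall : ∀ a : S, orderOf a = 2 → IsConj (x₀' : S) a := by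
    intro a ha
    by_cases h : a ∈ M
    · exact hxy.trans (isConj_of_mem_of_not_mem M hC ha hy₀ h hy₀M).symm
    · exact isConj_of_mem_of_not_mem M hC hx₀ ha x₀'.2 h
  refine ⟨fun x y hx hy => (hall x hx).symm.trans (hall y hy), fun X I hI hI2 hN => ?_⟩
  set X' : Subgroup S := (X : Subgroup M).map M.subtype with hX'
  have hX'M : X' ≤ M := Subgroup.map_subtype_le _
  have hX'p : IsPGroup 2 X' := X.isPGroup'.map _
  have hmax : ∀ Q : Subgroup S, IsPGroup 2 Q → X' ≤ Q → Q = X' := by
    intro Q hQ hle
    have := hQ.isNilpotent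
    by_contra hne
    have hlt : X'.subgroupOf Q < ⊤ := lt_top_iff_ne_top.mpr
      (fun h => hne (le_antisymm (Subgroup.subgroupOf_eq_top.mp h) hle))
    obtain ⟨n, hn, hn'⟩ :=
      SetLike.exists_of_lt (Group.normalizerCondition_of_isNilpotent _ hlt)
    have hnM : (n : S) ∈ M := by
      apply hN
      rw [Subgroup.mem_normalizer_iff]
      intro w
      constructor
      · intro hw
        exact (Subgroup.mem_normalizer_iff.mp hn ⟨w, hle hw⟩).mp hw
      · intro hw
        have hwQ : w ∈ Q := by
          have := mul_mem (mul_mem (inv_mem n.2) (hle hw)) n.2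
          simpa [mul_assoc] using this
        exact (Subgroup.mem_normalizer_iff.mp hn ⟨w, hwQ⟩).mpr hw
    have hQM : IsPGroup 2 ((Q ⊓ M).subgroupOf M) :=
      (hQ.to_le inf_le_left).of_equiv (Subgroup.subgroupOfEquivOfLe inf_le_right).symm
    have hXle : (X : Subgroup M) ≤ (Q ⊓ M).subgroupOf M := fun u hu =>
      ⟨hle ⟨u, hu, rfl⟩, u.2⟩
    have h := X.3 hQM hXle
    apply hn'
    have : (⟨(n : S), hnM⟩ : M) ∈ (X : Subgroup M) := h ▸ (⟨n.2, hnM⟩ : _ ∧ _)
    exact ⟨_, this, rfl⟩
  obtain ⟨Ix, hIxc, hIx⟩ := hI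
  have hIX : (I : S) ∈ X' := ⟨I, hIx ▸ Ix.2, rfl⟩
  have hIcen : ∀ w ∈ X', Commute (I : S) w := by
    rintro _ ⟨w, hw, rfl⟩
    have h := congrArg Subtype.val (Subgroup.mem_center_iff.mp hIxc ⟨w, hw⟩)
    subst hIx
    exact (congrArg Subtype.val h).symm
  have hI2' : orderOf (I : S) = 2 := by rw [Subgroup.orderOf_coe]; exact hI2
  have hkey : ∀ g : S, g * (I : S) * g⁻¹ ∈ M → g ∈ M := by
    intro g hg
    have hg2 : orderOf (g * (I : S) * g⁻¹) = 2 := by rw [orderOf_conj', hI2']
    set R := X'.map (MulAut.conj g).toMonoidHom with hR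
    have hRM : R ≤ M := by
      rintro _ ⟨w, hw, rfl⟩
      refine hC _ hg hg2 (Subgroup.mem_centralizer_singleton_iff.mpr ?_)
      have h := (hIcen w hw).eq
      show g * w * g⁻¹ * (g * (I : S) * g⁻¹) = g * (I : S) * g⁻¹ * (g * w * g⁻¹)
      calc g * w * g⁻¹ * (g * (I : S) * g⁻¹) = g * (w * (I : S)) * g⁻¹ := by group
        _ = g * ((I : S) * w) * g⁻¹ := by rw [h]
        _ = _ := by group
    have hRp : IsPGroup 2 (R.subgroupOf M) :=
      (hX'p.map _).of_equiv (Subgroup.subgroupOfEquivOfLe hRM).symm
    obtain ⟨P, hP⟩ := hRp.exists_le_sylow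
    obtain ⟨m, hm⟩ := MulAction.exists_smul_eq M P X
    have hle : R.map (MulAut.conj (m : S)).toMonoidHom ≤ X' := by
      rintro _ ⟨w, hw, rfl⟩
      have h1 : MulAut.conj m • (⟨w, hRM hw⟩ : M) ∈ (P : Subgroup M).map (MulAut.conj m).toMonoidHom :=
        ⟨_, hP hw, rfl⟩
      rw [show (P : Subgroup M).map (MulAut.conj m).toMonoidHom = (X : Subgroup M) from
        congrArg (fun T : Sylow 2 M => (T : Subgroup M)) hm] at h1
      exact ⟨_, h1, rfl⟩
    have hcomp : R.map (MulAut.conj (m : S)).toMonoidHom = X'.map (MulAut.conj ((m : S) * g)).toMonoidHom := by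
      rw [hR, Subgroup.map_map]
      congr 1
      ext w
      simp [mul_assoc]
    rw [hcomp] at hle
    have heq : X'.map (MulAut.conj ((m : S) * g)).toMonoidHom = X' :=
      Subgroup.eq_of_le_of_card_ge hle
        (Subgroup.card_map_of_injective (K := X') (f := (MulAut.conj ((m : S) * g)).toMonoidHom) (MulAut.conj ((m : S) * g)).injective).ge
    have h2 := hN (Components.map_conj_eq_iff_mem_normalizer.mp heq)
    have h3 := mul_mem (inv_mem m.2) h2
    simpa using h3
  have hconj : ∀ a : M, orderOf a = 2 → IsConj I a := by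
    intro a ha
    obtain ⟨g, hg⟩ := isConj_iff.mp ((hall _ hI2').symm.trans (hall (a : S) (by rw [Subgroup.orderOf_coe, ha])))
    exact isConj_iff.mpr ⟨⟨g, hkey g (hg ▸ a.2)⟩, Subtype.ext hg⟩
  refine ⟨fun x y hx hy => (hconj x hx).symm.trans (hconj y hy), ?_⟩
  -- the counting argument
  let _ := Fintype.ofFinite S
  let _ := Fintype.ofFinite (S ⧸ M)
  set C : Subgroup M := Subgroup.centralizer ({I} : Set M) with hCdef
  have hCC : Subgroup.centralizer ({(I : S)} : Set S) = C.map M.subtype := by
    ext w
    constructor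
    · intro hw
      refine ⟨⟨w, hC _ I.2 hI2' hw⟩, ?_, rfl⟩
      exact Subgroup.mem_centralizer_singleton_iff.mpr
        (Subtype.ext (Subgroup.mem_centralizer_singleton_iff.mp hw))
    · rintro ⟨u, hu, rfl⟩
      exact Subgroup.mem_centralizer_singleton_iff.mpr
        (congrArg Subtype.val (Subgroup.mem_centralizer_singleton_iff.mp hu))
  let Inv : Finset S := Finset.univ.filter (fun a => orderOf a = 2)
  have hcS : Inv.card = (Subgroup.centralizer ({(I : S)} : Set S)).index := by
    have h : Inv.card = (MulAction.orbit (ConjAct S) (I : S)).ncard := by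
      rw [← Set.ncard_coe_finset]
      congr 1
      ext a
      simp only [Inv, Finset.coe_filter, Finset.mem_univ, true_and, Set.mem_setOf_eq,
        ConjAct.mem_orbit_conjAct]
      constructor
      · intro ha; exact ((hall _ hI2').symm.trans (hall a ha)).symm
      · intro ha
        obtain ⟨g, rfl⟩ := isConj_iff.mp ha.symm
        rw [orderOf_conj', hI2']
    rw [h, ← MulAction.index_stabilizer, Subgroup.centralizer_eq_comap_stabilizer]
    exact (Subgroup.index_comap_of_surjective _ (ConjAct.toConjAct (G := S)).surjective).symm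
  have hcM : (Inv.filter (fun a => a ∈ M)).card = C.index := by
    have h : (Inv.filter (fun a => a ∈ M)).card = (MulAction.orbit (ConjAct M) I).ncard := by
      rw [← Set.ncard_coe_finset, ← Set.ncard_image_of_injective (MulAction.orbit (ConjAct M) I) Subtype.val_injective]
      congr 1
      ext a
      simp only [Inv, Finset.coe_filter, Finset.mem_filter, Finset.mem_univ, true_and, Set.mem_image,
        ConjAct.mem_orbit_conjAct, Set.mem_setOf_eq]
      constructor
      · rintro ⟨ha, haM⟩
        exact ⟨⟨a, haM⟩, (hconj ⟨a, haM⟩ (by rw [← Subgroup.orderOf_coe]; exact ha)).symm, rfl⟩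
      · rintro ⟨b, hb, rfl⟩
        obtain ⟨g, rfl⟩ := isConj_iff.mp hb.symm
        refine ⟨?_, (g * I * g⁻¹).2⟩
        show orderOf ((g : S) * (I : S) * (g : S)⁻¹) = 2
        rw [orderOf_conj', hI2']
    rw [h, ← MulAction.index_stabilizer, hCdef, Subgroup.centralizer_eq_comap_stabilizer]
    exact (Subgroup.index_comap_of_surjective _ (ConjAct.toConjAct (G := M)).surjective).symm
  have hn : Inv.card = C.index * M.index := by
    rw [hcS, hCC, Subgroup.index_map_subtype]
  let q₀ : S ⧸ M := ((1 : S) : S ⧸ M)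
  have hq₀ : ∀ a : S, (a : S ⧸ M) = q₀ ↔ a ∈ M := by
    intro a
    show (a : S ⧸ M) = ((1 : S) : S ⧸ M) ↔ _
    rw [eq_comm, QuotientGroup.eq, inv_one, one_mul]
  obtain ⟨q, hq, hqc⟩ : ∃ q ∈ (Finset.univ : Finset (S ⧸ M)).erase q₀,
      C.index ≤ (Inv.filter (fun a : S => (a : S ⧸ M) = q)).card := by
    apply Finset.exists_le_of_sum_le
    · refine ⟨(y₀ : S ⧸ M), ?_⟩
      simp [hq₀, hy₀M]
    · have h1 := Finset.card_eq_sum_card_fiberwise (f := fun a : S => (a : S ⧸ M)) (s := Inv)
        (t := Finset.univ) (fun a _ => Finset.mem_coe.mpr (Finset.mem_univ _))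
      rw [← Finset.add_sum_erase _ _ (Finset.mem_univ q₀)] at h1
      have h2 : (Inv.filter (fun a : S => (a : S ⧸ M) = q₀)).card = C.index := by
        rw [← hcM]; congr 1
        exact Finset.filter_congr (fun a _ => hq₀ a)
      rw [h2, hn] at h1
      rw [Finset.sum_const, Finset.card_erase_of_mem (Finset.mem_univ _), smul_eq_mul,
        Finset.card_univ, ← Nat.card_eq_fintype_card, ← Subgroup.index]
      have h3 : M.index ≠ 0 := Subgroup.index_ne_zero_of_finite
      obtain ⟨k, hk⟩ := Nat.exists_eq_succ_of_ne_zero h3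
      rw [hk] at h1 ⊢
      simp only [Nat.succ_sub_one]
      rw [Nat.mul_succ] at h1
      rw [mul_comm]
      omega
  have hqne : (Inv.filter (fun a : S => (a : S ⧸ M) = q)).Nonempty := by
    rw [← Finset.card_pos]
    exact lt_of_lt_of_le (Nat.pos_of_ne_zero Subgroup.index_ne_zero_of_finite) hqc
  obtain ⟨t, ht⟩ := hqne
  simp only [Inv, Finset.filter_filter, Finset.mem_filter, Finset.mem_univ, true_and] at ht
  obtain ⟨ht2, htq⟩ := ht
  have htM : t ∉ M := fun h => (Finset.mem_erase.mp hq).1 (by rw [← htq, (hq₀ t).mpr h])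
  have htt : t * t = 1 := Involution.mul_self_of_orderOf ht2
  have ht' : t⁻¹ = t := Involution.inv_of_orderOf ht2
  set D : Subgroup S := M ⊓ M.map (MulAut.conj t).toMonoidHom with hD
  have hDt : ∀ d ∈ D, t * d * t ∈ D := by
    rintro d ⟨hd, u, hu, rfl⟩
    refine ⟨?_, ⟨_, hd, ?_⟩⟩
    · show t * (t * u * t⁻¹) * t ∈ M
      have h : t * (t * u * t⁻¹) * t = u := by
        rw [ht']; calc t * (t * u * t) * t = (t * t) * u * (t * t) := by group
          _ = u := by rw [htt]; simp
      rw [h]; exact hu
    · show t * (MulAut.conj t u) * t⁻¹ = t * (MulAut.conj t u) * t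
      rw [ht']
  have hDodd : Odd (Nat.card D) := by
    by_contra heven
    rw [Nat.not_odd_iff_even, even_iff_two_dvd] at heven
    let _ := Fintype.ofFinite D
    let Sq : Type _ := {d : D // d * d = 1}
    have hsq : 2 ∣ Fintype.card Sq := by
      by_contra hnd
      let σ : Equiv.Perm D := Equiv.inv D
      have hcompl : ∀ d : D, σ d = d ↔ d * d = 1 := fun d => by
        show d⁻¹ = d ↔ _
        rw [inv_eq_iff_mul_eq_one]
      let σ' : Function.End D := (σ : D → D)
      have hσ' : σ' ^ 2 ^ 1 = 1 := by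
        rw [pow_one, pow_two]
        funext d
        exact inv_inv d
      have h1 := Equiv.Perm.card_fixedPoints_modEq (f := σ') hσ'
      have h2 : Fintype.card Sq = Fintype.card (Function.fixedPoints (σ : D → D)) :=
        Fintype.card_congr (Equiv.subtypeEquivRight (fun d => (hcompl d).symm))
      rw [← h2] at h1
      rw [Nat.card_eq_fintype_card] at heven
      unfold Nat.ModEq at h1
      omega
    let Iv : Type _ := {d : D // orderOf d = 2}
    have hIv : ¬ 2 ∣ Fintype.card Iv := by
      have h : Fintype.card Sq = Fintype.card Iv + 1 := by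
        rw [Fintype.card_subtype, Fintype.card_subtype]
        have : Finset.univ.filter (fun d : D => d * d = 1) =
            insert 1 (Finset.univ.filter (fun d : D => orderOf d = 2)) := by
          ext d
          simp only [Finset.mem_filter, Finset.mem_univ, true_and, Finset.mem_insert,
            Involution.orderOf_eq_two_iff']
          by_cases hd : d = 1 <;> simp [hd]
        rw [this, Finset.card_insert_of_notMem (by simp)]
      omega
    let τ : Equiv.Perm Iv :=
      { toFun := fun d => ⟨⟨t * d.1 * t, hDt _ d.1.2⟩, by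
          rw [← Subgroup.orderOf_coe]
          show orderOf (t * (d.1 : S) * t) = 2
          nth_rewrite 2 [← ht']
          rw [orderOf_conj', Subgroup.orderOf_coe]; exact d.2⟩
        invFun := fun d => ⟨⟨t * d.1 * t, hDt _ d.1.2⟩, by
          rw [← Subgroup.orderOf_coe]
          show orderOf (t * (d.1 : S) * t) = 2
          nth_rewrite 2 [← ht']
          rw [orderOf_conj', Subgroup.orderOf_coe]; exact d.2⟩
        left_inv := fun d => Subtype.ext (Subtype.ext (by
          show t * (t * (d.1 : S) * t) * t = d.1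
          calc t * (t * (d.1 : S) * t) * t = (t * t) * d.1 * (t * t) := by group
            _ = _ := by rw [htt]; simp))
        right_inv := fun d => Subtype.ext (Subtype.ext (by
          show t * (t * (d.1 : S) * t) * t = d.1
          calc t * (t * (d.1 : S) * t) * t = (t * t) * d.1 * (t * t) := by group
            _ = _ := by rw [htt]; simp)) }
    have hτ : τ ^ 2 ^ 1 = 1 := by
      rw [pow_one, pow_two]
      ext d
      show t * (t * (d.1 : S) * t) * t = d.1
      calc t * (t * (d.1 : S) * t) * t = (t * t) * d.1 * (t * t) := by group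
        _ = _ := by rw [htt]; simp
    obtain ⟨d, hd⟩ := Equiv.Perm.exists_fixed_point_of_prime hIv hτ
    have hd' : t * (d.1 : S) * t = d.1 := congrArg (fun e : Iv => ((e.1 : D) : S)) hd
    refine htM (hC _ d.1.2.1 (by rw [Subgroup.orderOf_coe]; exact d.2) ?_)
    rw [Subgroup.mem_centralizer_singleton_iff]
    calc t * (d.1 : S) = t * (d.1 : S) * (t * t) := by rw [htt, mul_one]
      _ = (t * (d.1 : S) * t) * t := by group
      _ = (d.1 : S) * t := by rw [hd']
  refine ⟨D.subgroupOf M, ?_, ?_⟩
  · rw [Nat.card_congr (Subgroup.subgroupOfEquivOfLe (inf_le_left : D ≤ M)).toEquiv]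
    exact hDodd
  · -- the elements of the coset are represented in `D`
    let F := Inv.filter (fun a : S => (a : S ⧸ M) = q)
    have hF : ∀ a ∈ F, t * a ∈ D ∧ orderOf a = 2 ∧ a ∉ M := by
      intro a ha
      simp only [F, Inv, Finset.filter_filter, Finset.mem_filter, Finset.mem_univ, true_and] at ha
      obtain ⟨ha2, haq⟩ := ha
      have hxM : t * a ∈ M := by
        have := QuotientGroup.eq.mp (htq.trans haq.symm)
        rwa [ht'] at this
      have haM : a ∉ M := fun h => htM (by
        have := mul_mem hxM (inv_mem h)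
        simpa using this)
      refine ⟨⟨hxM, a * t, ?_, ?_⟩, ha2, haM⟩
      · have := inv_mem hxM
        rwa [mul_inv_rev, ht', Involution.inv_of_orderOf ha2] at this
      · show t * (a * t) * t⁻¹ = t * a
        group
    let G' : {a // a ∈ F} → M ⧸ C := fun a => ((⟨t * a.1, (hF _ a.2).1.1⟩ : M) : M ⧸ C)
    have hinj : Function.Injective G' := by
      intro a b hab
      apply Subtype.ext
      obtain ⟨haD, ha2, haM⟩ := hF _ a.2
      obtain ⟨hbD, hb2, hbM⟩ := hF _ b.2
      have hz : (t * b.1)⁻¹ * (t * a.1) = b.1 * a.1 := by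
        rw [mul_inv_rev, ht', Involution.inv_of_orderOf hb2, mul_assoc, ← mul_assoc t t, htt, one_mul]
      have hzC := QuotientGroup.eq.mp hab.symm
      have hzc : Commute (b.1 * a.1) (I : S) := by
        rw [← hz]
        exact congrArg Subtype.val (Subgroup.mem_centralizer_singleton_iff.mp hzC)
      have hzD : b.1 * a.1 ∈ D := by rw [← hz]; exact mul_mem (inv_mem hbD) haD
      have hzodd : Odd (orderOf (b.1 * a.1)) := by
        have := Subgroup.orderOf_dvd_natCard _ hzD
        exact hDodd.of_dvd_nat this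
      have h := inverted_trivial M hC hI2' hb2 I.2 hbM hzodd hzc (by
        rw [mul_inv_rev, Involution.inv_of_orderOf hb2, Involution.inv_of_orderOf ha2,
          ← mul_assoc b.1 b.1, Involution.mul_self_of_orderOf hb2, one_mul])
      rw [eq_comm, ← inv_mul_eq_one, Involution.inv_of_orderOf hb2]
      exact h
    have hsurj : Function.Surjective G' := by
      let _ := Fintype.ofFinite (M ⧸ C)
      refine ((Fintype.bijective_iff_injective_and_card G').mpr ⟨hinj, le_antisymm
        (Fintype.card_le_of_injective _ hinj) ?_⟩).2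
      rw [Fintype.card_coe, ← Nat.card_eq_fintype_card]
      exact hqc
    intro m
    obtain ⟨a, ha⟩ := hsurj (m : M ⧸ C)
    refine ⟨⟨t * a.1, (hF _ a.2).1.1⟩, (hF _ a.2).1, _, QuotientGroup.eq.mp ha, ?_⟩
    rw [mul_inv_cancel_left]

end Cfsg.Agent.S1905
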