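import Cfsg.Statements.S1906
import Cfsg.Agent.DetTransfer.Basic

set_option autoImplicit false
open Cfsg

namespace Cfsg.Agent.S1906

/-- Let G be a finite group with no subgroup of index 2 whose Sylow 2-subgroup X embeds in GL₃(F) for a finite field F of odd order. If X contains an elementary abelian subgroup of order 8, then X is abelian. -/
theorem result {G : Type*} [Group G] [Finite G] (hG : ∀ H : Subgroup G, H.index ≠ 2) (X : Sylow 2 G)
    {F : Type*} [Field F] [Fintype F] (hF : Odd (Fintype.card F))
    (f : ↥(X : Subgroup G) →* GL (Fin 3) F) (hf : Function.Injective f)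
    (E : Subgroup G) (hE : E ≤ (X : Subgroup G)) (hEa : Cfsg.IsElementaryAbelian 2 E) (hE8 : Nat.card E = 8) :
    IsMulCommutative (X : Subgroup G) := by
  refine DetTransfer.abelian_of_no_index_two hG X (TwoRank.two_ne_zero_of_odd hF) f hf
    (E.subgroupOf (X : Subgroup G)) (fun a ha b hb => ?_) (fun a ha => ?_) ?_
  · haveI := hEa.1
    exact Subtype.ext (congrArg (fun x : E => (x : G)) (mul_comm' (⟨a, ha⟩ : E) ⟨b, hb⟩))
  · refine Subtype.ext ?_
    have := hEa.2 _ ha
    rwa [pow_two] at this
  · rw [Nat.card_congr (Subgroup.subgroupOfEquivOfLe hE).toEquiv, hE8]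

end Cfsg.Agent.S1906
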