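import Cfsg.Statements.S1907
import Cfsg.Agent.T51.PPrimeP

set_option autoImplicit false
open Cfsg

namespace Cfsg.Agent.S1907

/-- Let P be a Sylow p-subgroup of a finite group G, H = P ∩ O_{p',p}(G), N = N_G(H) and D = O_{p'}(G). (a) If y is an element of p-power order of N and d ∈ D with d⁻¹ y d ∈ N, then d = d₁ d₂ with d₁ ∈ C_D(y) and d₂ ∈ C_D(H). (b) Two elements of P that are conjugate in G are conjugate in N. -/
theorem result {G : Type*} [Group G] [Finite G] {p : ℕ} [Fact p.Prime] (P : Sylow p G) :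
    (∀ y ∈ Subgroup.normalizer (((P : Subgroup G) ⊓ Cfsg.pPrimePCore p G : Subgroup G) : Set G), (∃ k : ℕ, orderOf y = p ^ k) →
      ∀ d ∈ Cfsg.pPrimeCore p G, d⁻¹ * y * d ∈ Subgroup.normalizer (((P : Subgroup G) ⊓ Cfsg.pPrimePCore p G : Subgroup G) : Set G) →
        ∃ d₁ ∈ Cfsg.pPrimeCore p G ⊓ Subgroup.centralizer ({y} : Set G),
          ∃ d₂ ∈ Cfsg.pPrimeCore p G ⊓ Subgroup.centralizer (((P : Subgroup G) ⊓ Cfsg.pPrimePCore p G : Subgroup G) : Set G), d = d₁ * d₂) ∧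
    ∀ x y : G, x ∈ (P : Subgroup G) → y ∈ (P : Subgroup G) → IsConj x y →
      ∃ n ∈ Subgroup.normalizer (((P : Subgroup G) ⊓ Cfsg.pPrimePCore p G : Subgroup G) : Set G), n * x * n⁻¹ = y := by
  refine ⟨fun y hy hyp d hd hdy => T51.exists_factor P hy hyp hd hdy, fun x y hx hy hxy => ?_⟩
  obtain ⟨g, hg⟩ := isConj_iff.mp hxy
  obtain ⟨d, hd, n, hn, rfl⟩ := T51.exists_mul_normalizer P g
  have hxN := T51.le_normalizer_inf_pPrimePCore P hx
  have e : d⁻¹ * y * d = n * x * n⁻¹ := by rw [← hg]; group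
  obtain ⟨k, hk⟩ := P.2 ⟨y, hy⟩
  have hyp : ∃ k : ℕ, orderOf y = p ^ k := by
    obtain ⟨j, -, hj⟩ := (Nat.dvd_prime_pow Fact.out).mp (orderOf_dvd_of_pow_eq_one
      (show y ^ p ^ k = 1 by simpa using congrArg Subtype.val hk))
    exact ⟨j, hj⟩
  obtain ⟨d₁, hd₁, d₂, hd₂, rfl⟩ := T51.exists_factor P (T51.le_normalizer_inf_pPrimePCore P hy) hyp hd
    (by rw [e]; exact mul_mem (mul_mem hn hxN) (inv_mem hn))
  refine ⟨d₂ * n, mul_mem ?_ hn, ?_⟩
  · exact (Subgroup.centralizer_le_normalizer _) hd₂.2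
  · have h1 : y * d₁ = d₁ * y := (Subgroup.mem_centralizer_singleton_iff.mp hd₁.2).symm
    calc d₂ * n * x * (d₂ * n)⁻¹ = d₁⁻¹ * (d₁ * d₂ * n * x * (d₁ * d₂ * n)⁻¹) * d₁ := by group
      _ = d₁⁻¹ * (y * d₁) := by rw [hg, mul_assoc]
      _ = y := by rw [h1]; group

end Cfsg.Agent.S1907
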