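import Cfsg.Statements.S1910
import Cfsg.Agent.T51.TightPair

set_option autoImplicit false
open Cfsg

namespace Cfsg.Agent.S1910

theorem card_le_of_relIndex {G : Type*} [Group G] [Finite G] {T X B : Subgroup G} (hTX : T ≤ X)
    (hT : ¬ 2 ∣ T.relIndex X) (hB : IsPGroup 2 B) (hBX : B ≤ X) : Nat.card B ≤ Nat.card T := by
  obtain ⟨k, hk⟩ := IsPGroup.iff_card.mp hB
  have h : Nat.card B ∣ Nat.card T * T.relIndex X := by
    have := Subgroup.card_mul_index (T.subgroupOf X)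
    rw [Nat.card_congr (Subgroup.subgroupOfEquivOfLe hTX).toEquiv] at this
    rw [Subgroup.relIndex, this]
    exact Subgroup.card_dvd_of_le hBX
  refine Nat.le_of_dvd Nat.card_pos (Nat.Coprime.dvd_of_dvd_mul_right ?_ h)
  rw [hk]
  exact ((Nat.prime_two.coprime_iff_not_dvd).mpr hT).pow_left k

/-- Let Q be a tightly embedded subgroup of a finite group G, g an element outside N_G(Q), T a nontrivial Sylow 2-subgroup of Q^g ∩ N_G(Q), and S a Sylow 2-subgroup of QT containing T. Then T ∩ Q = 1, and N_S(T) is the direct product of T and N_S(T) ∩ Q, with N_S(T) ∩ Q isomorphic to T. -/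
theorem result {G : Type*} [Group G] [Finite G] (Q : Subgroup G) (hQ : Cfsg.IsTightlyEmbedded Q)
    (g : G) (hg : g ∉ Subgroup.normalizer (Q : Set G))
    (T : Subgroup G) (hT1 : T ≠ ⊥) (hT : T ≤ Q.map (MulAut.conj g).toMonoidHom ⊓ Subgroup.normalizer (Q : Set G))
    (hTsyl : IsPGroup 2 T ∧ ¬ 2 ∣ T.relIndex (Q.map (MulAut.conj g).toMonoidHom ⊓ Subgroup.normalizer (Q : Set G)))
    (S : Subgroup G) (hTS : T ≤ S) (hS : S ≤ Q ⊔ T) (hSsyl : IsPGroup 2 S ∧ ¬ 2 ∣ S.relIndex (Q ⊔ T)) :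
    T ⊓ Q = ⊥ ∧
      T ⊓ (S ⊓ Subgroup.normalizer (T : Set G) ⊓ Q) = ⊥ ∧
      ⁅T, S ⊓ Subgroup.normalizer (T : Set G) ⊓ Q⁆ = ⊥ ∧
      T ⊔ (S ⊓ Subgroup.normalizer (T : Set G) ⊓ Q) = S ⊓ Subgroup.normalizer (T : Set G) ∧
      Nonempty (↥(S ⊓ Subgroup.normalizer (T : Set G) ⊓ Q) ≃* T) := by
  set Qg := Q.map (MulAut.conj g).toMonoidHom with hQg
  have hodd : Odd (Nat.card ↥(Qg ⊓ Q)) := by rw [inf_comm]; exact hQ.2 g hg
  have hback : Qg.map (MulAut.conj g⁻¹).toMonoidHom = Q := by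
    rw [hQg, Subgroup.map_map]
    ext z
    simp [Subgroup.mem_map, mul_assoc]
  have hOQ : T51.Tight.OddMeet Q := by
    have h := T51.Tight.oddMeet hQ 1
    have e : Q.map (MulAut.conj (1 : G)).toMonoidHom = Q := by ext z; simp [Subgroup.mem_map]
    rwa [e] at h
  obtain ⟨h1, h2, h3, h4, h5, h6⟩ := T51.Tight.pair (T51.Tight.oddMeet hQ g) hback hodd
    (hT.trans inf_le_left) (hT.trans inf_le_right) hT1 hTS hS hSsyl.1 hSsyl.2
  set U := S ⊓ Subgroup.normalizer (T : Set G) ⊓ Q with hUdef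
  refine ⟨h1, le_bot_iff.mp ((inf_le_inf_left T inf_le_right).trans h1.le), h2, h3, h6 ?_⟩
  set Y := Q ⊓ Subgroup.normalizer (Qg : Set G) with hY
  have hUY : U ≤ Y := le_inf inf_le_right h4
  have hUp : IsPGroup 2 U := hSsyl.1.to_le (inf_le_left.trans inf_le_left)
  obtain ⟨P, hP⟩ := (hUp.comap_subtype (K := Y)).exists_le_sylow
  set T' := (P : Subgroup Y).map Y.subtype with hT'
  have hUT' : U ≤ T' := fun u hu => ⟨⟨u, hUY hu⟩, hP hu, rfl⟩
  have hT'p : IsPGroup 2 T' := P.2.map _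
  have hT'Y : T' ≤ Y := Subgroup.map_subtype_le _
  have hT'1 : T' ≠ ⊥ := by
    intro h
    have hU1 : Nat.card U ≤ 1 := by
      rw [← Subgroup.card_bot (G := G), ← h]; exact Subgroup.card_le_of_le hUT'
    exact hT1 (Subgroup.eq_bot_of_card_le T (h5.trans hU1))
  obtain ⟨P', hP'⟩ := (hT'p.comap_subtype (K := Qg ⊔ T')).exists_le_sylow
  set S' := (P' : Subgroup ↥(Qg ⊔ T')).map (Qg ⊔ T').subtype with hS'
  have hrel : ¬ 2 ∣ S'.relIndex (Qg ⊔ T') := by
    rw [hS', Subgroup.relIndex, Subgroup.subgroupOf, Subgroup.comap_map_eq_self_of_injective (Subgroup.subtype_injective _)]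
    exact P'.not_dvd_index
  have hTS' : T' ≤ S' := fun t ht => ⟨⟨t, Subgroup.mem_sup_right ht⟩, hP' ht, rfl⟩
  obtain ⟨-, -, -, k4, k5, -⟩ := T51.Tight.pair hOQ (x := g) (Qb := Qg) hQg.symm
    (by rw [inf_comm]; exact hodd) (hT'Y.trans inf_le_left) (hT'Y.trans inf_le_right) hT'1
    hTS' (Subgroup.map_subtype_le _) (P'.2.map _) hrel
  calc Nat.card U ≤ Nat.card T' := Subgroup.card_le_of_le hUT'
    _ ≤ _ := k5
    _ ≤ Nat.card T := card_le_of_relIndex hT hTsyl.2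
        ((P'.2.map _).to_le (inf_le_left.trans inf_le_left)) (le_inf inf_le_right k4)

end Cfsg.Agent.S1910
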