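import Cfsg.Statements.S1914
import Cfsg.Agent.InvFour5.Main2
import Cfsg.Agent.Lib.Components.Basic

set_option autoImplicit false
open Cfsg

namespace Cfsg.Agent.S1914

/-- Let A be a semisimple subgroup (a central product of quasisimple groups, A = E(A)) of a finite group and t an involution normalizing A such that the Sylow 2-subgroups of C_A(t) are cyclic of order 4. Then A has 2-rank exactly 1. -/
theorem result {G : Type*} [Group G] [Finite G] (A : Subgroup G) (hA : Cfsg.layer ↥A = ⊤)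
    (t : G) (ht : orderOf t = 2) (htA : t ∈ Subgroup.normalizer (A : Set G))
    (hC : ∀ R : Sylow 2 ↥(A ⊓ Subgroup.centralizer ({t} : Set G)), IsCyclic R ∧ Nat.card R = 4) :
    Cfsg.PRankLE 2 1 A ∧ ¬ Cfsg.PRankLE 2 0 A := by
  classical
  haveI : Fact (Nat.Prime 2) := ⟨Nat.prime_two⟩
  have ht2 : t * t = 1 := Involution.mul_self_of_orderOf ht
  have hperf : Group.IsPerfect ↥A := by
    have h := Cfsg.Agent.Components.layer_commutator_eq_self (G := ↥A)
    rw [hA] at h
    exact ⟨by rw [_root_.commutator_def, h]⟩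
  set C : Subgroup G := A ⊓ Subgroup.centralizer ({t} : Set G) with hCdef
  have hmemC : ∀ r, r ∈ C ↔ r ∈ A ∧ r * t = t * r := fun r => by
    refine ⟨fun h => ⟨h.1, (h.2 t rfl).symm⟩, fun h => ⟨h.1, fun b hb => ?_⟩⟩
    rw [Set.mem_singleton_iff] at hb; subst hb; exact h.2.symm
  obtain ⟨R₀⟩ := (inferInstance : Nonempty (Sylow 2 C))
  obtain ⟨hcyc, hcard⟩ := hC R₀
  haveI := hcyc
  obtain ⟨c₀, hc₀⟩ := IsCyclic.exists_generator (α := ↥(R₀ : Subgroup C))
  have hord : orderOf c₀ = 4 := by rw [orderOf_eq_card_of_forall_mem_zpowers hc₀, hcard]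
  set c : G := ((c₀ : C) : G) with hcdef
  have hcord : orderOf c = 4 := by
    rw [hcdef, Subgroup.orderOf_coe, Subgroup.orderOf_coe, hord]
  obtain ⟨hcA, hct⟩ := (hmemC c).1 (c₀ : C).2
  have hC4 : ∀ R : Subgroup G, R ≤ A → (∀ r ∈ R, r * t = t * r) → IsPGroup 2 R → Nat.card R ≤ 4 := by
    intro R hRA hRt hR2
    have hle : R ≤ C := fun r hr => (hmemC r).2 ⟨hRA hr, hRt r hr⟩
    obtain ⟨Q, hQ⟩ := (hR2.of_equiv (Subgroup.subgroupOfEquivOfLe hle).symm).exists_le_sylow
    rw [← Nat.card_congr (Subgroup.subgroupOfEquivOfLe hle).toEquiv, ← (hC Q).2]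
    exact Subgroup.card_le_of_le hQ
  -- a Sylow subgroup of `A ⊔ ⟨t⟩` containing `t` and `c`
  have hc2 : IsPGroup 2 (Subgroup.zpowers c) :=
    IsPGroup.of_card (n := 2) (by rw [Nat.card_zpowers, hcord]; norm_num)
  have ht' : IsPGroup 2 (Subgroup.zpowers t) :=
    IsPGroup.of_card (n := 1) (by rw [Nat.card_zpowers, ht]; norm_num)
  have hQ2 : IsPGroup 2 (Subgroup.zpowers c ⊔ Subgroup.zpowers t : Subgroup G) := by
    refine IsPGroup.to_sup_of_normal_left' hc2 ht' (Subgroup.zpowers_le.2 ?_)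
    refine Subgroup.centralizer_le_normalizer _ fun b hb => ?_
    obtain ⟨k, rfl⟩ := hb
    exact (Commute.zpow_left (show Commute c t from hct) k).eq
  have hQle : Subgroup.zpowers c ⊔ Subgroup.zpowers t ≤ A ⊔ Subgroup.zpowers t :=
    sup_le ((Subgroup.zpowers_le.2 hcA).trans le_sup_left) le_sup_right
  obtain ⟨T, hT⟩ := (hQ2.of_equiv (Subgroup.subgroupOfEquivOfLe hQle).symm).exists_le_sylow
  set TT : Subgroup G := (T : Subgroup ↥(A ⊔ Subgroup.zpowers t)).map
    (A ⊔ Subgroup.zpowers t).subtype with hTT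
  have hQT : ∀ x ∈ Subgroup.zpowers c ⊔ Subgroup.zpowers t, x ∈ TT := fun x hx =>
    ⟨⟨x, hQle hx⟩, hT hx, rfl⟩
  have htT : t ∈ TT := hQT t (Subgroup.mem_sup_right (Subgroup.mem_zpowers t))
  have hcT : c ∈ TT := hQT c (Subgroup.mem_sup_left (Subgroup.mem_zpowers c))
  have hTT2 : IsPGroup 2 TT := T.isPGroup'.map _
  have hTTle : TT ≤ A ⊔ Subgroup.zpowers t := Subgroup.map_subtype_le _
  have hTTmax : ∀ R : Subgroup G, R ≤ A ⊔ Subgroup.zpowers t → IsPGroup 2 R →
      Nat.card R ≤ Nat.card TT := by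
    intro R hR hR2
    obtain ⟨P, hP⟩ := (hR2.of_equiv (Subgroup.subgroupOfEquivOfLe hR).symm).exists_le_sylow
    rw [hTT, Subgroup.card_map_of_injective (A ⊔ Subgroup.zpowers t).subtype_injective,
      T.card_eq_multiplicity, ← P.card_eq_multiplicity,
      ← Nat.card_congr (Subgroup.subgroupOfEquivOfLe hR).toEquiv]
    exact Subgroup.card_le_of_le hP
  set S : Subgroup G := TT ⊓ A with hS
  have hcS : c ∈ S := ⟨hcT, hcA⟩
  have hu2 : (c * c) * (c * c) = 1 := by
    rw [← sq, ← sq, ← pow_mul, show 2 * 2 = orderOf c from hcord.symm, pow_orderOf_eq_one]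
  have hu1 : c * c ≠ 1 := by
    rw [← sq]; exact pow_ne_one_of_lt_orderOf two_ne_zero (by omega)
  have hfix : ∀ s ∈ S, t * s * t⁻¹ = s → s = 1 ∨ s = c * c ∨ s = c ∨ s = c * (c * c) := by
    intro s hs hst
    let R : Subgroup G := S ⊓ Subgroup.centralizer ({t} : Set G)
    have hRt : ∀ r ∈ R, r * t = t * r := fun r hr => (hr.2 t rfl).symm
    have hR2 : IsPGroup 2 R := hTT2.to_le (inf_le_left.trans inf_le_left)
    have hcR : Subgroup.zpowers c ≤ R := Subgroup.zpowers_le.2 ⟨hcS, fun b hb => by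
      rw [Set.mem_singleton_iff] at hb; subst hb; exact hct.symm⟩
    have heq : Subgroup.zpowers c = R := Subgroup.eq_of_le_of_card_ge hcR (by
      rw [Nat.card_zpowers, hcord]; exact hC4 R (inf_le_left.trans inf_le_right) hRt hR2)
    have hsR : s ∈ R := ⟨hs, fun b hb => by
      rw [Set.mem_singleton_iff] at hb; subst hb; exact mul_inv_eq_iff_eq_mul.1 hst⟩
    rw [← heq, mem_zpowers_iff_mem_range_orderOf, Finset.mem_image] at hsR
    obtain ⟨n, hn, rfl⟩ := hsR
    rw [Finset.mem_range, hcord] at hn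
    interval_cases n
    · simp
    · simp
    · exact Or.inr (Or.inl (pow_two c))
    · exact Or.inr (Or.inr (Or.inr (by rw [pow_succ', pow_two])))
  have hcne : (⊥ : Subgroup G) ≠ S := fun h => hu1 (by
    have h1 : c ∈ (⊥ : Subgroup G) := h ▸ hcS
    rw [Subgroup.mem_bot.1 h1, mul_one])
  have hn : A ⊔ Subgroup.zpowers t ≤ Subgroup.normalizer (A : Set G) :=
    sup_le Subgroup.le_normalizer (Subgroup.zpowers_le.2 htA)
  have hcl : ∀ τ ∈ TT, ∀ a ∈ S, τ * a * τ⁻¹ ∈ S := fun τ hτ a ha => Subgroup.mem_inf.2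
    ⟨mul_mem (mul_mem hτ (Subgroup.mem_inf.1 ha).1) (inv_mem hτ),
      (Subgroup.mem_normalizer_iff.1 (hn (hTTle hτ)) a).1 ha.2⟩
  have hTn : TT ≤ Subgroup.normalizer (S : Set G) := fun τ hτ =>
    Subgroup.mem_normalizer_iff.2 fun a => ⟨hcl τ hτ a, fun h => by
      have := hcl _ (inv_mem hτ) _ h
      simpa [mul_assoc] using this⟩
  have huc : ∀ τ ∈ TT, τ * (c * c) = c * c * τ := by
    obtain ⟨x, hxS, hx1, hx2, hxc⟩ := Cfsg.Agent.Perm.FourAct.exists_central_mod hTT2 bot_le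
      inf_le_left hcne (by rw [Subgroup.normalizer_eq_top_iff.2 inferInstance]; exact le_top) hTn
    simp only [Subgroup.mem_bot] at hx1 hx2 hxc
    have hxT : ∀ τ ∈ TT, τ * x = x * τ := fun τ hτ =>
      mul_inv_eq_iff_eq_mul.1 (mul_inv_eq_one.1 (hxc τ hτ))
    have hxu : x = c * c := by
      rcases hfix x hxS (by rw [hxT t htT, mul_inv_cancel_right]) with h | h | h | h
      · exact absurd h hx1
      · exact h
      · rw [h] at hx2; exact absurd hx2 hu1
      · rw [h] at hx2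
        refine absurd ?_ hu1
        calc c * c = (c * c) * ((c * c) * (c * c)) := by rw [hu2, mul_one]
          _ = c * (c * c) * (c * (c * c)) := by group
          _ = 1 := hx2
    intro τ hτ
    rw [← hxu]; exact hxT τ hτ
  let X : Cfsg.Agent.InvFour5.Setting (G := G) :=
    { A := A, hperf := hperf, t := t, ht2 := ht2, htA := htA, c := c, hC4 := hC4, S := S, TT := TT,
      hTT2 := hTT2, hTTmax := hTTmax, hTTle := hTTle, hS := hS, htT := htT, hcS := hcS,
      htc := hct.symm, hu1 := hu1, hu2 := hu2, hfix := hfix, huc := huc }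
  refine ⟨X.rank_one, fun h0 => ?_⟩
  have hle := h0 (Subgroup.zpowers (⟨c * c, mul_mem hcA hcA⟩ : ↥A)) inferInstance (by
    rintro a ⟨k, rfl⟩
    apply Subtype.ext
    show ((c * c) ^ k) ^ 2 = 1
    rw [← zpow_natCast ((c * c) ^ k), ← zpow_mul, mul_comm, zpow_mul,
      show (c * c) ^ ((2 : ℕ) : ℤ) = 1 by rw [zpow_natCast, sq]; exact hu2, one_zpow])
  rw [Nat.card_zpowers, pow_zero] at hle
  have h1 : orderOf (⟨c * c, mul_mem hcA hcA⟩ : ↥A) = 1 :=
    le_antisymm hle (orderOf_pos _)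
  rw [orderOf_eq_one_iff] at h1
  exact hu1 (congrArg Subtype.val h1)

end Cfsg.Agent.S1914
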