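import Cfsg.Statements.S1915
import Cfsg.Agent.Lib.Perm.FourActRankOne
import Cfsg.Agent.Lib.Components.Basic

set_option autoImplicit false
open Cfsg

namespace Cfsg.Agent.S1915

/-- Let A be a semisimple subgroup (A = E(A)) of a finite group and U a Klein four-group normalizing A. If the subgroup of A generated by the normalizers N_A(V) of the nontrivial subgroups V of U has 2-rank exactly 1, then A has 2-rank exactly 1. -/
theorem result {G : Type*} [Group G] [Finite G] (A : Subgroup G) (hA : Cfsg.layer ↥A = ⊤)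
    (U : Subgroup G) (hU : IsKleinFour U) (hUA : U ≤ Subgroup.normalizer (A : Set G))
    (hΓ : Cfsg.PRankLE 2 1 ↥(⨆ V : {V : Subgroup G // V ≤ U ∧ V ≠ ⊥}, A ⊓ Subgroup.normalizer ((V : Subgroup G) : Set G)) ∧
      ¬ Cfsg.PRankLE 2 0 ↥(⨆ V : {V : Subgroup G // V ≤ U ∧ V ≠ ⊥}, A ⊓ Subgroup.normalizer ((V : Subgroup G) : Set G))) :
    Cfsg.PRankLE 2 1 A ∧ ¬ Cfsg.PRankLE 2 0 A := by
  set Γ : Subgroup G := ⨆ V : {V : Subgroup G // V ≤ U ∧ V ≠ ⊥},
    A ⊓ Subgroup.normalizer ((V : Subgroup G) : Set G) with hdef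
  have hperf : Group.IsPerfect ↥A := by
    have h := Cfsg.Agent.Components.layer_commutator_eq_self (G := ↥A)
    rw [hA] at h
    exact ⟨by rw [_root_.commutator_def, h]⟩
  refine ⟨Cfsg.Agent.Perm.FourAct.pRankLE_one_of_four_action A U hperf hU hUA ?_, ?_⟩
  · intro u hu hu1 y hy z hz hy2 hy1 hz2 hz1 hyz huy huz
    have hmem : ∀ g ∈ A, u * g = g * u → g ∈ Γ := by
      intro g hg hgu
      refine Subgroup.mem_iSup_of_mem ⟨Subgroup.zpowers u, Subgroup.zpowers_le.2 hu,
        Subgroup.zpowers_ne_bot.2 hu1⟩ (Subgroup.mem_inf.2 ⟨hg, ?_⟩)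
      refine Subgroup.centralizer_le_normalizer _ ?_
      rw [Subgroup.mem_centralizer_iff]
      rintro _ ⟨k, rfl⟩
      exact (Commute.zpow_left hgu k).eq
    have := Cfsg.Agent.Perm.FourAct.eq_of_pRankLE_one hΓ.1 (y := ⟨y, hmem y hy huy⟩)
      (z := ⟨z, hmem z hz huz⟩) (Subtype.ext hy2) (fun h => hy1 (congrArg Subtype.val h))
      (Subtype.ext hz2) (fun h => hz1 (congrArg Subtype.val h)) (Subtype.ext hyz)
    exact congrArg Subtype.val this
  · intro hA0
    refine hΓ.2 fun F hFc hF2 => ?_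
    have hle : Γ ≤ A := iSup_le fun V => inf_le_left
    have hinj := Subgroup.inclusion_injective hle
    rw [← Subgroup.card_map_of_injective hinj (K := F)]
    haveI := hFc
    refine hA0 _ inferInstance ?_
    rintro _ ⟨f, hf, rfl⟩
    rw [← map_pow, hF2 f hf, map_one]
end Cfsg.Agent.S1915
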