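import Cfsg.Statements.S1921
import Cfsg.Agent.Lib.Components.Basic
import Cfsg.Agent.Lib.Coprime.Action

set_option autoImplicit false
open Cfsg

namespace Cfsg.Agent.S1921

/-- Let a be an involution of a finite group H and L a component of H with a L a⁻¹ ≠ L; put M = ⟨L, aLa⁻¹⟩ and let J be the subgroup generated by the elements x · a x a⁻¹ with x ∈ L (the diagonal). Then every element of M outside J·Z(M) generates M together with J. -/
theorem result {H : Type*} [Group H] [Finite H] (a : H) (ha : orderOf a = 2) (L : Subgroup H) (hL : Cfsg.IsComponent L)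
    (hLa : L.map (MulAut.conj a).toMonoidHom ≠ L) (x : H) (hxM : x ∈ L ⊔ L.map (MulAut.conj a).toMonoidHom)
    (hxJ : x ∉ Subgroup.closure {y : H | ∃ l ∈ L, y = l * (a * l * a⁻¹)} ⊔
      ((L ⊔ L.map (MulAut.conj a).toMonoidHom) ⊓ Subgroup.centralizer ((L ⊔ L.map (MulAut.conj a).toMonoidHom : Subgroup H) : Set H))) :
    Subgroup.closure {y : H | ∃ l ∈ L, y = l * (a * l * a⁻¹)} ⊔ Subgroup.zpowers x = L ⊔ L.map (MulAut.conj a).toMonoidHom := by
  set f := (MulAut.conj a).toMonoidHom with hf
  set L' := L.map f with hL'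
  set J := Subgroup.closure {y : H | ∃ l ∈ L, y = l * (a * l * a⁻¹)} with hJ
  have hL'c : Cfsg.IsComponent L' :=
    ⟨hL.1.map (MulAut.conj a).surjective, Components.isQuasisimple_of_mulEquiv
      (L.equivMapOfInjective f (MulAut.conj a).injective) hL.2⟩
  have hcomm : ∀ l ∈ L, ∀ l' ∈ L', l * l' = l' * l := by
    rcases Components.component_eq_or_commutator_eq_bot hL hL'c with h | h
    · exact absurd h.symm hLa
    · exact fun l hl l' hl' => commutatorElement_eq_one_iff_mul_comm.mp
        (Subgroup.mem_bot.mp (h ▸ Subgroup.commutator_mem_commutator hl hl'))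
  have hgen : ∀ k ∈ L, k * (a * k * a⁻¹) ∈ J := fun k hk => Subgroup.subset_closure ⟨k, hk, rfl⟩
  have hJM : J ≤ L ⊔ L' := by
    rw [hJ, Subgroup.closure_le]
    rintro _ ⟨l, hl, rfl⟩
    exact Subgroup.mul_mem_sup hl ⟨l, hl, rfl⟩
  refine le_antisymm (sup_le hJM (Subgroup.zpowers_le.mpr hxM)) ?_
  set K := J ⊔ Subgroup.zpowers x with hK
  obtain ⟨m, hm, _, ⟨k, hk, rfl⟩, rfl⟩ := Coprime.exists_mul_of_mem_sup
    (H := L') (fun l' hl' => Subgroup.centralizer_le_normalizer (L : Set H)
      (Subgroup.mem_centralizer_iff.mpr fun l hl => hcomm l hl l' hl')) hxM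
  set x := m * f k with hx
  set t := m * k⁻¹ with ht
  have htL : t ∈ L := mul_mem hm (inv_mem hk)
  have htx : x = t * (k * f k) := by rw [hx, ht]; group
  have htK : t ∈ K := by
    have h := K.mul_mem (Subgroup.mem_sup_right (Subgroup.mem_zpowers x))
      (K.inv_mem (Subgroup.mem_sup_left (hgen k hk)))
    have e : x * (k * f k)⁻¹ = t := by rw [htx, mul_inv_cancel_right]
    exact e ▸ h
  set N : Subgroup L := Subgroup.normalClosure {(⟨t, htL⟩ : L)} with hN
  have hconj : ∀ l ∈ L, ∀ y ∈ L, y ∈ K → l * y * l⁻¹ ∈ K := by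
    intro l hl y hy hyK
    have h := K.mul_mem (K.mul_mem (Subgroup.mem_sup_left (hgen l hl)) hyK)
      (K.inv_mem (Subgroup.mem_sup_left (hgen l hl)))
    have e : l * (a * l * a⁻¹) * y * (l * (a * l * a⁻¹))⁻¹ = l * y * l⁻¹ := by
      have h1 := hcomm y hy (f l) ⟨l, hl, rfl⟩
      change y * (a * l * a⁻¹) = a * l * a⁻¹ * y at h1
      calc l * (a * l * a⁻¹) * y * (l * (a * l * a⁻¹))⁻¹
          = l * ((a * l * a⁻¹) * y) * (a * l * a⁻¹)⁻¹ * l⁻¹ := by group
        _ = l * y * l⁻¹ := by rw [← h1]; group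
    exact e ▸ h
  have hNK : N ≤ K.subgroupOf L := by
    have : (K.subgroupOf L).Normal := ⟨fun y hy g => hconj g g.2 y y.2 hy⟩
    refine Subgroup.normalClosure_le_normal ?_
    intro y hy
    rw [Set.mem_singleton_iff] at hy
    rw [hy]
    exact htK
  have hLK : L ≤ K := by
    rcases Components.normal_eq_top_or_le_center hL.2 N with h | h
    · exact Subgroup.subgroupOf_eq_top.mp (top_le_iff.mp (h.ge.trans hNK))
    · exfalso
      have hc := Subgroup.mem_center_iff.mp (h (Subgroup.subset_normalClosure (Set.mem_singleton _)))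
      refine hxJ ?_
      rw [htx]
      refine mul_mem (Subgroup.mem_sup_right ⟨Subgroup.mem_sup_left htL, ?_⟩) (Subgroup.mem_sup_left (hgen k hk))
      have hle : L ⊔ L' ≤ Subgroup.centralizer {t} := sup_le
        (fun l hl => Subgroup.mem_centralizer_singleton_iff.mpr (congrArg Subtype.val (hc ⟨l, hl⟩)))
        (fun l hl => Subgroup.mem_centralizer_singleton_iff.mpr (hcomm t htL l hl).symm)
      exact Subgroup.mem_centralizer_iff.mpr fun y hy => Subgroup.mem_centralizer_singleton_iff.mp (hle hy)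
  refine sup_le hLK ?_
  rintro _ ⟨l, hl, rfl⟩
  have h := K.mul_mem (K.inv_mem (hLK hl)) (Subgroup.mem_sup_left (hgen l hl))
  rw [inv_mul_cancel_left] at h
  exact h

end Cfsg.Agent.S1921
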