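import Cfsg.Statements.S1922
import Mathlib.GroupTheory.IndexNormal
import Cfsg.Agent.T51.DihedralPair

set_option autoImplicit false
open Cfsg

namespace Cfsg.Agent.S1922

open Cfsg.Agent.T51

theorem mem_conj_map {G : Type*} [Group G] (H : Subgroup G) (g y : G) :
    y ∈ H.map (MulAut.conj g).toMonoidHom ↔ g⁻¹ * y * g ∈ H := by
  constructor
  · rintro ⟨x, hx, rfl⟩; simpa [mul_assoc] using hx
  · intro h; exact ⟨_, h, by simp [mul_assoc]⟩

theorem centralizer_le {G : Type*} [Group G] {z : G} {H : Subgroup G}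
    (h0 : ∀ g : G, g⁻¹ * z * g ∈ H ↔ g ∈ H) {c : G} (hc : Commute c z) : c ∈ H := by
  rw [← h0, mul_assoc, ← hc.eq, ← mul_assoc, inv_mul_cancel, one_mul]
  simpa using (h0 1).mpr H.one_mem

/-- A conjugate outside `H` gives an odd dihedral pair with one inside. -/
theorem cross {G : Type*} [Group G] [Finite G] {z : G} (hz : z * z = 1) {H : Subgroup G}
    (h0 : ∀ g : G, g⁻¹ * z * g ∈ H ↔ g ∈ H)
    (h1 : ∀ t : G, IsConj z t → t ≠ z → Commute t z → ∀ g : G, g⁻¹ * (z * t) * g ∈ H ↔ g ∈ H)
    {h g : G} (hh : h ∈ H) (hg : g ∉ H) :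
    ∃ d : G, d * (h * z * h⁻¹) * d⁻¹ = g * z * g⁻¹ ∧
      ∀ c : G, Commute c (h * z * h⁻¹) → Commute c (g * z * g⁻¹) → Commute c d := by
  have sq : ∀ k : G, (k * z * k⁻¹) * (k * z * k⁻¹) = 1 := fun k => by
    rw [show k * z * k⁻¹ * (k * z * k⁻¹) = k * (z * z) * k⁻¹ by group, hz]; group
  rcases pair_alternative _ _ (sq h) (sq g) with h' | ⟨v, hv, hva, hvu, hc⟩
  · exact h'
  exfalso
  have hvne : v ≠ 1 := fun e => by simp [e] at hv
  have hvH : v ∈ H := by
    have : h⁻¹ * v * h ∈ H := centralizer_le h0 (by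
      have := commute_conj' h hva
      simpa [Commute, mul_assoc] using this)
    simpa [mul_assoc] using H.mul_mem (H.mul_mem hh this) (H.inv_mem hh)
  have hvg : g⁻¹ * v * g ∈ H := centralizer_le h0 (by
    have := commute_conj' g hvu
    simpa [Commute, mul_assoc] using this)
  -- a point `k` such that `v = k (z t) k⁻¹`
  have key : ∀ k : G, Commute v (k * z * k⁻¹) → IsConj z ((k * z * k⁻¹) * v) →
      ∀ x : G, x⁻¹ * v * x ∈ H → k⁻¹ * x ∈ H := by
    intro k hk hconj x hx
    set t := k⁻¹ * ((k * z * k⁻¹) * v) * k with ht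
    have ht1 : t = z * (k⁻¹ * v * k) := by rw [ht]; group
    have htc : IsConj z t := hconj.trans (isConj_iff.mpr ⟨k⁻¹, by rw [ht, inv_inv]⟩)
    have hzt : z * t = k⁻¹ * v * k := by rw [ht1, ← mul_assoc, hz, one_mul]
    have htne : t ≠ z := fun e => hvne (by
      have h2 : k⁻¹ * v * k = 1 := by rw [← hzt, e, hz]
      calc v = k * (k⁻¹ * v * k) * k⁻¹ := by group
        _ = 1 := by rw [h2]; group)
    have htcomm : Commute t z := by
      have h2 : Commute (k⁻¹ * v * k) z := by
        have := commute_conj' k hk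
        simpa [Commute, mul_assoc] using this
      rw [ht1]; exact (Commute.refl z).mul_left h2
    refine (h1 t htc htne htcomm _).mp ?_
    rw [hzt]; convert hx using 1; group
  rcases hc with hc | hc
  · have := key g hvu ((isConj_iff.mpr ⟨g, rfl⟩).trans hc) 1 (by simpa using hvH)
    exact hg (by simpa using this)
  · have := key h hva ((isConj_iff.mpr ⟨g, rfl⟩).trans hc) g hvg
    exact hg (by simpa using H.mul_mem hh this)

theorem odd_class (n : ℕ) : ∀ {G : Type*} [Group G] [Finite G] (z : G) (H : Subgroup G),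
    Nat.card G = n → orderOf z = 2 → H ≠ ⊤ → (∀ g : G, g⁻¹ * z * g ∈ H ↔ g ∈ H) →
    (∀ t : G, IsConj z t → t ≠ z → Commute t z → ∀ g : G, g⁻¹ * (z * t) * g ∈ H ↔ g ∈ H) →
    ¬ 2 ∣ Nat.card {x : G | IsConj z x} := by
  induction n using Nat.strong_induction_on with | _ n ih => ?_
  intro G _ _ z H hn hz hH h0 h1 heven
  have : Fact (Nat.Prime 2) := ⟨Nat.prime_two⟩
  have hz1 : z ≠ 1 := fun e => by simp [e] at hz
  have hz2 : z * z = 1 := by rw [← sq, ← hz, pow_orderOf_eq_one]
  rw [card_conjugates] at heven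
  set C := Subgroup.centralizer ({z} : Set G) with hC
  obtain ⟨P₀⟩ := (inferInstance : Nonempty (Sylow 2 C))
  set a := (Nat.card C).factorization 2 with ha
  let P : Subgroup G := (P₀ : Subgroup C).map C.subtype
  have hPcard : Nat.card P = 2 ^ a := by
    rw [Subgroup.card_map_of_injective C.subtype_injective, P₀.card_eq_multiplicity]
  have hdvd : 2 ^ (a + 1) ∣ Nat.card G := by
    rw [← C.card_mul_index, pow_succ]
    exact mul_dvd_mul (Nat.ordProj_dvd _ _) heven
  have hnot : ¬ 2 ^ (a + 1) ∣ Nat.card C :=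
    Nat.pow_succ_factorization_not_dvd Nat.card_pos.ne' Nat.prime_two
  obtain ⟨K, hK, hPK⟩ := Sylow.exists_subgroup_card_pow_succ hdvd hPcard
  have hzP₀ : (⟨z, Subgroup.mem_centralizer_singleton_iff.mpr rfl⟩ : C) ∈ (P₀ : Subgroup C) := by
    set z' : C := ⟨z, Subgroup.mem_centralizer_singleton_iff.mpr rfl⟩
    have hp : IsPGroup 2 (Subgroup.zpowers z') := by
      refine IsPGroup.of_card (n := 1) ?_
      rw [Nat.card_zpowers, pow_one, Subgroup.orderOf_mk, hz]
    have hnorm : (Subgroup.zpowers z').Normal := by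
      refine ⟨fun x hx g => ?_⟩
      obtain ⟨k, rfl⟩ := Subgroup.mem_zpowers_iff.mp hx
      have hgz : Commute g z' := Subtype.ext (Subgroup.mem_centralizer_singleton_iff.mp g.2)
      rw [(hgz.zpow_right k).eq, mul_inv_cancel_right]
      exact Subgroup.zpow_mem _ (Subgroup.mem_zpowers _) k
    exact hp.le_sylow_of_normal P₀ (Subgroup.mem_zpowers z')
  have hzP : z ∈ P := ⟨_, hzP₀, rfl⟩
  obtain ⟨m, hmK, hmP⟩ : ∃ m ∈ K, m ∉ P := by
    by_contra hc; push Not at hc
    have := Subgroup.card_le_of_le (H := K) (K := P) hc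
    rw [hK, hPcard, pow_succ] at this
    have := Nat.two_pow_pos a
    omega
  have hind : (P.subgroupOf K).index = 2 := by
    show P.relIndex K = 2
    have h := Subgroup.relIndex_mul_relIndex ⊥ P K bot_le hPK
    rw [Subgroup.relIndex_bot_left, Subgroup.relIndex_bot_left, hPcard, hK, pow_succ] at h
    exact Nat.eq_of_mul_eq_mul_left (Nat.two_pow_pos a) h
  have hPC : P ≤ C := Subgroup.map_subtype_le _
  have hmm : m * m ∈ P := by
    have := Subgroup.mul_self_mem_of_index_two hind (⟨m, hmK⟩ : K)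
    exact this
  have hconjP : ∀ y ∈ P, m⁻¹ * y * m ∈ P := by
    intro y hy
    have : (P.subgroupOf K).Normal := Subgroup.normal_of_index_eq_two hind
    have := this.conj_mem ⟨y, hPK hy⟩ hy (⟨m, hmK⟩ : K)⁻¹
    simpa [Subgroup.mem_subgroupOf] using this
  set t := m * z * m⁻¹ with ht
  have htz : Commute t z := by
    -- `z` commutes with `m⁻¹ z m`, conjugate by `m`
    have hc : Commute (m⁻¹ * z * m) z := Subgroup.mem_centralizer_singleton_iff.mp (hPC (hconjP z hzP))
    have := (commute_conj m hc).symm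
    simpa [Commute, ht, mul_assoc] using this
  have htne : t ≠ z := by
    intro e
    have hmC : m ∈ C := Subgroup.mem_centralizer_singleton_iff.mpr (mul_inv_eq_iff_eq_mul.mp e)
    have hKC : K ≤ C := by
      intro k hk
      by_cases hkP : k ∈ P
      · exact hPC hkP
      · have hmk : (⟨m, hmK⟩ : K)⁻¹ * ⟨k, hk⟩ ∈ P.subgroupOf K := by
          refine (Subgroup.mul_mem_iff_of_index_two hind).mpr ?_
          constructor
          · intro h; exact absurd (by simpa [Subgroup.mem_subgroupOf] using h) hmP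
          · intro h; exact absurd h hkP
        simpa using C.mul_mem hmC (hPC hmk)
    exact hnot (hK ▸ Subgroup.card_dvd_of_le hKC)
  set w := z * t with hw
  have hwC : 2 ^ (a + 1) ∣ Nat.card (Subgroup.centralizer ({w} : Set G)) := by
    rw [← hK]
    refine Subgroup.card_dvd_of_le fun k hk => ?_
    have hPw : ∀ y ∈ P, Commute y w := fun y hy => by
      have h1' : Commute y z := Subgroup.mem_centralizer_singleton_iff.mp (hPC hy)
      have h2' : Commute (m⁻¹ * y * m) z := Subgroup.mem_centralizer_singleton_iff.mp (hPC (hconjP y hy))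
      have h3' := commute_conj m h2'
      refine h1'.mul_right ?_
      simpa [Commute, ht, mul_assoc] using h3'
    have hmw : Commute m w := by
      rw [commute_iff_eq, ← mul_inv_eq_iff_eq_mul]
      have hc : Commute (m * m) z := Subgroup.mem_centralizer_singleton_iff.mp (hPC hmm)
      calc m * w * m⁻¹ = t * (m * m * z * (m * m)⁻¹) := by rw [hw, ht]; group
        _ = t * z := by rw [hc.eq, mul_inv_cancel_right]
        _ = w := by rw [hw, htz.eq]
    rw [Subgroup.mem_centralizer_singleton_iff]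
    by_cases hkP : k ∈ P
    · exact hPw k hkP
    · have hmk : (⟨m, hmK⟩ : K)⁻¹ * ⟨k, hk⟩ ∈ P.subgroupOf K := by
        refine (Subgroup.mul_mem_iff_of_index_two hind).mpr ?_
        constructor
        · intro h; exact absurd (by simpa [Subgroup.mem_subgroupOf] using h) hmP
        · intro h; exact absurd h hkP
      have := hmw.mul_left (hPw _ hmk)
      simpa using this.eq
  have hwnot : ¬ IsConj z w := by
    intro hc
    have h := card_conjugates z
    have h' := card_conjugates w
    have hset : {x : G | IsConj z x} = {x : G | IsConj w x} :=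
      Set.ext fun x => ⟨fun hx => hc.symm.trans hx, fun hx => hc.trans hx⟩
    rw [hset, h'] at h
    have e : Nat.card (Subgroup.centralizer ({w} : Set G)) = Nat.card C := by
      apply Nat.eq_of_mul_eq_mul_right (Nat.pos_of_ne_zero C.index_ne_zero_of_finite)
      rw [C.card_mul_index, hC, ← h, Subgroup.card_mul_index]
    exact hnot (e ▸ hwC)
  have htconj : IsConj z t := isConj_iff.mpr ⟨m, rfl⟩
  have hwfix := h1 t htconj htne htz
  have hwH : w ∈ H := by simpa using (hwfix 1).mpr H.one_mem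
  have hcw : ∀ c : G, Commute c w → c ∈ H := by
    intro c hc
    refine (hwfix c).mp ?_
    rw [← hw, mul_assoc, ← hc.eq, ← mul_assoc, inv_mul_cancel, one_mul]
    exact hwH
  have hw2 : w * w = 1 := by
    have htt : t * t = 1 := by
      rw [ht, show m * z * m⁻¹ * (m * z * m⁻¹) = m * (z * z) * m⁻¹ by group, hz2]; group
    rw [hw, show z * t * (z * t) = z * (t * z) * t by group, htz.eq,
      show z * (z * t) * t = (z * z) * (t * t) by group, hz2, htt, one_mul]
  obtain ⟨g, hg⟩ : ∃ g, g ∉ H := by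
    by_contra hc; push Not at hc; exact hH (top_unique fun x _ => hc x)
  set u := g * z * g⁻¹ with hu
  have hu2 : u * u = 1 := by
    rw [hu, show g * z * g⁻¹ * (g * z * g⁻¹) = g * (z * z) * g⁻¹ by group, hz2]; group
  have huC : IsConj z u := isConj_iff.mpr ⟨g, rfl⟩
  rcases pair_alternative w u hw2 hu2 with ⟨d, hd, -⟩ | ⟨v, hv, hvw, hvu, hcj⟩
  · exact hwnot (huC.trans (isConj_iff.mpr ⟨d, hd⟩).symm)
  have hvH : v ∈ H := hcw v hvw
  have hvne : v ≠ 1 := fun e => by simp [e] at hv
  rcases hcj with hcj | hcj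
  · -- `u * v` is a conjugate of `u`
    set t' := g⁻¹ * (u * v) * g with ht'
    have ht'c : IsConj z t' := (huC.trans hcj).trans (isConj_iff.mpr ⟨g⁻¹, by rw [ht', inv_inv]⟩)
    have hzt' : z * t' = g⁻¹ * v * g := by
      rw [ht', hu, show z * (g⁻¹ * (g * z * g⁻¹ * v) * g) = z * z * (g⁻¹ * v * g) by group, hz2, one_mul]
    have hne : t' ≠ z := fun e => hvne (by
      have h2 : g⁻¹ * v * g = 1 := by rw [← hzt', e, hz2]
      calc v = g * (g⁻¹ * v * g) * g⁻¹ := by group
        _ = 1 := by rw [h2]; group)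
    have hcomm : Commute t' z := by
      have h2 : Commute (u * v) u := (Commute.refl u).mul_left hvu
      have := commute_conj' g h2
      simpa [Commute, ht', hu, mul_assoc] using this
    have := (h1 t' ht'c hne hcomm g⁻¹).mp (by rw [hzt']; simpa [mul_assoc] using hvH)
    exact hg (by simpa using H.inv_mem this)
  -- `s = w * v` is a conjugate of `z`
  set s := w * v with hs
  have hsc : IsConj z s := huC.trans hcj
  have hsv : Commute v s := hvw.mul_right (Commute.refl v)
  have hsH : s ∈ H := H.mul_mem hwH hvH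
  obtain ⟨h, hh⟩ := isConj_iff.mp hsc
  have hhH : h ∈ H := by
    have := (h0 h⁻¹).mp (by rw [inv_inv, hh]; exact hsH)
    simpa using H.inv_mem this
  by_cases hvZ : Subgroup.centralizer ({v} : Set G) = ⊤
  · -- then `w` and `s` have the same centralizer
    have hv' : ∀ x : G, Commute x v := fun x =>
      Subgroup.mem_centralizer_singleton_iff.mp (hvZ ▸ Subgroup.mem_top x)
    have hCs : Subgroup.centralizer ({s} : Set G) = Subgroup.centralizer ({w} : Set G) := by
      ext x
      rw [Subgroup.mem_centralizer_singleton_iff, Subgroup.mem_centralizer_singleton_iff]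
      constructor
      · intro hx
        have h2 : Commute x (s * v⁻¹) := Commute.mul_right hx (hv' x).inv_right
        simpa [hs] using h2.eq
      · intro hx; exact (Commute.mul_right hx (hv' x)).eq
    have h' := card_conjugates s
    have hset : {x : G | IsConj z x} = {x : G | IsConj s x} :=
      Set.ext fun x => ⟨fun hx => hsc.symm.trans hx, fun hx => hsc.trans hx⟩
    rw [← hset, card_conjugates] at h'
    have e : Nat.card (Subgroup.centralizer ({s} : Set G)) = Nat.card C := by
      apply Nat.eq_of_mul_eq_mul_right (Nat.pos_of_ne_zero C.index_ne_zero_of_finite)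
      rw [C.card_mul_index, hC, h', Subgroup.card_mul_index]
    exact hnot (e ▸ hCs ▸ hwC)
  set G' := Subgroup.centralizer ({v} : Set G) with hG'
  have hlt : Nat.card G' < n := by
    rw [← hn]
    exact Subgroup.one_lt_index_of_ne_top hvZ |> fun h => by
      rw [← G'.card_mul_index]; exact lt_mul_of_one_lt_right Nat.card_pos h
  have hmemG' : ∀ x : G, x ∈ G' ↔ Commute v x := fun x =>
    Subgroup.mem_centralizer_singleton_iff.trans ⟨fun e => Eq.symm e, fun e => Eq.symm e⟩
  let s' : G' := ⟨s, (hmemG' s).mpr hsv⟩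
  let H' : Subgroup G' := H.subgroupOf G'
  have huH : u ∉ H := fun hh' => hg (by
    have := (h0 g⁻¹).mp (by rw [inv_inv]; exact hh')
    simpa using H.inv_mem this)
  have hH' : H' ≠ ⊤ := fun e =>
    huH (Subgroup.mem_subgroupOf.mp (e ▸ Subgroup.mem_top (⟨u, (hmemG' u).mpr hvu⟩ : G')))
  have tr : ∀ x : G, x⁻¹ * s * x = (h⁻¹ * x)⁻¹ * z * (h⁻¹ * x) := fun x => by rw [← hh]; group
  have h0' : ∀ x : G', x⁻¹ * s' * x ∈ H' ↔ x ∈ H' := by
    intro x
    show (x : G)⁻¹ * s * x ∈ H ↔ (x : G) ∈ H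
    rw [tr, h0, Subgroup.mul_mem_cancel_left _ (H.inv_mem hhH)]
  have hsz : orderOf s = 2 := by
    rw [← hz, ← hh]; exact (MulEquiv.orderOf_eq (MulAut.conj h) z)
  have h1' : ∀ t : G', IsConj s' t → t ≠ s' → Commute t s' → ∀ x : G', x⁻¹ * (s' * t) * x ∈ H' ↔ x ∈ H' := by
    intro t ht' hne hcomm x
    show (x : G)⁻¹ * (s * t) * x ∈ H ↔ (x : G) ∈ H
    set t₀ := h⁻¹ * (t : G) * h with ht₀
    have hconj : IsConj z t₀ := by
      have h2 : IsConj s (t : G) := MonoidHom.map_isConj G'.subtype ht'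
      exact (hsc.trans h2).trans (isConj_iff.mpr ⟨h⁻¹, by rw [ht₀, inv_inv]⟩)
    have hst : (s : G) * t = h * (z * t₀) * h⁻¹ := by rw [← hh, ht₀]; group
    have hne' : t₀ ≠ z := fun e => hne (Subtype.ext (by
      show (t : G) = s
      rw [← hh, ← e, ht₀]; group))
    have hcomm' : Commute t₀ z := by
      have h2 : Commute (t : G) s := congrArg Subtype.val hcomm.eq
      have := commute_conj' h h2
      rw [← hh] at this
      simpa [Commute, ht₀, mul_assoc] using this
    rw [hst, show (x : G)⁻¹ * (h * (z * t₀) * h⁻¹) * x = (h⁻¹ * x)⁻¹ * (z * t₀) * (h⁻¹ * x) by group,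
      h1 t₀ hconj hne' hcomm', Subgroup.mul_mem_cancel_left _ (H.inv_mem hhH)]
  have hind' := ih _ hlt s' H' rfl (by rw [Subgroup.orderOf_mk]; exact hsz) hH' h0' h1'
  -- the conjugates of `z` commuting with `v` are the conjugates of `s` in `G'`
  have sameclass : ∀ y : G, IsConj z y → Commute v y → ∃ c : G, Commute v c ∧ c * s * c⁻¹ = y := by
    intro y hy hvy
    obtain ⟨b, rfl⟩ := isConj_iff.mp hy
    obtain ⟨d, hd, hdc⟩ := cross hz2 h0 h1 hhH hg
    by_cases hb : b ∈ H
    · obtain ⟨e, he, hec⟩ := cross hz2 h0 h1 hb hg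
      refine ⟨e⁻¹ * d, ((hec v hvy hvu).inv_right).mul_right (hdc v (hh ▸ hsv) hvu), ?_⟩
      rw [← hh]
      calc e⁻¹ * d * (h * z * h⁻¹) * (e⁻¹ * d)⁻¹ = e⁻¹ * (d * (h * z * h⁻¹) * d⁻¹) * e := by group
        _ = e⁻¹ * (e * (b * z * b⁻¹) * e⁻¹) * e := by rw [hd, he]
        _ = b * z * b⁻¹ := by group
    · obtain ⟨e, he, hec⟩ := cross hz2 h0 h1 hhH hb
      exact ⟨e, hec v (hh ▸ hsv) hvy, hh ▸ he⟩
  let eqv : {x : G' | IsConj s' x} ≃ {x : G | x ∈ {x : G | IsConj z x} ∧ Commute v x} := {
    toFun := fun x => ⟨(x.1 : G), hsc.trans (MonoidHom.map_isConj G'.subtype x.2), (hmemG' _).mp x.1.2⟩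
    invFun := fun y => ⟨⟨y.1, (hmemG' _).mpr y.2.2⟩, by
      obtain ⟨c, hc, hc'⟩ := sameclass y.1 y.2.1 y.2.2
      exact isConj_iff.mpr ⟨⟨c, (hmemG' _).mpr hc⟩, Subtype.ext hc'⟩⟩
    left_inv := fun x => rfl
    right_inv := fun y => rfl }
  apply hind'
  rw [Nat.card_congr eqv, ← card_parity_centralized v
    (by rw [← sq, ← hv, pow_orderOf_eq_one]) _ (fun x hx => hx.trans (isConj_iff.mpr ⟨v, rfl⟩)),
    card_conjugates]
  exact heven

/-- Let z be an involution of a finite group G and H a proper subgroup such that z lies in gHg⁻¹ exactly when g ∈ H. Then the following are equivalent: (1) for every conjugate t ≠ z of z commuting with z, the product zt lies in gHg⁻¹ exactly when g ∈ H; (2) z lies in the centre of some Sylow 2-subgroup of G, and for every conjugate t ≠ z of z commuting with z, the centralizer of zt is contained in H. -/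
theorem result {G : Type*} [Group G] [Finite G] (z : G) (hz : orderOf z = 2) (H : Subgroup G) (hH : H ≠ ⊤)
    (h0 : ∀ g : G, z ∈ H.map (MulAut.conj g).toMonoidHom ↔ g ∈ H) :
    (∀ t : G, IsConj z t → t ≠ z → t * z = z * t → ∀ g : G, z * t ∈ H.map (MulAut.conj g).toMonoidHom ↔ g ∈ H) ↔
      ((∃ P : Sylow 2 G, z ∈ (Subgroup.center ↥(P : Subgroup G)).map (P : Subgroup G).subtype) ∧
        ∀ t : G, IsConj z t → t ≠ z → t * z = z * t → Subgroup.centralizer ({z * t} : Set G) ≤ H) := by
  have h0' : ∀ g : G, g⁻¹ * z * g ∈ H ↔ g ∈ H := fun g => by rw [← mem_conj_map]; exact h0 g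
  have hz2 : z * z = 1 := by rw [← sq, ← hz, pow_orderOf_eq_one]
  constructor
  · intro h1
    have h1' : ∀ t : G, IsConj z t → t ≠ z → Commute t z → ∀ g : G, g⁻¹ * (z * t) * g ∈ H ↔ g ∈ H :=
      fun t a b c g => by rw [← mem_conj_map]; exact h1 t a b c g
    refine ⟨?_, fun t a b c => ?_⟩
    · have hodd := odd_class _ z H rfl hz hH h0' h1'
      rw [card_conjugates] at hodd
      have : Fact (Nat.Prime 2) := ⟨Nat.prime_two⟩
      set C := Subgroup.centralizer ({z} : Set G) with hC
      obtain ⟨P₀⟩ := (inferInstance : Nonempty (Sylow 2 C))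
      obtain ⟨P, hP⟩ := (P₀.2.map C.subtype).exists_le_sylow
      refine ⟨P, ?_⟩
      have hPeq : (P : Subgroup G) = (P₀ : Subgroup C).map C.subtype := by
        refine (Subgroup.eq_of_le_of_card_ge hP ?_).symm
        rw [Subgroup.card_map_of_injective C.subtype_injective, P.card_eq_multiplicity,
          P₀.card_eq_multiplicity, ← C.card_mul_index,
          Nat.factorization_mul Nat.card_pos.ne' C.index_ne_zero_of_finite, Finsupp.add_apply,
          Nat.factorization_eq_zero_of_not_dvd hodd, add_zero]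
      have hzP : z ∈ (P : Subgroup G) := by
        set z' : C := ⟨z, Subgroup.mem_centralizer_singleton_iff.mpr rfl⟩
        have hp : IsPGroup 2 (Subgroup.zpowers z') := by
          refine IsPGroup.of_card (n := 1) ?_
          rw [Nat.card_zpowers, pow_one, Subgroup.orderOf_mk, hz]
        have hnorm : (Subgroup.zpowers z').Normal := by
          refine ⟨fun x hx g => ?_⟩
          obtain ⟨k, rfl⟩ := Subgroup.mem_zpowers_iff.mp hx
          have hgz : Commute g z' := Subtype.ext (Subgroup.mem_centralizer_singleton_iff.mp g.2)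
          rw [(hgz.zpow_right k).eq, mul_inv_cancel_right]
          exact Subgroup.zpow_mem _ (Subgroup.mem_zpowers _) k
        rw [hPeq]
        exact ⟨z', hp.le_sylow_of_normal P₀ (Subgroup.mem_zpowers z'), rfl⟩
      refine ⟨⟨z, hzP⟩, Subgroup.mem_center_iff.mpr fun y => Subtype.ext ?_, rfl⟩
      obtain ⟨y', -, hy'⟩ := (hPeq ▸ y.2 : (y : G) ∈ (P₀ : Subgroup C).map C.subtype)
      show (y : G) * z = z * y
      rw [← hy']
      exact Subgroup.mem_centralizer_singleton_iff.mp y'.2
    · intro x hx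
      have hfix := h1' t a b c
      refine (hfix x).mp ?_
      rw [mul_assoc, ← Subgroup.mem_centralizer_singleton_iff.mp hx, ← mul_assoc, inv_mul_cancel, one_mul]
      simpa using (hfix 1).mpr H.one_mem
  · rintro ⟨⟨P, hzP⟩, h2⟩ t a b c g
    rw [mem_conj_map]
    have hCz : ∀ {x : G}, Commute x z → x ∈ H := fun hx => centralizer_le h0' hx
    have hwH : z * t ∈ H := H.mul_mem (hCz (Commute.refl z)) (hCz c)
    refine ⟨fun hg => ?_, fun hg => H.mul_mem (H.mul_mem (H.inv_mem hg) hwH) hg⟩
    obtain ⟨⟨z₀, hz₀⟩, hcen, hz₀'⟩ := hzP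
    change z₀ = z at hz₀'
    subst hz₀'
    have hPz : ∀ y ∈ (P : Subgroup G), Commute y z₀ := fun y hy =>
      congrArg Subtype.val (Subgroup.mem_center_iff.mp hcen ⟨y, hy⟩)
    have hPH : (P : Subgroup G) ≤ H := fun y hy => hCz (hPz y hy)
    set w' := g⁻¹ * (z₀ * t) * g with hw'
    have hw'2 : IsPGroup 2 (Subgroup.zpowers (⟨w', hg⟩ : H)) := by
      have htt : t * t = 1 := by
        obtain ⟨x, rfl⟩ := isConj_iff.mp a
        rw [show x * z₀ * x⁻¹ * (x * z₀ * x⁻¹) = x * (z₀ * z₀) * x⁻¹ by group, hz2]; group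
      have hsq : (z₀ * t) * (z₀ * t) = 1 := by
        rw [show z₀ * t * (z₀ * t) = z₀ * (t * z₀) * t by group, c,
          show z₀ * (z₀ * t) * t = (z₀ * z₀) * (t * t) by group, hz2, htt, one_mul]
      have : Fact (Nat.Prime 2) := ⟨Nat.prime_two⟩
      intro y
      refine ⟨1, ?_⟩
      obtain ⟨k, hk⟩ := Subgroup.mem_zpowers_iff.mp y.2
      apply Subtype.ext
      apply Subtype.ext
      have hk' : ((y : H) : G) = w' ^ k := by rw [← hk]; rfl
      show ((y : H) : G) ^ (2 ^ 1) = 1
      rw [hk', pow_one, ← zpow_natCast, ← zpow_mul, mul_comm, zpow_mul, zpow_natCast, sq, hw',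
        show g⁻¹ * (z₀ * t) * g * (g⁻¹ * (z₀ * t) * g) = g⁻¹ * ((z₀ * t) * (z₀ * t)) * g by group, hsq]
      simp
    obtain ⟨R, hR⟩ := hw'2.exists_le_sylow
    have : Fact (Nat.Prime 2) := ⟨Nat.prime_two⟩
    obtain ⟨x, hx⟩ := MulAction.exists_smul_eq H R (P.subtype hPH)
    have hmem : (x : G) * w' * (x : G)⁻¹ ∈ (P : Subgroup G) := by
      have : (x * ⟨w', hg⟩ * x⁻¹ : H) ∈ ((P.subtype hPH : Sylow 2 H) : Subgroup H) := by
        rw [← hx, Sylow.coe_subgroup_smul]
        exact ⟨_, hR (Subgroup.mem_zpowers _), rfl⟩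
      exact this
    have hcm : Commute (z₀ * t) ((g * (x : G)⁻¹) * z₀ * (g * (x : G)⁻¹)⁻¹) := by
      have := commute_conj (g * (x : G)⁻¹) (hPz _ hmem)
      simpa [Commute, hw', mul_assoc] using this
    have hin := h2 t a b c (Subgroup.mem_centralizer_singleton_iff.mpr hcm.symm.eq)
    have hk := (h0' (g * (x : G)⁻¹)⁻¹).mp (by rwa [inv_inv])
    simpa [mul_assoc] using H.mul_mem (H.inv_mem hk) x.2

end Cfsg.Agent.S1922
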