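import Cfsg.Statements.S1924
import Mathlib.GroupTheory.SpecificGroups.Dihedral
import Cfsg.Agent.Lib.Transfer.Focal
import Cfsg.Agent.T51.SignTransfer

set_option autoImplicit false
open Cfsg

namespace Cfsg.Agent.S1924

open Cfsg.Agent.T51
open scoped Pointwise

/-- Outside a cyclic subgroup of index two of a dihedral group everything is an involution. -/
theorem sq_eq_one_of_notMem_cyclic {D : Type*} [Group D] [Finite D] {n : ℕ} (hn : 2 ≤ n)
    (e : D ≃* DihedralGroup n) (C : Subgroup D) (hC : IsCyclic C) (hidx : C.index = 2) {x : D}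
    (hx : x ∉ C) : x * x = 1 := by
  have : NeZero n := ⟨by omega⟩
  have hcard : Nat.card C = n := by
    have h := C.card_mul_index
    rw [hidx, Nat.card_congr e.toEquiv, DihedralGroup.nat_card] at h
    omega
  obtain ⟨⟨g, hg⟩, hgen⟩ := hC.exists_generator
  have hord : orderOf (e g) = n := by
    rw [MulEquiv.orderOf_eq, ← Subgroup.orderOf_mk g hg, orderOf_eq_card_of_forall_mem_zpowers hgen, hcard]
  have hmem : ∀ k : ℕ, g ^ k ∈ C := fun k => C.pow_mem hg k
  apply e.injective
  rw [map_mul, map_one]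
  rcases hex : e x with i | i
  · rcases heg : e g with j | j
    · exfalso
      rw [heg] at hord
      -- rotations form `zpowers (r j)`
      have hsub : Subgroup.zpowers (DihedralGroup.r j : DihedralGroup n) ≤
          Subgroup.zpowers (DihedralGroup.r 1) := by
        rw [Subgroup.zpowers_le]
        exact ⟨j.val, by simp⟩
      have heq := Subgroup.eq_of_le_of_card_ge hsub (by
        rw [Nat.card_zpowers, Nat.card_zpowers, hord, DihedralGroup.orderOf_r_one])
      have hi : (DihedralGroup.r i : DihedralGroup n) ∈ Subgroup.zpowers (DihedralGroup.r j) :=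
        heq ▸ ⟨i.val, by simp⟩
      rw [← hex, ← heg, ← mem_powers_iff_mem_zpowers] at hi
      obtain ⟨k, hk⟩ := hi
      change e g ^ k = e x at hk
      rw [← map_pow] at hk
      exact hx (e.injective hk ▸ hmem k)
    · have h2 : n = 2 := by rw [← hord, heg, DihedralGroup.orderOf_sr]
      subst h2
      clear hex; revert i; decide
  · exact DihedralGroup.sr_mul_self i

/-- A consequence of Thompson's transfer lemma. Let G be a finite group, L a subgroup with O²(L) = L, T a Sylow 2-subgroup of L and S a Sylow 2-subgroup of G containing T. Suppose D ≤ S is a dihedral subgroup of order at least 4 (the four-group counts) with D ∩ T = 1 and S = TD as a set of products (so |S| = |T|·|D|), and C ≤ D is cyclic of index 2 in D. If no involution of D outside C is G-conjugate to an involution of the subgroup generated by T and C, and the involution of C is not G-conjugate to any involution of T, then G has a normal subgroup K, containing every Sylow 2-subgroup of L as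 a Sylow 2-subgroup, with G = KD. -/
theorem result {G : Type*} [Group G] [Finite G] (L T S D C : Subgroup G) (hL : Cfsg.pResidual 2 ↥L = ⊤)
    (hTL : T ≤ L) (hT2 : IsPGroup 2 T) (hTsyl : ¬ 2 ∣ T.relIndex L)
    (hS2 : IsPGroup 2 S) (hSsyl : ¬ 2 ∣ S.index) (hTS : T ≤ S)
    (hDS : D ≤ S) (hDih : ∃ n : ℕ, 2 ≤ n ∧ Nonempty (↥D ≃* DihedralGroup n)) (hDT : D ⊓ T = ⊥) (hTD : T ⊔ D = S) (hTDc : Nat.card T * Nat.card D = Nat.card S)
    (hCD : C ≤ D) (hC : IsCyclic ↥C) (hCi : C.relIndex D = 2)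
    (h1 : ∀ x ∈ D, x ∉ C → orderOf x = 2 → ∀ g : G, g * x * g⁻¹ ∈ T ⊔ C → False)
    (h2 : ∀ c ∈ C, orderOf c = 2 → ∀ g : G, g * c * g⁻¹ ∈ T → False) :
    ∃ K : Subgroup G, K.Normal ∧ K ⊔ D = ⊤ ∧
      ∀ T' : Subgroup G, T' ≤ L → IsPGroup 2 T' → ¬ 2 ∣ T'.relIndex L → T' ≤ K ∧ ¬ 2 ∣ T'.relIndex K := by
  classical
  have h2fact : Fact (Nat.Prime 2) := ⟨Nat.prime_two⟩
  obtain ⟨n, hn, ⟨e⟩⟩ := hDih
  have hn0 : NeZero n := ⟨by omega⟩
  have hD2 : IsPGroup 2 D := hS2.to_le hDS
  have hDcard : Nat.card D = 2 * n := by rw [Nat.card_congr e.toEquiv, DihedralGroup.nat_card]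
  have hCcard : Nat.card C = n := by
    have := Subgroup.relIndex_mul_relIndex ⊥ C D bot_le hCD
    rw [Subgroup.relIndex_bot_left, Subgroup.relIndex_bot_left, hCi, hDcard] at this
    omega
  obtain ⟨a, ha⟩ := IsPGroup.iff_card.mp (hS2.to_le (hCD.trans hDS))
  rw [hCcard] at ha
  obtain ⟨k, rfl⟩ : ∃ k, a = k + 1 := ⟨a - 1, by
    rcases a with _ | a
    · simp at ha; omega
    · simp⟩
  obtain ⟨⟨c, hcC⟩, hgen⟩ := hC.exists_generator
  have hcord : orderOf c = 2 ^ (k + 1) := by
    rw [← Subgroup.orderOf_mk c hcC, orderOf_eq_card_of_forall_mem_zpowers hgen, hCcard, ha]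
  set c₀ := c ^ (2 ^ k) with hc₀
  have hc₀ord : orderOf c₀ = 2 := by
    rw [hc₀, orderOf_pow' _ (by positivity), hcord, Nat.gcd_eq_right (pow_dvd_pow 2 k.le_succ), pow_succ,
      Nat.mul_div_cancel_left _ (Nat.two_pow_pos k)]
  set O := Cfsg.pResidual 2 G with hO
  have hLO : L ≤ O := by
    intro x hx
    have h := Transfer.map_pResidual_le (p := 2) L.subtype
    rw [hL] at h
    exact h ⟨⟨x, hx⟩, trivial, rfl⟩
  have hTO : T ≤ O := hTL.trans hLO
  set T₁ := T ⊔ C with hT₁
  have hT₁S : T₁ ≤ S := sup_le hTS (hCD.trans hDS)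
  -- elements of `D` outside `C`
  have hinv : ∀ x ∈ D, x ∉ C → x * x = 1 ∧ orderOf x = 2 := by
    intro x hx hxC
    have h := sq_eq_one_of_notMem_cyclic hn e (C.subgroupOf D)
      ((Subgroup.subgroupOfEquivOfLe hCD).isCyclic.mpr hC) hCi (x := ⟨x, hx⟩) hxC
    have h' : x * x = 1 := congrArg Subtype.val h
    exact ⟨h', orderOf_eq_prime (by rw [sq, h']) fun e' => hxC (e' ▸ C.one_mem)⟩
  obtain ⟨x₀, hx₀D, hx₀C⟩ : ∃ x ∈ D, x ∉ C := by
    by_contra h; push Not at h
    rw [le_antisymm hCD h, Subgroup.relIndex_self] at hCi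
    omega
  have hTDset : ∀ s ∈ S, ∃ t ∈ T, ∃ d ∈ D, t * d = s := by
    intro s hs
    let f : T × D → S := fun q => ⟨q.1 * q.2, S.mul_mem (hTS q.1.2) (hDS q.2.2)⟩
    have hf : Function.Injective f := by
      intro p q h
      exact Subgroup.mul_injective_of_disjoint (disjoint_iff.mpr (inf_comm D T ▸ hDT)) (congrArg Subtype.val h)
    have hb : Function.Bijective f := by
      rw [Nat.bijective_iff_injective_and_card]
      exact ⟨hf, by rw [Nat.card_prod, hTDc]⟩
    obtain ⟨⟨t, d⟩, htd⟩ := hb.2 ⟨s, hs⟩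
    exact ⟨t, t.2, d, d.2, congrArg Subtype.val htd⟩
  have hT₁idx : T₁.relIndex S = 2 := by
    have hne : T₁ ≠ S := fun h => h1 x₀ hx₀D hx₀C (hinv x₀ hx₀D hx₀C).2 1
      (by rw [h]; simpa using hDS hx₀D)
    have hlow : Nat.card T * Nat.card C ≤ Nat.card T₁ := by
      rw [← Nat.card_prod]
      refine Nat.card_le_card_of_injective
        (fun q : T × C => (⟨q.1 * q.2, T₁.mul_mem (Subgroup.mem_sup_left q.1.2) (Subgroup.mem_sup_right q.2.2)⟩ : T₁)) ?_
      intro p q h
      exact Subgroup.mul_injective_of_disjoint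
        (disjoint_iff.mpr (eq_bot_iff.mpr ((inf_le_inf_left T hCD).trans (inf_comm D T ▸ hDT).le))) (congrArg Subtype.val h)
    have h := Subgroup.relIndex_mul_relIndex ⊥ T₁ S bot_le hT₁S
    rw [Subgroup.relIndex_bot_left, Subgroup.relIndex_bot_left, ← hTDc, hDcard] at h
    rw [hCcard] at hlow
    have hle : Nat.card T * n * T₁.relIndex S ≤ Nat.card T * (2 * n) := h ▸ Nat.mul_le_mul_right _ hlow
    have hle2 : T₁.relIndex S ≤ 2 := by
      have : Nat.card T * n * T₁.relIndex S ≤ Nat.card T * n * 2 := by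
        calc _ ≤ Nat.card T * (2 * n) := hle
          _ = _ := by ring
      exact Nat.le_of_mul_le_mul_left this (Nat.mul_pos Nat.card_pos (by omega))
    have h1' : T₁.relIndex S ≠ 1 := fun e' => hne (le_antisymm hT₁S (Subgroup.relIndex_eq_one.mp e'))
    have h0' : T₁.relIndex S ≠ 0 := Subgroup.index_ne_zero_of_finite
    omega
  have hodd : Odd S.index := Nat.odd_iff.mpr (Nat.two_dvd_ne_zero.mp hSsyl)
  set s := cosetSign T₁ with hs
  have hs1 : ∀ x ∈ D, x ∉ C → s x = -1 := by
    intro x hx hxC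
    rw [hs, cosetSign_eq T₁ x 0 S.index (by rw [(hinv x hx hxC).2]; norm_num) ?_ ?_, hodd.neg_one_pow]
    · intro g hg
      exact h1 x hx hxC (hinv x hx hxC).2 g (by simpa using hg)
    · rw [← Subgroup.relIndex_mul_index hT₁S, hT₁idx]; norm_num
  have hsO : O ≤ s.ker := pResidual_le_cosetSign_ker T₁
  have hsC : ∀ x ∈ C, s x = 1 := by
    intro x hx
    have h3 : x₀ * x ∉ C := fun h => hx₀C (by simpa using C.mul_mem h (C.inv_mem hx))
    have := hs1 _ (D.mul_mem hx₀D (hCD hx)) h3
    rw [map_mul, hs1 x₀ hx₀D hx₀C, neg_one_mul, neg_inj] at this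
    exact this
  set K := s.ker with hK
  have hKidx : K.index = 2 := by
    have hsurj : Function.Surjective s := fun u => by
      rcases Int.units_eq_one_or u with rfl | rfl
      · exact ⟨1, map_one _⟩
      · exact ⟨x₀, hs1 x₀ hx₀D hx₀C⟩
    rw [hK, Subgroup.index_ker, MonoidHom.range_eq_top.mpr hsurj, Subgroup.card_top, Nat.card_eq_fintype_card]
    rfl
  have hTK : T ≤ K := hTO.trans hsO
  have hres : O ≤ (Cfsg.pResidual 2 K).map K.subtype := by
    refine Transfer.pResidual_le_iff.mpr fun g hg => ?_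
    have hgK : g ∈ K := hsO (Transfer.mem_pResidual_of_coprime hg)
    exact ⟨⟨g, hgK⟩, Transfer.mem_pResidual_of_coprime (by rwa [Subgroup.orderOf_mk]), rfl⟩
  have hc₀O : c₀ ∉ O := by
    intro hmem
    have hcK : c ∈ K := hsC c hcC
    refine pow_notMem_pResidual k (T.subgroupOf K) (⟨c, hcK⟩ : K) (by rw [Subgroup.orderOf_mk, hcord]) ?_ ?_
      ⟨S.index, hodd, ?_⟩ ?_
    · intro x hx
      obtain ⟨y, hy, hyx⟩ := hres (hTO (Subgroup.mem_subgroupOf.mp hx))
      rwa [Subtype.ext hyx] at hy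
    · intro g hg
      exact h2 c₀ (C.pow_mem hcC _) hc₀ord g (by simpa [Subgroup.mem_subgroupOf] using hg)
    · have hTS' := Subgroup.relIndex_mul_relIndex ⊥ T S bot_le hTS
      rw [Subgroup.relIndex_bot_left, Subgroup.relIndex_bot_left, ← hTDc, hDcard] at hTS'
      have hTidx : T.index = 2 * n * S.index := by
        rw [← Subgroup.relIndex_mul_index hTS, Nat.eq_of_mul_eq_mul_left Nat.card_pos hTS']
      have h := Subgroup.relIndex_mul_index hTK
      rw [hKidx, hTidx, ha] at h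
      apply Nat.eq_of_mul_eq_mul_right Nat.two_pos
      rw [show (T.subgroupOf K).index = T.relIndex K from rfl, h]
      ring
    · obtain ⟨y, hy, hyx⟩ := hres hmem
      have : y = (⟨c, hcK⟩ : K) ^ (2 ^ k) := Subtype.ext (by rw [SubmonoidClass.coe_pow]; exact hyx)
      exact this ▸ hy
  have hSO : S ⊓ O = T := by
    refine le_antisymm (fun y hy => ?_) (le_inf hTS hTO)
    obtain ⟨hyS, hyO⟩ := Subgroup.mem_inf.mp hy
    obtain ⟨t, ht, d, hd, rfl⟩ := hTDset y hyS
    have hdO : d ∈ O := by simpa using O.mul_mem (O.inv_mem (hTO ht)) hyO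
    have hdC : d ∈ C := by
      by_contra h
      have h' : s d = 1 := hsO hdO
      rw [hs1 d hd h] at h'
      exact absurd h' (by decide)
    by_cases hd1 : d = 1
    · simpa [hd1] using ht
    exfalso
    apply hc₀O
    obtain ⟨w, hw, hw2⟩ : ∃ w ∈ Subgroup.zpowers d, orderOf w = 2 := by
      obtain ⟨i, hi⟩ := (hS2.to_le (hCD.trans hDS)) ⟨d, hdC⟩
      obtain ⟨j, -, hj⟩ := (Nat.dvd_prime_pow Nat.prime_two).mp
        (orderOf_dvd_of_pow_eq_one (by simpa using congrArg Subtype.val hi : d ^ (2 ^ i) = 1))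
      obtain ⟨l, rfl⟩ : ∃ l, j = l + 1 := ⟨j - 1, by
        rcases j with _ | j
        · exact absurd (orderOf_eq_one_iff.mp (by simpa using hj)) hd1
        · simp⟩
      refine ⟨d ^ (2 ^ l), Subgroup.pow_mem _ (Subgroup.mem_zpowers d) _, ?_⟩
      rw [orderOf_pow' _ (by positivity), hj, Nat.gcd_eq_right (pow_dvd_pow 2 l.le_succ), pow_succ,
        Nat.mul_div_cancel_left _ (Nat.two_pow_pos l)]
    -- a cyclic group has a unique involution
    obtain ⟨i, hi⟩ : ∃ i : ℤ, c ^ i = w := by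
      obtain ⟨i, hi⟩ := Subgroup.mem_zpowers_iff.mp (hgen ⟨w, Subgroup.zpowers_le.mpr hdC hw⟩)
      exact ⟨i, congrArg Subtype.val hi⟩
    have hdiv : ((2 : ℤ) ^ k) ∣ i := by
      have h2' : c ^ (i * 2) = 1 := by
        rw [zpow_mul, hi]
        exact (zpow_natCast w 2).trans (hw2 ▸ pow_orderOf_eq_one w)
      rw [← orderOf_dvd_iff_zpow_eq_one, hcord] at h2'
      push_cast at h2'
      rw [pow_succ] at h2'
      exact Int.dvd_of_mul_dvd_mul_right two_ne_zero h2'
    obtain ⟨l, rfl⟩ := hdiv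
    have hcw : w = c₀ := by
      rw [← hi, zpow_mul, show ((2 : ℤ) ^ k) = ((2 ^ k : ℕ) : ℤ) by norm_num, zpow_natCast, ← hc₀]
      rcases Int.even_or_odd' l with ⟨r, rfl | rfl⟩
      · exfalso
        have hw1 : w = 1 := by
          rw [← hi, zpow_mul, show ((2 : ℤ) ^ k) = ((2 ^ k : ℕ) : ℤ) by norm_num, zpow_natCast, ← hc₀,
            zpow_mul, show c₀ ^ (2 : ℤ) = 1 from (zpow_natCast c₀ 2).trans (hc₀ord ▸ pow_orderOf_eq_one c₀),
            one_zpow]
        rw [hw1] at hw2; simp at hw2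
      · rw [zpow_add_one, zpow_mul, show c₀ ^ (2 : ℤ) = 1 from (zpow_natCast c₀ 2).trans (hc₀ord ▸ pow_orderOf_eq_one c₀),
          one_zpow, one_mul]
    exact hcw ▸ Subgroup.zpowers_le.mpr hdO hw
  let P : Sylow 2 G := hS2.toSylow hSsyl
  have hPS : (P : Subgroup G) = S := rfl
  refine ⟨O, inferInstance, ?_, ?_⟩
  · have h := Transfer.sylow_sup_pResidual_eq_top P
    rw [hPS] at h
    rw [eq_top_iff, ← h]
    refine sup_le ?_ le_sup_left
    rw [← hTD]
    exact sup_le (hTO.trans le_sup_left) le_sup_right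
  · intro T' hT'L hT'2 hT'syl
    refine ⟨hT'L.trans hLO, ?_⟩
    obtain ⟨Q, hQ⟩ := Transfer.exists_sylow_subgroupOf_normal P O
    have hcardQ : Nat.card Q = Nat.card T := by
      rw [← Nat.card_congr (Subgroup.subgroupOfEquivOfLe (hTO)).toEquiv]
      congr 1
      rw [hQ, hPS, ← Subgroup.inf_subgroupOf_right, hSO]
    have hsame : Nat.card T' = Nat.card T := by
      have f : ∀ U : Subgroup G, U ≤ L → IsPGroup 2 U → ¬ 2 ∣ U.relIndex L →
          Nat.card U = 2 ^ (Nat.card L).factorization 2 := fun U hU hU2 hUs => by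
        have hp : IsPGroup 2 (U.subgroupOf L) := hU2.comap_subtype
        rw [← Nat.card_congr (Subgroup.subgroupOfEquivOfLe hU).toEquiv,
          ← (hp.toSylow hUs).card_eq_multiplicity]
        rfl
      rw [f T' hT'L hT'2 hT'syl, f T hTL hT2 hTsyl]
    intro hdiv
    have h := Subgroup.relIndex_mul_relIndex ⊥ T' O bot_le (hT'L.trans hLO)
    rw [Subgroup.relIndex_bot_left, Subgroup.relIndex_bot_left, hsame, ← hcardQ] at h
    have h' := (Q : Subgroup O).card_mul_index
    rw [← h] at h'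
    exact Q.not_dvd_index ((Nat.eq_of_mul_eq_mul_left Nat.card_pos h').symm ▸ hdiv)

end Cfsg.Agent.S1924
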