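import Cfsg.Statements.S1935
import Cfsg.Agent.TwoFusionB.QuadOffender

set_option autoImplicit false
open Cfsg
open scoped commutatorElement

namespace Cfsg.Agent.S1935

open Cfsg.Agent.TwoFusionB.QuadOffender

/-- Let p ≥ 5 be a prime and, inside an ambient finite group, let G be a p-subgroup acting faithfully by conjugation on an elementary abelian p-subgroup V that it normalizes (only the identity of G centralizes V). Suppose V is an F-module for G: some nontrivial elementary abelian subgroup E of G satisfies #E · #C_V(E) ≥ #V. Then G contains such an offender A that moreover acts quadratically on V ([V, A, A] = 1) and is normal in its normal closure in G. -/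
theorem result {Ω : Type*} [Group Ω] [Finite Ω] (p : ℕ) [Fact p.Prime] (hp : 5 ≤ p) (V G : Subgroup Ω) (hV : Cfsg.IsElementaryAbelian p V) (hG : IsPGroup p ↥G) (hGV : G ≤ Subgroup.normalizer (V : Set Ω)) (hfaith : G ⊓ Subgroup.centralizer (V : Set Ω) = ⊥) (hF : ∃ E : Subgroup Ω, E ≤ G ∧ E ≠ ⊥ ∧ Cfsg.IsElementaryAbelian p E ∧ Nat.card ↥V ≤ Nat.card ↥E * Nat.card ↥(V ⊓ Subgroup.centralizer (E : Set Ω))) : ∃ A : Subgroup Ω, A ≤ G ∧ A ≠ ⊥ ∧ Cfsg.IsElementaryAbelian p A ∧ Nat.card ↥V ≤ Nat.card ↥A * Nat.card ↥(V ⊓ Subgroup.centralizer (A : Set Ω)) ∧ ⁅⁅V, A⁆, A⁆ = ⊥ ∧ ∀ g ∈ Subgroup.closure {x : Ω | ∃ h ∈ G, ∃ a ∈ A, x = h * a * h⁻¹}, ∀ a ∈ A, g * a * g⁻¹ ∈ A := by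
  classical
  haveI : IsMulCommutative ↥V := hV.1
  letI : CommGroup ↥V := { (inferInstance : Group ↥V) with
    mul_comm := fun a b => Subtype.ext (Subgroup.mem_centralizer_iff.mp
      (Subgroup.le_centralizer_iff_isMulCommutative.mpr hV.1 b.2) a a.2) }
  haveI : Module (ZMod p) (Additive ↥V) := AddCommGroup.zmodModule (fun x => by
    apply Additive.toMul.injective
    exact Subtype.ext (by simpa using hV.2 _ x.toMul.2))
  have hmem : ∀ g : ↥G, ∀ v ∈ V, (g : Ω) * v * (g : Ω)⁻¹ ∈ V := fun g v hv =>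
    (Subgroup.mem_normalizer_iff.mp (hGV g.2) v).mp hv
  let act : ↥G → Module.End (ZMod p) (Additive ↥V) := fun g =>
    (AddMonoidHom.mk' (fun v : Additive ↥V => Additive.ofMul (⟨(g : Ω) * (v.toMul : Ω) * (g : Ω)⁻¹,
      hmem g _ v.toMul.2⟩ : ↥V)) (fun v w => by
        apply Additive.toMul.injective
        refine Subtype.ext ?_
        show (g : Ω) * ((v.toMul : Ω) * (w.toMul : Ω)) * (g : Ω)⁻¹ =
          ((g : Ω) * (v.toMul : Ω) * (g : Ω)⁻¹) * ((g : Ω) * (w.toMul : Ω) * (g : Ω)⁻¹)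
        group)).toZModLinearMap p
  have hact : ∀ (g : ↥G) (v : Additive ↥V), ((act g v).toMul : Ω) = (g : Ω) * (v.toMul : Ω) * (g : Ω)⁻¹ := fun _ _ => rfl
  let ρ : ↥G →* Module.End (ZMod p) (Additive ↥V) :=
    { toFun := act
      map_one' := LinearMap.ext fun v => Additive.toMul.injective (Subtype.ext (by simp [hact]))
      map_mul' := fun g h => LinearMap.ext fun v => Additive.toMul.injective (Subtype.ext (by
        rw [Module.End.mul_apply, hact, hact, hact, Subgroup.coe_mul]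
        group)) }
  have hρv : ∀ (g : ↥G) (v : Additive ↥V), ((ρ g v).toMul : Ω) = (g : Ω) * (v.toMul : Ω) * (g : Ω)⁻¹ := fun _ _ => rfl
  have hρ : Function.Injective ρ := by
    refine (injective_iff_map_eq_one ρ).mpr fun g hg => ?_
    have : (g : Ω) ∈ G ⊓ Subgroup.centralizer (V : Set Ω) := by
      refine ⟨g.2, Subgroup.mem_centralizer_iff.mpr fun v hv => ?_⟩
      have h := hρv g (Additive.ofMul ⟨v, hv⟩)
      rw [hg] at h
      have h' : v = (g : Ω) * v * (g : Ω)⁻¹ := h
      calc v * (g : Ω) = ((g : Ω) * v * (g : Ω)⁻¹) * (g : Ω) := by rw [← h']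
        _ = (g : Ω) * v := by group
    rw [hfaith, Subgroup.mem_bot] at this
    exact Subtype.ext this
  -- fixed points
  have hker : ∀ A : Subgroup ↥G, Nat.card (kerSub (logOf ρ A)) =
      Nat.card ↥(V ⊓ Subgroup.centralizer ((A.map G.subtype : Subgroup Ω) : Set Ω)) := by
    intro A
    have hc : ∀ v : Additive ↥V, v ∈ kerSub (logOf ρ A) ↔
        (v.toMul : Ω) ∈ Subgroup.centralizer ((A.map G.subtype : Subgroup Ω) : Set Ω) := by
      intro v
      rw [mem_kerSub_logOf, Subgroup.mem_centralizer_iff]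
      constructor
      · rintro h _ ⟨a, ha, rfl⟩
        have h1 := congrArg (fun w : Additive ↥V => (w.toMul : Ω)) (h a ha)
        simp only [hρv] at h1
        exact mul_inv_eq_iff_eq_mul.mp h1
      · intro h a ha
        apply Additive.toMul.injective
        refine Subtype.ext ?_
        rw [hρv]
        exact mul_inv_eq_iff_eq_mul.mpr (h _ ⟨a, ha, rfl⟩)
    exact Nat.card_congr
      { toFun := fun v => ⟨((v.1).toMul : Ω), (v.1).toMul.2, (hc v.1).mp v.2⟩
        invFun := fun x => ⟨Additive.ofMul ⟨x.1, x.2.1⟩, (hc _).mpr x.2.2⟩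
        left_inv := fun v => rfl
        right_inv := fun x => rfl }
  obtain ⟨E, hEG, hE1, hE, hEoff⟩ := hF
  have hcardV : Nat.card (Additive ↥V) = Nat.card ↥V := Nat.card_congr Additive.toMul
  have hEmap : (E.subgroupOf G).map G.subtype = E := by
    rw [Subgroup.subgroupOf_map_subtype, inf_of_le_left hEG]
  have hqm : ∀ A : Subgroup ↥G, qm ρ A = Nat.card ↥(A.map G.subtype) *
      Nat.card ↥(V ⊓ Subgroup.centralizer ((A.map G.subtype : Subgroup Ω) : Set Ω)) := fun A => by
    unfold qm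
    rw [hker, Subgroup.card_map_of_injective G.subtype_injective]
  obtain ⟨A, hA1, hAQ, hAoff, hAn⟩ := exists_normal_offender (ρ := ρ) hρ (by omega) hG
    (E₀ := E.subgroupOf G)
    (fun h => hE1 (by rw [← hEmap, h, Subgroup.map_bot]))
    (fun a ha b hb => Subtype.ext (Subgroup.mem_centralizer_iff.mp
      (Subgroup.le_centralizer_iff_isMulCommutative.mpr hE.1 hb) a ha))
    (by rw [hqm, hEmap, hcardV]; exact hEoff)
  set A' := A.map G.subtype with hA'
  refine ⟨A', Subgroup.map_subtype_le A, ?_, ⟨?_, ?_⟩, ?_, ?_, ?_⟩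
  · exact fun h => hA1 ((Subgroup.map_eq_bot_iff_of_injective _ G.subtype_injective).mp h)
  · rw [← Subgroup.le_centralizer_iff_isMulCommutative]
    rintro _ ⟨a, ha, rfl⟩
    rw [Subgroup.mem_centralizer_iff]
    rintro _ ⟨b, hb, rfl⟩
    exact congrArg Subtype.val (comm_of_quad hρ hAQ hb ha)
  · rintro _ ⟨a, ha, rfl⟩
    exact congrArg Subtype.val (pow_eq_one_of_quad hρ hAQ ha)
  · rw [← hcardV]
    exact hAoff.trans (le_of_eq (hqm A))
  · have h1 : ⁅V, A'⁆ ≤ V ⊓ Subgroup.centralizer (A' : Set Ω) := by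
      rw [Subgroup.commutator_le]
      rintro v hv _ ⟨a, ha, rfl⟩
      set w : Additive ↥V := Additive.ofMul (⟨v, hv⟩⁻¹ : ↥V) with hw
      have e : ((((ρ a - 1) w).toMul : ↥V) : Ω) = ⁅v, (a : Ω)⁆ := by
        rw [LinearMap.sub_apply, toMul_sub, Module.End.one_apply, div_eq_mul_inv, mul_comm]
        show (v⁻¹)⁻¹ * ((a : Ω) * v⁻¹ * (a : Ω)⁻¹) = _
        rw [inv_inv, commutatorElement_def]
        group
      refine ⟨?_, ?_⟩
      · exact e ▸ (((ρ a - 1) w).toMul).2
      · show ⁅v, (a : Ω)⁆ ∈ Subgroup.centralizer (A' : Set Ω)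
        rw [Subgroup.mem_centralizer_iff]
        rintro _ ⟨c, hc, rfl⟩
        have h := LinearMap.congr_fun (hAQ c hc a ha) w
        rw [Module.End.mul_apply, LinearMap.sub_apply, Module.End.one_apply, LinearMap.zero_apply,
          sub_eq_zero] at h
        have h' := congrArg (fun t : Additive ↥V => (t.toMul : Ω)) h
        simp only [hρv] at h'
        rw [e] at h'
        exact mul_inv_eq_iff_eq_mul.mp h'
    exact Subgroup.commutator_eq_bot_iff_le_centralizer.mpr (h1.trans inf_le_right)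
  · intro g hg a ha
    have hle : Subgroup.closure {x : Ω | ∃ h ∈ G, ∃ a ∈ A', x = h * a * h⁻¹} ≤
        Subgroup.normalizer (A' : Set Ω) := by
      rw [Subgroup.closure_le]
      rintro x ⟨h, hh, _, ⟨c, hc, rfl⟩, rfl⟩
      have hn := hAn ⟨h, hh⟩ ⟨c, hc, rfl⟩
      refine Subgroup.mem_normalizer_iff.mpr fun y => ⟨?_, ?_⟩
      · rintro ⟨d, hd, rfl⟩
        exact ⟨_, (Subgroup.mem_normalizer_iff.mp hn d).mp hd, rfl⟩
      · rintro ⟨d, hd, hde⟩
        refine ⟨_, (Subgroup.mem_normalizer_iff.mp (Subgroup.inv_mem _ hn) d).mp hd, ?_⟩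
        set k : ↥G := ⟨h, hh⟩ * c * ⟨h, hh⟩⁻¹ with hk
        show (G.subtype) (k⁻¹ * d * k⁻¹⁻¹) = y
        have : G.subtype k = h * G.subtype c * h⁻¹ := rfl
        simp only [map_mul, map_inv, hde, this]
        group
    exact (Subgroup.mem_normalizer_iff.mp (hle hg) a).mp ha

end Cfsg.Agent.S1935
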