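import Cfsg.Statements.S1939
-- import your own Cfsg.Agent.* helpers here

set_option autoImplicit false
open Cfsg

namespace Cfsg.Agent.S1939

/-- Let S be a Sylow p-subgroup of the finite group G and a an element of S that is the only G-conjugate of a lying in S. Then every power of a has the same property: for every n, the only G-conjugate of a^n lying in S is a^n. -/
theorem result {G : Type*} [Group G] [Finite G] {p : ℕ} [Fact p.Prime] (S : Sylow p G) (a : G)
    (haS : a ∈ (S : Subgroup G)) (hwc : ∀ g : G, g * a * g⁻¹ ∈ (S : Subgroup G) → g * a * g⁻¹ = a) (n : ℕ) :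
    ∀ g : G, g * a ^ n * g⁻¹ ∈ (S : Subgroup G) → g * a ^ n * g⁻¹ = a ^ n := by
  intro g hg
  -- a is central in S
  have haC : ∀ s ∈ (S : Subgroup G), Commute s a := by
    intro s hs
    have := hwc s ((S : Subgroup G).mul_mem ((S : Subgroup G).mul_mem hs haS) ((S : Subgroup G).inv_mem hs))
    exact mul_inv_eq_iff_eq_mul.mp this
  set b := g * a ^ n * g⁻¹ with hb
  set C := Subgroup.centralizer ({b} : Set G) with hC
  have haCb : a ∈ C := Subgroup.mem_centralizer_singleton_iff.mpr (haC b hg).symm.eq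
  have hga : g * a * g⁻¹ ∈ C := by
    rw [Subgroup.mem_centralizer_singleton_iff, hb, ← conj_pow]
    exact ((Commute.refl (g * a * g⁻¹)).pow_right n).eq
  have hpa : IsPGroup p (Subgroup.zpowers (⟨a, haCb⟩ : C)) := by
    refine (S.2.comap_of_injective C.subtype C.subtype_injective).to_le ?_
    rw [Subgroup.zpowers_le, Subgroup.mem_comap]; exact haS
  have hpg : IsPGroup p (Subgroup.zpowers (⟨g * a * g⁻¹, hga⟩ : C)) := by
    have hS' : IsPGroup p ((g • S : Sylow p G) : Subgroup G) := (g • S).2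
    refine (hS'.comap_of_injective C.subtype C.subtype_injective).to_le ?_
    rw [Subgroup.zpowers_le, Subgroup.mem_comap, Sylow.coe_subgroup_smul]
    exact ⟨a, haS, rfl⟩
  obtain ⟨R, hR⟩ := hpa.exists_le_sylow
  obtain ⟨R', hR'⟩ := hpg.exists_le_sylow
  obtain ⟨c, hc⟩ := MulAction.exists_smul_eq C R' R
  have hmem : c * ⟨g * a * g⁻¹, hga⟩ * c⁻¹ ∈ (R : Subgroup C) := by
    rw [← hc, Sylow.coe_subgroup_smul]
    exact ⟨_, hR' (Subgroup.mem_zpowers _), rfl⟩
  have hcb : (c : G) * b * (c : G)⁻¹ = b :=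
    mul_inv_eq_iff_eq_mul.mpr (Subgroup.mem_centralizer_singleton_iff.mp c.2)
  obtain ⟨T, hT⟩ := (R.2.map C.subtype).exists_le_sylow
  obtain ⟨k, hk⟩ := MulAction.exists_smul_eq G T S
  have inS : ∀ {y : C}, y ∈ (R : Subgroup C) → k * (y : G) * k⁻¹ ∈ (S : Subgroup G) := by
    intro y hy
    rw [← hk, Sylow.coe_subgroup_smul]
    exact ⟨y, hT ⟨y, hy, rfl⟩, rfl⟩
  have e1 := hwc k (inS (hR (Subgroup.mem_zpowers _)))
  have h2 := inS hmem
  have e2 := hwc (k * c * g) (by simpa [mul_assoc] using h2)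
  have e3 : (c * g) * a * ((c : G) * g)⁻¹ = a := by
    apply (MulAut.conj k).injective
    simp only [MulAut.conj_apply]
    rw [e1]
    simpa [mul_assoc] using e2
  calc b = (c : G) * b * (c : G)⁻¹ := hcb.symm
    _ = ((c : G) * g * a * ((c : G) * g)⁻¹) ^ n := by rw [conj_pow, hb]; group
    _ = a ^ n := by rw [e3]

end Cfsg.Agent.S1939
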