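import Cfsg.Statements.S1940
-- import your own Cfsg.Agent.* helpers here

set_option autoImplicit false
open Cfsg

namespace Cfsg.Agent.S1940

/-- Let the finite group L act by automorphisms on the finite abelian group M, and let N be an L-invariant subgroup of M such that M/N is a p-group on which L acts trivially (every l • m lies in the coset mN). If every element of M is a product of an element of N and an element fixed by a Sylow p-subgroup T of L, then every element of M is a product of an element of N and an element fixed by all of L. -/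
theorem result {L : Type*} [Group L] [Finite L] {M : Type*} [CommGroup M] [Finite M] [MulDistribMulAction L M]
    {p : ℕ} [Fact p.Prime] (N : Subgroup M) (hN : ∀ (l : L) (m : M), m ∈ N → l • m ∈ N)
    (hquot : IsPGroup p (M ⧸ N)) (htriv : ∀ (l : L) (m : M), (l • m) * m⁻¹ ∈ N) (T : Sylow p L)
    (hT : ∀ m : M, ∃ n ∈ N, ∃ c : M, (∀ t ∈ (T : Subgroup L), t • c = c) ∧ m = n * c) :
    ∀ m : M, ∃ n ∈ N, ∃ c : M, (∀ l : L, l • c = c) ∧ m = n * c := by
  classical
  intro m
  obtain ⟨n, hn, c, hc, rfl⟩ := hT m
  set k := (T : Subgroup L).index with hk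
  have hwell : ∀ x y : L, (QuotientGroup.mk x : L ⧸ (T : Subgroup L)) = QuotientGroup.mk y → x • c = y • c := by
    intro x y h
    rw [QuotientGroup.eq] at h
    conv_rhs => rw [show y = x * (x⁻¹ * y) by group, mul_smul, hc _ h]
  let f : L ⧸ (T : Subgroup L) → M := fun q => Quotient.liftOn' q (fun x => x • c)
    (fun x y h => hwell x y (Quotient.sound' h))
  have hf : ∀ (l : L) q, l • f q = f (l • q) := by
    intro l q
    induction q using QuotientGroup.induction_on with
    | H x => exact (mul_smul l x c).symm
  haveI : Fintype (L ⧸ (T : Subgroup L)) := Fintype.ofFinite _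
  set d := ∏ q, f q with hd
  have hdfix : ∀ l : L, l • d = d := by
    intro l
    rw [hd, Finset.smul_prod']
    simp_rw [hf]
    exact Fintype.prod_equiv (MulAction.toPerm l) _ _ (fun _ => rfl)
  have hdmod : (QuotientGroup.mk d : M ⧸ N) = (QuotientGroup.mk c) ^ k := by
    rw [hd, ← QuotientGroup.mk'_apply N, map_prod]
    have : ∀ q, QuotientGroup.mk' N (f q) = QuotientGroup.mk c := by
      intro q
      induction q using QuotientGroup.induction_on with
      | H x =>
        rw [QuotientGroup.mk'_apply, eq_comm, QuotientGroup.eq, mul_comm]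
        exact htriv x c
    rw [Finset.prod_congr rfl (fun q _ => this q), Finset.prod_const, Finset.card_univ,
      hk, Subgroup.index, Nat.card_eq_fintype_card]
  have hcop : ¬ p ∣ k := T.not_dvd_index
  obtain ⟨j, hj⟩ : ∃ j : ℕ, ((QuotientGroup.mk c : M ⧸ N) ^ k) ^ j = QuotientGroup.mk c := by
    obtain ⟨e, he⟩ := hquot (QuotientGroup.mk c)
    have hco : (orderOf (QuotientGroup.mk c : M ⧸ N)).Coprime k :=
      Nat.Coprime.of_dvd_left (orderOf_dvd_of_pow_eq_one he)
        ((Fact.out : p.Prime).coprime_iff_not_dvd.mpr hcop |>.pow_left e)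
    exact exists_pow_eq_self_of_coprime hco.symm
  have hmodc : (QuotientGroup.mk (n * c) : M ⧸ N) = QuotientGroup.mk (d ^ j) := by
    rw [QuotientGroup.mk_mul, (QuotientGroup.eq_one_iff n).mpr hn, one_mul, QuotientGroup.mk_pow, hdmod, hj]
  refine ⟨(n * c) * (d ^ j)⁻¹, ?_, d ^ j, fun l => by rw [smul_pow', hdfix], by simp⟩
  rw [← QuotientGroup.eq_one_iff, QuotientGroup.mk_mul, QuotientGroup.mk_inv, hmodc, mul_inv_cancel]

end Cfsg.Agent.S1940
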