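import Cfsg.Statements.S1941
import Cfsg.Agent.Lib.Components.GenFitting

set_option autoImplicit false
open Cfsg

namespace Cfsg.Agent.S1941

/-- Let G be a finite group with no nontrivial normal subgroup of order prime to p, T a Sylow p-subgroup of G and E(G) the layer of G (the subgroup generated by its components). An automorphism of G of p-power order that fixes T and E(G) elementwise is inner. -/
theorem result {G : Type*} [Group G] [Finite G] {p : ℕ} [Fact p.Prime] (hcore : Cfsg.pPrimeCore p G = ⊥)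
    (T : Sylow p G) (α : MulAut G) (hα : ∃ j : ℕ, orderOf α = p ^ j) (hfixT : ∀ x ∈ (T : Subgroup G), α x = x)
    (hfixE : ∀ x ∈ Cfsg.layer G, α x = x) : ∃ g : G, ∀ x : G, α x = g * x * g⁻¹ := by
  classical
  set Fs := generalizedFittingSubgroup G with hFs
  set Z := Subgroup.centralizer (Fs : Set G) with hZdef
  have hFp : fittingSubgroup G = pCore p G := Components.fitting_eq_pCore_of_pPrimeCore_eq_bot hcore
  have hOT : pCore p G ≤ (T : Subgroup G) := Thompson.pCore_le_sylow T
  have hfixF : ∀ x ∈ Fs, α x = x := by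
    have hle : Fs ≤ MonoidHom.eqLocus α.toMonoidHom (MonoidHom.id G) :=
      sup_le (fun x hx => hfixE x hx) (fun x hx => hfixT x (hOT (hFp ▸ hx)))
    exact fun x hx => hle hx
  have hZab : IsMulCommutative Z := ⟨⟨fun a b => Subtype.ext
    ((Subgroup.mem_centralizer_iff.mp b.2 a (Components.centralizer_generalizedFitting_le a.2)))⟩⟩
  have hZT : Z ≤ (T : Subgroup G) := by
    refine le_trans ?_ (hFp.le.trans hOT)
    refine Fitting.le_fitting inferInstance ?_
    letI : CommGroup Z := { (inferInstance : Group Z) with mul_comm := fun a b => hZab.is_comm.comm a b }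
    infer_instance
  obtain ⟨n, hn⟩ := IsPGroup.iff_card.mp T.2
  have hd : ∀ g : G, α g * g⁻¹ ∈ Z := fun g => Subgroup.mem_centralizer_iff.mpr fun x hx => by
    have hx' : g⁻¹ * x * g ∈ Fs := by
      simpa using (inferInstance : Fs.Normal).conj_mem x hx g⁻¹
    have h := hfixF _ hx'
    rw [map_mul, map_mul, map_inv, hfixF x hx] at h
    calc x * (α g * g⁻¹) = α g * ((α g)⁻¹ * x * α g) * g⁻¹ := by group
      _ = α g * g⁻¹ * x := by rw [h]; group
  letI : CommGroup Z := { (inferInstance : Group Z) with mul_comm := fun a b => hZab.is_comm.comm a b }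
  let d : G → Z := fun g => ⟨α g * g⁻¹, hd g⟩
  let F : G ⧸ (T : Subgroup G) → Z := fun x => Quotient.liftOn' x d fun a b hab => Subtype.ext (by
    rw [QuotientGroup.leftRel_apply] at hab
    have h := hfixT _ hab
    rw [map_mul, map_inv] at h
    show α a * a⁻¹ = α b * b⁻¹
    calc α a * a⁻¹ = α a * (a⁻¹ * b) * b⁻¹ := by group
      _ = α b * b⁻¹ := by rw [← h]; group)
  letI := Fintype.ofFinite (G ⧸ (T : Subgroup G))
  set s : Z := ∏ x, F x with hs
  obtain ⟨k, hk⟩ : ∃ k : ℕ, ∀ z : Z, z ^ ((T : Subgroup G).index * k) = z := by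
    have hcop : Nat.Coprime (T : Subgroup G).index (p ^ n) :=
      ((Nat.Prime.coprime_iff_not_dvd Fact.out).mpr T.not_dvd_index).symm.pow_right n
    obtain ⟨k, -, hk⟩ := Nat.exists_mul_mod_eq_of_coprime 1 hcop (pow_ne_zero n (Fact.out : p.Prime).ne_zero)
    refine ⟨k, fun z => ?_⟩
    have hz : orderOf z ∣ p ^ n := by
      rw [← Subgroup.orderOf_coe, ← hn, ← Subgroup.orderOf_mk (z : G) (hZT z.2)]
      exact orderOf_dvd_natCard _
    conv_rhs => rw [← pow_one z]
    exact pow_eq_pow_iff_modEq.mpr (Nat.ModEq.of_dvd hz hk)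
  refine ⟨((s ^ k : Z) : G), fun h => ?_⟩
  let c : Z →* Z := ((MulAut.conjNormal h : MulAut Z) : Z →* Z)
  have hF : ∀ x : G ⧸ (T : Subgroup G), F (h • x) = d h * c (F x) := fun x => by
    induction x using QuotientGroup.induction_on with | H g => ?_
    refine Subtype.ext ?_
    show α (h * g) * (h * g)⁻¹ = α h * h⁻¹ * (h * (α g * g⁻¹) * h⁻¹)
    rw [map_mul]; group
  have hs' : s = d h ^ (T : Subgroup G).index * c s := by
    conv_lhs => rw [hs, ← Equiv.prod_comp (MulAction.toPerm h)]
    simp only [MulAction.toPerm_apply, hF, Finset.prod_mul_distrib, Finset.prod_const, Finset.card_univ]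
    rw [map_prod, Subgroup.index, Nat.card_eq_fintype_card]
  have hs2 : s ^ k = d h * c (s ^ k) := by
    conv_lhs => rw [hs', mul_pow, ← pow_mul, hk, ← map_pow]
  have e : ((s ^ k : Z) : G) = α h * h⁻¹ * (h * ((s ^ k : Z) : G) * h⁻¹) := congrArg Subtype.val hs2
  calc α h = (α h * h⁻¹ * (h * ((s ^ k : Z) : G) * h⁻¹)) * h * ((s ^ k : Z) : G)⁻¹ := by group
    _ = _ := by rw [← e]

end Cfsg.Agent.S1941
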