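import Cfsg.Statements.S1944
import Cfsg.Agent.Lib.Thompson.PSolvable

set_option autoImplicit false
open Cfsg

namespace Cfsg.Agent.S1944

theorem eq_one_of_mem {G : Type*} [Group G] [Finite G] {p : ℕ} [Fact p.Prime] {S D : Subgroup G}
    (hS : IsPGroup p S) (hD : (Nat.card D).Coprime p) {x : G} (hxS : x ∈ S) (hxD : x ∈ D) : x = 1 := by
  obtain ⟨k, hk⟩ := hS ⟨x, hxS⟩
  have h1 : x ^ p ^ k = 1 := by simpa using congrArg Subtype.val hk
  have h2 : orderOf x ∣ Nat.card D := Subgroup.orderOf_dvd_natCard D hxD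
  exact orderOf_eq_one_iff.mp (Nat.eq_one_of_dvd_coprimes (hD.pow_right k) h2 (orderOf_dvd_of_pow_eq_one h1))

/-- Let S be a Sylow p-subgroup of the finite group G and suppose that the centre Z(S) lies in O_{p',p}(G). The elements of S each of which is its only G-conjugate in S form a subgroup W of Z(S); W is then a direct factor of Z(S): there is a subgroup K of Z(S) with W ∩ K = 1 and WK = Z(S). -/
theorem result {G : Type*} [Group G] [Finite G] {p : ℕ} [Fact p.Prime] (S : Sylow p G)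
    (hZ : ((S : Subgroup G) ⊓ Subgroup.centralizer ((S : Subgroup G) : Set G)) ≤ Cfsg.pPrimePCore p G) :
    ∃ W K : Subgroup G, (∀ x : G, x ∈ W ↔ (x ∈ (S : Subgroup G) ∧ ∀ g : G, g * x * g⁻¹ ∈ (S : Subgroup G) → g * x * g⁻¹ = x)) ∧
      K ≤ ((S : Subgroup G) ⊓ Subgroup.centralizer ((S : Subgroup G) : Set G)) ∧ W ⊓ K = ⊥ ∧ W ⊔ K = ((S : Subgroup G) ⊓ Subgroup.centralizer ((S : Subgroup G) : Set G)) := by
  classical
  set D := pPrimeCore p G with hDdef
  set π := QuotientGroup.mk' D with hπ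
  set Z := (S : Subgroup G) ⊓ Subgroup.centralizer ((S : Subgroup G) : Set G) with hZdef
  set O := pCore p (G ⧸ D) with hOdef
  have hD : (Nat.card D).Coprime p := Thompson.card_pPrimeCore_coprime
  have hOS : O ≤ ((S : Subgroup G)).map π := by
    have := Thompson.pCore_le_sylow (S.mapSurjective (QuotientGroup.mk'_surjective D))
    rwa [Sylow.coe_mapSurjective] at this
  have hZO : ∀ z ∈ Z, π z ∈ O := fun z hz => hZ hz
  have hinj : ∀ a ∈ (S : Subgroup G), ∀ b ∈ (S : Subgroup G), π a = π b → a = b := fun a ha b hb h =>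
    inv_mul_eq_one.mp (eq_one_of_mem S.2 hD ((S : Subgroup G).mul_mem ((S : Subgroup G).inv_mem ha) hb)
      (QuotientGroup.eq.mp h))
  -- the uniquely fused elements
  have hW : ∀ x : G, (x ∈ (S : Subgroup G) ∧ ∀ g : G, g * x * g⁻¹ ∈ (S : Subgroup G) → g * x * g⁻¹ = x) ↔
      (x ∈ Z ∧ ∀ g : G ⧸ D, g * π x = π x * g) := by
    intro x
    constructor
    · rintro ⟨hxS, hx⟩
      have hxZ : x ∈ Z := Subgroup.mem_inf.mpr ⟨hxS, Subgroup.mem_centralizer_iff.mpr fun s hs =>
        mul_inv_eq_iff_eq_mul.mp (hx s ((S : Subgroup G).mul_mem ((S : Subgroup G).mul_mem hs hxS)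
          ((S : Subgroup G).inv_mem hs)))⟩
      refine ⟨hxZ, fun g => ?_⟩
      obtain ⟨g, rfl⟩ := QuotientGroup.mk'_surjective D g
      set Y := ((S : Subgroup G).map π).comap π with hY
      have hSY : (S : Subgroup G) ≤ Y := Subgroup.le_comap_map π _
      set z := g * x * g⁻¹ with hz
      have hzY : z ∈ Y := by
        show π z ∈ (S : Subgroup G).map π
        rw [hz, map_mul, map_mul, map_inv]
        exact hOS ((inferInstance : O.Normal).conj_mem _ (hZO x hxZ) _)
      obtain ⟨k, hk⟩ := S.2 ⟨x, hxS⟩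
      have hzp : IsPGroup p (Subgroup.zpowers (⟨z, hzY⟩ : Y)) := by
        rintro ⟨w, hw⟩
        obtain ⟨j, rfl⟩ := Subgroup.mem_zpowers_iff.mp hw
        refine ⟨k, Subtype.ext ?_⟩
        have h1 : x ^ p ^ k = 1 := by simpa using congrArg Subtype.val hk
        have h2 : (⟨z, hzY⟩ : Y) ^ p ^ k = 1 := Subtype.ext (by
          show z ^ p ^ k = 1
          rw [hz, conj_pow, h1, mul_one, mul_inv_cancel])
        show ((⟨z, hzY⟩ : Y) ^ j) ^ p ^ k = 1
        rw [← zpow_natCast, ← zpow_mul, mul_comm, zpow_mul, zpow_natCast, h2, one_zpow]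
      obtain ⟨Q, hQ⟩ := hzp.exists_le_sylow
      obtain ⟨y, hy⟩ := MulAction.exists_smul_eq Y Q (S.subtype hSY)
      have hyz : y * ⟨z, hzY⟩ * y⁻¹ ∈ (S.subtype hSY : Subgroup Y) := by
        rw [← hy]
        exact ⟨_, hQ (Subgroup.mem_zpowers _), rfl⟩
      have hyz' : (y : G) * z * (y : G)⁻¹ ∈ (S : Subgroup G) := by
        rw [Sylow.coe_subtype, Subgroup.mem_subgroupOf] at hyz
        exact hyz
      obtain ⟨u, hu, hpu⟩ := y.2
      set d := u⁻¹ * (y : G)
      have hdD : π d = 1 := by rw [map_mul, map_inv, hpu, inv_mul_cancel]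
      have hd : d * z * d⁻¹ ∈ (S : Subgroup G) := by
        have := (S : Subgroup G).mul_mem ((S : Subgroup G).mul_mem ((S : Subgroup G).inv_mem hu) hyz') hu
        have e : d * z * d⁻¹ = u⁻¹ * ((y : G) * z * (y : G)⁻¹) * u := by simp only [d]; group
        rwa [e]
      have hdx : d * z * d⁻¹ = x := by
        have h := hx (d * g) (by rw [show d * g * x * (d * g)⁻¹ = d * z * d⁻¹ by rw [hz]; group]; exact hd)
        rwa [show d * g * x * (d * g)⁻¹ = d * z * d⁻¹ by rw [hz]; group] at h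
      have h := congrArg π hdx
      rw [map_mul, map_mul, map_inv, hdD, one_mul, inv_one, mul_one, hz, map_mul, map_mul, map_inv] at h
      exact mul_inv_eq_iff_eq_mul.mp h
    · rintro ⟨hxZ, hx⟩
      refine ⟨(Subgroup.mem_inf.mp hxZ).1, fun g hg => hinj _ hg _ (Subgroup.mem_inf.mp hxZ).1 ?_⟩
      rw [map_mul, map_mul, map_inv, hx (π g), mul_inv_cancel_right]
  let W : Subgroup G := Z ⊓ (Subgroup.center (G ⧸ D)).comap π
  have hmemW : ∀ x : G, x ∈ W ↔ (x ∈ Z ∧ ∀ g : G ⧸ D, g * π x = π x * g) := fun x => by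
    simp only [W, Subgroup.mem_inf, Subgroup.mem_comap, Subgroup.mem_center_iff]
  -- the norm
  let A : Subgroup (G ⧸ D) := (Subgroup.center O).map O.subtype
  have hAn : A.Normal := inferInstance
  have hmemA : ∀ a, a ∈ A ↔ a ∈ O ∧ ∀ b ∈ O, b * a = a * b := fun a => by
    constructor
    · rintro ⟨⟨a, ha⟩, hc, rfl⟩
      exact ⟨ha, fun b hb => congrArg Subtype.val (Subgroup.mem_center_iff.mp hc ⟨b, hb⟩)⟩
    · rintro ⟨ha, hc⟩
      exact ⟨⟨a, ha⟩, Subgroup.mem_center_iff.mpr fun b => Subtype.ext (hc b b.2), rfl⟩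
  letI : CommGroup A := { (inferInstance : Group A) with mul_comm := fun a b => Subtype.ext (((hmemA _).mp b.2).2 _ ((hmemA _).mp a.2).1) }
  let ι : Z →* A := (π.comp Z.subtype).codRestrict A fun z => (hmemA _).mpr ⟨hZO z z.2, fun b hb => by
    obtain ⟨s, hs, rfl⟩ := hOS hb
    show π s * π (z : G) = π (z : G) * π s
    rw [← map_mul, ← map_mul, Subgroup.mem_centralizer_iff.mp (Subgroup.mem_inf.mp z.2).2 s hs]⟩
  let c : G → A →* A := fun g => ((MulAut.conjNormal (π g) : MulAut A) : A →* A)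
  have hfix : ∀ (z : Z) (a b : G), a⁻¹ * b ∈ (S : Subgroup G) → c a (ι z) = c b (ι z) := fun z a b h => by
    refine Subtype.ext ?_
    show π a * π (z : G) * (π a)⁻¹ = π b * π (z : G) * (π b)⁻¹
    have e := congrArg π (Subgroup.mem_centralizer_iff.mp (Subgroup.mem_inf.mp z.2).2 _ h)
    simp only [map_mul, map_inv] at e
    calc π a * π (z : G) * (π a)⁻¹ = π a * (π (z : G) * ((π a)⁻¹ * π b)) * (π b)⁻¹ := by group
      _ = _ := by rw [← e]; group
  let F : Z → G ⧸ (S : Subgroup G) → A := fun z x => Quotient.liftOn' x (fun g => c g (ι z))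
    fun a b hab => hfix z a b (QuotientGroup.leftRel_apply.mp hab)
  letI := Fintype.ofFinite (G ⧸ (S : Subgroup G))
  let N : Z →* A := MonoidHom.mk' (fun z => ∏ x, F z x) fun z w => by
    rw [← Finset.prod_mul_distrib]
    refine Finset.prod_congr rfl fun x _ => ?_
    induction x using QuotientGroup.induction_on with | H g => ?_
    show c g (ι (z * w)) = c g (ι z) * c g (ι w)
    rw [map_mul, map_mul]
  have hNfix : ∀ (g : G) (z : Z), c g (N z) = N z := fun g z => by
    show c g (∏ x, F z x) = ∏ x, F z x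
    rw [map_prod]
    conv_rhs => rw [← Equiv.prod_comp (MulAction.toPerm g)]
    refine Finset.prod_congr rfl fun x _ => ?_
    induction x using QuotientGroup.induction_on with | H h => ?_
    refine Subtype.ext ?_
    show π g * (π h * π (z : G) * (π h)⁻¹) * (π g)⁻¹ = π (g * h) * π (z : G) * (π (g * h))⁻¹
    rw [map_mul]; group
  have hNlift : ∀ z : Z, ∃ w ∈ W, π w = (N z : G ⧸ D) := fun z => by
    obtain ⟨w, hw, e⟩ := hOS ((hmemA _).mp (N z).2).1
    have hcen : ∀ g : G ⧸ D, g * π w = π w * g := fun g => by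
      obtain ⟨g, rfl⟩ := QuotientGroup.mk'_surjective D g
      have h : π g * (N z : G ⧸ D) * (π g)⁻¹ = (N z : G ⧸ D) := congrArg Subtype.val (hNfix g z)
      rw [← e] at h
      exact mul_inv_eq_iff_eq_mul.mp h
    refine ⟨w, (hmemW w).mpr ⟨Subgroup.mem_inf.mpr ⟨hw, Subgroup.mem_centralizer_iff.mpr fun s hs => ?_⟩, hcen⟩, e⟩
    refine hinj _ ((S : Subgroup G).mul_mem hs hw) _ ((S : Subgroup G).mul_mem hw hs) ?_
    rw [map_mul, map_mul, hcen]
  have hNW : ∀ z : Z, (z : G) ∈ W → N z = ι z ^ (S : Subgroup G).index := fun z hz => by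
    show ∏ x, F z x = _
    rw [Finset.prod_eq_pow_card (b := ι z) (fun x _ => ?_), Finset.card_univ, Subgroup.index,
      Nat.card_eq_fintype_card]
    induction x using QuotientGroup.induction_on with | H g => ?_
    refine Subtype.ext ?_
    show π g * π (z : G) * (π g)⁻¹ = π (z : G)
    rw [((hmemW _).mp hz).2, mul_inv_cancel_right]
  refine ⟨W, N.ker.map Z.subtype, fun x => (hmemW x).trans (hW x).symm, Subgroup.map_subtype_le _, ?_, ?_⟩
  · rw [eq_bot_iff]
    rintro x ⟨hxW, ⟨z, hz, rfl⟩⟩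
    have h1 := hNW z hxW
    rw [MonoidHom.mem_ker.mp hz, ← map_pow] at h1
    have h2 : π ((z : G) ^ (S : Subgroup G).index) = π 1 := by
      rw [map_one]; exact (congrArg Subtype.val h1).symm
    have hzS : (z : G) ∈ (S : Subgroup G) := (Subgroup.mem_inf.mp z.2).1
    have h3 := hinj _ ((S : Subgroup G).pow_mem hzS _) _ (S : Subgroup G).one_mem h2
    obtain ⟨k, hk⟩ := S.2 ⟨z, hzS⟩
    have hk' : (z : G) ^ p ^ k = 1 := by simpa using congrArg Subtype.val hk
    exact Subgroup.mem_bot.mpr (orderOf_eq_one_iff.mp (Nat.eq_one_of_dvd_coprimes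
      ((((Nat.Prime.coprime_iff_not_dvd Fact.out).mpr S.not_dvd_index).symm).pow_right k)
      (orderOf_dvd_of_pow_eq_one h3) (orderOf_dvd_of_pow_eq_one hk')))
  · refine le_antisymm (sup_le inf_le_left (Subgroup.map_subtype_le _)) fun x hx => ?_
    obtain ⟨w, hw, hwe⟩ := hNlift ⟨x, hx⟩
    obtain ⟨n, hn⟩ := IsPGroup.iff_card.mp S.2
    obtain ⟨k, -, hk⟩ := Nat.exists_mul_mod_eq_of_coprime 1
      (((Nat.Prime.coprime_iff_not_dvd Fact.out).mpr S.not_dvd_index).symm.pow_right n)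
      (pow_ne_zero n (Fact.out : p.Prime).ne_zero)
    have hwk : w ^ k ∈ W := W.pow_mem hw k
    set v : Z := ⟨w ^ k, (Subgroup.mem_inf.mp hwk).1⟩
    have hNv : N v = N ⟨x, hx⟩ := by
      rw [hNW v hwk]
      refine Subtype.ext ?_
      show π (w ^ k) ^ (S : Subgroup G).index = _
      rw [← map_pow, ← pow_mul, ← hwe]
      congr 1
      conv_rhs => rw [← pow_one w]
      refine pow_eq_pow_iff_modEq.mpr (Nat.ModEq.of_dvd ?_ (Nat.mul_comm k _ ▸ hk))
      rw [← hn]
      exact Subgroup.orderOf_dvd_natCard _ (Subgroup.mem_inf.mp (Subgroup.mem_inf.mp hw).1).1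
    rw [← mul_inv_cancel_left (w ^ k) x]
    refine Subgroup.mul_mem_sup hwk ⟨v⁻¹ * ⟨x, hx⟩, ?_, rfl⟩
    show N (v⁻¹ * ⟨x, hx⟩) = 1
    rw [map_mul, map_inv, hNv, inv_mul_cancel]

end Cfsg.Agent.S1944
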