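import Cfsg.Statements.S1945
import Cfsg.Agent.WeakClosure.Glauberman
import Cfsg.Agent.WeakClosure.Retract
import Cfsg.Agent.Lib.Thompson.PSolvable
import Cfsg.Agent.OddLocal44.Stability

set_option autoImplicit false
open Cfsg

namespace Cfsg.Agent.S1945

/-- Let S be a Sylow p-subgroup of the finite group G, and assume that p is odd or that G is solvable. The elements of S each of which is its only G-conjugate in S form a subgroup W of Z(S); W is then a direct factor of Z(S): there is a subgroup K of Z(S) with W ∩ K = 1 and WK = Z(S). (For p = 2 and G not solvable this can fail.) -/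
theorem result {G : Type*} [Group G] [Finite G] {p : ℕ} [Fact p.Prime] (S : Sylow p G) (h : p ≠ 2 ∨ Group.IsSolvable G) :
    ∃ W K : Subgroup G, (∀ x : G, x ∈ W ↔ (x ∈ (S : Subgroup G) ∧ ∀ g : G, g * x * g⁻¹ ∈ (S : Subgroup G) → g * x * g⁻¹ = x)) ∧
      K ≤ ((S : Subgroup G) ⊓ Subgroup.centralizer ((S : Subgroup G) : Set G)) ∧ W ⊓ K = ⊥ ∧ W ⊔ K = ((S : Subgroup G) ⊓ Subgroup.centralizer ((S : Subgroup G) : Set G)) := by
  classical
  set S₀ := (S : Subgroup G) with hS₀
  set Z := S₀ ⊓ Subgroup.centralizer (S₀ : Set G) with hZ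
  suffices H : ∃ N A : Subgroup G, S₀ ≤ N ∧ A ≤ S₀ ∧ N ≤ Subgroup.normalizer (A : Set G) ∧
      IsMulCommutative A ∧ Z ≤ A ∧
      (∀ x ∈ A ⊓ Subgroup.centralizer (N : Set G), ∀ g : G, g * x * g⁻¹ ∈ S₀ → g * x * g⁻¹ = x) by
    obtain ⟨N, A, hSN, hAS, hNA, hAc, hZA, hwc⟩ := H
    have hW : A ⊓ Subgroup.centralizer (N : Set G) ≤ Z := fun a ha =>
      ⟨hAS ha.1, Subgroup.centralizer_le hSN ha.2⟩
    have hidx : ¬ p ∣ S₀.relIndex N := fun hd =>
      S.not_dvd_index (hd.trans (Subgroup.relIndex_dvd_index_of_le hSN))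
    obtain ⟨K, hK, h1, h2⟩ :=
      WeakClosure.exists_complement S.2 hSN hidx hAS hNA hAc hZA inf_le_right hW
    refine ⟨A ⊓ Subgroup.centralizer (N : Set G), K, fun x => ⟨fun hx => ⟨hAS hx.1, hwc x hx⟩, ?_⟩,
      hK, h1, h2⟩
    rintro ⟨hxS, hx⟩
    have hxC : x ∈ Z := ⟨hxS, Subgroup.mem_centralizer_iff.mpr fun s hs =>
      mul_inv_eq_iff_eq_mul.mp (hx s (S₀.mul_mem (S₀.mul_mem hs hxS) (S₀.inv_mem hs)))⟩
    refine ⟨hZA hxC, Subgroup.mem_centralizer_iff.mpr fun n hn => mul_inv_eq_iff_eq_mul.mp (hx n ?_)⟩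
    exact hAS ((Subgroup.mem_normalizer_iff.mp (hNA hn) x).mp (hZA hxC))
  rcases h with hp | hsol
  · set J := Cfsg.thompsonSubgroupAOf S₀
    refine ⟨Subgroup.normalizer (J : Set G), J ⊓ Subgroup.centralizer (J : Set G),
      Subgroup.le_normalizer.trans (WeakClosure.normalizer_le_normalizer_thompsonA _),
      inf_le_left.trans (WeakClosure.thompsonA_le _), ?_, ?_, ?_, ?_⟩
    · intro n hn
      refine PLocalB.mem_normalizer_of_conj_mem _ n ?_
      rintro y ⟨hy, hyc⟩
      refine ⟨(Subgroup.mem_normalizer_iff.mp hn y).mp hy, Subgroup.mem_centralizer_iff.mpr fun w hw => ?_⟩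
      have hw' : n⁻¹ * w * n ∈ J := by
        simpa using (Subgroup.mem_normalizer_iff.mp (inv_mem hn) w).mp hw
      calc w * (n * y * n⁻¹) = n * ((n⁻¹ * w * n) * y) * n⁻¹ := by group
        _ = n * (y * (n⁻¹ * w * n)) * n⁻¹ := by rw [Subgroup.mem_centralizer_iff.mp hyc _ hw']
        _ = n * y * n⁻¹ * w := by group
    · exact Subgroup.le_centralizer_iff_isMulCommutative.mp
        (inf_le_right.trans (Subgroup.centralizer_le inf_le_left))
    · exact fun z hz => ⟨WeakClosure.mem_thompsonA_of_central hz.1 hz.2,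
        Subgroup.centralizer_le (WeakClosure.thompsonA_le _) hz.2⟩
    · intro x hx
      have hxS : x ∈ S₀ := WeakClosure.thompsonA_le _ hx.1.1
      have hxC : x ∈ Subgroup.centralizer (S₀ : Set G) := Subgroup.centralizer_le
        (Subgroup.le_normalizer.trans (WeakClosure.normalizer_le_normalizer_thompsonA _)) hx.2
      exact WeakClosure.weakly_closed S x x hxS hxC hxS hxC (Or.inl hp)
        fun g hg => Subgroup.mem_centralizer_iff.mp hx.2 g hg
  · set R := Cfsg.pPrimeCore p G
    set P := Cfsg.pPrimePCore p G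
    set T := S₀ ⊓ P
    have hPTR : P = R ⊔ T := by
      obtain ⟨Q, hQ⟩ := (S.2.to_le inf_le_left : IsPGroup p ↥T).comap_of_injective P.subtype
        P.subtype_injective |>.exists_le_sylow
      have hTQ : T = (Q : Subgroup ↥P).map P.subtype := by
        have hle : T ≤ (Q : Subgroup ↥P).map P.subtype := fun t ht => ⟨⟨t, ht.2⟩, hQ ht, rfl⟩
        refine le_antisymm hle ?_
        haveI : P.Normal := Thompson.instPPrimePCoreNormal
        obtain ⟨R', hR'⟩ := (Q.2.map P.subtype).exists_le_sylow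
        refine (Subgroup.eq_of_le_of_card_ge hle ?_).ge
        obtain ⟨g, rfl⟩ := MulAction.exists_smul_eq G S R'
        rw [← Subgroup.card_map_of_injective (K := T) (f := (MulAut.conj g).toMonoidHom)
          (MulAut.conj g).injective]
        refine Subgroup.card_le_of_le fun y hy => ?_
        obtain ⟨w, hw, rfl⟩ : y ∈ S₀.map (MulAut.conj g).toMonoidHom := hR' hy
        refine ⟨w, ⟨hw, ?_⟩, rfl⟩
        simpa [mul_assoc] using
          Thompson.instPPrimePCoreNormal.conj_mem _ (Subgroup.map_subtype_le _ hy) g⁻¹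
      rw [hTQ]; exact (Thompson.sylow_pPrimePCore_sup Q).symm
    haveI := hsol
    have hHH := Thompson.centralizer_pCore_le (p := p)
      (Thompson.isPSolvable_quotient R (OddLocal44.isPSolvable_of_isSolvable))
      (Thompson.pPrimeCore_quotient_pPrimeCore)
    have hST : S₀ ≤ Subgroup.normalizer (T : Set G) := by
      intro s hs
      refine PLocalB.mem_normalizer_of_conj_mem T s ?_
      rintro y ⟨hy, hyP⟩
      exact ⟨S₀.mul_mem (S₀.mul_mem hs hy) (S₀.inv_mem hs),
        Thompson.instPPrimePCoreNormal.conj_mem y hyP s⟩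
    refine ⟨Subgroup.normalizer (T : Set G), T ⊓ Subgroup.centralizer (T : Set G), hST,
      inf_le_left.trans inf_le_left, ?_, ?_, ?_, ?_⟩
    · intro n hn
      refine PLocalB.mem_normalizer_of_conj_mem _ n ?_
      rintro y ⟨hy, hyc⟩
      refine ⟨(Subgroup.mem_normalizer_iff.mp hn y).mp hy, Subgroup.mem_centralizer_iff.mpr fun w hw => ?_⟩
      have hw' : n⁻¹ * w * n ∈ T := by
        simpa using (Subgroup.mem_normalizer_iff.mp (inv_mem hn) w).mp hw
      calc w * (n * y * n⁻¹) = n * ((n⁻¹ * w * n) * y) * n⁻¹ := by group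
        _ = n * (y * (n⁻¹ * w * n)) * n⁻¹ := by rw [Subgroup.mem_centralizer_iff.mp hyc _ hw']
        _ = n * y * n⁻¹ * w := by group
    · exact Subgroup.le_centralizer_iff_isMulCommutative.mp
        (inf_le_right.trans (Subgroup.centralizer_le inf_le_left))
    · rintro z ⟨hzS, hzC⟩
      refine ⟨⟨hzS, hHH (Subgroup.mem_centralizer_iff.mpr fun w hw => ?_)⟩,
        Subgroup.centralizer_le inf_le_left hzC⟩
      rw [← Thompson.map_mk'_pPrimePCore] at hw
      obtain ⟨v, hv, rfl⟩ := hw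
      obtain ⟨a, ha, b, hb, rfl⟩ := Subgroup.mem_sup_of_normal_left.mp (hPTR ▸ hv : v ∈ R ⊔ T)
      rw [map_mul, show QuotientGroup.mk' R a = 1 from (QuotientGroup.eq_one_iff a).mpr ha, one_mul,
        ← map_mul, ← map_mul, Subgroup.mem_centralizer_iff.mp hzC b hb.1]
    · rintro x ⟨⟨hxT, -⟩, hxN⟩ g hg
      have htop : R ⊔ Subgroup.normalizer (T : Set G) = ⊤ := by
        haveI : P.Normal := Thompson.instPPrimePCoreNormal
        have hfr := PLocalB.normalizer_inf_sup_eq_top S P
        rw [eq_top_iff, ← hfr]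
        exact sup_le le_sup_right (hPTR.le.trans (sup_le_sup_left Subgroup.le_normalizer R))
      obtain ⟨r, hr, n, hn, rfl⟩ := Subgroup.mem_sup_of_normal_left.mp
        (htop.symm ▸ Subgroup.mem_top g : g ∈ R ⊔ Subgroup.normalizer (T : Set G))
      have e : r * n * x * (r * n)⁻¹ = r * x * r⁻¹ := by
        calc r * n * x * (r * n)⁻¹ = r * (n * x * n⁻¹) * r⁻¹ := by group
          _ = r * x * r⁻¹ := by rw [Subgroup.mem_centralizer_iff.mp hxN n hn, mul_inv_cancel_right]
      rw [e] at hg ⊢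
      have h1 : r * x * r⁻¹ * x⁻¹ ∈ S₀ ⊓ R := by
        refine ⟨S₀.mul_mem hg (S₀.inv_mem hxT.1), ?_⟩
        rw [mul_assoc, mul_assoc, ← mul_assoc x]
        exact R.mul_mem hr (Thompson.instPPrimeCoreNormal.conj_mem _ (R.inv_mem hr) x)
      rw [Thompson.inf_eq_bot_of_isPGroup_of_coprime S.2 Thompson.card_pPrimeCore_coprime,
        Subgroup.mem_bot, mul_inv_eq_one] at h1
      exact h1

end Cfsg.Agent.S1945
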