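import Cfsg.Statements.S1946
import Cfsg.Agent.T51.SmallElements

set_option autoImplicit false
open Cfsg

namespace Cfsg.Agent.S1946

/-- Let P be a Sylow p-subgroup of the finite group G. Then G has a normal p-complement if and only if P controls the fusion of its elements of order dividing p (dividing 4 when p = 2): whenever such an element a of P has a G-conjugate g a g⁻¹ in P, that conjugate is already x a x⁻¹ for some x in P. -/
theorem result {G : Type*} [Group G] [Finite G] {p : ℕ} [Fact p.Prime] (P : Sylow p G) :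
    Cfsg.HasNormalPComplement p G ↔
      ∀ a ∈ (P : Subgroup G), (a ^ p = 1 ∨ (p = 2 ∧ a ^ 4 = 1)) → ∀ g : G, g * a * g⁻¹ ∈ (P : Subgroup G) →
        ∃ x ∈ (P : Subgroup G), g * a * g⁻¹ = x * a * x⁻¹ := by
  refine ⟨fun hN a ha _ g hg => ?_, fun h => T51.hasNormalPComplement_of_small_fusion P h⟩
  obtain ⟨N, hNn, hc⟩ := (Transfer.hasNormalPComplement_iff_exists P).mp hN
  obtain ⟨x, hx, n, hn, rfl⟩ : ∃ x ∈ (P : Subgroup G), ∃ n ∈ N, x * n = g := by
    obtain ⟨⟨x, n⟩, hxn⟩ := (Subgroup.IsComplement'.symm hc).2 g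
    exact ⟨x, x.2, n, n.2, hxn⟩
  refine ⟨x, hx, ?_⟩
  have hP' : n * a * n⁻¹ ∈ (P : Subgroup G) := by
    simpa [mul_assoc] using
      (P : Subgroup G).mul_mem ((P : Subgroup G).mul_mem ((P : Subgroup G).inv_mem hx) hg) hx
  have h1 : n * a * n⁻¹ * a⁻¹ ∈ N ⊓ (P : Subgroup G) :=
    ⟨by simpa [mul_assoc] using N.mul_mem hn (hNn.conj_mem _ (N.inv_mem hn) a),
      (P : Subgroup G).mul_mem hP' ((P : Subgroup G).inv_mem ha)⟩
  rw [disjoint_iff.mp hc.disjoint, Subgroup.mem_bot] at h1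
  calc x * n * a * (x * n)⁻¹ = x * (n * a * n⁻¹ * a⁻¹) * a * x⁻¹ := by group
    _ = x * a * x⁻¹ := by rw [h1, mul_one]

end Cfsg.Agent.S1946
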