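import Cfsg.Statements.S1948
import Cfsg.Agent.T51.PPrimeP

set_option autoImplicit false
open Cfsg

namespace Cfsg.Agent.S1948

theorem exists_sylow_map {G : Type*} [Group G] [Finite G] {p : ℕ} [Fact p.Prime] (S : Sylow p G) :
    ∃ Q : Sylow p ↥(Cfsg.pPrimePCore p G), (Q : Subgroup ↥(Cfsg.pPrimePCore p G)).map (Cfsg.pPrimePCore p G).subtype =
      (S : Subgroup G) ⊓ Cfsg.pPrimePCore p G := by
  set T := Cfsg.pPrimePCore p G
  obtain ⟨Q, hQ⟩ := (S.2.comap_subtype (K := T)).exists_le_sylow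
  refine ⟨Q, le_antisymm ?_ fun x hx => ⟨⟨x, hx.2⟩, hQ hx.1, rfl⟩⟩
  rintro _ ⟨x, hx, rfl⟩
  obtain ⟨d, hd, u, hu, e⟩ := Coprime.exists_mul_of_mem_sup
    (le_top.trans_eq (Subgroup.normalizer_eq_top _).symm) (T51.pPrimePCore_le S x.2)
  have hdT : d ∈ T := Thompson.pPrimeCore_le_pPrimePCore hd
  have hdQ : (⟨d, hdT⟩ : T) ∈ (Q : Subgroup T) := by
    have h := (Q : Subgroup T).mul_mem hx ((Q : Subgroup T).inv_mem (hQ (show (⟨u, hu.2⟩ : T) ∈ _ from hu.1)))
    convert h using 1
    exact Subtype.ext (by rw [Subgroup.coe_mul, Subgroup.coe_inv, e, mul_inv_cancel_right])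
  have hd1 : d = 1 := by
    obtain ⟨k, hk⟩ := Q.2 ⟨_, hdQ⟩
    have h1 : d ^ p ^ k = 1 := by simpa using congrArg Subtype.val (congrArg Subtype.val hk)
    exact orderOf_eq_one_iff.mp (Nat.eq_one_of_dvd_coprimes
      ((Thompson.card_pPrimeCore_coprime (G := G) (p := p)).pow_right k)
      (Subgroup.orderOf_dvd_natCard _ hd) (orderOf_dvd_of_pow_eq_one h1))
  rw [hd1, one_mul] at e
  show (x : G) ∈ (S : Subgroup G) ⊓ T
  rw [e]
  exact hu

theorem isPConstrained_of_le {G : Type*} [Group G] [Finite G] {p : ℕ} [Fact p.Prime] (S : Sylow p G)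
    (hS : (S : Subgroup G) ≤ Cfsg.pPrimePCore p G) : Cfsg.IsPConstrained p G := by
  intro P c hc
  set D := Cfsg.pPrimeCore p G
  set π := QuotientGroup.mk' D
  set O := Cfsg.pCore p (G ⧸ D)
  set C := Subgroup.centralizer (O : Set (G ⧸ D))
  have hPO : ((P : Subgroup ↥(Cfsg.pPrimePCore p G)).map (Cfsg.pPrimePCore p G).subtype).map π = O := by
    have h := congrArg (Subgroup.map π) (Thompson.sylow_pPrimePCore_sup P)
    rwa [Subgroup.map_sup, QuotientGroup.map_mk'_self, bot_sup_eq, Thompson.map_mk'_pPrimePCore] at h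
  have hcC : π c ∈ C := Subgroup.mem_centralizer_iff.mpr fun y hy => by
    obtain ⟨u, hu, rfl⟩ := (hPO.ge hy)
    rw [← map_mul, ← map_mul, Subgroup.mem_centralizer_iff.mp hc u hu]
  have hidxO : ¬ p ∣ O.index := by
    have hle : (S.mapSurjective (QuotientGroup.mk'_surjective D) : Subgroup (G ⧸ D)) ≤ O := by
      rw [Sylow.coe_mapSurjective]
      rintro _ ⟨x, hx, rfl⟩
      exact hS hx
    exact fun h => (S.mapSurjective (QuotientGroup.mk'_surjective D)).not_dvd_index
      (h.trans (Subgroup.index_dvd_of_le hle))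
  have hCn : C.Normal := Subgroup.normal_centralizer
  have hZ : ((O ⊓ C).subgroupOf C) = ⊤ := by
    refine Thompson.eq_top_of_central_of_coprime_index (p := p)
      ((Thompson.isPGroup_pCore.to_le inf_le_left).comap_subtype) ?_ ?_ ?_
    · intro x hx
      rw [Subgroup.mem_center_iff]
      intro y
      exact Subtype.ext ((Subgroup.mem_centralizer_iff.mp y.2 (x : G ⧸ D) hx.1).symm)
    · refine ((Nat.Prime.coprime_iff_not_dvd Fact.out).mpr fun h => hidxO (h.trans ?_)).symm
      show (O ⊓ C).relIndex C ∣ O.index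
      rw [Subgroup.inf_relIndex_right]
      exact Subgroup.relIndex_dvd_index_of_normal O C
    · have h1 := Thompson.map_pPrimeCore_normal_le (p := p) C
      rw [Thompson.pPrimeCore_quotient_pPrimeCore, le_bot_iff,
        Subgroup.map_eq_bot_iff_of_injective _ (Subgroup.subtype_injective _)] at h1
      exact h1
  exact (Subgroup.subgroupOf_eq_top.mp hZ hcC).1

/-- Let S be a Sylow p-subgroup of the finite group G. Then G = N_G(S)·O_{p'}(G) if and only if G is p-constrained and N_G(S) controls fusion in S, in the sense that whenever a subgroup Q of S has a conjugate g Q g⁻¹ inside S, the element g is a product n c with n normalizing S and c centralizing Q. -/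
theorem result {G : Type*} [Group G] [Finite G] {p : ℕ} [Fact p.Prime] (S : Sylow p G) :
    Subgroup.normalizer ((S : Subgroup G) : Set G) ⊔ Cfsg.pPrimeCore p G = ⊤ ↔
      (Cfsg.IsPConstrained p G ∧
        ∀ Q : Subgroup G, Q ≤ (S : Subgroup G) → ∀ g : G, Q.map (MulAut.conj g).toMonoidHom ≤ (S : Subgroup G) →
          ∃ n ∈ Subgroup.normalizer ((S : Subgroup G) : Set G), ∃ c ∈ Subgroup.centralizer (Q : Set G), g = n * c) := by
  set D := Cfsg.pPrimeCore p G
  set N := Subgroup.normalizer ((S : Subgroup G) : Set G)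
  have hND : N ≤ Subgroup.normalizer (D : Set G) := le_top.trans_eq (Subgroup.normalizer_eq_top _).symm
  constructor
  · intro htop
    have hdec : ∀ g : G, ∃ d ∈ D, ∃ n ∈ N, g = d * n := fun g =>
      Coprime.exists_mul_of_mem_sup hND (sup_comm D N ▸ htop ▸ Subgroup.mem_top g)
    refine ⟨isPConstrained_of_le S (Thompson.le_pPrimePCore_of_isPGroup ⟨fun x hx g => ?_⟩ S.2), ?_⟩
    · obtain ⟨d, hd, n, hn, rfl⟩ := hdec g
      obtain ⟨u, hu, s, hs, rfl⟩ := Coprime.exists_mul_of_mem_sup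
        (le_top.trans_eq (Subgroup.normalizer_eq_top _).symm) hx
      have h1 : n * s * n⁻¹ ∈ (S : Subgroup G) := (Subgroup.mem_normalizer_iff.mp hn s).mp hs
      have h2 : n * u * n⁻¹ ∈ D := (Thompson.instPPrimeCoreNormal).conj_mem u hu n
      have e : d * n * (u * s) * (d * n)⁻¹ = d * (n * u * n⁻¹) * (n * s * n⁻¹) * d⁻¹ := by group
      rw [e]
      exact mul_mem (mul_mem (mul_mem (Subgroup.mem_sup_left hd) (Subgroup.mem_sup_left h2))
        (Subgroup.mem_sup_right h1)) (Subgroup.mem_sup_left (inv_mem hd))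
    · intro Q hQ g hg
      obtain ⟨d, hd, n, hn, rfl⟩ := hdec g
      have hd' : n⁻¹ * d * n ∈ D := by simpa using (Thompson.instPPrimeCoreNormal).conj_mem d hd n⁻¹
      refine ⟨n, hn, n⁻¹ * d * n, Subgroup.mem_centralizer_iff.mpr fun q hq => ?_, by group⟩
      set d' := n⁻¹ * d * n with hd'e
      have h1 : d' * q * d'⁻¹ ∈ (S : Subgroup G) := by
        have h := hg ⟨q, hq, rfl⟩
        refine (Subgroup.mem_normalizer_iff.mp hn _).mpr ?_
        convert h using 1
        simp only [hd'e, MulEquiv.coe_toMonoidHom, MulAut.conj_apply]; group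
      have h2 : d' * q * d'⁻¹ * q⁻¹ ∈ (S : Subgroup G) ⊓ D :=
        ⟨(S : Subgroup G).mul_mem h1 ((S : Subgroup G).inv_mem (hQ hq)), by
          rw [show d' * q * d'⁻¹ * q⁻¹ = d' * (q * d'⁻¹ * q⁻¹) by group]
          exact mul_mem hd' ((Thompson.instPPrimeCoreNormal).conj_mem _ (inv_mem hd') q)⟩
      rw [Thompson.inf_eq_bot_of_isPGroup_of_coprime S.2 Thompson.card_pPrimeCore_coprime, Subgroup.mem_bot,
        mul_inv_eq_one, mul_inv_eq_iff_eq_mul] at h2
      exact h2.symm
  · rintro ⟨hcon, hfus⟩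
    rw [eq_top_iff]
    intro g _
    obtain ⟨d, hd, n, hn, rfl⟩ := T51.exists_mul_normalizer S g
    refine mul_mem (Subgroup.mem_sup_right hd) ?_
    set H := (S : Subgroup G) ⊓ Cfsg.pPrimePCore p G
    obtain ⟨m, hm, c, hc, rfl⟩ := hfus H inf_le_left n (by
      rintro _ ⟨x, hx, rfl⟩
      exact ((Subgroup.mem_normalizer_iff.mp hn x).mp hx).1)
    refine mul_mem (Subgroup.mem_sup_left hm) ?_
    obtain ⟨Q, hQ⟩ := exists_sylow_map S
    have hcT : c ∈ Cfsg.pPrimePCore p G := hcon Q (by rw [hQ]; exact hc)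
    obtain ⟨u, hu, s, hs, rfl⟩ := Coprime.exists_mul_of_mem_sup
      (le_top.trans_eq (Subgroup.normalizer_eq_top _).symm) (T51.pPrimePCore_le S hcT)
    exact mul_mem (Subgroup.mem_sup_right hu) (Subgroup.mem_sup_left (Subgroup.le_normalizer hs.1))

end Cfsg.Agent.S1948
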