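import Cfsg.Statements.S1953
import Cfsg.Agent.T51.CentricMain


set_option autoImplicit false
open Cfsg

namespace Cfsg.Agent.S1953

/-- Let p be an odd prime and P a Sylow p-subgroup of the finite group G, and suppose that for no p-subgroup Q of G does N_G(Q)/C_G(Q) have a section isomorphic to SL₂(p). Call a subgroup Q of P centric-radical when Z(Q) is a Sylow p-subgroup of C_G(Q) and the only normal subgroup X of N_G(Q) containing Q·C_G(Q) such that the index of Q·C_G(Q) in X is a power of p is Q·C_G(Q) itself (that is, N_G(Q)/Q·C_G(Q) has no nontrivial normal p-subgroup). Then there is a centric-radical subgroup Q of P contained in every centric-radical subgroup of P; it is normal in P, and N_G(Q) controls strong fusion in P: whenever a subgroup A of P has g A g⁻¹ ≤ P, the element g is a product h c with h in N_G(Q) and c centralizing A. -/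
theorem result {G : Type*} [Group G] [Finite G] {p : ℕ} [Fact p.Prime] (hp : p ≠ 2) (P : Sylow p G)
    (hfree : ∀ Q : Subgroup G, IsPGroup p ↥Q → ¬ ∃ (H K : Subgroup G) (_ : (K.subgroupOf H).Normal),
      Subgroup.centralizer (Q : Set G) ≤ K ∧ K ≤ H ∧ H ≤ Subgroup.normalizer (Q : Set G) ∧
      Nonempty ((↥H ⧸ K.subgroupOf H) ≃* Matrix.SpecialLinearGroup (Fin 2) (ZMod p)))
    (cr : Subgroup G → Prop)
    (hcr : ∀ Q : Subgroup G, cr Q ↔ (Q ≤ (P : Subgroup G) ∧
      (∃ R : Sylow p ↥(Subgroup.centralizer (Q : Set G)),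
        (R : Subgroup ↥(Subgroup.centralizer (Q : Set G))).map (Subgroup.centralizer (Q : Set G)).subtype = Q ⊓ Subgroup.centralizer (Q : Set G)) ∧
      ∀ X : Subgroup G, X ≤ Subgroup.normalizer (Q : Set G) →
        (∀ n ∈ Subgroup.normalizer (Q : Set G), X.map (MulAut.conj n).toMonoidHom = X) →
        Q ⊔ Subgroup.centralizer (Q : Set G) ≤ X → (∃ k : ℕ, (Q ⊔ Subgroup.centralizer (Q : Set G)).relIndex X = p ^ k) →
        X = Q ⊔ Subgroup.centralizer (Q : Set G))) :
    ∃ Q : Subgroup G, cr Q ∧ (∀ R : Subgroup G, cr R → Q ≤ R) ∧ (∀ x ∈ (P : Subgroup G), Q.map (MulAut.conj x).toMonoidHom = Q) ∧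
      ∀ A : Subgroup G, A ≤ (P : Subgroup G) → ∀ g : G, A.map (MulAut.conj g).toMonoidHom ≤ (P : Subgroup G) →
        ∃ h ∈ Subgroup.normalizer (Q : Set G), ∃ c ∈ Subgroup.centralizer (A : Set G), g = h * c := by
  obtain ⟨E₀, hE₀⟩ := T51.Centric.exists_good hp (Nat.card G) G le_rfl hfree P
  have hP := ConjFunctor.isSylowIn_top P
  obtain ⟨Q, hQ, hr⟩ := hE₀.exists_rad hP
  have hC : ∀ E : Subgroup G, (⊤ : Subgroup G) ⊓ Subgroup.centralizer (E : Set G) =
      Subgroup.centralizer (E : Set G) := fun E => top_inf_eq _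
  have hN : ∀ E : Subgroup G, (⊤ : Subgroup G) ⊓ ConjFunctor.nrm E = ConjFunctor.nrm E := fun E => top_inf_eq _
  have hcrQ : cr Q := by
    refine (hcr Q).2 ⟨hQ.le, ?_, ?_⟩
    · have hS := hQ.isSylowIn_centralizer hP
      rw [hC] at hS
      obtain ⟨R, hR⟩ := hS.exists_sylow
      refine ⟨R, hR.trans (le_antisymm (le_inf hQ.cent inf_le_right) (inf_le_inf_right _ hQ.le))⟩
    · intro X hXN hXn hKX hk
      obtain ⟨k, hk⟩ := hk
      set K := Q ⊔ Subgroup.centralizer (Q : Set G) with hK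
      have hXN' : X ≤ ConjFunctor.nrm Q := hXN
      have hnK : X ≤ ConjFunctor.nrm K := fun x hx =>
        T51.Centric.nrm_sup (hXN' hx) (by
          have := T51.Centric.inf_centralizer_le_nrm (H := (⊤ : Subgroup G)) (E := Q)
            ⟨Subgroup.mem_top x, hXN' hx⟩
          rwa [hC] at this)
      refine le_antisymm ?_ hKX
      have h := hr X le_top hXN' (by
          rw [hN]
          exact fun n hn => ConjFunctor.mem_nrm_iff_cnj.2 (hXn n hn))
        (by rw [T51.Centric.ecn, hC]; exact hKX) (by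
          intro x hx
          refine ⟨k, ?_⟩
          rw [T51.Centric.ecn, hC]
          haveI : (K.subgroupOf X).Normal := (Subgroup.normal_subgroupOf_iff_le_normalizer hKX).2 hnK
          have hc : Nat.card (↥X ⧸ K.subgroupOf X) = p ^ k := hk
          have h1 : (QuotientGroup.mk (⟨x, hx⟩ : ↥X) : ↥X ⧸ K.subgroupOf X) ^ p ^ k = 1 := by
            rw [← hc]; exact pow_card_eq_one'
          exact Subgroup.mem_subgroupOf.1 ((QuotientGroup.eq_one_iff ((⟨x, hx⟩ : ↥X) ^ p ^ k)).1 h1))
      rwa [T51.Centric.ecn, hC] at h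
  refine ⟨Q, hcrQ, fun R hR => ?_, fun x hx => ConjFunctor.mem_nrm_iff_cnj.1 (hQ.norm hx), ?_⟩
  · obtain ⟨hRP, ⟨R₀, hR₀⟩, hrad⟩ := (hcr R).1 hR
    refine T51.Centric.le_of_cr (C := (⊤ : Subgroup G)) (D := Q) hP hQ.ctl le_rfl
      (by rw [ConjFunctor.nrm_eq_top]) inf_le_right (le_inf hQ.le le_top) hQ.norm
      (le_inf hRP le_top) ?_ ?_
    · refine T51.Centric.pcen_of_sylow (R := R ⊓ Subgroup.centralizer (R : Set G)) ?_ inf_le_left
      rw [hC, ← hR₀]
      exact ConjFunctor.IsSylowIn.of_sylow R₀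
    · intro X _ hXN hXn hKX hPM
      rw [hN] at hXn
      rw [T51.Centric.ecn, hC] at hKX hPM ⊢
      set K := R ⊔ Subgroup.centralizer (R : Set G) with hK
      have hnK : X ≤ ConjFunctor.nrm K := fun x hx =>
        T51.Centric.nrm_sup (hXN hx) (by
          have := T51.Centric.inf_centralizer_le_nrm (H := (⊤ : Subgroup G)) (E := R)
            ⟨Subgroup.mem_top x, hXN hx⟩
          rwa [hC] at this)
      haveI : (K.subgroupOf X).Normal := (Subgroup.normal_subgroupOf_iff_le_normalizer hKX).2 hnK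
      have hq : IsPGroup p (↥X ⧸ K.subgroupOf X) := by
        intro q
        induction q using QuotientGroup.induction_on with
        | H x =>
          obtain ⟨i, hi⟩ := hPM x x.2
          exact ⟨i, (QuotientGroup.eq_one_iff (x ^ p ^ i)).2 (Subgroup.mem_subgroupOf.2 (by simpa using hi))⟩
      exact (hrad X hXN (fun n hn => ConjFunctor.mem_nrm_iff_cnj.1 (hXn hn)) hKX
        (IsPGroup.iff_card.1 hq)).le
  · intro A hA g hgA
    obtain ⟨h, -, hh, he⟩ := hQ.ctl A hA g (Subgroup.mem_top _) fun a ha => hgA ⟨a, ha, rfl⟩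
    refine ⟨h, hh, h⁻¹ * g, Subgroup.mem_centralizer_iff.2 fun a ha => ?_, by group⟩
    calc a * (h⁻¹ * g) = h⁻¹ * (h * a * h⁻¹) * g := by group
      _ = h⁻¹ * (g * a * g⁻¹) * g := by rw [he a ha]
      _ = h⁻¹ * g * a := by group

end Cfsg.Agent.S1953
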