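import Cfsg.Statements.S1954
import Cfsg.Agent.T51.ConjTransitive
import Cfsg.Agent.Lib.Solvable.Basic

set_option autoImplicit false
open Cfsg

namespace Cfsg.Agent.S1954

open T51.Transitive in
/-- Control of fusion by several conjugates of `V` at once. -/
theorem control_all {G : Type*} [Group G] (N Q V : Subgroup G) [N.Normal]
    (hV : V ≤ Q)
    (hctrl : ∀ A : Subgroup G, A ≤ Q → ∀ n ∈ N, cj n A ≤ Q →
      ∃ h ∈ N ⊓ Subgroup.normalizer (V : Set G), ∃ c ∈ N ⊓ Subgroup.centralizer (A : Set G), n = h * c)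
    (F : Finset G) (hF : ∀ x ∈ F, x ∈ Subgroup.normalizer (Q : Set G)) :
    ∀ A : Subgroup G, A ≤ Q → ∀ n ∈ N, cj n A ≤ Q →
      ∃ h ∈ N, (∀ x ∈ F, cj h (cj x V) = cj x V) ∧ ∃ c ∈ N ⊓ Subgroup.centralizer (A : Set G), n = h * c := by
  classical
  induction F using Finset.induction_on with
  | empty =>
    intro A hA n hn hnA
    exact ⟨n, hn, by simp, 1, one_mem _, by simp⟩
  | insert x F hxF ih =>
    intro A hA n hn hnA
    obtain ⟨h, hh, hhF, c, hc, rfl⟩ := ih (fun y hy => hF y (Finset.mem_insert_of_mem hy)) A hA n hn hnA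
    set B := A ⊔ ⨆ y ∈ F, cj y V with hBdef
    have hyV : ∀ y ∈ insert x F, cj y V ≤ Q := fun y hy =>
      (Subgroup.map_mono hV).trans (cj_le_self_of_mem (hF y hy))
    have hBQ : B ≤ Q := sup_le hA (iSup₂_le fun y hy => hyV y (Finset.mem_insert_of_mem hy))
    have hhB : cj h B ≤ Q := by
      rw [hBdef, cj, Subgroup.map_sup, Subgroup.map_iSup]
      refine sup_le ?_ (iSup_le fun y => ?_)
      · rintro _ ⟨a, ha, rfl⟩
        have hca : c * a = a * c := (Subgroup.mem_centralizer_iff.mp hc.2 a ha).symm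
        have := hnA ⟨a, ha, rfl⟩
        change h * c * a * (h * c)⁻¹ ∈ Q at this
        show h * a * h⁻¹ ∈ Q
        rwa [show h * c * a * (h * c)⁻¹ = h * (c * a) * c⁻¹ * h⁻¹ by group, hca,
          show h * (a * c) * c⁻¹ * h⁻¹ = h * a * h⁻¹ by group] at this
      · rw [Subgroup.map_iSup]
        refine iSup_le fun hy => ?_
        exact (hhF y hy).le.trans (hyV y (Finset.mem_insert_of_mem hy))
    have hx := hF x (Finset.mem_insert_self x F)
    have hx' := inv_mem hx
    obtain ⟨h1, hh1, c1, hc1, he⟩ := hctrl (cj x⁻¹ B) ((Subgroup.map_mono hBQ).trans (cj_le_self_of_mem hx'))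
      (x⁻¹ * h * x) (by simpa using (inferInstance : N.Normal).conj_mem h hh x⁻¹) (by
        rw [← cj_mul, show x⁻¹ * h * x * x⁻¹ = x⁻¹ * h by group, cj_mul]
        exact (Subgroup.map_mono hhB).trans (cj_le_self_of_mem hx'))
    set h2 := x * h1 * x⁻¹ with hh2
    set c2 := x * c1 * x⁻¹ with hc2
    have he' : h = h2 * c2 := by
      calc h = x * (x⁻¹ * h * x) * x⁻¹ := by group
        _ = _ := by rw [he, hh2, hc2]; group
    have hc2B : c2 ∈ Subgroup.centralizer (B : Set G) := Subgroup.mem_centralizer_iff.mpr fun b hb => by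
      have h := Subgroup.mem_centralizer_iff.mp hc1.2 _ ⟨b, hb, rfl⟩
      change x⁻¹ * b * x⁻¹⁻¹ * c1 = c1 * (x⁻¹ * b * x⁻¹⁻¹) at h
      calc b * (x * c1 * x⁻¹) = x * (x⁻¹ * b * x⁻¹⁻¹ * c1) * x⁻¹ := by group
        _ = _ := by rw [h, hc2]; group
    refine ⟨h2, (inferInstance : N.Normal).conj_mem h1 hh1.1 x, fun y hy => ?_, c2 * c,
      ⟨N.mul_mem ((inferInstance : N.Normal).conj_mem c1 hc1.1 x) hc.1,
        (Subgroup.centralizer (A : Set G)).mul_mem (Subgroup.centralizer_le (SetLike.coe_subset_coe.mpr le_sup_left) hc2B) hc.2⟩,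
      by rw [he', mul_assoc]⟩
    rcases Finset.mem_insert.mp hy with rfl | hy
    · rw [hh2, ← cj_mul, inv_mul_cancel_right, cj_mul, cj_eq_iff.mpr hh1.2]
    · have hcy : cj c2 (cj y V) = cj y V :=
        cj_eq_iff.mpr (Subgroup.centralizer_le_normalizer _ (Subgroup.centralizer_le
          (SetLike.coe_subset_coe.mpr ((le_iSup₂_of_le (f := fun y (_ : y ∈ F) => cj y V) y hy le_rfl).trans le_sup_right)) hc2B))
      have h := hhF y hy
      rwa [he', cj_mul, hcy] at h

/-- Let N be a normal subgroup of the finite group G, P a Sylow p-subgroup of G, and V a subgroup of P ∩ N normal in P ∩ N such that N_N(V) controls strong fusion in P ∩ N with respect to N (whenever a subgroup A of P ∩ N has n A n⁻¹ ≤ P ∩ N for some n in N, then n = h c with h in N_N(V) and c in C_N(A)). Let W be the subgroup generated by the conjugates of V under N_G(P ∩ N). Then N_G(W) controls strong fusion in P with respect to G. -/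
theorem result {G : Type*} [Group G] [Finite G] {p : ℕ} [Fact p.Prime] (N : Subgroup G) [N.Normal] (P : Sylow p G) (V : Subgroup G)
    (hV : V ≤ (P : Subgroup G) ⊓ N) (hVn : ∀ x ∈ (P : Subgroup G) ⊓ N, V.map (MulAut.conj x).toMonoidHom = V)
    (hctrl : ∀ A : Subgroup G, A ≤ (P : Subgroup G) ⊓ N → ∀ n ∈ N, A.map (MulAut.conj n).toMonoidHom ≤ (P : Subgroup G) ⊓ N →
      ∃ h ∈ N ⊓ Subgroup.normalizer (V : Set G), ∃ c ∈ N ⊓ Subgroup.centralizer (A : Set G), n = h * c)
    (W : Subgroup G) (hW : W = Subgroup.closure (⋃ x ∈ Subgroup.normalizer (((P : Subgroup G) ⊓ N : Subgroup G) : Set G),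
      ((V.map (MulAut.conj x).toMonoidHom : Subgroup G) : Set G))) :
    ∀ A : Subgroup G, A ≤ (P : Subgroup G) → ∀ g : G, A.map (MulAut.conj g).toMonoidHom ≤ (P : Subgroup G) →
        ∃ h ∈ Subgroup.normalizer (W : Set G), ∃ c ∈ Subgroup.centralizer (A : Set G), g = h * c := by
  classical
  letI := Fintype.ofFinite G
  set Q := (P : Subgroup G) ⊓ N with hQdef
  set NQ := Subgroup.normalizer (Q : Set G) with hNQ
  have hQp : IsPGroup p Q := P.2.to_le inf_le_left
  have hnN : ∀ Y : Subgroup G, Y ≤ Subgroup.normalizer (N : Set G) := fun Y =>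
    le_top.trans_eq (Subgroup.normalizer_eq_top _).symm
  have hQN : ¬ p ∣ Q.relIndex N := by
    rw [hQdef, Subgroup.inf_relIndex_right]
    intro hd
    refine P.not_dvd_index (hd.trans ?_)
    have h1 := Solvable.card_sup_mul_card_inf (P : Subgroup G) N
    have h2 := (((P : Subgroup G) ⊓ N).subgroupOf N).card_mul_index
    rw [Nat.card_congr (Subgroup.subgroupOfEquivOfLe inf_le_right).toEquiv,
      show (((P : Subgroup G) ⊓ N).subgroupOf N).index = (P : Subgroup G).relIndex N from Subgroup.inf_relIndex_right _ _] at h2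
    rw [← h2, mul_comm _ ((P : Subgroup G).relIndex N), ← mul_assoc] at h1
    have h3 := Nat.eq_of_mul_eq_mul_right Nat.card_pos h1
    have h4 := Subgroup.card_subgroup_dvd_card ((P : Subgroup G) ⊔ N)
    rw [h3, ← (P : Subgroup G).card_mul_index] at h4
    exact Nat.dvd_of_mul_dvd_mul_left Nat.card_pos h4
  have hPQ : (P : Subgroup G) ≤ NQ := Coprime.le_normalizer_inf Subgroup.le_normalizer (hnN _)
  have hgen : ∀ x ∈ NQ, T51.Transitive.cj x V ≤ W := fun x hx => by
    rw [hW]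
    exact fun y hy => Subgroup.subset_closure (Set.mem_biUnion (x := x) hx hy)
  have hWle : ∀ U : Subgroup G, (∀ x ∈ NQ, T51.Transitive.cj x V ≤ U) → W ≤ U := fun U hU => by
    rw [hW, Subgroup.closure_le]
    exact Set.iUnion₂_subset fun x hx => hU x hx
  have hNW : ∀ h : G, (∀ x ∈ NQ, ∃ x' ∈ NQ, T51.Transitive.cj h (T51.Transitive.cj x V) = T51.Transitive.cj x' V) →
      h ∈ Subgroup.normalizer (W : Set G) := by
    intro h hh
    refine T51.Transitive.cj_eq_iff.mp (Subgroup.eq_of_le_of_card_ge ?_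
      (le_of_eq (Subgroup.card_map_of_injective (MulAut.conj h).injective).symm))
    rw [T51.Transitive.cj, Subgroup.map_le_iff_le_comap]
    refine hWle _ fun x hx => ?_
    rw [← Subgroup.map_le_iff_le_comap]
    obtain ⟨x', hx', e⟩ := hh x hx
    exact e.le.trans (hgen x' hx')
  have hQW : NQ ≤ Subgroup.normalizer (W : Set G) := fun y hy =>
    hNW y fun x hx => ⟨y * x, mul_mem hy hx, (T51.Transitive.cj_mul y x V).symm⟩
  -- fusion inside `N`
  have hfus : ∀ A : Subgroup G, A ≤ Q → ∀ n ∈ N, T51.Transitive.cj n A ≤ Q →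
      ∃ h ∈ N ⊓ Subgroup.normalizer (W : Set G), ∃ c ∈ N ⊓ Subgroup.centralizer (A : Set G), n = h * c := by
    intro A hA n hn hnA
    obtain ⟨h, hh, hall, c, hc, e⟩ := control_all N Q V hV hctrl
      (Finset.univ.filter fun x => x ∈ NQ) (fun x hx => (Finset.mem_filter.mp hx).2) A hA n hn hnA
    exact ⟨h, ⟨hh, hNW h fun x hx => ⟨x, hx, hall x (by simp [hx])⟩⟩, c, hc, e⟩
  set S1 := N ⊓ Subgroup.normalizer (W : Set G) with hS1
  have hQS1 : Q ≤ S1 := le_inf inf_le_right (Subgroup.le_normalizer.trans hQW)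
  have hQS1i : ¬ p ∣ Q.relIndex S1 := fun hd => hQN (hd.trans
    (Dvd.intro _ (Subgroup.relIndex_mul_relIndex Q S1 N hQS1 inf_le_left)))
  have hWidx : ¬ p ∣ ((Subgroup.normalizer (W : Set G)).subgroupOf N).index := by
    intro hd
    refine hQN (hd.trans ?_)
    have : (Subgroup.normalizer (W : Set G)).relIndex N = S1.relIndex N := (Subgroup.inf_relIndex_left _ _).symm
    show (Subgroup.normalizer (W : Set G)).relIndex N ∣ _
    rw [this]
    exact Dvd.intro_left _ (Subgroup.relIndex_mul_relIndex Q S1 N hQS1 inf_le_left)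
  have hbase : ∀ B : Subgroup G, IsPGroup p B → B ≤ N → ∀ m ∈ N, ∀ m' ∈ N,
      B ≤ Subgroup.normalizer (T51.Transitive.cj m W : Set G) → B ≤ Subgroup.normalizer (T51.Transitive.cj m' W : Set G) →
      ∃ c ∈ N ⊓ Subgroup.centralizer (B : Set G), T51.Transitive.cj c (T51.Transitive.cj m W) = T51.Transitive.cj m' W := by
    intro B hB hBN m hm m' hm' hBm hBm'
    have hinto : ∀ s ∈ N, B ≤ Subgroup.normalizer (T51.Transitive.cj s W : Set G) →
        ∃ h ∈ S1, T51.Transitive.cj (h * s⁻¹) B ≤ Q := by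
      intro s hs hBs
      have hle : T51.Transitive.cj s⁻¹ B ≤ S1 := by
        rintro _ ⟨b, hb, rfl⟩
        refine ⟨N.mul_mem (N.mul_mem (N.inv_mem hs) (hBN hb)) (N.inv_mem (N.inv_mem hs)), T51.Transitive.cj_eq_iff.mp ?_⟩
        show T51.Transitive.cj (s⁻¹ * b * s⁻¹⁻¹) W = W
        rw [inv_inv, T51.Transitive.cj_mul, T51.Transitive.cj_mul, T51.Transitive.cj_eq_iff.mpr (hBs hb),
          T51.Transitive.cj_inv_cancel]
      obtain ⟨h, hh, hle'⟩ := T51.Transitive.exists_conj_le hQS1 hQp hQS1i (hB.map _) hle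
      exact ⟨h, hh, by rwa [T51.Transitive.cj_mul]⟩
    obtain ⟨h1, hh1, hl1⟩ := hinto m hm hBm
    obtain ⟨h2, hh2, hl2⟩ := hinto m' hm' hBm'
    set u := h1 * m⁻¹ with hu
    obtain ⟨h, hh, c, hc, e⟩ := hfus (T51.Transitive.cj u B) hl1 (h2 * m'⁻¹ * u⁻¹)
      (N.mul_mem (N.mul_mem hh2.1 (N.inv_mem hm')) (N.inv_mem (N.mul_mem hh1.1 (N.inv_mem hm))))
      (by rw [← T51.Transitive.cj_mul, inv_mul_cancel_right]; exact hl2)
    refine ⟨u⁻¹ * c⁻¹ * u, ⟨?_, ?_⟩, ?_⟩
    · have huN : u ∈ N := N.mul_mem hh1.1 (N.inv_mem hm)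
      exact N.mul_mem (N.mul_mem (N.inv_mem huN) (N.inv_mem hc.1)) huN
    · refine Subgroup.mem_centralizer_iff.mpr fun b hb => ?_
      have h := Subgroup.mem_centralizer_iff.mp (inv_mem hc.2) _ ⟨b, hb, rfl⟩
      change u * b * u⁻¹ * c⁻¹ = c⁻¹ * (u * b * u⁻¹) at h
      calc b * (u⁻¹ * c⁻¹ * u) = u⁻¹ * (u * b * u⁻¹ * c⁻¹) * u := by group
        _ = _ := by rw [h]; group
    · have e' : u⁻¹ * c⁻¹ * u * m = m' * (h2⁻¹ * h * h1) := by
        have : c = h⁻¹ * (h2 * m'⁻¹ * u⁻¹) := by rw [e, inv_mul_cancel_left]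
        rw [this, hu]; group
      rw [← T51.Transitive.cj_mul, e', T51.Transitive.cj_mul,
        T51.Transitive.cj_eq_iff.mpr (mul_mem (mul_mem (inv_mem hh2.2) hh.2) hh1.2)]
  intro A hA g hg
  -- Frattini
  obtain ⟨y, hy, hyQ⟩ := T51.Transitive.exists_conj_le (inf_le_right : Q ≤ N) hQp hQN
    (hQp.map (MulAut.conj g).toMonoidHom) (show Q.map (MulAut.conj g).toMonoidHom ≤ N from by
      rintro _ ⟨q, hq, rfl⟩
      exact (inferInstance : N.Normal).conj_mem q hq.2 g)
  set x0 := y * g with hx0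
  have hx0Q : x0 ∈ NQ := T51.Transitive.cj_eq_iff.mp (Subgroup.eq_of_le_of_card_ge
    (by rw [T51.Transitive.cj_mul]; exact hyQ) (le_of_eq (Subgroup.card_map_of_injective (MulAut.conj x0).injective).symm))
  set n := x0⁻¹ * g with hn
  have hnN' : n ∈ N := by
    have := (inferInstance : N.Normal).conj_mem y⁻¹ (N.inv_mem hy) g⁻¹
    rw [hn, hx0]
    simpa [mul_assoc] using this
  have hAW : A ≤ Subgroup.normalizer (W : Set G) := hA.trans (hPQ.trans hQW)
  have hAn : A ≤ Subgroup.normalizer (T51.Transitive.cj n⁻¹ W : Set G) := fun a ha => by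
    have h1 : g * a * g⁻¹ ∈ Subgroup.normalizer (W : Set G) := hQW (hPQ (hg ⟨a, ha, rfl⟩))
    have h2 : x0⁻¹ * (g * a * g⁻¹) * x0 ∈ Subgroup.normalizer (W : Set G) :=
      mul_mem (mul_mem (inv_mem (hQW hx0Q)) h1) (hQW hx0Q)
    refine T51.Transitive.cj_eq_iff.mp ?_
    rw [← T51.Transitive.cj_mul, show a * n⁻¹ = n⁻¹ * (x0⁻¹ * (g * a * g⁻¹) * x0) by rw [hn]; group,
      T51.Transitive.cj_mul, T51.Transitive.cj_eq_iff.mpr h2]
  obtain ⟨c, hc, hce⟩ := T51.Transitive.centralizer_transitive N W hWidx hbase _ A (P.2.to_le hA) rfl hAW 1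
    N.one_mem n⁻¹ (N.inv_mem hnN') (by rw [T51.Transitive.cj_one]; exact hAW) hAn
  rw [T51.Transitive.cj_one] at hce
  refine ⟨g * c, ?_, c⁻¹, inv_mem hc.2, by group⟩
  have hnc : n * c ∈ Subgroup.normalizer (W : Set G) := T51.Transitive.cj_eq_iff.mp (by
    rw [T51.Transitive.cj_mul, hce, ← T51.Transitive.cj_mul, mul_inv_cancel, T51.Transitive.cj_one])
  have := mul_mem (hQW hx0Q) hnc
  rwa [hn, ← mul_assoc, mul_inv_cancel_left] at this

end Cfsg.Agent.S1954
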