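import Cfsg.Statements.S1957
import Cfsg.Agent.LocalEven62.Action
import Cfsg.Agent.FG72.CocyclicGeneration
import Cfsg.Agent.OddLocal44.SelfCentralizing

set_option autoImplicit false
open Cfsg

namespace Cfsg.Agent.S1957

open Subgroup

variable {G : Type*} [Group G]

lemma normalizer_zpowers_eq_centralizer {u : G} (hu2 : u * u = 1) (hu1 : u ≠ 1) :
    normalizer ((zpowers u : Subgroup G) : Set G) = centralizer ({u} : Set G) := by
  ext g
  rw [mem_centralizer_singleton_iff]
  constructor
  · intro hg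
    have h : g * u * g⁻¹ ∈ zpowers u := (Subgroup.mem_normalizer_iff.mp hg u).mp (mem_zpowers u)
    obtain ⟨n, hn⟩ := h
    have hu22 : u ^ 2 = 1 := (pow_two u).trans hu2
    have hmem : g * u * g⁻¹ = 1 ∨ g * u * g⁻¹ = u := by
      rcases Int.even_or_odd n with ⟨m, hm⟩ | ⟨m, hm⟩
      · left
        rw [← hn, hm]
        simp [← two_mul, zpow_mul, hu22]
      · right
        rw [← hn, hm]
        simp [zpow_add, zpow_mul, hu22]
    rcases hmem with h | h
    · exfalso
      exact hu1 (by simpa using h)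
    · exact (mul_inv_eq_iff_eq_mul.mp h)
  · intro hg
    rw [Subgroup.mem_normalizer_iff]
    intro x
    have key : ∀ n : ℤ, g * u ^ n * g⁻¹ = u ^ n := by
      intro n
      have hc : Commute g (u ^ n) := (Commute.zpow_right hg n)
      rw [hc.eq, mul_inv_cancel_right]
    constructor
    · rintro ⟨n, rfl⟩
      exact ⟨n, (key n).symm⟩
    · rintro ⟨n, hn⟩
      refine ⟨n, ?_⟩
      have := (key n).trans hn
      exact mul_left_cancel (mul_right_cancel this)

/-- An element `z` whose commutators with the normal 2-subgroup `O` lie in the central pair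
`{1, u}` has `[k, z] = 1` whenever that commutator has odd order and centralizing `O` forces
membership in `O`. -/
lemma comm_eq_one [Finite G] {H O : Subgroup G} {u z k : G} (hu2 : u * u = 1)
    (huH : ∀ g ∈ H, g * u = u * g)
    (hOn : ∀ g ∈ H, ∀ x ∈ O, g * x * g⁻¹ ∈ O) (hO2 : IsPGroup 2 ↥O)
    (hchar : ∀ g ∈ H, (∀ x ∈ O, g * x = x * g) → g ∈ O)
    (hk : k ∈ H) (hz : z ∈ H) (hodd : Odd (orderOf (k * z * k⁻¹ * z⁻¹)))
    (hO : ∀ x ∈ O, z * x * z⁻¹ * x⁻¹ = 1 ∨ z * x * z⁻¹ * x⁻¹ = u) :
    k * z = z * k := by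
  set c := k * z * k⁻¹ * z⁻¹ with hc
  have hcH : c ∈ H := mul_mem (mul_mem (mul_mem hk hz) (inv_mem hk)) (inv_mem hz)
  let A := fun g : G => ∀ x ∈ O, ∃ e : G, (e = 1 ∨ e = u) ∧ g * x * g⁻¹ = e * x
  have hAz : A z := fun x hx => ⟨_, hO x hx, by group⟩
  have hcen : ∀ g ∈ H, ∀ e : G, (e = 1 ∨ e = u) → g * e = e * g := by
    rintro g hg e (rfl | rfl)
    · simp
    · exact huH g hg
  have hmul : ∀ e e' : G, (e = 1 ∨ e = u) → (e' = 1 ∨ e' = u) → (e * e' = 1 ∨ e * e' = u) := by
    rintro e e' (rfl | rfl) (rfl | rfl) <;> simp [hu2]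
  have hAk : A (k * z * k⁻¹) := by
    intro x hx
    obtain ⟨e, he, h⟩ := hAz (k⁻¹ * x * k) (by simpa using hOn k⁻¹ (inv_mem hk) x hx)
    refine ⟨e, he, ?_⟩
    calc k * z * k⁻¹ * x * (k * z * k⁻¹)⁻¹ = k * (z * (k⁻¹ * x * k) * z⁻¹) * k⁻¹ := by group
      _ = k * e * (k⁻¹ * x * k) * k⁻¹ := by rw [h]; group
      _ = e * k * (k⁻¹ * x * k) * k⁻¹ := by rw [hcen k hk e he]
      _ = e * x := by group
  have hAzi : A z⁻¹ := by
    intro x hx
    obtain ⟨e, he, h⟩ := hAz (z⁻¹ * x * z) (by simpa using hOn z⁻¹ (inv_mem hz) x hx)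
    refine ⟨e, he, ?_⟩
    have h' : x = e * (z⁻¹ * x * z) := by rw [← h]; group
    have hee : e * e = 1 := by rcases he with rfl | rfl <;> simp [hu2]
    calc z⁻¹ * x * z⁻¹⁻¹ = (e * e) * (z⁻¹ * x * z) := by rw [hee, one_mul, inv_inv]
      _ = e * x := by rw [mul_assoc, ← h']
  have hAc : A c := by
    intro x hx
    obtain ⟨e, he, h⟩ := hAzi x hx
    have hxO : z⁻¹ * x * z⁻¹⁻¹ ∈ O := hOn _ (inv_mem hz) x hx
    obtain ⟨e', he', h'⟩ := hAk (z⁻¹ * x * z⁻¹⁻¹) hxO
    refine ⟨e' * e, hmul _ _ he' he, ?_⟩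
    calc c * x * c⁻¹ = k * z * k⁻¹ * (z⁻¹ * x * z⁻¹⁻¹) * (k * z * k⁻¹)⁻¹ := by rw [hc]; group
      _ = e' * (e * x) := by rw [h', h]
      _ = e' * e * x := by rw [mul_assoc]
  have hcent : ∀ x ∈ O, c * x = x * c := by
    intro x hx
    obtain ⟨e, he, h⟩ := hAc x hx
    have hpow : ∀ n : ℕ, c ^ n * x * (c ^ n)⁻¹ = e ^ n * x := by
      intro n
      induction n with
      | zero => simp
      | succ n ih =>
        calc c ^ (n + 1) * x * (c ^ (n + 1))⁻¹ = c * (c ^ n * x * (c ^ n)⁻¹) * c⁻¹ := by
              rw [pow_succ']; group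
          _ = (c * e ^ n) * (x * c⁻¹) := by rw [ih]; group
          _ = (e ^ n * c) * (x * c⁻¹) := by
              rw [(Commute.pow_right (hcen c hcH e he) n).eq]
          _ = e ^ n * (c * x * c⁻¹) := by group
          _ = e ^ (n + 1) * x := by rw [h, pow_succ]; group
    have h1 := hpow (orderOf c)
    rw [pow_orderOf_eq_one, one_mul, inv_one, mul_one] at h1
    have he1 : e ^ orderOf c = 1 := by
      calc e ^ orderOf c = e ^ orderOf c * x * x⁻¹ := by group
        _ = x * x⁻¹ := by rw [← h1]
        _ = 1 := mul_inv_cancel x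
    obtain ⟨m, hm⟩ := hodd
    have hee : e ^ 2 = 1 := by rw [pow_two]; rcases he with rfl | rfl <;> simp [hu2]
    rw [hm, pow_succ, pow_mul, hee, one_pow, one_mul] at he1
    rw [he1, one_mul] at h
    exact mul_inv_eq_iff_eq_mul.mp h
  have hcO : c ∈ O := hchar c hcH hcent
  obtain ⟨n, hn⟩ := IsPGroup.iff_orderOf.mp hO2 ⟨c, hcO⟩
  rw [Subgroup.orderOf_mk] at hn
  have hc1 : c = 1 := by
    rcases n with _ | n
    · exact orderOf_eq_one_iff.mp (by simpa using hn)
    · exfalso
      rw [hn] at hodd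
      exact Nat.not_even_iff_odd.mpr hodd ⟨2 ^ n, by ring⟩
  rw [hc, mul_inv_eq_one, mul_inv_eq_iff_eq_mul] at hc1
  exact hc1

/-- An involution of a Klein four group together with another one gives all of its elements. -/
lemma klein_elems [Finite G] {U : Subgroup G} (hU : IsKleinFour ↥U) {u z : G} (hu : u ∈ U) (hz : z ∈ U)
    (hu1 : u ≠ 1) (hz1 : z ≠ 1) (huz : u ≠ z) :
    ∀ w ∈ U, w = 1 ∨ w = u ∨ w = z ∨ w = u * z := by
  classical
  intro w hw
  haveI := hU
  haveI : Fintype ↥U := Fintype.ofFinite _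
  have h := IsKleinFour.eq_finset_univ (x := (⟨u, hu⟩ : U)) (y := ⟨z, hz⟩)
    (fun h => hu1 (congrArg Subtype.val h)) (fun h => hz1 (congrArg Subtype.val h))
    (fun h => huz (congrArg Subtype.val h))
  have hmem : (⟨w, hw⟩ : U) ∈ ({⟨u, hu⟩ * ⟨z, hz⟩, ⟨u, hu⟩, ⟨z, hz⟩, 1} : Finset U) := by
    rw [h]; exact Finset.mem_univ _
  simp only [Finset.mem_insert, Finset.mem_singleton, Subtype.ext_iff, coe_mul, coe_one] at hmem
  tauto

lemma klein_sq {U : Subgroup G} (hU : IsKleinFour ↥U) {u : G} (hu : u ∈ U) : u * u = 1 := by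
  haveI := hU
  exact congrArg Subtype.val (IsKleinFour.mul_self (⟨u, hu⟩ : U))

lemma card_mul_relIndex' [Finite G] {A B : Subgroup G} (h : A ≤ B) :
    Nat.card ↥A * A.relIndex B = Nat.card ↥B := by
  rw [← (A.subgroupOf B).card_mul_index, Nat.card_congr (Subgroup.subgroupOfEquivOfLe h).toEquiv,
    Subgroup.relIndex]

/-- Two involutions of a cyclic subgroup coincide. -/
lemma eq_of_isCyclic [Finite G] {Z : Subgroup G} (hZ : IsCyclic ↥Z) {a b : G} (ha : a ∈ Z) (hb : b ∈ Z)
    (ha2 : a * a = 1) (hb2 : b * b = 1) (ha1 : a ≠ 1) : b = 1 ∨ b = a := by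
  classical
  haveI := hZ
  haveI : Fintype ↥Z := Fintype.ofFinite _
  by_contra hne
  push Not at hne
  have hcard := IsCyclic.card_pow_eq_one_le (α := ↥Z) (n := 2) (by norm_num)
  have hsub : ({⟨1, one_mem Z⟩, ⟨a, ha⟩, ⟨b, hb⟩} : Finset ↥Z) ⊆
      ({x | x ^ 2 = 1} : Finset ↥Z) := by
    intro x hx
    simp only [Finset.mem_insert, Finset.mem_singleton] at hx
    simp only [Finset.mem_filter, Finset.mem_univ, true_and]
    rcases hx with rfl | rfl | rfl <;> ext <;> simp [pow_two, ha2, hb2]
  have h3 : ({⟨1, one_mem Z⟩, ⟨a, ha⟩, ⟨b, hb⟩} : Finset ↥Z).card = 3 := by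
    rw [Finset.card_eq_three]
    exact ⟨_, _, _, fun h => ha1 (congrArg Subtype.val h).symm,
      fun h => hne.1 (congrArg Subtype.val h).symm,
      fun h => hne.2 (congrArg Subtype.val h).symm, rfl⟩
  have := Finset.card_le_card hsub
  omega


/-- Let `G` be a finite non-abelian simple group in which every local subgroup is solvable and which is of characteristic 2 type. Let `P` be a Sylow 2-subgroup of `G` and `U` a normal subgroup of `P` that is a four-group, with `U` central in `P` if the centre of `P` is not cyclic. Then `U` centralizes every subgroup of odd order of `G` that it normalizes. -/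
theorem result {G : Type*} [Group G] [Finite G]
    [IsSimpleGroup G] (hna : ¬ IsMulCommutative G) (hN : Cfsg.IsNGroup G) (h2 : Cfsg.IsCharacteristicTwoType G)
    (P : Sylow 2 G) (U : Subgroup G) (hUP : U ≤ (P : Subgroup G)) (hUn : (P : Subgroup G) ≤ Subgroup.normalizer (U : Set G))
    (hU4 : IsKleinFour ↥U)
    (hUZ : ¬ IsCyclic ↥((P : Subgroup G) ⊓ Subgroup.centralizer ((P : Subgroup G) : Set G)) →
      U ≤ Subgroup.centralizer ((P : Subgroup G) : Set G))
    (K : Subgroup G) (hK : Odd (Nat.card K)) (hUK : U ≤ Subgroup.normalizer (K : Set G)) :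
    U ≤ Subgroup.centralizer (K : Set G) := by
  classical
  haveI : Fact (Nat.Prime 2) := ⟨Nat.prime_two⟩
  haveI := hU4
  -- commutators with odd invariant subgroups have odd order
  have hodd : ∀ k ∈ K, ∀ w ∈ U, Odd (orderOf (k * w * k⁻¹ * w⁻¹)) := by
    intro k hk w hw
    have hm : k * w * k⁻¹ * w⁻¹ ∈ K := by
      have h1 : w * k⁻¹ * w⁻¹ ∈ K := (Subgroup.mem_normalizer_iff.mp (hUK hw) _).mp (inv_mem hk)
      have h2 := mul_mem hk h1
      simpa [mul_assoc] using h2
    exact hK.of_dvd_nat (Subgroup.orderOf_dvd_natCard K hm)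
  have hUcomm : ∀ a ∈ U, ∀ b ∈ U, a * b = b * a := fun a ha b hb =>
    congrArg Subtype.val (mul_comm_of_exponent_two (IsKleinFour.exponent_two (G := ↥U))
      (⟨a, ha⟩ : U) ⟨b, hb⟩)
  have hlocal : ∀ u ∈ U, u ≠ 1 → ∀ k ∈ K, k * u = u * k → ∀ w ∈ U, k * w = w * k := by
    intro u hu hu1 k hk hku
    have hu2 := klein_sq hU4 hu
    set H := Subgroup.centralizer ({u} : Set G) with hH
    have hHmem : ∀ g ∈ H, g * u = u * g := fun g hg =>
      Subgroup.mem_centralizer_singleton_iff.mp hg
    set O := Cfsg.pCoreOf 2 H with hO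
    have hOle : O ≤ H := LocalEven62.pCoreOf_le H
    have hO2 : IsPGroup 2 ↥O := LocalEven62.isPGroup_pCoreOf H
    have hOn : ∀ g ∈ H, ∀ x ∈ O, g * x * g⁻¹ ∈ O := fun g hg x hx =>
      (Subgroup.mem_normalizer_iff.mp (LocalEven62.le_normalizer_pCoreOf H hg) x).mp hx
    have hcharP : LocalEven62.CharP 2 H := by
      have hz2 : IsPGroup 2 ↥(Subgroup.zpowers u) := by
        refine IsPGroup.of_card (n := 1) ?_
        rw [Nat.card_zpowers, pow_one, orderOf_eq_prime (by rw [pow_two]; exact hu2) hu1]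
      have h := h2.2 (Subgroup.zpowers u) hz2 (Subgroup.zpowers_ne_bot.mpr hu1)
      rw [normalizer_zpowers_eq_centralizer hu2 hu1] at h
      exact LocalEven62.charP_iff.mpr h
    have hchar : ∀ g ∈ H, (∀ x ∈ O, g * x = x * g) → g ∈ O := fun g hg hc =>
      hcharP ⟨hg, Subgroup.mem_centralizer_iff.mpr fun x hx => (hc x hx).symm⟩
    have hkH : k ∈ H := Subgroup.mem_centralizer_singleton_iff.mpr hku
    have hUH : U ≤ H := fun w hw =>
      Subgroup.mem_centralizer_singleton_iff.mpr (hUcomm w hw u hu)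
    by_cases hucen : u ∈ Subgroup.centralizer ((P : Subgroup G) : Set G)
    · -- `u` is central in `P`: `P` is a Sylow 2-subgroup of `H`
      have hPH : (P : Subgroup G) ≤ H := fun p hp =>
        Subgroup.mem_centralizer_singleton_iff.mpr
          (Subgroup.mem_centralizer_iff.mp hucen p hp)
      have hOP : O ≤ (P : Subgroup G) := by
        have hsup : IsPGroup 2 ↥((P : Subgroup G) ⊔ O) :=
          IsPGroup.to_sup_of_normal_right' P.isPGroup' hO2
            (fun g hg => LocalEven62.le_normalizer_pCoreOf H (hPH hg))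
        have := P.is_maximal' hsup le_sup_left
        exact le_sup_right.trans this.le
      intro w hw
      refine comm_eq_one hu2 hHmem hOn hO2 hchar hkH (hUH hw) (hodd k hk w hw) ?_
      intro x hx
      set e := w * x * w⁻¹ * x⁻¹ with he
      have hxP := hOP hx
      have hxU : x * w⁻¹ * x⁻¹ ∈ U :=
        (Subgroup.mem_normalizer_iff.mp (hUn hxP) _).mp (inv_mem hw)
      have hwi : w⁻¹ = w := inv_eq_of_mul_eq_one_right (klein_sq hU4 hw)
      by_cases hwu : w = 1 ∨ w = u
      · left
        rcases hwu with rfl | rfl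
        · simp [he]
        · rw [he, (Subgroup.mem_centralizer_iff.mp hucen x hxP).symm, mul_inv_cancel_right,
            mul_inv_cancel]
      · push Not at hwu
        rw [hwi] at hxU
        rcases klein_elems hU4 hu hw hu1 hwu.1 (Ne.symm hwu.2) _ hxU with h | h | h | h
        · exfalso; apply hwu.1; simpa using h
        · exfalso; apply hwu.2
          have hxu : x * u * x⁻¹ = u := by
            rw [Subgroup.mem_centralizer_iff.mp hucen x hxP, mul_inv_cancel_right]
          exact mul_left_cancel (mul_right_cancel (h.trans hxu.symm))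
        · left
          rw [he, mul_assoc, mul_assoc, ← mul_assoc x, hwi, h, klein_sq hU4 hw]
        · right
          rw [he, mul_assoc, mul_assoc, ← mul_assoc x, hwi, h, hUcomm u hu w hw, ← mul_assoc,
            klein_sq hU4 hw, one_mul]
    · -- `u` is not central in `P`
      have hZcyc : IsCyclic ↥((P : Subgroup G) ⊓ Subgroup.centralizer ((P : Subgroup G) : Set G)) := by
        by_contra hnc
        exact hucen (hUZ hnc hu)
      obtain ⟨z, hz, hz1, hzc⟩ :
          ∃ z ∈ U, z ≠ 1 ∧ ∀ p ∈ (P : Subgroup G), p * z = z * p := by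
        haveI : Group.IsNilpotent ↥(P : Subgroup G) := P.isPGroup'.isNilpotent
        haveI : (U.subgroupOf (P : Subgroup G)).Normal :=
          Subgroup.normal_subgroupOf_of_le_normalizer hUn
        have hne : U.subgroupOf (P : Subgroup G) ≠ ⊥ := by
          rw [Ne, Subgroup.subgroupOf_eq_bot, disjoint_iff, inf_eq_left.mpr hUP]
          intro h
          rw [h] at hu
          exact hu1 (Subgroup.mem_bot.mp hu)
        have := OddLocal44.inf_center_ne_bot_of_nilpotent (U.subgroupOf (P : Subgroup G)) hne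
        obtain ⟨y, hy⟩ := (Subgroup.ne_bot_iff_exists_ne_one.mp this)
        refine ⟨((y : (U.subgroupOf (P : Subgroup G) ⊓ Subgroup.center _ : Subgroup _)) : ↥(P : Subgroup G)), y.2.1, ?_, ?_⟩
        · intro h
          exact hy (Subtype.ext (Subtype.ext h))
        · intro p hp
          exact congrArg Subtype.val (Subgroup.mem_center_iff.mp y.2.2 ⟨p, hp⟩)
      have huz : u ≠ z := by
        rintro rfl
        exact hucen (Subgroup.mem_centralizer_iff.mpr fun p hp => hzc p hp)
      have hz2 := klein_sq hU4 hz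
      -- it is enough that `z` commutes with `k`
      suffices hkz : k * z = z * k by
        intro w hw
        rcases klein_elems hU4 hu hz hu1 hz1 huz w hw with rfl | rfl | rfl | rfl
        · simp
        · exact hku
        · exact hkz
        · exact (Commute.mul_right hku hkz).eq
      set P0 := (P : Subgroup G) ⊓ H with hP0
      -- conjugates of `u` under `P` are `u` and `u * z`
      have hconj : ∀ p ∈ (P : Subgroup G), p * u * p⁻¹ = u ∨ p * u * p⁻¹ = u * z := by
        intro p hp
        rcases klein_elems hU4 hu hz hu1 hz1 huz _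
            ((Subgroup.mem_normalizer_iff.mp (hUn hp) u).mp hu) with h | h | h | h
        · exfalso; exact hu1 (by simpa using h)
        · exact Or.inl h
        · exfalso
          apply huz
          have hpz : p * z * p⁻¹ = z := by rw [hzc p hp, mul_inv_cancel_right]
          exact mul_left_cancel (mul_right_cancel (h.trans hpz.symm))
        · exact Or.inr h
      obtain ⟨a, haP, hau⟩ : ∃ a ∈ (P : Subgroup G), a * u ≠ u * a := by
        by_contra hcon
        push Not at hcon
        exact hucen (Subgroup.mem_centralizer_iff.mpr fun p hp => hcon p hp)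
      have hmemP0 : ∀ p ∈ (P : Subgroup G), (p ∈ P0 ↔ p * u * p⁻¹ = u) := fun p hp =>
        ⟨fun h => by rw [hHmem p h.2, mul_inv_cancel_right],
          fun h => ⟨hp, Subgroup.mem_centralizer_singleton_iff.mpr (mul_inv_eq_iff_eq_mul.mp h)⟩⟩
      have hindex : P0.relIndex (P : Subgroup G) = 2 := by
        rw [Subgroup.relIndex, Subgroup.index_eq_two_iff]
        refine ⟨⟨a, haP⟩, fun b => ?_⟩
        rcases hconj _ b.2 with hb | hb
        · refine Or.inr ⟨(hmemP0 _ b.2).mpr hb, fun hba => ?_⟩
          have h1 : (b : G) * a * u * ((b : G) * a)⁻¹ = u :=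
            (hmemP0 _ (mul_mem b.2 haP)).mp hba
          apply hau
          have h2 : a * u * a⁻¹ = u := by
            have : (b : G) * (a * u * a⁻¹) * (b : G)⁻¹ = (b : G) * u * (b : G)⁻¹ := by
              calc (b : G) * (a * u * a⁻¹) * (b : G)⁻¹ = (b : G) * a * u * ((b : G) * a)⁻¹ := by group
                _ = u := h1
                _ = (b : G) * u * (b : G)⁻¹ := hb.symm
            exact mul_left_cancel (mul_right_cancel this)
          exact mul_inv_eq_iff_eq_mul.mp h2
        · refine Or.inl ⟨(hmemP0 _ (mul_mem b.2 haP)).mpr ?_, fun hbm => ?_⟩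
          · show (b : G) * a * u * ((b : G) * a)⁻¹ = u
            rcases hconj a haP with h | h
            · exact absurd (mul_inv_eq_iff_eq_mul.mp h) hau
            · have hbz : (b : G) * z * (b : G)⁻¹ = z := by rw [hzc _ b.2, mul_inv_cancel_right]
              calc (b : G) * a * u * ((b : G) * a)⁻¹ = (b : G) * (a * u * a⁻¹) * (b : G)⁻¹ := by group
                _ = ((b : G) * u * (b : G)⁻¹) * ((b : G) * z * (b : G)⁻¹) := by rw [h]; group
                _ = u := by rw [hb, hbz, mul_assoc, hz2, mul_one]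
          · have h1 : (b : G) * u * (b : G)⁻¹ = u := (hmemP0 _ b.2).mp hbm
            exact hz1 (mul_eq_left.mp (hb.symm.trans h1))
      have hcardP : 2 * Nat.card ↥P0 = Nat.card ↥(P : Subgroup G) := by
        have h := card_mul_relIndex' (inf_le_left : P0 ≤ (P : Subgroup G))
        rw [hindex] at h
        rw [← h, mul_comm]
      set M := P0 ⊔ O with hM
      have hP0H : P0 ≤ H := inf_le_right
      have hMH : M ≤ H := sup_le hP0H hOle
      have hM2 : IsPGroup 2 ↥M :=
        IsPGroup.to_sup_of_normal_right' (P.isPGroup'.to_le inf_le_left) hO2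
          (fun g hg => LocalEven62.le_normalizer_pCoreOf H (hP0H hg))
      have hzO : ∀ y ∈ P0, y * z = z * y := fun y hy => hzc y hy.1
      refine comm_eq_one hu2 hHmem hOn hO2 hchar hkH (hUH hz) (hodd k hk z hz) ?_
      intro x hx
      by_cases hxP0 : x ∈ P0
      · left
        rw [← hzO x hxP0, mul_inv_cancel_right, mul_inv_cancel]
      -- now `M` is a Sylow 2-subgroup
      obtain ⟨S, hMS⟩ := hM2.exists_le_sylow
      have hcS : Nat.card ↥(S : Subgroup G) = Nat.card ↥(P : Subgroup G) := by
        rw [S.card_eq_multiplicity, P.card_eq_multiplicity]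
      obtain ⟨m, hm⟩ := IsPGroup.iff_card.mp hM2
      obtain ⟨n, hn⟩ := IsPGroup.iff_card.mp (P.isPGroup'.to_le (inf_le_left : P0 ≤ _))
      have hlt : Nat.card ↥P0 < Nat.card ↥M := by
        refine lt_of_le_of_ne (Subgroup.card_le_of_le le_sup_left) fun h => hxP0 ?_
        rw [Subgroup.eq_of_le_of_card_ge le_sup_left h.ge]
        exact Subgroup.mem_sup_right hx
      have hMcard : Nat.card ↥M = 2 * Nat.card ↥P0 := by
        refine le_antisymm ?_ ?_
        · rw [hcardP, ← hcS]
          exact Subgroup.card_le_of_le hMS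
        · rw [hm, hn, ← pow_succ']
          rw [hm, hn] at hlt
          exact Nat.pow_le_pow_right (by norm_num)
            ((Nat.pow_lt_pow_iff_right (by norm_num)).mp hlt)
      have hMeq : M = (S : Subgroup G) :=
        Subgroup.eq_of_le_of_card_ge hMS (by omega)
      have hidx : P0.relIndex M = 2 := by
        have h := card_mul_relIndex' (le_sup_left : P0 ≤ M)
        rw [hMcard, mul_comm] at h
        exact mul_right_cancel₀ (Nat.card_pos).ne' h
      haveI hnormal : (P0.subgroupOf M).Normal := Subgroup.normal_of_index_eq_two hidx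
      have hnorm : ∀ g ∈ M, ∀ y ∈ P0, g * y * g⁻¹ ∈ P0 := fun g hg y hy =>
        hnormal.conj_mem ⟨y, (le_sup_left : P0 ≤ M) hy⟩ hy ⟨g, hg⟩
      have hxM : x ∈ M := Subgroup.mem_sup_right hx
      have hxx : x * x ∈ P0 := by
        have := (Subgroup.mul_mem_iff_of_index_two (H := P0.subgroupOf M) hidx
          (a := ⟨x, hxM⟩) (b := ⟨x, hxM⟩)).mpr Iff.rfl
        exact this
      have hzP0 : z ∈ P0 := ⟨hUP hz, hUH hz⟩
      set e := z * x * z⁻¹ * x⁻¹ with he
      have hzi : z⁻¹ = z := inv_eq_of_mul_eq_one_right hz2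
      set y := x * z * x⁻¹ with hy
      have hyP0 : y ∈ P0 := hnorm x hxM z hzP0
      have hey : e = z * y := by rw [he, hy, hzi]; group
      have hyc : ∀ w ∈ P0, w * y = y * w := by
        intro w hw
        have hw' : x⁻¹ * w * x ∈ P0 := by simpa using hnorm x⁻¹ (inv_mem hxM) w hw
        calc w * y = x * ((x⁻¹ * w * x) * z) * x⁻¹ := by rw [hy]; group
          _ = x * (z * (x⁻¹ * w * x)) * x⁻¹ := by rw [hzO _ hw']
          _ = y * w := by rw [hy]; group
      have hec : ∀ w ∈ P0, w * e = e * w := fun w hw => by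
        rw [hey]; exact (Commute.mul_right (hzO w hw) (hyc w hw)).eq
      have hy2 : y * y = 1 := by rw [hy]; calc
        x * z * x⁻¹ * (x * z * x⁻¹) = x * (z * z) * x⁻¹ := by group
        _ = 1 := by rw [hz2]; group
      have hzy : z * y = y * z := hyc z hzP0
      have hex : x * e = e * x := by
        have h1 : x * y * x⁻¹ = z := by
          calc x * y * x⁻¹ = (x * x) * z * (x * x)⁻¹ := by rw [hy]; group
            _ = z := by rw [hzO _ hxx, mul_inv_cancel_right]
        have h2 : x * e * x⁻¹ = e := by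
          calc x * e * x⁻¹ = (x * z * x⁻¹) * (x * y * x⁻¹) := by rw [hey]; group
            _ = e := by rw [h1, ← hy, hey, hzy]
        exact mul_inv_eq_iff_eq_mul.mp h2
      have hee : e * e = 1 := by
        rw [hey]; calc z * y * (z * y) = z * (y * z) * y := by group
          _ = z * z * (y * y) := by rw [← hzy]; group
          _ = 1 := by rw [hz2, hy2, one_mul]
      have heM : ∀ w ∈ M, w * e = e * w := by
        have hle : M ≤ Subgroup.centralizer ({e} : Set G) := by
          have hlt' : P0 < P0 ⊔ Subgroup.zpowers x :=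
            lt_of_le_of_ne le_sup_left fun h =>
              hxP0 (h ▸ Subgroup.mem_sup_right (Subgroup.mem_zpowers x))
          have hle' : P0 ⊔ Subgroup.zpowers x ≤ M :=
            sup_le le_sup_left (Subgroup.zpowers_le.mpr hxM)
          have hc : Nat.card ↥M ≤ Nat.card ↥(P0 ⊔ Subgroup.zpowers x) := by
            obtain ⟨j, hj⟩ := IsPGroup.iff_card.mp (hM2.to_le hle')
            have hl : Nat.card ↥P0 < Nat.card ↥(P0 ⊔ Subgroup.zpowers x) := by
              refine lt_of_le_of_ne (Subgroup.card_le_of_le le_sup_left) fun h => ?_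
              exact hlt'.ne (Subgroup.eq_of_le_of_card_ge le_sup_left h.ge)
            rw [hMcard, hj, hn, ← pow_succ']
            rw [hj, hn] at hl
            exact Nat.pow_le_pow_right (by norm_num)
              ((Nat.pow_lt_pow_iff_right (by norm_num)).mp hl)
          rw [← Subgroup.eq_of_le_of_card_ge hle' hc]
          exact sup_le (fun w hw => Subgroup.mem_centralizer_singleton_iff.mpr (hec w hw))
            (Subgroup.zpowers_le.mpr (Subgroup.mem_centralizer_singleton_iff.mpr hex))
        exact fun w hw => Subgroup.mem_centralizer_singleton_iff.mp (hle hw)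
      -- the center of the Sylow subgroup `M` is cyclic
      obtain ⟨g, hg⟩ := MulAction.exists_smul_eq G P S
      have hMmap : M = (P : Subgroup G).map (MulAut.conj g).toMonoidHom := by
        rw [hMeq, ← hg]; rfl
      set ZP := (P : Subgroup G) ⊓ Subgroup.centralizer ((P : Subgroup G) : Set G)
      haveI := hZcyc
      have hcycM : IsCyclic ↥(ZP.map (MulAut.conj g).toMonoidHom) :=
        isCyclic_of_surjective (ZP.equivMapOfInjective _ (MulAut.conj g).injective).toMonoidHom
          (ZP.equivMapOfInjective _ (MulAut.conj g).injective).surjective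
      have hcenM : ∀ c ∈ M, (∀ w ∈ M, w * c = c * w) → c ∈ ZP.map (MulAut.conj g).toMonoidHom := by
        intro c hc hcomm
        rw [hMmap] at hc
        obtain ⟨c', hc', rfl⟩ := hc
        refine ⟨c', ⟨hc', Subgroup.mem_centralizer_iff.mpr fun p hp => ?_⟩, rfl⟩
        apply (MulAut.conj g).injective
        have h := hcomm (MulAut.conj g p) (by rw [hMmap]; exact ⟨p, hp, rfl⟩)
        rw [map_mul, map_mul]
        exact h
      have hzM : z ∈ M := le_sup_left (a := P0) hzP0
      have heMm : e ∈ M := le_sup_left (a := P0) (by rw [hey]; exact mul_mem hzP0 hyP0)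
      have huM : u ∈ M := le_sup_left (a := P0)
        ⟨hUP hu, Subgroup.mem_centralizer_singleton_iff.mpr rfl⟩
      exact eq_of_isCyclic hcycM (hcenM u huM fun w hw => hHmem w (hMH hw))
        (hcenM e heMm heM) hu2 hee hu1
  -- generation of `K` by the centralizers
  have hUab : IsMulCommutative ↥U := ⟨⟨fun a b => Subtype.ext (hUcomm a a.2 b b.2)⟩⟩
  have hcop : (Nat.card ↥U).Coprime (Nat.card ↥K) := by
    rw [IsKleinFour.card_four (G := ↥U), show 4 = 2 ^ 2 from rfl]
    exact Nat.Coprime.pow_left 2 (Nat.coprime_two_left.mpr hK)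
  have hgen := FG72.le_iSup_cocyclic _ G U K rfl hUab hUK hcop
  rw [Subgroup.le_centralizer_iff]
  refine hgen.trans (iSup₂_le fun B hB k hk => ?_)
  obtain ⟨hBU, a, ha, hBa⟩ := hB
  have hB1 : B ≠ ⊥ := by
    rintro rfl
    rw [bot_sup_eq] at hBa
    exact IsKleinFour.not_isCyclic (G := ↥U) (by rw [← hBa]; infer_instance)
  obtain ⟨⟨u, huB⟩, hu1⟩ := Subgroup.ne_bot_iff_exists_ne_one.mp hB1
  have hku : k * u = u * k := (Subgroup.mem_centralizer_iff.mp hk.2 u huB).symm
  exact Subgroup.mem_centralizer_iff.mpr fun w hw =>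
    (hlocal u (hBU huB) (fun h => hu1 (Subtype.ext h)) k hk.1 hku w hw).symm

end Cfsg.Agent.S1957
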