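import Cfsg.Statements.S1958
import Cfsg.Agent.BGUniq.PLocalBasic
import Cfsg.Agent.Signal38.Basic

set_option autoImplicit false
open Cfsg

namespace Cfsg.Agent.S1958

theorem half {G : Type*} [Group G] [Finite G] (p : ℕ) [Fact p.Prime] (x y : G) (hx : orderOf x = p)
    (hxy : x * y = y * x) (hCy : Group.IsSolvable ↥(Subgroup.centralizer ({y} : Set G))) :
    Cfsg.centralizerPPrimeCore p x ⊓ Subgroup.centralizer {y} ≤
      Cfsg.centralizerPPrimeCore p y ⊓ Subgroup.centralizer {x} := by
  set Cy := Subgroup.centralizer ({y} : Set G) with hCy'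
  set W := Cfsg.centralizerPPrimeCore p x ⊓ Cy with hW
  have hWx : W ≤ Subgroup.centralizer ({x} : Set G) :=
    inf_le_left.trans (Subgroup.map_subtype_le _)
  refine le_inf ?_ hWx
  have hxC : x ∈ Cy := Subgroup.mem_centralizer_singleton_iff.mpr hxy
  have := hCy
  have hps : Cfsg.IsPSolvable p Cy := BGUniq.isPSolvable_of_isSolvable' p Cy
  have hZ : IsPGroup p (Subgroup.zpowers (⟨x, hxC⟩ : Cy)) := by
    refine IsPGroup.of_card (n := 1) ?_
    rw [Nat.card_zpowers, ← Subgroup.orderOf_coe, hx, pow_one]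
  have hcard : (Nat.card (W.subgroupOf Cy)).Coprime p := by
    rw [Nat.card_congr (Subgroup.subgroupOfEquivOfLe (inf_le_right : W ≤ Cy)).toEquiv]
    exact (Signal38.centralizerPPrimeCore_card_coprime p x).coprime_dvd_left (Subgroup.card_dvd_of_le inf_le_left)
  have hle := BGUniq.le_pPrimeCore_of_centralizing hps hZ hcard
    (fun w hw => Subgroup.mem_centralizer_iff.mpr fun z hz => by
      obtain ⟨k, rfl⟩ := Subgroup.mem_zpowers_iff.mp hz
      apply Subtype.ext
      show ((⟨x, hxC⟩ : Cy) ^ k : Cy).1 * (w : G) = (w : G) * ((⟨x, hxC⟩ : Cy) ^ k : Cy).1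
      rw [Subgroup.coe_zpow]
      exact (Commute.zpow_left (Subgroup.mem_centralizer_singleton_iff.mp (hWx hw)).symm k).eq)
    (fun c hc => by
      have hc' : (c : G) ∈ Subgroup.centralizer ({x} : Set G) := Subgroup.mem_centralizer_singleton_iff.mpr
        (congrArg Subtype.val (Subgroup.mem_centralizer_iff.mp hc _ (Subgroup.mem_zpowers _))).symm
      have h1 := Signal38.centralizer_le_normalizer_centralizerPPrimeCore p x hc'
      rw [Subgroup.mem_normalizer_iff]
      intro w
      have h2 := Subgroup.mem_normalizer_iff.mp h1 (w : G)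
      constructor
      · intro hw
        exact ⟨h2.mp hw.1, (c * w * c⁻¹).2⟩
      · intro hw
        exact ⟨h2.mpr hw.1, w.2⟩)
  intro w hw
  exact ⟨⟨w, hw.2⟩, hle (show (⟨w, hw.2⟩ : Cy) ∈ W.subgroupOf Cy from hw), rfl⟩

/-- Let `G` be a finite group, `p` a prime, and `x, y` commuting elements of order `p` whose centralizers `C_G(x)` and `C_G(y)` are both solvable. Then `O_{p'}(C_G(x)) ∩ C_G(y) = O_{p'}(C_G(y)) ∩ C_G(x)` (balance). -/
theorem result {G : Type*} [Group G] [Finite G]
    (p : ℕ) [Fact p.Prime] (x y : G) (hx : orderOf x = p) (hy : orderOf y = p) (hxy : x * y = y * x)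
    (hCx : Group.IsSolvable ↥(Subgroup.centralizer ({x} : Set G))) (hCy : Group.IsSolvable ↥(Subgroup.centralizer ({y} : Set G))) :
    Cfsg.centralizerPPrimeCore p x ⊓ Subgroup.centralizer {y} = Cfsg.centralizerPPrimeCore p y ⊓ Subgroup.centralizer {x} := by
  exact le_antisymm (half p x y hx hxy hCy) (half p y x hy hxy.symm hCx)

end Cfsg.Agent.S1958
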