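import Cfsg.Statements.S1966
import Cfsg.Agent.ConjFunctor.Fusion
import Cfsg.Prelude.Def_Solvable

set_option autoImplicit false
open Cfsg

namespace Cfsg.Agent.S1966

/-- Let p be a prime, G a finite group with Sylow p-subgroup S and 𝓕 a conjugation family for S in G. Then the members of 𝓕 containing O_p(G) still form a conjugation family for S in G. -/
theorem result {G : Type*} [Group G] [Finite G] {p : ℕ} [Fact p.Prime] (S : Sylow p G) (𝓕 : Set (Subgroup G)) (h : Cfsg.IsConjugationFamily 𝓕 (S : Subgroup G)) : Cfsg.IsConjugationFamily {T : Subgroup G | T ∈ 𝓕 ∧ Cfsg.pCore p G ≤ T} (S : Subgroup G) := by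
  have hQn : (Cfsg.pCore p G).Normal :=
    Subgroup.sSup_normal _ fun N hN => hN.1
  have hQS : Cfsg.pCore p G ≤ (S : Subgroup G) :=
    sSup_le fun N hN => by haveI := hN.1; exact hN.2.le_sylow_of_normal S
  refine ConjFunctor.isConjugationFamily_of_reach (fun T hT => h.1 T hT.1) fun A g hA hg => ?_
  have hfix : ∀ x : G, ConjFunctor.img x ((Cfsg.pCore p G : Subgroup G) : Set G) = (Cfsg.pCore p G : Subgroup G) := by
    intro x; rw [← ConjFunctor.coe_cnj, ConjFunctor.cnj_normal]
  have hU : A ∪ ((Cfsg.pCore p G : Subgroup G) : Set G) ⊆ (S : Subgroup G) := Set.union_subset hA hQS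
  have hU' : ConjFunctor.img g (A ∪ ((Cfsg.pCore p G : Subgroup G) : Set G)) ⊆ (S : Subgroup G) := by
    show _ '' _ ⊆ _
    rw [Set.image_union]
    exact Set.union_subset hg (by rw [show _ '' _ = _ from hfix g]; exact hQS)
  exact ((ConjFunctor.reach_of_isConjugationFamily h _ g hU hU').filter
    (fun B => ((Cfsg.pCore p G : Subgroup G) : Set G) ⊆ B)
    (fun B x hB => (hfix x).symm.subset.trans (ConjFunctor.img_mono hB))
    (Ψ := {T : Subgroup G | T ∈ 𝓕 ∧ Cfsg.pCore p G ≤ T}) (fun B T hT hBT hB => ⟨hT, hB.trans hBT⟩) Set.subset_union_right).mono Set.subset_union_left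

end Cfsg.Agent.S1966
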