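import Cfsg.Statements.S1970
import Cfsg.Agent.ConjFunctor.TransferReduction

set_option autoImplicit false
universe u
open Cfsg

namespace Cfsg.Agent.S1970

/-- Let p be a prime, G a finite group and W an isomorphism-invariant p-group functor (W assigns to every group Q a subgroup W(Q), nontrivial whenever Q is a nontrivial finite p-group, and every isomorphism from a finite p-group Q onto a group R carries W(Q) onto W(R)). Suppose that for every section G* = K/R of G with C_{G*}(O_p(G*)) ≤ O_p(G*) and every Sylow p-subgroup S* of G*, one has O_p(G*) ∩ (G*)' = O_p(G*) ∩ (N_{G*}(W(S*)))'. Then W controls transfer in every section G* of G: S* ∩ (G*)' = S* ∩ (N_{G*}(W(S*)))' for a Sylow p-subgroup S* of G*. -/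
theorem result {G : Type u} [Group G] [Finite G] {p : ℕ} [Fact p.Prime] (W : ∀ (Q : Type u) [Group Q], Subgroup Q) (hW : Cfsg.IsCharPFunctor.{u} p W) (hloc : ∀ (K R : Subgroup G) [hR : (R.subgroupOf K).Normal], Subgroup.centralizer ((Cfsg.pCore p (↥K ⧸ R.subgroupOf K) : Subgroup (↥K ⧸ R.subgroupOf K)) : Set (↥K ⧸ R.subgroupOf K)) ≤ Cfsg.pCore p (↥K ⧸ R.subgroupOf K) → ∀ T : Sylow p (↥K ⧸ R.subgroupOf K), Cfsg.pCore p (↥K ⧸ R.subgroupOf K) ⊓ commutator (↥K ⧸ R.subgroupOf K) = Cfsg.pCore p (↥K ⧸ R.subgroupOf K) ⊓ ⁅Subgroup.normalizer ((Cfsg.inducedFunctor (G := (↥K ⧸ R.subgroupOf K)) W ((T : Subgroup (↥K ⧸ R.subgroupOf K))) : Subgroup (↥K ⧸ R.subgroupOf K)) : Set (↥K ⧸ R.subgroupOf K)), Subgroup.normalizer ((Cfsg.inducedFunctor (G := (↥K ⧸ R.subgroupOf K)) W ((T : Subgroup (↥K ⧸ R.subgroupOf K))) : Subgroup (↥K ⧸ R.subgroupOf K)) : Set (↥K ⧸ R.subgroupOf K))⁆) : ∀ (K R : Subgroup G) [hR : (R.subgroupOf K).Normal], Cfsg.ControlsTransferIn p (Cfsg.inducedFunctor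 (G := (↥K ⧸ R.subgroupOf K)) W) ⊤ := by
  intro K R _
  have h𝓦 : ∀ V ∈ ({W} : Set (∀ (Q : Type u) [Group Q], Subgroup Q)), Cfsg.IsCharPFunctor.{u} p V := by
    rintro _ rfl; exact hW
  rw [ConjFunctor.controlsTransferIn_iff_indFam]
  refine ConjFunctor.transfer_induction (G := G) h𝓦 (fun H _ _ hH hc hsub hquot => ?_) _
    (ConjFunctor.isSec_section K R)
  have hQN : ∀ T : Sylow p H, Cfsg.pCore p H ⊓ commutator H ≤
      ⁅ConjFunctor.nrm (Cfsg.inducedFunctor (G := H) W (T : Subgroup H)),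
        ConjFunctor.nrm (Cfsg.inducedFunctor (G := H) W (T : Subgroup H))⁆ := by
    refine hH.transport (P := fun X _ => ∀ T : Sylow p X, Cfsg.pCore p X ⊓ commutator X ≤
      ⁅ConjFunctor.nrm (Cfsg.inducedFunctor (G := X) W (T : Subgroup X)),
        ConjFunctor.nrm (Cfsg.inducedFunctor (G := X) W (T : Subgroup X))⁆) ?_ ?_ hc
    · intro X Y _ _ _ e h T
      obtain ⟨T', hT'⟩ := ConjFunctor.exists_sylow_map_equiv e T
      have := Subgroup.map_mono (f := e.toMonoidHom) (h T')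
      rw [Subgroup.map_inf _ _ _ e.injective, Thompson.map_pCore_equiv, map_commutator_eq,
        MonoidHom.range_eq_top_of_surjective e.toMonoidHom e.surjective, ← commutator_def,
        Subgroup.map_commutator, ConjFunctor.map_nrm_equiv,
        ← ConjFunctor.inducedFunctor_map hW e.toMonoidHom _ T'.2 e.injective.injOn, hT'] at this
      exact this
    · intro K R _ h T
      exact (hloc K R h T).le.trans inf_le_right
  obtain ⟨S⟩ : Nonempty (Sylow p H) := inferInstance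
  refine ConjFunctor.familyControlsTransferIn_iff.2 ⟨_, ConjFunctor.isSylowIn_top S, ?_⟩
  have hQ : ∀ z ∈ (S : Subgroup H), z ∈ Cfsg.pCore p H → z ∈ commutator H →
      z ∈ ConjFunctor.sig (ConjFunctor.indFam {W} H) (S : Subgroup H) ⊤ := by
    intro z hz h1 h2
    rw [ConjFunctor.sig_indFam_singleton]
    exact ⟨hz, hQN S ⟨h1, h2⟩⟩
  intro s hs
  by_cases hSQ : (S : Subgroup H) ≤ Cfsg.pCore p H
  · exact hQ s hs.1 (hSQ hs.1) hs.2
  · have hQ0 : Cfsg.pCore p H ≠ ⊥ := fun h0 => hSQ fun x _ => hc (by rw [h0]; simp [Subgroup.mem_centralizer_iff])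
    obtain ⟨σ, hσ, z, hz, rfl⟩ := Subgroup.mem_sup_of_normal_right.1
      (ConjFunctor.inf_commutator_le_sup_pCore h𝓦 S hSQ (fun M hM _ => hsub M hM) (hquot _ hQ0) hs)
    refine Subgroup.mul_mem _ hσ (hQ z (Thompson.pCore_le_sylow S hz) hz ?_)
    have := (commutator H).mul_mem ((commutator H).inv_mem (ConjFunctor.sig_le hσ).2) hs.2
    simpa using this

end Cfsg.Agent.S1970
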