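import Cfsg.Statements.S1972
import Cfsg.Agent.ConjFunctor.MinimalTransfer

set_option autoImplicit false
universe u
open Cfsg

namespace Cfsg.Agent.S1972

/-- Let p be a prime, G a finite group and W an isomorphism-invariant p-group functor (W assigns to every group Q a subgroup W(Q), nontrivial whenever Q is a nontrivial finite p-group, and every isomorphism from a finite p-group Q onto a group R carries W(Q) onto W(R)). Suppose that whenever G* = K/R is a section of G with C_{G*}(O_p(G*)) ≤ O_p(G*) and S* is a Sylow p-subgroup of G* with W(S*) not normal in G*, there is an element g of S* outside O_p(G*) such that [X, g, …, g] ≤ Y with p − 1 entries g, for every chief factor X/Y of G* with X ≤ O_p(G*). Then W controls transfer in every section of G. -/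
theorem result {G : Type u} [Group G] [Finite G] {p : ℕ} [Fact p.Prime] (W : ∀ (Q : Type u) [Group Q], Subgroup Q) (hW : Cfsg.IsCharPFunctor.{u} p W) (hloc : ∀ (K R : Subgroup G) [hR : (R.subgroupOf K).Normal], Subgroup.centralizer ((Cfsg.pCore p (↥K ⧸ R.subgroupOf K) : Subgroup (↥K ⧸ R.subgroupOf K)) : Set (↥K ⧸ R.subgroupOf K)) ≤ Cfsg.pCore p (↥K ⧸ R.subgroupOf K) → ∀ T : Sylow p (↥K ⧸ R.subgroupOf K), ¬ (Cfsg.inducedFunctor (G := (↥K ⧸ R.subgroupOf K)) W ((T : Subgroup (↥K ⧸ R.subgroupOf K)))).Normal → ∃ g : (↥K ⧸ R.subgroupOf K), g ∈ (T : Subgroup (↥K ⧸ R.subgroupOf K)) ∧ g ∉ Cfsg.pCore p (↥K ⧸ R.subgroupOf K) ∧ ∀ U V : Subgroup (↥K ⧸ R.subgroupOf K), Cfsg.IsChiefFactor U V → U ≤ Cfsg.pCore p (↥K ⧸ R.subgroupOf K) → Cfsg.iterCommutator U (Subgroup.zpowers g) (p - 1) ≤ V) : ∀ (K R : Subgroup G) [hR : (R.subgroupOf K).Normal], Cfsg.ControlsTransferIn p (Cfsg.inducedFunctor (G := (↥K ⧸ R.subgroupOf K)) W) ⊤ := by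
  intro K R _
  have h𝓦 : ∀ V ∈ ({W} : Set (∀ (Q : Type u) [Group Q], Subgroup Q)), Cfsg.IsCharPFunctor.{u} p V := by
    rintro _ rfl; exact hW
  rw [ConjFunctor.controlsTransferIn_iff_indFam]
  refine ConjFunctor.transfer_induction (G := G) h𝓦 (fun H _ _ hH hc hsub hquot => ?_) _
    (ConjFunctor.isSec_section K R)
  have hgood : ∀ T : Sylow p H, ¬ (Cfsg.inducedFunctor (G := H) W (T : Subgroup H)).Normal →
      ∃ g : H, g ∈ (T : Subgroup H) ∧ g ∉ Cfsg.pCore p H ∧
        ConjFunctor.EngelBelow (Cfsg.pCore p H) (p - 1) g := by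
    refine hH.transport (P := fun X _ => ∀ T : Sylow p X,
      ¬ (Cfsg.inducedFunctor (G := X) W (T : Subgroup X)).Normal →
      ∃ g : X, g ∈ (T : Subgroup X) ∧ g ∉ Cfsg.pCore p X ∧
        ConjFunctor.EngelBelow (Cfsg.pCore p X) (p - 1) g) ?_ ?_ hc
    · intro X Y _ _ _ e h T hn
      obtain ⟨T', hT'⟩ := ConjFunctor.exists_sylow_map_equiv e T
      obtain ⟨g, hg, hgQ, hge⟩ := h T' fun hN => hn (by
        have := hN.map e.toMonoidHom e.surjective
        rwa [← ConjFunctor.inducedFunctor_map hW e.toMonoidHom _ T'.2 e.injective.injOn, hT'] at this)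
      refine ⟨e g, hT' ▸ ⟨g, hg, rfl⟩, fun hq => hgQ ?_, ConjFunctor.engelBelow_map_equiv e hge⟩
      rw [← Thompson.map_pCore_equiv e] at hq
      obtain ⟨q, hq, he⟩ := hq
      exact e.injective he ▸ hq
    · intro K R _ h T hn
      exact hloc K R h T hn
  by_contra hG
  obtain ⟨S⟩ : Nonempty (Sylow p H) := inferInstance
  obtain ⟨-, -, -, hu⟩ := ConjFunctor.minimal_transfer_structure h𝓦 (Set.singleton_nonempty W) S
    hsub hquot hG _ _ rfl rfl
  by_cases hn : (Cfsg.inducedFunctor (G := H) W (S : Subgroup H)).Normal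
  · refine hG (ConjFunctor.familyControlsTransferIn_iff.2 ⟨_, ConjFunctor.isSylowIn_top S, ?_⟩)
    haveI := hn
    rw [ConjFunctor.sig_indFam_singleton, ConjFunctor.nrm_eq_top]
  · obtain ⟨g, hg, hgQ, hge⟩ := hgood S hn
    obtain ⟨U, V, hUV, hUQ, hne'⟩ := hu g hg hgQ
    exact hne' (hge U V hUV hUQ)

end Cfsg.Agent.S1972
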