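import Cfsg.Statements.S1981
import Cfsg.Agent.ConjFunctor.KInf

set_option autoImplicit false
open Cfsg

namespace Cfsg.Agent.S1981

/-- Let P be a finite p-group generated by its abelian normal subgroups. Then both K-infinity subgroups of P equal P. -/
theorem result {P : Type*} [Group P] [Finite P] {p : ℕ} [Fact p.Prime] (hP : IsPGroup p P) (hgen : ⨆ A ∈ {A : Subgroup P | A.Normal ∧ IsMulCommutative ↥A}, A = ⊤) : Cfsg.kInfLower P = ⊤ ∧ Cfsg.kInfUpper P = ⊤ := by
  constructor
  · refine top_le_iff.1 (hgen ▸ iSup₂_le fun A hA => ?_)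
    haveI := hA.1
    exact ConjFunctor.KInf.le_kInfLower (n := 0) (ConjFunctor.KInf.normal_abelian_mem_lower hA.2 _)
  · refine top_le_iff.1 (le_iInf fun n => ?_)
    cases n with
    | zero => exact le_top
    | succ n =>
      refine hgen ▸ iSup₂_le fun A hA => ?_
      haveI := hA.1
      exact le_sSup (ConjFunctor.KInf.normal_abelian_mem_upper hA.2 _)

end Cfsg.Agent.S1981
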