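import Cfsg.Statements.S1992
import Cfsg.Agent.ConjFunctor.TransferControl
import Cfsg.Agent.Lib.Solvable.Schmidt
import Cfsg.Agent.Lib.CharCore.Burnside

set_option autoImplicit false
open Cfsg

namespace Cfsg.Agent.S1992

/-- Let G be a finite group in which, for every prime q dividing the order of G, every Sylow q-subgroup is its own normalizer. Then the order of G is a power of a single prime (G is a q-group for some prime q; for G trivial any prime works). -/
theorem result {G : Type*} [Group G] [Finite G] (h : ∀ q : ℕ, q.Prime → q ∣ Nat.card G → ∀ Q : Sylow q G, Subgroup.normalizer ((Q : Subgroup G) : Set G) = Q) : ∃ q : ℕ, q.Prime ∧ IsPGroup q G := by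
  have hind : ∀ q : ℕ, q.Prime → (∃ N : Subgroup G, N.Normal ∧ N.index = q) → IsPGroup q G := by
    rintro q hq ⟨N, hN, hidx⟩
    have huniq : ∀ r : ℕ, r.Prime → r ∣ Nat.card G → r = q := by
      intro r hr hrd
      by_contra hne
      haveI := Fact.mk hr
      haveI := hN
      obtain ⟨R⟩ : Nonempty (Sylow r ↥N) := inferInstance
      have hR := ConjFunctor.IsSylowIn.of_sylow R
      have hRG : ConjFunctor.IsSylowIn r ((R : Subgroup ↥N).map N.subtype) (⊤ : Subgroup G) :=
        ⟨le_top, hR.isPGroup, fun hd => by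
          rw [← Subgroup.relIndex_mul_relIndex _ N ⊤ hR.le le_top, Subgroup.relIndex_top_right,
            hidx] at hd
          rcases hr.dvd_mul.1 hd with h1 | h1
          · exact hR.2.2 h1
          · exact hne ((Nat.prime_dvd_prime_iff_eq hr hq).1 h1)⟩
      obtain ⟨S, hS⟩ := hRG.exists_top
      have hSN := h r hr hrd S
      have htop : N = ⊤ := by
        have h2 := Sylow.normalizer_sup_eq_top R
        rw [← hS, hSN, hS, sup_eq_right.2 hR.le] at h2
        exact h2
      rw [htop, Subgroup.index_top] at hidx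
      exact hq.one_lt.ne hidx
    haveI := Fact.mk hq
    exact IsPGroup.of_card (Nat.eq_prime_pow_of_unique_prime_dvd Nat.card_pos.ne'
      fun {r} hr hd => huniq r hr hd)
  by_cases hbig : ∃ q : ℕ, q.Prime ∧ 5 ≤ q ∧ q ∣ Nat.card G
  · obtain ⟨q, hq, h5, hd⟩ := hbig
    haveI := Fact.mk hq
    obtain ⟨S⟩ : Nonempty (Sylow q G) := inferInstance
    refine ⟨q, hq, hind q hq (ConjFunctor.exists_index_prime S
      (ConjFunctor.not_le_commutator_of_controls (W := Cfsg.kInfLower)
        (ConjFunctor.KInf.isCharPFunctor q).1 (G := G)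
        (fun H _ _ _ => ConjFunctor.kInf_controlsTransfer h5 H) G (ConjFunctor.isSec_refl G) S
        (fun he => ?_) (fun g hg hgc => ?_)))⟩
    · have h1 := S.dvd_card_of_dvd_card hd
      rw [he, Subgroup.card_bot] at h1
      exact hq.one_lt.ne' (Nat.dvd_one.1 h1)
    · have hg' : g ∈ (S : Subgroup G) := (h q hq hd S) ▸ hg
      obtain ⟨k, hk⟩ := S.2 ⟨g, hg'⟩
      rw [show g = 1 from orderOf_eq_one_iff.1 (Nat.eq_one_of_dvd_coprimes (hgc.pow_right k) dvd_rfl
        (orderOf_dvd_of_pow_eq_one (congrArg Subtype.val hk)))]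
      exact Subgroup.one_mem _
  · rcases subsingleton_or_nontrivial G with hG | hG
    · exact ⟨2, Nat.prime_two, fun g => ⟨0, Subsingleton.elim _ _⟩⟩
    have hsmall : ∀ r ∈ (Nat.card G).primeFactors, r = 2 ∨ r = 3 := by
      intro r hr
      obtain ⟨hr1, hr2, -⟩ := Nat.mem_primeFactors.1 hr
      have : r < 5 := not_le.1 fun h5 => hbig ⟨r, hr1, h5, hr2⟩
      have := hr1.two_le
      interval_cases r <;> first | omega | (norm_num at hr1)
    have hcard : Nat.card G = 2 ^ (Nat.card G).factorization 2 * 3 ^ (Nat.card G).factorization 3 := by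
      conv_lhs => rw [← Nat.prod_factorization_pow_eq_self (Nat.card_pos (α := G)).ne']
      rw [Finsupp.prod_of_support_subset (s := {2, 3}) _ ?_ _ (fun i _ => pow_zero i),
        Finset.prod_pair (by norm_num)]
      intro r hr
      rw [Nat.support_factorization] at hr
      simpa using hsmall r hr
    haveI : Group.IsSolvable G := CharCore.isSolvable_of_card_eq_prime_pow_mul Nat.prime_two
      Nat.prime_three _ G _ _ rfl hcard
    obtain ⟨M, hM, hMp, -⟩ := Solvable.exists_normal_prime_index G
    exact ⟨_, hMp, hind _ hMp ⟨M, hM, rfl⟩⟩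

end Cfsg.Agent.S1992
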