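import Cfsg.Statements.S1996
import Cfsg.Agent.ConjFunctor.FusionReduction

set_option autoImplicit false
universe u
open Cfsg

namespace Cfsg.Agent.S1996

/-- Let p be a prime, G a finite group and W₁, W₂ two isomorphism-invariant p-group functors (W assigns to every group Q a subgroup W(Q), nontrivial whenever Q is a nontrivial finite p-group, and every isomorphism from a finite p-group Q onto a group R carries W(Q) onto W(R)). Suppose that G* = N_{G*}(W₁(S*)) N_{G*}(W₂(S*)) whenever G* = K/R is a section of G with C_{G*}(O_p(G*)) ≤ O_p(G*) and S* is a Sylow p-subgroup of G*. Then the pair {W₁, W₂} controls strong fusion in G. -/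
theorem result {G : Type u} [Group G] [Finite G] {p : ℕ} [Fact p.Prime] (W₁ W₂ : ∀ (Q : Type u) [Group Q], Subgroup Q) (hW₁ : Cfsg.IsCharPFunctor.{u} p W₁) (hW₂ : Cfsg.IsCharPFunctor.{u} p W₂) (hfac : ∀ (K R : Subgroup G) [hR : (R.subgroupOf K).Normal], Subgroup.centralizer ((Cfsg.pCore p (↥K ⧸ R.subgroupOf K) : Subgroup (↥K ⧸ R.subgroupOf K)) : Set (↥K ⧸ R.subgroupOf K)) ≤ Cfsg.pCore p (↥K ⧸ R.subgroupOf K) → ∀ T : Sylow p (↥K ⧸ R.subgroupOf K), ∀ x : (↥K ⧸ R.subgroupOf K), ∃ a ∈ Subgroup.normalizer ((Cfsg.inducedFunctor (G := (↥K ⧸ R.subgroupOf K)) W₁ (T : Subgroup (↥K ⧸ R.subgroupOf K)) : Subgroup (↥K ⧸ R.subgroupOf K)) : Set (↥K ⧸ R.subgroupOf K)), ∃ b ∈ Subgroup.normalizer ((Cfsg.inducedFunctor (G := (↥K ⧸ R.subgroupOf K)) W₂ (T : Subgroup (↥K ⧸ R.subgroupOf K)) : Subgroup (↥K ⧸ R.subgroupOf K)) : Set (↥K ⧸ R.subgroupOf K)), x = a * b) : Cfsg.FamilyControlsStrongFusionIn p {Cfsg.inducedFunctor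 (G := G) W₁, Cfsg.inducedFunctor (G := G) W₂} ⊤ := by
  have h𝓦 : ∀ W ∈ ({W₁, W₂} : Set (∀ (Q : Type u) [Group Q], Subgroup Q)), Cfsg.IsCharPFunctor.{u} p W := by
    rintro W (rfl | rfl)
    exacts [hW₁, hW₂]
  have key := ConjFunctor.fusion_of_constrained h𝓦 (fun H _ _ hH hc => ?_) G (ConjFunctor.isSec_refl G)
  · simpa [ConjFunctor.indFam, Set.image_pair] using key
  refine ConjFunctor.IsSec.transport (P := fun X _ => Cfsg.FamilyControlsStrongFusionIn p (ConjFunctor.indFam ({W₁, W₂} : Set (∀ (Q : Type u) [Group Q], Subgroup Q)) X) ⊤) (fun e h => ConjFunctor.familyControlsStrongFusionIn_equiv h𝓦 e h) (fun K R _ h => ?_) hH hc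
  obtain ⟨T⟩ : Nonempty (Sylow p (↥K ⧸ R.subgroupOf K)) := inferInstance
  refine ConjFunctor.familyControlsStrongFusionIn_iff.2 ⟨_, ConjFunctor.isSylowIn_top T, ConjFunctor.controls_of_factor T (N₁ := ⊤ ⊓ ConjFunctor.nrm (Cfsg.inducedFunctor W₁ (T : Subgroup _))) (N₂ := ⊤ ⊓ ConjFunctor.nrm (Cfsg.inducedFunctor W₂ (T : Subgroup _))) ?_ ?_ ?_ ?_ ?_⟩
  · exact ⟨_, ⟨W₁, Or.inl rfl, rfl⟩, rfl⟩
  · exact ⟨_, ⟨W₂, Or.inr rfl, rfl⟩, rfl⟩
  · exact le_inf le_top (ConjFunctor.le_nrm_functor (ConjFunctor.isConjugacyFunctor_inducedFunctor hW₁) T.2)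
  · exact le_inf le_top (ConjFunctor.le_nrm_functor (ConjFunctor.isConjugacyFunctor_inducedFunctor hW₂) T.2)
  · intro g
    simpa [ConjFunctor.nrm] using hfac K R h T g

end Cfsg.Agent.S1996
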