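import Cfsg.Statements.S2761
import Cfsg.Agent.LocalEven61.Qd
import Mathlib.Data.ZMod.Basic
import Mathlib.Data.Nat.Factorial.Basic

set_option autoImplicit false
open Cfsg

namespace Cfsg.Agent.S2761

/-- The group Qd(2), the natural semidirect product of an elementary abelian group of order 4 by SL₂(2) (realised as the affine subgroup of SL₃(2)), is isomorphic to the symmetric group of degree 4. -/
theorem result : Nonempty (↥(Cfsg.qd 2) ≃* Equiv.Perm (Fin 4)) := by
  haveI : Fact (Nat.Prime 2) := ⟨Nat.prime_two⟩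
  obtain ⟨f, hf⟩ : ∃ f : ↥(Cfsg.qdOver (ZMod 2)) →* Equiv.Perm (Fin 2 → ZMod 2),
      Function.Injective f := by
    let _ : MulAction ↥(Cfsg.qdOver (ZMod 2)) (Fin 2 → ZMod 2) :=
      { smul := fun g w => LocalEven61.qdTrans g +
          (LocalEven61.qdLin g : Matrix (Fin 2) (Fin 2) (ZMod 2)).mulVec w
        one_smul := fun w => by
          show LocalEven61.qdTrans 1 + _ = w
          rw [map_one, ← LocalEven61.qdAff_zero_one, LocalEven61.qdTrans_qdAff]
          simp
        mul_smul := fun g h w => by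
          show LocalEven61.qdTrans (g * h) + _ = LocalEven61.qdTrans g + _
          rw [map_mul, LocalEven61.qdTrans_mul, Matrix.SpecialLinearGroup.coe_mul,
            ← Matrix.mulVec_mulVec, add_assoc, ← Matrix.mulVec_add]
          rfl }
    refine ⟨MulAction.toPermHom ↥(Cfsg.qdOver (ZMod 2)) (Fin 2 → ZMod 2), fun g h hgh => ?_⟩
    have e : ∀ w, LocalEven61.qdTrans g + (LocalEven61.qdLin g : Matrix (Fin 2) (Fin 2) (ZMod 2)).mulVec w =
        LocalEven61.qdTrans h + (LocalEven61.qdLin h : Matrix (Fin 2) (Fin 2) (ZMod 2)).mulVec w :=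
      fun w => DFunLike.congr_fun hgh w
    have e0 : LocalEven61.qdTrans g = LocalEven61.qdTrans h := by simpa using e 0
    refine LocalEven61.qd_ext (Subtype.ext (Matrix.ext_of_mulVec_single fun i => ?_)) e0
    have := e (Pi.single i 1)
    rw [e0] at this
    exact add_left_cancel this
  have hcard : Nat.card ↥(Cfsg.qdOver (ZMod 2)) = Nat.card (Equiv.Perm (Fin 2 → ZMod 2)) := by
    rw [LocalEven61.card_qdOver, LinearGroup.card_SL_two, Nat.card_perm, Nat.card_fun, Nat.card_zmod]
    simp [Nat.factorial]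
  have hbij : Function.Bijective f :=
    (Nat.bijective_iff_injective_and_card _).2 ⟨hf, hcard⟩
  have e : (Fin 2 → ZMod 2) ≃ Fin 4 := Fintype.equivFinOfCardEq (by simp)
  exact ⟨(MulEquiv.ofBijective f hbij).trans e.permCongrHom⟩

end Cfsg.Agent.S2761
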