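import Cfsg.Statements.S2001
import Cfsg.Agent.ConjFunctor.CentralPair

set_option autoImplicit false
open Cfsg

namespace Cfsg.Agent.S2001

/-- Let p be a prime dividing the order of the finite group G, P a Sylow p-subgroup, W a conjugacy functor for p on G with Z(H) ≤ W(H) for every nontrivial p-subgroup H, and V a central functor: a conjugacy functor with V(H) ≤ Z(H), and V(H) ≤ V(K) whenever Z(H) ≤ Z(K), for nontrivial p-subgroups H, K. Say that W with V controls transfer in a subgroup L when some Sylow p-subgroup Q of L satisfies Q ∩ L' = (Q ∩ (N_L(W(Q)))')·(Q ∩ (C_L(V(Q)))') as a product of two subgroups. If W with V controls transfer in N_G(H) for every subgroup H with Z(P) ≤ H ≤ P, then W with V controls transfer in G. -/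
theorem result {G : Type*} [Group G] [Finite G] {p : ℕ} [Fact p.Prime] (hdiv : p ∣ Nat.card G) (P : Sylow p G) (W V : Subgroup G → Subgroup G) (hW : Cfsg.IsConjugacyFunctor p W) (hV : Cfsg.IsConjugacyFunctor p V) (hWZ : ∀ H : Subgroup G, IsPGroup p ↥H → H ⊓ Subgroup.centralizer ((H : Subgroup G) : Set G) ≤ W H) (hVZ : ∀ H : Subgroup G, IsPGroup p ↥H → V H ≤ H ⊓ Subgroup.centralizer ((H : Subgroup G) : Set G)) (hVmono : ∀ H K : Subgroup G, IsPGroup p ↥H → IsPGroup p ↥K → H ≠ ⊥ → K ≠ ⊥ → H ⊓ Subgroup.centralizer ((H : Subgroup G) : Set G) ≤ K ⊓ Subgroup.centralizer ((K : Subgroup G) : Set G) → V H ≤ V K) (hloc : ∀ H : Subgroup G, (P : Subgroup G) ⊓ Subgroup.centralizer (((P : Subgroup G) : Subgroup G) : Set G) ≤ H → H ≤ (P : Subgroup G) → ∃ Q : Subgroup G, Q ≤ Subgroup.normalizer ((H : Subgroup G) : Set G) ∧ IsPGroup p ↥Q ∧ ¬ p ∣ (Q).relIndex (Subgroup.normalizer ((H : Subgroup G) : Set G)) ∧ ∀ x : G, x ∈ Q ⊓ ⁅Subgroup.normalizer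 ((H : Subgroup G) : Set G), Subgroup.normalizer ((H : Subgroup G) : Set G)⁆ ↔ ∃ a ∈ Q ⊓ ⁅Subgroup.normalizer ((H : Subgroup G) : Set G) ⊓ Subgroup.normalizer ((W Q : Subgroup G) : Set G), Subgroup.normalizer ((H : Subgroup G) : Set G) ⊓ Subgroup.normalizer ((W Q : Subgroup G) : Set G)⁆, ∃ b ∈ Q ⊓ ⁅Subgroup.normalizer ((H : Subgroup G) : Set G) ⊓ Subgroup.centralizer ((V Q : Subgroup G) : Set G), Subgroup.normalizer ((H : Subgroup G) : Set G) ⊓ Subgroup.centralizer ((V Q : Subgroup G) : Set G)⁆, x = a * b) : ∃ Q : Subgroup G, IsPGroup p ↥Q ∧ ¬ p ∣ Q.index ∧ ∀ x : G, x ∈ Q ⊓ commutator G ↔ ∃ a ∈ Q ⊓ ⁅Subgroup.normalizer ((W Q : Subgroup G) : Set G), Subgroup.normalizer ((W Q : Subgroup G) : Set G)⁆, ∃ b ∈ Q ⊓ ⁅Subgroup.centralizer ((V Q : Subgroup G) : Set G), Subgroup.centralizer ((V Q : Subgroup G) : Set G)⁆, x = a * b := by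
  have hP : (P : Subgroup G) ≠ ⊥ := P.ne_bot_of_dvd_card hdiv
  have hle := ConjFunctor.inf_commutator_le_pairSig hW hV hWZ hVmono P hP fun H hZH hH => ?_
  · refine ⟨P, P.2, P.not_dvd_index, fun x => ?_⟩
    set A := (P : Subgroup G) ⊓ ⁅Subgroup.normalizer ((W P : Subgroup G) : Set G), Subgroup.normalizer ((W P : Subgroup G) : Set G)⁆ with hA
    set B := (P : Subgroup G) ⊓ ⁅Subgroup.centralizer ((V P : Subgroup G) : Set G), Subgroup.centralizer ((V P : Subgroup G) : Set G)⁆ with hB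
    constructor
    · intro hx
      have hx' : x ∈ A ⊔ B := by
        have := hle (show x ∈ (P : Subgroup G) ⊓ ⁅(⊤ : Subgroup G), ⊤⁆ by rwa [← commutator_def])
        simpa [ConjFunctor.pairSig, ConjFunctor.nrm] using this
      have hPV : (P : Subgroup G) ≤ Subgroup.normalizer ((V P : Subgroup G) : Set G) :=
        ConjFunctor.le_nrm_functor hV P.2
      have hAB : A ≤ Subgroup.normalizer (B : Set G) := fun y hy => ConjFunctor.mem_nrm_iff_cnj.2 (by
        show Subgroup.map _ _ = _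
        rw [hB, Subgroup.map_inf _ _ _ (MulAut.conj y).injective, Subgroup.map_commutator]
        show ConjFunctor.cnj y (P : Subgroup G) ⊓ ⁅ConjFunctor.cnj y _, ConjFunctor.cnj y _⁆ = _
        rw [ConjFunctor.cnj_of_mem hy.1, ConjFunctor.cnj_centralizer, ConjFunctor.mem_nrm_iff_cnj.1 (hPV hy.1)])
      rw [← SetLike.mem_coe, Subgroup.coe_mul_of_left_le_normalizer_right A B hAB] at hx'
      obtain ⟨a, ha, b, hb, rfl⟩ := hx'
      exact ⟨a, ha, b, hb, rfl⟩
    · rintro ⟨a, ha, b, hb, rfl⟩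
      refine Subgroup.mul_mem _ ⟨ha.1, ?_⟩ ⟨hb.1, ?_⟩ <;> rw [commutator_def]
      · exact Subgroup.commutator_mono le_top le_top ha.2
      · exact Subgroup.commutator_mono le_top le_top hb.2
  obtain ⟨Q, hQN, hQp, hQi, hQ⟩ := hloc H hZH hH
  refine ⟨Q, ⟨hQN, hQp, hQi⟩, fun x hx => ?_⟩
  obtain ⟨a, ha, b, hb, rfl⟩ := (hQ x).1 hx
  exact Subgroup.mul_mem_sup ha hb

end Cfsg.Agent.S2001
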