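import Cfsg.Statements.S2002
import Cfsg.Agent.ConjFunctor.CentralPair

set_option autoImplicit false
open Cfsg

namespace Cfsg.Agent.S2002

/-- Let p be a prime dividing the order of the finite group G, P a Sylow p-subgroup, W a conjugacy functor for p on G with Z(H) ≤ W(H) for every nontrivial p-subgroup H, and V a central functor (a conjugacy functor with V(H) ≤ Z(H), and V(H) ≤ V(K) whenever Z(H) ≤ Z(K)). Say that W with V controls strong fusion in a subgroup L when some Sylow p-subgroup Q of L has the property: whenever X ⊆ Q and a ∈ L with a⁻¹Xa ⊆ Q, then a = c b with c ∈ C_L(X) and b = b₁ ⋯ bₙ a product of elements each in N_L(W(Q)) or in C_L(V(Q)) such that every partial conjugate (b₁ ⋯ bₖ)⁻¹ X (b₁ ⋯ bₖ) lies in Q. If W with V controls strong fusion in N_G(H) for every subgroup H with Z(P) ≤ H ≤ P, then W with V controls strong fusion in G. -/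
theorem result {G : Type*} [Group G] [Finite G] {p : ℕ} [Fact p.Prime] (hdiv : p ∣ Nat.card G) (P : Sylow p G) (W V : Subgroup G → Subgroup G) (hW : Cfsg.IsConjugacyFunctor p W) (hV : Cfsg.IsConjugacyFunctor p V) (hWZ : ∀ H : Subgroup G, IsPGroup p ↥H → H ⊓ Subgroup.centralizer ((H : Subgroup G) : Set G) ≤ W H) (hVZ : ∀ H : Subgroup G, IsPGroup p ↥H → V H ≤ H ⊓ Subgroup.centralizer ((H : Subgroup G) : Set G)) (hVmono : ∀ H K : Subgroup G, IsPGroup p ↥H → IsPGroup p ↥K → H ≠ ⊥ → K ≠ ⊥ → H ⊓ Subgroup.centralizer ((H : Subgroup G) : Set G) ≤ K ⊓ Subgroup.centralizer ((K : Subgroup G) : Set G) → V H ≤ V K) (hloc : ∀ H : Subgroup G, (P : Subgroup G) ⊓ Subgroup.centralizer (((P : Subgroup G) : Subgroup G) : Set G) ≤ H → H ≤ (P : Subgroup G) → ∃ Q : Subgroup G, Q ≤ Subgroup.normalizer ((H : Subgroup G) : Set G) ∧ IsPGroup p ↥Q ∧ ¬ p ∣ (Q).relIndex (Subgroup.normalizer ((H : Subgroup G) : Set G)) ∧ ∀ (X : Set G) (a : G),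 X ⊆ Q → a ∈ Subgroup.normalizer ((H : Subgroup G) : Set G) → (fun x => a⁻¹ * x * a) '' X ⊆ Q → ∃ c ∈ Subgroup.normalizer ((H : Subgroup G) : Set G) ⊓ Subgroup.centralizer X, ∃ (n : ℕ) (b : Fin n → G), (∀ i, b i ∈ Subgroup.normalizer ((H : Subgroup G) : Set G) ⊓ Subgroup.normalizer ((W Q : Subgroup G) : Set G) ∨ b i ∈ Subgroup.normalizer ((H : Subgroup G) : Set G) ⊓ Subgroup.centralizer ((V Q : Subgroup G) : Set G)) ∧ a = c * (List.ofFn b).prod ∧ ∀ k : ℕ, k ≤ n → (fun x => (((List.ofFn b).take k).prod)⁻¹ * x * ((List.ofFn b).take k).prod) '' ((fun x => c⁻¹ * x * c) '' X) ⊆ Q) : ∃ Q : Subgroup G, IsPGroup p ↥Q ∧ ¬ p ∣ Q.index ∧ ∀ (X : Set G) (a : G), X ⊆ Q → (fun x => a⁻¹ * x * a) '' X ⊆ Q → ∃ c ∈ Subgroup.centralizer X, ∃ (n : ℕ) (b : Fin n → G), (∀ i, b i ∈ ⊤ ⊓ Subgroup.normalizer ((W Q : Subgroup G) : Set G) ∨ b i ∈ ⊤ ⊓ Subgroup.centralizer ((V Q : Subgroup G) : Set G)) ∧ a = c * (List.ofFn b).prod ∧ ∀ k : ℕ, k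 ≤ n → (fun x => (((List.ofFn b).take k).prod)⁻¹ * x * ((List.ofFn b).take k).prod) '' ((fun x => c⁻¹ * x * c) '' X) ⊆ Q := by
  have hP : (P : Subgroup G) ≠ ⊥ := P.ne_bot_of_dvd_card hdiv
  have hc := ConjFunctor.controls_pair hW hV hWZ hVmono P hP fun H hZH hH => ?_
  · refine ⟨P, P.2, P.not_dvd_index, fun X a hX ha => ?_⟩
    have h1 : (fun x => a⁻¹ * x * a⁻¹⁻¹) '' X ⊆ ((P : Subgroup G) : Set G) := by simpa using ha
    obtain ⟨n, b, hb, hk, he⟩ := (hc X a⁻¹ (Subgroup.mem_top _) hX h1).exists_right_chain hX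
    set q := (List.ofFn b).prod with hq
    have hcen : a * q⁻¹ ∈ Subgroup.centralizer X := Subgroup.mem_centralizer_iff.2 fun x hx => by
      have h2 := he x hx
      rw [inv_inv] at h2
      calc x * (a * q⁻¹) = a * (a⁻¹ * x * a) * q⁻¹ := by group
        _ = a * (q⁻¹ * x * q) * q⁻¹ := by rw [h2]
        _ = a * q⁻¹ * x := by group
    have himg : (fun x => (a * q⁻¹)⁻¹ * x * (a * q⁻¹)) '' X = X := by
      refine (Set.image_congr fun x hx => ?_).trans (Set.image_id' X)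
      rw [mul_assoc, Subgroup.mem_centralizer_iff.1 hcen x hx, inv_mul_cancel_left]
    refine ⟨a * q⁻¹, hcen, n, b, fun i => ?_, (inv_mul_cancel_right a q).symm, fun k hk' => ?_⟩
    · obtain ⟨M, hM, hm⟩ := hb i
      rcases hM with rfl | rfl
      exacts [Or.inl hm, Or.inr hm]
    · rw [himg]; exact hk k hk'
  obtain ⟨Q, hQN, hQp, hQi, hQ⟩ := hloc H hZH hH
  refine ⟨Q, ⟨hQN, hQp, hQi⟩, fun A h hh hA hhA => ?_⟩
  obtain ⟨c, hcC, n, b, hb, he, hk⟩ := hQ A h⁻¹ hA (inv_mem hh) (by simpa using hhA)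
  have himg : (fun x => c⁻¹ * x * c) '' A = A := by
    refine (Set.image_congr fun x hx => ?_).trans (Set.image_id' A)
    rw [mul_assoc, Subgroup.mem_centralizer_iff.1 hcC.2 x hx, inv_mul_cancel_left]
  refine (ConjFunctor.fus_of_right_chain n A b (fun i => ?_) (fun k hk' => himg ▸ hk k hk')).congr fun x hx => ?_
  · rcases hb i with h' | h'
    exacts [⟨_, Or.inl rfl, h'⟩, ⟨_, Or.inr rfl, h'⟩]
  · have h5 : c⁻¹ * x * c = x := by
      rw [mul_assoc, Subgroup.mem_centralizer_iff.1 hcC.2 x hx, inv_mul_cancel_left]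
    calc ((List.ofFn b).prod)⁻¹ * x * ((List.ofFn b).prod)⁻¹⁻¹ = (c * (List.ofFn b).prod)⁻¹ * x * (c * (List.ofFn b).prod) := by
          conv_lhs => rw [← h5]
          group
      _ = h * x * h⁻¹ := by rw [← he]; group

end Cfsg.Agent.S2002
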