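import Cfsg.Statements.S2005
import Cfsg.Agent.ConjFunctor.PComplementCriteria

set_option autoImplicit false
universe u
open Cfsg

namespace Cfsg.Agent.S2005

/-- Thompson's normal p-complement criterion in functor form. Let p be a prime, G a finite group with Sylow p-subgroup S, and W an isomorphism-invariant p-group functor (W assigns to every group Q a subgroup W(Q), nontrivial whenever Q is a nontrivial finite p-group, and every isomorphism from a finite p-group Q onto a group R carries W(Q) onto W(R)). Suppose N_G(W(S)) has a normal p-complement, and that W(S*) is normal in G* whenever G* = K/R is a section of G with C_{G*}(O_p(G*)) ≤ O_p(G*) such that G*/O_p(G*) has a normal p-complement, and S* is a Sylow p-subgroup of G* that is a maximal subgroup of G*. Then G has a normal p-complement. -/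
theorem result {G : Type u} [Group G] [Finite G] {p : ℕ} [Fact p.Prime] (W : ∀ (Q : Type u) [Group Q], Subgroup Q) (hW : Cfsg.IsCharPFunctor.{u} p W) (S : Sylow p G) (hN : Cfsg.HasNormalPComplement p ↥(Subgroup.normalizer ((Cfsg.inducedFunctor (G := G) W (S : Subgroup G) : Subgroup G) : Set G))) (hloc : ∀ (K R : Subgroup G) [hR : (R.subgroupOf K).Normal], Subgroup.centralizer ((Cfsg.pCore p (↥K ⧸ R.subgroupOf K) : Subgroup (↥K ⧸ R.subgroupOf K)) : Set (↥K ⧸ R.subgroupOf K)) ≤ Cfsg.pCore p (↥K ⧸ R.subgroupOf K) → Cfsg.HasNormalPComplement p ((↥K ⧸ R.subgroupOf K) ⧸ Cfsg.pCore p (↥K ⧸ R.subgroupOf K)) → ∀ T : Sylow p (↥K ⧸ R.subgroupOf K), IsCoatom (T : Subgroup (↥K ⧸ R.subgroupOf K)) → (Cfsg.inducedFunctor (G := (↥K ⧸ R.subgroupOf K)) W ((T : Subgroup (↥K ⧸ R.subgroupOf K)))).Normal) : Cfsg.HasNormalPComplement p G := by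
  refine ConjFunctor.hasNormalPComplement_of_functor hW (fun X _ _ P V K hX hred hNX => ?_) S hN
  refine ConjFunctor.not_normal_of_reduced hred hNX ?_
  obtain ⟨A, R, hR, ⟨e⟩⟩ := hX.exists_section
  obtain ⟨T, hT⟩ := ConjFunctor.exists_sylow_map_equiv e P
  have hc := (ConjFunctor.IsReduced.constr hred).of_equiv e.symm
  have hV : Cfsg.HasNormalPComplement p ((↥A ⧸ R.subgroupOf A) ⧸ Cfsg.pCore p (↥A ⧸ R.subgroupOf A)) := by
    refine (Transfer.hasNormalPComplement_congr (QuotientGroup.congr _ _ e
      (Thompson.map_pCore_equiv e))).2 ?_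
    haveI := hred.normal
    haveI : (K.map (QuotientGroup.mk' (Cfsg.pCore p X))).Normal :=
      Subgroup.Normal.map hred.normal _ (QuotientGroup.mk'_surjective _)
    refine Transfer.hasNormalPComplement_of_not_dvd_card
      (N := K.map (QuotientGroup.mk' (Cfsg.pCore p X))) ?_ ?_
    · intro hd
      have h1 : Nat.card ↥(K.map (QuotientGroup.mk' (Cfsg.pCore p X))) = V.relIndex K := by
        rw [hred.eq_pCore]
        conv_rhs => rw [← QuotientGroup.ker_mk' (Cfsg.pCore p X), Subgroup.relIndex_ker]
      exact (Nat.Prime.coprime_iff_not_dvd Fact.out).1 hred.coprime.symm (h1 ▸ hd)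
    · have hle : Cfsg.pCore p X ≤ K := hred.eq_pCore ▸ hred.le_normal
      exact (ConjFunctor.IsReduced.isPGroup_quotient_K hred).of_equiv
        (QuotientGroup.quotientQuotientEquivQuotient (Cfsg.pCore p X) K hle).symm
  have hmax : IsCoatom (T : Subgroup (↥A ⧸ R.subgroupOf A)) := by
    refine ⟨fun htop => hred.not_le ?_, fun M hM => ?_⟩
    · intro k _
      haveI : (T : Subgroup (↥A ⧸ R.subgroupOf A)).Normal := by rw [htop]; infer_instance
      rw [hred.eq_pCore, ← Thompson.map_pCore_equiv e]
      refine ⟨e.symm k, Thompson.le_pCore inferInstance T.2 ?_, e.apply_symm_apply k⟩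
      rw [htop]; trivial
    · by_contra hne
      have h1 := hred.maximal (M.map e.toMonoidHom) (hT ▸ Subgroup.map_mono hM.le) fun he => hne ?_
      · rw [← hT] at h1
        exact hM.ne' (Subgroup.map_injective e.injective h1)
      · apply Subgroup.map_injective (f := e.toMonoidHom) e.injective
        rw [he, Subgroup.map_top_of_surjective e.toMonoidHom e.surjective]
  rw [← hT, ConjFunctor.inducedFunctor_map hW e.toMonoidHom _ T.2 e.injective.injOn]
  exact Subgroup.Normal.map (hloc A R hc hV T hmax) _ e.surjective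

end Cfsg.Agent.S2005
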