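import Cfsg.Statements.S2007
import Cfsg.Agent.Lib.Transfer.Residual
import Mathlib.GroupTheory.Transfer

set_option autoImplicit false
open Cfsg

namespace Cfsg.Agent.S2007

/-- Let p be a prime, G a finite group with Sylow p-subgroup S, and T a normal subgroup of S containing C_S(T). If N_G(T)/C_G(T) is a p-group (every element of N_G(T) of order prime to p centralizes T), then N_G(T) has a normal p-complement. -/
theorem result {G : Type*} [Group G] [Finite G] {p : ℕ} [Fact p.Prime] (S : Sylow p G) (T : Subgroup G) (hTS : T ≤ (S : Subgroup G)) (hTn : (S : Subgroup G) ≤ Subgroup.normalizer ((T : Subgroup G) : Set G)) (hC : (S : Subgroup G) ⊓ Subgroup.centralizer ((T : Subgroup G) : Set G) ≤ T) (hN : ∀ g ∈ Subgroup.normalizer ((T : Subgroup G) : Set G), (orderOf g).Coprime p → g ∈ Subgroup.centralizer ((T : Subgroup G) : Set G)) : Cfsg.HasNormalPComplement p ↥(Subgroup.normalizer ((T : Subgroup G) : Set G)) := by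
  set N := Subgroup.normalizer (T : Set G) with hNdef
  set C := Subgroup.centralizer (T : Set G) with hCdef
  haveI hCn : (C.subgroupOf N).Normal := by
    rw [hCdef, hNdef, ← Subgroup.normalizerMonoidHom_ker]; infer_instance
  haveI hTn' : (T.subgroupOf N).Normal := Subgroup.normal_in_normalizer
  let S' : Sylow p N := S.subtype hTn
  have hC' : (S' : Subgroup N) ⊓ C.subgroupOf N ≤ T.subgroupOf N := fun v hv => hC ⟨hv.1, hv.2⟩
  -- `O^p(N)` lies in `C`, and its Sylow subgroup is central
  have hle : Cfsg.pResidual p N ≤ C.subgroupOf N := by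
    rw [Cfsg.Agent.Transfer.pResidual_le_iff]
    intro v hv
    exact hN v v.2 (by rwa [Subgroup.orderOf_coe])
  rw [Cfsg.Agent.Transfer.hasNormalPComplement_iff_not_dvd]
  intro hdvd
  set O := Cfsg.pResidual p N with hO
  obtain ⟨Q⟩ : Nonempty (Sylow p O) := inferInstance
  obtain ⟨R, hR⟩ := (Q.2.map O.subtype).exists_le_sylow
  obtain ⟨g, hg⟩ := MulAction.exists_smul_eq N R S'
  have hZ : ∀ q : O, q ∈ (Q : Subgroup O) → ∀ o : O, q * o = o * q := by
    intro q hq o
    have hqS : g * (q : N) * g⁻¹ ∈ (S' : Subgroup N) := by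
      rw [← hg, Sylow.coe_subgroup_smul]
      exact ⟨q, hR ⟨q, hq, rfl⟩, rfl⟩
    have hqT : g * (q : N) * g⁻¹ ∈ T.subgroupOf N :=
      hC' ⟨hqS, (inferInstance : (C.subgroupOf N).Normal).conj_mem _ (hle q.2) g⟩
    have hqT' : ((q : N) : G) ∈ T := by
      have h := hTn'.conj_mem _ hqT g⁻¹
      rwa [show g⁻¹ * (g * (q : N) * g⁻¹) * g⁻¹⁻¹ = (q : N) by group] at h
    exact Subtype.ext (Subtype.ext (Subgroup.mem_centralizer_iff.mp (hle o.2) _ hqT'))
  have hOO : Cfsg.pResidual p O = ⊤ := Cfsg.Agent.Transfer.pResidual_pResidual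
  have hQN : Subgroup.normalizer ((Q : Subgroup O) : Set O) ≤
      Subgroup.centralizer ((Q : Subgroup O) : Set O) :=
    fun n _ => Subgroup.mem_centralizer_iff.mpr fun q hq => hZ q hq n
  have hcomp := MonoidHom.ker_transferSylow_isComplement' Q hQN
  have hbot := (Cfsg.Agent.Transfer.hasNormalPComplement_iff_inf_eq_bot Q).mp
    ⟨Q, _, inferInstance, hcomp⟩
  rw [hOO, inf_top_eq] at hbot
  have hd := Q.dvd_card_of_dvd_card hdvd
  rw [hbot, Subgroup.card_bot] at hd
  exact (Fact.out : p.Prime).not_dvd_one hd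

end Cfsg.Agent.S2007
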