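import Cfsg.Statements.S2009


set_option autoImplicit false
open Cfsg

namespace Cfsg.Agent.S2009

theorem eq_bot_of_normal {H : Type*} [Group H] [Finite H] (z : H) (hz : orderOf z = 2)
    (hN : ∀ N : Subgroup H, N.Normal → N ≠ ⊤ → N ⊓ Subgroup.centralizer ({z} : Set H) = ⊥)
    (E : Subgroup H) (hE : IsKleinFour ↥E) (hzE : z ∈ E) (hc : ∀ e ∈ E, e ≠ 1 → IsConj z e)
    (N : Subgroup H) (hNn : N.Normal) (htop : N ≠ ⊤) : N = ⊥ := by
  haveI := hNn
  have hbot := hN N hNn htop
  -- each involution of `E` inverts `N` and fixes only the identity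
  have hfix : ∀ e ∈ E, e ≠ 1 → ∀ n ∈ N, e * n * e⁻¹ = n → n = 1 := by
    intro e he he1 n hn hen
    obtain ⟨g, rfl⟩ := isConj_iff.mp (hc e he he1)
    have h1 : g⁻¹ * n * g ∈ N ⊓ Subgroup.centralizer ({z} : Set H) := by
      refine ⟨by simpa using hNn.conj_mem n hn g⁻¹, ?_⟩
      refine Subgroup.mem_centralizer_singleton_iff.mpr ?_
      calc g⁻¹ * n * g * z = g⁻¹ * (n * (g * z * g⁻¹)) * g := by group
        _ = g⁻¹ * (g * z * g⁻¹ * n) * g := by rw [← mul_inv_eq_iff_eq_mul.mp hen]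
        _ = _ := by group
    rw [hbot, Subgroup.mem_bot] at h1
    calc n = g * (g⁻¹ * n * g) * g⁻¹ := by group
      _ = 1 := by rw [h1]; group
  have hinv : ∀ e ∈ E, e ≠ 1 → ∀ n ∈ N, e * n * e⁻¹ = n⁻¹ := by
    intro e he he1
    have he2 : e * e = 1 := congrArg Subtype.val (IsKleinFour.mul_self (⟨e, he⟩ : E))
    let F : N → N := fun n => ⟨(n : H)⁻¹ * (e * n * e⁻¹), mul_mem (inv_mem n.2) (hNn.conj_mem _ n.2 e)⟩
    have hinj : Function.Injective F := by
      intro a b hab
      have h : (a : H)⁻¹ * (e * a * e⁻¹) = (b : H)⁻¹ * (e * b * e⁻¹) := congrArg Subtype.val hab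
      have h1 := hfix e he he1 _ (mul_mem b.2 (inv_mem a.2)) (by
        calc e * ((b : H) * (a : H)⁻¹) * e⁻¹
            = b * ((b : H)⁻¹ * (e * b * e⁻¹)) * ((a : H)⁻¹ * (e * a * e⁻¹))⁻¹ * (a : H)⁻¹ := by group
          _ = _ := by rw [← h]; group)
      exact Subtype.ext (mul_inv_eq_one.mp h1).symm
    intro n hn
    obtain ⟨m, hm⟩ := Finite.injective_iff_surjective.mp hinj ⟨n, hn⟩
    have h : (m : H)⁻¹ * (e * m * e⁻¹) = n := congrArg Subtype.val hm
    have hei : e⁻¹ = e := inv_eq_of_mul_eq_one_right he2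
    rw [← h, mul_inv_rev, inv_inv, mul_inv_rev, mul_inv_rev, inv_inv, hei]
    calc e * ((m : H)⁻¹ * (e * m * e)) * e = e * (m : H)⁻¹ * e * m * (e * e) := by group
      _ = _ := by rw [he2, mul_one]; group
  have hcard := hE.card_four
  -- choose a second involution
  obtain ⟨e, he, he1, hez⟩ : ∃ e ∈ E, e ≠ 1 ∧ e ≠ z := by
    by_contra h
    push Not at h
    have : (E : Set H) ⊆ {1, z} := fun w hw => by
      by_cases hw1 : w = 1
      · exact Or.inl hw1
      · exact Or.inr (h w hw hw1)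
    have h2 := Set.ncard_le_ncard this (Set.toFinite _)
    rw [← Nat.card_coe_set_eq, SetLike.coe_sort_coe, hcard] at h2
    have := Set.ncard_insert_le (1 : H) {z}
    rw [Set.ncard_singleton] at this
    omega
  have hz1 : z ≠ 1 := fun h => by rw [h, orderOf_one] at hz; omega
  have hz2 : z * z = 1 := by rw [← sq, ← hz, pow_orderOf_eq_one]
  have hze : z * e ≠ 1 := fun h => hez (mul_left_cancel (h.trans hz2.symm))
  rw [Subgroup.eq_bot_iff_forall]
  intro n hn
  refine hfix e he he1 n hn ?_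
  have h1 := hinv e he he1 n hn
  have h2 : z * e * n * (z * e)⁻¹ = n := by
    rw [show z * e * n * (z * e)⁻¹ = z * (e * n * e⁻¹) * z⁻¹ by group, h1,
      hinv z hzE hz1 _ (inv_mem hn), inv_inv]
  rw [hfix _ (mul_mem hzE he) hze n hn h2]
  group

/-- Let H be a finite group and z an involution such that every proper normal subgroup of H meets the centralizer of z trivially, and suppose z lies in a Klein four-subgroup E of H all three of whose involutions are conjugate to z in H. Then H is simple. -/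
theorem result {H : Type*} [Group H] [Finite H] (z : H) (hz : orderOf z = 2) (hN : ∀ N : Subgroup H, N.Normal → N ≠ ⊤ → N ⊓ Subgroup.centralizer ({z} : Set H) = ⊥) (E : Subgroup H) (hE : IsKleinFour ↥E) (hzE : z ∈ E) (hc : ∀ e ∈ E, e ≠ 1 → IsConj z e) : IsSimpleGroup H := by
  haveI : Nontrivial H := ⟨z, 1, fun h => by rw [h, orderOf_one] at hz; omega⟩
  refine ⟨fun N hNn => ?_⟩
  by_cases htop : N = ⊤
  · exact Or.inr htop
  · exact Or.inl (eq_bot_of_normal z hz hN E hE hzE hc N hNn htop)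

end Cfsg.Agent.S2009
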