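import Cfsg.Statements.S2008
import Cfsg.Agent.S2009

set_option autoImplicit false
open Cfsg

namespace Cfsg.Agent.S2008

/-- Let H be a finite group and z an involution such that every proper normal subgroup of H meets the centralizer of z trivially, and suppose z lies in a Klein four-subgroup E of H all three of whose involutions are conjugate to z in H. Then H has no non-trivial abelian normal subgroup. -/
theorem result {H : Type*} [Group H] [Finite H] (z : H) (hz : orderOf z = 2) (hN : ∀ N : Subgroup H, N.Normal → N ≠ ⊤ → N ⊓ Subgroup.centralizer ({z} : Set H) = ⊥) (E : Subgroup H) (hE : IsKleinFour ↥E) (hzE : z ∈ E) (hc : ∀ e ∈ E, e ≠ 1 → IsConj z e) (N : Subgroup H) [N.Normal] (hab : IsMulCommutative ↥N) : N = ⊥ := by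
  refine S2009.eq_bot_of_normal z hz hN E hE hzE hc N inferInstance fun htop => ?_
  subst htop
  have hcomm : ∀ a b : H, a * b = b * a := fun a b =>
    congrArg Subtype.val (hab.is_comm.comm (⟨a, trivial⟩ : (⊤ : Subgroup H)) ⟨b, trivial⟩)
  have hE1 : ∀ e ∈ E, e = 1 ∨ e = z := fun e he => by
    by_cases h : e = 1
    · exact Or.inl h
    · obtain ⟨g, hg⟩ := isConj_iff.mp (hc e he h)
      exact Or.inr (by rw [← hg, hcomm g z, mul_inv_cancel_right])
  have h2 : (E : Set H) ⊆ {1, z} := fun w hw => hE1 w hw
  have h3 := Set.ncard_le_ncard h2 (Set.toFinite _)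
  rw [← Nat.card_coe_set_eq, SetLike.coe_sort_coe, hE.card_four] at h3
  have := Set.ncard_insert_le (1 : H) {z}
  rw [Set.ncard_singleton] at this
  omega

end Cfsg.Agent.S2008
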