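import Cfsg.Statements.S2014
import Cfsg.Agent.Lib.Transfer.Residual

set_option autoImplicit false
open Cfsg

namespace Cfsg.Agent.S2014

/-- Let P be a Sylow p-subgroup of a finite group G and A, C ≤ P subgroups conjugate in G, with C extremal: N_P(C) is a Sylow p-subgroup of N_G(C). Then there is g with gAg⁻¹ = C and g N_P(A) g⁻¹ ≤ N_P(C); moreover, given any h with hAh⁻¹ = C, g can be chosen so that h g⁻¹ lies in O^p(N_G(C)), the subgroup of N_G(C) generated by its elements of order prime to p. -/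
theorem result {G : Type*} [Group G] [Finite G] (p : ℕ) [Fact p.Prime] (P : Sylow p G) (A C : Subgroup G) (hA : A ≤ P) (hC : C ≤ P) (hext : ¬ p ∣ ((P : Subgroup G) ⊓ Subgroup.normalizer ((C : Subgroup G) : Set G)).relIndex (Subgroup.normalizer ((C : Subgroup G) : Set G))) (h : G) (hh : A.map (MulAut.conj h).toMonoidHom = C) : ∃ g : G, A.map (MulAut.conj g).toMonoidHom = C ∧ ((P : Subgroup G) ⊓ Subgroup.normalizer ((A : Subgroup G) : Set G)).map (MulAut.conj g).toMonoidHom ≤ (P : Subgroup G) ⊓ Subgroup.normalizer ((C : Subgroup G) : Set G) ∧ h * g⁻¹ ∈ (Cfsg.pResidual p ↥(Subgroup.normalizer ((C : Subgroup G) : Set G))).map (Subgroup.normalizer ((C : Subgroup G) : Set G)).subtype := by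
  set N := Subgroup.normalizer (C : Set G) with hN
  set R := (P : Subgroup G) ⊓ N with hR
  let R' : Sylow p N := ((P.2.to_le (inf_le_left (b := N))).comap_subtype (K := N)).toSylow hext
  set X := ((P : Subgroup G) ⊓ Subgroup.normalizer (A : Set G)).map (MulAut.conj h).toMonoidHom with hX
  have hXN : X ≤ N := by
    rintro _ ⟨a, ha, rfl⟩
    refine Subgroup.mem_normalizer_fintype fun v hv => ?_
    rw [SetLike.mem_coe, ← hh] at hv ⊢
    obtain ⟨b, hb, rfl⟩ := hv
    exact ⟨a * b * a⁻¹, (Subgroup.mem_normalizer_iff.mp ha.2 b).mp hb, by simp [mul_assoc]⟩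
  have hXp : IsPGroup p X := (P.2.to_le (inf_le_left)).map _
  obtain ⟨T, hT⟩ := (hXp.comap_subtype (K := N)).exists_le_sylow
  obtain ⟨n, hn⟩ := MulAction.exists_smul_eq N T R'
  have htop : n ∈ (R' : Subgroup N) ⊔ Cfsg.pResidual p N := by
    rw [Cfsg.Agent.Transfer.sylow_sup_pResidual_eq_top]; trivial
  obtain ⟨r, hr, k, hk, rfl⟩ := Subgroup.mem_sup_of_normal_right.mp htop
  refine ⟨(k : G) * h, ?_, ?_, ?_⟩
  · rw [map_mul, show (MulAut.conj (k : G) * MulAut.conj h).toMonoidHom =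
      (MulAut.conj (k : G)).toMonoidHom.comp (MulAut.conj h).toMonoidHom from rfl,
      ← Subgroup.map_map, hh]
    refine Subgroup.eq_of_le_of_card_ge ?_ (le_of_eq (Subgroup.card_map_of_injective
      (f := (MulAut.conj (k : G)).toMonoidHom) (MulAut.conj (k : G)).injective).symm)
    rintro _ ⟨c, hc, rfl⟩
    exact (Subgroup.mem_normalizer_iff.mp k.2 c).mp hc
  · rintro _ ⟨a, ha, rfl⟩
    have hhX : h * a * h⁻¹ ∈ X := ⟨a, ha, rfl⟩
    let v : N := ⟨h * a * h⁻¹, hXN hhX⟩
    have h1 : r * k * v * (r * k)⁻¹ ∈ (R' : Subgroup N) := by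
      rw [← hn, Sylow.coe_subgroup_smul]
      exact ⟨v, hT hhX, rfl⟩
    have h2 : k * v * k⁻¹ ∈ (R' : Subgroup N) := by
      have := mul_mem (mul_mem (inv_mem hr) h1) hr
      rwa [show r⁻¹ * (r * k * v * (r * k)⁻¹) * r = k * v * k⁻¹ by group] at this
    have h3 : (k : G) * (h * a * h⁻¹) * (k : G)⁻¹ ∈ R := h2
    show (k : G) * h * a * ((k : G) * h)⁻¹ ∈ R
    rwa [show (k : G) * h * a * ((k : G) * h)⁻¹ = (k : G) * (h * a * h⁻¹) * (k : G)⁻¹ by group]
  · exact ⟨k⁻¹, inv_mem hk, by simp⟩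

end Cfsg.Agent.S2014
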