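import Cfsg.Statements.S2015
import Cfsg.Agent.ConjFunctor.TransferControl

set_option autoImplicit false
universe u
open Cfsg

namespace Cfsg.Agent.S2015

/-- For p ≥ 5, every finite p-group P has a characteristic subgroup K containing Z(P), depending only on P, whose normalizer controls transfer wherever P is a Sylow subgroup: for every finite group G and every embedding ι of P onto a Sylow p-subgroup of G, the intersection of ι(P) with the derived subgroup of G equals its intersection with the derived subgroup of N_G(ι(K)). -/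
theorem result (p : ℕ) [Fact p.Prime] (hp : 5 ≤ p) (P : Type u) [Group P] [Finite P] (hP : IsPGroup p P) : ∃ K : Subgroup P, K.Characteristic ∧ Subgroup.center P ≤ K ∧ ∀ (G : Type u) [Group G] [Finite G] (ι : P →* G), Function.Injective ι → (∃ T : Sylow p G, (T : Subgroup G) = ι.range) → ι.range ⊓ commutator G = ι.range ⊓ (commutator ↥(Subgroup.normalizer ((K.map ι : Subgroup G) : Set G))).map (Subgroup.normalizer ((K.map ι : Subgroup G) : Set G)).subtype := by
  have hW := (ConjFunctor.KInf.isCharPFunctor.{u} p).1
  refine ⟨Cfsg.kInfLower P, Subgroup.characteristic_iff_map_eq.2 fun φ => hW.2 P P hP φ,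
    (ConjFunctor.KInf.center_le_kInf hP).1, ?_⟩
  intro G _ _ ι hι hT
  obtain ⟨T, hT⟩ := hT
  have htop : Cfsg.inducedFunctor Cfsg.kInfLower (⊤ : Subgroup P) = Cfsg.kInfLower P :=
    hW.2 ↥(⊤ : Subgroup P) P (hP.to_subgroup ⊤) Subgroup.topEquiv
  have hK : (Cfsg.kInfLower P).map ι = Cfsg.inducedFunctor Cfsg.kInfLower ι.range := by
    rw [MonoidHom.range_eq_map ι,
      ConjFunctor.inducedFunctor_map hW ι ⊤ (hP.to_subgroup ⊤) hι.injOn, htop]
  rw [Subgroup.map_subtype_commutator, hK, ← hT]
  exact ConjFunctor.inf_commutator_eq_of_controls hW (ConjFunctor.kInf_controlsTransfer hp G) T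

end Cfsg.Agent.S2015
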