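import Cfsg.Statements.S2029
import Cfsg.Agent.Class49.KlingerMasonTwo


set_option autoImplicit false
open Cfsg

namespace Cfsg.Agent.S2029

/-- Let p be an odd prime and G a finite group that is both of local characteristic p (p divides its order and every p-local subgroup N satisfies C_N(O_p(N)) ≤ O_p(N)) and of characteristic 2 type (even order and every 2-local subgroup M satisfies C_M(O_2(M)) ≤ O_2(M)). Then every 2-local subgroup of G has p-rank at most 2. -/
theorem result {G : Type*} [Group G] [Finite G] (p : ℕ) [Fact p.Prime] (hp : p ≠ 2) (hGp : Cfsg.IsOfLocalCharacteristic p G) (hG2 : Cfsg.IsCharacteristicTwoType G) : Cfsg.TwoLocalPRankLE p 2 G := by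
  haveI : Fact (Nat.Prime 2) := ⟨Nat.prime_two⟩
  by_contra hcon
  simp only [Cfsg.TwoLocalPRankLE, Cfsg.PRankLE] at hcon
  push Not at hcon
  obtain ⟨H, ⟨T, hT, hT1, rfl⟩, A₀, hA₀c, hA₀p, hA₀⟩ := hcon
  haveI := hA₀c
  -- the family of elementary groups normalizing a nontrivial two-group
  let P : Subgroup G → Prop := fun A => Cfsg.IsElementaryAbelian p A ∧
    ∃ R : Subgroup G, IsPGroup 2 R ∧ R ≠ ⊥ ∧ A ≤ Subgroup.normalizer (R : Set G)
  have hmapc : Nat.card (A₀.map (Subgroup.normalizer (T : Set G)).subtype) = Nat.card A₀ :=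
    Subgroup.card_map_of_injective (Subgroup.subtype_injective _)
  have hP₀ : P (A₀.map (Subgroup.normalizer (T : Set G)).subtype) := by
    refine ⟨⟨⟨⟨?_⟩⟩, ?_⟩, T, hT, hT1, Subgroup.map_subtype_le _⟩
    · rintro ⟨_, a, ha, rfl⟩ ⟨_, b, hb, rfl⟩
      exact Subtype.ext (congrArg (fun y : A₀ => ((y : ↥(Subgroup.normalizer (T : Set G))) : G))
        (mul_comm' (⟨a, ha⟩ : A₀) ⟨b, hb⟩))
    · rintro _ ⟨a, ha, rfl⟩
      rw [← map_pow, hA₀p a ha, map_one]
  obtain ⟨A, ⟨hA, R, hR, hR1, hAR⟩, hmax⟩ :=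
    Set.exists_max_image {A : Subgroup G | P A} (fun A => Nat.card A) (Set.toFinite _) ⟨_, hP₀⟩
  obtain ⟨m, hm⟩ := IsPGroup.iff_card.mp (Class49.KM.isPGroup_of_elem hA)
  have hy : Class49.KM.Hyp p m G := by
    refine ⟨hp, ?_, fun B hB hB1 => ?_, fun z hz => ?_, fun B S hB hS hS1 hBS => ?_⟩
    · have h := hmax _ hP₀
      rw [hmapc, hm] at h
      have h2 : p ^ 2 < p ^ m := lt_of_lt_of_le hA₀ h
      exact (Nat.pow_lt_pow_iff_right (Fact.out : p.Prime).one_lt).mp h2
    · exact LocalEven64.CharPOf.of_normal (hGp.2 B hB hB1)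
        (Subgroup.centralizer_le_normalizer _)
        (LocalEven64.le_normalizer_centralizer le_rfl)
    · have h1 : IsPGroup 2 (Subgroup.zpowers z) :=
        IsPGroup.of_card (n := 1) (by rw [Nat.card_zpowers, hz, pow_one])
      have h2 := hG2.2 _ h1 (fun h => by
        rw [Subgroup.zpowers_eq_bot] at h
        simp [h] at hz)
      rw [Class49.normalizer_zpowers_of_orderOf_two hz] at h2
      exact h2
    · exact hm ▸ hmax B ⟨hB, S, hS, hS1, hBS⟩
  obtain ⟨B, R', hB, hBc, hR', hR'c, hR'B⟩ :=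
    Class49.KM.exists_four hy hA hm.ge hR hR1 hAR
  exact Class49.KM.not_exists_four hy hB hBc hR' hR'c hR'B

end Cfsg.Agent.S2029
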