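import Cfsg.Statements.S2077
import Cfsg.Agent.SporB.Ru.Out.Rigid
import Cfsg.Agent.RuLattice.Iso

set_option autoImplicit false
open Cfsg

namespace Cfsg.Agent.S2077

/-- isomorphic groups have equally many outer classes -/
theorem card_out_iso {G : Type*} {H : Type*} [Group G] [Group H] (e : G ≃* H) :
    Nat.card (Cfsg.Out G) = Nat.card (Cfsg.Out H) := by
  refine Nat.card_congr (QuotientGroup.congr _ _ (MulAut.congr e) ?_).toEquiv
  ext β
  constructor
  · rintro ⟨_, ⟨g, rfl⟩, rfl⟩
    exact ⟨e g, by ext x; simp⟩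
  · rintro ⟨h, rfl⟩
    exact ⟨MulAut.conj (e.symm h), ⟨e.symm h, rfl⟩, by ext x; simp⟩

/-- The outer automorphism group of the Rudvalis group (the unitary automorphism group of the rank-28 Gaussian lattice modulo its centre) is trivial: every automorphism is inner. -/
theorem result : Nat.card (Cfsg.Out Cfsg.Spor.Ru) = 1 := by
  obtain ⟨e⟩ := Cfsg.Agent.RuLattice.nonempty_ruEquiv
  exact (card_out_iso e).trans Cfsg.Agent.SporB.Ru.Out.card_out

end Cfsg.Agent.S2077
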