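import Cfsg.Statements.S2081
import Cfsg.Agent.Fi24Out58.Inst
import Cfsg.Agent.SporB.Fi24.Main

set_option autoImplicit false
open Cfsg

namespace Cfsg.Agent.S2081

/-- The outer automorphism group of the Fischer group Fi₂₄′ (the commutator subgroup of the presented group Fi₂₄) has order 2. -/
theorem result : Nat.card (Cfsg.Out Cfsg.Spor.Fi24') = 2 := by
  exact Fi24Out58.fi24_card_out Exist24.checked (CosetEnum.Fi24.toModel Exist24.checked)

end Cfsg.Agent.S2081
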