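import Cfsg.Statements.S2087
import Cfsg.Agent.CharB.PSLMult.Cover
import Cfsg.Agent.Classification.SmallPSLUnique
import Cfsg.Agent.KnownSimple.Multiplier.SL2
-- import your own Cfsg.Agent.* helpers here

set_option autoImplicit false
open Cfsg

namespace Cfsg.Agent.S2087

/-- Exceptional Schur multiplier: over the field with 2 elements, PSL₃ has Schur multiplier cyclic of order 2 (here the Schur multiplier is described through stem extensions, as in the definitions). -/
theorem result {F : Type*} [Field F] [Fintype F] (hF : Fintype.card F = 2) : Cfsg.HasCyclicSchurMultiplier (Matrix.ProjectiveSpecialLinearGroup (Fin 3) F) 2 := by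
  haveI : Fact (Nat.Prime 7) := ⟨by norm_num⟩
  have hF' : Nat.card F = 2 := by rw [Nat.card_eq_fintype_card, hF]
  have h7 : Nat.card (ZMod 7) = 7 := Nat.card_zmod 7
  haveI : IsSimpleGroup (Matrix.ProjectiveSpecialLinearGroup (Fin 3) F) :=
    Cfsg.Agent.LinearGroup.isSimpleGroup_PSL_of_three_le (by simp)
  haveI : IsSimpleGroup (Matrix.ProjectiveSpecialLinearGroup (Fin 2) (ZMod 7)) :=
    Cfsg.Agent.Classification.isSimpleGroup_psl_two (ZMod 7) (by rw [ZMod.card]; norm_num)
  have h168 : Nat.card (Matrix.ProjectiveSpecialLinearGroup (Fin 3) F) = 168 := by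
    have h := Cfsg.Agent.LinearGroup.gcd_mul_card_PSL (F := F) (n := Fin 3)
    have h' := Cfsg.Agent.LinearGroup.card_SL_mul (F := F) (m := 3) (by omega)
    rw [hF', Fin.prod_univ_three] at h'
    rw [hF', Fintype.card_fin] at h
    norm_num at h h'
    omega
  have h168' : Nat.card (Matrix.ProjectiveSpecialLinearGroup (Fin 2) (ZMod 7)) = 168 := by
    have h := Cfsg.Agent.LinearGroup.gcd_mul_card_PSL_two (F := ZMod 7)
    rw [h7, show Nat.gcd 2 (7 - 1) = 2 by decide, show 7 * (7 ^ 2 - 1) = 336 by norm_num] at h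
    omega
  obtain ⟨e⟩ := Cfsg.Agent.Classification.equiv_168 h168' h168
  refine Cfsg.Agent.Schur.hasSchurMultiplier_congr e ?_
  have := Cfsg.Agent.CharB.PSLMult.psl_of_sl (ι := Fin 2) (F := ZMod 7)
    (fun _ => ⟨2, by decide +revert, by decide +revert⟩)
    (Cfsg.Agent.KnownSimple.multiplier_SL2 (F := ZMod 7) (by rw [h7]; norm_num) (by rw [h7]; norm_num))
  rwa [h7, Fintype.card_fin, show Nat.gcd 2 (7 - 1) = 2 by norm_num] at this

end Cfsg.Agent.S2087
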