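import Cfsg.Statements.S2099
import Cfsg.Agent.ClassMult.MinusMult
import Cfsg.Agent.SuMult50.Four

set_option autoImplicit false
open Cfsg

namespace Cfsg.Agent.S2099

/-- Schur multipliers of the even-dimensional orthogonal groups of minus type: for l ≥ 4 and a field F with q elements, the Schur multiplier of PΩ⁻_2l(F) (for the form Σ_{i<l−1} xᵢyᵢ + z₁² + a z₁z₂ + b z₂² with the binary part anisotropic) is cyclic of order gcd(4, q^l + 1); here the Schur multiplier is described through stem extensions, as in the definitions. -/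
theorem result {F : Type*} [Field F] [Fintype F] {q : ℕ} (hF : Fintype.card F = q) (l : ℕ) (hl : 4 ≤ l) (a b : F) (hab : ∀ z₁ z₂ : F, z₁ ^ 2 + a * z₁ * z₂ + b * z₂ ^ 2 = 0 → z₁ = 0 ∧ z₂ = 0) : Cfsg.HasCyclicSchurMultiplier (Cfsg.POmega F (Cfsg.quadFormMinus (l - 1) F a b)) (Nat.gcd 4 (q ^ l + 1)) := by
  obtain ⟨k, rfl⟩ : ∃ k, l = k + 3 := ⟨l - 3, by omega⟩
  subst hF
  obtain ⟨p, hp⟩ := CharP.exists F
  have hpp : p.Prime := CharP.char_is_prime F p
  haveI : Fact (∀ r : F, r ^ 2 ≠ -b + a * r) :=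
    ⟨fun r h => by simpa using (hab r (-1) (by linear_combination h)).2⟩
  haveI : Fintype (QuadraticAlgebra F (-b) a) :=
    Fintype.ofEquiv _ (QuadraticAlgebra.equivProd (-b) a).symm
  haveI : CharP (QuadraticAlgebra F (-b) a) p :=
    charP_of_injective_algebraMap (algebraMap F (QuadraticAlgebra F (-b) a)).injective p
  have hcard : Fintype.card (QuadraticAlgebra F (-b) a) = Fintype.card F ^ 2 := by
    rw [Fintype.card_congr (QuadraticAlgebra.equivProd (-b) a), Fintype.card_prod, pow_two]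
  show Cfsg.HasCyclicSchurMultiplier (Cfsg.POmega F (Cfsg.quadFormMinus (k + 2) F a b)) _
  exact Cfsg.Agent.ClassMult.hasSchurMultiplier_minus hab (by omega) hpp
    (Cfsg.Agent.SuMult50.ptriv_SU_four hcard)

end Cfsg.Agent.S2099
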