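import Cfsg.Statements.S2104
import Cfsg.Agent.Mult93.F42.Certified
import Cfsg.Agent.F4Mult34.Bound
import Cfsg.Agent.Lib.Schur.Basic
-- import your own Cfsg.Agent.* helpers here

set_option autoImplicit false
open Cfsg

namespace Cfsg.Agent.S2104

/-- Exceptional Schur multiplier: over the field with 2 elements the Chevalley group of type F₄ has Schur multiplier cyclic of order 2 (here the Schur multiplier is described through stem extensions, as in the definitions). -/
theorem result {F : Type*} [Field F] [Fintype F] (hF : Fintype.card F = 2) : Cfsg.HasCyclicSchurMultiplier ↥(Cfsg.Lie.chevF4.group F) 2 := by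
  obtain ⟨Γ₁, _, _, σ₁, h₁, ⟨e⟩⟩ := Cfsg.Agent.Mult93.F42.exists_cover hF
  refine Cfsg.Agent.Schur.hasSchurMultiplier_of_card_le σ₁ h₁ e fun Γ _ _ σ hσ => ?_
  rw [Nat.card_congr Multiplicative.toAdd, Nat.card_zmod]
  exact (Cfsg.Agent.F4Mult34.card_ker_le_two hF σ hσ).2

end Cfsg.Agent.S2104
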