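import Cfsg.Statements.S2108
import Cfsg.Agent.KnownSimple.Multiplier.E6T.Main
import Cfsg.Agent.KnownSimple.Multiplier.E6T.Cover

set_option autoImplicit false
open Cfsg

namespace Cfsg.Agent.S2108

/-- Schur multipliers of the twisted groups of type ²E₆: for a prime power q ≠ 2, with the group realised over the field with q² elements, the Schur multiplier of ²E₆(q) is cyclic of order gcd(3, q + 1) (here the Schur multiplier is described through stem extensions, as in the definitions); q = 2 is exceptional. -/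
theorem result {K : Type*} [Field K] [Fintype K] {q : ℕ} (hq : IsPrimePow q) (hK : Fintype.card K = q ^ 2) (h2 : q ≠ 2) : Cfsg.HasCyclicSchurMultiplier ↥(Cfsg.Lie.twistedE6 K q) (Nat.gcd 3 (q + 1)) := by
  classical
  have h3 : 3 ≤ q := by have := hq.two_le; omega
  let K₀ := Cfsg.Agent.ChevGroup.relsOfCommGood Cfsg.Agent.ChevCore.commGoodE6 K
  have Z := Cfsg.Agent.Twisted.TypeE6.frame₀ (F := K) hq hK
  let e := Cfsg.Agent.Twisted.genEquiv Cfsg.Agent.Twisted.TypeE6.MT K₀ (Cfsg.Lie.e6Words K q)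
  have hbound : ∀ (Γ : Type _) [Group Γ] [Finite Γ] (σ : Γ →* ↥(Cfsg.Lie.twistedE6 K q)),
      Cfsg.IsStemExtension σ → Nat.card σ.ker ≤ Nat.gcd 3 (q + 1) := fun Γ _ _ σ hσ => by
    obtain ⟨hτ, hk⟩ := Cfsg.Agent.Schur.isStemExtension_comp_mulEquiv hσ e.symm
    rw [← hk]
    exact Cfsg.Agent.Twisted.TypeE6.card_ker_le Z hq hK h3 _ hτ
  by_cases hd : 3 ∣ q + 1
  · rw [Nat.gcd_eq_left hd] at hbound ⊢
    obtain ⟨σ, hσ, ⟨i⟩⟩ := Cfsg.Agent.Twisted.TypeE6.exists_cover hq hK hd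
      (Cfsg.Agent.Twisted.TypeE6.perfect Z hq hK)
    refine Cfsg.Agent.Schur.hasSchurMultiplier_of_card_le σ hσ i fun Γ _ _ τ hτ => ?_
    rw [Nat.card_congr Multiplicative.toAdd, Nat.card_zmod]
    exact hbound Γ τ hτ
  · have hg : Nat.gcd 3 (q + 1) = 1 := (Nat.Prime.coprime_iff_not_dvd (by norm_num)).2 hd
    rw [hg] at hbound ⊢
    exact Cfsg.Agent.Schur.hasCyclicSchurMultiplier_one_of_forall fun Γ _ _ σ hσ => by
      haveI : Finite σ.ker := inferInstance
      exact Subgroup.eq_bot_of_card_le _ (hbound Γ σ hσ)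

end Cfsg.Agent.S2108
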