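import Cfsg.Statements.S2110
import Cfsg.Agent.KnownSimple.Multiplier.D4.TwoLocal

set_option autoImplicit false
open Cfsg

namespace Cfsg.Agent.S2110

/-- Schur multipliers of the triality-twisted groups ³D₄: for every prime power q, with the group realised over the field with q³ elements, the Schur multiplier of ³D₄(q) is trivial (here the Schur multiplier is described through stem extensions, as in the definitions). -/
theorem result {K : Type*} [Field K] [Fintype K] {q : ℕ} (hq : IsPrimePow q) (hK : Fintype.card K = q ^ 3) : Cfsg.HasCyclicSchurMultiplier ↥(Cfsg.Lie.twistedD4 K q) 1 := by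
  classical
  refine Cfsg.Agent.Schur.hasCyclicSchurMultiplier_one_of_forall fun Γ _ _ σ hσ => ?_
  let K₀ := Cfsg.Agent.ChevGroup.relsOfCommGood Cfsg.Agent.ChevCore.commGoodD4 K
  have Z := Cfsg.Agent.Twisted.TypeD4.frame₀ (F := K) hq hK
  let W := Cfsg.Lie.d4Words K q
  let e := Cfsg.Agent.Twisted.genEquiv Cfsg.Agent.Twisted.TypeD4.MT K₀ W
  let τ := e.symm.toMonoidHom.comp σ
  have hker : τ.ker = σ.ker := by
    ext x
    exact (MulEquiv.map_eq_one_iff e.symm)
  have hτ : Cfsg.IsStemExtension τ :=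
    ⟨e.symm.surjective.comp hσ.1, hker ▸ hσ.2.1, hker ▸ hσ.2.2⟩
  obtain ⟨p, j, hp, -, hj, hj0⟩ := Cfsg.Agent.Twisted.exists_char_pow hq hK
  rw [← hker]
  refine Cfsg.Agent.Twisted.TypeD4.ker_eq_bot Z hq hK hp hj τ hτ ?_
  rcases (show q = 2 ∨ 3 ≤ q by have := hq.two_le; omega) with h2 | h3
  · exact Cfsg.Agent.Twisted.TypeD4.local_two Z hq hK h2 τ hτ.1 hτ.2.1
  · exact Cfsg.Agent.Twisted.TypeD4.local_char Z hq hK h3 τ hτ.1 hτ.2.1

end Cfsg.Agent.S2110
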