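import Cfsg.Statements.S2114
import Cfsg.Agent.KnownSimple.Multiplier.F4.Main

set_option autoImplicit false
open Cfsg

namespace Cfsg.Agent.S2114

/-- Schur multipliers of the large Ree groups: for q = 2^(2m+1) with m ≥ 1 the Schur multiplier of ²F₄(q) is trivial (here the Schur multiplier is described through stem extensions, as in the definitions). -/
theorem result {K : Type*} [Field K] [Fintype K] {m : ℕ} (hm : 1 ≤ m) (hK : Fintype.card K = 2 ^ (2 * m + 1)) : Cfsg.HasCyclicSchurMultiplier ↥(Cfsg.Lie.twistedF4 K (2 ^ m)) 1 := by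
  classical
  refine Cfsg.Agent.Schur.hasCyclicSchurMultiplier_one_of_forall fun Γ _ _ σ hσ => ?_
  let K₀ := Cfsg.Agent.ChevGroup.relsOfCommGood Cfsg.Agent.ChevCore.commGoodF4 K
  have Z := Cfsg.Agent.Twisted.TypeF4.frame₀ (F := K) hK
  let W := Cfsg.Lie.f4Words K (2 ^ m)
  let e := Cfsg.Agent.Twisted.genEquiv Cfsg.Agent.Twisted.TypeF4.MT K₀ W
  let τ := e.symm.toMonoidHom.comp σ
  have hker : τ.ker = σ.ker := by
    ext x
    exact (MulEquiv.map_eq_one_iff e.symm)
  have hτ : Cfsg.IsStemExtension τ :=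
    ⟨e.symm.surjective.comp hσ.1, hker ▸ hσ.2.1, hker ▸ hσ.2.2⟩
  rw [← hker]
  exact Cfsg.Agent.Twisted.TypeF4.ker_eq_bot Z hK hm τ hτ

end Cfsg.Agent.S2114
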