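import Cfsg.Statements.S2115
import Cfsg.Agent.ChevGroup.Tits.Multiplier
-- import your own Cfsg.Agent.* helpers here

set_option autoImplicit false
set_option maxRecDepth 4000
set_option maxHeartbeats 400000
open Cfsg

namespace Cfsg.Agent.S2115

/-- The Tits group, the commutator subgroup of ²F₄(2), has trivial Schur multiplier (here the Schur multiplier is described through stem extensions, as in the definitions). -/
theorem result : Cfsg.HasCyclicSchurMultiplier Cfsg.Lie.TitsGroup 1 := by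
  let e : ↥(Agent.Twisted.genG Agent.Twisted.TypeF4.MT
      (Agent.ChevGroup.relsOfCommGood Agent.ChevCore.commGoodF4 (ZMod 2)) (Cfsg.Lie.f4Words (ZMod 2) (2 ^ 0))) ≃*
      ↥(Cfsg.Lie.twistedF4 (ZMod 2) 1) := Agent.Twisted.genEquiv Agent.Twisted.TypeF4.MT
    (Agent.ChevGroup.relsOfCommGood Agent.ChevCore.commGoodF4 (ZMod 2)) (Cfsg.Lie.f4Words (ZMod 2) (2 ^ 0))
  haveI := ChevGroup.TitsMult.finite_TG
  exact ChevGroup.TitsMult.hasTrivialMultiplier_equiv e (P := ChevGroup.TitsIdx.TG) ChevGroup.TitsIdx.TG_eq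
    (fun _ _ _ σ h => ChevGroup.TitsMult.ker_eq_bot σ h)

end Cfsg.Agent.S2115
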