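import Cfsg.Statements.S2140
import Cfsg.Agent.KnownSimple.PSLMinIndex.MinIndex
import Mathlib.LinearAlgebra.Projectivization.PSL.PSL2

set_option autoImplicit false
open Cfsg

namespace Cfsg.Agent.S2140

/-- Minimal index of a proper subgroup of the linear groups: for n ≥ 3 and a field F with q elements, (n, q) ≠ (4, 2), every proper subgroup of PSL_n(F) has index at least (q^n − 1)/(q − 1), and some subgroup has exactly that index (the stabiliser of a point of the projective space). -/
theorem result {F : Type*} [Field F] [Fintype F] {q : ℕ} (hF : Fintype.card F = q) (n : ℕ) (hn : 3 ≤ n) (hexc : ¬ (n = 4 ∧ q = 2)) : (∀ H : Subgroup (Matrix.ProjectiveSpecialLinearGroup (Fin n) F), H ≠ ⊤ → (q ^ n - 1) / (q - 1) ≤ H.index) ∧ (∃ H : Subgroup (Matrix.ProjectiveSpecialLinearGroup (Fin n) F), H.index = (q ^ n - 1) / (q - 1)) := by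
  classical
  have hqF : Nat.card F = q := by rw [Nat.card_eq_fintype_card, hF]
  have hq : 2 ≤ q := hqF ▸ Finite.one_lt_card
  refine ⟨fun H hH => ?_, ?_⟩
  · let π := QuotientGroup.mk' (Subgroup.center (Matrix.SpecialLinearGroup (Fin n) F))
    have hπ : Function.Surjective π := QuotientGroup.mk'_surjective _
    have hne : H.comap π ≠ ⊤ := by
      intro h
      apply hH
      rw [← Subgroup.map_comap_eq_self_of_surjective hπ H, h]
      exact Subgroup.map_top_of_surjective π hπ
    have hb := Cfsg.Agent.KnownSimple.pow_sub_one_le_mul_index hn (by rwa [hqF]) hne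
    rw [hqF, Subgroup.index_comap_of_surjective H hπ] at hb
    exact Nat.div_le_of_le_mul hb
  · obtain ⟨m, rfl⟩ : ∃ m, n = m + 2 := ⟨n - 2, by omega⟩
    let P : Projectivization F (Fin (m + 2) → F) :=
      Projectivization.mk F (Pi.single 0 1) (by simp)
    refine ⟨MulAction.stabilizer (Matrix.ProjectiveSpecialLinearGroup (Fin (m + 2)) F) P, ?_⟩
    rw [MulAction.index_stabilizer_of_transitive, Projectivization.card'',
      Module.natCard_eq_pow_finrank (K := F), Module.finrank_fin_fun, hqF]

end Cfsg.Agent.S2140
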