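import Cfsg.Statements.S2141
import Cfsg.Agent.InvChar68.MinIndexSp.Global

set_option autoImplicit false
open Cfsg

namespace Cfsg.Agent.S2141

open Cfsg.Agent.InvChar68.MinIndexSp Cfsg.Agent.Symplectic in
/-- Minimal index of a proper subgroup of the symplectic groups over fields with at least 3 elements: for m ≥ 2 and a field F with q ≥ 3 elements, (m, q) ≠ (2, 3), every proper subgroup of PSp_2m(F) has index at least (q^(2m) − 1)/(q − 1), and that index is attained. -/
theorem result {F : Type*} [Field F] [Fintype F] {q : ℕ} (hF : Fintype.card F = q) (m : ℕ) (hm : 2 ≤ m) (hq : 3 ≤ q) (hexc : ¬ (m = 2 ∧ q = 3)) : (∀ H : Subgroup (Cfsg.PSp m F), H ≠ ⊤ → (q ^ (2 * m) - 1) / (q - 1) ≤ H.index) ∧ (∃ H : Subgroup (Cfsg.PSp m F), H.index = (q ^ (2 * m) - 1) / (q - 1)) := by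
  subst hF
  set π := QuotientGroup.mk' (Subgroup.center (Sp m F))
  have hsurj : Function.Surjective π := QuotientGroup.mk'_surjective _
  have hN := card_points (m := m) (F := F)
  have hdiv : (Fintype.card F ^ (2 * m) - 1) / (Fintype.card F - 1) = Nat.card (Pt m F) := by
    rw [← hN, Nat.add_sub_cancel, Nat.mul_div_cancel_left _ (by omega)]
  rw [hdiv]
  refine ⟨fun H hH => ?_, ?_⟩
  · by_contra hlt
    rw [not_le] at hlt
    have hk : InvChar68.MinIndexSp.Small (H.comap π) := by
      rw [InvChar68.MinIndexSp.Small, ← hN, Subgroup.index_comap_of_surjective H hsurj]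
      exact Nat.add_lt_add_right ((Nat.mul_lt_mul_left (by omega)).2 hlt) 1
    have h := eq_top_of_small hm hq hexc hk
    exact hH (by
      rw [← Subgroup.map_comap_eq_self_of_surjective hsurj H, h,
        Subgroup.map_top_of_surjective π hsurj])
  · have hne : (eI ⟨0, by omega⟩ : Vec m F) ≠ 0 := eI_ne_zero _
    set P : Pt m F := Projectivization.mk F _ hne
    have hker : π.ker ≤ MulAction.stabilizer (Sp m F) P := by
      rw [QuotientGroup.ker_mk']
      intro g hg
      rw [MulAction.mem_stabilizer_iff, Projectivization.smul_mk]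
      obtain ⟨a, ha⟩ := fix_lines_of_mem_center hg (eI ⟨0, by omega⟩)
      exact (Projectivization.mk_eq_mk_iff' F _ _ _ _).2 ⟨a, ha.symm⟩
    refine ⟨(MulAction.stabilizer (Sp m F) P).map π, ?_⟩
    rw [Subgroup.index_map_eq _ hsurj hker, MulAction.index_stabilizer_of_transitive]

end Cfsg.Agent.S2141
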