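import Cfsg.Statements.S2142
import Cfsg.Agent.MinIdxClassical.SpTwo

set_option autoImplicit false
open Cfsg

namespace Cfsg.Agent.S2142

/-- Minimal index of a proper subgroup of the symplectic groups over the field with 2 elements: for m ≥ 3, every proper subgroup of Sp_2m(2) has index at least 2^(m−1)(2^m − 1), and that index is attained. -/
theorem result {F : Type*} [Field F] [Fintype F] (hF : Fintype.card F = 2) (m : ℕ) (hm : 3 ≤ m) : (∀ H : Subgroup (Cfsg.PSp m F), H ≠ ⊤ → 2 ^ (m - 1) * (2 ^ m - 1) ≤ H.index) ∧ (∃ H : Subgroup (Cfsg.PSp m F), H.index = 2 ^ (m - 1) * (2 ^ m - 1)) := by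
  classical
  set π := QuotientGroup.mk' (Subgroup.center (Symplectic.Sp m F))
  have hπ : Function.Surjective π := QuotientGroup.mk'_surjective _
  refine ⟨fun H hH => ?_, ?_⟩
  · rw [← Subgroup.index_comap_of_surjective H hπ]
    refine MinIdxClassical.sp_two_bound hF hm _ fun h => hH ?_
    rw [← Subgroup.map_comap_eq_self_of_surjective hπ H, h, Subgroup.map_top_of_surjective _ hπ]
  · haveI := MinIdxClassical.charP_two_of_card hF
    obtain ⟨a0, ha0⟩ : ∃ a0, UnitaryOrthogonal.qPlus m F a0 = 1 :=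
      ⟨Pi.single (Sum.inl ⟨0, by omega⟩) 1 + Pi.single (Sum.inr ⟨0, by omega⟩) 1, by
        simp [UnitaryOrthogonal.qPlus_apply, Cfsg.quadFormPlus, Pi.single_apply]⟩
    refine ⟨(MinIdxClassical.formStab a0).map π, ?_⟩
    have hc : Subgroup.center (Symplectic.Sp m F) = ⊥ :=
      Subgroup.eq_bot_of_card_eq _ ((Symplectic.card_center hF (by omega : 1 ≤ m)).trans (by rfl))
    rw [Subgroup.index_map_eq _ hπ (by simp [π, hc]), MinIdxClassical.index_formStab hF, ha0]
    have h1 := (MinIdxClassical.level_values (m := m) hF).1 1 one_ne_zero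
    obtain ⟨A, hA⟩ : ∃ A, 2 ^ m = A + 1 := ⟨2 ^ m - 1, by have := Nat.two_pow_pos m; omega⟩
    have e : 2 * (2 ^ (m - 1) * (2 ^ m - 1)) + 2 ^ m = 2 ^ (2 * m) := by
      rw [← mul_assoc, ← pow_succ', show m - 1 + 1 = m by omega, two_mul, pow_add, hA,
        Nat.add_sub_cancel]
      ring
    omega

end Cfsg.Agent.S2142
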