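import Cfsg.Statements.S2143
import Cfsg.Agent.MinIdxClassical.Counts

set_option autoImplicit false
open Cfsg

namespace Cfsg.Agent.S2143

/-- Minimal index of a proper subgroup of the odd-dimensional orthogonal groups: for m ≥ 3 and a field F with q elements, q odd and q ≥ 5, every proper subgroup of PΩ_(2m+1)(F) (for the form x₀² + Σ xᵢyᵢ) has index at least (q^(2m) − 1)/(q − 1), and that index is attained. -/
theorem result {F : Type*} [Field F] [Fintype F] {q : ℕ} (hF : Fintype.card F = q) (hodd : Odd q) (h5 : 5 ≤ q) (m : ℕ) (hm : 3 ≤ m) : (∀ H : Subgroup (Cfsg.POmega F (Cfsg.quadFormOdd m F)), H ≠ ⊤ → (q ^ (2 * m) - 1) / (q - 1) ≤ H.index) ∧ (∃ H : Subgroup (Cfsg.POmega F (Cfsg.quadFormOdd m F)), H.index = (q ^ (2 * m) - 1) / (q - 1)) := by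
  classical
  have h2 : (2 : F) ≠ 0 := UnitaryOrthogonal.two_ne_zero_of_card_odd (by rwa [hF])
  have hq : Nat.card F = q := by rw [Nat.card_eq_fintype_card, hF]
  have hq1 : 1 < q := by omega
  rw [show Cfsg.quadFormOdd m F = ⇑(UnitaryOrthogonal.qOdd m F) from
    funext fun v => (UnitaryOrthogonal.qOdd_apply m v).symm]
  set Q := UnitaryOrthogonal.qOdd m F
  have hnd : UnitaryOrthogonal.PolarND Q :=
    ((UnitaryOrthogonal.polarND_sqForm h2).hypSum m).congr (UnitaryOrthogonal.qOddIso m F).symm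
  have hdim : Module.finrank F (Unit ⊕ (Fin m ⊕ Fin m) → F) = 2 * m + 1 := by simp; omega
  have h5' : 5 ≤ Module.finrank F (Unit ⊕ (Fin m ⊕ Fin m) → F) := by omega
  have hqm : q ≤ q ^ m := Nat.le_self_pow (by omega) q
  have hsq : q ^ (2 * m) = q ^ m * q ^ m := by rw [two_mul, pow_add]
  set X := q ^ (2 * m) - 1 with hX
  have h0 : ∀ c : F, c = 0 → Nat.card {w // w ≠ 0 ∧ Q w = c} = X := by
    rintro c rfl
    have h1 := (MinIdxClassical.card_value Q (0 : F)).1 rfl
    have h3 := MinIdxClassical.level_odd_zero (F := F) m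
    rw [hq] at h3
    have h4 : Nat.card {w // w ≠ 0 ∧ Q w = 0} + 1 = q ^ (2 * m) := h1.trans h3
    omega
  have hne : ∀ c : F, c ≠ 0 → q ^ (2 * m) ≤ Nat.card {w // w ≠ 0 ∧ Q w = c} + q ^ m :=
    fun c hc => by
      have h := MinIdxClassical.level_odd_ne (F := F) m c
      rw [hq] at h
      rw [(MinIdxClassical.card_value Q c).2 hc]
      exact le_trans (Nat.le_add_right _ _) h.ge
  have hno : MinIdxClassical.NoPlane Q := by
    rcases Nat.lt_or_ge m 4 with h | h
    · exact MinIdxClassical.noPlane_of_dim_le_seven hnd (by omega)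
    · exact MinIdxClassical.noPlane_of_dim (by omega)
  refine ⟨fun H hH => MinIdxClassical.index_ge_transfer hnd h5' (fun H hH => ?_) H hH, ?_⟩
  · refine MinIdxClassical.minIndex hnd (by omega) hno ?_ (fun c => ?_) hH
    · rw [hq, hdim, show 2 * m + 1 - 3 = 2 * m - 2 by omega]
      refine Nat.div_le_of_le_mul ((Nat.sub_le _ _).trans ?_)
      have := MinIdxClassical.pow_le_bound q (2 * m - 2) hq1
      rwa [show 2 * m - 2 + 2 = 2 * m by omega] at this
    · by_cases hc : c = 0
      · rw [h0 c hc, hc, MinIdxClassical.mult_zero, hq]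
        exact Nat.div_mul_le_self _ _
      · rw [MinIdxClassical.mult_odd h2 hc]
        have h := hne c hc
        have h4 : X / (q - 1) ≤ X / 4 := Nat.div_le_div_left (by omega) (by omega)
        have h6 : 2 * q ^ m ≤ q ^ (2 * m) := by
          rw [hsq]; exact Nat.mul_le_mul_right _ (by omega)
        omega
  · obtain ⟨v, hv, hvQ, hz⟩ :=
      MinIdxClassical.central_mem_lineStab hnd h5' (c := (0 : F)) (Or.inl rfl)
    obtain ⟨H, hH⟩ := MinIdxClassical.exists_index_transfer hnd h5'
      (MinIdxClassical.lineStab Q v) hz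
    refine ⟨H, ?_⟩
    rw [hH, MinIdxClassical.relIndex_lineStab hnd h5' hv, hvQ]
    refine MinIdxClassical.eq_div hq1 ?_
    rw [← h0 0 rfl, MinIdxClassical.card_vectors, MinIdxClassical.mult_zero, hq]

end Cfsg.Agent.S2143
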