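import Cfsg.Statements.S2144
import Cfsg.Agent.MinIdxClassical.Counts

set_option autoImplicit false
open Cfsg

namespace Cfsg.Agent.S2144

/-- Minimal index of a proper subgroup of the odd-dimensional orthogonal groups over the field with 3 elements: for m ≥ 3, every proper subgroup of PΩ_(2m+1)(3) (for the form x₀² + Σ xᵢyᵢ) has index at least 3^m(3^m − 1)/2, and that index is attained. -/
theorem result {F : Type*} [Field F] [Fintype F] (hF : Fintype.card F = 3) (m : ℕ) (hm : 3 ≤ m) : (∀ H : Subgroup (Cfsg.POmega F (Cfsg.quadFormOdd m F)), H ≠ ⊤ → 3 ^ m * (3 ^ m - 1) / 2 ≤ H.index) ∧ (∃ H : Subgroup (Cfsg.POmega F (Cfsg.quadFormOdd m F)), H.index = 3 ^ m * (3 ^ m - 1) / 2) := by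
  classical
  have h2 : (2 : F) ≠ 0 := UnitaryOrthogonal.two_ne_zero_of_card_odd (by rw [hF]; exact ⟨1, rfl⟩)
  have hq : Nat.card F = 3 := by rw [Nat.card_eq_fintype_card, hF]
  rw [show Cfsg.quadFormOdd m F = ⇑(UnitaryOrthogonal.qOdd m F) from
    funext fun v => (UnitaryOrthogonal.qOdd_apply m v).symm]
  set Q := UnitaryOrthogonal.qOdd m F
  have hnd : UnitaryOrthogonal.PolarND Q :=
    ((UnitaryOrthogonal.polarND_sqForm h2).hypSum m).congr (UnitaryOrthogonal.qOddIso m F).symm
  have hdim : Module.finrank F (Unit ⊕ (Fin m ⊕ Fin m) → F) = 2 * m + 1 := by simp; omega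
  have h5' : 5 ≤ Module.finrank F (Unit ⊕ (Fin m ⊕ Fin m) → F) := by omega
  set X := 3 ^ m * (3 ^ m - 1) with hX
  have hsq : X + 3 ^ m = 3 ^ (2 * m) := by
    have h1 : 0 < 3 ^ m := pow_pos (by norm_num) m
    rw [hX, two_mul, pow_add]
    obtain ⟨A, hA⟩ : ∃ A, 3 ^ m = A + 1 := ⟨3 ^ m - 1, by omega⟩
    rw [hA, Nat.add_sub_cancel]
    ring
  have hpos : 0 < 3 ^ m := pow_pos (by norm_num) m
  have hne : ∀ c : F, c ≠ 0 → X + 3 ^ m * UnitaryOrthogonal.level (UnitaryOrthogonal.sqForm F) c =
      Nat.card {w // w ≠ 0 ∧ Q w = c} := fun c hc => by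
    have h := MinIdxClassical.level_odd_ne (F := F) m c
    rw [hq, ← hsq, add_right_comm] at h
    rw [(MinIdxClassical.card_value Q c).2 hc]
    exact (Nat.add_right_cancel h).symm
  have hno : MinIdxClassical.NoPlane Q := by
    rcases Nat.lt_or_ge m 4 with h | h
    · exact MinIdxClassical.noPlane_of_dim_le_seven hnd (by omega)
    · exact MinIdxClassical.noPlane_of_dim (by omega)
  refine ⟨fun H hH => MinIdxClassical.index_ge_transfer hnd h5' (fun H hH => ?_) H hH, ?_⟩
  · refine MinIdxClassical.minIndex hnd (by omega) hno ?_ (fun c => ?_) hH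
    · rw [hq, hdim, show 2 * m + 1 - 3 = 2 * m - 2 by omega]
      have h9 : 3 ^ (2 * m) = 9 * 3 ^ (2 * m - 2) := by
        rw [show (9 : ℕ) = 3 ^ 2 by norm_num, ← pow_add]; congr 1; omega
      omega
    · by_cases hc : c = 0
      · subst hc
        rw [MinIdxClassical.mult_zero, hq]
        have h1 := (MinIdxClassical.card_value Q (0 : F)).1 rfl
        have h3 := MinIdxClassical.level_odd_zero (F := F) m
        rw [hq] at h3
        have h4 : Nat.card {w // w ≠ 0 ∧ Q w = 0} + 1 = 3 ^ (2 * m) := h1.trans h3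
        omega
      · rw [MinIdxClassical.mult_odd h2 hc, ← hne c hc]
        exact (Nat.div_mul_le_self _ _).trans (Nat.le_add_right _ _)
  · have hc : (-1 : F) ≠ 0 := neg_ne_zero.mpr one_ne_zero
    have hunit : ∀ t : F, t ≠ 0 → t * t = 1 := fun t ht => by
      have h := FiniteField.pow_card_sub_one_eq_one t ht
      rw [hF] at h
      rw [← sq]; exact h
    have hlev : UnitaryOrthogonal.level (UnitaryOrthogonal.sqForm F) (-1) = 0 := by
      rw [UnitaryOrthogonal.level, Nat.card_eq_zero]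
      refine Or.inl ⟨fun t => ?_⟩
      have ht := t.2
      rw [UnitaryOrthogonal.sqForm_apply] at ht
      have ht0 : t.1 ≠ 0 := fun h => by
        rw [h, mul_zero] at ht
        exact hc ht.symm
      exact h2 (by linear_combination ht - hunit t.1 ht0)
    obtain ⟨v, hv, hvQ, hz⟩ :=
      MinIdxClassical.central_mem_lineStab hnd h5' (c := (-1 : F)) (Or.inr hunit)
    obtain ⟨H, hH⟩ := MinIdxClassical.exists_index_transfer hnd h5'
      (MinIdxClassical.lineStab Q v) hz
    refine ⟨H, ?_⟩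
    have h := hne (-1) hc
    rw [hlev, mul_zero, add_zero, MinIdxClassical.card_vectors, MinIdxClassical.mult_odd h2 hc] at h
    rw [hH, MinIdxClassical.relIndex_lineStab hnd h5' hv, hvQ, h, Nat.mul_div_cancel _ two_pos]

end Cfsg.Agent.S2144
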