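import Cfsg.Statements.S2145
import Cfsg.Agent.MinIdxClassical.PlusMain

set_option autoImplicit false
open Cfsg

namespace Cfsg.Agent.S2145

/-- Minimal index of a proper subgroup of the even-dimensional orthogonal groups of plus type: for m ≥ 4 and a field F with q ≥ 4 elements, every proper subgroup of PΩ⁺_2m(F) (for the form Σ xᵢyᵢ) has index at least (q^m − 1)(q^(m−1) + 1)/(q − 1), and that index is attained (the singular points). -/
theorem result {F : Type*} [Field F] [Fintype F] {q : ℕ} (hF : Fintype.card F = q) (hq : 4 ≤ q) (m : ℕ) (hm : 4 ≤ m) : (∀ H : Subgroup (Cfsg.POmega F (Cfsg.quadFormPlus m F)), H ≠ ⊤ → (q ^ m - 1) * (q ^ (m - 1) + 1) / (q - 1) ≤ H.index) ∧ (∃ H : Subgroup (Cfsg.POmega F (Cfsg.quadFormPlus m F)), H.index = (q ^ m - 1) * (q ^ (m - 1) + 1) / (q - 1)) := by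
  classical
  obtain ⟨k, rfl⟩ : ∃ k, m = k + 1 := ⟨m - 1, by omega⟩
  rw [Nat.add_sub_cancel]
  have hq' : Nat.card F = q := by rw [Nat.card_eq_fintype_card, hF]
  obtain ⟨h0, hne⟩ := MinIdxClassical.plus_counts hq' k
  set X := (q ^ (k + 1) - 1) * (q ^ k + 1) with hX
  have hqk : 0 < q ^ k := pow_pos (by omega) k
  have hXle : X + 1 ≤ q ^ (2 * k + 1) + q ^ (k + 1) := by
    obtain ⟨A, hA⟩ : ∃ A, q ^ (k + 1) = A + 1 :=
      ⟨q ^ (k + 1) - 1, by have := pow_pos (by omega : 0 < q) (k + 1); omega⟩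
    rw [hX, show 2 * k + 1 = k + 1 + k by ring, pow_add q (k + 1) k, hA, Nat.add_sub_cancel]
    nlinarith
  have hpow : q ^ (k + 1) ≤ q ^ (2 * k - 1) := Nat.pow_le_pow_right (by omega) (by omega)
  have hp2 : q ^ (2 * k + 1) = q * q * q ^ (2 * k - 1) := by
    rw [← pow_two, ← pow_add]; congr 1; omega
  refine ⟨MinIdxClassical.plus_min_index hm ?_ (fun c => ?_), ?_⟩
  · rw [hq', show 2 * (k + 1) - 3 = 2 * k - 1 by omega]
    refine Nat.div_le_of_le_mul ?_
    obtain ⟨r, rfl⟩ : ∃ r, q = r + 4 := ⟨q - 4, by omega⟩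
    rw [show r + 4 - 1 = r + 3 by omega]
    nlinarith
  · by_cases hc : c = 0
    · rw [hc, h0, MinIdxClassical.mult_zero, hq']
      exact Nat.div_mul_le_self _ _
    · have h := hne c hc
      have h3 : 3 * (X / (q - 1)) ≤ X :=
        le_trans (Nat.mul_le_mul_right _ (by omega : 3 ≤ q - 1)) (Nat.mul_div_le X (q - 1))
      have h4 := Nat.mul_le_mul_left (X / (q - 1)) (MinIdxClassical.mult_le_two hc)
      have h5 : q ^ k ≤ q ^ (k + 1) := Nat.pow_le_pow_right (by omega) (by omega)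
      have h6 : 16 * q ^ (2 * k - 1) ≤ q ^ (2 * k + 1) := by
        rw [hp2]; exact Nat.mul_le_mul_right _ (Nat.mul_le_mul hq hq)
      omega
  · have hnd : UnitaryOrthogonal.PolarND (UnitaryOrthogonal.qPlus (k + 1) F) :=
      (CG26.AutPO.setup_plus hm).nd
    have h5 : 5 ≤ Module.finrank F (Fin (k + 1) ⊕ Fin (k + 1) → F) := by simp; omega
    obtain ⟨v, hv, hvQ, hz⟩ :=
      MinIdxClassical.central_mem_lineStab hnd h5 (c := (0 : F)) (Or.inl rfl)
    rw [MinIdxClassical.qPlus_coe]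
    obtain ⟨H, hH⟩ := MinIdxClassical.exists_index_transfer hnd h5
      (MinIdxClassical.lineStab _ v) hz
    refine ⟨H, ?_⟩
    rw [hH, MinIdxClassical.relIndex_lineStab hnd h5 hv, hvQ]
    refine MinIdxClassical.eq_div (by omega) ?_
    rw [← h0, MinIdxClassical.card_vectors, MinIdxClassical.mult_zero, hq']

end Cfsg.Agent.S2145
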