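import Cfsg.Statements.S2146
import Cfsg.Agent.MinIdxClassical.PlusMain

set_option autoImplicit false
open Cfsg

namespace Cfsg.Agent.S2146

/-- Minimal index of a proper subgroup of the even-dimensional orthogonal groups of plus type over the field with 2 elements: for m ≥ 4, every proper subgroup of Ω⁺_2m(2) (for the form Σ xᵢyᵢ) has index at least 2^(m−1)(2^m − 1), and that index is attained. -/
theorem result {F : Type*} [Field F] [Fintype F] (hF : Fintype.card F = 2) (m : ℕ) (hm : 4 ≤ m) : (∀ H : Subgroup (Cfsg.POmega F (Cfsg.quadFormPlus m F)), H ≠ ⊤ → 2 ^ (m - 1) * (2 ^ m - 1) ≤ H.index) ∧ (∃ H : Subgroup (Cfsg.POmega F (Cfsg.quadFormPlus m F)), H.index = 2 ^ (m - 1) * (2 ^ m - 1)) := by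
  classical
  obtain ⟨k, rfl⟩ : ∃ k, m = k + 1 := ⟨m - 1, by omega⟩
  rw [Nat.add_sub_cancel]
  have hq' : Nat.card F = 2 := by rw [Nat.card_eq_fintype_card, hF]
  obtain ⟨h0, hne⟩ := MinIdxClassical.plus_counts hq' k
  have hk : (2 : ℕ) ^ k * (2 ^ (k + 1) - 1) + 2 ^ k = 2 ^ (2 * k + 1) := by
    obtain ⟨A, hA⟩ : ∃ A, (2 : ℕ) ^ (k + 1) = A + 1 :=
      ⟨2 ^ (k + 1) - 1, by have := pow_pos (by omega : 0 < 2) (k + 1); omega⟩
    rw [show 2 * k + 1 = k + 1 + k by ring, pow_add 2 (k + 1) k, hA, Nat.add_sub_cancel]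
    ring
  have h2 : (2 : F) = 0 := by
    have h := Nat.cast_card_eq_zero F
    rw [hF] at h
    exact_mod_cast h
  have hone : ∀ t : F, t ≠ 0 → t * t = 1 := fun t ht => by
    have := FiniteField.pow_card_sub_one_eq_one t ht
    rw [hF, pow_one] at this
    rw [this, one_mul]
  refine ⟨MinIdxClassical.plus_min_index hm ?_ (fun c => ?_), ?_⟩
  · rw [hq', show 2 * (k + 1) - 3 = 2 * k - 1 by omega]
    have : 2 ^ (2 * k + 1) = 4 * 2 ^ (2 * k - 1) := by
      rw [show (4 : ℕ) = 2 ^ 2 from rfl, ← pow_add]; congr 1; omega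
    have := Nat.two_pow_pos k
    omega
  · by_cases hc : c = 0
    · rw [hc, h0, MinIdxClassical.mult_zero, hq']
      simp only [Nat.add_one_sub_one, mul_one]
      rw [mul_comm ((2 : ℕ) ^ k)]
      exact Nat.mul_le_mul_left _ (by omega)
    · have h := hne c hc
      rw [MinIdxClassical.mult_two h2 hc, mul_one]
      omega
  · have hnd : UnitaryOrthogonal.PolarND (UnitaryOrthogonal.qPlus (k + 1) F) :=
      (CG26.AutPO.setup_plus hm).nd
    have h5 : 5 ≤ Module.finrank F (Fin (k + 1) ⊕ Fin (k + 1) → F) := by simp; omega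
    obtain ⟨v, hv, hvQ, hz⟩ :=
      MinIdxClassical.central_mem_lineStab hnd h5 (c := (1 : F)) (Or.inr hone)
    rw [MinIdxClassical.qPlus_coe]
    obtain ⟨H, hH⟩ := MinIdxClassical.exists_index_transfer hnd h5
      (MinIdxClassical.lineStab _ v) hz
    refine ⟨H, ?_⟩
    rw [hH, MinIdxClassical.relIndex_lineStab hnd h5 hv, hvQ]
    have h := hne 1 one_ne_zero
    rw [MinIdxClassical.card_vectors, MinIdxClassical.mult_two h2 one_ne_zero, mul_one] at h
    omega

end Cfsg.Agent.S2146
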