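import Cfsg.Statements.S2147
import Cfsg.Agent.MinIdxClassical.Counts

set_option autoImplicit false
open Cfsg

namespace Cfsg.Agent.S2147

/-- Minimal index of a proper subgroup of the even-dimensional orthogonal groups of minus type: for m ≥ 4 and a field F with q elements, every proper subgroup of PΩ⁻_2m(F) (for the form Σ_{i<m−1} xᵢyᵢ + z₁² + a z₁z₂ + b z₂² with anisotropic binary part) has index at least (q^m + 1)(q^(m−1) − 1)/(q − 1), and that index is attained. -/
theorem result {F : Type*} [Field F] [Fintype F] {q : ℕ} (hF : Fintype.card F = q) (m : ℕ) (hm : 4 ≤ m) (a b : F) (hab : ∀ z₁ z₂ : F, z₁ ^ 2 + a * z₁ * z₂ + b * z₂ ^ 2 = 0 → z₁ = 0 ∧ z₂ = 0) : (∀ H : Subgroup (Cfsg.POmega F (Cfsg.quadFormMinus (m - 1) F a b)), H ≠ ⊤ → (q ^ m + 1) * (q ^ (m - 1) - 1) / (q - 1) ≤ H.index) ∧ (∃ H : Subgroup (Cfsg.POmega F (Cfsg.quadFormMinus (m - 1) F a b)), H.index = (q ^ m + 1) * (q ^ (m - 1) - 1) / (q - 1)) := by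
  classical
  obtain ⟨k, rfl⟩ : ∃ k, m = k + 1 := ⟨m - 1, by omega⟩
  change (∀ H : Subgroup (Cfsg.POmega F (Cfsg.quadFormMinus k F a b)), H ≠ ⊤ →
    (q ^ (k + 1) + 1) * (q ^ k - 1) / (q - 1) ≤ H.index) ∧
    (∃ H : Subgroup (Cfsg.POmega F (Cfsg.quadFormMinus k F a b)),
      H.index = (q ^ (k + 1) + 1) * (q ^ k - 1) / (q - 1))
  have hk : 3 ≤ k := by omega
  have hq : Nat.card F = q := by rw [Nat.card_eq_fintype_card, hF]
  have hq1 : 1 < q := hq ▸ Finite.one_lt_card
  have hbin : UnitaryOrthogonal.BinAniso a b := MinIdxClassical.binAniso_of hab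
  rw [show Cfsg.quadFormMinus k F a b = ⇑(UnitaryOrthogonal.qMinus k F a b) from
    funext fun v => (UnitaryOrthogonal.qMinus_apply k a b v).symm]
  set Q := UnitaryOrthogonal.qMinus k F a b
  have hnd : UnitaryOrthogonal.PolarND Q :=
    (hbin.polarND.hypSum k).congr (UnitaryOrthogonal.qMinusIso k F a b).symm
  have hdim : Module.finrank F ((Fin k ⊕ Fin k) ⊕ Fin 2 → F) = 2 * k + 2 := by simp; omega
  have h5 : 5 ≤ Module.finrank F ((Fin k ⊕ Fin k) ⊕ Fin 2 → F) := by omega
  set X := (q ^ (k + 1) + 1) * (q ^ k - 1) with hX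
  have hqk : 0 < q ^ k := pow_pos (by omega) k
  have h0 : ∀ c : F, c = 0 → Nat.card {w // w ≠ 0 ∧ Q w = c} = X := by
    rintro c rfl
    have h1 := (MinIdxClassical.card_value Q (0 : F)).1 rfl
    have h2 := MinIdxClassical.level_minus_zero hbin k
    rw [hq] at h2
    obtain ⟨A, hA⟩ : ∃ A, q ^ k = A + 1 := ⟨q ^ k - 1, by omega⟩
    rw [pow_succ, two_mul, pow_succ, pow_add, hA] at h2
    rw [hX, pow_succ, hA, Nat.add_sub_cancel]
    have h3 : Nat.card {w // w ≠ 0 ∧ Q w = 0} + 1 + (A + 1) * q =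
        (A + 1) * (A + 1) * q + (A + 1) := by rw [h1]; exact h2
    linear_combination h3
  have hne : ∀ c : F, c ≠ 0 → Nat.card {w // w ≠ 0 ∧ Q w = c} = q ^ (2 * k + 1) + q ^ k :=
    fun c hc => by
      rw [(MinIdxClassical.card_value Q c).2 hc, MinIdxClassical.level_minus_ne hbin k hc, hq]
  have hXle : X ≤ q ^ (2 * k + 1) := by
    have : (q ^ (k + 1) + 1) * (q ^ k - 1) + (q ^ (k + 1) + 1) =
        (q ^ (k + 1) + 1) * q ^ k := by
      rw [← Nat.mul_succ]; congr 1; omega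
    have hlt : q ^ k ≤ q ^ (k + 1) := Nat.pow_le_pow_right (by omega) (by omega)
    rw [show (q ^ (k + 1) + 1) * q ^ k = q ^ (2 * k + 1) + q ^ k by ring] at this
    rw [hX]; omega
  have hno : MinIdxClassical.NoPlane Q := by
    rcases Nat.lt_or_ge k 4 with h | h
    · obtain rfl : k = 3 := by omega
      refine MinIdxClassical.noPlane_of_level hnd (by omega) (c := (1 : F)) one_ne_zero ?_
      rw [MinIdxClassical.level_minus_ne hbin 3 one_ne_zero, hq]
      intro e
      have : 0 < q ^ 4 := pow_pos (by omega) 4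
      have : q * (q ^ (2 * 3 + 1) + q ^ 3) + q ^ 4 = q ^ 8 + 2 * q ^ 4 := by ring
      omega
    · exact MinIdxClassical.noPlane_of_dim (by omega)
  refine ⟨fun H hH => MinIdxClassical.index_ge_transfer hnd h5 (fun H hH => ?_) H hH, ?_⟩
  · refine MinIdxClassical.minIndex hnd (by omega) hno ?_ (fun c => ?_) hH
    · rw [hq, hdim, show 2 * k + 2 - 3 = 2 * k - 1 by omega]
      refine Nat.div_le_of_le_mul (hXle.trans ?_)
      have := MinIdxClassical.pow_le_bound q (2 * k - 1) hq1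
      rwa [show 2 * k - 1 + 2 = 2 * k + 1 by omega] at this
    · by_cases hc : c = 0
      · rw [h0 c hc, hc, MinIdxClassical.mult_zero, hq]
        exact Nat.div_mul_le_self _ _
      · rw [hne c hc, ← hq]
        exact MinIdxClassical.mult_bound hc (by rw [hq]; omega)
  · obtain ⟨v, hv, hvQ, hz⟩ :=
      MinIdxClassical.central_mem_lineStab hnd h5 (c := (0 : F)) (Or.inl rfl)
    obtain ⟨H, hH⟩ := MinIdxClassical.exists_index_transfer hnd h5
      (MinIdxClassical.lineStab Q v) hz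
    refine ⟨H, ?_⟩
    rw [hH, MinIdxClassical.relIndex_lineStab hnd h5 hv, hvQ]
    refine MinIdxClassical.eq_div hq1 ?_
    rw [← h0 0 rfl, MinIdxClassical.card_vectors, MinIdxClassical.mult_zero, hq]

end Cfsg.Agent.S2147
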