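import Cfsg.Statements.S2155
import Cfsg.Agent.Chev54.ParFit

set_option autoImplicit false
open Cfsg

namespace Cfsg.Agent.S2155

/-- In a Chevalley group of type G₂, B₂, D₄, F₄, E₆, E₇ or E₈ over a finite field of characteristic p (for types G₂ and B₂ the field is assumed to have at least 3 elements, so that the group is simple), the generalized Fitting subgroup of every proper standard parabolic subgroup P_J is a p-group (P_J is p-constrained with trivial largest normal subgroup of order prime to p). -/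
theorem result {F : Type*} [Field F] [Fintype F] (p : ℕ) [Fact p.Prime] [CharP F p] (D : Cfsg.Lie.ChevalleyDatum) (hD : D ∈ [Cfsg.Lie.chevG2, Cfsg.Lie.chevB2, Cfsg.Lie.chevD4, Cfsg.Lie.chevF4, Cfsg.Lie.chevE6, Cfsg.Lie.chevE7, Cfsg.Lie.chevE8]) (hq : (D = Cfsg.Lie.chevG2 ∨ D = Cfsg.Lie.chevB2) → 3 ≤ Fintype.card F) (J : Set ℕ) (hJ : ∃ i, i < D.rank ∧ i ∉ J) : IsPGroup p ↥(Cfsg.generalizedFittingSubgroup ↥(D.parabolicSubgroup F J)) := by
  classical
  have hU := Cfsg.Agent.ChevCore.uGood_of_mem hD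
  have hC := hU.toCommGood
  have hG := hC.toGood
  have hs := Cfsg.Agent.ChevCore.chkSupp_of_mem hD
  set P := D.parabolicSubgroup F J
  have hle := hC.parabolic_le_normalizer (F := F) hs J
  have hQP : D.unipotentRadical F J ≤ P := by
    rw [hG.unipotentRadical_eq hs]
    refine le_trans (Cfsg.Agent.ChevCore.XS_le fun r t hr h => ?_) (le_sup_left : D.borelSubgroup F ≤ P)
    exact hG.xg_mem_borel hr h.1 t
  set Q := (D.unipotentRadical F J).subgroupOf P
  have hU1 : ∀ x : GL D.Idx F, x ∈ Cfsg.Agent.ChevCore.XS D F (Cfsg.Agent.ChevCore.htGe D 1) →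
      ∀ y : ↥P, (y : GL D.Idx F) = x → ∃ k : ℕ, y ^ p ^ k = 1 := by
    intro x hx y hy
    obtain ⟨k, hk⟩ := Cfsg.Agent.Chev54.U_pow hU p hx
    exact ⟨k, Subtype.ext (by simp [hy, hk])⟩
  have hQ : IsPGroup p ↥Q := fun y => by
    have h : ((y : ↥P) : GL D.Idx F) ∈ D.unipotentRadical F J := y.2
    rw [hG.unipotentRadical_eq hs] at h
    obtain ⟨k, hk⟩ := hU1 _ (Cfsg.Agent.ChevCore.XS_mono (fun r hr => hr.1) h) y rfl
    exact ⟨k, Subtype.ext hk⟩
  have hQn : Q.Normal := ⟨fun q hq g => (Subgroup.mem_normalizer_iff.1 (hle g.2) _).1 hq⟩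
  have hCQ : IsPGroup p ↥(Subgroup.centralizer (Q : Set ↥P)) := fun c => by
    have hPG : P ≤ D.group F :=
      (Cfsg.Agent.ChevCore.normalizer_radical_mem (F := F) hD J).ge.trans inf_le_right
    obtain ⟨k, hk⟩ := hU1 _ (Cfsg.Agent.Chev54.centralizer_radical_le hU hD J hJ (hPG c.1.2)
      (fun y hy => (congrArg Subtype.val (Subgroup.mem_centralizer_iff.1 c.2 ⟨y, hQP hy⟩ hy)).symm)) c rfl
    exact ⟨k, Subtype.ext hk⟩
  have hle' : ∀ N : Subgroup ↥P, N.Normal → IsPGroup p ↥N → N ≤ Cfsg.pCore p ↥P :=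
    fun N h1 h2 => le_sSup ⟨h1, h2⟩
  have h : Subgroup.centralizer (Cfsg.pCore p ↥P : Set ↥P) ≤ Cfsg.pCore p ↥P :=
    (Subgroup.centralizer_le (hle' Q hQn hQ)).trans (hle' _ inferInstance hCQ)
  rw [Cfsg.Agent.Class49.fStar_eq_of_centralizer_pCore_le h]
  exact Cfsg.Agent.Thompson.isPGroup_pCore

end Cfsg.Agent.S2155
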