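import Cfsg.Statements.S2159
import Cfsg.Agent.ChevAut.OutStruct

set_option autoImplicit false
open Cfsg

namespace Cfsg.Agent.S2159

/-- Structure of the outer automorphism group of the Chevalley group `G` of type G₂, B₂, D₄, F₄, E₆, E₇ or E₈ over a finite field. Let `D̄` be the image in `Out(G)` of the subgroup generated by the diagonal automorphisms and `F̄` the image of the subgroup generated by the field automorphisms. Then `D̄` is a normal abelian subgroup of `Out(G)`, `F̄` is cyclic, `D̄F̄` is a normal subgroup, and the quotient of `Out(G)` by `D̄F̄` is trivial, of order 2, or non-abelian of order 6 (so isomorphic to the symmetric group on three letters): its index is 1 or 2, or it is 6 with the commutator subgroup of `Out(G)` not inside `D̄F̄`. -/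
theorem result {F : Type*} [Field F] [Finite F] (D : Cfsg.Lie.ChevalleyDatum) (hD : D ∈ [Cfsg.Lie.chevG2, Cfsg.Lie.chevB2, Cfsg.Lie.chevD4, Cfsg.Lie.chevF4, Cfsg.Lie.chevE6, Cfsg.Lie.chevE7, Cfsg.Lie.chevE8])
    (Dbar Fbar : Subgroup (Cfsg.Out ↥(D.group F)))
    (hDbar : Dbar = (Subgroup.closure {φ : MulAut ↥(D.group F) | D.IsDiagonalAut φ}).map (QuotientGroup.mk' (Cfsg.Inn ↥(D.group F))))
    (hFbar : Fbar = (Subgroup.closure {φ : MulAut ↥(D.group F) | D.IsFieldAut φ}).map (QuotientGroup.mk' (Cfsg.Inn ↥(D.group F)))) :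
    Dbar.Normal ∧ IsMulCommutative ↥Dbar ∧ IsCyclic ↥Fbar ∧ (Dbar ⊔ Fbar).Normal ∧
      ((Dbar ⊔ Fbar).index = 1 ∨ (Dbar ⊔ Fbar).index = 2 ∨
        ((Dbar ⊔ Fbar).index = 6 ∧ ¬ commutator (Cfsg.Out ↥(D.group F)) ≤ Dbar ⊔ Fbar)) := by
  haveI := Fintype.ofFinite F
  obtain ⟨p, hp⟩ := CharP.exists F
  obtain ⟨f, hpr, hf⟩ := FiniteField.card F p
  haveI : Fact p.Prime := ⟨hpr⟩
  have key : ∀ {D' : Cfsg.Lie.ChevalleyDatum} (hD' : ChevAut.Seven D') {Z : List ℕ}
      {L : List (List ℕ)}, ChevAut.connB D' = true → ChevAut.zB D' Z = true →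
      ChevAut.ext D'.rank Z D'.rank = L → L.length ≤ 2 → D' = D →
      Dbar.Normal ∧ IsMulCommutative ↥Dbar ∧ IsCyclic ↥Fbar ∧ (Dbar ⊔ Fbar).Normal ∧
        ((Dbar ⊔ Fbar).index = 1 ∨ (Dbar ⊔ Fbar).index = 2 ∨
          ((Dbar ⊔ Fbar).index = 6 ∧ ¬ commutator (Cfsg.Out ↥(D.group F)) ≤ Dbar ⊔ Fbar)) := by
    intro D' hD' Z L hc hZ hext hL e
    subst e
    obtain ⟨h1, h2, h3, h4⟩ := ChevAut.structure_out hD' p f hf hc Dbar Fbar hDbar hFbar
    obtain ⟨h5, h6⟩ := ChevAut.index_cases hD' p f hf hc hZ hext Dbar Fbar hDbar hFbar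
    refine ⟨h1, h2, h3, h4 ▸ MonoidHom.normal_ker _, ?_⟩
    omega
  simp only [List.mem_cons, List.not_mem_nil, or_false] at hD
  rcases hD with rfl | rfl | rfl | rfl | rfl | rfl | rfl
  · exact key (by simp) ChevAut.connG2 ChevAut.zG2 ChevAut.extG2 le_rfl rfl
  · exact key (by simp) ChevAut.connB2 ChevAut.zB2 ChevAut.extB2 le_rfl rfl
  · obtain ⟨h1, h2, h3, h4⟩ := ChevAut.structure_out (by simp) p f hf ChevAut.connD4 Dbar Fbar hDbar hFbar
    exact ⟨h1, h2, h3, h4 ▸ MonoidHom.normal_ker _, Or.inr (Or.inr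
      (ChevAut.index_D4 p f hf ChevAut.connD4 Dbar Fbar hDbar hFbar))⟩
  · exact key (by simp) ChevAut.connF4 ChevAut.zF4 ChevAut.extF4 le_rfl rfl
  · exact key (by simp) ChevAut.connE6 ChevAut.zE6 ChevAut.extE6 le_rfl rfl
  · exact key (by simp) ChevAut.connE7 ChevAut.zE7 ChevAut.extE7 (by simp) rfl
  · exact key (by simp) ChevAut.connE8 ChevAut.zE8 ChevAut.extE8 (by simp) rfl

end Cfsg.Agent.S2159
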