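import Cfsg.Statements.S2160
import Cfsg.Agent.Chev54.Models
import Cfsg.Agent.Chev54.Generators

set_option autoImplicit false
open Cfsg
open Cfsg.Agent.Chev54 Cfsg.Agent.ChevGroup

namespace Cfsg.Agent.S2160

/-- In a Chevalley group of type G₂, B₂, D₄, F₄, E₆, E₇ or E₈ over a finite field, every field automorphism commutes with every graph automorphism. -/
theorem result {F : Type*} [Field F] [Finite F] (D : Cfsg.Lie.ChevalleyDatum) (hD : D ∈ [Cfsg.Lie.chevG2, Cfsg.Lie.chevB2, Cfsg.Lie.chevD4, Cfsg.Lie.chevF4, Cfsg.Lie.chevE6, Cfsg.Lie.chevE7, Cfsg.Lie.chevE8]) (f g : ↥(D.group F) ≃* ↥(D.group F))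
    (hf : D.IsFieldAut f) (hg : D.IsGraphAut g) (y : ↥(D.group F)) : f (g y) = g (f y) := by
  obtain ⟨P⟩ := pack_of_mem hD
  obtain ⟨σ, hσ⟩ := hf
  obtain ⟨π, -, hπ⟩ := hg
  let T := P.T
  let R := T.rel (rels P.comm F)
  have hfx : ∀ (r : Fin T.tab.n) t, f (R.x r t) = R.x r (σ t) := fun r t =>
    Model.mat_inj (hσ _ r.val t (T.lt r) rfl)
  let π' : Fin T.tab.l → Fin T.tab.l := fun i => ⟨(π ⟨i.val, T.lt_l i⟩).val, (π _).isLt.trans_eq T.l_eq.symm⟩
  let e : Fin T.tab.l → ℕ := fun i => D.graphExp (ringChar F) (⟨i.val, T.lt_l i⟩ : Fin D.rank) (π ⟨i.val, T.lt_l i⟩)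
  have hgx : ∀ i t, g (R.x (T.S.simple i) t) = R.x (T.S.simple (π' i)) (t ^ e i) := by
    intro i t
    refine Model.mat_inj (((hπ (R.x (T.S.simple i) t) ⟨i.val, T.lt_l i⟩ t).1 ?_).trans ?_)
    · show D.x F (T.S.simple i).val t = _
      rw [T.simple_eq]
    · show _ = D.x F (T.S.simple (π' i)).val _
      rw [T.simple_eq]
  have hgn : ∀ i t, g (R.x (T.S.neg (T.S.simple i)) t) = R.x (T.S.neg (T.S.simple (π' i))) (t ^ e i) := by
    intro i t
    refine Model.mat_inj (((hπ (R.x (T.S.neg (T.S.simple i)) t) ⟨i.val, T.lt_l i⟩ t).2 ?_).trans ?_)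
    · show D.x F (T.S.neg (T.S.simple i)).val t = _
      rw [T.neg_eq, T.simple_eq]
    · show _ = D.x F (T.S.neg (T.S.simple (π' i))).val _
      rw [T.neg_eq, T.simple_eq]
  have key : f.toMonoidHom.comp g.toMonoidHom = g.toMonoidHom.comp f.toMonoidHom := by
    refine hom_ext_simple T (rels P.comm F) P.hwit ?_ ?_
    · intro i t
      show f (g (R.x (T.S.simple i) t)) = g (f (R.x (T.S.simple i) t))
      rw [hgx, hfx, hfx, hgx, map_pow]
    · intro i t
      show f (g (R.x (T.S.neg (T.S.simple i)) t)) = g (f (R.x (T.S.neg (T.S.simple i)) t))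
      rw [hgn, hfx, hfx, hgn, map_pow]
  exact DFunLike.congr_fun key y

end Cfsg.Agent.S2160
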