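import Cfsg.Statements.S2163

set_option autoImplicit false
open Cfsg

namespace Cfsg.Agent.S2163

/-- Over a finite field of characteristic two and for n ≥ 3: for every ℓ with 1 ≤ ℓ and 2ℓ ≤ n, the matrix j_ℓ that is the identity plus the entries 1 in positions (n − ℓ + i, i) for i < ℓ (an identity block of size ℓ in the lower left corner) lies in SL_n(F), has order 2, and j_ℓ − 1 has rank ℓ. Together with the conjugacy criterion by rank, these matrices represent the conjugacy classes of involutions of SL_n(F). -/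
theorem result {F : Type*} [Field F] [Fintype F] [CharP F 2] {n : ℕ} (hn : 3 ≤ n) (ℓ : ℕ) (h1 : 1 ≤ ℓ) (h2 : 2 * ℓ ≤ n) :
    ∃ a : Matrix.SpecialLinearGroup (Fin n) F, (a : Matrix (Fin n) (Fin n) F) = 1 + Matrix.of (fun i j : Fin n => if j.val < ℓ ∧ i.val = j.val + (n - ℓ) then (1 : F) else 0) ∧ orderOf a = 2 ∧ ((a : Matrix (Fin n) (Fin n) F) - 1).rank = ℓ := by
  classical
  set N : Matrix (Fin n) (Fin n) F :=
    Matrix.of (fun i j : Fin n => if j.val < ℓ ∧ i.val = j.val + (n - ℓ) then (1 : F) else 0) with hN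
  have hNN : N * N = 0 := by
    ext i j
    rw [Matrix.mul_apply]
    refine Finset.sum_eq_zero fun k _ => ?_
    simp only [hN, Matrix.of_apply]
    by_cases hik : k.val < ℓ ∧ i.val = k.val + (n - ℓ)
    · rw [if_neg (fun h : j.val < ℓ ∧ k.val = j.val + (n - ℓ) => by omega), mul_zero]
    · rw [if_neg hik, zero_mul]
  have hdet : (1 + N).det = 1 := by
    rw [Matrix.det_of_lowerTriangular]
    · refine Finset.prod_eq_one fun i _ => ?_
      simp only [Matrix.add_apply, Matrix.one_apply_eq, hN, Matrix.of_apply]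
      rw [if_neg (by omega), add_zero]
    · intro i j hij
      have hij' : i < j := hij
      simp only [Matrix.add_apply, hN, Matrix.of_apply, Matrix.one_apply_ne (ne_of_lt hij')]
      rw [if_neg (fun h => by omega), add_zero]
  let a : Matrix.SpecialLinearGroup (Fin n) F := ⟨1 + N, hdet⟩
  refine ⟨a, rfl, ?_, ?_⟩
  · refine orderOf_eq_prime (p := 2) ?_ ?_
    · apply Subtype.ext
      rw [Matrix.SpecialLinearGroup.coe_pow, sq]
      show (1 + N) * (1 + N) = 1
      rw [Matrix.add_mul, Matrix.mul_add, Matrix.mul_add, Matrix.one_mul, Matrix.mul_one, Matrix.one_mul, hNN, add_zero]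
      ext i j
      simp only [Matrix.add_apply, add_assoc, CharTwo.add_self_eq_zero, add_zero]
    · intro h
      have h' : (1 + N) ⟨n - ℓ, by omega⟩ ⟨0, by omega⟩ = (1 : Matrix (Fin n) (Fin n) F) ⟨n - ℓ, by omega⟩ ⟨0, by omega⟩ := by
        rw [show (1 + N) = (1 : Matrix (Fin n) (Fin n) F) from congrArg Subtype.val h]
      simp only [Matrix.add_apply, hN, Matrix.of_apply] at h'
      rw [if_pos (by omega), Matrix.one_apply_ne (by simp; omega)] at h'
      simp at h'
  · show ((1 + N) - 1).rank = ℓ
    rw [add_sub_cancel_left]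
    refine le_antisymm ?_ ?_
    · refine (Matrix.rank_le_card_of_support_subset N
        ((Finset.univ : Finset (Fin ℓ)).image fun k => (⟨k.val + (n - ℓ), by omega⟩ : Fin n)) ?_).trans
        (le_trans Finset.card_image_le (by simp))
      rw [Function.support_subset_iff']
      intro i hi
      funext j
      simp only [Matrix.row, hN, Matrix.of_apply, Pi.zero_apply]
      refine if_neg fun h => hi ?_
      simp only [Finset.coe_image, Finset.coe_univ, Set.image_univ, Set.mem_range]
      exact ⟨⟨j.val, h.1⟩, Fin.ext h.2.symm⟩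
    · have := Matrix.rank_submatrix_le N (fun k : Fin ℓ => (⟨k.val + (n - ℓ), by omega⟩ : Fin n))
        (fun k : Fin ℓ => (⟨k.val, by omega⟩ : Fin n))
      have he : N.submatrix (fun k : Fin ℓ => (⟨k.val + (n - ℓ), by omega⟩ : Fin n))
          (fun k : Fin ℓ => (⟨k.val, by omega⟩ : Fin n)) = (1 : Matrix (Fin ℓ) (Fin ℓ) F) := by
        ext i j
        simp only [Matrix.submatrix_apply, hN, Matrix.of_apply, Matrix.one_apply]
        by_cases hij : i = j
        · rw [if_pos hij, if_pos ⟨j.2, by rw [hij]⟩]
        · rw [if_neg hij, if_neg (fun h => hij (Fin.ext (by omega)))]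
      rwa [he, Matrix.rank_one, Fintype.card_fin] at this

end Cfsg.Agent.S2163
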