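import Cfsg.Statements.S2165

set_option autoImplicit false
open Cfsg

namespace Cfsg.Agent.S2165

/-- In SU_n(q), q even, n ≥ 3 (matrices of determinant 1 over the field with q² elements preserving Σ u_i v_i^q): for every ℓ with 1 ≤ ℓ and 2ℓ ≤ n, the permutation matrix of the involution of {0, …, n−1} exchanging i and n − ℓ + i for each i < ℓ lies in SU_n(q), has order 2, and differs from the identity by a matrix of rank ℓ. So every rank between 1 and n/2 occurs for involutions of SU_n(q). -/
theorem result {F : Type*} [Field F] [Fintype F] [CharP F 2] {n q : ℕ} (hF : Fintype.card F = q ^ 2) (hn : 3 ≤ n) (ℓ : ℕ) (h1 : 1 ≤ ℓ) (h2 : 2 * ℓ ≤ n) :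
    ∃ a : ↥(Cfsg.SU n F q), (((a : Matrix.SpecialLinearGroup (Fin n) F) : Matrix (Fin n) (Fin n) F) = Matrix.of (fun i j : Fin n => if (j.val < ℓ ∧ i.val = j.val + (n - ℓ)) ∨ (i.val < ℓ ∧ j.val = i.val + (n - ℓ)) ∨ (i = j ∧ ℓ ≤ i.val ∧ i.val < n - ℓ) then (1 : F) else 0)) ∧ orderOf a = 2 ∧ ((((a : Matrix.SpecialLinearGroup (Fin n) F) : Matrix (Fin n) (Fin n) F)) - 1).rank = ℓ := by
  classical
  let f : Fin n → Fin n := fun i =>
    if h : i.val < ℓ then ⟨i.val + (n - ℓ), by omega⟩
    else if h' : n - ℓ ≤ i.val then ⟨i.val - (n - ℓ), by omega⟩ else i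
  have fval : ∀ i : Fin n, (f i).val = if i.val < ℓ then i.val + (n - ℓ) else
      if n - ℓ ≤ i.val then i.val - (n - ℓ) else i.val := by
    intro i
    simp only [f]
    split_ifs <;> rfl
  have hf : Function.Involutive f := by
    intro i
    apply Fin.ext
    rw [fval, fval]
    split_ifs <;> omega
  let σ : Equiv.Perm (Fin n) := hf.toPerm f
  set A : Matrix (Fin n) (Fin n) F := σ.permMatrix F with hA
  have hAapp : ∀ i j, A i j = if f i = j then 1 else 0 := by
    intro i j
    simp [hA, Equiv.Perm.permMatrix, PEquiv.toMatrix_apply, σ]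
  have hAmat : A = Matrix.of (fun i j : Fin n => if (j.val < ℓ ∧ i.val = j.val + (n - ℓ)) ∨ (i.val < ℓ ∧ j.val = i.val + (n - ℓ)) ∨ (i = j ∧ ℓ ≤ i.val ∧ i.val < n - ℓ) then (1 : F) else 0) := by
    ext i j
    rw [hAapp, Matrix.of_apply]
    refine if_congr ?_ rfl rfl
    rw [Fin.ext_iff, fval]
    simp only [Fin.ext_iff]
    split_ifs <;> omega
  have hmv : ∀ v : Fin n → F, Matrix.mulVec A v = fun i => v (f i) := by
    intro v
    funext i
    simp [Matrix.mulVec, dotProduct, hAapp]
  have hdet : A.det = 1 := by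
    rw [hA, Matrix.det_permutation]
    rcases Int.units_eq_one_or (Equiv.Perm.sign σ) with h | h <;> rw [h] <;> simp [CharTwo.neg_eq]
  have hmem : (⟨A, hdet⟩ : Matrix.SpecialLinearGroup (Fin n) F) ∈ Cfsg.SU n F q := by
    intro u v
    show Cfsg.hermForm n F q (Matrix.mulVec A u) (Matrix.mulVec A v) = Cfsg.hermForm n F q u v
    rw [hmv, hmv]
    exact Equiv.sum_comp σ (fun i => u i * v i ^ q)
  refine ⟨⟨_, hmem⟩, hAmat, ?_, ?_⟩
  · refine orderOf_eq_prime (p := 2) ?_ ?_
    · refine Subtype.ext (Subtype.ext ?_)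
      show (((⟨_, hmem⟩ : ↥(Cfsg.SU n F q)) ^ 2).1).1 = 1
      rw [SubgroupClass.coe_pow, Matrix.SpecialLinearGroup.coe_pow, sq]
      refine Matrix.ext fun i j => ?_
      show (A * A) i j = _
      rw [Matrix.mul_apply]
      simp only [hAapp, ite_mul, one_mul, zero_mul, Finset.sum_ite_eq, Finset.mem_univ, if_true, hf i,
        Matrix.one_apply]
    · intro h
      have h' : A ⟨0, by omega⟩ ⟨0, by omega⟩ = (1 : Matrix (Fin n) (Fin n) F) ⟨0, by omega⟩ ⟨0, by omega⟩ := by
        rw [show A = (1 : Matrix (Fin n) (Fin n) F) from congrArg (fun z : ↥(Cfsg.SU n F q) => z.1.1) h]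
      rw [hAapp, Matrix.one_apply_eq, if_neg] at h'
      · simp at h'
      · rw [Fin.ext_iff, fval]
        rw [if_pos (by simp; omega)]
        show ¬ 0 + (n - ℓ) = 0
        omega
  · show (A - 1).rank = ℓ
    let hi : Fin ℓ → Fin n := fun k => ⟨k.val + (n - ℓ), by omega⟩
    let lo : Fin ℓ → Fin n := fun k => ⟨k.val, by omega⟩
    let X : Matrix (Fin n) (Fin ℓ) F := Matrix.of fun i k => (if i = lo k then 1 else 0) + (if i = hi k then 1 else 0)
    have hfac : A - 1 = X * X.transpose := by
      ext i j
      rw [Matrix.sub_apply, CharTwo.sub_eq_add, Matrix.mul_apply, hAapp, Matrix.one_apply]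
      simp only [X, Matrix.transpose_apply, Matrix.of_apply]
      simp only [lo, hi, Fin.ext_iff, fval]
      by_cases h : i.val < ℓ
      · rw [Finset.sum_eq_single ⟨i.val, h⟩]
        · rw [if_pos h]
          dsimp only
          split_ifs <;> first | omega | simp [CharTwo.add_self_eq_zero]
        · intro k _ hk
          have hk' : k.val ≠ i.val := fun e => hk (Fin.ext e)
          rw [if_neg (fun e : i.val = k.val => hk' e.symm), if_neg (by omega)]
          simp
        · simp
      · by_cases h' : n - ℓ ≤ i.val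
        · rw [Finset.sum_eq_single ⟨i.val - (n - ℓ), by omega⟩]
          · rw [if_neg h, if_pos h']
            dsimp only
            split_ifs <;> first | omega | simp [CharTwo.add_self_eq_zero]
          · intro k _ hk
            have hk' : k.val ≠ i.val - (n - ℓ) := fun e => hk (Fin.ext e)
            rw [if_neg (by omega), if_neg (by omega)]
            simp
          · simp
        · rw [if_neg h, if_neg h', CharTwo.add_self_eq_zero]
          refine (Finset.sum_eq_zero fun k _ => ?_).symm
          rw [if_neg (by omega), if_neg (by omega)]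
          simp
    refine le_antisymm ?_ ?_
    · rw [hfac]
      exact (Matrix.rank_mul_le_left _ _).trans ((Matrix.rank_le_card_width _).trans (by simp))
    · have := Matrix.rank_submatrix_le (A - 1) hi lo
      have he : (A - 1).submatrix hi lo = (1 : Matrix (Fin ℓ) (Fin ℓ) F) := by
        ext a b
        rw [Matrix.submatrix_apply, Matrix.sub_apply, hAapp, Matrix.one_apply, Matrix.one_apply,
          if_neg (by simp [hi, lo, Fin.ext_iff]; omega : hi a ≠ lo b), sub_zero]
        refine if_congr ?_ rfl rfl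
        simp only [Fin.ext_iff, fval, hi, lo]
        split_ifs <;> omega
      rwa [he, Matrix.rank_one, Fintype.card_fin] at this

end Cfsg.Agent.S2165
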