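import Cfsg.Statements.S2166
import Cfsg.Agent.Classical10.SpInvolTwo.Classes
-- import your own Cfsg.Agent.* helpers here

set_option autoImplicit false
open Cfsg

namespace Cfsg.Agent.S2166

/-- Conjugacy of involutions in the symplectic group Sp_{2m}(F), F a finite field of characteristic two, m ≥ 2 (Sp taken as the matrices A with A J Aᵀ = J, acting on column vectors, with the alternating form f(u, v) = u ⬝ (J v)). For an involution t write V(t) for the set of vectors v with f(v, t v) = 0 (a subspace). Two involutions a, b are conjugate in Sp_{2m}(F) exactly when a − 1 and b − 1 have the same rank and, in case that rank is even, V(a) and V(b) have the same number of elements. -/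
theorem result {F : Type*} [Field F] [Fintype F] [CharP F 2] {m : ℕ} (hm : 2 ≤ m) (a b : ↥(Matrix.symplecticGroup (Fin m) F)) (ha : orderOf a = 2) (hb : orderOf b = 2) :
    IsConj a b ↔ ((((a : ↥(Matrix.symplecticGroup (Fin m) F)) : Matrix (Fin m ⊕ Fin m) (Fin m ⊕ Fin m) F) - 1).rank = (((b : ↥(Matrix.symplecticGroup (Fin m) F)) : Matrix (Fin m ⊕ Fin m) (Fin m ⊕ Fin m) F) - 1).rank ∧
      (Even (((a : ↥(Matrix.symplecticGroup (Fin m) F)) : Matrix (Fin m ⊕ Fin m) (Fin m ⊕ Fin m) F) - 1).rank → Nat.card {v : Fin m ⊕ Fin m → F // Cfsg.sympForm m F v (Matrix.mulVec ((a : ↥(Matrix.symplecticGroup (Fin m) F)) : Matrix (Fin m ⊕ Fin m) (Fin m ⊕ Fin m) F) v) = 0} = Nat.card {v : Fin m ⊕ Fin m → F // Cfsg.sympForm m F v (Matrix.mulVec ((b : ↥(Matrix.symplecticGroup (Fin m) F)) : Matrix (Fin m ⊕ Fin m) (Fin m ⊕ Fin m) F) v) = 0})) := by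
  have hsq : ∀ x : ↥(Matrix.symplecticGroup (Fin m) F), orderOf x = 2 → x * x = 1 := fun x hx => by
    rw [← sq, ← hx, pow_orderOf_eq_one]
  have hcard : ∀ x : ↥(Matrix.symplecticGroup (Fin m) F),
      Classical10.SpInvolTwo.IsAltType x ↔ Nat.card {v : Fin m ⊕ Fin m → F //
        Cfsg.sympForm m F v (Matrix.mulVec (x : Matrix (Fin m ⊕ Fin m) (Fin m ⊕ Fin m) F) v) = 0} =
        Nat.card (Fin m ⊕ Fin m → F) := by
    intro x
    constructor
    · exact fun h => Nat.card_congr (Equiv.subtypeUnivEquiv fun v => (Invol2.formB_self x v).symm.trans (h v))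
    · intro h v
      rw [Invol2.formB_self]
      by_contra hv
      exact absurd h (Finite.card_subtype_lt (x := v) hv).ne
  have hnon : ∀ x : ↥(Matrix.symplecticGroup (Fin m) F), x * x = 1 → ¬ Classical10.SpInvolTwo.IsAltType x →
      Nat.card {v : Fin m ⊕ Fin m → F //
        Cfsg.sympForm m F v (Matrix.mulVec (x : Matrix (Fin m ⊕ Fin m) (Fin m ⊕ Fin m) F) v) = 0} *
        Fintype.card F = Fintype.card F ^ (2 * m) := by
    intro x hx hn
    have hV : Nat.card (Fin m ⊕ Fin m → F) = Fintype.card F ^ (2 * m) := by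
      rw [Nat.card_eq_fintype_card, Fintype.card_fun, Fintype.card_sum, Fintype.card_fin, two_mul]
    have := Invol2.card_formB_self_zero x hx
    simp only [Invol2.formB_self] at this
    refine this.resolve_left fun e => hn ((hcard x).2 (e.trans hV.symm))
  rw [Classical10.SpInvolTwo.isConj_iff_invariants a b (hsq a ha) (hsq b hb)]
  change (Classical10.SpInvolTwo.rk a = Classical10.SpInvolTwo.rk b ∧ _) ↔
    (Classical10.SpInvolTwo.rk a = Classical10.SpInvolTwo.rk b ∧
      (Even (Classical10.SpInvolTwo.rk a) → _))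
  refine and_congr_right fun hr => ⟨fun h _ => ?_, fun h => ?_⟩
  · by_cases hx : Classical10.SpInvolTwo.IsAltType a
    · rw [(hcard a).1 hx, (hcard b).1 (h.1 hx)]
    · exact Nat.eq_of_mul_eq_mul_right Fintype.card_pos
        ((hnon a (hsq a ha) hx).trans (hnon b (hsq b hb) fun hy => hx (h.2 hy)).symm)
  · constructor
    · intro hx
      have := h (Classical10.SpInvolTwo.even_rk_of_isAlt a (hsq a ha) hx)
      exact (hcard b).2 (this ▸ (hcard a).1 hx)
    · intro hy
      have := h (hr ▸ Classical10.SpInvolTwo.even_rk_of_isAlt b (hsq b hb) hy)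
      exact (hcard a).2 (this.symm ▸ (hcard b).1 hy)

end Cfsg.Agent.S2166
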