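import Cfsg.Statements.S2174
import Cfsg.Agent.Chev54.InvClasses
import Cfsg.Agent.Chev54.InvDataF4
import Cfsg.Agent.Chev54.InvRankF4
import Cfsg.Agent.Lib.ChevCore.SepAll

set_option autoImplicit false
open Cfsg
open Cfsg.Lie Cfsg.Agent.Chev54 Cfsg.Agent.ChevGroup Cfsg.Agent.ChevCore

namespace Cfsg.Agent.S2174

/-- Conjugacy classes of involutions in the Chevalley group of type F₄ over a finite field F of characteristic two (the matrix group generated by the root elements x_r(t)). In this problem's root numbering for type F₄ (the Chevalley data module; fundamental roots p₁, p₂ short and p₃, p₄ long; roots indexed by their coefficient vectors in increasing order) let r = 47 be the highest root (2,4,3,2), s = 44 the highest short root (2,3,2,1), and α = 39 = (1,2,2,1), β = 45 = (2,4,2,1), an orthogonal short/long pair; consider the four elements x_r(1), x_s(1), x_r(1)x_s(1), x_α(1)x_β(1). Then: each invertible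 matrix equal to one of these four products lies in the group and has order 2; every element of order 2 of the group is conjugate in the group to one of them; and no two of them are conjugate in the group (so, the four matrices being distinct, the group has exactly four conjugacy classes of involutions). -/
theorem result {F : Type*} [Field F] [Fintype F] [CharP F 2] :
    (∀ y : GL Cfsg.Lie.chevF4.Idx F, ((y : GL Cfsg.Lie.chevF4.Idx F) : Matrix Cfsg.Lie.chevF4.Idx Cfsg.Lie.chevF4.Idx F) ∈ [Cfsg.Lie.chevF4.x F 47 1, Cfsg.Lie.chevF4.x F 44 1, Cfsg.Lie.chevF4.x F 47 1 * Cfsg.Lie.chevF4.x F 44 1, Cfsg.Lie.chevF4.x F 39 1 * Cfsg.Lie.chevF4.x F 45 1] → y ∈ Cfsg.Lie.chevF4.group F ∧ orderOf y = 2) ∧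
    (∀ g ∈ Cfsg.Lie.chevF4.group F, orderOf g = 2 → ∃ y ∈ Cfsg.Lie.chevF4.group F, ((y : GL Cfsg.Lie.chevF4.Idx F) : Matrix Cfsg.Lie.chevF4.Idx Cfsg.Lie.chevF4.Idx F) ∈ [Cfsg.Lie.chevF4.x F 47 1, Cfsg.Lie.chevF4.x F 44 1, Cfsg.Lie.chevF4.x F 47 1 * Cfsg.Lie.chevF4.x F 44 1, Cfsg.Lie.chevF4.x F 39 1 * Cfsg.Lie.chevF4.x F 45 1] ∧ ∃ h ∈ Cfsg.Lie.chevF4.group F, h * g * h⁻¹ = y) ∧
    (∀ y₁ ∈ Cfsg.Lie.chevF4.group F, ∀ y₂ ∈ Cfsg.Lie.chevF4.group F, ((y₁ : GL Cfsg.Lie.chevF4.Idx F) : Matrix Cfsg.Lie.chevF4.Idx Cfsg.Lie.chevF4.Idx F) ∈ [Cfsg.Lie.chevF4.x F 47 1, Cfsg.Lie.chevF4.x F 44 1, Cfsg.Lie.chevF4.x F 47 1 * Cfsg.Lie.chevF4.x F 44 1, Cfsg.Lie.chevF4.x F 39 1 * Cfsg.Lie.chevF4.x F 45 1] → ((y₂ : GL Cfsg.Lie.chevF4.Idx F) : Matrix Cfsg.Lie.chevF4.Idx Cfsg.Lie.chevF4.Idx F) ∈ [Cfsg.Lie.chevF4.x F 47 1, Cfsg.Lie.chevF4.x F 44 1, Cfsg.Lie.chevF4.x F 47 1 * Cfsg.Lie.chevF4.x F 44 1, Cfsg.Lie.chevF4.x F 39 1 * Cfsg.Lie.chevF4.x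 F 45 1] →
      (∃ h ∈ Cfsg.Lie.chevF4.group F, h * y₁ * h⁻¹ = y₂) → ((y₁ : GL Cfsg.Lie.chevF4.Idx F) : Matrix Cfsg.Lie.chevF4.Idx Cfsg.Lie.chevF4.Idx F) = ((y₂ : GL Cfsg.Lie.chevF4.Idx F) : Matrix Cfsg.Lie.chevF4.Idx Cfsg.Lie.chevF4.Idx F)) := by
  have hX : repsB chevF4 redF4.reps [rkF4_0, rkF4_1, rkF4_2, rkF4_3] = true := by
    simp only [repsB, List.all_cons, List.all_nil, rkF4_0_ok, rkF4_1_ok, rkF4_2_ok, rkF4_3_ok, Bool.true_and]
    decide +kernel
  have hsep : sepB chevF4 [0, 1, 2, 4, 5, 6, 15, 16, 17, 21, 22, 23, 24, 25, 26, 30, 31, 32, 41, 42, 43, 45, 46, 47] 47 44 = true := by decide +kernel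
  have hinj : ∀ i < redF4.reps.length, ∀ j < redF4.reps.length,
      Cj chevF4 F (w1 chevF4 F (redF4.reps.getD i [])) (w1 chevF4 F (redF4.reps.getD j [])) → i = j := by
    intro i hi j hj hc
    have hne : i ≠ j → (i = 0 ∧ j = 1) ∨ (i = 1 ∧ j = 0) ∨
        ([rkF4_0, rkF4_1, rkF4_2, rkF4_3].map fun c => c.P.length).getD i 0 ≠ ([rkF4_0, rkF4_1, rkF4_2, rkF4_3].map fun c => c.P.length).getD j 0 :=
      (by decide +kernel : ∀ i < redF4.reps.length, ∀ j < redF4.reps.length, i ≠ j → (i = 0 ∧ j = 1) ∨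
        (i = 1 ∧ j = 0) ∨ ([rkF4_0, rkF4_1, rkF4_2, rkF4_3].map fun c => c.P.length).getD i 0 ≠
          ([rkF4_0, rkF4_1, rkF4_2, rkF4_3].map fun c => c.P.length).getD j 0) i hi j hj
    by_contra hij
    have h0 : w1 chevF4 F (redF4.reps.getD 0 []) = xg chevF4 F 47 1 := by
      rw [show redF4.reps.getD 0 [] = [47] from rfl, w1_cons, w1_nil, mul_one]
    have h1 : w1 chevF4 F (redF4.reps.getD 1 []) = xg chevF4 F 44 1 := by
      rw [show redF4.reps.getD 1 [] = [44] from rfl, w1_cons, w1_nil, mul_one]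
    rcases hne hij with ⟨rfl, rfl⟩ | ⟨rfl, rfl⟩ | h
    · rw [h0, h1] at hc
      exact not_cj_root uGoodF4 (by simp) hsep hc
    · rw [h0, h1] at hc
      exact not_cj_root uGoodF4 (by simp) hsep hc.symm
    · exact h (by rw [← (rep_facts (F := F) uGoodF4 hX hi).2.2, ← (rep_facts (F := F) uGoodF4 hX hj).2.2,
        hc.rank_eq])
  have hG := uGoodF4.toCommGood.toGood
  refine classes_mat uGoodF4 (by simp) redF4_ok hX hinj _ ?_
  rw [show redF4.reps = _ from rfl]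
  simp only [redF4, List.map_cons, List.map_nil, w1_cons, w1_nil, mul_one, Units.val_mul, hG.val_xg, mul_assoc]

end Cfsg.Agent.S2174
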