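import Cfsg.Statements.S2177
import Cfsg.Agent.Chev54.InvClasses
import Cfsg.Agent.Chev54.InvDataG2
import Cfsg.Agent.Chev54.InvRankG2
import Cfsg.Agent.Lib.ChevCore.SepAll

set_option autoImplicit false
open Cfsg
open Cfsg.Lie Cfsg.Agent.Chev54 Cfsg.Agent.ChevGroup Cfsg.Agent.ChevCore

namespace Cfsg.Agent.S2177

/-- Conjugacy classes of involutions in the Chevalley group of type G₂ over a finite field F of characteristic two with at least four elements (the matrix group generated by the root elements x_r(t)). In this problem's root numbering for type G₂ (the Chevalley data module; p₁ = a short, p₂ = b long; roots indexed by coefficient vectors in increasing order) let 11 be the highest root 3a + 2b (long) and 9 the short root 2a + b; consider x_{3a+2b}(1) and x_{2a+b}(1). Then: each invertible matrix equal to one of these two products lies in the group and has order 2; every element of order 2 of the group is conjugate in the group to one of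 them; and no two of them are conjugate in the group (so, the two matrices being distinct, the group has exactly two conjugacy classes of involutions). -/
theorem result {F : Type*} [Field F] [Fintype F] [CharP F 2] (hF : 4 ≤ Fintype.card F) :
    (∀ y : GL Cfsg.Lie.chevG2.Idx F, ((y : GL Cfsg.Lie.chevG2.Idx F) : Matrix Cfsg.Lie.chevG2.Idx Cfsg.Lie.chevG2.Idx F) ∈ [Cfsg.Lie.chevG2.x F 11 1, Cfsg.Lie.chevG2.x F 9 1] → y ∈ Cfsg.Lie.chevG2.group F ∧ orderOf y = 2) ∧
    (∀ g ∈ Cfsg.Lie.chevG2.group F, orderOf g = 2 → ∃ y ∈ Cfsg.Lie.chevG2.group F, ((y : GL Cfsg.Lie.chevG2.Idx F) : Matrix Cfsg.Lie.chevG2.Idx Cfsg.Lie.chevG2.Idx F) ∈ [Cfsg.Lie.chevG2.x F 11 1, Cfsg.Lie.chevG2.x F 9 1] ∧ ∃ h ∈ Cfsg.Lie.chevG2.group F, h * g * h⁻¹ = y) ∧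
    (∀ y₁ ∈ Cfsg.Lie.chevG2.group F, ∀ y₂ ∈ Cfsg.Lie.chevG2.group F, ((y₁ : GL Cfsg.Lie.chevG2.Idx F) : Matrix Cfsg.Lie.chevG2.Idx Cfsg.Lie.chevG2.Idx F) ∈ [Cfsg.Lie.chevG2.x F 11 1, Cfsg.Lie.chevG2.x F 9 1] → ((y₂ : GL Cfsg.Lie.chevG2.Idx F) : Matrix Cfsg.Lie.chevG2.Idx Cfsg.Lie.chevG2.Idx F) ∈ [Cfsg.Lie.chevG2.x F 11 1, Cfsg.Lie.chevG2.x F 9 1] →
      (∃ h ∈ Cfsg.Lie.chevG2.group F, h * y₁ * h⁻¹ = y₂) → ((y₁ : GL Cfsg.Lie.chevG2.Idx F) : Matrix Cfsg.Lie.chevG2.Idx Cfsg.Lie.chevG2.Idx F) = ((y₂ : GL Cfsg.Lie.chevG2.Idx F) : Matrix Cfsg.Lie.chevG2.Idx Cfsg.Lie.chevG2.Idx F)) := by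
  have hX : repsB chevG2 redG2.reps [rkG2_0, rkG2_1] = true := by
    simp only [repsB, List.all_cons, List.all_nil, rkG2_0_ok, rkG2_1_ok, Bool.true_and]
    decide +kernel
  have hsep : sepB chevG2 [0, 1, 5, 6, 10, 11] 11 9 = true := by decide +kernel
  have hinj : ∀ i < redG2.reps.length, ∀ j < redG2.reps.length,
      Cj chevG2 F (w1 chevG2 F (redG2.reps.getD i [])) (w1 chevG2 F (redG2.reps.getD j [])) → i = j := by
    intro i hi j hj hc
    have hne : i ≠ j → (i = 0 ∧ j = 1) ∨ (i = 1 ∧ j = 0) ∨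
        ([rkG2_0, rkG2_1].map fun c => c.P.length).getD i 0 ≠ ([rkG2_0, rkG2_1].map fun c => c.P.length).getD j 0 :=
      (by decide +kernel : ∀ i < redG2.reps.length, ∀ j < redG2.reps.length, i ≠ j → (i = 0 ∧ j = 1) ∨
        (i = 1 ∧ j = 0) ∨ ([rkG2_0, rkG2_1].map fun c => c.P.length).getD i 0 ≠
          ([rkG2_0, rkG2_1].map fun c => c.P.length).getD j 0) i hi j hj
    by_contra hij
    have h0 : w1 chevG2 F (redG2.reps.getD 0 []) = xg chevG2 F 11 1 := by
      rw [show redG2.reps.getD 0 [] = [11] from rfl, w1_cons, w1_nil, mul_one]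
    have h1 : w1 chevG2 F (redG2.reps.getD 1 []) = xg chevG2 F 9 1 := by
      rw [show redG2.reps.getD 1 [] = [9] from rfl, w1_cons, w1_nil, mul_one]
    rcases hne hij with ⟨rfl, rfl⟩ | ⟨rfl, rfl⟩ | h
    · rw [h0, h1] at hc
      exact not_cj_root uGoodG2 (by simp) hsep hc
    · rw [h0, h1] at hc
      exact not_cj_root uGoodG2 (by simp) hsep hc.symm
    · exact h (by rw [← (rep_facts (F := F) uGoodG2 hX hi).2.2, ← (rep_facts (F := F) uGoodG2 hX hj).2.2,
        hc.rank_eq])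
  have hG := uGoodG2.toCommGood.toGood
  refine classes_mat uGoodG2 (by simp) redG2_ok hX hinj _ ?_
  rw [show redG2.reps = _ from rfl]
  simp only [redG2, List.map_cons, List.map_nil, w1_cons, w1_nil, mul_one, Units.val_mul, hG.val_xg, mul_assoc]

end Cfsg.Agent.S2177
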