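import Cfsg.Statements.S2179
import Cfsg.Agent.Chev54.PairState
import Cfsg.Agent.Chev54.PairCert

set_option autoImplicit false
open Cfsg
open Cfsg.Lie Cfsg.Agent.Chev54 Cfsg.Agent.ChevGroup Cfsg.Agent.ChevCore

namespace Cfsg.Agent.S2179

/-- Centralizers of the two remaining classes of involutions in the Chevalley group G of type F₄ over a finite field F of characteristic two (this problem's root numbering for type F₄, from the Chevalley data module: p₁, p₂ short, p₃, p₄ long with indices 33, 27, 25, 24 and negatives 14, 20, 22, 23; U generated by the positive root subgroups). For an element of G with matrix x_47(1)x_44(1) (highest root times highest short root): its centralizer in G is generated by U, X_{−p₂} and X_{−p₃}. For an element of G with matrix x_39(1)x_45(1) (roots (1,2,2,1) and (2,4,2,1), an orthogonal short/long pair): its centralizer in G is generated by X_{p₁}, X_{−p₁}, X_{p₄}, X_{−p₄} and the root subgroups of all positive roots other than p₂ (27), p₃ (25), p₁ + p₂ (34) and p₃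 + p₄ (26). -/
theorem result {F : Type*} [Field F] [Fintype F] [CharP F 2] (w v : GL Cfsg.Lie.chevF4.Idx F) (hw : (w : Matrix Cfsg.Lie.chevF4.Idx Cfsg.Lie.chevF4.Idx F) = Cfsg.Lie.chevF4.x F 47 1 * Cfsg.Lie.chevF4.x F 44 1) (hv : (v : Matrix Cfsg.Lie.chevF4.Idx Cfsg.Lie.chevF4.Idx F) = Cfsg.Lie.chevF4.x F 39 1 * Cfsg.Lie.chevF4.x F 45 1) :
    Cfsg.Lie.chevF4.group F ⊓ Subgroup.centralizer {w} = Cfsg.Lie.chevF4.posUnipotent F ⊔ Cfsg.Lie.chevF4.rootSubgroup F 20 ⊔ Cfsg.Lie.chevF4.rootSubgroup F 22 ∧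
    Cfsg.Lie.chevF4.group F ⊓ Subgroup.centralizer {v} = Cfsg.Lie.chevF4.rootSubgroup F 33 ⊔ Cfsg.Lie.chevF4.rootSubgroup F 14 ⊔ Cfsg.Lie.chevF4.rootSubgroup F 24 ⊔ Cfsg.Lie.chevF4.rootSubgroup F 23 ⊔
      Subgroup.closure {g : GL Cfsg.Lie.chevF4.Idx F | ∃ (r : ℕ) (c : F), Cfsg.Lie.chevF4.IsPosRoot r ∧ r ∉ [27, 25, 34, 26] ∧ (g : Matrix Cfsg.Lie.chevF4.Idx Cfsg.Lie.chevF4.Idx F) = Cfsg.Lie.chevF4.x F r c} := by
  have hG := uGoodF4.toCommGood.toGood
  refine ⟨centralizer_pair_eq (X := f4Top) uGoodF4 f4Top_ok (by simp) w ?_ _ ?_ ?_,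
    centralizer_pair_eq (X := f4Mixed) uGoodF4 f4Mixed_ok (by simp) v ?_ _ ?_ ?_⟩
  · refine Units.ext ?_
    simp [tElt, tWord, wordG, f4Top, hw, hG.val_xg]
  · intro r hr hm u
    have h : ∀ r < chevF4.nroots, mB chevF4 f4Top r = true →
        (PairData.posB chevF4 r || decide (r ∈ [20, 22])) = true := by decide +kernel
    have hg := xg_mem_rootSubgroup (F := F) hG r u
    rcases Bool.or_eq_true_iff.1 (h r hr hm) with h | h
    · refine Subgroup.mem_sup_left (Subgroup.mem_sup_left ?_)
      rw [hG.posUnipotent_eq]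
      refine xg_mem_XS hr ?_ u
      simp only [PairData.posB, zPos_iff] at h
      simp only [htGe, Set.mem_setOf_eq]
      omega
    · simp only [decide_eq_true_eq, List.mem_cons, List.not_mem_nil, or_false] at h
      rcases h with rfl | rfl
      · exact Subgroup.mem_sup_left (Subgroup.mem_sup_right hg)
      · exact Subgroup.mem_sup_right hg
  · have h : ∀ r < chevF4.nroots, (PairData.posB chevF4 r || decide (r ∈ [20, 22])) = true →
        mB chevF4 f4Top r = true := by decide +kernel
    have e : ∀ r ∈ [20, 22], r < chevF4.nroots →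
        chevF4.rootSubgroup F r ≤ XS chevF4 F (mSet chevF4 f4Top) :=
      fun r hr hr' => rootSubgroup_le_XS hG hr' (mem_mSet_iff.2 ⟨hr', h r hr' (by simp [hr])⟩)
    refine sup_le (sup_le ?_ (e 20 (by simp) (by decide))) (e 22 (by simp) (by decide))
    rw [hG.posUnipotent_eq]
    refine XS_le fun r u hr h' => xg_mem_XS hr (mem_mSet_iff.2 ⟨hr, h r hr ?_⟩) u
    simp only [htGe, Set.mem_setOf_eq] at h'
    simp only [PairData.posB, Bool.or_eq_true, zPos_iff]
    omega
  · refine Units.ext ?_
    rw [hv]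
    rw [tElt, tWord, show f4Mixed.K = [39, 45] from rfl]
    simp only [wordG, List.map_cons, List.map_nil, List.prod_cons, List.prod_nil,
      mul_one, Units.val_mul, hG.val_xg]
  · intro r hr hm u
    have h : ∀ r < chevF4.nroots, mB chevF4 f4Mixed r = true →
        (decide (r ∈ [33, 14, 24, 23]) || (PairData.posB chevF4 r && decide (r ∉ [27, 25, 34, 26]))) = true := by
      decide +kernel
    have hg := xg_mem_rootSubgroup (F := F) hG r u
    rcases Bool.or_eq_true_iff.1 (h r hr hm) with h | h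
    · simp only [decide_eq_true_eq, List.mem_cons, List.not_mem_nil, or_false] at h
      refine Subgroup.mem_sup_left ?_
      rcases h with rfl | rfl | rfl | rfl
      all_goals first
        | exact Subgroup.mem_sup_right hg
        | exact Subgroup.mem_sup_left (Subgroup.mem_sup_right hg)
        | exact Subgroup.mem_sup_left (Subgroup.mem_sup_left (Subgroup.mem_sup_right hg))
        | exact Subgroup.mem_sup_left (Subgroup.mem_sup_left (Subgroup.mem_sup_left hg))
    · simp only [Bool.and_eq_true, PairData.posB, zPos_iff, decide_eq_true_eq] at h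
      exact Subgroup.mem_sup_right (Subgroup.subset_closure
        ⟨r, u, (hG.isPosRoot_iff hr).2 (by omega), h.2, hG.val_xg r u⟩)
  · have h : ∀ r < chevF4.nroots,
        (decide (r ∈ [33, 14, 24, 23]) || (PairData.posB chevF4 r && decide (r ∉ [27, 25, 34, 26]))) = true →
          mB chevF4 f4Mixed r = true := by decide +kernel
    have h' : ∀ r ∈ [33, 14, 24, 23], r < chevF4.nroots := by decide
    have e : ∀ r ∈ [33, 14, 24, 23], chevF4.rootSubgroup F r ≤ XS chevF4 F (mSet chevF4 f4Mixed) :=
      fun r hr => rootSubgroup_le_XS hG (h' r hr) (mem_mSet_iff.2 ⟨h' r hr, h r (h' r hr) (by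
        rw [decide_eq_true hr]; rfl)⟩)
    refine sup_le (sup_le (sup_le (sup_le (e 33 (by simp)) (e 14 (by simp))) (e 24 (by simp))) (e 23 (by simp))) ?_
    refine (Subgroup.closure_le _).2 ?_
    rintro g ⟨r, c, hp, hn, hg⟩
    obtain rfl : g = xg chevF4 F r c := Units.ext (hg.trans (hG.val_xg r c).symm)
    refine xg_mem_XS hp.1 (mem_mSet_iff.2 ⟨hp.1, h r hp.1 ?_⟩) c
    have := (hG.isPosRoot_iff hp.1).1 hp
    simp only [PairData.posB, Bool.or_eq_true, Bool.and_eq_true, zPos_iff]
    exact Or.inr ⟨by omega, decide_eq_true hn⟩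

end Cfsg.Agent.S2179
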