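import Cfsg.Statements.S2180
import Cfsg.Agent.Chev54.PairState
import Cfsg.Agent.Chev54.PairCert

set_option autoImplicit false
open Cfsg
open Cfsg.Lie Cfsg.Agent.Chev54 Cfsg.Agent.ChevGroup Cfsg.Agent.ChevCore

namespace Cfsg.Agent.S2180

/-- Centralizers of involutions in the Chevalley group G of type G₂ over a finite field F of characteristic two with at least four elements (this problem's root numbering for type G₂, from the Chevalley data module: a = p₁ short with index 7, b = p₂ long with index 6, −a = 4, −b = 5, 2a + b = 9, 3a + b = 10, 3a + 2b = 11; U generated by the positive root subgroups). For an element z of G with matrix x_{3a+2b}(1): the centralizer of z in G is generated by U and X_{−a}. For an element t of G with matrix x_{2a+b}(1): the centralizer of t in G is generated by X_{2a+b}, X_{3a+b}, X_{3a+2b}, X_b and X_{−b}. -/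
theorem result {F : Type*} [Field F] [Fintype F] [CharP F 2] (hF : 4 ≤ Fintype.card F) (z t : GL Cfsg.Lie.chevG2.Idx F) (hz : (z : Matrix Cfsg.Lie.chevG2.Idx Cfsg.Lie.chevG2.Idx F) = Cfsg.Lie.chevG2.x F 11 1) (ht : (t : Matrix Cfsg.Lie.chevG2.Idx Cfsg.Lie.chevG2.Idx F) = Cfsg.Lie.chevG2.x F 9 1) :
    Cfsg.Lie.chevG2.group F ⊓ Subgroup.centralizer {z} = Cfsg.Lie.chevG2.posUnipotent F ⊔ Cfsg.Lie.chevG2.rootSubgroup F 4 ∧
    Cfsg.Lie.chevG2.group F ⊓ Subgroup.centralizer {t} = Cfsg.Lie.chevG2.rootSubgroup F 9 ⊔ Cfsg.Lie.chevG2.rootSubgroup F 10 ⊔ Cfsg.Lie.chevG2.rootSubgroup F 11 ⊔ Cfsg.Lie.chevG2.rootSubgroup F 6 ⊔ Cfsg.Lie.chevG2.rootSubgroup F 5 := by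
  have hG := uGoodG2.toCommGood.toGood
  refine ⟨centralizer_pair_eq (X := g2Long) uGoodG2 g2Long_ok (by simp) z ?_ _ ?_ ?_,
    centralizer_pair_eq (X := g2Short) uGoodG2 g2Short_ok (by simp) t ?_ _ ?_ ?_⟩
  · refine Units.ext ?_
    simp [tElt, tWord, wordG, g2Long, hz, hG.val_xg]
  · intro r hr hm u
    have h : ∀ r < chevG2.nroots, mB chevG2 g2Long r = true →
        (PairData.posB chevG2 r || decide (r = 4)) = true := by decide +kernel
    rcases Bool.or_eq_true_iff.1 (h r hr hm) with h | h
    · refine Subgroup.mem_sup_left ?_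
      rw [hG.posUnipotent_eq]
      refine xg_mem_XS hr ?_ u
      simp only [PairData.posB, zPos_iff] at h
      simp only [htGe, Set.mem_setOf_eq]
      omega
    · obtain rfl := of_decide_eq_true h
      exact Subgroup.mem_sup_right (xg_mem_rootSubgroup hG 4 u)
  · have h4 : ∀ r < chevG2.nroots, (PairData.posB chevG2 r || decide (r = 4)) = true →
        mB chevG2 g2Long r = true := by decide +kernel
    refine sup_le ?_ (rootSubgroup_le_XS hG (by decide) (mem_mSet_iff.2 ⟨by decide, h4 4 (by decide) (by simp)⟩))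
    rw [hG.posUnipotent_eq]
    refine XS_le fun r u hr h => xg_mem_XS hr (mem_mSet_iff.2 ⟨hr, h4 r hr ?_⟩) u
    simp only [htGe, Set.mem_setOf_eq] at h
    simp only [PairData.posB, Bool.or_eq_true, zPos_iff]
    omega
  · refine Units.ext ?_
    simp [tElt, tWord, wordG, g2Short, ht, hG.val_xg]
  · intro r hr hm u
    have h : ∀ r < chevG2.nroots, mB chevG2 g2Short r = true → r ∈ [9, 10, 11, 6, 5] := by decide +kernel
    have hr := h r hr hm
    have hg := xg_mem_rootSubgroup (F := F) hG r u
    simp only [List.mem_cons, List.not_mem_nil, or_false] at hr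
    rcases hr with rfl | rfl | rfl | rfl | rfl
    all_goals first
      | exact Subgroup.mem_sup_right hg
      | exact Subgroup.mem_sup_left (Subgroup.mem_sup_right hg)
      | exact Subgroup.mem_sup_left (Subgroup.mem_sup_left (Subgroup.mem_sup_right hg))
      | exact Subgroup.mem_sup_left (Subgroup.mem_sup_left (Subgroup.mem_sup_left (Subgroup.mem_sup_right hg)))
      | exact Subgroup.mem_sup_left (Subgroup.mem_sup_left (Subgroup.mem_sup_left (Subgroup.mem_sup_left hg)))
  · have h : ∀ r ∈ [9, 10, 11, 6, 5], r < chevG2.nroots ∧ mB chevG2 g2Short r = true := by decide +kernel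
    have e : ∀ r ∈ [9, 10, 11, 6, 5], chevG2.rootSubgroup F r ≤ XS chevG2 F (mSet chevG2 g2Short) :=
      fun r hr => rootSubgroup_le_XS hG (h r hr).1 (mem_mSet_iff.2 (h r hr))
    exact sup_le (sup_le (sup_le (sup_le (e 9 (by simp)) (e 10 (by simp))) (e 11 (by simp))) (e 6 (by simp)))
      (e 5 (by simp))

end Cfsg.Agent.S2180
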