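import Cfsg.Statements.S2181
import Cfsg.Agent.Chev54.InvClasses
import Cfsg.Agent.Chev54.InvDataE7
import Cfsg.Agent.Chev54.InvRankE7
import Cfsg.Agent.Lib.ChevCore.SepAll

set_option autoImplicit false
open Cfsg
open Cfsg.Lie Cfsg.Agent.Chev54 Cfsg.Agent.ChevGroup Cfsg.Agent.ChevCore

namespace Cfsg.Agent.S2181

/-- The Chevalley group of type E₇ over a finite field of characteristic two (the matrix group generated by the root elements) has exactly five conjugacy classes of elements of order 2. -/
theorem result {F : Type*} [Field F] [Fintype F] [CharP F 2] :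
    (ConjClasses.mk '' {g : ↥(Cfsg.Lie.chevE7.group F) | orderOf g = 2}).ncard = 5 := by
  have hX : repsB chevE7 redE7.reps [rkE7_0, rkE7_1, rkE7_2, rkE7_3, rkE7_4] = true := by
    simp only [repsB, List.all_cons, List.all_nil, rkE7_0_ok, rkE7_1_ok, rkE7_2_ok, rkE7_3_ok, rkE7_4_ok, Bool.true_and]
    decide +kernel
  have hinj : ∀ i < redE7.reps.length, ∀ j < redE7.reps.length,
      Cj chevE7 F (w1 chevE7 F (redE7.reps.getD i [])) (w1 chevE7 F (redE7.reps.getD j [])) → i = j :=
    fun i hi j hj hc => inj_of_ranks uGoodE7 hX (by decide +kernel) hi hj hc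
  exact ncard_classes uGoodE7 (by simp) redE7_ok hX hinj

end Cfsg.Agent.S2181
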