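import Cfsg.Statements.S2182
import Cfsg.Agent.Chev54.TwistE6Inv
import Cfsg.Agent.Chev54.InvRankTwE6
import Cfsg.Agent.Chev54.InvClasses
import Cfsg.Agent.Lib.ChevCore.SepAll

set_option autoImplicit false
open Cfsg
open Cfsg.Lie Cfsg.Agent.Chev54 Cfsg.Agent.ChevGroup Cfsg.Agent.ChevCore

namespace Cfsg.Agent.S2182

/-- The twisted group ²E₆(q), q even, realised inside the Chevalley group of type E₆ over the field K with q² elements, has exactly three conjugacy classes of elements of order 2. -/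
theorem result {K : Type*} [Field K] [Fintype K] [CharP K 2] (q : ℕ) (hK : Fintype.card K = q ^ 2) :
    (ConjClasses.mk '' {g : ↥(Cfsg.Lie.twistedE6 K q) | orderOf g = 2}).ncard = 3 := by
  classical
  obtain ⟨sg, T⟩ := exists_tw6 (F := K) hK
  have hU := uGoodE6
  have hC := hU.toCommGood
  set Rs : List (List ℕ) := [[71], [71, 60], [71, 60, 44]] with hRs
  have hX : repsB chevE6 Rs [rkTwE6_0, rkTwE6_1, rkTwE6_2] = true := by
    simp only [Rs, repsB, List.all_cons, List.all_nil, rkTwE6_0_ok, rkTwE6_1_ok, rkTwE6_2_ok, Bool.true_and]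
    decide +kernel
  have hroots : ∀ L ∈ Rs, ∀ r ∈ L, r < 72 ∧ rho6 r = r ∧ 1 ≤ ht chevE6 r := by decide +kernel
  have hmem : ∀ j < Rs.length, w1 chevE6 K (Rs.getD j []) ∈ twistedE6 K q := by
    intro j hj
    have hL : Rs.getD j [] ∈ Rs := by
      rw [List.getD_eq_getElem _ _ hj]; exact List.getElem_mem hj
    have key : ∀ L : List ℕ, (∀ r ∈ L, r < 72 ∧ rho6 r = r ∧ 1 ≤ ht chevE6 r) →
        w1 chevE6 K L ∈ twistedE6 K q := by
      intro L hL
      induction L with
      | nil => rw [w1_nil]; exact one_mem _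
      | cons a L ih =>
        rw [w1_cons]
        obtain ⟨h1, h2, h3⟩ := hL a (List.mem_cons_self ..)
        refine mul_mem (mem6 T (xg_mem_XS (nroots_E6.symm ▸ h1) (show (1 : ℤ) ≤ ht chevE6 a from h3) _) ?_)
          (ih fun r hr => hL r (List.mem_cons_of_mem _ hr))
        rw [T.sg_x a h1, h2, one_pow]
    exact key _ (hroots _ hL)
  let y : Fin Rs.length → ↥(twistedE6 K q) := fun j => ⟨w1 chevE6 K (Rs.getD j.val []), hmem j.val j.isLt⟩
  have hord : ∀ g : ↥(twistedE6 K q), orderOf g = orderOf (g : GL chevE6.Idx K) := fun g =>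
    (orderOf_injective (twistedE6 K q).subtype Subtype.coe_injective g).symm
  have heq : ConjClasses.mk '' {g : ↥(twistedE6 K q) | orderOf g = 2} =
      Set.range fun j => ConjClasses.mk (y j) := by
    ext c
    constructor
    · rintro ⟨g, hg, rfl⟩
      obtain ⟨L, hL, x, hx, e⟩ := exists_rep6 T g.2 (by rw [← hord]; exact hg)
      obtain ⟨j, hj, rfl⟩ := List.getElem_of_mem hL
      refine ⟨⟨j, hj⟩, ConjClasses.mk_eq_mk_iff_isConj.2 (IsConj.symm (isConj_iff.2 ⟨⟨x, hx⟩, Subtype.ext ?_⟩))⟩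
      refine e.trans ?_
      show w1 chevE6 K _ = w1 chevE6 K (Rs.getD j [])
      rw [List.getD_eq_getElem _ _ hj]
    · rintro ⟨j, rfl⟩
      refine ⟨y j, ?_, rfl⟩
      rw [Set.mem_setOf_eq, hord]
      exact (rep_facts hU hX j.isLt).2.1
  rw [heq, Set.ncard_range_of_injective, Nat.card_fin]
  · rfl
  intro i j h
  obtain ⟨x, hx⟩ := isConj_iff.1 (ConjClasses.mk_eq_mk_iff_isConj.1 h)
  exact Fin.ext (inj_of_ranks hU hX (by decide +kernel) i.isLt j.isLt ⟨x, T.le x.2, congrArg Subtype.val hx⟩)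

end Cfsg.Agent.S2182
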