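import Cfsg.Statements.S2183
import Cfsg.Agent.Chev54.TrialityInv
import Cfsg.Agent.Chev54.InvRankD4
import Cfsg.Agent.Lib.ChevCore.SepAll

set_option autoImplicit false
open Cfsg
open Cfsg.Lie Cfsg.Agent.Chev54 Cfsg.Agent.ChevGroup Cfsg.Agent.ChevCore

namespace Cfsg.Agent.S2183

/-- The twisted group ³D₄(q), q even, realised inside the Chevalley group of type D₄ over the field K with q³ elements, has exactly two conjugacy classes of elements of order 2. -/
theorem result {K : Type*} [Field K] [Fintype K] [CharP K 2] (q : ℕ) (hK : Fintype.card K = q ^ 3) :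
    (ConjClasses.mk '' {g : ↥(Cfsg.Lie.twistedD4 K q) | orderOf g = 2}).ncard = 2 := by
  classical
  obtain ⟨hq, -, sg, T⟩ := exists_tri4 (F := K) hK
  have hU := uGoodD4
  have hX : repsB chevD4 [[18, 13, 12], [14]] [rkD4_0, rkD4_1] = true := by
    simp only [repsB, List.all_cons, List.all_nil, rkD4_0_ok, rkD4_1_ok, Bool.true_and]
    decide +kernel
  have hS := rep_facts (F := K) hU hX (j := 0) (by simp)
  have hL := rep_facts (F := K) hU hX (j := 1) (by simp)
  have hne : ¬ Cj chevD4 K (repS4 K) (repL4 K) := fun hc => by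
    have h : (0 : ℕ) = 1 := inj_of_ranks hU hX (by decide +kernel) (i := 0) (j := 1) (by simp) (by simp) hc
    exact absurd h (by norm_num)
  have hG := hU.toCommGood.toGood
  have hw : ∀ L : List ℕ, (∀ r ∈ L, r ∈ ([18, 14, 13, 12] : List ℕ)) → w1 chevD4 K L ∈ U4 K 1 := by
    intro L hL
    induction L with
    | nil => rw [w1_nil]; exact one_mem _
    | cons a L ih =>
      rw [w1_cons]
      exact mul_mem (one_u4 (hL a (List.mem_cons_self ..)) 1) (ih fun r hr => hL r (List.mem_cons_of_mem _ hr))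
  have hSmem : repS4 K ∈ twistedD4 K q := by
    refine mem_of_sg T (hw _ (by simp)) ?_
    have h := sg_tri T (1 : K) (by simp)
    simpa [repS4, w1_cons, w1_nil] using h
  have hLmem : repL4 K ∈ twistedD4 K q := by
    refine mem_of_sg T (hw _ (by simp)) ?_
    rw [repL4, w1_cons, w1_nil, mul_one, T.sg_x 14 (by norm_num), one_pow]
    rw [show rho4 14 = 14 from rfl]
  let y : Bool → ↥(twistedD4 K q) := fun b => bif b then ⟨_, hSmem⟩ else ⟨_, hLmem⟩
  have hord : ∀ g : ↥(twistedD4 K q), orderOf g = orderOf (g : GL chevD4.Idx K) := fun g =>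
    (orderOf_injective (twistedD4 K q).subtype Subtype.coe_injective g).symm
  have hy2 : ∀ b, orderOf (y b) = 2 := by
    intro b
    rw [hord]
    cases b
    · exact hL.2.1
    · exact hS.2.1
  have key : ∀ (g : ↥(twistedD4 K q)) (b : Bool),
      CjS (twistedD4 K q) (g : GL chevD4.Idx K) (y b : GL chevD4.Idx K) → IsConj g (y b) :=
    fun g b ⟨x, hx, e⟩ => isConj_iff.2 ⟨⟨x, hx⟩, Subtype.ext e⟩
  have heq : ConjClasses.mk '' {g : ↥(twistedD4 K q) | orderOf g = 2} =
      Set.range fun b => ConjClasses.mk (y b) := by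
    ext c
    constructor
    · rintro ⟨g, hg, rfl⟩
      rcases exists_rep4 T hK g.2 (by rw [← hord]; exact hg) with h | h
      · exact ⟨true, ConjClasses.mk_eq_mk_iff_isConj.2 (key g true h).symm⟩
      · exact ⟨false, ConjClasses.mk_eq_mk_iff_isConj.2 (key g false h).symm⟩
    · rintro ⟨b, rfl⟩
      exact ⟨y b, hy2 b, rfl⟩
  have hneq : ¬ IsConj (y true) (y false) := fun h => by
    obtain ⟨x, hx⟩ := isConj_iff.1 h
    exact hne ⟨x, T.le x.2, congrArg Subtype.val hx⟩
  rw [heq, Set.ncard_range_of_injective, Nat.card_eq_fintype_card, Fintype.card_bool]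
  intro b b' h
  have h' := ConjClasses.mk_eq_mk_iff_isConj.1 h
  cases b <;> cases b'
  · rfl
  · exact absurd h'.symm hneq
  · exact absurd h' hneq
  · rfl

end Cfsg.Agent.S2183
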