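import Cfsg.Statements.S2184
import Cfsg.Agent.Twisted.F4BT.TitsClasses

set_option autoImplicit false
set_option maxRecDepth 4000
open Cfsg

namespace Cfsg.Agent.S2184

theorem ncard_two {G : Type*} [Group G] (a b : G) (ha : orderOf a = 2) (hb : orderOf b = 2)
    (hne : ¬ IsConj a b) (h : ∀ x : G, orderOf x = 2 → IsConj x a ∨ IsConj x b) :
    (ConjClasses.mk '' {g : G | orderOf g = 2}).ncard = 2 := by
  have e : ConjClasses.mk '' {g : G | orderOf g = 2} = {ConjClasses.mk a, ConjClasses.mk b} := by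
    ext c
    constructor
    · rintro ⟨x, hx, rfl⟩
      rcases h x hx with h | h
      · exact Or.inl (ConjClasses.mk_eq_mk_iff_isConj.2 h)
      · exact Or.inr (ConjClasses.mk_eq_mk_iff_isConj.2 h)
    · rintro (rfl | rfl)
      exacts [⟨a, ha, rfl⟩, ⟨b, hb, rfl⟩]
  rw [e]
  exact Set.ncard_pair fun h => hne (ConjClasses.mk_eq_mk_iff_isConj.1 h)

theorem transfer {A B : Type*} [Group A] [Group B] (e : A ≃* B) {a b : A} (ha : a * a = 1) (ha1 : a ≠ 1)
    (hb : b * b = 1) (hb1 : b ≠ 1) (hne : ∀ c : A, c * a * c⁻¹ ≠ b)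
    (h : ∀ x : A, x * x = 1 → x ≠ 1 → (∃ c : A, c * x * c⁻¹ = a) ∨ ∃ c : A, c * x * c⁻¹ = b) :
    (ConjClasses.mk '' {g : B | orderOf g = 2}).ncard = 2 := by
  haveI : Fact (Nat.Prime 2) := ⟨Nat.prime_two⟩
  have ord : ∀ x : A, x * x = 1 → x ≠ 1 → orderOf (e x) = 2 := fun x h2 h1 =>
    (MulEquiv.orderOf_eq e x).trans (orderOf_eq_prime (by rwa [pow_two]) h1)
  refine ncard_two (e a) (e b) (ord a ha ha1) (ord b hb hb1) ?_ ?_
  · intro hc
    obtain ⟨c, hc⟩ := isConj_iff.1 hc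
    exact hne (e.symm c) (e.injective (by simpa using hc))
  · intro x hx
    obtain ⟨y, rfl⟩ := e.surjective x
    rw [MulEquiv.orderOf_eq] at hx
    have h2 : y * y = 1 := by
      have := pow_orderOf_eq_one y
      rwa [hx, pow_two] at this
    have h1 : y ≠ 1 := fun h => by simp [h] at hx
    exact (h y h2 h1).imp (fun ⟨c, hc⟩ => isConj_iff.2 ⟨e c, by rw [← hc]; simp⟩)
      fun ⟨c, hc⟩ => isConj_iff.2 ⟨e c, by rw [← hc]; simp⟩

theorem transfer_derived {A B : Type*} [Group A] [Group B] (e : A ≃* B)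
    (hinv : ∀ g : A, g * g = 1 → g ∈ commutator A) {a b : A} (ha : a * a = 1) (ha1 : a ≠ 1)
    (hb : b * b = 1) (hb1 : b ≠ 1) (hne : ∀ c : A, c * a * c⁻¹ ≠ b)
    (h : ∀ x : A, x * x = 1 → x ≠ 1 →
      (∃ c ∈ commutator A, c * x * c⁻¹ = a) ∨ ∃ c ∈ commutator A, c * x * c⁻¹ = b) :
    (ConjClasses.mk '' {g : ↥(commutator B) | orderOf g = 2}).ncard = 2 := by
  have hm : Subgroup.map e.toMonoidHom (commutator A) = commutator B := by
    rw [commutator_def, Subgroup.map_commutator, Subgroup.map_top_of_surjective _ e.surjective]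
    rfl
  refine transfer (A := ↥(commutator A)) ((e.subgroupMap (commutator A)).trans (MulEquiv.subgroupCongr hm))
    (a := ⟨a, hinv a ha⟩) (b := ⟨b, hinv b hb⟩) (Subtype.ext ha)
    (fun hh => ha1 (congrArg Subtype.val hh)) (Subtype.ext hb) (fun hh => hb1 (congrArg Subtype.val hh))
    (fun c hc => hne c (congrArg Subtype.val hc)) ?_
  intro x h2 h1
  exact (h x (congrArg Subtype.val h2) fun hh => h1 (Subtype.ext hh)).imp
    (fun ⟨c, hc, he⟩ => ⟨⟨c, hc⟩, Subtype.ext he⟩) fun ⟨c, hc, he⟩ => ⟨⟨c, hc⟩, Subtype.ext he⟩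

/-- The twisted group ²F₄(q), q = 2^(2m+1) with m ≥ 0 (realised inside the Chevalley group of type F₄ over the field K with q elements, θ the 2^m-th power map), has exactly two conjugacy classes of elements of order 2; and so does the Tits group, the commutator subgroup of ²F₄(2). -/
theorem result {K : Type*} [Field K] [Fintype K] (m : ℕ) (hK : Fintype.card K = 2 ^ (2 * m + 1)) :
    (ConjClasses.mk '' {g : ↥(Cfsg.Lie.twistedF4 K (2 ^ m)) | orderOf g = 2}).ncard = 2 ∧ (ConjClasses.mk '' {g : Cfsg.Lie.TitsGroup | orderOf g = 2}).ncard = 2 := by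
  refine ⟨?_, ?_⟩
  · obtain ⟨a, b, -, -, ha, ha1, hb, hb1, hne, h⟩ :=
      Agent.Twisted.TypeF4.invol_reps (Agent.Twisted.TypeF4.frame₀ (F := K) (m := m) hK) hK
    exact transfer (Agent.Twisted.genEquiv Agent.Twisted.TypeF4.MT
      (Agent.ChevGroup.relsOfCommGood Agent.ChevCore.commGoodF4 K) (Cfsg.Lie.f4Words K (2 ^ m)))
      ha ha1 hb hb1 hne h
  · obtain ⟨a, b, va, vb, ha, ha1, hb, hb1, hne, h⟩ :=
      Agent.Twisted.TypeF4.invol_reps (m := 0) Agent.Twisted.Tits.fr Agent.Twisted.Tits.card_two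
    let e : ↥(Agent.Twisted.genG Agent.Twisted.TypeF4.MT
        (Agent.ChevGroup.relsOfCommGood Agent.ChevCore.commGoodF4 (ZMod 2))
        (Cfsg.Lie.f4Words (ZMod 2) (2 ^ 0))) ≃* ↥(Cfsg.Lie.twistedF4 (ZMod 2) 1) :=
      Agent.Twisted.genEquiv Agent.Twisted.TypeF4.MT
        (Agent.ChevGroup.relsOfCommGood Agent.ChevCore.commGoodF4 (ZMod 2))
        (Cfsg.Lie.f4Words (ZMod 2) (2 ^ 0))
    refine transfer_derived (A := ↥(Agent.Twisted.genG Agent.Twisted.TypeF4.MT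
        (Agent.ChevGroup.relsOfCommGood Agent.ChevCore.commGoodF4 (ZMod 2))
        (Cfsg.Lie.f4Words (ZMod 2) (2 ^ 0)))) (B := ↥(Cfsg.Lie.twistedF4 (ZMod 2) 1)) e
      Agent.Twisted.Tits.involution_mem ha ha1 hb hb1 hne ?_
    intro x h2 h1
    rcases h x h2 h1 with ⟨c, hc⟩ | ⟨c, hc⟩
    · exact Or.inl (Agent.Twisted.Tits.derived_conj' hc (Or.inl va))
    · exact Or.inr (Agent.Twisted.Tits.derived_conj' hc (Or.inr vb))

end Cfsg.Agent.S2184
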