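import Cfsg.Statements.S2185
import Cfsg.Agent.Twisted.Tits.Main

set_option autoImplicit false
open Cfsg

namespace Cfsg.Agent.S2185

/-- In the group ²F₄(2) (realised inside the Chevalley group of type F₄ over the field with two elements, θ the identity) every element of order 2 lies in the commutator subgroup (the Tits group, of index 2): there are no involutions outside it. -/
theorem result (g : ↥(Cfsg.Lie.twistedF4 (ZMod 2) 1)) (hg : orderOf g = 2) :
    g ∈ commutator ↥(Cfsg.Lie.twistedF4 (ZMod 2) 1) := by
  let e : ↥(Agent.Twisted.genG Agent.Twisted.TypeF4.MT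
      (Agent.ChevGroup.relsOfCommGood Agent.ChevCore.commGoodF4 (ZMod 2)) (Cfsg.Lie.f4Words (ZMod 2) (2 ^ 0))) ≃*
      ↥(Cfsg.Lie.twistedF4 (ZMod 2) 1) := Agent.Twisted.genEquiv Agent.Twisted.TypeF4.MT
    (Agent.ChevGroup.relsOfCommGood Agent.ChevCore.commGoodF4 (ZMod 2)) (Cfsg.Lie.f4Words (ZMod 2) (2 ^ 0))
  have h2 : g * g = 1 := by
    have := pow_orderOf_eq_one g
    rwa [hg, pow_two] at this
  have h := Agent.Twisted.Tits.involution_mem (e.symm g) (by rw [← map_mul, h2, map_one])
  have h' := Subgroup.mem_map_of_mem e.toMonoidHom h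
  have hmap : Subgroup.map e.toMonoidHom (commutator _) = commutator _ := by
    rw [commutator_def, Subgroup.map_commutator, Subgroup.map_top_of_surjective _ e.surjective]
    rfl
  rw [hmap] at h'
  have e' : e.toMonoidHom (e.symm g) = g := e.apply_symm_apply g
  exact e' ▸ h'

end Cfsg.Agent.S2185
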