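import Cfsg.Statements.S2186
import Cfsg.Agent.Lib.ChevCore.CommAll
import Cfsg.Agent.Chev54.EvenCert
import Cfsg.Agent.Chev54.HighPairCert

set_option autoImplicit false
open Cfsg
open Cfsg.Agent.Chev54 Cfsg.Agent.ChevGroup Cfsg.Agent.ChevCore

namespace Cfsg.Agent.S2186

/-- Let G be the Chevalley group of type G₂ (over a field with at least four elements), D₄, E₆, E₇ or E₈ over a finite field F of characteristic two, and let X be the root subgroup of the highest root (the last root index) — a long root subgroup, of order |F|. For every g in G, the subgroup generated by X and its conjugate g X g⁻¹ is either a 2-group or is conjugate by an element of G to the subgroup generated by X and the root subgroup of the lowest root (index 0, the negative of the highest root), which is a copy of SL₂(F). -/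
theorem result {F : Type*} [Field F] [Fintype F] [CharP F 2] (D : Cfsg.Lie.ChevalleyDatum) (hD : D ∈ [Cfsg.Lie.chevG2, Cfsg.Lie.chevD4, Cfsg.Lie.chevE6, Cfsg.Lie.chevE7, Cfsg.Lie.chevE8]) (hF : D = Cfsg.Lie.chevG2 → 4 ≤ Fintype.card F) (g : GL D.Idx F) (hg : g ∈ D.group F) :
    IsPGroup 2 ↥(D.rootSubgroup F (D.nroots - 1) ⊔ (D.rootSubgroup F (D.nroots - 1)).map (MulAut.conj g).toMonoidHom) ∨
    ∃ h ∈ D.group F, (D.rootSubgroup F (D.nroots - 1) ⊔ (D.rootSubgroup F (D.nroots - 1)).map (MulAut.conj g).toMonoidHom).map (MulAut.conj h).toMonoidHom = D.rootSubgroup F (D.nroots - 1) ⊔ D.rootSubgroup F 0 := by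
  simp only [List.mem_cons, List.not_mem_nil, or_false] at hD
  rcases hD with rfl | rfl | rfl | rfl | rfl
  · exact high_pair TypeG2.model (rels commGoodG2 F) TypeG2.wit_ok TypeG2.longest_ok TypeG2.pos_span
      movesBG2 (x_comm_pos commGoodG2 F TypeG2.model (by decide) even_G2) hg
  · exact high_pair TypeD4.model (rels commGoodD4 F) TypeD4.wit_ok TypeD4.longest_ok TypeD4.pos_span
      movesBD4 (x_comm_pos commGoodD4 F TypeD4.model (by decide) even_D4) hg
  · exact high_pair TypeE6.model (rels commGoodE6 F) TypeE6.wit_ok TypeE6.longest_ok TypeE6.pos_span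
      movesBE6 (x_comm_pos commGoodE6 F TypeE6.model (by decide) even_E6) hg
  · exact high_pair TypeE7.model (rels commGoodE7 F) TypeE7.wit_ok TypeE7.longest_ok TypeE7.pos_span
      movesBE7 (x_comm_pos commGoodE7 F TypeE7.model (by decide) even_E7) hg
  · exact high_pair TypeE8.model (rels commGoodE8 F) TypeE8.wit_ok TypeE8.longest_ok TypeE8.pos_span
      movesBE8 (x_comm_pos commGoodE8 F TypeE8.model (by decide) even_E8) hg

end Cfsg.Agent.S2186
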