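import Cfsg.Statements.S2189
import Cfsg.Agent.Chev54.SubMain

set_option autoImplicit false
open Cfsg Cfsg.Lie Cfsg.Agent.ChevCore Cfsg.Agent.Chev54

namespace Cfsg.Agent.S2189

/-- Finite subgroups of an adjoint Chevalley group over an algebraically closed field that contain the group over a finite subfield. Let k be an algebraically closed field of prime characteristic p, G the Chevalley group of type G₂, B₂, D₄, F₄, E₆, E₇ or E₈ over k (the matrix group generated by the root elements x_s(t), t ∈ k), and q = p^a with a ≥ 1. Let L be the subgroup generated by the root elements x_s(t) with t^q = t (the Chevalley group over the field of q elements inside G), and let M be a finite subgroup of G containing L. Then for some r ≥ 1, M contains every root element x_s(t) with t^(q^r) = t and every element of M is a matrix all of whose entries c satisfy c^(q^r) = c (so M lies between the Chevalley group over the field with q^r elements and the group of points of G fixed by the q^r-th power map). -/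
theorem result {k : Type*} [Field k] [IsAlgClosed k] (p : ℕ) [Fact p.Prime] [CharP k p] (D : Cfsg.Lie.ChevalleyDatum) (hD : D ∈ [Cfsg.Lie.chevG2, Cfsg.Lie.chevB2, Cfsg.Lie.chevD4, Cfsg.Lie.chevF4, Cfsg.Lie.chevE6, Cfsg.Lie.chevE7, Cfsg.Lie.chevE8]) (a : ℕ) (ha : 1 ≤ a) (M : Subgroup (GL D.Idx k)) (hMfin : Finite ↥M) (hMG : M ≤ D.group k)
    (hLM : Subgroup.closure {g : GL D.Idx k | ∃ (s : ℕ) (t : k), t ^ (p ^ a) = t ∧ (g : Matrix D.Idx D.Idx k) = D.x k s t} ≤ M) :
    ∃ r : ℕ, 1 ≤ r ∧ Subgroup.closure {g : GL D.Idx k | ∃ (s : ℕ) (t : k), t ^ ((p ^ a) ^ r) = t ∧ (g : Matrix D.Idx D.Idx k) = D.x k s t} ≤ M ∧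
      ∀ g ∈ M, ∀ i j : D.Idx, ((g : Matrix D.Idx D.Idx k) i j) ^ ((p ^ a) ^ r) = (g : Matrix D.Idx D.Idx k) i j := by
  classical
  have hG := good_of_mem hD
  have hone : ∀ r, r < D.nroots → xg D k r (1 : k) ∈ M := fun r _ =>
    hLM (Subgroup.subset_closure ⟨r, 1, one_pow _, hG.val_xg r 1⟩)
  obtain ⟨L, hLf, m, hcard, hpar, hfix, hent⟩ :=
    Sub.exists_field_bounds p (H := M) ⟨hD, hMG, hMfin, hone⟩
  -- the field with `p ^ a` elements lies in `L`
  letI : Algebra (ZMod p) k := ZMod.algebra k p
  let ι : GaloisField p a →+* k := (IsAlgClosed.lift : GaloisField p a →ₐ[ZMod p] k).toRingHom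
  have hq : Nat.card (GaloisField p a) = p ^ a := GaloisField.card p a (by omega)
  letI : Fintype (GaloisField p a) := Fintype.ofFinite _
  have hιL : ∀ x, ι x ∈ L := fun x => by
    have h0 : ∃ r, r < D.nroots := ⟨D.simple 0, hG.simple_lt hG.rank_pos⟩
    obtain ⟨r, hr⟩ := h0
    refine (hpar r hr (ι x)).1 (hLM (Subgroup.subset_closure ⟨r, ι x, ?_, hG.val_xg r _⟩))
    rw [← map_pow, ← hq, Nat.card_eq_fintype_card, FiniteField.pow_card]
  letI : Algebra (GaloisField p a) L := (ι.codRestrict L hιL).toAlgebra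
  have hr := Module.card_eq_pow_finrank (K := GaloisField p a) (V := L)
  rw [hcard, ← Nat.card_eq_fintype_card, hq] at hr
  refine ⟨Module.finrank (GaloisField p a) L, Module.finrank_pos, ?_, fun g hg i j => ?_⟩
  · rw [Subgroup.closure_le]
    rintro g ⟨s, t, ht, e⟩
    rw [show g = xg D k s t from Units.ext (e.trans (hG.val_xg s t).symm)]
    by_cases hs : s < D.nroots
    · refine (hpar s hs t).2 ((hfix t).1 ?_)
      rw [hr]; exact ht
    · rw [show xg D k s t = 1 from Units.ext (by rw [hG.val_xg, x_out k hs]; rfl)]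
      exact one_mem M
  · rw [← hr]
    exact hent g hg i j

end Cfsg.Agent.S2189
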