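import Cfsg.Statements.S2191
import Cfsg.Agent.E6Sub.Main

set_option autoImplicit false
open Cfsg

namespace Cfsg.Agent.S2191

/-- In the twisted group ²E₆(q), realised inside the Chevalley group of type E₆ over the field K with q² elements (q a power of the characteristic) as the subgroup generated by the root elements, and products of root elements, that the twisting map fixes, the subgroup of matrices all of whose entries lie in the subfield with q elements (entries c with c^q = c; it contains the subgroup of type F₄ over that subfield) is a proper maximal subgroup. -/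
theorem result {K : Type*} [Field K] [Fintype K] (p : ℕ) [Fact p.Prime] [CharP K p] (q : ℕ) (hq : ∃ a : ℕ, 1 ≤ a ∧ q = p ^ a) (hK : Fintype.card K = q ^ 2) (M : Subgroup (GL Cfsg.Lie.chevE6.Idx K))
    (hM : ∀ g : GL Cfsg.Lie.chevE6.Idx K, g ∈ M ↔ g ∈ Cfsg.Lie.twistedE6 K q ∧ ∀ i j : Cfsg.Lie.chevE6.Idx, ((g : Matrix Cfsg.Lie.chevE6.Idx Cfsg.Lie.chevE6.Idx K) i j) ^ q = (g : Matrix Cfsg.Lie.chevE6.Idx Cfsg.Lie.chevE6.Idx K) i j) :
    M ≠ Cfsg.Lie.twistedE6 K q ∧ ∀ H : Subgroup (GL Cfsg.Lie.chevE6.Idx K), M ≤ H → H ≤ Cfsg.Lie.twistedE6 K q → H = M ∨ H = Cfsg.Lie.twistedE6 K q := by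
  obtain ⟨a, ha, rfl⟩ := hq
  have hqp : IsPrimePow (p ^ a) := (Fact.out : p.Prime).isPrimePow.pow (by omega)
  let C : Cfsg.Agent.E6Sub.Cq K := ⟨p ^ a, hqp, hK⟩
  let s := (Cfsg.Lie.chevE6.group K).subtype
  have hG : C.G1.map s = Cfsg.Lie.twistedE6 K (p ^ a) :=
    Cfsg.Agent.Twisted.genG_map (Cfsg.Lie.e6Words K (p ^ a))
  have hphi : ∀ g : ↥(Cfsg.Lie.chevE6.group K), C.phi g = g ↔
      ∀ i j, ((g : GL Cfsg.Lie.chevE6.Idx K) : Matrix Cfsg.Lie.chevE6.Idx Cfsg.Lie.chevE6.Idx K) i j ^ (p ^ a) =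
        ((g : GL Cfsg.Lie.chevE6.Idx K) : Matrix Cfsg.Lie.chevE6.Idx Cfsg.Lie.chevE6.Idx K) i j := by
    intro g
    constructor
    · intro h i j
      exact congrArg (fun x : ↥(Cfsg.Lie.chevE6.group K) =>
        ((x : GL Cfsg.Lie.chevE6.Idx K) : Matrix Cfsg.Lie.chevE6.Idx Cfsg.Lie.chevE6.Idx K) i j) h
    · intro h
      exact Subtype.ext (Units.ext (Matrix.ext h))
  have hMM : M = C.M.map s := by
    refine SetLike.ext fun g => ?_
    rw [hM g, ← hG]
    constructor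
    · rintro ⟨⟨x, hx, rfl⟩, h⟩
      exact ⟨x, C.mem_M.2 ⟨hx, (hphi x).2 h⟩, rfl⟩
    · rintro ⟨x, hx, rfl⟩
      exact ⟨⟨x, (C.mem_M.1 hx).1, rfl⟩, (hphi x).1 (C.mem_M.1 hx).2⟩
  have hinj : Function.Injective s := Subtype.coe_injective
  subst hMM
  rw [← hG]
  refine ⟨fun h => C.M_ne (Subgroup.map_injective hinj h), fun H hMH hH1 => ?_⟩
  have hHe : (H.comap s).map s = H :=
    Subgroup.map_comap_eq_self (hH1.trans (by rintro _ ⟨x, -, rfl⟩; exact ⟨x, rfl⟩))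
  have hmid : C.Mid (H.comap s) := ⟨fun x hx => hMH ⟨x, hx, rfl⟩, fun x hx => by
    obtain ⟨y, hy, e⟩ := hH1 hx
    exact hinj e ▸ hy⟩
  by_cases hne : H.comap s = C.G1
  · right; rw [← hHe, hne]
  · left; rw [← hHe, hmid.eq_M hne]

end Cfsg.Agent.S2191
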