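import Cfsg.Statements.S2192
import Cfsg.Agent.D4SubMax.Main

set_option autoImplicit false
open Cfsg

namespace Cfsg.Agent.S2192

/-- In the twisted group ³D₄(q), realised inside the Chevalley group of type D₄ over the field K with q³ elements (q a power of the characteristic) as the subgroup generated by the root elements, and products of root elements, that the twisting map fixes, the subgroup of matrices all of whose entries lie in the subfield with q elements (it contains the subgroup of type G₂ over that subfield) is a proper maximal subgroup. -/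
theorem result {K : Type*} [Field K] [Fintype K] (p : ℕ) [Fact p.Prime] [CharP K p] (q : ℕ) (hq : ∃ a : ℕ, 1 ≤ a ∧ q = p ^ a) (hK : Fintype.card K = q ^ 3) (M : Subgroup (GL Cfsg.Lie.chevD4.Idx K))
    (hM : ∀ g : GL Cfsg.Lie.chevD4.Idx K, g ∈ M ↔ g ∈ Cfsg.Lie.twistedD4 K q ∧ ∀ i j : Cfsg.Lie.chevD4.Idx, ((g : Matrix Cfsg.Lie.chevD4.Idx Cfsg.Lie.chevD4.Idx K) i j) ^ q = (g : Matrix Cfsg.Lie.chevD4.Idx Cfsg.Lie.chevD4.Idx K) i j) :
    M ≠ Cfsg.Lie.twistedD4 K q ∧ ∀ H : Subgroup (GL Cfsg.Lie.chevD4.Idx K), M ≤ H → H ≤ Cfsg.Lie.twistedD4 K q → H = M ∨ H = Cfsg.Lie.twistedD4 K q := by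
  classical
  have hq' : IsPrimePow q := by
    obtain ⟨a, ha, rfl⟩ := hq
    exact ⟨p, a, (Fact.out : p.Prime).prime, ha, rfl⟩
  obtain ⟨C⟩ := D4SubMax.exists_ctx (F := K) hq' hK
  have hmem : ∀ g, g ∈ M ↔ g ∈ C.S ∧ C.phi g = g := fun g => by rw [hM, C.phi_eq, C.S_eq]
  rw [← C.S_eq]
  refine ⟨fun e => ?_, fun H hMH hHS => ?_⟩
  · obtain ⟨t, ht⟩ : ∃ t : K, t ^ q ≠ t := by
      by_contra h
      simp only [not_exists, not_not] at h
      have h1 := Cfsg.Agent.Twisted.card_fixed_pow (F := K) hq'.one_lt hK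
      rw [Nat.card_congr (Equiv.subtypeUnivEquiv h), Nat.card_eq_fintype_card, hK] at h1
      have h2 := Nat.pow_lt_pow_right hq'.one_lt (show 1 < 3 by norm_num)
      rw [pow_one, h1] at h2
      exact lt_irrefl _ h2
    have h := ((hmem _).1 (e ▸ C.XA_mem t)).2
    rw [C.phi_XA] at h
    exact ht (C.XA_inj h)
  · have hM' : ∀ g ∈ C.S, C.phi g = g → g ∈ H := fun g h1 h2 => hMH ((hmem g).2 ⟨h1, h2⟩)
    by_cases hU : ∀ y ∈ H, y ∈ D4SubMax.Um K 1 → C.phi y = y
    · exact Or.inl (le_antisymm (fun g hg => (hmem g).2 ⟨hHS hg, C.all_fix hHS hM' hU hg⟩) hMH)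
    · simp only [not_forall] at hU
      obtain ⟨y, hy, hyU, hyφ⟩ := hU
      exact Or.inr (C.eq_top_of_unipotent hHS hM' hy hyU hyφ)

end Cfsg.Agent.S2192
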