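import Cfsg.Statements.S2197
import Cfsg.Agent.ChevGroup.Tits.TitsData
-- import your own Cfsg.Agent.* helpers here

set_option autoImplicit false
set_option maxRecDepth 4000
set_option maxHeartbeats 400000
open Cfsg

namespace Cfsg.Agent.S2197

/-- The Tits group (the commutator subgroup of ²F₄(2)) has no faithful 2-transitive action on a finite set with more than two points. -/
theorem result {Ω : Type*} [Fintype Ω] [MulAction Cfsg.Lie.TitsGroup Ω] [FaithfulSMul Cfsg.Lie.TitsGroup Ω] (hΩ : 3 ≤ Fintype.card Ω) :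
    ¬ MulAction.IsMultiplyPretransitive Cfsg.Lie.TitsGroup Ω 2 := by
  let e : ↥(Agent.Twisted.genG Agent.Twisted.TypeF4.MT
      (Agent.ChevGroup.relsOfCommGood Agent.ChevCore.commGoodF4 (ZMod 2)) (Cfsg.Lie.f4Words (ZMod 2) (2 ^ 0))) ≃*
      ↥(Cfsg.Lie.twistedF4 (ZMod 2) 1) := Agent.Twisted.genEquiv Agent.Twisted.TypeF4.MT
    (Agent.ChevGroup.relsOfCommGood Agent.ChevCore.commGoodF4 (ZMod 2)) (Cfsg.Lie.f4Words (ZMod 2) (2 ^ 0))
  exact ChevGroup.TitsIdx.no_two_trans_equiv e (P := ChevGroup.TitsIdx.TG) ChevGroup.TitsIdx.TG_eq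
    (fun h => ChevGroup.TitsIdx.no_two_trans_TG h) hΩ

end Cfsg.Agent.S2197
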