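import Cfsg.Statements.S2214
import Cfsg.Agent.Chev54.Subfield
import Cfsg.Agent.Chev54.RecipeCert

set_option autoImplicit false
open Cfsg
open Cfsg.Agent.Chev54 Cfsg.Agent.ChevGroup Cfsg.Agent.ChevCore

namespace Cfsg.Agent.S2214

/-- Let k be an algebraically closed field of prime characteristic p, G the adjoint Chevalley group of type G₂, B₂, D₄, F₄, E₆, E₇ or E₈ over k (the matrix group generated by the root elements x_s(t), t ∈ k, acting on the Lie algebra), q = p^a with a ≥ 1, and K a subgroup of G containing every root element x_s(t) with t^q = t and consisting of matrices all of whose entries c satisfy c^q = c. Then the centralizer of K in G is trivial, and the normalizer of K in G is exactly the set of elements of G all of whose entries c satisfy c^q = c. -/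
theorem result {k : Type*} [Field k] [IsAlgClosed k] (p : ℕ) [Fact p.Prime] [CharP k p] (D : Cfsg.Lie.ChevalleyDatum) (hD : D ∈ [Cfsg.Lie.chevG2, Cfsg.Lie.chevB2, Cfsg.Lie.chevD4, Cfsg.Lie.chevF4, Cfsg.Lie.chevE6, Cfsg.Lie.chevE7, Cfsg.Lie.chevE8]) (a : ℕ) (ha : 1 ≤ a) (K : Subgroup (GL D.Idx k)) (hKG : K ≤ D.group k)
    (hLK : Subgroup.closure {g : GL D.Idx k | ∃ (s : ℕ) (t : k), t ^ (p ^ a) = t ∧ (g : Matrix D.Idx D.Idx k) = D.x k s t} ≤ K)
    (hKfix : ∀ g ∈ K, ∀ i j : D.Idx, ((g : Matrix D.Idx D.Idx k) i j) ^ (p ^ a) = (g : Matrix D.Idx D.Idx k) i j) :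
    D.group k ⊓ Subgroup.centralizer (K : Set (GL D.Idx k)) = ⊥ ∧
    ∀ g : GL D.Idx k, g ∈ D.group k → (g ∈ Subgroup.normalizer (K : Set (GL D.Idx k)) ↔ ∀ i j : D.Idx, ((g : Matrix D.Idx D.Idx k) i j) ^ (p ^ a) = (g : Matrix D.Idx D.Idx k) i j) := by
  obtain ⟨P⟩ := pack_of_mem hD
  have hG := P.comm.toGood
  have hcentr : ∀ c : GL D.Idx k, c ∈ D.group k → (∀ x ∈ K, c * x = x * c) → c = 1 := fun c hc hcK =>
    eq_one_of_commute hD c hc fun s _ g hg =>
      hcK g (hLK (Subgroup.subset_closure ⟨s, 1, one_pow _, hg⟩))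
  refine ⟨?_, fun g hg => ?_⟩
  · rw [eq_bot_iff]
    rintro c ⟨hc, hcK⟩
    exact Subgroup.mem_bot.2 (hcentr c hc fun x hx => (Subgroup.mem_centralizer_iff.1 hcK x hx).symm)
  let φ : k →+* k := iterateFrobenius k p a
  have hφ : ∀ x, φ x = x ^ p ^ a := fun x => iterateFrobenius_def p a x
  let F := frobG P.comm φ
  have hfix : ∀ x : ↥(D.group k), F x = x ↔ ∀ i j, (Model.mat x i j) ^ p ^ a = Model.mat x i j := fun x => by
    rw [frobG_eq_iff]; simp only [hφ]
  constructor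
  · intro hn
    have h := hfix ⟨g, hg⟩
    refine h.1 ?_
    have hF : (⟨g, hg⟩ : ↥(D.group k))⁻¹ * F ⟨g, hg⟩ = 1 := by
      refine Subtype.ext (hcentr _ (SetLike.coe_mem _) fun x hx => ?_)
      have hgx := (Subgroup.mem_normalizer_iff.1 hn x).1 hx
      set g' : ↥(D.group k) := ⟨g, hg⟩
      set x' : ↥(D.group k) := ⟨x, hKG hx⟩
      have e1 : F x' = x' := (hfix x').2 (hKfix x hx)
      have e2 : F (g' * x' * g'⁻¹) = g' * x' * g'⁻¹ := (hfix _).2 (hKfix _ hgx)
      rw [map_mul, map_mul, map_inv, e1] at e2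
      have e3 : g'⁻¹ * F g' * x' = x' * (g'⁻¹ * F g') := by
        calc g'⁻¹ * F g' * x' = g'⁻¹ * (F g' * x' * (F g')⁻¹) * F g' := by group
          _ = g'⁻¹ * (g' * x' * g'⁻¹) * F g' := by rw [e2]
          _ = x' * (g'⁻¹ * F g') := by group
      exact congrArg Subtype.val e3
    exact (inv_mul_eq_one.1 hF).symm
  · intro hgf
    set g' : ↥(D.group k) := ⟨g, hg⟩
    have hg' : F g' = g' := (hfix g').2 hgf
    have hLA : fixedRoots P.T P.comm φ ≤ K.subgroupOf (D.group k) := by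
      refine (Subgroup.closure_le _).2 ?_
      rintro _ ⟨r, t, ht, rfl⟩
      exact hLK (Subgroup.subset_closure ⟨r.val, t, (hφ t).symm.trans ht, rfl⟩)
    have hA : ∀ x ∈ K.subgroupOf (D.group k), F x = x := fun x hx => (hfix x).2 (hKfix _ hx)
    have hU : UGood D := uGood_of_mem hD
    have hcomm : ∀ x ∈ fixedH P.T P.comm φ, ∀ y ∈ fixedH P.T P.comm φ, x * y = y * x :=
      fun x hx y hy => H_comm P.T P.comm hx.1 hy.1
    have conj : ∀ g'' : ↥(D.group k), F g'' = g'' → ∀ x ∈ K,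
        (g'' : GL D.Idx k) * x * (g'' : GL D.Idx k)⁻¹ ∈ K := fun g'' h x hx =>
      fixed_normalizes P.T P.comm φ P.hwit P.hpos hU hcomm hLA hA h
        (a := ⟨x, hKG hx⟩) (show x ∈ K from hx)
    rw [Subgroup.mem_normalizer_iff]
    refine fun x => ⟨fun hx => conj g' hg' x hx, fun hx => ?_⟩
    have h := conj g'⁻¹ (by rw [map_inv, hg']) _ hx
    simpa [mul_assoc, g'] using h

end Cfsg.Agent.S2214
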