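import Cfsg.Statements.S2227
import Cfsg.Agent.E6Five.Main

set_option autoImplicit false
open Cfsg

namespace Cfsg.Agent.S2227

/-- In the twisted group ²E₆(2) all elements of order 5 are conjugate, and the centralizer of an element of order 5 is isomorphic to the direct product of a cyclic group of order 5 with the alternating group of degree 8. -/
theorem result {K : Type*} [Field K] [Fintype K] (hK : Fintype.card K = 4) :
    (∀ x y : ↥(Cfsg.Lie.twistedE6 K 2), orderOf x = 5 → orderOf y = 5 → IsConj x y) ∧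
      ∀ x : ↥(Cfsg.Lie.twistedE6 K 2), orderOf x = 5 →
        Nonempty (↥(Subgroup.centralizer ({x} : Set ↥(Cfsg.Lie.twistedE6 K 2))) ≃* (Multiplicative (ZMod 5) × ↥(alternatingGroup (Fin 8)))) := by
  haveI := Cfsg.Agent.E6Five.char_two hK
  obtain ⟨x₀, ho, hall, ⟨ec⟩⟩ := Cfsg.Agent.E6Five.main hK
  let e : ↥((Cfsg.Agent.E6Five.cq hK).G1) ≃* ↥(Cfsg.Lie.twistedE6 K 2) :=
    ((Cfsg.Agent.E6Five.cq hK).G1.equivMapOfInjective (Cfsg.Lie.chevE6.group K).subtype
      Subtype.coe_injective).trans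
      (MulEquiv.subgroupCongr (Cfsg.Agent.Twisted.genG_map (Cfsg.Lie.e6Words K 2)))
  have hconj : ∀ x : ↥(Cfsg.Lie.twistedE6 K 2), orderOf x = 5 → IsConj x (e x₀) := by
    intro x hx
    obtain ⟨g, rfl⟩ := e.surjective x
    obtain ⟨c, hc⟩ := isConj_iff.1 (hall g ((MulEquiv.orderOf_eq e g).symm.trans hx))
    exact isConj_iff.2 ⟨e c, by rw [← hc, map_mul, map_mul, map_inv]⟩
  refine ⟨fun x y hx hy => (hconj x hx).trans (hconj y hy).symm, fun x hx => ?_⟩
  obtain ⟨c, hc⟩ := isConj_iff.1 (hconj x hx).symm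
  let f := e.trans (MulAut.conj c)
  have hfx : f x₀ = x := hc
  have hmap : (Subgroup.centralizer ({x₀} : Set _)).map f.toMonoidHom =
      Subgroup.centralizer ({x} : Set ↥(Cfsg.Lie.twistedE6 K 2)) := by
    ext g
    obtain ⟨g, rfl⟩ := f.surjective g
    rw [Subgroup.mem_centralizer_singleton_iff]
    constructor
    · rintro ⟨g', hg', e'⟩
      rw [f.injective (show f g' = f g from e')] at hg'
      rw [← hfx, ← map_mul, ← map_mul, Subgroup.mem_centralizer_singleton_iff.1 hg']
    · intro h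
      refine ⟨g, Subgroup.mem_centralizer_singleton_iff.2 (f.injective ?_), rfl⟩
      rw [map_mul, map_mul, hfx]
      exact h
  exact ⟨((f.subgroupMap (Subgroup.centralizer {x₀})).trans (MulEquiv.subgroupCongr hmap)).symm.trans ec⟩

end Cfsg.Agent.S2227
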