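import Cfsg.Statements.S2231

set_option autoImplicit false
open Cfsg

namespace Cfsg.Agent.S2231

open Matrix

/-- If every `p`-subgroup of `G` is abelian then the same holds for every section. -/
theorem commute_of_section {G H : Type*} [Group G] [Finite G] [Group H] {p : ℕ} [Fact p.Prime]
    (hG : ∀ P : Subgroup G, IsPGroup p P → ∀ a ∈ P, ∀ b ∈ P, a * b = b * a)
    (K : Subgroup G) (π : K →* H) (hπ : Function.Surjective π) (Q : Subgroup H) (hQ : IsPGroup p Q) :
    ∀ a ∈ Q, ∀ b ∈ Q, a * b = b * a := by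
  intro a ha b hb
  have : Finite H := Finite.of_surjective π hπ
  let φ : Q.comap π →* Q := (π.comp (Q.comap π).subtype).codRestrict Q fun x => x.2
  have hφ : Function.Surjective φ := by
    intro y
    obtain ⟨x, hx⟩ := hπ y.1
    exact ⟨⟨x, by rw [Subgroup.mem_comap, hx]; exact y.2⟩, Subtype.ext hx⟩
  obtain ⟨S⟩ : Nonempty (Sylow p (Q.comap π)) := inferInstance
  have htop : ((S.mapSurjective hφ : Sylow p Q) : Subgroup Q) = ⊤ :=
    ((S.mapSurjective hφ).is_maximal' (hQ.to_subgroup ⊤) le_top).symm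
  rw [Sylow.coe_mapSurjective] at htop
  obtain ⟨x, hx, hxa⟩ : (⟨a, ha⟩ : Q) ∈ (S : Subgroup _).map φ := htop ▸ Subgroup.mem_top _
  obtain ⟨y, hy, hyb⟩ : (⟨b, hb⟩ : Q) ∈ (S : Subgroup _).map φ := htop ▸ Subgroup.mem_top _
  have hT : IsPGroup p ((S : Subgroup _).map ((K.subtype).comp (Q.comap π).subtype)) := S.2.map _
  have h := hG _ hT _ ⟨x, hx, rfl⟩ _ ⟨y, hy, rfl⟩
  have h' : x * y = y * x := Subtype.ext (Subtype.ext h)
  have := congrArg φ h'
  rw [map_mul, map_mul, hxa, hyb] at this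
  exact congrArg Subtype.val this

/-- The `p`-subgroups of `SL₂` in characteristic `p` are abelian. -/
theorem commute_sl_two {p : ℕ} [Fact p.Prime] {K : Type*} [Field K] [Fintype K] [CharP K p]
    (P : Subgroup (Matrix.SpecialLinearGroup (Fin 2) K)) (hP : IsPGroup p P) :
    ∀ a ∈ P, ∀ b ∈ P, a * b = b * a := by
  let _ : MulAction P (Fin 2 → K) :=
    { smul := fun g v => (g.1 : Matrix (Fin 2) (Fin 2) K) *ᵥ v
      one_smul := fun v => Matrix.one_mulVec v
      mul_smul := fun g h v => (Matrix.mulVec_mulVec v _ _).symm }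
  obtain ⟨n, hp, hn⟩ := FiniteField.card K p
  have hdvd : p ∣ Nat.card (Fin 2 → K) := by
    rw [Nat.card_eq_fintype_card, Fintype.card_fun, hn, Fintype.card_fin, ← pow_mul]
    exact dvd_pow_self _ (by positivity)
  have h0 : (0 : Fin 2 → K) ∈ MulAction.fixedPoints P (Fin 2 → K) := fun g => Matrix.mulVec_zero _
  obtain ⟨v, hv, hv0⟩ := hP.exists_fixed_point_of_prime_dvd_card_of_fixed_point (Fin 2 → K) hdvd h0
  intro a ha b hb
  obtain ⟨i, hi⟩ : ∃ i, v i ≠ 0 := Function.ne_iff.1 (Ne.symm hv0)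
  have key : ∀ g ∈ P, (g.1 0 0 * v 0 + g.1 0 1 * v 1 = v 0) ∧ (g.1 1 0 * v 0 + g.1 1 1 * v 1 = v 1) ∧
      g.1 0 0 * g.1 1 1 - g.1 0 1 * g.1 1 0 = 1 := by
    intro g hg
    have h : (g : Matrix (Fin 2) (Fin 2) K) *ᵥ v = v := hv ⟨g, hg⟩
    have h1 := congrFun h 0
    have h2 := congrFun h 1
    simp [Matrix.mulVec, dotProduct, Fin.sum_univ_two] at h1 h2
    exact ⟨h1, h2, by rw [← Matrix.det_fin_two, g.2]⟩
  obtain ⟨a1, a2, a3⟩ := key a ha
  obtain ⟨b1, b2, b3⟩ := key b hb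
  -- the trace of `g` is 2
  have htr : ∀ g ∈ P, g.1 1 1 = 2 - g.1 0 0 := by
    intro g hg
    obtain ⟨g1, g2, g3⟩ := key g hg
    by_cases hv1 : v 1 = 0
    · have hv00 : v 0 ≠ 0 := by
        fin_cases i
        · exact hi
        · exact absurd hv1 hi
      rw [hv1, mul_zero, add_zero] at g1 g2
      have e1 : g.1 0 0 = 1 := mul_right_cancel₀ hv00 (by rw [g1, one_mul])
      have e2 : g.1 1 0 = 0 := (mul_eq_zero.1 g2).resolve_right hv00
      rw [e1, e2] at g3
      rw [e1]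
      linear_combination g3
    · refine mul_right_cancel₀ hv1 ?_
      linear_combination (1 - g.1 0 0) * g2 + g.1 1 0 * g1 + v 1 * g3
  have e : a.1 * b.1 = b.1 * a.1 := by
    have t1 := htr a ha
    have t2 := htr b hb
    by_cases hv1 : v 1 = 0
    · have hv00 : v 0 ≠ 0 := by
        fin_cases i
        · exact hi
        · exact absurd hv1 hi
      rw [hv1, mul_zero, add_zero] at a1 a2 b1 b2
      have e1 : a.1 0 0 = 1 := mul_right_cancel₀ hv00 (by rw [a1, one_mul])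
      have e2 : a.1 1 0 = 0 := (mul_eq_zero.1 a2).resolve_right hv00
      have e3 : b.1 0 0 = 1 := mul_right_cancel₀ hv00 (by rw [b1, one_mul])
      have e4 : b.1 1 0 = 0 := (mul_eq_zero.1 b2).resolve_right hv00
      ext r c
      fin_cases r <;> fin_cases c <;> simp [Matrix.mul_apply, Fin.sum_univ_two, e1, e2, e3, e4, t1, t2] <;> ring
    · set w := v 0 / v 1 with hw
      have a01 : a.1 0 1 = w * (1 - a.1 0 0) := by
        rw [hw, div_mul_eq_mul_div, eq_div_iff hv1]; linear_combination a1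
      have b01 : b.1 0 1 = w * (1 - b.1 0 0) := by
        rw [hw, div_mul_eq_mul_div, eq_div_iff hv1]; linear_combination b1
      have a10 : a.1 1 0 * w = a.1 0 0 - 1 := by
        rw [hw, ← mul_div_assoc, div_eq_iff hv1]; linear_combination a2 - v 1 * t1
      have b10 : b.1 1 0 * w = b.1 0 0 - 1 := by
        rw [hw, ← mul_div_assoc, div_eq_iff hv1]; linear_combination b2 - v 1 * t2
      by_cases hw0 : w = 0
      · rw [hw0, mul_zero] at a10 b10
        rw [hw0, zero_mul] at a01 b01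
        have e1 : a.1 0 0 = 1 := by linear_combination -a10
        have e3 : b.1 0 0 = 1 := by linear_combination -b10
        ext r c
        fin_cases r <;> fin_cases c <;> simp [Matrix.mul_apply, Fin.sum_univ_two, e1, e3, a01, b01, t1, t2] <;> ring
      · have a10' : a.1 1 0 = (a.1 0 0 - 1) / w := by rw [eq_div_iff hw0]; exact a10
        have b10' : b.1 1 0 = (b.1 0 0 - 1) / w := by rw [eq_div_iff hw0]; exact b10
        ext r c
        fin_cases r <;> fin_cases c <;> simp [Matrix.mul_apply, Fin.sum_univ_two, a01, b01, a10', b10', t1, t2] <;>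
          field_simp <;> ring
  exact Subtype.ext e

/-- Let p be an odd prime and K a finite field of characteristic p. Then Qd(p) (the natural semidirect product of an elementary abelian group of order p² by SL₂(p)) is not involved in the projective special linear group PSL₂(K). -/
theorem result {p : ℕ} [Fact p.Prime] (hp : p ≠ 2) {K : Type*} [Field K] [Fintype K] [CharP K p] : ¬ Cfsg.Involves ↥(Cfsg.qd p) (Matrix.ProjectiveSpecialLinearGroup (Fin 2) K) := by
  rintro ⟨L, R, hR, ⟨e⟩⟩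
  have : (R.subgroupOf L).Normal := hR
  have hPSL : ∀ P : Subgroup (Matrix.ProjectiveSpecialLinearGroup (Fin 2) K), IsPGroup p P →
      ∀ a ∈ P, ∀ b ∈ P, a * b = b * a :=
    fun P hP => commute_of_section commute_sl_two ⊤ ((QuotientGroup.mk' _).comp (Subgroup.subtype ⊤))
      (fun y => by
        obtain ⟨x, rfl⟩ := QuotientGroup.mk'_surjective _ y
        exact ⟨⟨x, Subgroup.mem_top x⟩, rfl⟩) P hP
  -- the unitriangular subgroup of Qd(p)
  let Q : Subgroup (Cfsg.qd p) :=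
    { carrier := {M | M.1.1 0 0 = 1 ∧ M.1.1 1 1 = 1 ∧ M.1.1 2 2 = 1 ∧ M.1.1 1 0 = 0 ∧ M.1.1 2 0 = 0 ∧ M.1.1 2 1 = 0}
      mul_mem' := by
        rintro a b ⟨a1, a2, a3, a4, a5, a6⟩ ⟨b1, b2, b3, b4, b5, b6⟩
        simp [Matrix.mul_apply, Fin.sum_univ_three, *]
      one_mem' := by simp
      inv_mem' := by
        rintro a ⟨a1, a2, a3, a4, a5, a6⟩
        show (a.1⁻¹).1 0 0 = 1 ∧ (a.1⁻¹).1 1 1 = 1 ∧ (a.1⁻¹).1 2 2 = 1 ∧ (a.1⁻¹).1 1 0 = 0 ∧ (a.1⁻¹).1 2 0 = 0 ∧ (a.1⁻¹).1 2 1 = 0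
        simp [Matrix.SpecialLinearGroup.coe_inv, Matrix.adjugate_fin_three, *] }
  have hQ : IsPGroup p Q := by
    intro M
    refine ⟨1, Subtype.ext (Subtype.ext (Subtype.ext ?_))⟩
    rw [pow_one, SubgroupClass.coe_pow, SubgroupClass.coe_pow, Matrix.SpecialLinearGroup.coe_pow]
    obtain ⟨a1, a2, a3, a4, a5, a6⟩ := M.2
    set A := M.1.1.1 with hA
    have hN : (A - 1) ^ 3 = 0 := by
      ext r c
      rw [pow_succ, sq]
      fin_cases r <;> fin_cases c <;> simp [Matrix.mul_apply, Fin.sum_univ_three, a1, a2, a3, a4, a5, a6]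
    have h3 : 3 ≤ p := by
      have := (Fact.out : p.Prime).two_le
      omega
    have hc : Commute (A - 1) 1 := Commute.one_right _
    show A ^ p = 1
    rw [← sub_add_cancel A 1, add_pow_char_of_commute p hc, one_pow, pow_eq_zero_of_le h3 hN, zero_add]
  have hmem : ∀ M : Matrix.SpecialLinearGroup (Fin 3) (ZMod p), M.1 2 0 = 0 → M.1 2 1 = 0 → M.1 2 2 = 1 →
      M ∈ Cfsg.qd p := fun M h1 h2 h3 => Subgroup.subset_closure ⟨h1, h2, h3⟩
  let x : Cfsg.qd p := ⟨⟨!![1, 1, 0; 0, 1, 0; 0, 0, 1], by simp [Matrix.det_fin_three]⟩, hmem _ rfl rfl rfl⟩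
  let y : Cfsg.qd p := ⟨⟨!![1, 0, 0; 0, 1, 1; 0, 0, 1], by simp [Matrix.det_fin_three]⟩, hmem _ rfl rfl rfl⟩
  have hx : x ∈ Q := ⟨rfl, rfl, rfl, rfl, rfl, rfl⟩
  have hy : y ∈ Q := ⟨rfl, rfl, rfl, rfl, rfl, rfl⟩
  have h := commute_of_section hPSL L (e.toMonoidHom.comp (QuotientGroup.mk' _))
    (e.surjective.comp (QuotientGroup.mk'_surjective _)) Q hQ x hx y hy
  have h' := congrArg (fun z : Cfsg.qd p => z.1.1 0 2) h
  change (x.1.1 * y.1.1) 0 2 = (y.1.1 * x.1.1) 0 2 at h'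
  simp [x, y, Matrix.mul_apply, Fin.sum_univ_three] at h'

end Cfsg.Agent.S2231
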