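import Cfsg.Statements.S2239
import Cfsg.Agent.LocalEven64.SzSub.Embed
-- import your own Cfsg.Agent.* helpers here

set_option autoImplicit false
open Cfsg

namespace Cfsg.Agent.S2239

/-- Subfield subgroups of the Suzuki group: let q = 2^(2m+1) and s = 2^(2k+1) with m, k ≥ 1 and 2k+1 dividing 2m+1 (so q is a power of s), both groups realised as stabilisers in SL₄ of the Suzuki–Tits ovoid. Then Sz(q) has a subgroup isomorphic to Sz(s), and any two subgroups of Sz(q) isomorphic to Sz(s) are conjugate. -/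
theorem result {F : Type*} [Field F] [Fintype F] {m : ℕ} (hm : 1 ≤ m) (hF : Fintype.card F = 2 ^ (2 * m + 1)) {K : Type*} [Field K] [Fintype K] {k : ℕ} (hk : 1 ≤ k) (hK : Fintype.card K = 2 ^ (2 * k + 1)) (hdiv : 2 * k + 1 ∣ 2 * m + 1) :
    (∃ S : Subgroup ↥(Cfsg.Sz F m), Nonempty (↥S ≃* ↥(Cfsg.Sz K k))) ∧
    ∀ S₁ S₂ : Subgroup ↥(Cfsg.Sz F m), Nonempty (↥S₁ ≃* ↥(Cfsg.Sz K k)) → Nonempty (↥S₂ ≃* ↥(Cfsg.Sz K k)) →
      ∃ g : ↥(Cfsg.Sz F m), S₂ = S₁.map (MulAut.conj g).toMonoidHom := by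
  classical
  obtain ⟨ι⟩ := LocalEven64.SzSub.exists_ringHom (K := K) hF hK hdiv
  refine ⟨⟨(LocalEven64.SzSub.emb hF hK hdiv ι hk).range,
    ⟨(MonoidHom.ofInjective (LocalEven64.SzSub.emb_injective hF hK hdiv ι hk)).symm⟩⟩, ?_⟩
  have key : ∀ S : Subgroup ↥(Cfsg.Sz F m), Nonempty (↥S ≃* ↥(Cfsg.Sz K k)) →
      ∃ g : ↥(Cfsg.Sz F m), S.map (MulAut.conj g).toMonoidHom = (LocalEven64.SzSub.emb hF hK hdiv ι hk).range := by
    rintro S ⟨e⟩
    have hns : ¬ Group.IsSolvable S := fun h => LocalEven64.SzSub.not_isSolvable_Sz hK hk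
      (Group.isSolvable_of_surjective (f := e.toMonoidHom) e.surjective)
    obtain ⟨j, g, hj, hd, hcard, hW, hU, hT⟩ := LocalEven64.SzSub.nonsolvable_conj hF hm S hns
    obtain rfl : j = k := LocalEven64.SzSub.order_injective
      (hcard.symm.trans ((Nat.card_congr e.toEquiv).trans (Suzuki.card_Sz hK hk)))
    exact ⟨g, LocalEven64.SzSub.eq_range hF hK hd ι hj _
      (by rw [Subgroup.card_map_of_injective (MulAut.conj g).injective, hcard]) hW hU hT⟩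
  intro S₁ S₂ h₁ h₂
  obtain ⟨g₁, e₁⟩ := key S₁ h₁
  obtain ⟨g₂, e₂⟩ := key S₂ h₂
  refine ⟨g₂⁻¹ * g₁, ?_⟩
  rw [← LocalEven64.SzSub.map_conj_map, e₁, ← e₂, LocalEven64.SzSub.map_conj_map, inv_mul_cancel]
  ext x
  rw [LocalEven64.SzSub.mem_map_conj, inv_one, one_mul, mul_one]

end Cfsg.Agent.S2239
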