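import Cfsg.Statements.S2240
import Cfsg.Agent.SzFacts.Subfield

set_option autoImplicit false
open Cfsg

namespace Cfsg.Agent.S2240

/-- Elementary abelian TI-subgroups of the Suzuki group: let q = 2^(2m+1) with m ≥ 1, the group realised as the stabiliser in SL₄ of the Suzuki–Tits ovoid, and n ≥ 2. There is an elementary abelian 2-subgroup E of order 2^n that is a TI-subgroup (every conjugate of E meeting E nontrivially is E itself) if and only if n divides 2m + 1. -/
theorem result {F : Type*} [Field F] [Fintype F] {m : ℕ} (hm : 1 ≤ m) (hF : Fintype.card F = 2 ^ (2 * m + 1)) (n : ℕ) (hn : 2 ≤ n) :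
    (∃ E : Subgroup ↥(Cfsg.Sz F m), Cfsg.IsElementaryAbelian 2 E ∧ Nat.card ↥E = 2 ^ n ∧
      ∀ x : ↥(Cfsg.Sz F m), E ⊓ E.map (MulAut.conj x).toMonoidHom ≠ ⊥ → x ∈ Subgroup.normalizer (E : Set ↥(Cfsg.Sz F m))) ↔ n ∣ 2 * m + 1 := by
  constructor
  · rintro ⟨E, ⟨hEc, hE2⟩, hcard, hTI⟩
    rw [SzFacts.ti_iff] at hTI
    haveI : Fact (Nat.Prime 2) := ⟨Nat.prime_two⟩
    obtain ⟨P, hEP⟩ := (IsPGroup.of_card (n := n) hcard).exists_le_sylow
    obtain ⟨h, hP⟩ := SzFacts.sylow_eq_map hF hm P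
    rw [hP] at hEP
    set c : ↥(Cfsg.Sz F m) →* ↥(Cfsg.Sz F m) := (MulAut.conj h).toMonoidHom with hc
    have hmem : ∀ g, g ∈ E.comap c ↔ h * g * h⁻¹ ∈ E := fun g => Iff.rfl
    have hsurj : Function.Surjective c := (MulAut.conj h).surjective
    refine SzFacts.dvd_of_ti hF (E.comap c) (fun g hg => ?_) (fun g hg => ?_) (by omega) ?_ ?_
    · obtain ⟨u, hu, hug⟩ := hEP ((hmem g).1 hg)
      rwa [(MulAut.conj h).injective hug] at hu
    · apply (MulAut.conj h).injective
      rw [map_pow, map_one]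
      exact hE2 _ hg
    · rw [← hcard]
      conv_rhs => rw [← Subgroup.map_comap_eq_self_of_surjective hsurj E]
      exact Nat.card_congr (Subgroup.equivMapOfInjective _ _ (MulAut.conj h).injective).toEquiv
    · intro x u hu hu1 hxu
      rw [hmem] at hu hxu
      have key := hTI (h * x * h⁻¹) (h * u * h⁻¹) hu (fun e => hu1 (conj_eq_one_iff.1 e))
        (by convert hxu using 1; group)
      rw [Subgroup.mem_normalizer_iff] at key ⊢
      intro g
      rw [hmem, hmem, key (h * g * h⁻¹)]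
      group
  · intro hdvd
    obtain ⟨E, h1, h2, h3⟩ := SzFacts.exists_ti hF hm (by omega) hdvd
    exact ⟨E, h1, h2, (SzFacts.ti_iff E).2 h3⟩

end Cfsg.Agent.S2240
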