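import Cfsg.Statements.S2241
import Cfsg.Agent.SzFacts.Sylow

set_option autoImplicit false
open Cfsg

namespace Cfsg.Agent.S2241

/-- Real 2-elements of the Suzuki group: with q = 2^(2m+1), m ≥ 1, and the group realised as the stabiliser in SL₄ of the Suzuki–Tits ovoid, a non-identity element of a Sylow 2-subgroup is conjugate to its inverse if and only if it is an involution; in particular no element of order 4 is conjugate to its inverse. -/
theorem result {F : Type*} [Field F] [Fintype F] {m : ℕ} (hm : 1 ≤ m) (hF : Fintype.card F = 2 ^ (2 * m + 1)) (P : Sylow 2 ↥(Cfsg.Sz F m)) (g : ↥(Cfsg.Sz F m)) (hg : g ∈ (P : Subgroup ↥(Cfsg.Sz F m))) (h1 : g ≠ 1) :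
    IsConj g g⁻¹ ↔ orderOf g = 2 := by
  constructor
  swap
  · intro h2
    have hinv : g⁻¹ = g := inv_eq_of_mul_eq_one_right (by rw [← pow_two, ← h2, pow_orderOf_eq_one])
    rw [hinv]
  intro hc
  obtain ⟨h, hP⟩ := SzFacts.sylow_eq_map hF hm P
  rw [hP, SzFacts.mem_map_conj_USub hF] at hg
  obtain ⟨a, b, rfl⟩ := hg
  obtain ⟨y, hy⟩ := isConj_iff.1 hc
  set x := h⁻¹ * y * h with hx
  have hxu : x * Suzuki.U hF a b * x⁻¹ = Suzuki.U hF a (b + Suzuki.sig m a * a) := by
    calc x * Suzuki.U hF a b * x⁻¹ = h⁻¹ * (y * (h * Suzuki.U hF a b * h⁻¹) * y⁻¹) * h := by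
          rw [hx]; group
      _ = h⁻¹ * (h * Suzuki.U hF a b * h⁻¹)⁻¹ * h := by rw [hy]
      _ = (Suzuki.U hF a b)⁻¹ := by group
      _ = _ := Suzuki.U_inv hF a b
  have hu1 : Suzuki.U hF a b ≠ 1 := fun hu => h1 (by rw [hu]; group)
  have hxN := Suzuki.TI_U hF hm x _ ⟨a, b, rfl⟩ hu1 (by rw [hxu]; exact ⟨_, _, rfl⟩)
  rw [Suzuki.normalizer_USub hF hm] at hxN
  obtain ⟨c, d, k, hk⟩ := Suzuki.eq_U_T_of_fix hF hm x hxN
  rw [hk, show Suzuki.U hF c d * Suzuki.T hF k * Suzuki.U hF a b *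
      (Suzuki.U hF c d * Suzuki.T hF k)⁻¹ =
      Suzuki.U hF c d * (Suzuki.T hF k * Suzuki.U hF a b * (Suzuki.T hF k)⁻¹) *
        (Suzuki.U hF c d)⁻¹ by group, Suzuki.T_conj_U, Suzuki.U_inv, Suzuki.U_mul,
    Suzuki.U_mul] at hxu
  obtain ⟨e1, e2⟩ := Suzuki.U_inj hF hxu
  have htwo := Suzuki.two_eq_zero hF
  have ha : a = 0 := by
    by_contra ha
    have hk1 : (k : F) = 1 := by
      refine mul_right_cancel₀ ha ?_
      linear_combination e1 - c * htwo
    rw [hk1, Suzuki.sig_one, one_mul, one_mul, one_mul, Suzuki.sig_add hF] at e2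
    have h3 : Suzuki.sig m c * a + Suzuki.sig m a * c = Suzuki.sig m a * a := by
      linear_combination e2 - (d + Suzuki.sig m c * c) * htwo
    have hsa := Suzuki.sig_ne_zero (m := m) ha
    set t := c * a⁻¹ with ht
    have h4 : Suzuki.sig m t + t = 1 := by
      refine mul_right_cancel₀ (mul_ne_zero hsa ha) ?_
      rw [ht, Suzuki.sig_mul, Suzuki.sig_inv]
      field_simp
      linear_combination h3
    have h5 := congrArg (Suzuki.sig m) h4
    rw [Suzuki.sig_add hF, Suzuki.sig_sig hF, Suzuki.sig_one] at h5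
    have h6 : t * (t - 1) = 0 := by linear_combination h5 - h4
    rcases mul_eq_zero.1 h6 with h0 | h0
    · rw [h0, Suzuki.sig_zero, add_zero] at h4
      exact zero_ne_one h4
    · rw [sub_eq_zero.1 h0, Suzuki.sig_one, Suzuki.add_self hF] at h4
      exact zero_ne_one h4
  subst ha
  apply orderOf_eq_prime
  · rw [conj_pow, pow_two, Suzuki.U_mul, Suzuki.add_self hF, Suzuki.add_self hF, Suzuki.sig_zero,
      zero_mul, zero_add, Suzuki.U_zero, mul_one, mul_inv_cancel]
  · exact h1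

end Cfsg.Agent.S2241
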