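import Cfsg.Statements.S2247
import Cfsg.Agent.SzFacts.Sylow

set_option autoImplicit false
open Cfsg

namespace Cfsg.Agent.S2247

/-- In the Suzuki group with q = 2^(2m+1), m ≥ 1 (realised as the stabiliser in SL₄ of the Suzuki–Tits ovoid), the normalizer of a Sylow 2-subgroup P is a maximal subgroup and is the only maximal subgroup containing P. -/
theorem result {F : Type*} [Field F] [Fintype F] {m : ℕ} (hm : 1 ≤ m) (hF : Fintype.card F = 2 ^ (2 * m + 1)) (P : Sylow 2 ↥(Cfsg.Sz F m)) :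
    IsCoatom (Subgroup.normalizer ((P : Subgroup ↥(Cfsg.Sz F m)) : Set ↥(Cfsg.Sz F m))) ∧
    ∀ M : Subgroup ↥(Cfsg.Sz F m), IsCoatom M → (P : Subgroup ↥(Cfsg.Sz F m)) ≤ M → M = Subgroup.normalizer ((P : Subgroup ↥(Cfsg.Sz F m)) : Set ↥(Cfsg.Sz F m)) := by
  obtain ⟨h, hP⟩ := SzFacts.sylow_eq_map hF hm P
  let e : Subgroup ↥(Cfsg.Sz F m) ≃o Subgroup ↥(Cfsg.Sz F m) := (MulAut.conj h).mapSubgroup
  have he : ∀ K : Subgroup ↥(Cfsg.Sz F m), e K = K.map (MulAut.conj h).toMonoidHom := fun _ => rfl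
  have hN : Subgroup.normalizer ((P : Subgroup ↥(Cfsg.Sz F m)) : Set ↥(Cfsg.Sz F m)) =
      e (MulAction.stabilizer ↥(Cfsg.Sz F m) (Cfsg.suzukiPointInfinity F)) := by
    rw [he, hP, ← Suzuki.normalizer_USub hF hm]
    exact (Subgroup.map_equiv_normalizer_eq (Suzuki.USub hF) (MulAut.conj h)).symm
  rw [hN]
  refine ⟨(OrderIso.isCoatom_iff e _).2 (SzFacts.isCoatom_stabilizer hF hm), fun M hM hPM => ?_⟩
  obtain ⟨K, rfl⟩ := e.surjective M
  rw [SzFacts.eq_stabilizer_of_isCoatom hF hm K ((OrderIso.isCoatom_iff e K).1 hM)]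
  rw [hP, ← he] at hPM
  exact e.le_iff_le.1 hPM

end Cfsg.Agent.S2247
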