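import Cfsg.Statements.S2251
import Cfsg.Agent.LocalEven64.SzSub.Embed
-- import your own Cfsg.Agent.* helpers here

set_option autoImplicit false
open Cfsg

namespace Cfsg.Agent.S2251

/-- The subgroups of the Suzuki group: with q = 2^(2m+1), m ≥ 1, r = 2^m and the group realised as the stabiliser in SL₄ of the Suzuki–Tits ovoid, every proper subgroup is contained in the normalizer of a Sylow 2-subgroup, or in the normalizer of a cyclic subgroup of order q − 1, q + 2r + 1 or q − 2r + 1, or in a subgroup isomorphic to a smaller Suzuki group Sz(s) with s = 2^(2k+1) ≥ 8 and 2k+1 a proper divisor of 2m+1. -/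
theorem result {F : Type*} [Field F] [Fintype F] {m : ℕ} (hm : 1 ≤ m) (hF : Fintype.card F = 2 ^ (2 * m + 1)) (M : Subgroup ↥(Cfsg.Sz F m)) (hM : M ≠ ⊤) :
    (∃ P : Sylow 2 ↥(Cfsg.Sz F m), M ≤ Subgroup.normalizer ((P : Subgroup ↥(Cfsg.Sz F m)) : Set ↥(Cfsg.Sz F m))) ∨
    (∃ U : Subgroup ↥(Cfsg.Sz F m), IsCyclic ↥U ∧ Nat.card ↥U ∈ ({2 ^ (2 * m + 1) - 1, 2 ^ (2 * m + 1) + 2 ^ (m + 1) + 1, 2 ^ (2 * m + 1) - 2 ^ (m + 1) + 1} : Set ℕ) ∧
      M ≤ Subgroup.normalizer (U : Set ↥(Cfsg.Sz F m))) ∨
    (∃ (K : Type) (_ : Field K) (_ : Fintype K) (k : ℕ), 1 ≤ k ∧ k < m ∧ Fintype.card K = 2 ^ (2 * k + 1) ∧ 2 * k + 1 ∣ 2 * m + 1 ∧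
      ∃ S : Subgroup ↥(Cfsg.Sz F m), Nonempty (↥S ≃* ↥(Cfsg.Sz K k)) ∧ M ≤ S) := by
  classical
  haveI : Fact (Nat.Prime 2) := ⟨Nat.prime_two⟩
  by_cases hs : Group.IsSolvable M
  · rcases LocalEven64.SzSub.solvable_cases hF hm M with ⟨g, hg⟩ | ⟨g, hg⟩ | ⟨g, hg, hle⟩
    · left
      let S := (Suzuki.isPGroup_USub hF).toSylow (Suzuki.index_USub_odd hF hm)
      refine ⟨g • S, fun x hx => ?_⟩
      refine Sylow.smul_eq_iff_mem_normalizer.1 ?_
      have h1 : g⁻¹ * x * g ∈ Subgroup.normalizer (Suzuki.USub hF : Set (Cfsg.Sz F m)) := by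
        rw [Suzuki.normalizer_USub hF hm, MulAction.mem_stabilizer_iff, mul_smul, mul_smul, hg x hx,
          inv_smul_smul]
      have hS : (S : Subgroup (Cfsg.Sz F m)) = Suzuki.USub hF := IsPGroup.toSylow_coe _ _
      rw [← hS] at h1
      have h2 : (g⁻¹ * x * g) • S = S := Sylow.smul_eq_iff_mem_normalizer.2 h1
      rwa [mul_smul, mul_smul, inv_smul_eq_iff] at h2
    · right; left
      refine ⟨(Suzuki.THom hF).range.map (MulAut.conj g).toMonoidHom, ?_, ?_, fun x hx => ?_⟩
      · haveI : IsCyclic (Suzuki.THom hF).range :=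
          isCyclic_of_surjective (Suzuki.THom hF).rangeRestrict (MonoidHom.rangeRestrict_surjective _)
        exact isCyclic_of_surjective _
          ((Suzuki.THom hF).range.equivMapOfInjective (MulAut.conj g).toMonoidHom
            (MulAut.conj g).injective).surjective
      · rw [Subgroup.card_map_of_injective (MulAut.conj g).injective, Suzuki.card_range_T hF, hF]
        exact Or.inl rfl
      · rw [← Subgroup.map_equiv_normalizer_eq, LocalEven64.SzSub.mem_map_conj]
        exact hg x hx
    · right; left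
      refine ⟨Subgroup.centralizer {g}, (Suzuki.torus hF hm hg).1, Or.inr ?_, hle⟩
      obtain ⟨g₁, g₂, hg₁, hg₂, h1, h2, -, -⟩ := Suzuki.torus_orders hF hm
      haveI : Nontrivial (Subgroup.centralizer {g}) := ⟨⟨⟨g, Subgroup.mem_centralizer_singleton_iff.2 rfl⟩,
        1, fun h => Suzuki.fpf_ne_one hg (congrArg Subtype.val h)⟩⟩
      obtain ⟨p, hp, hpd⟩ := Nat.exists_prime_and_dvd (Finite.one_lt_card (α := Subgroup.centralizer {g})).ne'
      have hprod : Nat.card (Subgroup.centralizer {g₁}) * Nat.card (Subgroup.centralizer {g₂})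
          = Fintype.card F ^ 2 + 1 := by
        rw [h1, h2, hF]
        have hle' : 2 ^ (m + 1) ≤ 2 ^ (2 * m + 1) := Nat.pow_le_pow_right two_pos (by omega)
        have hr : (2 ^ (m + 1)) * (2 ^ (m + 1)) = 2 * 2 ^ (2 * m + 1) := by
          rw [← pow_add, ← pow_succ']
          congr 1
          omega
        zify [hle'] at hr ⊢
        linear_combination -hr
      have hpd' : p ∣ Nat.card (Subgroup.centralizer {g₁}) * Nat.card (Subgroup.centralizer {g₂}) := by
        rw [hprod]
        exact hpd.trans (Suzuki.card_torus_dvd hF hm hg)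
      rcases hp.dvd_mul.1 hpd' with h' | h'
      · obtain ⟨h, hh⟩ := Suzuki.torus_conj hF hm hg hg₁ hp hpd h'
        left
        rw [← Subgroup.card_map_of_injective (K := Subgroup.centralizer {g})
            (f := (MulAut.conj h).toMonoidHom) (MulAut.conj h).injective,
          show (Subgroup.centralizer {g}).map (MulAut.conj h).toMonoidHom = Subgroup.centralizer {g₁}
            from hh.symm, h1, hF]
      · obtain ⟨h, hh⟩ := Suzuki.torus_conj hF hm hg hg₂ hp hpd h'
        right
        rw [← Subgroup.card_map_of_injective (K := Subgroup.centralizer {g})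
            (f := (MulAut.conj h).toMonoidHom) (MulAut.conj h).injective,
          show (Subgroup.centralizer {g}).map (MulAut.conj h).toMonoidHom = Subgroup.centralizer {g₂}
            from hh.symm, h2, hF]
        rfl
  · right; right
    obtain ⟨j, g, hj, hd, hcard, hW, hU, hT⟩ := LocalEven64.SzSub.nonsolvable_conj hF hm M hs
    have hjm : j < m := by
      have hle : 2 * j + 1 ≤ 2 * m + 1 := Nat.le_of_dvd (by omega) hd
      rcases Nat.lt_or_ge j m with h | h
      · exact h
      · exfalso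
        have hjm : j = m := by omega
        subst hjm
        exact hM (Subgroup.eq_top_of_card_eq M (hcard.trans (Suzuki.card_Sz hF hm).symm))
    haveI := Fintype.ofFinite (GaloisField 2 (2 * j + 1))
    have hK : Fintype.card (GaloisField 2 (2 * j + 1)) = 2 ^ (2 * j + 1) := by
      rw [← Nat.card_eq_fintype_card, GaloisField.card 2 (2 * j + 1) (by omega)]
    obtain ⟨ι⟩ := LocalEven64.SzSub.exists_ringHom (K := GaloisField 2 (2 * j + 1)) hF hK hd
    refine ⟨GaloisField 2 (2 * j + 1), inferInstance, inferInstance, j, hj, hjm, hK, hd,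
      M, ?_, le_rfl⟩
    have e := LocalEven64.SzSub.eq_range hF hK hd ι hj (M.map (MulAut.conj g).toMonoidHom)
      (by rw [Subgroup.card_map_of_injective (MulAut.conj g).injective, hcard]) hW hU hT
    exact ⟨(M.equivMapOfInjective _ (MulAut.conj g).injective).trans ((MulEquiv.subgroupCongr e).trans
      (MonoidHom.ofInjective (LocalEven64.SzSub.emb_injective hF hK hd ι hj)).symm)⟩

end Cfsg.Agent.S2251
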