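import Cfsg.Statements.S2254
import Cfsg.Agent.Lib46.NilPermMax

set_option autoImplicit false
open Cfsg

namespace Cfsg.Agent.S2254

/-- Let n ≡ 3 (mod 4). Then every nilpotent subgroup of the symmetric group on n letters has order at most 3 times the order of a Sylow 2-subgroup of the symmetric group on n − 3 letters; the bound is attained by a nilpotent subgroup isomorphic to the direct product of such a Sylow 2-subgroup with a cyclic group of order 3; and any two nilpotent subgroups attaining the bound are conjugate. -/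
theorem result  (n : ℕ) (hn : n % 4 = 3)
    (P : Sylow 2 (Equiv.Perm (Fin (n - 3)))) :
    (∀ N : Subgroup (Equiv.Perm (Fin n)), Group.IsNilpotent N → Nat.card N ≤ 3 * Nat.card P) ∧
    (∃ M : Subgroup (Equiv.Perm (Fin n)), Group.IsNilpotent M ∧ Nat.card M = 3 * Nat.card P ∧
      Nonempty (M ≃* (↥(P : Subgroup (Equiv.Perm (Fin (n - 3)))) × Multiplicative (ZMod 3)))) ∧
    (∀ N₁ N₂ : Subgroup (Equiv.Perm (Fin n)), Group.IsNilpotent N₁ → Group.IsNilpotent N₂ →
      Nat.card N₁ = 3 * Nat.card P → Nat.card N₂ = 3 * Nat.card P →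
      ∃ g : Equiv.Perm (Fin n), N₂ = N₁.map (MulAut.conj g).toMonoidHom) := by
  have hP : Nat.card P = 2 ^ Cfsg.Agent.Lib46.NilPerm.vTwo (n - 3) := by
    rw [Cfsg.Agent.Lib46.NilPerm.card_sylow_perm P, Nat.card_fin]
  refine ⟨fun N hN => ?_, ?_, fun N₁ N₂ h₁ h₂ c₁ c₂ => ?_⟩
  · rw [hP, ← Cfsg.Agent.Lib46.NilPerm.nilBound_eq_of_eq hn]
    exact Cfsg.Agent.Lib46.NilPerm.card_le_nilBound n _ N (Nat.card_fin n) hN
  · let e : Fin (n - 3) ⊕ Multiplicative (ZMod 3) ≃ Fin n := Fintype.equivFinOfCardEq (by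
      simp [Fintype.card_multiplicative]; omega)
    let φ : ↥(P : Subgroup (Equiv.Perm (Fin (n - 3)))) × Multiplicative (ZMod 3) →*
        Equiv.Perm (Fin n) :=
      (Equiv.permCongrHom e).toMonoidHom.comp ((Equiv.Perm.sumCongrHom _ _).comp
        ((P : Subgroup (Equiv.Perm (Fin (n - 3)))).subtype.prodMap
          (MulAction.toPermHom (Multiplicative (ZMod 3)) (Multiplicative (ZMod 3)))))
    have hφ : Function.Injective φ :=
      (Equiv.permCongrHom e).injective.comp (Equiv.Perm.sumCongrHom_injective.comp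
        (Subtype.val_injective.prodMap MulAction.toPerm_injective))
    haveI : Group.IsNilpotent ↥(P : Subgroup (Equiv.Perm (Fin (n - 3)))) :=
      haveI : Fact (Nat.Prime 2) := ⟨Nat.prime_two⟩
      P.isPGroup'.isNilpotent
    refine ⟨φ.range, Group.nilpotent_of_mulEquiv (MonoidHom.ofInjective hφ), ?_,
      ⟨(MonoidHom.ofInjective hφ).symm⟩⟩
    rw [← Nat.card_congr (MonoidHom.ofInjective hφ).toEquiv, Nat.card_prod, mul_comm]
    simp
  · exact Cfsg.Agent.Lib46.NilPerm.exists_conj_of_max (Fintype.card_fin n) hn N₁ N₂ h₁ h₂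
      (hP ▸ c₁) (hP ▸ c₂)

end Cfsg.Agent.S2254
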