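import Cfsg.Statements.S2255
import Cfsg.Agent.Lib46.NilPermAlt

set_option autoImplicit false
open Cfsg

namespace Cfsg.Agent.S2255

/-- Let n be a natural number not congruent to 3 modulo 4, with n ∉ {5, 6, 9}. Then every nilpotent subgroup of the alternating group on n letters has order at most the order of a Sylow 2-subgroup of the alternating group (so the nilpotent subgroups of largest order are exactly the Sylow 2-subgroups). -/
theorem result  (n : ℕ) (hn : n % 4 ≠ 3)
    (h5 : n ≠ 5) (h6 : n ≠ 6) (h9 : n ≠ 9)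
    (N : Subgroup (alternatingGroup (Fin n))) (hN : Group.IsNilpotent N)
    (P : Sylow 2 (alternatingGroup (Fin n))) :
    Nat.card N ≤ Nat.card P := by
  rcases Nat.lt_or_ge n 2 with h | h
  · haveI : Subsingleton (Fin n) := Fin.subsingleton_iff_le_one.mpr (by omega)
    calc Nat.card N = 1 := Nat.card_unique
      _ ≤ Nat.card P := Nat.card_pos
  haveI : Nontrivial (Fin n) := Fin.nontrivial_iff_two_le.mpr h
  have hg : Cfsg.Agent.Lib46.NilPerm.IsGoodDeg n :=
    ⟨h, by omega, h5, h6, h9⟩
  have hb := Cfsg.Agent.Lib46.NilPerm.card_le_altBound n (Fin n)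
    (N.map (alternatingGroup (Fin n)).subtype) (Nat.card_fin n)
    (Group.nilpotent_of_mulEquiv (_h := hN) (N.equivMapOfInjective _ Subtype.val_injective))
    (Subgroup.map_subtype_le N)
  rw [Subgroup.card_subtype] at hb
  have hP := Cfsg.Agent.Lib46.NilPerm.card_sylow_alternating P
  rw [Nat.card_fin, ← Cfsg.Agent.Lib46.NilPerm.nilBound_eq_of_ne hn] at hP
  have h2 := Cfsg.Agent.Lib46.NilPerm.two_mul_altBound hg
  omega

end Cfsg.Agent.S2255
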