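import Cfsg.Statements.S2256
import Cfsg.Agent.Lib46.NilPermAlt

set_option autoImplicit false
open Cfsg

namespace Cfsg.Agent.S2256

/-- Let n ≡ 3 (mod 4) with n ≥ 7. Then every nilpotent subgroup of the alternating group on n letters has order at most 3 times the order of a Sylow 2-subgroup of the alternating group on n − 3 letters; the bound is attained by a nilpotent subgroup isomorphic to the direct product of such a Sylow 2-subgroup with a cyclic group of order 3; and any two nilpotent subgroups of the alternating group attaining the bound are conjugate in it. -/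
theorem result  (n : ℕ) (hn : n % 4 = 3) (h7 : 7 ≤ n)
    (P : Sylow 2 (alternatingGroup (Fin (n - 3)))) :
    (∀ N : Subgroup (alternatingGroup (Fin n)), Group.IsNilpotent N → Nat.card N ≤ 3 * Nat.card P) ∧
    (∃ M : Subgroup (alternatingGroup (Fin n)), Group.IsNilpotent M ∧ Nat.card M = 3 * Nat.card P ∧
      Nonempty (M ≃* (↥(P : Subgroup (alternatingGroup (Fin (n - 3)))) × Multiplicative (ZMod 3)))) ∧
    (∀ N₁ N₂ : Subgroup (alternatingGroup (Fin n)), Group.IsNilpotent N₁ → Group.IsNilpotent N₂ →
      Nat.card N₁ = 3 * Nat.card P → Nat.card N₂ = 3 * Nat.card P →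
      ∃ g : alternatingGroup (Fin n), N₂ = N₁.map (MulAut.conj g).toMonoidHom) := by
  haveI : Nontrivial (Fin n) := Fin.nontrivial_iff_two_le.mpr (by omega)
  haveI : Nontrivial (Fin (n - 3)) := Fin.nontrivial_iff_two_le.mpr (by omega)
  haveI : Fact (Nat.Prime 2) := ⟨Nat.prime_two⟩
  have hP := Cfsg.Agent.Lib46.NilPerm.card_sylow_alternating P
  rw [Nat.card_fin] at hP
  refine ⟨fun N hN => ?_, ?_, fun N₁ N₂ h₁ h₂ c₁ c₂ => ?_⟩
  · have hb := Cfsg.Agent.Lib46.NilPerm.card_le_altBound n (Fin n)
      (N.map (alternatingGroup (Fin n)).subtype) (Nat.card_fin n)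
      (Group.nilpotent_of_mulEquiv (_h := hN) (N.equivMapOfInjective _ Subtype.val_injective))
      (Subgroup.map_subtype_le N)
    rw [Subgroup.card_subtype] at hb
    have h2 := Cfsg.Agent.Lib46.NilPerm.two_mul_altBound (n := n)
      ⟨by omega, by omega, by omega, by omega, by omega⟩
    rw [Cfsg.Agent.Lib46.NilPerm.nilBound_eq_of_eq hn, ← hP] at h2
    omega
  · let e : Fin (n - 3) ⊕ Multiplicative (ZMod 3) ≃ Fin n := Fintype.equivFinOfCardEq (by
      simp [Fintype.card_multiplicative]; omega)
    let i : ↥(P : Subgroup (alternatingGroup (Fin (n - 3)))) →* Equiv.Perm (Fin (n - 3)) :=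
      (alternatingGroup (Fin (n - 3))).subtype.comp
        (P : Subgroup (alternatingGroup (Fin (n - 3)))).subtype
    let φ₀ : ↥(P : Subgroup (alternatingGroup (Fin (n - 3)))) × Multiplicative (ZMod 3) →*
        Equiv.Perm (Fin n) :=
      (Equiv.permCongrHom e).toMonoidHom.comp ((Equiv.Perm.sumCongrHom _ _).comp
        (i.prodMap (MulAction.toPermHom (Multiplicative (ZMod 3)) (Multiplicative (ZMod 3)))))
    have hmem : ∀ z, φ₀ z ∈ alternatingGroup (Fin n) := by
      intro z
      have h1 : Equiv.Perm.sign (i z.1) = 1 :=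
        Equiv.Perm.mem_alternatingGroup.mp (z.1 : alternatingGroup (Fin (n - 3))).2
      have h2 : Equiv.Perm.sign (MulAction.toPermHom (Multiplicative (ZMod 3))
          (Multiplicative (ZMod 3)) z.2) = 1 := by
        let χ : Multiplicative (ZMod 3) →* ℤˣ := Equiv.Perm.sign.comp
          (MulAction.toPermHom (Multiplicative (ZMod 3)) (Multiplicative (ZMod 3)))
        have h3 : χ z.2 ^ 3 = 1 := by
          rw [← map_pow, show z.2 ^ 3 = 1 from by
            simpa using pow_card_eq_one (G := Multiplicative (ZMod 3)) (x := z.2), map_one]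
        rcases Int.units_eq_one_or (χ z.2) with h | h
        · exact h
        · rw [h] at h3; exact absurd h3 (by decide)
      rw [Equiv.Perm.mem_alternatingGroup]
      show Equiv.Perm.sign (e.permCongr (Equiv.Perm.sumCongr (i z.1)
        (MulAction.toPermHom (Multiplicative (ZMod 3)) (Multiplicative (ZMod 3)) z.2))) = 1
      rw [Equiv.Perm.sign_permCongr, Equiv.Perm.sign_sumCongr, h1, h2, one_mul]
    let φ := φ₀.codRestrict (alternatingGroup (Fin n)) hmem
    have hφ₀ : Function.Injective φ₀ :=
      (Equiv.permCongrHom e).injective.comp (Equiv.Perm.sumCongrHom_injective.comp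
        ((Subtype.val_injective.comp Subtype.val_injective).prodMap MulAction.toPerm_injective))
    have hφ : Function.Injective φ := fun x y h => hφ₀ (congrArg Subtype.val h)
    haveI : Group.IsNilpotent ↥(P : Subgroup (alternatingGroup (Fin (n - 3)))) :=
      P.isPGroup'.isNilpotent
    refine ⟨φ.range, Group.nilpotent_of_mulEquiv (MonoidHom.ofInjective hφ), ?_,
      ⟨(MonoidHom.ofInjective hφ).symm⟩⟩
    rw [← Nat.card_congr (MonoidHom.ofInjective hφ).toEquiv, Nat.card_prod, mul_comm]
    simp
  · obtain ⟨k, hk⟩ := IsPGroup.iff_card.mp P.isPGroup'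
    rw [hk] at hP c₁ c₂
    rw [← pow_succ'] at hP
    have hinj := (alternatingGroup (Fin n)).subtype_injective
    obtain ⟨g, hgA, hg⟩ := Cfsg.Agent.Lib46.NilPerm.exists_conj_alt_of_max (Fintype.card_fin n) hn h7
      (Nat.pow_right_injective le_rfl hP)
      (N₁.map (alternatingGroup (Fin n)).subtype) (N₂.map (alternatingGroup (Fin n)).subtype)
      (Subgroup.map_subtype_le N₁) (Subgroup.map_subtype_le N₂)
      (Group.nilpotent_of_mulEquiv (_h := h₁) (N₁.equivMapOfInjective _ hinj))
      (Group.nilpotent_of_mulEquiv (_h := h₂) (N₂.equivMapOfInjective _ hinj))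
      (by rw [Subgroup.card_subtype, c₁]) (by rw [Subgroup.card_subtype, c₂])
    refine ⟨⟨g, hgA⟩, Subgroup.map_injective hinj (hg.trans ?_)⟩
    rw [Subgroup.map_map, Subgroup.map_map]
    rfl

end Cfsg.Agent.S2256
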