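import Cfsg.Statements.S2257
import Cfsg.Agent.Lib.Dickson.SolubilizerTwo

set_option autoImplicit false
open Cfsg

namespace Cfsg.Agent.S2257

open Cfsg.Agent.Dickson

attribute [local instance] Cfsg.Agent.PLocalB.lineAction Cfsg.Agent.Dickson.pslLine

/-- Let G = PSL_2(F) with F a field of order q = 2^p, p prime, and for x ∈ G call the solubilizer of x the set of y ∈ G such that x and y generate a solvable subgroup. Then the solubilizer of an involution has 3q(q − 1) elements; that of a non-identity element of order dividing q − 1 has 2q(q − 1) elements; and that of a non-identity element of order dividing q + 1 has 2(q + 1) elements. -/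
theorem result (p : ℕ) (hp : p.Prime) {F : Type*} [Field F] [Fintype F]
    (hF : Fintype.card F = 2 ^ p) (x : Matrix.ProjectiveSpecialLinearGroup (Fin 2) F) :
    (orderOf x = 2 → Nat.card {y : Matrix.ProjectiveSpecialLinearGroup (Fin 2) F // Group.IsSolvable ↥(Subgroup.closure ({x, y} : Set (Matrix.ProjectiveSpecialLinearGroup (Fin 2) F)))} = 3 * 2 ^ p * (2 ^ p - 1)) ∧
    (x ≠ 1 → orderOf x ∣ 2 ^ p - 1 → Nat.card {y : Matrix.ProjectiveSpecialLinearGroup (Fin 2) F // Group.IsSolvable ↥(Subgroup.closure ({x, y} : Set (Matrix.ProjectiveSpecialLinearGroup (Fin 2) F)))} = 2 * 2 ^ p * (2 ^ p - 1)) ∧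
    (x ≠ 1 → orderOf x ∣ 2 ^ p + 1 → Nat.card {y : Matrix.ProjectiveSpecialLinearGroup (Fin 2) F // Group.IsSolvable ↥(Subgroup.closure ({x, y} : Set (Matrix.ProjectiveSpecialLinearGroup (Fin 2) F)))} = 2 * (2 ^ p + 1)) := by
  haveI : Fact (Nat.Prime 2) := ⟨Nat.prime_two⟩
  haveI : CharP F 2 := by
    obtain ⟨r, hr⟩ := CharP.exists F
    obtain ⟨k, hrp, hk⟩ := FiniteField.card F r
    have hd : r ∣ 2 ^ p := by rw [← hF, hk]; exact dvd_pow_self r k.pos.ne'
    exact ((Nat.prime_dvd_prime_iff_eq hrp Nat.prime_two).mp (hrp.dvd_of_dvd_pow hd)) ▸ hr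
  have hG : MinSimple (PSL2 F) := (Cfsg.Agent.S0810.result hF).mpr (Or.inl ⟨p, hp, rfl⟩)
  have heven : Fintype.card F % 2 = 0 := by rw [hF, Nat.pow_mod]; simp [zero_pow hp.ne_zero]
  have hd : Nat.gcd 2 (Fintype.card F - 1) = 1 := by
    rcases d_even_or_odd (F := F) with ⟨h, -⟩ | ⟨-, h⟩
    · exact h
    · omega
  have hq := Fintype.one_lt_card (α := F)
  have semi : ∀ k, k ∣ Fintype.card F - 1 ∨ k ∣ Fintype.card F + 1 → Nat.Coprime k 2 ∧ k ≠ 2 := by
    intro k hk
    have hodd : ¬ 2 ∣ k := fun h => by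
      rcases hk with hk | hk <;> have := h.trans hk <;> omega
    exact ⟨((Nat.prime_two.coprime_iff_not_dvd).mpr hodd).symm, fun e => hodd (dvd_of_eq e.symm)⟩
  refine ⟨fun h => ?_, fun hx1 h => ?_, fun hx1 h => ?_⟩ <;> rw [← hF]
  · exact card_sol_involution_two hG (cases_two hp hF) heven h
  · rw [← hF] at h
    obtain ⟨hcop, hne⟩ := semi _ (Or.inl h)
    obtain ⟨w, hw⟩ := (fix_iff_dvd 2 hx1 hne hcop).1 h
    have hxp : x ^ 2 ≠ 1 := fun e => hx1 (by
      have := Nat.dvd_gcd (dvd_refl (orderOf x)) (orderOf_dvd_of_pow_eq_one e)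
      rw [hcop] at this
      exact orderOf_eq_one_iff.mp (Nat.dvd_one.mp this))
    obtain ⟨c, l, X, hl, hl4, hX, hc⟩ := exists_conj_diag 2 hw hxp (by rwa [← pow_two])
    have := card_sol_split 2 hG hl hX hl4 (fun H hH _ => cases_two hp hF H hH)
    rw [hd, one_mul, ← hc, card_sol_conj] at this
    exact this
  · rw [← hF] at h
    obtain ⟨hcop, hne⟩ := semi _ (Or.inr h)
    have := card_sol_torus 2 hG hx1 hne ((fix_iff_dvd 2 hx1 hne hcop).2 h) hcop
      (fun H hH _ => cases_two hp hF H hH)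
    rwa [hd, one_mul] at this

end Cfsg.Agent.S2257
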