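import Cfsg.Statements.S2258
import Cfsg.Agent.Lib.Dickson.SolubilizerThree
import Cfsg.Agent.S0810

set_option autoImplicit false
open Cfsg

namespace Cfsg.Agent.S2258

open Cfsg.Agent.Dickson

attribute [local instance] Cfsg.Agent.PLocalB.lineAction Cfsg.Agent.Dickson.pslLine

/-- Let G = PSL_2(F) with F a field of order q = 3^p, p an odd prime, and for x ∈ G call the solubilizer of x the set of y ∈ G such that x and y generate a solvable subgroup. Then the solubilizer of an involution has q(q + 1) elements; that of an element of order 3 has q(q + 5)/2 elements; that of an element of order neither 1 nor 2 dividing q − 1 has q(q − 1) elements; and that of an element of order neither 1 nor 2 dividing q + 1 has q + 1 elements. -/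
theorem result (p : ℕ) (hp : p.Prime) (hodd : Odd p) {F : Type*} [Field F] [Fintype F]
    (hF : Fintype.card F = 3 ^ p) (x : Matrix.ProjectiveSpecialLinearGroup (Fin 2) F) :
    (orderOf x = 2 → Nat.card {y : Matrix.ProjectiveSpecialLinearGroup (Fin 2) F // Group.IsSolvable ↥(Subgroup.closure ({x, y} : Set (Matrix.ProjectiveSpecialLinearGroup (Fin 2) F)))} = 3 ^ p * (3 ^ p + 1)) ∧
    (orderOf x = 3 → 2 * Nat.card {y : Matrix.ProjectiveSpecialLinearGroup (Fin 2) F // Group.IsSolvable ↥(Subgroup.closure ({x, y} : Set (Matrix.ProjectiveSpecialLinearGroup (Fin 2) F)))} = 3 ^ p * (3 ^ p + 5)) ∧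
    (x ≠ 1 → orderOf x ≠ 2 → orderOf x ∣ 3 ^ p - 1 → Nat.card {y : Matrix.ProjectiveSpecialLinearGroup (Fin 2) F // Group.IsSolvable ↥(Subgroup.closure ({x, y} : Set (Matrix.ProjectiveSpecialLinearGroup (Fin 2) F)))} = 3 ^ p * (3 ^ p - 1)) ∧
    (x ≠ 1 → orderOf x ≠ 2 → orderOf x ∣ 3 ^ p + 1 → Nat.card {y : Matrix.ProjectiveSpecialLinearGroup (Fin 2) F // Group.IsSolvable ↥(Subgroup.closure ({x, y} : Set (Matrix.ProjectiveSpecialLinearGroup (Fin 2) F)))} = 3 ^ p + 1) := by
  haveI : Fact (Nat.Prime 3) := ⟨Nat.prime_three⟩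
  haveI : CharP F 3 := by
    obtain ⟨r, hr⟩ := CharP.exists F
    obtain ⟨k, hrp, hk⟩ := FiniteField.card F r
    have hd : r ∣ 3 ^ p := by rw [← hF, hk]; exact dvd_pow_self r k.pos.ne'
    exact ((Nat.prime_dvd_prime_iff_eq hrp Nat.prime_three).mp (hrp.dvd_of_dvd_pow hd)) ▸ hr
  have hp2 : p ≠ 2 := fun e => by rw [e] at hodd; exact absurd hodd (by decide)
  have hG : MinSimple (PSL2 F) :=
    (Cfsg.Agent.S0810.result hF).mpr (Or.inr (Or.inl ⟨p, hp, hp2, rfl⟩))
  have h4 : Fintype.card F % 4 = 3 := by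
    obtain ⟨j, rfl⟩ := hodd
    rw [hF, pow_succ, pow_mul, Nat.mul_mod, Nat.pow_mod]
    norm_num
  have hns : ¬ IsSquare (-1 : F) := fun h => FiniteField.isSquare_neg_one_iff.mp h h4
  obtain ⟨T, hT⟩ := exists_subfield_dvd (r := 1) hF (one_dvd p) le_rfl
  have hT2 : Nat.card T ^ 2 ≤ Fintype.card F := by
    rw [hT, hF, ← pow_mul]
    exact Nat.pow_le_pow_right (by norm_num) (by have := hp.two_le; omega)
  have hd : Nat.gcd 2 (Fintype.card F - 1) = 2 :=
    Nat.gcd_eq_left (Nat.dvd_of_mod_eq_zero (by omega))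
  have semi : ∀ k, k ∣ Fintype.card F - 1 ∨ k ∣ Fintype.card F + 1 → Nat.Coprime k 3 := by
    intro k hk
    refine ((Nat.prime_three.coprime_iff_not_dvd).mpr fun h => ?_).symm
    have h3 : 3 ∣ Fintype.card F := by rw [hF]; exact dvd_pow_self 3 hp.ne_zero
    rcases hk with hk | hk <;> have := h.trans hk <;> omega
  have hsemi : x ≠ 1 → orderOf x ≠ 2 → Nat.Coprime (orderOf x) 3 → x * x ≠ 1 ∧
      x ^ 3 ≠ 1 ∧ ∀ H : Subgroup (PSL2 F), H ≠ ⊤ → ∀ y : PSL2 F, orderOf y = orderOf x → y ∈ H →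
        (∃ w : OnePoint F, H ≤ MulAction.stabilizer (PSL2 F) w) ∨
        (∃ (N : Subgroup (PSL2 F)) (n : ℕ), IsTorusNorm N n ∧ H ≤ N) := by
    intro hx1 hx2 hcop
    have hne : ∀ y : PSL2 F, orderOf y = orderOf x → ¬ (y ^ 2 = 1 ∨ y ^ 3 = 1) := fun y hy h => by
      have h2 := coprime_six hcop hy h
      haveI : Fact (Nat.Prime 2) := ⟨Nat.prime_two⟩
      exact hx2 (hy ▸ orderOf_eq_prime h2 fun e => hx1 (by
        rw [← orderOf_eq_one_iff, ← hy, e, orderOf_one]))
    refine ⟨fun e => hne x rfl (Or.inl (by rwa [pow_two])), fun e => hne x rfl (Or.inr e),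
      fun H hH y hy hyH => ?_⟩
    rcases cases_three hp hodd hF H hH with h | h | h
    · exact Or.inl h
    · exact Or.inr h
    · exact absurd (h y hyH) (hne y hy)
  refine ⟨fun h => ?_, fun h => ?_, fun hx1 hx2 h => ?_, fun hx1 hx2 h => ?_⟩ <;> rw [← hF]
  · exact card_sol_involution_three hG (cases_three hp hodd hF) hns hT2 h
  · exact card_sol_unipotent_three hG (cases_three hp hodd hF) (by omega) hT2 h
  · rw [← hF] at h
    have hcop := semi _ (Or.inl h)
    obtain ⟨hxx, hxp, hH⟩ := hsemi hx1 hx2 hcop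
    obtain ⟨w, hw⟩ := (fix_iff_dvd 3 hx1 hx2 hcop).1 h
    obtain ⟨c, l, X, hl, hl4, hX, hc⟩ := exists_conj_diag 3 hw hxp hxx
    have := card_sol_split 3 hG hl hX hl4 (fun H hH' hXH => hH H hH' _
      (by rw [← hc, show c * x * c⁻¹ = MulAut.conj c x from rfl, MulEquiv.orderOf_eq]) hXH)
    rw [hd, ← hc, card_sol_conj, mul_assoc 2] at this
    exact Nat.eq_of_mul_eq_mul_left two_pos this
  · rw [← hF] at h
    have hcop := semi _ (Or.inr h)
    obtain ⟨hxx, hxp, hH⟩ := hsemi hx1 hx2 hcop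
    have := card_sol_torus 3 hG hx1 hx2 ((fix_iff_dvd 3 hx1 hx2 hcop).2 h) hcop
      (fun H hH' hxH => hH H hH' x rfl hxH)
    rw [hd] at this
    exact Nat.eq_of_mul_eq_mul_left two_pos this

end Cfsg.Agent.S2258
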