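import Cfsg.Statements.S2259
import Cfsg.Agent.LocalEven64.SzSub.SolCount
import Cfsg.Agent.Lib.RankOne.SzBridge

set_option autoImplicit false
open Cfsg

namespace Cfsg.Agent.S2259

open Cfsg.Agent.Suzuki Cfsg.Agent.LocalEven64.SzSub

/-- Let G be the Suzuki group Sz(q), q = 2^(2m+1) with 2m + 1 prime and m ≥ 1, realised inside Sp_4(F) for F the field of order q, write r = 2^(m+1) (so r² = 2q), and for x ∈ G call the solubilizer of x the set of y ∈ G such that x and y generate a solvable subgroup. Then the solubilizer of an involution has q²(4q − 3) elements; that of an element of order 4 has q²(q + 3) elements; that of a non-identity element of order dividing q − 1 has 2q²(q − 1) elements; that of a non-identity element of order dividing q + r + 1 has 4(q + r + 1) elements; and that of a non-identity element of order dividing q − r + 1 has 4(q − r + 1) elements. -/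
theorem result {F : Type*} [Field F] [Fintype F] {m : ℕ} (hm : 1 ≤ m)
    (hp : (2 * m + 1).Prime) (hF : Fintype.card F = 2 ^ (2 * m + 1)) (x : ↥(Cfsg.Lie.Sz F (2 ^ (m + 1)))) :
    (orderOf x = 2 → Nat.card {y : ↥(Cfsg.Lie.Sz F (2 ^ (m + 1))) // Group.IsSolvable ↥(Subgroup.closure ({x, y} : Set (↥(Cfsg.Lie.Sz F (2 ^ (m + 1))))))} = (2 ^ (2 * m + 1)) ^ 2 * (4 * 2 ^ (2 * m + 1) - 3)) ∧
    (orderOf x = 4 → Nat.card {y : ↥(Cfsg.Lie.Sz F (2 ^ (m + 1))) // Group.IsSolvable ↥(Subgroup.closure ({x, y} : Set (↥(Cfsg.Lie.Sz F (2 ^ (m + 1))))))} = (2 ^ (2 * m + 1)) ^ 2 * (2 ^ (2 * m + 1) + 3)) ∧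
    (x ≠ 1 → orderOf x ∣ 2 ^ (2 * m + 1) - 1 →
      Nat.card {y : ↥(Cfsg.Lie.Sz F (2 ^ (m + 1))) // Group.IsSolvable ↥(Subgroup.closure ({x, y} : Set (↥(Cfsg.Lie.Sz F (2 ^ (m + 1))))))} = 2 * (2 ^ (2 * m + 1)) ^ 2 * (2 ^ (2 * m + 1) - 1)) ∧
    (x ≠ 1 → orderOf x ∣ 2 ^ (2 * m + 1) + 2 ^ (m + 1) + 1 → Nat.card {y : ↥(Cfsg.Lie.Sz F (2 ^ (m + 1))) // Group.IsSolvable ↥(Subgroup.closure ({x, y} : Set (↥(Cfsg.Lie.Sz F (2 ^ (m + 1))))))} = 4 * (2 ^ (2 * m + 1) + 2 ^ (m + 1) + 1)) ∧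
    (x ≠ 1 → orderOf x ∣ 2 ^ (2 * m + 1) - 2 ^ (m + 1) + 1 → Nat.card {y : ↥(Cfsg.Lie.Sz F (2 ^ (m + 1))) // Group.IsSolvable ↥(Subgroup.closure ({x, y} : Set (↥(Cfsg.Lie.Sz F (2 ^ (m + 1))))))} = 4 * (2 ^ (2 * m + 1) - 2 ^ (m + 1) + 1)) := by
  classical
  set e := Cfsg.Agent.RankOne.SzBridge.szEquiv hF hm with he
  obtain ⟨x', rfl⟩ := e.surjective x
  have hc : Nat.card {y : ↥(Cfsg.Lie.Sz F (2 ^ (m + 1))) //
      Group.IsSolvable ↥(Subgroup.closure ({e x', y} : Set (↥(Cfsg.Lie.Sz F (2 ^ (m + 1))))))}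
      = Nat.card {y : Cfsg.Sz F m // SolP x' y} := card_solP_map e x'
  rw [hc, MulEquiv.orderOf_eq, ← hF]
  obtain ⟨g₁, g₂, H⟩ := exists_tori hF hm
  have hne : e x' ≠ 1 → x' ≠ 1 := fun h h' => h (by rw [h', map_one])
  refine ⟨fun h2 => ?_, fun h4 => ?_, fun h1 h => card_sol_split hF hm hp (hne h1) h,
    fun h1 h => ?_, fun h1 h => ?_⟩
  · obtain ⟨g, hg⟩ := isConj_iff.1 (isConj_involution hF hm (one_ne_zero (α := F)) h2)
    rw [← hg, card_solP_conj]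
    exact card_sol_U_zero hF hm hp one_ne_zero
  · obtain ⟨c, hcx⟩ := exists_U_one hF hm h4
    obtain ⟨g, hg⟩ := isConj_iff.1 hcx
    rw [← hg, card_solP_conj]
    exact card_sol_U_one hF hm hp c
  · rw [card_sol_torus hF hm hp H H.fpf₁ H.norm₁ (hne h1) (by rw [H.card₁]; exact h), H.card₁]
  · rw [card_sol_torus hF hm hp H H.fpf₂ H.norm₂ (hne h1) (by rw [H.card₂]; exact h), H.card₂]

end Cfsg.Agent.S2259
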