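import Cfsg.Statements.S2260
-- import your own Cfsg.Agent.* helpers here

set_option autoImplicit false
open Cfsg

namespace Cfsg.Agent.S2260

/-- Let F be a finite field of prime characteristic p and u an invertible d × d matrix over F with u − 1 nilpotent (a unipotent element). Then the order of u is at most p^⌈log_p d⌉; and if moreover (u − 1)^(d−1) ≠ 0 (u is a single Jordan block) then the order of u is exactly p^⌈log_p d⌉. -/
theorem result {F : Type*} [Field F] [Finite F] (p : ℕ) [Fact p.Prime] [CharP F p] (d : ℕ)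
    (u : GL (Fin d) F) (hu : IsNilpotent ((u : Matrix (Fin d) (Fin d) F) - 1)) :
    orderOf u ≤ p ^ Nat.clog p d ∧
    (((u : Matrix (Fin d) (Fin d) F) - 1) ^ (d - 1) ≠ 0 → orderOf u = p ^ Nat.clog p d) := by
  have hp : p.Prime := Fact.out
  set N : Matrix (Fin d) (Fin d) F := (u : Matrix (Fin d) (Fin d) F) - 1 with hN
  have hu1 : (u : Matrix (Fin d) (Fin d) F) = N + 1 := by simp [hN]
  rcases Nat.eq_zero_or_pos d with hd | hd
  · subst hd
    have : orderOf u = 1 := by
      rw [orderOf_eq_one_iff]
      exact Units.ext (Subsingleton.elim _ _)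
    simp [this]
  have hNd : N ^ d = 0 := by
    have h := Matrix.isNilpotent_charpoly_sub_pow_of_isNilpotent hu
    have h' : N.charpoly = Polynomial.X ^ d := by
      have := IsNilpotent.eq_zero h
      simpa [sub_eq_zero] using this
    have h2 := Matrix.aeval_self_charpoly N
    rw [h'] at h2
    simpa using h2
  haveI : Nonempty (Fin d) := ⟨⟨0, hd⟩⟩
  haveI : CharP (Matrix (Fin d) (Fin d) F) p :=
    charP_of_injective_algebraMap (algebraMap F (Matrix (Fin d) (Fin d) F)).injective p
  haveI : Fact p.Prime := ⟨hp⟩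
  have key : ∀ j : ℕ, (u ^ p ^ j = 1 ↔ N ^ p ^ j = 0) := by
    intro j
    rw [Units.ext_iff, Units.val_pow_eq_pow_val, Units.val_one, hu1,
      add_pow_char_pow_of_commute p (Commute.one_right N) (n := j), one_pow]
    constructor
    · intro h; simpa using h
    · intro h; simp [h]
  have hk : d ≤ p ^ Nat.clog p d := Nat.le_pow_clog hp.one_lt d
  have hdvd : orderOf u ∣ p ^ Nat.clog p d :=
    orderOf_dvd_of_pow_eq_one ((key _).mpr (pow_eq_zero_of_le hk hNd))
  refine ⟨Nat.le_of_dvd (pow_pos hp.pos _) hdvd, fun hne => ?_⟩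
  obtain ⟨j, hj, hju⟩ := (Nat.dvd_prime_pow hp).mp hdvd
  have h0 : N ^ p ^ j = 0 := (key j).mp (by rw [← hju]; exact pow_orderOf_eq_one u)
  have : d ≤ p ^ j := by
    by_contra hlt
    exact hne (pow_eq_zero_of_le (by omega) h0)
  rw [hju, le_antisymm hj (Nat.clog_le_of_le_pow this)]

end Cfsg.Agent.S2260
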