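import Cfsg.Statements.S2261
-- import your own Cfsg.Agent.* helpers here

set_option autoImplicit false
open Cfsg

namespace Cfsg.Agent.S2261

open Polynomial in
theorem order_bound {F : Type*} [Field F] [Fintype F] (d : ℕ) (hd : 1 ≤ d)
    (g : (GL (Fin d) F ⧸ Subgroup.center (GL (Fin d) F))) :
    (Fintype.card F - 1) * orderOf g ≤ Fintype.card F ^ d - 1 := by
  classical
  obtain ⟨u, rfl⟩ := QuotientGroup.mk_surjective g
  haveI : Nonempty (Fin d) := ⟨⟨0, hd⟩⟩
  set n := orderOf (u : GL (Fin d) F ⧸ Subgroup.center (GL (Fin d) F)) with hn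
  set N : Matrix (Fin d) (Fin d) F := (u : Matrix (Fin d) (Fin d) F) with hN
  have hex : ∀ x : Fin n × Fˣ, ∃ v : {v : Fin d → F // v ≠ 0},
      ∑ j : Fin d, v.1 j • N ^ (j : ℕ) = (x.2 : F) • N ^ (x.1 : ℕ) := by
    rintro ⟨i, c⟩
    set r : F[X] := (C (c : F) * X ^ (i : ℕ)) %ₘ N.charpoly with hr
    have hdeg : r.natDegree < d := by
      have hc : N.charpoly.natDegree = d := by rw [Matrix.charpoly_natDegree_eq_dim]; simp
      have := natDegree_modByMonic_lt (C (c : F) * X ^ (i : ℕ)) N.charpoly_monic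
        (by intro h; rw [h] at hc; simp at hc; omega)
      rw [hr]
      omega
    have hval : ∑ j : Fin d, r.coeff j • N ^ (j : ℕ) = (c : F) • N ^ (i : ℕ) := by
      rw [Fin.sum_univ_eq_sum_range (fun j => r.coeff j • N ^ j) d,
        ← aeval_eq_sum_range' hdeg N, hr,
        aeval_modByMonic_eq_self_of_root (Matrix.aeval_self_charpoly N)]
      simp [Algebra.smul_def]
    refine ⟨⟨fun j => r.coeff j, fun h0 => ?_⟩, hval⟩
    have hne : ((u : GL (Fin d) F) ^ (i : ℕ) : GL (Fin d) F).val ≠ 0 := Units.ne_zero _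
    have h0' : (c : F) • N ^ (i : ℕ) = 0 := by
      rw [← hval]
      exact Finset.sum_eq_zero fun j _ => by
        have := congrFun h0 j
        simp only [Pi.zero_apply] at this
        rw [this, zero_smul]
    rw [Units.val_pow_eq_pow_val] at hne
    exact hne ((smul_eq_zero.mp h0').resolve_left c.ne_zero)
  choose v hv using hex
  have hinj : Function.Injective v := by
    rintro ⟨i, c⟩ ⟨j, e⟩ h
    have h1 : (c : F) • N ^ (i : ℕ) = (e : F) • N ^ (j : ℕ) := by
      rw [← hv (i, c), ← hv (j, e), h]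
    let s : Fˣ →* GL (Fin d) F := Matrix.GeneralLinearGroup.scalar (Fin d)
    have h2 : s c * u ^ (i : ℕ) = s e * u ^ (j : ℕ) := by
      apply Units.ext
      simpa [s, Matrix.GeneralLinearGroup.scalar, ← Matrix.smul_eq_diagonal_mul] using h1
    have hs : ∀ a : Fˣ, (s a : GL (Fin d) F) ∈ Subgroup.center (GL (Fin d) F) := by
      intro a
      rw [Matrix.GeneralLinearGroup.center_eq_range_scalar]
      exact ⟨a, rfl⟩
    have h3 := congrArg (QuotientGroup.mk (s := Subgroup.center (GL (Fin d) F))) h2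
    rw [QuotientGroup.mk_mul, QuotientGroup.mk_mul, (QuotientGroup.eq_one_iff _).mpr (hs c),
      (QuotientGroup.eq_one_iff _).mpr (hs e), one_mul, one_mul, QuotientGroup.mk_pow,
      QuotientGroup.mk_pow] at h3
    have hij : i = j := Fin.ext (pow_injOn_Iio_orderOf i.2 j.2 h3)
    subst hij
    have hne : N ^ (i : ℕ) ≠ 0 := by
      rw [hN, ← Units.val_pow_eq_pow_val]
      exact Units.ne_zero _
    exact Prod.ext rfl (Units.ext (smul_left_injective F hne h1))
  have h := Fintype.card_le_of_injective v hinj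
  simp only [Fintype.card_prod, Fintype.card_fin, Fintype.card_units] at h
  rw [Fintype.card_subtype_compl] at h
  simp only [Fintype.card_fun, Fintype.card_fin, Fintype.card_subtype_eq] at h
  rw [Nat.mul_comm]
  exact h

theorem order_attained {F : Type*} [Field F] [Fintype F] (d : ℕ) (hd : 1 ≤ d) :
    ∃ g : (GL (Fin d) F ⧸ Subgroup.center (GL (Fin d) F)),
      Fintype.card F ^ d - 1 ≤ (Fintype.card F - 1) * orderOf g := by
  classical
  obtain ⟨p, hp⟩ := CharP.exists F
  haveI : Fact p.Prime := ⟨CharP.char_is_prime F p⟩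
  haveI : NeZero d := ⟨by omega⟩
  let K := FiniteField.Extension F p d
  haveI : Finite K := Module.finite_of_finite F
  let b : Module.Basis (Fin d) F K :=
    Module.finBasisOfFinrankEq F K (FiniteField.finrank_extension F p d)
  let φ : Kˣ →* GL (Fin d) F := Units.map (Algebra.leftMulMatrix b).toRingHom.toMonoidHom
  obtain ⟨ζ, hζ⟩ := IsCyclic.exists_generator (α := Kˣ)
  refine ⟨(φ ζ : GL (Fin d) F ⧸ Subgroup.center (GL (Fin d) F)), ?_⟩
  set n := orderOf (φ ζ : GL (Fin d) F ⧸ Subgroup.center (GL (Fin d) F)) with hn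
  have h1 : (φ ζ) ^ n ∈ Subgroup.center (GL (Fin d) F) := by
    rw [← QuotientGroup.eq_one_iff, QuotientGroup.mk_pow, hn, pow_orderOf_eq_one]
  rw [Matrix.GeneralLinearGroup.center_eq_range_scalar] at h1
  obtain ⟨c, hc⟩ := h1
  have hc' : ((ζ : K)) ^ n = algebraMap F K c := by
    apply Algebra.leftMulMatrix_injective b
    have := congrArg Units.val hc
    simp [φ, Matrix.GeneralLinearGroup.scalar] at this
    simp [← this, Matrix.algebraMap_eq_diagonal]
  have hpow : ζ ^ (n * (Fintype.card F - 1)) = 1 := by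
    apply Units.ext
    rw [Units.val_pow_eq_pow_val, pow_mul, hc', ← map_pow, FiniteField.pow_card_sub_one_eq_one _ c.ne_zero]
    simp
  have hd' := orderOf_dvd_of_pow_eq_one hpow
  rw [orderOf_eq_card_of_forall_mem_zpowers hζ, Nat.card_units, Module.natCard_eq_pow_finrank (K := F),
    FiniteField.finrank_extension F p d, Nat.card_eq_fintype_card] at hd'
  rw [Nat.mul_comm] at hd'
  have hpos : 0 < (Fintype.card F - 1) * n :=
    Nat.mul_pos (by have := Fintype.one_lt_card (α := F); omega) (orderOf_pos _)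
  exact Nat.le_of_dvd hpos hd'

/-- Let F be a finite field with q elements and d ≥ 1. Then every element of PGL_d(F) = GL_d(F)/Z has order at most (q^d − 1)/(q − 1), and some element (the image of a Singer cycle) has exactly this order. -/
theorem result {F : Type*} [Field F] [Fintype F] (d : ℕ) (hd : 1 ≤ d) :
    (∀ g : (GL (Fin d) F ⧸ Subgroup.center (GL (Fin d) F)), (Fintype.card F - 1) * orderOf g ≤ Fintype.card F ^ d - 1) ∧
    (∃ g : (GL (Fin d) F ⧸ Subgroup.center (GL (Fin d) F)), (Fintype.card F - 1) * orderOf g = Fintype.card F ^ d - 1) := by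
  refine ⟨order_bound d hd, ?_⟩
  obtain ⟨g, hg⟩ := order_attained (F := F) d hd
  exact ⟨g, le_antisymm (order_bound d hd g) hg⟩

end Cfsg.Agent.S2261
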