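import Cfsg.Statements.S2263
import Cfsg.Agent.PGUOrder1.Upper
import Cfsg.Agent.PGUOrder1.Witness

set_option autoImplicit false
open Cfsg

namespace Cfsg.Agent.S2263

open Matrix PGUOrder1

/-- Odd dimension, non-prime field. -/
theorem good_odd_big {q p d : ℕ} (hp : 2 ≤ p) (hpp : p * p ≤ q) (hd : 3 ≤ d) (hodd : Odd d) {n : ℕ}
    (h : Good p q d n) : n ≤ q ^ (d - 1) - 1 := by
  rcases h with h | ⟨he, -⟩ | ⟨-, h⟩ | ⟨he, -⟩
  · exact h
  · exact absurd hodd (Nat.not_odd_iff_even.mpr he)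
  · have h3 : q ^ (d - 2) * q = q ^ (d - 1) := by rw [← pow_succ]; congr 1; omega
    have hx : 2 ≤ q ^ (d - 2) := le_trans (by nlinarith) (Nat.le_self_pow (by omega) q)
    have h4 : 2 * p ≤ q := le_trans (Nat.mul_le_mul_right p hp) hpp
    have h5 := Nat.mul_le_mul_left (q ^ (d - 2)) h4
    have h6 := Nat.mul_le_mul hx (le_refl p)
    rw [add_mul, one_mul] at h
    have h7 : q ^ (d - 2) * (2 * p) = 2 * (q ^ (d - 2) * p) := by ring
    omega
  · exact absurd hodd (Nat.not_odd_iff_even.mpr he)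

/-- Odd dimension, prime field. -/
theorem good_odd_prime {p d : ℕ} (hd : 3 ≤ d) (hodd : Odd d) {n : ℕ} (h : Good p p d n) :
    n ≤ (p ^ (d - 2) + 1) * p := by
  rcases h with h | ⟨he, -⟩ | ⟨-, h⟩ | ⟨he, -⟩
  · rw [add_mul, one_mul, ← pow_succ, show d - 2 + 1 = d - 1 by omega]
    omega
  · exact absurd hodd (Nat.not_odd_iff_even.mpr he)
  · exact h
  · exact absurd hodd (Nat.not_odd_iff_even.mpr he)

/-- Even dimension, `q > 2`. -/
theorem good_even_big {q p d : ℕ} (hp : p.Prime) (hdvd : p ∣ q) (hq : 2 < q) (hd : 3 ≤ d) (hev : Even d) {n : ℕ}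
    (h : Good p q d n) : n ≤ q ^ (d - 1) + 1 := by
  rcases h with h | ⟨-, h⟩ | ⟨ho, -⟩ | ⟨-, h⟩
  · omega
  · exact h
  · exact absurd ho (Nat.not_odd_iff_even.mpr hev)
  · have h3 : q ^ (d - 3) * q ^ 2 = q ^ (d - 1) := by rw [← pow_add]; congr 1; omega
    have hpq := Nat.le_of_dvd (by omega) hdvd
    have ht : 2 * three p ≤ q ^ 2 := by
      rw [three, sq]
      split
      · next hp2 =>
        have : q ≠ 3 := by rintro rfl; subst hp2; norm_num at hdvd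
        have : 4 * 4 ≤ q * q := Nat.mul_le_mul (by omega) (by omega)
        omega
      · have : 2 * q ≤ q * q := Nat.mul_le_mul_right q (by omega)
        omega
    have hx : 1 ≤ q ^ (d - 3) := Nat.one_le_pow _ _ (by omega)
    have h5 := Nat.mul_le_mul_left (q ^ (d - 3)) ht
    have h6 := Nat.mul_le_mul_left (three p) hx
    rw [mul_add, mul_one] at h
    have h7 : q ^ (d - 3) * (2 * three p) = 2 * (three p * q ^ (d - 3)) := by ring
    omega

/-- Even dimension, `q = 2`. -/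
theorem good_even_two {d : ℕ} (hd : 3 ≤ d) (hev : Even d) {n : ℕ} (h : Good 2 2 d n) :
    n ≤ 4 * (2 ^ (d - 3) + 1) := by
  have h3 : 2 ^ (d - 3) * 4 = 2 ^ (d - 1) := by rw [show (4 : ℕ) = 2 ^ 2 by norm_num, ← pow_add]; congr 1; omega
  rcases h with h | ⟨-, h⟩ | ⟨ho, -⟩ | ⟨-, h⟩
  · omega
  · omega
  · exact absurd ho (Nat.not_odd_iff_even.mpr hev)
  · rwa [show three 2 = 4 from if_pos rfl] at h

/-- Let q = p^f with p prime and f ≥ 1, F a field with q² elements, d ≥ 3 with (d, q) ≠ (3, 2), and PGU_d(q) the general unitary group of the standard Hermitian form modulo its centre. Then the largest order of an element of PGU_d(q) is: q^(d−1) − 1 if d is odd and f ≥ 2; (p^(d−2) + 1)p if d is odd and f = 1; q^(d−1) + 1 if d is even and q > 2; 4(2^(d−3) + 1) if d is even and q = 2. -/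
theorem result {F : Type*} [Field F] [Fintype F] (p f d : ℕ) (hp : p.Prime) (hf : 1 ≤ f) (q : ℕ) (hq : q = p ^ f)
    (hF : Fintype.card F = q ^ 2) (hd : 3 ≤ d) (h32 : ¬ (d = 3 ∧ q = 2)) :
    (Odd d → 2 ≤ f → (∀ g : (↥(Cfsg.GU d F q) ⧸ Subgroup.center ↥(Cfsg.GU d F q)), orderOf g ≤ q ^ (d - 1) - 1) ∧ ∃ g : (↥(Cfsg.GU d F q) ⧸ Subgroup.center ↥(Cfsg.GU d F q)), orderOf g = q ^ (d - 1) - 1) ∧
    (Odd d → f = 1 → (∀ g : (↥(Cfsg.GU d F q) ⧸ Subgroup.center ↥(Cfsg.GU d F q)), orderOf g ≤ (p ^ (d - 2) + 1) * p) ∧ ∃ g : (↥(Cfsg.GU d F q) ⧸ Subgroup.center ↥(Cfsg.GU d F q)), orderOf g = (p ^ (d - 2) + 1) * p) ∧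
    (Even d → 2 < q → (∀ g : (↥(Cfsg.GU d F q) ⧸ Subgroup.center ↥(Cfsg.GU d F q)), orderOf g ≤ q ^ (d - 1) + 1) ∧ ∃ g : (↥(Cfsg.GU d F q) ⧸ Subgroup.center ↥(Cfsg.GU d F q)), orderOf g = q ^ (d - 1) + 1) ∧
    (Even d → q = 2 → (∀ g : (↥(Cfsg.GU d F q) ⧸ Subgroup.center ↥(Cfsg.GU d F q)), orderOf g ≤ 4 * (2 ^ (d - 3) + 1)) ∧ ∃ g : (↥(Cfsg.GU d F q) ⧸ Subgroup.center ↥(Cfsg.GU d F q)), orderOf g = 4 * (2 ^ (d - 3) + 1)) := by
  classical
  haveI : Fact p.Prime := ⟨hp⟩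
  haveI : CharP F p := by
    obtain ⟨c, hc⟩ := CharP.exists F
    obtain ⟨g, hcp, hg⟩ := FiniteField.card F c
    have h1 : c ∣ p ^ (f * 2) := by rw [pow_mul, ← hq, ← hF, hg]; exact dvd_pow_self c g.ne_zero
    rwa [(Nat.prime_dvd_prime_iff_eq hcp hp).mp (hcp.dvd_of_dvd_pow h1)] at hc
  letI : StarRing F := Forms59.starRingOfCard hF
  have hs : ∀ x : F, star x = x ^ q := fun _ => rfl
  haveI : Finite (↥(Cfsg.GU d F q) ⧸ Subgroup.center ↥(Cfsg.GU d F q)) := inferInstance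
  have upper : ∀ B, (∀ n, Good p q d n → n ≤ B) →
      ∀ g : (↥(Cfsg.GU d F q) ⧸ Subgroup.center ↥(Cfsg.GU d F q)), orderOf g ≤ B := by
    intro B hB g
    obtain ⟨x, rfl⟩ := QuotientGroup.mk_surjective g
    obtain ⟨n, hn0, hgood, c, hc⟩ := exists_scalar_pow hF p hd h32 hs _
      ((Forms59.mem_GU_iff_conjTranspose hs (x : GL (Fin d) F)).mp x.2)
    refine (orderOf_le_of_pow_eq_one hn0 ?_).trans (hB n hgood)
    rw [← QuotientGroup.mk_pow, QuotientGroup.eq_one_iff, Unitary.mem_center_GU_iff hF]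
    refine ⟨c, fun v => ?_⟩
    show (((x : GL (Fin d) F) ^ n : GL (Fin d) F) : Matrix (Fin d) (Fin d) F) *ᵥ v = c • v
    rw [Units.val_pow_eq_pow_val, hc, Matrix.smul_mulVec, Matrix.one_mulVec]
  have both : ∀ B, (∀ n, Good p q d n → n ≤ B) →
      (∃ g : (↥(Cfsg.GU d F q) ⧸ Subgroup.center ↥(Cfsg.GU d F q)), B ∣ orderOf g) →
      (∀ g : (↥(Cfsg.GU d F q) ⧸ Subgroup.center ↥(Cfsg.GU d F q)), orderOf g ≤ B) ∧
        ∃ g : (↥(Cfsg.GU d F q) ⧸ Subgroup.center ↥(Cfsg.GU d F q)), orderOf g = B := fun B hB ⟨g, hg⟩ =>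
    ⟨upper B hB, g, le_antisymm (upper B hB g) (Nat.le_of_dvd (orderOf_pos g) hg)⟩
  have one1 : ∀ (j : ℕ) (s : F), (1 : Matrix (Fin 1) (Fin 1) F) ^ j = s • 1 → s = 1 := fun j s h => by
    simpa using (congrFun (congrFun h 0) 0).symm
  refine ⟨fun hodd hf2 => both _ (fun n => good_odd_big hp.two_le ?_ hd hodd) ?_,
    fun hodd hf1 => ?_, fun hev hq2 => both _ (fun n => good_even_big hp ?_ hq2 hd hev) ?_,
    fun hev hq2 => ?_⟩
  · rw [hq, ← sq]; exact Nat.pow_le_pow_right hp.pos hf2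
  · obtain ⟨m, hm⟩ : Even (d - 1) := Nat.Odd.sub_odd hodd odd_one
    obtain ⟨A, M, hA, hdvd⟩ := exists_hyperbolic (F := F) hF (m := m) (by omega)
    obtain ⟨g, hg⟩ := exists_elt hF hs (d := d) (show m + m + 1 = d by omega) hA (pres_one (n := 1))
      (N := q ^ (m + m) - 1) fun j s h1 h2 => hdvd j (by rw [h1, one1 j s h2, one_smul])
    exact ⟨g, by rw [hm]; exact hg⟩
  · obtain rfl : q = p := by rw [hq, hf1, pow_one]
    refine both _ (fun n => good_odd_prime hd hodd) ?_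
    have hodd2 : Odd (d - 2) := Nat.Odd.sub_even (by omega) hodd even_two
    obtain ⟨A, M, hA, hdvd⟩ := exists_singer hF hs hodd2
    obtain ⟨A2, M2, hA2, hdvd2⟩ := exists_unipotent_two hF hs q
    refine exists_elt hF hs (d := d) (show d - 2 + 2 = d by omega) hA hA2 fun j s h1 h2 => ?_
    obtain ⟨rfl, hpj⟩ := hdvd2 j s h2
    refine Nat.Coprime.mul_dvd_of_dvd_of_dvd ?_ (hdvd j (by rw [h1, one_smul])) hpj
    refine Nat.Coprime.symm (hp.coprime_iff_not_dvd.mpr fun h => hp.not_dvd_one ?_)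
    exact (Nat.dvd_add_right (dvd_pow_self q (by omega))).mp h
  · exact hq ▸ dvd_pow_self p (by omega)
  · have hodd1 : Odd (d - 1) := Nat.Even.sub_odd (by omega) hev odd_one
    obtain ⟨A, M, hA, hdvd⟩ := exists_singer hF hs hodd1
    exact exists_elt hF hs (d := d) (show d - 1 + 1 = d by omega) hA (pres_one (n := 1))
      fun j s h1 h2 => hdvd j (by rw [h1, one1 j s h2, one_smul])
  · subst hq2
    obtain rfl : p = 2 := by
      have h1 : p ∣ 2 := hq ▸ dvd_pow_self p (by omega)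
      exact (Nat.prime_dvd_prime_iff_eq hp Nat.prime_two).mp h1
    refine both _ (fun n => good_even_two hd hev) ?_
    have hodd3 : Odd (d - 3) := Nat.Even.sub_odd hd hev (by decide)
    obtain ⟨A, M, hA, hdvd⟩ := exists_singer hF hs hodd3
    obtain ⟨A2, M2, hA2, hdvd2⟩ := exists_unipotent_three hF hs
    refine exists_elt hF hs (d := d) (show d - 3 + 3 = d by omega) hA hA2 fun j s h1 h2 => ?_
    obtain ⟨rfl, hpj⟩ := hdvd2 j s h2
    refine Nat.Coprime.mul_dvd_of_dvd_of_dvd ?_ hpj (hdvd j (by rw [h1, one_smul]))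
    show Nat.Coprime (2 ^ 2) (2 ^ (d - 3) + 1)
    refine Nat.Coprime.pow_left 2 (Nat.prime_two.coprime_iff_not_dvd.mpr fun h => Nat.prime_two.not_dvd_one ?_)
    exact (Nat.dvd_add_right (dvd_pow_self 2 (by omega))).mp h

end Cfsg.Agent.S2263
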