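import Cfsg.Statements.S2264
import Cfsg.Agent.ClassOrder1.Matrix

set_option autoImplicit false
open Cfsg

namespace Cfsg.Agent.S2264

/-- Let F be a finite field with q elements and m ≥ 2. Then every element g of PSp_2m(F) satisfies (q − 1)·|g| ≤ q^(m+1), i.e. has order at most q^(m+1)/(q − 1). -/
theorem result {F : Type*} [Field F] [Fintype F] (m : ℕ) (hm : 2 ≤ m) (g : Cfsg.PSp m F) :
    (Fintype.card F - 1) * orderOf g ≤ Fintype.card F ^ (m + 1) := by
  obtain ⟨g, rfl⟩ := QuotientGroup.mk_surjective g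
  refine ClassOrder1.orderOf_mk_le (Subgroup.center _) (Matrix.symplecticGroup (Fin m) F).subtype
    Subtype.val_injective (fun h hh => Subgroup.mem_center_iff.mpr fun x => Subtype.ext ?_) g ?_ m hm
    (Or.inl (by simp; omega))
  · change (h : Matrix (Fin m ⊕ Fin m) (Fin m ⊕ Fin m) F) = -1 at hh
    show (x : Matrix (Fin m ⊕ Fin m) (Fin m ⊕ Fin m) F) * h = h * x
    rw [hh]; simp
  · refine ClassOrder1.charpoly_inv_of_preserving _ (Matrix.J (Fin m) F) ?_ ?_
    · exact (Matrix.isUnit_iff_isUnit_det _).mpr (Matrix.isUnit_det_J _ _)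
    · exact SymplecticGroup.mem_iff'.mp g.2

end Cfsg.Agent.S2264
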