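import Cfsg.Statements.S2265
import Cfsg.Agent.ClassOrder1.Matrix
import Cfsg.Agent.Lib.UnitaryOrthogonal.Standard

set_option autoImplicit false
open Cfsg

namespace Cfsg.Agent.S2265

open UnitaryOrthogonal QuadraticMap

theorem omega_bound {F : Type*} [Field F] [Fintype F] {ι : Type} [Fintype ι] [DecidableEq ι]
    {f : (ι → F) → F} (Q : QuadraticForm F (ι → F)) (hQ : ∀ v, Q v = f v) (hnd : PolarND Q) (m : ℕ)
    (hm : 2 ≤ m) (hn : Fintype.card ι = 2 * m ∨ (Fintype.card ι = 2 * m + 1 ∧ Odd (Fintype.card F) ∧ 3 ≤ m))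
    (g : Cfsg.POmega F f) : (Fintype.card F - 1) * orderOf g ≤ Fintype.card F ^ (m + 1) := by
  obtain ⟨g, rfl⟩ := QuotientGroup.mk_surjective g
  refine ClassOrder1.orderOf_mk_le (Subgroup.center _)
    ((Units.coeHom (Matrix ι ι F)).comp ((Cfsg.isometryGroup F f).subtype.comp (Cfsg.Omega F f).subtype))
    (fun a b h => Subtype.ext (Subtype.ext (Units.ext h)))
    (fun h hh => Subgroup.mem_center_iff.mpr fun x => Subtype.ext (Subtype.ext (Units.ext ?_))) g ?_ m hm hn
  · change ((h.1.1 : Matrix.GeneralLinearGroup ι F) : Matrix ι ι F) = -1 at hh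
    show ((x.1.1 : Matrix.GeneralLinearGroup ι F) : Matrix ι ι F) * h.1.1 = h.1.1 * x.1.1
    rw [hh]; simp
  · set A : Matrix ι ι F := ((g.1.1 : Matrix.GeneralLinearGroup ι F) : Matrix ι ι F)
    set B : Matrix ι ι F := LinearMap.toMatrix₂' F (polarBilin Q)
    refine ClassOrder1.charpoly_inv_of_preserving _ B ?_ ?_
    · refine (Matrix.isUnit_iff_isUnit_det _).mpr (isUnit_iff_ne_zero.mpr ?_)
      refine Matrix.separatingLeft_iff_det_ne_zero.mp (Matrix.separatingLeft_toLinearMap₂'_iff.mp ?_)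
      rw [Matrix.toLinearMap₂'_toMatrix']
      exact hnd
    · change A.transpose * B * A = B
      have h : ∀ u, Q (A.mulVec u) = Q u := fun u => by rw [hQ, hQ]; exact g.1.2 u 0
      have hpres : (polarBilin Q).compl₁₂ (Matrix.toLin' A) (Matrix.toLin' A) = polarBilin Q := by
        refine LinearMap.ext fun u => LinearMap.ext fun v => ?_
        show polar Q (A.mulVec u) (A.mulVec v) = polar Q u v
        simp only [polar, ← Matrix.mulVec_add, h]
      have := LinearMap.toMatrix₂'_compl₁₂ (polarBilin Q) (Matrix.toLin' A) (Matrix.toLin' A)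
      rw [hpres, LinearMap.toMatrix'_toLin'] at this
      exact this.symm

/-- Let F be a finite field with q elements. Every element g of PΩ_(2m+1)(F) (m ≥ 3, q odd), of PΩ⁺_2m(F) (m ≥ 4), or of PΩ⁻_2m(F) (m ≥ 4, the form having an anisotropic binary part) satisfies (q − 1)·|g| ≤ q^(m+1), i.e. has order at most q^(m+1)/(q − 1). -/
theorem result {F : Type*} [Field F] [Fintype F] (m : ℕ) :
    (3 ≤ m → Odd (Fintype.card F) → ∀ g : Cfsg.POmega F (Cfsg.quadFormOdd m F),
      (Fintype.card F - 1) * orderOf g ≤ Fintype.card F ^ (m + 1)) ∧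
    (4 ≤ m → ∀ g : Cfsg.POmega F (Cfsg.quadFormPlus m F),
      (Fintype.card F - 1) * orderOf g ≤ Fintype.card F ^ (m + 1)) ∧
    (4 ≤ m → ∀ a b : F, (∀ z₁ z₂ : F, z₁ ^ 2 + a * z₁ * z₂ + b * z₂ ^ 2 = 0 → z₁ = 0 ∧ z₂ = 0) →
      ∀ g : Cfsg.POmega F (Cfsg.quadFormMinus (m - 1) F a b),
      (Fintype.card F - 1) * orderOf g ≤ Fintype.card F ^ (m + 1)) := by
  refine ⟨fun hm hq g => ?_, fun hm g => ?_, fun hm a b hab g => ?_⟩
  · exact omega_bound (qOdd m F) (qOdd_apply m)
      (PolarND.congr (qOddIso m F).symm ((polarND_sqForm (two_ne_zero_of_card_odd hq)).hypSum m)) m (by omega)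
      (Or.inr ⟨by simp; omega, hq, hm⟩) g
  · exact omega_bound (qPlus m F) (qPlus_apply m)
      (PolarND.congr (qPlusIso m F).symm (polarND_zeroForm.hypSum m)) m (by omega)
      (Or.inl (by simp; omega)) g
  · exact omega_bound (qMinus (m - 1) F a b) (qMinus_apply (m - 1) a b)
      (PolarND.congr (qMinusIso (m - 1) F a b).symm ((BinAniso.polarND hab).hypSum (m - 1))) m (by omega)
      (Or.inl (by simp; omega)) g

end Cfsg.Agent.S2265
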