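import Cfsg.Statements.S2268
-- import your own Cfsg.Agent.* helpers here

set_option autoImplicit false
open Cfsg

namespace Cfsg.Agent.S2268

/-- Let G be a finite group with an abelian Sylow p-subgroup P and let Q ≤ P. Then N_G(Q) = (N_G(Q) ∩ N_G(P))·C_G(Q), so that N_G(Q)/C_G(Q) is a homomorphic image of the subgroup (N_G(Q) ∩ N_G(P))/C_G(P) of N_G(P)/C_G(P); in particular the order of N_G(Q)/C_G(Q) divides the order of N_G(P)/C_G(P). -/
theorem result {G : Type*} [Group G] [Finite G] {p : ℕ} [Fact p.Prime]
    (P : Sylow p G) (hP : IsMulCommutative (P : Subgroup G)) (Q : Subgroup G) (hQ : Q ≤ (P : Subgroup G)) :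
    Subgroup.normalizer (Q : Set G) =
      (Subgroup.normalizer (Q : Set G) ⊓ Subgroup.normalizer ((P : Subgroup G) : Set G)) ⊔ Subgroup.centralizer (Q : Set G) ∧
    ((Subgroup.centralizer (Q : Set G)).subgroupOf (Subgroup.normalizer (Q : Set G))).index ∣ ((Subgroup.centralizer ((P : Subgroup G) : Set G)).subgroupOf (Subgroup.normalizer ((P : Subgroup G) : Set G))).index := by
  set N : Subgroup G := Subgroup.normalizer (Q : Set G) with hN
  set C : Subgroup G := Subgroup.centralizer (Q : Set G) with hC
  set NP : Subgroup G := Subgroup.normalizer ((P : Subgroup G) : Set G) with hNP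
  set CP : Subgroup G := Subgroup.centralizer ((P : Subgroup G) : Set G) with hCP
  have hCN : C ≤ N := Subgroup.centralizer_le_normalizer _
  have hPC : (P : Subgroup G) ≤ C := by
    intro x hx
    rw [hC, Subgroup.mem_centralizer_iff]
    intro y hy
    exact Subtype.ext_iff.mp (hP.is_comm.comm ⟨y, hQ hy⟩ ⟨x, hx⟩)
  have hCPC : CP ≤ C := Subgroup.centralizer_le (fun x hx => hQ hx)
  have hCPN : CP ≤ NP := Subgroup.centralizer_le_normalizer _
  have hsup : N = (N ⊓ NP) ⊔ C := by
    refine le_antisymm ?_ (sup_le inf_le_left hCN)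
    intro g hg
    have hgP : ((g • P : Sylow p G) : Subgroup G) ≤ C := by
      intro x hx
      rw [Sylow.coe_subgroup_smul, Subgroup.mem_pointwise_smul_iff_inv_smul_mem] at hx
      have hx' : g⁻¹ * x * g ∈ (P : Subgroup G) := by simpa using hx
      rw [hC, Subgroup.mem_centralizer_iff]
      intro y hy
      have hy' : g⁻¹ * y * g ∈ (Q : Set G) := by
        have := (Subgroup.mem_set_normalizer_iff.mp (N.inv_mem hg) y).mp hy
        simpa using this
      have h := Subgroup.mem_centralizer_iff.mp (hPC hx') _ hy'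
      have h' := congrArg (fun z => g * z * g⁻¹) h
      simpa [mul_assoc] using h'
    obtain ⟨c, hc⟩ := MulAction.exists_smul_eq C ((g • P).subtype hgP) (P.subtype hPC)
    have hcP : ((c : G) * g) • P = P := by
      rw [mul_smul]
      rw [Sylow.smul_subtype] at hc
      exact Sylow.subtype_injective hc
    have hk : (c : G) * g ∈ N ⊓ NP :=
      ⟨N.mul_mem (hCN c.2) hg, Sylow.smul_eq_iff_mem_normalizer.mp hcP⟩
    have : g = (c : G)⁻¹ * ((c : G) * g) := by group
    rw [this]
    exact Subgroup.mul_mem _ (Subgroup.mem_sup_right (C.inv_mem c.2)) (Subgroup.mem_sup_left hk)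
  refine ⟨hsup, ?_⟩
  have h1 : C.relIndex N = C.relIndex (N ⊓ NP) := by
    have hn : (C.subgroupOf N).Normal := Subgroup.normal_subgroupOf_iff_le_normalizer hCN |>.mpr (by
      intro g hg
      rw [hC]
      refine Subgroup.mem_normalizer_iff.mpr (fun x => ?_)
      simp only [Subgroup.mem_centralizer_iff]
      constructor
      · intro hx y hy
        have hy' : g⁻¹ * y * g ∈ (Q : Set G) := by
          have := (Subgroup.mem_set_normalizer_iff.mp (N.inv_mem hg) y).mp hy
          simpa using this
        have h' := congrArg (fun z => g * z * g⁻¹) (hx _ hy')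
        simpa [mul_assoc] using h'
      · intro hx y hy
        have hy' : g * y * g⁻¹ ∈ (Q : Set G) := (Subgroup.mem_set_normalizer_iff.mp hg y).mp hy
        have h' := congrArg (fun z => g⁻¹ * z * g) (hx _ hy')
        simpa [mul_assoc] using h')
    have h := Subgroup.relIndex_sup_right (K := C.subgroupOf N) ((N ⊓ NP).subgroupOf N)
    rw [← Subgroup.subgroupOf_sup inf_le_left hCN, ← hsup, Subgroup.subgroupOf_self,
      Subgroup.relIndex_top_right] at h
    rw [Subgroup.relIndex_subgroupOf inf_le_left] at h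
    exact h
  show C.relIndex N ∣ CP.relIndex NP
  rw [h1]
  refine (Subgroup.relIndex_dvd_of_le_left _ hCPC).trans ?_
  exact ⟨(N ⊓ NP).relIndex NP,
    (Subgroup.relIndex_mul_relIndex CP (N ⊓ NP) NP (le_inf (hCPC.trans hCN) hCPN) inf_le_right).symm⟩

end Cfsg.Agent.S2268
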