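import Cfsg.Statements.S2269
import Cfsg.Agent.KSG55.AbelianInvolution

set_option autoImplicit false
open Cfsg

namespace Cfsg.Agent.S2269

open Equiv

theorem p_bound {p a : ℕ} (hp : 3 ≤ p) (h : p ^ (a - 1) ≤ a) : a ≤ 1 := by
  by_contra ha
  obtain ⟨b, rfl⟩ : ∃ b, a = b + 2 := ⟨a - 2, by omega⟩
  have h1 : ∀ b : ℕ, b + 3 ≤ 3 ^ (b + 1) := by
    intro b
    induction b with
    | zero => norm_num
    | succ b ih => rw [pow_succ]; omega
  have h2 : 3 ^ (b + 1) ≤ p ^ (b + 1) := Nat.pow_le_pow_left hp _
  have := h1 b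
  simp at h
  omega

theorem odd_case (n : ℕ) (hn : 5 ≤ n) {p : ℕ} [Fact p.Prime] (hp : p ≠ 2)
    (P : Sylow p (alternatingGroup (Fin n))) (hP : IsMulCommutative (P : Subgroup (alternatingGroup (Fin n)))) :
    2 ∣ ((Subgroup.centralizer ((P : Subgroup (alternatingGroup (Fin n))) : Set (alternatingGroup (Fin n)))).subgroupOf (Subgroup.normalizer ((P : Subgroup (alternatingGroup (Fin n))) : Set (alternatingGroup (Fin n))))).index ∨ IsCyclic (P : Subgroup (alternatingGroup (Fin n))) := by
  set P' : Subgroup (alternatingGroup (Fin n)) := (P : Subgroup (alternatingGroup (Fin n))) with hP'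
  set Q : Subgroup (Perm (Fin n)) := P'.map (alternatingGroup (Fin n)).subtype with hQ
  let e : P' ≃* Q := Subgroup.equivMapOfInjective P' _ Subtype.coe_injective
  have hQc : IsMulCommutative Q := ⟨⟨fun a b => e.symm.injective (by
    rw [map_mul, map_mul]; exact hP.is_comm.comm _ _)⟩⟩
  have hQp : IsPGroup p Q := P.isPGroup'.map _
  have hpp : p.Prime := Fact.out
  have hcop2 : ∀ k, Odd (p ^ k) := fun k => (hpp.odd_of_ne_two hp).pow
  have hmax : ∀ y : Perm (Fin n), (∀ g ∈ Q, y * g = g * y) → (∃ k, y ^ p ^ k = 1) → y ∈ Q := by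
    rintro y hy ⟨k, hk⟩
    have hsign : y ∈ alternatingGroup (Fin n) := by
      rw [Perm.mem_alternatingGroup]
      have h := congrArg Perm.sign hk
      rw [map_pow, map_one] at h
      rcases Int.units_eq_one_or (Perm.sign y) with h1 | h1
      · exact h1
      · rw [h1, (hcop2 k).neg_one_pow] at h
        exact absurd h (by decide)
    let z : alternatingGroup (Fin n) := ⟨y, hsign⟩
    have hz : IsPGroup p (Subgroup.zpowers z) := by
      have h1 : orderOf z ∣ p ^ k := orderOf_dvd_of_pow_eq_one (Subtype.ext hk)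
      obtain ⟨j, -, hj⟩ := (Nat.dvd_prime_pow hpp).mp h1
      exact IsPGroup.of_card (n := j) (by rw [Nat.card_zpowers, hj])
    have hle : Subgroup.zpowers z ≤ Subgroup.normalizer (P' : Set _) := by
      rw [Subgroup.zpowers_le]
      refine Subgroup.centralizer_le_normalizer _ ?_
      rw [Subgroup.mem_centralizer_iff]
      intro g hg
      exact Subtype.ext (hy g ⟨g, hg, rfl⟩).symm
    have h2 : IsPGroup p (Subgroup.zpowers z ⊔ P' : Subgroup _) :=
      hz.to_sup_of_normal_right' P.isPGroup' hle
    have h3 : Subgroup.zpowers z ⊔ P' = P' := P.3 h2 le_sup_right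
    exact ⟨z, h3 ▸ Subgroup.mem_sup_left (Subgroup.mem_zpowers z), rfl⟩
  rcases KSG55.exists_even_involution_or_orbit hp Q hQc hQp hmax with
    ⟨t, ht, hts, hinv, g, hg, hne⟩ | h
  · refine Or.inl ?_
    refine KSG55.two_dvd_automizer_index_of_inverts P' ⟨t, Perm.mem_alternatingGroup.mpr hts⟩
      (Subtype.ext ht) (fun x hx => ?_) ?_
    · obtain ⟨w, hw, hwe⟩ := hinv x ⟨x, hx, rfl⟩
      have e1 : (⟨t, Perm.mem_alternatingGroup.mpr hts⟩ : alternatingGroup (Fin n)) * x *
          (⟨t, Perm.mem_alternatingGroup.mpr hts⟩ : alternatingGroup (Fin n))⁻¹ = w := Subtype.ext hwe.symm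
      rw [e1]
      exact hw
    · obtain ⟨w, hw, rfl⟩ := hg
      exact ⟨w, hw, fun h => hne (congrArg Subtype.val h)⟩
  · refine Or.inr ?_
    rcases h with hbot | ⟨r, hr⟩
    · have : Subsingleton P' := e.toEquiv.subsingleton_congr.mpr (by rw [hbot]; infer_instance)
      exact isCyclic_of_subsingleton
    have hcard : Nat.card Q ≤ n := by
      have := Nat.card_le_card_of_injective (fun g : Q => (g : Perm (Fin n)) r) (fun a b hab => by
        have h1 : ((b⁻¹ * a : Q) : Perm (Fin n)) r = r := by
          simp only at hab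
          simp [hab]
        have := hr _ (b⁻¹ * a).2 h1
        exact (inv_mul_eq_one.mp (Subtype.ext this)).symm)
      simpa using this
    obtain ⟨a, ha⟩ := IsPGroup.iff_card.mp P.isPGroup'
    rw [← Nat.card_congr e.toEquiv, ha] at hcard
    rcases Nat.eq_zero_or_pos a with h0 | h0
    · subst h0
      have hone : Nat.card P' = 1 := by simpa using ha
      have : Subsingleton P' := (Nat.card_eq_one_iff_unique.mp hone).1
      exact isCyclic_of_subsingleton
    have hpow : p ^ (p ^ (a - 1)) ∣ n.factorial := by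
      refine dvd_trans ?_ (Nat.factorial_dvd_factorial hcard)
      have : p ^ a = p * p ^ (a - 1) := by rw [← pow_succ', Nat.sub_add_cancel h0]
      rw [this]
      refine (pow_dvd_pow p ?_).trans pow_padicValNat_dvd
      rw [padicValNat_factorial_mul]
      omega
    have hA : p ^ (p ^ (a - 1)) ∣ Nat.card (alternatingGroup (Fin n)) := by
      haveI : Nontrivial (Fin n) := Fin.nontrivial_iff_two_le.mpr (by omega)
      have h2 := two_mul_card_alternatingGroup (α := Fin n)
      rw [Fintype.card_perm, Fintype.card_fin] at h2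
      rw [Nat.card_eq_fintype_card]
      exact (Nat.Coprime.dvd_of_dvd_mul_left
        (Nat.Coprime.pow_left _ ((Nat.coprime_primes hpp Nat.prime_two).mpr hp)) (h2 ▸ hpow))
    obtain ⟨S, hS⟩ := Sylow.exists_subgroup_card_pow_prime p hA
    obtain ⟨T, hT⟩ := (IsPGroup.of_card hS).exists_le_sylow
    have h4 := Subgroup.card_dvd_of_le hT
    rw [hS, Nat.card_congr (T.equiv P).toEquiv, ha] at h4
    have h5 := (Nat.pow_dvd_pow_iff_le_right hpp.one_lt).mp h4
    have h6 := p_bound (by have := hpp.two_le; omega) h5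
    have hcardP : Nat.card P' = p := by rw [ha, show a = 1 by omega, pow_one]
    exact isCyclic_of_prime_card hcardP

theorem two_case_six (n : ℕ) (hn : 6 ≤ n) [Fact (Nat.Prime 2)]
    (P : Sylow 2 (alternatingGroup (Fin n))) (hP : IsMulCommutative (P : Subgroup (alternatingGroup (Fin n)))) :
    False := by
  let ι : Fin 6 ↪ Fin n := Fin.castLEEmb hn
  let a6 : alternatingGroup (Fin 6) := ⟨swap 0 1 * swap 1 2 * swap 2 3 * swap 4 5, Perm.mem_alternatingGroup.mpr (by decide)⟩
  let b6 : alternatingGroup (Fin 6) := ⟨swap 0 2 * swap 4 5, Perm.mem_alternatingGroup.mpr (by decide)⟩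
  let f : alternatingGroup (Fin 6) →* alternatingGroup (Fin n) :=
    (((Equiv.Perm.viaEmbeddingHom ι).comp (alternatingGroup (Fin 6)).subtype).codRestrict _ (fun x => by
      rw [Perm.mem_alternatingGroup]
      show Perm.sign ((x : Perm (Fin 6)).viaEmbedding ι) = 1
      rw [Perm.viaEmbedding, Perm.sign_extendDomain]
      exact Perm.mem_alternatingGroup.mp x.2))
  let K : Subgroup (alternatingGroup (Fin 6)) := Subgroup.zpowers b6 ⊔ Subgroup.zpowers a6
  have hK : IsPGroup 2 K := by
    refine IsPGroup.to_sup_of_normal_right' ?_ ?_ ?_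
    · exact IsPGroup.of_card (n := 1) (by rw [Nat.card_zpowers, pow_one]; exact orderOf_eq_prime (by decide) (by decide))
    · refine IsPGroup.of_card (n := 2) ?_
      rw [Nat.card_zpowers]
      exact orderOf_eq_prime_pow (by decide) (by decide)
    · rw [Subgroup.zpowers_le, Subgroup.mem_set_normalizer_iff]
      intro x
      have hconj : b6 * a6 * b6⁻¹ = a6⁻¹ := by decide
      have hconj' : b6⁻¹ * a6 * b6 = a6⁻¹ := by decide
      simp only [SetLike.mem_coe, Subgroup.mem_zpowers_iff]
      constructor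
      · rintro ⟨k, rfl⟩
        exact ⟨-k, by rw [← conj_zpow, hconj, inv_zpow, zpow_neg]⟩
      · rintro ⟨k, hk⟩
        refine ⟨-k, ?_⟩
        have : x = b6⁻¹ * a6 ^ k * b6 := by rw [hk]; group
        rw [this]
        have h := conj_zpow (i := k) (a := b6⁻¹) (b := a6)
        rw [inv_inv, hconj'] at h
        rw [← h, inv_zpow, zpow_neg]
  obtain ⟨T, hT⟩ := (hK.map f).exists_le_sylow
  let e := T.equiv P
  have hc : f a6 * f b6 = f b6 * f a6 := by
    have h := hP.is_comm.comm (e ⟨f a6, hT ⟨a6, Subgroup.mem_sup_right (Subgroup.mem_zpowers _), rfl⟩⟩)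
      (e ⟨f b6, hT ⟨b6, Subgroup.mem_sup_left (Subgroup.mem_zpowers _), rfl⟩⟩)
    rw [← map_mul, ← map_mul] at h
    exact congrArg Subtype.val (e.injective h)
  have hf : Function.Injective f := fun x y hxy => Subtype.ext
    (Equiv.Perm.viaEmbeddingHom_injective ι (congrArg Subtype.val hxy))
  rw [← map_mul, ← map_mul] at hc
  exact absurd (hf hc) (by decide)

set_option maxRecDepth 100000 in
theorem a5_facts : ∀ a b : alternatingGroup (Fin 5), a * a = 1 → b * b = 1 → a * b = b * a → a ≠ 1 →
    b ≠ 1 → a ≠ b →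
    (Finset.univ.filter fun g : alternatingGroup (Fin 5) => g * a = a * g ∧ g * b = b * g).card = 4 ∧
    (Finset.univ.filter fun g : alternatingGroup (Fin 5) =>
      (g * a * g⁻¹ = a ∨ g * a * g⁻¹ = b ∨ g * a * g⁻¹ = a * b) ∧
      (g * b * g⁻¹ = a ∨ g * b * g⁻¹ = b ∨ g * b * g⁻¹ = a * b)).card = 12 := by
  decide +kernel

set_option maxRecDepth 100000 in
theorem a5_no_four : ∀ g : alternatingGroup (Fin 5), g ^ 4 = 1 → g ^ 2 = 1 := by
  decide +kernel

theorem five_case [Fact (Nat.Prime 2)] (P : Sylow 2 (alternatingGroup (Fin 5))) :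
    ((Subgroup.centralizer ((P : Subgroup (alternatingGroup (Fin 5))) : Set (alternatingGroup (Fin 5)))).subgroupOf (Subgroup.normalizer ((P : Subgroup (alternatingGroup (Fin 5))) : Set (alternatingGroup (Fin 5))))).index = 3 ∧ IsKleinFour (P : Subgroup (alternatingGroup (Fin 5))) := by
  set Q := (P : Subgroup (alternatingGroup (Fin 5))) with hQ
  have hcard : Nat.card Q = 4 := by
    rw [hQ, Sylow.card_eq_multiplicity, nat_card_alternatingGroup]
    simp only [Nat.card_eq_fintype_card, Fintype.card_fin, show Nat.factorial 5 / 2 = 60 from rfl]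
    rw [Nat.factorization_def _ Nat.prime_two, show padicValNat 2 60 = 2 by
      rw [show (60 : ℕ) = 2 ^ 2 * 15 by norm_num, padicValNat_base_pow_mul (by norm_num) (by norm_num)]
      simp [padicValNat.eq_zero_of_not_dvd (show ¬ 2 ∣ 15 by norm_num)]]
    rfl
  have hsq : ∀ x : Q, x * x = 1 := by
    intro x
    have h4 : x ^ 4 = 1 := hcard ▸ pow_card_eq_one'
    have := a5_no_four x (congrArg Subtype.val h4)
    rw [pow_two] at this
    exact Subtype.ext this
  haveI hK : IsKleinFour Q := {
    card_four := hcard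
    exponent_two := by
      refine (Nat.dvd_prime Nat.prime_two).mp
        (Monoid.exponent_dvd_of_forall_pow_eq_one (fun g => by rw [pow_two]; exact hsq g)) |>.resolve_left ?_
      rw [Monoid.exp_eq_one_iff]
      intro h
      have := Nat.card_eq_one_iff_unique.mpr ⟨h, ⟨(1 : Q)⟩⟩
      omega }
  refine ⟨?_, hK⟩
  classical
  have hnt : Nontrivial Q := Finite.one_lt_card_iff_nontrivial.mp (by omega)
  obtain ⟨a, ha⟩ := exists_ne (1 : Q)
  have huniv : (Finset.univ : Finset Q).card = 4 := by
    rw [Finset.card_univ, ← Nat.card_eq_fintype_card, hcard]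
  obtain ⟨b, -, hb⟩ := Finset.exists_mem_notMem_of_card_lt_card (s := ({1, a} : Finset Q)) (t := Finset.univ)
    (by rw [huniv]; exact lt_of_le_of_lt Finset.card_le_two (by norm_num))
  simp only [Finset.mem_insert, Finset.mem_singleton, not_or] at hb
  obtain ⟨hb1, hba⟩ := hb
  have hall : ∀ x : Q, x = 1 ∨ x = a ∨ x = b ∨ x = a * b := by
    intro x
    by_contra hx
    simp only [not_or] at hx
    obtain ⟨x1, x2, x3, x4⟩ := hx
    exact x4 (IsKleinFour.eq_mul_of_ne_all ha hb1 (Ne.symm hba) x1 x2 x3)
  have hC : ∀ g, g ∈ Subgroup.centralizer (Q : Set (alternatingGroup (Fin 5))) ↔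
      g * (a : alternatingGroup (Fin 5)) = a * g ∧ g * (b : alternatingGroup (Fin 5)) = b * g := by
    intro g
    rw [Subgroup.mem_centralizer_iff]
    constructor
    · intro h
      exact ⟨(h a a.2).symm, (h b b.2).symm⟩
    · rintro ⟨h1, h2⟩ x hx
      rcases hall ⟨x, hx⟩ with e | e | e | e <;> replace e := congrArg Subtype.val e <;>
        simp only [Subgroup.coe_mul, Subgroup.coe_one] at e <;> subst e
      · simp
      · exact h1.symm
      · exact h2.symm
      · rw [mul_assoc, ← h2, ← mul_assoc, ← h1, mul_assoc]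
  have hN : ∀ g, g ∈ Subgroup.normalizer (Q : Set (alternatingGroup (Fin 5))) ↔
      (g * a * g⁻¹ = (a : alternatingGroup (Fin 5)) ∨ g * a * g⁻¹ = (b : alternatingGroup (Fin 5)) ∨ g * a * g⁻¹ = (a : alternatingGroup (Fin 5)) * b) ∧
      (g * b * g⁻¹ = (a : alternatingGroup (Fin 5)) ∨ g * b * g⁻¹ = (b : alternatingGroup (Fin 5)) ∨ g * b * g⁻¹ = (a : alternatingGroup (Fin 5)) * b) := by
    intro g
    rw [Subgroup.mem_set_normalizer_iff]
    constructor
    · intro h
      have key : ∀ y : Q, y ≠ 1 → g * y * g⁻¹ = (a : alternatingGroup (Fin 5)) ∨ g * y * g⁻¹ = (b : alternatingGroup (Fin 5)) ∨ g * y * g⁻¹ = (a : alternatingGroup (Fin 5)) * b := by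
        intro y hy
        rcases hall ⟨_, (h y).mp y.2⟩ with e | e | e | e <;> replace e := congrArg Subtype.val e <;>
          simp only [Subgroup.coe_mul, Subgroup.coe_one] at e
        · exact absurd (Subtype.ext (conj_eq_one_iff.mp e)) hy
        · exact Or.inl e
        · exact Or.inr (Or.inl e)
        · exact Or.inr (Or.inr e)
      exact ⟨key a ha, key b hb1⟩
    · rintro ⟨h1, h2⟩
      have m : ∀ z, (z = (a : alternatingGroup (Fin 5)) ∨ z = (b : alternatingGroup (Fin 5)) ∨ z = (a : alternatingGroup (Fin 5)) * b) → z ∈ Q := by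
        rintro z (rfl | rfl | rfl)
        exacts [a.2, b.2, Q.mul_mem a.2 b.2]
      have hsub : ∀ x ∈ Q, g * x * g⁻¹ ∈ Q := by
        intro x hx
        rcases hall ⟨x, hx⟩ with e | e | e | e <;> replace e := congrArg Subtype.val e <;>
          simp only [Subgroup.coe_mul, Subgroup.coe_one] at e <;> subst e
        · simp
        · exact m _ h1
        · exact m _ h2
        · rw [← conj_mul]; exact Q.mul_mem (m _ h1) (m _ h2)
      intro x
      refine ⟨hsub x, fun hx => ?_⟩
      have hf : Function.Injective (fun y : Q => (⟨g * y * g⁻¹, hsub y y.2⟩ : Q)) := fun y z h => by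
        simpa using congrArg Subtype.val h
      obtain ⟨y, hy⟩ := Finite.injective_iff_surjective.mp hf ⟨_, hx⟩
      have := congrArg Subtype.val hy
      simp only [mul_left_inj, mul_right_inj] at this
      exact this ▸ y.2
  obtain ⟨f1, f2⟩ := a5_facts a b (congrArg Subtype.val (hsq a)) (congrArg Subtype.val (hsq b))
    (congrArg Subtype.val (mul_comm_of_exponent_two hK.exponent_two a b)) (fun h => ha (Subtype.ext h))
    (fun h => hb1 (Subtype.ext h)) (fun h => hba (Subtype.ext h.symm))
  have c1 : Nat.card (Subgroup.centralizer (Q : Set (alternatingGroup (Fin 5)))) = 4 := by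
    rw [← f1, ← Fintype.card_subtype, ← Nat.card_eq_fintype_card]
    exact Nat.card_congr (Equiv.subtypeEquivRight hC)
  have c2 : Nat.card (Subgroup.normalizer (Q : Set (alternatingGroup (Fin 5)))) = 12 := by
    rw [← f2, ← Fintype.card_subtype, ← Nat.card_eq_fintype_card]
    exact Nat.card_congr (Equiv.subtypeEquivRight hN)
  have h := Subgroup.card_mul_index ((Subgroup.centralizer (Q : Set (alternatingGroup (Fin 5)))).subgroupOf (Subgroup.normalizer (Q : Set (alternatingGroup (Fin 5)))))
  rw [Nat.card_congr (Subgroup.subgroupOfEquivOfLe (Subgroup.centralizer_le_normalizer _)).toEquiv, c1, c2] at h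
  omega

/-- Let n ≥ 5 and let P be an abelian Sylow p-subgroup of the alternating group A_n. Then N(P)/C(P) (taken in A_n) has even order, or P is cyclic, except when n = 5 and p = 2, where P is a four-group and N(P)/C(P) has order 3. -/
theorem result (n : ℕ) (hn : 5 ≤ n) {p : ℕ} [Fact p.Prime]
    (P : Sylow p (alternatingGroup (Fin n))) (hP : IsMulCommutative (P : Subgroup (alternatingGroup (Fin n)))) :
    (¬ (n = 5 ∧ p = 2) → 2 ∣ ((Subgroup.centralizer ((P : Subgroup (alternatingGroup (Fin n))) : Set (alternatingGroup (Fin n)))).subgroupOf (Subgroup.normalizer ((P : Subgroup (alternatingGroup (Fin n))) : Set (alternatingGroup (Fin n))))).index ∨ IsCyclic (P : Subgroup (alternatingGroup (Fin n)))) ∧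
    ((n = 5 ∧ p = 2) → ((Subgroup.centralizer ((P : Subgroup (alternatingGroup (Fin n))) : Set (alternatingGroup (Fin n)))).subgroupOf (Subgroup.normalizer ((P : Subgroup (alternatingGroup (Fin n))) : Set (alternatingGroup (Fin n))))).index = 3 ∧ IsKleinFour (P : Subgroup (alternatingGroup (Fin n)))) := by
  refine ⟨fun h => ?_, ?_⟩
  · rcases eq_or_ne p 2 with rfl | hp
    · exact (two_case_six n (by omega) P hP).elim
    · exact odd_case n hn hp P hP
  · rintro ⟨rfl, rfl⟩
    exact five_case P

end Cfsg.Agent.S2269
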