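import Cfsg.Statements.S2270
import Cfsg.Agent.KSG55.Inverter

set_option autoImplicit false
open Cfsg

namespace Cfsg.Agent.S2270

/-- Let n ≥ 3, p an odd prime, and P an abelian Sylow p-subgroup of the symmetric group S_n (with p dividing n!, so that P ≠ 1). Then N(P)/C(P) has even order. -/
theorem result (n : ℕ) (hn : 3 ≤ n) {p : ℕ} [Fact p.Prime] (hp : p ≠ 2) (hpn : p ≤ n)
    (P : Sylow p (Equiv.Perm (Fin n))) (hP : IsMulCommutative (P : Subgroup (Equiv.Perm (Fin n)))) :
    2 ∣ ((Subgroup.centralizer ((P : Subgroup (Equiv.Perm (Fin n))) : Set (Equiv.Perm (Fin n)))).subgroupOf (Subgroup.normalizer ((P : Subgroup (Equiv.Perm (Fin n))) : Set (Equiv.Perm (Fin n))))).index := by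
  set Q : Subgroup (Equiv.Perm (Fin n)) := (P : Subgroup (Equiv.Perm (Fin n))) with hQ
  have hp' : p.Prime := Fact.out
  have hdvd : p ∣ Nat.card (Equiv.Perm (Fin n)) := by
    rw [Nat.card_eq_fintype_card, Fintype.card_perm, Fintype.card_fin]
    exact hp'.dvd_factorial.mpr hpn
  obtain ⟨g, hg, hg1⟩ : ∃ g ∈ Q, g ≠ 1 := by
    by_contra hcon
    push Not at hcon
    exact P.ne_bot_of_dvd_card hdvd ((Subgroup.eq_bot_iff_forall _).mpr hcon)
  refine KSG55.two_dvd_automizer_index_of_inverts Q (KSG55.inverter Q hP)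
    (KSG55.inverter_mul_self Q hP) (fun x hx => ?_) ⟨g, hg, fun h => ?_⟩
  · have e := KSG55.inverter_conj Q hP ⟨x, hx⟩
    simp only at e
    rw [e]
    exact Q.inv_mem hx
  · have e := KSG55.inverter_conj Q hP ⟨g, hg⟩
    simp only at e
    rw [h] at e
    have h2 : orderOf g ∣ 2 := orderOf_dvd_of_pow_eq_one (by rw [pow_two]; nth_rewrite 2 [e]; simp)
    obtain ⟨k, hk⟩ := IsPGroup.iff_orderOf.mp P.isPGroup' ⟨g, hg⟩
    rw [← Subgroup.orderOf_coe] at hk
    simp only at hk
    rcases Nat.eq_zero_or_pos k with h0 | h0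
    · subst h0
      exact hg1 (orderOf_eq_one_iff.mp (by simpa using hk))
    · have : p ∣ 2 := (dvd_pow_self p (by omega)).trans (hk ▸ h2)
      exact hp ((Nat.prime_dvd_prime_iff_eq hp' Nat.prime_two).mp this)

end Cfsg.Agent.S2270
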