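import Cfsg.Statements.S2271
-- import your own Cfsg.Agent.* helpers here

set_option autoImplicit false
open Cfsg

namespace Cfsg.Agent.S2271

open Equiv Finset

theorem alt_tuple {n k : ℕ} (hk : k + 2 ≤ n) (x y : Fin k → Fin n) (hx : Function.Injective x)
    (hy : Function.Injective y) :
    ∃ g : Perm (Fin n), g ∈ alternatingGroup (Fin n) ∧ ∀ i, g (x i) = y i := by
  classical
  let e : {z // z ∈ Set.range x} ≃ {z // z ∈ Set.range y} :=
    (Equiv.ofInjective x hx).symm.trans (Equiv.ofInjective y hy)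
  have he : ∀ i, e.extendSubtype (x i) = y i := fun i => by
    rw [Equiv.extendSubtype_apply_of_mem _ _ ⟨i, rfl⟩]
    have : (⟨x i, ⟨i, rfl⟩⟩ : {z // z ∈ Set.range x}) = Equiv.ofInjective x hx i := rfl
    rw [this]
    simp [e]
  set σ : Perm (Fin n) := e.extendSubtype with hσ
  by_cases hs : Perm.sign σ = 1
  · exact ⟨σ, Perm.mem_alternatingGroup.mpr hs, he⟩
  have hc : 1 < ((Finset.univ.image y)ᶜ).card := by
    rw [Finset.card_compl, Finset.card_image_of_injective _ hy, Finset.card_univ, Fintype.card_fin,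
      Fintype.card_fin]
    omega
  obtain ⟨u, hu, v, hv, huv⟩ := Finset.one_lt_card.mp hc
  simp only [Finset.mem_compl, Finset.mem_image, Finset.mem_univ, true_and, not_exists] at hu hv
  refine ⟨swap u v * σ, Perm.mem_alternatingGroup.mpr ?_, fun i => ?_⟩
  · rw [map_mul, Perm.sign_swap huv, (Int.units_eq_one_or _).resolve_left hs]; rfl
  · rw [Perm.mul_apply, hσ, he i, Equiv.swap_apply_of_ne_of_ne (hu i) (hv i)]

/-- Number of fixed points. -/
def nfix {n : ℕ} (a : Perm (Fin n)) : ℕ := (univ.filter fun x => a x = x).card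

theorem nfix_eq {n : ℕ} (a : Perm (Fin n)) :
    Nat.card (Function.fixedPoints ⇑a) = nfix a := by
  rw [nfix, ← Fintype.card_subtype, ← Nat.card_eq_fintype_card]
  rfl

theorem nfix_le {n : ℕ} {a : Perm (Fin n)} (ha : a ≠ 1) : nfix a + 2 ≤ n := by
  have h1 : nfix a + a.support.card = n := by
    have h := Finset.card_filter_add_card_filter_not (s := (univ : Finset (Fin n))) (fun x => a x = x)
    rw [card_univ, Fintype.card_fin] at h
    exact h
  have := Perm.two_le_card_support_of_ne_one ha
  omega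

theorem nfix_conj {n : ℕ} (a g : Perm (Fin n)) : nfix (g * a * g⁻¹) = nfix a := by
  refine Finset.card_bij (fun x _ => g⁻¹ x) (fun x hx => ?_) (fun x _ y _ h => g⁻¹.injective h)
    (fun x hx => ⟨g x, ?_, g.symm_apply_apply x⟩)
  · have hx' := (Finset.mem_filter.mp hx).2
    refine Finset.mem_filter.mpr ⟨mem_univ _, ?_⟩
    simp only [Perm.mul_apply] at hx'
    replace hx := hx'
    have h1 := congrArg ⇑g⁻¹ hx
    rw [show g⁻¹ (g (a (g⁻¹ x))) = a (g⁻¹ x) from g.symm_apply_apply _] at h1
    exact h1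
  · refine Finset.mem_filter.mpr ⟨mem_univ _, ?_⟩
    simp only [Perm.mul_apply]
    rw [show g⁻¹ (g x) = x from g.symm_apply_apply _, (Finset.mem_filter.mp hx).2]

theorem nfix_mul_comm {n : ℕ} (a b : Perm (Fin n)) : nfix (a * b) = nfix (b * a) := by
  rw [← nfix_conj (b * a) a]
  congr 1
  group

/-- A constant number of fixed points of `a^g b` determines the constant. -/
theorem const_eq {n : ℕ} (hn : 5 ≤ n) (a b : Perm (Fin n)) (c : ℕ)
    (h : ∀ g ∈ alternatingGroup (Fin n), nfix (g * a * g⁻¹ * b) = c) :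
    ((nfix a : ℤ) - 1) * ((nfix b : ℤ) - 1) = ((c : ℤ) - 1) * ((n : ℤ) - 1) := by
  classical
  set G := (univ : Finset (alternatingGroup (Fin n))) with hG
  let N : Fin n → Fin n → ℕ := fun x y =>
    (G.filter fun g : alternatingGroup (Fin n) => (g : Perm (Fin n)) (a ((g : Perm (Fin n))⁻¹ y)) = x).card
  have inv : ∀ s ∈ alternatingGroup (Fin n), ∀ x y, N (s x) (s y) = N x y := by
    intro s hs x y
    refine Finset.card_bij (fun g _ => (⟨s, hs⟩⁻¹ : alternatingGroup (Fin n)) * g) (fun g hg => ?_)
      (fun g _ g' _ e => mul_left_cancel e) (fun g hg => ⟨⟨s, hs⟩ * g, ?_, inv_mul_cancel_left _ _⟩)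
    · simp only [mem_filter, mem_univ, true_and, hG, Subgroup.coe_mul, Subgroup.coe_inv, mul_inv_rev, inv_inv,
        Perm.mul_apply] at hg ⊢
      rw [hg]
      exact s.symm_apply_apply x
    · simp only [mem_filter, mem_univ, true_and, hG, Subgroup.coe_mul, mul_inv_rev, Perm.mul_apply] at hg ⊢
      rw [show s⁻¹ (s y) = y from s.symm_apply_apply y, hg]
  have h0 : 0 < n := by omega
  set o : Fin n := ⟨0, h0⟩
  set o' : Fin n := ⟨1, by omega⟩
  have hoo : o ≠ o' := by simp [o, o']
  have hd : ∀ x, N x x = N o o := by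
    intro x
    obtain ⟨s, hs, hsx⟩ := alt_tuple (k := 1) (by omega) ![o] ![x]
      (Function.injective_of_subsingleton _) (Function.injective_of_subsingleton _)
    have := inv s hs o o
    rw [show s o = x from hsx 0] at this
    exact this
  have hne : ∀ x y, x ≠ y → N x y = N o o' := by
    intro x y hxy
    obtain ⟨s, hs, hsx⟩ := alt_tuple (k := 2) (by omega) ![o, o'] ![x, y]
      (by intro i j; fin_cases i <;> fin_cases j <;> simp [hoo, hoo.symm])
      (by intro i j; fin_cases i <;> fin_cases j <;> simp [hxy, Ne.symm hxy])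
    have := inv s hs o o'
    rw [show s o = x from hsx 0, show s o' = y from hsx 1] at this
    exact this
  have hdiag : G.card * nfix a = n * N o o := by
    have e1 : ∑ x, N x x = ∑ g ∈ G, nfix ((g : Perm (Fin n)) * a * (g : Perm (Fin n))⁻¹) := by
      simp only [N, nfix, Finset.card_filter]
      rw [Finset.sum_comm]
      rfl
    simp only [hd, nfix_conj, sum_const, card_univ, Fintype.card_fin, smul_eq_mul] at e1
    exact e1.symm
  have hrow : G.card = N o o + (n - 1) * N o o' := by
    have e1 : ∑ x, N x o = G.card := by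
      simp only [N]
      exact (Finset.card_eq_sum_card_fiberwise (fun _ _ => Finset.mem_univ _)).symm
    rw [← Finset.add_sum_erase _ _ (Finset.mem_univ o),
      Finset.sum_congr rfl (fun x hx => hne x o (Finset.ne_of_mem_erase hx)), sum_const, smul_eq_mul,
      Finset.card_erase_of_mem (Finset.mem_univ _), card_univ, Fintype.card_fin] at e1
    exact e1.symm
  have htot : G.card * c = nfix b * N o o + (n - nfix b) * N o o' := by
    have e1 : ∑ g ∈ G, nfix ((g : Perm (Fin n)) * a * (g : Perm (Fin n))⁻¹ * b) = ∑ x, N x (b x) := by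
      simp only [N, nfix, Finset.card_filter]
      rw [Finset.sum_comm]
      rfl
    rw [Finset.sum_congr rfl (fun (g : alternatingGroup (Fin n)) _ => h g g.2), sum_const, smul_eq_mul,
      ← Finset.sum_filter_add_sum_filter_not univ (fun x => b x = x),
      Finset.sum_congr rfl (fun x hx => show N x (b x) = N o o by
        rw [(Finset.mem_filter.mp hx).2, hd]),
      Finset.sum_congr (s₂ := univ.filter fun x => ¬ b x = x) rfl (fun x hx => show N x (b x) = N o o' from
        hne _ _ (Ne.symm (Finset.mem_filter.mp hx).2)), sum_const, sum_const, smul_eq_mul, smul_eq_mul] at e1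
    have hcc := Finset.card_filter_add_card_filter_not (s := (univ : Finset (Fin n))) (fun x => b x = x)
    rw [card_univ, Fintype.card_fin] at hcc
    rw [show n - nfix b = (univ.filter fun x => ¬ b x = x).card by rw [nfix]; omega]
    exact e1
  have hb : nfix b ≤ n := by
    simpa [nfix] using Finset.card_filter_le (univ : Finset (Fin n)) (fun x => b x = x)
  have hGpos : (0 : ℤ) < G.card := by
    exact_mod_cast Finset.card_pos.mpr ⟨1, mem_univ _⟩
  zify [show 1 ≤ n by omega, hb] at hdiag hrow htot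
  have key : (G.card : ℤ) * ((n : ℤ) * (((nfix a : ℤ) - 1) * ((nfix b : ℤ) - 1))) =
      (G.card : ℤ) * ((n : ℤ) * (((c : ℤ) - 1) * ((n : ℤ) - 1))) := by
    linear_combination ((n : ℤ) - nfix b) * (n : ℤ) * hrow - (n : ℤ) * ((n : ℤ) - 1) * htot +
      (n : ℤ) * ((nfix b : ℤ) - 1) * hdiag
  exact mul_left_cancel₀ (show (n : ℤ) ≠ 0 by omega) (mul_left_cancel₀ hGpos.ne' key)

theorem two_fix {n : ℕ} (a : Perm (Fin n)) {x y : Fin n} (hxy : x ≠ y) (hx : a x = x) (hy : a y = y) :
    2 ≤ nfix a :=
  Finset.one_lt_card.mpr ⟨x, by simp [hx], y, by simp [hy], hxy⟩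

set_option maxRecDepth 100000 in
set_option maxHeartbeats 0 in
theorem five : ∀ a : Perm (Fin 5), nfix a = 1 → ∀ b : Perm (Fin 5), nfix b = 0 →
    ∃ g : Perm (Fin 5), Perm.sign g = 1 ∧ nfix (a * (g * b * g⁻¹)) ≠ 1 := by
  decide +kernel

/-- If `a` fixes exactly one point, the products are not always of one fixed point. -/
theorem one_fix_case {n : ℕ} (hn : 5 ≤ n) (a b : Perm (Fin n)) (hb : b ≠ 1) (ha : nfix a = 1) :
    ∃ g ∈ alternatingGroup (Fin n), nfix (a * (g * b * g⁻¹)) ≠ 1 := by
  obtain ⟨o, ho⟩ := Finset.card_eq_one.mp ha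
  have hfix : ∀ z, a z = z ↔ z = o := fun z => by
    have := Finset.ext_iff.mp ho z
    simpa using this
  have hao : a o = o := (hfix o).mpr rfl
  obtain ⟨x, hx⟩ : ∃ x : Fin n, x ≠ o := by
    haveI : Nontrivial (Fin n) := Fin.nontrivial_iff_two_le.mpr (by omega)
    exact exists_ne o
  have hax : a x ≠ x := fun h => hx ((hfix x).mp h)
  have haxo : a x ≠ o := fun h => hx (a.injective (h.trans hao.symm))
  have ev : ∀ (g : Perm (Fin n)) z w, g z = w → g⁻¹ w = z := fun g z w h => by
    rw [← h]; exact g.symm_apply_apply z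
  by_cases hbf : ∃ p, b p = p
  · obtain ⟨p, hp⟩ := hbf
    obtain ⟨y, hy⟩ : ∃ y, b y ≠ y := by
      by_contra h
      push Not at h
      exact hb (Equiv.ext h)
    have hyp : y ≠ p := fun h => hy (h ▸ hp)
    have hbyp : b y ≠ p := fun h => hyp (b.injective (h.trans hp.symm))
    obtain ⟨g, hg, hgm⟩ := alt_tuple (k := 3) (by omega) ![p, y, b y] ![o, a x, x]
      (by intro i j; fin_cases i <;> fin_cases j <;> simp [hyp, hy, hbyp, hyp.symm, Ne.symm hy, hbyp.symm])
      (by intro i j; fin_cases i <;> fin_cases j <;> simp [hx, hax, haxo, hx.symm, Ne.symm hax, haxo.symm])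
    have g0 : g p = o := hgm 0
    have g1 : g y = a x := hgm 1
    have g2 : g (b y) = x := hgm 2
    refine ⟨g, hg, fun h => ?_⟩
    have := two_fix (a * (g * b * g⁻¹)) (x := o) (y := a x) haxo.symm
      (by simp only [Perm.mul_apply, ev g p o g0, hp, g0, hao])
      (by simp only [Perm.mul_apply, ev g y (a x) g1, g2])
    omega
  · push Not at hbf
    have hb0 : nfix b = 0 := by
      simp only [nfix, Finset.card_eq_zero, Finset.filter_eq_empty_iff]
      exact fun z _ => hbf z
    rcases eq_or_lt_of_le hn with h5 | h6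
    · subst h5
      obtain ⟨g, hg, h⟩ := five a ha b hb0
      exact ⟨g, Perm.mem_alternatingGroup.mpr hg, h⟩
    have pick : ∀ (T : Finset (Fin n)), T.card ≤ 4 → ∃ u, u ∉ T := by
      intro T hT
      by_contra h
      push Not at h
      have := Finset.card_le_card (show (univ : Finset (Fin n)) ⊆ T from fun z _ => h z)
      simp at this
      omega
    obtain ⟨u, hu⟩ := pick {o, x, a x, a⁻¹ x} (Finset.card_le_four)
    simp only [Finset.mem_insert, Finset.mem_singleton, not_or] at hu
    obtain ⟨huo, hux, huax, huai⟩ := hu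
    have hau : a u ≠ u := fun h => huo ((hfix u).mp h)
    have hau1 : a u ≠ x := fun h => huai (by rw [← h]; exact (a.symm_apply_apply u).symm)
    have hau2 : a u ≠ a x := fun h => hux (a.injective h)
    obtain ⟨y, -⟩ : ∃ y : Fin n, True := ⟨x, trivial⟩
    obtain ⟨v, hv⟩ := pick {y, b y, b⁻¹ y, y} (Finset.card_le_four)
    simp only [Finset.mem_insert, Finset.mem_singleton, not_or] at hv
    obtain ⟨hvy, hvby, hvbi, -⟩ := hv
    have hbv1 : b v ≠ y := fun h => hvbi (by rw [← h]; exact (b.symm_apply_apply v).symm)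
    have hbv2 : b v ≠ b y := fun h => hvy (b.injective h)
    obtain ⟨g, hg, hgm⟩ := alt_tuple (k := 4) (by omega) ![y, b y, v, b v] ![a x, x, a u, u]
      (by intro i j; fin_cases i <;> fin_cases j <;>
        simp [hbf y, (hbf y).symm, hbf v, (hbf v).symm, hvy, Ne.symm hvy, hvby, Ne.symm hvby, hbv1, hbv1.symm, hbv2, hbv2.symm])
      (by intro i j; fin_cases i <;> fin_cases j <;>
        simp [hax, Ne.symm hax, hau, Ne.symm hau, hau1, hau1.symm, hau2, hau2.symm, hux, Ne.symm hux, huax, Ne.symm huax])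
    have g0 : g y = a x := hgm 0
    have g1 : g (b y) = x := hgm 1
    have g2 : g v = a u := hgm 2
    have g3 : g (b v) = u := hgm 3
    refine ⟨g, hg, fun h => ?_⟩
    have := two_fix (a * (g * b * g⁻¹)) (x := a x) (y := a u) hau2.symm
      (by simp only [Perm.mul_apply, ev g y (a x) g0, g1])
      (by simp only [Perm.mul_apply, ev g v (a u) g2, g3])
    omega

theorem not_const {n : ℕ} (hn : 5 ≤ n) (a b : Perm (Fin n)) (ha : a ≠ 1) (hb : b ≠ 1)
    (hle : nfix a ≤ nfix b) (c : ℕ)
    (h : ∀ g ∈ alternatingGroup (Fin n), ∀ k ∈ alternatingGroup (Fin n),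
      nfix (g * a * g⁻¹ * (k * b * k⁻¹)) = c) : False := by
  have e := const_eq hn a b c (fun g hg => by simpa using h g hg 1 (one_mem _))
  have hbn := nfix_le hb
  have han := nfix_le ha
  rcases lt_or_ge (nfix a) 2 with hsmall | hbig
  · have hab : nfix a = 1 ∨ nfix b = 1 := by
      by_contra hcon
      push Not at hcon
      have h0 : (nfix a : ℤ) = 0 := by omega
      rw [h0] at e
      have hd : (n : ℤ) - 1 ∣ (nfix b : ℤ) - 1 := ⟨1 - c, by linarith⟩
      rcases Nat.eq_zero_or_pos (nfix b) with hb0 | hb0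
      · rw [hb0] at hd
        have hd' : (n : ℤ) - 1 ∣ 1 := by simpa using hd
        have := Int.le_of_dvd one_pos hd'
        omega
      · have hpos : (0 : ℤ) < (nfix b : ℤ) - 1 := by omega
        have := Int.le_of_dvd hpos hd
        omega
    have hc : c = 1 := by
      rcases hab with h1 | h1 <;> rw [h1] at e <;> simp at e <;> omega
    subst hc
    rcases hab with h1 | h1
    · obtain ⟨g, hg, hne⟩ := one_fix_case hn a b hb h1
      exact hne (by simpa using h 1 (one_mem _) g hg)
    · obtain ⟨g, hg, hne⟩ := one_fix_case hn b a ha h1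
      exact hne (by rw [nfix_mul_comm]; simpa using h g hg 1 (one_mem _))
  · classical
    set A := univ.filter fun x => a x = x with hA
    set B := univ.filter fun x => b x = x with hB
    obtain ⟨B', hB', hcard⟩ := Finset.exists_subset_card_eq (s := B) (n := A.card) hle
    obtain ⟨g, hg, hgm⟩ := alt_tuple (k := A.card) (by exact han)
      (fun i => ((B'.equivFinOfCardEq hcard).symm i : Fin n)) (fun i => (A.equivFin.symm i : Fin n))
      (Subtype.val_injective.comp (Equiv.injective _)) (Subtype.val_injective.comp (Equiv.injective _))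
    have hc : nfix a ≤ c := by
      rw [← h 1 (one_mem _) g hg]
      simp only [one_mul, inv_one, mul_one]
      refine Finset.card_le_card fun z hz => ?_
      have hz' : a z = z := (Finset.mem_filter.mp hz).2
      obtain ⟨i, hi⟩ : ∃ i, (A.equivFin.symm i : Fin n) = z := ⟨A.equivFin ⟨z, hz⟩, by simp⟩
      have e1 : g ((B'.equivFinOfCardEq hcard).symm i : Fin n) = z := (hgm i).trans hi
      have e2 : g⁻¹ z = ((B'.equivFinOfCardEq hcard).symm i : Fin n) := by
        rw [← e1]; exact g.symm_apply_apply _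
      have e3 := (Finset.mem_filter.mp (hB' ((B'.equivFinOfCardEq hcard).symm i).2)).2
      refine Finset.mem_filter.mpr ⟨mem_univ _, ?_⟩
      simp only [Perm.mul_apply, e2, e3, e1, hz']
    have h1 : ((nfix a : ℤ) - 1) * ((n : ℤ) - 1) ≤ ((c : ℤ) - 1) * ((n : ℤ) - 1) :=
      mul_le_mul_of_nonneg_right (by omega) (by omega)
    have h2 : ((nfix a : ℤ) - 1) * ((nfix b : ℤ) - 1) < ((nfix a : ℤ) - 1) * ((n : ℤ) - 1) :=
      mul_lt_mul_of_pos_left (by omega) (by omega)
    omega

/-- Let n ≥ 5 and let a, b be non-identity permutations in the symmetric group S_n. Then the number of fixed points is not constant on the set of products a′b′ with a′ conjugate to a and b′ conjugate to b under the alternating group: there are even permutations g₁, h₁, g₂, h₂ such that (g₁ a g₁⁻¹)(h₁ b h₁⁻¹) and (g₂ a g₂⁻¹)(h₂ b h₂⁻¹) have different numbers of fixed points. -/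
theorem result (n : ℕ) (hn : 5 ≤ n) (a b : Equiv.Perm (Fin n)) (ha : a ≠ 1) (hb : b ≠ 1) :
    ∃ g₁ h₁ g₂ h₂ : Equiv.Perm (Fin n), g₁ ∈ alternatingGroup (Fin n) ∧ h₁ ∈ alternatingGroup (Fin n) ∧ g₂ ∈ alternatingGroup (Fin n) ∧ h₂ ∈ alternatingGroup (Fin n) ∧
      Nat.card (Function.fixedPoints ⇑(g₁ * a * g₁⁻¹ * (h₁ * b * h₁⁻¹))) ≠
        Nat.card (Function.fixedPoints ⇑(g₂ * a * g₂⁻¹ * (h₂ * b * h₂⁻¹))) := by
  by_contra hcon
  push Not at hcon
  simp only [nfix_eq] at hcon
  have key : ∀ g ∈ alternatingGroup (Fin n), ∀ k ∈ alternatingGroup (Fin n),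
      nfix (g * a * g⁻¹ * (k * b * k⁻¹)) = nfix (a * b) := fun g hg k hk => by
    simpa using hcon g k 1 1 hg hk (one_mem _) (one_mem _)
  rcases le_total (nfix a) (nfix b) with h | h
  · exact not_const hn a b ha hb h _ key
  · exact not_const hn b a hb ha h (nfix (a * b)) fun g hg k hk => by
      rw [nfix_mul_comm]; exact key k hk g hg

end Cfsg.Agent.S2271
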