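import Cfsg.Statements.S2272

set_option autoImplicit false
open Cfsg

namespace Cfsg.Agent.S2272

open Matrix

variable {F : Type*} [Field F] {d : ℕ}

theorem exists_form {u : Fin d → F} {p : Submodule F (Fin d → F)} (hu : u ∉ p) :
    ∃ φ : Fin d → F, φ ⬝ᵥ u = 1 ∧ ∀ s ∈ p, φ ⬝ᵥ s = 0 := by
  obtain ⟨f, hfu, hf⟩ := Submodule.exists_dual_map_eq_bot_of_notMem hu inferInstance
  refine ⟨(f u)⁻¹ • (dotProductEquiv F (Fin d)).symm f, ?_, fun s hs => ?_⟩
  · rw [smul_dotProduct, smul_eq_mul]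
    have : (dotProductEquiv F (Fin d)).symm f ⬝ᵥ u = f u := by
      rw [← dotProductEquiv_apply_apply, LinearEquiv.apply_symm_apply]
    rw [this, inv_mul_cancel₀ hfu]
  · rw [smul_dotProduct]
    have : (dotProductEquiv F (Fin d)).symm f ⬝ᵥ s = f s := by
      rw [← dotProductEquiv_apply_apply, LinearEquiv.apply_symm_apply]
    have h0 : f s ∈ p.map f := Submodule.mem_map_of_mem hs
    rw [hf, Submodule.mem_bot] at h0
    rw [this, h0, smul_zero]

theorem exists_perp (hd : 3 ≤ d) (φ θ : Fin d → F) :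
    ∃ u : Fin d → F, u ≠ 0 ∧ φ ⬝ᵥ u = 0 ∧ θ ⬝ᵥ u = 0 := by
  let L : (Fin d → F) →ₗ[F] F × F :=
    (dotProductEquiv F (Fin d) φ).prod (dotProductEquiv F (Fin d) θ)
  have hne : LinearMap.ker L ≠ ⊥ := by
    refine LinearMap.ker_ne_bot_of_finrank_lt ?_
    simp
    omega
  obtain ⟨u, hu, hu0⟩ := (Submodule.ne_bot_iff _).1 hne
  have := LinearMap.mem_ker.1 hu
  exact ⟨u, hu0, congrArg Prod.fst this, congrArg Prod.snd this⟩

theorem exists_indep (A : Matrix (Fin d) (Fin d) F) (hd : 0 < d) (h : ∀ c : F, A ≠ c • 1) :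
    ∃ x, x ≠ 0 ∧ A *ᵥ x ∉ Submodule.span F {x} := by
  by_contra hc
  push Not at hc
  have hc' : ∀ x : Fin d → F, x ≠ 0 → ∃ a : F, a • x = A *ᵥ x := fun x hx =>
    Submodule.mem_span_singleton.1 (hc x hx)
  choose a ha using fun i : Fin d => hc' (Pi.single i 1) (by simp)
  have hij : ∀ i j, a i = a j := by
    intro i j
    by_cases e : i = j
    · rw [e]
    obtain ⟨c, hc⟩ := hc' (Pi.single i 1 + Pi.single j 1) (fun h0 => by
      have := congrFun h0 i
      simp [Pi.single_eq_of_ne e] at this)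
    rw [mulVec_add, ← ha, ← ha] at hc
    have h1 := congrFun hc i
    have h2 := congrFun hc j
    simp [Pi.single_eq_of_ne e, Pi.single_eq_of_ne (Ne.symm e)] at h1 h2
    rw [← h1, ← h2]
  refine h (a ⟨0, hd⟩) (Matrix.ext_of_mulVec_single fun i => ?_)
  rw [smul_mulVec, one_mulVec, ← ha, hij i]

theorem det_one_add_nil {v φ : Fin d → F} (h : φ ⬝ᵥ v = 0) (s : F) :
    (1 + s • vecMulVec v φ).det = 1 := by
  rw [← smul_vecMulVec, vecMulVec_eq Unit, det_one_add_replicateCol_mul_replicateRow,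
    dotProduct_smul, h, smul_zero, add_zero]

/-- The transvection `1 + s v φ`. -/
def tr1 {v φ : Fin d → F} (h : φ ⬝ᵥ v = 0) (s : F) : SpecialLinearGroup (Fin d) F :=
  ⟨1 + s • vecMulVec v φ, det_one_add_nil h s⟩

theorem tr1_conj {v φ : Fin d → F} (h : φ ⬝ᵥ v = 0) (s : F) (Y : Matrix (Fin d) (Fin d) F) :
    (tr1 h s : Matrix (Fin d) (Fin d) F) * Y * (↑(tr1 h s)⁻¹ : Matrix (Fin d) (Fin d) F) =
      Y + s • (vecMulVec v φ * Y - Y * vecMulVec v φ) -
        (s * s) • (vecMulVec v φ * Y * vecMulVec v φ) := by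
  have hinv : (↑(tr1 h s)⁻¹ : Matrix (Fin d) (Fin d) F) = 1 - s • vecMulVec v φ := by
    have e : (tr1 h s) * (tr1 h (-s)) = 1 := by
      apply Subtype.ext
      show (1 + s • vecMulVec v φ) * (1 + (-s) • vecMulVec v φ) = 1
      rw [add_mul, one_mul, mul_add, mul_one, Matrix.smul_mul, Matrix.mul_smul,
        vecMulVec_mul_vecMulVec, h]
      simp
    rw [inv_eq_of_mul_eq_one_right e]
    show 1 + (-s) • vecMulVec v φ = _
    rw [neg_smul, ← sub_eq_add_neg]
  rw [hinv]
  show (1 + s • vecMulVec v φ) * Y * (1 - s • vecMulVec v φ) = _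
  simp only [add_mul, one_mul, mul_sub, mul_one, Matrix.smul_mul, Matrix.mul_smul, smul_sub,
    smul_smul]
  abel

/-- The span of the conjugates of a non-scalar matrix contains the trace-zero rank one matrices. -/
theorem rank_one_mem (hd : 3 ≤ d) {B : Matrix (Fin d) (Fin d) F} (hB : ∀ c : F, B ≠ c • 1)
    (V : Submodule F (Matrix (Fin d) (Fin d) F)) (hBV : B ∈ V)
    (hV : ∀ (g : SpecialLinearGroup (Fin d) F), ∀ Y ∈ V,
      (g : Matrix (Fin d) (Fin d) F) * Y * (↑g⁻¹ : Matrix (Fin d) (Fin d) F) ∈ V)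
    {z θ : Fin d → F} (hz : θ ⬝ᵥ z = 0) : vecMulVec z θ ∈ V := by
  have hD : ∀ {u ψ : Fin d → F}, ψ ⬝ᵥ u = 0 → ∀ Y ∈ V,
      vecMulVec u ψ * Y - Y * vecMulVec u ψ - vecMulVec u ψ * Y * vecMulVec u ψ ∈ V := by
    intro u ψ h Y hY
    have := V.sub_mem (hV (tr1 h 1) Y hY) hY
    rw [tr1_conj] at this
    simp only [one_smul, mul_one] at this
    convert this using 1
    abel
  obtain ⟨v, hv0, hv⟩ := exists_indep B (by omega) hB
  obtain ⟨φ, hφB, hφ⟩ := exists_form hv
  obtain ⟨φ', hφ'0, hφ'v, hφ'B⟩ := exists_perp hd v (B *ᵥ v)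
  rw [dotProduct_comm] at hφ'v hφ'B
  have hφv : φ ⬝ᵥ v = 0 := hφ v (Submodule.mem_span_singleton_self v)
  have h0 : vecMulVec v φ' ∈ V := by
    have h := hD hφ'v _ (hD hφv B hBV)
    have e1 : ∀ a b : Fin d → F, vecMulVec v a * B * vecMulVec v b = (a ⬝ᵥ (B *ᵥ v)) • vecMulVec v b := by
      intro a b
      rw [vecMulVec_mul, vecMulVec_mul_vecMulVec, ← dotProduct_mulVec, vecMulVec_smul]
    simp only [mul_sub, sub_mul, mul_assoc] at h
    simp only [← mul_assoc, vecMulVec_mul_vecMulVec, hφv, hφ'v] at h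
    simp [e1, hφB, hφ'B, mul_assoc, vecMulVec_mul_vecMulVec, hφv, hφ'v] at h
    exact h
  have hleft : ∀ {w χ u : Fin d → F}, χ ⬝ᵥ w = 0 → w ≠ 0 → vecMulVec w χ ∈ V → χ ⬝ᵥ u = 0 →
      vecMulVec u χ ∈ V := by
    intro w χ u hw hw0 hmem hu
    by_cases hdep : w ∈ Submodule.span F {u}
    · obtain ⟨c, rfl⟩ := Submodule.mem_span_singleton.1 hdep
      have hc : c ≠ 0 := by rintro rfl; simp at hw0
      rw [smul_vecMulVec] at hmem
      have := V.smul_mem c⁻¹ hmem
      rwa [smul_smul, inv_mul_cancel₀ hc, one_smul] at this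
    obtain ⟨ψ, hψw, hψ⟩ := exists_form hdep
    have hψu : ψ ⬝ᵥ u = 0 := hψ u (Submodule.mem_span_singleton_self u)
    have := hD hψu _ hmem
    simpa [vecMulVec_mul_vecMulVec, hψw, hu] using this
  have hright : ∀ {w χ η : Fin d → F}, χ ⬝ᵥ w = 0 → χ ≠ 0 → vecMulVec w χ ∈ V → η ⬝ᵥ w = 0 →
      vecMulVec w η ∈ V := by
    intro w χ η hw hχ0 hmem hη
    by_cases hdep : χ ∈ Submodule.span F {η}
    · obtain ⟨c, rfl⟩ := Submodule.mem_span_singleton.1 hdep
      have hc : c ≠ 0 := by rintro rfl; simp at hχ0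
      rw [vecMulVec_smul] at hmem
      have := V.smul_mem c⁻¹ hmem
      rwa [smul_smul, inv_mul_cancel₀ hc, one_smul] at this
    obtain ⟨u, huχ, hu⟩ := exists_form hdep
    rw [dotProduct_comm] at huχ
    have hηu : η ⬝ᵥ u = 0 := by
      rw [dotProduct_comm]; exact hu η (Submodule.mem_span_singleton_self η)
    have := V.neg_mem (hD hηu _ hmem)
    simpa [vecMulVec_mul_vecMulVec, huχ, hη] using this
  obtain ⟨u, hu0, hu1, hu2⟩ := exists_perp hd φ' θ
  have h1 : vecMulVec u φ' ∈ V := hleft hφ'v hv0 h0 hu1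
  have h2 : vecMulVec u θ ∈ V := hright hu1 hφ'0 h1 hu2
  exact hleft hu2 hu0 h2 hz


/-- Let F be a finite field and d ≥ 3, and let a, b be non-identity elements of PSL_d(F). Then the product of the conjugacy classes of a and b is not a single conjugacy class: there are conjugates a′ of a and b′ of b such that a′b′ is not conjugate to ab. -/
theorem result {F : Type*} [Field F] [Fintype F] (d : ℕ) (hd : 3 ≤ d)
    (a b : Matrix.ProjectiveSpecialLinearGroup (Fin d) F) (ha : a ≠ 1) (hb : b ≠ 1) :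
    ∃ g h : Matrix.ProjectiveSpecialLinearGroup (Fin d) F, ¬ IsConj (a * b) (g * a * g⁻¹ * (h * b * h⁻¹)) := by
  classical
  have cm : ∀ M N : Matrix.SpecialLinearGroup (Fin d) F, ((M * N : Matrix.SpecialLinearGroup (Fin d) F) :
      Matrix (Fin d) (Fin d) F) = (M : Matrix (Fin d) (Fin d) F) * (N : Matrix (Fin d) (Fin d) F) :=
    fun _ _ => rfl
  by_contra hcon
  push Not at hcon
  obtain ⟨A, rfl⟩ := QuotientGroup.mk_surjective a
  obtain ⟨B, rfl⟩ := QuotientGroup.mk_surjective b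
  have hns : ∀ M : Matrix.SpecialLinearGroup (Fin d) F,
      (QuotientGroup.mk M : Matrix.ProjectiveSpecialLinearGroup (Fin d) F) ≠ 1 →
      ∀ c : F, (M : Matrix (Fin d) (Fin d) F) ≠ c • 1 := by
    intro M hM c hc
    refine hM ((QuotientGroup.eq_one_iff _).2 (Matrix.SpecialLinearGroup.mem_center_iff.2 ⟨c, ?_, ?_⟩))
    · have := M.2
      rw [hc, det_smul, det_one, mul_one] at this
      exact this
    · rw [hc, scalar_apply, smul_one_eq_diagonal]
  have hA := hns A ha
  have hB := hns B hb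
  -- all products have their trace in one orbit of the non-zero scalars
  have htr : ∀ G : Matrix.SpecialLinearGroup (Fin d) F,
      Matrix.trace ((A : Matrix (Fin d) (Fin d) F) * ((G : Matrix (Fin d) (Fin d) F) * (B : Matrix (Fin d) (Fin d) F) *
        (↑G⁻¹ : Matrix (Fin d) (Fin d) F))) = 0 ↔
        Matrix.trace ((A : Matrix (Fin d) (Fin d) F) * (B : Matrix (Fin d) (Fin d) F)) = 0 := by
    intro G
    obtain ⟨x, hx⟩ := isConj_iff.1 (hcon 1 (QuotientGroup.mk G))
    obtain ⟨X, rfl⟩ := QuotientGroup.mk_surjective x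
    rw [one_mul, inv_one, mul_one, ← QuotientGroup.mk_inv, ← QuotientGroup.mk_inv,
      ← QuotientGroup.mk_mul, ← QuotientGroup.mk_mul, ← QuotientGroup.mk_mul, ← QuotientGroup.mk_mul,
      ← QuotientGroup.mk_mul, ← QuotientGroup.mk_mul, QuotientGroup.eq] at hx
    obtain ⟨c, hc1, hc⟩ := Matrix.SpecialLinearGroup.mem_center_iff.1 hx
    have hc0 : c ≠ 0 := by
      rintro rfl
      rw [zero_pow (by simp; omega)] at hc1
      exact zero_ne_one hc1
    have e : ((A * (G * B * G⁻¹) : Matrix.SpecialLinearGroup (Fin d) F) : Matrix (Fin d) (Fin d) F) =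
        c • ((X * (A * B) * X⁻¹ : Matrix.SpecialLinearGroup (Fin d) F) : Matrix (Fin d) (Fin d) F) := by
      conv_lhs => rw [← mul_inv_cancel_left (X * (A * B) * X⁻¹) (A * (G * B * G⁻¹))]
      rw [cm, ← hc, scalar_apply, ← smul_one_eq_diagonal, Matrix.mul_smul,
        mul_one]
    rw [← cm, ← cm, ← cm,
      ← cm, e, trace_smul, cm,
      cm X, trace_mul_cycle, ← cm, inv_mul_cancel,
      ← cm, one_mul, smul_eq_mul, mul_eq_zero]
    simp [hc0]
  obtain ⟨x, hx0, hx⟩ := exists_indep _ (by omega) hA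
  let L : Matrix (Fin d) (Fin d) F →ₗ[F] (Fin d → F) :=
    { toFun := fun Y => ((A : Matrix (Fin d) (Fin d) F) * Y - Y * (A : Matrix (Fin d) (Fin d) F)) *ᵥ x
      map_add' := fun Y Z => by rw [mul_add, add_mul, ← add_mulVec]; congr 1; abel
      map_smul' := fun c Y => by
        rw [Matrix.mul_smul, Matrix.smul_mul, ← smul_sub, smul_mulVec, RingHom.id_apply] }
  let W : Submodule F (Fin d → F) := Submodule.span F {x, (A : Matrix (Fin d) (Fin d) F) *ᵥ x}
  let S : Set (Matrix (Fin d) (Fin d) F) := Set.range fun G : Matrix.SpecialLinearGroup (Fin d) F =>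
    (G : Matrix (Fin d) (Fin d) F) * (B : Matrix (Fin d) (Fin d) F) * (↑G⁻¹ : Matrix (Fin d) (Fin d) F)
  have hS : Submodule.span F S ≤ W.comap L := by
    rw [Submodule.span_le]
    rintro _ ⟨G, rfl⟩
    show L ((G : Matrix (Fin d) (Fin d) F) * (B : Matrix (Fin d) (Fin d) F) *
      (↑G⁻¹ : Matrix (Fin d) (Fin d) F)) ∈ W
    by_contra hG
    obtain ⟨φ, hφ1, hφ⟩ := exists_form hG
    set B' := (G : Matrix (Fin d) (Fin d) F) * (B : Matrix (Fin d) (Fin d) F) * (↑G⁻¹ : Matrix (Fin d) (Fin d) F) with hB'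
    have hφx : φ ⬝ᵥ x = 0 := hφ x (Submodule.subset_span (by simp))
    have hφA : φ ⬝ᵥ ((A : Matrix (Fin d) (Fin d) F) *ᵥ x) = 0 := hφ _ (Submodule.subset_span (by simp))
    have hf : ∀ s : F, Matrix.trace ((A : Matrix (Fin d) (Fin d) F) *
        (((tr1 hφx s * G : Matrix.SpecialLinearGroup (Fin d) F) : Matrix (Fin d) (Fin d) F) * (B : Matrix (Fin d) (Fin d) F) *
          (↑(tr1 hφx s * G)⁻¹ : Matrix (Fin d) (Fin d) F))) =
        Matrix.trace ((A : Matrix (Fin d) (Fin d) F) * B') - s := by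
      intro s
      rw [_root_.mul_inv_rev, cm, cm,
        show ∀ a b c e f : Matrix (Fin d) (Fin d) F, a * b * c * (e * f) = a * (b * c * e) * f from
          fun a b c e f => by simp only [mul_assoc], ← hB', tr1_conj]
      have e1 : ∀ (M : Matrix (Fin d) (Fin d) F),
          Matrix.trace (M * vecMulVec x φ) = φ ⬝ᵥ (M *ᵥ x) := fun M => by
        rw [mul_vecMulVec, trace_vecMulVec, dotProduct_comm]
      have hφ1' : φ ⬝ᵥ (((A : Matrix (Fin d) (Fin d) F) * B' - B' * (A : Matrix (Fin d) (Fin d) F)) *ᵥ x) = 1 := hφ1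
      rw [sub_mulVec, dotProduct_sub] at hφ1'
      simp only [mul_add, mul_sub, Matrix.mul_smul, trace_add, trace_sub, trace_smul, smul_eq_mul]
      rw [vecMulVec_mul _ _ B', vecMulVec_mul_vecMulVec, ← dotProduct_mulVec, vecMulVec_smul,
        Matrix.mul_smul, trace_smul, e1, hφA, ← mul_assoc (A : Matrix (Fin d) (Fin d) F) B', e1,
        mul_vecMulVec, trace_vecMulVec, dotProduct_comm _ (φ ᵥ* B'), ← dotProduct_mulVec,
        mulVec_mulVec]
      simp only [smul_zero, mul_zero, sub_zero]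
      linear_combination (-s) * hφ1'
    have h0 := htr (tr1 hφx (Matrix.trace ((A : Matrix (Fin d) (Fin d) F) * B')) * G)
    rw [hf, sub_self] at h0
    have h1 := (htr (tr1 hφx (Matrix.trace ((A : Matrix (Fin d) (Fin d) F) * B') - 1) * G)).2 (h0.1 rfl)
    rw [hf, sub_sub_cancel] at h1
    exact one_ne_zero h1
  have hBmem : (B : Matrix (Fin d) (Fin d) F) ∈ Submodule.span F S :=
    Submodule.subset_span ⟨1, by simp⟩
  have hinv : ∀ (g : Matrix.SpecialLinearGroup (Fin d) F), ∀ Y ∈ Submodule.span F S,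
      (g : Matrix (Fin d) (Fin d) F) * Y * (↑g⁻¹ : Matrix (Fin d) (Fin d) F) ∈ Submodule.span F S := by
    intro g Y hY
    induction hY using Submodule.span_induction with
    | mem Y hY =>
      obtain ⟨G, rfl⟩ := hY
      refine Submodule.subset_span ⟨g * G, ?_⟩
      show ((g * G : Matrix.SpecialLinearGroup (Fin d) F) : Matrix (Fin d) (Fin d) F) *
          (B : Matrix (Fin d) (Fin d) F) * (↑(g * G)⁻¹ : Matrix (Fin d) (Fin d) F) = _
      simp only [_root_.mul_inv_rev, cm, mul_assoc]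
    | zero => simp
    | add Y Z _ _ hY hZ => rw [mul_add, add_mul]; exact add_mem hY hZ
    | smul c Y _ hY => rw [Matrix.mul_smul, Matrix.smul_mul]; exact Submodule.smul_mem _ c hY
  have hW : W ≠ ⊤ := fun h => by
    have h2 := finrank_span_finset_le_card (R := F)
      ({x, (A : Matrix (Fin d) (Fin d) F) *ᵥ x} : Finset (Fin d → F))
    rw [Finset.coe_pair] at h2
    have h3 : Module.finrank F W = d := by rw [h, finrank_top, Module.finrank_fin_fun]
    have := Finset.card_le_two (a := x) (b := (A : Matrix (Fin d) (Fin d) F) *ᵥ x)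
    rw [Set.finrank] at h2
    change Module.finrank F W ≤ _ at h2
    omega
  obtain ⟨z, hz⟩ : ∃ z, z ∉ W := by
    by_contra h
    push Not at h
    exact hW (Submodule.eq_top_iff'.2 h)
  obtain ⟨θ, hθ1, hθ⟩ := exists_form (u := (A : Matrix (Fin d) (Fin d) F) *ᵥ x)
    (p := Submodule.span F {x, z}) (by
      intro h
      obtain ⟨c, e, hce⟩ := Submodule.mem_span_pair.1 h
      rcases eq_or_ne e 0 with rfl | he
      · rw [zero_smul, add_zero] at hce
        exact hx (Submodule.mem_span_singleton.2 ⟨c, hce⟩)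
      · refine hz (Submodule.mem_span_pair.2 ⟨-(e⁻¹ * c), e⁻¹, ?_⟩)
        rw [← hce, smul_add, smul_smul, smul_smul, inv_mul_cancel₀ he, one_smul, neg_smul]
        abel)
  have hY := hS (rank_one_mem hd hB _ hBmem hinv (z := z) (θ := θ)
    (hθ z (Submodule.subset_span (by simp))))
  refine hz ?_
  have e : L (vecMulVec z θ) = -z := by
    show ((A : Matrix (Fin d) (Fin d) F) * vecMulVec z θ - vecMulVec z θ * (A : Matrix (Fin d) (Fin d) F)) *ᵥ x = -z
    rw [sub_mulVec, ← mulVec_mulVec, ← mulVec_mulVec, vecMulVec_mulVec, vecMulVec_mulVec,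
      hθ x (Submodule.subset_span (by simp)), hθ1]
    simp
  rw [Submodule.mem_comap, e] at hY
  simpa using W.neg_mem hY

end Cfsg.Agent.S2272
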