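import Cfsg.Statements.S2276
import Cfsg.Agent.AltPPair.Main

set_option autoImplicit false
open Cfsg

namespace Cfsg.Agent.S2276

/-- Let n ≥ 5, p ≥ 3 a prime, and u, w non-identity elements of p-power order in the alternating group A_n. Then there is g ∈ A_n such that u·(g w g⁻¹) does not have p-power order and ⟨u, g w g⁻¹⟩ is not solvable. -/
theorem result (n : ℕ) (hn : 5 ≤ n) (p : ℕ) (hp : p.Prime) (hp3 : 3 ≤ p) (u w : alternatingGroup (Fin n)) (hu : u ≠ 1) (hw : w ≠ 1)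
    (hu' : ∃ k : ℕ, orderOf u = p ^ k) (hw' : ∃ k : ℕ, orderOf w = p ^ k) :
    ∃ g : alternatingGroup (Fin n), (¬ ∃ k : ℕ, orderOf (u * (g * w * g⁻¹)) = p ^ k) ∧
      ¬ Group.IsSolvable ↥(Subgroup.closure ({u, g * w * g⁻¹} : Set (alternatingGroup (Fin n)))) := by
  have : Fact p.Prime := ⟨hp⟩
  have hinj := (alternatingGroup (Fin n)).subtype_injective
  obtain ⟨σ, hσ, h⟩ := AltPPair.exists_good_even (p := p) hp3 hn
    (u := (u : Equiv.Perm (Fin n))) (w := (w : Equiv.Perm (Fin n)))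
    (fun h => hu (Subtype.ext h)) (fun h => hw (Subtype.ext h))
    (by obtain ⟨k, hk⟩ := hu'; exact ⟨k, by rw [Subgroup.orderOf_coe, hk]⟩)
    (by obtain ⟨k, hk⟩ := hw'; exact ⟨k, by rw [Subgroup.orderOf_coe, hk]⟩)
  refine ⟨⟨σ, Equiv.Perm.mem_alternatingGroup.mpr hσ⟩, ?_, ?_⟩
  · intro ⟨k, hk⟩
    refine h.1 ⟨k, ?_⟩
    rw [← hk, ← Subgroup.orderOf_coe]
    rfl
  · intro hs
    apply h.2
    have h1 := @Group.isSolvable_of_surjective _ _ _ _ _
      ((alternatingGroup (Fin n)).subtype.subgroupMap_surjective _) hs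
    rwa [MonoidHom.map_closure, Set.image_pair] at h1

end Cfsg.Agent.S2276
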