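import Cfsg.Statements.S2277
import Cfsg.Agent.Lib.Coprime.Action
import Cfsg.Agent.Lib.PGroup.NormalRankTwo

set_option autoImplicit false
open Cfsg

namespace Cfsg.Agent.S2277

open scoped commutatorElement

open Subgroup

section Abelian

variable {A : Type*} [CommGroup A]

/-- The product over `⟨f⟩` for `f` of exponent `p`. -/
def traceHom (f : MulAut A) (p : ℕ) : A →* A where
  toFun a := ∏ k ∈ Finset.range p, (f ^ k) a
  map_one' := by simp
  map_mul' a b := by simp [Finset.prod_mul_distrib]

theorem traceHom_apply (f : MulAut A) (p : ℕ) (a : A) :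
    traceHom f p a = ∏ k ∈ Finset.range p, (f ^ k) a := rfl

theorem prod_fin_eq_range {p : ℕ} (g : ℕ → A) :
    ∏ k : Fin p, g k = ∏ k ∈ Finset.range p, g k :=
  Fin.prod_univ_eq_prod_range g p

theorem apply_traceHom (f : MulAut A) {p : ℕ} (hf : f ^ p = 1) (a : A) :
    f (traceHom f p a) = traceHom f p a := by
  simp only [traceHom_apply, map_prod, ← MulAut.mul_apply, ← pow_succ']
  rw [← prod_fin_eq_range (fun k => (f ^ (k + 1)) a), ← prod_fin_eq_range (fun k => (f ^ k) a)]
  rcases p with _ | n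
  · simp
  refine Fintype.prod_equiv (finRotate (n + 1)) _ _ fun k => ?_
  rcases eq_or_lt_of_le (Fin.le_last k) with rfl | h
  · simp [finRotate_last, hf]
  · simp [finRotate_succ_apply, Fin.val_add_one_of_lt h]

theorem commute_traceHom (f g : MulAut A) (h : Commute f g) (p : ℕ) (a : A) :
    g (traceHom f p a) = traceHom f p (g a) := by
  simp only [traceHom_apply, map_prod, ← MulAut.mul_apply]
  refine Finset.prod_congr rfl fun k _ => ?_
  rw [(h.symm.pow_right k).eq]

theorem traceHom_of_fixed (f : MulAut A) (p : ℕ) (a : A) (h : f a = a) :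
    traceHom f p a = a ^ p := by
  have : ∀ k : ℕ, (f ^ k) a = a := by
    intro k; induction k with
    | zero => simp
    | succ k ih => rw [pow_succ', MulAut.mul_apply, ih, h]
  simp [traceHom_apply, this]

/-- The fixed subgroup of an automorphism. -/
def fix (f : MulAut A) : Subgroup A where
  carrier := {a | f a = a}
  one_mem' := map_one f
  mul_mem' {a b} ha hb := show f (a * b) = a * b by rw [map_mul, show f a = a from ha, show f b = b from hb]
  inv_mem' {a} ha := show f a⁻¹ = a⁻¹ by rw [map_inv, show f a = a from ha]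

theorem mem_fix {f : MulAut A} {a : A} : a ∈ fix f ↔ f a = a := Iff.rfl

/-- The lines other than `⟨w⟩` give a resolution of `a ^ p`. -/
theorem prod_lines {p : ℕ} [hp : Fact p.Prime] (e w : MulAut A) (hw : w ^ p = 1) (hew : Commute e w)
    (hfpf : ∀ a, w a = a → a = 1) :
    ∀ a, ∏ i ∈ Finset.range p, traceHom (w ^ i * e) p a = a ^ p := by
  set L : ℕ → MulAut A := fun i => w ^ i * e with hL
  intro a
  simp only [traceHom_apply]
  rw [Finset.prod_comm]
  have hterm : ∀ k ∈ Finset.range p, ∏ i ∈ Finset.range p, (L i ^ k) a =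
      if k = 0 then a ^ p else 1 := by
    intro k hk
    have hk' := Finset.mem_range.mp hk
    rcases Nat.eq_zero_or_pos k with rfl | hk0
    · simp
    rw [if_neg hk0.ne']
    have h1 : ∀ i, (L i ^ k) a = ((w ^ k) ^ i) ((e ^ k) a) := fun i => by
      rw [← MulAut.mul_apply, ← pow_mul, mul_comm k i, pow_mul, (hew.symm.pow_left i).mul_pow]
    simp only [h1]
    have hwk : (w ^ k) ^ p = 1 := by rw [← pow_mul, mul_comm, pow_mul, hw, one_pow]
    have := apply_traceHom (w ^ k) hwk ((e ^ k) a)
    apply hfpf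
    rw [← traceHom_apply]
    obtain ⟨j, hj⟩ := Nat.exists_mul_mod_eq_one_of_coprime
      ((hp.out.coprime_iff_not_dvd.mpr (Nat.not_dvd_of_pos_of_lt hk0 hk')).symm) hp.out.one_lt
    have hjw : (w ^ k) ^ j = w := by
      rw [← pow_mul, ← Nat.div_add_mod (k * j) p, hj.2, pow_succ, pow_mul, hw, one_pow, one_mul]
    have hfix : ∀ m : ℕ, ((w ^ k) ^ m) (traceHom (w ^ k) p ((e ^ k) a)) = traceHom (w ^ k) p ((e ^ k) a) := by
      intro m; induction m with
      | zero => simp
      | succ m ih => rw [pow_succ, MulAut.mul_apply, this, ih]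
    have h2 := hfix j
    rw [hjw] at h2
    exact h2
  rw [Finset.prod_congr rfl hterm, Finset.prod_ite_eq' (Finset.range p) 0 (fun _ => a ^ p)]
  simp [hp.out.pos]

/-- `c` permutes the `p` eigen-parts of `⟨e, w⟩` cyclically. -/
theorem fix_bound [Finite A] {p : ℕ} [hp : Fact p.Prime] (hcop : (Nat.card A).Coprime p)
    (c e w : MulAut A) (he : e ^ p = 1) (hw : w ^ p = 1) (hew : Commute e w) (hcw : Commute c w)
    (hce : c * e * c⁻¹ = w * e) (hfpf : ∀ a, w a = a → a = 1) :
    Nat.card (fix c) ≤ Nat.card (fix e) ∧ Nat.card (fix e) ^ p ≤ Nat.card A := by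
  set L : ℕ → MulAut A := fun i => w ^ i * e with hL
  have hpowinj : Function.Injective (fun a : A => a ^ p) := (powCoprime hcop).injective
  have htw : ∀ a, traceHom w p a = 1 := fun a => hfpf _ (apply_traceHom w hw a)
  have hLp : ∀ i, L i ^ p = 1 := fun i => by
    rw [(hew.symm.pow_left i).mul_pow, he, mul_one, ← pow_mul, mul_comm, pow_mul, hw, one_pow]
  have hLc : ∀ i, c * L i * c⁻¹ = L (i + 1) := by
    intro i
    have h1 : c * w ^ i * c⁻¹ = w ^ i := by rw [(hcw.pow_right i).eq, mul_inv_cancel_right]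
    calc c * L i * c⁻¹ = (c * w ^ i * c⁻¹) * (c * e * c⁻¹) := by simp only [hL]; group
      _ = L (i + 1) := by rw [h1, hce, ← mul_assoc, ← pow_succ]
  have hct : ∀ i a, c (traceHom (L i) p a) = traceHom (L (i + 1)) p (c a) := by
    intro i a
    simp only [traceHom_apply, map_prod, ← MulAut.mul_apply]
    refine Finset.prod_congr rfl fun k _ => ?_
    rw [show L (i + 1) ^ k * c = c * L i ^ k by rw [← hLc i, conj_pow]; group]
  have hsum : ∀ a, ∏ i ∈ Finset.range p, traceHom (L i) p a = a ^ p := prod_lines e w hw hew hfpf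
  constructor
  · refine Nat.card_le_card_of_injective
      (fun a : fix c => (⟨traceHom (L 0) p a, ?_⟩ : fix e)) fun a b hab => ?_
    · have := apply_traceHom (L 0) (hLp 0) (a : A)
      simpa [hL, mem_fix] using this
    · have h0 : traceHom (L 0) p (a : A) = traceHom (L 0) p (b : A) := congrArg Subtype.val hab
      have hall : ∀ i, traceHom (L i) p (a : A) = traceHom (L i) p (b : A) := by
        intro i; induction i with
        | zero => exact h0
        | succ i ih =>
          have := congrArg c ih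
          rw [hct, hct, show c (a : A) = a from a.2, show c (b : A) = b from b.2] at this
          exact this
      exact Subtype.ext (hpowinj (show (a : A) ^ p = (b : A) ^ p by
        rw [← hsum, ← hsum]; simp only [hall]))
  · rw [show Nat.card (fix e) ^ p = Nat.card (Fin p → fix e) by
      rw [Nat.card_fun, Nat.card_fin]]
    refine Nat.card_le_card_of_injective
      (fun f : Fin p → fix e => ∏ i : Fin p, (c ^ (i : ℕ)) (f i : A)) fun f g hfg => ?_
    have hfix : ∀ (i : ℕ) (x : fix e), L i ((c ^ i) (x : A)) = (c ^ i) (x : A) := by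
      intro i x
      have h1 : L i * c ^ i = c ^ i * e := by
        induction i with
        | zero => simp [hL]
        | succ i ih => rw [← hLc i, pow_succ', mul_assoc, ← mul_assoc c⁻¹, inv_mul_cancel, one_mul,
            mul_assoc, ih, ← mul_assoc]
      rw [← MulAut.mul_apply, h1, MulAut.mul_apply, show e (x : A) = x from x.2]
    have key : ∀ (i j : Fin p) (x : fix e), i ≠ j →
        traceHom (L j) p ((c ^ (i : ℕ)) (x : A)) = 1 := by
      intro i j x hij
      set y := (c ^ (i : ℕ)) (x : A)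
      set d := ((j : ℕ) + p - i) with hd
      have hLd : L j = w ^ d * L i := by
        simp only [hL, ← mul_assoc, ← pow_add]
        rw [show d + (i : ℕ) = j + p by omega, pow_add, hw, mul_one]
      have hy : ∀ k : ℕ, (L i ^ k) y = y := by
        intro k; induction k with
        | zero => simp
        | succ k ih => rw [pow_succ, MulAut.mul_apply, hfix, ih]
      have hcomm : Commute (w ^ d) (L i) :=
        ((Commute.refl w).pow_pow d i).mul_right (hew.symm.pow_left d)
      have h1 : traceHom (L j) p y = traceHom (w ^ d) p y := by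
        simp only [traceHom_apply, hLd, hcomm.mul_pow, MulAut.mul_apply, hy]
      rw [h1]
      have hdp : ¬ p ∣ d := by
        rintro ⟨q, hq⟩
        have hi := i.2
        have hj := j.2
        have : q < 2 := by
          by_contra h
          have : p * 2 ≤ p * q := Nat.mul_le_mul_left p (not_lt.mp h)
          omega
        interval_cases q
        · omega
        · exact hij (Fin.ext (by omega))
      obtain ⟨m, hm⟩ := Nat.exists_mul_mod_eq_one_of_coprime (hp.out.coprime_iff_not_dvd.mpr hdp).symm hp.out.one_lt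
      have hmw : (w ^ d) ^ m = w := by
        rw [← pow_mul, ← Nat.div_add_mod (d * m) p, hm.2, pow_succ, pow_mul, hw, one_pow, one_mul]
      have hwd : (w ^ d) ^ p = 1 := by rw [← pow_mul, mul_comm, pow_mul, hw, one_pow]
      have hm2 : ∀ m : ℕ, ((w ^ d) ^ m) (traceHom (w ^ d) p y) = traceHom (w ^ d) p y := by
        intro m; induction m with
        | zero => simp
        | succ m ih => rw [pow_succ, MulAut.mul_apply, apply_traceHom _ hwd, ih]
      exact hfpf _ (by have := hm2 m; rwa [hmw] at this)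
    funext j
    have h1 := congrArg (traceHom (L j) p) hfg
    simp only [map_prod] at h1
    rw [Finset.prod_eq_single j (fun i _ hij => key i j (f i) hij) (fun h => absurd (Finset.mem_univ j) h),
      Finset.prod_eq_single j (fun i _ hij => key i j (g i) hij) (fun h => absurd (Finset.mem_univ j) h),
      traceHom_of_fixed _ _ _ (hfix j (f j)), traceHom_of_fixed _ _ _ (hfix j (g j))] at h1
    exact Subtype.ext ((c ^ (j : ℕ)).injective (hpowinj h1))

end Abelian

universe u

/-- The abelian core: if `A = C(c) C(d)` for all `c ∈ C`, `d ∈ D`, then the action is trivial. -/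
theorem abelian_core {p : ℕ} [hp : Fact p.Prime] (hp3 : 3 ≤ p) : ∀ (n : ℕ) (A : Type u) [CommGroup A]
    [Finite A], Nat.card A = n → (Nat.card A).Coprime p → ∀ (P : Subgroup (MulAut A)),
    IsPGroup p P → ∀ C D : Set (MulAut A), closure C = P → closure D = P →
    (∀ a : A, ∀ c ∈ C, ∀ d ∈ D, ∃ x y, c x = x ∧ d y = y ∧ a = x * y) → P = ⊥ := by
  intro n
  induction n using Nat.strong_induction_on with
  | _ n IH =>
  intro A _ _ hn hcop P hP C D hC hD h
  by_contra hne
  haveI : Finite (MulAut A) := Finite.of_injective (fun f : MulAut A => (f : A → A)) DFunLike.coe_injective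
  have hCP : C ⊆ P := hC ▸ subset_closure
  have hDP : D ⊆ P := hD ▸ subset_closure
  have hpowinj : Function.Injective (fun a : A => a ^ p) := (powCoprime hcop).injective
  -- central elements of order p have no non-trivial fixed points
  have central : ∀ z ∈ P, (∀ g ∈ P, Commute z g) → z ^ p = 1 → z ≠ 1 → ∀ a, z a = a → a = 1 := by
    intro z hzP hz hzp hz1
    by_contra hcon
    push Not at hcon
    obtain ⟨a0, ha0, ha01⟩ := hcon
    let T : A →* A := traceHom z p
    have hnt : fix z ≠ ⊤ := fun htop => hz1 (MulEquiv.ext fun a => by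
      have : a ∈ fix z := htop ▸ Subgroup.mem_top a
      simpa using mem_fix.mp this)
    let e := (powCoprime hcop).symm
    have hkerne : T.ker ≠ ⊤ := fun htop => by
      have h2 : a0 ∈ T.ker := htop ▸ Subgroup.mem_top a0
      rw [MonoidHom.mem_ker] at h2
      simp only [T] at h2
      rw [traceHom_of_fixed _ _ _ ha0] at h2
      exact ha01 (hpowinj (h2.trans (one_pow p).symm))
    have hinvF : ∀ g ∈ P, ∀ a ∈ fix z, g a ∈ fix z := fun g hg a ha => by
      show z (g a) = g a
      rw [← MulAut.mul_apply, (hz g hg).eq, MulAut.mul_apply, mem_fix.mp ha]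
    have hinvK : ∀ g ∈ P, ∀ a ∈ T.ker, g a ∈ T.ker := fun g hg a ha => by
      rw [MonoidHom.mem_ker] at ha ⊢
      simp only [T] at ha ⊢
      rw [← commute_traceHom z g (hz g hg), ha, map_one]
    have key : ∀ (W : Subgroup A) (π : A → A), W ≠ ⊤ → (∀ g ∈ P, ∀ a ∈ W, g a ∈ W) →
        (∀ a, π a ∈ W) → (∀ a ∈ W, π a = a) → (∀ a b, π (a * b) = π a * π b) →
        (∀ g ∈ P, ∀ a, g (π a) = π (g a)) → ∀ g ∈ P, ∀ a ∈ W, g a = a := by
      intro W π hW hinv hπ hπW hπm hπc
      let ρ : P →* MulAut W :=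
        { toFun := fun g => {
            toFun := fun a => ⟨(g : MulAut A) a, hinv g g.2 a a.2⟩
            invFun := fun a => ⟨((g⁻¹ : P) : MulAut A) a, hinv _ (g⁻¹ : P).2 a a.2⟩
            left_inv := fun a => Subtype.ext ((g : MulAut A).symm_apply_apply a)
            right_inv := fun a => Subtype.ext ((g : MulAut A).apply_symm_apply a)
            map_mul' := fun a b => Subtype.ext (map_mul (g : MulAut A) (a : A) b) }
          map_one' := rfl
          map_mul' := fun g g' => rfl }
      have hclos : ∀ S : Set (MulAut A), closure S = P →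
          closure (ρ '' (((↑) : P → MulAut A) ⁻¹' S)) = ρ.range := by
        intro S hS
        have hsub : S ⊆ P := hS ▸ subset_closure
        rw [← MonoidHom.map_closure, MonoidHom.range_eq_map]
        congr 1
        apply Subgroup.map_injective P.subtype_injective
        rw [MonoidHom.map_closure, ← MonoidHom.range_eq_map, Subgroup.range_subtype]
        rw [Subgroup.coe_subtype, Set.image_preimage_eq_of_subset (by simpa using hsub), hS]
      have hlt : Nat.card W < n := hn ▸ lt_of_le_of_ne (Subgroup.card_le_card_group W)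
        (fun he => hW (Subgroup.eq_top_of_card_eq W he))
      have hbot := IH _ hlt W rfl (hcop.coprime_dvd_left (Subgroup.card_subgroup_dvd_card W)) ρ.range
        (hP.of_surjective ρ.rangeRestrict ρ.rangeRestrict_surjective) _ _ (hclos C hC) (hclos D hD) (by
          rintro a _ ⟨c, hc, rfl⟩ _ ⟨d, hd, rfl⟩
          obtain ⟨x, y, hx, hy, hxy⟩ := h a c hc d hd
          refine ⟨⟨π x, hπ x⟩, ⟨π y, hπ y⟩, Subtype.ext ?_, Subtype.ext ?_, Subtype.ext ?_⟩
          · show (c : MulAut A) (π x) = π x
            rw [hπc _ c.2, hx]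
          · show (d : MulAut A) (π y) = π y
            rw [hπc _ d.2, hy]
          · show (a : A) = π x * π y
            rw [← hπm, ← hxy, hπW _ a.2])
      intro g hg a ha
      have : ρ ⟨g, hg⟩ = 1 := by
        have : ρ ⟨g, hg⟩ ∈ ρ.range := ⟨_, rfl⟩
        rwa [hbot, Subgroup.mem_bot] at this
      exact congrArg Subtype.val (DFunLike.congr_fun this ⟨a, ha⟩)
    have he : ∀ a, (e a) ^ p = a := fun a => (powCoprime hcop).apply_symm_apply a
    have hem : ∀ a b, e (a * b) = e a * e b := fun a b => hpowinj (by simp only [mul_pow, he])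
    have hec : ∀ (g : MulAut A) a, g (e a) = e (g a) := fun g a => hpowinj (by simp only [← map_pow, he])
    have hTf : ∀ a, e (T a) ∈ fix z := fun a => by
      rw [mem_fix, hec]
      congr 1
      exact apply_traceHom z hzp a
    have hF := key (fix z) (fun a => e (T a)) hnt hinvF hTf
      (fun a ha => hpowinj (by simp only [he, T]; exact traceHom_of_fixed _ _ _ ha))
      (fun a b => by simp only [map_mul, hem])
      (fun g hg a => by simp only [T, hec, commute_traceHom z g (hz g hg)])
    have hK := key T.ker (fun a => a / e (T a)) hkerne hinvK (fun a => by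
        rw [MonoidHom.mem_ker, map_div, div_eq_one, show T (e (T a)) = e (T a) ^ p from
          traceHom_of_fixed _ _ _ (hTf a), he])
      (fun a ha => by
        rw [MonoidHom.mem_ker] at ha
        simp only [ha, show e (1 : A) = 1 from hpowinj (by simp only [he, one_pow]), div_one])
      (fun a b => by simp only [map_mul, hem, mul_div_mul_comm])
      (fun g hg a => by simp only [T, map_div, hec, commute_traceHom z g (hz g hg)])
    refine hz1 (MulEquiv.ext fun a => ?_)
    have h1 : a = e (T a) * (a / e (T a)) := (mul_div_cancel (e (T a)) a).symm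
    show z a = a
    rw [h1, map_mul, hF z hzP _ (hTf a), hK z hzP _ (by
      rw [MonoidHom.mem_ker, map_div, div_eq_one, show T (e (T a)) = e (T a) ^ p from
          traceHom_of_fixed _ _ _ (hTf a), he])]
  -- an element of C without fixed points gives a contradiction
  have finish : ∀ c ∈ C, (∀ a, c a = a → a = 1) → False := by
    intro c hc hc1
    refine hne (eq_bot_iff.mpr (hD ▸ closure_le _ |>.mpr fun d hd => ?_))
    refine Subgroup.mem_bot.mpr (MulEquiv.ext fun a => ?_)
    obtain ⟨x, y, hx, hy, rfl⟩ := h a c hc d hd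
    simp [hc1 x hx, hy]
  by_cases hcyc : IsCyclic P
  · obtain ⟨c, hc, hc1⟩ : ∃ c ∈ C, c ≠ 1 := by
      by_contra hcon
      push Not at hcon
      exact hne (eq_bot_iff.mpr (hC ▸ closure_le _ |>.mpr fun c hc => Subgroup.mem_bot.mpr (hcon c hc)))
    obtain ⟨z, hz, hz1, hzp⟩ := PGroup.exists_mem_pow_eq_one hP
      (H := zpowers (⟨c, hCP hc⟩ : P)) (fun hb => hc1 (by
        have h2 : (⟨c, hCP hc⟩ : P) ∈ (⊥ : Subgroup P) := hb ▸ mem_zpowers _
        exact congrArg Subtype.val (Subgroup.mem_bot.mp h2)))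
    obtain ⟨k, hk⟩ := Subgroup.mem_zpowers_iff.mp hz
    refine finish c hc fun a ha => central z z.2
      (fun g hg => congrArg Subtype.val (PGroup.mul_comm_of_cyclic z ⟨g, hg⟩))
      (congrArg Subtype.val hzp) (fun h' => hz1 (Subtype.ext h')) a ?_
    rw [← hk, Subgroup.coe_zpow]
    have hpow : ∀ m : ℕ, (c ^ m) a = a := by
      intro m; induction m with
      | zero => simp
      | succ m ih => rw [pow_succ, MulAut.mul_apply, ha, ih]
    cases k with
    | ofNat m => simpa using hpow m
    | negSucc m =>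
      rw [zpow_negSucc]
      conv_lhs => rw [← hpow (m + 1)]
      exact (c ^ (m + 1)).symm_apply_apply a
  obtain ⟨E, hEn, hEc, hEp, hEcard⟩ := PGroup.exists_normal_elementary_sq hP (by omega) hcyc
  haveI := hEn
  have hE1 : E ≠ ⊥ := fun hb => by rw [hb, card_bot] at hEcard; nlinarith
  obtain ⟨⟨z, hzP⟩, ⟨hzE, hzZ⟩, hz1, hzp⟩ :=
    PGroup.exists_mem_pow_eq_one hP (H := E ⊓ center P) (PGroup.inf_center_ne_bot hP hE1)
  have hzc : ∀ g ∈ P, Commute z g := fun g hg =>
    (congrArg Subtype.val (Subgroup.mem_center_iff.mp hzZ ⟨g, hg⟩)).symm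
  have hzp' : z ^ p = 1 := congrArg Subtype.val hzp
  have hz1' : z ≠ 1 := fun h' => hz1 (Subtype.ext h')
  have hZcard : Nat.card (E ⊓ center P : Subgroup P) = p := by
    obtain ⟨k, hk⟩ := PGroup.exists_card_eq_pow hP (E ⊓ center P)
    have hd := Subgroup.card_dvd_of_le (inf_le_left : E ⊓ center P ≤ E)
    rw [hEcard, hk] at hd
    have hk2 := (Nat.pow_dvd_pow_iff_le_right hp.out.one_lt).mp hd
    have hk0 : k ≠ 0 := fun h0 => by
      rw [h0, pow_zero] at hk
      exact PGroup.inf_center_ne_bot hP hE1 (Subgroup.eq_bot_of_card_eq _ hk)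
    rcases (show k = 1 ∨ k = 2 by omega) with rfl | rfl
    · simpa using hk
    exfalso
    have hcen : E ≤ center P := by
      have : E ⊓ center P = E := Subgroup.eq_of_le_of_card_ge inf_le_left (by rw [hk, hEcard])
      exact this ▸ inf_le_right
    obtain ⟨⟨e, heP⟩, heE, hez⟩ : ∃ e ∈ E, e ∉ zpowers (⟨z, hzP⟩ : P) := by
      by_contra hcon
      push Not at hcon
      have h1 := Nat.le_of_dvd Nat.card_pos (Subgroup.card_dvd_of_le (show E ≤ zpowers _ from hcon))
      rw [hEcard, Nat.card_zpowers, orderOf_eq_prime hzp hz1] at h1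
      nlinarith [hp.out.one_lt]
    have hEe : ∀ x ∈ E, ∀ g ∈ P, Commute (x : MulAut A) g := fun x hx g hg =>
      (congrArg Subtype.val (Subgroup.mem_center_iff.mp (hcen hx) ⟨g, hg⟩)).symm
    have hnotA : ∃ a : A, a ≠ 1 := by
      by_contra hcon
      push Not at hcon
      exact hz1' (MulEquiv.ext fun a => by simp [hcon a])
    obtain ⟨a, ha⟩ := hnotA
    have hEfpf : ∀ x : P, x ∈ E → x ≠ 1 → ∀ b, (x : MulAut A) b = b → b = 1 := fun x hx hx1 =>
      central x x.2 (hEe x hx) (congrArg Subtype.val (hEp x hx)) (fun h' => hx1 (Subtype.ext h'))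
    set L : ℕ → P := fun i => ⟨z, hzP⟩ ^ i * ⟨e, heP⟩ with hL
    have hLE : ∀ i, L i ∈ E := fun i => mul_mem (pow_mem hzE i) heE
    have hL1 : ∀ i, L i ≠ 1 := fun i h' => hez (by
      have : (⟨e, heP⟩ : P) = (⟨z, hzP⟩ ^ i)⁻¹ := eq_inv_of_mul_eq_one_right h'
      rw [this]
      exact inv_mem (pow_mem (mem_zpowers _) i))
    have hsum := prod_lines (e : MulAut A) z hzp' (hzc e heP).symm (hEfpf _ hzE hz1) a
    refine ha (hpowinj (?_ : a ^ p = 1 ^ p))
    rw [← hsum, one_pow]
    refine Finset.prod_eq_one fun i _ => hEfpf (L i) (hLE i) (hL1 i) _ ?_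
    simpa [hL] using apply_traceHom (z ^ i * e) (by
      have := congrArg Subtype.val (hEp _ (hLE i))
      simpa [hL] using this) a
  have hcz : ∀ x ∈ E ⊓ center P, x ∈ zpowers (⟨z, hzP⟩ : P) := by
    have h1 : zpowers (⟨z, hzP⟩ : P) = E ⊓ center P := Subgroup.eq_of_le_of_card_ge
      (zpowers_le.mpr ⟨hzE, hzZ⟩) (by rw [Nat.card_zpowers, orderOf_eq_prime hzp hz1, hZcard])
    intro x hx; rw [h1]; exact hx
  obtain ⟨e, heE, heZ⟩ : ∃ e ∈ E, e ∉ center P := by
    by_contra hcon
    push Not at hcon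
    have : E ⊓ center P = E := inf_eq_left.mpr hcon
    rw [this, hEcard] at hZcard
    nlinarith [hp.out.one_lt]
  have hgen : ∀ S : Set (MulAut A), closure S = P → ∃ c ∈ S, ∃ w : MulAut A, w ^ p = 1 ∧ w ≠ 1 ∧
      w ∈ P ∧ (∀ g ∈ P, Commute w g) ∧ c * e * c⁻¹ = w * e := by
    intro S hS
    have hSP : S ⊆ P := hS ▸ subset_closure
    obtain ⟨c, hc, hcne⟩ : ∃ c ∈ S, ¬ Commute c (e : MulAut A) := by
      by_contra hcon
      push Not at hcon
      refine heZ (Subgroup.mem_center_iff.mpr fun g => Subtype.ext ?_)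
      have hle : closure S ≤ Subgroup.centralizer {(e : MulAut A)} := (closure_le _).mpr fun c hc => by
        rw [SetLike.mem_coe, Subgroup.mem_centralizer_iff]
        rintro _ rfl
        exact (hcon c hc).symm
      exact ((Subgroup.mem_centralizer_iff.mp (hle (hS.symm ▸ g.2))) _ rfl).symm
    set c' : P := ⟨c, hSP hc⟩ with hc'
    set w : P := c' * e * c'⁻¹ * e⁻¹ with hw
    have hwE : w ∈ E := mul_mem (hEn.conj_mem e heE c') (inv_mem heE)
    have hw1 : w ≠ 1 := fun h' => hcne (by
      have := congrArg Subtype.val (mul_inv_eq_one.mp h')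
      simp only [Subgroup.coe_mul, Subgroup.coe_inv, hc'] at this
      exact mul_inv_eq_iff_eq_mul.mp this)
    have hwZ : w ∈ center P := by
      by_contra hwn
      haveI := hP.isNilpotent
      -- conjugation acts on the quotient of order p trivially
      have hq : ⁅E, (⊤ : Subgroup P)⁆ < E := by
        refine lt_of_le_of_ne (Subgroup.commutator_le_left E ⊤) fun he' => hE1 ?_
        exact Coprime.eq_bot_of_le_commutator ⊤ (by
          haveI := hP.isNilpotent
          infer_instance) le_top he'.ge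
      obtain ⟨k, hk⟩ := PGroup.exists_card_eq_pow hP ⁅E, (⊤ : Subgroup P)⁆
      have hwc : w ∈ ⁅E, (⊤ : Subgroup P)⁆ := by
        have h2 : w = ⁅e, c'⁆⁻¹ := by simp [hw, commutatorElement_def, mul_assoc]
        rw [h2]
        exact inv_mem (Subgroup.commutator_mem_commutator heE (Subgroup.mem_top _))
      have hd := Subgroup.card_dvd_of_le hq.le
      rw [hk, hEcard] at hd
      have hk2 := (Nat.pow_dvd_pow_iff_le_right hp.out.one_lt).mp hd
      rcases (show k = 0 ∨ k = 1 ∨ k = 2 by omega) with rfl | rfl | rfl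
      · rw [Subgroup.eq_bot_of_card_eq ⁅E, (⊤ : Subgroup P)⁆ (by simpa using hk), Subgroup.mem_bot] at hwc
        exact hw1 hwc
      · exact hwn (PGroup.le_center_of_card_eq_prime hP (by simpa using hk) hwc)
      · exact hq.ne (Subgroup.eq_of_le_of_card_ge hq.le (by rw [hk, hEcard]))
    refine ⟨c, hc, (w : MulAut A), congrArg Subtype.val (hEp w hwE), fun h' => hw1 (Subtype.ext h'), w.2,
      fun g hg => (congrArg Subtype.val (Subgroup.mem_center_iff.mp hwZ ⟨g, hg⟩)).symm, ?_⟩
    simp [hw, hc']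
  obtain ⟨c, hc, w, hwp, hw1, hwP, hwc, hce⟩ := hgen C hC
  obtain ⟨d, hd, v, hvp, hv1, hvP, hvc, hde⟩ := hgen D hD
  have hep : (e : MulAut A) ^ p = 1 := congrArg Subtype.val (hEp e heE)
  obtain ⟨b1, b2⟩ := fix_bound hcop c e w hep hwp (hwc e e.2).symm (hwc c (hCP hc)).symm hce
    (central w hwP hwc hwp hw1)
  obtain ⟨b3, -⟩ := fix_bound hcop d e v hep hvp (hvc e e.2).symm (hvc d (hDP hd)).symm hde
    (central v hvP hvc hvp hv1)
  have hle : Nat.card A ≤ Nat.card (fix c) * Nat.card (fix d) := by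
    rw [← Nat.card_prod]
    refine Nat.card_le_card_of_surjective (fun x : fix c × fix d => (x.1 : A) * x.2) fun a => ?_
    obtain ⟨x, y, hx, hy, rfl⟩ := h a c hc d hd
    exact ⟨(⟨x, hx⟩, ⟨y, hy⟩), rfl⟩
  set F := Nat.card (fix (e : MulAut A)) with hF
  have hFpos : 0 < F := Nat.card_pos
  have h3 : F ^ 3 ≤ F ^ 2 := by
    calc F ^ 3 ≤ F ^ p := Nat.pow_le_pow_right hFpos hp3
      _ ≤ Nat.card A := b2
      _ ≤ Nat.card (fix c) * Nat.card (fix d) := hle
      _ ≤ F * F := Nat.mul_le_mul b1 b3
      _ = F ^ 2 := (pow_two F).symm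
  have hF1 : F = 1 := by
    by_contra hF1
    exact absurd h3 (not_le.mpr (Nat.pow_lt_pow_right (by omega) (by omega)))
  refine finish c hc fun a ha => ?_
  have : Nat.card (fix c) = 1 := le_antisymm (hF1 ▸ b1) Nat.card_pos
  exact (Subgroup.eq_bot_iff_forall _).mp (Subgroup.eq_bot_of_card_eq _ this) a ha

/-- The q-group step. -/
theorem qgroup_step {G : Type*} [Group G] [Finite G] {p q : ℕ} [hp : Fact p.Prime] [hq : Fact q.Prime]
    (hp3 : 3 ≤ p) (hpq : p ≠ q) (P Q : Subgroup G) (hP : IsPGroup p P) (hQ : IsPGroup q Q)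
    (hPQ : P ≤ Subgroup.normalizer (Q : Set G))
    (C D : Set G) (hC : closure C = P) (hD : closure D = P)
    (h : ∀ x ∈ Q, ∀ c ∈ C, ∀ d ∈ D, IsPGroup p ↥(closure ({x * c * x⁻¹, d} : Set G))) :
    P ≤ Subgroup.centralizer (Q : Set G) := by
  obtain ⟨a, ha⟩ := IsPGroup.iff_card.mp hP
  obtain ⟨b, hb⟩ := IsPGroup.iff_card.mp hQ
  have hpq' : p.Coprime q := (Nat.coprime_primes hp.out hq.out).mpr hpq
  have hcop : (Nat.card P).Coprime (Nat.card Q) := ha ▸ hb ▸ hpq'.pow a b
  have hCP : C ⊆ P := hC ▸ subset_closure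
  have hDP : D ⊆ P := hD ▸ subset_closure
  set Φ := frattini Q with hΦ
  letI : CommGroup (Q ⧸ Φ) :=
    { (inferInstance : Group (Q ⧸ Φ)) with
      mul_comm := fun x y => by
        obtain ⟨x, rfl⟩ := QuotientGroup.mk_surjective x
        obtain ⟨y, rfl⟩ := QuotientGroup.mk_surjective y
        rw [← QuotientGroup.mk_mul, ← QuotientGroup.mk_mul, QuotientGroup.eq]
        have h1 := PGroup.comm_mem_frattini hQ y⁻¹ x⁻¹
        simpa [commutatorElement_def, mul_assoc] using h1 }
  let ψ : P →* MulAut Q :=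
    { toFun := fun g => {
        toFun := fun x => ⟨(g : G) * x * (g : G)⁻¹, (Subgroup.mem_set_normalizer_iff.mp (hPQ g.2) x).mp x.2⟩
        invFun := fun x => ⟨(g : G)⁻¹ * x * g, by
          simpa using (Subgroup.mem_set_normalizer_iff.mp (hPQ (P.inv_mem g.2)) x).mp x.2⟩
        left_inv := fun x => Subtype.ext (by simp [mul_assoc])
        right_inv := fun x => Subtype.ext (by simp [mul_assoc])
        map_mul' := fun x y => Subtype.ext (by simp [mul_assoc]) }
      map_one' := MulEquiv.ext fun x => Subtype.ext (by simp)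
      map_mul' := fun g g' => MulEquiv.ext fun x => Subtype.ext (by simp [mul_assoc]) }
  have hchar : ∀ f : MulAut Q, Φ.map (f : Q →* Q) = Φ := fun f =>
    Subgroup.characteristic_iff_map_eq.mp inferInstance f
  let θ : P →* MulAut (Q ⧸ Φ) :=
    { toFun := fun g => QuotientGroup.congr Φ Φ (ψ g) (hchar _)
      map_one' := MulEquiv.ext fun x => by
        obtain ⟨x, rfl⟩ := QuotientGroup.mk_surjective x
        simp [QuotientGroup.congr_mk]
      map_mul' := fun g g' => MulEquiv.ext fun x => by
        obtain ⟨x, rfl⟩ := QuotientGroup.mk_surjective x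
        simp [QuotientGroup.congr_mk] }
  have hclos : ∀ S : Set G, closure S = P →
      closure (θ '' (((↑) : P → G) ⁻¹' S)) = θ.range := by
    intro S hS
    have hsub : S ⊆ P := hS ▸ subset_closure
    rw [← MonoidHom.map_closure, MonoidHom.range_eq_map]
    congr 1
    apply Subgroup.map_injective P.subtype_injective
    rw [MonoidHom.map_closure, ← MonoidHom.range_eq_map, Subgroup.range_subtype]
    rw [Subgroup.coe_subtype, Set.image_preimage_eq_of_subset (by simpa using hsub), hS]
  have hqp : (Nat.card (Q ⧸ Φ)).Coprime p :=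
    ((hpq'.symm).pow_left b).coprime_dvd_left (hb ▸ Subgroup.card_quotient_dvd_card Φ)
  have hbot := abelian_core hp3 _ (Q ⧸ Φ) rfl hqp θ.range
    (hP.of_surjective θ.rangeRestrict θ.rangeRestrict_surjective) _ _ (hclos C hC) (hclos D hD) (by
      rintro x _ ⟨c, hc, rfl⟩ _ ⟨d, hd, rfl⟩
      obtain ⟨x, rfl⟩ := QuotientGroup.mk_surjective x
      have hH := h x x.2 c hc d hd
      set H := closure ({(x : G) * c * (x : G)⁻¹, (d : G)} : Set G)
      have hxc : (x : G) * c * (x : G)⁻¹ ∈ Q ⊔ P :=
        mul_mem (mul_mem (mem_sup_left x.2) (mem_sup_right c.2)) (inv_mem (mem_sup_left x.2))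
      have hHle : H ≤ Q ⊔ P := (closure_le _).mpr (by
        rintro y (rfl | rfl)
        exacts [hxc, mem_sup_right d.2])
      obtain ⟨i, hi⟩ := IsPGroup.iff_card.mp hH
      obtain ⟨k, hk, hkH⟩ := Coprime.exists_conj_le_of_le_sup H Q P
        (hHle.trans (sup_le Subgroup.le_normalizer hPQ)) hPQ (hi ▸ hb ▸ hpq'.pow i b)
        (Or.inr (by haveI := hQ.isNilpotent; infer_instance)) hHle
      have fixes : ∀ (y : G), y ∈ Q → ∀ g : P, y * g * y⁻¹ ∈ P → (g : G) * y * (g : G)⁻¹ = y := by
        intro y hy g hg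
        have h1 : y * ((g : G) * y⁻¹ * (g : G)⁻¹) ∈ P := by
          simpa [mul_assoc] using mul_mem hg (P.inv_mem g.2)
        have h2 : y * ((g : G) * y⁻¹ * (g : G)⁻¹) ∈ Q :=
          mul_mem hy ((Subgroup.mem_set_normalizer_iff.mp (hPQ g.2) _).mp (Q.inv_mem hy))
        have h3 : y * ((g : G) * y⁻¹ * (g : G)⁻¹) = 1 := Subgroup.mem_bot.mp
          ((inf_eq_bot_of_coprime hcop) ▸ Subgroup.mem_inf.mpr ⟨h1, h2⟩)
        have h4 := (eq_inv_of_mul_eq_one_right h3)
        have h5 := congrArg (·⁻¹) h4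
        simpa [mul_assoc] using h5
      have hdfix := fixes k hk d (hkH _ (subset_closure (Or.inr rfl)))
      have hcfix := fixes (k * x) (mul_mem hk x.2) c (by
        simpa [mul_assoc] using hkH _ (subset_closure (Or.inl rfl)))
      refine ⟨QuotientGroup.mk (⟨k, hk⟩ * x), QuotientGroup.mk (⟨k, hk⟩⁻¹ : Q), ?_, ?_, ?_⟩
      · show QuotientGroup.congr Φ Φ (ψ c) (hchar _) _ = _
        rw [QuotientGroup.congr_mk]
        congr 1
        exact Subtype.ext hcfix
      · show QuotientGroup.congr Φ Φ (ψ d) (hchar _) _ = _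
        rw [QuotientGroup.congr_mk]
        congr 1
        refine Subtype.ext ?_
        show (d : G) * k⁻¹ * (d : G)⁻¹ = k⁻¹
        simpa [mul_assoc] using congrArg (·⁻¹) hdfix
      · rw [mul_comm, ← QuotientGroup.mk_mul, inv_mul_cancel_left])
  refine Coprime.le_centralizer_of_frattini P Q hPQ
    (hcop.coprime_dvd_right (Subgroup.card_subgroup_dvd_card _)) fun g hg x hx => ?_
  have h1 : θ ⟨g, hg⟩ = 1 := by
    have : θ ⟨g, hg⟩ ∈ θ.range := ⟨_, rfl⟩
    rwa [hbot, Subgroup.mem_bot] at this
  have h2 : (QuotientGroup.mk (ψ ⟨g, hg⟩ ⟨x, hx⟩) : Q ⧸ Φ) = QuotientGroup.mk ⟨x, hx⟩ := by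
    rw [← QuotientGroup.congr_mk Φ Φ (ψ ⟨g, hg⟩) (hchar _)]
    exact DFunLike.congr_fun h1 (QuotientGroup.mk (⟨x, hx⟩ : Q))
  rw [QuotientGroup.eq_iff_div_mem] at h2
  exact ⟨_, h2, by simp [ψ, div_eq_mul_inv]⟩

/-- Let p ≥ 3 be prime and G a finite group with a Sylow p-subgroup P and a normal p-complement N (N normal, of order prime to p, with NP = G). Suppose P is generated by a subset C and also by a subset D, and that ⟨x c x⁻¹, d⟩ is a p-group for all x ∈ N, c ∈ C, d ∈ D. Then P centralizes N, so that G = N × P. -/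
theorem result {G : Type*} [Group G] [Finite G] (p : ℕ) [Fact p.Prime] (hp3 : 3 ≤ p) (P : Sylow p G)
    (N : Subgroup G) [N.Normal] (hN : (Nat.card N).Coprime p) (hNP : N ⊔ (P : Subgroup G) = ⊤)
    (C D : Set G) (hC : Subgroup.closure C = (P : Subgroup G)) (hD : Subgroup.closure D = (P : Subgroup G))
    (h : ∀ x ∈ N, ∀ c ∈ C, ∀ d ∈ D, IsPGroup p ↥(Subgroup.closure ({x * c * x⁻¹, d} : Set G))) :
    ⁅(P : Subgroup G), N⁆ = ⊥ := by
  set Pp : Subgroup G := (P : Subgroup G) with hPp
  have hp : p.Prime := Fact.out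
  have hPN : Pp ≤ Subgroup.normalizer (N : Set G) := by rw [Subgroup.normalizer_eq_top]; exact le_top
  obtain ⟨a, ha⟩ := IsPGroup.iff_card.mp P.isPGroup'
  have hcop : (Nat.card Pp).Coprime (Nat.card N) := ha ▸ Nat.Coprime.pow_left a hN.symm
  have hsolv : Group.IsSolvable Pp := by
    haveI := P.isPGroup'.isNilpotent
    infer_instance
  have hdvd : Nat.card N ∣ Nat.card (N ⊓ Subgroup.centralizer (Pp : Set G) : Subgroup G) := by
    rw [← Nat.factorization_prime_le_iff_dvd Nat.card_pos.ne' Nat.card_pos.ne']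
    intro q hq
    haveI : Fact q.Prime := ⟨hq⟩
    rcases Nat.eq_zero_or_pos ((Nat.card N).factorization q) with h0 | h0
    · omega
    have hqdvd : q ∣ Nat.card N := Nat.dvd_of_factorization_pos h0.ne'
    have hpq : p ≠ q := fun e => by
      subst e
      exact hp.coprime_iff_not_dvd.mp hN.symm hqdvd
    obtain ⟨Q, hQ⟩ := Coprime.exists_invariant_sylow Pp N hPN hcop (Or.inl hsolv) q
    set Q' : Subgroup G := (Q : Subgroup N).map N.subtype
    have hQN : Q' ≤ N := Subgroup.map_subtype_le _
    have hle := qgroup_step hp3 hpq Pp Q' P.isPGroup' (Q.isPGroup'.map _) hQ C D hC hD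
      (fun x hx => h x (hQN hx))
    have h1 := Subgroup.card_dvd_of_le (le_inf hQN (Subgroup.le_centralizer_iff.mp hle))
    rw [Nat.card_congr ((Q : Subgroup N).equivMapOfInjective _ N.subtype_injective).symm.toEquiv,
      Sylow.card_eq_multiplicity] at h1
    exact (hq.pow_dvd_iff_le_factorization Nat.card_pos.ne').mp h1
  have heq : N ⊓ Subgroup.centralizer (Pp : Set G) = N :=
    Subgroup.eq_of_le_of_card_ge inf_le_left (Nat.le_of_dvd Nat.card_pos hdvd)
  rw [Subgroup.commutator_eq_bot_iff_le_centralizer]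
  exact Subgroup.le_centralizer_iff.mp (heq ▸ inf_le_right)

end Cfsg.Agent.S2277
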