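import Cfsg.Statements.S2284
import Cfsg.Agent.KSG55.Pres.All

set_option autoImplicit false
open Cfsg

namespace Cfsg.Agent.S2284

/-- For every n, the symmetric group S_n and the alternating group A_n each have a presentation with 2 generators and at most 8 relations. -/
theorem result (n : ℕ) : (∃ rels : Finset (FreeGroup (Fin 2)), rels.card ≤ 8 ∧ Nonempty (PresentedGroup (↑rels : Set (FreeGroup (Fin 2))) ≃* Equiv.Perm (Fin n))) ∧ (∃ rels : Finset (FreeGroup (Fin 2)), rels.card ≤ 8 ∧ Nonempty (PresentedGroup (↑rels : Set (FreeGroup (Fin 2))) ≃* ↥(alternatingGroup (Fin n)))) := by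
  by_cases h3 : n < 3
  · have triv : ∀ (G : Type) [Group G], Subsingleton G →
        ∃ rels : Finset (FreeGroup (Fin 2)), rels.card ≤ 8 ∧
          Nonempty (PresentedGroup (↑rels : Set (FreeGroup (Fin 2))) ≃* G) := fun G _ hG =>
      (Cfsg.Agent.KSG55.Pres.presOn_of_inj (r := 8) (fun _ : Fin 2 => (1 : G)) [FreeGroup.of 0, FreeGroup.of 1]
        (by simp) (fun w _ => Subsingleton.elim _ _) (Subsingleton.elim _ _) (fun H _ U φ hU hr hφ x _ => by
          have : Subgroup.closure (Set.range U) ≤ ⊥ := by
            rw [Subgroup.closure_le]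
            rintro _ ⟨i, rfl⟩
            fin_cases i
            · simpa using hr (FreeGroup.of 0) (by simp)
            · simpa using hr (FreeGroup.of 1) (by simp)
          rw [hU] at this
          exact Subgroup.mem_bot.mp (this trivial))).exists_iso
    have hA : Subsingleton ↥(alternatingGroup (Fin n)) := by
      rcases (show n = 0 ∨ n = 1 ∨ n = 2 by omega) with rfl | rfl | rfl <;>
        exact Finite.card_le_one_iff_subsingleton.mp (by rw [Nat.card_eq_fintype_card]; decide)
    refine ⟨?_, triv _ hA⟩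
    rcases (show n ≤ 1 ∨ n = 2 by omega) with h | rfl
    · exact triv _ (by
        rcases (show n = 0 ∨ n = 1 by omega) with rfl | rfl <;> infer_instance)
    · refine Cfsg.Agent.KSG55.Pres.PresOn.exists_iso (gens := ![Equiv.swap (0 : Fin 2) 1, 1]) ?_
      refine Cfsg.Agent.KSG55.Pres.presOn_of_inj _ [FreeGroup.of 0 * FreeGroup.of 0, FreeGroup.of 1] (by simp) ?_ ?_ ?_
      · intro w hw
        simp only [List.mem_cons, List.not_mem_nil, or_false] at hw
        rcases hw with rfl | rfl <;> simp
      · rw [eq_top_iff]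
        intro σ _
        have : σ = 1 ∨ σ = Equiv.swap (0 : Fin 2) 1 := (by decide : ∀ τ : Equiv.Perm (Fin 2), τ = 1 ∨ τ = Equiv.swap 0 1) σ
        rcases this with rfl | rfl
        · exact one_mem _
        · exact Subgroup.subset_closure ⟨0, rfl⟩
      · intro H _ U φ hU hr hφ x hx
        have h0 : U 0 * U 0 = 1 := by
          have := hr (FreeGroup.of 0 * FreeGroup.of 0) (by simp)
          rwa [map_mul, FreeGroup.lift_apply_of] at this
        have h1 : U 1 = 1 := by simpa using hr (FreeGroup.of 1) (by simp)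
        have hle : Subgroup.closure (Set.range U) ≤ Subgroup.zpowers (U 0) := by
          rw [Subgroup.closure_le]
          rintro _ ⟨i, rfl⟩
          fin_cases i
          · exact Subgroup.mem_zpowers _
          · show U 1 ∈ Subgroup.zpowers (U 0); rw [h1]; exact one_mem _
        rw [hU] at hle
        obtain ⟨k, rfl⟩ := Subgroup.mem_zpowers_iff.mp (hle (Subgroup.mem_top x))
        rcases Int.even_or_odd k with ⟨j, rfl⟩ | ⟨j, rfl⟩
        · rw [← two_mul, zpow_mul, zpow_two, h0, one_zpow]
        · rw [zpow_add, zpow_mul, zpow_two, h0, one_zpow, one_mul, zpow_one, hφ] at hx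
          exact absurd hx (by decide)
  by_cases h9 : n ≤ 9
  · obtain ⟨⟨g, a⟩, g', b⟩ := Cfsg.Agent.KSG55.Pres.small_cases n (by omega) h9
    exact ⟨(a.mono (by omega)).exists_iso, (b.mono (by omega)).exists_iso⟩
  obtain ⟨⟨g, a, ha⟩, g', b, hb⟩ := Cfsg.Agent.KSG55.Pres.large_cases n (by omega)
  obtain ⟨w, hw⟩ := Cfsg.Agent.KSG55.Pres.sym_partner (by omega) ha
  obtain ⟨w', hw'⟩ := Cfsg.Agent.KSG55.Pres.alt_partner (by omega) hb
  exact ⟨(a.pair_keep 1 w hw).exists_iso, (b.pair_keep 1 w' hw').exists_iso⟩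

end Cfsg.Agent.S2284
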