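import Cfsg.Statements.S2286
import Cfsg.Agent.KSG55.Lin.SL2
import Cfsg.Agent.KSG55.Lin.Quot

set_option autoImplicit false
open Cfsg

namespace Cfsg.Agent.S2286

/-- For every finite field F, SL_2(F) and PSL_2(F) have presentations with 3 generators and at most 9 relations; when F has characteristic 2, PSL_2(F) has a presentation with 3 generators and at most 5 relations. -/
theorem result {F : Type*} [Field F] [Fintype F] :
    (∃ rels : Finset (FreeGroup (Fin 3)), rels.card ≤ 9 ∧ Nonempty (PresentedGroup (↑rels : Set (FreeGroup (Fin 3))) ≃* Matrix.SpecialLinearGroup (Fin 2) F)) ∧ (∃ rels : Finset (FreeGroup (Fin 3)), rels.card ≤ 9 ∧ Nonempty (PresentedGroup (↑rels : Set (FreeGroup (Fin 3))) ≃* Matrix.ProjectiveSpecialLinearGroup (Fin 2) F)) ∧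
    (CharP F 2 → ∃ rels : Finset (FreeGroup (Fin 3)), rels.card ≤ 5 ∧ Nonempty (PresentedGroup (↑rels : Set (FreeGroup (Fin 3))) ≃* Matrix.ProjectiveSpecialLinearGroup (Fin 2) F)) := by
  obtain ⟨p, hchar⟩ := CharP.exists F
  haveI : Fact p.Prime := ⟨CharP.char_is_prime F p⟩
  letI := ZMod.algebra F p
  obtain ⟨a, ha⟩ := IsCyclic.exists_generator (α := Fˣ)
  have hcen : Subgroup.center (Matrix.SpecialLinearGroup (Fin 2) F) =
      Subgroup.normalClosure {Cfsg.Agent.KSG55.Lin.mH (-1 : Fˣ)} := by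
    refine le_antisymm (fun g hg => ?_) ?_
    · obtain ⟨r, hr, hg⟩ := Matrix.SpecialLinearGroup.mem_center_iff.mp hg
      rw [Fintype.card_fin, sq_eq_one_iff] at hr
      rcases hr with rfl | rfl
      · have : g = 1 := Subtype.ext (by rw [← hg]; simp)
        rw [this]; exact one_mem _
      · have : g = Cfsg.Agent.KSG55.Lin.mH (-1 : Fˣ) := Subtype.ext (by
          rw [← hg]; ext i j; fin_cases i <;> fin_cases j <;> simp)
        rw [this]; exact Subgroup.subset_normalClosure rfl
    · refine Subgroup.normalClosure_le_normal (Set.singleton_subset_iff.mpr ?_)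
      refine Matrix.SpecialLinearGroup.mem_center_iff.mpr ⟨-1, by simp, ?_⟩
      ext i j; fin_cases i <;> fin_cases j <;> simp
  by_cases h2 : p = 2
  · subst h2
    have h := Cfsg.Agent.KSG55.Lin.presOn_two (p := 2) ha rfl
    have hbot : Subgroup.center (Matrix.SpecialLinearGroup (Fin 2) F) = ⊥ := by
      rw [hcen, show (-1 : Fˣ) = 1 from Units.ext (by simp [CharTwo.neg_eq]),
        show Cfsg.Agent.KSG55.Lin.mH (1 : Fˣ) = 1 from Cfsg.Agent.KSG55.Lin.mHHom.map_one, eq_bot_iff]
      exact Subgroup.normalClosure_le_normal (by simp)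
    obtain ⟨rels, hc, ⟨e⟩⟩ := h.exists_iso
    let π : Matrix.SpecialLinearGroup (Fin 2) F ≃* Matrix.ProjectiveSpecialLinearGroup (Fin 2) F :=
      ((QuotientGroup.quotientMulEquivOfEq hbot).trans QuotientGroup.quotientBot).symm
    exact ⟨⟨rels, by omega, ⟨e⟩⟩, ⟨rels, by omega, ⟨e.trans π⟩⟩, fun _ => ⟨rels, hc, ⟨e.trans π⟩⟩⟩
  · have h := Cfsg.Agent.KSG55.Lin.presOn_odd (p := p) ha h2
    refine ⟨(h.mono (by norm_num)).exists_iso,
      ((h.quotient (Subgroup.center _) _ hcen).mono (by norm_num)).exists_iso, fun h' => ?_⟩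
    exact absurd (CharP.eq F hchar h') h2

end Cfsg.Agent.S2286
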