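import Cfsg.Statements.S2290
import Cfsg.Agent.KSG55.SLn.Cases
import Cfsg.Agent.KSG55.Lin.SL3
import Cfsg.Agent.S2278
import Cfsg.Agent.S2279

set_option autoImplicit false
open Cfsg

namespace Cfsg.Agent.S2290

/-- For every finite field F with q elements and n ≥ 2, with q ≥ 4 when n = 2, the simple group PSL_n(F) has a presentation with 2 generators and at most 80 relations. -/
theorem result {F : Type*} [Field F] [Fintype F] (n : ℕ) (hn : 2 ≤ n) (h2 : n = 2 → 4 ≤ Fintype.card F) :
    ∃ rels : Finset (FreeGroup (Fin 2)), rels.card ≤ 80 ∧ Nonempty (PresentedGroup (↑rels : Set (FreeGroup (Fin 2))) ≃* Matrix.ProjectiveSpecialLinearGroup (Fin n) F) := by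
  haveI : NeZero n := ⟨by omega⟩
  obtain ⟨z, hz⟩ := Cfsg.Agent.KSG55.SLn.center_normalClosure (F := F) n
  have main : ∀ {k r : ℕ} {gens : Fin k → Matrix.SpecialLinearGroup (Fin n) F}, KSG55.Pres.PresOn gens r → r + 3 ≤ 80 →
      ∀ u v : Matrix.SpecialLinearGroup (Fin n) F, Subgroup.closure ({u, v} : Set _) = ⊤ →
      ∃ rels : Finset (FreeGroup (Fin 2)), rels.card ≤ 80 ∧ Nonempty (PresentedGroup (↑rels : Set (FreeGroup (Fin 2))) ≃* Matrix.ProjectiveSpecialLinearGroup (Fin n) F) := by
    intro k r gens h hr u v huv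
    have hpair : Subgroup.closure ({(QuotientGroup.mk u : Matrix.ProjectiveSpecialLinearGroup (Fin n) F),
        QuotientGroup.mk v} : Set (Matrix.ProjectiveSpecialLinearGroup (Fin n) F)) = ⊤ := by
      have := congrArg (Subgroup.map (QuotientGroup.mk' (Subgroup.center (Matrix.SpecialLinearGroup (Fin n) F)))) huv
      rw [MonoidHom.map_closure, Subgroup.map_top_of_surjective _ (QuotientGroup.mk'_surjective _),
        Set.image_insert_eq, Set.image_singleton] at this
      exact this
    exact (((h.quotient (Subgroup.center _) z hz).pair _ _ hpair).mono hr).exists_iso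
  by_cases h4 : 4 ≤ n
  · obtain ⟨g, hg⟩ := Cfsg.Agent.KSG55.SLn.slots_seven (F := F) h4
    obtain ⟨⟨u, v, -, -, huv⟩, -⟩ := Cfsg.Agent.S2279.result (F := F) n h4
    exact main hg (by norm_num) u v huv
  obtain ⟨a, ha⟩ := IsCyclic.exists_generator (α := Fˣ)
  obtain rfl | rfl : n = 2 ∨ n = 3 := by omega
  · obtain ⟨p, hchar⟩ := CharP.exists F
    haveI : Fact p.Prime := ⟨CharP.char_is_prime F p⟩
    letI := ZMod.algebra F p
    obtain ⟨u, v, huv⟩ := Cfsg.Agent.KSG55.Lin.exists_pair ha
    by_cases hp : p = 2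
    · subst hp; exact main (Cfsg.Agent.KSG55.Lin.presOn_two (p := 2) ha rfl) (by norm_num) u v huv
    · exact main (Cfsg.Agent.KSG55.Lin.presOn_odd (p := p) ha hp) (by norm_num) u v huv
  · obtain ⟨u, g, -, -, huv⟩ := Cfsg.Agent.S2278.result (F := F)
    exact main (Cfsg.Agent.KSG55.Lin.presOn_SL3 ha) (by norm_num) u _ huv

end Cfsg.Agent.S2290
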