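import Cfsg.Statements.S2291
import Cfsg.Agent.KSG55.SUOdd.Main
import Cfsg.Agent.KSG55.SU3.Iso

set_option autoImplicit false
open Cfsg

namespace Cfsg.Agent.S2291

/-- Let F be a field with q² elements and n ≥ 3 with (n, q) ≠ (3, 2). Then the simple group PSU_n(q) (for the standard Hermitian form) has a presentation with 2 generators and at most 80 relations. -/
theorem result {F : Type*} [Field F] [Fintype F] (q n : ℕ) (hF : Fintype.card F = q ^ 2) (hn : 3 ≤ n) (h32 : ¬ (n = 3 ∧ q = 2)) :
    ∃ rels : Finset (FreeGroup (Fin 2)), rels.card ≤ 80 ∧ Nonempty (PresentedGroup (↑rels : Set (FreeGroup (Fin 2))) ≃* Cfsg.PSU n F q) := by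
  obtain ⟨k, g, hg⟩ := Cfsg.Agent.KSG55.SUOdd.su_all hF hn h32
  obtain ⟨z, hz⟩ := Cfsg.Agent.KSG55.SU3.center_normalClosure (q := q) hF (n := n) (by omega)
  obtain ⟨u, v, huv⟩ := Cfsg.Agent.KSG55.SUOdd.two_gen_large hF hn h32
  have hpair : Subgroup.closure ({(QuotientGroup.mk u : Cfsg.PSU n F q), QuotientGroup.mk v} :
      Set (Cfsg.PSU n F q)) = ⊤ := by
    have := congrArg (Subgroup.map (QuotientGroup.mk' (Subgroup.center (Cfsg.SU n F q)))) huv
    rw [MonoidHom.map_closure, Subgroup.map_top_of_surjective _ (QuotientGroup.mk'_surjective _),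
      Set.image_insert_eq, Set.image_singleton] at this
    exact this
  exact (((hg.quotient (Subgroup.center _) z hz).pair _ _ hpair).mono (by norm_num)).exists_iso

end Cfsg.Agent.S2291
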