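import Cfsg.Statements.S2411
import Cfsg.Agent.Lib.ChevGen.SpGen
-- import your own Cfsg.Agent.* helpers here

set_option autoImplicit false
open Cfsg

namespace Cfsg.Agent.S2411

/-- The projective symplectic group `PSp_{2m}(q)` with `m ≥ 2` (and `q > 2` if `m = 2`) is generated by two of its elements. -/
theorem result {F : Type*} [Field F] [Fintype F] (m : ℕ) (hm : 2 ≤ m) (hF : m = 2 → 2 < Fintype.card F) :
    ∃ a b : Cfsg.PSp m F, Subgroup.closure ({a, b} : Set (Cfsg.PSp m F)) = ⊤ := by
  haveI : NeZero m := ⟨by omega⟩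
  have h : ∃ a b : Matrix.symplecticGroup (Fin m) F,
      Subgroup.closure ({a, b} : Set (Matrix.symplecticGroup (Fin m) F)) = ⊤ := by
    rcases (Fintype.one_lt_card : 1 < Fintype.card F).nat_succ_le.lt_or_eq with hq | hq
    · exact Cfsg.Agent.ChevGen.SpGen.exists_two_large hm hq
    · refine Cfsg.Agent.ChevGen.SpGen.exists_two_card_two ?_ hq.symm
      by_contra h
      have := hF (by omega)
      omega
  obtain ⟨a, b, hab⟩ := h
  exact Cfsg.Agent.ChevGen.exists_two_quotient _ hab

end Cfsg.Agent.S2411
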