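import Cfsg.Statements.S2292
import Cfsg.Agent.KSG55.Sp.Cases
import Cfsg.Agent.S2411

set_option autoImplicit false
open Cfsg

namespace Cfsg.Agent.S2292

/-- Let F be a finite field with q elements and m ≥ 2 with (m, q) ≠ (2, 2). Then the simple group PSp_2m(F) has a presentation with 2 generators and at most 80 relations. -/
theorem result {F : Type*} [Field F] [Fintype F] (m : ℕ) (hm : 2 ≤ m) (h22 : ¬ (m = 2 ∧ Fintype.card F = 2)) :
    ∃ rels : Finset (FreeGroup (Fin 2)), rels.card ≤ 80 ∧ Nonempty (PresentedGroup (↑rels : Set (FreeGroup (Fin 2))) ≃* Cfsg.PSp m F) := by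
  obtain ⟨a, b, hab⟩ := Cfsg.Agent.S2411.result (F := F) m hm fun h => by
    have := Fintype.one_lt_card (α := F)
    have : Fintype.card F ≠ 2 := fun e => h22 ⟨h, e⟩
    omega
  obtain ⟨k, g, hg⟩ : ∃ k, ∃ g : Fin k → Cfsg.PSp m F, Cfsg.Agent.KSG55.Pres.PresOn g 53 := by
    rcases (show m = 2 ∨ m = 3 ∨ 4 ≤ m by omega) with rfl | rfl | h
    · obtain ⟨g, hg⟩ := Cfsg.Agent.KSG55.Sp.sp_two (F := F)
      obtain ⟨g', hg'⟩ := Cfsg.Agent.KSG55.Sp.psp_iso hg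
      exact ⟨_, g', hg'.mono (by norm_num)⟩
    · obtain ⟨g, hg⟩ := Cfsg.Agent.KSG55.Sp.sp_three (F := F)
      obtain ⟨g', hg'⟩ := Cfsg.Agent.KSG55.Sp.psp_iso hg
      exact ⟨_, g', hg'.mono (by norm_num)⟩
    · obtain ⟨g, hg⟩ := Cfsg.Agent.KSG55.Sp.sp_large (F := F) h
      obtain ⟨g', hg'⟩ := Cfsg.Agent.KSG55.Sp.psp_iso hg
      exact ⟨_, g', hg'⟩
  exact ((hg.pair a b hab).mono (by norm_num)).exists_iso

end Cfsg.Agent.S2292
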