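import Cfsg.Statements.S2294
import Cfsg.Agent.KSG55.U6.Main2
import Cfsg.Agent.KSG55.U6.Main3
import Cfsg.Agent.KSG55.SU3.Iso
import Cfsg.Agent.KSG55.Lin.Quot

set_option autoImplicit false
open Cfsg

namespace Cfsg.Agent.S2294

/-- Let F be a field with q² elements and n ≥ 4, and SU_n(q), PSU_n(q) the special unitary group of the standard Hermitian form and its central quotient. Then SU_n(q) has a presentation with 6 generators and at most 39 relations and PSU_n(q) one with 6 generators and at most 40 relations; moreover SU_4(q) and SU_5(q) have presentations with 6 generators and at most 35 relations, and PSU_4(q) one with 6 generators and at most 36 relations. -/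
theorem result {F : Type*} [Field F] [Fintype F] (q : ℕ) (hF : Fintype.card F = q ^ 2) (n : ℕ) (hn : 4 ≤ n) :
    (∃ rels : Finset (FreeGroup (Fin 6)), rels.card ≤ 39 ∧ Nonempty (PresentedGroup (↑rels : Set (FreeGroup (Fin 6))) ≃* ↥(Cfsg.SU n F q))) ∧ (∃ rels : Finset (FreeGroup (Fin 6)), rels.card ≤ 40 ∧ Nonempty (PresentedGroup (↑rels : Set (FreeGroup (Fin 6))) ≃* Cfsg.PSU n F q)) ∧
    (∃ rels : Finset (FreeGroup (Fin 6)), rels.card ≤ 35 ∧ Nonempty (PresentedGroup (↑rels : Set (FreeGroup (Fin 6))) ≃* ↥(Cfsg.SU 4 F q))) ∧ (∃ rels : Finset (FreeGroup (Fin 6)), rels.card ≤ 35 ∧ Nonempty (PresentedGroup (↑rels : Set (FreeGroup (Fin 6))) ≃* ↥(Cfsg.SU 5 F q))) ∧ (∃ rels : Finset (FreeGroup (Fin 6)), rels.card ≤ 36 ∧ Nonempty (PresentedGroup (↑rels : Set (FreeGroup (Fin 6))) ≃* Cfsg.PSU 4 F q)) := by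
  classical
  have hsu : ∀ m, 4 ≤ m → ∃ g : Fin 6 → Cfsg.SU m F q,
      Cfsg.Agent.KSG55.Pres.PresOn g (if m = 4 then 32 else if m = 5 then 35 else 39) := by
    intro m hm
    by_cases h4 : m = 4
    · subst h4
      exact Cfsg.Agent.KSG55.Herm.su_four hF
    rw [if_neg h4]
    by_cases h2 : q = 2
    · exact Cfsg.Agent.KSG55.U6.su_six_two hF h2 (by omega)
    · have := Cfsg.Agent.Unitary.two_le_q hF
      exact Cfsg.Agent.KSG55.U6.su_six_odd hF (by omega) (by omega)
  obtain ⟨g, hg⟩ := hsu n hn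
  obtain ⟨g4, hg4⟩ := hsu 4 le_rfl
  obtain ⟨g5, hg5⟩ := hsu 5 (by norm_num)
  obtain ⟨z, hz⟩ := Cfsg.Agent.KSG55.SU3.center_normalClosure hF (n := n) (by omega)
  obtain ⟨z4, hz4⟩ := Cfsg.Agent.KSG55.SU3.center_normalClosure hF (n := 4) (by norm_num)
  exact ⟨(hg.mono (r' := 39) (by split_ifs <;> omega)).exists_iso,
    ((hg.quotient (Subgroup.center _) z hz).mono (r' := 40) (by split_ifs <;> omega)).exists_iso,
    (hg4.mono (r' := 35) (by norm_num)).exists_iso, (hg5.mono (r' := 35) (by norm_num)).exists_iso,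
    ((hg4.quotient (Subgroup.center _) z4 hz4).mono (r' := 36) (by norm_num)).exists_iso⟩

end Cfsg.Agent.S2294
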