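import Cfsg.Statements.S2299
import Cfsg.Agent.Char2x2.SLOddTable

set_option autoImplicit false
open Cfsg

namespace Cfsg.Agent.S2299

/-- Over a finite field F with q elements, q odd, every irreducible complex character of SL₂ has degree 1, q, q + 1, q − 1, (q + 1)/2 or (q − 1)/2; and when q ≥ 5 (so that these six numbers are distinct) there are exactly one irreducible character of degree 1, one of degree q, (q − 3)/2 of degree q + 1, (q − 1)/2 of degree q − 1, two of degree (q + 1)/2 and two of degree (q − 1)/2. -/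
theorem result {F : Type*} [Field F] [Fintype F] (hodd : Odd (Fintype.card F)) :
    (∀ χ : Matrix.SpecialLinearGroup (Fin 2) F → ℂ, Cfsg.IsIrrCharacter (Matrix.SpecialLinearGroup (Fin 2) F) χ →
      χ 1 = 1 ∨ χ 1 = (Fintype.card F : ℂ) ∨ χ 1 = (Fintype.card F : ℂ) + 1 ∨ χ 1 = (Fintype.card F : ℂ) - 1 ∨
        χ 1 = (((Fintype.card F + 1) / 2 : ℕ) : ℂ) ∨ χ 1 = (((Fintype.card F - 1) / 2 : ℕ) : ℂ)) ∧
    (5 ≤ Fintype.card F →
      Nat.card {χ : Cfsg.IrrCharacter (Matrix.SpecialLinearGroup (Fin 2) F) // (χ : Matrix.SpecialLinearGroup (Fin 2) F → ℂ) 1 = 1} = 1 ∧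
      Nat.card {χ : Cfsg.IrrCharacter (Matrix.SpecialLinearGroup (Fin 2) F) // (χ : Matrix.SpecialLinearGroup (Fin 2) F → ℂ) 1 = (Fintype.card F : ℂ)} = 1 ∧
      Nat.card {χ : Cfsg.IrrCharacter (Matrix.SpecialLinearGroup (Fin 2) F) // (χ : Matrix.SpecialLinearGroup (Fin 2) F → ℂ) 1 = (Fintype.card F : ℂ) + 1} = (Fintype.card F - 3) / 2 ∧
      Nat.card {χ : Cfsg.IrrCharacter (Matrix.SpecialLinearGroup (Fin 2) F) // (χ : Matrix.SpecialLinearGroup (Fin 2) F → ℂ) 1 = (Fintype.card F : ℂ) - 1} = (Fintype.card F - 1) / 2 ∧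
      Nat.card {χ : Cfsg.IrrCharacter (Matrix.SpecialLinearGroup (Fin 2) F) // (χ : Matrix.SpecialLinearGroup (Fin 2) F → ℂ) 1 = (((Fintype.card F + 1) / 2 : ℕ) : ℂ)} = 2 ∧
      Nat.card {χ : Cfsg.IrrCharacter (Matrix.SpecialLinearGroup (Fin 2) F) // (χ : Matrix.SpecialLinearGroup (Fin 2) F → ℂ) 1 = (((Fintype.card F - 1) / 2 : ℕ) : ℂ)} = 2) := by
  classical
  obtain ⟨ε, hε⟩ := Char2x2.exists_not_isSquare hodd
  obtain ⟨j, hj⟩ := id hodd
  refine ⟨fun χ hχ => ?_, fun hq => ?_⟩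
  · rcases Char2x2.sl_odd_cases hodd ⟨χ, hχ⟩ with ⟨-, e⟩ | ⟨-, e⟩ | ⟨-, e⟩ | ⟨-, e⟩ | ⟨-, e⟩ | ⟨-, e⟩
    · exact Or.inl (by simpa using e)
    · exact Or.inr (Or.inl e)
    · exact Or.inr (Or.inr (Or.inl (by simpa using e)))
    · exact Or.inr (Or.inr (Or.inr (Or.inr (Or.inl e))))
    · exact Or.inr (Or.inr (Or.inr (Or.inr (Or.inr e))))
    · exact Or.inr (Or.inr (Or.inr (Or.inl (e.trans (Char2x2.half_casts hodd).2.2))))
  have deg : ∀ χ : Cfsg.IrrCharacter (Matrix.SpecialLinearGroup (Fin 2) F),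
      ∀ n : ℕ, (χ : Matrix.SpecialLinearGroup (Fin 2) F → ℂ) 1 = (n : ℂ) →
      (χ = Char2x2.trivIrr → n = 1) ∧ (χ = Char2x2.stIrr → n = Fintype.card F) ∧
      (χ ∈ Char2x2.psSetS → n = Fintype.card F + 1) ∧ (χ ∈ Char2x2.pairSetS → n = (Fintype.card F + 1) / 2) ∧
      (χ ∈ Char2x2.halfSetS → n = (Fintype.card F - 1) / 2) ∧
      (χ ∈ Char2x2.cuspSetS \ Char2x2.halfSetS → n = Fintype.card F - 1) := by
    intro χ n hn
    obtain ⟨c1, c2, c3⟩ := Char2x2.half_casts (F := F) hodd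
    refine ⟨?_, ?_, fun h => ?_, fun h => ?_, fun h => ?_, fun h => ?_⟩
    · rintro rfl
      exact Nat.cast_injective (R := ℂ) (hn.symm.trans (by simp [Char2x2.trivIrr]))
    · rintro rfl
      exact Nat.cast_injective (R := ℂ) (hn.symm.trans (by simp [Char2x2.stIrr, Char2x2.stS_one]))
    · obtain ⟨α, -, e⟩ := Char2x2.mem_psSetS.mp h
      exact Nat.cast_injective (R := ℂ) (hn.symm.trans (by rw [e, Char2x2.psS_one_apply]; push_cast; rfl))
    · exact Nat.cast_injective (R := ℂ) (hn.symm.trans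
        (mul_left_cancel₀ two_ne_zero ((Char2x2.pair_data hε χ h).1.trans c1.symm)))
    · exact Nat.cast_injective (R := ℂ) (hn.symm.trans
        (mul_left_cancel₀ two_ne_zero ((Char2x2.mem_halfSetS.mp h).2.trans c2.symm)))
    · obtain ⟨a, b⟩ := Finset.mem_sdiff.mp h
      exact Nat.cast_injective (R := ℂ) (hn.symm.trans (((Char2x2.half_data hodd hε).2.2 χ a b).1.trans c3.symm))
  have main : ∀ (n : ℕ) (s : Finset (Cfsg.IrrCharacter (Matrix.SpecialLinearGroup (Fin 2) F))),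
      (∀ χ ∈ s, (χ : Matrix.SpecialLinearGroup (Fin 2) F → ℂ) 1 = (n : ℂ)) →
      (∀ χ : Cfsg.IrrCharacter (Matrix.SpecialLinearGroup (Fin 2) F),
        (χ : Matrix.SpecialLinearGroup (Fin 2) F → ℂ) 1 = (n : ℂ) → χ ∈ s) →
      Nat.card {χ : Cfsg.IrrCharacter (Matrix.SpecialLinearGroup (Fin 2) F) //
        (χ : Matrix.SpecialLinearGroup (Fin 2) F → ℂ) 1 = (n : ℂ)} = s.card :=
    fun n s a b => Char2x2.card_irr_degS s fun χ => ⟨b χ, a χ⟩
  obtain ⟨c1, c2, c3⟩ := Char2x2.half_casts (F := F) hodd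
  have cases' : ∀ χ : Cfsg.IrrCharacter (Matrix.SpecialLinearGroup (Fin 2) F),
      χ = Char2x2.trivIrr ∨ χ = Char2x2.stIrr ∨ χ ∈ Char2x2.psSetS ∨ χ ∈ Char2x2.pairSetS ∨
        χ ∈ Char2x2.halfSetS ∨ χ ∈ Char2x2.cuspSetS \ Char2x2.halfSetS := by
    intro χ
    have h := Char2x2.cases_mem χ
    by_cases hh : χ ∈ Char2x2.halfSetS
    · tauto
    · rw [Finset.mem_sdiff]; tauto
  have pick : ∀ (χ : Cfsg.IrrCharacter (Matrix.SpecialLinearGroup (Fin 2) F)) (n : ℕ),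
      (χ : Matrix.SpecialLinearGroup (Fin 2) F → ℂ) 1 = (n : ℂ) →
      (n = 1 → χ = Char2x2.trivIrr) ∧ (n = Fintype.card F → χ = Char2x2.stIrr) ∧
      (n = Fintype.card F + 1 → χ ∈ Char2x2.psSetS) ∧ (n = Fintype.card F - 1 → χ ∈ Char2x2.cuspSetS \ Char2x2.halfSetS) ∧
      (n = (Fintype.card F + 1) / 2 → χ ∈ Char2x2.pairSetS) ∧ (n = (Fintype.card F - 1) / 2 → χ ∈ Char2x2.halfSetS) := by
    intro χ n hn
    obtain ⟨d1, d2, d3, d4, d5, d6⟩ := deg χ n hn
    rcases cases' χ with h | h | h | h | h | h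
    · have := d1 h; refine ⟨fun _ => h, ?_, ?_, ?_, ?_, ?_⟩ <;> intro <;> omega
    · have := d2 h; refine ⟨?_, fun _ => h, ?_, ?_, ?_, ?_⟩ <;> intro <;> omega
    · have := d3 h; refine ⟨?_, ?_, fun _ => h, ?_, ?_, ?_⟩ <;> intro <;> omega
    · have := d4 h; refine ⟨?_, ?_, ?_, ?_, fun _ => h, ?_⟩ <;> intro <;> omega
    · have := d5 h; refine ⟨?_, ?_, ?_, ?_, ?_, fun _ => h⟩ <;> intro <;> omega
    · have := d6 h; refine ⟨?_, ?_, ?_, fun _ => h, ?_, ?_⟩ <;> intro <;> omega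
  refine ⟨?_, ?_, ?_, ?_, ?_, ?_⟩
  · have h := main 1 {Char2x2.trivIrr} (fun χ h => by simp [Finset.mem_singleton.mp h, Char2x2.trivIrr])
      (fun χ h => Finset.mem_singleton.mpr ((pick χ 1 h).1 rfl))
    simpa using h
  · have h := main (Fintype.card F) {Char2x2.stIrr}
      (fun χ h => by simp [Finset.mem_singleton.mp h, Char2x2.stIrr, Char2x2.stS_one])
      (fun χ h => Finset.mem_singleton.mpr ((pick χ _ h).2.1 rfl))
    simpa using h
  · have h := main (Fintype.card F + 1) Char2x2.psSetS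
      (fun χ h => by obtain ⟨α, -, e⟩ := Char2x2.mem_psSetS.mp h; rw [e, Char2x2.psS_one_apply]; push_cast; rfl)
      (fun χ h => (pick χ _ h).2.2.1 rfl)
    rw [(Char2x2.cusp_data hodd hε).1] at h
    push_cast at h
    exact h
  · have h := main (Fintype.card F - 1) (Char2x2.cuspSetS \ Char2x2.halfSetS)
      (fun χ h => by
        obtain ⟨a, b⟩ := Finset.mem_sdiff.mp h
        exact ((Char2x2.half_data hodd hε).2.2 χ a b).1.trans c3.symm)
      (fun χ h => (pick χ _ h).2.2.2.1 rfl)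
    rw [Char2x2.card_fullSetS hodd hε, c3] at h
    exact h
  · rw [main _ Char2x2.pairSetS (fun χ h => mul_left_cancel₀ two_ne_zero ((Char2x2.pair_data hε χ h).1.trans c1.symm))
      (fun χ h => (pick χ _ h).2.2.2.2.1 rfl), Char2x2.card_pairSetS hε]
  · rw [main _ Char2x2.halfSetS (fun χ h => mul_left_cancel₀ two_ne_zero ((Char2x2.mem_halfSetS.mp h).2.trans c2.symm))
      (fun χ h => (pick χ _ h).2.2.2.2.2 rfl), (Char2x2.half_data hodd hε).1]

end Cfsg.Agent.S2299
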