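import Cfsg.Statements.S2301
import Cfsg.Agent.Char2x2.OrderP

set_option autoImplicit false
open Cfsg

namespace Cfsg.Agent.S2301

open Cfsg.Agent.Char2x2

/-- Over a finite field with q elements of odd characteristic p, the elements of order p of SL₂ (the non-identity unipotent elements) fall into exactly two conjugacy classes, each of size (q² − 1)/2; two upper unitriangular matrices with non-zero off-diagonal entries b and b′ are conjugate exactly when bb′ is a square. -/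
theorem result {F : Type*} [Field F] [Fintype F] (p : ℕ) [Fact p.Prime] [CharP F p] (hp : p ≠ 2) :
    Nat.card {C : ConjClasses (Matrix.SpecialLinearGroup (Fin 2) F) // ∃ g : Matrix.SpecialLinearGroup (Fin 2) F, orderOf g = p ∧ ConjClasses.mk g = C} = 2 ∧
    (∀ g : Matrix.SpecialLinearGroup (Fin 2) F, orderOf g = p → Nat.card (ConjClasses.mk g).carrier = (Fintype.card F ^ 2 - 1) / 2) ∧
    ∀ g h : Matrix.SpecialLinearGroup (Fin 2) F, (g : Matrix (Fin 2) (Fin 2) F) 0 0 = 1 → (g : Matrix (Fin 2) (Fin 2) F) 1 1 = 1 → (g : Matrix (Fin 2) (Fin 2) F) 1 0 = 0 → (g : Matrix (Fin 2) (Fin 2) F) 0 1 ≠ 0 →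
      (h : Matrix (Fin 2) (Fin 2) F) 0 0 = 1 → (h : Matrix (Fin 2) (Fin 2) F) 1 1 = 1 → (h : Matrix (Fin 2) (Fin 2) F) 1 0 = 0 → (h : Matrix (Fin 2) (Fin 2) F) 0 1 ≠ 0 →
      (IsConj g h ↔ IsSquare ((g : Matrix (Fin 2) (Fin 2) F) 0 1 * (h : Matrix (Fin 2) (Fin 2) F) 0 1)) := by
  have hodd : Odd (Fintype.card F) := by
    obtain ⟨n, hpr, hn⟩ := FiniteField.card F p
    rw [hn]; exact (hpr.odd_of_ne_two hp).pow
  have h2 := two_ne_zero_of_odd hodd
  obtain ⟨ε, hε⟩ := FiniteField.exists_nonsquare (ringChar_ne_two_of_odd hodd)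
  have hε0 : ε ≠ 0 := fun h => hε (h ▸ IsSquare.zero)
  let ε' : Fˣ := Units.mk0 ε hε0
  have hne : ¬ IsConj (kmat (2 : F) 1) (kmat 2 ε') := fun h => hε (by
    simpa [ε'] using (isConj_kmat_two_iff _ _).mp h)
  refine ⟨?_, fun g hg => ?_, fun g h g00 g11 g10 g01 h00 h11 h10 h01 => ?_⟩
  · have hord : ∀ δ : Fˣ, orderOf (kmat (2 : F) δ) = p := fun δ =>
      (sl_orderOf_iff p _).mpr ⟨nonScalar_kmat _ _, trace_kmat _ _⟩
    rw [Nat.card_eq_two_iff]
    refine ⟨⟨_, _, hord 1, rfl⟩, ⟨_, _, hord ε', rfl⟩, fun h => hne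
      (ConjClasses.mk_eq_mk_iff_isConj.mp (congrArg Subtype.val h)), ?_⟩
    refine Set.eq_univ_iff_forall.mpr fun ⟨C, g, hg, hgC⟩ => ?_
    subst hgC
    obtain ⟨hns, ht⟩ := (sl_orderOf_iff p g).mp hg
    obtain ⟨δ, hδ⟩ := exists_isConj_kmat hns
    rw [ht] at hδ
    by_cases hs : IsSquare ((δ : F) * (1 : Fˣ))
    · exact Or.inl (Subtype.ext (ConjClasses.mk_eq_mk_iff_isConj.mpr
        (hδ.trans ((isConj_kmat_two_iff _ _).mpr hs))))
    · refine Or.inr (Subtype.ext (ConjClasses.mk_eq_mk_iff_isConj.mpr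
        (hδ.trans ((isConj_kmat_two_iff _ _).mpr ?_))))
      classical
      rw [Units.val_one, mul_one] at hs
      refine (quadraticChar_one_iff_isSquare (mul_ne_zero δ.ne_zero hε0)).mp ?_
      rw [map_mul, (quadraticChar_neg_one_iff_not_isSquare (F := F)).mpr hs]
      show -1 * quadraticChar F ε = 1
      rw [(quadraticChar_neg_one_iff_not_isSquare (F := F)).mpr hε]
      norm_num
  · obtain ⟨hns, ht⟩ := (sl_orderOf_iff p g).mp hg
    have h := card_class_unipotent hns ht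
    rw [show Nat.card {c : F // c ^ 2 = 1} = 2 by simpa using card_sq_eq hodd one_ne_zero] at h
    omega
  · have key : ∀ (g : Matrix.SpecialLinearGroup (Fin 2) F), (g : Matrix (Fin 2) (Fin 2) F) 0 0 = 1 →
        (g : Matrix (Fin 2) (Fin 2) F) 1 1 = 1 → (g : Matrix (Fin 2) (Fin 2) F) 1 0 = 0 →
        ∀ hb : (g : Matrix (Fin 2) (Fin 2) F) 0 1 ≠ 0, IsConj g (kmat 2 (-Units.mk0 _ hb)) := by
      intro g a d c hb
      have ht : (sm g).trace = 2 := by
        rw [Matrix.trace_fin_two]; show g.1 0 0 + g.1 1 1 = 2; rw [a, d]; norm_num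
      have := isConj_kmat (g := g) (a := 0) (b := 1) (δ := -Units.mk0 _ hb) (by
        rw [det_basisMat]; simp [sm, a, d, c])
      rwa [ht] at this
    have k1 := key g g00 g11 g10 g01
    have k2 := key h h00 h11 h10 h01
    have e : IsConj g h ↔ IsConj (kmat (2 : F) (-Units.mk0 _ g01)) (kmat 2 (-Units.mk0 _ h01)) :=
      ⟨fun c => k1.symm.trans (c.trans k2), fun c => k1.trans (c.trans k2.symm)⟩
    rw [e, isConj_kmat_two_iff]
    simp

end Cfsg.Agent.S2301
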