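import Cfsg.Statements.S2303
import Cfsg.Agent.Char2x2.Conj

set_option autoImplicit false
open Cfsg

namespace Cfsg.Agent.S2303

open Cfsg.Agent.Char2x2

/-- Over a finite field with q elements: a diagonal element of GL₂ with two distinct diagonal entries has centralizer of order (q − 1)² (so q(q + 1) conjugates), and an element of GL₂ with no eigenvector in F² has centralizer of order q² − 1 (so q(q − 1) conjugates). -/
theorem result {F : Type*} [Field F] [Fintype F] (g : Matrix.GeneralLinearGroup (Fin 2) F) :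
    ((g : Matrix (Fin 2) (Fin 2) F) 0 1 = 0 → (g : Matrix (Fin 2) (Fin 2) F) 1 0 = 0 → (g : Matrix (Fin 2) (Fin 2) F) 0 0 ≠ (g : Matrix (Fin 2) (Fin 2) F) 1 1 →
      Nat.card (Subgroup.centralizer ({g} : Set (Matrix.GeneralLinearGroup (Fin 2) F))) = (Fintype.card F - 1) ^ 2) ∧
    ((∀ (c : F) (v : Fin 2 → F), v ≠ 0 → (g : Matrix (Fin 2) (Fin 2) F).mulVec v ≠ c • v) →
      Nat.card (Subgroup.centralizer ({g} : Set (Matrix.GeneralLinearGroup (Fin 2) F))) = Fintype.card F ^ 2 - 1) := by
  classical
  refine ⟨fun h01 h10 hne => ?_, fun h => ?_⟩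
  · have hns : NonScalar (gm g) := Or.inr (Or.inr hne)
    have hd : ∀ x y : F, nrm (gm g).trace (gm g).det x y = (x + y * gm g 0 0) * (x + y * gm g 1 1) := by
      intro x y
      rw [← det_add_smul, Matrix.det_fin_two]
      simp [gm, h01, h10]
    rw [gl_centralizer_card hns, sq, ← Nat.card_eq_fintype_card, ← Nat.card_units, ← Nat.card_prod]
    simp only [gm] at hd
    refine Nat.card_congr (Equiv.ofBijective (fun w =>
      (Units.mk0 (w.1.1 + w.1.2 * gm g 0 0) (left_ne_zero_of_mul ((hd _ _) ▸ w.2)),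
       Units.mk0 (w.1.1 + w.1.2 * gm g 1 1) (right_ne_zero_of_mul ((hd _ _) ▸ w.2)))) ⟨?_, ?_⟩)
    · rintro ⟨⟨x, y⟩, hw⟩ ⟨⟨x', y'⟩, hw'⟩ e
      simp only [Prod.mk.injEq, Units.ext_iff, Units.val_mk0] at e
      have hy : y = y' := by
        have : (y - y') * (gm g 0 0 - gm g 1 1) = 0 := by linear_combination e.1 - e.2
        exact sub_eq_zero.mp ((mul_eq_zero.mp this).resolve_right (sub_ne_zero.mpr hne))
      subst hy
      have hx : x = x' := by linear_combination e.1
      subst hx
      rfl
    · rintro ⟨u, v⟩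
      have hn : gm g 0 0 - gm g 1 1 ≠ 0 := sub_ne_zero.mpr hne
      set y := ((u : F) - v) / (gm g 0 0 - gm g 1 1) with hy
      have e1 : (u : F) - y * gm g 0 0 + y * gm g 1 1 = v := by
        have : y * (gm g 0 0 - gm g 1 1) = (u : F) - v := div_mul_cancel₀ _ hn
        linear_combination -this
      refine ⟨⟨((u : F) - y * gm g 0 0, y), ?_⟩, ?_⟩
      · rw [hd]
        show ((u : F) - y * gm g 0 0 + y * gm g 0 0) * ((u : F) - y * gm g 0 0 + y * gm g 1 1) ≠ 0
        rw [e1, sub_add_cancel]
        exact mul_ne_zero u.ne_zero v.ne_zero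
      · exact Prod.ext (Units.ext (by simp)) (Units.ext (by simpa using e1))
  · have hns := nonScalar_of_no_eigvec h
    rw [gl_centralizer_card hns, sq, ← Fintype.card_prod, ← Nat.card_eq_fintype_card]
    have : Nat.card {w : F × F // nrm (gm g).trace (gm g).det w.1 w.2 ≠ 0} =
        Nat.card {w : F × F // w ≠ 0} := by
      refine Nat.card_congr (Equiv.subtypeEquivRight fun w => ⟨fun h' e => h' (by simp [e, nrm]), fun h' => ?_⟩)
      refine nrm_ne_zero_of_no_eigvec h ?_
      by_contra hc
      simp only [not_or, not_not] at hc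
      exact h' (Prod.ext hc.1 hc.2)
    rw [this, Nat.card_eq_fintype_card, Nat.card_eq_fintype_card, Fintype.card_subtype_compl, Fintype.card_subtype_eq]

end Cfsg.Agent.S2303
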