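import Cfsg.Statements.S2307
import Cfsg.Agent.Char2x2.SLOddTable

set_option autoImplicit false
open Cfsg

namespace Cfsg.Agent.S2307

/-- Over a finite field F with q elements, q odd, let α be the multiplicative character of F of order 2. The character of SL₂ induced from the linear character b ↦ α(b₁₁) of the upper triangular subgroup is the sum of two distinct irreducible characters, each of degree (q + 1)/2, which are conjugate under GL₂: some fixed element of GL₂ conjugates the one into the other. -/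
theorem result {F : Type*} [Field F] [Fintype F] [DecidableEq F] (hodd : Odd (Fintype.card F)) (α : MulChar F ℂ)
    (hα : α ^ 2 = 1) (hα1 : α ≠ 1) :
    ∃ χ₁ χ₂ : Matrix.SpecialLinearGroup (Fin 2) F → ℂ, Cfsg.IsIrrCharacter (Matrix.SpecialLinearGroup (Fin 2) F) χ₁ ∧ Cfsg.IsIrrCharacter (Matrix.SpecialLinearGroup (Fin 2) F) χ₂ ∧ χ₁ ≠ χ₂ ∧
      Cfsg.indFun ((Cfsg.upperTriangularGL 2 F).comap Matrix.SpecialLinearGroup.toGL) (fun b => α (((b : Matrix.SpecialLinearGroup (Fin 2) F) : Matrix (Fin 2) (Fin 2) F) 0 0)) = χ₁ + χ₂ ∧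
      χ₁ 1 = (((Fintype.card F + 1) / 2 : ℕ) : ℂ) ∧ χ₂ 1 = (((Fintype.card F + 1) / 2 : ℕ) : ℂ) ∧
      ∃ x : Matrix.GeneralLinearGroup (Fin 2) F, ∀ g h : Matrix.SpecialLinearGroup (Fin 2) F,
        Matrix.SpecialLinearGroup.toGL h = x * Matrix.SpecialLinearGroup.toGL g * x⁻¹ → χ₂ h = χ₁ g := by
  classical
  obtain ⟨ε, hε⟩ := Char2x2.exists_not_isSquare hodd
  obtain rfl := Char2x2.eq_etaC hα hα1
  obtain ⟨a, b, hab, h, hset⟩ := Char2x2.pair_split (F := F) hε
  have ha : a ∈ Char2x2.pairSetS (F := F) := by rw [hset]; simp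
  have hb : b ∈ Char2x2.pairSetS (F := F) := by rw [hset]; simp
  have hd : ∀ χ ∈ Char2x2.pairSetS (F := F), (χ : Matrix.SpecialLinearGroup (Fin 2) F → ℂ) 1 =
      (((Fintype.card F + 1) / 2 : ℕ) : ℂ) := fun χ hχ =>
    mul_left_cancel₀ two_ne_zero ((Char2x2.pair_data hε χ hχ).1.trans (Char2x2.half_casts hodd).1.symm)
  have hσ := Char2x2.eq_sigIrr_pair hε ha hb hab
  refine ⟨(b : Matrix.SpecialLinearGroup (Fin 2) F → ℂ), (a : Matrix.SpecialLinearGroup (Fin 2) F → ℂ), b.2, a.2,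
    fun e => hab (Subtype.ext e.symm), h.trans (add_comm _ _), hd b hb, hd a ha, ?_⟩
  refine ⟨Matrix.GeneralLinearGroup.mk'' !![ε, 0; 0, 1]
    (by simp [Matrix.det_fin_two, Char2x2.ne_zero_of_not_isSquare hε]), fun g k hk => ?_⟩
  rw [hσ, Char2x2.sigIrr_apply]
  refine congrArg (a : Matrix.SpecialLinearGroup (Fin 2) F → ℂ) (Matrix.SpecialLinearGroup.toGL_injective ?_)
  rw [hk, Char2x2.toGL_sigS]
  rfl

end Cfsg.Agent.S2307
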