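import Cfsg.Statements.S2308
import Cfsg.Agent.Char2x2.Ind

set_option autoImplicit false
open Cfsg

namespace Cfsg.Agent.S2308

open Cfsg.Agent.Char2x2

/-- Values of the permutation character of GL₂ over a finite field F with q elements on the cosets of its upper triangular subgroup (equivalently, the number of lines of F² that an element maps to themselves): q + 1 at a scalar matrix, 2 at a diagonal matrix with two different diagonal entries, 0 at an element with no eigenvector in F², and 1 at an upper triangular matrix with equal diagonal entries and non-zero upper right entry. -/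
theorem result {F : Type*} [Field F] [Fintype F] (g : Matrix.GeneralLinearGroup (Fin 2) F) :
    ((∃ a : F, (g : Matrix (Fin 2) (Fin 2) F) = a • (1 : Matrix (Fin 2) (Fin 2) F)) → Cfsg.fixedPointCharacter (Cfsg.upperTriangularGL 2 F) g = Fintype.card F + 1) ∧
    ((g : Matrix (Fin 2) (Fin 2) F) 0 1 = 0 → (g : Matrix (Fin 2) (Fin 2) F) 1 0 = 0 → (g : Matrix (Fin 2) (Fin 2) F) 0 0 ≠ (g : Matrix (Fin 2) (Fin 2) F) 1 1 →
      Cfsg.fixedPointCharacter (Cfsg.upperTriangularGL 2 F) g = 2) ∧
    ((∀ (c : F) (v : Fin 2 → F), v ≠ 0 → (g : Matrix (Fin 2) (Fin 2) F).mulVec v ≠ c • v) → Cfsg.fixedPointCharacter (Cfsg.upperTriangularGL 2 F) g = 0) ∧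
    ((g : Matrix (Fin 2) (Fin 2) F) 1 0 = 0 → (g : Matrix (Fin 2) (Fin 2) F) 0 0 = (g : Matrix (Fin 2) (Fin 2) F) 1 1 → (g : Matrix (Fin 2) (Fin 2) F) 0 1 ≠ 0 →
      Cfsg.fixedPointCharacter (Cfsg.upperTriangularGL 2 F) g = 1) := by
  classical
  have key : Cfsg.fixedPointCharacter (Cfsg.upperTriangularGL 2 F) g =
      (if gm g 1 0 = 0 then (1 : ℂ) else 0) +
        ∑ c : F, if fixRoot (gm g) c then (1 : ℂ) else 0 := by
    rw [show Cfsg.fixedPointCharacter (Cfsg.upperTriangularGL 2 F) g =
      (Nat.card (MulAction.fixedBy (_ ⧸ Cfsg.upperTriangularGL 2 F) g) : ℂ) from rfl,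
      ← CharInd.indFun_one_eq_fixedBy]
    have h1 : (fun _ => (1 : ℂ)) = thG (1 : MulChar F ℂ) 1 := by
      funext b
      have hd := (isUnit_det_gm (b : Matrix.GeneralLinearGroup (Fin 2) F)).ne_zero
      have h0 := mem_BG.mp b.2
      rw [Matrix.det_fin_two, h0, mul_zero, sub_zero] at hd
      simp [thG, MulChar.one_apply (isUnit_iff_ne_zero.mpr (left_ne_zero_of_mul hd)),
        MulChar.one_apply (isUnit_iff_ne_zero.mpr (right_ne_zero_of_mul hd))]
    rw [h1]
    refine (psG_apply (1 : MulChar F ℂ) 1 g).trans ?_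
    have hd := (isUnit_det_gm g).ne_zero
    rw [Matrix.det_fin_two] at hd
    congr 1
    · split_ifs with h
      · rw [h, mul_zero, sub_zero] at hd
        simp [MulChar.one_apply (isUnit_iff_ne_zero.mpr (left_ne_zero_of_mul hd)),
          MulChar.one_apply (isUnit_iff_ne_zero.mpr (right_ne_zero_of_mul hd))]
      · rfl
    · refine Finset.sum_congr rfl fun c _ => ?_
      split_ifs with h
      · have hne : (gm g 1 0 * c + gm g 1 1) * (gm g 0 0 - gm g 1 0 * c) ≠ 0 := by
          intro h0; apply hd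
          simp only [fixRoot] at h
          linear_combination h0 - gm g 1 0 * h
        simp [MulChar.one_apply (isUnit_iff_ne_zero.mpr (left_ne_zero_of_mul hne)),
          MulChar.one_apply (isUnit_iff_ne_zero.mpr (right_ne_zero_of_mul hne))]
      · rfl
  simp only [key, fixRoot]
  refine ⟨?_, fun h01 h10 hne => ?_, fun h => ?_, fun h10 heq h01 => ?_⟩
  · rintro ⟨a, ha⟩
    simp [gm, ha, Finset.card_univ, add_comm]
  · simp only [gm, h01, h10, if_true, zero_add, zero_mul, sub_zero]
    rw [Finset.sum_congr rfl (fun c _ => if_congr (mul_eq_zero.trans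
      (or_iff_right (sub_ne_zero.mpr hne))) rfl rfl), Finset.sum_ite_eq' Finset.univ]
    norm_num
  · have h10 : gm g 1 0 ≠ 0 := fun h10 => h (gm g 0 0) ![1, 0] (by simp) (by
      ext i; fin_cases i <;> simp [gm, Matrix.mulVec, dotProduct, Fin.sum_univ_two] at h10 ⊢
      exact h10)
    rw [if_neg h10, zero_add]
    refine Finset.sum_eq_zero fun c _ => if_neg fun hc => h (gm g 1 0 * c + gm g 1 1) ![c, 1] (by simp) ?_
    ext i; fin_cases i <;> simp [gm, Matrix.mulVec, dotProduct, Fin.sum_univ_two] at hc ⊢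
    linear_combination hc
  · simp [gm, h10, heq, h01]

end Cfsg.Agent.S2308
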