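import Cfsg.Statements.S2309
import Cfsg.Agent.Char2x2.GLTable

set_option autoImplicit false
open Cfsg

namespace Cfsg.Agent.S2309

open Cfsg.Agent.Char2x2

/-- Over a finite field F with q elements: every irreducible complex character of GL₂ of degree q − 1 vanishes at every diagonal matrix with two distinct entries, and every irreducible complex character of degree q + 1 vanishes at every element with no eigenvector in F². -/
theorem result {F : Type*} [Field F] [Fintype F] (χ : Matrix.GeneralLinearGroup (Fin 2) F → ℂ) (hχ : Cfsg.IsIrrCharacter (Matrix.GeneralLinearGroup (Fin 2) F) χ) (g : Matrix.GeneralLinearGroup (Fin 2) F) :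
    (χ 1 = (Fintype.card F : ℂ) - 1 → (g : Matrix (Fin 2) (Fin 2) F) 0 1 = 0 → (g : Matrix (Fin 2) (Fin 2) F) 1 0 = 0 → (g : Matrix (Fin 2) (Fin 2) F) 0 0 ≠ (g : Matrix (Fin 2) (Fin 2) F) 1 1 → χ g = 0) ∧
    (χ 1 = (Fintype.card F : ℂ) + 1 → (∀ (c : F) (v : Fin 2 → F), v ≠ 0 → (g : Matrix (Fin 2) (Fin 2) F).mulVec v ≠ c • v) → χ g = 0) := by
  classical
  refine ⟨fun hd h01 h10 hne => ?_, fun hd h => ?_⟩
  · have hq : 3 ≤ Fintype.card F := by
      rcases Nat.lt_or_ge (Fintype.card F) 3 with hlt | hge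
      · have := Fintype.one_lt_card (α := F)
        exact absurd (not_elliptic_two (by omega) g h01 h10) hne
      · exact hge
    exact cusp_diag (χ := ⟨χ, hχ⟩) ((degrees_GL hq ⟨χ, hχ⟩).2.2.2.mp hd) h01 h10 hne
  · rcases table_GL ⟨χ, hχ⟩ with ⟨-, e, -⟩ | ⟨-, e, -⟩ | ⟨hm, -, -⟩ | ⟨-, e, -⟩
    · rw [show χ 1 = 1 from e] at hd
      exact absurd (by exact_mod_cast (show ((Fintype.card F : ℕ) : ℂ) = (0 : ℕ) by push_cast; linear_combination -hd)) (Fintype.card_ne_zero (α := F))
    · rw [show χ 1 = _ from e] at hd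
      exact absurd (by linear_combination -hd) (one_ne_zero (α := ℂ))
    · obtain ⟨α, β, -, e⟩ := (Finset.mem_filter.mp hm).2
      rw [show χ = psG α β from e]
      exact psG_elliptic α β h
    · rw [show χ 1 = _ from e] at hd
      exact absurd (by linear_combination -hd) (two_ne_zero (α := ℂ))

end Cfsg.Agent.S2309
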