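import Cfsg.Statements.S2310
import Cfsg.Agent.Char2x2.GLTable

set_option autoImplicit false
open Cfsg

namespace Cfsg.Agent.S2310

open Cfsg.Agent.Char2x2

/-- Over a finite field F with q ≥ 3 elements, let u be the upper unitriangular matrix of GL₂ with off-diagonal entry 1. An irreducible complex character χ of GL₂ takes at u the value 1 if χ has degree 1 or q + 1, the value −1 if χ has degree q − 1, and the value 0 if χ has degree q. -/
theorem result {F : Type*} [Field F] [Fintype F] (hq : 3 ≤ Fintype.card F) (χ : Matrix.GeneralLinearGroup (Fin 2) F → ℂ) (hχ : Cfsg.IsIrrCharacter (Matrix.GeneralLinearGroup (Fin 2) F) χ)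
    (u : Matrix.GeneralLinearGroup (Fin 2) F) (hu : (u : Matrix (Fin 2) (Fin 2) F) = !![1, 1; 0, 1]) :
    (χ 1 = 1 → χ u = 1) ∧ (χ 1 = (Fintype.card F : ℂ) + 1 → χ u = 1) ∧
    (χ 1 = (Fintype.card F : ℂ) - 1 → χ u = -1) ∧ (χ 1 = (Fintype.card F : ℂ) → χ u = 0) := by
  classical
  obtain rfl := u_eq_uG u hu
  obtain ⟨i1, i2, i3, i4⟩ := degrees_GL hq ⟨χ, hχ⟩
  obtain ⟨-, d1, d2, d3⟩ := partition_GL (F := F)
  rcases table_GL ⟨χ, hχ⟩ with ⟨-, e, v⟩ | ⟨-, e, v⟩ | ⟨-, e, v⟩ | ⟨-, e, v⟩ <;>
    refine ⟨fun h => ?_, fun h => ?_, fun h => ?_, fun h => ?_⟩ <;>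
    simp only at e v <;>
    first
      | exact v
      | (exfalso; rw [e] at h
         have hq' : (3 : ℕ) ≤ Fintype.card F := hq
         first
           | exact one_ne_zero (α := ℂ) (by linear_combination h)
           | exact one_ne_zero (α := ℂ) (by linear_combination -h)
           | exact two_ne_zero (α := ℂ) (by linear_combination h)
           | exact two_ne_zero (α := ℂ) (by linear_combination -h)
           | exact absurd (show ((Fintype.card F : ℕ) : ℂ) = (1 : ℕ) by push_cast; linear_combination h) (by exact_mod_cast (by omega : Fintype.card F ≠ 1))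
           | exact absurd (show ((Fintype.card F : ℕ) : ℂ) = (1 : ℕ) by push_cast; linear_combination -h) (by exact_mod_cast (by omega : Fintype.card F ≠ 1))
           | exact absurd (show ((Fintype.card F : ℕ) : ℂ) = (0 : ℕ) by push_cast; linear_combination h) (by exact_mod_cast (by omega : Fintype.card F ≠ 0))
           | exact absurd (show ((Fintype.card F : ℕ) : ℂ) = (0 : ℕ) by push_cast; linear_combination -h) (by exact_mod_cast (by omega : Fintype.card F ≠ 0))
           | exact absurd (show ((Fintype.card F : ℕ) : ℂ) = (2 : ℕ) by push_cast; linear_combination h) (by exact_mod_cast (by omega : Fintype.card F ≠ 2))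
           | exact absurd (show ((Fintype.card F : ℕ) : ℂ) = (2 : ℕ) by push_cast; linear_combination -h) (by exact_mod_cast (by omega : Fintype.card F ≠ 2)))

end Cfsg.Agent.S2310
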