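import Cfsg.Statements.S2313
import Cfsg.Agent.Lib.Steinberg.Chev

set_option autoImplicit false
open Cfsg

namespace Cfsg.Agent.S2313

/-- In a Chevalley group of type G₂, B₂, D₄, F₄, E₆, E₇ or E₈ over a finite field, the restriction of the Steinberg character to the subgroup B = UH is the permutation character of B on the cosets of the diagonal subgroup H: at b ∈ B its value is the number of cosets xH, x ∈ B, with bxH = xH. -/
theorem result {F : Type*} [Field F] [Fintype F] (D : Cfsg.Lie.ChevalleyDatum) (hD : D ∈ [Cfsg.Lie.chevG2, Cfsg.Lie.chevB2, Cfsg.Lie.chevD4, Cfsg.Lie.chevF4, Cfsg.Lie.chevE6, Cfsg.Lie.chevE7, Cfsg.Lie.chevE8]) (b : ↥((D.borelSubgroup F).subgroupOf (D.group F))) :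
    D.steinbergCharacter F ((((D.borelSubgroup F).subgroupOf (D.group F)).subtype) b) =
      Cfsg.fixedPointCharacter (((D.diagonalSubgroup F).subgroupOf (D.group F)).subgroupOf ((D.borelSubgroup F).subgroupOf (D.group F))) b := by
  obtain ⟨P, U, hB, hT, hU, hcard, hsplit, -, hst⟩ :=
    Cfsg.Agent.Steinberg.exists_chev (F := F) hD
  letI : Fintype ↥(D.group F) := Fintype.ofFinite _
  have hp : Fact (ringChar F).Prime := ⟨CharP.char_is_prime F _⟩
  have hs := hsplit (ringChar F)
  have key : ∀ (B' T' : Subgroup ↥(D.group F)), B' = P.B → T' = P.B ⊓ P.N → ∀ b : B',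
      D.steinbergCharacter F (b : ↥(D.group F)) =
        Cfsg.fixedPointCharacter (T'.subgroupOf B') b := by
    rintro _ _ rfl rfl b
    rw [hst, Cfsg.Agent.Steinberg.altSum_eq_stChar]
    exact hs.stChar_eq_fixedPointCharacter b
  exact key _ _ hB.symm hT.symm b

end Cfsg.Agent.S2313
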