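import Cfsg.Statements.S2315
import Cfsg.Agent.KSG55.NilpotentCount

set_option autoImplicit false
open Cfsg

namespace Cfsg.Agent.S2315

/-- Steinberg's count of unipotent elements for the general linear group: over a finite field with q elements of characteristic p, the number of elements of GL_n of p-power order (the unipotent matrices) is q^(n(n−1)). -/
theorem result {F : Type*} [Field F] [Fintype F] (p : ℕ) [Fact p.Prime] [CharP F p] (n : ℕ) :
    Nat.card {g : Matrix.GeneralLinearGroup (Fin n) F // ∃ k : ℕ, orderOf g = p ^ k} = Fintype.card F ^ (n * (n - 1)) := by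
  classical
  rw [← KSG55.Nilp.card_nil]
  haveI : CharP (Matrix (Fin n) (Fin n) F) p ∨ n = 0 := by
    rcases Nat.eq_zero_or_pos n with h | h
    · exact Or.inr h
    · haveI : Nonempty (Fin n) := ⟨⟨0, h⟩⟩
      exact Or.inl (charP_of_injective_algebraMap (algebraMap F (Matrix (Fin n) (Fin n) F)).injective p)
  rcases this with hc | rfl
  · haveI := hc
    have hN : ∀ (A : Matrix (Fin n) (Fin n) F) (k : ℕ), (A - 1) ^ p ^ k = A ^ p ^ k - 1 := fun A k => by
      rw [sub_pow_char_pow_of_commute p k (Commute.one_right A), one_pow]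
    refine Nat.card_congr
      { toFun := fun g => ⟨(g.1 : Matrix (Fin n) (Fin n) F) - 1, ?_⟩
        invFun := fun A => ⟨(IsNilpotent.isUnit_one_add A.2).unit, ?_⟩
        left_inv := fun g => Subtype.ext (Units.ext (by simp))
        right_inv := fun A => Subtype.ext (by simp) }
    · obtain ⟨k, hk⟩ := g.2
      refine ⟨p ^ k, ?_⟩
      rw [hN, ← hk, ← Units.val_pow_eq_pow_val, pow_orderOf_eq_one, Units.val_one, sub_self]
    · obtain ⟨j, hj⟩ := A.2
      obtain ⟨i, -, hi⟩ := (Nat.dvd_prime_pow (Fact.out : p.Prime)).mp (orderOf_dvd_of_pow_eq_one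
        (x := (IsNilpotent.isUnit_one_add A.2).unit) (n := p ^ j) (Units.ext (by
          rw [Units.val_pow_eq_pow_val, IsUnit.unit_spec, Units.val_one, ← sub_eq_zero, ← hN]
          rw [add_sub_cancel_left]
          exact pow_eq_zero_of_le (Nat.lt_pow_self (Fact.out : p.Prime).one_lt).le hj)))
      exact ⟨i, hi⟩
  · refine Nat.card_congr
      { toFun := fun _ => ⟨0, IsNilpotent.zero⟩
        invFun := fun _ => ⟨1, 0, by simp⟩
        left_inv := fun g => Subtype.ext (Subsingleton.elim _ _)
        right_inv := fun A => Subtype.ext (Subsingleton.elim _ _) }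

end Cfsg.Agent.S2315
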