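import Cfsg.Statements.S2316
import Cfsg.Agent.SpUnipotent1.Main

set_option autoImplicit false
open Cfsg

namespace Cfsg.Agent.S2316

/-- Steinberg's count of unipotent elements for the symplectic group: over a finite field with q elements of characteristic p, the number of elements of Sp_{2m} of p-power order is q^(2m²). -/
theorem result {F : Type*} [Field F] [Fintype F] (p : ℕ) [Fact p.Prime] [CharP F p] (m : ℕ) :
    Nat.card {g : ↥(Matrix.symplecticGroup (Fin m) F) // ∃ k : ℕ, orderOf g = p ^ k} = Fintype.card F ^ (2 * m ^ 2) := by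
  classical
  set B : (Fin m ⊕ Fin m → F) →ₗ[F] (Fin m ⊕ Fin m → F) →ₗ[F] F :=
    Matrix.toLinearMap₂' F (Matrix.J (Fin m) F) with hB
  have hsymp : SpUnipotent1.Symp B := by
    refine ⟨fun u => ?_, fun u hu => ?_⟩
    · rw [hB, Matrix.toLinearMap₂'_apply', Matrix.J, Matrix.fromBlocks_mulVec]
      simp [dotProduct, Fintype.sum_sum_type, Matrix.neg_mulVec, Matrix.one_mulVec, mul_comm]
    · have hsep : B.SeparatingLeft := by
        rw [hB, Matrix.separatingLeft_toLinearMap₂'_iff]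
        exact Matrix.separatingLeft_iff_det_ne_zero.mpr (Matrix.isUnit_det_J _ _).ne_zero
      exact hsep u hu
  rw [← SpUnipotent1.card_uni m (Fin m ⊕ Fin m → F) B hsymp (by rw [Module.finrank_fintype_fun_eq_card]; simp; omega)]
  have hiso : ∀ A : Matrix (Fin m ⊕ Fin m) (Fin m ⊕ Fin m) F,
      (∀ u w, B (A.mulVec u) (A.mulVec w) = B u w) ↔ A ∈ Matrix.symplecticGroup (Fin m) F := fun A => by
    have e : B.compl₁₂ (Matrix.toLin' A) (Matrix.toLin' A) =
        Matrix.toLinearMap₂' F (A.transpose * Matrix.J (Fin m) F * A) := Matrix.toLinearMap₂'_comp _ _ _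
    rw [SymplecticGroup.mem_iff']
    constructor
    · intro h
      have h' : (Matrix.toLinearMap₂' F (A.transpose * Matrix.J (Fin m) F * A) :
          (Fin m ⊕ Fin m → F) →ₗ[F] (Fin m ⊕ Fin m → F) →ₗ[F] F) =
          Matrix.toLinearMap₂' F (Matrix.J (Fin m) F) := by
        rw [← e, ← hB]
        exact LinearMap.ext₂ fun u w => h u w
      exact LinearEquiv.injective _ h'
    · intro h u w
      rw [h, ← hB] at e
      exact LinearMap.congr_fun₂ e u w
  haveI : CharP (Matrix (Fin m ⊕ Fin m) (Fin m ⊕ Fin m) F) p ∨ m = 0 := by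
    rcases Nat.eq_zero_or_pos m with h | h
    · exact Or.inr h
    · haveI : Nonempty (Fin m) := ⟨⟨0, h⟩⟩
      exact Or.inl (charP_of_injective_algebraMap
        (algebraMap F (Matrix (Fin m ⊕ Fin m) (Fin m ⊕ Fin m) F)).injective p)
  have hnil : ∀ A : ↥(Matrix.symplecticGroup (Fin m) F),
      (∃ k : ℕ, orderOf A = p ^ k) ↔ IsNilpotent ((A : Matrix (Fin m ⊕ Fin m) (Fin m ⊕ Fin m) F) - 1) := by
    intro A
    rcases this with hc | rfl
    · haveI := hc
      have hN : ∀ k : ℕ, ((A : Matrix (Fin m ⊕ Fin m) (Fin m ⊕ Fin m) F) - 1) ^ p ^ k =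
          (A : Matrix (Fin m ⊕ Fin m) (Fin m ⊕ Fin m) F) ^ p ^ k - 1 := fun k => by
        rw [sub_pow_char_pow_of_commute (p := p) (h := Commute.one_right _), one_pow]
      constructor
      · rintro ⟨k, hk⟩
        refine ⟨p ^ k, ?_⟩
        rw [hN, ← SubmonoidClass.coe_pow, ← hk, pow_orderOf_eq_one, OneMemClass.coe_one, sub_self]
      · rintro ⟨j, hj⟩
        have h1 : A ^ p ^ j = 1 := by
          refine Subtype.ext ?_
          rw [SubmonoidClass.coe_pow, OneMemClass.coe_one, ← sub_eq_zero, ← hN]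
          exact pow_eq_zero_of_le (Nat.lt_pow_self (Fact.out : p.Prime).one_lt).le hj
        obtain ⟨i, -, hi⟩ := (Nat.dvd_prime_pow (Fact.out : p.Prime)).mp (orderOf_dvd_of_pow_eq_one h1)
        exact ⟨i, hi⟩
    · refine ⟨fun _ => ⟨1, Subsingleton.elim _ _⟩, fun _ => ⟨0, ?_⟩⟩
      rw [pow_zero, orderOf_eq_one_iff]
      exact Subtype.ext (Subsingleton.elim _ _)
  have hpre : ∀ A : Matrix (Fin m ⊕ Fin m) (Fin m ⊕ Fin m) F,
      ((∀ u w, B (Matrix.toLinAlgEquiv' A u) (Matrix.toLinAlgEquiv' A w) = B u w) ∧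
        IsNilpotent (Matrix.toLinAlgEquiv' A - 1)) ↔
      (A ∈ Matrix.symplecticGroup (Fin m) F ∧ IsNilpotent (A - 1)) := fun A => by
    rw [← map_one (Matrix.toLinAlgEquiv' : Matrix (Fin m ⊕ Fin m) (Fin m ⊕ Fin m) F ≃ₐ[F] _), ← map_sub,
      IsNilpotent.map_iff Matrix.toLinAlgEquiv'.injective, ← hiso A]
    rfl
  refine (Nat.card_congr (Equiv.subtypeEquivRight hnil)).trans ?_
  refine (Nat.card_congr (Equiv.subtypeSubtypeEquivSubtypeInter
    (fun A : Matrix (Fin m ⊕ Fin m) (Fin m ⊕ Fin m) F => A ∈ Matrix.symplecticGroup (Fin m) F)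
    (fun A => IsNilpotent (A - 1)))).trans ?_
  exact Nat.card_congr (Equiv.subtypeEquiv Matrix.toLinAlgEquiv'.toEquiv fun A => (hpre A).symm)

end Cfsg.Agent.S2316
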