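import Cfsg.Statements.S2317
import Cfsg.Agent.KSG55.NilpotentClasses

set_option autoImplicit false
open Cfsg

namespace Cfsg.Agent.S2317

/-- Over a finite field of characteristic p, the conjugacy classes of GL_n consisting of elements of p-power order (the unipotent classes) are as many as the partitions of n. -/
theorem result {F : Type*} [Field F] [Fintype F] (p : ℕ) [Fact p.Prime] [CharP F p] (n : ℕ) :
    Nat.card {C : ConjClasses (Matrix.GeneralLinearGroup (Fin n) F) //
      ∃ g : Matrix.GeneralLinearGroup (Fin n) F, (∃ k : ℕ, orderOf g = p ^ k) ∧ ConjClasses.mk g = C} =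
      Fintype.card (Nat.Partition n) := by
  classical
  obtain ⟨rep, hnil, hinj, hsurj⟩ := KSG55.Nilp.exists_partition_rep (F := F) n
  have hN : ∀ (A : Matrix (Fin n) (Fin n) F) (k : ℕ), (A - 1) ^ p ^ k = A ^ p ^ k - 1 := fun A k => by
    rcases Nat.eq_zero_or_pos n with rfl | h
    · exact Subsingleton.elim _ _
    haveI : Nonempty (Fin n) := ⟨⟨0, h⟩⟩
    haveI : CharP (Matrix (Fin n) (Fin n) F) p :=
      charP_of_injective_algebraMap (algebraMap F (Matrix (Fin n) (Fin n) F)).injective p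
    rw [sub_pow_char_pow_of_commute p k (Commute.one_right A), one_pow]
  have toNil : ∀ g : Matrix.GeneralLinearGroup (Fin n) F, (∃ k : ℕ, orderOf g = p ^ k) →
      IsNilpotent ((g : Matrix (Fin n) (Fin n) F) - 1) := by
    rintro g ⟨k, hk⟩
    refine ⟨p ^ k, ?_⟩
    rw [hN, ← hk, ← Units.val_pow_eq_pow_val, pow_orderOf_eq_one, Units.val_one, sub_self]
  let u : Nat.Partition n → Matrix.GeneralLinearGroup (Fin n) F := fun μ =>
    (IsNilpotent.isUnit_one_add (hnil μ)).unit
  have hu : ∀ μ, (u μ : Matrix (Fin n) (Fin n) F) = 1 + rep μ := fun μ => rfl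
  have hp : ∀ μ, ∃ k : ℕ, orderOf (u μ) = p ^ k := fun μ => by
    obtain ⟨j, hj⟩ := hnil μ
    obtain ⟨i, -, hi⟩ := (Nat.dvd_prime_pow (Fact.out : p.Prime)).mp (orderOf_dvd_of_pow_eq_one
      (x := u μ) (n := p ^ j) (Units.ext (by
        rw [Units.val_pow_eq_pow_val, hu, Units.val_one, ← sub_eq_zero, ← hN, add_sub_cancel_left]
        exact pow_eq_zero_of_le (Nat.lt_pow_self (Fact.out : p.Prime).one_lt).le hj)))
    exact ⟨i, hi⟩
  rw [← Nat.card_eq_fintype_card]
  refine (Nat.card_congr (Equiv.ofBijective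
    (fun μ => ⟨ConjClasses.mk (u μ), u μ, hp μ, rfl⟩) ⟨fun μ ν e => ?_, fun C => ?_⟩)).symm
  · obtain ⟨c, hc⟩ := isConj_iff.mp (ConjClasses.mk_eq_mk_iff_isConj.mp (congrArg Subtype.val e))
    refine hinj μ ν c ?_
    have h2 := congrArg (fun z : Matrix.GeneralLinearGroup (Fin n) F => (z : Matrix (Fin n) (Fin n) F))
      (mul_inv_eq_iff_eq_mul.mp hc)
    simp only [Units.val_mul, hu, mul_add, add_mul, mul_one, one_mul] at h2
    exact add_left_cancel h2
  · obtain ⟨C, g, hg, rfl⟩ := C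
    obtain ⟨μ, c, hc⟩ := hsurj _ (toNil g hg)
    refine ⟨μ, Subtype.ext (ConjClasses.mk_eq_mk_iff_isConj.mpr (isConj_iff.mpr ⟨c, ?_⟩))⟩
    rw [mul_inv_eq_iff_eq_mul]
    apply Units.ext
    simp only [Units.val_mul, hu, mul_add, mul_one, hc, sub_mul, one_mul]
    abel

end Cfsg.Agent.S2317
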