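import Cfsg.Statements.S2320
import Cfsg.Agent.Char2x2.GLTable

set_option autoImplicit false
open Cfsg

namespace Cfsg.Agent.S2320

open Cfsg.Agent.Char2x2

/-- Over a finite field F with q elements, every irreducible complex character of GL₂ of degree q takes a value of absolute value 1 at every diagonal matrix with two different diagonal entries and at every element with no eigenvector in F². -/
theorem result {F : Type*} [Field F] [Fintype F] (χ : Matrix.GeneralLinearGroup (Fin 2) F → ℂ) (hχ : Cfsg.IsIrrCharacter (Matrix.GeneralLinearGroup (Fin 2) F) χ) (hdeg : χ 1 = (Fintype.card F : ℂ)) (g : Matrix.GeneralLinearGroup (Fin 2) F) :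
    ((g : Matrix (Fin 2) (Fin 2) F) 0 1 = 0 → (g : Matrix (Fin 2) (Fin 2) F) 1 0 = 0 → (g : Matrix (Fin 2) (Fin 2) F) 0 0 ≠ (g : Matrix (Fin 2) (Fin 2) F) 1 1 → ‖χ g‖ = 1) ∧
    ((∀ (c : F) (v : Fin 2 → F), v ≠ 0 → (g : Matrix (Fin 2) (Fin 2) F).mulVec v ≠ c • v) → ‖χ g‖ = 1) := by
  classical
  obtain ⟨α, e⟩ := eq_of_deg_st (χ := ⟨χ, hχ⟩) hdeg
  rw [show χ = stG α from e]
  refine ⟨fun h01 h10 hne => ?_, fun h => ?_⟩
  · have : stG α g = linG α g := by
      rw [stG, Pi.sub_apply, psG_diag α α h01 h10 hne]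
      simp only [linG, gm, Matrix.det_fin_two, h01, zero_mul, sub_zero, map_mul]
      ring
    rw [this, norm_linG]
  · have : stG α g = -linG α g := by
      rw [stG, Pi.sub_apply, psG_elliptic α α h, zero_sub]
    rw [this, norm_neg, norm_linG]

end Cfsg.Agent.S2320
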