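import Cfsg.Statements.S2322
import Cfsg.Agent.Char2x2.SLOddTable

set_option autoImplicit false
open Cfsg

namespace Cfsg.Agent.S2322

/-- Over a finite field F with q elements, q odd: every irreducible complex character of SL₂ of degree q − 1 or (q − 1)/2 vanishes at every diagonal matrix whose diagonal entry a has a² ≠ 1, and every irreducible complex character of degree q + 1 or (q + 1)/2 vanishes at every element with no eigenvector in F². -/
theorem result {F : Type*} [Field F] [Fintype F] (hodd : Odd (Fintype.card F)) (χ : Matrix.SpecialLinearGroup (Fin 2) F → ℂ) (hχ : Cfsg.IsIrrCharacter (Matrix.SpecialLinearGroup (Fin 2) F) χ) (g : Matrix.SpecialLinearGroup (Fin 2) F) :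
    ((χ 1 = (Fintype.card F : ℂ) - 1 ∨ χ 1 = (((Fintype.card F - 1) / 2 : ℕ) : ℂ)) →
      (g : Matrix (Fin 2) (Fin 2) F) 0 1 = 0 → (g : Matrix (Fin 2) (Fin 2) F) 1 0 = 0 → (g : Matrix (Fin 2) (Fin 2) F) 0 0 ^ 2 ≠ 1 → χ g = 0) ∧
    ((χ 1 = (Fintype.card F : ℂ) + 1 ∨ χ 1 = (((Fintype.card F + 1) / 2 : ℕ) : ℂ)) →
      (∀ (c : F) (v : Fin 2 → F), v ≠ 0 → (g : Matrix (Fin 2) (Fin 2) F).mulVec v ≠ c • v) → χ g = 0) := by
  classical
  obtain ⟨j, hj⟩ := id hodd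
  have h1 := Fintype.one_lt_card (α := F)
  obtain ⟨-, -, c3⟩ := Char2x2.half_casts (F := F) hodd
  have c4 : ((Fintype.card F + 1 : ℕ) : ℂ) = (Fintype.card F : ℂ) + 1 := by push_cast; rfl
  refine ⟨fun hdeg h01 h10 hsq => ?_, fun hdeg hell => ?_⟩
  · by_cases h3 : Fintype.card F = 3
    · exfalso
      apply hsq
      have hd : (g : Matrix (Fin 2) (Fin 2) F).det = 1 := g.2
      rw [Matrix.det_fin_two, h10, mul_zero, sub_zero] at hd
      have := FiniteField.pow_card_sub_one_eq_one _ (left_ne_zero_of_mul_eq_one hd)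
      rwa [h3] at this
    obtain ⟨n, hn, hn'⟩ : ∃ n : ℕ, χ 1 = (n : ℂ) ∧ (n = Fintype.card F - 1 ∨ n = (Fintype.card F - 1) / 2) := by
      rcases hdeg with e | e
      exacts [⟨_, e.trans c3.symm, Or.inl rfl⟩, ⟨_, e, Or.inr rfl⟩]
    rcases Char2x2.sl_odd_cases hodd ⟨χ, hχ⟩ with ⟨-, e⟩ | ⟨-, e⟩ | ⟨-, e⟩ | ⟨-, e⟩ | ⟨h, -⟩ | ⟨h, -⟩
    case inr.inr.inr.inr.inl =>
      exact Char2x2.cuspS_diag (χ := ⟨χ, hχ⟩) (Char2x2.mem_cuspSetS.mp (Char2x2.mem_halfSetS.mp h).1) h01 h10 hsq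
    case inr.inr.inr.inr.inr =>
      exact Char2x2.cuspS_diag (χ := ⟨χ, hχ⟩) (Char2x2.mem_cuspSetS.mp h.1) h01 h10 hsq
    all_goals
      have := Nat.cast_injective (R := ℂ) (hn.symm.trans e)
      omega
  · obtain ⟨n, hn, hn'⟩ : ∃ n : ℕ, χ 1 = (n : ℂ) ∧ (n = Fintype.card F + 1 ∨ n = (Fintype.card F + 1) / 2) := by
      rcases hdeg with e | e
      exacts [⟨_, e.trans c4.symm, Or.inl rfl⟩, ⟨_, e, Or.inr rfl⟩]
    rcases Char2x2.sl_odd_cases hodd ⟨χ, hχ⟩ with ⟨-, e⟩ | ⟨-, e⟩ | ⟨h, -⟩ | ⟨h, -⟩ | ⟨-, e⟩ | ⟨h, e⟩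
    case inr.inr.inl =>
      obtain ⟨α, -, e⟩ := Char2x2.mem_psSetS.mp h
      exact (congrFun e g).trans (Char2x2.psS_elliptic α hell)
    case inr.inr.inr.inl => exact Char2x2.pair_elliptic hodd (χ := ⟨χ, hχ⟩) h hell
    case inr.inr.inr.inr.inr =>
      have := Nat.cast_injective (R := ℂ) (hn.symm.trans e)
      exact Char2x2.full_cusp_elliptic_three hodd (by omega) (χ := ⟨χ, hχ⟩) h.1 h.2 hell
    all_goals
      have := Nat.cast_injective (R := ℂ) (hn.symm.trans e)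
      omega

end Cfsg.Agent.S2322
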