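import Cfsg.Statements.S2323
import Cfsg.Agent.Char2x2.SLEven
import Cfsg.Agent.Char2x2.SLOddTable

set_option autoImplicit false
open Cfsg

namespace Cfsg.Agent.S2323

/-- Over a finite field F with q ≥ 4 elements, let u be the upper unitriangular matrix of SL₂ with off-diagonal entry 1. An irreducible complex character of SL₂ takes at u the value 1 if its degree is q + 1 and the value −1 if its degree is q − 1. -/
theorem result {F : Type*} [Field F] [Fintype F] (hq : 4 ≤ Fintype.card F) (χ : Matrix.SpecialLinearGroup (Fin 2) F → ℂ) (hχ : Cfsg.IsIrrCharacter (Matrix.SpecialLinearGroup (Fin 2) F) χ)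
    (u : Matrix.SpecialLinearGroup (Fin 2) F) (hu : (u : Matrix (Fin 2) (Fin 2) F) = !![1, 1; 0, 1]) :
    (χ 1 = (Fintype.card F : ℂ) + 1 → χ u = 1) ∧ (χ 1 = (Fintype.card F : ℂ) - 1 → χ u = -1) := by
  classical
  obtain rfl : u = Char2x2.uS (1 : F) := Subtype.ext hu
  rcases Nat.even_or_odd (Fintype.card F) with he | ho
  · obtain ⟨p, hp⟩ := CharP.exists F
    obtain ⟨n, hpr, hn⟩ := FiniteField.card F p
    haveI : CharP F 2 := by
      rw [hn, Nat.even_pow] at he
      rwa [← (hpr.even_iff.mp he.1)]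
    have hne : ∀ k : ℕ, k ≤ 3 → (Fintype.card F : ℂ) ≠ (k : ℂ) := fun k hk h => by
      have := Nat.cast_injective (R := ℂ) h
      omega
    rcases Char2x2.sl_even_cases ⟨χ, hχ⟩ with ⟨-, e⟩ | ⟨-, e⟩ | ⟨-, e, v⟩ | ⟨-, e, v⟩ <;>
      refine ⟨fun hd => ?_, fun hd => ?_⟩ <;> first
      | exact v
      | (refine absurd (hd.symm.trans e) fun h => ?_
         first
         | exact hne 0 (by omega) (by push_cast; linear_combination h)
         | exact hne 2 (by omega) (by push_cast; linear_combination h)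
         | exact one_ne_zero (α := ℂ) (by linear_combination h)
         | exact one_ne_zero (α := ℂ) (by linear_combination -h)
         | exact two_ne_zero (α := ℂ) (by linear_combination h)
         | exact two_ne_zero (α := ℂ) (by linear_combination -h))
  · obtain ⟨j, hj⟩ := id ho
    obtain ⟨ε, hε⟩ := Char2x2.exists_not_isSquare ho
    obtain ⟨-, -, c3⟩ := Char2x2.half_casts (F := F) ho
    have c4 : ((Fintype.card F + 1 : ℕ) : ℂ) = (Fintype.card F : ℂ) + 1 := by push_cast; rfl
    rw [← c3, ← c4]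
    rcases Char2x2.sl_odd_cases ho ⟨χ, hχ⟩ with ⟨-, e⟩ | ⟨-, e⟩ | ⟨h, e⟩ | ⟨-, e⟩ | ⟨-, e⟩ | ⟨h, e⟩ <;>
      refine ⟨fun hd => ?_, fun hd => ?_⟩ <;> have hn := Nat.cast_injective (R := ℂ) (hd.symm.trans e) <;>
      first
      | omega
      | (obtain ⟨α, -, e'⟩ := Char2x2.mem_psSetS.mp h
         exact (congrFun e' _).trans (Char2x2.psS_uS α one_ne_zero))
      | exact ((Char2x2.half_data ho hε).2.2 ⟨χ, hχ⟩ h.1 h.2).2

end Cfsg.Agent.S2323
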