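import Cfsg.Statements.S2324
import Cfsg.Agent.Char2x2.SLOddTable

set_option autoImplicit false
open Cfsg

namespace Cfsg.Agent.S2324

/-- Over a finite field F with q elements, q odd and q ≥ 5, let u be the upper unitriangular matrix of SL₂ with off-diagonal entry 1 and let δ = (−1)^((q−1)/2). Every irreducible complex character χ of SL₂ of degree (q + 1)/2 satisfies (2χ(u) − 1)² = δq, and every irreducible complex character χ of degree (q − 1)/2 satisfies (2χ(u) + 1)² = δq; that is, χ(u) = (1 ± √(δq))/2 in the first case and χ(u) = (−1 ± √(δq))/2 in the second. Moreover two different irreducible characters of degree (q + 1)/2 take the two different values (their values at u add up to 1), and likewise for degree (q − 1)/2 (values adding up to −1). -/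
theorem result {F : Type*} [Field F] [Fintype F] (hodd : Odd (Fintype.card F)) (hq : 5 ≤ Fintype.card F)
    (u : Matrix.SpecialLinearGroup (Fin 2) F) (hu : (u : Matrix (Fin 2) (Fin 2) F) = !![1, 1; 0, 1]) :
    (∀ χ : Matrix.SpecialLinearGroup (Fin 2) F → ℂ, Cfsg.IsIrrCharacter (Matrix.SpecialLinearGroup (Fin 2) F) χ → χ 1 = (((Fintype.card F + 1) / 2 : ℕ) : ℂ) → (2 * χ u - 1) ^ 2 = (-1 : ℂ) ^ ((Fintype.card F - 1) / 2) * (Fintype.card F : ℂ)) ∧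
    (∀ χ : Matrix.SpecialLinearGroup (Fin 2) F → ℂ, Cfsg.IsIrrCharacter (Matrix.SpecialLinearGroup (Fin 2) F) χ → χ 1 = (((Fintype.card F - 1) / 2 : ℕ) : ℂ) → (2 * χ u + 1) ^ 2 = (-1 : ℂ) ^ ((Fintype.card F - 1) / 2) * (Fintype.card F : ℂ)) ∧
    (∀ χ₁ χ₂ : Matrix.SpecialLinearGroup (Fin 2) F → ℂ, Cfsg.IsIrrCharacter (Matrix.SpecialLinearGroup (Fin 2) F) χ₁ → Cfsg.IsIrrCharacter (Matrix.SpecialLinearGroup (Fin 2) F) χ₂ → χ₁ ≠ χ₂ →
      χ₁ 1 = (((Fintype.card F + 1) / 2 : ℕ) : ℂ) → χ₂ 1 = (((Fintype.card F + 1) / 2 : ℕ) : ℂ) → χ₁ u + χ₂ u = 1) ∧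
    (∀ χ₁ χ₂ : Matrix.SpecialLinearGroup (Fin 2) F → ℂ, Cfsg.IsIrrCharacter (Matrix.SpecialLinearGroup (Fin 2) F) χ₁ → Cfsg.IsIrrCharacter (Matrix.SpecialLinearGroup (Fin 2) F) χ₂ → χ₁ ≠ χ₂ →
      χ₁ 1 = (((Fintype.card F - 1) / 2 : ℕ) : ℂ) → χ₂ 1 = (((Fintype.card F - 1) / 2 : ℕ) : ℂ) → χ₁ u + χ₂ u = -1) := by
  classical
  obtain rfl : u = Char2x2.uS (1 : F) := Subtype.ext hu
  obtain ⟨j, hj⟩ := id hodd
  obtain ⟨ε, hε⟩ := Char2x2.exists_not_isSquare hodd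
  rw [← Char2x2.etaC_neg_one hodd]
  have pair : ∀ χ (hχ : Cfsg.IsIrrCharacter (Matrix.SpecialLinearGroup (Fin 2) F) χ),
      χ 1 = (((Fintype.card F + 1) / 2 : ℕ) : ℂ) → (⟨χ, hχ⟩ : Cfsg.IrrCharacter _) ∈ Char2x2.pairSetS := by
    intro χ hχ hd
    rcases Char2x2.sl_odd_cases hodd ⟨χ, hχ⟩ with ⟨-, e⟩ | ⟨-, e⟩ | ⟨-, e⟩ | ⟨h, -⟩ | ⟨-, e⟩ | ⟨-, e⟩
    case inr.inr.inr.inl => exact h
    all_goals
      have := Nat.cast_injective (R := ℂ) (hd.symm.trans e)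
      omega
  have half : ∀ χ (hχ : Cfsg.IsIrrCharacter (Matrix.SpecialLinearGroup (Fin 2) F) χ),
      χ 1 = (((Fintype.card F - 1) / 2 : ℕ) : ℂ) → (⟨χ, hχ⟩ : Cfsg.IrrCharacter _) ∈ Char2x2.halfSetS := by
    intro χ hχ hd
    rcases Char2x2.sl_odd_cases hodd ⟨χ, hχ⟩ with ⟨-, e⟩ | ⟨-, e⟩ | ⟨-, e⟩ | ⟨-, e⟩ | ⟨h, -⟩ | ⟨-, e⟩
    case inr.inr.inr.inr.inl => exact h
    all_goals
      have := Nat.cast_injective (R := ℂ) (hd.symm.trans e)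
      omega
  refine ⟨fun χ hχ hd => ?_, fun χ hχ hd => ?_, fun χ₁ χ₂ h₁ h₂ hne d₁ d₂ => ?_, fun χ₁ χ₂ h₁ h₂ hne d₁ d₂ => ?_⟩
  · obtain ⟨-, hs, hq2⟩ := Char2x2.pair_data hε _ (pair χ hχ hd)
    rw [← hq2, ← hs]; ring
  · obtain ⟨hs, hq2⟩ := (Char2x2.half_data hodd hε).2.1 _ (half χ hχ hd)
    rw [← hq2, show (1 : ℂ) = -(-1) by ring, ← hs]; ring
  · have e := Char2x2.eq_sigIrr_pair hε (pair χ₁ h₁ d₁) (pair χ₂ h₂ d₂) (fun e => hne (congrArg Subtype.val e))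
    have e2 := congrArg (fun z : Cfsg.IrrCharacter (Matrix.SpecialLinearGroup (Fin 2) F) =>
      (z : Matrix.SpecialLinearGroup (Fin 2) F → ℂ) (Char2x2.uS 1)) e
    simp only [Char2x2.sigIrr_uS_one, Units.val_mk0] at e2
    rw [e2]
    exact (Char2x2.pair_data hε _ (pair χ₁ h₁ d₁)).2.1
  · have e := Char2x2.eq_sigIrr_half hodd hε (half χ₁ h₁ d₁) (half χ₂ h₂ d₂) (fun e => hne (congrArg Subtype.val e))
    have e2 := congrArg (fun z : Cfsg.IrrCharacter (Matrix.SpecialLinearGroup (Fin 2) F) =>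
      (z : Matrix.SpecialLinearGroup (Fin 2) F → ℂ) (Char2x2.uS 1)) e
    simp only [Char2x2.sigIrr_uS_one, Units.val_mk0] at e2
    rw [e2]
    exact ((Char2x2.half_data hodd hε).2.1 _ (half χ₁ h₁ d₁)).1

end Cfsg.Agent.S2324
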