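import Cfsg.Statements.S2332
import Cfsg.Agent.CrossChar56.SLExactMain
import Cfsg.Agent.CrossChar56.SLPerm
import Mathlib.LinearAlgebra.Projectivization.Action

set_option autoImplicit false
open Cfsg

namespace Cfsg.Agent.S2332

/-- Smallest degree of a non-linear irreducible complex representation of SL_n over a finite field with q elements, for n ≥ 3 and (n, q) not one of (3, 2), (3, 4), (4, 2), (4, 3): every irreducible complex representation of SL_n(F) of degree at least 2 has degree at least (q^n − q)/(q − 1), and there is an irreducible complex representation of exactly that degree. -/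
theorem result {F : Type*} [Field F] [Fintype F] [DecidableEq F] (n : ℕ) (hn : 3 ≤ n)
    (hex : (n, Fintype.card F) ≠ (3, 2) ∧ (n, Fintype.card F) ≠ (3, 4) ∧ (n, Fintype.card F) ≠ (4, 2) ∧ (n, Fintype.card F) ≠ (4, 3)) :
    (∀ (k : ℕ) (ρ : Representation ℂ (Matrix.SpecialLinearGroup (Fin n) F) (Fin k → ℂ)), ρ.IsIrreducible → 2 ≤ k → (Fintype.card F ^ n - Fintype.card F) / (Fintype.card F - 1) ≤ k) ∧
    (∃ ρ : Representation ℂ (Matrix.SpecialLinearGroup (Fin n) F) (Fin ((Fintype.card F ^ n - Fintype.card F) / (Fintype.card F - 1)) → ℂ), ρ.IsIrreducible) := by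
  classical
  obtain ⟨m, rfl⟩ : ∃ m, n = 1 + m := ⟨n - 1, by omega⟩
  set q := Fintype.card F with hq
  have hq2 : 2 ≤ q := Fintype.one_lt_card
  have hcard : ∀ (ι : Type) [Fintype ι], Nat.card (Projectivization F (ι → F)) =
      (q ^ Fintype.card ι - 1) / (q - 1) := by
    intro ι _
    rw [Projectivization.card'', Nat.card_fun, Nat.card_eq_fintype_card (α := F),
      Nat.card_eq_fintype_card (α := ι)]
  have hS : (q ^ (1 + m) - q) / (q - 1) + 1 = (q ^ (1 + m) - 1) / (q - 1) := by
    have hle : q ≤ q ^ (1 + m) := by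
      calc q = q ^ 1 := (pow_one q).symm
        _ ≤ _ := Nat.pow_le_pow_right (by omega) (by omega)
    rw [show q ^ (1 + m) - 1 = (q ^ (1 + m) - q) + (q - 1) by omega,
      Nat.add_div_right _ (by omega)]
  refine ⟨fun k ρ hρ hk => ?_, ?_⟩
  · let e : Matrix.SpecialLinearGroup (Fin 1 ⊕ Fin m) F ≃*
        Matrix.SpecialLinearGroup (Fin (1 + m)) F :=
      { toFun := fun A => ⟨Matrix.reindex finSumFinEquiv finSumFinEquiv A.1, by simp⟩
        invFun := fun A => ⟨Matrix.reindex finSumFinEquiv.symm finSumFinEquiv.symm A.1, by simp⟩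
        left_inv := fun A => by apply Subtype.ext; simp
        right_inv := fun A => by apply Subtype.ext; simp
        map_mul' := fun A B => by
          apply Subtype.ext
          show Matrix.reindex finSumFinEquiv finSumFinEquiv (A.1 * B.1) =
            Matrix.reindex finSumFinEquiv finSumFinEquiv A.1 *
              Matrix.reindex finSumFinEquiv finSumFinEquiv B.1
          simp [Matrix.submatrix_mul_equiv] }
    have hfix : ∀ y : Fin k → ℂ,
        (∀ g, Cfsg.Agent.CrossChar56.ap ((Cfsg.Agent.CrossChar56.toGLHom ρ).comp e.toMonoidHom) g y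
          = y) → y = 0 := by
      intro y hy
      by_contra hy0
      have hy' : ∀ g, ρ g y = y := by
        intro g
        have h := hy (e.symm g)
        simp [Cfsg.Agent.CrossChar56.ap, Cfsg.Agent.CrossChar56.toGLHom] at h
        rwa [show LinearMap.toMatrixAlgEquiv' (ρ g) = LinearMap.toMatrix' (ρ g) from rfl,
          LinearMap.toMatrix'_mulVec] at h
      haveI : IsSimpleOrder (Subrepresentation ρ) := hρ
      let T : Subrepresentation ρ := ⟨ℂ ∙ y, fun g w hw => by
        obtain ⟨c, rfl⟩ := Submodule.mem_span_singleton.mp hw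
        rw [map_smul, hy']
        exact Submodule.smul_mem _ _ (Submodule.mem_span_singleton_self y)⟩
      rcases IsSimpleOrder.eq_bot_or_eq_top T with h | h
      · apply hy0
        have h1 : y ∈ T.toSubmodule := Submodule.mem_span_singleton_self y
        rw [h] at h1
        exact (Submodule.mem_bot ℂ).mp h1
      · have h1 : Module.finrank ℂ T.toSubmodule ≤ 1 := (finrank_span_singleton hy0).le
        rw [h] at h1
        change Module.finrank ℂ (⊤ : Submodule ℂ (Fin k → ℂ)) ≤ 1 at h1
        rw [finrank_top, Module.finrank_fin_fun] at h1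
        omega
    obtain ⟨h32, h34, h42, h43⟩ := hex
    simp only [Ne, Prod.mk.injEq] at h32 h34 h42 h43
    rcases Cfsg.Agent.CrossChar56.SLExact.sl_exact
      ((Cfsg.Agent.CrossChar56.toGLHom ρ).comp e.toMonoidHom) (by omega)
      ⟨fun h => by constructor <;> omega, fun h => by constructor <;> omega⟩ hfix (by omega)
      with h | h
    · refine le_trans ?_ h
      rw [Nat.div_le_iff_le_mul_add_pred (by omega)]
      obtain ⟨s, hs⟩ : ∃ s, q = s + 2 := ⟨q - 2, by omega⟩
      obtain ⟨T, hT⟩ : ∃ T, q ^ m = T + 1 := ⟨q ^ m - 1, by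
        have : 1 ≤ q ^ m := Nat.one_le_pow _ _ (by omega)
        omega⟩
      have hpow : q ^ (1 + m) = (s + 2) * (T + 1) := by rw [pow_add, pow_one, hT, hs]
      rw [hpow, hT, hs, Nat.add_sub_cancel]
      have h1 : (s + 2) * (T + 1) = (s + 2) * T + (s + 2) := by ring
      have h3 : (s + 2) * T ≤ (s + 2 - 1) * (2 * T) := by
        rw [show s + 2 - 1 = s + 1 by omega]; nlinarith
      omega
    · rw [hcard, Fintype.card_sum, Fintype.card_fin, Fintype.card_fin] at h
      omega
  · refine Cfsg.Agent.CrossChar56.Perm.exists_irreducible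
      (X := Projectivization F (Fin (1 + m) → F)) ?_ ?_
    · rw [hcard, Fintype.card_fin]
      have hle : q ^ 2 ≤ q ^ (1 + m) := Nat.pow_le_pow_right (by omega) (by omega)
      rw [Nat.le_div_iff_mul_le (by omega)]
      have hp1 : 1 ≤ q ^ (1 + m) := Nat.one_le_pow _ _ (by omega)
      have h2q : 2 * q ≤ q ^ 2 := by nlinarith
      omega
    · rw [hcard, Fintype.card_fin]
      exact hS

end Cfsg.Agent.S2332
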