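import Cfsg.Statements.S2338
import Cfsg.Agent.Chev54.G2Deg.Cusp
import Cfsg.Agent.Chev54.G2Deg.Hecke
import Cfsg.Agent.Chev54.G2Deg.ThreeShort
import Mathlib.NumberTheory.LegendreSymbol.Complex
-- import your own Cfsg.Agent.* helpers here

set_option autoImplicit false
open Cfsg

namespace Cfsg.Agent.S2338

/-- Lower bounds for the degrees of non-linear irreducible complex representations of the Chevalley group of type G₂ over a finite field with q elements: the degree is at least q³ + 1 when q ≡ 1 (mod 3) and q > 4, at least q³ − 1 when q ≡ 2 (mod 3) and q > 2, and at least q⁴ + q² + 1 when q ≡ 0 (mod 3) and q > 3. -/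
theorem result {F : Type*} [Field F] [Fintype F] (k : ℕ) (ρ : Representation ℂ (Cfsg.Lie.chevG2.group F) (Fin k → ℂ)) (hρ : ρ.IsIrreducible) (hk : 2 ≤ k) :
    (Fintype.card F % 3 = 1 → 4 < Fintype.card F → Fintype.card F ^ 3 + 1 ≤ k) ∧
    (Fintype.card F % 3 = 2 → 2 < Fintype.card F → Fintype.card F ^ 3 - 1 ≤ k) ∧
    (Fintype.card F % 3 = 0 → 3 < Fintype.card F → Fintype.card F ^ 4 + Fintype.card F ^ 2 + 1 ≤ k) := by
  classical
  obtain ⟨ψ, hψ⟩ : ∃ ψ : AddChar F ℂ, ψ.IsPrimitive :=
    ⟨_, AddChar.FiniteField.primitiveChar_to_Complex_isPrimitive F⟩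
  let C : Cfsg.Agent.G2Deg54.Ctx F k := ⟨ρ, ψ, hψ⟩
  have hρ' : C.ρ.IsIrreducible := hρ
  have hnat : ∀ p : ℕ, Nat.Prime p → ((p : F) = 0 ↔ p ∣ Fintype.card F) := by
    intro p hp
    obtain ⟨r, hr⟩ := CharP.exists F
    haveI := hr
    have hrp := CharP.char_is_prime F r
    obtain ⟨m, -, hm⟩ := FiniteField.card F r
    rw [CharP.cast_eq_zero_iff F r]
    constructor
    · intro h
      rw [(Nat.prime_dvd_prime_iff_eq hrp hp).mp h] at hm
      exact hm ▸ dvd_pow_self p m.ne_zero
    · intro h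
      rw [hm] at h
      rw [(Nat.prime_dvd_prime_iff_eq hp hrp).mp (hp.dvd_of_dvd_pow h)]
  refine ⟨fun hmod hq => ?_, fun hmod hq => ?_, fun hmod hq => ?_⟩
  · have h3 : (3 : F) ≠ 0 := fun h => by
      have := (hnat 3 Nat.prime_three).mp (by exact_mod_cast h)
      omega
    by_contra hlt
    push Not at hlt
    have hS := C.small_of_lt h3 hρ' hk (by omega) (by omega)
    rcases Nat.eq_zero_or_pos (C.D 0 0 0 0) with h0 | h0
    · exact C.cusp_false hS h3 (by omega) hmod h0
    · exact C.hecke_false hS h3 hρ' hk (by omega) (le_antisymm hS.origin h0)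
  · have h3 : (3 : F) ≠ 0 := fun h => by
      have := (hnat 3 Nat.prime_three).mp (by exact_mod_cast h)
      omega
    rcases C.cube_sub_one_le h3 hρ' hk (by omega) with h | h
    · omega
    · exact h.2
  · have h3 : (3 : F) = 0 := by
      have := (hnat 3 Nat.prime_three).mpr (Nat.dvd_of_mod_eq_zero hmod)
      exact_mod_cast this
    have h9 : 9 ≤ Fintype.card F := by
      obtain ⟨r, hr⟩ := CharP.exists F
      haveI := hr
      have hrp := CharP.char_is_prime F r
      obtain ⟨m, -, hm⟩ := FiniteField.card F r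
      have h3r : 3 ∣ r := Nat.prime_three.dvd_of_dvd_pow (hm ▸ Nat.dvd_of_mod_eq_zero hmod)
      have hr3 : r = 3 := ((Nat.prime_dvd_prime_iff_eq Nat.prime_three hrp).mp h3r).symm
      subst hr3
      rw [hm] at hq ⊢
      rcases Nat.lt_or_ge (m : ℕ) 2 with h | h
      · have : (3 : ℕ) ^ (m : ℕ) ≤ 3 ^ 1 := Nat.pow_le_pow_right (by norm_num) (by omega)
        omega
      · exact le_trans (by norm_num) (Nat.pow_le_pow_right (by norm_num) h)
    by_contra hlt
    push Not at hlt
    have hS := C.small3_of_lt h3 hρ' hk h9 (by omega)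
    exact C.three_false hS h3 hρ' h9 (by omega)

end Cfsg.Agent.S2338
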