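import Cfsg.Statements.S2342
import Cfsg.Agent.CrossChar56.D4Deg.Main
import Cfsg.Agent.Twisted.Transfer
import Cfsg.Agent.Lib.CharClifford.Central

set_option autoImplicit false
open Cfsg

namespace Cfsg.Agent.S2342

/-- For the twisted group ³D₄(q), realised over the field with q³ elements (q a prime power), every irreducible complex representation of degree at least 2 has degree at least q(q⁴ − q² + 1). -/
theorem result {K : Type*} [Field K] [Fintype K] (q : ℕ) (hq : IsPrimePow q) (hK : Fintype.card K = q ^ 3) :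
    (∀ (k : ℕ) (ρ : Representation ℂ (Cfsg.Lie.twistedD4 K q) (Fin k → ℂ)), ρ.IsIrreducible → 2 ≤ k → q * (q ^ 4 - q ^ 2 + 1) ≤ k) := by
  intro k ρ hρ hk
  classical
  obtain ⟨hsimple, -⟩ := Cfsg.Agent.Twisted.TypeD4.simple (Cfsg.Agent.Twisted.TypeD4.frame₀ hq hK) hq hK
  haveI := hsimple
  haveI := hρ
  let e : ↥(Cfsg.Agent.CrossChar56.D4Deg.G₁ K q) ≃* ↥(Cfsg.Lie.twistedD4 K q) :=
    Cfsg.Agent.Twisted.genEquiv _ _ _
  obtain ⟨g₀, hg₀⟩ := Cfsg.Agent.CrossChar56.exists_ne_one_of_irreducible ρ hρ hk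
  let f := Cfsg.Agent.CrossChar56.toGLHom ρ
  have hf : Function.Injective f := by
    rw [← MonoidHom.ker_eq_bot_iff]
    refine (Subgroup.Normal.eq_bot_or_eq_top (MonoidHom.normal_ker f)).resolve_right fun h => hg₀ ?_
    exact (Cfsg.Agent.CrossChar56.toGLHom_eq_one_iff ρ g₀).1 (MonoidHom.mem_ker.1 (h ▸ Subgroup.mem_top g₀))
  refine Cfsg.Agent.CrossChar56.D4Deg.le_degree hq hK (f.comp e.toMonoidHom)
    (hf.comp e.injective) (fun v hv => ?_) ?_
  · by_contra hv0
    haveI : IsSimpleOrder (Subrepresentation ρ) := hρ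
    have hfix : ∀ g, ρ g v = v := fun g => by
      obtain ⟨g', rfl⟩ := e.surjective g
      have h := hv g'
      change ((Cfsg.Agent.CrossChar56.toGLHom ρ (e g') : GL (Fin k) ℂ) : Matrix (Fin k) (Fin k) ℂ).mulVec v = v at h
      rw [show ((Cfsg.Agent.CrossChar56.toGLHom ρ (e g') : GL (Fin k) ℂ) : Matrix (Fin k) (Fin k) ℂ) =
        LinearMap.toMatrix' (ρ (e g')) from rfl, LinearMap.toMatrix'_mulVec] at h
      exact h
    let S : Subrepresentation ρ :=
      ⟨Submodule.span ℂ {v}, fun g w hw => by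
        obtain ⟨c, rfl⟩ := Submodule.mem_span_singleton.1 hw
        rw [map_smul, hfix]
        exact hw⟩
    have h1 : v ∈ S.toSubmodule := Submodule.mem_span_singleton_self v
    rcases IsSimpleOrder.eq_bot_or_eq_top S with h | h
    · rw [h] at h1
      exact hv0 ((Submodule.mem_bot ℂ).mp h1)
    · have h2 : Module.finrank ℂ S.toSubmodule ≤ 1 := le_of_eq (finrank_span_singleton hv0)
      rw [h] at h2
      change Module.finrank ℂ (⊤ : Submodule ℂ (Fin k → ℂ)) ≤ 1 at h2
      rw [finrank_top, Module.finrank_fin_fun] at h2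
      omega
  · have h := Cfsg.Agent.CharClifford.finrank_dvd_card ρ
    rwa [Module.finrank_fin_fun, Cfsg.Agent.Twisted.TypeD4.card_G
      (Cfsg.Agent.Twisted.TypeD4.frame₀ hq hK) hq hK] at h

end Cfsg.Agent.S2342
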