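import Cfsg.Statements.S2343
import Cfsg.Agent.KnownSimple58.ReeDeg
import Cfsg.Agent.CrossChar56.SzBound
-- import your own Cfsg.Agent.* helpers here

set_option autoImplicit false
open Cfsg

namespace Cfsg.Agent.S2343

/-- For the Ree group ²G₂(q), q = 3^(2m+1) with m ≥ 1 (realised over the field with q elements), every irreducible complex representation of degree at least 2 has degree at least q² − q + 1. -/
theorem result {K : Type*} [Field K] [Fintype K] (m : ℕ) (hm : 1 ≤ m) (hK : Fintype.card K = 3 ^ (2 * m + 1)) :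
    (∀ (k : ℕ) (ρ : Representation ℂ (Cfsg.Lie.twistedG2 K (3 ^ m)) (Fin k → ℂ)), ρ.IsIrreducible → 2 ≤ k → (3 ^ (2 * m + 1)) ^ 2 - 3 ^ (2 * m + 1) + 1 ≤ k) := by
  intro k ρ hρ hk
  obtain ⟨g, hg⟩ := Cfsg.Agent.CrossChar56.exists_ne_one_of_irreducible ρ hρ hk
  let Z := Cfsg.Agent.Twisted.TypeG2.frame₀ hK
  let e := Cfsg.Agent.Twisted.genEquiv (Cfsg.Agent.Twisted.TypeG2.MT) (Cfsg.Agent.ChevGroup.relsOfCommGood Cfsg.Agent.ChevCore.commGoodG2 K) (Cfsg.Lie.g2Words K (3 ^ m))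
  refine Cfsg.Agent.Twisted.TypeG2.MinDegree.le_degree Z hK hm (ρ.comp e.toMonoidHom)
    ⟨e.symm g, ?_⟩
  show ρ (e (e.symm g)) ≠ 1
  exact fun h => hg (((congrArg ρ (e.apply_symm_apply g)).symm).trans h)

end Cfsg.Agent.S2343
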