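import Cfsg.Statements.S2362
import Cfsg.Agent.Spectra36.OrthOdd
import Cfsg.Agent.Lib.UnitaryOrthogonal.Standard
import Cfsg.Agent.KnownSimple58.SpElements

set_option autoImplicit false
open Cfsg

namespace Cfsg.Agent.S2362

open Cfsg.Agent

theorem exists_psp_order {F : Type*} [Field F] [Fintype F] {p : ℕ} [Fact p.Prime] [CharP F p]
    (hodd : Odd (Fintype.card F)) {m : ℕ} (hm : 1 ≤ m) :
    ∃ x : Cfsg.PSp (1 + m) F, orderOf x = p * (Fintype.card F ^ m + 1) := by
  classical
  have hp : p.Prime := Fact.out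
  have h2 : (2 : F) ≠ 0 := UnitaryOrthogonal.two_ne_zero_of_card_odd hodd
  obtain ⟨e, -, hqe⟩ := FiniteField.card F p
  have hpq : p ∣ Fintype.card F := by rw [hqe]; exact dvd_pow_self p e.pos.ne'
  have hp2 : p ≠ 2 := by
    rintro rfl
    exact h2 (by exact_mod_cast CharP.cast_eq_zero F 2)
  set N := Fintype.card F ^ m + 1 with hN
  have hpN : p.Coprime N := hp.coprime_iff_not_dvd.mpr fun h =>
    hp.not_dvd_one ((Nat.dvd_add_right (dvd_pow hpq (by omega))).mp h)
  obtain ⟨u₀, c, hu₀, hc⟩ := KS58.SpEl.exists_sp_unipotent (F := F) (b := 1) (p := p) h2 (d := 0) (by simp)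
  obtain ⟨u, hu⟩ := KS58.exists_orderOf_eq_of_dvd u₀ (hu₀ ▸ dvd_pow_self p (by omega) : p ∣ orderOf u₀)
  obtain ⟨z, hz⟩ := (KS58.SpEl.exists_sp_torus (F := F) hm).2
  rw [← hN] at hz
  let g : Symplectic.Sp (1 + m) F := KS58.SpEl.blockSum (u, z)
  have hg : orderOf g = p * N := by
    rw [orderOf_injective _ KS58.SpEl.blockSum_injective, Prod.orderOf, hu, hz]
    exact hpN.lcm_eq_mul
  refine ⟨QuotientGroup.mk' (Subgroup.center (Symplectic.Sp (1 + m) F)) g, ?_⟩
  refine Nat.dvd_antisymm (hg ▸ orderOf_map_dvd _ _) ?_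
  set k := orderOf (QuotientGroup.mk' (Subgroup.center (Symplectic.Sp (1 + m) F)) g)
  have hk : g ^ k ∈ Subgroup.center (Symplectic.Sp (1 + m) F) := by
    rw [← QuotientGroup.eq_one_iff]
    exact (map_pow (QuotientGroup.mk' _) g k).trans (pow_orderOf_eq_one _)
  rw [← hg]
  apply orderOf_dvd_of_pow_eq_one
  rcases Symplectic.mem_center_iff.mp hk with h | h
  · exact h
  exfalso
  have h' : KS58.SpEl.blockSum ((u, z) ^ k) =
      KS58.SpEl.blockSum ((Symplectic.negOne : Symplectic.Sp 1 F), (Symplectic.negOne : Symplectic.Sp m F)) := by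
    rw [map_pow, KS58.SpEl.blockSum_negOne]; exact h
  have h1 : u ^ k = Symplectic.negOne := congrArg Prod.fst (KS58.SpEl.blockSum_injective h')
  have hnn : (Symplectic.negOne : Symplectic.Sp 1 F) * Symplectic.negOne = 1 :=
    Symplectic.eq_of_smul_eq fun v => by
      rw [mul_smul, Symplectic.negOne_smul, Symplectic.negOne_smul, neg_neg, one_smul]
  have hup : (Symplectic.negOne : Symplectic.Sp 1 F) ^ p = 1 := by
    rw [← h1, ← pow_mul, mul_comm, pow_mul, ← hu, pow_orderOf_eq_one, one_pow]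
  have h3 := pow_gcd_eq_one.mpr ⟨hup, (sq (Symplectic.negOne : Symplectic.Sp 1 F)).trans hnn⟩
  rw [(Nat.coprime_primes hp Nat.prime_two).mpr hp2, pow_one] at h3
  have h4 := congrArg (fun M : Symplectic.Sp 1 F => M • (fun _ => (1 : F) : Symplectic.Vec 1 F)) h3
  simp only [Symplectic.negOne_smul, one_smul] at h4
  have h5 := congrFun h4 (Sum.inl 0)
  simp only [Pi.neg_apply] at h5
  exact h2 (by linear_combination -h5)

/-- Let F be a finite field of odd order and n ≥ 3. The simple orthogonal group PΩ(2n+1, F) (type B_n) and the projective symplectic group PSp(2n, F) (type C_n), which have the same order, do not have the same set of element orders. -/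
theorem result {F : Type*} [Field F] [Fintype F] (hodd : Odd (Fintype.card F)) (n : ℕ) (hn : 3 ≤ n) :
    Set.range (orderOf : Cfsg.POmega F (Cfsg.quadFormOdd n F) → ℕ) ≠ Set.range (orderOf : Cfsg.PSp n F → ℕ) := by
  classical
  obtain ⟨m, rfl⟩ : ∃ m, n = 1 + m := ⟨n - 1, by omega⟩
  obtain ⟨p, hchar⟩ := CharP.exists F
  haveI := hchar
  haveI : Fact p.Prime := ⟨CharP.char_is_prime F p⟩
  intro heq
  obtain ⟨x, hx⟩ := exists_psp_order (p := p) hodd (m := m) (by omega)
  obtain ⟨y, hy⟩ : (p * (Fintype.card F ^ m + 1)) ∈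
      Set.range (orderOf : Cfsg.POmega F (Cfsg.quadFormOdd (1 + m) F) → ℕ) := by
    rw [heq]; exact ⟨x, hx⟩
  obtain ⟨g, rfl⟩ := QuotientGroup.mk_surjective y
  have hdvd : p * (Fintype.card F ^ m + 1) ∣ orderOf g :=
    hy ▸ orderOf_map_dvd (QuotientGroup.mk' _) g
  haveI : Finite (Cfsg.Omega F (Cfsg.quadFormOdd (1 + m) F)) := inferInstance
  obtain ⟨g', hg'⟩ := KS58.exists_orderOf_eq_of_dvd g hdvd
  let e := UnitaryOrthogonal.isometryGroupEquiv (UnitaryOrthogonal.qOdd (1 + m) F)
    (UnitaryOrthogonal.qOdd_apply (1 + m))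
  have hmem : e g'.1 ∈ commutator _ := by
    have h : (e g'.1) ∈ (commutator _).map e.toMonoidHom := ⟨g'.1, g'.2, rfl⟩
    rw [commutator_def, Subgroup.map_commutator] at h
    exact Subgroup.commutator_mono le_top le_top h
  refine Spectra36.no_element_of_order (p := p) hodd (m := m) (by omega) ?_
    (UnitaryOrthogonal.PolarND.congr (UnitaryOrthogonal.qOddIso (1 + m) F).symm
      (UnitaryOrthogonal.PolarND.hypSum
        (UnitaryOrthogonal.polarND_sqForm (UnitaryOrthogonal.two_ne_zero_of_card_odd hodd)) _))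
    (e g'.1) hmem ?_
  · rw [Module.finrank_fintype_fun_eq_card]
    simp only [Fintype.card_sum, Fintype.card_unit, Fintype.card_fin]
    omega
  · rw [MulEquiv.orderOf_eq, Subgroup.orderOf_coe, hg']

end Cfsg.Agent.S2362
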