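import Cfsg.Statements.S2367
import Mathlib

set_option autoImplicit false
open Cfsg

namespace Cfsg.Agent.S2367

/-- the odd part of the exponent bound -/
theorem prime_le_thirteen {N p : ℕ} (hp : p.Prime)
    (hN : N ∣ 2 ^ 46 * 3 ^ 20 * 5 ^ 9 * 7 ^ 6 * 11 ^ 3 * 13 ^ 3 *
      (17 * 19 * 23 * 29 * 31 * 37 * 41 * 43 * 47 * 59 * 67 * 71))
    (h : p ^ 2 ∣ N) : p ≤ 13 := by
  by_contra hc
  push Not at hc
  have hd := h.trans hN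
  have hco : ∀ r k : ℕ, r.Prime → r ≤ 13 → Nat.Coprime (p ^ 2) (r ^ k) := fun r k hr hle =>
    Nat.Coprime.pow _ _ ((Nat.coprime_primes hp hr).mpr (by omega))
  have hK : Nat.Coprime (p ^ 2) (2 ^ 46 * 3 ^ 20 * 5 ^ 9 * 7 ^ 6 * 11 ^ 3 * 13 ^ 3) := by
    refine ((((Nat.Coprime.mul_right (Nat.Coprime.mul_right ?_ ?_) ?_).mul_right ?_).mul_right ?_).mul_right ?_) <;>
      refine hco _ _ (by norm_num) (by norm_num)
  have hP := hK.dvd_of_dvd_mul_left hd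
  have hpP : p ∣ 17 * 19 * 23 * 29 * 31 * 37 * 41 * 43 * 47 * 59 * 67 * 71 :=
    (dvd_pow_self p two_ne_zero).trans hP
  simp only [hp.dvd_mul] at hpP
  rcases hpP with ((((((((((h | h) | h) | h) | h) | h) | h) | h) | h) | h) | h) | h <;>
    rw [Nat.prime_dvd_prime_iff_eq hp (by norm_num)] at h <;> subst h <;> norm_num at hP

theorem alternating_bound {n p : ℕ} (hn : 5 ≤ n) (hp : p.Prime) (hodd : p ≠ 2)
    (h : n.factorial.factorization p = 3) : p ^ 3 < 2 ^ (n.factorial.factorization 2 - 1) := by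
  haveI := Fact.mk hp
  have hp2 := hp.two_le
  have hlog : Nat.log p n < n + 1 := Nat.lt_succ_of_le (Nat.log_le_self _ _)
  rw [Nat.factorization_def _ hp, padicValNat_factorial hlog] at h
  have hp5 : 5 ≤ p ∨ p = 3 := by
    rcases Nat.lt_or_ge p 5 with h5 | h5
    · interval_cases p <;> simp_all
      exact absurd hp (by norm_num)
    · exact Or.inl h5
  rcases hp5 with hp5 | rfl
  · have hn3 : 3 * p ≤ n := by
      by_contra hc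
      push Not at hc
      have h1 : ∑ i ∈ Finset.Ico 1 (n + 1), n / p ^ i = n / p := by
        rw [Finset.sum_eq_single 1]
        · simp
        · intro i hi hi1
          have h2 : 2 ≤ i := by have := (Finset.mem_Ico.mp hi).1; omega
          exact Nat.div_eq_of_lt (hc.trans_le (le_trans (by nlinarith) (Nat.pow_le_pow_right hp.pos h2)))
        · intro hh; simp at hh; omega
      have h3 : n / p < 3 := Nat.div_lt_of_lt_mul (by linarith)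
      omega
    have h2 : n / 2 + n / 4 ≤ n.factorial.factorization 2 := by
      haveI : Fact (Nat.Prime 2) := ⟨Nat.prime_two⟩
      rw [Nat.factorization_def _ Nat.prime_two,
        padicValNat_factorial (Nat.lt_succ_of_le (Nat.log_le_self 2 n))]
      calc n / 2 + n / 4 = ∑ i ∈ ({1, 2} : Finset ℕ), n / 2 ^ i := by simp
        _ ≤ _ := by
          refine Finset.sum_le_sum_of_subset (fun i hi => ?_)
          simp only [Finset.mem_insert, Finset.mem_singleton] at hi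
          rw [Finset.mem_Ico]; omega
    have key : ∀ k, (k + 5) ^ 3 < 2 ^ (2 * (k + 5) - 2) := by
      intro k
      induction k with
      | zero => norm_num
      | succ k ih =>
        rw [show 2 * (k + 1 + 5) - 2 = (2 * (k + 5) - 2) + 2 by omega, pow_add]
        have : (k + 1 + 5) ^ 3 ≤ 2 * (k + 5) ^ 3 := by nlinarith [sq_nonneg k, Nat.zero_le (k * k * k)]
        norm_num
        omega
    obtain ⟨k, rfl⟩ : ∃ k, p = k + 5 := ⟨p - 5, by omega⟩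
    refine (key k).trans_le (Nat.pow_le_pow_right two_pos ?_)
    omega
  · exfalso
    rcases Nat.lt_or_ge n 9 with h9 | h9
    · interval_cases n <;> simp [Finset.sum_Ico_succ_top] at h
    · have h1 : ∑ i ∈ ({1, 2} : Finset ℕ), n / 3 ^ i ≤ 3 := by
        refine (Finset.sum_le_sum_of_subset (fun i hi => ?_)).trans h.le
        simp only [Finset.mem_insert, Finset.mem_singleton] at hi
        rw [Finset.mem_Ico]; omega
      simp at h1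
      omega

theorem sporadic_bound {G : Type*} [Group G] (hG : Cfsg.IsSporadic G) {p : ℕ} (hp : p.Prime)
    (hodd : p ≠ 2) (h3 : (Nat.card G).factorization p = 3) :
    p ^ 3 < 2 ^ (Nat.card G).factorization 2 := by
  have H : ∃ N a, Nat.card G = N ∧ ((N = 7920 ∧ a = 4) ∨ (N = 95040 ∧ a = 6) ∨ (N = 443520 ∧ a = 7) ∨ (N = 10200960 ∧ a = 7) ∨ (N = 244823040 ∧ a = 10) ∨ (N = 175560 ∧ a = 3) ∨ (N = 604800 ∧ a = 7) ∨ (N = 50232960 ∧ a = 7) ∨ (N = 86775571046077562880 ∧ a = 21) ∨ (N = 4157776806543360000 ∧ a = 21) ∨ (N = 42305421312000 ∧ a = 18) ∨ (N = 495766656000 ∧ a = 10) ∨ (N = 64561751654400 ∧ a = 17) ∨ (N = 4089470473293004800 ∧ a = 18) ∨ (N = 1255205709190661721292800 ∧ a = 21) ∨ (N = 44352000 ∧ a = 9) ∨ (N = 898128000 ∧ a = 7) ∨ (N = 4030387200 ∧ a = 10) ∨ (N = 145926144000 ∧ a = 14) ∨ (N = 448345497600 ∧ a = 13) ∨ (N = 460815505920 ∧ a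 = 9) ∨ (N = 273030912000000 ∧ a = 14) ∨ (N = 51765179004000000 ∧ a = 8) ∨ (N = 90745943887872000 ∧ a = 15) ∨ (N = 4154781481226426191177580544000000 ∧ a = 41) ∨ (N = 808017424794512875886459904961710757005754368000000000 ∧ a = 46)) := by
    rcases hG with ⟨-, h⟩ | ⟨-, h⟩ | ⟨-, h⟩ | ⟨-, h⟩ | ⟨-, h⟩ | ⟨-, h⟩ | ⟨-, h⟩ | ⟨-, h⟩ | ⟨-, h⟩ | ⟨-, h⟩ | ⟨-, h⟩ | ⟨-, h⟩ | ⟨-, h⟩ | ⟨-, h⟩ | ⟨-, h⟩ | ⟨-, h⟩ | ⟨-, h⟩ | ⟨-, h⟩ | ⟨-, h⟩ | ⟨-, h⟩ | ⟨-, h⟩ | ⟨-, h⟩ | ⟨-, h⟩ | ⟨-, h⟩ | ⟨-, h⟩ | ⟨-, h⟩ <;> simp [h]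
  obtain ⟨N, a, hN, hcase⟩ := H
  rw [hN] at h3 ⊢
  have hN0 : N ≠ 0 := by rintro rfl; simp at h3
  have hd3 : p ^ 3 ∣ N := (hp.pow_dvd_iff_le_factorization hN0).mpr h3.ge
  have hd4 : ¬ p ^ 4 ∣ N := fun hh => by
    have := (hp.pow_dvd_iff_le_factorization hN0).mp hh; omega
  refine lt_of_lt_of_le (b := 2 ^ a) ?_ (Nat.pow_le_pow_right two_pos ?_)
  · have h13 : p ≤ 13 := by
      refine prime_le_thirteen hp ?_ ((pow_dvd_pow p (by norm_num)).trans hd3)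
      rcases hcase with ⟨rfl, rfl⟩ | ⟨rfl, rfl⟩ | ⟨rfl, rfl⟩ | ⟨rfl, rfl⟩ | ⟨rfl, rfl⟩ | ⟨rfl, rfl⟩ | ⟨rfl, rfl⟩ | ⟨rfl, rfl⟩ | ⟨rfl, rfl⟩ | ⟨rfl, rfl⟩ | ⟨rfl, rfl⟩ | ⟨rfl, rfl⟩ | ⟨rfl, rfl⟩ | ⟨rfl, rfl⟩ | ⟨rfl, rfl⟩ | ⟨rfl, rfl⟩ | ⟨rfl, rfl⟩ | ⟨rfl, rfl⟩ | ⟨rfl, rfl⟩ | ⟨rfl, rfl⟩ | ⟨rfl, rfl⟩ | ⟨rfl, rfl⟩ | ⟨rfl, rfl⟩ | ⟨rfl, rfl⟩ | ⟨rfl, rfl⟩ | ⟨rfl, rfl⟩ <;> norm_num
    have := hp.two_le
    rcases hcase with ⟨rfl, rfl⟩ | ⟨rfl, rfl⟩ | ⟨rfl, rfl⟩ | ⟨rfl, rfl⟩ | ⟨rfl, rfl⟩ | ⟨rfl, rfl⟩ | ⟨rfl, rfl⟩ | ⟨rfl, rfl⟩ | ⟨rfl, rfl⟩ | ⟨rfl, rfl⟩ | ⟨rfl, rfl⟩ | ⟨rfl, rfl⟩ | ⟨rfl, rfl⟩ | ⟨rfl, rfl⟩ | ⟨rfl, rfl⟩ | ⟨rfl, rfl⟩ | ⟨rfl, rfl⟩ | ⟨rfl, rfl⟩ | ⟨rfl, rfl⟩ | ⟨rfl, rfl⟩ | ⟨rfl, rfl⟩ | ⟨rfl, rfl⟩ | ⟨rfl, rfl⟩ | ⟨rfl, rfl⟩ | ⟨rfl, rfl⟩ | ⟨rfl, rfl⟩ <;>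
      (interval_cases p <;> norm_num at *)
  · refine (Nat.prime_two.pow_dvd_iff_le_factorization hN0).mp ?_
    rcases hcase with ⟨rfl, rfl⟩ | ⟨rfl, rfl⟩ | ⟨rfl, rfl⟩ | ⟨rfl, rfl⟩ | ⟨rfl, rfl⟩ | ⟨rfl, rfl⟩ | ⟨rfl, rfl⟩ | ⟨rfl, rfl⟩ | ⟨rfl, rfl⟩ | ⟨rfl, rfl⟩ | ⟨rfl, rfl⟩ | ⟨rfl, rfl⟩ | ⟨rfl, rfl⟩ | ⟨rfl, rfl⟩ | ⟨rfl, rfl⟩ | ⟨rfl, rfl⟩ | ⟨rfl, rfl⟩ | ⟨rfl, rfl⟩ | ⟨rfl, rfl⟩ | ⟨rfl, rfl⟩ | ⟨rfl, rfl⟩ | ⟨rfl, rfl⟩ | ⟨rfl, rfl⟩ | ⟨rfl, rfl⟩ | ⟨rfl, rfl⟩ | ⟨rfl, rfl⟩ <;> norm_num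

/-- Let G be an alternating group of degree at least 5 or a simple group with the order of one of the 26 sporadic groups, and let p be an odd prime such that p³ is the exact power of p dividing the order of G. Then p³ is less than the 2-part of the order of G. -/
theorem result {G : Type*} [Group G] [Finite G] (hG : Cfsg.IsAlternating G ∨ Cfsg.IsSporadic G)
    (p : ℕ) (hp : p.Prime) (hodd : p ≠ 2) (h3 : (Nat.card G).factorization p = 3) :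
    p ^ 3 < 2 ^ (Nat.card G).factorization 2 := by
  rcases hG with hA | hS
  · obtain ⟨n, hn, ⟨e⟩⟩ := hA
    haveI : Nontrivial (Fin n) := Fin.nontrivial_iff_two_le.mpr (by omega)
    have hc : 2 * Nat.card G = n.factorial := by
      rw [Nat.card_congr e.toEquiv, two_mul_nat_card_alternatingGroup, Nat.card_perm, Nat.card_fin]
    have h0 : Nat.card G ≠ 0 := fun h => by rw [h] at hc; simp at hc; exact n.factorial_ne_zero hc.symm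
    have hf := congrArg Nat.factorization hc
    rw [Nat.factorization_mul two_ne_zero h0] at hf
    have hfp := DFunLike.congr_fun hf p
    have hf2 := DFunLike.congr_fun hf 2
    simp only [Finsupp.add_apply, Nat.Prime.factorization Nat.prime_two] at hfp hf2
    rw [Finsupp.single_eq_of_ne hodd, h3, zero_add] at hfp
    rw [Finsupp.single_eq_same] at hf2
    have := alternating_bound hn hp hodd hfp.symm
    rwa [← hf2, Nat.add_sub_cancel_left] at this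
  · exact sporadic_bound hS hp hodd h3

end Cfsg.Agent.S2367
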