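import Cfsg.Statements.S2368
import Mathlib

set_option autoImplicit false
open Cfsg

namespace Cfsg.Agent.S2368

/-- Let F be a finite field of characteristic p and m ≥ 1. Every element of GL(m, F) of p-power order has order less than p·m, and GL(m, F) has an element of p-power order at least m; so the largest order of a p-element of GL(m, F) is the least power of p that is at least m. -/
theorem result {F : Type*} [Field F] [Fintype F] (p : ℕ) [Fact p.Prime] [CharP F p] (m : ℕ) (hm : 1 ≤ m) :
    (∀ g : Matrix.GeneralLinearGroup (Fin m) F, (∃ j : ℕ, orderOf g = p ^ j) → orderOf g < p * m) ∧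
      ∃ g : Matrix.GeneralLinearGroup (Fin m) F, (∃ j : ℕ, orderOf g = p ^ j) ∧ m ≤ orderOf g := by
  classical
  have hp : p.Prime := Fact.out
  refine ⟨?_, ?_⟩
  · rintro g ⟨j, hj⟩
    rw [hj]
    by_contra hcon
    push Not at hcon
    have hj1 : 1 ≤ j := by
      rcases Nat.eq_zero_or_pos j with h | h
      · subst h; simp at hcon; have := hp.two_le; nlinarith
      · exact h
    have hle : m ≤ p ^ (j - 1) := by
      rw [← Nat.sub_add_cancel hj1, pow_succ'] at hcon
      exact Nat.le_of_mul_le_mul_left hcon hp.pos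
    have hg : g ^ p ^ (j - 1) = 1 := by
      have h1 : ((g : Matrix (Fin m) (Fin m) F) - 1) ^ p ^ j = 0 := by
        haveI : Nonempty (Fin m) := ⟨⟨0, hm⟩⟩
        rw [sub_pow_char_pow_of_commute _ _ (Commute.one_right _), one_pow, ← Units.val_pow_eq_pow_val,
          ← hj, pow_orderOf_eq_one, Units.val_one, sub_self]
      have h2 : ((g : Matrix (Fin m) (Fin m) F) - 1) ^ m = 0 := by
        have hnil : IsNilpotent ((g : Matrix (Fin m) (Fin m) F) - 1) := ⟨_, h1⟩
        have := Matrix.isNilpotent_charpoly_sub_pow_of_isNilpotent hnil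
        rw [IsNilpotent] at hnil
        have h3 := Matrix.aeval_self_charpoly ((g : Matrix (Fin m) (Fin m) F) - 1)
        rw [(isNilpotent_iff_eq_zero).mp this |> sub_eq_zero.mp] at h3
        simpa using h3
      apply Units.ext
      have h4 : ((g : Matrix (Fin m) (Fin m) F) - 1) ^ p ^ (j - 1) = 0 :=
        pow_eq_zero_of_le hle h2
      haveI : Nonempty (Fin m) := ⟨⟨0, hm⟩⟩
      rw [sub_pow_char_pow_of_commute _ _ (Commute.one_right _), one_pow, sub_eq_zero] at h4
      rw [Units.val_pow_eq_pow_val, Units.val_one, h4]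
    have := orderOf_dvd_of_pow_eq_one hg
    rw [hj, Nat.pow_dvd_pow_iff_le_right hp.one_lt] at this
    omega
  · haveI : Nonempty (Fin m) := ⟨⟨0, hm⟩⟩
    let N : Matrix (Fin m) (Fin m) F := fun i j => if (i : ℕ) + 1 = (j : ℕ) then 1 else 0
    have hN : ∀ (k : ℕ) (i j : Fin m), (N ^ k) i j = if (i : ℕ) + k = (j : ℕ) then 1 else 0 := by
      intro k
      induction k with
      | zero => intro i j; simp [Matrix.one_apply, Fin.ext_iff]
      | succ k ih =>
        intro i j
        rw [pow_succ', Matrix.mul_apply]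
        simp only [ih]
        by_cases h : (i : ℕ) + 1 < m
        · rw [Finset.sum_eq_single ⟨(i : ℕ) + 1, h⟩]
          · simp [N, add_assoc, add_comm 1 k]
          · intro b _ hb
            simp [N, show ¬ (i : ℕ) + 1 = (b : ℕ) from fun e => hb (Fin.ext e.symm)]
          · simp
        · rw [if_neg (by have := j.2; omega)]
          refine Finset.sum_eq_zero fun b _ => ?_
          simp [N, show ¬ (i : ℕ) + 1 = (b : ℕ) from by have := b.2; omega]
    have hNm : N ^ m = 0 := by
      ext i j; rw [hN, if_neg (by have := j.2; omega)]; rfl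
    have hu : IsUnit (1 + N) := IsNilpotent.isUnit_one_add ⟨m, hNm⟩
    obtain ⟨g, hg⟩ := hu
    have hpow : ∀ k, ((g ^ p ^ k : GL (Fin m) F) : Matrix (Fin m) (Fin m) F) = 1 + N ^ p ^ k := by
      intro k
      rw [Units.val_pow_eq_pow_val, hg, add_pow_char_pow_of_commute _ _ (Commute.one_left _), one_pow]
    have hgp : g ^ p ^ m = 1 := by
      apply Units.ext
      rw [hpow, pow_eq_zero_of_le (Nat.lt_pow_self hp.one_lt).le hNm, add_zero, Units.val_one]
    obtain ⟨j, -, hj⟩ := (Nat.dvd_prime_pow hp).mp (orderOf_dvd_of_pow_eq_one hgp)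
    refine ⟨g, ⟨j, hj⟩, ?_⟩
    by_contra hlt
    push Not at hlt
    rw [hj] at hlt
    have h := congrArg Units.val (pow_orderOf_eq_one g)
    rw [hj, hpow, Units.val_one, add_eq_left] at h
    have h' := congrFun (congrFun h ⟨0, hm⟩) ⟨p ^ j, hlt⟩
    rw [hN] at h'
    simp at h'

end Cfsg.Agent.S2368
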