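import Cfsg.Statements.S2370
import Cfsg.Agent.Twisted.Exponent

set_option autoImplicit false
open Cfsg

namespace Cfsg.Agent.S2370

/-- Let q = 2^(2m+1) with m ≥ 1. Every element of 2-power order of the large Ree group ²F₄(q) has order at most 32. -/
theorem result {K : Type*} [Field K] [Fintype K] (m : ℕ) (hm : 1 ≤ m) (hK : Fintype.card K = 2 ^ (2 * m + 1))
    (x : ↥(Cfsg.Lie.twistedF4 K (2 ^ m))) (hx : ∃ j : ℕ, orderOf x = 2 ^ j) : orderOf x ≤ 32 := by
  obtain ⟨j, hj⟩ := hx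
  haveI : CharP K 2 := by
    obtain ⟨r, hr⟩ := CharP.exists K
    obtain ⟨n, hrp, hn⟩ := FiniteField.card K r
    obtain rfl : r = 2 := (Nat.prime_dvd_prime_iff_eq hrp Nat.prime_two).1
      (hrp.dvd_of_dvd_pow (n := 2 * m + 1) (hK ▸ hn ▸ dvd_pow_self r n.ne_zero))
    exact hr
  have hle : Cfsg.Lie.twistedF4 K (2 ^ m) ≤ Cfsg.Lie.chevF4.group K :=
    Agent.Twisted.genSubgroup_le_group Agent.ChevCore.commGoodF4.toGood _
  have h : orderOf (Subgroup.inclusion hle x) = orderOf x :=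
    orderOf_injective _ (Subgroup.inclusion_injective hle) x
  rw [← h]
  exact Agent.Twisted.f4_two_power_order _ (h.trans hj)

end Cfsg.Agent.S2370
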