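import Cfsg.Statements.S2372
import Cfsg.Agent.ChevTori.Arith
import Cfsg.Agent.ChevFixed.F4
import Cfsg.Agent.ChevGroup.Mat.OrderF4
import Cfsg.Agent.WeylGroup.F4

set_option autoImplicit false
open Cfsg

namespace Cfsg.Agent.S2372

open Cfsg.Agent.ChevGroup Cfsg.Agent.ChevGroup.TypeF4

set_option maxRecDepth 20000 in
/-- The group F₄(q) contains a cyclic subgroup of order q⁴ + 1 which is its own centralizer. -/
theorem result {F : Type*} [Field F] [Fintype F] (q : ℕ) (hF : Fintype.card F = q) :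
    ∃ H : Subgroup ↥(Cfsg.Lie.chevF4.group F), IsCyclic ↥H ∧ Nat.card ↥H = q ^ 4 + 1 ∧
      Subgroup.centralizer (H : Set ↥(Cfsg.Lie.chevF4.group F)) = H := by
  have hq : 2 ≤ q := hF ▸ Fintype.one_lt_card
  obtain ⟨r, hr, hrq, hlt, hdvd, hdvd1⟩ := ChevTori.exists_prime (q := q) (h := 8) hq (by norm_num) (by norm_num)
  haveI := Fact.mk hr
  have hr16 : 16 < r := by
    by_contra h
    interval_cases r <;> first | omega | norm_num at hr
  have hC : ChevCore.CommGood Cfsg.Lie.chevF4 := ChevCore.uGoodF4.toCommGood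
  have hA := torusFacts_of_good hC.toGood
  obtain ⟨C, h1, h2, h3⟩ := ChevTori.exists_cyclic_self_centralizing model ChevCore.uGoodF4 wit_ok
    longest_ok pos_span (F₀ := F) (q := q) (h := 8) (r := r) hF (by norm_num) (by decide) hrq
    (fun h => by
      have h1 : r ∣ 2 ^ 7 * 3 ^ 2 := (show (1152 : ℕ) = 2 ^ 7 * 3 ^ 2 by norm_num) ▸ WeylGroup.card_f4 ▸
        h.trans (ChevTori.weyl_card_dvd model (Mx := CoxeterMatrix.F₄) (by decide +kernel))
      rcases hr.dvd_mul.1 h1 with h2 | h2 <;>
        have := Nat.le_of_dvd (by norm_num) (hr.dvd_of_dvd_pow h2) <;> omega)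
    (by
      rw [card_group hA (relsOfCommGood hC F) hF]
      exact dvd_mul_of_dvd_left (dvd_mul_of_dvd_right hdvd _) _)
    (fun K _ _ hK => by
      refine ChevTori.index_of_degrees (ChevTori.cast_pow_eq_one hrq) (Nat.one_le_pow _ _ (by omega))
        (a := 24) [2, 6, 8, 12] (l := 4) rfl ?_ (hK ▸ ChevFixed.TypeF4.card_torus hA (relsOfCommGood hC K)) ?_
      · intro d hd
        simp only [List.mem_cons, List.not_mem_nil, or_false] at hd
        rcases hd with rfl | rfl | rfl | rfl <;> exact Nat.not_dvd_of_pos_of_lt (by norm_num) (by omega)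
      · rw [card_group hA (relsOfCommGood hC K) hK]
        simp [List.prod_cons, mul_assoc])
    (fun K _ _ => ChevFixed.TypeF4.card_torus hA (relsOfCommGood hC K))
  exact ⟨C, h1, h2.trans (ChevTori.Phi_eight q), h3⟩

end Cfsg.Agent.S2372
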