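import Cfsg.Statements.S2373
import Cfsg.Agent.ChevTori.SelfCent
import Cfsg.Agent.ChevTori.CharpolyE6
import Cfsg.Agent.ChevTori.Arith
import Cfsg.Agent.ChevGroup.Mat.OrderE6
import Cfsg.Agent.ChevGroup.Minuscule.All
import Cfsg.Agent.ChevGroup.Steinberg.All
import Cfsg.Agent.Lib.ChevCore.TorusCard
import Cfsg.Agent.WeylGroup.E6

set_option autoImplicit false
open Cfsg

namespace Cfsg.Agent.S2373

open Cfsg.Lie Cfsg.Agent.ChevGroup Cfsg.Agent.ChevTori Polynomial

theorem eval_cp (q : ℕ) :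
    ((cyclotomic 12 ℤ * cyclotomic 3 ℤ).eval (q : ℤ)).natAbs = (q ^ 4 - q ^ 2 + 1) * (q ^ 2 + q + 1) := by
  rw [E6Tor.cyclotomic_twelve, cyclotomic_three]
  simp only [eval_mul, eval_add, eval_sub, eval_pow, eval_X, eval_one, Int.natAbs_mul]
  congr 1
  have h : q ^ 2 ≤ q ^ 4 := by
    rcases Nat.eq_zero_or_pos q with rfl | hq
    · simp
    · exact Nat.pow_le_pow_right hq (by norm_num)
  rw [show ((q : ℤ) ^ 4 - (q : ℤ) ^ 2 + 1) = ((q ^ 4 - q ^ 2 + 1 : ℕ) : ℤ) by push_cast [h]; ring,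
    Int.natAbs_natCast]

theorem dvd_X12 : cyclotomic 12 ℤ * cyclotomic 3 ℤ ∣ (X : ℤ[X]) ^ 12 - 1 := by
  rw [E6Tor.cyclotomic_twelve, cyclotomic_three]
  exact ⟨(X - 1) * (X ^ 3 + 1) * (X ^ 2 + 1), by ring⟩

theorem cast_N {R : Type*} [CommRing R] (q : ℕ) :
    (((q ^ 4 - q ^ 2 + 1) * (q ^ 2 + q + 1) : ℕ) : R) =
      ((q : R) ^ 4 - (q : R) ^ 2 + 1) * ((q : R) ^ 2 + q + 1) := by
  have h : q ^ 2 ≤ q ^ 4 := by
    rcases Nat.eq_zero_or_pos q with rfl | hq
    · simp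
    · exact Nat.pow_le_pow_right hq (by norm_num)
  push_cast [h]
  ring

theorem card_tors_sub {n : ℕ} {M : Type*} [CommGroup M] (A : Matrix (Fin n) (Fin n) ℤ) (m : ℕ) :
    Nat.card {c : Fin n → M // ChevCore.mpow A c = 1 ∧ ∀ j, c j ^ m = 1} =
      Nat.card (ChevCore.mpow (M := (powMonoidHom m : M →* M).ker) A).ker := by
  have e : ∀ (c : Fin n → (powMonoidHom m : M →* M).ker) (j : Fin n),
      ChevCore.mpow A (fun i => (c i : M)) j =
        (((ChevCore.mpow (M := (powMonoidHom m : M →* M).ker) A c) j :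
          (powMonoidHom m : M →* M).ker) : M) := fun c j => by
    rw [ChevCore.mpow_apply, ChevCore.mpow_apply, SubmonoidClass.coe_finset_prod]
    rfl
  exact Nat.card_congr
    { toFun := fun c => ⟨fun i => ⟨c.1 i, c.2.2 i⟩, funext fun j => Subtype.ext
        ((e (fun i => ⟨c.1 i, c.2.2 i⟩) j).symm.trans (congrFun c.2.1 j))⟩
      invFun := fun c => ⟨fun i => (c.1 i : M), funext fun j =>
        (e c.1 j).trans (congrArg Subtype.val (congrFun c.2 j)), fun i => (c.1 i).2⟩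
      left_inv := fun c => rfl
      right_inv := fun c => rfl }

theorem not_nine_dvd (q : ℕ) : ¬ 9 ∣ (q ^ 4 - q ^ 2 + 1) * (q ^ 2 + q + 1) := by
  rw [← ZMod.natCast_eq_zero_iff, cast_N]
  generalize (q : ZMod 9) = x
  revert x
  decide

theorem not_four_dvd (q : ℕ) : ¬ 4 ∣ (q ^ 4 - q ^ 2 + 1) * (q ^ 2 + q + 1) := by
  rw [← ZMod.natCast_eq_zero_iff, cast_N]
  generalize (q : ZMod 4) = x
  revert x
  decide

theorem three_dvd_iff (q : ℕ) : 3 ∣ (q ^ 4 - q ^ 2 + 1) * (q ^ 2 + q + 1) ↔ (q : ZMod 3) = 1 := by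
  rw [← ZMod.natCast_eq_zero_iff, cast_N]
  generalize (q : ZMod 3) = x
  revert x
  decide

theorem sub_one_dvd (q : ℕ) (hq : 1 ≤ q) : Nat.gcd 3 (q - 1) = if (q : ZMod 3) = 1 then 3 else 1 := by
  have h : (q : ZMod 3) = 1 ↔ 3 ∣ q - 1 := by
    rw [← ZMod.natCast_eq_zero_iff, Nat.cast_sub hq, Nat.cast_one, sub_eq_zero]
  split_ifs with h1
  · exact Nat.gcd_eq_left (h.1 h1)
  · exact (Nat.prime_three.coprime_iff_not_dvd).2 fun e => h1 (h.2 e)

set_option maxHeartbeats 2000000 in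
/-- The group E₆(q) (the simple Chevalley group of type E₆) contains a cyclic subgroup of order (q⁴ − q² + 1)(q² + q + 1)/gcd(3, q − 1) which is its own centralizer. -/
theorem result {F : Type*} [Field F] [Fintype F] (q : ℕ) (hF : Fintype.card F = q) :
    ∃ H : Subgroup ↥(Cfsg.Lie.chevE6.group F), IsCyclic ↥H ∧ Nat.card ↥H = (q ^ 4 - q ^ 2 + 1) * (q ^ 2 + q + 1) / Nat.gcd 3 (q - 1) ∧
      Subgroup.centralizer (H : Set ↥(Cfsg.Lie.chevE6.group F)) = H := by
  classical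
  have hq2 : 2 ≤ q := hF ▸ Fintype.one_lt_card
  obtain ⟨r, hr, hrq, hlt, hdvd, -⟩ :=
    ChevTori.exists_prime (q := q) (h := 12) hq2 (by norm_num) (by norm_num)
  haveI := Fact.mk hr
  have hC : ChevCore.CommGood chevE6 := ChevCore.uGoodE6.toCommGood
  have hA := torusFacts_of_good hC.toGood
  have hgr : ∀ m : ℕ, ¬ r ∣ Nat.gcd 3 m := fun m h => by
    have h1 := Nat.le_of_dvd (Nat.gcd_pos_of_pos_left m (by norm_num)) h
    have h2 := Nat.le_of_dvd (by norm_num) (Nat.gcd_dvd_left 3 m)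
    omega
  set N := (q ^ 4 - q ^ 2 + 1) * (q ^ 2 + q + 1) with hNdef
  have hdiv : r ∣ Nat.card ↥(chevE6.group F) := by
    have h : r ∣ Nat.gcd 3 (q - 1) * Nat.card ↥(chevE6.group F) := by
      rw [TypeE6.card_group hA (relsOfCommGood hC F) hF]
      exact dvd_mul_of_dvd_right hdvd _
    exact (hr.dvd_mul.1 h).resolve_left (hgr _)
  have hW : ¬ r ∣ Nat.card (weyl E6Tor.mdl) := fun h => by
    have h1 : r ∣ 51840 := WeylGroup.card_e6 ▸
      h.trans (ChevTori.weyl_card_dvd E6Tor.mdl (Mx := CoxeterMatrix.E₆) (by decide +kernel))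
    have h2 : r ∣ 2 ^ 7 * (3 ^ 4 * 5) := by norm_num; exact h1
    rcases hr.dvd_mul.1 h2 with h3 | h3
    · have := Nat.le_of_dvd two_pos (hr.dvd_of_dvd_pow h3); omega
    rcases hr.dvd_mul.1 h3 with h4 | h4
    · have := Nat.le_of_dvd three_pos (hr.dvd_of_dvd_pow h4); omega
    · have := Nat.le_of_dvd (by norm_num) h4; omega
  have hker : ∀ (K : Type) [Field K] [Fintype K],
      Nat.card (Model.torusHom (F := K) chevE6).ker = Nat.gcd 3 (Fintype.card K - 1) := by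
    intro K _ _
    have h1 := Subgroup.card_mul_index (Model.torusHom (F := K) chevE6).ker
    rw [Subgroup.index_ker, ← E6Tor.mdl.diagonalSubgroup_eq hA (relsOfCommGood hC K)] at h1
    have h2 := ChevCore.card_diagonalE6 (F := K)
    rw [Nat.card_pi, Finset.prod_const, Finset.card_univ, Fintype.card_fin, Nat.card_eq_fintype_card (α := Kˣ),
      Fintype.card_units] at h1
    exact Nat.eq_of_mul_eq_mul_right Nat.card_pos (h1.trans h2.symm)
  obtain ⟨C, h1, h2, h3⟩ := ChevTori.exists_self_centralizing_of_charpoly E6Tor.mdl ChevCore.uGoodE6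
    TypeE6.wit_ok TypeE6.longest_ok TypeE6.pos_span Stb.certE6 (F₀ := F) (q := q) (h := 12) (r := r)
    (N := N) (d := Nat.gcd 3 (q - 1)) (f := cyclotomic 12 ℤ * cyclotomic 3 ℤ) hF (by norm_num) hrq hW hdiv
    (fun K _ _ hK => by
      obtain ⟨M, hM, hrM⟩ := ChevTori.index_of_degrees (r := r) (Q := q ^ 12) (a := 36) (l := 6)
        (G := Nat.gcd 3 (q ^ 12 - 1) * Nat.card ↥(chevE6.group K))
        (H := Nat.gcd 3 (q ^ 12 - 1) * Nat.card ↥(chevE6.diagonalSubgroup K))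
        (ChevTori.cast_pow_eq_one hrq) (Nat.one_le_pow _ _ (by omega)) [2, 5, 6, 8, 9, 12] rfl
        (fun d hd => Nat.not_dvd_of_pos_of_lt (by
          simp only [List.mem_cons, List.not_mem_nil, or_false] at hd; omega) (by
          simp only [List.mem_cons, List.not_mem_nil, or_false] at hd; omega))
        (by rw [← hK, ChevCore.card_diagonalE6]; rfl)
        (by
          rw [TypeE6.card_group hA (relsOfCommGood hC K) hK]
          simp [List.prod_cons, mul_assoc])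
      refine ⟨M, ?_, hrM⟩
      rw [mul_assoc] at hM
      exact Nat.eq_of_mul_eq_mul_left (Nat.gcd_pos_of_pos_left _ (by norm_num)) hM)
    (fun γ hγ h => E6Tor.charpoly_eq hγ h)
    (by
      have e : cartT E6Tor.mdl = E6Tor.C6 := Matrix.ext E6Tor.cartT_eq
      exact fun h => by
        have := (congrArg Matrix.det e).symm.trans h
        exact absurd (E6Tor.det_C6.symm.trans this) (by norm_num))
    (fun i => (E6Tor.cartT_eq i i).trans (by revert i; decide))
    (by rw [E6Tor.cyclotomic_twelve, cyclotomic_three]; simp)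
    dvd_X12 (eval_cp q)
    (Nat.mul_pos (Nat.succ_pos _) (Nat.succ_pos _)).ne'
    (by
      have h := Int.natAbs_dvd_natAbs.2 (eval_dvd (x := (q : ℤ)) dvd_X12)
      rw [eval_cp] at h
      refine h.trans (dvd_of_eq ?_)
      simp only [eval_sub, eval_pow, eval_X, eval_one]
      rw [show ((q : ℤ) ^ 12 - 1) = ((q ^ 12 - 1 : ℕ) : ℤ) by
        push_cast [Nat.one_le_pow 12 q (by omega)]; ring, Int.natAbs_natCast])
    (fun p hp hp12 => by
      have := Nat.le_of_dvd (by norm_num) hp12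
      obtain rfl | rfl : p = 2 ∨ p = 3 := by
        interval_cases p <;> first | omega | norm_num at hp
      · exact not_four_dvd q
      · exact not_nine_dvd q)
    (fun K _ => Minu.psi_injective _ Minu.tableE6 Minu.weightE6 Minu.spanE6)
    (fun K _ _ hK => by
      classical
      let Mq : Subgroup Kˣ := (powMonoidHom (q - 1)).ker
      have hMq : Nat.card Mq = q - 1 := by
        rw [IsCyclic.card_powMonoidHom_ker, Nat.card_eq_fintype_card, Fintype.card_units, hK]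
        exact Nat.gcd_eq_right (by simpa using Nat.sub_dvd_pow_sub_pow q 1 12)
      have hsm := ChevCore.card_ker_mpow (M := Mq) (A := E6Tor.C6)
        (U := (!![-1, 0, 0, 0, 0, 0; 0, -1, 0, 0, 0, 0; 1, -2, 0, -1, 0, 0; 2, -3, 0, -2, -1, 0; -2, 1, -1, 0, 0, 0; -5, 0, -4, -3, -2, -1] : Matrix (Fin 6) (Fin 6) ℤ))
        (U' := (!![-1, 0, 0, 0, 0, 0; 0, -1, 0, 0, 0, 0; 2, -1, 0, 0, -1, 0; -1, 2, -1, 0, 0, 0; 0, -1, 2, -1, 0, 0; 0, 0, -1, 2, 4, -1] : Matrix (Fin 6) (Fin 6) ℤ))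
        (V := (!![0, 0, 0, 0, 1, -2; 0, 0, 0, 0, 2, -3; 1, 0, 0, 0, 2, -4; 0, 1, 0, 0, 4, -6; 0, 0, 1, 0, 4, -5; 0, 0, 0, 1, 4, -4] : Matrix (Fin 6) (Fin 6) ℤ))
        (V' := (!![-2, 0, 1, 0, 0, 0; 0, -2, 0, 1, 0, 0; 2, -3, 0, 0, 1, 0; 4, -4, 0, 0, 0, 1; -3, 2, 0, 0, 0, 0; -2, 1, 0, 0, 0, 0] : Matrix (Fin 6) (Fin 6) ℤ))
        (d := ![1, 1, 1, 1, 1, 3]) (by decide +kernel) (by decide +kernel) (by decide +kernel) (by decide +kernel)
      rw [hMq] at hsm
      refine Eq.trans ?_ (hsm.trans ?_)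
      swap
      · simp [Fin.prod_univ_succ, Nat.gcd_comm]
      have e : cartT E6Tor.mdl = E6Tor.C6 := Matrix.ext E6Tor.cartT_eq
      exact (card_tors_sub (cartT E6Tor.mdl) (q - 1)).trans
        (congrArg (fun A : Matrix (Fin 6) (Fin 6) ℤ => Nat.card (ChevCore.mpow (M := Mq) A).ker) e))
    (fun K _ _ hK => by
      rw [hker K]
      refine Nat.Coprime.coprime_dvd_right (Nat.gcd_dvd_left _ _) ?_
      refine ((Nat.prime_three.coprime_iff_not_dvd).2 fun h => ?_).symm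
      rw [sub_one_dvd q (by omega)] at h
      split_ifs at h with h1
      · obtain ⟨m, hm⟩ := (three_dvd_iff q).2 h1
        rw [hNdef, hm, Nat.mul_div_cancel_left _ three_pos] at h
        exact not_nine_dvd q (hm ▸ Nat.mul_dvd_mul_left 3 h)
      · rw [Nat.div_one] at h
        exact h1 ((three_dvd_iff q).1 h))
  exact ⟨C, h1, h2, h3⟩

end Cfsg.Agent.S2373
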