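import Cfsg.Statements.S2374
import Cfsg.Agent.ChevTori.TorusE7
import Cfsg.Agent.WeylGroup.E7

set_option autoImplicit false
open Cfsg

namespace Cfsg.Agent.S2374

open Cfsg.Lie Cfsg.Agent.ChevGroup Cfsg.Agent.ChevTori

theorem weyl_not_dvd {r : ℕ} [Fact r.Prime] (h : 12 < r) : ¬ r ∣ Nat.card (weyl E7Tor.mdl) := fun hd => by
  have hr : r.Prime := Fact.out
  have h1 : r ∣ 2903040 := WeylGroup.card_e7 ▸
    hd.trans (ChevTori.weyl_card_dvd E7Tor.mdl (Mx := CoxeterMatrix.E₇) (by decide +kernel))
  have h2 : r ∣ 2 ^ 10 * (3 ^ 4 * (5 * 7)) := by norm_num; exact h1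
  rcases hr.dvd_mul.1 h2 with h3 | h3
  · have := Nat.le_of_dvd two_pos (hr.dvd_of_dvd_pow h3); omega
  rcases hr.dvd_mul.1 h3 with h4 | h4
  · have := Nat.le_of_dvd three_pos (hr.dvd_of_dvd_pow h4); omega
  rcases hr.dvd_mul.1 h4 with h5 | h5
  · have := Nat.le_of_dvd (by norm_num) h5; omega
  · have := Nat.le_of_dvd (by norm_num) h5; omega

/-- The group E₇(q) (the simple Chevalley group of type E₇) contains a cyclic subgroup of order (q⁴ − q² + 1)(q³ + 1)/gcd(2, q − 1) which is its own centralizer. -/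
theorem result {F : Type*} [Field F] [Fintype F] (q : ℕ) (hF : Fintype.card F = q) :
    ∃ H : Subgroup ↥(Cfsg.Lie.chevE7.group F), IsCyclic ↥H ∧ Nat.card ↥H = (q ^ 4 - q ^ 2 + 1) * (q ^ 3 + 1) / Nat.gcd 2 (q - 1) ∧
      Subgroup.centralizer (H : Set ↥(Cfsg.Lie.chevE7.group F)) = H := by
  classical
  have hq2 : 2 ≤ q := hF ▸ Fintype.one_lt_card
  obtain ⟨r, hr, hrq, hlt, hdvd, -⟩ :=
    ChevTori.exists_prime (q := q) (h := 12) hq2 (by norm_num) (by norm_num)
  haveI := Fact.mk hr
  obtain ⟨p, hchar₀⟩ := CharP.exists F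
  haveI : Fact p.Prime := ⟨(CharP.char_is_prime_or_zero F p).resolve_right fun e => by
    subst e
    haveI := CharP.charP_to_charZero F
    exact not_finite F⟩
  let K := FiniteField.Extension F p 12
  letI : Fintype K := Fintype.ofFinite K
  have hQ : Fintype.card K = q ^ 12 := by
    rw [← hF, ← Nat.card_eq_fintype_card, ← Nat.card_eq_fintype_card]
    exact FiniteField.natCard_extension F p 12
  let i : F →+* K := algebraMap F K
  let σ : K →+* K := (FiniteField.Extension.frob F p 12).toRingEquiv.toRingHom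
  have hσ : ∀ b, σ b = b ^ q := fun b => by
    rw [← hF, ← Nat.card_eq_fintype_card]
    exact FiniteField.Extension.frob_apply F p 12
  have hi : ∀ b, σ b = b ↔ ∃ y, i y = b := by
    intro b
    constructor
    · intro hb
      have hfix : ∀ g : Gal(K/F), g b = b := by
        intro g
        obtain ⟨m, -, rfl⟩ := FiniteField.Extension.exists_frob_pow_eq F p 12 g
        induction m with
        | zero => rfl
        | succ m ih =>
          rw [pow_succ', AlgEquiv.mul_apply, ih]
          exact hb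
      exact IsGalois.mem_range_algebraMap_iff_fixed b |>.2 hfix
    · rintro ⟨y, rfl⟩
      exact (FiniteField.Extension.frob F p 12).commutes y
  exact E7Tor.exists_torus hF hrq hlt hdvd (weyl_not_dvd hlt) σ i hσ hi hQ

end Cfsg.Agent.S2374
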