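import Cfsg.Statements.S2375
import Cfsg.Agent.ChevTori.Arith
import Cfsg.Agent.ChevFixed.E8
import Cfsg.Agent.ChevGroup.Mat.OrderE8
import Cfsg.Agent.WeylGroup.E8

set_option autoImplicit false
open Cfsg

namespace Cfsg.Agent.S2375

open Cfsg.Agent.ChevGroup Cfsg.Agent.ChevGroup.TypeE8

set_option maxRecDepth 20000 in
/-- The group E₈(q) contains a cyclic subgroup of order q⁸ + q⁷ − q⁵ − q⁴ − q³ + q + 1 which is its own centralizer. -/
theorem result {F : Type*} [Field F] [Fintype F] (q : ℕ) (hF : Fintype.card F = q) :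
    ∃ H : Subgroup ↥(Cfsg.Lie.chevE8.group F), IsCyclic ↥H ∧ Nat.card ↥H = q ^ 8 + q ^ 7 - q ^ 5 - q ^ 4 - q ^ 3 + q + 1 ∧
      Subgroup.centralizer (H : Set ↥(Cfsg.Lie.chevE8.group F)) = H := by
  have hq : 2 ≤ q := hF ▸ Fintype.one_lt_card
  obtain ⟨r, hr, hrq, hlt, hdvd, hdvd1⟩ := ChevTori.exists_prime (q := q) (h := 30) hq (by norm_num) (by norm_num)
  haveI := Fact.mk hr
  have hC : ChevCore.CommGood Cfsg.Lie.chevE8 := ChevCore.uGoodE8.toCommGood
  have hA := torusFacts_of_good hC.toGood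
  obtain ⟨C, h1, h2, h3⟩ := ChevTori.exists_cyclic_self_centralizing model ChevCore.uGoodE8 wit_ok
    longest_ok pos_span (F₀ := F) (q := q) (h := 30) (r := r) hF (by norm_num) (by decide +kernel) hrq
    (fun h => by
      have h1 : r ∣ 2 ^ 14 * 3 ^ 5 * 5 ^ 2 * 7 := (show (696729600 : ℕ) = 2 ^ 14 * 3 ^ 5 * 5 ^ 2 * 7 by norm_num) ▸
        WeylGroup.card_e8 ▸
        h.trans (ChevTori.weyl_card_dvd model (Mx := CoxeterMatrix.E₈) (by decide +kernel))
      rcases hr.dvd_mul.1 h1 with h2 | h2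
      · rcases hr.dvd_mul.1 h2 with h3 | h3
        · rcases hr.dvd_mul.1 h3 with h4 | h4 <;>
            have := Nat.le_of_dvd (by norm_num) (hr.dvd_of_dvd_pow h4) <;> omega
        · have := Nat.le_of_dvd (by norm_num) (hr.dvd_of_dvd_pow h3); omega
      · have := Nat.le_of_dvd (by norm_num) h2; omega)
    (by
      rw [card_group hA (relsOfCommGood hC F) hF]
      exact dvd_mul_of_dvd_right hdvd _)
    (fun K _ _ hK => by
      refine ChevTori.index_of_degrees (ChevTori.cast_pow_eq_one hrq) (Nat.one_le_pow _ _ (by omega))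
        (a := 120) [2, 8, 12, 14, 18, 20, 24, 30] (l := 8) rfl ?_
        (hK ▸ ChevFixed.TypeE8.card_torus hA (relsOfCommGood hC K)) ?_
      · intro d hd
        simp only [List.mem_cons, List.not_mem_nil, or_false] at hd
        rcases hd with rfl | rfl | rfl | rfl | rfl | rfl | rfl | rfl <;>
          exact Nat.not_dvd_of_pos_of_lt (by norm_num) (by omega)
      · rw [card_group hA (relsOfCommGood hC K) hK]
        simp [List.prod_cons, mul_assoc])
    (fun K _ _ => ChevFixed.TypeE8.card_torus hA (relsOfCommGood hC K))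
  exact ⟨C, h1, h2.trans (ChevTori.Phi_thirty hq), h3⟩

end Cfsg.Agent.S2375
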