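import Cfsg.Statements.S2376
import Cfsg.Agent.D4Triality.TorusMain
import Mathlib.FieldTheory.Finite.Extension

set_option autoImplicit false
open Cfsg

namespace Cfsg.Agent.S2376

open Cfsg.Agent.ChevGroup Cfsg.Agent.ChevIsogeny Cfsg.Lie Cfsg.Agent.Twisted Cfsg.Agent.Twisted.TypeD4
  Cfsg.Agent.D4Triality.Torus

/-- The group ³D₄(q) contains a cyclic subgroup of order (q³ − 1)(q + 1) which is its own centralizer. -/
theorem result {K : Type*} [Field K] [Fintype K] (q : ℕ) (hq : IsPrimePow q) (hK : Fintype.card K = q ^ 3) :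
    ∃ H : Subgroup ↥(Cfsg.Lie.twistedD4 K q), IsCyclic ↥H ∧ Nat.card ↥H = (q ^ 3 - 1) * (q + 1) ∧
      Subgroup.centralizer (H : Set ↥(Cfsg.Lie.twistedD4 K q)) = H := by
  classical
  obtain ⟨hadd0, hint0, -⟩ := qpow_hom hq hK
  have hq2 : 2 ≤ q := hq.two_le
  obtain ⟨p, j, hp, hchar, hqp, -⟩ := exists_char_pow hq hK
  haveI := hchar
  haveI : Fact p.Prime := ⟨hp⟩
  let L := FiniteField.Extension K p 2
  letI : Fintype L := Fintype.ofFinite L
  have hL : Fintype.card L = q ^ 6 := by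
    rw [← Nat.card_eq_fintype_card, FiniteField.natCard_extension K p 2, Nat.card_eq_fintype_card, hK,
      ← pow_mul]
  let ι : K →+* L := algebraMap K L
  obtain ⟨hadd, hint, -⟩ := qpow_hom (F := L) hq hL
  have ZK : Frame (T := MT) (KL K) PP q fd := frameExt hadd0 hint0
  have ZL : Frame (T := MT) (KL L) PP q fd := frameExt hadd hint
  have hfix : ∀ z : L, z ^ (q ^ 3) = z → ∃ y, ι y = z := by
    intro z hz
    refine (IsGalois.mem_range_algebraMap_iff_fixed z).2 fun g => ?_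
    obtain ⟨m, -, rfl⟩ := FiniteField.Extension.exists_frob_pow_eq K p 2 g
    induction m with
    | zero => rfl
    | succ m ih =>
      rw [pow_succ', AlgEquiv.mul_apply, ih, FiniteField.Extension.frob_apply, Nat.card_eq_fintype_card,
        hK]
      exact hz
  set N : ℕ := (q ^ 3 - 1) * (q + 1) with hN
  have hNcast : (N : ℤ) = ordT q := by
    rw [hN, ordT]
    push_cast [Nat.one_le_pow 3 q (by omega)]
    ring
  have hdvd : N ∣ Nat.card Lˣ := by
    rw [Nat.card_units, Nat.card_eq_fintype_card, hL, hN]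
    refine ⟨q ^ 2 - q + 1, ?_⟩
    zify [Nat.one_le_pow 3 q (by omega), Nat.one_le_pow 6 q (by omega),
      show q ≤ q ^ 2 from Nat.le_self_pow (by norm_num) q]
    ring
  obtain ⟨g, hg⟩ := IsCyclic.exists_generator (α := Lˣ)
  have hgo := orderOf_eq_card_of_forall_mem_zpowers hg
  obtain ⟨m, hm⟩ := hdvd
  have hm0 : m ≠ 0 := fun h => Nat.card_pos.ne' (hm.trans (by simp [h]))
  have hω : orderOf (g ^ m) = N := by
    rw [orderOf_pow, hgo, hm, Nat.gcd_mul_left_left, Nat.mul_div_cancel _ (Nat.pos_of_ne_zero hm0)]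
  obtain ⟨h, δ, τ, hx, hδ, hτ, hord, hcent⟩ := core ZL hq2 hadd (g ^ m) (by rw [hω, hNcast])
  have hq3 : ∀ z : L, z ^ q = z → z ^ (q ^ 3) = z := by
    intro z hz
    rw [show q ^ 3 = q * q * q by ring, pow_mul, pow_mul, hz, hz, hz]
  obtain ⟨δ₀, rfl⟩ := hfix δ (hq3 δ hδ)
  obtain ⟨τ₀, rfl⟩ := hfix τ (hq3 τ hτ)
  obtain ⟨x₀, hx₀⟩ := hfix (((g ^ m) ^ h : Lˣ) : L) (by rw [← Units.val_pow_eq_pow_val, hx])
  have hx0 : x₀ ≠ 0 := fun e => Units.ne_zero ((g ^ m) ^ h) (by rw [← hx₀, e, map_zero])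
  have hδ0 : δ₀ ^ q = δ₀ := ι.injective (by rw [map_pow, hδ])
  have hτ0 : τ₀ ^ q = τ₀ := ι.injective (by rw [map_pow, hτ])
  let t₀ : ↥(chevD4.group K) := telt δ₀ τ₀ (cvec q (Units.mk0 x₀ hx0) 1)
  have ht₀ : t₀ ∈ genG MT (KL K) (d4Words K q) := by
    have hm1 : ∀ a : K, a ^ q = a → (-a) ^ q = -a ∧ a⁻¹ ^ q = a⁻¹ := by
      intro a ha
      refine ⟨?_, by rw [inv_pow, ha]⟩
      rw [neg_eq_neg_one_mul, mul_pow, ha]
      congr 1
      simpa using hint0 (-1)
    refine mul_mem (mul_mem (mul_mem (gen1_mem ZK (hm1 _ hδ0).1).1 (gen1_mem ZK (hm1 _ hδ0).2).2)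
      (gen1_mem ZK ?_).1) (torus_mem ZK hq hK _ (sig_cvec ZK hq hK _ _ (one_pow q)))
    rw [mul_pow, hδ0]
    congr 1
    have := hadd0 (τ₀ - 1) 1
    rw [sub_add_cancel, one_pow, hτ0] at this
    linear_combination -this
  have hmap : ChevFixed.mapGroup ι t₀ =
      telt (ι δ₀) (ι τ₀) (cpow (g ^ m) ![h, 0, q * h, (q : ℤ) ^ 2 * h]) := by
    have hc : (fun i => Units.map ι.toMonoidHom (cvec q (Units.mk0 x₀ hx0) 1 i)) =
        cpow (g ^ m) ![h, 0, q * h, (q : ℤ) ^ 2 * h] := by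
      have hu : Units.map ι.toMonoidHom (Units.mk0 x₀ hx0) = (g ^ m) ^ h := Units.ext hx₀
      funext i
      match i with
      | 0 => exact hu
      | 1 => exact (map_one _).trans (zpow_zero (g ^ m)).symm
      | 2 =>
        show Units.map ι.toMonoidHom ((Units.mk0 x₀ hx0) ^ q) = (g ^ m) ^ ((q : ℤ) * h)
        rw [map_pow, hu, mul_comm, zpow_mul, zpow_natCast]
      | 3 =>
        show Units.map ι.toMonoidHom ((Units.mk0 x₀ hx0) ^ (q ^ 2)) = (g ^ m) ^ ((q : ℤ) ^ 2 * h)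
        rw [map_pow, hu, mul_comm, zpow_mul, ← Nat.cast_pow, zpow_natCast]
    simp only [t₀, telt, map_mul, map_x, map_tor, hc, map_neg, map_inv₀, map_sub, map_one]
  have hGG : ∀ y : ↥(chevD4.group K), y ∈ genG MT (KL K) (d4Words K q) ↔
      (y : GL chevD4.Idx K) ∈ twistedD4 K q := by
    intro y
    rw [twistedD4, ← genG_map (T := MT) (K := KL K)]
    exact (Subgroup.mem_map_iff_mem Subtype.coe_injective).symm
  have hle : ∀ y : ↥(twistedD4 K q), (y : GL chevD4.Idx K) ∈ chevD4.group K := fun y => by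
    have : twistedD4 K q ≤ chevD4.group K := by
      rw [twistedD4, ← genG_map (T := MT) (K := KL K)]
      exact Subgroup.map_subtype_le _
    exact this y.2
  let t : ↥(twistedD4 K q) := ⟨(t₀ : GL chevD4.Idx K), (hGG t₀).1 ht₀⟩
  have hto : N ∣ orderOf t := by
    rw [← hω]
    refine hord (orderOf t) ?_
    rw [← hmap, ← map_pow]
    have e : t₀ ^ orderOf t = 1 := by
      refine Subtype.ext ?_
      have := congrArg Subtype.val (pow_orderOf_eq_one t)
      rwa [SubgroupClass.coe_pow] at this ⊢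
    rw [e, map_one]
  let f : ↥(Subgroup.centralizer ({t} : Set ↥(twistedD4 K q))) →
      {y : ↥(chevD4.group L) // ZL.σ y = y ∧
        y * telt (ι δ₀) (ι τ₀) (cpow (g ^ m) ![h, 0, q * h, (q : ℤ) ^ 2 * h]) =
          telt (ι δ₀) (ι τ₀) (cpow (g ^ m) ![h, 0, q * h, (q : ℤ) ^ 2 * h]) * y} :=
    fun y => ⟨ChevFixed.mapGroup ι ⟨_, hle y.1⟩, by
      rw [σ_map ι ZK ZL, fixed_gen ZK hq hK _ ((hGG _).2 y.1.2)], by
      rw [← hmap, ← map_mul, ← map_mul]
      refine congrArg _ (Subtype.ext ?_)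
      have hy : y.1 * t = t * y.1 := Subgroup.mem_centralizer_singleton_iff.1 y.2
      exact congrArg (fun z : ↥(twistedD4 K q) => (z : GL chevD4.Idx K)) hy⟩
  have hf : Function.Injective f := fun a b e => by
    have := congrArg (fun z : ↥(chevD4.group K) => (z : GL chevD4.Idx K))
      (ChevFixed.mapGroup_injective ι (congrArg Subtype.val e))
    exact Subtype.ext (Subtype.ext this)
  have hcard : Nat.card ↥(Subgroup.centralizer ({t} : Set ↥(twistedD4 K q))) ≤ N :=
    hω ▸ (Nat.card_le_card_of_injective f hf).trans hcent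
  have hzle : Subgroup.zpowers t ≤ Subgroup.centralizer ({t} : Set ↥(twistedD4 K q)) := by
    rw [Subgroup.zpowers_le, Subgroup.mem_centralizer_singleton_iff]
  have hNle : N ≤ orderOf t := Nat.le_of_dvd (orderOf_pos t) hto
  have heq : Subgroup.zpowers t = Subgroup.centralizer ({t} : Set ↥(twistedD4 K q)) :=
    Subgroup.eq_of_le_of_card_ge hzle (by rw [Nat.card_zpowers]; omega)
  refine ⟨Subgroup.zpowers t, inferInstance, ?_, ?_⟩
  · have := Subgroup.card_le_of_le hzle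
    rw [Nat.card_zpowers] at this ⊢
    omega
  · refine le_antisymm ?_ ?_
    · conv_rhs => rw [heq]
      exact Subgroup.centralizer_le (Set.singleton_subset_iff.2 (Subgroup.mem_zpowers t))
    · intro y hy z hz
      obtain ⟨k, rfl⟩ := Subgroup.mem_zpowers_iff.1 hy
      obtain ⟨l, rfl⟩ := Subgroup.mem_zpowers_iff.1 hz
      exact zpow_mul_comm t l k

end Cfsg.Agent.S2376
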