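import Cfsg.Statements.S2378
import Cfsg.Agent.ChevTori.SylowArith
import Cfsg.Agent.ChevGroup.Mat.OrderG2
import Cfsg.Agent.WeylGroup.G2
import Cfsg.Agent.ChevGroup.Mat.OrderB2
import Cfsg.Agent.WeylGroup.B2
import Cfsg.Agent.ChevGroup.Mat.OrderD4
import Cfsg.Agent.WeylGroup.D4
import Cfsg.Agent.ChevGroup.Mat.OrderF4
import Cfsg.Agent.WeylGroup.F4
import Cfsg.Agent.ChevGroup.Mat.OrderE6
import Cfsg.Agent.WeylGroup.E6
import Cfsg.Agent.ChevGroup.Mat.OrderE7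
import Cfsg.Agent.WeylGroup.E7
import Cfsg.Agent.ChevGroup.Mat.OrderE8
import Cfsg.Agent.WeylGroup.E8

set_option autoImplicit false
open Cfsg

namespace Cfsg.Agent.S2378

open Cfsg.Agent.ChevGroup

universe u

set_option maxRecDepth 20000 in
set_option maxHeartbeats 1000000 in
theorem sylow_G2 {F : Type u} [Field F] [Fintype F] {q : ℕ} (hq : Fintype.card F = q) (r : ℕ) [Fact r.Prime]
    (hrq : ¬ r ∣ q) (hrW : ¬ r ∣ ([2, 6] : List ℕ).prod) (hrG : r ∣ Nat.card ↥(Cfsg.Lie.chevG2.group F))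
    (P : Sylow r ↥(Cfsg.Lie.chevG2.group F)) :
    Nonempty (↥(P : Subgroup ↥(Cfsg.Lie.chevG2.group F)) ≃*
      (Fin (([2, 6] : List ℕ).filter (fun e => orderOf (q : ZMod r) ∣ e)).length →
        Multiplicative (ZMod (r ^ padicValNat r ((Polynomial.cyclotomic (orderOf (q : ZMod r)) ℤ).eval (q : ℤ)).natAbs)))) := by
  have hC := ChevCore.uGoodG2.toCommGood
  have hA := torusFacts_of_good hC.toGood
  refine ChevTori.sylow_of_order Cfsg.Agent.ChevGroup.TypeG2.model ChevCore.uGoodG2 Cfsg.Agent.ChevGroup.TypeG2.wit_ok Cfsg.Agent.ChevGroup.TypeG2.longest_ok Cfsg.Agent.ChevGroup.TypeG2.pos_span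
    (Mx := CoxeterMatrix.G₂) (by decide +kernel) [2, 6] rfl (WeylGroup.card_g2.trans (by norm_num)) 6 1
    (by norm_num) (!![2, 1; 3, 2] : Matrix (Fin 2) (Fin 2) ℤ) (by decide +kernel) (fun q => 1) ?_ ?_ ?_
    (by norm_num) hq r hrq hrW hrG P
  · intro q _
    exact ⟨one_ne_zero, fun r hr h => absurd (Nat.dvd_one.1 h) hr.ne_one⟩
  all_goals
    intro K _ _ Q hQ
    simpa [List.prod_cons, mul_assoc] using Cfsg.Agent.ChevGroup.TypeG2.card_group hA (relsOfCommGood hC K) hQ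

set_option maxRecDepth 20000 in
set_option maxHeartbeats 1000000 in
theorem sylow_B2 {F : Type u} [Field F] [Fintype F] {q : ℕ} (hq : Fintype.card F = q) (r : ℕ) [Fact r.Prime]
    (hrq : ¬ r ∣ q) (hrW : ¬ r ∣ ([2, 4] : List ℕ).prod) (hrG : r ∣ Nat.card ↥(Cfsg.Lie.chevB2.group F))
    (P : Sylow r ↥(Cfsg.Lie.chevB2.group F)) :
    Nonempty (↥(P : Subgroup ↥(Cfsg.Lie.chevB2.group F)) ≃*
      (Fin (([2, 4] : List ℕ).filter (fun e => orderOf (q : ZMod r) ∣ e)).length →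
        Multiplicative (ZMod (r ^ padicValNat r ((Polynomial.cyclotomic (orderOf (q : ZMod r)) ℤ).eval (q : ℤ)).natAbs)))) := by
  have hC := ChevCore.uGoodB2.toCommGood
  have hA := torusFacts_of_good hC.toGood
  refine ChevTori.sylow_of_order Cfsg.Agent.ChevGroup.TypeB2.model ChevCore.uGoodB2 Cfsg.Agent.ChevGroup.TypeB2.wit_ok Cfsg.Agent.ChevGroup.TypeB2.longest_ok Cfsg.Agent.ChevGroup.TypeB2.pos_span
    (Mx := CoxeterMatrix.B 2) (by decide +kernel) [2, 4] rfl (WeylGroup.card_b2.trans (by norm_num)) 4 2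
    (by norm_num) (!![2, 1; 2, 2] : Matrix (Fin 2) (Fin 2) ℤ) (by decide +kernel) (fun q => Nat.gcd 2 (q - 1)) ?_ ?_ ?_
    (by norm_num) hq r hrq hrW hrG P
  · intro q _
    exact ⟨(Nat.gcd_pos_of_pos_left _ two_pos).ne', fun r _ h => (h.trans (Nat.gcd_dvd_left _ _)).trans (by norm_num)⟩
  all_goals
    intro K _ _ Q hQ
    simpa [List.prod_cons, mul_assoc] using Cfsg.Agent.ChevGroup.TypeB2.card_group hA (relsOfCommGood hC K) hQ

set_option maxRecDepth 20000 in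
set_option maxHeartbeats 1000000 in
theorem sylow_D4 {F : Type u} [Field F] [Fintype F] {q : ℕ} (hq : Fintype.card F = q) (r : ℕ) [Fact r.Prime]
    (hrq : ¬ r ∣ q) (hrW : ¬ r ∣ ([2, 4, 4, 6] : List ℕ).prod) (hrG : r ∣ Nat.card ↥(Cfsg.Lie.chevD4.group F))
    (P : Sylow r ↥(Cfsg.Lie.chevD4.group F)) :
    Nonempty (↥(P : Subgroup ↥(Cfsg.Lie.chevD4.group F)) ≃*
      (Fin (([2, 4, 4, 6] : List ℕ).filter (fun e => orderOf (q : ZMod r) ∣ e)).length →
        Multiplicative (ZMod (r ^ padicValNat r ((Polynomial.cyclotomic (orderOf (q : ZMod r)) ℤ).eval (q : ℤ)).natAbs)))) := by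
  have hC := ChevCore.uGoodD4.toCommGood
  have hA := torusFacts_of_good hC.toGood
  refine ChevTori.sylow_of_order Cfsg.Agent.ChevGroup.TypeD4.model ChevCore.uGoodD4 Cfsg.Agent.ChevGroup.TypeD4.wit_ok Cfsg.Agent.ChevGroup.TypeD4.longest_ok Cfsg.Agent.ChevGroup.TypeD4.pos_span
    (Mx := Cfsg.Lie.coxeterD4) (by decide +kernel) [2, 4, 4, 6] rfl (WeylGroup.card_d4.trans (by norm_num)) 12 2
    (by norm_num) (!![2, 2, 1, 1; 2, 4, 2, 2; 1, 2, 2, 1; 1, 2, 1, 2] : Matrix (Fin 4) (Fin 4) ℤ) (by decide +kernel) (fun q => Nat.gcd 2 (q - 1) * Nat.gcd 2 (q - 1)) ?_ ?_ ?_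
    (by norm_num) hq r hrq hrW hrG P
  · intro q _
    exact ⟨(Nat.mul_pos (Nat.gcd_pos_of_pos_left _ two_pos) (Nat.gcd_pos_of_pos_left _ two_pos)).ne', fun r _ h => (h.trans (Nat.mul_dvd_mul (Nat.gcd_dvd_left _ _) (Nat.gcd_dvd_left _ _))).trans (by norm_num)⟩
  all_goals
    intro K _ _ Q hQ
    simpa [List.prod_cons, mul_assoc] using Cfsg.Agent.ChevGroup.TypeD4.card_group hA (relsOfCommGood hC K) hQ

set_option maxRecDepth 20000 in
set_option maxHeartbeats 1000000 in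
theorem sylow_F4 {F : Type u} [Field F] [Fintype F] {q : ℕ} (hq : Fintype.card F = q) (r : ℕ) [Fact r.Prime]
    (hrq : ¬ r ∣ q) (hrW : ¬ r ∣ ([2, 6, 8, 12] : List ℕ).prod) (hrG : r ∣ Nat.card ↥(Cfsg.Lie.chevF4.group F))
    (P : Sylow r ↥(Cfsg.Lie.chevF4.group F)) :
    Nonempty (↥(P : Subgroup ↥(Cfsg.Lie.chevF4.group F)) ≃*
      (Fin (([2, 6, 8, 12] : List ℕ).filter (fun e => orderOf (q : ZMod r) ∣ e)).length →
        Multiplicative (ZMod (r ^ padicValNat r ((Polynomial.cyclotomic (orderOf (q : ZMod r)) ℤ).eval (q : ℤ)).natAbs)))) := by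
  have hC := ChevCore.uGoodF4.toCommGood
  have hA := torusFacts_of_good hC.toGood
  refine ChevTori.sylow_of_order Cfsg.Agent.ChevGroup.TypeF4.model ChevCore.uGoodF4 Cfsg.Agent.ChevGroup.TypeF4.wit_ok Cfsg.Agent.ChevGroup.TypeF4.longest_ok Cfsg.Agent.ChevGroup.TypeF4.pos_span
    (Mx := CoxeterMatrix.F₄) (by decide +kernel) [2, 6, 8, 12] rfl (WeylGroup.card_f4.trans (by norm_num)) 24 1
    (by norm_num) (!![2, 3, 2, 1; 3, 6, 4, 2; 4, 8, 6, 3; 2, 4, 3, 2] : Matrix (Fin 4) (Fin 4) ℤ) (by decide +kernel) (fun q => 1) ?_ ?_ ?_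
    (by norm_num) hq r hrq hrW hrG P
  · intro q _
    exact ⟨one_ne_zero, fun r hr h => absurd (Nat.dvd_one.1 h) hr.ne_one⟩
  all_goals
    intro K _ _ Q hQ
    simpa [List.prod_cons, mul_assoc] using Cfsg.Agent.ChevGroup.TypeF4.card_group hA (relsOfCommGood hC K) hQ

set_option maxRecDepth 20000 in
set_option maxHeartbeats 1000000 in
theorem sylow_E6 {F : Type u} [Field F] [Fintype F] {q : ℕ} (hq : Fintype.card F = q) (r : ℕ) [Fact r.Prime]
    (hrq : ¬ r ∣ q) (hrW : ¬ r ∣ ([2, 5, 6, 8, 9, 12] : List ℕ).prod) (hrG : r ∣ Nat.card ↥(Cfsg.Lie.chevE6.group F))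
    (P : Sylow r ↥(Cfsg.Lie.chevE6.group F)) :
    Nonempty (↥(P : Subgroup ↥(Cfsg.Lie.chevE6.group F)) ≃*
      (Fin (([2, 5, 6, 8, 9, 12] : List ℕ).filter (fun e => orderOf (q : ZMod r) ∣ e)).length →
        Multiplicative (ZMod (r ^ padicValNat r ((Polynomial.cyclotomic (orderOf (q : ZMod r)) ℤ).eval (q : ℤ)).natAbs)))) := by
  have hC := ChevCore.uGoodE6.toCommGood
  have hA := torusFacts_of_good hC.toGood
  refine ChevTori.sylow_of_order Cfsg.Agent.ChevGroup.TypeE6.model ChevCore.uGoodE6 Cfsg.Agent.ChevGroup.TypeE6.wit_ok Cfsg.Agent.ChevGroup.TypeE6.longest_ok Cfsg.Agent.ChevGroup.TypeE6.pos_span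
    (Mx := CoxeterMatrix.E₆) (by decide +kernel) [2, 5, 6, 8, 9, 12] rfl (WeylGroup.card_e6.trans (by norm_num)) 36 3
    (by norm_num) (!![4, 3, 5, 6, 4, 2; 3, 6, 6, 9, 6, 3; 5, 6, 10, 12, 8, 4; 6, 9, 12, 18, 12, 6; 4, 6, 8, 12, 10, 5; 2, 3, 4, 6, 5, 4] : Matrix (Fin 6) (Fin 6) ℤ) (by decide +kernel) (fun q => Nat.gcd 3 (q - 1)) ?_ ?_ ?_
    (by norm_num) hq r hrq hrW hrG P
  · intro q _
    exact ⟨(Nat.gcd_pos_of_pos_left _ three_pos).ne', fun r _ h => (h.trans (Nat.gcd_dvd_left _ _)).trans (by norm_num)⟩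
  all_goals
    intro K _ _ Q hQ
    simpa [List.prod_cons, mul_assoc] using Cfsg.Agent.ChevGroup.TypeE6.card_group hA (relsOfCommGood hC K) hQ

set_option maxRecDepth 20000 in
set_option maxHeartbeats 1000000 in
theorem sylow_E7 {F : Type u} [Field F] [Fintype F] {q : ℕ} (hq : Fintype.card F = q) (r : ℕ) [Fact r.Prime]
    (hrq : ¬ r ∣ q) (hrW : ¬ r ∣ ([2, 6, 8, 10, 12, 14, 18] : List ℕ).prod) (hrG : r ∣ Nat.card ↥(Cfsg.Lie.chevE7.group F))
    (P : Sylow r ↥(Cfsg.Lie.chevE7.group F)) :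
    Nonempty (↥(P : Subgroup ↥(Cfsg.Lie.chevE7.group F)) ≃*
      (Fin (([2, 6, 8, 10, 12, 14, 18] : List ℕ).filter (fun e => orderOf (q : ZMod r) ∣ e)).length →
        Multiplicative (ZMod (r ^ padicValNat r ((Polynomial.cyclotomic (orderOf (q : ZMod r)) ℤ).eval (q : ℤ)).natAbs)))) := by
  have hC := ChevCore.uGoodE7.toCommGood
  have hA := torusFacts_of_good hC.toGood
  refine ChevTori.sylow_of_order Cfsg.Agent.ChevGroup.TypeE7.model ChevCore.uGoodE7 Cfsg.Agent.ChevGroup.TypeE7.wit_ok Cfsg.Agent.ChevGroup.TypeE7.longest_ok Cfsg.Agent.ChevGroup.TypeE7.pos_span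
    (Mx := CoxeterMatrix.E₇) (by decide +kernel) [2, 6, 8, 10, 12, 14, 18] rfl (WeylGroup.card_e7.trans (by norm_num)) 63 2
    (by norm_num) (!![4, 4, 6, 8, 6, 4, 2; 4, 7, 8, 12, 9, 6, 3; 6, 8, 12, 16, 12, 8, 4; 8, 12, 16, 24, 18, 12, 6; 6, 9, 12, 18, 15, 10, 5; 4, 6, 8, 12, 10, 8, 4; 2, 3, 4, 6, 5, 4, 3] : Matrix (Fin 7) (Fin 7) ℤ) (by decide +kernel) (fun q => Nat.gcd 2 (q - 1)) ?_ ?_ ?_
    (by norm_num) hq r hrq hrW hrG P
  · intro q _
    exact ⟨(Nat.gcd_pos_of_pos_left _ two_pos).ne', fun r _ h => (h.trans (Nat.gcd_dvd_left _ _)).trans (by norm_num)⟩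
  all_goals
    intro K _ _ Q hQ
    simpa [List.prod_cons, mul_assoc] using Cfsg.Agent.ChevGroup.TypeE7.card_group hA (relsOfCommGood hC K) hQ

set_option maxRecDepth 20000 in
set_option maxHeartbeats 1000000 in
theorem sylow_E8 {F : Type u} [Field F] [Fintype F] {q : ℕ} (hq : Fintype.card F = q) (r : ℕ) [Fact r.Prime]
    (hrq : ¬ r ∣ q) (hrW : ¬ r ∣ ([2, 8, 12, 14, 18, 20, 24, 30] : List ℕ).prod) (hrG : r ∣ Nat.card ↥(Cfsg.Lie.chevE8.group F))
    (P : Sylow r ↥(Cfsg.Lie.chevE8.group F)) :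
    Nonempty (↥(P : Subgroup ↥(Cfsg.Lie.chevE8.group F)) ≃*
      (Fin (([2, 8, 12, 14, 18, 20, 24, 30] : List ℕ).filter (fun e => orderOf (q : ZMod r) ∣ e)).length →
        Multiplicative (ZMod (r ^ padicValNat r ((Polynomial.cyclotomic (orderOf (q : ZMod r)) ℤ).eval (q : ℤ)).natAbs)))) := by
  have hC := ChevCore.uGoodE8.toCommGood
  have hA := torusFacts_of_good hC.toGood
  refine ChevTori.sylow_of_order Cfsg.Agent.ChevGroup.TypeE8.model ChevCore.uGoodE8 Cfsg.Agent.ChevGroup.TypeE8.wit_ok Cfsg.Agent.ChevGroup.TypeE8.longest_ok Cfsg.Agent.ChevGroup.TypeE8.pos_span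
    (Mx := CoxeterMatrix.E₈) (by decide +kernel) [2, 8, 12, 14, 18, 20, 24, 30] rfl (WeylGroup.card_e8.trans (by norm_num)) 120 1
    (by norm_num) (!![4, 5, 7, 10, 8, 6, 4, 2; 5, 8, 10, 15, 12, 9, 6, 3; 7, 10, 14, 20, 16, 12, 8, 4; 10, 15, 20, 30, 24, 18, 12, 6; 8, 12, 16, 24, 20, 15, 10, 5; 6, 9, 12, 18, 15, 12, 8, 4; 4, 6, 8, 12, 10, 8, 6, 3; 2, 3, 4, 6, 5, 4, 3, 2] : Matrix (Fin 8) (Fin 8) ℤ) (by decide +kernel) (fun q => 1) ?_ ?_ ?_
    (by norm_num) hq r hrq hrW hrG P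
  · intro q _
    exact ⟨one_ne_zero, fun r hr h => absurd (Nat.dvd_one.1 h) hr.ne_one⟩
  all_goals
    intro K _ _ Q hQ
    simpa [List.prod_cons, mul_assoc] using Cfsg.Agent.ChevGroup.TypeE8.card_group hA (relsOfCommGood hC K) hQ

/-- Sylow subgroups for primes away from the characteristic and the Weyl group. Let `G` be the Chevalley group of type G₂, B₂, D₄, F₄, E₆, E₇ or E₈ over a field with `q` elements, with the degrees of its Weyl group listed beside the type (their product is the order of the Weyl group), and let `r` be a prime dividing the order of `G`, not dividing `q` and not dividing the order of the Weyl group. Let `d` be the multiplicative order of `q` modulo `r`, `a` the number of degrees divisible by `d`, and `m` the `r`-part of the value at `q` of the `d`-th cyclotomic polynomial. Then every Sylow `r`-subgroup of `G` is homocyclic: a direct product of `a` cyclic groups of order `m` (in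 particular abelian). -/
theorem result {F : Type*} [Field F] [Fintype F] {q : ℕ} (hq : Fintype.card F = q)
    (c : Cfsg.Lie.ChevalleyDatum × List ℕ)
    (hc : c ∈ [(Cfsg.Lie.chevG2, [2, 6]), (Cfsg.Lie.chevB2, [2, 4]), (Cfsg.Lie.chevD4, [2, 4, 4, 6]), (Cfsg.Lie.chevF4, [2, 6, 8, 12]),
      (Cfsg.Lie.chevE6, [2, 5, 6, 8, 9, 12]), (Cfsg.Lie.chevE7, [2, 6, 8, 10, 12, 14, 18]), (Cfsg.Lie.chevE8, [2, 8, 12, 14, 18, 20, 24, 30])])
    (r : ℕ) [Fact r.Prime] (hrq : ¬ r ∣ q) (hrW : ¬ r ∣ c.2.prod) (hrG : r ∣ Nat.card ↥(c.1.group F)) (P : Sylow r ↥(c.1.group F)) :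
    Nonempty (↥(P : Subgroup ↥(c.1.group F)) ≃*
      (Fin (c.2.filter (fun e => orderOf (q : ZMod r) ∣ e)).length →
        Multiplicative (ZMod (r ^ padicValNat r ((Polynomial.cyclotomic (orderOf (q : ZMod r)) ℤ).eval (q : ℤ)).natAbs)))) := by
  simp only [List.mem_cons, List.not_mem_nil, or_false] at hc
  rcases hc with rfl | rfl | rfl | rfl | rfl | rfl | rfl
  · exact sylow_G2 hq r hrq hrW hrG P
  · exact sylow_B2 hq r hrq hrW hrG P
  · exact sylow_D4 hq r hrq hrW hrG P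
  · exact sylow_F4 hq r hrq hrW hrG P
  · exact sylow_E6 hq r hrq hrW hrG P
  · exact sylow_E7 hq r hrq hrW hrG P
  · exact sylow_E8 hq r hrq hrW hrG P

end Cfsg.Agent.S2378
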