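import Cfsg.Statements.S2379
import Cfsg.Agent.Lib.LargePrimeSylow.SL

set_option autoImplicit false
open Cfsg

namespace Cfsg.Agent.S2379

/-- Sylow subgroups of `SL_n(q)` for large primes. Let `F` be a field with `q` elements and `r` a prime with `r > n` and `r ∤ q` (so `r` does not divide the order `n!` of the Weyl group). Let `d` be the multiplicative order of `q` modulo `r`, `a` the number of integers `i` with `2 ≤ i ≤ n` divisible by `d` (the degrees of the Weyl group are `2, …, n`), and `m` the `r`-part of the value at `q` of the `d`-th cyclotomic polynomial. Then every Sylow `r`-subgroup of `SL_n(q)` is a direct product of `a` cyclic groups of order `m`. -/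
theorem result {F : Type*} [Field F] [Fintype F] {q : ℕ} (hq : Fintype.card F = q) (n : ℕ)
    (r : ℕ) [Fact r.Prime] (hrn : n < r) (hrq : ¬ r ∣ q) (P : Sylow r (Matrix.SpecialLinearGroup (Fin n) F)) :
    Nonempty (↥(P : Subgroup (Matrix.SpecialLinearGroup (Fin n) F)) ≃*
      (Fin ((Finset.Icc 2 n).filter (fun i => orderOf (q : ZMod r) ∣ i)).card →
        Multiplicative (ZMod (r ^ padicValNat r ((Polynomial.cyclotomic (orderOf (q : ZMod r)) ℤ).eval (q : ℤ)).natAbs)))) := by
  subst hq
  have hq2 : 2 ≤ Fintype.card F := Fintype.one_lt_card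
  set d := orderOf ((Fintype.card F : ℕ) : ZMod r) with hd
  have hd0 : 0 < d := Cfsg.Agent.LPSylow.orderOf_pos_of_not_dvd hrq
  have hv := Cfsg.Agent.LPSylow.cycVal_eq hq2 hrq
  set v := Cfsg.Agent.LPSylow.cycVal r (Fintype.card F) with hvdef
  have hm : r ^ v ∣ Nat.card F ^ d - 1 := by
    rw [hv, Nat.card_eq_fintype_card]
    exact pow_padicValNat_dvd
  rcases n with _ | k
  · obtain ⟨φ, hφ⟩ : ∃ φ : (Fin ((Finset.Icc 2 0).filter (fun i => d ∣ i)).card → Multiplicative (ZMod (r ^ v))) →*
        Matrix.SpecialLinearGroup (Fin 0) F, Function.Injective φ :=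
      ⟨1, fun x y _ => funext fun i => absurd i.2 (by simp)⟩
    refine Cfsg.Agent.LPSylow.nonempty_equiv_sylow φ hφ ?_ P
    simp
  have hcard : padicValNat r (Nat.card (Matrix.SpecialLinearGroup (Fin (k + 1)) F)) =
      ((Finset.Icc 2 (k + 1)).filter (fun i => d ∣ i)).card * v := by
    rw [Cfsg.Agent.LinearGroup.card_SL_eq_pow_mul_prod, Nat.card_eq_fintype_card,
      Cfsg.Agent.LPSylow.padicValNat_pow_mul_prod hq2 hrq _ 2 k Nat.two_pos (by omega)]
    rfl
  obtain ⟨φ, hφ⟩ : ∃ φ : (Fin ((Finset.Icc 2 (k + 1)).filter (fun i => d ∣ i)).card →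
      Multiplicative (ZMod (r ^ v))) →* Matrix.SpecialLinearGroup (Fin (k + 1)) F, Function.Injective φ := by
    by_cases hd1 : d = 1
    · obtain ⟨u, hu⟩ := Cfsg.Agent.LPSylow.exists_cyclic_hom_units (F := F) (m := r ^ v)
        (by rw [hd1, pow_one] at hm; exact hm)
      have hc : ((Finset.Icc 2 (k + 1)).filter (fun i => d ∣ i)).card = k := by
        rw [hd1, Finset.filter_true_of_mem fun i _ => one_dvd i, Nat.card_Icc]
        omega
      rw [hc]
      exact ⟨(Cfsg.Agent.LPSylow.diagSL k).comp (MonoidHom.piMap fun _ : Fin k => u),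
        (Cfsg.Agent.LPSylow.diagSL_injective k).comp (Function.Injective.piMap fun _ => hu)⟩
    · have hc : ((Finset.Icc 2 (k + 1)).filter (fun i => d ∣ i)).card = (k + 1) / d := by
        rw [← Nat.Ioc_filter_dvd_card_eq_div (k + 1) d]
        congr 1
        ext i
        simp only [Finset.mem_filter, Finset.mem_Icc, Finset.mem_Ioc]
        refine ⟨fun h => ⟨by omega, h.2⟩, fun h => ⟨⟨?_, h.1.2⟩, h.2⟩⟩
        rcases Nat.lt_or_ge i 2 with h2 | h2
        · have h3 : i = 1 := by omega
          exact absurd (Nat.dvd_one.mp (h3 ▸ h.2)) hd1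
        · exact h2
      rw [hc]
      obtain ⟨ψ, hψ⟩ := Cfsg.Agent.LPSylow.exists_torus_GL (F := F) (a := (k + 1) / d) hd0
        (Nat.div_add_mod (k + 1) d) hm
      have hdet : ∀ x, (ψ x : Matrix (Fin (k + 1)) (Fin (k + 1)) F).det = 1 := by
        intro x
        have h1 : (Matrix.GeneralLinearGroup.det (ψ x)) ^ (r ^ v) = 1 := by
          rw [← map_pow, ← map_pow]
          have hx : x ^ (r ^ v) = 1 := by
            funext i
            rw [Pi.pow_apply, Pi.one_apply]
            apply Multiplicative.toAdd.injective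
            rw [toAdd_pow, toAdd_one, nsmul_eq_mul, ZMod.natCast_self, zero_mul]
          rw [hx, map_one, map_one]
        have hcop : (r ^ v).Coprime (Nat.card Fˣ) := by
          refine Nat.Coprime.pow_left _ (((Fact.out : r.Prime).coprime_iff_not_dvd).mpr fun h => hd1 ?_)
          rw [Nat.card_units, Nat.card_eq_fintype_card, ← pow_one (Fintype.card F),
            Cfsg.Agent.LPSylow.dvd_pow_sub_one_iff (by omega)] at h
          exact Nat.dvd_one.mp h
        have h2 : Matrix.GeneralLinearGroup.det (ψ x) = 1 := by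
          rw [← orderOf_eq_one_iff]
          exact Nat.eq_one_of_dvd_coprimes hcop (orderOf_dvd_of_pow_eq_one h1) (orderOf_dvd_natCard _)
        exact congrArg Units.val h2
      exact ⟨{ toFun := fun x => ⟨_, hdet x⟩
               map_one' := Subtype.ext (congrArg Units.val (map_one ψ))
               map_mul' := fun x y => Subtype.ext (congrArg Units.val (map_mul ψ x y)) },
        fun x y h => hψ (Units.ext (congrArg Subtype.val h))⟩
  refine Cfsg.Agent.LPSylow.nonempty_equiv_sylow φ hφ ?_ P
  rw [hcard, Nat.card_fun, Nat.card_congr Multiplicative.toAdd, Nat.card_zmod, Nat.card_fin, ← pow_mul, mul_comm]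

end Cfsg.Agent.S2379
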