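import Cfsg.Statements.S2380
import Cfsg.Agent.Lib.LargePrimeSylow.Basic

set_option autoImplicit false
open scoped MatrixGroups
open Cfsg

namespace Cfsg.Agent.S2380

/-- Sylow subgroups of `GL_n(q)` for large primes. Let `F` be a field with `q` elements and `r` a prime with `r > n` and `r ∤ q`. Let `d` be the multiplicative order of `q` modulo `r` and `m` the `r`-part of the value at `q` of the `d`-th cyclotomic polynomial. Then every Sylow `r`-subgroup of `GL_n(q)` is a direct product of `⌊n/d⌋` cyclic groups of order `m` (the degrees of the Weyl group being `1, …, n`). -/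
theorem result {F : Type*} [Field F] [Fintype F] {q : ℕ} (hq : Fintype.card F = q) (n : ℕ)
    (r : ℕ) [Fact r.Prime] (hrn : n < r) (hrq : ¬ r ∣ q) (P : Sylow r (GL (Fin n) F)) :
    Nonempty (↥(P : Subgroup (GL (Fin n) F)) ≃*
      (Fin (n / orderOf (q : ZMod r)) →
        Multiplicative (ZMod (r ^ padicValNat r ((Polynomial.cyclotomic (orderOf (q : ZMod r)) ℤ).eval (q : ℤ)).natAbs)))) := by
  subst hq
  have hq2 : 2 ≤ Fintype.card F := Fintype.one_lt_card
  set d := orderOf ((Fintype.card F : ℕ) : ZMod r) with hd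
  have hd0 : 0 < d := Cfsg.Agent.LPSylow.orderOf_pos_of_not_dvd hrq
  have hv := Cfsg.Agent.LPSylow.cycVal_eq hq2 hrq
  have hm : r ^ Cfsg.Agent.LPSylow.cycVal r (Fintype.card F) ∣ Nat.card F ^ d - 1 := by
    rw [hv, Nat.card_eq_fintype_card]
    exact pow_padicValNat_dvd
  obtain ⟨φ, hφ⟩ := Cfsg.Agent.LPSylow.exists_torus_GL (F := F) (a := n / d) hd0 (Nat.div_add_mod n d) hm
  refine Cfsg.Agent.LPSylow.nonempty_equiv_sylow φ hφ ?_ P
  have hcard : padicValNat r (Nat.card (GL (Fin n) F)) = n / d * Cfsg.Agent.LPSylow.cycVal r (Fintype.card F) := by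
    rw [Cfsg.Agent.LinearGroup.card_GL_eq_pow_mul_prod, Nat.card_eq_fintype_card,
      Cfsg.Agent.LPSylow.padicValNat_pow_mul_prod hq2 hrq _ 1 n Nat.one_pos hrn]
    congr 1
    rw [← Nat.Ioc_filter_dvd_card_eq_div n d]
    congr 1
  rw [hcard, Nat.card_fun, Nat.card_congr Multiplicative.toAdd, Nat.card_zmod, Nat.card_fin, ← pow_mul, mul_comm]

end Cfsg.Agent.S2380
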