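import Cfsg.Statements.S2381
import Cfsg.Agent.Lib.LargePrimeSylow.Basic
import Cfsg.Agent.Lib.Symplectic.Card
import Cfsg.Agent.KnownSimple58.SpElements

set_option autoImplicit false
open Cfsg

namespace Cfsg.Agent.S2381

open Cfsg.Agent

/-- Many copies of a cyclic torus inside a symplectic group. -/
theorem exists_many {F : Type*} [Field F] {C : Type*} [Group C] {η : ℕ}
    (hC : ∃ φ : C →* Symplectic.Sp η F, Function.Injective φ) :
    ∀ (a n : ℕ), a * η ≤ n → ∃ φ : (Fin a → C) →* Symplectic.Sp n F, Function.Injective φ := by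
  intro a
  induction a with
  | zero => exact fun n _ => ⟨1, fun x y _ => funext fun i => i.elim0⟩
  | succ a ih =>
    intro n hn
    rw [add_one_mul] at hn
    obtain ⟨n', rfl⟩ : ∃ n', n = η + n' := ⟨n - η, by omega⟩
    obtain ⟨φ, hφ⟩ := hC
    obtain ⟨ψ, hψ⟩ := ih n' (by omega)
    let hd : (Fin (a + 1) → C) →* C × (Fin a → C) :=
      { toFun := fun f => (f 0, Fin.tail f)
        map_one' := rfl
        map_mul' := fun _ _ => rfl }
    refine ⟨KS58.SpEl.blockSum.comp ((φ.prodMap ψ).comp hd), fun f g h => ?_⟩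
    have h' := KS58.SpEl.blockSum_injective h
    have h0 : f 0 = g 0 := hφ (congrArg Prod.fst h')
    have h1 : Fin.tail f = Fin.tail g := hψ (congrArg Prod.snd h')
    rw [← Fin.cons_self_tail f, ← Fin.cons_self_tail g, h0, h1]

/-- Sylow subgroups of `Sp_{2n}(q)` for large primes. Let `F` be a field with `q` elements and `r` an odd prime with `r > n` and `r ∤ q` (so `r` does not divide the order `2^n n!` of the Weyl group). Let `d` be the multiplicative order of `q` modulo `r`, `a` the number of `i` with `1 ≤ i ≤ n` and `d ∣ 2i` (the degrees being `2, 4, …, 2n`), and `m` the `r`-part of the value at `q` of the `d`-th cyclotomic polynomial. Then every Sylow `r`-subgroup of the symplectic group `Sp_{2n}(q)` is a direct product of `a` cyclic groups of order `m`. -/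
theorem result {F : Type*} [Field F] [Fintype F] {q : ℕ} (hq : Fintype.card F = q) (n : ℕ)
    (r : ℕ) [Fact r.Prime] (hr2 : r ≠ 2) (hrn : n < r) (hrq : ¬ r ∣ q) (P : Sylow r ↥(Matrix.symplecticGroup (Fin n) F)) :
    Nonempty (↥(P : Subgroup ↥(Matrix.symplecticGroup (Fin n) F)) ≃*
      (Fin ((Finset.Icc 1 n).filter (fun i => orderOf (q : ZMod r) ∣ 2 * i)).card →
        Multiplicative (ZMod (r ^ padicValNat r ((Polynomial.cyclotomic (orderOf (q : ZMod r)) ℤ).eval (q : ℤ)).natAbs)))) := by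
  classical
  subst hq
  have hrp : r.Prime := Fact.out
  set q := Fintype.card F with hqdef
  have hq2 : 2 ≤ q := Fintype.one_lt_card
  have hQ2 : 2 ≤ q ^ 2 := hq2.trans (Nat.le_self_pow two_ne_zero q)
  have hrQ : ¬ r ∣ q ^ 2 := fun h => hrq (hrp.dvd_of_dvd_pow h)
  set d := orderOf (q : ZMod r) with hd
  set η := orderOf ((q ^ 2 : ℕ) : ZMod r) with hη
  have hiff : ∀ i, d ∣ 2 * i ↔ η ∣ i := fun i => by
    rw [hη, hd, orderOf_dvd_iff_pow_eq_one, orderOf_dvd_iff_pow_eq_one, Nat.cast_pow, ← pow_mul]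
  have hη0 : 0 < η := LPSylow.orderOf_pos_of_not_dvd hrQ
  have hd0 : 0 < d := LPSylow.orderOf_pos_of_not_dvd hrq
  have hv : LPSylow.cycVal r (q ^ 2) = LPSylow.cycVal r q := by
    rw [LPSylow.cycVal_eq hQ2 hrQ, LPSylow.cycVal_eq hq2 hrq, ← hη, ← hd, ← pow_mul]
    obtain ⟨k, hk⟩ := (hiff η).mpr dvd_rfl
    have hk2 : k ∣ 2 := by
      refine Nat.dvd_of_mul_dvd_mul_left hd0 ?_
      rw [← hk, mul_comm d 2]
      exact mul_dvd_mul_left 2 ((hiff d).mp (dvd_mul_left d 2))
    have hkr : ¬ r ∣ k := fun h => hr2 ((Nat.prime_dvd_prime_iff_eq hrp Nat.prime_two).mp (h.trans hk2))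
    have h := padicValNat.pow_sub_pow (hrp.odd_of_ne_two hr2) (x := q ^ d) (y := 1)
      (Nat.one_lt_pow hd0.ne' (by omega))
      ((LPSylow.dvd_pow_sub_one_iff (by omega) d).mpr dvd_rfl)
      (fun h => hrq (hrp.dvd_of_dvd_pow h)) (n := k) (by rintro rfl; simp at hk2)
    rw [one_pow] at h
    rw [hk, pow_mul, h, padicValNat.eq_zero_of_not_dvd hkr, add_zero]
  set v := LPSylow.cycVal r q with hvdef
  have hfilter : (Finset.Icc 1 n).filter (fun i => d ∣ 2 * i) = (Finset.Ioc 0 n).filter (fun i => η ∣ i) := by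
    ext i
    simp only [Finset.mem_filter, Finset.mem_Icc, Finset.mem_Ioc, hiff]
    constructor <;> intro h <;> exact ⟨⟨by omega, by omega⟩, h.2⟩
  have hcount : ((Finset.Icc 1 n).filter (fun i => d ∣ 2 * i)).card = n / η := by
    rw [hfilter, Nat.Ioc_filter_dvd_card_eq_div]
  -- the torus
  obtain ⟨w, hw⟩ : ∃ w : Symplectic.Sp η F, orderOf w = r ^ v := by
    have hdiv : r ^ v ∣ (q ^ η - 1) * (q ^ η + 1) := by
      have h : v = padicValNat r ((q ^ 2) ^ η - 1) := by rw [← hv, LPSylow.cycVal_eq hQ2 hrQ]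
      have hf : (q ^ 2) ^ η - 1 = (q ^ η - 1) * (q ^ η + 1) := by
        rw [mul_comm (q ^ η - 1), ← Nat.sq_sub_sq, one_pow, ← pow_mul, ← pow_mul, mul_comm]
      rw [h, ← hf]
      exact pow_padicValNat_dvd
    obtain ⟨⟨z, hz⟩, ⟨z', hz'⟩⟩ := KS58.SpEl.exists_sp_torus (F := F) (a := η) hη0
    have hpos : 1 ≤ q ^ η := Nat.one_le_pow _ _ (by omega)
    haveI : Finite (Symplectic.Sp η F) := inferInstance
    by_cases hdd : r ∣ q ^ η - 1
    · have hnd : ¬ r ∣ q ^ η + 1 := fun h => hr2 ((Nat.prime_dvd_prime_iff_eq hrp Nat.prime_two).mp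
        (by
          have h2 := Nat.dvd_sub h hdd
          rwa [show q ^ η + 1 - (q ^ η - 1) = 2 by omega] at h2))
      exact KS58.exists_orderOf_eq_of_dvd z (hz ▸ (Nat.Coprime.pow_left v
        ((hrp.coprime_iff_not_dvd).mpr hnd)).dvd_of_dvd_mul_right hdiv)
    · exact KS58.exists_orderOf_eq_of_dvd z' (hz' ▸ (Nat.Coprime.pow_left v
        ((hrp.coprime_iff_not_dvd).mpr hdd)).dvd_of_dvd_mul_left hdiv)
  haveI : NeZero (r ^ v) := ⟨(pow_pos hrp.pos v).ne'⟩
  let e : Multiplicative (ZMod (r ^ v)) ≃* Subgroup.zpowers w := mulEquivOfCyclicCardEq (by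
    rw [Nat.card_zpowers, hw, Nat.card_congr Multiplicative.toAdd, Nat.card_zmod])
  obtain ⟨φ, hφ⟩ := exists_many (C := Multiplicative (ZMod (r ^ v)))
    ⟨(Subgroup.zpowers w).subtype.comp e.toMonoidHom, Subtype.val_injective.comp e.injective⟩ (n / η) n
    (Nat.div_mul_le_self n η)
  have hval : padicValNat r (Nat.card ↥(Matrix.symplecticGroup (Fin n) F)) = n / η * v := by
    have h := LPSylow.padicValNat_pow_mul_prod (q := q ^ 2) hQ2 hrQ 0 1 n one_pos (by omega)
    rw [hv, pow_zero, one_mul] at h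
    have hcard : Nat.card ↥(Matrix.symplecticGroup (Fin n) F) =
        q ^ n ^ 2 * ∏ i ∈ Finset.range n, ((q ^ 2) ^ (i + 1) - 1) := by
      rw [Symplectic.card_Sp (rfl : Fintype.card F = q) n]
      simp only [pow_mul]
      rfl
    rw [hcard, padicValNat.mul (pow_ne_zero _ (by omega)) (Finset.prod_ne_zero_iff.mpr fun i _ => by
      have : 1 < (q ^ 2) ^ (i + 1) := Nat.one_lt_pow (by omega) (by omega)
      show (q ^ 2) ^ (i + 1) - 1 ≠ 0
      omega), padicValNat.eq_zero_of_not_dvd (fun h => hrq (hrp.dvd_of_dvd_pow h)), zero_add, h,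
      ← Nat.Ioc_filter_dvd_card_eq_div n η]
    congr 2
  rw [hcount]
  exact LPSylow.nonempty_equiv_sylow φ hφ (by
    rw [hval, Nat.card_fun, Nat.card_fin, Nat.card_congr Multiplicative.toAdd, Nat.card_zmod, ← pow_mul,
      mul_comm]) P

end Cfsg.Agent.S2381
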