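import Cfsg.Statements.S2383
import Cfsg.Agent.CurtisRichen82.Chev.Main

set_option autoImplicit false
open Cfsg

namespace Cfsg.Agent.S2383

/-- Steinberg's count of semisimple classes in characteristic 2 for the types B₂, D₄, E₇, where the finite simply connected group has trivial centre and so coincides with the Chevalley group: for the Chevalley group of type B₂, D₄ or E₇ over a field with `q` elements of characteristic 2, the conjugacy classes of elements of odd order number exactly `q^l`, `l` the rank. -/
theorem result {F : Type*} [Field F] [Fintype F] {q : ℕ} (hq : Fintype.card F = q) [CharP F 2]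
    (D : Cfsg.Lie.ChevalleyDatum) (hD : D ∈ [Cfsg.Lie.chevB2, Cfsg.Lie.chevD4, Cfsg.Lie.chevE7]) :
    Nat.card {c : ConjClasses ↥(D.group F) // ∃ g : ↥(D.group F), ConjClasses.mk g = c ∧ Odd (orderOf g)} = q ^ D.rank := by
  have : Fact (Nat.Prime 2) := ⟨Nat.prime_two⟩
  obtain ⟨f, -, hf⟩ := FiniteField.card F 2
  have hg : Nat.gcd 2 (Fintype.card F - 1) = 1 := by
    refine (Nat.prime_two.coprime_iff_not_dvd.2 fun h => ?_)
    have h2 : 2 ∣ Fintype.card F := hf ▸ dvd_pow_self 2 f.pos.ne'
    have := Fintype.card_pos (α := F)
    omega
  have he : ∀ g : ↥(D.group F), Odd (orderOf g) ↔ (orderOf g).Coprime 2 := fun g =>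
    Nat.coprime_two_right.symm
  simp only [he]
  rw [CurtisRichen82.Chev.card_coprime_classes, ← hq]
  simp only [List.mem_cons, List.not_mem_nil, or_false] at hD
  rcases hD with rfl | rfl | rfl
  · exact CurtisRichen82.Chev.card_regular_classes_chev (by simp) 2
      (by simpa [hg] using ChevCore.card_diagonalB2 (F := F))
  · exact CurtisRichen82.Chev.card_regular_classes_chev (by simp) 2
      (by simpa [hg] using ChevCore.card_diagonalD4 (F := F))
  · exact CurtisRichen82.Chev.card_regular_classes_chev (by simp) 2
      (by simpa [hg] using ChevCore.card_diagonalE7 (F := F))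

end Cfsg.Agent.S2383
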