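import Cfsg.Statements.S2384
import Cfsg.Agent.CrossChar56.SemisimpleClasses

set_option autoImplicit false
open Cfsg

namespace Cfsg.Agent.S2384

/-- In `SL_n(q)`, `q` a power of the prime `p`, the number of conjugacy classes of elements of order prime to `p` (the semisimple classes) is `q^(n-1)`. -/
theorem result {F : Type*} [Field F] [Fintype F] {q : ℕ} (hq : Fintype.card F = q) (p : ℕ) [Fact p.Prime] [CharP F p] (n : ℕ) (hn : 1 ≤ n) :
    Nat.card {c : ConjClasses (Matrix.SpecialLinearGroup (Fin n) F) //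
      ∃ g : Matrix.SpecialLinearGroup (Fin n) F, ConjClasses.mk g = c ∧ (orderOf g).Coprime p} = q ^ (n - 1) := by
  open Cfsg.Agent.CrossChar56.Semisimple Polynomial in
  classical
  obtain ⟨m, rfl⟩ : ∃ m, n = m + 1 := ⟨n - 1, by omega⟩
  have e : {c : ConjClasses (Matrix.SpecialLinearGroup (Fin (m + 1)) F) //
      ∃ g : Matrix.SpecialLinearGroup (Fin (m + 1)) F,
        ConjClasses.mk g = c ∧ (orderOf g).Coprime p} ≃
      {P : F[X] // P.Monic ∧ P.natDegree = m + 1 ∧
        P.coeff 0 ∈ ({(-1) ^ (m + 1)} : Set F)} := by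
    have hmem : ∀ g : Matrix.SpecialLinearGroup (Fin (m + 1)) F,
        (g : Matrix (Fin (m + 1)) (Fin (m + 1)) F).charpoly.Monic ∧
        (g : Matrix (Fin (m + 1)) (Fin (m + 1)) F).charpoly.natDegree = m + 1 ∧
        (g : Matrix (Fin (m + 1)) (Fin (m + 1)) F).charpoly.coeff 0 ∈
          ({(-1) ^ (m + 1)} : Set F) := by
      intro g
      refine ⟨Matrix.charpoly_monic _, by simp, ?_⟩
      have h := Matrix.det_eq_sign_charpoly_coeff (g : Matrix (Fin (m + 1)) (Fin (m + 1)) F)
      rw [g.2, Fintype.card_fin] at h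
      have h2 := congrArg (fun x => (-1 : F) ^ (m + 1) * x) h
      simp only [mul_one, ← mul_assoc, ← mul_pow, neg_mul_neg, one_pow, one_mul] at h2
      exact h2.symm
    refine Equiv.ofBijective (fun c => ⟨_, hmem c.2.choose⟩) ⟨?_, ?_⟩
    · rintro ⟨c, hc⟩ ⟨d, hd⟩ h
      apply Subtype.ext
      show c = d
      rw [← hc.choose_spec.1, ← hd.choose_spec.1, ConjClasses.mk_eq_mk_iff_isConj]
      exact sl_isConj p _ _ hc.choose_spec.2 hd.choose_spec.2 (congrArg Subtype.val h)
    · rintro ⟨P, hP, hd, h0⟩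
      obtain ⟨g, hg, hgP⟩ := exists_sl p P hP hd h0
      refine ⟨⟨ConjClasses.mk g, g, rfl, hg⟩, Subtype.ext ?_⟩
      show Matrix.charpoly _ = P
      have key : ∀ x : Matrix.SpecialLinearGroup (Fin (m + 1)) F, IsConj x g →
          (x : Matrix (Fin (m + 1)) (Fin (m + 1)) F).charpoly = P := by
        intro x hx
        obtain ⟨u, hu⟩ := isConj_iff.1 hx
        rw [← hgP, ← hu]
        rw [Matrix.SpecialLinearGroup.coe_mul, Matrix.SpecialLinearGroup.coe_mul, mul_assoc,
          Matrix.charpoly_mul_comm, mul_assoc, ← Matrix.SpecialLinearGroup.coe_mul, inv_mul_cancel,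
          Matrix.SpecialLinearGroup.coe_one, mul_one]
      exact key _ (ConjClasses.mk_eq_mk_iff_isConj.1 (Exists.choose_spec
        (p := fun x : Matrix.SpecialLinearGroup (Fin (m + 1)) F => ConjClasses.mk x = ConjClasses.mk g ∧ (orderOf x).Coprime p)
        ⟨g, rfl, hg⟩).1)
  rw [Nat.card_congr e, card_monic m, Nat.add_sub_cancel, hq]
  simp

end Cfsg.Agent.S2384
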