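import Cfsg.Statements.S2387
import Cfsg.Agent.CrossChar56.SemisimpleClasses

set_option autoImplicit false
open scoped MatrixGroups
open Cfsg

namespace Cfsg.Agent.S2387

/-- In `GL_n(q)` with `n ≥ 1`, `q` a power of the prime `p`, the number of conjugacy classes of elements of order prime to `p` (diagonalisable over the algebraic closure; determined by the characteristic polynomial) is `(q - 1) q^(n-1)`. -/
theorem result {F : Type*} [Field F] [Fintype F] {q : ℕ} (hq : Fintype.card F = q) (p : ℕ) [Fact p.Prime] [CharP F p] (n : ℕ) (hn : 1 ≤ n) :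
    Nat.card {c : ConjClasses (GL (Fin n) F) // ∃ g : GL (Fin n) F, ConjClasses.mk g = c ∧ (orderOf g).Coprime p} = (q - 1) * q ^ (n - 1) := by
  open Cfsg.Agent.CrossChar56.Semisimple Polynomial in
  classical
  obtain ⟨m, rfl⟩ : ∃ m, n = m + 1 := ⟨n - 1, by omega⟩
  have e : {c : ConjClasses (GL (Fin (m + 1)) F) //
      ∃ g : GL (Fin (m + 1)) F, ConjClasses.mk g = c ∧ (orderOf g).Coprime p} ≃
      {P : F[X] // P.Monic ∧ P.natDegree = m + 1 ∧ P.coeff 0 ∈ ({0}ᶜ : Set F)} := by
    have hmem : ∀ g : GL (Fin (m + 1)) F,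
        (g : Matrix (Fin (m + 1)) (Fin (m + 1)) F).charpoly.Monic ∧
        (g : Matrix (Fin (m + 1)) (Fin (m + 1)) F).charpoly.natDegree = m + 1 ∧
        (g : Matrix (Fin (m + 1)) (Fin (m + 1)) F).charpoly.coeff 0 ∈ ({0}ᶜ : Set F) := by
      intro g
      refine ⟨Matrix.charpoly_monic _, by simp, ?_⟩
      intro h0
      have := ((Matrix.isUnit_iff_isUnit_det _).1 g.isUnit).ne_zero
      rw [Matrix.det_eq_sign_charpoly_coeff, Set.mem_singleton_iff.1 h0, mul_zero] at this
      exact this rfl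
    refine Equiv.ofBijective (fun c => ⟨_, hmem c.2.choose⟩) ⟨?_, ?_⟩
    · rintro ⟨c, hc⟩ ⟨d, hd⟩ h
      apply Subtype.ext
      show c = d
      rw [← hc.choose_spec.1, ← hd.choose_spec.1, ConjClasses.mk_eq_mk_iff_isConj]
      exact gl_isConj p _ _ hc.choose_spec.2 hd.choose_spec.2 (congrArg Subtype.val h)
    · rintro ⟨P, hP, hd, h0⟩
      obtain ⟨g, hg, hgP⟩ := exists_gl p P hP hd h0
      refine ⟨⟨ConjClasses.mk g, g, rfl, hg⟩, Subtype.ext ?_⟩
      show Matrix.charpoly _ = P
      have key : ∀ x : GL (Fin (m + 1)) F, IsConj x g →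
          (x : Matrix (Fin (m + 1)) (Fin (m + 1)) F).charpoly = P := by
        intro x hx
        obtain ⟨u, hu⟩ := isConj_iff.1 hx
        rw [← hgP, ← hu]
        rw [Units.val_mul, Units.val_mul, mul_assoc, Matrix.charpoly_mul_comm, mul_assoc,
          ← Units.val_mul, inv_mul_cancel, Units.val_one, mul_one]
      exact key _ (ConjClasses.mk_eq_mk_iff_isConj.1 (Exists.choose_spec
        (p := fun x : GL (Fin (m + 1)) F => ConjClasses.mk x = ConjClasses.mk g ∧ (orderOf x).Coprime p)
        ⟨g, rfl, hg⟩).1)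
  rw [Nat.card_congr e, card_monic m, Nat.add_sub_cancel, hq, Nat.card_coe_set_eq,
    Set.ncard_compl, Set.ncard_singleton, Nat.card_eq_fintype_card, hq]

end Cfsg.Agent.S2387
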