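import Cfsg.Statements.S2391
import Mathlib

set_option autoImplicit false
open Cfsg

namespace Cfsg.Agent.S2391

open Matrix

section
variable {F : Type*} [Field F] {n : ℕ}

/-- The next term of the fixed-point series. -/
def nextTerm (U : Subgroup (Matrix.SpecialLinearGroup (Fin n) F)) (W : Submodule F (Fin n → F)) :
    Submodule F (Fin n → F) :=
  ⨅ u : U, W.comap (Matrix.mulVecLin (((u : Matrix.SpecialLinearGroup (Fin n) F) :
    Matrix (Fin n) (Fin n) F)) - 1)

theorem mem_nextTerm {U : Subgroup (Matrix.SpecialLinearGroup (Fin n) F)}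
    {W : Submodule F (Fin n → F)} {v : Fin n → F} :
    v ∈ nextTerm U W ↔ ∀ u ∈ U, (u : Matrix (Fin n) (Fin n) F) *ᵥ v - v ∈ W := by
  simp [nextTerm]

/-- The fixed-point series of a subgroup. -/
def series (U : Subgroup (Matrix.SpecialLinearGroup (Fin n) F)) : ℕ → Submodule F (Fin n → F)
  | 0 => ⊥
  | i + 1 => nextTerm U (series U i)

theorem series_invariant (U : Subgroup (Matrix.SpecialLinearGroup (Fin n) F))
    (g : Matrix.SpecialLinearGroup (Fin n) F) (hg : g ∈ Subgroup.normalizer (U : Set _)) :
    ∀ i, ∀ v ∈ series U i, (g : Matrix (Fin n) (Fin n) F) *ᵥ v ∈ series U i := by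
  intro i
  induction i with
  | zero => intro v hv; simp [series] at hv ⊢; simp [hv]
  | succ i ih =>
    intro v hv
    show _ ∈ nextTerm U _
    rw [mem_nextTerm]
    intro u hu
    have hconj : g⁻¹ * u * g ∈ U := (Subgroup.mem_normalizer_iff''.mp hg u).mp hu
    have h := ih _ ((mem_nextTerm.mp hv) _ hconj)
    rw [mulVec_sub, mulVec_mulVec, ← Matrix.SpecialLinearGroup.coe_mul,
      show g * (g⁻¹ * u * g) = u * g by group, Matrix.SpecialLinearGroup.coe_mul,
      ← mulVec_mulVec] at h
    exact h

theorem series_mono (U : Subgroup (Matrix.SpecialLinearGroup (Fin n) F)) (i : ℕ) :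
    series U i ≤ series U (i + 1) := by
  intro v hv
  show v ∈ nextTerm U _
  rw [mem_nextTerm]
  intro u hu
  exact sub_mem (series_invariant U u (Subgroup.le_normalizer hu) i v hv) hv

theorem series_lt [Finite F] (p : ℕ) [Fact p.Prime] [CharP F p]
    (U : Subgroup (Matrix.SpecialLinearGroup (Fin n) F)) (hU : IsPGroup p U) (i : ℕ)
    (hi : series U i ≠ ⊤) : series U i < series U (i + 1) := by
  classical
  refine lt_of_le_of_ne (series_mono U i) fun heq => ?_
  set W := series U i with hW
  have hinv : ∀ u : U, ∀ v ∈ W,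
      ((u : Matrix.SpecialLinearGroup (Fin n) F) : Matrix (Fin n) (Fin n) F) *ᵥ v ∈ W :=
    fun u => series_invariant U u.1 (Subgroup.le_normalizer u.2) i
  letI : MulAction U ((Fin n → F) ⧸ W) :=
    { smul := fun u => W.mapQ W (Matrix.mulVecLin
        ((u : Matrix.SpecialLinearGroup (Fin n) F) : Matrix (Fin n) (Fin n) F)) (fun v hv => hinv u v hv)
      one_smul := fun x => by
        induction x using Submodule.Quotient.induction_on with
        | H v =>
          show Submodule.Quotient.mk _ = Submodule.Quotient.mk v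
          simp
      mul_smul := fun a b x => by
        induction x using Submodule.Quotient.induction_on with
        | H v =>
          show Submodule.Quotient.mk _ = Submodule.Quotient.mk _
          simp [mulVec_mulVec] }
  haveI : Finite ((Fin n → F) ⧸ W) := Finite.of_surjective _ (Submodule.Quotient.mk_surjective W)
  have hdvd : p ∣ Nat.card ((Fin n → F) ⧸ W) := by
    haveI : Nontrivial ((Fin n → F) ⧸ W) := Submodule.Quotient.nontrivial_iff.mpr hi
    haveI : Fintype F := Fintype.ofFinite F
    haveI : Module.Finite F ((Fin n → F) ⧸ W) := inferInstance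
    rw [Module.natCard_eq_pow_finrank (K := F), Nat.card_eq_fintype_card]
    obtain ⟨k, -, hk⟩ := FiniteField.card F p
    rw [hk, ← pow_mul]
    exact dvd_pow_self p (Nat.mul_ne_zero k.ne_zero Module.finrank_pos.ne')
  obtain ⟨x, hx, hx0⟩ := hU.exists_fixed_point_of_prime_dvd_card_of_fixed_point
    ((Fin n → F) ⧸ W) hdvd (a := 0) (by
      intro u
      show W.mapQ W _ _ 0 = 0
      simp)
  induction x using Submodule.Quotient.induction_on with
  | H v =>
    have hv : v ∈ series U (i + 1) := by
      show v ∈ nextTerm U _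
      rw [mem_nextTerm]
      intro u hu
      exact (Submodule.Quotient.eq W).mp (hx ⟨u, hu⟩)
    rw [← heq] at hv
    exact hx0 ((Submodule.Quotient.mk_eq_zero W).mpr hv).symm

end

/-- The Borel–Tits property of `SL_n(q)` in flag form: for a field `F` of characteristic `p` with finitely many elements and a non-trivial `p`-subgroup `U` of `SL_n(F)`, there is a flag `0 = V₀ < V₁ < ⋯ < V_{k+1} = F^n` with at least one proper non-zero member such that every element of the normaliser of `U` maps each `V_i` onto itself and every element of `U` acts trivially on each quotient `V_{i+1}/V_i` (so the normaliser lies in the parabolic subgroup of the flag and `U` in its unipotent radical). -/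
theorem result {F : Type*} [Field F] [Fintype F] (p : ℕ) [Fact p.Prime] [CharP F p] (n : ℕ)
    (U : Subgroup (Matrix.SpecialLinearGroup (Fin n) F)) (hU : IsPGroup p ↥U) (hne : U ≠ ⊥) :
    ∃ (k : ℕ) (V : Fin (k + 2) → Submodule F (Fin n → F)), 1 ≤ k ∧ StrictMono V ∧ V 0 = ⊥ ∧ V (Fin.last (k + 1)) = ⊤ ∧
      (∀ g ∈ Subgroup.normalizer (U : Set (Matrix.SpecialLinearGroup (Fin n) F)), ∀ i, (V i).map (Matrix.mulVecLin (g : Matrix (Fin n) (Fin n) F)) = V i) ∧
      (∀ u ∈ U, ∀ i : Fin (k + 1), ∀ v ∈ V i.succ, (u : Matrix (Fin n) (Fin n) F).mulVec v - v ∈ V (Fin.castSucc i)) := by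
  classical
  have hex : ∃ N, series U N = ⊤ := by
    by_contra hcon
    push Not at hcon
    have hgrow : ∀ N, N ≤ Module.finrank F (series U N) := by
      intro N
      induction N with
      | zero => exact Nat.zero_le _
      | succ N ih =>
        have := Submodule.finrank_lt_finrank_of_lt (series_lt p U hU N (hcon N))
        omega
    have h1 := hgrow (n + 1)
    have h2 := Submodule.finrank_le (series U (n + 1))
    rw [Module.finrank_fin_fun] at h2
    omega
  set N := Nat.find hex with hN
  have hNt : series U N = ⊤ := Nat.find_spec hex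
  have hlt : ∀ i < N, series U i ≠ ⊤ := fun i hi => Nat.find_min hex hi
  obtain ⟨u₀, hu₀, hne₀⟩ : ∃ u ∈ U, ∃ v : Fin n → F, (u : Matrix (Fin n) (Fin n) F) *ᵥ v ≠ v := by
    by_contra hcon
    push Not at hcon
    apply hne
    rw [Subgroup.eq_bot_iff_forall]
    intro u hu
    apply Subtype.ext
    refine Matrix.ext_iff_mulVec.mpr fun v => ?_
    rw [hcon u hu v]; simp
  obtain ⟨v₀, hv₀⟩ := hne₀
  have hN2 : 2 ≤ N := by
    by_contra hc
    apply hv₀
    have h1 : series U 1 = ⊤ := by
      rcases Nat.eq_zero_or_pos N with h | h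
      · rw [h] at hNt
        exact eq_top_iff.mpr (hNt ▸ series_mono U 0)
      · rwa [show N = 1 by omega] at hNt
    have h2 : v₀ ∈ nextTerm U (series U 0) := by
      show v₀ ∈ series U 1
      rw [h1]; trivial
    have := mem_nextTerm.mp h2 u₀ hu₀
    simpa [series, sub_eq_zero] using this
  refine ⟨N - 1, fun i => series U i.val, by omega, ?_, rfl, ?_, ?_, ?_⟩
  · refine Fin.strictMono_iff_lt_succ.mpr fun i => ?_
    exact series_lt p U hU i.val (hlt _ (by have := i.2; omega))
  · show series U (N - 1 + 1) = ⊤
    rw [Nat.sub_add_cancel (by omega), hNt]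
  · intro g hg i
    apply le_antisymm
    · rintro _ ⟨v, hv, rfl⟩
      exact series_invariant U g hg _ v hv
    · intro v hv
      refine ⟨(g⁻¹ : Matrix.SpecialLinearGroup (Fin n) F).1 *ᵥ v,
        series_invariant U g⁻¹ (inv_mem hg) _ v hv, ?_⟩
      rw [Matrix.mulVecLin_apply, mulVec_mulVec, ← Matrix.SpecialLinearGroup.coe_mul, mul_inv_cancel,
        Matrix.SpecialLinearGroup.coe_one, one_mulVec]
  · intro u hu i v hv
    exact mem_nextTerm.mp (show v ∈ nextTerm U (series U i.val) from hv) u hu

end Cfsg.Agent.S2391
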