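import Cfsg.Statements.S2399
import Cfsg.Agent.KnownSimple.Steinberg.Gen.Natural
import Cfsg.Agent.KnownSimple.Steinberg.Gen.Seven
import Cfsg.Agent.KnownSimple.Steinberg.Gen.Universal

set_option autoImplicit false
open scoped MatrixGroups
open Cfsg

namespace Cfsg.Agent.S2399

/-- Projective representations in the natural characteristic lift: for each of the types G₂, B₂, D₄, F₄, E₆, E₇, E₈ over any field `K` (for types B₂ and G₂ the field must have more than two elements — the cases where the Chevalley group is not simple are set aside), every homomorphism from the Chevalley group to `PGL_n(L) = GL_n(L)/Z`, `L` a field of the same characteristic as `K`, lifts uniquely to a homomorphism from the group Δ presented by (R1), (R2) to `GL_n(L)`, compatibly with the projection Δ → Chevalley group sending x̄_r(t) to x_r(t). -/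
theorem result {K : Type*} [Field K] (D : Cfsg.Lie.ChevalleyDatum) (hD : D ∈ [Cfsg.Lie.chevG2, Cfsg.Lie.chevB2, Cfsg.Lie.chevD4, Cfsg.Lie.chevF4, Cfsg.Lie.chevE6, Cfsg.Lie.chevE7, Cfsg.Lie.chevE8]) (hK : D ∈ [Cfsg.Lie.chevB2, Cfsg.Lie.chevG2] → ∃ x : K, x ≠ 0 ∧ x ≠ 1)
    (θ : D.SteinbergCover K →* ↥(D.group K))
    (hθ : ∀ (r : ℕ) (t : K), r < D.nroots → ((θ (D.scGen K r t) : GL D.Idx K) : Matrix D.Idx D.Idx K) = D.x K r t)
    {L : Type*} [Field L] (hL : ringChar L = ringChar K) {n : ℕ}
    (φ : ↥(D.group K) →* GL (Fin n) L ⧸ Subgroup.center (GL (Fin n) L)) :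
    ∃! ψ : D.SteinbergCover K →* GL (Fin n) L, (QuotientGroup.mk' (Subgroup.center (GL (Fin n) L))).comp ψ = φ.comp θ := by
  classical
  open Cfsg.Agent.KnownSimple.Steinberg Cfsg.Agent.KnownSimple.Steinberg.Gen in
  obtain ⟨two, P, hK2⟩ := pack_of_mem hD hK
  open Cfsg.Agent.KnownSimple.Steinberg Cfsg.Agent.KnownSimple.Steinberg.Gen in
  have hperf : commutator (D.SteinbergCover K) = ⊤ := P.perfect (scData (F := K) P.comm) hK2
  open Cfsg.Agent.KnownSimple.Steinberg Cfsg.Agent.KnownSimple.Steinberg.Gen in
  have hcen : (QuotientGroup.mk' (Subgroup.center (GL (Fin n) L))).ker ≤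
      Subgroup.center (GL (Fin n) L) := by rw [QuotientGroup.ker_mk']
  open Cfsg.Agent.KnownSimple.Steinberg Cfsg.Agent.KnownSimple.Steinberg.Gen in
  by_cases hF : ∃ S : Finset K, 4 < S.card
  · exact existsUnique_lift P hK2 (QuotientGroup.mk' (Subgroup.center (GL (Fin n) L)))
      (QuotientGroup.mk'_surjective _) hcen (φ.comp θ) fun _ _ X => exists_pre_of_mem hD hF X
  · have : Finite K := by
      by_contra hinf
      rw [not_finite_iff_infinite] at hinf
      obtain ⟨S, hS⟩ := Infinite.exists_subset_card_eq K 5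
      exact hF ⟨S, by omega⟩
    obtain ⟨p, hcp⟩ := CharP.exists K
    have hp : Fact p.Prime := ⟨CharP.char_is_prime K p⟩
    have hcl : CharP L p := by
      have := ringChar.charP L
      rwa [hL, ringChar.eq K p] at this
    have hθ' : θ = toGroup (scData (F := K) P.comm) P.comm.toGood := by
      refine PresentedGroup.ext fun x => Subtype.ext (Units.ext ?_)
      have h := hθ x.1.val x.2 x.1.isLt
      have e : D.scGen K x.1.val x.2 = PresentedGroup.of x := by
        simp [Cfsg.Lie.ChevalleyDatum.scGen, Cfsg.Lie.ChevalleyDatum.stX, PresentedGroup.of]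
      rw [e] at h
      rw [h]
      have h' := congrArg (fun g : GL D.Idx K => (g : Matrix D.Idx D.Idx K))
        ((scData (F := K) P.comm).π_of x.1 x.2)
      simp only [P.comm.toGood.val_xg] at h'
      exact h'.symm
    obtain ⟨ψ, hψ⟩ := exists_lift_natural P hK2 (p := p) (L := L) (n := n)
      (fun P₀ X htor hroot => by
        simp only [List.mem_cons, List.not_mem_nil, or_false] at hD
        rcases hD with rfl | rfl | rfl | rfl | rfl | rfl | rfl
        · exact exists_pre_of_rootlift packG2.dok packG2.comm X (CharP.cast_eq_zero K p) htor hroot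
            (pairK_of_bigK bigKG2)
        · exact exists_pre_of_rootlift packB2.dok packB2.comm X (CharP.cast_eq_zero K p) htor hroot
            (pairK_of_bigK bigKB2)
        · exact exists_pre_of_rootlift packD4.dok packD4.comm X (CharP.cast_eq_zero K p) htor hroot
            (pairK_of_bigK bigKD4)
        · exact exists_pre_of_rootlift packF4.dok packF4.comm X (CharP.cast_eq_zero K p) htor hroot
            (pairK_of_bigK bigKF4)
        · exact exists_pre_of_sld sldE6 X
        · exact exists_pre_of_sld sldE7 X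
        · exact exists_pre_of_sld sldE8 X) φ
    rw [← hθ'] at hψ
    exact ⟨ψ, hψ, fun ψ' hψ' => hom_eq_of_perfect hperf _ hcen ψ' ψ (hψ'.trans hψ.symm)⟩

end Cfsg.Agent.S2399
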