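import Cfsg.Statements.S2400
import Cfsg.Agent.KnownSimple.Steinberg.Gen.StMult
import Cfsg.Agent.KnownSimple.Steinberg.Gen.SmallAll
import Cfsg.Agent.KnownSimple.Steinberg.Gen.Nbr

set_option autoImplicit false
open Cfsg

namespace Cfsg.Agent.S2400

/-- Over a finite field `K`, the group presented by Steinberg's relators (R1)–(R3) (the universal Chevalley group) of type E₆ or E₇, or of type B₂ or D₄ with `K` of more than two elements, has trivial Schur multiplier: every finite stem extension of it is an isomorphism (Schur multiplier described through stem extensions as in the definitions). Types G₂, F₄ and E₈ are not covered here. -/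
theorem result {K : Type*} [Field K] [Fintype K] (e : Cfsg.Lie.ChevalleyDatum × ℕ)
    (he : e ∈ [(Cfsg.Lie.chevE6, 0), (Cfsg.Lie.chevE7, 0), (Cfsg.Lie.chevB2, 2), (Cfsg.Lie.chevD4, 2)]) (hK : Fintype.card K ≠ e.2) :
    Cfsg.HasCyclicSchurMultiplier (e.1.SteinbergGroup K) 1 := by
  simp only [List.mem_cons, List.not_mem_nil, or_false] at he
  open Cfsg.Agent.KnownSimple.Steinberg Cfsg.Agent.KnownSimple.Steinberg.Gen in
  rcases he with rfl | rfl | rfl | rfl
  · exact hasCyclicSchurMultiplier_steinberg packE6 (fun h => nomatch h) (nbrOK_of_mem (by simp))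
      fun Γ _ _ X => exists_pre_of_sld sldE6 X
  · exact hasCyclicSchurMultiplier_steinberg packE7 (fun h => nomatch h) (nbrOK_of_mem (by simp))
      fun Γ _ _ X => exists_pre_of_sld sldE7 X
  · refine hasCyclicSchurMultiplier_steinberg packB2 (fun _ => ?_) (nbrOK_of_mem (by simp))
      fun Γ _ _ X => exists_pre_B2D4 hK (Or.inl rfl) X
    by_contra hne
    push Not at hne
    refine hK (le_antisymm ?_ Fintype.one_lt_card)
    classical
    exact (Finset.card_le_card (s := Finset.univ) (t := ({0, 1} : Finset K)) fun x _ => by
      simpa using (eq_or_ne x 0).imp_right (hne x)).trans Finset.card_le_two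
  · exact hasCyclicSchurMultiplier_steinberg packD4 (fun h => nomatch h) (nbrOK_of_mem (by simp))
      fun Γ _ _ X => exists_pre_B2D4 hK (Or.inr rfl) X

end Cfsg.Agent.S2400
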