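import Cfsg.Statements.S2402
import Cfsg.Agent.Lib.LinearGroup.MonomialShift

set_option autoImplicit false
open Cfsg

namespace Cfsg.Agent.S2402

/-- Explicit two-element generation of `PSL_{n+1}(K)` for a finite field `K` with more than three elements: let `k` generate the multiplicative group of `K`, `h = diag(k, k⁻¹, 1, …, 1)`, `x = 1 + E₁₂` (the elementary transvection) and `w` the monomial matrix with entries `1` in positions `(i, i+1)` and `(−1)^n` in position `(n+1, 1)`. Then `h` and `x·w` generate `SL_{n+1}(K)` modulo its centre: the subgroup they generate together with the centre is everything. -/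
theorem result {K : Type*} [Field K] [Fintype K] (hK : 3 < Fintype.card K) (n : ℕ) (hn : 1 ≤ n)
    (k : Kˣ) (hk : ∀ u : Kˣ, u ∈ Subgroup.zpowers k)
    (h x w : Matrix.SpecialLinearGroup (Fin (n + 1)) K)
    (hh : (h : Matrix (Fin (n + 1)) (Fin (n + 1)) K) =
      Matrix.diagonal (fun i => if i.val = 0 then (k : K) else if i.val = 1 then ((k⁻¹ : Kˣ) : K) else 1))
    (hx : (x : Matrix (Fin (n + 1)) (Fin (n + 1)) K) = Matrix.transvection (0 : Fin (n + 1)) (1 : Fin (n + 1)) 1)
    (hw : (w : Matrix (Fin (n + 1)) (Fin (n + 1)) K) =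
      Matrix.of (fun i j => if j.val = i.val + 1 then 1 else if i.val = n ∧ j.val = 0 then (-1) ^ n else 0)) :
    Subgroup.closure ({h, x * w} : Set (Matrix.SpecialLinearGroup (Fin (n + 1)) K)) ⊔
      Subgroup.center (Matrix.SpecialLinearGroup (Fin (n + 1)) K) = ⊤ := by
  rw [eq_top_iff]
  refine le_trans ?_ le_sup_left
  rw [top_le_iff]
  set H := Subgroup.closure ({h, x * w} : Set (Matrix.SpecialLinearGroup (Fin (n + 1)) K))
  have hhH : h ∈ H := Subgroup.subset_closure (by simp)
  have hyH : x * w ∈ H := Subgroup.subset_closure (by simp)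
  have h01 : (0 : Fin (n + 1)) ≠ 1 := by
    intro e
    have := congrArg Fin.val e
    rw [Fin.val_one', Fin.val_zero, Nat.mod_eq_of_lt (by omega)] at this
    exact zero_ne_one this
  have hk0 : (k : K) ≠ 0 := k.ne_zero
  have hord : orderOf k = Fintype.card K - 1 := by
    rw [orderOf_eq_card_of_forall_mem_zpowers hk, Nat.card_units, Nat.card_eq_fintype_card]
  have hksq : (k : K) ^ 2 ≠ 1 := by
    intro e
    have : orderOf k ∣ 2 := orderOf_dvd_of_pow_eq_one (Units.ext (by simpa using e))
    have := Nat.le_of_dvd (by norm_num) this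
    omega
  have hk1 : (k : K) ≠ 1 := fun e => hksq (by rw [e, one_pow])
  set f : Fin (n + 1) → K := fun i =>
    if i.val = 0 then (k : K) else if i.val = 1 then ((k⁻¹ : Kˣ) : K) else 1 with hf
  set g : Fin (n + 1) → K := fun a => f (a + 1) with hg
  have v1 : (1 : Fin (n + 1)).val = 1 := by
    rw [Fin.val_one', Nat.mod_eq_of_lt (by omega)]
  have f0 : f 0 = (k : K) := by simp only [hf, Fin.val_zero, if_true]
  have f1 : f 1 = (k : K)⁻¹ := by
    simp only [hf]
    rw [if_neg (by rw [v1]; omega), if_pos v1, Units.val_inv_eq_inv_val]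
  have g0 : g 0 = (k : K)⁻¹ := by simp only [hg, zero_add, f1]
  have g1 : g 1 = 1 ∨ g 1 = (k : K) := by
    rcases Nat.lt_or_ge 1 n with h2 | h2
    · left
      have : ((1 : Fin (n + 1)) + 1).val = 2 := by
        rw [Fin.val_add, v1, Nat.mod_eq_of_lt (by omega)]
      simp only [hg, hf, this]
      norm_num
    · right
      have : ((1 : Fin (n + 1)) + 1).val = 0 := by
        obtain rfl : n = 1 := le_antisymm h2 hn
        rfl
      simp only [hg, hf, this, if_true]
  have g1ne : g 1 ≠ 0 := by rcases g1 with e | e <;> rw [e] <;> simp [hk0]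
  have gne : g 0 ≠ g 1 := by
    rcases g1 with e | e <;> rw [e, g0]
    · simpa using hk1
    · intro e'
      apply hksq
      calc (k : K) ^ 2 = (k : K) * (k : K)⁻¹ := by rw [e']; ring
        _ = 1 := mul_inv_cancel₀ hk0
  -- the element `w h w⁻¹` is diagonal
  obtain ⟨d, hd⟩ : ∃ d, d = w * h * w⁻¹ := ⟨_, rfl⟩
  have hdm : (d : Matrix (Fin (n + 1)) (Fin (n + 1)) K) = Matrix.diagonal g := by
    have hwh : (w : Matrix (Fin (n + 1)) (Fin (n + 1)) K) * h =
        Matrix.diagonal g * (w : Matrix (Fin (n + 1)) (Fin (n + 1)) K) := by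
      rw [hw, Cfsg.Agent.LinearGroup.shift_matrix_eq hn, hh,
        Cfsg.Agent.LinearGroup.shift_mul_diagonal (fun b : Fin (n + 1) => if b = 0 then (-1 : K) ^ n else 1)]
    rw [hd, Matrix.SpecialLinearGroup.coe_mul, Matrix.SpecialLinearGroup.coe_mul, hwh,
      Matrix.mul_assoc, ← Matrix.SpecialLinearGroup.coe_mul, mul_inv_cancel,
      Matrix.SpecialLinearGroup.coe_one, Matrix.mul_one]
  have conjDiag : ∀ (a : Matrix.SpecialLinearGroup (Fin (n + 1)) K) (u : Fin (n + 1) → K) (s t : K),
      (a : Matrix (Fin (n + 1)) (Fin (n + 1)) K) = Matrix.diagonal u → u 0 * s = t * u 1 →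
      a * Matrix.SpecialLinearGroup.transvection h01 s * a⁻¹ =
        Matrix.SpecialLinearGroup.transvection h01 t := by
    intro a u s t ha e
    refine Cfsg.Agent.LinearGroup.conj_transvection_eq h01 h01 ?_
    rw [ha]
    ext i j
    rw [Matrix.diagonal_mul, Matrix.mul_diagonal, Matrix.single_apply, Matrix.single_apply]
    split_ifs with hij
    · rw [← hij.1, ← hij.2]; exact e
    · simp
  have hxT : x = Matrix.SpecialLinearGroup.transvection h01 (1 : K) :=
    Subtype.ext (by rw [Matrix.SpecialLinearGroup.transvection_coe, hx]; rfl)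
  set c : K := g 1 / g 0 - 1 with hc
  have hg0 : g 0 ≠ 0 := by rw [g0]; simp [hk0]
  have hc0 : c ≠ 0 := by
    rw [hc, sub_ne_zero, Ne, div_eq_one_iff_eq hg0]; exact fun e => gne e.symm
  have hxdx : x * d * x⁻¹ = d * Matrix.SpecialLinearGroup.transvection h01 c := by
    have e1 : d * Matrix.SpecialLinearGroup.transvection h01 (g 1 / g 0) * d⁻¹ = x := by
      rw [hxT]; exact conjDiag d g _ _ hdm (by field_simp)
    have e2 : Matrix.SpecialLinearGroup.transvection h01 c =
        Matrix.SpecialLinearGroup.transvection h01 (g 1 / g 0) * x⁻¹ := by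
      rw [hxT, Matrix.SpecialLinearGroup.transvection_inv,
        ← Matrix.SpecialLinearGroup.transvection_add, hc, sub_eq_add_neg]
    rw [e2]
    conv_lhs => rw [← e1]
    rw [e1]
    calc x * d * x⁻¹ = (d * Matrix.SpecialLinearGroup.transvection h01 (g 1 / g 0) * d⁻¹) * d * x⁻¹ := by
          rw [e1]
      _ = _ := by group
  have hhd : h * d = d * h := by
    apply Subtype.ext
    rw [Matrix.SpecialLinearGroup.coe_mul, Matrix.SpecialLinearGroup.coe_mul, hh, hdm,
      Matrix.diagonal_mul_diagonal, Matrix.diagonal_mul_diagonal]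
    congr 1
    funext i
    exact mul_comm _ _
  have hq : x * d * x⁻¹ ∈ H := by
    have : x * d * x⁻¹ = (x * w) * h * (x * w)⁻¹ := by rw [hd]; group
    rw [this]
    exact mul_mem (mul_mem hyH hhH) (inv_mem hyH)
  have hconjh : ∀ s, h * Matrix.SpecialLinearGroup.transvection h01 s * h⁻¹ =
      Matrix.SpecialLinearGroup.transvection h01 ((k : K) ^ 2 * s) := fun s =>
    conjDiag h f _ _ hh (by rw [f0, f1]; field_simp)
  have hR : ∀ s, s ∈ Cfsg.Agent.LinearGroup.rootCoeff H 0 1 →
      (k : K) ^ 2 * s ∈ Cfsg.Agent.LinearGroup.rootCoeff H 0 1 := by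
    intro s hs
    rw [Cfsg.Agent.LinearGroup.mem_rootCoeff h01] at hs ⊢
    rw [← hconjh]
    exact mul_mem (mul_mem hhH hs) (inv_mem hhH)
  set c' : K := g 0 / g 1 * (((k : K) ^ 2 - 1) * c) with hc'
  have hc'0 : c' ≠ 0 :=
    mul_ne_zero (div_ne_zero hg0 g1ne) (mul_ne_zero (sub_ne_zero.mpr hksq) hc0)
  have hc'R : c' ∈ Cfsg.Agent.LinearGroup.rootCoeff H 0 1 := by
    rw [Cfsg.Agent.LinearGroup.mem_rootCoeff h01]
    set T := Matrix.SpecialLinearGroup.transvection (F := K) h01 c
    have e3 : d * (h * T * h⁻¹ * T⁻¹) * d⁻¹ = Matrix.SpecialLinearGroup.transvection h01 c' := by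
      rw [hconjh, Matrix.SpecialLinearGroup.transvection_inv,
        ← Matrix.SpecialLinearGroup.transvection_add]
      exact conjDiag d g _ _ hdm (by rw [hc']; field_simp; ring)
    rw [← e3]
    have : d * (h * T * h⁻¹ * T⁻¹) * d⁻¹ = h * (d * T) * h⁻¹ * (d * T)⁻¹ := by
      calc d * (h * T * h⁻¹ * T⁻¹) * d⁻¹ = (d * h) * T * h⁻¹ * T⁻¹ * d⁻¹ := by group
        _ = _ := by rw [← hhd]; group
    rw [this, ← hxdx]
    exact mul_mem (mul_mem (mul_mem hhH hq) (inv_mem hhH)) (inv_mem hq)
  have hfull : ∀ s, s ∈ Cfsg.Agent.LinearGroup.rootCoeff H 0 1 := by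
    let S : AddSubgroup K :=
      (Cfsg.Agent.LinearGroup.rootCoeff H 0 1).comap (AddMonoidHom.mulLeft c')
    have hpow : ∀ i : ℕ, ((k : K) ^ 2) ^ i ∈ S := by
      intro i
      induction i with
      | zero => simpa [S] using hc'R
      | succ i ih =>
        simp only [S, AddSubgroup.mem_comap, AddMonoidHom.coe_mulLeft] at ih ⊢
        rw [pow_succ', mul_left_comm]
        exact hR _ ih
    have hS : S = ⊤ := by
      rw [eq_top_iff, ← Cfsg.Agent.LinearGroup.closure_squares_eq_top, AddSubgroup.closure_le]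
      rintro s ⟨r, rfl⟩
      rcases eq_or_ne r 0 with rfl | hr
      · simp
      obtain ⟨i, hi⟩ := (mem_powers_iff_mem_zpowers.mpr (hk (Units.mk0 r hr)))
      have : (k : K) ^ i = r := by simpa using congrArg Units.val hi
      rw [← this, show (k : K) ^ i * (k : K) ^ i = ((k : K) ^ 2) ^ i by ring]
      exact hpow i
    intro s
    have : c'⁻¹ * s ∈ S := by rw [hS]; trivial
    simpa [S, mul_inv_cancel_left₀ hc'0] using this
  have hxH : x ∈ H := by
    rw [hxT, ← Cfsg.Agent.LinearGroup.mem_rootCoeff h01]; exact hfull 1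
  have hwH : w ∈ H := by
    have : w = x⁻¹ * (x * w) := by group
    rw [this]; exact mul_mem (inv_mem hxH) hyH
  exact Cfsg.Agent.LinearGroup.eq_top_of_shift hn hwH hw hfull

end Cfsg.Agent.S2402
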