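import Cfsg.Statements.S2403
import Cfsg.Agent.Lib.LinearGroup.MonomialShift

set_option autoImplicit false
open Cfsg

namespace Cfsg.Agent.S2403

/-- Explicit two-element generation of `PSL_{n+1}(K)` over the fields with two or three elements: with `x = 1 + E₁₂` and `w` the monomial matrix with entries `1` in positions `(i, i+1)` and `(−1)^n` in position `(n+1, 1)`, the elements `x` and `w` generate `SL_{n+1}(K)` modulo its centre. -/
theorem result {K : Type*} [Field K] [Fintype K] (hK : Fintype.card K ≤ 3) (n : ℕ) (hn : 1 ≤ n)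
    (x w : Matrix.SpecialLinearGroup (Fin (n + 1)) K)
    (hx : (x : Matrix (Fin (n + 1)) (Fin (n + 1)) K) = Matrix.transvection (0 : Fin (n + 1)) (1 : Fin (n + 1)) 1)
    (hw : (w : Matrix (Fin (n + 1)) (Fin (n + 1)) K) =
      Matrix.of (fun i j => if j.val = i.val + 1 then 1 else if i.val = n ∧ j.val = 0 then (-1) ^ n else 0)) :
    Subgroup.closure ({x, w} : Set (Matrix.SpecialLinearGroup (Fin (n + 1)) K)) ⊔
      Subgroup.center (Matrix.SpecialLinearGroup (Fin (n + 1)) K) = ⊤ := by
  rw [eq_top_iff]
  refine le_trans ?_ le_sup_left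
  rw [top_le_iff]
  set H := Subgroup.closure ({x, w} : Set (Matrix.SpecialLinearGroup (Fin (n + 1)) K))
  refine Cfsg.Agent.LinearGroup.eq_top_of_shift hn (w := w) (Subgroup.subset_closure (by simp)) hw ?_
  have h01 : (0 : Fin (n + 1)) ≠ 1 := by
    intro h
    have := congrArg Fin.val h
    rw [Fin.val_one', Fin.val_zero, Nat.mod_eq_of_lt (by omega)] at this
    exact zero_ne_one this
  have h1 : (1 : K) ∈ Cfsg.Agent.LinearGroup.rootCoeff H 0 1 := by
    rw [Cfsg.Agent.LinearGroup.mem_rootCoeff h01]
    have : Matrix.SpecialLinearGroup.transvection h01 (1 : K) = x :=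
      Subtype.ext (by rw [Matrix.SpecialLinearGroup.transvection_coe, hx]; rfl)
    rw [this]
    exact Subgroup.subset_closure (by simp)
  intro s
  rcases eq_or_ne s 0 with rfl | hs
  · exact zero_mem _
  have hp := FiniteField.pow_card_sub_one_eq_one s hs
  have hc : 1 < Fintype.card K := Fintype.one_lt_card
  have : s = 1 ∨ s = -1 := by
    obtain h | h : Fintype.card K - 1 = 1 ∨ Fintype.card K - 1 = 2 := by omega
    · rw [h, pow_one] at hp; exact Or.inl hp
    · rw [h] at hp; exact sq_eq_one_iff.mp hp
  rcases this with rfl | rfl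
  · exact h1
  · exact neg_mem h1

end Cfsg.Agent.S2403
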