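import Cfsg.Statements.S2405
import Cfsg.Agent.Lib.ChevGen.Tables
import Cfsg.Agent.Lib.ChevCore.CommAll
-- import your own Cfsg.Agent.* helpers here

set_option autoImplicit false
set_option maxHeartbeats 4000000
open Cfsg

namespace Cfsg.Agent.S2405

open Cfsg.Agent.ChevCore Cfsg.Agent.ChevGen

/-- Each Chevalley group of type G₂, B₂, D₄, F₄, E₆, E₇ or E₈ over a finite field is generated by two of its elements (types B₂ and G₂ over the field with two elements, where the group is not simple, excepted). -/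
theorem result {F : Type*} [Field F] [Finite F] (D : Cfsg.Lie.ChevalleyDatum) (hD : D ∈ [Cfsg.Lie.chevG2, Cfsg.Lie.chevB2, Cfsg.Lie.chevD4, Cfsg.Lie.chevF4, Cfsg.Lie.chevE6, Cfsg.Lie.chevE7, Cfsg.Lie.chevE8])
    (hF : D ∈ [Cfsg.Lie.chevB2, Cfsg.Lie.chevG2] → ∃ x : F, x ≠ 0 ∧ x ≠ 1) :
    ∃ a b : ↥(D.group F), Subgroup.closure ({a, b} : Set ↥(D.group F)) = ⊤ := by
  classical
  haveI := Fintype.ofFinite F
  have h1 : 2 ≤ Fintype.card F := Fintype.one_lt_card
  have hbig : D ∈ [Cfsg.Lie.chevB2, Cfsg.Lie.chevG2] → 2 < Fintype.card F := fun h => by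
    obtain ⟨x, hx0, hx1⟩ := hF h
    exact Fintype.two_lt_card_iff.2 ⟨0, 1, x, zero_ne_one, hx0.symm, hx1.symm⟩
  simp only [List.mem_cons, List.not_mem_nil, or_false] at hD
  rcases hD with rfl | rfl | rfl | rfl | rfl | rfl | rfl
  · by_cases h3 : (3 : F) = 0
    · haveI : Fact (Nat.Prime 3) := ⟨Nat.prime_three⟩
      haveI : CharP F 3 := CharP.charP_iff_prime_eq_zero Nat.prime_three |>.2 (by exact_mod_cast h3)
      refine exists_two_of_cfg commGoodG2 (hbig (by simp)) cfgG2b (by decide +kernel) ?_ ?_ ?_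
      · simp [cfgG2b, addClosure_pow_one, addClosure_pow_char (F := F) 3]
      · simp [cfgG2b]
      · simp only [cfgG2b, List.mem_singleton, forall_eq]
        refine (Nat.Prime.coprime_iff_not_dvd Nat.prime_three).2 fun hd => ?_
        have h3' : 3 ∣ Fintype.card F := (CharP.cast_eq_zero_iff F 3 _).1 (Nat.cast_card_eq_zero F)
        omega
    · refine exists_two_of_cfg commGoodG2 (hbig (by simp)) cfgG2a (by decide +kernel) ?_ ?_ ?_
      · simp [cfgG2a, addClosure_pow_one]
      · simp [cfgG2a, h3]
      · simp [cfgG2a]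
  · exact exists_two_of_cfg commGoodB2 (hbig (by simp)) cfgB2 (by decide +kernel)
      (by simp [cfgB2, addClosure_pow_one, addClosure_sq]) (by simp [cfgB2]) (by simp [cfgB2])
  · rcases h1.lt_or_eq with hq | hq
    · exact exists_two_of_cfg commGoodD4 hq cfgD4 (by decide +kernel)
        (by simp [cfgD4, addClosure_pow_one]) (by simp [cfgD4]) (by simp [cfgD4])
    · exact exists_two_of_pair commGoodD4 hq.symm (l := 2) (i := 1) (x := 8) (m := 6)
        (ps := pairStepsD4) (ps' := pairStepsD42) (by decide +kernel)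
  · rcases h1.lt_or_eq with hq | hq
    · exact exists_two_of_cfg commGoodF4 hq cfgF4 (by decide +kernel)
        (by simp [cfgF4, addClosure_pow_one, addClosure_sq]) (by simp [cfgF4]) (by simp [cfgF4])
    · exact exists_two_of_pair commGoodF4 hq.symm (l := 0) (i := 0) (x := 32) (m := 12)
        (ps := pairStepsF4) (ps' := pairStepsF42) (by decide +kernel)
  · rcases h1.lt_or_eq with hq | hq
    · exact exists_two_of_cfg commGoodE6 hq cfgE6 (by decide +kernel)
        (by simp [cfgE6, addClosure_pow_one]) (by simp [cfgE6]) (by simp [cfgE6])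
    · exact exists_two_of_orbit commGoodE6 hq.symm (s := 2) (m := 12) (ps := orbitStepsE6Two)
        (by decide +kernel)
  · rcases h1.lt_or_eq with hq | hq
    · exact exists_two_of_cfg commGoodE7 hq cfgE7 (by decide +kernel)
        (by simp [cfgE7, addClosure_pow_one]) (by simp [cfgE7]) (by simp [cfgE7])
    · exact exists_two_of_orbit commGoodE7 hq.symm (s := 3) (m := 18) (ps := orbitStepsE7Two)
        (by decide +kernel)
  · rcases h1.lt_or_eq with hq | hq
    · exact exists_two_of_cfg commGoodE8 hq cfgE8 (by decide +kernel)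
        (by simp [cfgE8, addClosure_pow_one]) (by simp [cfgE8]) (by simp [cfgE8])
    · exact exists_two_of_orbit commGoodE8 hq.symm (s := 0) (m := 30) (ps := orbitStepsE8Two)
        (by decide +kernel)

end Cfsg.Agent.S2405
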