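import Cfsg.Statements.S2407
import Cfsg.Agent.KnownSimple58.D4TwoGen
import Cfsg.Agent.Twisted.Groups.D4Inst

set_option autoImplicit false
open Cfsg

namespace Cfsg.Agent.S2407

/-- The twisted group ³D₄(q) (realised inside D₄ over the field with `q³` elements) is generated by two of its elements. -/
theorem result {K : Type*} [Field K] [Fintype K] {q : ℕ} (hq : IsPrimePow q) (hK : Fintype.card K = q ^ 3) :
    ∃ a b : ↥(Cfsg.Lie.twistedD4 K q), Subgroup.closure ({a, b} : Set ↥(Cfsg.Lie.twistedD4 K q)) = ⊤ := by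
  let Z := Cfsg.Agent.Twisted.TypeD4.frame₀ hq hK
  let e := Cfsg.Agent.Twisted.genEquiv (Cfsg.Agent.Twisted.TypeD4.MT) (Cfsg.Agent.ChevGroup.relsOfCommGood Cfsg.Agent.ChevCore.commGoodD4 K) (Cfsg.Lie.d4Words K q)
  obtain ⟨a, b, h⟩ := Cfsg.Agent.Twisted.TypeD4.TwoGen.exists_two_gen Z hq hK
  refine ⟨e a, e b, ?_⟩
  have h2 := congrArg (Subgroup.map e.toMonoidHom) h
  rw [MonoidHom.map_closure, Set.image_pair, Subgroup.map_top_of_surjective _ e.surjective] at h2
  exact h2

end Cfsg.Agent.S2407
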