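import Cfsg.Statements.S2408
import Cfsg.Agent.KnownSimple58.F4TwoGen
import Cfsg.Agent.Twisted.Groups.F4Inst

set_option autoImplicit false
open Cfsg

namespace Cfsg.Agent.S2408

/-- The large Ree group ²F₄(2^(2m+1)) with `m ≥ 1` is generated by two of its elements. -/
theorem result {K : Type*} [Field K] [Fintype K] {m : ℕ} (hm : 1 ≤ m) (hK : Fintype.card K = 2 ^ (2 * m + 1)) :
    ∃ a b : ↥(Cfsg.Lie.twistedF4 K (2 ^ m)), Subgroup.closure ({a, b} : Set ↥(Cfsg.Lie.twistedF4 K (2 ^ m))) = ⊤ := by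
  let Z := Cfsg.Agent.Twisted.TypeF4.frame₀ hK
  let e := Cfsg.Agent.Twisted.genEquiv (Cfsg.Agent.Twisted.TypeF4.MT) (Cfsg.Agent.ChevGroup.relsOfCommGood Cfsg.Agent.ChevCore.commGoodF4 K) (Cfsg.Lie.f4Words K (2 ^ m))
  obtain ⟨a, b, h⟩ := Cfsg.Agent.Twisted.TypeF4.TwoGen.exists_two_gen Z hK hm
  refine ⟨e a, e b, ?_⟩
  have h2 := congrArg (Subgroup.map e.toMonoidHom) h
  rw [MonoidHom.map_closure, Set.image_pair, Subgroup.map_top_of_surjective _ e.surjective] at h2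
  exact h2

end Cfsg.Agent.S2408
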