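import Cfsg.Statements.S2410
import Cfsg.Agent.Lib.Suzuki.Simple

set_option autoImplicit false
open Cfsg Cfsg.Agent.Suzuki

namespace Cfsg.Agent.S2410

/-- The Suzuki group over the field with `2^(2m+1)` elements, `m ≥ 1` (realised as the stabiliser in `SL₄` of the Suzuki–Tits ovoid), is generated by two of its elements. -/
theorem result {F : Type*} [Field F] [Fintype F] {m : ℕ} (hm : 1 ≤ m) (hF : Fintype.card F = 2 ^ (2 * m + 1)) :
    ∃ a b : ↥(Cfsg.Sz F m), Subgroup.closure ({a, b} : Set ↥(Cfsg.Sz F m)) = ⊤ := by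
  classical
  obtain ⟨k₀, hk₀⟩ := IsCyclic.exists_generator (α := Fˣ)
  refine ⟨T hF k₀, U hF 1 0 * W hF, ?_⟩
  set H := Subgroup.closure ({T hF k₀, U hF 1 0 * W hF} : Set ↥(Cfsg.Sz F m))
  have hT : ∀ k : Fˣ, T hF k ∈ H := by
    intro k
    obtain ⟨j, rfl⟩ := Subgroup.mem_zpowers_iff.mp (hk₀ k)
    rw [show T hF (k₀ ^ j) = T hF k₀ ^ j from map_zpow (THom hF) k₀ j]
    exact zpow_mem (Subgroup.subset_closure (by simp)) _
  have hy : U hF 1 0 * W hF ∈ H := Subgroup.subset_closure (by simp)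
  obtain ⟨k, hk0, hk1⟩ := exists_ne_zero_one hF hm
  let l : Fˣ := Units.mk0 k hk0
  have h1 : U hF 1 0 * W hF * T hF l⁻¹ * (U hF 1 0 * W hF)⁻¹ * (T hF l)⁻¹ ∈ H :=
    mul_mem (mul_mem (mul_mem hy (hT _)) (inv_mem hy)) (inv_mem (hT _))
  have h2 : U hF 1 0 * W hF * T hF l⁻¹ * (U hF 1 0 * W hF)⁻¹ * (T hF l)⁻¹ =
      U hF (1 + k) (k * sig m k + k) := by
    rw [_root_.mul_inv_rev, mul_assoc (U hF 1 0) (W hF), W_mul_T, inv_inv]
    have e : (T hF l * U hF 1 0 * (T hF l)⁻¹)⁻¹ = T hF l * (U hF 1 0)⁻¹ * (T hF l)⁻¹ := by group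
    rw [show U hF 1 0 * (T hF l * W hF) * ((W hF)⁻¹ * (U hF 1 0)⁻¹) * (T hF l)⁻¹ =
      U hF 1 0 * (T hF l * (U hF 1 0)⁻¹ * (T hF l)⁻¹) by group, U_inv, T_conj_U, U_mul]
    congr 1 <;> simp [sig_one, l]
  rw [h2] at h1
  set c : F := 1 + k with hc
  have hc0 : c ≠ 0 := fun h => hk1 (eq_of_add_eq_zero hF h).symm
  have hsurj : ∀ b : F, b ≠ 0 → ∃ j : Fˣ, (j : F) * sig m (j : F) = b := by
    intro b hb
    let κ : Fˣ → Fˣ := fun j => j * Units.mk0 (sig m (j : F)) (sig_ne_zero j.ne_zero)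
    have hκ : Function.Injective κ := by
      intro x y h
      have h' : (x : F) * sig m (x : F) = (y : F) * sig m (y : F) := congrArg Units.val h
      have hy := y.ne_zero
      have hsy := sig_ne_zero (m := m) hy
      apply Units.ext
      refine (div_eq_one_iff_eq hy).mp (eq_one_of_mul_sig hF (div_ne_zero x.ne_zero hy) ?_)
      rw [div_eq_mul_inv, sig_mul, sig_inv]
      field_simp
      linear_combination h'
    obtain ⟨j, hj⟩ := Finite.injective_iff_surjective.mp hκ (Units.mk0 b hb)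
    exact ⟨j, congrArg Units.val hj⟩
  have hZ : ∀ b : F, U hF 0 b ∈ H := by
    intro b
    by_cases hb : b = 0
    · rw [hb, U_zero]; exact one_mem _
    obtain ⟨j, hj⟩ := hsurj (b / (sig m c * c)) (div_ne_zero hb (mul_ne_zero (sig_ne_zero hc0) hc0))
    have h3 := mul_mem (mul_mem (hT j) (mul_mem h1 h1)) (inv_mem (hT j))
    rw [U_mul, T_conj_U] at h3
    convert h3 using 2
    · rw [add_self hF, mul_zero]
    · rw [add_self hF, zero_add, hj, div_mul_cancel₀ _ (mul_ne_zero (sig_ne_zero hc0) hc0)]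
  have hU : ∀ a b : F, U hF a b ∈ H := by
    intro a b
    by_cases ha : a = 0
    · rw [ha]; exact hZ b
    let j : Fˣ := Units.mk0 (a / c) (div_ne_zero ha hc0)
    have h3 := mul_mem (mul_mem (hT j) h1) (inv_mem (hT j))
    rw [T_conj_U, show (j : F) * c = a from div_mul_cancel₀ a hc0] at h3
    have h4 := mul_mem h3 (hZ ((j : F) * sig m (j : F) * (k * sig m k + k) + b))
    rw [U_mul] at h4
    convert h4 using 2
    · rw [add_zero]
    · rw [mul_zero, add_zero, ← add_assoc, add_self hF, zero_add]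
  have hW : W hF ∈ H := by
    have := mul_mem (inv_mem (hU 1 0)) hy
    rwa [inv_mul_cancel_left] at this
  rw [eq_top_iff]
  intro g _
  rcases decompose hF hm g with ⟨a, b, k, rfl⟩ | ⟨a, b, c, d, k, rfl⟩
  · exact mul_mem (hU a b) (hT k)
  · exact mul_mem (mul_mem (hU a b) hW) (mul_mem (hU c d) (hT k))

end Cfsg.Agent.S2410
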