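import Cfsg.Statements.S2413
import Cfsg.Agent.Lib.ChevGen.OrthTwo

set_option autoImplicit false
open Cfsg

namespace Cfsg.Agent.S2413

/-- The simple orthogonal group `PΩ_{2m+1}(q)` (commutator subgroup of the orthogonal group of `x₀² + Σ x_i y_i` modulo its centre) with `m ≥ 2` and `q` odd is generated by two of its elements. -/
theorem result {F : Type*} [Field F] [Fintype F] (hodd : Odd (Fintype.card F)) (m : ℕ) (hm : 2 ≤ m) :
    ∃ a b : Cfsg.POmega F (Cfsg.quadFormOdd m F), Subgroup.closure ({a, b} : Set (Cfsg.POmega F (Cfsg.quadFormOdd m F))) = ⊤ := by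
  classical
  obtain ⟨k, rfl⟩ : ∃ k, m = k + 2 := ⟨m - 2, by omega⟩
  have h2 : (2 : F) ≠ 0 := by
    intro h
    haveI : CharP F 2 := CharTwo.of_one_ne_zero_of_two_eq_zero one_ne_zero h
    exact Nat.not_even_iff_odd.2 hodd
      (Nat.even_iff.2 (FiniteField.even_card_of_char_two (ringChar.eq F 2)))
  have hz : UnitaryOrthogonal.sqForm F (1 : F) ≠ 0 := by simp [UnitaryOrthogonal.sqForm]
  have hQ := UnitaryOrthogonal.polarND_sqForm (F := F) h2
  refine ChevGen.OrthGen.exists_two_pomega (UnitaryOrthogonal.oddEquiv (k + 2) F)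
    (ChevGen.OrthGen.commutator_eq hQ UnitaryOrthogonal.reflGroup_sqForm (Or.inr ⟨1, hz⟩))
    (ChevGen.OrthGen.exists_two_large hz hQ ?_ (by omega) (z1 := (1 : F)) (z2 := 0) ?_ (Or.inl rfl))
  · obtain ⟨t, ht⟩ := hodd
    have := Fintype.one_lt_card (α := F)
    omega
  · exact fun w => ⟨w, 0, by simp⟩

end Cfsg.Agent.S2413
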