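import Cfsg.Statements.S2414
import Cfsg.Agent.Lib.ChevGen.OrthTwo

set_option autoImplicit false
open Cfsg

namespace Cfsg.Agent.S2414

/-- The simple orthogonal group `PΩ⁺_{2m}(q)` (commutator subgroup of the orthogonal group of `Σ x_i y_i` modulo its centre) with `m ≥ 4` is generated by two of its elements. -/
theorem result {F : Type*} [Field F] [Fintype F] (m : ℕ) (hm : 4 ≤ m) :
    ∃ a b : Cfsg.POmega F (Cfsg.quadFormPlus m F), Subgroup.closure ({a, b} : Set (Cfsg.POmega F (Cfsg.quadFormPlus m F))) = ⊤ := by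
  classical
  obtain ⟨k, rfl⟩ : ∃ k, m = k + 4 := ⟨m - 4, by omega⟩
  set Z := UnitaryOrthogonal.zeroForm F
  have hQ : UnitaryOrthogonal.PolarND (UnitaryOrthogonal.hyp Z) :=
    UnitaryOrthogonal.polarND_zeroForm.hyp
  set z : (F × F) × (Fin 0 → F) := ((1, 1), 0) with hzdef
  have hz : UnitaryOrthogonal.hyp Z z ≠ 0 := by simp [hzdef, Z, UnitaryOrthogonal.zeroForm]
  let e := ChevGen.OrthGen.hypSumLast Z (k + 3)
  have hE : commutator (UnitaryOrthogonal.orth (UnitaryOrthogonal.hypSum (k + 3) (UnitaryOrthogonal.hyp Z))) =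
      UnitaryOrthogonal.eichGroup (UnitaryOrthogonal.hypSum (k + 3) (UnitaryOrthogonal.hyp Z)) := by
    rw [← UnitaryOrthogonal.eichGroup_map e, ← ChevGen.OrthGen.commutator_eq
      UnitaryOrthogonal.polarND_zeroForm UnitaryOrthogonal.reflGroup_zeroForm
      (k := k + 2) (Or.inl (by omega))]
    simp only [commutator_def]
    rw [Subgroup.map_commutator,
      Subgroup.map_top_of_surjective _ (UnitaryOrthogonal.orthCongr e).surjective]
  refine ChevGen.OrthGen.exists_two_pomega
    ((UnitaryOrthogonal.plusEquiv (k + 4) F).trans (UnitaryOrthogonal.orthCongr e)) hE ?_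
  by_cases hq : 2 < Fintype.card F
  · refine ChevGen.OrthGen.exists_two_large hz hQ hq (by omega) (z1 := ((1, 0), 0))
      (z2 := ((0, 1), 0)) (fun w => ⟨w.1.1, w.1.2, ?_⟩) (Or.inr (by omega))
    exact Prod.ext (Prod.ext (by simp) (by simp)) (Subsingleton.elim _ _)
  · refine ChevGen.OrthGen.exists_two_card_two hz hQ
      (le_antisymm (not_lt.1 hq) Fintype.one_lt_card) (by omega) (z1 := ((1, 0), 0))
      (fun w => ⟨w.1.1, -w.1.2, ?_⟩)
    refine Prod.ext (Prod.ext ?_ ?_) (Subsingleton.elim _ _) <;>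
      simp [UnitaryOrthogonal.rf_apply, hzdef, QuadraticMap.polar, Z, UnitaryOrthogonal.zeroForm]

end Cfsg.Agent.S2414
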