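import Cfsg.Statements.S2415
import Cfsg.Agent.Lib.ChevGen.OrthTwo

set_option autoImplicit false
open Cfsg

namespace Cfsg.Agent.S2415

/-- The simple orthogonal group `PΩ⁻_{2m}(q)` with `m ≥ 4` (commutator subgroup, modulo its centre, of the orthogonal group of `Σ_{i<m−1} x_i y_i + z₁² + a z₁z₂ + b z₂²` with the binary part anisotropic) is generated by two of its elements. -/
theorem result {F : Type*} [Field F] [Fintype F] (m : ℕ) (hm : 4 ≤ m) (a b : F)
    (hab : ∀ z₁ z₂ : F, z₁ ^ 2 + a * z₁ * z₂ + b * z₂ ^ 2 = 0 → z₁ = 0 ∧ z₂ = 0) :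
    ∃ g h : Cfsg.POmega F (Cfsg.quadFormMinus (m - 1) F a b),
      Subgroup.closure ({g, h} : Set (Cfsg.POmega F (Cfsg.quadFormMinus (m - 1) F a b))) = ⊤ := by
  classical
  obtain ⟨k, rfl⟩ : ∃ k, m = k + 4 := ⟨m - 4, by omega⟩
  have hba : UnitaryOrthogonal.BinAniso a b := hab
  have hz : UnitaryOrthogonal.binForm a b (1, 0) ≠ 0 := by simp [UnitaryOrthogonal.binForm_apply]
  refine ChevGen.OrthGen.exists_two_pomega (UnitaryOrthogonal.minusEquiv (k + 3) F a b)
    (ChevGen.OrthGen.commutator_eq (k := k + 1) hba.polarND hba.reflGroup_eq_top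
      (Or.inr (UnitaryOrthogonal.exists_binForm_ne_zero a b))) ?_
  by_cases hq : 2 < Fintype.card F
  · exact ChevGen.OrthGen.exists_two_large hz hba.polarND hq (by omega) (z1 := ((1 : F), (0 : F)))
      (z2 := (0, 1)) (fun w => ⟨w.1, w.2, by simp⟩) (Or.inr (by omega))
  · have h2 : Fintype.card F = 2 := le_antisymm (not_lt.1 hq) Fintype.one_lt_card
    have h20 : (2 : F) = 0 := by
      have := Nat.cast_card_eq_zero F; rwa [h2, Nat.cast_ofNat] at this
    have ha := hba.a_ne_zero h20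
    refine ChevGen.OrthGen.exists_two_card_two hz hba.polarND h2 (by omega)
      (z1 := ((0 : F), (1 : F))) (fun w => ⟨w.2 + w.1 / a, -(w.1 / a), ?_⟩)
    refine Prod.ext ?_ ?_ <;>
      simp [UnitaryOrthogonal.rf_apply, UnitaryOrthogonal.polar_binForm,
        UnitaryOrthogonal.binForm_apply] <;> field_simp <;> ring

end Cfsg.Agent.S2415
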