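import Cfsg.Statements.S2416
import Cfsg.Agent.Lib.ChevCore.CommAll
import Cfsg.Agent.Lib.ChevCore.ShortRootTables

set_option autoImplicit false
open scoped MatrixGroups
open Cfsg

namespace Cfsg.Agent.S2416

open Cfsg.Agent.ChevCore

/-- A Chevalley group of type G₂, B₂, D₄, F₄, E₆, E₇ or E₈ over a finite field lies in (indeed equals) the subgroup generated by its monomial subgroup `N` and a single fundamental root subgroup `X_p`, where `p` is a short fundamental root if there are two root lengths (any fundamental root otherwise), provided the characteristic is not 2 for types B₂, F₄ and not 3 for type G₂ (and the field has more than two elements for B₂, G₂). -/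
theorem result {K : Type*} [Field K] [Finite K] (D : Cfsg.Lie.ChevalleyDatum) (hD : D ∈ [Cfsg.Lie.chevG2, Cfsg.Lie.chevB2, Cfsg.Lie.chevD4, Cfsg.Lie.chevF4, Cfsg.Lie.chevE6, Cfsg.Lie.chevE7, Cfsg.Lie.chevE8])
    (hK : D ∈ [Cfsg.Lie.chevB2, Cfsg.Lie.chevG2] → ∃ x : K, x ≠ 0 ∧ x ≠ 1)
    (h2 : D ∈ [Cfsg.Lie.chevB2, Cfsg.Lie.chevF4] → ringChar K ≠ 2) (h3 : D = Cfsg.Lie.chevG2 → ringChar K ≠ 3)
    (i : ℕ) (hi : i < D.rank) (hshort : D.isLong (D.simple i) = false) :
    D.group K ≤ D.monomialSubgroup K ⊔ D.rootSubgroup K (D.simple i) := by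
  simp only [List.mem_cons, List.not_mem_nil, or_false] at hD
  have hp : ∀ q : ℕ, q.Prime → ringChar K ≠ q → (q : K) ≠ 0 := fun q hq hne h => by
    have h1 := (ringChar.spec K q).1 h
    rcases hq.eq_one_or_self_of_dvd _ h1 with e | e
    · exact CharP.ringChar_ne_one e
    · exact hne e
  rcases hD with rfl | rfl | rfl | rfl | rfl | rfl | rfl
  · exact commGoodG2.group_le_short (c := 3) (T := shortStepsG2) (by decide +kernel)
      (hp 3 Nat.prime_three (h3 rfl)) hi hshort
  · exact commGoodB2.group_le_short (c := 2) (T := shortStepsB2) (by decide +kernel)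
      (hp 2 Nat.prime_two (h2 (by simp))) hi hshort
  · exact commGoodD4.group_le_short (c := 1) (T := shortStepsD4) (by decide +kernel) (by simp) hi hshort
  · exact commGoodF4.group_le_short (c := 2) (T := shortStepsF4) (by decide +kernel)
      (hp 2 Nat.prime_two (h2 (by simp))) hi hshort
  · exact commGoodE6.group_le_short (c := 1) (T := shortStepsE6) (by decide +kernel) (by simp) hi hshort
  · exact commGoodE7.group_le_short (c := 1) (T := shortStepsE7) (by decide +kernel) (by simp) hi hshort
  · exact commGoodE8.group_le_short (c := 1) (T := shortStepsE8) (by decide +kernel) (by simp) hi hshort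

end Cfsg.Agent.S2416
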