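import Cfsg.Statements.S2419
import Cfsg.Agent.WeylGroup.B2
import Cfsg.Agent.WeylGroup.G2
import Cfsg.Agent.WeylGroup.D4
import Cfsg.Agent.WeylGroup.F4
import Cfsg.Agent.WeylGroup.E6
import Cfsg.Agent.WeylGroup.E7
import Cfsg.Agent.WeylGroup.E8
import Cfsg.Agent.WeylGroup.Center

set_option autoImplicit false
open Cfsg

namespace Cfsg.Agent.S2419

/-- The Coxeter groups of types B₂, G₂, E₆, E₇, E₈ are generated by the Coxeter element `s₁ s₂ ⋯ s_l` together with one suitable reflection (a conjugate of a simple reflection); for types D₄ and F₄ the Coxeter element together with two suitable reflections suffices. -/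
theorem result (c : (Σ n : ℕ, CoxeterMatrix (Fin n)) × ℕ)
    (hc : c ∈ [(⟨2, CoxeterMatrix.B 2⟩, 1), (⟨2, CoxeterMatrix.G₂⟩, 1), (⟨4, Cfsg.Lie.coxeterD4⟩, 2), (⟨4, CoxeterMatrix.F₄⟩, 2),
      (⟨6, CoxeterMatrix.E₆⟩, 1), (⟨7, CoxeterMatrix.E₇⟩, 1), (⟨8, CoxeterMatrix.E₈⟩, 1)]) :
    ∃ T : Finset c.1.2.Group, T.card = c.2 ∧ (∀ t ∈ T, ∃ (g : c.1.2.Group) (i : Fin c.1.1), t = g * c.1.2.simple i * g⁻¹) ∧
      Subgroup.closure (({((List.finRange c.1.1).map c.1.2.simple).prod} : Set c.1.2.Group) ∪ ↑T) = ⊤ := by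
  simp only [List.mem_cons, List.not_mem_nil, or_false] at hc
  rcases hc with rfl | rfl | rfl | rfl | rfl | rfl | rfl
  · exact WeylGroup.exists_gen_one WeylGroup.b2_checkRep WeylGroup.b2_checkAll 0
      (gc := [[2],
    [2, 0]])
      (by decide +kernel)
  · exact WeylGroup.exists_gen_one WeylGroup.g2_checkRep WeylGroup.g2_checkAll 0
      (gc := [[2],
    [2, 0]])
      (by decide +kernel)
  · exact WeylGroup.exists_gen_two WeylGroup.d4_checkRep WeylGroup.d4_checkAll 1 3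
      (by decide +kernel) (gc := [[1, 2, 0],
    [2],
    [0, 2, 3, 2, 1],
    [3]])
      (by decide +kernel)
  · exact WeylGroup.exists_gen_two WeylGroup.f4_checkRep WeylGroup.f4_checkAll 1 2
      (by decide +kernel) (gc := [[1, 2, 0],
    [2],
    [3],
    [0, 3, 1]])
      (by decide +kernel)
  · exact WeylGroup.exists_gen_one WeylGroup.e6_checkRep WeylGroup.e6_checkAll 3
      (gc := [[1, 1, 1, 1, 1, 2, 0, 0, 0, 0, 0],
    [2, 1, 1, 1, 2, 0, 0, 0, 2],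
    [1, 1, 1, 1, 2, 0, 0, 0, 0],
    [2],
    [0, 2, 1],
    [0, 0, 2, 1, 1]])
      (by decide +kernel)
  · exact WeylGroup.exists_gen_one WeylGroup.e7_checkRep WeylGroup.e7_checkAll 3
      (gc := [[1, 2, 1, 1, 1, 1, 2, 0, 0, 0, 0, 2, 0],
    [2, 0, 2, 1, 1, 1, 1, 2, 0, 0, 0, 0, 2, 1, 2],
    [2, 1, 1, 1, 1, 2, 0, 0, 0, 0, 2],
    [2],
    [0, 2, 1],
    [0, 0, 2, 1, 1],
    [0, 0, 0, 2, 1, 1, 1]])
      (by decide +kernel)
  · exact WeylGroup.exists_gen_one WeylGroup.e8_checkRep WeylGroup.e8_checkAll 3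
      (gc := [[1, 2, 0, 0, 0, 0, 0, 0, 2, 1, 1, 1, 1, 1, 1, 2, 0],
    [2, 0, 2, 0, 0, 0, 0, 0, 0, 2, 1, 1, 1, 1, 1, 1, 2, 1, 2],
    [2, 0, 0, 0, 0, 0, 0, 2, 1, 1, 1, 1, 1, 1, 2],
    [2],
    [0, 2, 1],
    [0, 0, 2, 1, 1],
    [0, 0, 0, 2, 1, 1, 1],
    [0, 0, 0, 0, 2, 1, 1, 1, 1]])
      (by decide +kernel)

end Cfsg.Agent.S2419
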