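import Cfsg.Statements.S2426
import Cfsg.Agent.SL2Pres.Basic
import Cfsg.Agent.SL2Tor.SylowTori

set_option autoImplicit false
open Cfsg

namespace Cfsg.Agent.S2426

/-- The rank-one Steinberg presentation of `SL₂` over a finite field `K`: generators `x(t)`, `y(t)` (`t ∈ K`; the two opposite root subgroups) subject to additivity `x(t)x(u) = x(t+u)`, `y(t)y(u) = y(t+u)` and, with `w(t) = x(t) y(−t⁻¹) x(t)` and `w'(t) = y(t) x(−t⁻¹) y(t)` for `t ≠ 0`, the relations `w(t) x(u) w(t)⁻¹ = y(−t⁻² u)` and `w'(t) y(u) w'(t)⁻¹ = x(−t⁻² u)`, present `SL₂(K)`, with `x(t) ↦ (1 t; 0 1)` and `y(t) ↦ (1 0; t 1)`. -/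
theorem result {K : Type*} [Field K] [Finite K] :
    ∃ e : PresentedGroup
        ({g : FreeGroup (Bool × K) | ∃ (b : Bool) (t u : K), g = FreeGroup.of (b, t) * FreeGroup.of (b, u) * (FreeGroup.of (b, t + u))⁻¹} ∪
          {g | ∃ (b : Bool) (t u : K), t ≠ 0 ∧
            g = (FreeGroup.of (b, t) * FreeGroup.of (!b, -t⁻¹) * FreeGroup.of (b, t)) * FreeGroup.of (b, u) *
                  (FreeGroup.of (b, t) * FreeGroup.of (!b, -t⁻¹) * FreeGroup.of (b, t))⁻¹ * (FreeGroup.of (!b, -(t⁻¹ ^ 2 * u)))⁻¹})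
        ≃* Matrix.SpecialLinearGroup (Fin 2) K,
      (∀ t : K, ((e (PresentedGroup.of (true, t)) : Matrix (Fin 2) (Fin 2) K)) = !![1, t; 0, 1]) ∧
      (∀ t : K, ((e (PresentedGroup.of (false, t)) : Matrix (Fin 2) (Fin 2) K)) = !![1, 0; t, 1]) := by
  haveI := Fintype.ofFinite K
  let M : Bool × K → Matrix (Fin 2) (Fin 2) K := fun p =>
    if p.1 then !![1, p.2; 0, 1] else !![1, 0; p.2, 1]
  have hM : ∀ p, (M p).det = 1 := by
    rintro ⟨b, t⟩
    cases b <;> simp [M, Matrix.det_fin_two_of]
  let f : Bool × K → Matrix.SpecialLinearGroup (Fin 2) K := fun p => ⟨M p, hM p⟩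
  set R : Set (FreeGroup (Bool × K)) := _ ∪ _ with hR
  have hrel : ∀ r ∈ R, FreeGroup.lift f r = 1 := by
    rintro r (⟨b, t, u, rfl⟩ | ⟨b, t, u, ht, rfl⟩)
    · simp only [map_mul, map_inv, FreeGroup.lift_apply_of]
      rw [mul_inv_eq_one]
      apply Subtype.ext
      rw [Matrix.SpecialLinearGroup.coe_mul]
      cases b <;> simp [f, M, Matrix.mul_fin_two, add_comm]
    · simp only [map_mul, map_inv, FreeGroup.lift_apply_of]
      rw [mul_inv_eq_one, mul_inv_eq_iff_eq_mul]
      apply Subtype.ext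
      simp only [Matrix.SpecialLinearGroup.coe_mul]
      cases b <;> simp only [f, M, Bool.not_true, Bool.not_false, Bool.false_eq_true, if_true,
        if_false, Matrix.mul_fin_two] <;>
        ext i j <;> fin_cases i <;> fin_cases j <;> simp [ht] <;> (try field_simp) <;> ring_nf <;> simp [ht]
  let φ := PresentedGroup.toGroup hrel
  have hφ : ∀ p, φ (PresentedGroup.of p) = f p := fun p => PresentedGroup.toGroup.of hrel
  have hP : SL2Pres.Rels (fun t => (PresentedGroup.of (rels := R) (true, t)))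
      (fun t => (PresentedGroup.of (rels := R) (false, t))) := by
    refine ⟨fun t u => ?_, fun t u => ?_, fun t u ht => ?_, ?_⟩
    · have h1 := PresentedGroup.one_of_mem (rels := R) (Or.inl ⟨true, t, u, rfl⟩)
      simp only [map_mul, map_inv] at h1
      exact mul_inv_eq_one.1 h1
    · have h1 := PresentedGroup.one_of_mem (rels := R) (Or.inl ⟨false, t, u, rfl⟩)
      simp only [map_mul, map_inv] at h1
      exact mul_inv_eq_one.1 h1
    · have h1 := PresentedGroup.one_of_mem (rels := R) (Or.inr ⟨true, t, u, ht, rfl⟩)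
      simp only [map_mul, map_inv, Bool.not_true] at h1
      exact mul_inv_eq_one.1 h1
    · rw [eq_top_iff, ← PresentedGroup.closure_range_of R]
      refine Subgroup.closure_mono ?_
      rintro _ ⟨⟨b, t⟩, rfl⟩
      cases b
      · exact Or.inr ⟨t, rfl⟩
      · exact Or.inl ⟨t, rfl⟩
  obtain ⟨hfin, hle⟩ := SL2Pres.card_le hP
  have hsurj : Function.Surjective φ := by
    have hgen : ∀ a b c : K, φ (PresentedGroup.of (true, a)) * φ (PresentedGroup.of (false, b)) *
        φ (PresentedGroup.of (true, c)) ∈ φ.range := fun a b c => by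
      rw [← map_mul, ← map_mul]
      exact ⟨_, rfl⟩
    intro g
    have key : ∀ g : Matrix.SpecialLinearGroup (Fin 2) K, g.1 1 0 ≠ 0 → g ∈ φ.range := by
      intro g hc
      have hdet : g.1 0 0 * g.1 1 1 - g.1 0 1 * g.1 1 0 = 1 := by
        rw [← Matrix.det_fin_two]; exact g.2
      convert hgen ((g.1 0 0 - 1) / g.1 1 0) (g.1 1 0) ((g.1 1 1 - 1) / g.1 1 0) using 1
      rw [hφ, hφ, hφ]
      apply Subtype.ext
      simp only [Matrix.SpecialLinearGroup.coe_mul]
      rw [Matrix.eta_fin_two g.1]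
      simp only [f, M, Bool.false_eq_true, if_true, if_false, Matrix.mul_fin_two]
      ext i j
      fin_cases i <;> fin_cases j <;> simp <;> field_simp <;>
        first
        | linear_combination -hdet
        | linear_combination hdet
        | ring
    by_cases hc : g.1 1 0 = 0
    · have hdet : g.1 0 0 * g.1 1 1 - g.1 0 1 * g.1 1 0 = 1 := by
        rw [← Matrix.det_fin_two]; exact g.2
      have ha : g.1 0 0 ≠ 0 := by
        intro ha; rw [ha, hc] at hdet; simp at hdet
      have h1 : f (false, 1) * g ∈ φ.range := key _ (by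
        simp only [Matrix.SpecialLinearGroup.coe_mul]
        simp [f, M, Matrix.mul_apply, Fin.sum_univ_two, ha, hc])
      have h2 : f (false, 1) ∈ φ.range := ⟨_, hφ _⟩
      have := mul_mem (inv_mem h2) h1
      rwa [inv_mul_cancel_left] at this
    · exact key g hc
  have hcard : Nat.card (Matrix.SpecialLinearGroup (Fin 2) K) =
      Nat.card K * ((Nat.card K - 1) * (Nat.card K + 1)) := by
    rw [SL2Tor.card_sl_two', Nat.card_eq_fintype_card]
  haveI := hfin
  have hbij : Function.Bijective φ :=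
    Function.Surjective.bijective_of_nat_card_le hsurj (hle.trans hcard.symm.le)
  refine ⟨MulEquiv.ofBijective φ hbij, fun t => ?_, fun t => ?_⟩ <;>
    simp [MulEquiv.ofBijective_apply, hφ, f, M]

end Cfsg.Agent.S2426
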