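import Cfsg.Statements.S2434
import Cfsg.Agent.SL2Tor.CuspValues
-- import your own Cfsg.Agent.* helpers here

set_option autoImplicit false
open Cfsg

namespace Cfsg.Agent.S2434

/-- Let F be a finite field with q elements, q odd, and C a cyclic subgroup of order q + 1 of SL₂ over F (a non-split torus; it contains the centre). For every homomorphism θ from C to the non-zero complex numbers with θ² ≠ 1 there is an irreducible complex character χ of degree q − 1 such that χ(c) = −θ(c) − θ(c)⁻¹ for every non-central c in C, χ(zg) = θ(z)χ(g) for central z in C, χ vanishes at diagonal elements with entry a, a² ≠ 1, and χ takes the value −1 at every upper unitriangular element other than 1. Conversely every irreducible character of degree q − 1 has, for some such θ, the values −θ(c) − θ(c)⁻¹ at the non-central elements c of C (for q ≥ 5 these are exactly the cuspidal characters of degree q − 1). -/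
theorem result {F : Type*} [Field F] [Fintype F] (hodd : Odd (Fintype.card F))
    (C : Subgroup (Matrix.SpecialLinearGroup (Fin 2) F)) (hC : IsCyclic C) (hcard : Nat.card C = Fintype.card F + 1) :
    (∀ θ : C →* ℂˣ, (∃ c : C, θ c ^ 2 ≠ 1) →
      ∃ χ : Matrix.SpecialLinearGroup (Fin 2) F → ℂ, Cfsg.IsIrrCharacter (Matrix.SpecialLinearGroup (Fin 2) F) χ ∧ χ 1 = (Fintype.card F : ℂ) - 1 ∧
        (∀ c : C, (c : Matrix.SpecialLinearGroup (Fin 2) F) ∉ Subgroup.center (Matrix.SpecialLinearGroup (Fin 2) F) → χ c = -((θ c).val + (θ c)⁻¹.val)) ∧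
        (∀ c : C, (c : Matrix.SpecialLinearGroup (Fin 2) F) ∈ Subgroup.center (Matrix.SpecialLinearGroup (Fin 2) F) → ∀ g : Matrix.SpecialLinearGroup (Fin 2) F, χ ((c : Matrix.SpecialLinearGroup (Fin 2) F) * g) = (θ c).val * χ g) ∧
        (∀ g : Matrix.SpecialLinearGroup (Fin 2) F, (g : Matrix (Fin 2) (Fin 2) F) 0 1 = 0 → (g : Matrix (Fin 2) (Fin 2) F) 1 0 = 0 → (g : Matrix (Fin 2) (Fin 2) F) 0 0 ^ 2 ≠ 1 → χ g = 0) ∧
        (∀ g : Matrix.SpecialLinearGroup (Fin 2) F, (g : Matrix (Fin 2) (Fin 2) F) 1 0 = 0 → (g : Matrix (Fin 2) (Fin 2) F) 0 0 = 1 → (g : Matrix (Fin 2) (Fin 2) F) 1 1 = 1 → (g : Matrix (Fin 2) (Fin 2) F) 0 1 ≠ 0 → χ g = -1)) ∧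
    (∀ χ : Matrix.SpecialLinearGroup (Fin 2) F → ℂ, Cfsg.IsIrrCharacter (Matrix.SpecialLinearGroup (Fin 2) F) χ → χ 1 = (Fintype.card F : ℂ) - 1 →
      ∃ θ : C →* ℂˣ, (∃ c : C, θ c ^ 2 ≠ 1) ∧
        ∀ c : C, (c : Matrix.SpecialLinearGroup (Fin 2) F) ∉ Subgroup.center (Matrix.SpecialLinearGroup (Fin 2) F) → χ c = -((θ c).val + (θ c)⁻¹.val)) := by
  classical
  have h2 := Cfsg.Agent.SL2Tor.two_ne_zero_of_odd_card hodd
  have hT := Cfsg.Agent.SL2Tor.isTorus_of_cyclic hodd C hC hcard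
  refine ⟨fun θ ⟨c₀, hc₀⟩ => ?_, fun χ hχ hd => ?_⟩
  · have hθ : θ * θ ≠ 1 := fun e => hc₀ (by rw [pow_two, ← MonoidHom.mul_apply, e]; rfl)
    obtain ⟨χ, h1, hc, hn, hdiag, hu⟩ := Cfsg.Agent.SL2Tor.exists_cusp_irr hodd hcard hT θ hθ
    refine ⟨_, χ.2, h1, fun c hcZ => hc c (fun h => hcZ ((Cfsg.Agent.SL2Tor.center_eq_pm h2 _).2 h)),
      fun c hcZ g => ?_, fun g => hdiag g, fun g g10 g00 g11 g01 => ?_⟩
    · rcases (Cfsg.Agent.SL2Tor.center_eq_pm h2 _).1 hcZ with h | h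
      · obtain rfl : c = 1 := Subtype.ext h
        simp
      · obtain rfl : c = ⟨-1, hT.neg_one⟩ := Subtype.ext h
        exact hn g
    · have e : g = Cfsg.Agent.Char2x2.uS ((g : Matrix (Fin 2) (Fin 2) F) 0 1) := by
        apply Subtype.ext
        ext i j; fin_cases i <;> fin_cases j <;> simp [Cfsg.Agent.Char2x2.uS, g10, g00, g11]
      rw [e]
      exact hu _ g01
  · obtain ⟨θ, hθ, hv⟩ := Cfsg.Agent.SL2Tor.cusp_converse hodd hcard hT (χ := ⟨χ, hχ⟩) hd
    exact ⟨θ, hθ, fun c hc => hv c (fun h => hc ((Cfsg.Agent.SL2Tor.center_eq_pm h2 _).2 h))⟩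

end Cfsg.Agent.S2434
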