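import Cfsg.Statements.S2435
import Cfsg.Agent.SL2Tor.CuspValues
-- import your own Cfsg.Agent.* helpers here

set_option autoImplicit false
open Cfsg

namespace Cfsg.Agent.S2435

/-- Let F be a finite field with q elements, q odd and q ≥ 5, and χ an irreducible complex character of SL₂ over F. If χ has degree (q + 1)/2, then at a diagonal element with entry a, a² ≠ 1, χ takes the value 1 when a is a square in F and −1 otherwise. If χ has degree (q − 1)/2, then at an element g with no eigenvector in F² (so g has order dividing q + 1), χ takes the value −1 when g raised to the power (q + 1)/2 is the identity and the value 1 otherwise. -/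
theorem result {F : Type*} [Field F] [Fintype F] (hodd : Odd (Fintype.card F)) (hq : 5 ≤ Fintype.card F)
    (χ : Matrix.SpecialLinearGroup (Fin 2) F → ℂ) (hχ : Cfsg.IsIrrCharacter (Matrix.SpecialLinearGroup (Fin 2) F) χ) (g : Matrix.SpecialLinearGroup (Fin 2) F) :
    (χ 1 = (((Fintype.card F + 1) / 2 : ℕ) : ℂ) → (g : Matrix (Fin 2) (Fin 2) F) 0 1 = 0 → (g : Matrix (Fin 2) (Fin 2) F) 1 0 = 0 → (g : Matrix (Fin 2) (Fin 2) F) 0 0 ^ 2 ≠ 1 →
      (IsSquare ((g : Matrix (Fin 2) (Fin 2) F) 0 0) → χ g = 1) ∧ (¬ IsSquare ((g : Matrix (Fin 2) (Fin 2) F) 0 0) → χ g = -1)) ∧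
    (χ 1 = (((Fintype.card F - 1) / 2 : ℕ) : ℂ) → (∀ (c : F) (v : Fin 2 → F), v ≠ 0 → (g : Matrix (Fin 2) (Fin 2) F).mulVec v ≠ c • v) →
      (((g ^ ((Fintype.card F + 1) / 2)) : Matrix (Fin 2) (Fin 2) F) = 1 → χ g = -1) ∧ (((g ^ ((Fintype.card F + 1) / 2)) : Matrix (Fin 2) (Fin 2) F) ≠ 1 → χ g = 1)) := by
  classical
  obtain ⟨-, -, -, hpair, hhalf⟩ := Cfsg.Agent.SL2Tor.class_of_degree hodd hq ⟨χ, hχ⟩
  refine ⟨fun d h01 h10 hsq => ?_, fun d hell => ?_⟩
  · have he := Cfsg.Agent.SL2Tor.pair_diag hodd (hpair d) h01 h10 hsq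
    have h0 : (g : Matrix (Fin 2) (Fin 2) F) 0 0 ≠ 0 := by
      intro e
      have hg := g.2
      rw [Matrix.det_fin_two, e, h01] at hg
      simp at hg
    exact ⟨fun h => he.trans (Cfsg.Agent.Char2x2.etaC_of_isSquare h0 h),
      fun h => he.trans (Cfsg.Agent.Char2x2.etaC_of_not_isSquare h)⟩
  · obtain ⟨T, hT, hTc, hconj⟩ := Cfsg.Agent.SL2Tor.exists_nonsplit_isTorus (F := F) hodd
    obtain ⟨h, hh⟩ := hconj g hell
    have hnZ : h * g * h⁻¹ ∉ ({1, -1} : Set (Matrix.SpecialLinearGroup (Fin 2) F)) := by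
      intro hm
      have hg : g ∈ ({1, -1} : Set (Matrix.SpecialLinearGroup (Fin 2) F)) := by
        simpa [mul_assoc] using Cfsg.Agent.SL2Tor.pm_conj_mem (Cfsg.Agent.SL2Tor.two_ne_zero_of_odd_card hodd) h⁻¹ _ hm
      rcases hg with hg | hg
      · exact hell 1 ![1, 0] (by simp) (by simp [hg])
      · rw [Set.mem_singleton_iff] at hg
        exact hell (-1) ![1, 0] (by simp) (by simp [hg, Matrix.neg_mulVec])
    have hv := Cfsg.Agent.SL2Tor.half_elliptic_eq hodd hT hTc (hhalf d) ⟨_, hh⟩ hnZ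
    have hcl : χ (h * g * h⁻¹) = χ g :=
      Cfsg.Agent.CharCore.IsCharacter.isClassFunction (Cfsg.Agent.CharCore.IsIrrCharacter.isCharacter hχ) g h
    have hiff : (h * g * h⁻¹) ^ ((Fintype.card F + 1) / 2) = 1 ↔ g ^ ((Fintype.card F + 1) / 2) = 1 := by
      rw [conj_pow, mul_inv_eq_one, mul_eq_left]
    change χ (h * g * h⁻¹) = _ at hv
    rw [hcl] at hv
    simp only [hiff] at hv
    refine ⟨fun e => ?_, fun e => ?_⟩
    · have e' : g ^ ((Fintype.card F + 1) / 2) = 1 := Subtype.ext (by simpa using e)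
      rw [hv, if_pos e']
    · rw [hv, if_neg (fun e' => e ?_)]
      simpa using congrArg Subtype.val e'

end Cfsg.Agent.S2435
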