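import Cfsg.Statements.S2442
import Cfsg.Agent.GLCusp57.IrrPolyCount

set_option autoImplicit false
open scoped MatrixGroups
open Cfsg

namespace Cfsg.Agent.S2442

open Classical in
/-- Let F be a finite field with q elements and n ≥ 2. Call a complex character χ of GL_n over F cuspidal when, for every 0 < m < n, the sum of χ over the subgroup of matrices that agree with the identity outside the upper right m × (n − m) block vanishes (the restriction of χ to the unipotent radical of each maximal standard parabolic subgroup contains no principal constituent). Then GL_n has at least φ(qⁿ − 1)/n distinct cuspidal irreducible characters of degree (q − 1)(q² − 1)⋯(q^(n−1) − 1), φ being Euler's function (in particular at least one). -/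
theorem result {F : Type*} [Field F] [Fintype F] [DecidableEq F] (n : ℕ) (hn : 2 ≤ n) :
    Nat.totient (Fintype.card F ^ n - 1) / n ≤
      Nat.card {χ : Cfsg.IrrCharacter (GL (Fin n) F) //
        (χ : GL (Fin n) F → ℂ) 1 = ∏ i ∈ Finset.Ico 1 n, ((Fintype.card F : ℂ) ^ i - 1) ∧
        ∀ m : ℕ, 0 < m → m < n →
          (∑ g : GL (Fin n) F,
            if (∀ i j : Fin n, ¬ (i.val < m ∧ m ≤ j.val) → (g : Matrix (Fin n) (Fin n) F) i j = (1 : Matrix (Fin n) (Fin n) F) i j)
            then (χ : GL (Fin n) F → ℂ) g else 0) = 0} := by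
  open Cfsg.Agent.GLCusp57 in
  classical
  obtain ⟨ψ, hψ⟩ := exists_addChar_ne_one F
  obtain ⟨hfinC, hfinP, hcard⟩ := natCard_cuspChar ψ hψ n
  have hle : Nat.totient (Fintype.card F ^ n - 1) / n ≤ Nat.card (CuspChar F n) := by
    rw [hcard]
    exact Nat.div_le_of_le_mul (totient_le_mul_irrPoly n hn)
  refine hle.trans ?_
  let emb : CuspChar F n → {χ : Cfsg.IrrCharacter (GL (Fin n) F) //
      (χ : GL (Fin n) F → ℂ) 1 = ∏ i ∈ Finset.Ico 1 n, ((Fintype.card F : ℂ) ^ i - 1) ∧
      ∀ m : ℕ, 0 < m → m < n →
        (∑ g : GL (Fin n) F,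
          if (∀ i j : Fin n, ¬ (i.val < m ∧ m ≤ j.val) → (g : Matrix (Fin n) (Fin n) F) i j = (1 : Matrix (Fin n) (Fin n) F) i j)
          then (χ : GL (Fin n) F → ℂ) g else 0) = 0} := fun χ => ⟨χ.1, by
      rw [χ.2.2.apply_one (CharCore.irr_isCharacter _) ψ hψ (by omega), whittaker_cusp χ ψ hψ, mul_one],
    fun m hm0 hmn => by
      refine Eq.trans ?_ (χ.2.2 m hm0 hmn)
      rw [← Finset.sum_filter,
        Finset.sum_subtype (p := (· ∈ corner F (stdCorner n m))) _
          (fun g => by simp [mem_corner, mem_stdCorner])]⟩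
  exact Nat.card_le_card_of_injective emb fun a b h =>
    Subtype.ext (congrArg (fun x => x.1) h)

end Cfsg.Agent.S2442
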