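import Cfsg.Statements.S2444
import Cfsg.Agent.FGS77.Thompson.Three
import Cfsg.Agent.FGS77.Thompson.Two

set_option autoImplicit false
open Cfsg
open scoped commutatorElement

namespace Cfsg.Agent.S2444
open Matrix FGS77.Thompson

theorem transfer {F : Type*} [Field F] [Fintype F] {p : ℕ} [Fact p.Prime]
    (hF : Fintype.card F = p) {n : ℕ}
    (h : ∀ G : Matrix (Fin n) (Fin n) (ZMod p), G.det = 1 → IsCommSL G)
    (G : Matrix (Fin n) (Fin n) F) (hG : G.det = 1) : IsCommSL G := by
  let φ : ZMod p ≃+* F := ZMod.ringEquivOfPrime F (Fact.out) hF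
  obtain ⟨a, b, hab⟩ := h (G.map φ.symm) (by
    rw [← RingEquiv.mapMatrix_apply, ← RingEquiv.map_det, hG, map_one])
  refine ⟨SpecialLinearGroup.map φ.toRingHom a, SpecialLinearGroup.map φ.toRingHom b, ?_⟩
  rw [← map_inv, ← map_inv, ← map_mul, ← map_mul, ← map_mul]
  refine Eq.trans ?_ (congrArg (fun X : Matrix (Fin n) (Fin n) (ZMod p) => X.map φ) hab)
  ext i j
  simp

theorem isCommSL_all {F : Type*} [Field F] [Fintype F] (n : ℕ) (hn : 2 ≤ n)
    (hex : n = 2 → 4 ≤ Fintype.card F) (G : Matrix (Fin n) (Fin n) F) (hG : G.det = 1) :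
    IsCommSL G := by
  classical
  by_cases hs : ∃ c : F, G = c • 1
  · obtain ⟨c, rfl⟩ := hs
    refine isCommSL_scalar n c ?_
    simpa [Matrix.det_smul] using hG
  simp only [not_exists] at hs
  rcases Nat.lt_or_ge (Fintype.card F) 4 with h4 | h4
  · have h3 : 3 ≤ n := by
      by_contra h
      have := hex (by omega)
      omega
    have h2 : 2 ≤ Fintype.card F := Fintype.one_lt_card
    rcases (by omega : Fintype.card F = 2 ∨ Fintype.card F = 3) with h | h
    · exact transfer h (isCommSL_two h3) G hG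
    · exact transfer h (isCommSL_three h3) G hG
  · obtain ⟨e⟩ := (Function.Embedding.nonempty_of_card_le (α := Fin 4) (β := F)
      (by simpa using h4))
    obtain ⟨m, rfl⟩ : ∃ m, n = m + 2 := ⟨n - 2, by omega⟩
    exact isCommSL_of_four e m G hG hs

/-- In the special linear group SL(n,F) over a finite field F, with n ≥ 2 and (n, |F|) not (2,2) or (2,3), every element is a commutator a·b·a⁻¹·b⁻¹ of two elements of SL(n,F). -/
theorem result {F : Type*} [Field F] [Fintype F] (n : ℕ) (hn : 2 ≤ n) (hex : n = 2 → 4 ≤ Fintype.card F) :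
    ∀ g : Matrix.SpecialLinearGroup (Fin n) F, ∃ a b : Matrix.SpecialLinearGroup (Fin n) F, g = a * b * a⁻¹ * b⁻¹ := by
  intro g
  obtain ⟨a, b, h⟩ := isCommSL_all n hn hex (g : Matrix (Fin n) (Fin n) F) g.2
  exact ⟨a, b, Subtype.ext h⟩

end Cfsg.Agent.S2444
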