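import Cfsg.Statements.S2447
import Cfsg.Agent.OreOmega53.Main
import Cfsg.Agent.Spectra36.PG.OmegaSide

set_option autoImplicit false
open Cfsg

namespace Cfsg.Agent.S2447

/-- Let F be a finite field of odd order and n ≥ 3, and let Ω(2n+1,F) be the commutator subgroup of the orthogonal group of the non-singular quadratic form x₀² + Σ xᵢyᵢ in dimension 2n+1. Then every element of Ω(2n+1,F) is a commutator a·b·a⁻¹·b⁻¹ of two elements of Ω(2n+1,F). -/
theorem result {F : Type*} [Field F] [Fintype F] (hodd : Odd (Fintype.card F)) (n : ℕ) (hn : 3 ≤ n) :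
    ∀ g : Cfsg.Omega F (Cfsg.quadFormOdd n F), ∃ a b : Cfsg.Omega F (Cfsg.quadFormOdd n F), g = a * b * a⁻¹ * b⁻¹ := by
  classical
  have h2 : (2 : F) ≠ 0 := Ring.two_ne_zero fun h => by
    have h1 := FiniteField.even_card_of_char_two (F := F) h
    rw [Nat.odd_iff] at hodd
    omega
  have hQ := Cfsg.Agent.Spectra36.PG.qOdd_nondeg (F := F) h2 n
  rw [← show ⇑(Cfsg.Agent.UnitaryOrthogonal.qOdd n F) = Cfsg.quadFormOdd n F from
    funext (Cfsg.Agent.UnitaryOrthogonal.qOdd_apply n)]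
  intro g
  obtain ⟨y, a, hy, ha, e⟩ := Cfsg.Agent.OreOmega53.omega_commutator h2 hQ
    (by simp; omega) (by simp) g.2
  exact ⟨⟨y, hy⟩, ⟨a, ha⟩, Subtype.ext e⟩

end Cfsg.Agent.S2447
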