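import Cfsg.Statements.S2450
import Cfsg.Agent.SL2Tor.Traces
import Cfsg.Agent.SL2Tor.PSL

set_option autoImplicit false
open Cfsg

namespace Cfsg.Agent.S2450

/-- The Arad–Herzog conjecture for PSL(2,q): let F be a finite field with q ≥ 4 elements. For any two non-identity elements a, b of PSL(2,F), the set of products of a conjugate of a with a conjugate of b is not a single conjugacy class. -/
theorem result {F : Type*} [Field F] [Fintype F] (h4 : 4 ≤ Fintype.card F)
    (a b : Matrix.ProjectiveSpecialLinearGroup (Fin 2) F) (ha : a ≠ 1) (hb : b ≠ 1) (c : Matrix.ProjectiveSpecialLinearGroup (Fin 2) F) :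
    {g : Matrix.ProjectiveSpecialLinearGroup (Fin 2) F | ∃ u v : Matrix.ProjectiveSpecialLinearGroup (Fin 2) F, g = (u * a * u⁻¹) * (v * b * v⁻¹)} ≠ {g | IsConj c g} := by
  open Cfsg.Agent.SL2Tor in
  intro h
  obtain ⟨A, rfl⟩ := QuotientGroup.mk_surjective a
  obtain ⟨B, rfl⟩ := QuotientGroup.mk_surjective b
  obtain ⟨C, rfl⟩ := QuotientGroup.mk_surjective c
  obtain ⟨x, h1, h2⟩ := trace_mul_avoiding h4 A B (fun e => ha ((psl_mk_eq_one_iff A).2 e))
    (fun e => hb ((psl_mk_eq_one_iff B).2 e)) (C : Matrix (Fin 2) (Fin 2) F).trace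
  have hmem : (QuotientGroup.mk (A * (x * B * x⁻¹)) : Matrix.ProjectiveSpecialLinearGroup (Fin 2) F) ∈
      {g | IsConj (QuotientGroup.mk C : Matrix.ProjectiveSpecialLinearGroup (Fin 2) F) g} := by
    rw [← h]
    exact ⟨1, QuotientGroup.mk x, by simp⟩
  obtain ⟨u, hu⟩ := isConj_iff.1 hmem
  obtain ⟨U, rfl⟩ := QuotientGroup.mk_surjective u
  rw [← QuotientGroup.mk_inv, ← QuotientGroup.mk_mul, ← QuotientGroup.mk_mul] at hu
  have hz := QuotientGroup.eq.1 hu
  obtain ⟨r, hr, hr'⟩ := Matrix.SpecialLinearGroup.mem_center_iff.1 hz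
  rw [Fintype.card_fin] at hr
  have e : ((A * (x * B * x⁻¹) : Matrix.SpecialLinearGroup (Fin 2) F) : Matrix (Fin 2) (Fin 2) F) =
      ((U * C * U⁻¹ : Matrix.SpecialLinearGroup (Fin 2) F) : Matrix (Fin 2) (Fin 2) F) *
        Matrix.diagonal (fun _ => r) := by
    show _ = _ * Matrix.scalar (Fin 2) r
    rw [hr', ← Matrix.SpecialLinearGroup.coe_mul, mul_inv_cancel_left]
  have etr := congrArg Matrix.trace e
  rw [← Matrix.smul_one_eq_diagonal, Matrix.mul_smul, Matrix.mul_one, Matrix.trace_smul, trace_conj,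
    smul_eq_mul] at etr
  rcases sq_eq_one_iff.1 hr with rfl | rfl
  · exact h1 (by rw [etr, one_mul])
  · exact h2 (by rw [etr, neg_one_mul])

end Cfsg.Agent.S2450
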