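import Cfsg.Statements.S2455
import Cfsg.Agent.SL2Tor.PSL

set_option autoImplicit false
open Cfsg

namespace Cfsg.Agent.S2455

/-- A strong covering result in the direction of Thompson's conjecture (non-identity elements) for PSL(2,q), q odd: let F be a finite field of odd characteristic p with at least 5 elements and let x ∈ PSL(2,F) have order greater than 2 and not divisible by p (so x is not unipotent). Then every non-identity element of PSL(2,F) is a product of two conjugates of x. -/
theorem result {F : Type*} [Field F] [Fintype F] (p : ℕ) [Fact p.Prime] [CharP F p] (hp : p ≠ 2) (h5 : 5 ≤ Fintype.card F)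
    (x : Matrix.ProjectiveSpecialLinearGroup (Fin 2) F) (hx2 : 2 < orderOf x) (hxp : ¬ p ∣ orderOf x) : ∀ g : Matrix.ProjectiveSpecialLinearGroup (Fin 2) F, g ≠ 1 → ∃ u v : Matrix.ProjectiveSpecialLinearGroup (Fin 2) F, g = (u * x * u⁻¹) * (v * x * v⁻¹) := by
  open Cfsg.Agent.SL2Tor in
  intro g hg
  obtain ⟨X, rfl⟩ := QuotientGroup.mk_surjective x
  obtain ⟨G, rfl⟩ := QuotientGroup.mk_surjective g
  have hGns : ¬ IsScalar (G : Matrix (Fin 2) (Fin 2) F) := fun h => hg ((psl_mk_eq_one_iff G).2 h)
  have hXns : ¬ IsScalar (X : Matrix (Fin 2) (Fin 2) F) := fun h => by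
    rw [(psl_mk_eq_one_iff X).2 h, orderOf_one] at hx2; omega
  have hX4 := trace_sq_ne_four p X hXns (fun e => hxp (e ▸ dvd_refl _))
  have hX0 := trace_ne_zero X hx2
  have key : ∃ G' : Matrix.SpecialLinearGroup (Fin 2) F,
      (QuotientGroup.mk G' : Matrix.ProjectiveSpecialLinearGroup (Fin 2) F) = QuotientGroup.mk G ∧
      ∃ u v : Matrix.SpecialLinearGroup (Fin 2) F, G' = (u * X * u⁻¹) * (v * X * v⁻¹) := by
    by_cases h4 : (G : Matrix (Fin 2) (Fin 2) F).trace ^ 2 = 4
    · obtain ⟨G', hG', hns', ht'⟩ : ∃ G' : Matrix.SpecialLinearGroup (Fin 2) F,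
          (QuotientGroup.mk G' : Matrix.ProjectiveSpecialLinearGroup (Fin 2) F) = QuotientGroup.mk G ∧
          ¬ IsScalar (G' : Matrix (Fin 2) (Fin 2) F) ∧ (G' : Matrix (Fin 2) (Fin 2) F).trace = -2 := by
        rcases sq_eq_sq_iff_eq_or_eq_neg.1 (h4.trans (by norm_num : (4 : F) = 2 ^ 2)) with h | h
        · refine ⟨-G, psl_mk_neg G, ?_, by rw [trace_neg', h]⟩
          intro hs
          exact hg (by rw [← psl_mk_neg G]; exact (psl_mk_eq_one_iff _).2 hs)
        · exact ⟨G, rfl, hGns, h⟩
      refine ⟨G', hG', ?_⟩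
      obtain ⟨x, hx⟩ := exists_trace_mul X X hX4 hX4 (-2)
      refine hit_of_seed X G' _ hX4 x rfl ?_ hns' (by rw [hx, ht'])
      intro hs
      set P := X * (x * X * x⁻¹) with hP
      have hP2 : P = -1 := by
        apply Subtype.ext
        obtain ⟨h1, h2, h3⟩ := hs
        rw [Matrix.trace_fin_two, ← h3] at hx
        have h2ne : (2 : F) ≠ 0 := by
          intro e
          have : ((2 : ℕ) : F) = 0 := by exact_mod_cast e
          exact hp ((Nat.prime_dvd_prime_iff_eq Fact.out Nat.prime_two).1 ((CharP.cast_eq_zero_iff F p 2).1 this))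
        have h00 : (P : Matrix (Fin 2) (Fin 2) F) 0 0 = -1 := by
          refine mul_left_cancel₀ h2ne ?_
          linear_combination hx
        rw [Matrix.SpecialLinearGroup.coe_neg, Matrix.SpecialLinearGroup.coe_one]
        ext i j
        fin_cases i <;> fin_cases j <;> simp [h1, h2, h00, h3.symm.trans h00]
      have hXinv : x * X * x⁻¹ = -X⁻¹ := by
        rw [hP] at hP2
        rw [← inv_mul_cancel_left X (x * X * x⁻¹), hP2]
        apply Subtype.ext
        simp
      have ht := trace_conj x X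
      rw [hXinv, trace_neg'] at ht
      have hti : ((X⁻¹ : Matrix.SpecialLinearGroup (Fin 2) F) : Matrix (Fin 2) (Fin 2) F).trace =
          (X : Matrix (Fin 2) (Fin 2) F).trace := by
        rw [Matrix.SpecialLinearGroup.coe_inv, Matrix.adjugate_fin_two, Matrix.trace_fin_two,
          Matrix.trace_fin_two]
        simp [add_comm]
      rw [hti] at ht
      have h2ne : (2 : F) ≠ 0 := by
        intro e
        have : ((2 : ℕ) : F) = 0 := by exact_mod_cast e
        exact hp ((Nat.prime_dvd_prime_iff_eq Fact.out Nat.prime_two).1 ((CharP.cast_eq_zero_iff F p 2).1 this))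
      exact hX0 (mul_left_cancel₀ h2ne (by linear_combination -ht))
    · exact ⟨G, rfl, hit_of_trace X G hX4 h4⟩
  obtain ⟨G', hG', u, v, huv⟩ := key
  exact ⟨QuotientGroup.mk u, QuotientGroup.mk v, by rw [← hG', huv]; simp⟩

end Cfsg.Agent.S2455
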