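import Cfsg.Statements.S2456
import Cfsg.Agent.SL2Tor.PSL

set_option autoImplicit false
open Cfsg

namespace Cfsg.Agent.S2456

/-- A strong covering result in the direction of Thompson's conjecture (non-identity elements) for PSL(2,q), q even: let F be a finite field of characteristic 2 with q ≥ 4 elements and let x ∈ PSL(2,F) have order greater than 2 and not dividing q + 1. Then every non-identity element of PSL(2,F) is a product of two conjugates of x. -/
theorem result {F : Type*} [Field F] [Fintype F] [CharP F 2] (h4 : 4 ≤ Fintype.card F)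
    (x : Matrix.ProjectiveSpecialLinearGroup (Fin 2) F) (hx2 : 2 < orderOf x) (hxq : ¬ orderOf x ∣ Fintype.card F + 1) : ∀ g : Matrix.ProjectiveSpecialLinearGroup (Fin 2) F, g ≠ 1 → ∃ u v : Matrix.ProjectiveSpecialLinearGroup (Fin 2) F, g = (u * x * u⁻¹) * (v * x * v⁻¹) := by
  open Cfsg.Agent.SL2Tor in
  intro g hg
  haveI : Fact (Nat.Prime 2) := ⟨Nat.prime_two⟩
  obtain ⟨X, rfl⟩ := QuotientGroup.mk_surjective x
  obtain ⟨G, rfl⟩ := QuotientGroup.mk_surjective g
  have hGns : ¬ IsScalar (G : Matrix (Fin 2) (Fin 2) F) := fun h => hg ((psl_mk_eq_one_iff G).2 h)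
  have hXns : ¬ IsScalar (X : Matrix (Fin 2) (Fin 2) F) := fun h => by
    rw [(psl_mk_eq_one_iff X).2 h, orderOf_one] at hx2; omega
  have hX4 := trace_sq_ne_four 2 X hXns (fun e => by omega)
  have hX0 := trace_ne_zero X hx2
  have h2 : (2 : F) = 0 := CharTwo.two_eq_zero
  suffices key : ∃ u v : Matrix.SpecialLinearGroup (Fin 2) F, G = (u * X * u⁻¹) * (v * X * v⁻¹) by
    obtain ⟨u, v, huv⟩ := key
    exact ⟨QuotientGroup.mk u, QuotientGroup.mk v, by rw [huv]; simp⟩
  by_cases h4 : (G : Matrix (Fin 2) (Fin 2) F).trace ^ 2 = 4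
  swap
  · exact hit_of_trace X G hX4 h4
  have hG0 : (G : Matrix (Fin 2) (Fin 2) F).trace = 0 := by
    apply eq_zero_of_pow_eq_zero (n := 2)
    rw [h4]; linear_combination 2 * h2
  obtain ⟨A, hA⟩ : ∃ A : Matrix (Fin 2) (Fin 2) F, A = (X : Matrix (Fin 2) (Fin 2) F) := ⟨_, rfl⟩
  obtain ⟨l, hl⟩ : ∃ l : F, l ^ 2 - A.trace * l + 1 = 0 := by
    by_contra hno
    rcases Cfsg.Agent.Recog71.sl2_pow_cases 2 X with h | h | h | h
    · exact hno (exists_root_of_pow (hA ▸ X.2) (Fintype.card F - 1) (by omega)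
        (by rw [Nat.card_eq_fintype_card]) (hA ▸ h))
    · exact hxq (orderOf_dvd_of_pow_eq_one (psl_pow_eq_one_of_eq_smul X _ 1 (by rw [h, one_smul])))
    · have := orderOf_le_of_pow_eq_one (by norm_num) (psl_pow_eq_one_of_eq_smul X 2 1 (by rw [h, one_smul]))
      omega
    · have := orderOf_le_of_pow_eq_one (by norm_num) (psl_pow_eq_one_of_eq_smul X 2 (-1) (by rw [h]; simp))
      omega
  set α := A.trace with hα
  have hl0 : l ≠ 0 := by rintro rfl; simp at hl
  obtain ⟨A', hA'⟩ : ∃ A' : Matrix.SpecialLinearGroup (Fin 2) F,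
      (A' : Matrix (Fin 2) (Fin 2) F) = comp2 α := ⟨⟨_, by simp [comp2, Matrix.det_fin_two_of]⟩, rfl⟩
  obtain ⟨B, hB⟩ : ∃ B : Matrix.SpecialLinearGroup (Fin 2) F,
      (B : Matrix (Fin 2) (Fin 2) F) = !![α - l, 0; α * l, l] :=
    ⟨⟨_, by rw [Matrix.det_fin_two_of]; linear_combination -hl⟩, rfl⟩
  have hA't : (A' : Matrix (Fin 2) (Fin 2) F).trace = α := by
    rw [hA']; simp [comp2, Matrix.trace_fin_two]
  have hα4 : α ^ 2 ≠ 4 := by rw [hα, hA]; exact hX4
  obtain ⟨b, hb⟩ := isConj_of_trace A' B (by rw [hA't, hB]; simp [Matrix.trace_fin_two]) (by rw [hA't]; exact hα4)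
  obtain ⟨a, ha⟩ := isConj_of_trace A' X (by rw [hA't, hα, hA]) (by rw [hA't]; exact hα4)
  obtain ⟨u, v, huv⟩ := hit_of_seed A' G (A' * (b * A' * b⁻¹)) (by rw [hA't]; exact hα4) b rfl
    (by
      rw [← hb, Matrix.SpecialLinearGroup.coe_mul, hA', hB]
      rintro ⟨h01, -, -⟩
      simp [comp2, Matrix.mul_apply, Fin.sum_univ_two] at h01
      exact hl0 h01)
    hGns (by
      rw [← hb, hG0, Matrix.SpecialLinearGroup.coe_mul, hA', hB]
      simp [comp2, Matrix.trace_fin_two, Matrix.mul_apply, Fin.sum_univ_two])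
  refine ⟨u * a⁻¹, v * a⁻¹, ?_⟩
  rw [huv, ha]; group

end Cfsg.Agent.S2456
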