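import Cfsg.Statements.S2459
import Cfsg.Agent.Sourour.Three

set_option autoImplicit false
open Cfsg

namespace Cfsg.Agent.S2459

/-- A form of Thompson's conjecture for PSL(3,q), q > 2 (covering the non-identity elements), with a semisimple class: for F a finite field of characteristic p with more than 2 elements there is an element x of PSL(3,F) of order prime to p such that every non-identity element of PSL(3,F) is a product of two conjugates of x. -/
theorem result {F : Type*} [Field F] [Fintype F] (p : ℕ) [Fact p.Prime] [CharP F p] (h3 : 3 ≤ Fintype.card F) :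
    ∃ x : Matrix.ProjectiveSpecialLinearGroup (Fin 3) F, ¬ p ∣ orderOf x ∧ ∀ g : Matrix.ProjectiveSpecialLinearGroup (Fin 3) F, g ≠ 1 → ∃ u v : Matrix.ProjectiveSpecialLinearGroup (Fin 3) F, g = (u * x * u⁻¹) * (v * x * v⁻¹) := by
  classical
  obtain ⟨k, -, hk⟩ := FiniteField.card F p
  have hpc : ¬ p ∣ Fintype.card F - 1 := by
    intro hd
    have h1 : p ∣ Fintype.card F := by rw [hk]; exact dvd_pow_self p k.ne_zero
    have := Nat.dvd_sub h1 hd
    rw [Nat.sub_sub_self (by omega)] at this
    exact (Fact.out : p.Prime).not_dvd_one this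
  rcases Nat.eq_or_lt_of_le h3 with h | h
  · obtain ⟨x, hx8, hx⟩ := Cfsg.Agent.Sourour.sl_three_of_card_three h.symm
    refine ⟨QuotientGroup.mk x, ?_, fun g hg => ?_⟩
    · intro hp
      have h8 : orderOf (QuotientGroup.mk x : Matrix.ProjectiveSpecialLinearGroup (Fin 3) F) ∣ 4 :=
        orderOf_dvd_of_pow_eq_one (by rw [← QuotientGroup.mk_pow, hx8]; rfl)
      have hp8 := dvd_trans hp h8
      have hp2 : p = 2 := (Nat.prime_dvd_prime_iff_eq Fact.out Nat.prime_two).1
        ((Fact.out : p.Prime).dvd_of_dvd_pow (m := 2) (n := 2) hp8)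
      exact hpc (by rw [hp2, ← h])
    · obtain ⟨g, rfl⟩ := QuotientGroup.mk_surjective g
      obtain ⟨u, v, huv⟩ := hx g (Cfsg.Agent.Sourour.ne_scalar_of_psl_ne_one g hg)
      exact ⟨QuotientGroup.mk u, QuotientGroup.mk v, by rw [huv]; simp⟩
  · obtain ⟨a, ha0, ha1, ha2⟩ : ∃ a : F, a ≠ 0 ∧ a ≠ 1 ∧ a * a ≠ 1 := by
      by_contra hc
      push Not at hc
      have hsub : (Finset.univ : Finset F) ⊆ {0, 1, -1} := by
        intro a _
        simp only [Finset.mem_insert, Finset.mem_singleton]
        rcases eq_or_ne a 0 with h0 | h0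
        · exact Or.inl h0
        rcases eq_or_ne a 1 with h1 | h1
        · exact Or.inr (Or.inl h1)
        exact Or.inr (Or.inr ((mul_self_eq_one_iff.1 (hc a h0 h1)).resolve_left h1))
      have := Finset.card_le_card hsub
      rw [Finset.card_univ] at this
      have := le_trans this Finset.card_le_three
      omega
    set d : Fin 3 → F := ![1, a, a⁻¹] with hd
    have hinv : a ≠ a⁻¹ := fun e => ha2 (by nth_rewrite 2 [e]; exact mul_inv_cancel₀ ha0)
    have hinv1 : (1 : F) ≠ a⁻¹ := fun e => ha1 (inv_eq_one.1 e.symm)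
    have hinj : Function.Injective d := by
      intro i j hij
      fin_cases i <;> fin_cases j <;> simp_all [eq_comm]
    have hprod : ∏ i, d i = 1 := by simp [hd, Fin.prod_univ_three, ha0]
    refine ⟨QuotientGroup.mk (Cfsg.Agent.Sourour.diagSL d hprod), ?_, fun g hg =>
      Cfsg.Agent.Sourour.psl_exists_conj_mul_conj hprod hprod hinj hinj g hg⟩
    intro hp
    refine hpc (dvd_trans hp (orderOf_dvd_of_pow_eq_one ?_))
    rw [← QuotientGroup.mk_pow, QuotientGroup.eq_one_iff]
    have : Cfsg.Agent.Sourour.diagSL d hprod ^ (Fintype.card F - 1) = 1 := by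
      apply Subtype.ext
      rw [Matrix.SpecialLinearGroup.coe_pow, Cfsg.Agent.Sourour.coe_diagSL, Matrix.diagonal_pow,
        Matrix.SpecialLinearGroup.coe_one, ← Matrix.diagonal_one]
      congr 1
      funext i
      refine FiniteField.pow_card_sub_one_eq_one _ ?_
      fin_cases i <;> simp [hd, ha0]
    rw [this]
    exact one_mem _

end Cfsg.Agent.S2459
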