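import Cfsg.Statements.S2462
import Cfsg.Agent.Cover3D4.TwoMain

set_option autoImplicit false
open Cfsg

namespace Cfsg.Agent.S2462

/-- A form of Thompson's conjecture for the triality groups ³D₄(q) (covering the non-identity elements) with a semisimple class: for q a power of the prime p and K the field with q³ elements there is an element x of ³D₄(q) (realised over K) of order prime to p such that every non-identity element of ³D₄(q) is a product of two conjugates of x. -/
theorem result {K : Type*} [Field K] [Fintype K] (p : ℕ) [Fact p.Prime] [CharP K p] (q : ℕ) (hq : IsPrimePow q) (hK : Fintype.card K = q ^ 3) :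
    ∃ x : Cfsg.Lie.twistedD4 K q, ¬ p ∣ orderOf x ∧ ∀ g : Cfsg.Lie.twistedD4 K q, g ≠ 1 → ∃ u v : Cfsg.Lie.twistedD4 K q, g = (u * x * u⁻¹) * (v * x * v⁻¹) := by
  obtain ⟨E⟩ := Cfsg.Agent.Cover3D4.exists_setup hq hK
  obtain ⟨xx, hxx, hord, hprod⟩ : ∃ xx ∈ E.C.S, ¬ p ∣ orderOf xx ∧ ∀ g ∈ E.C.S, g ≠ 1 → E.IsProd xx g := by
    obtain ⟨p', n, hp', hn, rfl⟩ := hq
    have hp'' : p'.Prime := Nat.prime_iff.2 hp'
    have hpp : p = p' := by
      obtain ⟨m, hp, hm⟩ := FiniteField.card K p
      rw [hK, ← pow_mul] at hm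
      have h : p ∣ p' ^ (n * 3) := hm ▸ dvd_pow_self p m.ne_zero
      exact (Nat.prime_dvd_prime_iff_eq hp hp'').1 (hp.dvd_of_dvd_pow h)
    subst hpp
    by_cases h3 : 3 ≤ p ^ n
    · exact E.cover rfl h3 hK
    · have h4 : p ^ n = 2 := by
        have := Nat.le_self_pow hn.ne' p
        have := hp''.two_le
        omega
      have h2 : p = 2 := by
        have := Nat.le_self_pow hn.ne' p
        have := hp''.two_le
        omega
      subst h2
      revert E
      rw [h4]
      intro E
      exact E.cover2 (by rw [hK, h4])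
  have e := E.C.S_eq
  refine ⟨⟨xx, e ▸ hxx⟩, by rw [← Subgroup.orderOf_coe]; exact hord, fun g hg => ?_⟩
  obtain ⟨u, hu, v, hv, h⟩ := hprod g.1 (e.symm ▸ g.2) (fun h => hg (Subtype.ext h))
  exact ⟨⟨u, e ▸ hu⟩, ⟨v, e ▸ hv⟩, Subtype.ext h⟩

end Cfsg.Agent.S2462
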