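import Cfsg.Statements.S2466
import Cfsg.Agent.Alt57.Orders

set_option autoImplicit false
open Cfsg

namespace Cfsg.Agent.S2466

/-- Adjacency of odd primes in the prime graph of the alternating groups: let r ≠ s be odd primes at most n. The alternating group of degree n has an element of order r·s if and only if r + s ≤ n. -/
theorem result (n r s : ℕ) (hr : r.Prime) (hs : s.Prime) (hr2 : r ≠ 2) (hs2 : s ≠ 2) (hrs : r ≠ s) (hrn : r ≤ n) (hsn : s ≤ n) :
    (r * s ∈ Set.range (orderOf : alternatingGroup (Fin n) → ℕ)) ↔ r + s ≤ n := by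
  rw [Cfsg.Agent.Alt57.mem_range_orderOf_iff]
  constructor
  · rintro ⟨t, h2, hsum, -, hl⟩
    obtain ⟨a, ha, hra⟩ := Cfsg.Agent.Alt57.exists_dvd_of_prime_dvd_lcm hr (hl.symm ▸ dvd_mul_right r s)
    obtain ⟨b, hb, hsb⟩ := Cfsg.Agent.Alt57.exists_dvd_of_prime_dvd_lcm hs (hl.symm ▸ dvd_mul_left s r)
    have ha1 : r ≤ a := Nat.le_of_dvd (by have := h2 a ha; omega) hra
    have hb1 : s ≤ b := Nat.le_of_dvd (by have := h2 b hb; omega) hsb
    by_cases hab : a = b
    · subst hab
      have hrsa : r * s ∣ a := ((Nat.coprime_primes hr hs).2 hrs).mul_dvd_of_dvd_of_dvd hra hsb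
      have h1 : r * s ≤ a := Nat.le_of_dvd (by have := h2 a ha; omega) hrsa
      have h3 : a ≤ t.sum := Multiset.le_sum_of_mem ha
      have := Nat.add_le_mul hr.two_le hs.two_le
      omega
    · obtain ⟨u, rfl⟩ := Multiset.exists_cons_of_mem ha
      have hb' : b ∈ u := (Multiset.mem_cons.1 hb).resolve_left (Ne.symm hab)
      have h3 : b ≤ u.sum := Multiset.le_sum_of_mem hb'
      rw [Multiset.sum_cons] at hsum
      omega
  · intro h
    refine ⟨{r, s}, ?_, by simpa using h, ?_, ?_⟩
    · simp [hr.two_le, hs.two_le]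
    · rw [Cfsg.Agent.Alt57.even_sum_add_card]
      have h1 : ¬ Even r := by rw [hr.even_iff]; exact hr2
      have h3 : ¬ Even s := by rw [hs.even_iff]; exact hs2
      simp [Multiset.filter_cons, Multiset.filter_singleton, h1, h3]
    · simp [lcm_eq_nat_lcm, Nat.Coprime.lcm_eq_mul ((Nat.coprime_primes hr hs).2 hrs)]

end Cfsg.Agent.S2466
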