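import Cfsg.Statements.S2467
import Cfsg.Agent.Alt57.Orders

set_option autoImplicit false
open Cfsg

namespace Cfsg.Agent.S2467

/-- Adjacency of 2 and an odd prime in the prime graph of the alternating groups: let r be an odd prime at most n, with n ≥ 4. The alternating group of degree n has an element of order 2r if and only if r + 4 ≤ n. -/
theorem result (n r : ℕ) (hn : 4 ≤ n) (hr : r.Prime) (hr2 : r ≠ 2) (hrn : r ≤ n) :
    (2 * r ∈ Set.range (orderOf : alternatingGroup (Fin n) → ℕ)) ↔ r + 4 ≤ n := by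
  rw [Cfsg.Agent.Alt57.mem_range_orderOf_iff]
  have hr3 : 3 ≤ r := by have := hr.two_le; omega
  have hodd : ¬ Even r := by rw [hr.even_iff]; exact hr2
  constructor
  · rintro ⟨t, h2, hsum, heven, hl⟩
    rw [Cfsg.Agent.Alt57.even_sum_add_card] at heven
    obtain ⟨a, ha, hra⟩ := Cfsg.Agent.Alt57.exists_dvd_of_prime_dvd_lcm hr (hl.symm ▸ dvd_mul_left r 2)
    obtain ⟨b, hb, hb2⟩ := Cfsg.Agent.Alt57.exists_dvd_of_prime_dvd_lcm Nat.prime_two
      (hl.symm ▸ dvd_mul_right 2 r)
    have ha1 : r ≤ a := Nat.le_of_dvd (by have := h2 a ha; omega) hra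
    obtain ⟨u, rfl⟩ := Multiset.exists_cons_of_mem ha
    rw [Multiset.sum_cons] at hsum
    by_cases hae : Even a
    · rw [Multiset.filter_cons_of_pos (s := u) (p := fun x => Even x) hae, Multiset.card_cons] at heven
      have hne : 0 < (u.filter fun x => Even x).card := by
        rcases Nat.eq_zero_or_pos (u.filter fun x => Even x).card with h0 | h0
        · rw [h0] at heven; simp at heven
        · exact h0
      obtain ⟨c, hc⟩ := Multiset.card_pos_iff_exists_mem.1 hne
      rw [Multiset.mem_filter] at hc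
      have h3 : c ≤ u.sum := Multiset.le_sum_of_mem hc.1
      have h4 : 2 ≤ c := h2 c (Multiset.mem_cons_of_mem hc.1)
      have h5 : 2 * r ≤ a := Nat.le_of_dvd (by omega)
        (((Nat.coprime_primes Nat.prime_two hr).2 (Ne.symm hr2)).mul_dvd_of_dvd_of_dvd hae.two_dvd hra)
      omega
    · rw [Multiset.filter_cons_of_neg (s := u) (p := fun x => Even x) hae] at heven
      have hbu : b ∈ u := (Multiset.mem_cons.1 hb).resolve_left fun e => hae (e ▸ even_iff_two_dvd.2 hb2)
      have hne : 0 < (u.filter fun x => Even x).card :=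
        Multiset.card_pos_iff_exists_mem.2 ⟨b, Multiset.mem_filter.2 ⟨hbu, even_iff_two_dvd.2 hb2⟩⟩
      obtain ⟨k, hk⟩ := heven
      have hk2 : (u.filter fun x => Even x).card • 2 ≤ (u.filter fun x => Even x).sum :=
        Multiset.card_nsmul_le_sum fun x hx => h2 x (Multiset.mem_cons_of_mem (Multiset.mem_filter.1 hx).1)
      have hk3 : (u.filter fun x => Even x).sum ≤ u.sum := by
        conv_rhs => rw [← Multiset.filter_add_not (fun x => Even x) u, Multiset.sum_add]
        omega
      rw [smul_eq_mul] at hk2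
      omega
  · intro h
    refine ⟨{2, 2, r}, ?_, ?_, ?_, ?_⟩
    · simp [hr.two_le]
    · simp; omega
    · rw [Cfsg.Agent.Alt57.even_sum_add_card]
      simp [Multiset.filter_cons, Multiset.filter_singleton, hodd]
    · have hc : Nat.Coprime 2 r := (Nat.coprime_primes Nat.prime_two hr).2 (Ne.symm hr2)
      simp [lcm_eq_nat_lcm, ← Nat.lcm_assoc, Nat.Coprime.lcm_eq_mul hc]

end Cfsg.Agent.S2467
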