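import Cfsg.Statements.S2470
import Cfsg.Agent.PrimeGraphPSL.Main
-- import your own Cfsg.Agent.* helpers here

set_option autoImplicit false
open Cfsg

namespace Cfsg.Agent.S2470

/-- Adjacency of an odd prime and the characteristic in the prime graph of PSL(n,q): let F be a finite field of characteristic p with q elements, n ≥ 2 with PSL(n,F) simple, and let r ≠ p be an odd prime dividing the order of PSL(n,F), with k the multiplicative order of q modulo r. Then PSL(n,F) has NO element of order r·p if and only if either k > n − 2, or n = 3, r = 3 and 3 divides q − 1 exactly once. -/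
theorem result {F : Type*} [Field F] [Fintype F] (p : ℕ) [Fact p.Prime] [CharP F p] (n : ℕ) (hn : 2 ≤ n) (hsmall : n = 2 → 4 ≤ Fintype.card F)
    (r : ℕ) (hr : r.Prime) (hr2 : r ≠ 2) (hrp : r ≠ p) (hrG : r ∣ Nat.card (Matrix.ProjectiveSpecialLinearGroup (Fin n) F))
    (k : ℕ) (hk : k = orderOf ((Fintype.card F : ℕ) : ZMod r)) :
    (r * p ∉ Set.range (orderOf : Matrix.ProjectiveSpecialLinearGroup (Fin n) F → ℕ)) ↔
      (n - 2 < k ∨ (n = 3 ∧ r = 3 ∧ 3 ∣ Fintype.card F - 1 ∧ ¬ 9 ∣ Fintype.card F - 1)) := by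
  haveI : Fact r.Prime := ⟨hr⟩
  have hk1 := Cfsg.Agent.ClMax99.Inv.orderOf_pos_of_ne (F := F) (r := r) hrp
  rw [← hk] at hk1
  constructor
  · intro hno
    by_contra hc
    push Not at hc
    exact hno (Cfsg.Agent.PrimeGraphPSL.mem_char_large hn hrp (by rw [← hk]; omega)
      (fun ⟨a, b, c, d⟩ => d (hc.2 a b c)))
  · intro h
    refine Cfsg.Agent.PrimeGraphPSL.not_mem_char_small hn hrp ?_
    rw [← hk]
    rcases h with h | h
    · exact Or.inl (by omega)
    · exact Or.inr h

end Cfsg.Agent.S2470
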