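import Cfsg.Statements.S2471
import Mathlib

set_option autoImplicit false
open Cfsg

namespace Cfsg.Agent.S2471

theorem two_sq {F : Type*} [Field F] (M : Matrix (Fin 2) (Fin 2) F) :
    M * M = M.trace • M - M.det • 1 := by
  ext i j
  fin_cases i <;> fin_cases j <;>
    simp [Matrix.mul_apply, Matrix.trace, Matrix.det_fin_two, Fin.sum_univ_two] <;> ring

theorem two_sq_eq_zero {F : Type*} [Field F] (M : Matrix (Fin 2) (Fin 2) F) (k : ℕ)
    (h : M ^ (k + 1) = 0) : M * M = 0 := by
  have hd : M.det = 0 := by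
    have := congrArg Matrix.det h
    rw [Matrix.det_pow, Matrix.det_zero] at this
    exact (pow_eq_zero_iff (Nat.succ_ne_zero k)).1 this
  have hsq : M * M = M.trace • M := by rw [two_sq, hd, zero_smul, sub_zero]
  have hpow : ∀ j : ℕ, M ^ (j + 1) = M.trace ^ j • M := by
    intro j
    induction j with
    | zero => simp
    | succ j ih => rw [pow_succ, ih, Matrix.smul_mul, hsq, smul_smul, pow_succ]
  rw [hpow, smul_eq_zero] at h
  rcases h with h | h
  · rw [hsq, pow_eq_zero_iff' .. |>.1 h |>.1, zero_smul]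
  · rw [h, zero_mul]

theorem psl_eq_one_of_scalar {F : Type*} [Field F] (B : Matrix.SpecialLinearGroup (Fin 2) F) (c : F)
    (h : (B : Matrix (Fin 2) (Fin 2) F) = c • 1) :
    (QuotientGroup.mk B : Matrix.ProjectiveSpecialLinearGroup (Fin 2) F) = 1 := by
  refine (QuotientGroup.eq_one_iff B).2 (Matrix.SpecialLinearGroup.mem_center_iff.2 ⟨c, ?_, ?_⟩)
  · have := B.2
    rw [h] at this
    simpa [Matrix.det_smul] using this
  · rw [h]; simp [Matrix.smul_one_eq_diagonal]

/-- In PSL(2,q) with q odd, the characteristic p is isolated from 2 in the prime graph: for F a finite field of odd characteristic p with at least 5 elements, PSL(2,F) has no element of order 2p. -/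
theorem result {F : Type*} [Field F] [Fintype F] (p : ℕ) [Fact p.Prime] [CharP F p] (hp : p ≠ 2) (h5 : 5 ≤ Fintype.card F) (g : Matrix.ProjectiveSpecialLinearGroup (Fin 2) F) :
    orderOf g ≠ 2 * p := by
  intro ho
  obtain ⟨B, rfl⟩ := QuotientGroup.mk_surjective g
  have hp2 : 2 ≤ p := (Fact.out : p.Prime).two_le
  have h1 := pow_orderOf_eq_one (QuotientGroup.mk B : Matrix.ProjectiveSpecialLinearGroup (Fin 2) F)
  rw [ho, ← QuotientGroup.mk_pow, QuotientGroup.eq_one_iff, Matrix.SpecialLinearGroup.mem_center_iff] at h1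
  obtain ⟨c, hc, hB⟩ := h1
  set M : Matrix (Fin 2) (Fin 2) F := (B : Matrix (Fin 2) (Fin 2) F)
  have hM : M ^ (2 * p) = c • 1 := by
    rw [← Matrix.SpecialLinearGroup.coe_pow, ← hB]; simp [Matrix.smul_one_eq_diagonal]
  have hcc : c = 1 ∨ c = -1 := by
    rw [Fintype.card_fin] at hc
    exact sq_eq_one_iff.1 hc
  have hcp : c ^ p = c := by
    rcases hcc with rfl | rfl
    · exact one_pow p
    · exact ((Fact.out : p.Prime).odd_of_ne_two hp).neg_one_pow
  set N := M ^ 2 - c • (1 : Matrix (Fin 2) (Fin 2) F) with hN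
  have hNp : N ^ p = 0 := by
    rw [hN, sub_pow_char_of_commute p ((Commute.one_right _).smul_right c), ← pow_mul, smul_pow, one_pow,
      hcp, hM, sub_self]
  have hN2 : N * N = 0 := two_sq_eq_zero N (p - 1) (by rwa [Nat.sub_add_cancel (by omega)])
  by_cases ht : M.trace = 0
  · have h2 : M ^ 2 = (-1 : F) • 1 := by
      rw [pow_two, two_sq, ht, B.2]; simp
    have := orderOf_dvd_of_pow_eq_one
      (show (QuotientGroup.mk B : Matrix.ProjectiveSpecialLinearGroup (Fin 2) F) ^ 2 = 1 by
        rw [← QuotientGroup.mk_pow]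
        exact psl_eq_one_of_scalar _ (-1) (by rw [Matrix.SpecialLinearGroup.coe_pow]; exact h2))
    rw [ho] at this
    have := Nat.le_of_dvd (by norm_num) this
    omega
  · have hNlin : N = M.trace • M - (1 + c) • 1 := by
      rw [hN, pow_two, two_sq, B.2, add_smul, one_smul]; abel
    have hBx : M = (M.trace⁻¹ * (1 + c)) • (1 : Matrix (Fin 2) (Fin 2) F) + M.trace⁻¹ • N := by
      rw [hNlin, smul_sub, smul_smul, smul_smul, inv_mul_cancel₀ ht, one_smul]; abel
    have hpow : M ^ p = (M.trace⁻¹ * (1 + c)) ^ p • (1 : Matrix (Fin 2) (Fin 2) F) := by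
      have hN0 : N ^ p = 0 := hNp
      rw [hBx, add_pow_char_of_commute p ((Commute.one_left _).smul_left _), smul_pow, smul_pow, hN0,
        one_pow, smul_zero, add_zero]
      rw [← hBx]
    have := orderOf_dvd_of_pow_eq_one
      (show (QuotientGroup.mk B : Matrix.ProjectiveSpecialLinearGroup (Fin 2) F) ^ p = 1 by
        rw [← QuotientGroup.mk_pow]
        exact psl_eq_one_of_scalar _ _ (by rw [Matrix.SpecialLinearGroup.coe_pow]; exact hpow))
    rw [ho] at this
    have := Nat.le_of_dvd (by omega) this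
    omega

end Cfsg.Agent.S2471
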