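import Cfsg.Statements.S2474
import Cfsg.Agent.Spectra36.PG.Spectrum

set_option autoImplicit false
open Cfsg

namespace Cfsg.Agent.S2474

open Cfsg.Agent.Spectra36 in
open Cfsg.Agent in
theorem two_case {F : Type*} [Field F] [Fintype F] (h2 : (2 : F) ≠ 0) (n : ℕ) (hn : 3 ≤ n) {s : ℕ}
    (hs : s.Prime) (hs2 : s ≠ 2) :
    (2 * s ∈ Set.range (orderOf : Cfsg.POmega F (Cfsg.quadFormOdd n F) → ℕ)) ↔
      (2 * s ∈ Set.range (orderOf : Cfsg.PSp n F → ℕ)) := by
  classical
  obtain ⟨p, hp⟩ := CharP.exists F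
  haveI := hp
  haveI : Fact p.Prime := ⟨CharP.char_is_prime F p⟩
  rw [PG.pomega_two_iff h2 n (by omega) hs hs2, PG.psp_two_iff n hs hs2]
  by_cases hsp : s = p
  · subst hsp
    exact iff_of_true (PG.two_o_of_char h2 hs2 (by omega)) (PG.two_sp_of_char h2 (by omega))
  · have hsF : (s : F) ≠ 0 := fun h => hsp ((Nat.prime_dvd_prime_iff_eq (Fact.out : p.Prime) hs).mp
      ((CharP.cast_eq_zero_iff F p s).mp h)).symm
    exact ⟨PG.two_sp_of_two_o (p := p) h2 (by omega) hs hs2 hsF,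
      PG.two_o_of_two_sp (p := p) h2 (by omega) hs hs2 hsF⟩

open Cfsg.Agent.Spectra36 in
open Cfsg.Agent in
theorem odd_case {F : Type*} [Field F] [Fintype F] (h2 : (2 : F) ≠ 0) (n : ℕ) (hn : 3 ≤ n) {p : ℕ}
    [Fact p.Prime] [CharP F p] {r s : ℕ} (hr : r.Prime) (hs : s.Prime) (hrs : r ≠ s) (hr2 : r ≠ 2)
    (hs2 : s ≠ 2) (hrp : r ≠ p) :
    (r * s ∈ Set.range (orderOf : Cfsg.POmega F (Cfsg.quadFormOdd n F) → ℕ)) ↔
      (r * s ∈ Set.range (orderOf : Cfsg.PSp n F → ℕ)) := by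
  classical
  have hodd : Odd (r * s) := (hr.odd_of_ne_two hr2).mul (hs.odd_of_ne_two hs2)
  rw [PG.pomega_odd_iff h2 n (by omega) hodd, PG.psp_odd_iff n hodd]
  constructor
  · refine PG.odd_transfer (κ := fun j => Fin j ⊕ Fin j) (Or.inl rfl) h2 (fun x y => by rw [PG.oB_symm, one_mul])
      (PG.oB_nd h2 n) (by rw [PG.finrank_oB]) (fun j => Forms.sympBilin j F) ?_
      (fun j hj => PG.exists_unipotent_symp (p := p) h2 hj) hr hs hrs hr2 hs2 hrp Fact.out
    intro U A i j hA hnd hU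
    exact PG.exists_emb_symp (PG.alt_of_skew h2 hA) hnd hU
  · refine PG.odd_transfer (κ := fun j => Unit ⊕ (Fin j ⊕ Fin j)) (ε := (-1 : F)) (Or.inr rfl) h2
      (fun x y => by rw [← LinearMap.BilinForm.IsAlt.neg_eq Forms.sympBilin_isAlt x y]; ring)
      Forms.sympBilin_nondegenerate.1 (by rw [PG.finrank_vec]; omega) (fun j => PG.oB j F) ?_
      (fun j hj => PG.exists_unipotent_odd (p := p) h2 hj) hr hs hrs hr2 hs2 hrp Fact.out
    intro U A i j hA hnd hU
    exact PG.exists_emb_odd h2 (fun x y => by rw [hA, neg_neg, one_mul]) hnd hU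

/-- For q odd and n ≥ 3 the simple groups PΩ(2n+1,q) and PSp(2n,q) (which have the same order but different sets of element orders) have the same prime graph: for all distinct primes r, s, one of them has an element of order r·s if and only if the other does. -/
theorem result {F : Type*} [Field F] [Fintype F] (hodd : Odd (Fintype.card F)) (n : ℕ) (hn : 3 ≤ n) (r s : ℕ) (hr : r.Prime) (hs : s.Prime) (hrs : r ≠ s) :
    (r * s ∈ Set.range (orderOf : Cfsg.POmega F (Cfsg.quadFormOdd n F) → ℕ)) ↔ (r * s ∈ Set.range (orderOf : Cfsg.PSp n F → ℕ)) := by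
  classical
  have h2 : (2 : F) ≠ 0 := Cfsg.Agent.UnitaryOrthogonal.two_ne_zero_of_card_odd hodd
  obtain ⟨p, hp⟩ := CharP.exists F
  haveI := hp
  haveI : Fact p.Prime := ⟨CharP.char_is_prime F p⟩
  rcases eq_or_ne r 2 with rfl | hr2
  · exact two_case h2 n hn hs hrs.symm
  rcases eq_or_ne s 2 with rfl | hs2
  · rw [mul_comm]; exact two_case h2 n hn hr hr2
  by_cases hrp : r = p
  · rw [mul_comm]
    exact odd_case (p := p) h2 n hn hs hr hrs.symm hs2 hr2 (fun h => hrs (hrp.trans h.symm))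
  · exact odd_case (p := p) h2 n hn hr hs hrs hr2 hs2 hrp

end Cfsg.Agent.S2474
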