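import Cfsg.Statements.S2477
import Cfsg.Agent.Alt57.Orders

set_option autoImplicit false
open Cfsg

namespace Cfsg.Agent.S2477

/-- The set of element orders of the alternating group of degree 10 is {1, 2, 3, 4, 5, 6, 7, 8, 9, 10, 12, 15, 21}. -/
theorem result : Set.range (orderOf : alternatingGroup (Fin 10) → ℕ) = {1, 2, 3, 4, 5, 6, 7, 8, 9, 10, 12, 15, 21} := by
  ext m
  rw [Cfsg.Agent.Alt57.mem_range_orderOf_iff]
  constructor
  · rintro ⟨s, h2, hsum, heven, rfl⟩
    have key : ∀ l ∈ Cfsg.Agent.Alt57.cycleLists 9 10, (l.sum + l.length) % 2 = 0 →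
        l.foldr Nat.lcm 1 ∈ [1, 2, 3, 4, 5, 6, 7, 8, 9, 10, 12, 15, 21] := by decide +kernel
    obtain ⟨l, hl, rfl⟩ := Cfsg.Agent.Alt57.exists_cycleList 9 10 s
      (fun a ha => ⟨h2 a ha, le_trans (Multiset.le_sum_of_mem ha) hsum⟩) hsum
    simp only [Multiset.sum_coe, Multiset.coe_card, Nat.even_iff] at heven
    have hm := key l hl heven
    simp only [List.mem_cons, List.not_mem_nil, or_false] at hm
    exact hm
  · intro hm
    simp only [Set.mem_insert_iff, Set.mem_singleton_iff] at hm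
    rcases hm with rfl | rfl | rfl | rfl | rfl | rfl | rfl | rfl | rfl | rfl | rfl | rfl | rfl
    · exact ⟨0, by decide⟩
    · exact ⟨{2, 2}, by decide⟩
    · exact ⟨{3}, by decide⟩
    · exact ⟨{4, 2}, by decide⟩
    · exact ⟨{5}, by decide⟩
    · exact ⟨{3, 2, 2}, by decide⟩
    · exact ⟨{7}, by decide⟩
    · exact ⟨{8, 2}, by decide⟩
    · exact ⟨{9}, by decide⟩
    · exact ⟨{5, 2, 2}, by decide⟩
    · exact ⟨{4, 6}, by decide⟩
    · exact ⟨{5, 3}, by decide⟩
    · exact ⟨{7, 3}, by decide⟩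

end Cfsg.Agent.S2477
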