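import Cfsg.Statements.S2478
import Cfsg.Agent.Lib.GLSemisimple.Count
import Cfsg.Agent.Lib.GLSemisimple.ElemDiv

set_option autoImplicit false
open Cfsg

namespace Cfsg.Agent.S2478

/-- The number of conjugacy classes of GL(n,q): for F a finite field with q elements and n ≥ 1, the number k of conjugacy classes of GL(n,F) satisfies q^n − q^(n−1) ≤ k ≤ q^n. -/
theorem result {F : Type*} [Field F] [Fintype F] (n : ℕ) (hn : 1 ≤ n) :
    Fintype.card F ^ n - Fintype.card F ^ (n - 1) ≤ Nat.card (ConjClasses (Matrix.GeneralLinearGroup (Fin n) F)) ∧ Nat.card (ConjClasses (Matrix.GeneralLinearGroup (Fin n) F)) ≤ Fintype.card F ^ n := by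
  refine ⟨?_, Cfsg.Agent.GLSemi.card_conjClasses_GL_le hn⟩
  have hN : ((Cfsg.Agent.GLSemi.ssExp F n : ℕ) : F) ≠ 0 := by
    rw [Cfsg.Agent.GLSemi.natCast_ssExp]; exact neg_ne_zero.mpr one_ne_zero
  have h := Cfsg.Agent.GLSemi.card_monic_const_ne_zero (F := F) hn
  have h2 := Cfsg.Agent.GLSemi.card_classes_GL (F := F) hn hN
  rw [Cfsg.Agent.GLSemi.admPoly_ssExp] at h2
  have h3 : Nat.card {c : ConjClasses (GL (Fin n) F) // ∃ g, ConjClasses.mk g = c ∧
      g ^ Cfsg.Agent.GLSemi.ssExp F n = 1} = (Fintype.card F - 1) * Fintype.card F ^ (n - 1) := h2.trans h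
  have hpow : Fintype.card F ^ n = Fintype.card F * Fintype.card F ^ (n - 1) := by
    rw [← pow_succ', Nat.sub_add_cancel hn]
  rw [hpow, ← Nat.sub_one_mul, ← h3]
  exact Nat.card_le_card_of_injective _ Subtype.val_injective

end Cfsg.Agent.S2478
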