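import Cfsg.Statements.S2479
import Cfsg.Agent.ClassBound.Count
import Cfsg.Agent.Lib.GLSemisimple.Classes

set_option autoImplicit false
open Cfsg

namespace Cfsg.Agent.S2479

/-- The number of conjugacy classes of SL(n,q): for F a finite field with q elements, the number k of conjugacy classes of SL(n,F) satisfies q^(n−1) < k and k ≤ (5/2)·q^(n−1) for n ≥ 2, and k ≤ q^(n−1) + 3q^(n−2) for n ≥ 3. -/
theorem result {F : Type*} [Field F] [Fintype F] (n : ℕ) (hn : 2 ≤ n) :
    Fintype.card F ^ (n - 1) < Nat.card (ConjClasses (Matrix.SpecialLinearGroup (Fin n) F)) ∧ 2 * Nat.card (ConjClasses (Matrix.SpecialLinearGroup (Fin n) F)) ≤ 5 * Fintype.card F ^ (n - 1) ∧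
      (3 ≤ n → Nat.card (ConjClasses (Matrix.SpecialLinearGroup (Fin n) F)) ≤ Fintype.card F ^ (n - 1) + 3 * Fintype.card F ^ (n - 2)) := by
  classical
  have hq2 : 2 ≤ Fintype.card F := Fintype.one_lt_card
  have h3 : 3 ≤ n → Nat.card (ConjClasses (Matrix.SpecialLinearGroup (Fin n) F)) ≤
      Fintype.card F ^ (n - 1) + 3 * Fintype.card F ^ (n - 2) :=
    fun h => ClassBound.card_classes_SL_le h
  refine ⟨?_, ?_, h3⟩
  · have hN : ((GLSemi.ssExp F n : ℕ) : F) ≠ 0 := by
      rw [GLSemi.natCast_ssExp]; exact neg_ne_zero.mpr one_ne_zero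
    have h2 := GLSemi.card_classes_SL (F := F) (n := n) (by omega) hN
    have h4 : Nat.card {P : Polynomial F // P ∈ GLSemi.AdmPoly F n (GLSemi.ssExp F n) ∧
        P.coeff 0 = (-1) ^ n} = Fintype.card F ^ (n - 1) := by
      rw [← GLSemi.card_monic_const_eq (F := F) (n := n) (by omega) ((-1) ^ n)]
      refine Nat.card_congr (Equiv.subtypeEquivRight fun P => ?_)
      rw [GLSemi.admPoly_ssExp]
      constructor
      · rintro ⟨⟨h1, h2, -⟩, h3⟩; exact ⟨h1, h2, h3⟩
      · rintro ⟨h1, h2, h3⟩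
        exact ⟨⟨h1, h2, by rw [h3]; exact pow_ne_zero _ (neg_ne_zero.mpr one_ne_zero)⟩, h3⟩
    rw [← h4, ← h2]
    have hij : (⟨0, by omega⟩ : Fin n) ≠ ⟨1, by omega⟩ := by simp
    set T : Matrix.SpecialLinearGroup (Fin n) F := Matrix.SpecialLinearGroup.transvection hij (1 : F)
    refine Finite.card_subtype_lt (x := ConjClasses.mk T) ?_
    rintro ⟨g, hg, hgN⟩
    obtain ⟨x, hx⟩ := isConj_iff.1 (ConjClasses.mk_eq_mk_iff_isConj.1 hg)
    have h5 : T ^ GLSemi.ssExp F n = 1 := by
      rw [← hx, conj_pow, hgN, mul_one, mul_inv_cancel]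
    have hpow : ∀ k : ℕ, ((T ^ k : Matrix.SpecialLinearGroup (Fin n) F) : Matrix (Fin n) (Fin n) F) =
        Matrix.transvection ⟨0, by omega⟩ ⟨1, by omega⟩ (k : F) := by
      intro k
      induction k with
      | zero => simp
      | succ k ih =>
        rw [pow_succ, Matrix.SpecialLinearGroup.coe_mul, ih, Nat.cast_succ,
          ← Matrix.transvection_mul_transvection_same _ _ hij]
        rfl
    have h6 := hpow (GLSemi.ssExp F n)
    rw [h5, GLSemi.natCast_ssExp] at h6
    have h7 := congrFun (congrFun h6 ⟨0, by omega⟩) ⟨1, by omega⟩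
    simp [Matrix.transvection, Matrix.one_apply] at h7
  · rcases eq_or_ne n 2 with rfl | h2
    · simpa using ClassBound.card_classes_SL_two_le (F := F)
    · have h := h3 (by omega)
      have hp : Fintype.card F ^ (n - 1) = Fintype.card F * Fintype.card F ^ (n - 2) := by
        rw [← pow_succ']; congr 1; omega
      rw [hp] at h ⊢
      have := Nat.mul_le_mul_right (Fintype.card F ^ (n - 2)) hq2
      nlinarith

end Cfsg.Agent.S2479
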