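import Cfsg.Statements.S2485
import Cfsg.Agent.SL2Tor.PGLSylow
import Mathlib.NumberTheory.LegendreSymbol.Basic
-- import your own Cfsg.Agent.* helpers here

set_option autoImplicit false
open scoped Pointwise
open Cfsg

namespace Cfsg.Agent.S2485

/-- Let q = 2^k − 1 ≥ 7 be a prime and let G = PGL(2,q), the general linear group of degree 2 over the field with q elements modulo its centre. Then any two Sylow 2-subgroups of G have a non-trivial intersection: for a Sylow 2-subgroup H and every x ∈ G, H ∩ H^x ≠ 1. -/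
theorem result {q k : ℕ} [Fact q.Prime] (hk : q + 1 = 2 ^ k) (hq : 7 ≤ q)
    (H : Sylow 2 (GL (Fin 2) (ZMod q) ⧸ Subgroup.center (GL (Fin 2) (ZMod q))))
    (x : GL (Fin 2) (ZMod q) ⧸ Subgroup.center (GL (Fin 2) (ZMod q))) :
    (H : Subgroup (GL (Fin 2) (ZMod q) ⧸ Subgroup.center (GL (Fin 2) (ZMod q)))) ⊓ MulAut.conj x • (H : Subgroup _) ≠ ⊥ := by
  refine Cfsg.Agent.SL2Tor.pgl_sylow_inf_ne_bot ?_ (k := k) (by simpa using hk) (by simp; omega) H x
  intro a b hab
  rcases eq_or_ne b 0 with hb | hb
  · subst hb; exact ⟨by simpa using hab, rfl⟩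
  exfalso
  have h4 : q % 4 = 3 := by
    rcases k with _ | _ | k
    · simp at hk; omega
    · simp at hk; omega
    · rw [pow_add] at hk; omega
  apply ZMod.mod_four_ne_three_of_sq_eq_neg_one (p := q) (y := a / b) ?_ h4
  field_simp
  linear_combination hab

end Cfsg.Agent.S2485
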