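import Cfsg.Statements.S2488
import Cfsg.Agent.AutA6.SylowPairs

set_option autoImplicit false
open scoped Pointwise
open Cfsg

namespace Cfsg.Agent.S2488

/-- Let G be a finite group with a normal subgroup N of index 4 isomorphic to the alternating group of degree 6 and with trivial centralizer in G (so G is the full automorphism group of A₆). Then any two Sylow 2-subgroups of G have a non-trivial intersection: for a Sylow 2-subgroup H and every x ∈ G, H ∩ H^x ≠ 1. -/
theorem result {G : Type*} [Group G] [Finite G] (N : Subgroup G) [N.Normal]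
    (e : N ≃* alternatingGroup (Fin 6)) (hidx : N.index = 4)
    (hC : Subgroup.centralizer (N : Set G) = ⊥)
    (H : Sylow 2 G) (x : G) :
    (H : Subgroup G) ⊓ MulAut.conj x • (H : Subgroup G) ≠ ⊥ := by
  haveI := Fintype.ofFinite G
  let f : G →* MulAut AutA6.A6 :=
    { toFun := fun g => (e.symm.trans (MulAut.conjNormal g)).trans e
      map_one' := by
        refine MulEquiv.ext fun a => ?_
        simp
      map_mul' := fun a b => by
        refine MulEquiv.ext fun z => ?_
        simp }
  have hf : ∀ (g : G) (a : AutA6.A6), f g a = e (MulAut.conjNormal g (e.symm a)) := fun g a => rfl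
  have hinn : ∀ a : AutA6.A6, ∃ g, f g = MulAut.conj a := by
    intro a
    refine ⟨(e.symm a : N), MulEquiv.ext fun z => ?_⟩
    rw [hf]
    have h1 : MulAut.conjNormal ((e.symm a : N) : G) (e.symm z) = e.symm (a * z * a⁻¹) := by
      refine Subtype.ext ?_
      rw [MulAut.conjNormal_apply]
      simp
    rw [h1, MulEquiv.apply_symm_apply, MulAut.conj_apply]
  have hinj : Function.Injective f := by
    rw [injective_iff_map_eq_one]
    intro g hg
    have h1 : g ∈ Subgroup.centralizer (N : Set G) := by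
      rw [Subgroup.mem_centralizer_iff]
      intro n hn
      have h2 := MulEquiv.congr_fun hg (e ⟨n, hn⟩)
      rw [hf, MulEquiv.symm_apply_apply, MulAut.one_apply, e.apply_eq_iff_eq] at h2
      have h3 := congrArg Subtype.val h2
      rw [MulAut.conjNormal_apply] at h3
      calc n * g = g * n * g⁻¹ * g := by rw [h3]
        _ = g * n := by simp
    rwa [hC, Subgroup.mem_bot] at h1
  have hcard : Nat.card G = 1440 := by
    rw [← N.card_mul_index, hidx, Nat.card_congr e.toEquiv, Nat.card_eq_fintype_card]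
    decide +kernel
  have htwo : ∃ g1 g2 : G, g1 ∉ N ∧ g2 ∉ N ∧ g1 * g2 ∉ N := by
    haveI := Fintype.ofFinite (G ⧸ N)
    have hc : Fintype.card (G ⧸ N) = 4 := by
      rw [← Nat.card_eq_fintype_card]; exact hidx
    classical
    obtain ⟨a, ha⟩ : ∃ a : G ⧸ N, a ≠ 1 := Fintype.exists_ne_of_one_lt_card (by omega) 1
    obtain ⟨b, -, hb⟩ := Finset.exists_mem_notMem_of_card_lt_card
      (s := ({1, a⁻¹} : Finset (G ⧸ N))) (t := Finset.univ)
      (by rw [Finset.card_univ, hc]; exact Finset.card_le_two.trans_lt (by norm_num))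
    simp only [Finset.mem_insert, Finset.mem_singleton, not_or] at hb
    obtain ⟨g1, rfl⟩ := QuotientGroup.mk_surjective a
    obtain ⟨g2, rfl⟩ := QuotientGroup.mk_surjective b
    refine ⟨g1, g2, fun h => ha ((QuotientGroup.eq_one_iff _).2 h),
      fun h => hb.1 ((QuotientGroup.eq_one_iff _).2 h), fun h => hb.2 ?_⟩
    rw [eq_inv_iff_mul_eq_one, ← QuotientGroup.mk_mul, QuotientGroup.eq_one_iff]
    exact (inferInstance : N.Normal).mem_comm h
  obtain ⟨g, hgN, hgK⟩ : ∃ g, g ∉ N ∧ AutA6.Keeps (f g) := by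
    obtain ⟨g1, g2, h1, h2, h12⟩ := htwo
    by_cases k1 : AutA6.Keeps (f g1)
    · exact ⟨g1, h1, k1⟩
    by_cases k2 : AutA6.Keeps (f g2)
    · exact ⟨g2, h2, k2⟩
    exact ⟨g1 * g2, h12, by rw [map_mul]; exact AutA6.keeps_mul k1 k2⟩
  obtain ⟨σ, hσ⟩ := AutA6.exists_perm_of_map_three (by norm_num) (f g) hgK
  have hinner : ∀ (τ : Equiv.Perm (Fin 6)) (hτ : τ ∈ alternatingGroup (Fin 6)),
      MulAut.conj (⟨τ, hτ⟩ : AutA6.A6) = MulAut.conjNormal τ := fun τ hτ => by
    refine MulEquiv.ext fun z => Subtype.ext ?_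
    rw [MulAut.conjNormal_apply]
    rfl
  have hodd : Equiv.Perm.sign σ = -1 := by
    refine (Int.units_eq_one_or _).resolve_left fun h => hgN ?_
    have h2 : g = ((e.symm ⟨σ, h⟩ : N) : G) := hinj (by
      rw [← hσ, ← hinner σ h]
      refine MulEquiv.ext fun z => ?_
      rw [hf]
      have h1 : MulAut.conjNormal ((e.symm ⟨σ, h⟩ : N) : G) (e.symm z) =
          e.symm (⟨σ, h⟩ * z * (⟨σ, h⟩)⁻¹) := by
        refine Subtype.ext ?_
        rw [MulAut.conjNormal_apply]
        simp
      rw [h1, MulEquiv.apply_symm_apply, MulAut.conj_apply])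
    rw [h2]
    exact SetLike.coe_mem _
  refine AutA6.inf_ne_bot hinn hcard hinj ?_ H x
  have hev : Equiv.swap (1 : Fin 6) 3 * σ⁻¹ ∈ alternatingGroup (Fin 6) := by
    rw [Equiv.Perm.mem_alternatingGroup, map_mul, map_inv, hodd, Equiv.Perm.sign_swap (by decide)]
    decide
  obtain ⟨g', hg'⟩ := hinn ⟨_, hev⟩
  refine ⟨g' * g, ?_⟩
  rw [map_mul, hg', hinner, ← hσ, ← map_mul, inv_mul_cancel_right]

end Cfsg.Agent.S2488
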