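import Cfsg.Statements.S2490
import Mathlib

set_option autoImplicit false
open Cfsg

namespace Cfsg.Agent.S2490

noncomputable section
open scoped Classical

universe u
variable {G : Type u} [Group G] [Finite G]

/-- There is an element of order `p * q`. -/
def R (G : Type*) [Group G] (p q : ℕ) : Prop := ∃ g : G, orderOf g = p * q

omit [Finite G] in
lemma R.symm' {p q : ℕ} (h : R G p q) : R G q p := by
  obtain ⟨g, hg⟩ := h; exact ⟨g, by rw [hg, mul_comm]⟩

lemma R_of_comm {x y : G} (hxy : Commute x y) {p q : ℕ} (hp : p.Prime) (hq : q.Prime)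
    (hpq : p ≠ q) (hx : p ∣ orderOf x) (hy : q ∣ orderOf y) : R G p q := by
  refine ⟨x ^ (orderOf x / p) * y ^ (orderOf y / q), ?_⟩
  have h1 := orderOf_pow_orderOf_div (x := x) (orderOf_pos x).ne' hx
  have h2 := orderOf_pow_orderOf_div (x := y) (orderOf_pos y).ne' hy
  rw [(hxy.pow_pow _ _).orderOf_mul_eq_mul_orderOf_of_coprime, h1, h2]
  rw [h1, h2]; exact (Nat.coprime_primes hp hq).2 hpq

lemma burnside_free {S X : Type*} [Group S] [Finite S] [Finite X] [MulAction S X]
    (h : ∀ g : S, g ≠ 1 → Nat.card (MulAction.fixedBy X g) = 1) :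
    Nat.card S ∣ Nat.card X - 1 := by
  cases nonempty_fintype S
  cases nonempty_fintype X
  have e := MulAction.sum_card_fixedBy_eq_card_orbits_mul_card_group S X
  rw [← Finset.add_sum_erase _ _ (Finset.mem_univ (1 : S))] at e
  have e1 : ∑ g ∈ Finset.univ.erase (1 : S), Fintype.card (MulAction.fixedBy X g)
      = Fintype.card S - 1 := by
    rw [Finset.sum_congr rfl fun g hg => (show Fintype.card (MulAction.fixedBy X g) = 1 by
      rw [← Nat.card_eq_fintype_card]; exact h g (Finset.ne_of_mem_erase hg))]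
    simp
  have e2 : Fintype.card (MulAction.fixedBy X (1 : S)) = Fintype.card X :=
    Fintype.card_congr ((Equiv.setCongr (by ext; simp)).trans (Equiv.Set.univ X))
  rw [e1, e2] at e
  rw [Nat.card_eq_fintype_card, Nat.card_eq_fintype_card]
  have hS : 0 < Fintype.card S := Fintype.card_pos
  generalize hk : Fintype.card (Quotient (MulAction.orbitRel S X)) = k at e
  rcases Nat.eq_zero_or_pos (Fintype.card X) with hX | hX
  · simp [hX]
  · refine ⟨k - 1, ?_⟩
    rw [Nat.mul_sub, mul_comm, ← e]; omega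

/-- A `q`-group normalising a `p`-group without commuting nontrivial elements acts freely. -/
lemma pair_of_normalizer (P : Subgroup G) {p q k b : ℕ} (hp : p.Prime) (hq : q.Prime)
    (hpq : p ≠ q) (hP : Nat.card P = p ^ k)
    (hQ : q ^ b ∣ Nat.card (Subgroup.normalizer (P : Set G)))
    (hd : ¬ q ^ b ∣ p ^ k - 1) : R G p q := by
  haveI := Fact.mk hp
  haveI := Fact.mk hq
  obtain ⟨Q, hQc⟩ := Sylow.exists_subgroup_card_pow_prime q hQ
  by_contra hR
  apply hd
  rw [← hP, ← hQc]
  apply burnside_free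
  intro g hg
  have hfix : MulAction.fixedBy P g = {(1 : P)} := by
    ext y
    simp only [MulAction.mem_fixedBy, Set.mem_singleton_iff]
    constructor
    · intro hy
      by_contra hy1
      apply hR
      have hc : Commute (y : G) ((g : Subgroup.normalizer (P : Set G)) : G) := by
        have := congrArg (fun z : P => (z : G)) hy
        change ((g : Subgroup.normalizer (P : Set G)) : G) * (y : G) * ((g : Subgroup.normalizer (P : Set G)) : G)⁻¹ = y at this
        exact (mul_inv_eq_iff_eq_mul.mp this).symm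
      refine R_of_comm hc hp hq hpq ?_ ?_
      · rw [Subgroup.orderOf_coe]
        have hd1 := orderOf_dvd_natCard y
        rw [hP] at hd1
        obtain ⟨i, -, hi⟩ := (Nat.dvd_prime_pow hp).1 hd1
        rw [hi]; refine dvd_pow_self p ?_
        intro h0; rw [h0, pow_zero, orderOf_eq_one_iff] at hi; exact hy1 hi
      · rw [Subgroup.orderOf_coe, Subgroup.orderOf_coe]
        have hd1 := orderOf_dvd_natCard g
        rw [hQc] at hd1
        obtain ⟨i, -, hi⟩ := (Nat.dvd_prime_pow hq).1 hd1
        rw [hi]; refine dvd_pow_self q ?_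
        intro h0; rw [h0, pow_zero, orderOf_eq_one_iff] at hi; exact hg hi
    · rintro rfl; simp
  rw [hfix]; simp

lemma card_quot_dvd_of_sup_eq_top (K H : Subgroup G) [K.Normal] (h : H ⊔ K = ⊤) :
    Nat.card (G ⧸ K) ∣ Nat.card H := by
  refine Subgroup.card_dvd_of_surjective ((QuotientGroup.mk' K).comp H.subtype) ?_
  rw [← MonoidHom.range_eq_top, MonoidHom.range_comp, Subgroup.range_subtype]
  have : (H ⊔ K).map (QuotientGroup.mk' K) = H.map (QuotientGroup.mk' K) := by
    rw [Subgroup.map_sup, QuotientGroup.map_mk'_self, sup_bot_eq]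
  rw [← this, h, ← MonoidHom.range_eq_map, MonoidHom.range_eq_top]
  exact QuotientGroup.mk'_surjective K

/-- Frattini: a prime dividing a normal subgroup is joined to a prime not dividing it. -/
lemma edge (K : Subgroup G) [K.Normal] {p q b : ℕ} (hp : p.Prime) (hq : q.Prime)
    (hqK : ¬ q ∣ Nat.card K) (hpK : p ∣ Nat.card K) (hqb : q ^ b ∣ Nat.card G)
    (hb : ∀ k, 0 < k → p ^ k ∣ Nat.card K → ¬ q ^ b ∣ p ^ k - 1) : R G p q := by
  haveI := Fact.mk hp
  let P : Sylow p K := default
  obtain ⟨k, hk⟩ := (P.isPGroup').exists_card_eq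
  have hk0 : 0 < k := by
    rcases Nat.eq_zero_or_pos k with rfl | h
    · rw [pow_zero, P.card_eq_multiplicity, Nat.pow_eq_one] at hk
      rcases hk with hk | hk
      · exact absurd hk hp.one_lt.ne'
      · rw [Nat.factorization_eq_zero_iff] at hk
        rcases hk with hk | hk | hk
        · exact absurd hp hk
        · exact absurd hpK hk
        · exact absurd hk Nat.card_pos.ne'
    · exact h
  have hkd : p ^ k ∣ Nat.card K := hk ▸ Subgroup.card_subgroup_dvd_card _
  have hpq : p ≠ q := fun e => hqK (e ▸ hpK)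
  refine pair_of_normalizer ((P : Subgroup K).map K.subtype) hp hq hpq ?_ ?_ (hb k hk0 hkd)
  · rw [Subgroup.card_subtype K]; exact hk
  · have h1 := card_quot_dvd_of_sup_eq_top K _ (Sylow.normalizer_sup_eq_top P)
    refine dvd_trans ?_ h1
    rw [Subgroup.card_eq_card_quotient_mul_card_subgroup K] at hqb
    exact (Nat.Coprime.pow_left b ((Nat.Prime.coprime_iff_not_dvd hq).2 hqK)).dvd_of_dvd_mul_right hqb

lemma element15 {H : Type*} [Group H] [Finite H] (h : Nat.card H = 495) : R H 5 3 := by
  haveI : Fact (Nat.Prime 5) := ⟨by norm_num⟩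
  let Q : Sylow 5 H := default
  have hQ : Nat.card Q = 5 := by
    rw [Q.card_eq_multiplicity, h]
    have : Nat.factorization 495 5 = 1 := by
      rw [show (495 : ℕ) = 5 ^ 1 * 99 by norm_num, Nat.factorization_mul (by norm_num) (by norm_num)]
      simp [Nat.Prime.factorization_self (show Nat.Prime 5 by norm_num),
        Nat.factorization_eq_zero_of_not_dvd (show ¬ 5 ∣ 99 by norm_num)]
    rw [this]; norm_num
  have h1 := Q.card_eq_index_normalizer
  have h2 := card_sylow_modEq_one 5 H
  have h3 : Nat.card (Sylow 5 H) ∣ 99 := by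
    have := Q.card_dvd_index
    have e := Subgroup.card_mul_index (Q : Subgroup H)
    rw [h, hQ] at e
    rwa [show (Q : Subgroup H).index = 99 by omega] at this
  have h4 := Subgroup.card_mul_index (Subgroup.normalizer ((Q : Subgroup H) : Set H))
  rw [Sylow.coe_coe] at h4
  rw [h, ← h1] at h4
  have hle : Nat.card (Sylow 5 H) ≤ 99 := Nat.le_of_dvd (by norm_num) h3
  have h5 : 9 ∣ Nat.card (Subgroup.normalizer ((Q : Subgroup H) : Set H)) := by
    rw [Sylow.coe_coe]
    have : Nat.card (Sylow 5 H) = 1 ∨ Nat.card (Sylow 5 H) = 11 := by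
      revert h2 h3; generalize Nat.card (Sylow 5 H) = n at hle
      unfold Nat.ModEq; revert n; decide
    rcases this with e | e <;> rw [e] at h4 <;> omega
  exact pair_of_normalizer (Q : Subgroup H) (p := 5) (q := 3) (k := 1) (b := 2)
    (by norm_num) (by norm_num) (by norm_num) (by rw [pow_one]; exact hQ) h5 (by norm_num)

lemma lift15 (K : Subgroup G) [K.Normal] (h : R (G ⧸ K) 5 3) : R G 5 3 := by
  obtain ⟨x, hx⟩ := h
  obtain ⟨g, rfl⟩ := QuotientGroup.mk'_surjective K x
  have : 15 ∣ orderOf g := by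
    have := orderOf_map_dvd (QuotientGroup.mk' K) g
    rwa [hx] at this
  exact ⟨g ^ (orderOf g / 15), orderOf_pow_orderOf_div (orderOf_pos g).ne' this⟩

lemma pow_dvd_7920 {p k : ℕ} (hp : 2 ≤ p) (h : p ^ k ∣ 7920) : k ≤ 12 := by
  by_contra hk; push Not at hk
  have := Nat.le_of_dvd (by norm_num) h
  have : 2 ^ 13 ≤ p ^ k := (Nat.pow_le_pow_right (by norm_num) hk).trans (Nat.pow_le_pow_left hp k)
  omega

/-- Disconnectedness, as a predicate on sets of primes. -/
def Disc (G : Type*) [Group G] (A : Set ℕ) : Prop :=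
  (∀ p q, p ∈ ({2, 3, 5, 11} : Finset ℕ) → q ∈ ({2, 3, 5, 11} : Finset ℕ) → R G p q → (p ∈ A ↔ q ∈ A)) ∧
  ¬ ((2 ∈ A ↔ 3 ∈ A) ∧ (2 ∈ A ↔ 5 ∈ A) ∧ (2 ∈ A ↔ 11 ∈ A))

variable {A : Set ℕ}

omit [Finite G] in
lemma Disc.lk (hA : Disc G A) {p q : ℕ} (h : R G p q)
    (hp : p ∈ ({2, 3, 5, 11} : Finset ℕ) := by decide)
    (hq : q ∈ ({2, 3, 5, 11} : Finset ℕ) := by decide) : (p ∈ A ↔ q ∈ A) :=
  hA.1 p q hp hq h

lemma edge' (hG : Nat.card G = 7920) (K : Subgroup G) [K.Normal] {p q : ℕ} (b : ℕ) (hp : p.Prime)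
    (hq : q.Prime) (hqK : ¬ q ∣ Nat.card K) (hpK : p ∣ Nat.card K) (hqb : q ^ b ∣ 7920)
    (hb : ∀ k < 13, 0 < k → p ^ k ∣ 7920 → ¬ q ^ b ∣ p ^ k - 1) : R G p q := by
  refine edge K hp hq hqK hpK (hG.symm ▸ hqb) fun k hk0 hk => ?_
  have h1 : p ^ k ∣ 7920 := hG ▸ hk.trans (Subgroup.card_subgroup_dvd_card K)
  exact hb k (Nat.lt_succ_of_le (pow_dvd_7920 hp.two_le h1)) hk0 h1

lemma false_of_normal (hG : Nat.card G = 7920) (hA : Disc G A) (K : Subgroup G) [K.Normal]
    (h11 : ¬ 11 ∣ Nat.card K) (hK : K ≠ ⊥) : False := by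
  have e11 : ∀ p ∈ ({2, 3, 5} : Finset ℕ), p ∣ Nat.card K → (p ∈ A ↔ 11 ∈ A) := by
    intro p hp hpK
    simp only [Finset.mem_insert, Finset.mem_singleton] at hp
    rcases hp with rfl | rfl | rfl
    all_goals
      exact hA.lk (edge' hG K 1 (by norm_num) (by norm_num) h11 hpK (by norm_num) (by decide))
  apply hA.2
  have hd : Nat.card K ∣ 7920 := hG ▸ Subgroup.card_subgroup_dvd_card K
  by_cases h5 : 5 ∣ Nat.card K
  · have a5 := e11 5 (by decide) h5
    have a2 : (2 ∈ A ↔ 5 ∈ A) := by
      by_cases h2 : 2 ∣ Nat.card K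
      · exact (e11 2 (by decide) h2).trans a5.symm
      · exact (hA.lk (edge' hG K 4 (by norm_num) (by norm_num) h2 h5 (by norm_num) (by decide))).symm
    have a3 : (3 ∈ A ↔ 5 ∈ A) := by
      by_cases h3 : 3 ∣ Nat.card K
      · exact (e11 3 (by decide) h3).trans a5.symm
      · exact (hA.lk (edge' hG K 2 (by norm_num) (by norm_num) h3 h5 (by norm_num) (by decide))).symm
    tauto
  by_cases h3 : 3 ∣ Nat.card K
  · have a3 := e11 3 (by decide) h3
    have a5 : (3 ∈ A ↔ 5 ∈ A) :=
      hA.lk (edge' hG K 1 (by norm_num) (by norm_num) h5 h3 (by norm_num) (by decide))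
    have a2 : (2 ∈ A ↔ 3 ∈ A) := by
      by_cases h2 : 2 ∣ Nat.card K
      · exact (e11 2 (by decide) h2).trans a3.symm
      · exact (hA.lk (edge' hG K 4 (by norm_num) (by norm_num) h2 h3 (by norm_num) (by decide))).symm
    tauto
  have h16 : Nat.card K ∣ 16 := by
    have c3 : (Nat.card K).Coprime 3 := ((Nat.Prime.coprime_iff_not_dvd (by norm_num)).2 h3).symm
    have c5 : (Nat.card K).Coprime 5 := ((Nat.Prime.coprime_iff_not_dvd (by norm_num)).2 h5).symm
    have c11 : (Nat.card K).Coprime 11 := ((Nat.Prime.coprime_iff_not_dvd (by norm_num)).2 h11).symm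
    exact ((c3.pow_right 2).mul_right (c5.mul_right c11)).dvd_of_dvd_mul_right
      (show Nat.card K ∣ 16 * (3 ^ 2 * (5 * 11)) by norm_num; exact hd)
  have h2 : 2 ∣ Nat.card K := by
    have : Nat.card K ≠ 1 := fun e => hK (Subgroup.eq_bot_of_card_eq K e)
    revert this h16; generalize Nat.card K = n
    intro h16 hn
    obtain ⟨i, -, rfl⟩ := (Nat.dvd_prime_pow Nat.prime_two).1 (show n ∣ 2 ^ 4 by simpa using h16)
    exact dvd_pow_self 2 fun h0 => hn (by simp [h0])
  have a11 := e11 2 (by decide) h2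
  have a3 : (2 ∈ A ↔ 3 ∈ A) :=
    hA.lk (edge' hG K 2 (by norm_num) (by norm_num) h3 h2 (by norm_num) (by decide))
  refine ⟨a3, ?_, a11⟩
  by_cases hc : Nat.card K = 16
  · have : Nat.card (G ⧸ K) = 495 := by
      have := Subgroup.card_eq_card_quotient_mul_card_subgroup K
      rw [hG, hc] at this; omega
    exact a3.trans (hA.lk (lift15 K (element15 this))).symm
  · refine hA.lk (edge (b := 1) K (by norm_num) (by norm_num) h5 h2 (by rw [hG]; norm_num) ?_)
    intro k hk0 hk
    have h4 : k ≤ 4 := Nat.pow_dvd_pow_iff_le_right (by norm_num : 1 < 2) |>.1 (hk.trans (by simpa using h16))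
    interval_cases k <;> norm_num
    exact hc (Nat.dvd_antisymm h16 (by simpa using hk))

end
noncomputable section
open scoped Classical
variable {G : Type*} [Group G] [Finite G] {A : Set ℕ}

lemma centralizer_bound (P : Subgroup G) (hP : Nat.card P = 11) :
    Nat.card (Subgroup.normalizer (P : Set G)) ∣
      Nat.card (Subgroup.centralizer (P : Set G)) * 10 := by
  haveI : Fact (Nat.Prime 11) := ⟨by norm_num⟩
  haveI : IsCyclic P := isCyclic_of_prime_card hP
  rw [Subgroup.card_eq_card_quotient_mul_card_subgroup P.normalizerMonoidHom.ker, mul_comm]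
  refine mul_dvd_mul ?_ ?_
  · rw [Subgroup.normalizerMonoidHom_ker,
      Nat.card_congr (Subgroup.subgroupOfEquivOfLe (Subgroup.centralizer_le_normalizer _)).toEquiv]
  · rw [Nat.card_congr (QuotientGroup.quotientKerEquivRange P.normalizerMonoidHom).toEquiv]
    refine (Subgroup.card_subgroup_dvd_card _).trans ?_
    rw [IsCyclic.card_mulAut, hP]
    decide

lemma false_of_normal_sylow (hG : Nat.card G = 7920) (hA : Disc G A) (P : Subgroup G) [P.Normal]
    (hP : Nat.card P = 11) : False := by
  apply hA.2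
  have a2 : (11 ∈ A ↔ 2 ∈ A) := hA.lk (edge' hG P 4 (by norm_num) (by norm_num)
    (by rw [hP]; norm_num) (by rw [hP]) (by norm_num) (by decide))
  have a3 : (11 ∈ A ↔ 3 ∈ A) := hA.lk (edge' hG P 2 (by norm_num) (by norm_num)
    (by rw [hP]; norm_num) (by rw [hP]) (by norm_num) (by decide))
  have a5 : (5 ∈ A ↔ 11 ∈ A) ∨ (3 ∈ A ↔ 5 ∈ A) := by
    have hb := centralizer_bound P hP
    rw [Subgroup.normalizer_eq_top, Subgroup.card_top, hG] at hb
    by_cases h5 : 5 ∣ Nat.card (Subgroup.centralizer (P : Set G))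
    · left
      haveI : Fact (Nat.Prime 5) := ⟨by norm_num⟩
      haveI : Fact (Nat.Prime 11) := ⟨by norm_num⟩
      obtain ⟨x, hx⟩ := exists_prime_orderOf_dvd_card' 5 h5
      obtain ⟨y, hy⟩ := exists_prime_orderOf_dvd_card' (G := P) 11 (by rw [hP])
      have hc : Commute (x : G) (y : G) := (Subgroup.mem_centralizer_iff.1 x.2 y y.2).symm
      exact hA.lk (R_of_comm hc (by norm_num) (by norm_num) (by norm_num)
        (by rw [Subgroup.orderOf_coe, hx]) (by rw [Subgroup.orderOf_coe, hy]))
    · right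
      exact hA.lk (edge' hG (Subgroup.centralizer (P : Set G)) 1 (by norm_num) (by norm_num) h5
        (by omega) (by norm_num) (by decide))
  tauto

variable [hF : Fact (Nat.Prime 11)]

lemma card_syl (hG : Nat.card G = 7920) (P : Sylow 11 G) : Nat.card P = 11 := by
  rw [P.card_eq_multiplicity, hG]
  have : Nat.factorization 7920 11 = 1 := by
    rw [show (7920 : ℕ) = 11 * 720 by norm_num, Nat.factorization_mul (by norm_num) (by norm_num)]
    simp [Nat.Prime.factorization_self (show Nat.Prime 11 by norm_num),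
      Nat.factorization_eq_zero_of_not_dvd (show ¬ 11 ∣ 720 by norm_num)]
  rw [this]; norm_num

lemma syl_cases (hG : Nat.card G = 7920) :
    Nat.card (Sylow 11 G) = 1 ∨ Nat.card (Sylow 11 G) = 12 ∨ Nat.card (Sylow 11 G) = 45 ∨
      Nat.card (Sylow 11 G) = 144 := by
  let P : Sylow 11 G := default
  have h2 := card_sylow_modEq_one 11 G
  have h3 : Nat.card (Sylow 11 G) ∣ 720 := by
    have := P.card_dvd_index
    have e := Subgroup.card_mul_index (P : Subgroup G)
    rw [hG, card_syl hG P] at e
    rwa [show (P : Subgroup G).index = 720 by omega] at this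
  have hm : Nat.card (Sylow 11 G) ∈ Nat.divisors 720 := Nat.mem_divisors.2 ⟨h3, by norm_num⟩
  have key : ∀ n ∈ Nat.divisors 720, n % 11 = 1 → n = 1 ∨ n = 12 ∨ n = 45 ∨ n = 144 := by
    decide +kernel
  exact key _ hm h2

lemma card_norm (hG : Nat.card G = 7920) (P : Sylow 11 G) :
    Nat.card (Subgroup.normalizer ((P : Subgroup G) : Set G)) * Nat.card (Sylow 11 G) = 7920 := by
  rw [P.card_eq_index_normalizer, ← hG]
  exact Subgroup.card_mul_index _

lemma faithful (hG : Nat.card G = 7920) (hA : Disc G A) (h1 : Nat.card (Sylow 11 G) ≠ 1)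
    {g : G} (hg : ∀ Q : Sylow 11 G, g • Q = Q) : g = 1 := by
  let K := (MulAction.toPermHom G (Sylow 11 G)).ker
  have hgK : g ∈ K := MonoidHom.mem_ker.2 (Equiv.ext hg)
  by_contra hne
  by_cases h11 : 11 ∣ Nat.card K
  · apply h1
    obtain ⟨x, hx⟩ := exists_prime_orderOf_dvd_card' 11 h11
    have hxo : orderOf (x : G) = 11 := by rw [Subgroup.orderOf_coe, hx]
    have hX : IsPGroup 11 (Subgroup.zpowers (x : G)) :=
      IsPGroup.of_card (n := 1) (by rw [Nat.card_zpowers, hxo, pow_one])
    have key : ∀ Q : Sylow 11 G, (Q : Subgroup G) = Subgroup.zpowers (x : G) := by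
      intro Q
      have hxn : (x : G) ∈ Subgroup.normalizer ((Q : Subgroup G) : Set G) := by
        have := DFunLike.congr_fun (MonoidHom.mem_ker.1 x.2) Q
        exact Sylow.smul_eq_iff_mem_normalizer.1 this
      symm
      refine Subgroup.eq_of_le_of_card_ge
        (((inf_eq_left.2 (Subgroup.zpowers_le.2 hxn)).symm.trans (hX.inf_normalizer_sylow Q)).le.trans
          inf_le_right) ?_
      rw [card_syl hG Q, Nat.card_zpowers, hxo]
    have : Subsingleton (Sylow 11 G) := ⟨fun P Q => Sylow.ext ((key P).trans (key Q).symm)⟩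
    exact Nat.card_of_subsingleton default
  · exact false_of_normal hG hA K h11 fun hb => hne (by rwa [hb, Subgroup.mem_bot] at hgK)

lemma fixed_cong (hG : Nat.card G = 7920) (P : Sylow 11 G) (t : G)
    (ht : t ∈ Subgroup.centralizer ((P : Subgroup G) : Set G)) :
    Nat.card (MulAction.fixedBy (Sylow 11 G) t) ≡ 1 [MOD 11] := by
  letI : SMul P (MulAction.fixedBy (Sylow 11 G) t) := ⟨fun r Q => ⟨(r : G) • (Q : Sylow 11 G), by
    have hc : t * (r : G) = (r : G) * t := (Subgroup.mem_centralizer_iff.1 ht r r.2).symm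
    rw [MulAction.mem_fixedBy, smul_smul, hc, mul_smul, MulAction.mem_fixedBy.1 Q.2]⟩⟩
  letI : MulAction P (MulAction.fixedBy (Sylow 11 G) t) :=
    { one_smul := fun Q => Subtype.ext (one_smul G (Q : Sylow 11 G))
      mul_smul := fun a b Q => Subtype.ext (mul_smul (a : G) (b : G) (Q : Sylow 11 G)) }
  have h := (P.isPGroup').card_modEq_card_fixedPoints (MulAction.fixedBy (Sylow 11 G) t)
  have hPP : P ∈ MulAction.fixedBy (Sylow 11 G) t :=
    Sylow.smul_eq_iff_mem_normalizer.2 (Subgroup.centralizer_le_normalizer _ ht)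
  have : MulAction.fixedPoints P (MulAction.fixedBy (Sylow 11 G) t) = {⟨P, hPP⟩} := by
    ext Q
    simp only [MulAction.mem_fixedPoints, Set.mem_singleton_iff]
    constructor
    · intro hQ
      have hle : (P : Subgroup G) ≤ Subgroup.normalizer ((Q.1 : Subgroup G) : Set G) := fun r hr =>
        Sylow.smul_eq_iff_mem_normalizer.1 (congrArg Subtype.val (hQ ⟨r, hr⟩))
      apply Subtype.ext; apply Sylow.ext
      symm
      refine Subgroup.eq_of_le_of_card_ge
        (((inf_eq_left.2 hle).symm.trans (P.isPGroup'.inf_normalizer_sylow Q.1)).le.trans inf_le_right) ?_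
      rw [card_syl hG Q.1, card_syl hG P]
    · rintro rfl r
      exact Subtype.ext (Sylow.smul_eq_iff_mem_normalizer.2 (Subgroup.le_normalizer r.2))
  rw [this] at h
  simpa using h

lemma fixed_parity (t : G) (ht : t ^ 2 = 1) :
    Nat.card (Sylow 11 G) ≡ Nat.card (MulAction.fixedBy (Sylow 11 G) t) [MOD 2] := by
  haveI : Fact (Nat.Prime 2) := ⟨Nat.prime_two⟩
  have hp : IsPGroup 2 (Subgroup.zpowers t) := by
    rintro ⟨x, k, rfl⟩
    refine ⟨1, Subtype.ext ?_⟩
    change (t ^ k) ^ (2 ^ 1) = 1
    rw [pow_one, ← zpow_natCast, ← zpow_mul, mul_comm, zpow_mul, zpow_natCast, ht, one_zpow]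
  have h := hp.card_modEq_card_fixedPoints (Sylow 11 G)
  have e : MulAction.fixedPoints (Subgroup.zpowers t) (Sylow 11 G)
      = MulAction.fixedBy (Sylow 11 G) t := by
    ext Q
    simp only [MulAction.mem_fixedPoints, MulAction.mem_fixedBy]
    refine ⟨fun h => h ⟨t, Subgroup.mem_zpowers t⟩, fun h x => ?_⟩
    have : Subgroup.zpowers t ≤ MulAction.stabilizer G Q := Subgroup.zpowers_le.2 h
    exact this x.2
  rwa [e] at h

lemma fixed_lt (hG : Nat.card G = 7920) (hA : Disc G A) (h1 : Nat.card (Sylow 11 G) ≠ 1)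
    {t : G} (ht : t ≠ 1) :
    Nat.card (MulAction.fixedBy (Sylow 11 G) t) < Nat.card (Sylow 11 G) := by
  refine lt_of_le_of_ne (Nat.card_le_card_of_injective Subtype.val Subtype.val_injective) fun e => ht ?_
  apply faithful hG hA h1
  intro Q
  have : MulAction.fixedBy (Sylow 11 G) t = Set.univ := by
    apply Set.eq_of_subset_of_ncard_le (Set.subset_univ _)
    rw [Set.ncard_univ, ← Nat.card_coe_set_eq, e]
  exact MulAction.mem_fixedBy.1 (this ▸ Set.mem_univ Q)

lemma false_12 (hG : Nat.card G = 7920) (hA : Disc G A) (hn : Nat.card (Sylow 11 G) = 12) :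
    False := by
  haveI : Fact (Nat.Prime 2) := ⟨Nat.prime_two⟩
  let P : Sylow 11 G := default
  have hb := centralizer_bound (P : Subgroup G) (card_syl hG P)
  have hN := card_norm hG P
  rw [hn] at hN
  have hN' : Nat.card (Subgroup.normalizer ((P : Subgroup G) : Set G)) = 660 := by omega
  rw [hN'] at hb
  have h2 : 2 ∣ Nat.card (Subgroup.centralizer ((P : Subgroup G) : Set G)) := by omega
  obtain ⟨t, ht⟩ := exists_prime_orderOf_dvd_card' 2 h2
  have hto : orderOf (t : G) = 2 := by rw [Subgroup.orderOf_coe, ht]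
  have c1 := fixed_cong hG P t t.2
  have c2 := fixed_parity (t : G) (hto ▸ pow_orderOf_eq_one _)
  have c3 := fixed_lt hG hA (by omega) (t := (t : G)) (by intro e; simp [e] at hto)
  unfold Nat.ModEq at c1 c2
  omega

lemma inverting (hG : Nat.card G = 7920) (Q : Sylow 11 G) {s : G} (hs : s ^ 2 = 1)
    (hn : s • Q = Q) (hc : s ∉ Subgroup.centralizer ((Q : Subgroup G) : Set G)) :
    Nat.card (MulAction.fixedBy (Sylow 11 G) s) * 11 ≤ Nat.card (Sylow 11 G) + 10 := by
  have hQc := card_syl hG Q
  haveI : IsCyclic Q := isCyclic_of_prime_card hQc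
  letI : CommGroup Q := IsCyclic.commGroup
  have hsN := Sylow.smul_eq_iff_mem_normalizer.1 hn
  have hsi : s⁻¹ = s := inv_eq_of_mul_eq_one_right (by rwa [pow_two] at hs)
  have gen : ∀ r : G, r ∈ (Q : Subgroup G) → r ≠ 1 → Subgroup.zpowers r = (Q : Subgroup G) := by
    intro r hr hr1
    refine Subgroup.eq_of_le_of_card_ge (Subgroup.zpowers_le.2 hr) ?_
    rw [hQc, Nat.card_zpowers]
    have h := orderOf_dvd_natCard (⟨r, hr⟩ : (Q : Subgroup G))
    rw [hQc, Subgroup.orderOf_mk] at h
    rcases (Nat.dvd_prime (by norm_num)).1 h with h | h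
    · exact absurd (orderOf_eq_one_iff.1 h) hr1
    · omega
  have nofix : ∀ r : G, r ∈ (Q : Subgroup G) → s * r = r * s → r = 1 := by
    intro r hr he
    by_contra hr1
    apply hc
    rw [← gen r hr hr1, Subgroup.mem_centralizer_iff]
    rintro x ⟨k, rfl⟩
    exact ((Commute.zpow_right (show Commute s r from he) k).eq).symm
  have comm : ∀ a ∈ (Q : Subgroup G), ∀ b ∈ (Q : Subgroup G), a * b = b * a := fun a ha b hb =>
    congrArg Subtype.val (mul_comm (⟨a, ha⟩ : (Q : Subgroup G)) ⟨b, hb⟩)
  have inv : ∀ r : G, r ∈ (Q : Subgroup G) → s * r = r⁻¹ * s := by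
    intro r hr
    have hr' : s * r * s ∈ (Q : Subgroup G) := by
      have := (Subgroup.mem_normalizer_iff.1 hsN r).1 hr
      rwa [hsi] at this
    have hu : r * (s * r * s) = 1 := by
      apply nofix _ (mul_mem hr hr')
      have hss : s * s = 1 := by rw [← pow_two]; exact hs
      calc s * (r * (s * r * s)) = (s * r * s) * r * s := by group
        _ = (r * (s * r * s)) * s := by rw [comm _ hr' _ hr]
    have hss : s * s = 1 := by rw [← pow_two]; exact hs
    calc s * r = s * r * (s * s) := by rw [hss, mul_one]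
      _ = r⁻¹ * (r * (s * r * s)) * s := by group
      _ = r⁻¹ * s := by rw [hu, mul_one]
  let F := {R : Sylow 11 G // s • R = R ∧ R ≠ Q}
  let T := {R : Sylow 11 G // R ≠ Q}
  let f : F × Q → T := fun p => ⟨(p.2 : G) • p.1.1, fun e => p.1.2.2 (by
    have h2 : (p.2 : G)⁻¹ • Q = Q := Sylow.smul_eq_iff_mem_normalizer.2 (inv_mem (Subgroup.le_normalizer p.2.2))
    calc (p.1.1 : Sylow 11 G) = (p.2 : G)⁻¹ • ((p.2 : G) • p.1.1) := (inv_smul_smul _ _).symm
      _ = (p.2 : G)⁻¹ • Q := congrArg _ e
      _ = Q := h2)⟩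
  have hinj : Function.Injective f := by
    rintro ⟨⟨R, hR, hRQ⟩, r⟩ ⟨⟨R', hR', hR'Q⟩, r'⟩ h
    replace h : (r : G) • R = (r' : G) • R' := congrArg Subtype.val h
    set u : G := (r' : G)⁻¹ * r with hu
    have huQ : u ∈ (Q : Subgroup G) := mul_mem (inv_mem r'.2) r.2
    have huR : u • R = R' := by rw [hu, mul_smul, h, inv_smul_smul]
    have h2 : u⁻¹ • R = R' := by
      have := congrArg (s • ·) huR
      simp only [hR'] at this
      rwa [smul_smul, inv u huQ, mul_smul, hR] at this
    have h3 : (u * u) • R = R := by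
      rw [mul_smul, huR, ← h2, smul_inv_smul]
    have h4 : u * u = 1 := by
      by_contra hne
      apply hRQ
      have hle : (Q : Subgroup G) ≤ Subgroup.normalizer ((R : Subgroup G) : Set G) := by
        rw [← gen _ (mul_mem huQ huQ) hne]
        exact Subgroup.zpowers_le.2 (Sylow.smul_eq_iff_mem_normalizer.1 h3)
      apply Sylow.ext
      symm
      refine Subgroup.eq_of_le_of_card_ge
        (((inf_eq_left.2 hle).symm.trans (Q.isPGroup'.inf_normalizer_sylow R)).le.trans inf_le_right) ?_
      rw [card_syl hG R, hQc]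
    have hu1 : u = 1 := by
      have h11 : u ^ 11 = 1 := by
        have := pow_card_eq_one' (x := (⟨u, huQ⟩ : (Q : Subgroup G)))
        rw [hQc] at this
        exact congrArg Subtype.val this
      simpa using (pow_gcd_eq_one (a := u) (m := 2) (n := 11)).2 ⟨by rw [pow_two]; exact h4, h11⟩
    have hr : r = r' := Subtype.ext (inv_mul_eq_one.1 (hu ▸ hu1)).symm
    subst hr
    rw [hu1, one_smul] at huR
    subst huR
    rfl
  have hle := Nat.card_le_card_of_injective f hinj
  rw [Nat.card_prod, hQc] at hle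
  have hT : Nat.card T + 1 = Nat.card (Sylow 11 G) := by
    have h : ({Q}ᶜ : Set (Sylow 11 G)).ncard + ({Q} : Set (Sylow 11 G)).ncard = Nat.card (Sylow 11 G) := by
      rw [add_comm]; exact Set.ncard_add_ncard_compl _
    rw [Set.ncard_singleton] at h
    rw [← h, ← Nat.card_coe_set_eq]; rfl
  have hF : Nat.card F + 1 = Nat.card (MulAction.fixedBy (Sylow 11 G) s) := by
    rw [Nat.card_coe_set_eq]
    have : Nat.card F = ((MulAction.fixedBy (Sylow 11 G) s) \ {Q}).ncard := by
      rw [← Nat.card_coe_set_eq]; rfl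
    rw [this, Set.ncard_sdiff_singleton_add_one (show Q ∈ MulAction.fixedBy (Sylow 11 G) s from hn)]
  omega

lemma false_45 (hG : Nat.card G = 7920) (hA : Disc G A) (hn : Nat.card (Sylow 11 G) = 45) :
    False := by
  haveI : Fact (Nat.Prime 2) := ⟨Nat.prime_two⟩
  cases nonempty_fintype G
  let X : Finset G := Finset.univ.filter fun s =>
    orderOf s = 2 ∧ Nat.card (MulAction.fixedBy (Sylow 11 G) s) = 23
  cases nonempty_fintype (Sylow 11 G)
  let k : Sylow 11 G → ℕ := fun Q => (X.filter fun s => s • Q = Q).card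
  have hsum : 23 * X.card = ∑ Q, k Q := by
    have := Finset.sum_card_bipartiteAbove_eq_sum_card_bipartiteBelow
      (fun (s : G) (Q : Sylow 11 G) => s • Q = Q) (s := X) (t := Finset.univ)
    simp only [Finset.bipartiteAbove, Finset.bipartiteBelow] at this
    change _ = ∑ Q, k Q at this
    rw [← this, Finset.sum_congr rfl fun s hs => (show _ = 23 by
      rw [← (Finset.mem_filter.1 hs).2.2, Nat.card_eq_fintype_card]
      symm
      exact Fintype.card_subtype _), Finset.sum_const, smul_eq_mul, mul_comm]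
  let P : Sylow 11 G := default
  have hconst : ∀ Q, k Q = k P := by
    intro Q
    obtain ⟨g, rfl⟩ := MulAction.exists_smul_eq G P Q
    refine Finset.card_bij (fun s _ => g⁻¹ * s * g) ?_ ?_ ?_
    · intro s hs
      simp only [X, Finset.mem_filter, Finset.mem_univ, true_and] at hs ⊢
      refine ⟨⟨?_, ?_⟩, ?_⟩
      · rw [← hs.1.1]
        exact (MulAut.conj g⁻¹).orderOf_eq s ▸ by simp [MulAut.conj_apply]
      · rw [← hs.1.2]
        refine Nat.card_congr ((MulAction.toPerm g).subtypeEquiv fun R => ?_)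
        simp only [MulAction.mem_fixedBy, MulAction.toPerm_apply]
        constructor
        · intro h; conv_rhs => rw [← h]
          simp [smul_smul, mul_assoc]
        · intro h; rw [mul_smul, mul_smul, h, inv_smul_smul]
      · rw [mul_smul, mul_smul, hs.2, inv_smul_smul]
    · intro a _ b _ h; simpa using h
    · intro s hs
      simp only [X, Finset.mem_filter, Finset.mem_univ, true_and] at hs ⊢
      refine ⟨g * s * g⁻¹, ⟨⟨?_, ?_⟩, ?_⟩, by group⟩
      · rw [← hs.1.1]
        exact (MulAut.conj g).orderOf_eq s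
      · rw [← hs.1.2]
        refine Nat.card_congr ((MulAction.toPerm g⁻¹).subtypeEquiv fun R => ?_)
        simp only [MulAction.mem_fixedBy, MulAction.toPerm_apply]
        constructor
        · intro h; conv_rhs => rw [← h]
          simp [smul_smul, mul_assoc]
        · intro h; rw [mul_smul, mul_smul, h, smul_inv_smul]
      · rw [mul_smul, mul_smul, inv_smul_smul, hs.2]
  rw [Finset.sum_congr rfl fun Q _ => hconst Q, Finset.sum_const, Finset.card_univ,
    ← Nat.card_eq_fintype_card, hn, smul_eq_mul] at hsum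
  have hN := card_norm hG P
  rw [hn] at hN
  have hb := centralizer_bound (P : Subgroup G) (card_syl hG P)
  have hN' : Nat.card (Subgroup.normalizer ((P : Subgroup G) : Set G)) = 176 := by omega
  rw [hN'] at hb
  have hCN : Nat.card (Subgroup.centralizer ((P : Subgroup G) : Set G)) ∣
      Nat.card (Subgroup.normalizer ((P : Subgroup G) : Set G)) :=
    Subgroup.card_dvd_of_le (Subgroup.centralizer_le_normalizer _)
  -- some element of `k P`
  have hpos : 1 ≤ k P := by
    obtain ⟨S, hS⟩ := Sylow.exists_subgroup_card_pow_prime 2 (n := 3)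
      (G := Subgroup.centralizer ((P : Subgroup G) : Set G)) (by rw [show (2 : ℕ) ^ 3 = 8 from rfl]; omega)
    by_contra hk
    have : ∀ t : S, t ≠ 1 → Nat.card (MulAction.fixedBy (Sylow 11 G) t) = 1 := by
      intro t ht
      have hd := orderOf_dvd_natCard t
      rw [hS] at hd
      obtain ⟨i, -, hi⟩ := (Nat.dvd_prime_pow Nat.prime_two).1 hd
      have hi0 : i ≠ 0 := fun h0 => ht (by rwa [h0, pow_zero, orderOf_eq_one_iff] at hi)
      set u : S := t ^ (orderOf t / 2) with hu
      have huo : orderOf u = 2 := orderOf_pow_orderOf_div (orderOf_pos t).ne'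
        (hi ▸ dvd_pow_self 2 hi0)
      let v : G := ((u : Subgroup.centralizer ((P : Subgroup G) : Set G)) : G)
      let w : G := ((t : Subgroup.centralizer ((P : Subgroup G) : Set G)) : G)
      have hvo : orderOf v = 2 := by simp only [v, Subgroup.orderOf_coe, huo]
      have c1 := fixed_cong hG P v u.1.2
      have c2 := fixed_parity v (hvo ▸ pow_orderOf_eq_one _)
      have c3 := fixed_lt hG hA (by omega) (t := v) (by intro e; simp [e] at hvo)
      have cw := fixed_cong hG P w t.1.2
      have hv1 : Nat.card (MulAction.fixedBy (Sylow 11 G) v) = 1 := by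
        rcases Nat.lt_or_ge (Nat.card (MulAction.fixedBy (Sylow 11 G) v)) 2 with h | h
        · unfold Nat.ModEq at c1; omega
        · exfalso
          apply hk
          refine Finset.card_pos.2 ⟨v, ?_⟩
          simp only [X, Finset.mem_filter, Finset.mem_univ, true_and]
          refine ⟨⟨hvo, ?_⟩, Sylow.smul_eq_iff_mem_normalizer.2 (Subgroup.centralizer_le_normalizer _ u.1.2)⟩
          unfold Nat.ModEq at c1 c2; omega
      have hwv : v = w ^ (orderOf t / 2) := by simp [v, w, hu]
      have hle : Nat.card (MulAction.fixedBy (Sylow 11 G) w) ≤ 1 := by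
        rw [← hv1]
        refine Nat.card_mono (Set.toFinite _) ?_
        rw [hwv]
        intro R hR
        have := MulAction.fixedBy_subset_fixedBy_zpow (Sylow 11 G) w ((orderOf t / 2 : ℕ) : ℤ) hR
        rw [zpow_natCast] at this
        exact this
      change Nat.card (MulAction.fixedBy (Sylow 11 G) w) = 1
      unfold Nat.ModEq at cw; omega
    have h8 := burnside_free this
    rw [hS, hn] at h8
    norm_num at h8
  have hle : k P ≤ 16 := by
    let C := Subgroup.centralizer ((P : Subgroup G) : Set G)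
    have hsub : ∀ s ∈ X.filter (fun s => s • P = P), s ∈ C := by
      intro s hs
      simp only [X, Finset.mem_filter, Finset.mem_univ, true_and] at hs
      by_contra hc
      have := inverting hG P (hs.1.1 ▸ pow_orderOf_eq_one _) hs.2 hc
      omega
    let K := (P : Subgroup G).subgroupOf C
    haveI : IsCyclic P := isCyclic_of_prime_card (card_syl hG P)
    letI : CommGroup P := IsCyclic.commGroup
    have hPC : (P : Subgroup G) ≤ C := fun x hx => Subgroup.mem_centralizer_iff.2 fun y hy =>
      congrArg Subtype.val (mul_comm (⟨y, hy⟩ : (P : Subgroup G)) ⟨x, hx⟩)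
    let f : {s // s ∈ X.filter (fun s => s • P = P)} → C ⧸ K :=
      fun s => QuotientGroup.mk ⟨s.1, hsub _ s.2⟩
    have hf : Function.Injective f := by
      rintro ⟨a, ha⟩ ⟨b, hb⟩ h
      have h1 : a⁻¹ * b ∈ (P : Subgroup G) := by simpa [f, K, QuotientGroup.eq, Subgroup.mem_subgroupOf] using h
      have haC := hsub a ha
      have ha2 : a ^ 2 = 1 := (Finset.mem_filter.1 (Finset.mem_filter.1 ha).1).2.1 ▸ pow_orderOf_eq_one _
      have hb2 : b ^ 2 = 1 := (Finset.mem_filter.1 (Finset.mem_filter.1 hb).1).2.1 ▸ pow_orderOf_eq_one _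
      set q := a⁻¹ * b with hq
      have hbq : b = a * q := by rw [hq]; group
      have hc : Commute a q := (Subgroup.mem_centralizer_iff.1 haC q h1).symm
      have hq2 : q ^ 2 = 1 := by
        rw [hbq, hc.mul_pow, ha2, one_mul] at hb2; exact hb2
      have h11 : q ^ 11 = 1 := by
        have := pow_card_eq_one' (x := (⟨q, h1⟩ : (P : Subgroup G)))
        rw [card_syl hG P] at this
        exact congrArg Subtype.val this
      have : q = 1 := by
        simpa using (pow_gcd_eq_one (a := q) (m := 2) (n := 11)).2 ⟨hq2, h11⟩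
      exact Subtype.ext (show a = b from (hbq.trans (by rw [this, mul_one])).symm)
    have h := Nat.card_le_card_of_injective f hf
    have hCK := Subgroup.card_eq_card_quotient_mul_card_subgroup K
    have hK : Nat.card K = 11 :=
      (Nat.card_congr (Subgroup.subgroupOfEquivOfLe hPC).toEquiv).trans (card_syl hG P)
    rw [hK] at hCK
    have hk : k P ≤ Nat.card (C ⧸ K) := by rw [Nat.card_eq_finsetCard] at h; exact h
    have := Nat.le_of_dvd (by omega) hCN
    change Nat.card C ≤ _ at this
    omega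
  omega

lemma false_144 (hG : Nat.card G = 7920) (hA : Disc G A) (hn : Nat.card (Sylow 11 G) = 144)
    (N : Subgroup G) [N.Normal] (h11 : 11 ∣ Nat.card N) (htop : N ≠ ⊤) : False := by
  let P₀ : Sylow 11 N := default
  let P' := (P₀ : Subgroup N).map N.subtype
  have hP₀ : Nat.card P₀ = 11 := by
    have h1 : Nat.card P₀ ∣ 7920 :=
      hG ▸ (Subgroup.card_subgroup_dvd_card (P₀ : Subgroup N)).trans (Subgroup.card_subgroup_dvd_card N)
    have h2 := Sylow.dvd_card_of_dvd_card P₀ h11
    obtain ⟨i, hi⟩ := P₀.isPGroup'.exists_card_eq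
    rw [hi] at h1 h2 ⊢
    rcases i with _ | _ | i
    · norm_num at h2
    · norm_num
    · have := (pow_dvd_pow 11 (show 2 ≤ i + 2 by omega)).trans h1
      norm_num at this
  have hP' : Nat.card P' = 11 := (Subgroup.card_subtype N _).trans hP₀
  let P : Sylow 11 G := default
  have hN55 : Nat.card (Subgroup.normalizer (P' : Set G)) = 55 := by
    obtain ⟨Q, hQ⟩ := (IsPGroup.of_card (n := 1) (by rw [hP', pow_one]) : IsPGroup 11 P').exists_le_sylow
    have e : P' = (Q : Subgroup G) := Subgroup.eq_of_le_of_card_ge hQ (by rw [card_syl hG Q, hP'])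
    have := card_norm hG Q
    rw [hn, ← e] at this
    omega
  have h1 := card_quot_dvd_of_sup_eq_top N _ (Sylow.normalizer_sup_eq_top P₀)
  change Nat.card (G ⧸ N) ∣ Nat.card (Subgroup.normalizer (P' : Set G)) at h1
  rw [hN55] at h1
  have h2 := Subgroup.card_eq_card_quotient_mul_card_subgroup N
  rw [hG] at h2
  have hne : Nat.card (G ⧸ N) ≠ 1 := fun e => htop (Subgroup.eq_top_of_card_eq N (by rw [hG, h2, e, one_mul]))
  have hcard : Nat.card N = 1584 := by
    obtain ⟨c, hc⟩ := h11
    rw [hc] at h2 ⊢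
    have hm : Nat.card (G ⧸ N) ∈ Nat.divisors 55 := Nat.mem_divisors.2 ⟨h1, by norm_num⟩
    rw [show Nat.divisors 55 = {1, 5, 11, 55} by decide] at hm
    simp only [Finset.mem_insert, Finset.mem_singleton] at hm
    rcases hm with e | e | e | e <;> rw [e] at h2 hne <;> omega
  have hsmall : Nat.card (Subgroup.normalizer ((P₀ : Subgroup N) : Set N)) ∣ 11 := by
    have h3 : Nat.card (Subgroup.normalizer ((P₀ : Subgroup N) : Set N)) ∣ 55 := by
      rw [← hN55, ← Subgroup.card_subtype N]
      exact Subgroup.card_dvd_of_le (Subgroup.le_normalizer_map _)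
    have h4 : Nat.card (Subgroup.normalizer ((P₀ : Subgroup N) : Set N)) ∣ 1584 :=
      hcard ▸ Subgroup.card_subgroup_dvd_card _
    have := Nat.dvd_gcd h3 h4
    norm_num at this
    exact this
  have hNP : Subgroup.normalizer ((P₀ : Subgroup N) : Set N) = (P₀ : Subgroup N) :=
    (Subgroup.eq_of_le_of_card_ge Subgroup.le_normalizer
      (by rw [hP₀]; exact Nat.le_of_dvd (by norm_num) hsmall)).symm
  haveI : IsCyclic P₀ := isCyclic_of_prime_card hP₀
  letI : CommGroup P₀ := IsCyclic.commGroup
  have hle : Subgroup.normalizer ((P₀ : Subgroup N) : Set N) ≤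
      Subgroup.centralizer ((P₀ : Subgroup N) : Set N) := by
    rw [hNP]
    exact fun x hx => Subgroup.mem_centralizer_iff.2 fun y hy =>
      congrArg Subtype.val (mul_comm (⟨y, hy⟩ : (P₀ : Subgroup N)) ⟨x, hx⟩)
  set K := (MonoidHom.transferSylow P₀ hle).ker with hKdef
  have hcK := (MonoidHom.ker_transferSylow_isComplement' P₀ hle).card_mul
  rw [← hKdef, hP₀, hcard] at hcK
  have hKc : Nat.card K = 144 := by omega
  have hKmem : ∀ x : N, x ^ 144 = 1 → x ∈ K := by
    intro x hx
    rw [MonoidHom.mem_ker]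
    have a := orderOf_map_dvd (MonoidHom.transferSylow P₀ hle) x
    have b : orderOf x ∣ 144 := orderOf_dvd_of_pow_eq_one hx
    have c := orderOf_dvd_natCard (MonoidHom.transferSylow P₀ hle x)
    rw [hP₀] at c
    have := Nat.dvd_gcd (a.trans b) c
    norm_num at this
    exact this
  haveI : (K.map N.subtype).Normal := ⟨fun x hx g => by
    obtain ⟨y, hy, rfl⟩ := hx
    refine ⟨⟨g * y * g⁻¹, Subgroup.Normal.conj_mem inferInstance _ y.2 g⟩, hKmem _ (Subtype.ext ?_), rfl⟩
    have hy' : (y : G) ^ 144 = 1 := by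
      have := pow_card_eq_one' (x := (⟨y, hy⟩ : K))
      rw [hKc] at this
      exact congrArg (fun z : K => ((z : N) : G)) this
    simp [conj_pow, hy']⟩
  have hc' : Nat.card (K.map N.subtype) = 144 := (Subgroup.card_subtype N K).trans hKc
  exact false_of_normal hG hA (K.map N.subtype) (by rw [hc']; norm_num)
    (by intro e; rw [e, Subgroup.card_bot] at hc'; norm_num at hc')

end

/-- Let G be a finite group of order 7920 = 2⁴·3²·5·11 (the order of the smallest Mathieu group) and suppose its prime graph (vertices the prime divisors of the order, distinct p, q joined when there is an element of order pq) is disconnected: the prime divisors split into two non-empty parts with no element of order pq for p in one part and q in the other. Then G is simple. -/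
theorem result {G : Type*} [Group G] [Finite G] (hord : Nat.card G = 7920)
    (hdisc : (∃ A : Set ℕ, (∃ a ∈ A, a.Prime ∧ a ∣ Nat.card G) ∧ (∃ b ∉ A, b.Prime ∧ b ∣ Nat.card G) ∧
      ∀ a ∈ A, ∀ b ∉ A, a.Prime → b.Prime → a ∣ Nat.card G → b ∣ Nat.card G → ¬ ∃ g : G, orderOf g = a * b)) :
    IsSimpleGroup G := by
  obtain ⟨A, ⟨a, haA, hap, had⟩, ⟨b, hbA, hbp, hbd⟩, hno⟩ := hdisc
  haveI : Fact (Nat.Prime 11) := ⟨by norm_num⟩
  have hsub : ∀ p : ℕ, p.Prime → p ∣ Nat.card G → p ∈ ({2, 3, 5, 11} : Finset ℕ) := by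
    intro p hp hd
    have hm : p ∈ Nat.primeFactors (2 ^ 4 * (3 ^ 2 * (5 * 11))) :=
      Nat.mem_primeFactors.2 ⟨hp, by rw [hord] at hd; norm_num; exact hd, by norm_num⟩
    rw [Nat.primeFactors_mul (by norm_num) (by norm_num),
      Nat.primeFactors_mul (by norm_num) (by norm_num), Nat.primeFactors_mul (by norm_num) (by norm_num),
      Nat.primeFactors_pow _ (by norm_num), Nat.primeFactors_pow _ (by norm_num),
      Nat.Prime.primeFactors (by norm_num), Nat.Prime.primeFactors (by norm_num),
      Nat.Prime.primeFactors (by norm_num), Nat.Prime.primeFactors (by norm_num)] at hm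
    simp at hm ⊢; tauto
  have hpr : ∀ p ∈ ({2, 3, 5, 11} : Finset ℕ), p.Prime ∧ p ∣ Nat.card G := by
    intro p hp
    simp only [Finset.mem_insert, Finset.mem_singleton] at hp
    rw [hord]
    rcases hp with rfl | rfl | rfl | rfl <;> norm_num
  have hA : Disc G A := by
    refine ⟨fun p q hp hq hR => ?_, fun h => ?_⟩
    · obtain ⟨hp1, hp2⟩ := hpr p hp
      obtain ⟨hq1, hq2⟩ := hpr q hq
      constructor
      · intro hpA; by_contra hqA; exact hno p hpA q hqA hp1 hq1 hp2 hq2 hR
      · intro hqA; by_contra hpA; exact hno q hqA p hpA hq1 hp1 hq2 hp2 hR.symm'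
    · have ha := hsub a hap had
      have hb := hsub b hbp hbd
      simp only [Finset.mem_insert, Finset.mem_singleton] at ha hb
      rcases ha with rfl | rfl | rfl | rfl <;> rcases hb with rfl | rfl | rfl | rfl <;> tauto
  haveI : Nontrivial G := Finite.one_lt_card_iff_nontrivial.1 (by rw [hord]; norm_num)
  constructor
  intro N hN
  by_contra hne
  push Not at hne
  by_cases h11 : 11 ∣ Nat.card N
  · rcases syl_cases hord with h | h | h | h
    · let P : Sylow 11 G := default
      haveI : Subsingleton (Sylow 11 G) := (Nat.card_eq_one_iff_unique.1 h).1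
      haveI : (P : Subgroup G).Normal := Sylow.normal_of_subsingleton P
      exact false_of_normal_sylow hord hA (P : Subgroup G) (card_syl hord P)
    · exact false_12 hord hA h
    · exact false_45 hord hA h
    · exact false_144 hord hA h N h11 hne.2
  · exact false_of_normal hord hA N h11 hne.1

end Cfsg.Agent.S2490
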