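import Cfsg.Statements.S2493
import Cfsg.Agent.Alt57.CoverComm
-- import your own Cfsg.Agent.* helpers here

set_option autoImplicit false
open Cfsg

namespace Cfsg.Agent.S2493

/-- Let n ≥ 5 and let G be a finite perfect group whose centre has order 2 with G/Z(G) isomorphic to the alternating group of degree n (the double cover of the alternating group). Then every element of G is a commutator. -/
theorem result {G : Type*} [Group G] [Finite G] (hperf : commutator G = ⊤) {n : ℕ} (hn : 5 ≤ n)
    (hZ : Nat.card (Subgroup.center G) = 2) (e : G ⧸ Subgroup.center G ≃* alternatingGroup (Fin n))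
    (g : G) :
    ∃ a b : G, a * b * a⁻¹ * b⁻¹ = g := by
  let π : G →* alternatingGroup (Fin n) := e.toMonoidHom.comp (QuotientGroup.mk' _)
  have hker : ∀ x : G, π x = 1 ↔ x ∈ Subgroup.center G := fun x => by simp [π]
  have hπ : Function.Surjective π := e.surjective.comp (QuotientGroup.mk'_surjective _)
  haveI : Finite (Subgroup.center G) := inferInstance
  obtain ⟨z, hz, huniq⟩ : ∃ z : Subgroup.center G, z ≠ 1 ∧ ∀ w, w ≠ 1 → w = z := by
    obtain ⟨u, v, huv, hall⟩ := Nat.card_eq_two_iff.1 hZ
    have h : ∀ w : Subgroup.center G, w = u ∨ w = v := fun w => by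
      have : w ∈ ({u, v} : Set (Subgroup.center G)) := hall ▸ Set.mem_univ w
      simpa using this
    rcases h 1 with h1 | h1
    · exact ⟨v, fun e => huv (h1 ▸ e.symm), fun w hw => (h w).resolve_left fun e => hw (e.trans h1.symm)⟩
    · exact ⟨u, fun e => huv (h1 ▸ e), fun w hw => (h w).resolve_right fun e => hw (e.trans h1.symm)⟩
  refine Cfsg.Agent.Alt57.CoverComm.Cover.all_commutators
    (C := { q := (alternatingGroup (Fin n)).subtype.comp π
            z := (z : G)
            sign_q := fun x => Equiv.Perm.mem_alternatingGroup.1 (π x).2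
            surj := fun σ hσ => ?_
            z_ne := fun h => hz (Subtype.ext h)
            z_sq := ?_
            z_comm := fun x => (Subgroup.mem_center_iff.1 z.2 x).symm
            ker := fun x hx => ?_
            q_z := ?_ }) hperf hn g
  · obtain ⟨x, hx⟩ := hπ ⟨σ, Equiv.Perm.mem_alternatingGroup.2 hσ⟩
    exact ⟨x, congrArg Subtype.val hx⟩
  · have h : z ^ 2 = 1 := by rw [← hZ]; exact pow_card_eq_one'
    rw [pow_two] at h
    exact congrArg Subtype.val h
  · have hx' : π x = 1 := Subtype.ext hx
    by_cases h1 : x = 1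
    · exact Or.inl h1
    · exact Or.inr (congrArg Subtype.val (huniq ⟨x, (hker x).1 hx'⟩ fun h => h1 (congrArg Subtype.val h)))
  · exact congrArg Subtype.val ((hker _).2 z.2)

end Cfsg.Agent.S2493
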