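import Cfsg.Statements.S2505
import Mathlib

set_option autoImplicit false
open Cfsg

namespace Cfsg.Agent.S2505

/-- the largest product of a partition of `n` -/
def g : ℕ → ℕ
  | 0 => 1
  | 1 => 1
  | 2 => 2
  | 3 => 3
  | 4 => 4
  | n + 5 => 3 * g (n + 2)

theorem g_add_five (n : ℕ) : g (n + 5) = 3 * g (n + 2) := by rw [g]

theorem g_big (n : ℕ) (h : 5 ≤ n) : g n = 3 * g (n - 3) := by
  obtain ⟨m, rfl⟩ : ∃ m, n = m + 5 := ⟨n - 5, by omega⟩
  rw [g_add_five, show m + 5 - 3 = m + 2 by omega]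

theorem mul_g_le : ∀ d m : ℕ, 1 ≤ d → d * g m ≤ g (d + m) := by
  intro d
  induction d using Nat.strong_induction_on with
  | h d ih =>
    intro m hd
    rcases Nat.lt_or_ge d 5 with hsmall | hbig
    · induction m using Nat.strong_induction_on with
      | h m ihm =>
        rcases Nat.lt_or_ge m 5 with hm | hm
        · interval_cases d <;> interval_cases m <;> simp [g]
        · rw [g_big m hm, g_big (d + m) (by omega), show d + m - 3 = d + (m - 3) by omega, mul_left_comm]
          exact Nat.mul_le_mul_left 3 (ihm (m - 3) (by omega))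
    · have h3 : d ≤ 3 * (d - 3) := by omega
      have := ih (d - 3) (by omega) m (by omega)
      calc d * g m ≤ 3 * (d - 3) * g m := Nat.mul_le_mul_right _ h3
        _ = 3 * ((d - 3) * g m) := by rw [mul_assoc]
        _ ≤ 3 * g (d - 3 + m) := Nat.mul_le_mul_left 3 this
        _ = g (d + m) := by rw [g_big (d + m) (by omega), show d + m - 3 = d - 3 + m by omega]

theorem prod_le {ι : Type*} (s : Finset ι) (d : ι → ℕ) (hd : ∀ i ∈ s, 1 ≤ d i) :
    ∏ i ∈ s, d i ≤ g (∑ i ∈ s, d i) := by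
  classical
  induction s using Finset.induction_on with
  | empty => simp [g]
  | @insert a s ha ih =>
    rw [Finset.prod_insert ha, Finset.sum_insert ha]
    exact (Nat.mul_le_mul_left _ (ih fun i hi => hd i (Finset.mem_insert_of_mem hi))).trans
      (mul_g_le _ _ (hd a (Finset.mem_insert_self a s)))

theorem g_values (k : ℕ) :
    g (3 * k + 3) = 3 ^ (k + 1) ∧ g (3 * k + 4) = 4 * 3 ^ k ∧ g (3 * k + 5) = 2 * 3 ^ (k + 1) := by
  induction k with
  | zero => simp [g]
  | succ k ih =>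
    refine ⟨?_, ?_, ?_⟩
    · rw [show 3 * (k + 1) + 3 = (3 * k + 1) + 5 by ring, g_add_five, show 3 * k + 1 + 2 = 3 * k + 3 by ring, ih.1]; ring
    · rw [show 3 * (k + 1) + 4 = (3 * k + 2) + 5 by ring, g_add_five, show 3 * k + 2 + 2 = 3 * k + 4 by ring, ih.2.1]; ring
    · rw [show 3 * (k + 1) + 5 = (3 * k + 3) + 5 by ring, g_add_five, show 3 * k + 3 + 2 = 3 * k + 5 by ring, ih.2.2]; ring

theorem card_le {n : ℕ} (A : Subgroup (Equiv.Perm (Fin n))) (hA : IsMulCommutative A) :
    Nat.card A ≤ g n := by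
  classical
  let Q := MulAction.orbitRel.Quotient A (Fin n)
  haveI : Fintype Q := Fintype.ofFinite Q
  let f : A → ((q : Q) → MulAction.orbit A (q.out)) := fun a q => ⟨a • q.out, MulAction.mem_orbit _ a⟩
  have hf : Function.Injective f := by
    intro a b hab
    refine Subtype.ext (Equiv.ext fun x => ?_)
    let q : Q := Quotient.mk'' x
    have hx : x ∈ MulAction.orbit A q.out := by
      have : (Quotient.mk'' q.out : Q) = Quotient.mk'' x := Quotient.out_eq' q
      have h := Quotient.exact' this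
      rw [MulAction.orbitRel_apply] at h
      exact MulAction.mem_orbit_symm.mp h
    obtain ⟨c, hc⟩ := hx
    have hq : a • q.out = b • q.out := congrArg Subtype.val (congrFun hab q)
    show a • x = b • x
    rw [← hc]
    show a • c • q.out = b • c • q.out
    rw [← mul_smul, ← mul_smul, hA.is_comm.comm a c, hA.is_comm.comm b c, mul_smul, mul_smul, hq]
  have h1 := Nat.card_le_card_of_injective f hf
  rw [Nat.card_pi] at h1
  have h2 : ∑ q : Q, Nat.card (MulAction.orbit A q.out) = n := by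
    have := Nat.card_congr (MulAction.selfEquivSigmaOrbits A (Fin n))
    rw [Nat.card_fin, Nat.card_sigma] at this
    exact this.symm
  refine h1.trans ((prod_le _ _ fun q _ => ?_).trans_eq (by rw [h2]))
  haveI : Nonempty (MulAction.orbit A q.out) := ⟨⟨_, MulAction.mem_orbit_self _⟩⟩
  exact Nat.card_pos

theorem exists_abelian {t n : ℕ} (d : Fin t → ℕ) (hd : ∀ i, 1 ≤ d i) (hsum : ∑ i, d i = n) :
    ∃ A : Subgroup (Equiv.Perm (Fin n)), IsMulCommutative A ∧ Nat.card A = ∏ i, d i := by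
  haveI : ∀ i, NeZero (d i) := fun i => ⟨by have := hd i; omega⟩
  let e : ((i : Fin t) × ZMod (d i)) ≃ Fin n :=
    Fintype.equivFinOfCardEq (by rw [Fintype.card_sigma]; simpa [ZMod.card] using hsum)
  let φ : Multiplicative ((i : Fin t) → ZMod (d i)) →* Equiv.Perm (Fin n) := e.permCongrHom.toMonoidHom.comp
    { toFun := fun c => Equiv.sigmaCongrRight fun i => Equiv.addLeft (Multiplicative.toAdd c i)
      map_one' := Equiv.ext fun ⟨i, x⟩ => congrArg (Sigma.mk i) (zero_add x)
      map_mul' := fun a b => Equiv.ext fun ⟨i, x⟩ => congrArg (Sigma.mk i) (add_assoc _ _ x) }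
  have hφ : Function.Injective φ := by
    refine e.permCongrHom.injective.comp fun a b h => Multiplicative.toAdd.injective (funext fun i => ?_)
    have := Equiv.congr_fun h ⟨i, 0⟩
    simpa using this
  refine ⟨φ.range, ⟨⟨?_⟩⟩, ?_⟩
  · rintro ⟨_, a, rfl⟩ ⟨_, b, rfl⟩
    exact Subtype.ext (by show φ a * φ b = φ b * φ a; rw [← map_mul, ← map_mul, mul_comm])
  · rw [← Nat.card_congr (MonoidHom.ofInjective hφ).toEquiv, Nat.card_congr (Multiplicative.toAdd (α := (i : Fin t) → ZMod (d i))), Nat.card_pi]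
    simp

/-- The largest order of an abelian subgroup of the symmetric group of degree n is 3^k when n = 3k, 4·3^(k−1) when n = 3k + 1, and 2·3^k when n = 3k + 2, for every k ≥ 1. -/
theorem result (k : ℕ) (hk : 1 ≤ k) :
    IsGreatest {c : ℕ | ∃ A : Subgroup (Equiv.Perm (Fin (3 * k))), IsMulCommutative A ∧ Nat.card A = c} (3 ^ k) ∧
    IsGreatest {c : ℕ | ∃ A : Subgroup (Equiv.Perm (Fin (3 * k + 1))), IsMulCommutative A ∧ Nat.card A = c}
      (4 * 3 ^ (k - 1)) ∧
    IsGreatest {c : ℕ | ∃ A : Subgroup (Equiv.Perm (Fin (3 * k + 2))), IsMulCommutative A ∧ Nat.card A = c}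
      (2 * 3 ^ k) := by
  obtain ⟨j, rfl⟩ : ∃ j, k = j + 1 := ⟨k - 1, by omega⟩
  obtain ⟨v0, v1, v2⟩ := g_values j
  refine ⟨⟨?_, ?_⟩, ⟨?_, ?_⟩, ⟨?_, ?_⟩⟩
  · obtain ⟨A, hA, hc⟩ := exists_abelian (n := 3 * (j + 1)) (fun _ : Fin (j + 1) => 3) (fun _ => by norm_num) (by simp; ring)
    exact ⟨A, hA, by simpa using hc⟩
  · rintro c ⟨A, hA, rfl⟩
    exact (card_le A hA).trans_eq (by rw [show 3 * (j + 1) = 3 * j + 3 by ring, v0])
  · obtain ⟨A, hA, hc⟩ := exists_abelian (n := 3 * (j + 1) + 1) (Fin.cons 4 fun _ : Fin j => 3)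
      (fun i => by induction i using Fin.cases <;> simp) (by rw [Fin.sum_cons]; simp; ring)
    refine ⟨A, hA, ?_⟩
    rw [hc, Fin.prod_cons]
    simp
  · rintro c ⟨A, hA, rfl⟩
    exact (card_le A hA).trans_eq (by rw [show 3 * (j + 1) + 1 = 3 * j + 4 by ring, v1, Nat.add_sub_cancel])
  · obtain ⟨A, hA, hc⟩ := exists_abelian (n := 3 * (j + 1) + 2) (Fin.cons 2 fun _ : Fin (j + 1) => 3)
      (fun i => by induction i using Fin.cases <;> simp) (by rw [Fin.sum_cons]; simp; ring)
    refine ⟨A, hA, ?_⟩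
    rw [hc, Fin.prod_cons]
    simp
  · rintro c ⟨A, hA, rfl⟩
    exact (card_le A hA).trans_eq (by rw [show 3 * (j + 1) + 2 = 3 * j + 5 by ring, v2])

end Cfsg.Agent.S2505
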