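import Cfsg.Statements.S2506
import Cfsg.Agent.S2505
-- import your own Cfsg.Agent.* helpers here

set_option autoImplicit false
open scoped Pointwise
open Cfsg

namespace Cfsg.Agent.S2506


open Equiv MulAction
open scoped Classical

variable {n : ℕ}

abbrev orb (A : Subgroup (Perm (Fin n))) (x : Fin n) : Set (Fin n) := MulAction.orbit A x

theorem orb_map (A : Subgroup (Perm (Fin n))) {a : Perm (Fin n)} (ha : a ∈ A) (x : Fin n) :
    a x ∈ orb A x := ⟨⟨a, ha⟩, rfl⟩

theorem orb_eq {A : Subgroup (Perm (Fin n))} {x y : Fin n} (h : y ∈ orb A x) : orb A y = orb A x :=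
  MulAction.orbit_eq_iff.2 h

theorem fix_orb {A : Subgroup (Perm (Fin n))} (hA : IsMulCommutative A) {a b : Perm (Fin n)}
    (ha : a ∈ A) (hb : b ∈ A) {x y : Fin n} (h : a x = b x) (hy : y ∈ orb A x) : a y = b y := by
  obtain ⟨c, rfl⟩ := hy
  show a ((c : Perm (Fin n)) x) = b ((c : Perm (Fin n)) x)
  have h1 := congrArg Subtype.val (hA.is_comm.comm (⟨a, ha⟩ : A) c)
  have h2 := congrArg Subtype.val (hA.is_comm.comm (⟨b, hb⟩ : A) c)
  simp only [Subgroup.coe_mul] at h1 h2
  rw [← Perm.mul_apply, h1, Perm.mul_apply, h, ← Perm.mul_apply, ← h2, Perm.mul_apply]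

abbrev Q (A : Subgroup (Perm (Fin n))) := MulAction.orbitRel.Quotient A (Fin n)

theorem mem_orb_out (A : Subgroup (Perm (Fin n))) (x : Fin n) :
    x ∈ orb A ((Quotient.mk'' x : Q A)).out := by
  have h := Quotient.exact' (Quotient.out_eq' (Quotient.mk'' x : Q A))
  rw [MulAction.orbitRel_apply] at h
  exact MulAction.mem_orbit_symm.mp h

/-- The sizes of the orbits. -/
noncomputable def sz (A : Subgroup (Perm (Fin n))) (q : Q A) : ℕ := Nat.card (orb A q.out)

noncomputable def P (A : Subgroup (Perm (Fin n))) : ℕ := ∏ q : Q A, sz A q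

theorem sum_sz (A : Subgroup (Perm (Fin n))) : ∑ q : Q A, sz A q = n := by
  have := Nat.card_congr (MulAction.selfEquivSigmaOrbits A (Fin n))
  rw [Nat.card_fin, Nat.card_sigma] at this
  exact this.symm

theorem one_le_sz (A : Subgroup (Perm (Fin n))) (q : Q A) : 1 ≤ sz A q := by
  haveI : Nonempty (orb A q.out) := ⟨⟨_, MulAction.mem_orbit_self _⟩⟩
  exact Nat.card_pos

/-- Permutations agreeing with elements of `A` on each orbit. -/
def big (A : Subgroup (Perm (Fin n))) : Subgroup (Perm (Fin n)) where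
  carrier := {g | ∀ x, ∃ a ∈ A, ∀ y ∈ orb A x, g y = a y}
  one_mem' := fun _ => ⟨1, one_mem _, fun _ _ => rfl⟩
  mul_mem' := fun {g h} hg hh x => by
    obtain ⟨a, ha, hga⟩ := hg x
    obtain ⟨b, hb, hhb⟩ := hh x
    refine ⟨a * b, mul_mem ha hb, fun y hy => ?_⟩
    rw [Perm.mul_apply, Perm.mul_apply, hhb y hy]
    exact hga _ (orb_eq hy ▸ orb_map A hb y)
  inv_mem' := fun {g} hg x => by
    obtain ⟨a, ha, hga⟩ := hg x
    refine ⟨a⁻¹, inv_mem ha, fun y hy => ?_⟩
    rw [Perm.inv_def, Equiv.symm_apply_eq, hga _ (orb_eq hy ▸ orb_map A (inv_mem ha) y)]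
    simp

theorem le_big (A : Subgroup (Perm (Fin n))) : A ≤ big A := fun a ha _ => ⟨a, ha, fun _ _ => rfl⟩

theorem card_big_le (A : Subgroup (Perm (Fin n))) (hA : IsMulCommutative A) :
    Nat.card (big A) ≤ P A := by
  let f : big A → (q : Q A) → orb A q.out := fun b q => ⟨(b : Perm (Fin n)) q.out, by
    obtain ⟨a, ha, h⟩ := b.2 q.out
    rw [h _ (MulAction.mem_orbit_self _)]; exact orb_map A ha _⟩
  have hf : Function.Injective f := fun b b' h => by
    refine Subtype.ext (Equiv.ext fun x => ?_)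
    have hx := mem_orb_out A x
    set o := (Quotient.mk'' x : Q A).out
    obtain ⟨a, ha, hb⟩ := b.2 o
    obtain ⟨a', ha', hb'⟩ := b'.2 o
    rw [hb x hx, hb' x hx]
    refine fix_orb hA ha ha' ?_ hx
    rw [← hb _ (MulAction.mem_orbit_self _), ← hb' _ (MulAction.mem_orbit_self _)]
    exact congrArg Subtype.val (congrFun h (Quotient.mk'' x))
  have := Nat.card_le_card_of_injective f hf
  rwa [Nat.card_pi] at this

theorem card_le_P (A : Subgroup (Perm (Fin n))) (hA : IsMulCommutative A) : Nat.card A ≤ P A :=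
  (Subgroup.card_le_of_le (le_big A)).trans (card_big_le A hA)

theorem half {A : Subgroup (Perm (Fin n))} (hA : IsMulCommutative A)
    (heven : A ≤ alternatingGroup (Fin n)) {b : Perm (Fin n)} (hb : b ∈ big A)
    (hodd : Perm.sign b = -1) : 2 * Nat.card A ≤ P A := by
  refine le_trans ?_ (card_big_le A hA)
  let f : Bool × A → big A := fun z =>
    ⟨(if z.1 then b else 1) * (z.2 : Perm (Fin n)), mul_mem (by split <;> simp [hb]) (le_big A z.2.2)⟩
  have hf : Function.Injective f := fun z w h => by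
    have h' : (if z.1 then b else 1) * (z.2 : Perm (Fin n)) = (if w.1 then b else 1) * (w.2 : Perm (Fin n)) :=
      congrArg Subtype.val h
    have hs := congrArg Perm.sign h'
    rw [map_mul, map_mul, Equiv.Perm.mem_alternatingGroup.1 (heven z.2.2),
      Equiv.Perm.mem_alternatingGroup.1 (heven w.2.2), mul_one, mul_one] at hs
    obtain ⟨z1, z2⟩ := z
    obtain ⟨w1, w2⟩ := w
    obtain rfl : z1 = w1 := by
      cases z1 <;> cases w1 <;> simp_all
    exact Prod.ext rfl (Subtype.ext (mul_left_cancel h'))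
  have := Nat.card_le_card_of_injective f hf
  rwa [Nat.card_prod, Nat.card_eq_fintype_card (α := Bool), Fintype.card_bool] at this

theorem odd_two : ∀ r : Perm (Fin 2), (∀ x, r x ≠ x) → Perm.sign r = -1 := by decide

theorem odd_four : ∀ r : Perm (Fin 4), (∀ x, r x ≠ x) → (∃ x, r (r x) ≠ x) → Perm.sign r = -1 := by
  decide +kernel

theorem det_three : ∀ r s : Perm (Fin 3), (∀ x, r x = x → ∀ y, r y = y) → (∀ x, s x = x → ∀ y, s y = y) →
    ∀ x, r x = s x → r = s := by
  decide +kernel

theorem det_four : ∀ r s : Perm (Fin 4), (∀ x, r x = x → ∀ y, r y = y) → (∀ x, s x = x → ∀ y, s y = y) →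
    (∀ x, r (r x) = x) → (∀ x, s (s x) = x) → ∀ x, r x = s x → r = s := by
  decide +kernel

/-- Restriction of a permutation to an orbit, read on `Fin d`. -/
theorem restrict {A : Subgroup (Perm (Fin n))} {g : Perm (Fin n)} {o : Fin n}
    (hg : ∀ y ∈ orb A o, g y ∈ orb A o) :
    ∀ y, y ∈ orb A o ↔ g y ∈ orb A o := by
  intro y
  refine ⟨hg y, fun h => ?_⟩
  have hb : Function.Bijective (fun z : orb A o => (⟨g z.1, hg z.1 z.2⟩ : orb A o)) :=
    Finite.injective_iff_bijective.1 fun z w e => Subtype.ext (g.injective (congrArg Subtype.val e))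
  obtain ⟨z, hz⟩ := hb.2 ⟨g y, h⟩
  rw [← g.injective (congrArg Subtype.val hz)]
  exact z.2

/-- An odd element supported by one orbit of size two or four. -/
theorem half_of_bad {A : Subgroup (Perm (Fin n))} (hA : IsMulCommutative A)
    (heven : A ≤ alternatingGroup (Fin n)) {o : Fin n}
    (h : Nat.card (orb A o) = 2 ∨ Nat.card (orb A o) = 4 ∧ ∃ a ∈ A, ∃ y ∈ orb A o, a (a y) ≠ y) :
    2 * Nat.card A ≤ P A := by
  obtain ⟨a, ha, hfree, hcase⟩ : ∃ a ∈ A, (∀ y ∈ orb A o, a y ≠ y) ∧
      (Nat.card (orb A o) = 2 ∨ Nat.card (orb A o) = 4 ∧ ∃ y ∈ orb A o, a (a y) ≠ y) := by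
    rcases h with h | ⟨h4, a, ha, y, hy, hne⟩
    · have : Nontrivial (orb A o) := Finite.one_lt_card_iff_nontrivial.1 (by omega)
      obtain ⟨⟨z, c, rfl⟩, hz⟩ := exists_ne (⟨o, MulAction.mem_orbit_self o⟩ : orb A o)
      refine ⟨c, c.2, fun y hy e => hz (Subtype.ext ?_), Or.inl h⟩
      exact fix_orb hA c.2 (one_mem A) (x := y) e (by rw [orb_eq hy]; exact MulAction.mem_orbit_self o)
    · refine ⟨a, ha, fun z hz e => hne ?_, Or.inr ⟨h4, y, hy, hne⟩⟩
      have : a y = y := fix_orb hA ha (one_mem A) (x := z) e (by rw [orb_eq hz]; exact hy)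
      rw [this, this]
  have hp : ∀ y, y ∈ orb A o ↔ a y ∈ orb A o :=
    restrict fun y hy => orb_eq hy ▸ orb_map A ha y
  let r : Perm {y // y ∈ orb A o} := a.subtypePerm (fun y => (hp y).symm)
  let b : Perm (Fin n) := Perm.ofSubtype r
  refine half hA heven (b := b) (fun x => ?_) ?_
  · by_cases hx : x ∈ orb A o
    · exact ⟨a, ha, fun y hy => by
        have : y ∈ orb A o := orb_eq hx ▸ hy
        simp [b, r, Perm.ofSubtype_apply_of_mem _ this]⟩
    · refine ⟨1, one_mem _, fun y hy => ?_⟩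
      refine Perm.ofSubtype_apply_of_not_mem _ fun h => hx ?_
      rw [← orb_eq h, orb_eq hy]; exact MulAction.mem_orbit_self x
  · rw [show Perm.sign b = Perm.sign r from Perm.sign_ofSubtype r]
    rcases hcase with h2 | ⟨h4, y, hy, hne⟩
    · let e : {y // y ∈ orb A o} ≃ Fin 2 := Finite.equivFinOfCardEq h2
      rw [← Perm.sign_permCongr e r]
      refine odd_two _ fun x e' => ?_
      have := congrArg Subtype.val (e.injective ((e'.trans (e.apply_symm_apply x).symm)))
      exact hfree _ (e.symm x).2 this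
    · let e : {y // y ∈ orb A o} ≃ Fin 4 := Finite.equivFinOfCardEq h4
      rw [← Perm.sign_permCongr e r]
      refine odd_four _ (fun x e' => ?_) ⟨e ⟨y, hy⟩, fun e' => hne ?_⟩
      · have := congrArg Subtype.val (e.injective ((e'.trans (e.apply_symm_apply x).symm)))
        exact hfree _ (e.symm x).2 this
      · simp only [Equiv.permCongr_apply, Equiv.symm_apply_apply, EmbeddingLike.apply_eq_iff_eq] at e'
        exact congrArg Subtype.val e'

theorem ineq_other : ∀ d : ℕ, 1 ≤ d → d ≠ 2 → d ≠ 3 → d ≠ 4 → 243 * d ^ 3 ≤ 125 * 3 ^ d := by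
  intro d h1 h2 h3 h4
  rcases Nat.lt_or_ge d 5 with h | h
  · interval_cases d <;> simp_all
  · induction d, h using Nat.le_induction with
    | base => norm_num
    | succ d hd ih =>
      have := ih (by omega) (by omega) (by omega) (by omega)
      have e : (d + 1) ^ 3 ≤ 3 * d ^ 3 := by nlinarith [Nat.mul_le_mul hd hd, Nat.mul_le_mul_right (d * d) hd]
      calc 243 * (d + 1) ^ 3 ≤ 243 * (3 * d ^ 3) := Nat.mul_le_mul_left _ e
        _ = 3 * (243 * d ^ 3) := by ring
        _ ≤ 3 * (125 * 3 ^ d) := Nat.mul_le_mul_left _ this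
        _ = _ := by ring

theorem prod_cube {ι : Type*} (s : Finset ι) (d : ι → ℕ) (h1 : ∀ i ∈ s, 1 ≤ d i) (h2 : ∀ i ∈ s, d i ≠ 2) :
    (∏ i ∈ s, d i) ^ 3 * 81 ^ (s.filter fun i => d i = 4).card *
        243 ^ (s.filter fun i => d i ≠ 3 ∧ d i ≠ 4).card ≤
      3 ^ (∑ i ∈ s, d i) * 64 ^ (s.filter fun i => d i = 4).card *
        125 ^ (s.filter fun i => d i ≠ 3 ∧ d i ≠ 4).card := by
  induction s using Finset.induction_on with
  | empty => simp
  | @insert a s ha ih =>
    have ih' := ih (fun i hi => h1 i (Finset.mem_insert_of_mem hi)) fun i hi => h2 i (Finset.mem_insert_of_mem hi)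
    rw [Finset.prod_insert ha, Finset.sum_insert ha, Finset.filter_insert, Finset.filter_insert, mul_pow,
      pow_add]
    by_cases h3 : d a = 3
    · rw [if_neg (by omega), if_neg (by omega), h3]
      calc _ = 27 * ((∏ i ∈ s, d i) ^ 3 * 81 ^ (s.filter fun i => d i = 4).card *
              243 ^ (s.filter fun i => d i ≠ 3 ∧ d i ≠ 4).card) := by ring
        _ ≤ _ := Nat.mul_le_mul_left 27 ih'
        _ = _ := by ring
    by_cases h4 : d a = 4
    · rw [if_pos h4, if_neg (by omega), Finset.card_insert_of_notMem (by simp [ha]), h4]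
      calc _ = 5184 * ((∏ i ∈ s, d i) ^ 3 * 81 ^ (s.filter fun i => d i = 4).card *
              243 ^ (s.filter fun i => d i ≠ 3 ∧ d i ≠ 4).card) := by ring
        _ ≤ _ := Nat.mul_le_mul_left 5184 ih'
        _ = _ := by ring
    · rw [if_neg h4, if_pos ⟨h3, h4⟩, Finset.card_insert_of_notMem (by simp [ha])]
      have hd := ineq_other (d a) (h1 a (Finset.mem_insert_self a s)) (h2 a (Finset.mem_insert_self a s)) h3 h4
      calc _ = (243 * d a ^ 3) * ((∏ i ∈ s, d i) ^ 3 * 81 ^ (s.filter fun i => d i = 4).card *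
              243 ^ (s.filter fun i => d i ≠ 3 ∧ d i ≠ 4).card) := by ring
        _ ≤ _ := Nat.mul_le_mul hd ih'
        _ = _ := by ring

/-- The extremal shape. -/
theorem shape {ι : Type*} [Fintype ι] (d : ι → ℕ) (h1 : ∀ i, 1 ≤ d i) (h2 : ∀ i, d i ≠ 2) {k c : ℕ}
    (hc : c ≤ 2) (hsum : ∑ i, d i = 3 * k + 4 * c) (hP : 3 ^ k * 4 ^ c ≤ ∏ i, d i) :
    (∀ i, d i = 3 ∨ d i = 4) ∧ (Finset.univ.filter fun i => d i = 4).card = c ∧
      ∏ i, d i = 3 ^ k * 4 ^ c := by
  have h := prod_cube Finset.univ d (fun i _ => h1 i) fun i _ => h2 i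
  set u := (Finset.univ.filter fun i => d i = 4).card with hu
  set o := (Finset.univ.filter fun i => d i ≠ 3 ∧ d i ≠ 4).card with ho
  rw [hsum] at h
  have h' : 64 ^ c * 81 ^ u * 243 ^ o ≤ 81 ^ c * 64 ^ u * 125 ^ o := by
    refine Nat.le_of_mul_le_mul_left (c := 3 ^ (3 * k)) ?_ (by positivity)
    calc 3 ^ (3 * k) * (64 ^ c * 81 ^ u * 243 ^ o) = (3 ^ k * 4 ^ c) ^ 3 * 81 ^ u * 243 ^ o := by
          rw [mul_pow, ← pow_mul, mul_comm k 3, ← pow_mul, mul_comm c 3, pow_mul 4 3 c]; ring
      _ ≤ _ := Nat.mul_le_mul_right _ (Nat.mul_le_mul_right _ (Nat.pow_le_pow_left hP 3))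
      _ ≤ _ := h
      _ = _ := by rw [pow_add, pow_mul 3 4 c]; ring
  have ho0 : o = 0 := by
    by_contra hne
    obtain ⟨j, hj⟩ := Nat.exists_eq_succ_of_ne_zero hne
    have a1 : 64 ^ u ≤ 81 ^ u := Nat.pow_le_pow_left (by norm_num) u
    have a2 : 125 ^ j ≤ 243 ^ j := Nat.pow_le_pow_left (by norm_num) j
    have a3 : 81 ^ c * 125 < 64 ^ c * 243 := by interval_cases c <;> norm_num
    rw [hj, pow_succ, pow_succ] at h'
    have : 81 ^ c * 125 * (64 ^ u * 125 ^ j) < 64 ^ c * 243 * (81 ^ u * 243 ^ j) :=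
      Nat.mul_lt_mul_of_lt_of_le a3 (Nat.mul_le_mul a1 a2) (by positivity)
    linarith
  have h34 : ∀ i, d i = 3 ∨ d i = 4 := fun i => by
    by_contra hh
    push Not at hh
    rw [ho, Finset.card_eq_zero, Finset.filter_eq_empty_iff] at ho0
    exact ho0 (Finset.mem_univ i) hh
  have hu1 : u ≤ c := by
    by_contra hlt
    obtain ⟨j, hj⟩ : ∃ j, u = c + (j + 1) := ⟨u - c - 1, by omega⟩
    have e1 : 81 ^ u = 81 ^ c * 81 ^ (j + 1) := by rw [hj, pow_add]
    have e2 : 64 ^ u = 64 ^ c * 64 ^ (j + 1) := by rw [hj, pow_add]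
    rw [ho0, pow_zero, pow_zero, mul_one, mul_one, e1, e2] at h'
    have a2 : 64 ^ (j + 1) < 81 ^ (j + 1) := Nat.pow_lt_pow_left (by norm_num) (by omega)
    have : 64 ^ c * 81 ^ c * 64 ^ (j + 1) < 64 ^ c * 81 ^ c * 81 ^ (j + 1) :=
      Nat.mul_lt_mul_of_pos_left a2 (by positivity)
    linarith
  set v := (Finset.univ.filter fun i => ¬ d i = 4).card
  have hcount : ∑ i, d i = 4 * u + 3 * v := by
    rw [← Finset.sum_filter_add_sum_filter_not Finset.univ (fun i => d i = 4),
      Finset.sum_congr rfl (fun i hi => (Finset.mem_filter.1 hi).2),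
      Finset.sum_congr rfl (fun i hi => (h34 i).resolve_right (Finset.mem_filter.1 hi).2),
      Finset.sum_const, Finset.sum_const, smul_eq_mul, smul_eq_mul, mul_comm, mul_comm v]
  have huc : u = c := by omega
  refine ⟨h34, huc, ?_⟩
  rw [← Finset.prod_filter_mul_prod_filter_not Finset.univ (fun i => d i = 4),
    Finset.prod_congr rfl (fun i hi => (Finset.mem_filter.1 hi).2),
    Finset.prod_congr rfl (fun i hi => (h34 i).resolve_right (Finset.mem_filter.1 hi).2),
    Finset.prod_const, Finset.prod_const]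
  have hvk : v = k := by omega
  simp only [v] at hvk
  rw [hvk, ← hu, huc, mul_comm]

/-- The canonical description of an extremal group by its orbits. -/
def Good (A : Subgroup (Perm (Fin n))) (g : Perm (Fin n)) : Prop :=
  ∀ x, g x ∈ orb A x ∧ (g x = x → ∀ y ∈ orb A x, g y = y) ∧
    (Nat.card (orb A x) = 4 → g (g x) = x)

structure Extremal (A : Subgroup (Perm (Fin n))) (c : ℕ) : Prop where
  sizes : ∀ q : Q A, sz A q = 3 ∨ sz A q = 4
  fours : (Finset.univ.filter fun q : Q A => sz A q = 4).card = c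
  mem_iff : ∀ g, g ∈ A ↔ Good A g

theorem card_orb (A : Subgroup (Perm (Fin n))) (x : Fin n) :
    Nat.card (orb A x) = sz A (Quotient.mk'' x) := by
  rw [sz, orb_eq (mem_orb_out A x)]

theorem pow3_half {n k c : ℕ} (hn : n = 3 * k + 4 * c) (hc : c ≤ 2) :
    S2505.g n < 2 * (3 ^ k * 4 ^ c) := by
  rcases Nat.eq_zero_or_pos n with h | h
  · obtain ⟨rfl, rfl⟩ : k = 0 ∧ c = 0 := by omega
    subst hn
    simp [S2505.g]
  interval_cases c
  · obtain ⟨j, rfl⟩ : ∃ j, k = j + 1 := ⟨k - 1, by omega⟩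
    rw [hn, show 3 * (j + 1) + 4 * 0 = 3 * j + 3 by ring, (S2505.g_values j).1]
    have := Nat.pow_pos (n := j + 1) (show 0 < 3 by norm_num); simp only [pow_zero, pow_one, mul_one]; omega
  · rw [hn, show 3 * k + 4 * 1 = 3 * k + 4 by ring, (S2505.g_values k).2.1]
    have := Nat.pow_pos (n := k) (show 0 < 3 by norm_num); simp only [pow_zero, pow_one, mul_one]; omega
  · rw [hn, show 3 * k + 4 * 2 = 3 * (k + 1) + 5 by ring, (S2505.g_values (k + 1)).2.2]
    have := Nat.pow_pos (n := k) (show 0 < 3 by norm_num); simp [pow_succ]; omega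

theorem extremal {A : Subgroup (Perm (Fin n))} (hA : IsMulCommutative A)
    (heven : A ≤ alternatingGroup (Fin n)) {k c : ℕ} (hc : c ≤ 2) (hn : n = 3 * k + 4 * c)
    (hcard : 3 ^ k * 4 ^ c ≤ Nat.card A) : Extremal A c := by
  have hnohalf : ¬ 2 * Nat.card A ≤ P A := by
    intro h
    have h1 : P A ≤ S2505.g n := by
      have := S2505.prod_le Finset.univ (sz A) fun q _ => one_le_sz A q
      rwa [sum_sz] at this
    have := pow3_half hn hc
    omega
  have hno2 : ∀ q : Q A, sz A q ≠ 2 := fun q h => hnohalf (half_of_bad hA heven (Or.inl h))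
  have hle := card_le_P A hA
  obtain ⟨h34, h4, hP⟩ := shape (sz A) (one_le_sz A) hno2 hc (hn ▸ sum_sz A)
    (show 3 ^ k * 4 ^ c ≤ ∏ q, sz A q from hcard.trans hle)
  have hgood : ∀ g ∈ A, Good A g := fun g hg x => by
    refine ⟨orb_map A hg x, fun e y hy => fix_orb hA hg (one_mem A) e hy, fun h => ?_⟩
    by_contra hne
    exact hnohalf (half_of_bad hA heven (Or.inr ⟨h, g, hg, x, MulAction.mem_orbit_self x, hne⟩))
  refine ⟨h34, h4, fun g => ⟨hgood g, fun hg => ?_⟩⟩
  let f : A → (q : Q A) → orb A q.out := fun a q => ⟨(a : Perm (Fin n)) q.out, orb_map A a.2 _⟩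
  have hinj : Function.Injective f := fun a b h => Subtype.ext (Equiv.ext fun x =>
    fix_orb hA a.2 b.2 (congrArg Subtype.val (congrFun h (Quotient.mk'' x))) (mem_orb_out A x))
  have hPeq : P A = 3 ^ k * 4 ^ c := hP
  have hbij : Function.Bijective f := by
    rw [Nat.bijective_iff_injective_and_card]
    refine ⟨hinj, ?_⟩
    rw [Nat.card_pi]
    exact le_antisymm hle (hPeq.trans_le hcard)
  obtain ⟨⟨a, ha⟩, hfa⟩ := hbij.2 fun q => ⟨g q.out, (hg q.out).1⟩
  suffices g = a by rw [this]; exact ha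
  refine Equiv.ext fun x => ?_
  set o := (Quotient.mk'' x : Q A).out with ho
  have hxo := mem_orb_out A x
  have hao : a o = g o := congrArg Subtype.val (congrFun hfa (Quotient.mk'' x))
  have ha' := hgood a ha
  have hinv : ∀ h : Perm (Fin n), Good A h → ∀ y, y ∈ orb A o ↔ h y ∈ orb A o := fun h hh =>
    restrict fun y hy => orb_eq hy ▸ (hh y).1
  let r : Perm {y // y ∈ orb A o} := g.subtypePerm fun y => (hinv g hg y).symm
  let s : Perm {y // y ∈ orb A o} := a.subtypePerm fun y => (hinv a ha' y).symm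
  have hfix : ∀ h : Perm (Fin n), Good A h → ∀ z w : {y // y ∈ orb A o}, h z = z → h w = w :=
    fun h hh z w e => (hh z).2.1 e w (by rw [orb_eq z.2]; exact w.2)
  have hrs : r = s := by
    rcases h34 (Quotient.mk'' x) with h | h
    · let e : {y // y ∈ orb A o} ≃ Fin 3 := Finite.equivFinOfCardEq h
      apply e.permCongr.injective
      refine det_three _ _ ?_ ?_ (e ⟨o, MulAction.mem_orbit_self o⟩) ?_
      · intro z hz w
        simp only [Equiv.permCongr_apply] at hz ⊢
        rw [show r (e.symm w) = e.symm w from Subtype.ext (hfix g hg (e.symm z) _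
          (congrArg Subtype.val (e.injective (hz.trans (e.apply_symm_apply z).symm) : r (e.symm z) = e.symm z)))]
        exact e.apply_symm_apply w
      · intro z hz w
        simp only [Equiv.permCongr_apply] at hz ⊢
        rw [show s (e.symm w) = e.symm w from Subtype.ext (hfix a ha' (e.symm z) _
          (congrArg Subtype.val (e.injective (hz.trans (e.apply_symm_apply z).symm) : s (e.symm z) = e.symm z)))]
        exact e.apply_symm_apply w
      · simp only [Equiv.permCongr_apply, Equiv.symm_apply_apply]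
        exact congrArg e (Subtype.ext hao.symm)
    · let e : {y // y ∈ orb A o} ≃ Fin 4 := Finite.equivFinOfCardEq h
      have hsq : ∀ h' : Perm (Fin n), Good A h' → ∀ z : {y // y ∈ orb A o}, h' (h' z) = z :=
        fun h' hh z => (hh z).2.2 (by rw [orb_eq z.2]; exact h)
      apply e.permCongr.injective
      refine det_four _ _ ?_ ?_ ?_ ?_ (e ⟨o, MulAction.mem_orbit_self o⟩) ?_
      · intro z hz w
        simp only [Equiv.permCongr_apply] at hz ⊢
        rw [show r (e.symm w) = e.symm w from Subtype.ext (hfix g hg (e.symm z) _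
          (congrArg Subtype.val (e.injective (hz.trans (e.apply_symm_apply z).symm) : r (e.symm z) = e.symm z)))]
        exact e.apply_symm_apply w
      · intro z hz w
        simp only [Equiv.permCongr_apply] at hz ⊢
        rw [show s (e.symm w) = e.symm w from Subtype.ext (hfix a ha' (e.symm z) _
          (congrArg Subtype.val (e.injective (hz.trans (e.apply_symm_apply z).symm) : s (e.symm z) = e.symm z)))]
        exact e.apply_symm_apply w
      · intro z
        simp only [Equiv.permCongr_apply, Equiv.symm_apply_apply]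
        rw [show r (r (e.symm z)) = e.symm z from Subtype.ext (hsq g hg _)]
        exact e.apply_symm_apply z
      · intro z
        simp only [Equiv.permCongr_apply, Equiv.symm_apply_apply]
        rw [show s (s (e.symm z)) = e.symm z from Subtype.ext (hsq a ha' _)]
        exact e.apply_symm_apply z
      · simp only [Equiv.permCongr_apply, Equiv.symm_apply_apply]
        exact congrArg e (Subtype.ext hao.symm)
  exact congrArg Subtype.val (Equiv.congr_fun hrs ⟨x, hxo⟩)

/-- A relabelling taking the orbits of one group to those of another. -/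
theorem exists_relabel {A B : Subgroup (Perm (Fin n))} {c : ℕ} (hA : Extremal A c) (hB : Extremal B c) :
    ∃ e : Perm (Fin n), ∀ x y, y ∈ orb A x ↔ e y ∈ orb B (e x) := by
  have hcnt : ∀ {C : Subgroup (Perm (Fin n))}, Extremal C c → ∀ d,
      Fintype.card {q : Q C // sz C q = d} = if d = 4 then c else if d = 3 then (n - 4 * c) / 3 else 0 := by
    intro C hC d
    rw [Fintype.card_subtype]
    by_cases h4 : d = 4
    · rw [if_pos h4, h4]; exact hC.fours
    rw [if_neg h4]
    by_cases h3 : d = 3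
    · rw [if_pos h3, h3]
      have hs := sum_sz C
      rw [← Finset.sum_filter_add_sum_filter_not Finset.univ (fun q => sz C q = 4),
        Finset.sum_congr rfl (fun q hq => (Finset.mem_filter.1 hq).2),
        Finset.sum_congr rfl (fun q hq => (hC.sizes q).resolve_right (Finset.mem_filter.1 hq).2),
        Finset.sum_const, Finset.sum_const, hC.fours, smul_eq_mul, smul_eq_mul] at hs
      have he : (Finset.univ.filter fun q : Q C => sz C q = 3) =
          Finset.univ.filter fun q => ¬ sz C q = 4 := by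
        refine Finset.filter_congr fun q _ => ?_
        rcases hC.sizes q with h | h <;> omega
      rw [he]; omega
    · rw [if_neg h3, Finset.card_eq_zero, Finset.filter_eq_empty_iff]
      intro q _ h
      rcases hC.sizes q with e | e <;> omega
  let σ : Q A ≃ Q B := Equiv.ofFiberEquiv (f := sz A) (g := sz B) fun d =>
    Fintype.equivOfCardEq (by rw [hcnt hA, hcnt hB])
  have hσ : ∀ q, sz B (σ q) = sz A q := Equiv.ofFiberEquiv_map _
  let τ : (q : Q A) → orb A q.out ≃ orb B (σ q).out := fun q =>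
    Classical.choice (Finite.card_eq.mp (hσ q).symm)
  let e : Perm (Fin n) := (MulAction.selfEquivSigmaOrbits A (Fin n)).trans
    ((Equiv.sigmaCongr σ τ).trans (MulAction.selfEquivSigmaOrbits B (Fin n)).symm)
  have key : ∀ x, (Quotient.mk'' (e x) : Q B) = σ (Quotient.mk'' x) := by
    intro x
    have h := congrArg Sigma.fst ((MulAction.selfEquivSigmaOrbits B (Fin n)).apply_symm_apply
      ((Equiv.sigmaCongr σ τ) ((MulAction.selfEquivSigmaOrbits A (Fin n)) x)))
    exact h
  refine ⟨e, fun x y => ?_⟩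
  have iffC : ∀ (C : Subgroup (Perm (Fin n))) (x y : Fin n),
      y ∈ orb C x ↔ (Quotient.mk'' y : Q C) = Quotient.mk'' x := fun C x y =>
    (MulAction.orbitRel_apply.symm.trans Quotient.eq''.symm)
  rw [iffC, iffC, key, key, σ.apply_eq_iff_eq]

theorem swap_pres {A : Subgroup (Perm (Fin n))} {u v : Fin n} (huv : v ∈ orb A u) (x : Fin n) :
    Equiv.swap u v x ∈ orb A x := by
  by_cases hu : x = u
  · rw [hu, Equiv.swap_apply_left]; exact huv
  by_cases hv : x = v
  · rw [hv, Equiv.swap_apply_right, orb_eq huv]; exact MulAction.mem_orbit_self u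
  rw [Equiv.swap_apply_of_ne_of_ne hu hv]; exact MulAction.mem_orbit_self x

theorem conj_extremal {A B : Subgroup (Perm (Fin n))} {c : ℕ} (hA : Extremal A c) (hB : Extremal B c)
    (hn : 3 ≤ n) : ∃ e : Perm (Fin n), Perm.sign e = 1 ∧ ∀ g, g ∈ B ↔ e⁻¹ * g * e ∈ A := by
  obtain ⟨e₀, he₀⟩ := exists_relabel hA hB
  obtain ⟨e, hs, he⟩ : ∃ e : Perm (Fin n), Perm.sign e = 1 ∧ ∀ x y, y ∈ orb A x ↔ e y ∈ orb B (e x) := by
    rcases Int.units_eq_one_or (Perm.sign e₀) with h | h
    · exact ⟨e₀, h, he₀⟩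
    obtain ⟨u⟩ : Nonempty (Fin n) := ⟨⟨0, by omega⟩⟩
    have hnt : Nontrivial (orb A u) := by
      refine Finite.one_lt_card_iff_nontrivial.1 ?_
      rw [card_orb]; rcases hA.sizes (Quotient.mk'' u) with h | h <;> omega
    obtain ⟨⟨v, hv⟩, hne⟩ := exists_ne (⟨u, MulAction.mem_orbit_self u⟩ : orb A u)
    have huv : u ≠ v := fun e => hne (Subtype.ext e.symm)
    refine ⟨e₀ * Equiv.swap u v, by rw [map_mul, h, Perm.sign_swap huv]; rfl, fun x y => ?_⟩
    rw [Perm.mul_apply, Perm.mul_apply, ← he₀]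
    have hx := swap_pres hv x
    have hy := swap_pres hv y
    constructor
    · intro hxy
      rw [orb_eq hx, ← orb_eq hxy]; exact hy
    · intro hxy
      rw [← orb_eq hx, ← orb_eq hxy, orb_eq hy]; exact MulAction.mem_orbit_self y
  refine ⟨e, hs, fun g => ?_⟩
  rw [hA.mem_iff, hB.mem_iff]
  have hcard : ∀ x, Nat.card (orb A x) = Nat.card (orb B (e x)) := fun x =>
    Nat.card_congr (e.subtypeEquiv fun y => he x y)
  constructor
  · intro h x
    obtain ⟨h1, h2, h3⟩ := h (e x)
    simp only [Perm.mul_apply]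
    refine ⟨(he x _).2 (by simpa using h1), fun e' y hy => ?_, fun h4 => ?_⟩
    · have : g (e x) = e x := by
        have := congrArg e e'; simpa using this
      rw [h2 this _ ((he x y).1 hy)]; simp
    · rw [Perm.inv_def]; simp only [Equiv.apply_symm_apply]
      rw [h3 (hcard x ▸ h4)]; simp
  · intro h x
    obtain ⟨x, rfl⟩ := e.surjective x
    obtain ⟨h1, h2, h3⟩ := h x
    simp only [Perm.mul_apply] at h1 h2 h3
    refine ⟨by simpa using (he x _).1 h1, fun e' y hy => ?_, fun h4 => ?_⟩
    · obtain ⟨y, rfl⟩ := e.surjective y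
      have := h2 (by rw [e']; simp) y ((he x y).2 hy)
      rw [Perm.inv_def, Equiv.symm_apply_eq] at this
      exact this
    · have := h3 (by rw [hcard]; exact h4)
      rw [Perm.inv_def] at this
      simp only [Equiv.apply_symm_apply, Equiv.symm_apply_eq] at this
      exact this

/-- The Klein group as translations. -/
abbrev V4 := Multiplicative (ZMod 2 × ZMod 2)

theorem sign_V4 : ∀ v : V4, Perm.sign (Equiv.mulLeft v) = 1 := by decide
theorem sign_C3 : ∀ v : Multiplicative (ZMod 3), Perm.sign (Equiv.mulLeft v) = 1 := by decide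

theorem exists_large (k c : ℕ) : ∃ C : Subgroup (alternatingGroup (Fin (3 * k + 4 * c))),
    IsMulCommutative C ∧ Nat.card C = 3 ^ k * 4 ^ c := by
  let X := (Fin k × Multiplicative (ZMod 3)) ⊕ (Fin c × V4)
  let G := (Fin k → Multiplicative (ZMod 3)) × (Fin c → V4)
  let e : X ≃ Fin (3 * k + 4 * c) := Fintype.equivFinOfCardEq (by simp [X]; ring)
  let φ : G →* Perm X :=
    { toFun := fun z => Equiv.sumCongr (Equiv.prodCongrRight fun i => Equiv.mulLeft (z.1 i))
        (Equiv.prodCongrRight fun i => Equiv.mulLeft (z.2 i))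
      map_one' := by ext x; rcases x with ⟨i, v⟩ | ⟨i, v⟩ <;> simp
      map_mul' := fun a b => by
        refine Equiv.ext fun x => ?_
        rcases x with ⟨i, v⟩ | ⟨i, v⟩
        · exact congrArg (fun w => Sum.inl (i, w)) (mul_assoc (a.1 i) (b.1 i) v)
        · exact congrArg (fun w => Sum.inr (i, w)) (mul_assoc (a.2 i) (b.2 i) v) }
  have hφ : Function.Injective φ := fun a b h => Prod.ext
    (funext fun i => mul_right_cancel (congrArg Prod.snd (Sum.inl.inj (Equiv.congr_fun h (Sum.inl (i, 1))))))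
    (funext fun i => mul_right_cancel (congrArg Prod.snd (Sum.inr.inj (Equiv.congr_fun h (Sum.inr (i, 1))))))
  let ψ : G →* alternatingGroup (Fin (3 * k + 4 * c)) := (e.permCongrHom.toMonoidHom.comp φ).codRestrict _
    fun z => by
      rw [Equiv.Perm.mem_alternatingGroup]
      show Perm.sign (e.permCongr (φ z)) = 1
      rw [Perm.sign_permCongr]
      show Perm.sign (Equiv.sumCongr _ _) = 1
      rw [Perm.sign_sumCongr, Perm.sign_prodCongrRight, Perm.sign_prodCongrRight,
        Finset.prod_eq_one (fun i _ => sign_C3 _), Finset.prod_eq_one (fun i _ => sign_V4 _), one_mul]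
  have hψ : Function.Injective ψ := fun a b h =>
    hφ (e.permCongrHom.injective (congrArg Subtype.val h))
  refine ⟨ψ.range, ⟨⟨?_⟩⟩, ?_⟩
  · rintro ⟨_, a, rfl⟩ ⟨_, b, rfl⟩
    exact Subtype.ext (by show ψ a * ψ b = ψ b * ψ a; rw [← map_mul, ← map_mul, mul_comm a b])
  · rw [← Nat.card_congr (MonoidHom.ofInjective hψ).toEquiv, Nat.card_eq_fintype_card]
    simp [G]

theorem comm_map {m : ℕ} (D : Subgroup (alternatingGroup (Fin m))) (hD : IsMulCommutative D) :
    IsMulCommutative (D.map (alternatingGroup (Fin m)).subtype) := by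
  refine ⟨⟨fun u v => ?_⟩⟩
  obtain ⟨_, a, ha, rfl⟩ := u
  obtain ⟨_, b, hb, rfl⟩ := v
  exact Subtype.ext (congrArg (fun z : D => ((z : alternatingGroup (Fin m)) : Perm (Fin m)))
    (hD.is_comm.comm (⟨a, ha⟩ : D) ⟨b, hb⟩))

theorem five_facts : ∀ g : alternatingGroup (Fin 5), g ^ 2 = 1 ∨ g ^ 3 = 1 ∨ g ^ 5 = 1 := by
  decide +kernel

theorem conj_five (A B : Subgroup (alternatingGroup (Fin 5))) (hA : IsMulCommutative A) (hB : IsMulCommutative B)
    (hAmax : ∀ C : Subgroup (alternatingGroup (Fin 5)), IsMulCommutative C → Nat.card C ≤ Nat.card A)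
    (hBmax : ∀ C : Subgroup (alternatingGroup (Fin 5)), IsMulCommutative C → Nat.card C ≤ Nat.card B) :
    ∃ g : alternatingGroup (Fin 5), B = MulAut.conj g • A := by
  haveI : Fact (Nat.Prime 5) := ⟨by norm_num⟩
  have h60 : Nat.card (alternatingGroup (Fin 5)) = 60 := by
    rw [nat_card_alternatingGroup, Nat.card_fin]; rfl
  obtain ⟨x, hx⟩ := exists_prime_orderOf_dvd_card' (G := alternatingGroup (Fin 5)) 5 (by rw [h60]; norm_num)
  have h5 : ∀ C : Subgroup (alternatingGroup (Fin 5)), IsMulCommutative C →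
      (∀ D : Subgroup (alternatingGroup (Fin 5)), IsMulCommutative D → Nat.card D ≤ Nat.card C) →
      Nat.card C = 5 := by
    intro C hC hmax
    have hge : 5 ≤ Nat.card C := by
      have := hmax (Subgroup.zpowers x) inferInstance
      rwa [Nat.card_zpowers, hx] at this
    have hle : Nat.card C ≤ 6 := by
      have hC' := comm_map C hC
      have := S2505.card_le _ hC'
      rw [Subgroup.card_map_of_injective (alternatingGroup (Fin 5)).subtype_injective] at this
      exact this.trans_eq (by decide)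
    by_contra hne
    have h6 : Nat.card C = 6 := by omega
    haveI : Fact (Nat.Prime 3) := ⟨Nat.prime_three⟩
    haveI : Fact (Nat.Prime 2) := ⟨Nat.prime_two⟩
    obtain ⟨a, ha⟩ := exists_prime_orderOf_dvd_card' (G := C) 2 (by rw [h6]; norm_num)
    obtain ⟨b, hb⟩ := exists_prime_orderOf_dvd_card' (G := C) 3 (by rw [h6]; norm_num)
    have hab : orderOf (((a * b : C) : alternatingGroup (Fin 5))) = 6 := by
      rw [Subgroup.orderOf_coe, (show Commute a b from hC.is_comm.comm a b).orderOf_mul_eq_mul_orderOf_of_coprime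
        (by rw [ha, hb]; norm_num), ha, hb]
    rcases five_facts ((a * b : C) : alternatingGroup (Fin 5)) with e | e | e <;>
    · have := orderOf_dvd_of_pow_eq_one e
      rw [hab] at this; norm_num at this
  have hf : (60 : ℕ).factorization 5 = 1 := by
    rw [show (60 : ℕ) = 12 * 5 by norm_num, Nat.factorization_mul (by norm_num) (by norm_num),
      Finsupp.coe_add, Pi.add_apply, Nat.factorization_eq_zero_of_not_dvd (by norm_num),
      Nat.Prime.factorization_self (by norm_num)]
  let PA : Sylow 5 (alternatingGroup (Fin 5)) := Sylow.ofCard A (by rw [h5 A hA hAmax, h60, hf, pow_one])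
  let PB : Sylow 5 (alternatingGroup (Fin 5)) := Sylow.ofCard B (by rw [h5 B hB hBmax, h60, hf, pow_one])
  obtain ⟨g, hg⟩ := MulAction.exists_smul_eq (alternatingGroup (Fin 5)) PA PB
  exact ⟨g, (congrArg Sylow.toSubgroup hg).symm⟩


/-- In the alternating group of any degree, any two abelian subgroups of the largest possible order (among abelian subgroups) are conjugate. -/
theorem result (n : ℕ)
    (A B : Subgroup (alternatingGroup (Fin n))) (hA : IsMulCommutative A) (hB : IsMulCommutative B)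
    (hAmax : ∀ C : Subgroup (alternatingGroup (Fin n)), IsMulCommutative C → Nat.card C ≤ Nat.card A)
    (hBmax : ∀ C : Subgroup (alternatingGroup (Fin n)), IsMulCommutative C → Nat.card C ≤ Nat.card B) :
    ∃ g : alternatingGroup (Fin n), B = MulAut.conj g • A := by
  rcases Nat.lt_or_ge n 3 with h3 | h3
  · haveI : Subsingleton (alternatingGroup (Fin n)) := by
      interval_cases n <;> exact Finite.card_le_one_iff_subsingleton.1 (by rw [Nat.card_eq_fintype_card]; decide)
    exact ⟨1, Subsingleton.elim _ _⟩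
  by_cases h5 : n = 5
  · subst h5
    exact conj_five A B hA hB hAmax hBmax
  obtain ⟨k, c, hc, rfl⟩ : ∃ k c, c ≤ 2 ∧ n = 3 * k + 4 * c :=
    ⟨(n - 4 * (n % 3)) / 3, n % 3, by omega, by omega⟩
  obtain ⟨C, hC, hCc⟩ := exists_large k c
  have key : ∀ D : Subgroup (alternatingGroup (Fin (3 * k + 4 * c))), IsMulCommutative D →
      (∀ E : Subgroup (alternatingGroup (Fin (3 * k + 4 * c))), IsMulCommutative E → Nat.card E ≤ Nat.card D) →
      Extremal (D.map (alternatingGroup (Fin (3 * k + 4 * c))).subtype) c := by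
    intro D hD hmax
    refine extremal (comm_map D hD)
      (Subgroup.map_subtype_le D) hc rfl ?_
    rw [Subgroup.card_map_of_injective (alternatingGroup (Fin (3 * k + 4 * c))).subtype_injective, ← hCc]
    exact hmax C hC
  obtain ⟨e, hs, he⟩ := conj_extremal (key A hA hAmax) (key B hB hBmax) h3
  refine ⟨⟨e, Equiv.Perm.mem_alternatingGroup.2 hs⟩, ?_⟩
  ext x
  rw [Subgroup.mem_pointwise_smul_iff_inv_smul_mem]
  have := he (x : Equiv.Perm (Fin (3 * k + 4 * c)))
  simp only [Subgroup.mem_map, Subgroup.coe_subtype, SetLike.coe_eq_coe, exists_eq_right] at this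
  rw [this]
  constructor
  · rintro ⟨a, ha, hae⟩
    convert ha using 1
    apply Subtype.ext
    rw [hae]; simp [MulAut.smul_def]
  · intro h
    exact ⟨_, h, by simp [MulAut.smul_def]⟩

end Cfsg.Agent.S2506
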