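import Cfsg.Statements.S2510
import Cfsg.Agent.KnownSimple58.LinearSpectrum

set_option autoImplicit false
open Cfsg

namespace Cfsg.Agent.S2510

theorem lcm1 (a b c r : ℕ) : Nat.lcm (Nat.lcm a r) (Nat.lcm b c) = Nat.lcm (Nat.lcm a (Nat.lcm b c)) r := by ac_rfl
theorem lcm2 (a b c r : ℕ) : Nat.lcm a (Nat.lcm (Nat.lcm b r) c) = Nat.lcm (Nat.lcm a (Nat.lcm b c)) r := by ac_rfl
theorem lcm3 (a b c r : ℕ) : Nat.lcm a (Nat.lcm b (Nat.lcm c r)) = Nat.lcm (Nat.lcm a (Nat.lcm b c)) r := by ac_rfl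
theorem lcm4 (a b r : ℕ) : Nat.lcm (Nat.lcm a r) b = Nat.lcm (Nat.lcm a b) r := by ac_rfl
theorem lcm5 (a b r : ℕ) : Nat.lcm a (Nat.lcm b r) = Nat.lcm (Nat.lcm a b) r := by ac_rfl

open KS58 in
theorem key {F : Type*} [Field F] [Fintype F] {p a n r : ℕ} [Fact p.Prime] [CharP F p] (hF : Fintype.card F = p ^ a)
    (hn : 2 ≤ n) (hr : r.Prime) (hrq : r ∣ Fintype.card F - 1) (hrn : ¬ r ∣ n) :
    (∀ A B C : Matrix.ProjectiveSpecialLinearGroup (Fin n) F, ∃ x y z : Matrix.ProjectiveSpecialLinearGroup (Fin n) F,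
      Nat.lcm (orderOf x) (Nat.lcm (orderOf y) (orderOf z)) =
        Nat.lcm (Nat.lcm (orderOf A) (Nat.lcm (orderOf B) (orderOf C))) r) ∧
    ((¬ ∃ j : ℕ, n - 1 = p ^ j) → ∀ A B : Matrix.ProjectiveSpecialLinearGroup (Fin n) F,
      ∃ x y : Matrix.ProjectiveSpecialLinearGroup (Fin n) F,
      Nat.lcm (orderOf x) (orderOf y) = Nat.lcm (Nat.lcm (orderOf A) (orderOf B)) r) := by
  classical
  set P := Matrix.ProjectiveSpecialLinearGroup (Fin n) F
  set N0 := mN n F / zN n F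
  set Qn := Fintype.card F ^ n with hQn
  have hn0 : 0 < n := by omega
  have hp : p.Prime := Fact.out
  haveI : Nonempty F := ⟨0⟩
  -- an element that can absorb `r`, or an order dividing `Qn * N0`
  have hA : ∀ A : P, (∃ x : P, orderOf x = Nat.lcm (orderOf A) r) ∨ orderOf A ∣ Qn * N0 := by
    intro A
    obtain ⟨g, rfl⟩ := QuotientGroup.mk_surjective A
    rcases dichotomy hr hrq hrn hn0 g with ⟨u, hu, hu'⟩ | h
    · obtain ⟨x, -, hx⟩ := (hu.map (toPSL n F)).exists_orderOf_eq_lcm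
      exact Or.inl ⟨x, by rw [hx, hu']; rfl⟩
    · exact Or.inr (orderOf_dvd_of_pow_eq_one h)
  have hcop : N0.Coprime Qn := by
    refine Nat.Coprime.pow_right _ (Nat.Coprime.coprime_dvd_left (Nat.div_dvd_of_dvd (zN_dvd_mN n)) ?_)
    rw [mN, show n = n - 1 + 1 by omega, Finset.sum_range_succ', pow_zero]
    simp only [pow_succ, ← Finset.sum_mul]
    simp
  obtain ⟨s, hs⟩ := exists_psl_singer (F := F) hn0
  have hN0 : ∀ L, ∃ x : P, orderOf x = Nat.gcd L N0 := fun L =>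
    exists_orderOf_eq_of_dvd s ((Nat.gcd_dvd_right _ _).trans hs)
  obtain ⟨u, hu⟩ : ∃ u : P, orderOf u = r := by
    haveI := Fact.mk hr
    obtain ⟨e, he, h0, h1⟩ : ∃ e : Matrix (Fin n) (Fin n) F, e * e = e ∧ e ≠ 0 ∧ e ≠ 1 := by
      refine ⟨Matrix.diagonal fun i => if (i : ℕ) = 0 then 1 else 0, ?_, ?_, ?_⟩
      · rw [Matrix.diagonal_mul_diagonal]; congr 1; funext i; split <;> simp
      · intro h; simpa using congrFun (congrFun h ⟨0, hn0⟩) ⟨0, hn0⟩
      · intro h; simpa using congrFun (congrFun h ⟨1, by omega⟩) ⟨1, by omega⟩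
    obtain ⟨u, -, hu⟩ := exists_order_r_of_idempotent hr hrq hrn e he h0 h1
    exact ⟨_, hu⟩
  -- the `p`-part of a common multiple comes from one of the elements
  have hpp : ∀ L, L ∣ Qn * N0 → ∃ c, Nat.gcd L Qn = p ^ c ∧ L = Nat.lcm (Nat.gcd L N0) (p ^ c) := by
    intro L hL
    obtain ⟨c, -, hc⟩ := (Nat.dvd_prime_pow hp).mp
      (show Nat.gcd L Qn ∣ p ^ (a * n) by rw [pow_mul, ← hF]; exact Nat.gcd_dvd_right _ _)
    refine ⟨c, hc, ?_⟩
    rw [← hc, Nat.Coprime.lcm_eq_mul (hcop.coprime_dvd_left (Nat.gcd_dvd_right _ _) |>.coprime_dvd_right (Nat.gcd_dvd_right _ _)),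
      ← Nat.Coprime.gcd_mul _ hcop, Nat.mul_comm N0 Qn, Nat.gcd_eq_left hL]
  have hpow : ∀ (c : ℕ) (x y : ℕ), 0 < x → 0 < y → p ^ c ∣ Nat.lcm x y → p ^ c ∣ x ∨ p ^ c ∣ y := by
    intro c x y hx hy h
    rw [hp.pow_dvd_iff_le_factorization (Nat.lcm_ne_zero hx.ne' hy.ne'), Nat.factorization_lcm hx.ne' hy.ne',
      Finsupp.sup_apply, le_sup_iff] at h
    rcases h with h | h
    · exact Or.inl ((hp.pow_dvd_iff_le_factorization hx.ne').mpr h)
    · exact Or.inr ((hp.pow_dvd_iff_le_factorization hy.ne').mpr h)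
  constructor
  · intro A B C
    rcases hA A with ⟨x, hx⟩ | ha
    · exact ⟨x, B, C, by rw [hx]; exact lcm1 _ _ _ _⟩
    rcases hA B with ⟨x, hx⟩ | hb
    · exact ⟨A, x, C, by rw [hx]; exact lcm2 _ _ _ _⟩
    rcases hA C with ⟨x, hx⟩ | hc
    · exact ⟨A, B, x, by rw [hx]; exact lcm3 _ _ _ _⟩
    set L := Nat.lcm (orderOf A) (Nat.lcm (orderOf B) (orderOf C)) with hL
    obtain ⟨c, hc', hLeq⟩ := hpp L (Nat.lcm_dvd ha (Nat.lcm_dvd hb hc))
    obtain ⟨x, hx⟩ := hN0 L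
    have hcL : p ^ c ∣ L := hc' ▸ Nat.gcd_dvd_left _ _
    have : ∃ y : P, orderOf y = p ^ c := by
      rcases hpow c _ _ (orderOf_pos A) (Nat.pos_of_ne_zero (Nat.lcm_ne_zero (orderOf_pos B).ne' (orderOf_pos C).ne')) hcL with h | h
      · exact exists_orderOf_eq_of_dvd A h
      · rcases hpow c _ _ (orderOf_pos B) (orderOf_pos C) h with h | h
        · exact exists_orderOf_eq_of_dvd B h
        · exact exists_orderOf_eq_of_dvd C h
    obtain ⟨y, hy⟩ := this
    exact ⟨x, y, u, by rw [hx, hy, hu, ← Nat.lcm_assoc, ← hLeq]⟩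
  · intro hpj A B
    rcases hA A with ⟨x, hx⟩ | ha
    · exact ⟨x, B, by rw [hx]; exact lcm4 _ _ _⟩
    rcases hA B with ⟨x, hx⟩ | hb
    · exact ⟨A, x, by rw [hx]; exact lcm5 _ _ _⟩
    set L := Nat.lcm (orderOf A) (orderOf B) with hL
    obtain ⟨c, hc', hLeq⟩ := hpp L (Nat.lcm_dvd ha hb)
    obtain ⟨x, hx⟩ := hN0 L
    have : ∃ y : P, orderOf y = Nat.lcm (p ^ c) r := by
      rcases Nat.eq_zero_or_pos c with rfl | hc0
      · exact ⟨u, by rw [hu, pow_zero, Nat.lcm_one_left]⟩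
      obtain ⟨d, rfl⟩ : ∃ d, c = d + 1 := ⟨c - 1, by omega⟩
      obtain ⟨A', hA'⟩ : ∃ A' : P, p ^ (d + 1) ∣ orderOf A' := by
        rcases hpow (d + 1) _ _ (orderOf_pos A) (orderOf_pos B) (hc' ▸ Nat.gcd_dvd_left _ _) with h | h
        · exact ⟨A, h⟩
        · exact ⟨B, h⟩
      obtain ⟨g, rfl⟩ := QuotientGroup.mk_surjective A'
      set e := Nat.clog p n
      let M := ∏ d ∈ Finset.Icc 1 n, (Fintype.card F ^ d - 1)
      have hg := gl_pow_eq_one (p := p) (Matrix.SpecialLinearGroup.toGL g) (M := M) (e := e)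
        (Nat.le_pow_clog hp.one_lt n) (fun d h1 h2 => Finset.dvd_prod_of_mem _ (Finset.mem_Icc.mpr ⟨h1, h2⟩))
      rw [← map_pow, ← map_one Matrix.SpecialLinearGroup.toGL] at hg
      have h1 : p ^ (d + 1) ∣ M * p ^ e := (hA'.trans (orderOf_map_dvd (toPSL n F) g)).trans
        (orderOf_dvd_of_pow_eq_one (Matrix.SpecialLinearGroup.toGL_injective hg))
      have hcp : (p ^ (d + 1)).Coprime M := by
        refine Nat.Coprime.pow_left _ (Nat.Coprime.prod_right fun j hj => ?_)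
        rw [Finset.mem_Icc] at hj
        rw [hp.coprime_iff_not_dvd]
        intro h
        have h2 : p ∣ Fintype.card F ^ j := (hF ▸ dvd_pow_self p (by
          rintro rfl
          have := Fintype.one_lt_card (α := F)
          rw [hF, pow_zero] at this
          omega) : p ∣ Fintype.card F).trans (dvd_pow_self _ (by omega))
        have : 1 ≤ Fintype.card F ^ j := Nat.one_le_pow _ _ Fintype.card_pos
        have h3 := Nat.dvd_sub h2 h
        rw [show Fintype.card F ^ j - (Fintype.card F ^ j - 1) = 1 by omega] at h3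
        exact hp.not_dvd_one h3
      have h2 : d + 1 ≤ e := (Nat.pow_dvd_pow_iff_le_right hp.one_lt).mp (hcp.dvd_of_dvd_mul_left h1)
      have h3 : p ^ d < n := lt_of_le_of_lt (Nat.pow_le_pow_right hp.pos (by omega : d ≤ e - 1))
        (Nat.pow_pred_clog_lt_self hp.one_lt (by omega))
      have h4 : p ^ d ≠ n - 1 := fun h => hpj ⟨d, h.symm⟩
      obtain ⟨g', u', hg', hu', hcomm⟩ := exists_psl_unipotent_r (F := F) (p := p) (e := d) hr hrq hrn (by omega)
      obtain ⟨y, -, hy⟩ := hcomm.exists_orderOf_eq_lcm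
      exact ⟨y, by rw [hy, hg', hu']⟩
    obtain ⟨y, hy⟩ := this
    exact ⟨x, y, by rw [hx, hy, ← Nat.lcm_assoc, ← hLeq]⟩


/-- Let F be a finite field with q = p^a elements, n ≥ 2 (with q ≥ 4 when n = 2), L = PSL(n, F), and let r be a prime dividing q − 1 and not dividing n. Then for every m the direct product L × L × L × (ℤ/r)^m has the same set of element orders as L × L × L; and if n − 1 ≠ p^j for every j ≥ 0 (so never when n = 2, since 1 = p^0), then already L × L × (ℤ/r)^m has the same set of element orders as L × L. -/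
theorem result {F : Type*} [Field F] [Fintype F] (p a n r m : ℕ) (hp : p.Prime) (ha : 1 ≤ a) (hF : Fintype.card F = p ^ a)
    (hn : 2 ≤ n) (hn2 : n = 2 → 4 ≤ Fintype.card F) (hr : r.Prime) (hrq : r ∣ Fintype.card F - 1) (hrn : ¬ r ∣ n) :
    Set.range (orderOf : Matrix.ProjectiveSpecialLinearGroup (Fin n) F × Matrix.ProjectiveSpecialLinearGroup (Fin n) F × Matrix.ProjectiveSpecialLinearGroup (Fin n) F × Multiplicative (Fin m → ZMod r) → ℕ) =
      Set.range (orderOf : Matrix.ProjectiveSpecialLinearGroup (Fin n) F × Matrix.ProjectiveSpecialLinearGroup (Fin n) F × Matrix.ProjectiveSpecialLinearGroup (Fin n) F → ℕ) ∧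
    ((¬ ∃ j : ℕ, n - 1 = p ^ j) →
      Set.range (orderOf : Matrix.ProjectiveSpecialLinearGroup (Fin n) F × Matrix.ProjectiveSpecialLinearGroup (Fin n) F × Multiplicative (Fin m → ZMod r) → ℕ) =
        Set.range (orderOf : Matrix.ProjectiveSpecialLinearGroup (Fin n) F × Matrix.ProjectiveSpecialLinearGroup (Fin n) F → ℕ)) := by
  haveI := Fact.mk hp
  haveI : CharP F p := charP_of_card_eq_prime_pow (f := a) hF
  obtain ⟨h3, h2⟩ := key hF hn hr hrq hrn
  have hv : ∀ v : Multiplicative (Fin m → ZMod r), orderOf v = 1 ∨ orderOf v = r := by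
    intro v
    refine (Nat.dvd_prime hr).mp (orderOf_dvd_of_pow_eq_one ?_)
    apply Multiplicative.toAdd.injective
    funext i
    simp
  refine ⟨Set.Subset.antisymm ?_ ?_, fun hpj => Set.Subset.antisymm ?_ ?_⟩
  · rintro _ ⟨⟨A, B, C, v⟩, rfl⟩
    simp only [Prod.orderOf_mk]
    rcases hv v with h | h
    · exact ⟨(A, B, C), by rw [h]; simp [Prod.orderOf_mk]⟩
    · obtain ⟨x, y, z, hxyz⟩ := h3 A B C
      exact ⟨(x, y, z), by rw [h, Prod.orderOf_mk, Prod.orderOf_mk, hxyz]; ac_rfl⟩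
  · rintro _ ⟨⟨A, B, C⟩, rfl⟩
    exact ⟨(A, B, C, 1), by simp [Prod.orderOf_mk]⟩
  · rintro _ ⟨⟨A, B, v⟩, rfl⟩
    simp only [Prod.orderOf_mk]
    rcases hv v with h | h
    · exact ⟨(A, B), by rw [h]; simp [Prod.orderOf_mk]⟩
    · obtain ⟨x, y, hxy⟩ := h2 hpj A B
      exact ⟨(x, y), by rw [h, Prod.orderOf_mk, hxy]; ac_rfl⟩
  · rintro _ ⟨⟨A, B⟩, rfl⟩
    exact ⟨(A, B, 1), by simp [Prod.orderOf_mk]⟩

end Cfsg.Agent.S2510
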