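import Cfsg.Statements.S2511
import Cfsg.Agent.KnownSimple58.UnitaryElements

set_option autoImplicit false
open Cfsg

namespace Cfsg.Agent.S2511

theorem lcm1 (a b c r : ℕ) : Nat.lcm (Nat.lcm a r) (Nat.lcm b c) = Nat.lcm (Nat.lcm a (Nat.lcm b c)) r := by ac_rfl
theorem lcm2 (a b c r : ℕ) : Nat.lcm a (Nat.lcm (Nat.lcm b r) c) = Nat.lcm (Nat.lcm a (Nat.lcm b c)) r := by ac_rfl
theorem lcm3 (a b c r : ℕ) : Nat.lcm a (Nat.lcm b (Nat.lcm c r)) = Nat.lcm (Nat.lcm a (Nat.lcm b c)) r := by ac_rfl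
theorem lcm4 (a b r : ℕ) : Nat.lcm (Nat.lcm a r) b = Nat.lcm (Nat.lcm a b) r := by ac_rfl
theorem lcm5 (a b r : ℕ) : Nat.lcm a (Nat.lcm b r) = Nat.lcm (Nat.lcm a b) r := by ac_rfl

open KS58 in
theorem key {F : Type*} [Field F] [Fintype F] {p n q r : ℕ} [Fact p.Prime] [CharP F p] (hK : Fintype.card F = q ^ 2)
    (hpq : p ∣ q) (hn : 3 ≤ n) (hr : r.Prime) (hrq : r ∣ q + 1) (hrn : ¬ r ∣ n) :
    (∀ A B C : Cfsg.PSU n F q, ∃ x y z : Cfsg.PSU n F q,
      Nat.lcm (orderOf x) (Nat.lcm (orderOf y) (orderOf z)) =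
        Nat.lcm (Nat.lcm (orderOf A) (Nat.lcm (orderOf B) (orderOf C))) r) ∧
    ((¬ ∃ j : ℕ, n - 1 = p ^ j) → ∀ A B : Cfsg.PSU n F q,
      ∃ x y : Cfsg.PSU n F q, Nat.lcm (orderOf x) (orderOf y) = Nat.lcm (Nat.lcm (orderOf A) (orderOf B)) r) := by
  classical
  letI : StarRing F := Forms59.starRingOfCard hK
  have hs : ∀ x : F, star x = x ^ q := fun x => rfl
  have hp : p.Prime := Fact.out
  set e := Nat.clog p n
  set Qn := p ^ e with hQn
  set N0 := (SUDi.sM n q).natAbs / SUDi.zU n q with hN0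
  have hq0 : 0 < q := by have := (Forms59.card_sq_facts hK).2.2.1; omega
  have hcop : N0.Coprime Qn := by
    refine Nat.Coprime.pow_right _ (Nat.Coprime.coprime_dvd_left (Nat.div_dvd_of_dvd (SUDi.zU_dvd_sM n q)) ?_)
    rw [Nat.coprime_comm, hp.coprime_iff_not_dvd]
    intro h
    have h1 : p ∣ q ^ n := hpq.trans (dvd_pow_self _ (by omega))
    rcases Nat.even_or_odd n with hev | hod
    · have h2 := SUEl.sM_even (q := q) hev hq0
      have h3 := Nat.dvd_sub h1 (h.trans (Dvd.intro _ h2))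
      rw [show q ^ n - (q ^ n - 1) = 1 by have := Nat.one_le_pow n q hq0; omega] at h3
      exact hp.not_dvd_one h3
    · have h2 := SUEl.sM_odd (q := q) hod
      exact hp.not_dvd_one ((Nat.dvd_add_right h1).mp (h.trans (Dvd.intro _ h2)))
  have hA : ∀ A : Cfsg.PSU n F q, (∃ x : Cfsg.PSU n F q, orderOf x = Nat.lcm (orderOf A) r) ∨ orderOf A ∣ Qn * N0 := by
    intro A
    obtain ⟨g, hg⟩ := QuotientGroup.mk_surjective A
    have hgA : SUDi.proj g = A := hg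
    rcases SUDi.dichotomy (p := p) hK hs (by omega) hr hrq hrn g with ⟨u, hu, hu'⟩ | h
    · obtain ⟨x, -, hx⟩ := (hu.map (SUDi.proj (F := F) (n := n) (q := q))).exists_orderOf_eq_lcm
      exact Or.inl ⟨x, by rw [hx, hu', hgA]⟩
    · rw [hgA] at h
      exact Or.inr (orderOf_dvd_of_pow_eq_one h)
  obtain ⟨s, hs'⟩ := SUEl.exists_psu_singer hK hs (show 2 ≤ n by omega)
  have hN0' : ∀ L, ∃ x : Cfsg.PSU n F q, orderOf x = Nat.gcd L N0 := fun L =>
    exists_orderOf_eq_of_dvd s ((Nat.gcd_dvd_right _ _).trans hs')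
  obtain ⟨-, u, -, -, -, hu, -⟩ := SUEl.exists_psu_unipotent_r (p := p) hK hs (n := n) (d := 0) hr hrq hrn (by rw [pow_zero]; omega)
  have hpp : ∀ L, L ∣ Qn * N0 → ∃ c ≤ e, Nat.gcd L Qn = p ^ c ∧ L = Nat.lcm (Nat.gcd L N0) (p ^ c) := by
    intro L hL
    obtain ⟨c, hce, hc⟩ := (Nat.dvd_prime_pow hp).mp (Nat.gcd_dvd_right L Qn)
    refine ⟨c, hce, hc, ?_⟩
    rw [← hc, Nat.Coprime.lcm_eq_mul (hcop.coprime_dvd_left (Nat.gcd_dvd_right _ _) |>.coprime_dvd_right (Nat.gcd_dvd_right _ _)),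
      ← Nat.Coprime.gcd_mul _ hcop, Nat.mul_comm N0 Qn, Nat.gcd_eq_left hL]
  have hpow : ∀ (c : ℕ) (x y : ℕ), 0 < x → 0 < y → p ^ c ∣ Nat.lcm x y → p ^ c ∣ x ∨ p ^ c ∣ y := by
    intro c x y hx hy h
    rw [hp.pow_dvd_iff_le_factorization (Nat.lcm_ne_zero hx.ne' hy.ne'), Nat.factorization_lcm hx.ne' hy.ne',
      Finsupp.sup_apply, le_sup_iff] at h
    rcases h with h | h
    · exact Or.inl ((hp.pow_dvd_iff_le_factorization hx.ne').mpr h)
    · exact Or.inr ((hp.pow_dvd_iff_le_factorization hy.ne').mpr h)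
  constructor
  · intro A B C
    rcases hA A with ⟨x, hx⟩ | ha
    · exact ⟨x, B, C, by rw [hx]; exact lcm1 _ _ _ _⟩
    rcases hA B with ⟨x, hx⟩ | hb
    · exact ⟨A, x, C, by rw [hx]; exact lcm2 _ _ _ _⟩
    rcases hA C with ⟨x, hx⟩ | hc
    · exact ⟨A, B, x, by rw [hx]; exact lcm3 _ _ _ _⟩
    set L := Nat.lcm (orderOf A) (Nat.lcm (orderOf B) (orderOf C)) with hL
    obtain ⟨c, -, hc', hLeq⟩ := hpp L (Nat.lcm_dvd ha (Nat.lcm_dvd hb hc))
    obtain ⟨x, hx⟩ := hN0' L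
    have hcL : p ^ c ∣ L := hc' ▸ Nat.gcd_dvd_left _ _
    have : ∃ y : Cfsg.PSU n F q, orderOf y = p ^ c := by
      rcases hpow c _ _ (orderOf_pos A) (Nat.pos_of_ne_zero (Nat.lcm_ne_zero (orderOf_pos B).ne' (orderOf_pos C).ne')) hcL with h | h
      · exact exists_orderOf_eq_of_dvd A h
      · rcases hpow c _ _ (orderOf_pos B) (orderOf_pos C) h with h | h
        · exact exists_orderOf_eq_of_dvd B h
        · exact exists_orderOf_eq_of_dvd C h
    obtain ⟨y, hy⟩ := this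
    exact ⟨x, y, u, by rw [hx, hy, hu, ← Nat.lcm_assoc, ← hLeq]⟩
  · intro hpj A B
    rcases hA A with ⟨x, hx⟩ | ha
    · exact ⟨x, B, by rw [hx]; exact lcm4 _ _ _⟩
    rcases hA B with ⟨x, hx⟩ | hb
    · exact ⟨A, x, by rw [hx]; exact lcm5 _ _ _⟩
    set L := Nat.lcm (orderOf A) (orderOf B) with hL
    obtain ⟨c, hce, hc', hLeq⟩ := hpp L (Nat.lcm_dvd ha hb)
    obtain ⟨x, hx⟩ := hN0' L
    have : ∃ y : Cfsg.PSU n F q, orderOf y = Nat.lcm (p ^ c) r := by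
      rcases Nat.eq_zero_or_pos c with rfl | hc0
      · exact ⟨u, by rw [hu, pow_zero, Nat.lcm_one_left]⟩
      have h3 : p ^ (c - 1) < n := lt_of_le_of_lt (Nat.pow_le_pow_right hp.pos (by simp only [Nat.pred_eq_sub_one]; omega))
        (Nat.pow_pred_clog_lt_self hp.one_lt (by omega))
      have h4 : p ^ (c - 1) ≠ n - 1 := fun h => hpj ⟨c - 1, h.symm⟩
      obtain ⟨g', u', c', hg', hc1, hu', hcomm⟩ :=
        SUEl.exists_psu_unipotent_r (p := p) hK hs (n := n) (d := c - 1) hr hrq hrn (by omega)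
      have hdvd : p ^ c ∣ orderOf g' := hg' ▸ pow_dvd_pow p (by omega)
      obtain ⟨y, -, hy⟩ := (hcomm.pow_left (orderOf g' / p ^ c)).exists_orderOf_eq_lcm
      exact ⟨y, by rw [hy, hu', orderOf_pow_orderOf_div (orderOf_pos g').ne' hdvd]⟩
    obtain ⟨y, hy⟩ := this
    exact ⟨x, y, by rw [hx, hy, ← Nat.lcm_assoc, ← hLeq]⟩


/-- Let F be a finite field with q² elements, q = p^a, n ≥ 3 with (n, q) ≠ (3, 2), L = PSU(n, q) realised over F, and let r be a prime dividing q + 1 and not dividing n. Then for every m the direct product L × L × L × (ℤ/r)^m has the same set of element orders as L × L × L; and if n − 1 is not a power of p, then already L × L × (ℤ/r)^m has the same set of element orders as L × L. -/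
theorem result {F : Type*} [Field F] [Fintype F] (p a n q r m : ℕ) (hp : p.Prime) (ha : 1 ≤ a) (hq : q = p ^ a) (hF : Fintype.card F = q ^ 2)
    (hn : 3 ≤ n) (hn3 : ¬ (n = 3 ∧ q = 2)) (hr : r.Prime) (hrq : r ∣ q + 1) (hrn : ¬ r ∣ n) :
    Set.range (orderOf : Cfsg.PSU n F q × Cfsg.PSU n F q × Cfsg.PSU n F q × Multiplicative (Fin m → ZMod r) → ℕ) = Set.range (orderOf : Cfsg.PSU n F q × Cfsg.PSU n F q × Cfsg.PSU n F q → ℕ) ∧
    ((¬ ∃ j : ℕ, n - 1 = p ^ j) →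
      Set.range (orderOf : Cfsg.PSU n F q × Cfsg.PSU n F q × Multiplicative (Fin m → ZMod r) → ℕ) = Set.range (orderOf : Cfsg.PSU n F q × Cfsg.PSU n F q → ℕ)) := by
  haveI := Fact.mk hp
  haveI : CharP F p := charP_of_card_eq_prime_pow (f := a * 2) (by rw [hF, hq, ← pow_mul])
  obtain ⟨h3, h2⟩ := key hF (hq ▸ dvd_pow_self p (by omega)) hn hr hrq hrn
  have hv : ∀ v : Multiplicative (Fin m → ZMod r), orderOf v = 1 ∨ orderOf v = r := by
    intro v
    refine (Nat.dvd_prime hr).mp (orderOf_dvd_of_pow_eq_one ?_)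
    apply Multiplicative.toAdd.injective
    funext i
    simp
  refine ⟨Set.Subset.antisymm ?_ ?_, fun hpj => Set.Subset.antisymm ?_ ?_⟩
  · rintro _ ⟨⟨A, B, C, v⟩, rfl⟩
    simp only [Prod.orderOf_mk]
    rcases hv v with h | h
    · exact ⟨(A, B, C), by rw [h]; simp [Prod.orderOf_mk]⟩
    · obtain ⟨x, y, z, hxyz⟩ := h3 A B C
      exact ⟨(x, y, z), by rw [h, Prod.orderOf_mk, Prod.orderOf_mk, hxyz]; ac_rfl⟩
  · rintro _ ⟨⟨A, B, C⟩, rfl⟩
    exact ⟨(A, B, C, 1), by simp [Prod.orderOf_mk]⟩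
  · rintro _ ⟨⟨A, B, v⟩, rfl⟩
    simp only [Prod.orderOf_mk]
    rcases hv v with h | h
    · exact ⟨(A, B), by rw [h]; simp [Prod.orderOf_mk]⟩
    · obtain ⟨x, y, hxy⟩ := h2 hpj A B
      exact ⟨(x, y), by rw [h, Prod.orderOf_mk, hxy]; ac_rfl⟩
  · rintro _ ⟨⟨A, B⟩, rfl⟩
    exact ⟨(A, B, 1), by simp [Prod.orderOf_mk]⟩

end Cfsg.Agent.S2511
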