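import Cfsg.Statements.S2512
import Cfsg.Agent.KnownSimple58.SpElements
import Cfsg.Agent.KnownSimple58.SpDichotomy

set_option autoImplicit false
open Cfsg

namespace Cfsg.Agent.S2512

open Cfsg.Agent.Symplectic Cfsg.Agent.KS58

variable {F : Type*} [Field F]

/-- The projection. -/
noncomputable abbrev proj (n : ℕ) (F : Type*) [Field F] : Sp n F →* Cfsg.PSp n F :=
  QuotientGroup.mk' (Subgroup.center (Sp n F))

theorem proj_eq_one {n : ℕ} (x : Sp n F) : proj n F x = 1 ↔ x = 1 ∨ x = negOne := by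
  rw [QuotientGroup.mk'_apply, QuotientGroup.eq_one_iff, mem_center_iff]

theorem negOne_mul_self {n : ℕ} : (negOne : Sp n F) * negOne = 1 :=
  eq_of_smul_eq fun v => by rw [mul_smul, negOne_smul, negOne_smul, neg_neg, one_smul]

theorem negOne_ne_one {n : ℕ} (h2 : (2 : F) ≠ 0) (hn : 0 < n) : (negOne : Sp n F) ≠ 1 := by
  intro h
  have := congrArg (fun g : Sp n F => (g • (fun _ => (1 : F) : Vec n F)) (Sum.inl ⟨0, hn⟩)) h
  simp [negOne_smul] at this
  exact h2 (by linear_combination -this)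

theorem commute_negOne {n : ℕ} (u : Sp n F) : Commute (negOne : Sp n F) u :=
  (Subgroup.mem_center_iff.mp (mem_center_iff.mpr (Or.inr rfl)) u).symm

/-- An element of order `lcm 2 (s p^c)`. -/
theorem mixed [Fintype F] {p : ℕ} [Fact p.Prime] [CharP F p] (h2 : (2 : F) ≠ 0) (hpo : Odd p) {a b n : ℕ}
    (hab : a + b = n) (ha : 1 ≤ a) (hb : 1 ≤ b) {s c : ℕ} (hs : Odd s)
    (hsd : s ∣ Fintype.card F ^ a + 1 ∨ s ∣ Fintype.card F ^ a - 1) (hsp : s.Coprime p)
    (hc : c = 0 ∨ p ^ (c - 1) < 2 * b) :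
    ∃ x : Cfsg.PSp n F, orderOf x = Nat.lcm 2 (s * p ^ c) := by
  classical
  subst hab
  obtain ⟨z, hz⟩ : ∃ z : Sp a F, orderOf z = s := by
    obtain ⟨⟨z1, hz1⟩, z2, hz2⟩ := SpEl.exists_sp_torus (F := F) ha
    rcases hsd with h | h
    · exact exists_orderOf_eq_of_dvd z2 (hz2 ▸ h)
    · exact exists_orderOf_eq_of_dvd z1 (hz1 ▸ h)
  obtain ⟨u, hu⟩ : ∃ u : Sp b F, orderOf u = p ^ c := by
    rcases Nat.eq_zero_or_pos c with rfl | hc0
    · exact ⟨1, by simp⟩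
    obtain ⟨u, c', hu, hc'⟩ := SpEl.exists_sp_unipotent (F := F) (b := b) (p := p) h2 (hc.resolve_left (by omega))
    exact exists_orderOf_eq_of_dvd u (hu ▸ pow_dvd_pow p (by omega))
  have h2o : orderOf (negOne : Sp b F) = 2 := orderOf_eq_prime (by rw [sq, negOne_mul_self]) (negOne_ne_one h2 hb)
  have hcop : Nat.Coprime 2 (p ^ c) := Nat.coprime_two_left.mpr (hpo.pow)
  have hv : orderOf ((negOne : Sp b F) * u) = 2 * p ^ c := by
    rw [(commute_negOne u).orderOf_mul_eq_mul_orderOf_of_coprime (by rwa [h2o, hu]), h2o, hu]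
  have hcop' : Nat.Coprime s (2 * p ^ c) :=
    Nat.Coprime.mul_right (Nat.coprime_two_right.mpr hs) (hsp.pow_right c)
  refine ⟨proj _ F (SpEl.blockSum (z, negOne * u)), ?_⟩
  have hlcm : Nat.lcm 2 (s * p ^ c) = s * (2 * p ^ c) := by
    rw [(Nat.Coprime.mul_right (Nat.coprime_two_left.mpr hs) hcop).lcm_eq_mul]; ring
  rw [hlcm, ← hcop'.lcm_eq_mul, ← hz, ← hv, ← Prod.orderOf_mk, orderOf_eq_orderOf_iff]
  intro j
  rw [← map_pow, proj_eq_one, ← map_pow]
  constructor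
  · rintro (h | h)
    · exact SpEl.blockSum_injective (by rw [h, map_one])
    · exfalso
      rw [← SpEl.blockSum_negOne] at h
      have h1 : z ^ j = negOne := congrArg Prod.fst (SpEl.blockSum_injective h)
      have h3 : (negOne : Sp a F) ^ s = 1 := by rw [← h1, ← pow_mul, mul_comm, pow_mul, ← hz, pow_orderOf_eq_one, one_pow]
      obtain ⟨r, rfl⟩ := hs
      rw [pow_succ, pow_mul, sq, negOne_mul_self, one_pow, one_mul] at h3
      exact negOne_ne_one h2 ha h3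
  · intro h
    exact Or.inl (by rw [h, map_one])

/-- A torus element of `PSp`. -/
theorem torus [Fintype F] {n N : ℕ} (hn : 1 ≤ n)
    (hN : 2 * N = Fintype.card F ^ n + 1 ∨ 2 * N = Fintype.card F ^ n - 1) {D : ℕ} (hD : D ∣ N) :
    ∃ x : Cfsg.PSp n F, orderOf x = D := by
  classical
  obtain ⟨z, hz⟩ : ∃ z : Sp n F, orderOf z = 2 * N := by
    obtain ⟨⟨z1, hz1⟩, z2, hz2⟩ := SpEl.exists_sp_torus (F := F) hn
    rcases hN with h | h
    · exact ⟨z2, by rw [hz2, h]⟩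
    · exact ⟨z1, by rw [hz1, h]⟩
  have h : (z ^ orderOf (proj n F z)) ^ 2 = 1 := by
    rcases (proj_eq_one _).mp ((map_pow (proj n F) z _).trans (pow_orderOf_eq_one (proj n F z))) with h | h
    · rw [h, one_pow]
    · rw [h, sq, negOne_mul_self]
  rw [← pow_mul] at h
  have h' := orderOf_dvd_of_pow_eq_one h
  rw [hz, Nat.mul_comm (orderOf (proj n F z)) 2] at h'
  exact exists_orderOf_eq_of_dvd _ (hD.trans (Nat.dvd_of_mul_dvd_mul_left (by norm_num) h'))

theorem lcm1 (a b c r : ℕ) : Nat.lcm (Nat.lcm a r) (Nat.lcm b c) = Nat.lcm (Nat.lcm a (Nat.lcm b c)) r := by ac_rfl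
theorem lcm2 (a b c r : ℕ) : Nat.lcm a (Nat.lcm (Nat.lcm b r) c) = Nat.lcm (Nat.lcm a (Nat.lcm b c)) r := by ac_rfl
theorem lcm3 (a b c r : ℕ) : Nat.lcm a (Nat.lcm b (Nat.lcm c r)) = Nat.lcm (Nat.lcm a (Nat.lcm b c)) r := by ac_rfl
theorem lcm4 (a b r : ℕ) : Nat.lcm (Nat.lcm a r) b = Nat.lcm (Nat.lcm a b) r := by ac_rfl
theorem lcm5 (a b r : ℕ) : Nat.lcm a (Nat.lcm b r) = Nat.lcm (Nat.lcm a b) r := by ac_rfl

theorem key [Fintype F] {p a n : ℕ} [Fact p.Prime] [CharP F p] (hF : Fintype.card F = p ^ a) (ha : 1 ≤ a)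
    (hodd : Odd (Fintype.card F)) (hn : 2 ≤ n) :
    (∀ A B C : Cfsg.PSp n F, ∃ x y z : Cfsg.PSp n F, Nat.lcm (orderOf x) (Nat.lcm (orderOf y) (orderOf z)) =
      Nat.lcm (Nat.lcm (orderOf A) (Nat.lcm (orderOf B) (orderOf C))) 2) ∧
    ((¬ ∃ j : ℕ, 2 * n - 1 = p ^ j) → ∀ A B : Cfsg.PSp n F, ∃ x y : Cfsg.PSp n F,
      Nat.lcm (orderOf x) (orderOf y) = Nat.lcm (Nat.lcm (orderOf A) (orderOf B)) 2) := by
  classical
  set q := Fintype.card F with hqdef
  have hp : p.Prime := Fact.out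
  have hpo : Odd p := by
    rw [hF, Nat.odd_pow_iff (by omega)] at hodd; exact hodd
  have hp3 : 3 ≤ p := by have := hp.two_le; obtain ⟨r, hr⟩ := hpo; omega
  have h2 : (2 : F) ≠ 0 := by
    intro h
    have := (CharP.cast_eq_zero_iff F p 2).mp (by exact_mod_cast h)
    have := Nat.le_of_dvd (by norm_num) this
    omega
  have hpq : p ∣ q := hF ▸ dvd_pow_self p (by omega)
  have hqn : Odd (q ^ n) := hodd.pow
  have hqd : ∀ d, 1 ≤ d → (q ^ d + 1).Coprime p ∧ (q ^ d - 1).Coprime p := by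
    intro d hd
    have h1 : p ∣ q ^ d := hpq.trans (dvd_pow_self _ (by omega))
    have h0 : 1 ≤ q ^ d := Nat.one_le_pow _ _ Fintype.card_pos
    constructor
    · rw [Nat.coprime_comm, hp.coprime_iff_not_dvd]
      intro h
      exact hp.not_dvd_one ((Nat.dvd_add_right h1).mp h)
    · rw [Nat.coprime_comm, hp.coprime_iff_not_dvd]
      intro h
      have := Nat.dvd_sub h1 h
      rw [show q ^ d - (q ^ d - 1) = 1 by omega] at this
      exact hp.not_dvd_one this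
  obtain ⟨Ne, No, hNe, hNo, hNeE, hNS⟩ : ∃ Ne No : ℕ, (2 * Ne = q ^ n + 1 ∨ 2 * Ne = q ^ n - 1) ∧
      (2 * No = q ^ n + 1 ∨ 2 * No = q ^ n - 1) ∧ 2 ∣ Ne ∧
      (Ne + 1 = No ∧ 2 * Ne = q ^ n - 1 ∨ No + 1 = Ne ∧ 2 * Ne = q ^ n + 1) := by
    obtain ⟨r, hr⟩ := hqn
    rcases Nat.even_or_odd r with hr2 | hr2
    · exact ⟨r, r + 1, Or.inr (by omega), Or.inl (by omega), hr2.two_dvd, Or.inl ⟨rfl, by omega⟩⟩
    · exact ⟨r + 1, r, Or.inl (by omega), Or.inr (by omega), hr2.add_one.two_dvd, Or.inr ⟨rfl, by omega⟩⟩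
  have hcopN : Ne.Coprime No := by
    rcases hNS with ⟨h, -⟩ | ⟨h, -⟩
    · rw [← h]; simp
    · rw [← h]; simp
  have hcopP : ∀ C, (Ne * No).Coprime (p ^ C) := by
    intro C
    refine Nat.Coprime.pow_right _ (Nat.Coprime.mul_left ?_ ?_)
    · rcases hNe with h | h
      · exact Nat.Coprime.coprime_dvd_left (Dvd.intro_left 2 h) (hqd n (by omega)).1
      · exact Nat.Coprime.coprime_dvd_left (Dvd.intro_left 2 h) (hqd n (by omega)).2
    · rcases hNo with h | h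
      · exact Nat.Coprime.coprime_dvd_left (Dvd.intro_left 2 h) (hqd n (by omega)).1
      · exact Nat.Coprime.coprime_dvd_left (Dvd.intro_left 2 h) (hqd n (by omega)).2
  have hoddX : ∀ s, Odd s → (s ∣ q ^ n + 1 ∨ s ∣ q ^ n - 1) → s ∣ Ne ∨ s ∣ No := by
    intro s hs h
    have hc : s.Coprime 2 := Nat.coprime_two_right.mpr hs
    rcases h with h | h
    · rcases hNS with ⟨h1, h2'⟩ | ⟨h1, h2'⟩
      · exact Or.inr (hc.dvd_of_dvd_mul_left (by
          rwa [show 2 * No = q ^ n + 1 by have := Nat.one_le_pow n q Fintype.card_pos; omega]))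
      · exact Or.inl (hc.dvd_of_dvd_mul_left (h2' ▸ h))
    · rcases hNS with ⟨h1, h2'⟩ | ⟨h1, h2'⟩
      · exact Or.inl (hc.dvd_of_dvd_mul_left (h2' ▸ h))
      · exact Or.inr (hc.dvd_of_dvd_mul_left (by rwa [show 2 * No = q ^ n - 1 by omega]))
  have hA : ∀ A : Cfsg.PSp n F, (∃ x : Cfsg.PSp n F, orderOf x = Nat.lcm (orderOf A) 2) ∨
      (orderOf A ∣ Ne ∨ orderOf A ∣ No) ∨ ∃ c, orderOf A = p ^ c ∧ (c = 0 ∨ p ^ (c - 1) < 2 * n) := by
    intro A
    rcases Nat.even_or_odd (orderOf A) with he | ho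
    · exact Or.inl ⟨A, (Nat.lcm_eq_left he.two_dvd).symm⟩
    obtain ⟨g, hg⟩ := QuotientGroup.mk_surjective A
    have hgA : proj n F g = A := hg
    have hdvd : ∀ N, g ^ N = 1 → orderOf A ∣ N := fun N h => orderOf_dvd_of_pow_eq_one (by
      rw [← hgA, ← map_pow, h, map_one])
    rcases SpDi.dichotomy (p := p) h2 (by omega) g with ⟨u, hu, hu2, hu1, hu1'⟩ | h | ⟨d, k, hd, hdk, h⟩
    · refine Or.inl ?_
      obtain ⟨x, -, hx⟩ := (hu.map (proj n F)).exists_orderOf_eq_lcm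
      refine ⟨x, ?_⟩
      have : orderOf (proj n F u) = 2 := orderOf_eq_prime (by rw [sq, ← map_mul, hu2, map_one]) fun h => by
        rcases (proj_eq_one u).mp h with h' | h'
        · exact hu1 h'
        · exact hu1' h'
      rw [hx, this, hgA]
    · have h' := (Nat.coprime_two_right.mpr ho).dvd_of_dvd_mul_left (hdvd _ h)
      obtain ⟨c, hc, hc'⟩ := (Nat.dvd_prime_pow hp).mp h'
      refine Or.inr (Or.inr ⟨c, hc', ?_⟩)
      rcases Nat.eq_zero_or_pos c with h0 | h0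
      · exact Or.inl h0
      · exact Or.inr (lt_of_le_of_lt (Nat.pow_le_pow_right hp.pos (by simp only [Nat.pred_eq_sub_one]; omega))
          (Nat.pow_pred_clog_lt_self hp.one_lt (by omega)))
    obtain ⟨X, hX, hXo, hXn⟩ : ∃ X, (X = q ^ d + 1 ∨ X = q ^ d - 1) ∧ orderOf A ∣ X * p ^ Nat.clog p k ∧
        (X ∣ q ^ n + 1 ∨ X ∣ q ^ n - 1) := by
      rcases h with h | h
      · refine ⟨_, Or.inl rfl, hdvd _ h, ?_⟩
        rw [← hdk, pow_mul]
        rcases Nat.even_or_odd k with ⟨r, hr⟩ | hk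
        · right
          have h1 : (q ^ d) ^ 2 - 1 ∣ (q ^ d) ^ k - 1 := by
            rw [hr, ← two_mul, pow_mul (q ^ d) 2 r]
            simpa using Nat.sub_dvd_pow_sub_pow ((q ^ d) ^ 2) 1 r
          refine dvd_trans ?_ h1
          rw [show (1 : ℕ) = 1 ^ 2 by norm_num, Nat.sq_sub_sq]
          exact Dvd.intro _ rfl
        · left
          simpa using hk.nat_add_dvd_pow_add_pow (q ^ d) 1
      · refine ⟨_, Or.inr rfl, hdvd _ h, Or.inr ?_⟩
        rw [← hdk, pow_mul]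
        simpa using Nat.sub_dvd_pow_sub_pow (q ^ d) 1 k
    have hcXp : X.Coprime p := by rcases hX with rfl | rfl; exacts [(hqd d hd).1, (hqd d hd).2]
    set s := Nat.gcd (orderOf A) X with hs
    have hso : Odd s := ho.of_dvd_nat (Nat.gcd_dvd_left _ _)
    obtain ⟨c, hc, hc'⟩ := (Nat.dvd_prime_pow hp).mp (Nat.gcd_dvd_right (orderOf A) (p ^ Nat.clog p k))
    have hoA : orderOf A = s * p ^ c := by
      rw [← hc', hs, ← Nat.Coprime.gcd_mul _ (hcXp.pow_right _), Nat.gcd_eq_left hXo]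
    rcases Nat.eq_zero_or_pos c with rfl | hc0
    · right; left
      rw [hoA, pow_zero, mul_one]
      exact hoddX s hso (hXn.imp (fun h => (Nat.gcd_dvd_right _ _).trans h) fun h => (Nat.gcd_dvd_right _ _).trans h)
    have hk1 : 1 < k := by
      by_contra hk1
      rw [Nat.clog_of_right_le_one (by omega) p] at hc
      omega
    have hck : p ^ (c - 1) < k :=
      lt_of_le_of_lt (Nat.pow_le_pow_right hp.pos (by simp only [Nat.pred_eq_sub_one]; omega)) (Nat.pow_pred_clog_lt_self hp.one_lt hk1)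
    have hkn : k ≤ n := hdk ▸ Nat.le_mul_of_pos_left k hd
    by_cases hs1 : s = 1
    · exact Or.inr (Or.inr ⟨c, by rw [hoA, hs1, one_mul], Or.inr (by omega)⟩)
    left
    have hkb : k ≤ 2 * (n - d) := by
      have h1 : d * 2 ≤ d * k := Nat.mul_le_mul_left d hk1
      have h2' : k * 1 ≤ k * d := Nat.mul_le_mul_left k hd
      rw [mul_comm k d, hdk] at h2'
      rw [hdk] at h1
      omega
    have hdn : d < n := by
      have h1 : d * 2 ≤ d * k := Nat.mul_le_mul_left d hk1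
      omega
    obtain ⟨x, hx⟩ := mixed (F := F) (p := p) h2 hpo (a := d) (b := n - d) (n := n) (s := s) (c := c) (by omega) hd
      (by omega) hso (by rcases hX with rfl | rfl; exacts [Or.inl (Nat.gcd_dvd_right _ _), Or.inr (Nat.gcd_dvd_right _ _)])
      (hcXp.coprime_dvd_left (Nat.gcd_dvd_right _ _)) (Or.inr (by omega))
    exact ⟨x, by rw [hx, hoA, Nat.lcm_comm]⟩
  have hpow : ∀ (c : ℕ) (x y : ℕ), 0 < x → 0 < y → p ^ c ∣ Nat.lcm x y → p ^ c ∣ x ∨ p ^ c ∣ y := by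
    intro c x y hx hy h
    rw [hp.pow_dvd_iff_le_factorization (Nat.lcm_ne_zero hx.ne' hy.ne'), Nat.factorization_lcm hx.ne' hy.ne',
      Finsupp.sup_apply, le_sup_iff] at h
    rcases h with h | h
    · exact Or.inl ((hp.pow_dvd_iff_le_factorization hx.ne').mpr h)
    · exact Or.inr ((hp.pow_dvd_iff_le_factorization hy.ne').mpr h)
  obtain ⟨xe, hxe⟩ : ∃ f : ℕ → Cfsg.PSp n F, ∀ L, orderOf (f L) = Nat.lcm (Nat.gcd L Ne) 2 := by
    choose f hf using fun L => torus (F := F) (n := n) (by omega) hNe (Nat.lcm_dvd (Nat.gcd_dvd_right L Ne) hNeE)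
    exact ⟨f, hf⟩
  obtain ⟨xo, hxo⟩ : ∃ f : ℕ → Cfsg.PSp n F, ∀ L, orderOf (f L) = Nat.gcd L No := by
    choose f hf using fun L => torus (F := F) (n := n) (by omega) hNo (Nat.gcd_dvd_right L No)
    exact ⟨f, hf⟩
  constructor
  · intro A B C
    rcases hA A with ⟨x, hx⟩ | ha'
    · exact ⟨x, B, C, by rw [hx]; exact lcm1 _ _ _ _⟩
    rcases hA B with ⟨x, hx⟩ | hb'
    · exact ⟨A, x, C, by rw [hx]; exact lcm2 _ _ _ _⟩
    rcases hA C with ⟨x, hx⟩ | hc'
    · exact ⟨A, B, x, by rw [hx]; exact lcm3 _ _ _ _⟩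
    set P := p ^ (2 * n) with hP
    have hall : ∀ o, ((o ∣ Ne ∨ o ∣ No) ∨ ∃ c, o = p ^ c ∧ (c = 0 ∨ p ^ (c - 1) < 2 * n)) → o ∣ Ne * No * P := by
      rintro o ((h | h) | ⟨c, rfl, hc⟩)
      · exact (h.trans (Dvd.intro _ rfl)).trans (Dvd.intro _ rfl)
      · exact (h.trans (Dvd.intro_left _ rfl)).trans (Dvd.intro _ rfl)
      · refine (pow_dvd_pow p ?_).trans (Dvd.intro_left _ rfl)
        rcases hc with rfl | hc
        · omega
        · have := Nat.lt_pow_self hp.one_lt (n := c - 1)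
          omega
    set L := Nat.lcm (orderOf A) (Nat.lcm (orderOf B) (orderOf C)) with hL
    have hLd : L ∣ Ne * No * P := Nat.lcm_dvd (hall _ ha') (Nat.lcm_dvd (hall _ hb') (hall _ hc'))
    obtain ⟨c, -, hc⟩ := (Nat.dvd_prime_pow hp).mp (Nat.gcd_dvd_right L P)
    obtain ⟨z, hz⟩ : ∃ z : Cfsg.PSp n F, orderOf z = p ^ c := by
      have hcL : p ^ c ∣ L := hc ▸ Nat.gcd_dvd_left _ _
      rcases hpow c _ _ (orderOf_pos A) (Nat.pos_of_ne_zero (Nat.lcm_ne_zero (orderOf_pos B).ne' (orderOf_pos C).ne')) hcL with h | h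
      · exact exists_orderOf_eq_of_dvd A h
      · rcases hpow c _ _ (orderOf_pos B) (orderOf_pos C) h with h | h
        · exact exists_orderOf_eq_of_dvd B h
        · exact exists_orderOf_eq_of_dvd C h
    have hLeq : Nat.lcm (Nat.gcd L Ne) (Nat.lcm (Nat.gcd L No) (p ^ c)) = L := by
      rw [← hc, ← Nat.lcm_assoc, Nat.Coprime.lcm_eq_mul ((hcopN.coprime_dvd_left (Nat.gcd_dvd_right L _)).coprime_dvd_right (Nat.gcd_dvd_right L _)),
        ← Nat.Coprime.gcd_mul _ hcopN, Nat.Coprime.lcm_eq_mul (((hcopP _).coprime_dvd_left (Nat.gcd_dvd_right L _)).coprime_dvd_right (Nat.gcd_dvd_right L _)),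
        ← Nat.Coprime.gcd_mul _ (hcopP _), Nat.gcd_eq_left hLd]
    exact ⟨xe L, xo L, z, by rw [hxe, hxo, hz, lcm1, hLeq]⟩
  · intro hpj A B
    rcases hA A with ⟨x, hx⟩ | ha'
    · exact ⟨x, B, by rw [hx]; exact lcm4 _ _ _⟩
    rcases hA B with ⟨x, hx⟩ | hb'
    · exact ⟨A, x, by rw [hx]; exact lcm5 _ _ _⟩
    have hunip : ∀ c, (c = 0 ∨ p ^ (c - 1) < 2 * n) → ∃ x : Cfsg.PSp n F, orderOf x = Nat.lcm (p ^ c) 2 := by
      intro c hc
      obtain ⟨x, hx⟩ := mixed (F := F) (p := p) h2 hpo (a := 1) (b := n - 1) (n := n) (s := 1) (c := c) (by omega) le_rfl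
        (by omega) odd_one (Or.inl (one_dvd _)) (Nat.coprime_one_left p) (hc.imp_right fun h => by
          have h4 : p ^ (c - 1) ≠ 2 * n - 1 := fun h' => hpj ⟨c - 1, h'.symm⟩
          obtain ⟨r, hr⟩ := hpo.pow (n := c - 1)
          omega)
      exact ⟨x, by rw [hx, one_mul, Nat.lcm_comm]⟩
    rcases hb' with hb' | ⟨c, hBc, hc⟩
    swap
    · obtain ⟨y, hy⟩ := hunip c hc
      exact ⟨A, y, by rw [hy, hBc]; exact lcm5 _ _ _⟩
    rcases ha' with ha' | ⟨c, hAc, hc⟩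
    swap
    · obtain ⟨y, hy⟩ := hunip c hc
      exact ⟨y, B, by rw [hy, hAc]; exact lcm4 _ _ _⟩
    set L := Nat.lcm (orderOf A) (orderOf B) with hL
    have hLd : L ∣ Ne * No := Nat.lcm_dvd
      (ha'.elim (fun h => h.trans (Dvd.intro _ rfl)) fun h => h.trans (Dvd.intro_left _ rfl))
      (hb'.elim (fun h => h.trans (Dvd.intro _ rfl)) fun h => h.trans (Dvd.intro_left _ rfl))
    have hLeq : Nat.lcm (Nat.gcd L Ne) (Nat.gcd L No) = L := by
      rw [Nat.Coprime.lcm_eq_mul ((hcopN.coprime_dvd_left (Nat.gcd_dvd_right L _)).coprime_dvd_right (Nat.gcd_dvd_right L _)),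
        ← Nat.Coprime.gcd_mul _ hcopN, Nat.gcd_eq_left hLd]
    exact ⟨xe L, xo L, by rw [hxe, hxo, lcm4, hLeq]⟩


/-- Let F be a finite field of odd order q = p^a, n ≥ 2 (with q ≥ 3 automatic), and L = PSp(2n, F). Then for every m the direct product L × L × L × (ℤ/2)^m has the same set of element orders as L × L × L; and if 2n − 1 is not a power of p, then already L × L × (ℤ/2)^m has the same set of element orders as L × L. -/
theorem result {F : Type*} [Field F] [Fintype F] (p a n m : ℕ) (hp : p.Prime) (ha : 1 ≤ a) (hF : Fintype.card F = p ^ a) (hodd : Odd (Fintype.card F))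
    (hn : 2 ≤ n) :
    Set.range (orderOf : Cfsg.PSp n F × Cfsg.PSp n F × Cfsg.PSp n F × Multiplicative (Fin m → ZMod 2) → ℕ) = Set.range (orderOf : Cfsg.PSp n F × Cfsg.PSp n F × Cfsg.PSp n F → ℕ) ∧
    ((¬ ∃ j : ℕ, 2 * n - 1 = p ^ j) →
      Set.range (orderOf : Cfsg.PSp n F × Cfsg.PSp n F × Multiplicative (Fin m → ZMod 2) → ℕ) = Set.range (orderOf : Cfsg.PSp n F × Cfsg.PSp n F → ℕ)) := by
  haveI := Fact.mk hp
  haveI : CharP F p := charP_of_card_eq_prime_pow (f := a) hF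
  obtain ⟨h3, h2⟩ := key hF ha hodd hn
  have hv : ∀ v : Multiplicative (Fin m → ZMod 2), orderOf v = 1 ∨ orderOf v = 2 := by
    intro v
    refine (Nat.dvd_prime Nat.prime_two).mp (orderOf_dvd_of_pow_eq_one ?_)
    apply Multiplicative.toAdd.injective
    funext i
    rw [toAdd_pow, toAdd_one, Pi.smul_apply, Pi.zero_apply]
    rw [two_nsmul]
    exact CharTwo.add_self_eq_zero _
  refine ⟨Set.Subset.antisymm ?_ ?_, fun hpj => Set.Subset.antisymm ?_ ?_⟩
  · rintro _ ⟨⟨A, B, C, v⟩, rfl⟩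
    simp only [Prod.orderOf_mk]
    rcases hv v with h | h
    · exact ⟨(A, B, C), by rw [h]; simp [Prod.orderOf_mk]⟩
    · obtain ⟨x, y, z, hxyz⟩ := h3 A B C
      exact ⟨(x, y, z), by rw [h, Prod.orderOf_mk, Prod.orderOf_mk, hxyz]; ac_rfl⟩
  · rintro _ ⟨⟨A, B, C⟩, rfl⟩
    exact ⟨(A, B, C, 1), by simp [Prod.orderOf_mk]⟩
  · rintro _ ⟨⟨A, B, v⟩, rfl⟩
    simp only [Prod.orderOf_mk]
    rcases hv v with h | h
    · exact ⟨(A, B), by rw [h]; simp [Prod.orderOf_mk]⟩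
    · obtain ⟨x, y, hxy⟩ := h2 hpj A B
      exact ⟨(x, y), by rw [h, Prod.orderOf_mk, hxy]; ac_rfl⟩
  · rintro _ ⟨⟨A, B⟩, rfl⟩
    exact ⟨(A, B, 1), by simp [Prod.orderOf_mk]⟩

end Cfsg.Agent.S2512
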