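import Cfsg.Statements.S2513
import Cfsg.Agent.KnownSimple58.Spectrum

set_option autoImplicit false
open Cfsg

namespace Cfsg.Agent.S2513

lemma mk_bijective {F : Type*} [Field F] [Fintype F] (hF : Fintype.card F = 2) (n : ℕ) :
    ∃ e : GL (Fin n) F →* Matrix.ProjectiveSpecialLinearGroup (Fin n) F, Function.Bijective e := by
  classical
  have hu : ∀ u : Fˣ, u = 1 := fun u => by
    have : Subsingleton Fˣ := Fintype.card_le_one_iff_subsingleton.mp (by rw [Fintype.card_units, hF])
    exact Subsingleton.elim _ _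
  let j : GL (Fin n) F →* Matrix.SpecialLinearGroup (Fin n) F :=
    { toFun := fun g => ⟨(g : Matrix (Fin n) (Fin n) F), by
        rw [← Matrix.GeneralLinearGroup.val_det_apply, hu (Matrix.GeneralLinearGroup.det g), Units.val_one]⟩
      map_one' := rfl
      map_mul' := fun _ _ => rfl }
  refine ⟨(QuotientGroup.mk' _).comp j, ?_, ?_⟩
  · rw [injective_iff_map_eq_one]
    intro g hg
    rw [MonoidHom.comp_apply, QuotientGroup.mk'_apply, QuotientGroup.eq_one_iff,
      Matrix.SpecialLinearGroup.mem_center_iff] at hg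
    obtain ⟨r, hr, hrg⟩ := hg
    apply Units.ext
    show ((g : Matrix (Fin n) (Fin n) F)) = 1
    rcases Nat.eq_zero_or_pos n with rfl | hn
    · exact Subsingleton.elim _ _
    have hr0 : r ≠ 0 := by
      rintro rfl
      rw [Fintype.card_fin, zero_pow (by omega)] at hr
      exact zero_ne_one hr
    have : r = 1 := congrArg Units.val (hu (Units.mk0 r hr0))
    rw [show (g : Matrix (Fin n) (Fin n) F) = (j g : Matrix (Fin n) (Fin n) F) from rfl, ← hrg, this, map_one]
  · refine (QuotientGroup.mk'_surjective _).comp fun g => ⟨Matrix.SpecialLinearGroup.toGL g, ?_⟩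
    exact Subtype.ext rfl


/-- Let F be the field with two elements, n ≥ 2, L = PSL(n, F) and k₀ = ⌊(n + 3)/2⌋. Then for every k ≥ k₀ the direct product of k copies of L has the same set of element orders as the direct product of k₀ copies of L. -/
theorem result {F : Type*} [Field F] [Fintype F] (hF : Fintype.card F = 2) (n k : ℕ) (hn : 2 ≤ n) (hk : (n + 3) / 2 ≤ k) :
    Set.range (orderOf : (Fin k → Matrix.ProjectiveSpecialLinearGroup (Fin n) F) → ℕ) = Set.range (orderOf : (Fin ((n + 3) / 2) → Matrix.ProjectiveSpecialLinearGroup (Fin n) F) → ℕ) := by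
  classical
  obtain ⟨e, hinj, hsurj⟩ := mk_bijective hF n
  set k0 := (n + 3) / 2 with hk0
  set c := Nat.clog 2 n with hc
  haveI : CharP F 2 := charP_of_card_eq_prime hF
  haveI : Fact (Nat.Prime 2) := ⟨Nat.prime_two⟩
  have hcn : n ≤ 2 ^ c := Nat.le_pow_clog (by norm_num) n
  -- the `k0` target orders
  let a : Fin k0 → ℕ := fun i => if (i : ℕ) = 0 then 2 ^ c else 2 ^ (n + 1 - (i : ℕ)) - 1
  have ha : ∀ i, ∃ g : Matrix.ProjectiveSpecialLinearGroup (Fin n) F, orderOf g = a i := by
    intro i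
    simp only [a]
    split
    · obtain ⟨d, hd⟩ : ∃ d, c = d + 1 := ⟨c - 1, by have := Nat.clog_pos (b := 2) (by norm_num) (by omega : 2 ≤ n); omega⟩
      obtain ⟨g, hg⟩ := KS58.exists_gl_unipotent_order (F := F) (p := 2) (e := d) le_rfl (hd ▸ hcn)
        (by rw [show d = c - 1 by omega]; exact Nat.pow_pred_clog_lt_self (by norm_num) (by omega))
      exact ⟨e g, by rw [orderOf_injective e hinj, hg, hd]⟩
    · obtain ⟨g, hg⟩ := KS58.exists_gl_order_card_pow_sub_one (F := F) (n := n) (d := n + 1 - (i : ℕ))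
        (by have := i.2; omega) (by omega)
      exact ⟨e g, by rw [orderOf_injective e hinj, hg, hF]⟩
  have hdvd : ∀ x : Matrix.ProjectiveSpecialLinearGroup (Fin n) F, orderOf x ∣ Finset.univ.lcm a := by
    intro x
    obtain ⟨g, rfl⟩ := hsurj x
    rw [orderOf_injective e hinj]
    set A := Finset.univ.lcm a
    have h2 : 2 ^ c ∣ A := by
      have := Finset.dvd_lcm (f := a) (Finset.mem_univ (⟨0, by omega⟩ : Fin k0))
      simpa [a] using this
    let M := (Finset.Icc 1 n).lcm fun d => 2 ^ d - 1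
    have hM : M ∣ A := by
      refine Finset.lcm_dvd fun d hd => ?_
      rw [Finset.mem_Icc] at hd
      have h3 : 2 * (d * (n / d)) > n ∧ d * (n / d) ≤ n := by
        have h4 := Nat.div_add_mod n d
        have h5 := Nat.mod_lt n (by omega : 0 < d)
        have h6 : d ≤ d * (n / d) := Nat.le_mul_of_pos_right d (Nat.div_pos hd.2 (by omega))
        omega
      refine (Nat.pow_sub_one_dvd_pow_sub_one 2 (dvd_mul_right d (n / d))).trans ?_
      have h7 := Finset.dvd_lcm (f := a) (Finset.mem_univ (⟨n + 1 - d * (n / d), by omega⟩ : Fin k0))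
      simp only [a] at h7
      rw [if_neg (by omega), show n + 1 - (n + 1 - d * (n / d)) = d * (n / d) by omega] at h7
      exact h7
    have hg := KS58.gl_pow_eq_one g (p := 2) (e := c) (M := M) hcn (fun d h1 h2' => by
      rw [hF]; exact Finset.dvd_lcm (f := fun d => 2 ^ d - 1) (Finset.mem_Icc.mpr ⟨h1, h2'⟩))
    refine (orderOf_dvd_of_pow_eq_one hg).trans (Nat.Coprime.mul_dvd_of_dvd_of_dvd ?_ hM h2)
    refine Nat.Coprime.pow_right _ (Nat.Coprime.symm ?_)
    rw [Nat.prime_two.coprime_iff_not_dvd]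
    intro hh
    obtain ⟨d, hd, hd'⟩ := KS58.prime_pow_dvd_finset_lcm (Finset.Icc 1 n) (fun d => 2 ^ d - 1)
      (fun d hd => by
        rw [Finset.mem_Icc] at hd
        have : 2 ≤ 2 ^ d := le_self_pow₀ (by norm_num) (by omega)
        omega) Nat.prime_two Nat.one_pos (by rwa [pow_one])
    rw [Finset.mem_Icc] at hd
    have : 2 ∣ 2 ^ d := dvd_pow_self 2 (by omega)
    have : 1 ≤ 2 ^ d := Nat.one_le_two_pow
    rw [pow_one] at hd'
    omega
  apply Set.Subset.antisymm
  · rintro _ ⟨x, rfl⟩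
    have hL : orderOf x ∣ Finset.univ.lcm a := by
      rw [KS58.orderOf_pi]; exact Finset.lcm_dvd fun i _ => hdvd _
    have ha0 : ∀ i ∈ (Finset.univ : Finset (Fin k0)), a i ≠ 0 := fun i _ => by
      obtain ⟨g, hg⟩ := ha i; rw [← hg]; exact (orderOf_pos g).ne'
    choose y hy using fun i => KS58.exists_orderOf_eq_of_dvd (ha i).choose
      (d := Nat.gcd (orderOf x) (a i)) ((Nat.gcd_dvd_right _ _).trans (dvd_of_eq (ha i).choose_spec.symm))
    refine ⟨y, ?_⟩
    rw [KS58.orderOf_pi y]
    simp only [hy]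
    exact KS58.eq_lcm_gcd_of_dvd _ a ha0 hL
  · rintro _ ⟨y, rfl⟩
    refine ⟨fun i => if h : (i : ℕ) < k0 then y ⟨i, h⟩ else 1, ?_⟩
    rw [KS58.orderOf_pi, KS58.orderOf_pi]
    refine Nat.dvd_antisymm (Finset.lcm_dvd fun i _ => ?_) (Finset.lcm_dvd fun i _ => ?_)
    · split
      · exact Finset.dvd_lcm (f := fun i => orderOf (y i)) (Finset.mem_univ _)
      · simp
    · refine dvd_trans ?_ (Finset.dvd_lcm (Finset.mem_univ (Fin.castLE hk i)))
      simp [i.2]

end Cfsg.Agent.S2513
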