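import Cfsg.Statements.S2514
import Cfsg.Agent.KnownSimple58.Spectrum

set_option autoImplicit false
open Cfsg

namespace Cfsg.Agent.S2514

lemma exists_max {α : Type*} [Group α] [Finite α] (x : α) :
    ∃ m, (m ∈ Set.range (orderOf : α → ℕ) ∧ ∀ k ∈ Set.range (orderOf : α → ℕ), m ∣ k → k = m) ∧ orderOf x ∣ m := by
  classical
  obtain ⟨m, ⟨hm, hxm⟩, hmax⟩ := Set.Finite.exists_maximalFor id
    {m | m ∈ Set.range (orderOf : α → ℕ) ∧ orderOf x ∣ m}
    ((Set.finite_range _).subset fun m hm => hm.1) ⟨_, ⟨x, rfl⟩, dvd_rfl⟩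
  refine ⟨m, ⟨hm, fun k hk hmk => ?_⟩, hxm⟩
  obtain ⟨y, rfl⟩ := hk
  exact le_antisymm (hmax (j := orderOf y) ⟨⟨y, rfl⟩, hxm.trans hmk⟩ (Nat.le_of_dvd (orderOf_pos y) hmk))
    (Nat.le_of_dvd (orderOf_pos y) hmk)


/-- For a finite group X write μ(X) for the set of element orders of X that are maximal under divisibility. Let G and H be finite groups and k ≥ 1 such that μ(H) ⊆ μ(G) and μ(G) has fewer than k elements outside μ(H). Then the direct product of k copies of G has the same set of element orders as the direct product of k − 1 copies of G with H. -/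
theorem result {G H : Type*} [Group G] [Finite G] [Group H] [Finite H] (k : ℕ) (hk : 1 ≤ k)
    (hsub : {n : ℕ | n ∈ Set.range (orderOf : H → ℕ) ∧ ∀ m ∈ Set.range (orderOf : H → ℕ), n ∣ m → m = n} ⊆ {n : ℕ | n ∈ Set.range (orderOf : G → ℕ) ∧ ∀ m ∈ Set.range (orderOf : G → ℕ), n ∣ m → m = n})
    (hfew : ({n : ℕ | n ∈ Set.range (orderOf : G → ℕ) ∧ ∀ m ∈ Set.range (orderOf : G → ℕ), n ∣ m → m = n} \ {n : ℕ | n ∈ Set.range (orderOf : H → ℕ) ∧ ∀ m ∈ Set.range (orderOf : H → ℕ), n ∣ m → m = n}).ncard < k) :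
    Set.range (orderOf : (Fin k → G) → ℕ) = Set.range (orderOf : (Fin (k - 1) → G) × H → ℕ) := by
  classical
  obtain ⟨k, rfl⟩ : ∃ k', k = k' + 1 := ⟨k - 1, by omega⟩
  change _ = Set.range (orderOf : (Fin k → G) × H → ℕ)
  apply Set.Subset.antisymm
  · rintro _ ⟨x, rfl⟩
    choose μ hμ hdμ using fun i => exists_max (x i)
    -- `L` is the order of `x`; rearrange the coordinates
    suffices h : ∃ (j : Fin (k + 1)) (a : Fin k → G) (b : H),
        orderOf x = Nat.lcm (Finset.univ.lcm fun i => orderOf (a i)) (orderOf b) by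
      obtain ⟨-, a, b, h⟩ := h
      exact ⟨(a, b), by rw [h, Prod.orderOf_mk, KS58.orderOf_pi]⟩
    by_cases hex : ∃ j, μ j ∈ Set.range (orderOf : H → ℕ) ∧ ∀ m ∈ Set.range (orderOf : H → ℕ), μ j ∣ m → m = μ j
    · obtain ⟨j, ⟨h, hh⟩, -⟩ := hex
      obtain ⟨b, hb⟩ := KS58.exists_orderOf_eq_of_dvd h (hh ▸ hdμ j)
      refine ⟨j, fun i => x (j.succAbove i), b, ?_⟩
      rw [KS58.orderOf_pi, hb]
      refine Nat.dvd_antisymm (Finset.lcm_dvd fun i _ => ?_) (Nat.lcm_dvd (Finset.lcm_dvd fun i _ => ?_) ?_)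
      · rcases Fin.eq_self_or_eq_succAbove j i with rfl | ⟨i', rfl⟩
        · exact Nat.dvd_lcm_right _ _
        · exact (Finset.dvd_lcm (f := fun i => orderOf (x (j.succAbove i))) (Finset.mem_univ i')).trans (Nat.dvd_lcm_left _ _)
      · exact Finset.dvd_lcm (f := fun i => orderOf (x i)) (Finset.mem_univ _)
      · exact Finset.dvd_lcm (f := fun i => orderOf (x i)) (Finset.mem_univ _)
    · obtain ⟨i, j, hij, he⟩ : ∃ i j, i ≠ j ∧ μ i = μ j := by
        by_contra hc
        have hinj : Function.Injective μ := fun i j h => by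
          by_contra hne; exact hc ⟨i, j, hne, h⟩
        have h1 : (Set.range μ).ncard = k + 1 := by
          rw [← Nat.card_coe_set_eq, Nat.card_range_of_injective hinj, Nat.card_fin]
        refine absurd ((Set.ncard_le_ncard ?_ ?_).trans_lt hfew) (by rw [h1]; exact lt_irrefl _)
        · rintro _ ⟨i, rfl⟩
          exact ⟨hμ i, fun hh => hex ⟨i, hh⟩⟩
        · exact (Set.finite_range (orderOf : G → ℕ)).subset fun m hm => hm.1.1
      obtain ⟨g, hg⟩ := (hμ i).1
      obtain ⟨i', hi'⟩ := Fin.exists_succAbove_eq hij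
      obtain ⟨c, hc⟩ := KS58.exists_orderOf_eq_of_dvd g
        (d := Nat.lcm (orderOf (x i)) (orderOf (x j))) (hg ▸ Nat.lcm_dvd (hdμ i) (he ▸ hdμ j))
      refine ⟨j, fun l => if l = i' then c else x (j.succAbove l), 1, ?_⟩
      rw [orderOf_one, Nat.lcm_one_right, KS58.orderOf_pi]
      refine Nat.dvd_antisymm (Finset.lcm_dvd fun l _ => ?_) (Finset.lcm_dvd fun l _ => ?_)
      · rcases Fin.eq_self_or_eq_succAbove j l with rfl | ⟨l', rfl⟩
        · refine dvd_trans ?_ (Finset.dvd_lcm (Finset.mem_univ i'))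
          simp only [if_true, hc]
          exact Nat.dvd_lcm_right _ _
        · refine dvd_trans ?_ (Finset.dvd_lcm (Finset.mem_univ l'))
          beta_reduce; split
          · subst_vars; rw [hc]; exact Nat.dvd_lcm_left _ _
          · exact dvd_rfl
      · beta_reduce; split
        · rw [hc]
          exact Nat.lcm_dvd (Finset.dvd_lcm (f := fun i => orderOf (x i)) (Finset.mem_univ _))
            (Finset.dvd_lcm (f := fun i => orderOf (x i)) (Finset.mem_univ _))
        · exact Finset.dvd_lcm (f := fun i => orderOf (x i)) (Finset.mem_univ _)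
  · rintro _ ⟨⟨a, b⟩, rfl⟩
    obtain ⟨m, hm, hbm⟩ := exists_max b
    obtain ⟨g, hg⟩ := (hsub hm).1
    obtain ⟨c, hc⟩ := KS58.exists_orderOf_eq_of_dvd g (hg ▸ hbm)
    refine ⟨Fin.cons c a, ?_⟩
    rw [Prod.orderOf_mk, KS58.orderOf_pi, KS58.orderOf_pi]
    refine Nat.dvd_antisymm (Finset.lcm_dvd fun i _ => ?_) (Nat.lcm_dvd (Finset.lcm_dvd fun i _ => ?_) ?_)
    · refine Fin.cases ?_ (fun i => ?_) i
      · rw [Fin.cons_zero, hc]; exact Nat.dvd_lcm_right _ _
      · rw [Fin.cons_succ]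
        exact (Finset.dvd_lcm (f := fun i => orderOf (a i)) (Finset.mem_univ i)).trans (Nat.dvd_lcm_left _ _)
    · simpa using Finset.dvd_lcm (f := fun i => orderOf ((Fin.cons c a : Fin (k + 1) → G) i)) (Finset.mem_univ i.succ)
    · simpa [hc] using Finset.dvd_lcm (f := fun i => orderOf ((Fin.cons c a : Fin (k + 1) → G) i)) (Finset.mem_univ 0)

end Cfsg.Agent.S2514
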