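import Cfsg.Statements.S2515
import Cfsg.Agent.KnownSimple58.SpElements

set_option autoImplicit false
open Cfsg

namespace Cfsg.Agent.S2515

open Matrix

variable {F : Type} [Field F] [Finite F] [CharP F 3]

/-- the cube map -/
def frob : F →+* F := frobenius F 3

/-- signs in `F` -/
def sg (u : ℤˣ) : F := ((u : ℤ) : F)

omit [Finite F] [CharP F 3] in
theorem sg_one : (sg 1 : F) = 1 := by simp [sg]

omit [Finite F] [CharP F 3] in
theorem sg_mul (u w : ℤˣ) : (sg (u * w) : F) = sg u * sg w := by simp [sg]

/-- the twisted tensor action on `2 × 2` matrices -/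
def act (k : Matrix.SpecialLinearGroup (Fin 2) F × ℤˣ) (X : Matrix (Fin 2) (Fin 2) F) : Matrix (Fin 2) (Fin 2) F :=
  (sg k.2 : F) • (k.1.1 * X * (k.1.1.map (frob : F →+* F))ᵀ)

omit [Finite F] in
theorem act_one (X : Matrix (Fin 2) (Fin 2) F) : act 1 X = X := by
  rw [act, Prod.snd_one, sg_one, one_smul, Prod.fst_one, Matrix.SpecialLinearGroup.coe_one]
  simp

omit [Finite F] in
theorem act_mul (k l : Matrix.SpecialLinearGroup (Fin 2) F × ℤˣ) (X : Matrix (Fin 2) (Fin 2) F) :
    act (k * l) X = act k (act l X) := by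
  simp only [act, Prod.snd_mul, Prod.fst_mul, Matrix.SpecialLinearGroup.coe_mul, Matrix.map_mul, Matrix.transpose_mul,
    sg_mul, Matrix.mul_smul, Matrix.smul_mul, smul_smul, Matrix.mul_assoc]

/-- the action as automorphisms -/
def theta : Matrix.SpecialLinearGroup (Fin 2) F × ℤˣ →* MulAut (Multiplicative (Matrix (Fin 2) (Fin 2) F)) where
  toFun k := AddEquiv.toMultiplicative
    { toFun := act k
      invFun := act k⁻¹
      left_inv := fun X => by rw [← act_mul, inv_mul_cancel, act_one]
      right_inv := fun X => by rw [← act_mul, mul_inv_cancel, act_one]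
      map_add' := fun X Y => by simp [act, Matrix.mul_add, Matrix.add_mul] }
  map_one' := MulEquiv.ext fun X => congrArg Multiplicative.ofAdd (act_one (Multiplicative.toAdd X))
  map_mul' k l := MulEquiv.ext fun X => congrArg Multiplicative.ofAdd (act_mul k l (Multiplicative.toAdd X))

omit [Finite F] in
theorem theta_apply (k : Matrix.SpecialLinearGroup (Fin 2) F × ℤˣ) (X : Matrix (Fin 2) (Fin 2) F) :
    theta k (Multiplicative.ofAdd X) = Multiplicative.ofAdd (act k X) := rfl

/-- the group `V ⋊ M` -/
abbrev HG (F : Type) [Field F] [Finite F] [CharP F 3] : Type :=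
  Multiplicative (Matrix (Fin 2) (Fin 2) F) ⋊[(theta (F := F)).range.subtype] (theta (F := F)).range

omit [Finite F] [CharP F 3] in
theorem sg_neg_one : (sg (-1) : F) = -1 := by simp [sg]

omit [Finite F] in
theorem two_ne : (2 : F) ≠ 0 := by
  have h : ((2 : ℕ) : F) ≠ 0 := fun h => absurd ((CharP.cast_eq_zero_iff F 3 2).mp h) (by norm_num)
  exact_mod_cast h

omit [Finite F] in
theorem two_eq : (2 : F) = -1 := by
  have h : ((3 : ℕ) : F) = 0 := CharP.cast_eq_zero F 3
  have : (3 : F) = 0 := by exact_mod_cast h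
  linear_combination this

omit [Finite F] [CharP F 3] in
theorem ch (A : Matrix.SpecialLinearGroup (Fin 2) F) :
    A.1 * A.1 = A.1.trace • A.1 - 1 := by
  have hd : A.1 0 0 * A.1 1 1 - A.1 0 1 * A.1 1 0 = 1 := (Matrix.det_fin_two A.1).symm.trans A.2
  ext i j
  fin_cases i <;> fin_cases j <;> simp [Matrix.mul_apply, Fin.sum_univ_two, Matrix.trace_fin_two, Matrix.one_apply] <;>
    first | ring1 | linear_combination hd | linear_combination -hd

omit [Finite F] [CharP F 3] in
theorem sq_eq_neg_one_of_trace (A : Matrix.SpecialLinearGroup (Fin 2) F) (h : A.1.trace = 0) : A * A = -1 := by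
  apply Subtype.ext
  rw [Matrix.SpecialLinearGroup.coe_mul, ch A, h, zero_smul, zero_sub, Matrix.SpecialLinearGroup.coe_neg,
    Matrix.SpecialLinearGroup.coe_one]

omit [Finite F] in
theorem theta_neg (A : Matrix.SpecialLinearGroup (Fin 2) F) (e : ℤˣ) : theta (-A, e) = theta (A, e) := by
  refine MulEquiv.ext fun X => congrArg Multiplicative.ofAdd ?_
  show act (-A, e) (Multiplicative.toAdd X) = act (A, e) (Multiplicative.toAdd X)
  simp only [act, Matrix.SpecialLinearGroup.coe_neg]
  congr 1
  rw [show (-A.1).map (frob : F →+* F) = -(A.1.map frob) from by ext i j; simp]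
  simp

omit [Finite F] in
theorem theta_negOne : theta ((-1, 1) : Matrix.SpecialLinearGroup (Fin 2) F × ℤˣ) = 1 := by
  rw [theta_neg]; exact map_one theta

omit [Finite F] in
theorem theta_eq_one {A : Matrix.SpecialLinearGroup (Fin 2) F} {e : ℤˣ} (h : theta (A, e) = 1) :
    (A = 1 ∨ A = -1) ∧ e = 1 := by
  have hX : ∀ X : Matrix (Fin 2) (Fin 2) F, (sg e : F) • (A.1 * X * (A.1.map (frob : F →+* F))ᵀ) = X := fun X =>
    congrArg Multiplicative.toAdd (MulEquiv.congr_fun h (Multiplicative.ofAdd X))
  have h1 := hX 1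
  rw [Matrix.mul_one] at h1
  set B := (A.1.map (frob : F →+* F))ᵀ
  have hcomm : ∀ X : Matrix (Fin 2) (Fin 2) F, A.1 * X = X * A.1 := by
    intro X
    have h2 : A.1 * ((sg e : F) • B) = 1 := by rw [Matrix.mul_smul]; exact h1
    have h3 : ((sg e : F) • B) * A.1 = 1 := mul_eq_one_comm.mp h2
    calc A.1 * X = A.1 * X * (((sg e : F) • B) * A.1) := by rw [h3, Matrix.mul_one]
      _ = (sg e : F) • (A.1 * X * B) * A.1 := by simp [Matrix.mul_assoc]
      _ = X * A.1 := by rw [hX]
  have e01 := hcomm (Matrix.single 0 1 1)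
  have a10 : A.1 1 0 = 0 := by
    have := congrFun (congrFun e01 1) 1
    simpa [Matrix.mul_apply, Fin.sum_univ_two, Matrix.single] using this
  have a00 : A.1 0 0 = A.1 1 1 := by
    have := congrFun (congrFun e01 0) 1
    simpa [Matrix.mul_apply, Fin.sum_univ_two, Matrix.single] using this
  have a01 : A.1 0 1 = 0 := by
    have := congrFun (congrFun (hcomm (Matrix.single 1 0 1)) 0) 0
    simpa [Matrix.mul_apply, Fin.sum_univ_two, Matrix.single] using this
  have hd := A.2
  rw [Matrix.det_fin_two, a01, a10, ← a00, mul_zero, sub_zero] at hd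
  have hA : A = 1 ∨ A = -1 := by
    rcases mul_self_eq_one_iff.mp hd with h0 | h0
    · left; ext i j; fin_cases i <;> fin_cases j <;> simp [← a00, a01, a10, h0]
    · right; ext i j; fin_cases i <;> fin_cases j <;> simp [← a00, a01, a10, h0]
  refine ⟨hA, ?_⟩
  have hh : theta ((1, e) : Matrix.SpecialLinearGroup (Fin 2) F × ℤˣ) = 1 := by
    rcases hA with rfl | rfl
    · exact h
    · rw [theta_neg] at h; exact h
  rcases Int.units_eq_one_or e with rfl | rfl
  · rfl
  · exfalso
    have h' : act ((1, -1) : Matrix.SpecialLinearGroup (Fin 2) F × ℤˣ) 1 = 1 :=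
      congrArg Multiplicative.toAdd (MulEquiv.congr_fun hh (Multiplicative.ofAdd (1 : Matrix (Fin 2) (Fin 2) F)))
    have h'' := congrFun (congrFun h' 0) 0
    simp [act, sg_neg_one] at h''
    exact two_ne (by linear_combination -h'')

omit [Finite F] in
/-- semisimple elements act without fixed points -/
theorem fixed_free (hsq : ∀ x : F, x * x ≠ -1) (A : Matrix.SpecialLinearGroup (Fin 2) F) (e : ℤˣ)
    (h0 : A.1.trace ≠ 0) (h1 : A.1.trace ≠ 1) (h2 : A.1.trace ≠ -1)
    (X : Matrix (Fin 2) (Fin 2) F) (hX : act (A, e) X = X) : X = 0 := by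
  by_contra hne
  have hs : (sg e : F) * sg e = 1 := by rw [← sg_mul, Int.units_mul_self, sg_one]
  have hεc : (sg e : F) = 1 ∨ (sg e : F) = -1 := mul_self_eq_one_iff.mp hs
  set B := A.1.map (frob : F →+* F)
  have hBdet : B.det = 1 := by
    rw [show B = (frob : F →+* F).mapMatrix A.1 from rfl, ← RingHom.map_det, A.2, map_one]
  have hBtr : B.trace = A.1.trace ^ 3 := by
    rw [Matrix.trace_fin_two, Matrix.trace_fin_two]
    show A.1 0 0 ^ 3 + A.1 1 1 ^ 3 = _
    rw [add_pow_char]
  have hX' : A.1 * X * Bᵀ = (sg e : F) • X := by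
    have h' : (sg e : F) • ((sg e : F) • (A.1 * X * Bᵀ)) = (sg e : F) • X := congrArg _ hX
    rwa [smul_smul, hs, one_smul] at h'
  by_cases hd : X.det = 0
  · obtain ⟨i, j, hij⟩ : ∃ i j, X i j ≠ 0 := by
      by_contra hall
      push Not at hall
      exact hne (Matrix.ext hall)
    let u : Fin 2 → F := fun a => X a j
    let w : Fin 2 → F := fun b => X i b / X i j
    have hd' : X 0 0 * X 1 1 - X 0 1 * X 1 0 = 0 := (Matrix.det_fin_two X).symm.trans hd
    have hrank : ∀ a b, X a b * X i j = X a j * X i b := by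
      intro a b
      fin_cases i <;> fin_cases j <;> fin_cases a <;> fin_cases b <;>
        first | rfl | (simp; first | ring1 | linear_combination hd' | linear_combination -hd')
    have hfac : X = Matrix.vecMulVec u w := by
      ext a b
      rw [Matrix.vecMulVec_apply]
      show X a b = X a j * (X i b / X i j)
      field_simp
      linear_combination hrank a b
    have hu : u i ≠ 0 := hij
    have hwj : w j = 1 := div_self hij
    have hprod : ∀ a b, A.1.mulVec u a * B.mulVec w b = sg e * (u a * w b) := by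
      intro a b
      have := congrFun (congrFun hX' a) b
      rw [hfac, Matrix.mul_vecMulVec, Matrix.vecMulVec_mul, Matrix.smul_apply, Matrix.vecMulVec_apply,
        Matrix.vecMulVec_apply, Matrix.vecMul_transpose, smul_eq_mul] at this
      exact this
    have hBw : B.mulVec w j ≠ 0 := fun h => by
      have := hprod i j
      rw [h, mul_zero, hwj, mul_one] at this
      rcases hεc with he | he <;> rw [he] at this <;> simp at this <;> first | exact hu this | exact hu this.symm
    have hAu : A.1.mulVec u i ≠ 0 := fun h => by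
      have := hprod i j
      rw [h, zero_mul, hwj, mul_one] at this
      rcases hεc with he | he <;> rw [he] at this <;> simp at this <;> first | exact hu this | exact hu this.symm
    let lam := sg e / B.mulVec w j
    let mu := sg e * u i / A.1.mulVec u i
    have hlam : A.1.mulVec u = lam • u := funext fun a => by
      have := hprod a j
      rw [hwj, mul_one] at this
      show _ = lam * u a
      simp only [lam]
      field_simp
      linear_combination this
    have hmu : B.mulVec w = mu • w := funext fun b => by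
      have := hprod i b
      show _ = mu * w b
      simp only [mu]
      field_simp
      linear_combination this
    have hprod1 : lam * mu = sg e := by
      have h1 := hprod i j
      rw [hlam, hmu] at h1
      simp only [Pi.smul_apply, smul_eq_mul, hwj, mul_one] at h1
      exact mul_right_cancel₀ hu (by linear_combination h1)
    have hquad : ∀ (M : Matrix (Fin 2) (Fin 2) F) (hM : M.det = 1) (v : Fin 2 → F) (k : Fin 2) (c : F),
        v k ≠ 0 → M.mulVec v = c • v → c * c - M.trace * c + 1 = 0 := by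
      intro M hM v k c hv hc
      have := congrArg (fun N : Matrix (Fin 2) (Fin 2) F => N.mulVec v k) (ch ⟨M, hM⟩)
      simp only [Matrix.sub_mulVec, Matrix.smul_mulVec, Matrix.one_mulVec, ← Matrix.mulVec_mulVec, hc,
        Matrix.mulVec_smul, Pi.smul_apply, Pi.sub_apply, smul_eq_mul] at this
      exact mul_right_cancel₀ hv (by linear_combination this)
    have hq1 := hquad A.1 A.2 u i lam hu hlam
    have hq2 := hquad B hBdet w j mu (by rw [hwj]; exact one_ne_zero) hmu
    have hl0 : lam ≠ 0 := fun h => by rw [h] at hq1; simp at hq1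
    have hmu' : mu = lam ^ 3 ∨ mu * lam ^ 3 = 1 := by
      have h3 : (lam + lam⁻¹) ^ 3 = lam ^ 3 + lam⁻¹ ^ 3 := add_pow_char (R := F) (p := 3) lam lam⁻¹
      have ht : A.1.trace = lam + lam⁻¹ := by field_simp; linear_combination -hq1
      rw [hBtr, ht, h3] at hq2
      have : (mu - lam ^ 3) * (mu - lam⁻¹ ^ 3) = 0 := by
        have hinv : lam ^ 3 * lam⁻¹ ^ 3 = 1 := by rw [← mul_pow, mul_inv_cancel₀ hl0, one_pow]
        linear_combination hq2 + hinv
      rcases mul_eq_zero.mp this with h | h
      · exact Or.inl (sub_eq_zero.mp h)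
      · right; rw [sub_eq_zero.mp h, ← mul_pow, inv_mul_cancel₀ hl0, one_pow]
    have hlsq : lam * lam = 1 := by
      rcases hmu' with h | h
      · rw [h] at hprod1
        rcases hεc with he | he <;> rw [he] at hprod1
        · rcases mul_self_eq_one_iff.mp (show (lam * lam) * (lam * lam) = 1 by linear_combination hprod1) with h' | h'
          · exact h'
          · exact absurd h' (hsq lam)
        · exact absurd (show (lam * lam) * (lam * lam) = -1 by linear_combination hprod1) (hsq _)
      · have h2 : sg e * (lam * lam) = 1 := by rw [← hprod1]; linear_combination h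
        rcases hεc with he | he <;> rw [he] at h2
        · linear_combination h2
        · exact absurd (show lam * lam = -1 by linear_combination -h2) (hsq lam)
    rcases mul_self_eq_one_iff.mp hlsq with h | h <;> rw [h] at hq1
    · exact h2 (by linear_combination -hq1 + two_eq (F := F))
    · exact h1 (by linear_combination hq1 - two_eq (F := F))
  · have htr : A.1.trace = sg e * A.1.trace ^ 3 := by
      have hu : IsUnit X.det := isUnit_iff_ne_zero.mpr hd
      have hB : IsUnit Bᵀ.det := by rw [Matrix.det_transpose, hBdet]; exact isUnit_one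
      have h4 : A.1 = (sg e : F) • (X * Bᵀ⁻¹ * X⁻¹) := by
        calc A.1 = A.1 * X * Bᵀ * (Bᵀ⁻¹ * X⁻¹) := by
              rw [← Matrix.mul_assoc, Matrix.mul_nonsing_inv_cancel_right _ _ hB, Matrix.mul_nonsing_inv_cancel_right _ _ hu]
          _ = (sg e : F) • X * (Bᵀ⁻¹ * X⁻¹) := by rw [hX']
          _ = (sg e : F) • (X * Bᵀ⁻¹ * X⁻¹) := by rw [Matrix.smul_mul, ← Matrix.mul_assoc]
      conv_lhs => rw [h4]
      rw [Matrix.trace_smul, smul_eq_mul, Matrix.trace_mul_comm, ← Matrix.mul_assoc, Matrix.nonsing_inv_mul _ hu,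
        Matrix.one_mul, Matrix.inv_def, Matrix.det_transpose, hBdet, Ring.inverse_one, one_smul,
        Matrix.adjugate_fin_two, ← hBtr]
      simp [Matrix.trace_fin_two, add_comm]
    have : sg e * (A.1.trace * A.1.trace) = 1 :=
      mul_right_cancel₀ h0 (by linear_combination -htr)
    rcases hεc with he | he <;> rw [he] at this
    · rcases mul_self_eq_one_iff.mp (show A.1.trace * A.1.trace = 1 by linear_combination this) with h | h
      · exact h1 h
      · exact h2 h
    · exact hsq A.1.trace (by linear_combination -this)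

/-- a semisimple element has order dividing `q - 1` or `q + 1` -/
theorem pow_half {q n : ℕ} [Fintype F] (hq : Fintype.card F = q) (hn : q = 3 ^ n) (A : Matrix.SpecialLinearGroup (Fin 2) F)
    (h1 : A.1.trace ≠ 1) (h2 : A.1.trace ≠ -1) :
    (A ^ ((q - 1) / 2) = 1 ∨ A ^ ((q - 1) / 2) = -1) ∨ (A ^ ((q + 1) / 2) = 1 ∨ A ^ ((q + 1) / 2) = -1) := by
  set t := A.1.trace with ht
  have hq1 : 1 ≤ q := hn ▸ Nat.one_le_pow _ _ (by norm_num)
  have hodd : q % 2 = 1 := by rw [hn, Nat.pow_mod]; norm_num
  have hlin : ∀ k : ℕ, ∃ a b : F, A.1 ^ k = a • (1 : Matrix (Fin 2) (Fin 2) F) + b • A.1 := by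
    intro k
    induction k with
    | zero => exact ⟨1, 0, by simp⟩
    | succ k ih =>
      obtain ⟨a, b, hk⟩ := ih
      refine ⟨-b, a + b * t, ?_⟩
      rw [pow_succ, hk, Matrix.add_mul, Matrix.smul_mul, Matrix.smul_mul, Matrix.one_mul, ch A, ← ht]
      module
  have hfrob : (A.1 ^ q) * (A.1 ^ q) = t • (A.1 ^ q) - 1 := by
    haveI : Fact (Nat.Prime 3) := ⟨by norm_num⟩
    rw [← (Commute.refl A.1).mul_pow, ch A, hn, sub_pow_char_pow_of_commute _ _ (Commute.one_right _), one_pow, smul_pow,
      ← hn, ← hq, FiniteField.pow_card]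
  have hnsc : ∀ a b : F, a • (1 : Matrix (Fin 2) (Fin 2) F) + b • A.1 = 0 → a = 0 ∧ b = 0 := by
    intro a b h
    by_cases hb : b = 0
    · subst hb
      rw [zero_smul, add_zero] at h
      exact ⟨by simpa using congrFun (congrFun h 0) 0, rfl⟩
    exfalso
    have hA : A.1 = (-(a / b)) • (1 : Matrix (Fin 2) (Fin 2) F) := by
      apply smul_right_injective (M := Matrix (Fin 2) (Fin 2) F) hb
      show b • A.1 = b • _
      rw [smul_smul, mul_neg, mul_div_cancel₀ _ hb, neg_smul]
      exact eq_neg_of_add_eq_zero_right h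
    set c := -(a / b)
    have hdet := A.2
    rw [hA, Matrix.det_smul, Matrix.det_one, mul_one, Fintype.card_fin, pow_two] at hdet
    have htc : t = c + c := by rw [ht, hA]; simp [Matrix.trace_fin_two] <;> ring
    rcases mul_self_eq_one_iff.mp hdet with hc | hc <;> rw [hc] at htc
    · exact h2 (by linear_combination htc + two_eq (F := F))
    · exact h1 (by linear_combination htc - two_eq (F := F))
  obtain ⟨a, b, hab⟩ := hlin q
  have hz : (a * a - b * b - t * a + 1) • (1 : Matrix (Fin 2) (Fin 2) F) + (2 * (a * b) + b * b * t - t * b) • A.1 = 0 := by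
    rw [hab] at hfrob
    have h := sub_eq_zero.mpr hfrob
    rw [← h, Matrix.add_mul, Matrix.mul_add, Matrix.mul_add, Matrix.smul_mul, Matrix.smul_mul, Matrix.smul_mul,
      Matrix.smul_mul, Matrix.one_mul, Matrix.one_mul, Matrix.mul_smul, Matrix.mul_smul, Matrix.mul_one, ch A, ← ht]
    module
  obtain ⟨hc0, hc1⟩ := hnsc _ _ hz
  have hb0 : b ≠ 0 := by
    intro hb
    subst hb
    rw [zero_smul, add_zero] at hab
    set N := A.1 - a • (1 : Matrix (Fin 2) (Fin 2) F) with hN
    have hNN : N * N = (t - 2 * a) • N := by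
      rw [hN, Matrix.sub_mul, Matrix.mul_sub, Matrix.mul_sub, ch A, ← ht, Matrix.smul_mul, Matrix.mul_smul,
        Matrix.one_mul, Matrix.mul_one, Matrix.smul_mul, Matrix.mul_smul, Matrix.one_mul, smul_smul]
      match_scalars <;> first | ring1 | linear_combination hc0 | linear_combination -hc0
    have hNpow : ∀ k : ℕ, N ^ (k + 1) = (t - 2 * a) ^ k • N := by
      intro k
      induction k with
      | zero => simp
      | succ k ih => rw [pow_succ, ih, Matrix.smul_mul, hNN, smul_smul, ← pow_succ]
    have hNq : N ^ q = 0 := by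
      haveI : Fact (Nat.Prime 3) := ⟨by norm_num⟩
      rw [hN, hn, sub_pow_char_pow_of_commute _ _ ((Commute.one_right _).smul_right a), smul_pow, one_pow, ← hn, hab,
        ← hq, FiniteField.pow_card, sub_self]
    have hN0 : N ≠ 0 := by
      intro h
      exact one_ne_zero (hnsc (-a) 1 (by rw [neg_smul, one_smul, neg_add_eq_sub]; exact h)).2
    rw [show q = (q - 1) + 1 by omega, hNpow] at hNq
    have hta : t - 2 * a = 0 := eq_zero_of_pow_eq_zero ((smul_eq_zero.mp hNq).resolve_right hN0)
    have ha2 : a * a = 1 := by linear_combination -hc0 - a * hta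
    rcases mul_self_eq_one_iff.mp ha2 with ha | ha <;> rw [ha] at hta
    · exact h2 (by linear_combination hta + two_eq (F := F))
    · exact h1 (by linear_combination hta - two_eq (F := F))
  have h2a : 2 * a = t - b * t := mul_right_cancel₀ hb0 (by linear_combination hc1)
  have hbb : (b * b - 1) * (t * t - 2 * 2) = 0 := by
    linear_combination (2 * 2) * hc0 - (2 * a - t - b * t) * h2a
  have hb1 : b = 1 ∨ b = -1 := by
    rcases mul_eq_zero.mp hbb with h | h
    · exact mul_self_eq_one_iff.mp (sub_eq_zero.mp h)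
    · exfalso
      rcases mul_self_eq_mul_self_iff.mp (sub_eq_zero.mp h) with h' | h'
      · exact h2 (by rw [h', two_eq])
      · exact h1 (by rw [h', two_eq, neg_neg])
  have hy : ∀ Y : Matrix.SpecialLinearGroup (Fin 2) F, Y * Y = 1 → Y = 1 ∨ Y = -1 := by
    intro Y hY
    have h := ch Y
    rw [show Y.1 * Y.1 = 1 from congrArg Subtype.val hY] at h
    have h22 : Y.1.trace • Y.1 = (2 : F) • (1 : Matrix (Fin 2) (Fin 2) F) := by
      rw [two_smul]; linear_combination (norm := module) -h
    have htY : Y.1.trace ≠ 0 := by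
      intro h0
      rw [h0, zero_smul] at h22
      have := congrFun (congrFun h22 0) 0
      simp at this
      exact two_ne this.symm
    have hY' : Y.1 = (2 / Y.1.trace) • (1 : Matrix (Fin 2) (Fin 2) F) := by
      apply smul_right_injective (M := Matrix (Fin 2) (Fin 2) F) htY
      show Y.1.trace • Y.1 = Y.1.trace • _
      rw [h22, smul_smul, mul_div_cancel₀ _ htY]
    set c := 2 / Y.1.trace
    have hdet := Y.2
    rw [hY', Matrix.det_smul, Matrix.det_one, mul_one, Fintype.card_fin, pow_two] at hdet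
    rcases mul_self_eq_one_iff.mp hdet with hc | hc <;> rw [hc] at hY'
    · left; exact Subtype.ext (by rw [hY', one_smul]; rfl)
    · right; exact Subtype.ext (by rw [hY', neg_smul, one_smul, Matrix.SpecialLinearGroup.coe_neg]; rfl)
  rcases hb1 with rfl | rfl
  · left
    have ha : a = 0 := (mul_eq_zero.mp (show (2 : F) * a = 0 by linear_combination h2a)).resolve_left two_ne
    have hAq : A ^ q = A := Subtype.ext (by
      rw [Matrix.SpecialLinearGroup.coe_pow, hab, ha, zero_smul, zero_add, one_smul])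
    apply hy
    rw [← pow_add, show (q - 1) / 2 + (q - 1) / 2 = q - 1 by omega]
    refine mul_right_cancel (b := A) ?_
    rw [← pow_succ, show q - 1 + 1 = q by omega, one_mul, hAq]
  · right
    have ha : a = t := by
      have : (2 : F) * a = 2 * t := by linear_combination h2a
      exact mul_left_cancel₀ two_ne this
    have hAq : A ^ (q + 1) = 1 := Subtype.ext (by
      rw [Matrix.SpecialLinearGroup.coe_pow, pow_succ, hab, ha, Matrix.add_mul, Matrix.smul_mul, Matrix.smul_mul,
        Matrix.one_mul, ch A, ← ht, Matrix.SpecialLinearGroup.coe_one]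
      module)
    apply hy
    rw [← pow_add, show (q + 1) / 2 + (q + 1) / 2 = q + 1 by omega, hAq]

theorem orderOf_eq_right (h : HG F)
    (hfree : ∀ X : Matrix (Fin 2) (Fin 2) F, (h.right : MulAut _) (Multiplicative.ofAdd X) = Multiplicative.ofAdd X → X = 0) :
    orderOf h = orderOf h.right := by
  refine Nat.dvd_antisymm (orderOf_dvd_of_pow_eq_one ?_) (orderOf_map_dvd SemidirectProduct.rightHom h)
  have hr : (h ^ orderOf h.right).right = 1 := by
    show SemidirectProduct.rightHom (h ^ orderOf h.right) = 1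
    rw [map_pow]
    exact pow_orderOf_eq_one h.right
  have hc : h * h ^ orderOf h.right = h ^ orderOf h.right * h := (Commute.self_pow h _).eq
  have hl := congrArg SemidirectProduct.left hc
  rw [SemidirectProduct.mul_left, SemidirectProduct.mul_left, hr, map_one, MulAut.one_apply, mul_comm] at hl
  exact SemidirectProduct.ext
    (Multiplicative.toAdd.injective (hfree (Multiplicative.toAdd (h ^ orderOf h.right).left) (mul_right_cancel hl))) hr

theorem orderOf_dvd_three (h : HG F) {k : ℕ} (hk : h.right ^ k = 1) : orderOf h ∣ 3 * k := by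
  refine orderOf_dvd_of_pow_eq_one ?_
  rw [mul_comm, pow_mul]
  have hr : (h ^ k).right = 1 := by
    show SemidirectProduct.rightHom (h ^ k) = 1
    rw [map_pow]
    exact hk
  have hl : h ^ k = SemidirectProduct.inl (h ^ k).left := by
    refine SemidirectProduct.ext ?_ ?_ <;> simp [hr]
  rw [hl, ← map_pow]
  refine (congrArg _ ?_).trans (map_one _)
  apply Multiplicative.toAdd.injective
  rw [toAdd_pow, toAdd_one]
  have h3 : (3 : F) = 0 := by
    have h : ((3 : ℕ) : F) = 0 := CharP.cast_eq_zero F 3
    exact_mod_cast h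
  ext i j
  rw [Matrix.smul_apply, nsmul_eq_mul, Nat.cast_ofNat, h3, zero_mul, Matrix.zero_apply]

theorem orders {α : ℕ} [Fintype F] (hF : Fintype.card F = 3 ^ α) (hodd : Odd α) (h : HG F) :
    orderOf h ∣ 6 ∨ orderOf h ∣ 9 ∨ orderOf h ∣ 3 ^ α - 1 ∨ orderOf h ∣ (3 ^ α + 1) / 2 := by
  obtain ⟨c, rfl⟩ := hodd
  have hq8 : 3 ^ (2 * c + 1) % 4 = 3 := by rw [pow_succ, pow_mul, Nat.mul_mod, Nat.pow_mod]; norm_num
  have hsq : ∀ x : F, x * x ≠ -1 := fun x hx =>
    (FiniteField.isSquare_neg_one_iff.mp ⟨x, hx.symm⟩) (by rw [hF]; exact hq8)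
  obtain ⟨⟨A, e⟩, hm⟩ := h.right.2
  have hpow : ∀ k, theta ((A, e) : Matrix.SpecialLinearGroup (Fin 2) F × ℤˣ) ^ k = 1 → h.right ^ k = 1 := fun k hk =>
    Subtype.ext (by rw [SubmonoidClass.coe_pow, ← hm, hk]; rfl)
  have hfree : (∀ X, act (A, e) X = X → X = 0) → orderOf h = orderOf h.right := fun hf =>
    orderOf_eq_right h fun X hX => hf X (Multiplicative.ofAdd.injective (by rw [← theta_apply, hm]; exact hX))
  have htA : ∀ k, (A ^ k = 1 ∨ A ^ k = -1) → e ^ k = 1 → theta (A, e) ^ k = 1 := by
    intro k hA he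
    rw [← map_pow, Prod.pow_mk, he]
    rcases hA with h' | h' <;> rw [h']
    · exact map_one theta
    · exact theta_negOne
  by_cases ht1 : A.1.trace = 1 ∨ A.1.trace = -1
  · have hA3 : A ^ 3 = 1 ∨ A ^ 3 = -1 := by
      have h3 : A.1 ^ 3 = (A.1.trace * A.1.trace - 1) • A.1 - A.1.trace • 1 := by
        rw [pow_succ, pow_two, ch A, Matrix.sub_mul, Matrix.smul_mul, ch A, Matrix.one_mul]
        module
      rcases ht1 with ht | ht <;> rw [ht] at h3
      · right
        refine Subtype.ext ?_
        rw [Matrix.SpecialLinearGroup.coe_pow, h3, Matrix.SpecialLinearGroup.coe_neg, Matrix.SpecialLinearGroup.coe_one]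
        simp
      · left
        refine Subtype.ext ?_
        rw [Matrix.SpecialLinearGroup.coe_pow, h3, Matrix.SpecialLinearGroup.coe_one]
        simp
    rcases Int.units_eq_one_or e with rfl | rfl
    · right; left
      exact orderOf_dvd_three h (k := 3) (hpow 3 (htA 3 hA3 (one_pow 3)))
    · left
      have hf : ∀ X, act (A, -1) X = X → X = 0 := by
        intro X hX
        have h3X : act ((A, -1) * ((A, -1) * (A, -1))) X = X := by rw [act_mul, act_mul, hX, hX, hX]
        rw [show ((A, -1) * ((A, -1) * (A, -1)) : Matrix.SpecialLinearGroup (Fin 2) F × ℤˣ) = (A ^ 3, -1) from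
          Prod.ext (show A * (A * A) = A ^ 3 by rw [pow_succ, pow_two, mul_assoc]) (show (-1 : ℤˣ) * (-1 * -1) = -1 by decide)] at h3X
        have : -X = X := by
          rcases hA3 with h' | h' <;> rw [h'] at h3X
          · refine Eq.trans ?_ h3X
            rw [act, sg_neg_one]
            simp
          · refine Eq.trans ?_ h3X
            rw [act, sg_neg_one]
            simp [show (-(1 : Matrix (Fin 2) (Fin 2) F)).map (frob : F →+* F) = -1 from by ext i j; simp [Matrix.one_apply, apply_ite]]
        ext i j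
        have h' := congrFun (congrFun this i) j
        rw [Matrix.neg_apply, neg_eq_iff_add_eq_zero, ← two_mul] at h'
        exact (mul_eq_zero.mp h').resolve_left two_ne
      rw [hfree hf]
      refine orderOf_dvd_of_pow_eq_one (hpow 6 (htA 6 ?_ (by decide)))
      left
      rcases hA3 with h' | h' <;> rw [show 6 = 3 * 2 from rfl, pow_mul, h'] <;> simp [pow_two]
  push Not at ht1
  by_cases ht0 : A.1.trace = 0
  · left
    refine orderOf_dvd_three h (k := 2) (hpow 2 (htA 2 ?_ ?_))
    · right; rw [pow_two]; exact sq_eq_neg_one_of_trace A ht0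
    · rw [pow_two, Int.units_mul_self]
  right; right
  rw [hfree fun X => fixed_free hsq A e ht0 ht1.1 ht1.2 X]
  rcases pow_half hF rfl A ht1.1 ht1.2 with h' | h'
  · left
    refine dvd_trans (orderOf_dvd_of_pow_eq_one (n := (3 ^ (2 * c + 1) - 1) / 2 * 2) ?_) (by
      rw [Nat.div_mul_cancel]; omega)
    apply hpow
    rw [pow_mul, ← map_pow, Prod.pow_mk, ← map_pow, Prod.pow_mk]
    rw [show (e ^ ((3 ^ (2 * c + 1) - 1) / 2)) ^ 2 = 1 from by rw [pow_two, Int.units_mul_self]]
    rcases h' with h'' | h'' <;> rw [h''] <;> simp only [pow_two, one_mul, mul_neg, neg_mul, neg_neg] <;> exact map_one theta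
  · right
    refine orderOf_dvd_of_pow_eq_one (hpow _ (htA _ h' ?_))
    obtain ⟨k, hk⟩ : 2 ∣ (3 ^ (2 * c + 1) + 1) / 2 := by omega
    rw [hk, pow_mul, pow_two, Int.units_mul_self, one_pow]

/-- Let q = 3^α with α ≥ 3 odd. There is a finite group H having a non-trivial normal 3-subgroup and whose element orders maximal under divisibility are exactly 6, 9, q − 1 and (q + 1)/2. -/
theorem result (α : ℕ) (hα : 3 ≤ α) (hodd : Odd α) :
    ∃ (H : Type) (_ : Group H) (_ : Fintype H), (∃ P : Subgroup H, P.Normal ∧ P ≠ ⊥ ∧ IsPGroup 3 ↥P) ∧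
      {n : ℕ | n ∈ Set.range (orderOf : H → ℕ) ∧ ∀ m ∈ Set.range (orderOf : H → ℕ), n ∣ m → m = n} = ({6, 9, 3 ^ α - 1, (3 ^ α + 1) / 2} : Set ℕ) := by
  classical
  haveI : Fact (Nat.Prime 3) := ⟨by norm_num⟩
  let F := GaloisField 3 α
  haveI : Fintype F := Fintype.ofFinite _
  have hF : Fintype.card F = 3 ^ α := by
    rw [← Nat.card_eq_fintype_card]
    exact GaloisField.card 3 α (by omega)
  haveI : Finite (HG F) := Finite.of_equiv _ SemidirectProduct.equivProd.symm
  have hq27 : 27 ≤ 3 ^ α := le_trans (by norm_num) (Nat.pow_le_pow_right (by norm_num) hα)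
  have hqmod : 3 ^ α % 4 = 3 := by
    obtain ⟨c, rfl⟩ := hodd
    rw [pow_succ, pow_mul, Nat.mul_mod, Nat.pow_mod]; norm_num
  have h3q : 3 ∣ 3 ^ α := dvd_pow_self 3 (by omega)
  obtain ⟨z₁, hz₁⟩ := (KS58.SpEl.exists_sl2_torus F).1
  obtain ⟨z₂, hz₂⟩ := (KS58.SpEl.exists_sl2_torus F).2
  rw [hF] at hz₁ hz₂
  have hU : ∀ k : Matrix.SpecialLinearGroup (Fin 2) F × ℤˣ,
      orderOf (SemidirectProduct.inr (⟨theta k, k, rfl⟩ : (theta (F := F)).range) : HG F) = orderOf (theta k) :=
    fun k => by rw [orderOf_injective _ SemidirectProduct.inr_injective, ← Subgroup.orderOf_coe]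
  let U : Matrix.SpecialLinearGroup (Fin 2) F := ⟨!![1, 1; 0, 1], by simp [Matrix.det_fin_two]⟩
  have h3F : (3 : F) = 0 := by
    have h : ((3 : ℕ) : F) = 0 := CharP.cast_eq_zero F 3
    exact_mod_cast h
  have hU3 : U ^ 3 = 1 := by
    ext i j
    rw [Matrix.SpecialLinearGroup.coe_pow, pow_succ, pow_two]
    fin_cases i <;> fin_cases j <;> simp [U, Matrix.mul_apply, Fin.sum_univ_two] <;> linear_combination h3F
  have hUo : orderOf (theta ((U, 1) : Matrix.SpecialLinearGroup (Fin 2) F × ℤˣ)) = 3 := by
    refine orderOf_eq_prime (by rw [← map_pow, Prod.pow_mk, hU3, one_pow]; exact map_one theta) fun h => ?_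
    rcases (theta_eq_one h).1 with h' | h'
    · have := congrFun (congrFun (congrArg Subtype.val h') 0) 1
      simp [U] at this
    · have := congrFun (congrFun (congrArg Subtype.val h') 0) 1
      simp [U] at this
  have hneg : orderOf (theta ((1, -1) : Matrix.SpecialLinearGroup (Fin 2) F × ℤˣ)) = 2 := by
    refine orderOf_eq_prime (by rw [← map_pow]; exact (congrArg theta (Prod.ext (by simp) (Int.units_sq _))).trans (map_one theta)) fun h => ?_
    exact absurd (theta_eq_one h).2 (by decide)
  have hkill : ∀ (z : Matrix.SpecialLinearGroup (Fin 2) F) (N : ℕ), orderOf z = 2 * N → orderOf (theta (z, (1 : ℤˣ))) = N := by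
    intro z N hz
    have hpos : 0 < orderOf z := orderOf_pos z
    refine Nat.dvd_antisymm (orderOf_dvd_of_pow_eq_one ?_) ?_
    · rw [← map_pow, Prod.pow_mk, one_pow]
      have hY : z ^ N * z ^ N = 1 := by rw [← pow_add, ← two_mul, ← hz, pow_orderOf_eq_one]
      have hy : z ^ N = 1 ∨ z ^ N = -1 := by
        have ht : (z ^ N).1.trace • (z ^ N).1 = (1 : Matrix (Fin 2) (Fin 2) F) + 1 := by
          have h := ch (z ^ N)
          rw [show (z ^ N).1 * (z ^ N).1 = 1 from congrArg Subtype.val hY] at h
          linear_combination (norm := module) -h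
        set c := (z ^ N).1.trace
        have hc0 : c ≠ 0 := by
          intro h0
          rw [h0, zero_smul] at ht
          have := congrFun (congrFun ht 0) 0
          simp at this
          exact two_ne (by linear_combination -this)
        have hd : (z ^ N).1 = (2 / c) • (1 : Matrix (Fin 2) (Fin 2) F) := by
          apply smul_right_injective (M := Matrix (Fin 2) (Fin 2) F) hc0
          show c • (z ^ N).1 = c • _
          rw [ht, smul_smul, mul_div_cancel₀ _ hc0, two_smul]
        have hdet := (z ^ N).2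
        rw [hd, Matrix.det_smul, Matrix.det_one, mul_one, Fintype.card_fin, pow_two] at hdet
        rcases mul_self_eq_one_iff.mp hdet with hh | hh <;> rw [hh] at hd
        · left; exact Subtype.ext (by rw [hd, one_smul]; rfl)
        · right; exact Subtype.ext (by rw [hd, neg_smul, one_smul, Matrix.SpecialLinearGroup.coe_neg]; rfl)
      rcases hy with h | h <;> rw [h]
      · exact map_one theta
      · exact theta_negOne
    · have h := pow_orderOf_eq_one (theta (z, (1 : ℤˣ)))
      rw [← map_pow, Prod.pow_mk, one_pow] at h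
      set k := orderOf (theta (z, (1 : ℤˣ)))
      have hdvd : orderOf z ∣ 2 * k := by
        refine orderOf_dvd_of_pow_eq_one ?_
        rw [mul_comm, pow_mul]
        rcases (theta_eq_one h).1 with h' | h' <;> rw [h', pow_two] <;> simp
      rw [hz] at hdvd
      exact (Nat.mul_dvd_mul_iff_left (by norm_num)).mp hdvd
  have hmixed : ∀ (z : Matrix.SpecialLinearGroup (Fin 2) F) (N : ℕ), orderOf (theta (z, (1 : ℤˣ))) = N → N.Coprime 2 →
      orderOf (theta (z, (-1 : ℤˣ))) = 2 * N := by
    intro z N hN hco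
    have : theta (z, (-1 : ℤˣ)) = theta ((1, -1) : Matrix.SpecialLinearGroup (Fin 2) F × ℤˣ) * theta (z, (1 : ℤˣ)) := by
      rw [← map_mul, Prod.mk_mul_mk, one_mul, mul_one]
    rw [this, Commute.orderOf_mul_eq_mul_orderOf_of_coprime, hneg, hN]
    · rw [Commute, SemiconjBy, ← map_mul, ← map_mul, Prod.mk_mul_mk, Prod.mk_mul_mk, one_mul, mul_one, mul_one, one_mul]
    · rw [hneg, hN]; exact hco.symm
  have h6 : ∃ h : HG F, orderOf h = 6 := ⟨_, (hU (U, -1)).trans (hmixed U 3 hUo (by norm_num))⟩
  have h1 : ∃ h : HG F, orderOf h = 3 ^ α - 1 := by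
    refine ⟨_, (hU (z₁, -1)).trans ?_⟩
    rw [hmixed z₁ ((3 ^ α - 1) / 2) (hkill z₁ _ (by rw [hz₁]; omega)) ?_]
    · omega
    · rw [Nat.coprime_comm, Nat.Prime.coprime_iff_not_dvd Nat.prime_two]; omega
  have h2 : ∃ h : HG F, orderOf h = (3 ^ α + 1) / 2 :=
    ⟨_, (hU (z₂, 1)).trans (hkill z₂ _ (by rw [hz₂]; omega))⟩
  have h9 : ∃ h : HG F, orderOf h = 9 := by
    let m : (theta (F := F)).range := ⟨theta (U, 1), (U, 1), rfl⟩
    let h : HG F := ⟨Multiplicative.ofAdd (Matrix.single 1 1 1), m⟩
    refine ⟨h, ?_⟩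
    refine (orderOf_eq_prime_pow (p := 3) (n := 1) ?_ ?_)
    · intro hh
      have h3 : h * h * h = 1 := by simpa [pow_succ] using hh
      have hl := congrArg (fun x : HG F => Multiplicative.toAdd x.left 0 0) h3
      simp only [SemidirectProduct.mul_left, SemidirectProduct.mul_right, SemidirectProduct.one_left, map_mul,
        MulAut.mul_apply, toAdd_mul, toAdd_one, Matrix.add_apply, Matrix.zero_apply] at hl
      have hact : ∀ X : Matrix (Fin 2) (Fin 2) F, ((theta (F := F)).range.subtype m) (Multiplicative.ofAdd X) =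
          Multiplicative.ofAdd (act (U, 1) X) := fun X => rfl
      simp only [h, hact, toAdd_ofAdd] at hl
      simp only [act, sg_one, one_smul, Matrix.mul_apply, Matrix.transpose_apply, Matrix.map_apply, Fin.sum_univ_two] at hl
      simp [U, Matrix.single, frob, frobenius_def] at hl
      exact two_ne (by linear_combination hl - h3F)
    · have h9' := orderOf_dvd_three h (k := 3) (Subtype.ext (by
        show theta (U, 1) ^ 3 = 1
        exact orderOf_dvd_iff_pow_eq_one.mp hUo.dvd))
      exact orderOf_dvd_iff_pow_eq_one.mp h9'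
  refine ⟨HG F, inferInstance, Fintype.ofFinite _,
    ⟨SemidirectProduct.inl.range, ?_, ?_, ?_⟩, ?_⟩
  · rw [SemidirectProduct.range_inl_eq_ker_rightHom]; infer_instance
  · intro h
    have : (SemidirectProduct.inl (Multiplicative.ofAdd (1 : Matrix (Fin 2) (Fin 2) F)) : HG F) ∈ (⊥ : Subgroup (HG F)) :=
      h ▸ ⟨_, rfl⟩
    rw [Subgroup.mem_bot, map_eq_one_iff _ SemidirectProduct.inl_injective] at this
    exact one_ne_zero (Multiplicative.ofAdd.injective this)
  · rintro ⟨_, v, rfl⟩
    refine ⟨1, Subtype.ext ?_⟩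
    rw [pow_one, SubmonoidClass.coe_pow, ← map_pow]
    refine (congrArg _ ?_).trans (map_one _)
    apply Multiplicative.toAdd.injective
    rw [toAdd_pow, toAdd_one]
    ext i j
    rw [Matrix.smul_apply, nsmul_eq_mul, Nat.cast_ofNat, h3F, zero_mul, Matrix.zero_apply]
  set S : Set ℕ := {6, 9, 3 ^ α - 1, (3 ^ α + 1) / 2}
  have hmem : ∀ n ∈ S, ∃ h : HG F, orderOf h = n := by
    intro n hn
    rcases hn with rfl | rfl | rfl | rfl
    exacts [h6, h9, h1, h2]
  have hanti : ∀ n ∈ S, ∀ m ∈ S, n ∣ m → n = m := by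
    have hn3a : ¬ 3 ∣ 3 ^ α - 1 := by omega
    have hn3b : ¬ 3 ∣ (3 ^ α + 1) / 2 := by omega
    intro n hn m hm hd
    rcases hn with rfl | rfl | rfl | rfl <;> rcases hm with rfl | rfl | rfl | rfl
    all_goals first
      | rfl
      | (exfalso; omega)
      | (exfalso; apply hn3a; refine dvd_trans ?_ hd; norm_num; done)
      | (exfalso; apply hn3b; refine dvd_trans ?_ hd; norm_num; done)
      | (exfalso; have := Nat.le_of_dvd (by omega) hd; omega)
      | (exfalso; have hle := Nat.le_of_dvd (by omega) hd; obtain ⟨k, hk⟩ := hd; rcases k with _ | _ | _ | k <;> ring_nf at hk <;> omega)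
  ext n
  constructor
  · rintro ⟨⟨h, rfl⟩, hmax⟩
    obtain ⟨m, hmS, hdvd⟩ : ∃ m ∈ S, orderOf h ∣ m := by
      rcases orders hF hodd h with h' | h' | h' | h'
      exacts [⟨6, Or.inl rfl, h'⟩, ⟨9, Or.inr (Or.inl rfl), h'⟩, ⟨_, Or.inr (Or.inr (Or.inl rfl)), h'⟩,
        ⟨_, Or.inr (Or.inr (Or.inr rfl)), h'⟩]
    obtain ⟨g, hg⟩ := hmem m hmS
    exact hmax m ⟨g, hg⟩ hdvd ▸ hmS
  · intro hn
    obtain ⟨g, hg⟩ := hmem n hn
    refine ⟨⟨g, hg⟩, ?_⟩
    rintro m ⟨h, rfl⟩ hd
    rcases orders hF hodd h with h' | h' | h' | h'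
    all_goals
      first
        | (have := hanti n hn 6 (Or.inl rfl) (hd.trans h'); exact Nat.dvd_antisymm (this ▸ h') hd)
        | (have := hanti n hn 9 (Or.inr (Or.inl rfl)) (hd.trans h'); exact Nat.dvd_antisymm (this ▸ h') hd)
        | (have := hanti n hn _ (Or.inr (Or.inr (Or.inl rfl))) (hd.trans h'); exact Nat.dvd_antisymm (this ▸ h') hd)
        | (have := hanti n hn _ (Or.inr (Or.inr (Or.inr rfl))) (hd.trans h'); exact Nat.dvd_antisymm (this ▸ h') hd)

end Cfsg.Agent.S2515
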