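import Cfsg.Statements.S2516
-- import your own Cfsg.Agent.* helpers here

set_option autoImplicit false
open Cfsg

namespace Cfsg.Agent.S2516

open scoped Classical in
lemma aux {F : Type*} [Field F] (p : ℕ) [Fact p.Prime] [CharP F p] {V : Type*} [AddCommGroup V] [Module F V]
    {G : Type*} [Group G] [Finite G] (A : G →* MulAut (Multiplicative V)) (r : G → (V →ₗ[F] V))
    (hA : ∀ h v, A h (Multiplicative.ofAdd v) = Multiplicative.ofAdd (r h v))
    (hr1 : r 1 = 1) (hrm : ∀ h h', r (h * h') = r h * r h') (g : G) (k : ℕ) (hk : orderOf g = k) :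
    (∃ x : Multiplicative V ⋊[A] G, x.right = g ∧ orderOf x = p * k) ↔
      (∑ i ∈ Finset.range k, r g ^ i) ≠ 0 := by
  have hpow : ∀ (v : V) (m : ℕ), (⟨Multiplicative.ofAdd v, g⟩ : Multiplicative V ⋊[A] G) ^ m =
      ⟨Multiplicative.ofAdd ((∑ i ∈ Finset.range m, r g ^ i) v), g ^ m⟩ := by
    intro v m
    induction m with
    | zero => ext <;> simp
    | succ m ih =>
      have hgm : r (g ^ m) = r g ^ m := by
        clear ih
        induction m with
        | zero => simp [hr1]
        | succ m ih => rw [pow_succ, hrm, ih, pow_succ]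
      rw [pow_succ, ih]
      ext
      · rw [SemidirectProduct.mul_left, hA, hgm, Finset.sum_range_succ, LinearMap.add_apply, ofAdd_add]
      · show g ^ m * g = g ^ (m + 1)
        rw [pow_succ]
  have hkpos : 0 < k := hk ▸ orderOf_pos g
  have hord : ∀ v : V, orderOf (⟨Multiplicative.ofAdd v, g⟩ : Multiplicative V ⋊[A] G) =
      (if (∑ i ∈ Finset.range k, r g ^ i) v = 0 then 1 else p) * k := by
    intro v
    set x : Multiplicative V ⋊[A] G := ⟨Multiplicative.ofAdd v, g⟩ with hx
    have h1 : x ^ k = SemidirectProduct.inl (Multiplicative.ofAdd ((∑ i ∈ Finset.range k, r g ^ i) v)) := by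
      rw [hx, hpow, ← hk, pow_orderOf_eq_one]; rfl
    have h2 : orderOf (x ^ k) = if (∑ i ∈ Finset.range k, r g ^ i) v = 0 then 1 else p := by
      rw [h1, orderOf_injective _ SemidirectProduct.inl_injective]
      split
      · simp [*]
      · refine orderOf_eq_prime ?_ ?_
        · rw [← ofAdd_nsmul, ← Nat.cast_smul_eq_nsmul F, CharP.cast_eq_zero, zero_smul, ofAdd_zero]
        · intro hh
          exact ‹¬_› (ofAdd_eq_one.mp hh)
    have h3 : k ∣ orderOf x := hk ▸ orderOf_map_dvd (SemidirectProduct.rightHom : Multiplicative V ⋊[A] G →* G) x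
    have hpos : 0 < orderOf (x ^ k) := by
      rw [h2]; split
      · exact Nat.one_pos
      · exact (Fact.out : p.Prime).pos
    rw [← h2, orderOf_pow' x hkpos.ne', Nat.gcd_eq_right h3, Nat.div_mul_cancel h3]
  constructor
  · rintro ⟨⟨v, h⟩, rfl, ho⟩ h0
    have := hord (Multiplicative.toAdd v)
    rw [ofAdd_toAdd, h0, LinearMap.zero_apply, if_pos rfl, one_mul, ho] at this
    have : p = 1 := by simpa [hkpos.ne'] using this
    exact (Fact.out : p.Prime).ne_one this
  · intro h0
    obtain ⟨v, hv⟩ : ∃ v, (∑ i ∈ Finset.range k, r g ^ i) v ≠ 0 := by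
      by_contra hc
      exact h0 (LinearMap.ext fun v => by simpa using not_not.mp fun hh => hc ⟨v, hh⟩)
    exact ⟨⟨Multiplicative.ofAdd v, g⟩, rfl, by rw [hord, if_neg hv]⟩


/-- Let F be a field of characteristic p > 0, V a non-zero finite-dimensional F-vector space, G a finite group and ρ a representation of G on V; form the semidirect product V ⋊ G. For g ∈ G of order k, the coset Vg contains an element of order pk if and only if the minimal polynomial of ρ(g) does not divide 1 + X + ⋯ + X^(k−1). -/
theorem result {F : Type*} [Field F] (p : ℕ) [Fact p.Prime] [CharP F p] {V : Type*} [AddCommGroup V] [Module F V] [FiniteDimensional F V] [Nontrivial V]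
    {G : Type*} [Group G] [Finite G] (ρ : Representation F G V) (g : G) :
    (∃ x : Multiplicative V ⋊[(MulAutMultiplicative V).symm.toMonoidHom.comp
        ((DistribMulAction.toAddAut ((V →ₗ[F] V)ˣ) V).comp ρ.asGroupHom)] G,
        x.right = g ∧ orderOf x = p * orderOf g) ↔
      ¬ (minpoly F (ρ g) ∣ ∑ i ∈ Finset.range (orderOf g), (Polynomial.X : Polynomial F) ^ i) := by
  refine (aux p _ (fun h => ρ h) (fun h v => rfl) (map_one ρ) (map_mul ρ) g (orderOf g) rfl).trans ?_
  rw [minpoly.dvd_iff, map_sum]
  simp only [map_pow, Polynomial.aeval_X, ne_eq]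

end Cfsg.Agent.S2516
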