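import Cfsg.Statements.S2517
import Cfsg.Agent.O9Spec80.Core
import Cfsg.Agent.Spectra36.PG.Spectrum
import Cfsg.Agent.KnownSimple58.Spectrum
import Cfsg.Agent.OrthFix.Std

set_option autoImplicit false
open Cfsg

namespace Cfsg.Agent.S2517

open Cfsg.Agent.O9Spec80
open Cfsg.Agent.UnitaryOrthogonal (orth PolarND qOdd qMinus isometryGroupEquiv)
open Cfsg.Agent.OrthFix

section
variable {F : Type*} [Field F] {p : ℕ} [Fact p.Prime] [CharP F p] {V : Type*} [AddCommGroup V] [Module F V]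
  {G : Type*} [Group G] [Finite G]

open scoped Classical in
/-- the element orders of a split extension -/
lemma semi_orders (A : G →* MulAut (Multiplicative V)) (r : G →* Module.End F V)
    (hA : ∀ h v, A h (Multiplicative.ofAdd v) = Multiplicative.ofAdd (r h v)) (n : ℕ) :
    (∃ x : Multiplicative V ⋊[A] G, orderOf x = n) ↔
      ∃ g : G, n = orderOf g ∨ (n = p * orderOf g ∧ ∃ v, (∑ i ∈ Finset.range (orderOf g), r g ^ i) v ≠ 0) := by
  have hord : ∀ (g : G) (v : V), orderOf (⟨Multiplicative.ofAdd v, g⟩ : Multiplicative V ⋊[A] G) =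
      (if (∑ i ∈ Finset.range (orderOf g), r g ^ i) v = 0 then 1 else p) * orderOf g := by
    intro g v
    set x : Multiplicative V ⋊[A] G := ⟨Multiplicative.ofAdd v, g⟩ with hx
    have hpow : ∀ m : ℕ, x ^ m = ⟨Multiplicative.ofAdd ((∑ i ∈ Finset.range m, r g ^ i) v), g ^ m⟩ := by
      intro m
      induction m with
      | zero => ext <;> simp
      | succ m ih =>
        rw [pow_succ, ih]
        ext
        · rw [SemidirectProduct.mul_left, hA, map_pow, Finset.sum_range_succ, LinearMap.add_apply, ofAdd_add]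
        · show g ^ m * g = g ^ (m + 1)
          rw [pow_succ]
    have h1 : x ^ orderOf g =
        SemidirectProduct.inl (Multiplicative.ofAdd ((∑ i ∈ Finset.range (orderOf g), r g ^ i) v)) := by
      rw [hpow, pow_orderOf_eq_one]; rfl
    have h2 : orderOf (x ^ orderOf g) = if (∑ i ∈ Finset.range (orderOf g), r g ^ i) v = 0 then 1 else p := by
      rw [h1, orderOf_injective _ SemidirectProduct.inl_injective]
      split
      · simp [*]
      · refine orderOf_eq_prime ?_ ?_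
        · rw [← ofAdd_nsmul, ← Nat.cast_smul_eq_nsmul F, CharP.cast_eq_zero, zero_smul, ofAdd_zero]
        · intro hh
          exact ‹¬_› (ofAdd_eq_one.mp hh)
    have h3 : orderOf g ∣ orderOf x :=
      orderOf_map_dvd (SemidirectProduct.rightHom : Multiplicative V ⋊[A] G →* G) x
    rw [← h2, orderOf_pow' x (orderOf_pos g).ne', Nat.gcd_eq_right h3, Nat.div_mul_cancel h3]
  constructor
  · rintro ⟨⟨v, g⟩, rfl⟩
    refine ⟨g, ?_⟩
    have := hord g (Multiplicative.toAdd v)
    rw [ofAdd_toAdd] at this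
    rw [this]
    split_ifs with h
    · exact Or.inl (one_mul _)
    · exact Or.inr ⟨rfl, _, h⟩
  · rintro ⟨g, rfl | ⟨rfl, v, hv⟩⟩
    · exact ⟨⟨Multiplicative.ofAdd 0, g⟩, by rw [hord, map_zero, if_pos rfl, one_mul]⟩
    · exact ⟨⟨Multiplicative.ofAdd v, g⟩, by rw [hord, if_neg hv]⟩

end

lemma comm_map {G H : Type*} [Group G] [Group H] (e : G ≃* H) : (commutator G).map e.toMonoidHom = commutator H := by
  rw [commutator_def, Subgroup.map_commutator, Subgroup.map_top_of_surjective e.toMonoidHom e.surjective,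
    ← commutator_def]

lemma orders_omega {G H : Type*} [Group G] [Group H] (e : G ≃* H) (n : ℕ) :
    (∃ x : ↥(commutator G), orderOf x = n) ↔ ∃ h ∈ commutator H, orderOf h = n := by
  constructor
  · rintro ⟨x, rfl⟩
    refine ⟨e x.1, comm_map e ▸ Subgroup.mem_map_of_mem e.toMonoidHom x.2, ?_⟩
    rw [MulEquiv.orderOf_eq, Subgroup.orderOf_coe]
  · rintro ⟨h, hh, rfl⟩
    obtain ⟨g, hg, rfl⟩ := comm_map e ▸ hh
    exact ⟨⟨g, hg⟩, by rw [← Subgroup.orderOf_coe]; exact (MulEquiv.orderOf_eq e g).symm⟩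


/-- Let F be a finite field of odd order q, let Ω₉ be the simple orthogonal group PΩ(9, F), and let Ω₈⁻ be the commutator subgroup of the isometry group of a minus-type non-singular quadratic form on V = F⁸ (the simple group PΩ⁻(8, F), acting on its natural module V). Then Ω₉ and the semidirect product V ⋊ Ω₈⁻ have exactly the same set of element orders. -/
theorem result {F : Type*} [Field F] [Fintype F] (hF : Odd (Fintype.card F)) (a b : F)
    (hab : ∀ z₁ z₂ : F, z₁ ^ 2 + a * z₁ * z₂ + b * z₂ ^ 2 = 0 → z₁ = 0 ∧ z₂ = 0) :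
    Set.range (orderOf : Cfsg.POmega F (Cfsg.quadFormOdd 4 F) → ℕ) =
      Set.range (orderOf :
        (Multiplicative (((Fin 3 ⊕ Fin 3) ⊕ Fin 2) → F)) ⋊[
          (MulAutMultiplicative (((Fin 3 ⊕ Fin 3) ⊕ Fin 2) → F)).symm.toMonoidHom.comp
           ((DistribMulAction.toAddAut (LinearMap.GeneralLinearGroup F (((Fin 3 ⊕ Fin 3) ⊕ Fin 2) → F))
              (((Fin 3 ⊕ Fin 3) ⊕ Fin 2) → F)).comp
            (Matrix.GeneralLinearGroup.toLin.toMonoidHom.comp
              ((Cfsg.isometryGroup F (Cfsg.quadFormMinus 3 F a b)).subtype.comp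
                (Cfsg.Omega F (Cfsg.quadFormMinus 3 F a b)).subtype)))]
          ↥(Cfsg.Omega F (Cfsg.quadFormMinus 3 F a b)) → ℕ) := by
  classical
  obtain ⟨p, hp⟩ := CharP.exists F
  haveI : Fact p.Prime := ⟨CharP.char_is_prime F p⟩
  have h2 : (2 : F) ≠ 0 := by
    intro h
    have hr : ringChar F = 2 := CharP.ringChar_of_prime_eq_zero Nat.prime_two (by exact_mod_cast h)
    have := FiniteField.even_card_iff_char_two.1 hr
    rw [Nat.odd_iff] at hF
    omega
  have hQ : PolarND (qOdd 4 F) := polarND_qOdd h2 4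
  have hd : Module.finrank F (Unit ⊕ (Fin 4 ⊕ Fin 4) → F) = 9 := by simp
  have hQm : PolarND (qMinus 3 F a b) := polarND_qMinus hab 3
  have hdm : Module.finrank F ((Fin 3 ⊕ Fin 3) ⊕ Fin 2 → F) = 8 := by simp
  haveI := orth_finite (Q := qOdd 4 F)
  haveI := orth_finite (Q := qMinus 3 F a b)
  let E9 := isometryGroupEquiv (qOdd 4 F) (f := Cfsg.quadFormOdd 4 F) (UnitaryOrthogonal.qOdd_apply 4)
  let E8 := isometryGroupEquiv (qMinus 3 F a b) (f := Cfsg.quadFormMinus 3 F a b)
    (UnitaryOrthogonal.qMinus_apply 3 a b)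
  haveI : Finite ↥(Cfsg.isometryGroup F (Cfsg.quadFormOdd 4 F)) := Finite.of_equiv _ E9.toEquiv.symm
  haveI : Finite ↥(Cfsg.isometryGroup F (Cfsg.quadFormMinus 3 F a b)) := Finite.of_equiv _ E8.toEquiv.symm
  -- the orders on the left
  have hL : ∀ n, n ∈ Set.range (orderOf : Cfsg.POmega F (Cfsg.quadFormOdd 4 F) → ℕ) ↔
      ∃ g ∈ commutator (orth (qOdd 4 F)), orderOf g = n := by
    intro n
    have hc := Spectra36.PG.omega_center h2 4 (by norm_num) (F := F)
    rw [show (⇑(qOdd 4 F)) = Cfsg.quadFormOdd 4 F from funext (UnitaryOrthogonal.qOdd_apply 4)] at hc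
    let e := (QuotientGroup.quotientMulEquivOfEq hc).trans QuotientGroup.quotientBot
    rw [← orders_omega E9]
    constructor
    · rintro ⟨x, rfl⟩; exact ⟨e x, MulEquiv.orderOf_eq e x⟩
    · rintro ⟨x, rfl⟩; exact ⟨e.symm x, MulEquiv.orderOf_eq e.symm x⟩
  -- the orders on the right
  set A := (MulAutMultiplicative (((Fin 3 ⊕ Fin 3) ⊕ Fin 2) → F)).symm.toMonoidHom.comp
           ((DistribMulAction.toAddAut (LinearMap.GeneralLinearGroup F (((Fin 3 ⊕ Fin 3) ⊕ Fin 2) → F))
              (((Fin 3 ⊕ Fin 3) ⊕ Fin 2) → F)).comp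
            (Matrix.GeneralLinearGroup.toLin.toMonoidHom.comp
              ((Cfsg.isometryGroup F (Cfsg.quadFormMinus 3 F a b)).subtype.comp
                (Cfsg.Omega F (Cfsg.quadFormMinus 3 F a b)).subtype))) with hA
  let r := (toEnd (qMinus 3 F a b)).comp (E8.toMonoidHom.comp (Cfsg.Omega F (Cfsg.quadFormMinus 3 F a b)).subtype)
  have hR : ∀ n, n ∈ Set.range (orderOf : _ ⋊[A] _ → ℕ) ↔ SemiOrd p (qMinus 3 F a b) n := by
    intro n
    refine (semi_orders (p := p) A r (fun h v => rfl) n).trans ?_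
    have hor : ∀ g, orderOf (E8.toMonoidHom ((Cfsg.Omega F (Cfsg.quadFormMinus 3 F a b)).subtype g)) = orderOf g :=
      fun g => (MulEquiv.orderOf_eq E8 _).trans (Subgroup.orderOf_coe g)
    constructor
    · rintro ⟨g, hg⟩
      refine ⟨E8 g.1, comm_map E8 ▸ Subgroup.mem_map_of_mem E8.toMonoidHom g.2, ?_⟩
      rw [show orderOf (E8 g.1) = orderOf g from hor g]
      exact hg
    · rintro ⟨h, hh, hn⟩
      obtain ⟨g, hg, rfl⟩ := comm_map E8 ▸ hh
      refine ⟨⟨g, hg⟩, ?_⟩
      rw [← hor ⟨g, hg⟩]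
      exact hn
  ext n
  rw [hL, hR]
  constructor
  · rintro ⟨g, hg, rfl⟩
    obtain ⟨W, m, hW, hW8, hWs, hm, hdvd⟩ := forward (p := p) h2 hQ hd hg
    obtain ⟨e⟩ := Sig.isometric hW hQm hWs (sig_qMinus hab 3) (hW8.trans hdm.symm)
    obtain ⟨x, hx⟩ := (hR m).2 (semiOrd_congr e hm)
    haveI : Finite (Multiplicative (((Fin 3 ⊕ Fin 3) ⊕ Fin 2) → F) ⋊[A]
      ↥(Cfsg.Omega F (Cfsg.quadFormMinus 3 F a b))) := Finite.of_equiv _ SemidirectProduct.equivProd.symm
    exact (hR _).1 (KS58.exists_orderOf_eq_of_dvd x (hx ▸ hdvd))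
  · intro hn
    obtain ⟨W, -, hW8, hW, hWs⟩ := exists_sub (m := 8) (ε := (-1 : ℤ)) (ndOn_top hQ) (sigOn_top (sig_qOdd h2 4))
      ⟨by rw [finrank_top, hd]; norm_num, Or.inr rfl, fun h => by omega,
        fun h => by simp [finrank_top, hd] at h, fun _ => by decide⟩
    obtain ⟨e⟩ := Sig.isometric hQm hW (sig_qMinus hab 3) hWs (hdm.trans hW8.symm)
    obtain ⟨g, hg, hdvd⟩ := backward (p := p) h2 hQ hd hW hW8 (semiOrd_congr e hn)
    obtain ⟨y, hy⟩ := KS58.exists_orderOf_eq_of_dvd (d := n) (⟨g, hg⟩ : ↥(commutator (orth (qOdd 4 F))))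
      (by rwa [← Subgroup.orderOf_coe])
    exact ⟨y.1, y.2, by rw [Subgroup.orderOf_coe, hy]⟩

end Cfsg.Agent.S2517
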