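import Cfsg.Statements.S2518
import Cfsg.Agent.KnownSimple58.G23.Elements
import Cfsg.Agent.KnownSimple58.G23.PSL13
import Cfsg.Agent.S1080

set_option autoImplicit false
open Cfsg

namespace Cfsg.Agent.S2518


/-- The shape shared by the two prime graphs. -/
def Shape (G : Type*) [Group G] : Prop :=
  (∀ r : ℕ, r.Prime → (r ∣ Nat.card G ↔ r = 2 ∨ r = 3 ∨ r = 7 ∨ r = 13)) ∧
    ∀ r s : ℕ, r.Prime → s.Prime → r ≠ s →
      ((∃ x : G, orderOf x = r * s) ↔ (r = 2 ∧ s = 3) ∨ (r = 3 ∧ s = 2))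

theorem shape_of_facts (G : Type*) [Group G] [Finite G]
    (hsub : ∀ r : ℕ, r.Prime → r ∣ Nat.card G → r = 2 ∨ r = 3 ∨ r = 7 ∨ r = 13)
    (h6 : ∃ x : G, orderOf x = 6) (h7 : 7 ∣ Nat.card G) (h13 : 13 ∣ Nat.card G)
    (hno : ∀ x : G, ∀ r s : ℕ, r.Prime → (s = 7 ∨ s = 13) → r ≠ s → orderOf x ≠ r * s) : Shape G := by
  obtain ⟨x, hx⟩ := h6
  have hx6 : 6 ∣ Nat.card G := hx ▸ orderOf_dvd_natCard x
  refine ⟨fun r hr => ⟨hsub r hr, ?_⟩, fun r s hr hs hne => ⟨?_, ?_⟩⟩
  · rintro (rfl | rfl | rfl | rfl)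
    · exact dvd_trans ⟨3, rfl⟩ hx6
    · exact dvd_trans ⟨2, rfl⟩ hx6
    · exact h7
    · exact h13
  · rintro ⟨y, hy⟩
    have hd := orderOf_dvd_natCard y
    rw [hy] at hd
    have hrm := hsub r hr ((dvd_mul_right r s).trans hd)
    have hsm := hsub s hs ((dvd_mul_left s r).trans hd)
    rcases hsm with rfl | rfl | h
    · rcases hrm with rfl | rfl | h'
      · exact absurd rfl hne
      · exact Or.inr ⟨rfl, rfl⟩
      · exact absurd (hy.trans (Nat.mul_comm _ _)) (hno y 2 r hs h' hne.symm)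
    · rcases hrm with rfl | rfl | h'
      · exact Or.inl ⟨rfl, rfl⟩
      · exact absurd rfl hne
      · exact absurd (hy.trans (Nat.mul_comm _ _)) (hno y 3 r hs h' hne.symm)
    · exact absurd hy (hno y r s hr h hne)
  · rintro (⟨rfl, rfl⟩ | ⟨rfl, rfl⟩)
    · exact ⟨x, hx⟩
    · exact ⟨x, hx⟩

/-- If `x` of order `r` commutes with some element of prime order `s`, and `s²` does not divide the order,
then some element of order `r` commutes with any given element of order `s`. -/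
theorem commuting_transfer {G : Type*} [Group G] [Finite G] {s : ℕ} [hs : Fact s.Prime]
    (hsq : ¬ s ^ 2 ∣ Nat.card G) {σ g x : G} (hσ : orderOf σ = s) (hg : orderOf g = s) (hx : Commute x g) :
    ∃ c : G, Commute (c * x * c⁻¹) σ := by
  have hsyl : ∀ y : G, orderOf y = s → ∃ P : Sylow s G, (P : Subgroup G) = Subgroup.zpowers y := by
    intro y hy
    have hy' : Nat.card (Subgroup.zpowers y) = s := (Nat.card_zpowers y).trans hy
    obtain ⟨P, hP⟩ := (IsPGroup.of_card (n := 1) (hy'.trans (pow_one s).symm)).exists_le_sylow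
    obtain ⟨n, hn⟩ := P.2.exists_card_eq
    have hn1 : n ≤ 1 := by
      by_contra h
      exact hsq ((pow_dvd_pow s (by omega : 2 ≤ n)).trans (hn ▸ Subgroup.card_subgroup_dvd_card _))
    refine ⟨P, (Subgroup.eq_of_le_of_card_ge hP ?_).symm⟩
    rw [hy', hn]
    calc s ^ n ≤ s ^ 1 := Nat.pow_le_pow_right hs.out.pos hn1
      _ = s := pow_one s
  obtain ⟨P, hP⟩ := hsyl g hg
  obtain ⟨Q, hQ⟩ := hsyl σ hσ
  obtain ⟨c, hc⟩ := MulAction.exists_smul_eq G P Q
  have hmem : σ ∈ ((P : Subgroup G)).map (MulAut.conj c).toMonoidHom := by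
    have : σ ∈ (Q : Subgroup G) := hQ ▸ Subgroup.mem_zpowers σ
    rw [← hc, Sylow.coe_subgroup_smul] at this
    exact this
  obtain ⟨y, hy, rfl⟩ := Subgroup.mem_map.mp hmem
  rw [hP] at hy
  obtain ⟨k, rfl⟩ := Subgroup.mem_zpowers_iff.mp hy
  exact ⟨c, (hx.zpow_right k).map (MulAut.conj c).toMonoidHom⟩

open KS58 in
theorem shape_g2 : Shape G23.Γ := by
  have hp : ∀ r : ℕ, r.Prime → r ∣ Nat.card G23.Γ → r = 2 ∨ r = 3 ∨ r = 7 ∨ r = 13 := by
    intro r hr hd
    rw [G23.card_Γ, show (4245696 : ℕ) = 2 ^ 6 * (3 ^ 6 * (7 * 13)) by norm_num, hr.dvd_mul, hr.dvd_mul,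
      hr.dvd_mul] at hd
    rcases hd with h | h | h | h
    · exact .inl ((Nat.prime_dvd_prime_iff_eq hr Nat.prime_two).mp (hr.dvd_of_dvd_pow h))
    · exact .inr (.inl ((Nat.prime_dvd_prime_iff_eq hr Nat.prime_three).mp (hr.dvd_of_dvd_pow h)))
    · exact .inr (.inr (.inl ((Nat.prime_dvd_prime_iff_eq hr (by norm_num)).mp h)))
    · exact .inr (.inr (.inr ((Nat.prime_dvd_prime_iff_eq hr (by norm_num)).mp h)))
  refine shape_of_facts _ hp ⟨G23.g6, G23.orderOf_g6⟩ ?_ ?_ ?_
  · exact G23.orderOf_g7 ▸ orderOf_dvd_natCard G23.g7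
  · exact G23.orderOf_g13 ▸ orderOf_dvd_natCard G23.g13
  intro y r s hr hs hne hy
  have hsp : s.Prime := by rcases hs with rfl | rfl <;> norm_num
  haveI : Fact s.Prime := ⟨hsp⟩
  have hrm := hp r hr ((dvd_mul_right r s).trans (hy ▸ orderOf_dvd_natCard y))
  have hgo : orderOf (y ^ r) = s := by
    rw [orderOf_pow_of_dvd hr.ne_zero (hy ▸ dvd_mul_right r s), hy, Nat.mul_div_cancel_left _ hr.pos]
  have hxo : orderOf (y ^ s) = r := by
    rw [orderOf_pow_of_dvd hsp.ne_zero (hy ▸ dvd_mul_left s r), hy, Nat.mul_div_cancel _ hsp.pos]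
  have hsq : ¬ s ^ 2 ∣ Nat.card G23.Γ := by
    rw [G23.card_Γ]; rcases hs with rfl | rfl <;> norm_num
  rcases hs with rfl | rfl
  · obtain ⟨c, hc⟩ := commuting_transfer hsq G23.orderOf_g7 hgo ((Commute.refl y).pow_pow 7 r)
    have ho : orderOf (c * y ^ 7 * c⁻¹) = r := by
      rw [← hxo]; exact orderOf_injective (MulAut.conj c).toMonoidHom (MulAut.conj c).injective _
    have hd := G23.dvd728 hc
    rw [ho] at hd
    rcases hrm with rfl | rfl | rfl | rfl
    · exact G23.no_two_g7 hc ho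
    · norm_num at hd
    · exact hne rfl
    · haveI : Fact (Nat.Prime 13) := ⟨by norm_num⟩
      obtain ⟨d, hd'⟩ := commuting_transfer (by rw [G23.card_Γ]; norm_num) G23.orderOf_g13 hxo
        ((Commute.refl y).pow_pow 13 7)
      have hgo' : orderOf (d * y ^ 13 * d⁻¹) = 7 := by
        rw [← hgo]; exact orderOf_injective (MulAut.conj d).toMonoidHom (MulAut.conj d).injective _
      have := G23.dvd26 hd'
      rw [hgo'] at this
      norm_num at this
  · obtain ⟨c, hc⟩ := commuting_transfer hsq G23.orderOf_g13 hgo ((Commute.refl y).pow_pow 13 r)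
    have ho : orderOf (c * y ^ 13 * c⁻¹) = r := by
      rw [← hxo]; exact orderOf_injective (MulAut.conj c).toMonoidHom (MulAut.conj c).injective _
    have hd := G23.dvd26 hc
    rw [ho] at hd
    rcases hrm with rfl | rfl | rfl | rfl
    · exact G23.no_two_g13 hc ho
    · norm_num at hd
    · norm_num at hd
    · exact hne rfl

open KS58 in
theorem shape_psl {E : Type*} [Field E] [Fintype E] (hE : Fintype.card E = 13) :
    Shape (Matrix.ProjectiveSpecialLinearGroup (Fin 2) E) := by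
  obtain ⟨h6, ⟨b, hb⟩, c, hc⟩ := PSL13.exists_orders hE
  refine shape_of_facts _ (fun r hr hd => ?_) h6 (hb ▸ orderOf_dvd_natCard b) (hc ▸ orderOf_dvd_natCard c)
    fun y r s hr hs hne hy => ?_
  · haveI : Fact r.Prime := ⟨hr⟩
    obtain ⟨y, hy⟩ := exists_prime_orderOf_dvd_card' r hd
    have h := PSL13.orderOf_cases hE y
    rw [hy, show (6 : ℕ) = 2 * 3 from rfl, hr.dvd_mul, Nat.prime_dvd_prime_iff_eq hr Nat.prime_two,
      Nat.prime_dvd_prime_iff_eq hr Nat.prime_three, Nat.prime_dvd_prime_iff_eq hr (by norm_num : Nat.Prime 7),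
      Nat.prime_dvd_prime_iff_eq hr (by norm_num : Nat.Prime 13)] at h
    tauto
  · have h := PSL13.orderOf_cases hE y
    rw [hy] at h
    rcases h with h | h | h
    · have := (dvd_mul_left s r).trans h
      rcases hs with rfl | rfl <;> norm_num at this
    · have h1 := (Nat.prime_dvd_prime_iff_eq hr (by norm_num : Nat.Prime 7)).mp ((dvd_mul_right r s).trans h)
      have h2 := (dvd_mul_left s r).trans h
      rcases hs with rfl | rfl
      · exact hne h1
      · norm_num at h2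
    · have h1 := (Nat.prime_dvd_prime_iff_eq hr (by norm_num : Nat.Prime 13)).mp ((dvd_mul_right r s).trans h)
      have h2 := (dvd_mul_left s r).trans h
      rcases hs with rfl | rfl
      · norm_num at h2
      · exact hne h1

/-- Let F₃ be the field with 3 elements and F₁₃ the field with 13 elements. The Chevalley group G₂(F₃) and PSL(2, F₁₃) have the same prime graph: the same prime divisors of their orders, and for distinct primes r, s an element of order rs in one iff in the other. -/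
theorem result {F : Type*} [Field F] [Fintype F] (hF : Fintype.card F = 3) {E : Type*} [Field E] [Fintype E] (hE : Fintype.card E = 13) :
    ((∀ r : ℕ, r.Prime → (r ∣ Nat.card ↥(Cfsg.Lie.chevG2.group F) ↔ r ∣ Nat.card (Matrix.ProjectiveSpecialLinearGroup (Fin 2) E))) ∧
      (∀ r s : ℕ, r.Prime → s.Prime → r ≠ s → ((∃ x : ↥(Cfsg.Lie.chevG2.group F), orderOf x = r * s) ↔ (∃ y : (Matrix.ProjectiveSpecialLinearGroup (Fin 2) E), orderOf y = r * s)))) := by
  obtain ⟨hB1, hB2⟩ := shape_psl hE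
  obtain ⟨hA1, hA2⟩ := shape_g2
  let e : ZMod 3 ≃+* F := FiniteField.ringEquivOfCardEq ((ZMod.card 3).trans hF.symm)
  let f : KS58.G23.Γ →* Cfsg.Lie.chevG2.group F :=
    MonoidHom.codRestrict
      ((Matrix.GeneralLinearGroup.map (n := Cfsg.Lie.chevG2.Idx) e.toRingHom).comp KS58.G23.Γ.subtype) _
      fun g => S1080.map_group_le Cfsg.Lie.chevG2 e.toRingHom ⟨g.1, g.2, rfl⟩
  let b : Cfsg.Lie.chevG2.group F →* KS58.G23.Γ :=
    MonoidHom.codRestrict ((Matrix.GeneralLinearGroup.map (n := Cfsg.Lie.chevG2.Idx) e.symm.toRingHom).comp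
      (Cfsg.Lie.chevG2.group F).subtype) _
      fun g => S1080.map_group_le Cfsg.Lie.chevG2 e.symm.toRingHom ⟨g.1, g.2, rfl⟩
  let Φ : KS58.G23.Γ ≃* Cfsg.Lie.chevG2.group F := MonoidHom.toMulEquiv f b
    (MonoidHom.ext fun g => by ext i j; simp [f, b])
    (MonoidHom.ext fun g => by ext i j; simp [f, b])
  refine ⟨fun r hr => ?_, fun r s hr hs hne => ?_⟩
  · rw [← Nat.card_congr Φ.toEquiv, hA1 r hr, hB1 r hr]
  · rw [hB2 r s hr hs hne, ← hA2 r s hr hs hne]
    constructor
    · rintro ⟨x, hx⟩; exact ⟨Φ.symm x, by rw [MulEquiv.orderOf_eq]; exact hx⟩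
    · rintro ⟨x, hx⟩; exact ⟨Φ x, by rw [MulEquiv.orderOf_eq]; exact hx⟩

end Cfsg.Agent.S2518
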