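import Cfsg.Statements.S2519
import Cfsg.Agent.G2Orders80.Spectrum

set_option autoImplicit false
open Cfsg

namespace Cfsg.Agent.S2519

/-- Let F be a finite field of odd order q = p^a ≥ 5. The element orders of the Chevalley group G₂(F) that are maximal under divisibility are exactly p(q + 1), p(q − 1), q² − 1, q² + q + 1, q² − q + 1, together with p² when p is 3 or 5. -/
theorem result {F : Type*} [Field F] [Fintype F] (p a : ℕ) (hp : p.Prime) (hp2 : p ≠ 2) (ha : 1 ≤ a) (hF : Fintype.card F = p ^ a) (hq5 : 5 ≤ Fintype.card F) :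
    {n : ℕ | n ∈ Set.range (orderOf : ↥(Cfsg.Lie.chevG2.group F) → ℕ) ∧ ∀ m ∈ Set.range (orderOf : ↥(Cfsg.Lie.chevG2.group F) → ℕ), n ∣ m → m = n} =
      ({p * (p ^ a + 1), p * (p ^ a - 1), p ^ (2 * a) - 1, p ^ (2 * a) + p ^ a + 1, p ^ (2 * a) - p ^ a + 1} : Set ℕ) ∪
        (if p = 3 ∨ p = 5 then ({p ^ 2} : Set ℕ) else ∅) := by
  haveI := Fact.mk hp
  haveI : CharP F p := charP_of_card_eq_prime_pow hF
  have hpq : p ∣ Fintype.card F := hF ▸ dvd_pow_self p (by omega)
  have hsq : p ^ (2 * a) = Fintype.card F ^ 2 := by rw [hF, ← pow_mul, mul_comm]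
  rw [hsq, ← hF]
  show _ = G2Orders80.cands p (Fintype.card F)
  set q := Fintype.card F with hq
  have hanti := G2Orders80.cands_antichain hp hpq (hq ▸ hq5)
  have real : ∀ x ∈ G2Orders80.cands p q,
      x ∈ Set.range (orderOf : ↥(Cfsg.Lie.chevG2.group F) → ℕ) := by
    rintro x (hx | hx)
    · rcases hx with rfl | rfl | rfl | rfl | hx
      · exact G2Orders80.exists_order_p_add_one (p := p) (by omega)
      · exact G2Orders80.exists_order_p_sub_one (p := p) (by omega)
      · exact G2Orders80.exists_order_sq_sub_one (p := p) (by omega)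
      · exact G2Orders80.exists_order_phi3 (by omega)
      · exact hx ▸ G2Orders80.exists_order_phi6 (by omega)
    · split_ifs at hx with h
      · exact hx ▸ G2Orders80.exists_order_sq (p := p) h
      · exact hx.elim
  have bound : ∀ g : ↥(Cfsg.Lie.chevG2.group F), ∃ x ∈ G2Orders80.cands p q, orderOf g ∣ x := by
    intro g
    rcases G2Orders80.order_cases (p := p) g with ⟨N, hN, h⟩ | ⟨h, hd⟩ | ⟨h, -⟩
    · simp only [List.mem_cons, List.not_mem_nil, or_false] at hN
      refine ⟨N, Or.inl ?_, h⟩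
      simp only [Set.mem_insert_iff, Set.mem_singleton_iff]
      tauto
    · exact ⟨p ^ 2, Or.inr (by rw [if_pos h]; rfl), hd⟩
    · exact absurd h hp2
  apply Set.Subset.antisymm
  · rintro n ⟨⟨g, rfl⟩, hmax⟩
    obtain ⟨x, hx, hd⟩ := bound g
    exact hmax x (real x hx) hd ▸ hx
  · intro x hx
    refine ⟨real x hx, ?_⟩
    rintro m ⟨g, rfl⟩ hd
    obtain ⟨y, hy, hdy⟩ := bound g
    obtain rfl := hanti x hx y hy (hd.trans hdy)
    exact Nat.dvd_antisymm hdy hd

end Cfsg.Agent.S2519
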