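import Cfsg.Statements.S2520
import Cfsg.Agent.G2Orders80.Spectrum

set_option autoImplicit false
open Cfsg

namespace Cfsg.Agent.S2520

/-- Let F be a finite field with q = 2^a ≥ 4 elements and G₂(F) the Chevalley group of type G₂ over it. Every element order of G₂(F) maximal under divisibility lies in the set {8, 12, 2(q + 1), 2(q − 1), q² − 1, q² + q + 1, q² − q + 1}, and every member of that set is an element order of G₂(F). -/
theorem result {F : Type*} [Field F] [Fintype F] (a : ℕ) (ha : 2 ≤ a) (hF : Fintype.card F = 2 ^ a) :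
    {n : ℕ | n ∈ Set.range (orderOf : ↥(Cfsg.Lie.chevG2.group F) → ℕ) ∧ ∀ m ∈ Set.range (orderOf : ↥(Cfsg.Lie.chevG2.group F) → ℕ), n ∣ m → m = n} ⊆ ({8, 12, 2 * (2 ^ a + 1), 2 * (2 ^ a - 1), 2 ^ (2 * a) - 1, 2 ^ (2 * a) + 2 ^ a + 1, 2 ^ (2 * a) - 2 ^ a + 1} : Set ℕ) ∧
    ({8, 12, 2 * (2 ^ a + 1), 2 * (2 ^ a - 1), 2 ^ (2 * a) - 1, 2 ^ (2 * a) + 2 ^ a + 1, 2 ^ (2 * a) - 2 ^ a + 1} : Set ℕ) ⊆ Set.range (orderOf : ↥(Cfsg.Lie.chevG2.group F) → ℕ) := by
  haveI := Fact.mk Nat.prime_two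
  haveI : CharP F 2 := charP_of_card_eq_prime_pow hF
  have hsq : 2 ^ (2 * a) = Fintype.card F ^ 2 := by rw [hF, ← pow_mul, mul_comm]
  have hq4 : 4 ≤ Fintype.card F := hF ▸ Nat.pow_le_pow_right (n := 2) (by norm_num) ha
  rw [hsq, ← hF]
  set q := Fintype.card F with hq
  have real : ∀ x ∈ ({8, 12, 2 * (q + 1), 2 * (q - 1), q ^ 2 - 1, q ^ 2 + q + 1, q ^ 2 - q + 1} : Set ℕ),
      x ∈ Set.range (orderOf : ↥(Cfsg.Lie.chevG2.group F) → ℕ) := by
    rintro x (rfl | rfl | rfl | rfl | rfl | rfl | hx)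
    · exact G2Orders80.exists_order_eight (p := 2) rfl
    · exact G2Orders80.exists_order_twelve (p := 2) rfl
    · exact G2Orders80.exists_order_p_add_one (p := 2) (by omega)
    · exact G2Orders80.exists_order_p_sub_one (p := 2) (by omega)
    · exact G2Orders80.exists_order_sq_sub_one (p := 2) (by omega)
    · exact G2Orders80.exists_order_phi3 (by omega)
    · exact hx ▸ G2Orders80.exists_order_phi6 (by omega)
  refine ⟨?_, real⟩
  rintro n ⟨⟨g, rfl⟩, hmax⟩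
  have fin : ∀ x ∈ ({8, 12, 2 * (q + 1), 2 * (q - 1), q ^ 2 - 1, q ^ 2 + q + 1, q ^ 2 - q + 1} : Set ℕ),
      orderOf g ∣ x → orderOf g ∈
        ({8, 12, 2 * (q + 1), 2 * (q - 1), q ^ 2 - 1, q ^ 2 + q + 1, q ^ 2 - q + 1} : Set ℕ) :=
    fun x hx hd => hmax x (real x hx) hd ▸ hx
  rcases G2Orders80.order_cases (p := 2) g with ⟨N, hN, h⟩ | ⟨h, -⟩ | ⟨-, h | h⟩
  · simp only [List.mem_cons, List.not_mem_nil, or_false] at hN
    refine fin N ?_ h
    simp only [Set.mem_insert_iff, Set.mem_singleton_iff]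
    tauto
  · omega
  · exact fin 8 (Or.inl rfl) h
  · exact fin 12 (Or.inr (Or.inl rfl)) h

end Cfsg.Agent.S2520
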