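import Cfsg.Statements.S2521
-- import your own Cfsg.Agent.* helpers here

set_option autoImplicit false
open Cfsg

namespace Cfsg.Agent.S2521



/-- Let B be a finite group that is the semidirect product of a nilpotent normal subgroup U by an abelian subgroup T (U ∩ T = 1, UT = B), and let t ∈ T have centralizer exactly T. Then every element of the coset tU is conjugate to t in B: for each u ∈ U there is b ∈ B with b t b⁻¹ = t u. -/
theorem result {B : Type*} [Group B] [Finite B] (U T : Subgroup B) [U.Normal] (hU : Group.IsNilpotent ↥U) (hT : IsMulCommutative ↥T)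
    (hcompl : Subgroup.IsComplement' U T) (t : B) (ht : t ∈ T) (hreg : Subgroup.centralizer ({t} : Set B) = T) (u : B) (hu : u ∈ U) :
    ∃ b : B, b * t * b⁻¹ = t * u := by
  have hmem : ∀ b : U, t⁻¹ * ((b:B) * t * (b:B)⁻¹) ∈ U := by
    intro b
    have h1 : t⁻¹ * (b:B) * t ∈ U := by
      simpa using Subgroup.Normal.conj_mem (inferInstance : U.Normal) (b:B) b.2 t⁻¹
    have := U.mul_mem h1 (U.inv_mem b.2)
    simpa [mul_assoc] using this
  let f : U → U := fun b => ⟨t⁻¹ * ((b:B) * t * (b:B)⁻¹), hmem b⟩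
  have hf : Function.Injective f := by
    intro a b hab
    have h1 : (a:B) * t * (a:B)⁻¹ = (b:B) * t * (b:B)⁻¹ := mul_left_cancel (congrArg Subtype.val hab)
    have h2 : (b:B)⁻¹ * a ∈ T := by
      rw [← hreg, Subgroup.mem_centralizer_singleton_iff]
      calc (b:B)⁻¹ * a * t = (b:B)⁻¹ * ((a:B) * t * (a:B)⁻¹) * a := by group
        _ = (b:B)⁻¹ * ((b:B) * t * (b:B)⁻¹) * a := by rw [h1]
        _ = t * ((b:B)⁻¹ * a) := by group
    have h3 : (b:B)⁻¹ * a ∈ U := U.mul_mem (U.inv_mem b.2) a.2
    have h4 : (b:B)⁻¹ * a = 1 := by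
      have := hcompl.disjoint
      rw [Subgroup.disjoint_def] at this
      exact this h3 h2
    exact Subtype.ext (inv_mul_eq_one.mp h4).symm
  obtain ⟨b, hb⟩ := (Finite.injective_iff_surjective.mp hf) ⟨u, hu⟩
  refine ⟨b, ?_⟩
  have := congrArg Subtype.val hb
  simp only [f] at this
  rw [← this]; group

end Cfsg.Agent.S2521
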