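import Cfsg.Statements.S2522
import Cfsg.Agent.FGS77.Thompson.Regular

set_option autoImplicit false
open Cfsg
open scoped commutatorElement

namespace Cfsg.Agent.S2522

/-- Let K be a field with at least four elements (finite or infinite), n ≥ 3, and J ∈ GL(n, K) the regular unipotent matrix (ones on the diagonal and the superdiagonal, zeros elsewhere). Then every non-scalar g ∈ GL(n, K) with det g = 1 is a product of two GL(n, K)-conjugates of J. -/
theorem result {K : Type*} [Field K] (hK : 4 ≤ Cardinal.mk K) (n : ℕ) (hn : 3 ≤ n) (J g : GL (Fin n) K)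
    (hJ : ∀ i j : Fin n, (J : Matrix (Fin n) (Fin n) K) i j = if i = j then 1 else if j.val = i.val + 1 then 1 else 0)
    (hg : ¬ ∃ c : K, (g : Matrix (Fin n) (Fin n) K) = c • (1 : Matrix (Fin n) (Fin n) K))
    (hdet : (g : Matrix (Fin n) (Fin n) K).det = 1) :
    ∃ x y : GL (Fin n) K, g = (x * J * x⁻¹) * (y * J * y⁻¹) := by
  obtain ⟨e⟩ : Nonempty (Fin 4 ↪ K) := by
    rw [← Cardinal.lift_mk_le']
    simpa using hK
  obtain ⟨P, R, h⟩ := Cfsg.Agent.FGS77.Thompson.exists_regular_fac_matrix e
    (g : Matrix (Fin n) (Fin n) K) hdet (fun c hc => hg ⟨c, hc⟩)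
  let W : Matrix (Fin n) (Fin n) K := (1 : Matrix (Fin n) (Fin n) K).submatrix Fin.rev id
  have hWW : W * W = 1 := by
    ext i j
    simp [W, Matrix.mul_apply, Matrix.one_apply, Fin.rev_eq_iff]
  let Wu : GL (Fin n) K := ⟨W, W, hWW, hWW⟩
  have hJW : (J : Matrix (Fin n) (Fin n) K) = W * (1 + Cfsg.Agent.KS58.shift K n) * W := by
    ext i j
    simp only [W, Matrix.mul_apply, Matrix.submatrix_apply, id_eq, Matrix.one_apply, ite_mul,
      one_mul, zero_mul, mul_ite, mul_one, mul_zero, Finset.sum_ite_eq, Finset.mem_univ, if_true]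
    rw [Finset.sum_eq_single j.rev]
    · rw [if_pos (Fin.rev_rev j), hJ, Matrix.add_apply]
      simp only [Cfsg.Agent.KS58.shift, Matrix.of_apply, Fin.val_rev, Matrix.one_apply, Fin.rev_inj]
      by_cases hij : i = j
      · subst hij; simp
      · have hne : (i : ℕ) ≠ j := fun h => hij (Fin.ext h)
        simp only [hij, if_false, zero_add]
        by_cases h1 : (j : ℕ) = i + 1
        · rw [if_pos h1, if_pos (by omega)]
        · rw [if_neg h1, if_neg (by omega)]
    · intro k _ hk
      rw [if_neg (fun h => hk (by rw [← h, Fin.rev_rev]))]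
    · simp
  refine ⟨P * Wu, R * Wu, Units.ext ?_⟩
  simp only [Units.val_mul, _root_.mul_inv_rev]
  change (g : Matrix (Fin n) (Fin n) K) = _
  have hWinv : ((Wu⁻¹ : GL (Fin n) K) : Matrix (Fin n) (Fin n) K) = W := rfl
  have hWval : ((Wu : GL (Fin n) K) : Matrix (Fin n) (Fin n) K) = W := rfl
  rw [h, hWinv, hWval, hJW]
  simp only [Matrix.mul_assoc]
  simp only [← Matrix.mul_assoc W W, hWW, Matrix.one_mul]

end Cfsg.Agent.S2522
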