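import Cfsg.Statements.S2524
import Cfsg.Agent.CrossChar56.RankOne.Main

set_option autoImplicit false
open Cfsg

namespace Cfsg.Agent.S2524

open Cfsg.Agent.CrossChar56.RankOne in
/-- Let F be a finite field of odd order q and G = Sp(2n, F) with n ≥ 2. Then G has exactly four irreducible complex characters of degree (q^n + 1)/2 or (q^n − 1)/2 (two of each), and every other non-principal irreducible character has degree at least (q^n − 1)(q^n − q)/(2(q + 1)). -/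
theorem result {F : Type*} [Field F] [Fintype F] (hodd : Odd (Fintype.card F)) (n : ℕ) (hn : 2 ≤ n) :
    Nat.card {χ : Cfsg.IrrCharacter ↥(Matrix.symplecticGroup (Fin n) F) // (χ : ↥(Matrix.symplecticGroup (Fin n) F) → ℂ) 1 = (((Fintype.card F) ^ n + 1 : ℕ) : ℂ) / 2} = 2 ∧
    Nat.card {χ : Cfsg.IrrCharacter ↥(Matrix.symplecticGroup (Fin n) F) // (χ : ↥(Matrix.symplecticGroup (Fin n) F) → ℂ) 1 = (((Fintype.card F) ^ n - 1 : ℕ) : ℂ) / 2} = 2 ∧
    ∀ χ : Cfsg.IrrCharacter ↥(Matrix.symplecticGroup (Fin n) F),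
      (χ : ↥(Matrix.symplecticGroup (Fin n) F) → ℂ) 1 ≠ 1 →
      (χ : ↥(Matrix.symplecticGroup (Fin n) F) → ℂ) 1 ≠ (((Fintype.card F) ^ n + 1 : ℕ) : ℂ) / 2 →
      (χ : ↥(Matrix.symplecticGroup (Fin n) F) → ℂ) 1 ≠ (((Fintype.card F) ^ n - 1 : ℕ) : ℂ) / 2 →
      (((Fintype.card F) ^ n - 1 : ℕ) : ℝ) * (((Fintype.card F) ^ n - Fintype.card F : ℕ) : ℝ) / (2 * ((Fintype.card F : ℕ) + 1 : ℝ)) ≤ ‖(χ : ↥(Matrix.symplecticGroup (Fin n) F) → ℂ) 1‖ := by
  classical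
  have hchar : ringChar F ≠ 2 := by
    intro h
    have := FiniteField.even_card_iff_char_two.mp h
    rw [Nat.odd_iff] at hodd
    omega
  have h2 : (2 : F) ≠ 0 := Ring.two_ne_zero hchar
  set q := Fintype.card F with hq
  have hq3 : 3 ≤ q := by
    have := Fintype.one_lt_card (α := F)
    rw [Nat.odd_iff] at hodd
    omega
  have hqX : q * q ≤ q ^ n := by
    rw [← sq]; exact Nat.pow_le_pow_right (by omega) hn
  have hX9 : 9 ≤ q ^ n := le_trans (Nat.mul_le_mul hq3 hq3) hqX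
  have hqq : q ≤ q ^ n := Nat.le_self_pow (by omega) q
  obtain ⟨ψ₁, hψ₁⟩ := AddChar.exists_apply_ne_zero.mpr (one_ne_zero : (1 : F) ≠ 0)
  have hψ : ψ₁.IsPrimitive := AddChar.IsPrimitive.of_ne_one (AddChar.ne_one_iff.mpr ⟨1, hψ₁⟩)
  obtain ⟨δ, hδ⟩ := FiniteField.exists_nonsquare hchar
  have hψ' : (ψ₁.mulShift δ).IsPrimitive := AddChar.IsPrimitive.of_ne_one
    (hψ (fun h => hδ (h ▸ IsSquare.zero)))
  obtain ⟨M₀⟩ := exists_model (n := n) ψ₁ h2 hψ
  obtain ⟨M₁⟩ := exists_model (n := n) (ψ₁.mulShift δ) h2 hψ'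
  have hn1 : 1 ≤ n := by omega
  have hp : (1 : ℂ) * 1 = 1 := one_mul 1
  have hm : (-1 : ℂ) * -1 = 1 := by norm_num
  have irr : ∀ {ψ : AddChar F ℂ} (M : Model (n := n) ψ), ψ.IsPrimitive → ∀ s : ℂ, s * s = 1 →
      Cfsg.IsIrrCharacter ↥(Matrix.symplecticGroup (Fin n) F) (partChar M s) := by
    intro ψ M h s hs
    haveI := part_irreducible M hn1 h2 h hs
    exact Cfsg.Agent.CharCore.isIrrCharacter_character _
  have hdeg : ∀ {ψ : AddChar F ℂ} (M : Model (n := n) ψ),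
      partChar M 1 1 = ((q ^ n + 1 : ℕ) : ℂ) / 2 ∧
      partChar M (-1) 1 = ((q ^ n - 1 : ℕ) : ℂ) / 2 := by
    intro ψ M
    refine ⟨?_, ?_⟩
    · rw [partChar_one M h2 hp]; push_cast; rfl
    · rw [partChar_one M h2 hm, Nat.cast_sub (by omega)]; push_cast; ring
  have hdiff : ((q ^ n + 1 : ℕ) : ℂ) / 2 ≠ ((q ^ n - 1 : ℕ) : ℂ) / 2 := fun h => by
    have := mul_right_cancel₀ (inv_ne_zero (two_ne_zero (α := ℂ))) (by simpa [div_eq_mul_inv] using h)
    have h' : q ^ n + 1 = q ^ n - 1 := by exact_mod_cast this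
    omega
  -- the degree and the classification of each character
  have info : ∀ χ : Cfsg.IrrCharacter ↥(Matrix.symplecticGroup (Fin n) F),
      ∃ d : ℕ, χ.1 1 = (d : ℂ) ∧ (2 ≤ d →
        ((q : ℤ) ^ n - 1) * ((q : ℤ) ^ n - q) ≤ 2 * ((q : ℤ) + 1) * (d : ℤ) ∨
        χ.1 = partChar M₀ 1 ∨ χ.1 = partChar M₀ (-1) ∨
        χ.1 = partChar M₁ 1 ∨ χ.1 = partChar M₁ (-1)) := by
    intro χ
    obtain ⟨d, ρ, hρ, hχ⟩ := χ.2
    refine ⟨d, by rw [← hχ]; simp, fun hd => ?_⟩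
    rw [← hχ]
    exact classification hn hodd hψ hδ M₀ M₁ ρ hρ hd
  have small : ∀ χ : Cfsg.IrrCharacter ↥(Matrix.symplecticGroup (Fin n) F), ∀ m : ℕ,
      χ.1 1 = (m : ℂ) / 2 → m ≤ q ^ n + 1 → 4 ≤ m →
      χ.1 = partChar M₀ 1 ∨ χ.1 = partChar M₀ (-1) ∨
        χ.1 = partChar M₁ 1 ∨ χ.1 = partChar M₁ (-1) := by
    intro χ m hm hmle hm4
    obtain ⟨d, hd, h⟩ := info χ
    rw [hd, eq_div_iff (two_ne_zero (α := ℂ))] at hm
    have hdm : d * 2 = m := by exact_mod_cast hm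
    refine (h (by omega)).resolve_left ?_
    refine bound_gt (X := (q : ℤ) ^ n) (by exact_mod_cast hq3) (by exact_mod_cast hqX) ?_
    have : 2 * d ≤ q ^ n + 1 := by omega
    exact_mod_cast this
  refine ⟨?_, ?_, ?_⟩
  · rw [Nat.card_eq_two_iff]
    refine ⟨⟨⟨_, irr M₀ hψ 1 hp⟩, (hdeg M₀).1⟩, ⟨⟨_, irr M₁ hψ' 1 hp⟩, (hdeg M₁).1⟩,
      fun h => partChar_ne hn1 h2 hψ hδ M₀ M₁ hp (congrArg (fun x => x.1.1) h), ?_⟩
    refine Set.eq_univ_of_forall fun x => ?_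
    obtain ⟨χ, hx⟩ := x
    simp only [Set.mem_insert_iff, Set.mem_singleton_iff, Subtype.ext_iff]
    rcases small χ _ hx le_rfl (by omega) with h | h | h | h
    · exact Or.inl h
    · exact absurd (by rw [← hx, h]; exact (hdeg M₀).2) hdiff
    · exact Or.inr h
    · exact absurd (by rw [← hx, h]; exact (hdeg M₁).2) hdiff
  · rw [Nat.card_eq_two_iff]
    refine ⟨⟨⟨_, irr M₀ hψ (-1) hm⟩, (hdeg M₀).2⟩, ⟨⟨_, irr M₁ hψ' (-1) hm⟩, (hdeg M₁).2⟩,
      fun h => partChar_ne hn1 h2 hψ hδ M₀ M₁ hm (congrArg (fun x => x.1.1) h), ?_⟩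
    refine Set.eq_univ_of_forall fun x => ?_
    obtain ⟨χ, hx⟩ := x
    simp only [Set.mem_insert_iff, Set.mem_singleton_iff, Subtype.ext_iff]
    rcases small χ _ hx (by omega) (by omega) with h | h | h | h
    · exact absurd (by rw [← hx, h]; exact (hdeg M₀).1.symm) hdiff
    · exact Or.inl h
    · exact absurd (by rw [← hx, h]; exact (hdeg M₁).1.symm) hdiff
    · exact Or.inr h
  · intro χ h1 hplus hminus
    obtain ⟨d, hd, h⟩ := info χ
    have hd0 : d ≠ 0 := fun h0 => Cfsg.Agent.CharCore.irr_apply_one_ne_zero χ (by rw [hd, h0]; simp)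
    have hd1 : d ≠ 1 := fun h0 => h1 (by rw [hd, h0]; simp)
    rcases h (by omega) with h | h | h | h | h
    · rw [hd, Complex.norm_natCast, div_le_iff₀ (by positivity)]
      rw [Nat.cast_sub (by omega : 1 ≤ q ^ n), Nat.cast_sub hqq]
      push_cast
      have h' : ((q : ℝ) ^ n - 1) * ((q : ℝ) ^ n - q) ≤ 2 * ((q : ℝ) + 1) * d := by exact_mod_cast h
      linarith
    · exact absurd (by rw [h]; exact (hdeg M₀).1) hplus
    · exact absurd (by rw [h]; exact (hdeg M₀).2) hminus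
    · exact absurd (by rw [h]; exact (hdeg M₁).1) hplus
    · exact absurd (by rw [h]; exact (hdeg M₁).2) hminus

end Cfsg.Agent.S2524
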