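import Cfsg.Statements.S2531
-- import your own Cfsg.Agent.* helpers here

set_option autoImplicit false
open Cfsg

namespace Cfsg.Agent.S2531

open Module

variable {F V : Type*} [Field F] [AddCommGroup V] [Module F V]

/-- points of a subspace -/
def pts (W : Submodule F V) : Set (Projectivization F V) := {x | x.rep ∈ W}

theorem mk_mem_pts (W : Submodule F V) (v : V) (hv : v ≠ 0) : Projectivization.mk F v hv ∈ pts W ↔ v ∈ W := by
  obtain ⟨a, ha⟩ := (Projectivization.mk_eq_mk_iff F _ _ (Projectivization.rep_nonzero _) hv).mp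
    (Projectivization.mk_rep (Projectivization.mk F v hv))
  show (Projectivization.mk F v hv).rep ∈ W ↔ v ∈ W
  rw [← ha]
  exact W.smul_mem_iff a.ne_zero

theorem card_pts [Finite F] [FiniteDimensional F V] (W : Submodule F V) :
    Nat.card (pts W) = ∑ i ∈ Finset.range (finrank F W), Nat.card F ^ i := by
  rw [← Projectivization.card_of_finrank F W rfl]
  refine (Nat.card_congr (Equiv.ofBijective
    (fun x : Projectivization F W => (⟨Projectivization.map W.subtype W.subtype_injective x, ?_⟩ : pts W)) ⟨?_, ?_⟩)).symm
  · induction x using Projectivization.ind with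
    | h v hv =>
      rw [Projectivization.map_mk, mk_mem_pts]
      exact v.2
  · intro x y h
    exact Projectivization.map_injective W.subtype W.subtype_injective (congrArg Subtype.val h)
  · rintro ⟨x, hx⟩
    refine ⟨Projectivization.mk F (⟨x.rep, hx⟩ : W) (fun h => x.rep_nonzero (congrArg Subtype.val h)), Subtype.ext ?_⟩
    exact (Projectivization.map_mk W.subtype W.subtype_injective _ _).trans (Projectivization.mk_rep x)

theorem cast_card_pts [Finite F] [FiniteDimensional F V] (p : ℕ) (hp : p ∣ Nat.card F) (W : Submodule F V)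
    (hW : 1 ≤ finrank F W) : (Nat.card (pts W) : ZMod p) = 1 := by
  rw [card_pts, Nat.cast_sum]
  obtain ⟨k, hk⟩ := Nat.exists_eq_add_of_le hW
  rw [hk, add_comm, Finset.sum_range_succ']
  have : (Nat.card F : ZMod p) = 0 := (ZMod.natCast_eq_zero_iff _ p).mpr hp
  simp [pow_succ, this]

/-- Let `F` be a finite field and `n ≥ 3`. No set of permutations of the points of the projective space of `Fⁿ`, each induced by an invertible semilinear transformation of `Fⁿ` (so a subset of the full projective semilinear group), is sharply 2-transitive on the points: it is impossible that for all pairs of distinct points `(a, b)` and `(c, d)` exactly one member of the set sends `a` to `c` and `b` to `d`. -/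
theorem result {F : Type*} [Field F] [Finite F]
    (n : ℕ) (hn : 3 ≤ n) (S : Set (Equiv.Perm (Projectivization F (Fin n → F))))
    (hS : ∀ s ∈ S, ∃ (σ : F ≃+* F) (f : (Fin n → F) →ₛₗ[(σ : F →+* F)] (Fin n → F)) (hf : Function.Injective f),
      ∀ x, s x = Projectivization.map f hf x) :
    ¬ (∀ a b c d : Projectivization F (Fin n → F), a ≠ b → c ≠ d →
        ∃! s, s ∈ S ∧ s a = c ∧ s b = d) := by
  classical
  intro hsharp
  haveI : Fintype (Projectivization F (Fin n → F)) := Fintype.ofFinite _
  let p := (Nat.card F).minFac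
  have hq : 1 < Nat.card F := Finite.one_lt_card
  haveI : Fact p.Prime := ⟨Nat.minFac_prime hq.ne'⟩
  have hpF : p ∣ Nat.card F := Nat.minFac_dvd _
  let i0 : Fin n := ⟨0, by omega⟩
  let H : Submodule F (Fin n → F) := LinearMap.ker (LinearMap.proj i0)
  let e : Fin n → F := Pi.single i0 1
  have he : e ≠ 0 := fun h => one_ne_zero (α := F) (by simpa [e] using congrFun h i0)
  let a := Projectivization.mk F e he
  have haH : a ∉ pts H := by rw [mk_mem_pts]; simp [H, e]
  let g : (Fin 2 → F) →ₗ[F] (Fin n → F) :=
    LinearMap.pi fun i => if i.val = 1 then LinearMap.proj 0 else if i.val = 2 then LinearMap.proj 1 else 0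
  have hg : Function.Injective g := by
    intro x y h
    funext j
    fin_cases j
    · simpa [g] using congrFun h ⟨1, by omega⟩
    · simpa [g] using congrFun h ⟨2, by omega⟩
  let L : Submodule F (Fin n → F) := LinearMap.range g
  have hL : finrank F L = 2 := by
    rw [LinearMap.finrank_range_of_inj hg, finrank_fin_fun]
  have haL : a ∉ pts L := by
    rw [mk_mem_pts]
    rintro ⟨x, hx⟩
    simpa [g, e, i0] using congrFun hx i0
  have hH : finrank F H + 1 = n := by
    have h1 := LinearMap.finrank_range_add_finrank_ker (LinearMap.proj i0 : (Fin n → F) →ₗ[F] F)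
    rw [finrank_fin_fun, LinearMap.range_eq_top.mpr (LinearMap.proj_surjective i0), finrank_top, finrank_self] at h1
    show finrank F (LinearMap.ker (LinearMap.proj i0 : (Fin n → F) →ₗ[F] F)) + 1 = n
    omega
  let Sa : Finset (Equiv.Perm (Projectivization F (Fin n → F))) := Finset.univ.filter fun s => s ∈ S ∧ s a = a
  haveI : Nonempty (Projectivization F (Fin n → F)) := ⟨a⟩
  let PH := (pts H).toFinset
  let PL := (pts L).toFinset
  have hcount : ∀ b, b ≠ a → ∀ T : Finset (Projectivization F (Fin n → F)), a ∉ T →
      (Sa.filter fun s => s b ∈ T).card = T.card := by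
    intro b hb T haT
    refine Finset.card_bij (fun s _ => s b) (fun s hs => (Finset.mem_filter.mp hs).2) ?_ ?_
    · intro s hs s' hs' h
      simp only [Sa, Finset.mem_filter, Finset.mem_univ, true_and] at hs hs'
      have hne : a ≠ s b := fun h' => hb (s.injective (hs.1.2.trans h')).symm
      exact (hsharp a b a (s b) (Ne.symm hb) hne).unique ⟨hs.1.1, hs.1.2, rfl⟩ ⟨hs'.1.1, hs'.1.2, h.symm⟩
    · intro c hc
      obtain ⟨s, ⟨hsS, hsa, hsb⟩, -⟩ := hsharp a b a c (Ne.symm hb) (fun h => haT (h ▸ hc))
      exact ⟨s, by simp [Sa, hsS, hsa, hsb, hc], hsb⟩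
  have hSa : (Sa.card : ZMod p) = 0 := by
    obtain ⟨b, hb⟩ : ∃ b, b ∈ pts H := by
      have h1 : (Nat.card (pts H) : ZMod p) = 1 := cast_card_pts p hpF H (by omega)
      by_contra hno
      push Not at hno
      rw [Set.eq_empty_iff_forall_notMem.mpr hno] at h1
      simp at h1
    have hab : b ≠ a := fun h => haH (h ▸ hb)
    have := hcount b hab (Finset.univ.erase a) (by simp)
    rw [Finset.filter_true_of_mem, Finset.card_erase_of_mem (Finset.mem_univ a), Finset.card_univ] at this
    · rw [this, ← Nat.card_eq_fintype_card, Nat.cast_sub Nat.card_pos, Nat.cast_one, sub_eq_zero]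
      have := cast_card_pts (F := F) (V := Fin n → F) p hpF ⊤ (by rw [finrank_top, finrank_fin_fun]; omega)
      rwa [show pts (⊤ : Submodule F (Fin n → F)) = Set.univ from Set.eq_univ_of_forall fun x => (Submodule.mem_top : x.rep ∈ (⊤ : Submodule F (Fin n → F))),
        Nat.card_congr (Equiv.Set.univ _)] at this
    · intro s hs
      simp only [Sa, Finset.mem_filter, Finset.mem_univ, true_and] at hs
      exact Finset.mem_erase.mpr ⟨fun h => hab (s.injective (h.trans hs.2.symm)), Finset.mem_univ _⟩
  have hterm : ∀ s ∈ Sa, ((PH.filter fun x => s x ∈ PL).card : ZMod p) = 1 := by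
    intro s hs
    obtain ⟨σ, f, hf, hsx⟩ := hS s (Finset.mem_filter.mp hs).2.1
    haveI : RingHomSurjective (σ : F →+* F) := ⟨σ.surjective⟩
    have hsurj : Function.Surjective f := Finite.injective_iff_surjective.mp hf
    let U : Submodule F (Fin n → F) := L.comap f
    have hU : finrank F U = 2 := by
      have hc : Nat.card U = Nat.card L :=
        Nat.card_congr (Equiv.subtypeEquiv (Equiv.ofBijective f ⟨hf, hsurj⟩) fun x => Iff.rfl)
      rw [Module.natCard_eq_pow_finrank (K := F), Module.natCard_eq_pow_finrank (K := F) (V := L), hL] at hc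
      exact Nat.pow_right_injective hq hc
    have hset : (pts (H ⊓ U)).toFinset = PH.filter fun x => s x ∈ PL := by
      ext x
      simp only [PH, PL, Finset.mem_filter, Set.mem_toFinset]
      rw [hsx x]
      induction x using Projectivization.ind with
      | h v hv =>
        rw [Projectivization.map_mk, mk_mem_pts, mk_mem_pts, mk_mem_pts]
        exact Submodule.mem_inf
    rw [← hset, ← Nat.card_eq_card_toFinset]
    refine cast_card_pts p hpF _ ?_
    have h1 := Submodule.finrank_sup_add_finrank_inf_eq H U
    have h2 : finrank F (H ⊔ U : Submodule F (Fin n → F)) ≤ n := by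
      have := Submodule.finrank_le (H ⊔ U : Submodule F (Fin n → F))
      rwa [finrank_fin_fun] at this
    omega
  have hdouble : ∑ s ∈ Sa, (PH.filter fun x => s x ∈ PL).card = PH.card * PL.card := by
    have e1 : ∀ s : Equiv.Perm (Projectivization F (Fin n → F)), (PH.filter fun x => s x ∈ PL).card =
        ∑ x ∈ PH, if s x ∈ PL then 1 else 0 := fun s => Finset.card_filter _ _
    simp only [e1]
    rw [Finset.sum_comm]
    rw [Finset.sum_congr rfl (fun x hx => by
      rw [← Finset.card_filter, hcount x (fun h => haH (h ▸ Set.mem_toFinset.mp hx)) PL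
        (fun h => haL (Set.mem_toFinset.mp h))] : ∀ x ∈ PH, (∑ s ∈ Sa, if s x ∈ PL then 1 else 0) = PL.card),
      Finset.sum_const, smul_eq_mul]
  have hmod := congrArg (Nat.cast : ℕ → ZMod p) hdouble
  rw [Nat.cast_sum, Finset.sum_congr rfl hterm, Finset.sum_const, nsmul_eq_mul, mul_one, hSa, Nat.cast_mul,
    ← Nat.card_eq_card_toFinset, ← Nat.card_eq_card_toFinset, cast_card_pts p hpF H (by omega),
    cast_card_pts p hpF L (by omega), mul_one] at hmod
  exact zero_ne_one hmod

end Cfsg.Agent.S2531
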