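import Cfsg.Statements.S2532
-- import your own Cfsg.Agent.* helpers here

set_option autoImplicit false
open Cfsg

namespace Cfsg.Agent.S2532



/-- There is a function `f` of two natural-number arguments such that, whenever `m ≥ f(n, r)`, every subgroup of order `n` of the alternating group of degree `m` centralizes some subgroup of that alternating group isomorphic to the alternating group of degree `r`. -/
theorem result :
    ∃ f : ℕ → ℕ → ℕ, ∀ (m r : ℕ) (H : Subgroup ↥(alternatingGroup (Fin m))), f (Nat.card H) r ≤ m →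
      ∃ K : Subgroup ↥(alternatingGroup (Fin m)), Nonempty (↥K ≃* ↥(alternatingGroup (Fin r))) ∧
        K ≤ Subgroup.centralizer (H : Set ↥(alternatingGroup (Fin m))) := by
  classical
  refine ⟨fun n r => n * (2 ^ n * r) + 1, fun m r H hm => ?_⟩
  set n := Nat.card H with hn
  let O := MulAction.orbitRel.Quotient ↥H (Fin m)
  let st : O → Set ↥H := fun o => (MulAction.stabilizer ↥H o.out : Set ↥H)
  have hsum : m ≤ Fintype.card O * n := by
    have h := Nat.card_congr (MulAction.selfEquivSigmaOrbits ↥H (Fin m))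
    rw [Nat.card_eq_fintype_card, Fintype.card_fin, Nat.card_sigma] at h
    calc m = _ := h
      _ ≤ ∑ _o : O, n := Finset.sum_le_sum fun o _ => Finite.card_range_le _
      _ = Fintype.card O * n := by simp
  have hlt : Fintype.card (Set ↥H) * r < Fintype.card O := by
    rw [Fintype.card_set, ← Nat.card_eq_fintype_card (α := ↥H), ← hn]
    by_contra hcon
    replace hcon := not_lt.mp hcon
    have : m ≤ 2 ^ n * r * n := hsum.trans (Nat.mul_le_mul_right _ hcon)
    rw [Nat.mul_comm (2 ^ n * r) n] at this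
    simp only at hm
    omega
  obtain ⟨A, hA⟩ := Fintype.exists_lt_card_fiber_of_mul_lt_card st hlt
  obtain ⟨ι⟩ : Nonempty (Fin r ↪ {o : O // st o = A}) := by
    apply Function.Embedding.nonempty_of_card_le
    simp only [Fintype.card_fin, Fintype.card_subtype]
    exact hA.le
  obtain ⟨o0, ho0⟩ : ∃ o0, st o0 = A := by
    obtain ⟨o, ho⟩ := Finset.card_pos.mp (lt_of_le_of_lt (Nat.zero_le r) hA)
    exact ⟨o, (Finset.mem_filter.mp ho).2⟩
  let K := MulAction.stabilizer ↥H o0.out
  let pt : Fin r → Fin m := fun i => (ι i).1.out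
  have hstab : ∀ i, MulAction.stabilizer ↥H (pt i) = K := fun i =>
    SetLike.coe_injective ((ι i).2.trans ho0.symm)
  let Φ : Fin r × (↥H ⧸ K) ↪ Fin m := ⟨fun p => p.2.out • pt p.1, by
    rintro ⟨i, a⟩ ⟨j, b⟩ hab
    simp only at hab
    have hij : (ι i).1 = (ι j).1 := by
      have e1 : Quotient.mk (MulAction.orbitRel ↥H (Fin m)) (a.out • pt i) = (ι i).1 := by
        conv_rhs => rw [← Quotient.out_eq (ι i).1]
        exact Quotient.sound (MulAction.mem_orbit _ _)
      have e2 : Quotient.mk (MulAction.orbitRel ↥H (Fin m)) (b.out • pt j) = (ι j).1 := by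
        conv_rhs => rw [← Quotient.out_eq (ι j).1]
        exact Quotient.sound (MulAction.mem_orbit _ _)
      rw [← e1, ← e2, hab]
    have : i = j := ι.injective (Subtype.ext hij)
    subst this
    have h2 : a.out⁻¹ * b.out ∈ K := by
      have h3 : (a.out⁻¹ * b.out) • pt i = pt i := by rw [mul_smul, ← hab, inv_smul_smul]
      exact (SetLike.ext_iff.mp (hstab i) _).mp (MulAction.mem_stabilizer_iff.mpr h3)
    have := QuotientGroup.eq.mpr h2
    rw [QuotientGroup.out_eq', QuotientGroup.out_eq'] at this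
    rw [this]⟩
  have hΦ : ∀ (h : ↥H) i (a : ↥H ⧸ K), h • Φ (i, a) = Φ (i, h • a) := by
    intro h i a
    have h2 : (h • a).out⁻¹ * (h * a.out) ∈ MulAction.stabilizer ↥H (pt i) := by
      rw [hstab i, ← QuotientGroup.eq, QuotientGroup.out_eq']
      conv_lhs => rw [← QuotientGroup.out_eq' a]
      rfl
    rw [MulAction.mem_stabilizer_iff, mul_smul, inv_smul_eq_iff, mul_smul] at h2
    exact h2
  let c : Equiv.Perm (Fin r) →* Equiv.Perm (Fin r × (↥H ⧸ K)) :=
    { toFun := fun σ => Equiv.prodCongrLeft fun _ => σ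
      map_one' := by ext x <;> simp [Equiv.prodCongrLeft]
      map_mul' := fun σ τ => by ext x <;> simp [Equiv.prodCongrLeft] }
  let ψ := (Equiv.Perm.viaEmbeddingHom Φ).comp c
  have hψ : Function.Injective ψ := by
    refine (Equiv.Perm.viaEmbeddingHom_injective Φ).comp ?_
    intro σ τ h
    ext i
    have := congrArg (fun e => (e (i, ((1 : ↥H) : ↥H ⧸ K))).1) h
    simpa [c, Equiv.prodCongrLeft] using congrArg Fin.val this
  have hsign : ∀ σ : alternatingGroup (Fin r), ψ σ ∈ alternatingGroup (Fin m) := by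
    intro σ
    rw [Equiv.Perm.mem_alternatingGroup]
    simp only [ψ, MonoidHom.comp_apply, Equiv.Perm.viaEmbeddingHom_apply, Equiv.Perm.viaEmbedding,
      Equiv.Perm.sign_extendDomain]
    show Equiv.Perm.sign (Equiv.prodCongrLeft fun _ => (σ : Equiv.Perm (Fin r))) = 1
    rw [Equiv.Perm.sign_prodCongrLeft]
    exact Finset.prod_eq_one fun _ _ => σ.2
  let χ : alternatingGroup (Fin r) →* alternatingGroup (Fin m) :=
    (ψ.comp (alternatingGroup (Fin r)).subtype).codRestrict _ hsign
  have hχ : Function.Injective χ := fun σ τ h =>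
    Subtype.ext (hψ (congrArg Subtype.val h))
  refine ⟨χ.range, ⟨(MonoidHom.ofInjective hχ).symm⟩, ?_⟩
  rintro _ ⟨σ, rfl⟩
  rw [Subgroup.mem_centralizer_iff]
  intro g hg
  apply Subtype.ext
  refine Equiv.ext fun x => ?_
  show (⟨g, hg⟩ : ↥H) • (ψ σ x) = ψ σ ((⟨g, hg⟩ : ↥H) • x)
  generalize (⟨g, hg⟩ : ↥H) = h
  have hp : ∀ i a, ψ σ (Φ (i, a)) = Φ ((σ : Equiv.Perm (Fin r)) i, a) := fun i a =>
    Equiv.Perm.viaEmbedding_apply _ Φ (i, a)
  by_cases hx : x ∈ Set.range Φ
  · obtain ⟨⟨i, a⟩, rfl⟩ := hx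
    rw [hp, hΦ, hΦ, hp]
  · have hx' : h • x ∉ Set.range Φ := by
      rintro ⟨⟨i, a⟩, he⟩
      exact hx ⟨(i, h⁻¹ • a), by rw [← hΦ, he, inv_smul_smul]⟩
    rw [show ψ σ x = x from Equiv.Perm.viaEmbedding_apply_of_notMem _ Φ x hx,
      show ψ σ (h • x) = h • x from Equiv.Perm.viaEmbedding_apply_of_notMem _ Φ _ hx']

end Cfsg.Agent.S2532
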