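import Cfsg.Statements.S2533
-- import your own Cfsg.Agent.* helpers here

set_option autoImplicit false
open Cfsg

namespace Cfsg.Agent.S2533

open Matrix

/-- the scalar attached to a sign -/
def sgn (p : ℕ) (u : ℤˣ) : ZMod p := ((u : ℤ) : ZMod p)

theorem sgn_one (p : ℕ) : sgn p 1 = 1 := by simp [sgn]

theorem sgn_mul (p : ℕ) (u w : ℤˣ) : sgn p (u * w) = sgn p u * sgn p w := by simp [sgn]

theorem sgn_inj (p : ℕ) [Fact p.Prime] (hp : p ≠ 2) (u : ℤˣ) (h : sgn p u = 1) : u = 1 := by
  rcases Int.units_eq_one_or u with rfl | rfl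
  · rfl
  · exfalso
    have h' : (-1 : ZMod p) = 1 := by simpa [sgn] using h
    haveI : Fact (2 < p) := ⟨lt_of_le_of_ne (Fact.out : p.Prime).two_le (Ne.symm hp)⟩
    exact ZMod.neg_one_ne_one h'

/-- inversion action of the signs -/
def inv3 (p : ℕ) : ℤˣ →* MulAut (Multiplicative (Fin 3 → ZMod p)) where
  toFun u := AddEquiv.toMultiplicative
    { toFun := fun v => sgn p u • v
      invFun := fun v => sgn p u • v
      left_inv := fun v => by
        show sgn p u • sgn p u • v = v
        rw [smul_smul, ← sgn_mul, Int.units_mul_self, sgn_one, one_smul]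
      right_inv := fun v => by
        show sgn p u • sgn p u • v = v
        rw [smul_smul, ← sgn_mul, Int.units_mul_self, sgn_one, one_smul]
      map_add' := smul_add _ }
  map_one' := MulEquiv.ext fun v => congrArg Multiplicative.ofAdd
    (show sgn p 1 • Multiplicative.toAdd v = Multiplicative.toAdd v by rw [sgn_one, one_smul])
  map_mul' u w := MulEquiv.ext fun v => congrArg Multiplicative.ofAdd
    (show sgn p (u * w) • Multiplicative.toAdd v = sgn p u • sgn p w • Multiplicative.toAdd v by
      rw [sgn_mul, smul_smul])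

/-- the generalised dihedral group of order `2 p³` -/
abbrev H3 (p : ℕ) : Type := Multiplicative (Fin 3 → ZMod p) ⋊[inv3 p] ℤˣ

/-- three independent maps `F^(m+1) → F^m`, the first two forming a brick -/
def L (p m : ℕ) (v : Fin 3 → ZMod p) : Matrix (Fin m) (Fin (m + 1)) (ZMod p) :=
  Matrix.of fun i j => (if j.val = i.val then v 0 else 0) + (if j.val = i.val + 1 then v 1 else 0) +
    (if i.val = 0 ∧ j.val = m then v 2 else 0)

theorem L_add (p m : ℕ) (v w : Fin 3 → ZMod p) : L p m (v + w) = L p m v + L p m w := by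
  ext i j
  simp only [L, Matrix.of_apply, Matrix.add_apply, Pi.add_apply]
  split_ifs <;> ring

theorem L_smul (p m : ℕ) (c : ZMod p) (v : Fin 3 → ZMod p) : L p m (c • v) = c • L p m v := by
  ext i j
  simp only [L, Matrix.of_apply, Matrix.smul_apply, Pi.smul_apply, smul_eq_mul]
  split_ifs <;> ring

theorem L_zero (p m : ℕ) : L p m 0 = 0 := by ext i j; simp [L]

theorem L_inj (p m : ℕ) (hm : 2 ≤ m) (v : Fin 3 → ZMod p) (h : L p m v = 0) : v = 0 := by
  have e := fun (j : Fin (m + 1)) => congrFun (congrFun h ⟨0, by omega⟩) j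
  have h0 := e ⟨0, by omega⟩
  have h1 := e ⟨1, by omega⟩
  have h2 := e ⟨m, by omega⟩
  simp [L, show m ≠ 0 by omega, show m ≠ 1 by omega, show (0 : ℕ) ≠ m by omega, show (1 : ℕ) ≠ m by omega] at h0 h1 h2
  funext i
  fin_cases i <;> assumption

/-- the representation of degree `2m + 1` -/
def mat (p m : ℕ) : H3 p →* Matrix (Fin (m + 1) ⊕ Fin m) (Fin (m + 1) ⊕ Fin m) (ZMod p) where
  toFun h := Matrix.fromBlocks 1 0 (L p m (Multiplicative.toAdd h.left)) (sgn p h.right • 1)
  map_one' := by
    rw [SemidirectProduct.one_left, SemidirectProduct.one_right, toAdd_one, L_zero, sgn_one, one_smul,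
      Matrix.fromBlocks_one]
  map_mul' g h := by
    rw [Matrix.fromBlocks_multiply, SemidirectProduct.mul_left, SemidirectProduct.mul_right, toAdd_mul,
      show Multiplicative.toAdd (inv3 p g.right h.left) = sgn p g.right • Multiplicative.toAdd h.left from rfl,
      L_add, L_smul, sgn_mul]
    simp [Matrix.smul_mul, smul_smul, mul_comm]

/-- For every odd prime `p` there is a finite group `H` of order `2p³` which, for infinitely many `n`, embeds in the projective special linear group `PSL(n, p)` as a subgroup with trivial centralizer. -/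
theorem result
    (p : ℕ) [Fact p.Prime] (hp : p ≠ 2) :
    ∃ (H : Type) (_ : Group H) (_ : Finite H), Nat.card H = 2 * p ^ 3 ∧
      ∀ N : ℕ, ∃ n, N ≤ n ∧ ∃ φ : H →* Matrix.ProjectiveSpecialLinearGroup (Fin n) (ZMod p),
        Function.Injective φ ∧ Subgroup.centralizer (φ.range : Set (Matrix.ProjectiveSpecialLinearGroup (Fin n) (ZMod p))) = ⊥ := by
  classical
  haveI : NeZero p := ⟨(Fact.out : p.Prime).ne_zero⟩
  haveI : Finite (H3 p) := Finite.of_equiv _ (SemidirectProduct.equivProd).symm
  refine ⟨H3 p, inferInstance, inferInstance, ?_, fun N => ?_⟩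
  · rw [Nat.card_congr SemidirectProduct.equivProd, Nat.card_prod,
      Nat.card_congr (Multiplicative.toAdd (α := Fin 3 → ZMod p)), Nat.card_fun, Nat.card_zmod, Nat.card_fin,
      Nat.card_eq_fintype_card, Fintype.card_units_int]
    ring
  let m := 2 * (N + 1)
  have hm : 2 ≤ m := by show 2 ≤ 2 * (N + 1); omega
  let e : Fin (m + 1) ⊕ Fin m ≃ Fin (m + 1 + m) := finSumFinEquiv
  let R : Matrix (Fin (m + 1) ⊕ Fin m) (Fin (m + 1) ⊕ Fin m) (ZMod p) ≃ₐ[ZMod p]
      Matrix (Fin (m + 1 + m)) (Fin (m + 1 + m)) (ZMod p) := Matrix.reindexAlgEquiv (ZMod p) (ZMod p) e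
  have hdet : ∀ h : H3 p, (R (mat p m h)).det = 1 := by
    intro h
    show (Matrix.reindex e e (mat p m h)).det = 1
    rw [Matrix.det_reindex_self]
    show (Matrix.fromBlocks 1 0 (L p m (Multiplicative.toAdd h.left)) (sgn p h.right • 1)).det = 1
    rw [Matrix.det_fromBlocks_zero₁₂, Matrix.det_one, one_mul, Matrix.det_smul, Matrix.det_one, mul_one,
      Fintype.card_fin, pow_mul, pow_two, ← sgn_mul, Int.units_mul_self, sgn_one, one_pow]
  let ψ : H3 p →* Matrix.SpecialLinearGroup (Fin (m + 1 + m)) (ZMod p) :=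
    { toFun := fun h => ⟨R (mat p m h), hdet h⟩
      map_one' := Subtype.ext (by show R (mat p m 1) = 1; rw [map_one, map_one])
      map_mul' := fun g h => Subtype.ext (by show R (mat p m (g * h)) = R (mat p m g) * R (mat p m h); rw [map_mul, map_mul]) }
  have hscal : ∀ c : ZMod p, R (Matrix.scalar _ c) = Matrix.scalar (Fin (m + 1 + m)) c := fun c => by
    simpa [Matrix.algebraMap_eq_diagonal, Matrix.scalar_apply, Pi.algebraMap_def] using R.commutes c
  refine ⟨m + 1 + m, by show N ≤ 2 * (N + 1) + 1 + 2 * (N + 1); omega, (QuotientGroup.mk' _).comp ψ, ?_, ?_⟩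
  · rw [injective_iff_map_eq_one]
    intro h hh
    obtain ⟨r, -, hr⟩ := Matrix.SpecialLinearGroup.mem_center_iff.mp
      ((QuotientGroup.eq_one_iff (ψ h)).mp hh)
    have hM : mat p m h = Matrix.scalar _ r := R.injective (by rw [hscal]; exact hr.symm)
    have hblock : Matrix.fromBlocks 1 0 (L p m (Multiplicative.toAdd h.left)) (sgn p h.right • 1) =
        Matrix.scalar (Fin (m + 1) ⊕ Fin m) r := hM
    have h11 := congrFun (congrFun hblock (Sum.inl 0)) (Sum.inl 0)
    simp at h11
    subst h11
    have h22 := congrFun (congrFun hblock (Sum.inr ⟨0, by omega⟩)) (Sum.inr ⟨0, by omega⟩)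
    simp at h22
    have h21 : L p m (Multiplicative.toAdd h.left) = 0 := by
      ext i j
      simpa using congrFun (congrFun hblock (Sum.inr i)) (Sum.inl j)
    exact SemidirectProduct.ext (Multiplicative.toAdd.injective (L_inj p m hm _ h21)) (sgn_inj p hp _ h22)
  rw [eq_bot_iff]
  intro x hx
  obtain ⟨g, rfl⟩ := QuotientGroup.mk_surjective x
  obtain ⟨M, hM⟩ := R.surjective (g : Matrix (Fin (m + 1 + m)) (Fin (m + 1 + m)) (ZMod p))
  have hcomm : ∀ h : H3 p, ∃ c : ZMod p, M * mat p m h = c • (mat p m h * M) := by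
    intro h
    have h1 := Subgroup.mem_centralizer_iff.mp hx _ ⟨h, rfl⟩
    have h2 : (ψ h * g)⁻¹ * (g * ψ h) ∈ Subgroup.center _ := QuotientGroup.eq.mp h1
    obtain ⟨r, -, hr⟩ := Matrix.SpecialLinearGroup.mem_center_iff.mp h2
    refine ⟨r, R.injective ?_⟩
    rw [map_smul, map_mul, map_mul, hM]
    have h3 : g * ψ h = ψ h * g * ((ψ h * g)⁻¹ * (g * ψ h)) := by group
    have h4 : g.1 * (ψ h).1 = (ψ h).1 * g.1 * ((ψ h * g)⁻¹ * (g * ψ h)).1 := congrArg Subtype.val h3
    show g.1 * (ψ h).1 = r • ((ψ h).1 * g.1)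
    rw [h4, show ((ψ h * g)⁻¹ * (g * ψ h)).1 = Matrix.scalar _ r from hr.symm]
    show _ * Matrix.diagonal (fun _ => r) = _
    rw [← Matrix.smul_one_eq_diagonal, Matrix.mul_smul, Matrix.mul_one]
  have hblocks : M = Matrix.fromBlocks M.toBlocks₁₁ M.toBlocks₁₂ M.toBlocks₂₁ M.toBlocks₂₂ :=
    (Matrix.fromBlocks_toBlocks M).symm
  set A := M.toBlocks₁₁
  set B := M.toBlocks₁₂
  set C := M.toBlocks₂₁
  set D := M.toBlocks₂₂
  have hdetM : M.det = 1 := by
    have := g.2
    rw [← hM] at this
    rwa [show (R M : Matrix _ _ _) = Matrix.reindex e e M from rfl, Matrix.det_reindex_self] at this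
  have hneg : sgn p (-1) = -1 := by simp [sgn]
  have hτ : A.det ≠ 0 ∧ D.det ≠ 0 ∧ B = 0 ∧ C = 0 := by
    obtain ⟨c, hc⟩ := hcomm ⟨1, -1⟩
    have hm' : mat p m ⟨1, -1⟩ = Matrix.fromBlocks 1 0 0 (-1) := by
      show Matrix.fromBlocks 1 0 (L p m (Multiplicative.toAdd 1)) (sgn p (-1) • 1) = _
      rw [toAdd_one, L_zero, hneg, neg_smul, one_smul]
    rw [hm', hblocks, Matrix.fromBlocks_multiply, Matrix.fromBlocks_multiply, Matrix.fromBlocks_smul,
      Matrix.fromBlocks_inj] at hc
    simp only [Matrix.mul_one, Matrix.one_mul, Matrix.mul_zero, Matrix.zero_mul, add_zero, zero_add,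
      Matrix.mul_neg, Matrix.neg_mul, smul_neg] at hc
    obtain ⟨hA, hB, hC, -⟩ := hc
    by_cases hc1 : c = 1
    · subst hc1
      rw [one_smul] at hB hC
      have htwo : (2 : ZMod p) ≠ 0 := by
        intro h
        exact hp ((Nat.prime_dvd_prime_iff_eq Fact.out Nat.prime_two).mp
          ((ZMod.natCast_eq_zero_iff 2 p).mp (by exact_mod_cast h)))
      have hB0 : B = 0 := by
        ext i j
        have := congrFun (congrFun hB i) j
        rw [Matrix.neg_apply, neg_eq_iff_add_eq_zero, ← two_mul] at this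
        exact (mul_eq_zero.mp this).resolve_left htwo
      have hC0 : C = 0 := by
        ext i j
        have := congrFun (congrFun hC i) j
        rw [Matrix.neg_apply, eq_neg_iff_add_eq_zero, ← two_mul] at this
        exact (mul_eq_zero.mp this).resolve_left htwo
      have hd : A.det * D.det = 1 := by
        rw [hblocks, hB0, hC0, Matrix.det_fromBlocks_zero₁₂] at hdetM
        exact hdetM
      exact ⟨left_ne_zero_of_mul (hd.trans_ne one_ne_zero), right_ne_zero_of_mul (hd.trans_ne one_ne_zero), hB0, hC0⟩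
    · exfalso
      have hA0 : A = 0 := by
        have : (1 - c) • A = 0 := by rw [sub_smul, one_smul]; exact sub_eq_zero.mpr hA
        exact (smul_eq_zero.mp this).resolve_left (sub_ne_zero.mpr (Ne.symm hc1))
      obtain ⟨w, hw, hw0⟩ : ∃ w : Fin (m + 1) → ZMod p, w ≠ 0 ∧ Matrix.vecMul w B = 0 := by
        have hlt : Module.finrank (ZMod p) (Fin m → ZMod p) < Module.finrank (ZMod p) (Fin (m + 1) → ZMod p) := by
          simp
        obtain ⟨w, hw, hwne⟩ := Submodule.exists_mem_ne_zero_of_ne_bot
          (LinearMap.ker_ne_bot_of_finrank_lt (f := Matrix.vecMulLinear B) hlt)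
        exact ⟨w, hwne, hw⟩
      have hz : Matrix.vecMul (Sum.elim w 0) M = 0 := by
        rw [hblocks, Matrix.vecMul_fromBlocks, hA0]
        simp [hw0]
      have := Matrix.eq_zero_of_vecMul_eq_zero (by rw [hdetM]; exact one_ne_zero) hz
      exact hw (funext fun i => congrFun this (Sum.inl i))
  obtain ⟨hAd, hDd, hB0, hC0⟩ := hτ
  have hL : ∀ v : Fin 3 → ZMod p, D * L p m v = L p m v * A := by
    intro v
    obtain ⟨c, hc⟩ := hcomm ⟨Multiplicative.ofAdd v, 1⟩
    have hm' : mat p m ⟨Multiplicative.ofAdd v, 1⟩ = Matrix.fromBlocks 1 0 (L p m v) 1 := by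
      show Matrix.fromBlocks 1 0 (L p m v) (sgn p 1 • 1) = _
      rw [sgn_one, one_smul]
    rw [hm', hblocks, hB0, hC0, Matrix.fromBlocks_multiply, Matrix.fromBlocks_multiply, Matrix.fromBlocks_smul,
      Matrix.fromBlocks_inj] at hc
    simp only [Matrix.mul_one, Matrix.one_mul, Matrix.mul_zero, Matrix.zero_mul, add_zero, zero_add] at hc
    obtain ⟨-, -, h21, h22⟩ := hc
    have hc1 : c = 1 := by
      by_contra hne
      have : (1 - c) • D = 0 := by rw [sub_smul, one_smul]; exact sub_eq_zero.mpr h22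
      rw [(smul_eq_zero.mp this).resolve_left (sub_ne_zero.mpr (Ne.symm hne))] at hDd
      haveI : Nonempty (Fin m) := ⟨⟨0, by omega⟩⟩
      exact hDd (by simp)
    rw [hc1, one_smul] at h21
    exact h21
  have h1 : ∀ (i : Fin m) (j : Fin (m + 1)), (if h : j.val < m then D i ⟨j.val, h⟩ else 0) = A i.castSucc j := by
    intro i j
    have := congrFun (congrFun (hL ![1, 0, 0]) i) j
    simp only [Matrix.mul_apply, L, Matrix.of_apply] at this
    rw [show (∑ k : Fin m, D i k * ((if j.val = k.val then (![1, 0, 0] : Fin 3 → ZMod p) 0 else 0) +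
      (if j.val = k.val + 1 then (![1, 0, 0] : Fin 3 → ZMod p) 1 else 0) +
      (if k.val = 0 ∧ j.val = m then (![1, 0, 0] : Fin 3 → ZMod p) 2 else 0))) =
      (if h : j.val < m then D i ⟨j.val, h⟩ else 0) from ?_,
      Finset.sum_eq_single i.castSucc ?_ (by simp)] at this
    · simpa using this
    · intro k _ hk
      have : ¬ k.val = i.val := fun h => hk (Fin.ext h)
      simp [this]
    · split_ifs with h
      · rw [Finset.sum_eq_single ⟨j.val, h⟩ ?_ (by simp)]
        · simp
        · intro k _ hk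
          have : ¬ j.val = k.val := fun h' => hk (Fin.ext h'.symm)
          simp [this]
      · refine Finset.sum_eq_zero fun k _ => ?_
        have : ¬ j.val = k.val := by have := k.2; omega
        simp [this]
  have h2 : ∀ (i : Fin m) (j : Fin (m + 1)),
      (if h : 0 < j.val then D i ⟨j.val - 1, by have := j.2; omega⟩ else 0) = A i.succ j := by
    intro i j
    have := congrFun (congrFun (hL ![0, 1, 0]) i) j
    simp only [Matrix.mul_apply, L, Matrix.of_apply] at this
    rw [show (∑ k : Fin m, D i k * ((if j.val = k.val then (![0, 1, 0] : Fin 3 → ZMod p) 0 else 0) +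
      (if j.val = k.val + 1 then (![0, 1, 0] : Fin 3 → ZMod p) 1 else 0) +
      (if k.val = 0 ∧ j.val = m then (![0, 1, 0] : Fin 3 → ZMod p) 2 else 0))) =
      (if h : 0 < j.val then D i ⟨j.val - 1, by have := j.2; omega⟩ else 0) from ?_,
      Finset.sum_eq_single i.succ ?_ (by simp)] at this
    · simpa using this
    · intro k _ hk
      have : ¬ k.val = i.val + 1 := fun h => hk (Fin.ext h)
      simp [this]
    · split_ifs with h
      · rw [Finset.sum_eq_single ⟨j.val - 1, by have := j.2; omega⟩ ?_ (by simp)]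
        · simp; omega
        · intro k _ hk
          have : ¬ j.val = k.val + 1 := fun h' => hk (Fin.ext (by show k.val = j.val - 1; omega))
          simp [this]
      · refine Finset.sum_eq_zero fun k _ => ?_
        have : ¬ j.val = k.val + 1 := by omega
        simp [this]
  -- constant diagonals
  have hdiag : ∀ (i j : Fin m), A i.succ j.succ = A i.castSucc j.castSucc := by
    intro i j
    have e1 := h1 i j.castSucc
    have e2 := h2 i j.succ
    simp only [Fin.val_castSucc, j.2, dif_pos] at e1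
    simp only [Fin.val_succ, Nat.succ_pos', dif_pos, Nat.add_sub_cancel] at e2
    rw [← e1, ← e2]
  have hlast : ∀ i : Fin m, A i.castSucc (Fin.last m) = 0 := fun i => by
    rw [← h1 i (Fin.last m), dif_neg (by simp)]
  have hfirst : ∀ i : Fin m, A i.succ 0 = 0 := fun i => by rw [← h2 i 0, dif_neg (by simp)]
  have key : ∀ k : ℕ, ∀ i j : Fin (m + 1), i.val + j.val = k → A i j = if i = j then A 0 0 else 0 := by
    intro k
    induction k using Nat.strong_induction_on with
    | h k ih =>
      intro i j hij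
      rcases Fin.eq_zero_or_eq_succ i with rfl | ⟨i', rfl⟩
      · rcases Fin.eq_zero_or_eq_succ j with rfl | ⟨j', rfl⟩
        · simp
        · -- climb the diagonal to the last column
          rw [if_neg (Fin.succ_ne_zero j').symm]
          have up : ∀ s : ℕ, ∀ hs : j'.val + 1 + s ≤ m, A ⟨s, by omega⟩ ⟨j'.val + 1 + s, by omega⟩ = A 0 j'.succ := by
            intro s
            induction s with
            | zero => intro _; rfl
            | succ s ih2 =>
              intro hs
              rw [← ih2 (by omega)]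
              exact hdiag ⟨s, by omega⟩ ⟨j'.val + 1 + s, by omega⟩
          rw [← up (m - (j'.val + 1)) (by omega)]
          have : (⟨j'.val + 1 + (m - (j'.val + 1)), by omega⟩ : Fin (m + 1)) = Fin.last m := Fin.ext (by simp <;> omega)
          rw [this]
          exact hlast ⟨m - (j'.val + 1), by omega⟩
      · rcases Fin.eq_zero_or_eq_succ j with rfl | ⟨j', rfl⟩
        · rw [if_neg (Fin.succ_ne_zero i'), hfirst]
        · rw [hdiag, ih (i'.val + j'.val) (by simp at hij; omega) _ _ rfl]
          simp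
  have hA : A = A 0 0 • 1 := by
    ext i j
    rw [key _ i j rfl, Matrix.smul_apply, Matrix.one_apply]
    split_ifs <;> simp
  have hD : D = A 0 0 • 1 := by
    ext i j
    have e := h1 i j.castSucc
    simp only [Fin.val_castSucc, j.2, dif_pos, Fin.eta] at e
    rw [e, key _ _ _ rfl, Matrix.smul_apply, Matrix.one_apply]
    by_cases hij : i = j <;> simp [hij]
  have hMs : M = Matrix.scalar _ (A 0 0) := by
    obtain ⟨c, hc, hA', hD'⟩ : ∃ c, c = A 0 0 ∧ A = c • 1 ∧ D = c • 1 := ⟨_, rfl, hA, hD⟩
    rw [← hc, hblocks, hB0, hC0, hA', hD']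
    have : Matrix.fromBlocks (c • (1 : Matrix (Fin (m + 1)) (Fin (m + 1)) (ZMod p))) 0 0 (c • (1 : Matrix (Fin m) (Fin m) (ZMod p))) =
        c • (1 : Matrix (Fin (m + 1) ⊕ Fin m) (Fin (m + 1) ⊕ Fin m) (ZMod p)) := by
      rw [← Matrix.fromBlocks_one, Matrix.fromBlocks_smul, smul_zero, smul_zero]
    rw [this]
    exact Matrix.smul_one_eq_diagonal _
  rw [Subgroup.mem_bot, QuotientGroup.eq_one_iff, Matrix.SpecialLinearGroup.mem_center_iff]
  have hgs : Matrix.scalar _ (A 0 0) = (g : Matrix (Fin (m + 1 + m)) (Fin (m + 1 + m)) (ZMod p)) := by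
    rw [← hM, hMs, hscal]
  refine ⟨A 0 0, ?_, hgs⟩
  have := g.2
  rw [← hgs] at this
  simpa [Matrix.det_diagonal] using this

end Cfsg.Agent.S2533
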