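import Cfsg.Statements.S2534
import Cfsg.Agent.KnownSimple58.HallSym.Apply
-- import your own Cfsg.Agent.* helpers here

set_option autoImplicit false
open Cfsg

namespace Cfsg.Agent.S2534


open Cfsg.Agent.HallSym Equiv

theorem seven_sz : ∀ i : Fin 3, Fintype.card {a : Fin 7 // (![0, 0, 0, 1, 1, 1, 2] : Fin 7 → Fin 3) a = i} ≤ 4 := by
  decide +kernel

theorem seven_move : ∀ T ∈ Finset.powersetCard 4 (Finset.univ : Finset (Fin 7)), ∃ g ∈ ([swap 0 1 * swap 1 2, swap 3 4 * swap 4 5, swap 0 1 * swap 3 4,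
      swap 0 3 * swap 1 4 * swap 2 5 * swap 1 2] : List (Perm (Fin 7))),
    ∃ x y, ¬ (ind T (g x) = ind T (g y) ↔ ind T x = ind T y) := by
  decide +kernel

theorem seven_part : ∀ g ∈ ([swap 0 1 * swap 1 2, swap 3 4 * swap 4 5, swap 0 1 * swap 3 4,
      swap 0 3 * swap 1 4 * swap 2 5 * swap 1 2] : List (Perm (Fin 7))), ∀ x y, (![0, 0, 0, 1, 1, 1, 2] : Fin 7 → Fin 3) (g x) = (![0, 0, 0, 1, 1, 1, 2] : Fin 7 → Fin 3) (g y) ↔ (![0, 0, 0, 1, 1, 1, 2] : Fin 7 → Fin 3) x = (![0, 0, 0, 1, 1, 1, 2] : Fin 7 → Fin 3) y := by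
  intro g hg
  fin_cases hg <;> decide +kernel

theorem eight_sz : ∀ i : Fin 4, Fintype.card {a : Fin 8 // (![0, 0, 1, 1, 2, 2, 3, 3] : Fin 8 → Fin 4) a = i} ≤ 4 := by
  decide +kernel

theorem eight_move : ∀ T ∈ Finset.powersetCard 4 (Finset.univ : Finset (Fin 8)), ∃ g ∈ ([swap 0 1 * swap 2 3, swap 0 1 * swap 4 5, swap 0 2 * swap 1 3,
      swap 0 4 * swap 1 5, swap 0 6 * swap 1 7] : List (Perm (Fin 8))),
    ∃ x y, ¬ (ind T (g x) = ind T (g y) ↔ ind T x = ind T y) := by
  decide +kernel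

theorem eight_part : ∀ g ∈ ([swap 0 1 * swap 2 3, swap 0 1 * swap 4 5, swap 0 2 * swap 1 3,
      swap 0 4 * swap 1 5, swap 0 6 * swap 1 7] : List (Perm (Fin 8))), ∀ x y, (![0, 0, 1, 1, 2, 2, 3, 3] : Fin 8 → Fin 4) (g x) = (![0, 0, 1, 1, 2, 2, 3, 3] : Fin 8 → Fin 4) (g y) ↔ (![0, 0, 1, 1, 2, 2, 3, 3] : Fin 8 → Fin 4) x = (![0, 0, 1, 1, 2, 2, 3, 3] : Fin 8 → Fin 4) y := by
  intro g hg
  fin_cases hg <;> decide +kernel

theorem seven_sign : ∀ g ∈ ([swap 0 1 * swap 1 2, swap 3 4 * swap 4 5, swap 0 1 * swap 3 4,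
      swap 0 3 * swap 1 4 * swap 2 5 * swap 1 2] : List (Perm (Fin 7))), Perm.sign g = 1 := by
  intro g hg; fin_cases hg <;> simp [Perm.sign_swap']

theorem eight_sign : ∀ g ∈ ([swap 0 1 * swap 2 3, swap 0 1 * swap 4 5, swap 0 2 * swap 1 3,
      swap 0 4 * swap 1 5, swap 0 6 * swap 1 7] : List (Perm (Fin 8))), Perm.sign g = 1 := by
  intro g hg; fin_cases hg <;> simp [Perm.sign_swap']

/-- The stabiliser of a partition into few small parts involves small primes only. -/
theorem part_small {m k : ℕ} {f : Fin m → Fin k} (hf : Function.Surjective f) (hk : k ≤ 4)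
    (hsz : ∀ i, Fintype.card {a // f a = i} ≤ 4) {p : ℕ} (hp : p.Prime)
    (hd : p ∣ Nat.card (part f)) : p ≤ 4 := by
  have hd' := hd.trans (card_part_dvd hf)
  rw [partBound] at hd'
  rcases hp.dvd_mul.1 hd' with h | h
  · obtain ⟨i, -, hi⟩ := (Prime.dvd_finsetProd_iff hp.prime _).1 h
    exact (hp.dvd_factorial.1 hi).trans (by rw [sz, Nat.card_eq_fintype_card]; exact hsz i)
  · obtain ⟨i, -, hi⟩ := (Prime.dvd_finsetProd_iff hp.prime _).1 h
    refine (hp.dvd_factorial.1 hi).trans (le_trans ?_ hk)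
    exact (Nat.card_le_card_of_injective Subtype.val Subtype.val_injective).trans (by rw [Nat.card_fin])

theorem not_D {n : ℕ} {π : Set ℕ} (hm : Mixed π (Fintype.card (Fin n)))
    (hD : Cfsg.IsDPiGroup π ↥(alternatingGroup (Fin n))) : False := by
  classical
  have h5 := hm.five_le
  obtain ⟨M₀, -, hM₀⟩ := le_maximal (π := π) (⊥ : Subgroup (alternatingGroup (Fin n)))
    fun p hp hd => absurd (by simpa using hd) hp.ne_one
  have hall : Cfsg.IsPiHall π M₀ := by
    refine ⟨hM₀.prop, fun p hp hπ hd => ?_⟩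
    haveI := Fact.mk hp
    obtain ⟨P⟩ : Nonempty (Sylow p (alternatingGroup (Fin n))) := inferInstance
    have hPπ : Cfsg.IsPiSubgroup π (P : Subgroup (alternatingGroup (Fin n))) := fun q hq hqd => by
      rw [P.card_eq_multiplicity] at hqd
      rw [(Nat.prime_dvd_prime_iff_eq hq hp).1 (hq.dvd_of_dvd_pow hqd)]; exact hπ
    obtain ⟨K, hPK, hK⟩ := le_maximal _ hPπ
    obtain ⟨g, hg⟩ := hD M₀ K hM₀ hK
    have hd' : p ∣ K.index := by rw [hg]; exact (Subgroup.index_map_equiv M₀ (MulAut.conj g)).symm ▸ hd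
    exact P.not_dvd_index (hd'.trans (Subgroup.index_dvd_of_le hPK))
  obtain ⟨T, c, hT, hs, hiff, hM⟩ := alt_hall_eq hm hall
  suffices H : ∃ K : Subgroup (Perm (Fin n)), (∀ p : ℕ, p.Prime → p ∣ Nat.card K → p ∈ π) ∧
      ∀ T' : Finset (Fin n), T'.card = c → ∃ g ∈ K, Perm.sign g = 1 ∧ g ∉ part (ind T') by
    obtain ⟨K, hKπ, hK⟩ := H
    have hK' : Cfsg.IsPiSubgroup π (K.subgroupOf (alternatingGroup (Fin n))) := fun p hp hd =>
      hKπ p hp (hd.trans (by
        rw [← Subgroup.card_map_of_injective (alternatingGroup (Fin n)).subtype_injective]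
        exact Subgroup.card_dvd_of_le (by rintro _ ⟨x, hx, rfl⟩; exact hx)))
    obtain ⟨L, hKL, hL⟩ := le_maximal _ hK'
    obtain ⟨e, he⟩ := hD M₀ L hM₀ hL
    obtain ⟨g, hgK, hgs, hgn⟩ := hK (T.map (e : Perm (Fin n)).toEmbedding) (by rw [Finset.card_map, hT])
    apply hgn
    have hgL := hKL (show (⟨g, Equiv.Perm.mem_alternatingGroup.2 hgs⟩ : alternatingGroup (Fin n)) ∈
      K.subgroupOf (alternatingGroup (Fin n)) from hgK)
    rw [he, Subgroup.mem_map_equiv, MulAut.conj_symm_apply, hM, Subgroup.mem_subgroupOf] at hgL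
    have hind : ∀ a, ind (T.map (e : Perm (Fin n)).toEmbedding) a = ind T ((e : Perm (Fin n))⁻¹ a) :=
      fun a => by simp [ind, Finset.mem_map_equiv]
    intro x y
    have h := hgL ((e : Perm (Fin n))⁻¹ x) ((e : Perm (Fin n))⁻¹ y)
    rw [hind, hind, hind, hind]
    simpa [Perm.mul_apply] using h
  rw [Fintype.card_fin] at hs hiff h5
  obtain ⟨hc0, hcn, hnc, hc3⟩ := hs.bounds h5
  rcases hs with ⟨hp, hc⟩ | ⟨h7 | h7, rfl⟩
  · obtain ⟨U, -, hU⟩ := Finset.exists_subset_card_eq (s := (Finset.univ : Finset (Fin n)))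
      (show 3 ≤ _ by rw [Finset.card_univ, Fintype.card_fin]; omega)
    refine ⟨part (ind U), fun p hp' hd => ?_, fun T' hT' => ?_⟩
    · have hle : p ≤ c := by
        rw [card_part_ind hU (b := n - 3) (by rw [Fintype.card_fin]; omega) (by norm_num) (by omega)] at hd
        rcases hp'.dvd_mul.1 hd with hd | hd
        · rcases hp'.dvd_mul.1 hd with hd | hd
          · have := hp'.dvd_factorial.1 hd; omega
          · have := hp'.dvd_factorial.1 hd; omega
        · have := Nat.le_of_dvd (by split <;> norm_num) hd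
          split at this <;> omega
      exact (hiff p hp' (by omega)).2 hle
    obtain ⟨z, hz⟩ : ∃ z, T'ᶜ = {z} := Finset.card_eq_one.1 (by
      rw [Finset.card_compl, hT', Fintype.card_fin]; omega)
    have hzT : ∀ a, a ∈ T' ↔ a ≠ z := fun a => by
      rw [← not_iff_not, not_not, ← Finset.mem_compl, hz, Finset.mem_singleton]
    obtain ⟨A, B, hzA, hA2, hB2, hAB, hf⟩ : ∃ A B : Finset (Fin n), z ∈ A ∧ 1 < A.card ∧ 1 < B.card ∧
        Disjoint A B ∧ (∀ a ∈ A, ∀ b ∈ A, ind U a = ind U b) ∧ ∀ a ∈ B, ∀ b ∈ B, ind U a = ind U b := by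
      have hUc : Uᶜ.card = n - 3 := by rw [Finset.card_compl, hU, Fintype.card_fin]
      by_cases hzU : z ∈ U
      · exact ⟨U, Uᶜ, hzU, by omega, by omega, disjoint_compl_right,
          fun a ha b hb => by simp [ind, ha, hb],
          fun a ha b hb => by simp [ind, Finset.mem_compl.1 ha, Finset.mem_compl.1 hb]⟩
      · exact ⟨Uᶜ, U, Finset.mem_compl.2 hzU, by omega, by omega, disjoint_compl_left,
          fun a ha b hb => by simp [ind, Finset.mem_compl.1 ha, Finset.mem_compl.1 hb],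
          fun a ha b hb => by simp [ind, ha, hb]⟩
    obtain ⟨w, hw, hwz⟩ := Finset.exists_mem_ne hA2 z
    obtain ⟨u, v, hu, hv, huv⟩ := Finset.one_lt_card_iff.1 hB2
    set g := Equiv.swap z w * Equiv.swap u v with hg
    refine ⟨g, mul_mem (fib_le_part _ (swap_mem_fib (hf.1 z hzA w hw))) (fib_le_part _ (swap_mem_fib (hf.2 u hu v hv))),
      by rw [hg, map_mul, Perm.sign_swap hwz.symm, Perm.sign_swap huv]; rfl, fun hmem => ?_⟩
    have hzu : z ≠ u := fun e => Finset.disjoint_left.1 hAB hzA (e ▸ hu)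
    have hzv : z ≠ v := fun e => Finset.disjoint_left.1 hAB hzA (e ▸ hv)
    have hwu : w ≠ u := fun e => Finset.disjoint_left.1 hAB hw (e ▸ hu)
    have hwv : w ≠ v := fun e => Finset.disjoint_left.1 hAB hw (e ▸ hv)
    have gw : g w = z := by
      rw [hg, Perm.mul_apply, Equiv.swap_apply_of_ne_of_ne hwu hwv, Equiv.swap_apply_right]
    have gu : g u = v := by
      rw [hg, Perm.mul_apply, Equiv.swap_apply_left, Equiv.swap_apply_of_ne_of_ne hzv.symm hwv.symm]
    have := (hmem w u).2 (by simp [ind, hzT, hwz, hzu.symm])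
    rw [gw, gu] at this
    simp [ind, hzT, hzv.symm] at this
  · subst h7
    refine ⟨part (![0, 0, 0, 1, 1, 1, 2] : Fin 7 → Fin 3), fun p hp hd => ?_, fun T' hT' => ?_⟩
    · have := part_small (by decide) (by norm_num) seven_sz hp hd
      exact (hiff p hp (by omega)).2 this
    · obtain ⟨g, hg, x, y, hxy⟩ := seven_move T' (Finset.mem_powersetCard.2 ⟨Finset.subset_univ _, hT'⟩)
      exact ⟨g, (seven_part g hg), seven_sign g hg, fun h => hxy (h x y)⟩
  · subst h7
    refine ⟨part (![0, 0, 1, 1, 2, 2, 3, 3] : Fin 8 → Fin 4), fun p hp hd => ?_, fun T' hT' => ?_⟩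
    · have := part_small (by decide) (by norm_num) eight_sz hp hd
      exact (hiff p hp (by omega)).2 this
    · obtain ⟨g, hg, x, y, hxy⟩ := eight_move T' (Finset.mem_powersetCard.2 ⟨Finset.subset_univ _, hT'⟩)
      exact ⟨g, (eight_part g hg), eight_sign g hg, fun h => hxy (h x y)⟩

/-- For `n ≥ 5` and a set of primes `π`, the alternating group of degree `n` satisfies the full Sylow analogue for `π` (its maximal `π`-subgroups are pairwise conjugate; for a finite group this says Hall `π`-subgroups exist, are all conjugate, and contain every `π`-subgroup up to conjugacy) if and only if either at most one prime of `π` divides its order or every prime dividing its order lies in `π`. -/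
theorem result (n : ℕ) (hn : 5 ≤ n) (π : Set ℕ) :
    Cfsg.IsDPiGroup π ↥(alternatingGroup (Fin n)) ↔
      ((∀ r s : ℕ, r.Prime → s.Prime → r ∈ π → s ∈ π → r ∣ Nat.card ↥(alternatingGroup (Fin n)) → s ∣ Nat.card ↥(alternatingGroup (Fin n)) → r = s) ∨
        ∀ r : ℕ, r.Prime → r ∣ Nat.card ↥(alternatingGroup (Fin n)) → r ∈ π) := by
  have hA : ∀ r : ℕ, r.Prime → r ≤ n → r ∣ Nat.card ↥(alternatingGroup (Fin n)) := by
    intro r hr hrn
    haveI : Nontrivial (Fin n) := Fin.nontrivial_iff_two_le.2 (by omega)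
    have h : 2 * Nat.card (alternatingGroup (Fin n)) = n.factorial := by
      rw [two_mul_nat_card_alternatingGroup, Nat.card_perm, Nat.card_fin]
    rcases hr.eq_two_or_odd' with rfl | hodd
    · obtain ⟨q, hq⟩ : 4 ∣ n.factorial :=
        (show 4 ∣ Nat.factorial 5 by decide).trans (Nat.factorial_dvd_factorial hn)
      exact ⟨q, by omega⟩
    · exact (Nat.Coprime.dvd_of_dvd_mul_left hodd.coprime_two_right (h ▸ Nat.dvd_factorial hr.pos hrn))
  constructor
  · intro hD
    by_contra hcon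
    push Not at hcon
    obtain ⟨⟨r, s, hr, hs, hrπ, hsπ, hrd, hsd, hne⟩, t, ht, htd, htπ⟩ := hcon
    have hle : ∀ {p : ℕ}, p.Prime → p ∣ Nat.card ↥(alternatingGroup (Fin n)) → p ≤ n := fun hp h => by
      simpa using HallSym.prime_le_of_dvd_perm hp h
    have hm : HallSym.Mixed π (Fintype.card (Fin n)) := by
      rw [Fintype.card_fin]
      exact ⟨⟨r, s, hr, hs, hne, hrπ, hsπ, hle hr hrd, hle hs hsd⟩, t, ht, hle ht htd, htπ⟩
    exact not_D hm hD
  · intro h
    by_cases hm : HallSym.Mixed π (Fintype.card (Fin n))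
    · rw [Fintype.card_fin] at hm
      obtain ⟨⟨r, s, hr, hs, hne, hrπ, hsπ, hrn, hsn⟩, t, ht, htn, htπ⟩ := hm
      rcases h with h | h
      · exact absurd (h r s hr hs hrπ hsπ (hA r hr hrn) (hA s hs hsn)) hne
      · exact absurd (h t ht (hA t ht htn)) htπ
    · exact (HallSym.unmixed hm _).2.2

end Cfsg.Agent.S2534
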