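import Cfsg.Statements.S2536
import Cfsg.Agent.KnownSimple58.HallSym.Apply
-- import your own Cfsg.Agent.* helpers here

set_option autoImplicit false
open Cfsg

namespace Cfsg.Agent.S2536

/-- Let `π` be a set of primes and `n` a natural number such that at least two primes of `π` divide `n!` but not every prime dividing `n!` lies in `π`. Then the symmetric group of degree `n` has a Hall `π`-subgroup if and only if either `n` is prime and the primes of `π` dividing `n!` are exactly the primes smaller than `n` (a point stabilizer is then such a subgroup), or `n ∈ {7, 8}` and the primes of `π` dividing `n!` are exactly 2 and 3. -/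
theorem result (n : ℕ) (π : Set ℕ)
    (h2 : ∃ r s : ℕ, r.Prime ∧ s.Prime ∧ r ≠ s ∧ r ∈ π ∧ s ∈ π ∧ r ≤ n ∧ s ≤ n)
    (hns : ∃ r : ℕ, r.Prime ∧ r ≤ n ∧ r ∉ π) :
    Cfsg.IsEPiGroup π (Equiv.Perm (Fin n)) ↔
      ((n.Prime ∧ ∀ r : ℕ, r.Prime → r ≤ n → (r ∈ π ↔ r < n)) ∨
       ((n = 7 ∨ n = 8) ∧ ∀ r : ℕ, r.Prime → r ≤ n → (r ∈ π ↔ (r = 2 ∨ r = 3)))) := by
  have hm : HallSym.Mixed π (Fintype.card (Fin n)) := by rw [Fintype.card_fin]; exact ⟨h2, hns⟩
  have h5 := hm.five_le
  constructor
  · rintro ⟨H, hH⟩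
    obtain ⟨T, c, -, hs, hiff, -⟩ := HallSym.perm_hall_eq hm hH
    rw [Fintype.card_fin] at hs hiff h5
    rcases hs with ⟨hp, hc⟩ | ⟨h78, rfl⟩
    · exact Or.inl ⟨hp, fun r hr hrn => (hiff r hr hrn).trans (by omega)⟩
    · refine Or.inr ⟨h78, fun r hr hrn => (hiff r hr hrn).trans ⟨fun h => ?_, fun h => by omega⟩⟩
      have := hr.two_le
      interval_cases r <;> first | omega | (norm_num at hr; done)
  · intro h
    rw [Fintype.card_fin] at h5
    rcases h with ⟨hp, hiff⟩ | ⟨h78, hiff⟩
    · refine HallSym.exists_hall (c := n - 1) ?_ (by simpa using h5) ?_ <;> rw [Fintype.card_fin]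
      · exact Or.inl ⟨hp, by omega⟩
      · exact fun r hr hrn => (hiff r hr hrn).trans (by omega)
    · refine HallSym.exists_hall (c := 4) ?_ (by simpa using h5) ?_ <;> rw [Fintype.card_fin]
      · exact Or.inr ⟨h78, rfl⟩
      · refine fun r hr hrn => (hiff r hr hrn).trans ⟨fun h => by omega, fun h => ?_⟩
        have := hr.two_le
        interval_cases r <;> first | omega | (norm_num at hr; done)

end Cfsg.Agent.S2536
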