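import Cfsg.Statements.S2537
import Cfsg.Agent.Lib.Dickson.Maximal
import Cfsg.Agent.Lib.Dickson.Exists
import Cfsg.Agent.Lib.Solvable.Hall
-- import your own Cfsg.Agent.* helpers here

set_option autoImplicit false
open Cfsg

namespace Cfsg.Agent.S2537


open Cfsg.Agent.Dickson
open scoped MatrixGroups

theorem six_coprime_of_prime_pow {p n : ℕ} (hp : p.Prime) (h5 : 5 ≤ p) :
    ¬ 2 ∣ p ^ n ∧ ¬ 3 ∣ p ^ n := by
  constructor <;> intro h
  · have := (Nat.prime_dvd_prime_iff_eq Nat.prime_two hp).mp (Nat.prime_two.dvd_of_dvd_pow h); omega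
  · have := (Nat.prime_dvd_prime_iff_eq Nat.prime_three hp).mp (Nat.prime_three.dvd_of_dvd_pow h); omega

theorem part_eq {a q i h : ℕ} (ha : a ≠ 0) (e : a * q = 2 * (h * i)) (q2 : ¬ 2 ∣ q) (q3 : ¬ 3 ∣ q)
    (i2 : ¬ 2 ∣ i) (i3 : ¬ 3 ∣ i) :
    a.factorization 2 = (2 * h).factorization 2 ∧ a.factorization 3 = (2 * h).factorization 3 := by
  have hq : q ≠ 0 := fun h => q2 (h ▸ dvd_zero 2)
  have hi : i ≠ 0 := fun h => i2 (h ▸ dvd_zero 2)
  rw [← mul_assoc] at e
  have hh : 2 * h ≠ 0 := fun h0 => by rw [h0, zero_mul] at e; exact mul_ne_zero ha hq e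
  have h2 := congrArg (fun m : ℕ => m.factorization 2) e
  have h3 := congrArg (fun m : ℕ => m.factorization 3) e
  simp only [Nat.factorization_mul ha hq, Nat.factorization_mul hh hi, Finsupp.coe_add, Pi.add_apply,
    Nat.factorization_eq_zero_of_not_dvd q2, Nat.factorization_eq_zero_of_not_dvd q3,
    Nat.factorization_eq_zero_of_not_dvd i2, Nat.factorization_eq_zero_of_not_dvd i3,
    add_zero] at h2 h3
  exact ⟨h2, h3⟩

theorem exps {a b : ℕ} :
    (2 ^ a * 3 ^ b = 24 → a = 3 ∧ b = 1) ∧ (2 ^ a * 3 ^ b = 48 → a = 4 ∧ b = 1) := by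
  constructor <;> intro h <;>
  · have ha : a < 7 := by
      by_contra hc
      have := Nat.pow_le_pow_right (show 1 ≤ 2 by omega) (show 7 ≤ a by omega)
      have := Nat.mul_le_mul this (Nat.one_le_pow b 3 (by omega)); omega
    have hb : b < 5 := by
      by_contra hc
      have := Nat.pow_le_pow_right (show 1 ≤ 3 by omega) (show 5 ≤ b by omega)
      have := Nat.mul_le_mul (Nat.one_le_pow a 2 (by omega)) this; omega
    interval_cases a <;> interval_cases b <;> simp at h ⊢

theorem card_S4' : Nat.card (Equiv.Perm (Fin 4)) = 24 := by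
  rw [Nat.card_perm]; simp [Nat.factorial]

theorem isSolvable_dihedral (k : ℕ) : Group.IsSolvable (DihedralGroup k) := by
  let s : DihedralGroup k →* Multiplicative (ZMod 2) :=
    MonoidHom.mk' (fun d => match d with
      | .r _ => 1
      | .sr _ => Multiplicative.ofAdd 1) (by rintro (i | i) (j | j) <;> simp <;> decide)
  let r : Multiplicative (ZMod k) →* DihedralGroup k := MonoidHom.mk' (fun i => .r i.toAdd) (by simp)
  have hker : s.ker ≤ r.range := by
    rintro (i | i) hd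
    · exact ⟨Multiplicative.ofAdd i, rfl⟩
    · exact absurd (show Multiplicative.ofAdd (1 : ZMod 2) = 1 from hd) (by decide)
  exact Group.isSolvable_of_ker_le_range r s hker

theorem three_dvd {q : ℕ} (h : ¬ 3 ∣ q) : 3 ∣ q + 1 ∨ 3 ∣ q - 1 := by
  rcases (show q % 3 = 1 ∨ q % 3 = 2 by omega) with e | e
  · exact Or.inr (by omega)
  · exact Or.inl (by omega)

variable {F : Type*} [Field F] [Fintype F]

theorem isPiHall_of_index {G : Type*} [Group G] {H : Subgroup G}
    (hH : ∀ r : ℕ, r.Prime → r ∣ Nat.card H → r = 2 ∨ r = 3) (h2 : ¬ 2 ∣ H.index)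
    (h3 : ¬ 3 ∣ H.index) : Cfsg.IsPiHall ({2, 3} : Set ℕ) H := by
  refine ⟨fun r hr hd => by simpa using hH r hr hd, fun r _ hr => ?_⟩
  simp only [Set.mem_insert_iff, Set.mem_singleton_iff] at hr
  rcases hr with rfl | rfl <;> assumption

/-- The dihedral case. -/
theorem exists_hall_torus {p : ℕ} [Fact p.Prime] [CharP F p] (q : ℕ) (hq : Fintype.card F = q)
    (q2 : ¬ 2 ∣ q) (q3 : ¬ 3 ∣ q) (q7 : 5 ≤ q)
    (h : (3 ∣ q - 1 ∧ q % 4 = 1) ∨ (3 ∣ q + 1 ∧ q % 4 = 3)) :
    ∃ H : Subgroup (PSL2 F), Cfsg.IsPiHall ({2, 3} : Set ℕ) H := by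
  have hd : Nat.gcd 2 (Fintype.card F - 1) = 2 := Nat.gcd_eq_left (by omega)
  have hcG := card_psl_eq (F := F)
  rw [hd, hq] at hcG
  obtain ⟨m, hm, hm4, hm3, co, hco, hq1, hmq⟩ : ∃ m, (m = q - 1 ∨ m = q + 1) ∧ 4 ∣ m ∧ 3 ∣ m ∧
      ∃ co, (co % 4 = 2) ∧ ¬ 3 ∣ co ∧ (q + 1) * (q * (q - 1)) = m * (q * co) := by
    rcases h with ⟨h1, h2⟩ | ⟨h1, h2⟩
    · exact ⟨q - 1, Or.inl rfl, by omega, h1, q + 1, by omega, by omega, by ring⟩
    · exact ⟨q + 1, Or.inr rfl, by omega, h1, q - 1, by omega, by omega, by ring⟩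
  rw [hq] at hd
  obtain ⟨g, hg⟩ := SL2Tor.exists_psl_orderOf_div (F := F) (n := m) (by rw [hq]; exact hm)
  rw [hq, hd] at hg
  have hm12 : 12 ∣ m := Nat.Coprime.mul_dvd_of_dvd_of_dvd (by norm_num : Nat.Coprime 4 3) hm4 hm3
  have hm0 : 12 ≤ m := Nat.le_of_dvd (by omega) hm12
  have hg1 : g ≠ 1 := fun e => by rw [e, orderOf_one] at hg; omega
  have hcop : Nat.Coprime (orderOf g) p := coprime_char p (F := F) (by
    rw [hq, hd, hg]; rcases hm with rfl | rfl
    · exact Or.inr (dvd_refl _)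
    · exact Or.inl (dvd_refl _))
  obtain ⟨N, n, hN, -, hdvd, -, -⟩ := torus_of p hg1 hcop
  have hNn : 2 * n = m := by
    rw [hg] at hdvd
    obtain ⟨hn2, -, -, hn⟩ := hN
    rw [hq, hd] at hn
    obtain ⟨j, hj⟩ := hdvd
    have hn0 : m / 2 ≤ n := by rw [hj]; exact Nat.le_mul_of_pos_right _ (by rcases Nat.eq_zero_or_pos j with rfl | h0 <;> omega)
    rcases hm with rfl | rfl <;> rcases hn with hn | hn
    · exact hn
    · exfalso
      rcases j with _ | _ | j
      · omega
      · omega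
      · have : (q - 1) / 2 * 2 ≤ (q - 1) / 2 * (j + 1 + 1) := Nat.mul_le_mul_left _ (by omega)
        omega
    · exfalso; omega
    · exact hn
  have hcN : Nat.card N = m := (card_torusNorm hN).trans hNn
  have hi := N.card_mul_index
  rw [hcN] at hi
  rw [← hi, hmq, mul_left_comm] at hcG
  have hidx : 2 * N.index = q * co := Nat.eq_of_mul_eq_mul_left (by omega) hcG
  have i2 : ¬ 2 ∣ N.index := by
    rintro ⟨c, hc⟩
    have h4 : 4 ∣ q * co := ⟨c, by rw [← hidx, hc]; ring⟩
    have := (Nat.Coprime.dvd_of_dvd_mul_left ((Nat.Coprime.pow_left 2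
      ((Nat.Prime.coprime_iff_not_dvd Nat.prime_two).mpr q2))) h4)
    omega
  have i3 : ¬ 3 ∣ N.index := fun h3 => by
    rcases (Nat.Prime.dvd_mul Nat.prime_three).mp (hidx ▸ h3.mul_left 2) with e | e
    · exact q3 e
    · exact hq1 e
  obtain ⟨e⟩ := hN.2.1
  haveI := isSolvable_dihedral n
  haveI : Group.IsSolvable N :=
    Group.isSolvable_of_surjective (f := e.symm.toMonoidHom) e.symm.surjective
  set a := m.factorization 2
  set b := m.factorization 3
  have hA : 2 ^ a * 3 ^ b ∣ m := Nat.Coprime.mul_dvd_of_dvd_of_dvd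
    ((Nat.Coprime.pow _ _ (by norm_num))) (Nat.ordProj_dvd m 2) (Nat.ordProj_dvd m 3)
  obtain ⟨r, hr⟩ := hA
  have r2 : ¬ 2 ∣ r := fun ⟨c, hc⟩ => Nat.pow_succ_factorization_not_dvd (by omega) Nat.prime_two
    ⟨3 ^ b * c, hr.trans (by rw [hc]; ring)⟩
  have r3 : ¬ 3 ∣ r := fun ⟨c, hc⟩ => Nat.pow_succ_factorization_not_dvd (by omega) Nat.prime_three
    ⟨2 ^ a * c, hr.trans (by rw [hc]; ring)⟩
  obtain ⟨K, hK⟩ := Solvable.exists_hall (G := N) (m := 2 ^ a * 3 ^ b) (n := r) (hcN.trans hr)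
    (Nat.Coprime.mul_left (Nat.Coprime.pow_left _ ((Nat.Prime.coprime_iff_not_dvd Nat.prime_two).mpr r2))
      (Nat.Coprime.pow_left _ ((Nat.Prime.coprime_iff_not_dvd Nat.prime_three).mpr r3)))
  have hKi : K.index = r := by
    have := K.card_mul_index
    rw [hK, hcN] at this
    exact Nat.eq_of_mul_eq_mul_left (by positivity) (this.trans hr)
  refine ⟨K.map N.subtype, isPiHall_of_index ?_ ?_ ?_⟩
  · intro s hs hd'
    rw [Subgroup.card_map_of_injective N.subtype_injective, hK] at hd'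
    rcases (Nat.Prime.dvd_mul hs).mp hd' with e | e
    · exact Or.inl ((Nat.prime_dvd_prime_iff_eq hs Nat.prime_two).mp (hs.dvd_of_dvd_pow e))
    · exact Or.inr ((Nat.prime_dvd_prime_iff_eq hs Nat.prime_three).mp (hs.dvd_of_dvd_pow e))
  · rw [Subgroup.index_map_subtype, hKi]
    exact fun h => ((Nat.Prime.dvd_mul Nat.prime_two).mp h).elim r2 i2
  · rw [Subgroup.index_map_subtype, hKi]
    exact fun h => ((Nat.Prime.dvd_mul Nat.prime_three).mp h).elim r3 i3


/-- Let `F` be a finite field with `q` elements of characteristic `p ≥ 5`, and `ε = 1` if `q ≡ 1 (mod 4)`, `ε = -1` otherwise. Then `PSL(2, F)` has a Hall `{2, 3}`-subgroup if and only if `3` divides `q − ε`, or the `{2,3}`-part of `q² − 1` is 24, or the `{2,3}`-part of `q² − 1` is 48 (the `{2,3}`-part of `m` being the largest divisor of `m` with no prime factor other than 2 and 3). -/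
theorem result {F : Type*} [Field F] [Fintype F] {p : ℕ} [Fact p.Prime] [CharP F p]
    (hp : 5 ≤ p) (q : ℕ) (hq : Fintype.card F = q) :
    (∃ H : Subgroup (Matrix.ProjectiveSpecialLinearGroup (Fin 2) F), Cfsg.IsPiHall ({2, 3} : Set ℕ) H) ↔
      (3 ∣ q - 1 ∧ q % 4 = 1) ∨ (3 ∣ q + 1 ∧ q % 4 = 3) ∨
        2 ^ (q ^ 2 - 1).factorization 2 * 3 ^ (q ^ 2 - 1).factorization 3 = 24 ∨
        2 ^ (q ^ 2 - 1).factorization 2 * 3 ^ (q ^ 2 - 1).factorization 3 = 48 := by
  obtain ⟨n, -, hn⟩ := FiniteField.card F p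
  rw [hq] at hn
  obtain ⟨q2, q3⟩ : ¬ 2 ∣ q ∧ ¬ 3 ∣ q := hn ▸ six_coprime_of_prime_pow Fact.out hp
  have q5 : 5 ≤ q := hn ▸ hp.trans (Nat.le_self_pow n.pos.ne' p)
  have hd : Nat.gcd 2 (Fintype.card F - 1) = 2 := Nat.gcd_eq_left (by omega)
  have hcG := card_psl_eq (F := F)
  rw [hd, hq] at hcG
  have hsq : q ^ 2 - 1 = (q + 1) * (q - 1) := by
    simpa using Nat.sq_sub_sq q 1
  have ha0 : q ^ 2 - 1 ≠ 0 := by
    rw [hsq]; exact mul_ne_zero (by omega) (by omega)
  have h8 : 3 ∣ q ^ 2 - 1 := by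
    rw [hsq]
    rcases three_dvd q3 with e | e
    · exact dvd_mul_of_dvd_left e _
    · exact dvd_mul_of_dvd_right e _
  have hGq : (q ^ 2 - 1) * q = 2 * Nat.card (PSL2 F) := by rw [hcG, hsq]; ring
  constructor
  · rintro ⟨H, hH1, hH2⟩
    have i2 : ¬ 2 ∣ H.index := hH2 2 Nat.prime_two (by simp)
    have i3 : ¬ 3 ∣ H.index := hH2 3 Nat.prime_three (by simp)
    have hHi := H.card_mul_index
    have hpart := part_eq ha0 (hGq.trans (by rw [hHi])) q2 q3 i2 i3
    rcases subgroup_cases p H with ⟨w, hw⟩ | ⟨N, k, hN, hle⟩ | ⟨⟨e⟩⟩ | ⟨⟨e⟩⟩ | ⟨⟨e⟩⟩ | ⟨T, hT⟩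
    · exfalso
      apply i2
      have := Subgroup.index_dvd_of_le hw
      rw [index_stabilizer_point, hq] at this
      exact (show 2 ∣ q + 1 by omega).trans this
    · have hiN : N.index ∣ H.index := Subgroup.index_dvd_of_le hle
      have hcN := card_torusNorm hN
      obtain ⟨-, -, -, hk⟩ := hN
      rw [hd, hq] at hk
      rw [← N.card_mul_index, hcN] at hcG
      rcases hk with hk | hk <;> rw [hk] at hcG
      · have hi : 2 * N.index = q * (q + 1) :=
          Nat.eq_of_mul_eq_mul_left (show 0 < q - 1 by omega) (by rw [← mul_assoc, mul_comm _ 2, mul_assoc, hcG]; ring)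
        left
        constructor
        · by_contra h3
          exact i3 ((Nat.Coprime.dvd_of_dvd_mul_left (by norm_num : Nat.Coprime 3 2)
            (hi ▸ dvd_mul_of_dvd_right ((three_dvd q3).resolve_right h3) q)).trans hiN)
        · by_contra h4
          obtain ⟨c, hc⟩ : 4 ∣ q + 1 := by omega
          rw [hc] at hi
          exact i2 ((show 2 ∣ N.index from ⟨q * c, by linarith⟩).trans hiN)
      · have hi : 2 * N.index = q * (q - 1) :=
          Nat.eq_of_mul_eq_mul_left (show 0 < q + 1 by omega) (by rw [← mul_assoc, mul_comm _ 2, mul_assoc, hcG])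
        right; left
        constructor
        · by_contra h3
          exact i3 ((Nat.Coprime.dvd_of_dvd_mul_left (by norm_num : Nat.Coprime 3 2)
            (hi ▸ dvd_mul_of_dvd_right ((three_dvd q3).resolve_left h3) q)).trans hiN)
        · by_contra h4
          obtain ⟨c, hc⟩ : 4 ∣ q - 1 := by omega
          rw [hc] at hi
          exact i2 ((show 2 ∣ N.index from ⟨q * c, by linarith⟩).trans hiN)
    · right; right; left
      rw [hpart.1, hpart.2, Nat.card_congr e.toEquiv, card_A4,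
        show 2 * 12 = 2 ^ 3 * 3 ^ 1 by norm_num, Nat.factorization_mul (by norm_num) (by norm_num),
        Finsupp.coe_add, Pi.add_apply, Pi.add_apply, Nat.Prime.factorization_pow Nat.prime_two,
        Nat.Prime.factorization_pow Nat.prime_three]
      simp
    · right; right; right
      rw [hpart.1, hpart.2, Nat.card_congr e.toEquiv, card_S4',
        show 2 * 24 = 2 ^ 4 * 3 ^ 1 by norm_num, Nat.factorization_mul (by norm_num) (by norm_num),
        Finsupp.coe_add, Pi.add_apply, Pi.add_apply, Nat.Prime.factorization_pow Nat.prime_two,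
        Nat.Prime.factorization_pow Nat.prime_three]
      simp
    · exfalso
      have := hH1 5 (by norm_num) (by rw [Nat.card_congr e.toEquiv, card_A5]; norm_num)
      simp at this
    · exfalso
      have hpT : p ∣ Nat.card T := by
        haveI : CharP T p := T.subtype.charP Subtype.val_injective p
        haveI := Fintype.ofFinite T
        obtain ⟨j, -, hj⟩ := FiniteField.card T p
        rw [Nat.card_eq_fintype_card, hj]; exact dvd_pow_self _ j.pos.ne'
      have hpH : p ∣ Nat.card H := by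
        rcases card_big hT with ⟨hc, -⟩ | ⟨hc, -⟩
        · refine (Nat.Coprime.dvd_of_dvd_mul_left ?_ (hc ▸ dvd_mul_of_dvd_left hpT _))
          refine Nat.Coprime.coprime_dvd_right (Nat.gcd_dvd_left _ _) ?_
          exact (Nat.coprime_primes Fact.out Nat.prime_two).mpr (by omega)
        · rw [hc]; exact dvd_mul_of_dvd_left hpT _
      have := hH1 p Fact.out hpH
      simp at this
      omega
  · intro h
    have h2F : (2 : F) ≠ 0 := Ring.two_ne_zero (ringChar.eq F p ▸ by omega)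
    have h3F : (3 : F) ≠ 0 := by
      intro h
      have := (CharP.cast_eq_zero_iff F p 3).mp (by exact_mod_cast h)
      have := Nat.le_of_dvd (by omega) this
      omega
    have small : ∀ (H : Subgroup (PSL2 F)) (c f : ℕ), Nat.card H = c →
        2 ^ f * 3 = 2 * c → (q ^ 2 - 1).factorization 2 = f → (q ^ 2 - 1).factorization 3 = 1 →
        Cfsg.IsPiHall ({2, 3} : Set ℕ) H := by
      intro H c f hc hcf hf2 hf3
      have hi := H.card_mul_index
      rw [hc] at hi
      refine isPiHall_of_index ?_ ?_ ?_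
      · intro r hr hd'
        have : r ∣ 2 ^ f * 3 := hcf ▸ dvd_mul_of_dvd_right (hc ▸ hd') 2
        rcases (Nat.Prime.dvd_mul hr).mp this with e | e
        · exact Or.inl ((Nat.prime_dvd_prime_iff_eq hr Nat.prime_two).mp (hr.dvd_of_dvd_pow e))
        · exact Or.inr ((Nat.prime_dvd_prime_iff_eq hr Nat.prime_three).mp e)
      · rintro ⟨j, hj⟩
        apply Nat.pow_succ_factorization_not_dvd ha0 Nat.prime_two
        rw [hf2]
        refine Nat.Coprime.dvd_of_dvd_mul_right (Nat.Coprime.pow_left _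
          ((Nat.Prime.coprime_iff_not_dvd Nat.prime_two).mpr q2)) ⟨3 * j, ?_⟩
        rw [hGq, ← hi, hj, ← mul_assoc, ← hcf]; ring
      · rintro ⟨j, hj⟩
        apply Nat.pow_succ_factorization_not_dvd ha0 Nat.prime_three
        rw [hf3]
        refine Nat.Coprime.dvd_of_dvd_mul_right (Nat.Coprime.pow_left _
          ((Nat.Prime.coprime_iff_not_dvd Nat.prime_three).mpr q3)) ⟨2 ^ f * j, ?_⟩
        rw [hGq, ← hi, hj, ← mul_assoc, ← hcf]; ring
    rcases h with h | h | h | h
    · exact exists_hall_torus (p := p) q hq q2 q3 q5 (Or.inl h)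
    · exact exists_hall_torus (p := p) q hq q2 q3 q5 (Or.inr h)
    · obtain ⟨e2, e3⟩ := exps.1 h
      obtain ⟨H, ⟨e⟩⟩ := exists_A4 h2F h3F
      exact ⟨H, small H 12 3 ((Nat.card_congr e.toEquiv).trans card_A4) (by norm_num) e2 e3⟩
    · obtain ⟨e2, e3⟩ := exps.2 h
      have h16 : 2 ^ 4 ∣ q ^ 2 - 1 := e2 ▸ Nat.ordProj_dvd _ _
      have hm : q % 8 ≠ 3 ∧ q % 8 ≠ 5 := by
        rw [hsq] at h16
        obtain ⟨c, hc⟩ := h16
        constructor <;> intro h'
        · obtain ⟨u, rfl⟩ : ∃ u, q = 8 * u + 3 := ⟨q / 8, by omega⟩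
          rw [show 8 * u + 3 - 1 = 8 * u + 2 by omega,
            show (8 * u + 3 + 1) * (8 * u + 2) = 16 * (4 * u * u + 3 * u) + 8 by ring] at hc
          omega
        · obtain ⟨u, rfl⟩ : ∃ u, q = 8 * u + 5 := ⟨q / 8, by omega⟩
          rw [show 8 * u + 5 - 1 = 8 * u + 4 by omega,
            show (8 * u + 5 + 1) * (8 * u + 4) = 16 * (4 * u * u + 5 * u + 1) + 8 by ring] at hc
          omega
      obtain ⟨w, hw⟩ := (FiniteField.isSquare_two_iff (F := F)).mpr (hq ▸ hm)
      obtain ⟨H, ⟨e⟩⟩ := exists_S4 h2F (w := w) (by rw [pow_two]; exact hw.symm)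
      exact ⟨H, small H 24 4 ((Nat.card_congr e.toEquiv).trans card_S4') (by norm_num) e2 e3⟩

end Cfsg.Agent.S2537
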