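import Cfsg.Statements.S2538
import Cfsg.Agent.KnownSimple58.HallSym.Apply
-- import your own Cfsg.Agent.* helpers here

set_option autoImplicit false
open Cfsg

namespace Cfsg.Agent.S2538

/-- For every `n` and every set of primes `π`, a subgroup of the alternating group of degree `n` is a Hall `π`-subgroup of it if and only if it is the intersection with the alternating group of some Hall `π`-subgroup of the symmetric group of degree `n`. -/
theorem result (n : ℕ) (π : Set ℕ)
    (M : Subgroup ↥(alternatingGroup (Fin n))) :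
    Cfsg.IsPiHall π M ↔ ∃ M₀ : Subgroup (Equiv.Perm (Fin n)), Cfsg.IsPiHall π M₀ ∧ M = M₀.subgroupOf (alternatingGroup (Fin n)) := by
  constructor
  · intro hM
    obtain ⟨H, hH⟩ := HallSym.perm_E_of_alt ⟨M, hM⟩
    obtain ⟨g, hg⟩ := (HallSym.alt_C ⟨M, hM⟩).2 _ M (HallSym.inter_hall hH) hM
    refine ⟨H.map (MulAut.conj (g : Equiv.Perm (Fin n))).toMonoidHom, HallSym.hall_conj _ hH, ?_⟩
    rw [hg]
    ext x
    rw [Subgroup.mem_map_equiv, Subgroup.mem_subgroupOf, Subgroup.mem_subgroupOf, Subgroup.mem_map_equiv]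
    simp
  · rintro ⟨H, hH, rfl⟩
    exact HallSym.inter_hall hH

end Cfsg.Agent.S2538
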