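import Cfsg.Statements.S2540
import Cfsg.Agent.Lib.LinearGroup.Simple

set_option autoImplicit false
open Cfsg

namespace Cfsg.Agent.S2540

theorem commutator_central {S : Type*} [Group S] (k z l w : S) (hz : ∀ x, x * z = z * x) (hw : ∀ x, x * w = w * x) :
    k * z * (l * w) * (k * z)⁻¹ * (l * w)⁻¹ = k * l * k⁻¹ * l⁻¹ := by
  calc k * z * (l * w) * (k * z)⁻¹ * (l * w)⁻¹ = k * (z * (l * w)) * z⁻¹ * k⁻¹ * (w⁻¹ * l⁻¹) := by group
    _ = k * ((l * w) * z) * z⁻¹ * k⁻¹ * (w⁻¹ * l⁻¹) := by rw [hz (l * w)]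
    _ = k * l * (w * k⁻¹) * w⁻¹ * l⁻¹ := by group
    _ = k * l * (k⁻¹ * w) * w⁻¹ * l⁻¹ := by rw [hw k⁻¹]
    _ = k * l * k⁻¹ * l⁻¹ := by group


theorem commute_of_central_commutator {S H : Type*} [Group S] [Group H] (f : S →* H) (g : H)
    (hperf : commutator S = ⊤) (h : ∀ s, f s * g * (f s)⁻¹ * g⁻¹ ∈ Subgroup.center H) (s : S) :
    f s * g = g * f s := by
  let φ : S →* ↥(Subgroup.center H) := MonoidHom.mk' (fun s => ⟨_, h s⟩) fun a b => by
    apply Subtype.ext
    show f (a * b) * g * (f (a * b))⁻¹ * g⁻¹ = (f a * g * (f a)⁻¹ * g⁻¹) * (f b * g * (f b)⁻¹ * g⁻¹)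
    rw [map_mul]
    have hc := Subgroup.mem_center_iff.mp (h b)
    calc f a * f b * g * (f a * f b)⁻¹ * g⁻¹ = f a * (f b * g * (f b)⁻¹ * g⁻¹) * (g * (f a)⁻¹ * g⁻¹) := by group
      _ = (f b * g * (f b)⁻¹ * g⁻¹) * (f a * (g * (f a)⁻¹ * g⁻¹)) := by rw [hc (f a), mul_assoc]
      _ = (f a * (g * (f a)⁻¹ * g⁻¹)) * (f b * g * (f b)⁻¹ * g⁻¹) := (hc _).symm
      _ = (f a * g * (f a)⁻¹ * g⁻¹) * (f b * g * (f b)⁻¹ * g⁻¹) := by group
  have hle : commutator S ≤ φ.ker := by
    rw [commutator_def, Subgroup.commutator_le]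
    intro a _ b _
    rw [MonoidHom.mem_ker, map_commutatorElement, commutatorElement_eq_one_iff_mul_comm]
    exact Subtype.ext (Subgroup.mem_center_iff.mp (φ b).2 _)
  have h1 : s ∈ φ.ker := hle (by rw [hperf]; exact Subgroup.mem_top s)
  have h2 : f s * g * (f s)⁻¹ * g⁻¹ = 1 := congrArg Subtype.val (MonoidHom.mem_ker.mp h1)
  rw [mul_inv_eq_one, mul_inv_eq_iff_eq_mul] at h2
  exact h2




/-- Let F be a finite field and n ≥ 1, excluding the case n = 2 with #F ≤ 3. A subgroup of GL_n(F) that is normalized by every element of SL_n(F) either consists of scalar matrices or contains SL_n(F). -/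
theorem result {F : Type*} [Field F] [Fintype F] (n : ℕ) (hn : 1 ≤ n) (hex : ¬ (n = 2 ∧ Fintype.card F ≤ 3)) (G : Subgroup (Matrix.GeneralLinearGroup (Fin n) F)) (hG : ∀ s : Matrix.SpecialLinearGroup (Fin n) F, ∀ g ∈ G, (Matrix.SpecialLinearGroup.toGL s) * g * (Matrix.SpecialLinearGroup.toGL s)⁻¹ ∈ G) : (∀ g ∈ G, ∃ c : F, (g : Matrix (Fin n) (Fin n) F) = c • (1 : Matrix (Fin n) (Fin n) F)) ∨ (Matrix.SpecialLinearGroup.toGL : Matrix.SpecialLinearGroup (Fin n) F →* _).range ≤ G := by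
  classical
  have hscal : ∀ g : GL (Fin n) F, (∀ i j : Fin n, i ≠ j → ∀ c : F,
      Commute (Matrix.transvection i j c) (g : Matrix (Fin n) (Fin n) F)) →
      ∃ c : F, (g : Matrix (Fin n) (Fin n) F) = c • (1 : Matrix (Fin n) (Fin n) F) := by
    intro g hg
    obtain ⟨c, hc⟩ := Matrix.mem_range_scalar_of_commute_transvectionStruct (M := (g : Matrix (Fin n) (Fin n) F))
      (fun t => hg t.i t.j t.hij t.c)
    exact ⟨c, by rw [← hc, Matrix.smul_one_eq_diagonal]; rfl⟩
  rcases Nat.lt_or_ge n 2 with h1 | h2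
  · left
    intro g _
    refine hscal g fun i j hij _ => absurd (Fin.ext (by omega)) hij
  have hq : Fintype.card (Fin n) = 2 → ∃ a : F, a ≠ 0 ∧ a ^ 2 ≠ 1 := by
    intro h
    rw [Fintype.card_fin] at h
    have h3 : 3 < Fintype.card F := by by_contra hh; exact hex ⟨h, by omega⟩
    by_contra hc
    push Not at hc
    have : (Finset.univ : Finset F) ⊆ {0, 1, -1} := by
      intro a _
      by_cases ha : a = 0
      · simp [ha]
      · rcases sq_eq_one_iff.mp (hc a ha) with h | h <;> simp [h]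
    have := (Finset.card_le_card this).trans Finset.card_le_three
    rw [Finset.card_univ] at this
    omega
  haveI : Nontrivial (Fin n) := Fin.nontrivial_iff_two_le.mpr h2
  set S := Matrix.SpecialLinearGroup (Fin n) F with hS
  let π : S →* Matrix.ProjectiveSpecialLinearGroup (Fin n) F := QuotientGroup.mk' _
  let K : Subgroup S := G.comap Matrix.SpecialLinearGroup.toGL
  have hKn : K.Normal := ⟨fun k hk s => by
    show Matrix.SpecialLinearGroup.toGL (s * k * s⁻¹) ∈ G
    rw [map_mul, map_mul, map_inv]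
    exact hG s _ hk⟩
  have hperf := LinearGroup.commutator_SL_eq_top' hq
  have := LinearGroup.isSimpleGroup_PSL' (F := F) hq
  rcases (hKn.map π (QuotientGroup.mk'_surjective _)).eq_bot_or_eq_top with hb | ht
  · left
    intro g hg
    have hK : ∀ k ∈ K, k ∈ Subgroup.center S := fun k hk => by
      rw [← QuotientGroup.eq_one_iff]
      exact (Subgroup.eq_bot_iff_forall _).mp hb _ (Subgroup.mem_map_of_mem π hk)
    have hgd : ∀ s : S, Matrix.SpecialLinearGroup.toGL s * g * (Matrix.SpecialLinearGroup.toGL s)⁻¹ * g⁻¹ ∈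
        Subgroup.center (GL (Fin n) F) := by
      intro s
      set T := Matrix.SpecialLinearGroup.toGL s
      have hc : T * g * T⁻¹ * g⁻¹ ∈ G := mul_mem (hG s g hg) (inv_mem hg)
      have hdet : ((T * g * T⁻¹ * g⁻¹ : GL (Fin n) F) : Matrix (Fin n) (Fin n) F).det = 1 := by
        rw [← Matrix.GeneralLinearGroup.val_det_apply, map_mul, map_mul, map_mul, map_inv, map_inv, mul_comm (Matrix.GeneralLinearGroup.det T),
          mul_inv_cancel_right, mul_inv_cancel, Units.val_one]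
      let k : S := ⟨_, hdet⟩
      have hk : Matrix.SpecialLinearGroup.toGL k = T * g * T⁻¹ * g⁻¹ := Units.ext rfl
      rw [← hk]
      obtain ⟨c, -, hc'⟩ := Matrix.SpecialLinearGroup.mem_center_iff.mp (hK k (show _ ∈ G from hk ▸ hc))
      rw [Matrix.GeneralLinearGroup.mem_center_iff_val_mem_range_scalar]
      exact ⟨c, hc'⟩
    have hφ := commute_of_central_commutator Matrix.SpecialLinearGroup.toGL g hperf hgd
    refine hscal g fun i j hij c => ?_
    let s : S := ⟨Matrix.transvection i j c, Matrix.det_transvection_of_ne i j hij c⟩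
    exact congrArg Units.val (hφ s)
  · right
    rintro _ ⟨s, rfl⟩
    suffices h : (⊤ : Subgroup S) ≤ K from h (Subgroup.mem_top s)
    rw [← hperf, commutator_def, Subgroup.commutator_le]
    intro a _ b _
    have hsup : ∀ x : S, ∃ k ∈ K, ∃ z ∈ Subgroup.center S, x = k * z := by
      intro x
      obtain ⟨k, hk, hk'⟩ : π x ∈ K.map π := ht ▸ Subgroup.mem_top _
      exact ⟨k, hk, k⁻¹ * x, QuotientGroup.eq.mp hk', (mul_inv_cancel_left k x).symm⟩
    obtain ⟨k, hk, z, hz, rfl⟩ := hsup a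
    obtain ⟨l, hl, w, hw, rfl⟩ := hsup b
    have hz' := Subgroup.mem_center_iff.mp hz
    have hw' := Subgroup.mem_center_iff.mp hw
    have e1 := commutator_central k z l w hz' hw'
    rw [commutatorElement_def, e1]
    exact mul_mem (mul_mem (mul_mem hk hl) (inv_mem hk)) (inv_mem hl)

end Cfsg.Agent.S2540
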