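import Cfsg.Statements.S2541
-- import your own Cfsg.Agent.* helpers here

set_option autoImplicit false
open Cfsg

namespace Cfsg.Agent.S2541

lemma perm_six (σ : Equiv.Perm (Fin 6)) : orderOf σ ∣ 60 := by
  rw [← Equiv.Perm.lcm_cycleType, Multiset.lcm_dvd]
  intro a ha
  have h1 := Equiv.Perm.two_le_of_mem_cycleType ha
  have h2 : a ≤ 6 := (Equiv.Perm.le_card_support_of_mem_cycleType ha).trans
    ((Finset.card_le_univ _).trans (by simp))
  interval_cases a <;> decide


/-- Let F be a field with 9 elements. The symmetric group S_6 is not isomorphic to PGL_2(F) (although both have index-2 subgroups isomorphic to A_6). -/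
theorem result {F : Type*} [Field F] [Fintype F] (hF : Fintype.card F = 9) : ¬ Nonempty (Equiv.Perm (Fin 6) ≃* Matrix.ProjGenLinGroup (Fin 2) F) := by
  rintro ⟨e⟩
  classical
  obtain ⟨ζ, hζ⟩ := IsCyclic.exists_generator (α := Fˣ)
  have hord : orderOf ζ = 8 := by
    rw [orderOf_eq_card_of_forall_mem_zpowers hζ, Nat.card_eq_fintype_card, Fintype.card_units, hF]
  let d : Fˣ →* GL (Fin 2) F :=
    { toFun := fun u => Matrix.GeneralLinearGroup.mkOfDetNeZero (Matrix.diagonal ![(u:F), 1])
        (by simp [Matrix.det_diagonal, Fin.prod_univ_two])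
      map_one' := by ext i j; fin_cases i <;> fin_cases j <;> simp [Matrix.GeneralLinearGroup.mkOfDetNeZero, Matrix.diagonal]
      map_mul' := by
        intro u v
        ext i j
        fin_cases i <;> fin_cases j <;> simp [Matrix.GeneralLinearGroup.mkOfDetNeZero, Matrix.diagonal, Matrix.mul_apply, Fin.sum_univ_two] }
  have hinj : Function.Injective (Matrix.ProjGenLinGroup.mk.comp d) := by
    rw [injective_iff_map_eq_one]
    intro u hu
    rw [MonoidHom.comp_apply, Matrix.ProjGenLinGroup.mk_eq_one,
      Matrix.GeneralLinearGroup.mem_center_iff_val_eq_scalar] at hu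
    obtain ⟨a, ha⟩ := hu
    have h0 := congrFun (congrFun ha 0) 0
    have h1 := congrFun (congrFun ha 1) 1
    simp [d, Matrix.GeneralLinearGroup.mkOfDetNeZero] at h0 h1
    exact Units.ext (by rw [Units.val_one, ← h1, h0])
  have := perm_six (e.symm (Matrix.ProjGenLinGroup.mk (d ζ)))
  rw [MulEquiv.orderOf_eq] at this
  rw [show Matrix.ProjGenLinGroup.mk (d ζ) = (Matrix.ProjGenLinGroup.mk.comp d) ζ from rfl, orderOf_injective _ hinj, hord] at this
  norm_num at this

end Cfsg.Agent.S2541
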