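import Cfsg.Statements.S2550
import Cfsg.Agent.KnownSimple58.LinearSpectrum
import Cfsg.Agent.Lib.LinearGroup.Card

set_option autoImplicit false
open Cfsg

namespace Cfsg.Agent.S2550

open Polynomial

theorem no_order_fifteen {K : Type*} [Field K] [Fintype K] (hK : Fintype.card K = 4)
    (g : Matrix.ProjectiveSpecialLinearGroup (Fin 3) K) : orderOf g ≠ 15 := by
  classical
  intro ho
  obtain ⟨s, rfl⟩ := QuotientGroup.mk_surjective g
  haveI : CharP K 2 := charP_of_card_eq_prime_pow (p := 2) (f := 2) hK
  haveI : Fact (Nat.Prime 2) := ⟨Nat.prime_two⟩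
  have hzero : ∀ x : K, x ≠ 0 → x ^ 3 = 1 := fun x hx => by
    have := FiniteField.pow_card_sub_one_eq_one x hx; rwa [hK] at this
  -- the minimal polynomial decides the exponent
  have key : (s ^ 12 ∈ Subgroup.center _) ∨ (s ^ 21 ∈ Subgroup.center _) ∨ (s ^ 5 ∈ Subgroup.center (Matrix.SpecialLinearGroup (Fin 3) K)) := by
    set A := (s : Matrix (Fin 3) (Fin 3) K) with hA
    have hdeg : A.charpoly.natDegree = 3 := by rw [Matrix.charpoly_natDegree_eq_dim, Fintype.card_fin]
    have hG : ¬ X ∣ A.charpoly := by
      have := KS58.X_not_dvd_charpoly (Matrix.SpecialLinearGroup.toGL s)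
      exact this
    by_cases hirr : Irreducible A.charpoly
    · right; left
      have hdvd := KS58.irreducible_dvd_X_pow_card_sub_one hirr
        (fun h => hG ((irreducible_X.associated_of_dvd hirr ((hirr.associated_of_dvd irreducible_X h).symm.dvd)).dvd))
      have := KS58.aeval_eq_zero_of_dvd hdvd (Matrix.aeval_self_charpoly A)
      rw [hdeg, hK, map_sub, map_pow, aeval_X, map_one, sub_eq_zero] at this
      have h63 : s ^ 63 = 1 := Subtype.ext (by rw [Matrix.SpecialLinearGroup.coe_pow]; exact this)
      -- `s ^ 21` is annihilated by `X ^ 3 - 1`, which splits over `K`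
      exact KS58.pow_mem_center_of_irreducible (n := 3) s hirr (by norm_num) (Matrix.aeval_self_charpoly A) |>
        fun h => by
          have e : KS58.mN 3 K / KS58.zN 3 K = 7 := by
            simp only [KS58.mN, KS58.zN, hK, Finset.sum_range_succ, Finset.sum_range_zero]; decide
          rw [e] at h
          have := Subgroup.pow_mem _ h 3
          rwa [← pow_mul] at this
    · -- a root exists
      obtain ⟨c, hc⟩ : ∃ c, A.charpoly.IsRoot c := by
        by_contra h
        push Not at h
        exact hirr ((Polynomial.irreducible_iff_roots_eq_zero_of_degree_le_three (by omega) (by omega)).mpr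
          (Multiset.eq_zero_of_forall_notMem fun x hx => h x (isRoot_of_mem_roots hx)))
      obtain ⟨Q, hQ⟩ := dvd_iff_isRoot.mpr hc
      have hQ0 : Q ≠ 0 := by rintro rfl; exact (Matrix.charpoly_monic A).ne_zero (by rw [hQ, mul_zero])
      have hQm : Q.Monic := (monic_X_sub_C c).of_mul_monic_left (hQ ▸ Matrix.charpoly_monic A)
      have hQdeg : Q.natDegree = 2 := by
        have := congrArg natDegree hQ
        rw [hdeg, natDegree_mul (X_sub_C_ne_zero c) hQ0, natDegree_X_sub_C] at this
        omega
      have hc0 : c ≠ 0 := by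
        rintro rfl
        exact hG ⟨Q, by rw [hQ, C_0, sub_zero]⟩
      have hQX : ¬ X ∣ Q := fun h => hG (hQ ▸ h.mul_left _)
      by_cases hQirr : Irreducible Q
      · right; right
        haveI := Fact.mk hQirr
        have hfin : Module.Finite K (AdjoinRoot Q) := (AdjoinRoot.powerBasis hQ0).finite
        haveI : Finite (AdjoinRoot Q) := Module.finite_of_finite K
        set α := AdjoinRoot.root Q
        have hnorm : α ^ 5 = algebraMap K (AdjoinRoot Q) (Q.coeff 0) := by
          have h1 := FiniteField.algebraMap_norm_eq_pow_sum K (AdjoinRoot Q) (x := α)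
          rw [(AdjoinRoot.powerBasis hQ0).finrank, AdjoinRoot.powerBasis_dim, hQdeg, Nat.card_eq_fintype_card, hK,
            show ∑ i ∈ Finset.range 2, 4 ^ i = 5 from rfl] at h1
          rw [← h1]
          congr 1
          have h2 := Algebra.PowerBasis.norm_gen_eq_coeff_zero_minpoly (AdjoinRoot.powerBasis hQ0)
          rw [AdjoinRoot.minpoly_powerBasis_gen_of_monic hQm hQ0, AdjoinRoot.powerBasis_dim, hQdeg] at h2
          rw [show α = (AdjoinRoot.powerBasis hQ0).gen from rfl, h2]
          ring
        have hdet : c * Q.coeff 0 = 1 := by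
          have h1 := Matrix.det_eq_sign_charpoly_coeff A
          rw [hA, s.2, ← hA, Fintype.card_fin, hQ, mul_coeff_zero, coeff_sub, coeff_X_zero, coeff_C_zero] at h1
          rw [h1]; ring
        set d := Q.coeff 0 with hd
        have hd0 : d ≠ 0 := right_ne_zero_of_mul_eq_one hdet
        have hdc : d = c ^ 5 := by
          have h1 : c * c ^ 5 = 1 := by
            rw [← pow_succ', show (5 + 1) = 3 * 2 by rfl, pow_mul, hzero c hc0, one_pow]
          exact mul_left_cancel₀ hc0 (hdet.trans h1.symm)
        have hcop : IsCoprime Q (X - C c) :=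
          hQirr.coprime_iff_not_dvd.mpr (fun h => by
            have := natDegree_le_of_dvd h (X_sub_C_ne_zero c)
            rw [hQdeg, natDegree_X_sub_C] at this; omega)
        have h5 : A.charpoly ∣ X ^ 5 - C d := by
          rw [hQ]
          refine hcop.symm.mul_dvd ?_ ?_
          · rw [dvd_iff_isRoot, IsRoot, eval_sub, eval_pow, eval_X, eval_C, ← hdc, sub_self]
          · rw [← AdjoinRoot.mk_eq_zero, map_sub, map_pow, AdjoinRoot.mk_X, AdjoinRoot.mk_C, hnorm, sub_eq_zero]
            rfl
        have := KS58.aeval_eq_zero_of_dvd h5 (Matrix.aeval_self_charpoly A)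
        rw [map_sub, map_pow, aeval_X, aeval_C, sub_eq_zero] at this
        rw [Matrix.SpecialLinearGroup.mem_center_iff]
        refine ⟨d, by rw [Fintype.card_fin]; exact hzero d hd0, ?_⟩
        rw [Matrix.SpecialLinearGroup.coe_pow, ← hA, this]
        rfl
      · left
        have hsplit : ∀ q : K[X], Irreducible q → q ∣ A.charpoly → q ∣ X ^ 3 - 1 := by
          intro q hq hqd
          have h1 : q.natDegree = 1 := by
            rw [hQ] at hqd
            rcases hq.prime.dvd_or_dvd hqd with h | h
            · have := natDegree_le_of_dvd h (X_sub_C_ne_zero c)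
              rw [natDegree_X_sub_C] at this
              have := hq.natDegree_pos
              omega
            · have h2 := natDegree_le_of_dvd h hQ0
              have := hq.natDegree_pos
              by_contra h3
              exact hQirr ((associated_of_dvd_of_natDegree_le h hQ0 (by omega)).irreducible hq)
          have := KS58.irreducible_dvd_X_pow_card_sub_one hq (fun h => hG
            ((hq.associated_of_dvd irreducible_X h).symm.dvd.trans hqd))
          rwa [h1, hK] at this
        have hd12 : A.charpoly ∣ (X ^ 3 - 1) ^ 4 := by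
          refine (dvd_pow_natDegree_of_irreducible A.charpoly (Matrix.charpoly_monic A).ne_zero _ hsplit).trans ?_
          rw [hdeg]; exact pow_dvd_pow _ (by norm_num)
        have := KS58.aeval_eq_zero_of_dvd hd12 (Matrix.aeval_self_charpoly A)
        rw [show (4 : ℕ) = 2 ^ 2 from rfl, sub_pow_char_pow, one_pow, ← pow_mul, map_sub, map_pow, aeval_X, map_one,
          sub_eq_zero] at this
        have h12 : s ^ 12 = 1 := Subtype.ext (by rw [Matrix.SpecialLinearGroup.coe_pow]; exact this)
        rw [h12]; exact one_mem _
  rcases key with h | h | h <;>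
  · rw [← QuotientGroup.eq_one_iff, QuotientGroup.mk_pow] at h
    have := orderOf_dvd_of_pow_eq_one h
    rw [show orderOf ((QuotientGroup.mk s : Matrix.ProjectiveSpecialLinearGroup (Fin 3) K)) = 15 from ho] at this
    norm_num at this
where
  dvd_pow_natDegree_of_irreducible {K : Type _} [Field K] (f : K[X]) (hf : f ≠ 0) (P : K[X])
      (h : ∀ q : K[X], Irreducible q → q ∣ f → q ∣ P) : f ∣ P ^ f.natDegree := by
    induction f using WfDvdMonoid.induction_on_irreducible with
    | zero => exact absurd rfl hf
    | unit u hu => exact hu.dvd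
    | mul a q ha hq ih =>
      rw [natDegree_mul hq.ne_zero ha]
      refine (mul_dvd_mul (h q hq (dvd_mul_right q a)) (ih ha fun r hr hra => h r hr (hra.mul_left q))).trans ?_
      rw [← pow_succ']
      exact pow_dvd_pow _ (by have := hq.natDegree_pos; omega)


/-- Let F be a field with 2 elements and K a field with 4 elements. PSL_4(F) and PSL_3(K) have the same order (20160) but are not isomorphic. -/
theorem result {F K : Type*} [Field F] [Fintype F] [Field K] [Fintype K] (hF : Fintype.card F = 2) (hK : Fintype.card K = 4) : Nat.card (Matrix.ProjectiveSpecialLinearGroup (Fin 4) F) = Nat.card (Matrix.ProjectiveSpecialLinearGroup (Fin 3) K) ∧ ¬ Nonempty (Matrix.ProjectiveSpecialLinearGroup (Fin 4) F ≃* Matrix.ProjectiveSpecialLinearGroup (Fin 3) K) := by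
  classical
  refine ⟨?_, ?_⟩
  · have h1 := LinearGroup.gcd_mul_card_PSL (F := F) (n := Fin 4)
    have h2 := LinearGroup.gcd_mul_card_PSL (F := K) (n := Fin 3)
    have h3 := LinearGroup.card_SL_eq_pow_mul_prod (F := F) 3
    have h4 := LinearGroup.card_SL_eq_pow_mul_prod (F := K) 2
    rw [Nat.card_eq_fintype_card (α := F), hF] at h1 h3
    rw [Nat.card_eq_fintype_card (α := K), hK] at h2 h4
    rw [show (∑ i : Fin (3 + 1), (i : ℕ)) = 6 from by decide] at h3
    rw [show (∑ i : Fin (2 + 1), (i : ℕ)) = 3 from by decide] at h4
    simp only [Nat.reduceAdd, Fintype.card_fin] at h1 h2 h3 h4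
    norm_num [Finset.prod_range_succ] at h1 h2 h3 h4
    rw [h3] at h1; rw [h4] at h2
    simp only [Nat.card_eq_fintype_card]
    omega
  · rintro ⟨e⟩
    obtain ⟨g, hg⟩ := KS58.exists_gl_order_card_pow_sub_one (F := F) (n := 4) (d := 4) (by norm_num) le_rfl
    rw [hF] at hg
    have hu : ∀ u : Fˣ, u = 1 := fun u => by
      have : Subsingleton Fˣ := Fintype.card_le_one_iff_subsingleton.mp (by rw [Fintype.card_units, hF])
      exact Subsingleton.elim _ _
    have hdet : (g : Matrix (Fin 4) (Fin 4) F).det = 1 := by
      rw [← Matrix.GeneralLinearGroup.val_det_apply, hu (Matrix.GeneralLinearGroup.det g), Units.val_one]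
    let s : Matrix.SpecialLinearGroup (Fin 4) F := ⟨_, hdet⟩
    have hs : orderOf s = 15 := by
      rw [← orderOf_injective Matrix.SpecialLinearGroup.toGL Matrix.SpecialLinearGroup.toGL_injective s,
        show Matrix.SpecialLinearGroup.toGL s = g from Units.ext rfl, hg]
      norm_num
    have hinj : Function.Injective (KS58.toPSL 4 F) := by
      rw [injective_iff_map_eq_one]
      intro x hx
      obtain ⟨r, hr, hrx⟩ := Matrix.SpecialLinearGroup.mem_center_iff.mp ((QuotientGroup.eq_one_iff x).mp hx)
      have hr0 : r ≠ 0 := by rintro rfl; simp at hr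
      have : r = 1 := congrArg Units.val (hu (Units.mk0 r hr0))
      exact Subtype.ext (by rw [← hrx, this, map_one]; rfl)
    refine no_order_fifteen hK (e (KS58.toPSL 4 F s)) ?_
    rw [MulEquiv.orderOf_eq, orderOf_injective _ hinj, hs]

end Cfsg.Agent.S2550
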