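import Cfsg.Statements.S2551
import Cfsg.Agent.Lib.LinearGroup.PSL42

set_option autoImplicit false
open Cfsg

namespace Cfsg.Agent.S2551

open Matrix in
/-- a subgroup of order `2520` of `GL₄(2)` is transitive on ordered pairs of distinct non-zero vectors -/
theorem two_trans {F : Type*} [Field F] [Fintype F] (hF : Fintype.card F = 2)
    (H : Subgroup (GL (Fin 4) F)) (hH : Nat.card H = 2520) (v w v' w' : Fin 4 → F)
    (hv : v ≠ 0) (hw : w ≠ 0) (hvw : v ≠ w) (hv' : v' ≠ 0) (hw' : w' ≠ 0) (hvw' : v' ≠ w') :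
    ∃ g ∈ H, (g : Matrix (Fin 4) (Fin 4) F).mulVec v = v' ∧ (g : Matrix (Fin 4) (Fin 4) F).mulVec w = w' := by
  classical
  letI act : MulAction (GL (Fin 4) F) (Fin 4 → F) :=
    { smul := fun g x => (g : Matrix (Fin 4) (Fin 4) F).mulVec x
      one_smul := fun x => by
        show ((1 : GL (Fin 4) F) : Matrix (Fin 4) (Fin 4) F).mulVec x = x
        rw [Units.val_one, Matrix.one_mulVec]
      mul_smul := fun g h x => by
        show ((g * h : GL (Fin 4) F) : Matrix (Fin 4) (Fin 4) F).mulVec x =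
          (g : Matrix (Fin 4) (Fin 4) F).mulVec ((h : Matrix (Fin 4) (Fin 4) F).mulVec x)
        rw [Units.val_mul, Matrix.mulVec_mulVec] }
  have hsm : ∀ (g : GL (Fin 4) F) (x : Fin 4 → F), g • x = (g : Matrix (Fin 4) (Fin 4) F).mulVec x := fun _ _ => rfl
  let P : Finset ((Fin 4 → F) × (Fin 4 → F)) := ((Finset.univ : Finset (Fin 4 → F)).erase 0).offDiag
  have hP : P.card = 210 := by
    simp only [P, Finset.offDiag_card, Finset.card_erase_of_mem (Finset.mem_univ _), Finset.card_univ,
      Fintype.card_fun, hF, Fintype.card_fin]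
    norm_num
  have hmem : ∀ p : (Fin 4 → F) × (Fin 4 → F), p ∈ P ↔ p.1 ≠ 0 ∧ p.2 ≠ 0 ∧ p.1 ≠ p.2 := fun p => by
    simp [P]
  have hinv : ∀ (g : GL (Fin 4) F), ∀ p ∈ P, g • p ∈ P := by
    intro g p hp
    rw [hmem] at hp ⊢
    have hinj := MulAction.injective (α := GL (Fin 4) F) (β := Fin 4 → F) g
    have h0 : g • (0 : Fin 4 → F) = 0 := by rw [hsm, Matrix.mulVec_zero]
    refine ⟨fun h => hp.1 (hinj ?_), fun h => hp.2.1 (hinj ?_), fun h => hp.2.2 (hinj h)⟩
    · exact h.trans h0.symm
    · exact h.trans h0.symm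
  have htrans : ∀ p ∈ P, ∀ q ∈ P, ∃ g : GL (Fin 4) F, g • p = q := by
    have h01 : ∀ c : F, c = 0 ∨ c = 1 := fun c => by
      by_contra hc
      push Not at hc
      have := Finset.card_le_univ ({0, 1, c} : Finset F)
      rw [Finset.card_insert_of_notMem (by simp [Ne.symm hc.1]),
        Finset.card_insert_of_notMem (by simp [Ne.symm hc.2]), Finset.card_singleton, hF] at this
      omega
    have hli : ∀ p ∈ P, LinearIndependent F ![p.1, p.2] := by
      intro p hp
      rw [hmem] at hp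
      rw [LinearIndependent.pair_iff]
      intro s t hst
      rcases h01 s with rfl | rfl <;> rcases h01 t with rfl | rfl
      · exact ⟨rfl, rfl⟩
      · simp [hp.2.1] at hst
      · simp [hp.1] at hst
      · haveI : CharP F 2 := charP_of_card_eq_prime hF
        rw [one_smul, one_smul, add_eq_zero_iff_eq_neg] at hst
        exact absurd (hst.trans (funext fun i => CharTwo.neg_eq _)) hp.2.2
    intro p hp q hq
    let b := Module.Basis.sumExtend (hli p hp)
    let b' := Module.Basis.sumExtend (hli q hq)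
    haveI := Module.Finite.finite_basis b
    haveI := Module.Finite.finite_basis b'
    haveI : Fintype (Module.Basis.sumExtendIndex (hli p hp)) :=
      @Fintype.ofFinite _ (Finite.of_injective (Sum.inr : _ → Fin 2 ⊕ _) Sum.inr_injective)
    haveI : Fintype (Module.Basis.sumExtendIndex (hli q hq)) :=
      @Fintype.ofFinite _ (Finite.of_injective (Sum.inr : _ → Fin 2 ⊕ _) Sum.inr_injective)
    have h1 := Module.finrank_eq_card_basis b
    have h2 := Module.finrank_eq_card_basis b'
    rw [h1, Fintype.card_sum, Fintype.card_sum] at h2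
    let e := Fintype.equivOfCardEq (α := Module.Basis.sumExtendIndex (hli p hp))
      (β := Module.Basis.sumExtendIndex (hli q hq)) (by omega)
    let L := b.equiv b' (Equiv.sumCongr (Equiv.refl (Fin 2)) e)
    refine ⟨Matrix.GeneralLinearGroup.toLin.symm (LinearMap.GeneralLinearGroup.ofLinearEquiv L), ?_⟩
    have hL : ∀ x, (Matrix.GeneralLinearGroup.toLin.symm (LinearMap.GeneralLinearGroup.ofLinearEquiv L)) • x = L x := by
      intro x
      show (LinearMap.toMatrix' (L : (Fin 4 → F) →ₗ[F] (Fin 4 → F))).mulVec x = L x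
      rw [LinearMap.toMatrix'_mulVec]
      rfl
    have hb : ∀ i, b (Sum.inl i) = ![p.1, p.2] i := fun i => by simp [b, Module.Basis.sumExtend] <;> rfl
    have hb' : ∀ i, b' (Sum.inl i) = ![q.1, q.2] i := fun i => by simp [b', Module.Basis.sumExtend] <;> rfl
    refine Prod.ext ?_ ?_
    · refine (hL p.1).trans ?_
      rw [show p.1 = b (Sum.inl 0) from (hb 0).symm, Module.Basis.equiv_apply]
      exact hb' 0
    · refine (hL p.2).trans ?_
      rw [show p.2 = b (Sum.inl 1) from (hb 1).symm, Module.Basis.equiv_apply]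
      exact hb' 1
  have horb : ∀ p ∈ P, MulAction.orbit (GL (Fin 4) F) p = (P : Set _) := by
    intro p hp
    ext q
    exact ⟨fun ⟨g, hg⟩ => hg ▸ hinv g p hp, fun hq => htrans p hp q hq⟩
  have hG : Nat.card (GL (Fin 4) F) = 20160 := by
    rw [Matrix.card_GL_field, hF]
    simp [Fin.prod_univ_succ]
  have hstab : ∀ p ∈ P, Nat.card (MulAction.stabilizer (GL (Fin 4) F) p) = 96 := by
    intro p hp
    have h := (MulAction.stabilizer (GL (Fin 4) F) p).card_mul_index
    rw [MulAction.index_stabilizer, horb p hp, Set.ncard_coe_finset, hP, hG] at h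
    omega
  have hHorb : ∀ p ∈ P, MulAction.orbit H p ⊆ (P : Set _) := fun p hp q hq => by
    obtain ⟨g, rfl⟩ := hq
    exact hinv g.1 p hp
  have h105 : ∀ p ∈ P, 105 ∣ (MulAction.orbit H p).ncard := by
    intro p hp
    have h := (MulAction.stabilizer H p).card_mul_index
    rw [MulAction.index_stabilizer, hH] at h
    have hd : Nat.card (MulAction.stabilizer H p) ∣ 96 := by
      rw [← hstab p hp, ← Subgroup.card_map_of_injective (K := MulAction.stabilizer H p) H.subtype_injective]
      refine Subgroup.card_dvd_of_le ?_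
      rintro _ ⟨g, hg, rfl⟩
      exact hg
    have hd2 : Nat.card (MulAction.stabilizer H p) ∣ 24 := by
      have := Nat.dvd_gcd hd (Dvd.intro _ h)
      rwa [show Nat.gcd 96 2520 = 24 from rfl] at this
    obtain ⟨k, hk⟩ := hd2
    refine ⟨k, ?_⟩
    have hpos : 0 < Nat.card (MulAction.stabilizer H p) := Nat.card_pos
    refine Nat.eq_of_mul_eq_mul_left hpos ?_
    rw [h, mul_left_comm, ← hk]; norm_num
  obtain ⟨t, ht⟩ := exists_prime_orderOf_dvd_card' (G := H) 2 (hH ▸ by norm_num)
  have ht2 : t * t = 1 := by rw [← pow_two, ← ht, pow_orderOf_eq_one]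
  obtain ⟨u, hu⟩ : ∃ u : Fin 4 → F, t • u ≠ u := by
    by_contra hall
    push Not at hall
    have : (t : GL (Fin 4) F) = 1 := Units.ext (Matrix.ext_of_mulVec_single fun i => by
      rw [Units.val_one, Matrix.one_mulVec]; exact hall _)
    rw [show t = 1 from Subtype.ext this, orderOf_one] at ht
    omega
  have hu0 : u ≠ 0 := fun h => hu (by rw [h]; exact Matrix.mulVec_zero _)
  have hq0 : ((u, t • u) : (Fin 4 → F) × (Fin 4 → F)) ∈ P := by
    rw [hmem]
    refine ⟨hu0, fun h => hu0 (MulAction.injective t ?_), Ne.symm hu⟩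
    exact h.trans (Matrix.mulVec_zero _).symm
  let O := (MulAction.orbit H ((u, t • u) : (Fin 4 → F) × (Fin 4 → F))).toFinset
  have hswap : ∀ x ∈ O, x.swap ∈ O := by
    intro x hx
    rw [Set.mem_toFinset] at hx ⊢
    obtain ⟨g, rfl⟩ := hx
    refine ⟨g * t, Prod.ext ?_ ?_⟩
    · exact mul_smul g t u
    · show (g * t) • t • u = g • u
      rw [← mul_smul, mul_assoc, ht2, mul_one]
  have hne : ∀ x ∈ O, x.swap ≠ x := by
    intro x hx h
    have := (hmem x).mp (hHorb _ hq0 (Set.mem_toFinset.mp hx))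
    exact this.2.2 (congrArg Prod.snd h)
  have heven : ((O.card : ℕ) : ZMod 2) = 0 := by
    rw [← mul_one ((O.card : ℕ) : ZMod 2), ← nsmul_eq_mul, ← Finset.sum_const]
    exact Finset.sum_involution (fun x _ => x.swap) (fun x _ => by decide) (fun x hx _ => hne x hx) hswap
      (fun x _ => Prod.swap_swap x)
  rw [ZMod.natCast_eq_zero_iff] at heven
  have hOc : O.card = (MulAction.orbit H ((u, t • u) : (Fin 4 → F) × (Fin 4 → F))).ncard := by
    rw [Set.ncard_eq_toFinset_card']
  have hsub : O ⊆ P := fun x hx => Finset.mem_coe.mp (hHorb _ hq0 (Set.mem_toFinset.mp hx))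
  have hle := Finset.card_le_card hsub
  rw [hP] at hle
  have h105' := h105 _ hq0
  rw [← hOc] at h105'
  have hpos : 0 < O.card := Finset.card_pos.mpr ⟨_, Set.mem_toFinset.mpr (MulAction.mem_orbit_self _)⟩
  have hOP : O = P := Finset.eq_of_subset_of_card_le hsub (by omega)
  have hvp : ((v, w) : (Fin 4 → F) × (Fin 4 → F)) ∈ O := hOP ▸ (hmem _).mpr ⟨hv, hw, hvw⟩
  have hvp' : ((v', w') : (Fin 4 → F) × (Fin 4 → F)) ∈ O := hOP ▸ (hmem _).mpr ⟨hv', hw', hvw'⟩
  rw [Set.mem_toFinset] at hvp hvp'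
  obtain ⟨g, hg⟩ := hvp
  obtain ⟨g', hg'⟩ := hvp'
  have hfin : (g' * g⁻¹) • ((v, w) : (Fin 4 → F) × (Fin 4 → F)) = (v', w') := by
    rw [← hg, ← hg']
    show (g' * g⁻¹) • g • _ = g' • _
    rw [← mul_smul, inv_mul_cancel_right]
  exact ⟨_, (g' * g⁻¹).2, congrArg Prod.fst hfin, congrArg Prod.snd hfin⟩

/-- Let F be the field with 2 elements. GL_4(F) (≅ A_8) has a subgroup isomorphic to the alternating group A_7, and every such subgroup acts 2-transitively on the 15 non-zero vectors of F⁴: any ordered pair of distinct non-zero vectors is carried to any other by some element of the subgroup. -/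
theorem result {F : Type*} [Field F] [Fintype F] (hF : Fintype.card F = 2) : (∃ H : Subgroup (Matrix.GeneralLinearGroup (Fin 4) F), Nonempty (H ≃* alternatingGroup (Fin 7))) ∧ ∀ H : Subgroup (Matrix.GeneralLinearGroup (Fin 4) F), Nonempty (H ≃* alternatingGroup (Fin 7)) → ∀ v w v' w' : Fin 4 → F, v ≠ 0 → w ≠ 0 → v ≠ w → v' ≠ 0 → w' ≠ 0 → v' ≠ w' → ∃ g ∈ H, (g : Matrix (Fin 4) (Fin 4) F).mulVec v = v' ∧ (g : Matrix (Fin 4) (Fin 4) F).mulVec w = w' := by
  classical
  refine ⟨?_, fun H ⟨e⟩ => two_trans hF H (by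
    rw [Nat.card_congr e.toEquiv, nat_card_alternatingGroup, Nat.card_fin]; rfl)⟩
  haveI : Fact (Nat.Prime 2) := ⟨Nat.prime_two⟩
  haveI : CharP F 2 := charP_of_card_eq_prime hF
  let σ : ZMod 2 ≃+* F := ZMod.ringEquiv F hF
  obtain ⟨ε⟩ := Cfsg.Agent.LinearGroup.PSL42.equiv
  let toGL : Matrix.SpecialLinearGroup (Fin 4) (ZMod 2) →* GL (Fin 4) F :=
    (Matrix.GeneralLinearGroup.map σ.toRingHom).comp Matrix.SpecialLinearGroup.toGL
  have htoGL : Function.Injective toGL := fun a b h => by
    refine Subtype.ext (Matrix.ext fun i j => σ.injective ?_)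
    exact congrArg (fun g : GL (Fin 4) F => (g : Matrix (Fin 4) (Fin 4) F) i j) h
  let up : alternatingGroup (Fin 7) →* alternatingGroup (Fin 8) :=
    ((Equiv.Perm.viaEmbeddingHom Fin.castSuccEmb).comp (alternatingGroup (Fin 7)).subtype).codRestrict _ fun x => by
      rw [Equiv.Perm.mem_alternatingGroup]
      refine Eq.trans ?_ x.2
      show Equiv.Perm.sign (Equiv.Perm.viaEmbedding (x : Equiv.Perm (Fin 7)) Fin.castSuccEmb) = _
      unfold Equiv.Perm.viaEmbedding
      convert Equiv.Perm.sign_extendDomain (x : Equiv.Perm (Fin 7)) (Equiv.ofInjective Fin.castSuccEmb.1 Fin.castSuccEmb.2) <;> rfl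
  have hup : Function.Injective up := fun a b h =>
    Subtype.ext (Equiv.Perm.viaEmbeddingHom_injective Fin.castSuccEmb (congrArg Subtype.val h))
  let φ := toGL.comp (ε.symm.toMonoidHom.comp up)
  have hφ : Function.Injective φ := htoGL.comp (ε.symm.injective.comp hup)
  exact ⟨φ.range, ⟨(MonoidHom.ofInjective hφ).symm⟩⟩

end Cfsg.Agent.S2551
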