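import Cfsg.Statements.S2552
-- import your own Cfsg.Agent.* helpers here

set_option autoImplicit false
open Cfsg

namespace Cfsg.Agent.S2552

lemma exists_equiv_det {F V : Type*} [Field F] [AddCommGroup V] [Module F V] [FiniteDimensional F V]
    [Nontrivial V] (d : Fˣ) : ∃ e : V ≃ₗ[F] V, LinearEquiv.det e = d := by
  classical
  let b := Module.finBasis F V
  have : Nonempty (Fin (Module.finrank F V)) := ⟨⟨0, Module.finrank_pos⟩⟩
  obtain ⟨A, hA⟩ := Matrix.GeneralLinearGroup.det_surjective (n := Fin (Module.finrank F V)) d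
  let l := Matrix.GeneralLinearGroup.toLin A
  refine ⟨(b.equivFun.trans (LinearMap.GeneralLinearGroup.generalLinearEquiv F _ l)).trans b.equivFun.symm, Units.ext ?_⟩
  rw [LinearEquiv.coe_det, LinearEquiv.coe_trans, LinearEquiv.coe_trans, ← LinearMap.comp_assoc]
  have := LinearMap.det_conj (LinearMap.GeneralLinearGroup.generalLinearEquiv F _ l).toLinearMap b.equivFun.symm
  simp only [LinearEquiv.symm_symm] at this
  rw [LinearMap.comp_assoc]
  rw [this, ← hA]
  simp [l, ← Matrix.toLin'_apply']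


/-- Let F be a finite field and n ≥ 1. For every k, the special linear group SL_n(F) acts transitively on the set of k-dimensional subspaces of F^n: any two subspaces of the same dimension are carried onto each other by some matrix of determinant 1. -/
theorem result {F : Type*} [Field F] [Fintype F] (n : ℕ) (hn : 1 ≤ n) (U₁ U₂ : Submodule F (Fin n → F)) (h : Module.finrank F U₁ = Module.finrank F U₂) : ∃ g : Matrix.SpecialLinearGroup (Fin n) F, U₁.map ((Matrix.SpecialLinearGroup.toLin' g : (Fin n → F) ≃ₗ[F] (Fin n → F)) : (Fin n → F) →ₗ[F] (Fin n → F)) = U₂ := by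
  classical
  obtain ⟨W1, hW1⟩ := Submodule.exists_isCompl U₁
  obtain ⟨W2, hW2⟩ := Submodule.exists_isCompl U₂
  have e1 := Submodule.finrank_add_eq_of_isCompl hW1
  have e2 := Submodule.finrank_add_eq_of_isCompl hW2
  rw [Module.finrank_fin_fun] at e1 e2
  let eU : ↥U₁ ≃ₗ[F] ↥U₂ := LinearEquiv.ofFinrankEq _ _ h
  let eW : ↥W1 ≃ₗ[F] ↥W2 := LinearEquiv.ofFinrankEq _ _ (by omega)
  let g0 : (Fin n → F) ≃ₗ[F] (Fin n → F) :=
    ((Submodule.prodEquivOfIsCompl U₁ W1 hW1).symm.trans (eU.prodCongr eW)).trans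
      (Submodule.prodEquivOfIsCompl U₂ W2 hW2)
  have hg0 : ∀ u : U₁, g0 (u : Fin n → F) = (eU u : Fin n → F) := by
    intro u
    simp [g0, Submodule.prodEquivOfIsCompl_symm_apply_left]
  obtain ⟨fU, fW, hf⟩ : ∃ (fU : ↥U₂ ≃ₗ[F] ↥U₂) (fW : ↥W2 ≃ₗ[F] ↥W2),
      LinearMap.det fU.toLinearMap * LinearMap.det fW.toLinearMap = ((LinearEquiv.det g0)⁻¹ : Fˣ) := by
    rcases Nat.eq_zero_or_pos (Module.finrank F U₂) with h0 | h0
    · have : Nontrivial ↥W2 := Module.finrank_pos_iff.mp (by omega : 0 < Module.finrank F ↥W2)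
      obtain ⟨e, he⟩ := exists_equiv_det (V := ↥W2) (LinearEquiv.det g0)⁻¹
      refine ⟨LinearEquiv.refl _ _, e, ?_⟩
      rw [← LinearEquiv.coe_det, ← LinearEquiv.coe_det, he, LinearEquiv.det_refl, Units.val_one, one_mul]
    · have : Nontrivial ↥U₂ := Module.finrank_pos_iff.mp h0
      obtain ⟨e, he⟩ := exists_equiv_det (V := ↥U₂) (LinearEquiv.det g0)⁻¹
      refine ⟨e, LinearEquiv.refl _ _, ?_⟩
      rw [← LinearEquiv.coe_det, ← LinearEquiv.coe_det, he, LinearEquiv.det_refl, Units.val_one, mul_one]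
  let P := Submodule.prodEquivOfIsCompl U₂ W2 hW2
  let c : (Fin n → F) ≃ₗ[F] (Fin n → F) := (P.symm.trans (fU.prodCongr fW)).trans P
  have hc : LinearMap.det c.toLinearMap = ((LinearEquiv.det g0)⁻¹ : Fˣ) := by
    have := LinearMap.det_conj (LinearMap.prodMap fU.toLinearMap fW.toLinearMap) P
    rw [LinearMap.det_prodMap, hf] at this
    exact this
  let g1 := g0.trans c
  have hdet : (LinearMap.toMatrix' g1.toLinearMap).det = 1 := by
    rw [LinearMap.det_toMatrix', show g1.toLinearMap = c.toLinearMap ∘ₗ g0.toLinearMap from rfl,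
      LinearMap.det_comp, hc, ← LinearEquiv.coe_det, Units.inv_mul]
  refine ⟨⟨_, hdet⟩, ?_⟩
  have happ : ∀ x, (Matrix.SpecialLinearGroup.toLin' ⟨_, hdet⟩ : (Fin n → F) ≃ₗ[F] (Fin n → F)) x = g1 x := by
    intro x
    show Matrix.toLin' (LinearMap.toMatrix' g1.toLinearMap) x = g1 x
    rw [Matrix.toLin'_toMatrix']
    rfl
  have hg1 : ∀ u : U₁, g1 (u : Fin n → F) = (fU (eU u) : Fin n → F) := by
    intro u
    simp [g1, c, P, hg0, Submodule.prodEquivOfIsCompl_symm_apply_left]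
  ext x
  simp only [Submodule.mem_map]
  constructor
  · rintro ⟨u, hu, rfl⟩
    rw [show (_ : (Fin n → F) →ₗ[F] (Fin n → F)) u = _ from happ u, hg1 ⟨u, hu⟩]
    exact (fU _).2
  · intro hx
    refine ⟨(eU.symm (fU.symm ⟨x, hx⟩) : Fin n → F), (eU.symm _).2, ?_⟩
    rw [LinearEquiv.coe_coe, happ, hg1]
    simp

end Cfsg.Agent.S2552
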