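import Cfsg.Statements.S2558
import Cfsg.Agent.ClassNum9.Orth.Even
import Cfsg.Agent.Forms59.Standard
import Cfsg.Agent.Forms59.Elliptic2

set_option autoImplicit false
open Cfsg

namespace Cfsg.Agent.S2558

/-- The number of conjugacy classes of the full orthogonal groups O⁺(2n,q) and O⁻(2n,q), q odd, 2n ≥ 4: for F a finite field of odd order q and n ≥ 2, the number k of conjugacy classes of the isometry group of the hyperbolic quadratic form Σ xᵢyᵢ on F^{2n}, and likewise of the elliptic form Σ xᵢyᵢ + (z₁² + a z₁z₂ + b z₂²) with anisotropic binary part, satisfies q^n/2 ≤ k ≤ 9.5·q^n. -/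
theorem result {F : Type*} [Field F] [Fintype F] (hodd : Odd (Fintype.card F)) (n : ℕ) (hn : 2 ≤ n) (a b : F) (hab : ∀ z₁ z₂ : F, z₁ ^ 2 + a * z₁ * z₂ + b * z₂ ^ 2 = 0 → z₁ = 0 ∧ z₂ = 0) :
    (Fintype.card F ^ n ≤ 2 * Nat.card (ConjClasses ↥(Cfsg.isometryGroup F (Cfsg.quadFormPlus n F))) ∧
      2 * Nat.card (ConjClasses ↥(Cfsg.isometryGroup F (Cfsg.quadFormPlus n F))) ≤ 19 * Fintype.card F ^ n) ∧
    (Fintype.card F ^ n ≤ 2 * Nat.card (ConjClasses ↥(Cfsg.isometryGroup F (Cfsg.quadFormMinus (n - 1) F a b))) ∧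
      2 * Nat.card (ConjClasses ↥(Cfsg.isometryGroup F (Cfsg.quadFormMinus (n - 1) F a b))) ≤ 19 * Fintype.card F ^ n) := by
  obtain ⟨m, rfl⟩ : ∃ m, n = m + 1 := ⟨n - 1, by omega⟩
  rw [Nat.add_sub_cancel, ← Forms59.coe_plusQF, ← Forms59.coe_minusQF]
  refine ⟨CN9.card_classes_O_even hodd _ ?_ hn (by simp; omega), CN9.card_classes_O_even hodd _ ?_ hn (by simp; omega)⟩
  · refine (LinearMap.BilinForm.nondegenerate_iff_det_ne_zero (Pi.basisFun F _)).2 ?_
    rw [← Forms59.gram_eq_toMatrix, Forms59.gram_plusQF_det]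
    exact pow_ne_zero _ (neg_ne_zero.2 one_ne_zero)
  · refine (LinearMap.BilinForm.nondegenerate_iff_det_ne_zero (Pi.basisFun F _)).2 ?_
    rw [← Forms59.gram_eq_toMatrix, Forms59.gram_minusQF_det]
    refine mul_ne_zero (pow_ne_zero _ (neg_ne_zero.2 one_ne_zero)) fun h => ?_
    have h2 : (2 : F) ≠ 0 := Ring.two_ne_zero fun hc => by
      have h1 := FiniteField.even_card_of_char_two (F := F) hc
      rw [Nat.odd_iff] at hodd
      omega
    obtain ⟨h1, -⟩ := hab (-a) 2 (by linear_combination h)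
    obtain ⟨-, h3⟩ := hab (-a) 2 (by linear_combination h)
    exact h2 h3

end Cfsg.Agent.S2558
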