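import Cfsg.Statements.S2559
import Cfsg.Agent.ClassNum9.Two.OrthLower
import Cfsg.Agent.Forms59.Elliptic2

set_option autoImplicit false
open Cfsg

namespace Cfsg.Agent.S2559

/-- The number of conjugacy classes of the full orthogonal groups O⁺(2n,q) and O⁻(2n,q), q even, 2n ≥ 4: for F a finite field of even order q and n ≥ 2, the number k of conjugacy classes of the isometry group of the hyperbolic quadratic form Σ xᵢyᵢ on F^{2n}, and likewise of the elliptic form Σ xᵢyᵢ + (z₁² + a z₁z₂ + b z₂²) with anisotropic binary part, satisfies q^n/2 ≤ k ≤ 15·q^n. -/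
theorem result {F : Type*} [Field F] [Fintype F] (heven : Even (Fintype.card F)) (n : ℕ) (hn : 2 ≤ n) (a b : F) (hab : ∀ z₁ z₂ : F, z₁ ^ 2 + a * z₁ * z₂ + b * z₂ ^ 2 = 0 → z₁ = 0 ∧ z₂ = 0) :
    (Fintype.card F ^ n ≤ 2 * Nat.card (ConjClasses ↥(Cfsg.isometryGroup F (Cfsg.quadFormPlus n F))) ∧
      Nat.card (ConjClasses ↥(Cfsg.isometryGroup F (Cfsg.quadFormPlus n F))) ≤ 15 * Fintype.card F ^ n) ∧
    (Fintype.card F ^ n ≤ 2 * Nat.card (ConjClasses ↥(Cfsg.isometryGroup F (Cfsg.quadFormMinus (n - 1) F a b))) ∧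
      Nat.card (ConjClasses ↥(Cfsg.isometryGroup F (Cfsg.quadFormMinus (n - 1) F a b))) ≤ 15 * Fintype.card F ^ n) := by
  haveI : CharP F 2 := ringChar.of_eq (FiniteField.even_card_iff_char_two.2 (Nat.even_iff.1 heven))
  obtain ⟨m, rfl⟩ : ∃ m, n = m + 1 := ⟨n - 1, by omega⟩
  rw [Nat.add_sub_cancel, ← Forms59.coe_plusQF, ← Forms59.coe_minusQF]
  have key : ∀ {ι : Type} [Fintype ι] [DecidableEq ι] (Q : QuadraticForm F (ι → F)),
      Fintype.card ι = 2 * (m + 1) → (QuadraticMap.polarBilin Q).Nondegenerate →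
      Fintype.card F ^ (m + 1) ≤ 2 * Nat.card (ConjClasses ↥(Cfsg.isometryGroup F ⇑Q)) ∧
        Nat.card (ConjClasses ↥(Cfsg.isometryGroup F ⇑Q)) ≤ 15 * Fintype.card F ^ (m + 1) := by
    intro ι _ _ Q hι hnd
    have hadd : ∀ x y, Q (x + y) = Q x + Q y + QuadraticMap.polarBilin Q x y := fun x y => by
      simp [QuadraticMap.polar]
    have hsmul : ∀ (c : F) x, Q (c • x) = c * c * Q x := fun c x => by
      rw [QuadraticMap.map_smul, smul_eq_mul]
    have hnd' : CN9.NdOn (QuadraticMap.polarBilin Q) ⊤ := fun x _ hx =>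
      hnd.1 x fun y => hx y Submodule.mem_top
    exact ⟨CN9.Two.card_classes_O_lower_two hn hι _ _ hadd hsmul hnd',
      CN9.Two.card_classes_O_two hι _ _ hadd hsmul hnd'⟩
  exact ⟨key _ (by simp; omega) (Forms59.plusQF_nondegenerate _),
    key _ (by simp; omega) (Forms59.minusQF_nondegenerate m a b hab)⟩

end Cfsg.Agent.S2559
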