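import Cfsg.Statements.S2561
import Cfsg.Agent.KnownSimple58.F2Forms

set_option autoImplicit false
open Cfsg

namespace Cfsg.Agent.S2561

/-- Fix the non-singular alternating form on the 2m-dimensional space over the field of two elements obtained by polarizing the plus-type form Σ xᵢyᵢ (m ≥ 1). The functions q on the space with q(u + v) = q(u) + q(v) + f(u, v) (the quadratic forms polarizing to f) number 2^(2m); each is equivalent under an invertible linear map either to the plus-type form or to the minus-type form Σ xᵢyᵢ + (z₁² + z₁z₂ + z₂²); and those of plus type number 2^(2m−1) + 2^(m−1), those of minus type 2^(2m−1) − 2^(m−1). -/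
theorem result (m : ℕ) (hm : 1 ≤ m) :
    Nat.card {q : (Fin m ⊕ Fin m → ZMod 2) → ZMod 2 // (∀ u v : (Fin m ⊕ Fin m → ZMod 2), q (u + v) = q u + q v + (Cfsg.quadFormPlus m (ZMod 2) (u + v) - Cfsg.quadFormPlus m (ZMod 2) u - Cfsg.quadFormPlus m (ZMod 2) v))} = 2 ^ (2 * m) ∧
    (∀ q : (Fin m ⊕ Fin m → ZMod 2) → ZMod 2, (∀ u v : (Fin m ⊕ Fin m → ZMod 2), q (u + v) = q u + q v + (Cfsg.quadFormPlus m (ZMod 2) (u + v) - Cfsg.quadFormPlus m (ZMod 2) u - Cfsg.quadFormPlus m (ZMod 2) v)) →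
      (∃ g : (Fin m ⊕ Fin m → ZMod 2) ≃ₗ[ZMod 2] (Fin m ⊕ Fin m → ZMod 2), ∀ v, q v = Cfsg.quadFormPlus m (ZMod 2) (g v)) ∨
      (∃ g : (Fin m ⊕ Fin m → ZMod 2) ≃ₗ[ZMod 2] ((Fin (m - 1) ⊕ Fin (m - 1)) ⊕ Fin 2 → ZMod 2), ∀ v, q v = Cfsg.quadFormMinus (m - 1) (ZMod 2) 1 1 (g v))) ∧
    Nat.card {q : (Fin m ⊕ Fin m → ZMod 2) → ZMod 2 // (∀ u v : (Fin m ⊕ Fin m → ZMod 2), q (u + v) = q u + q v + (Cfsg.quadFormPlus m (ZMod 2) (u + v) - Cfsg.quadFormPlus m (ZMod 2) u - Cfsg.quadFormPlus m (ZMod 2) v)) ∧ ∃ g : (Fin m ⊕ Fin m → ZMod 2) ≃ₗ[ZMod 2] (Fin m ⊕ Fin m → ZMod 2), ∀ v, q v = Cfsg.quadFormPlus m (ZMod 2) (g v)} = 2 ^ (2 * m - 1) + 2 ^ (m - 1) ∧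
    Nat.card {q : (Fin m ⊕ Fin m → ZMod 2) → ZMod 2 // (∀ u v : (Fin m ⊕ Fin m → ZMod 2), q (u + v) = q u + q v + (Cfsg.quadFormPlus m (ZMod 2) (u + v) - Cfsg.quadFormPlus m (ZMod 2) u - Cfsg.quadFormPlus m (ZMod 2) v)) ∧ ∃ g : (Fin m ⊕ Fin m → ZMod 2) ≃ₗ[ZMod 2] ((Fin (m - 1) ⊕ Fin (m - 1)) ⊕ Fin 2 → ZMod 2), ∀ v, q v = Cfsg.quadFormMinus (m - 1) (ZMod 2) 1 1 (g v)} = 2 ^ (2 * m - 1) - 2 ^ (m - 1) := by
  classical
  let e := KS58.F2.formsEquiv m
  have c0 := KS58.F2.card_zero m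
  have h4 : (4 : ℤ) ^ m = 2 * 2 ^ (2 * m - 1) := by
    rw [← pow_succ', Nat.sub_add_cancel (by omega), pow_mul]
    norm_num
  have h2 : (2 : ℤ) ^ m = 2 * 2 ^ (m - 1) := by rw [← pow_succ', Nat.sub_add_cancel hm]
  have hp : (Finset.univ.filter fun a : KS58.F2.V m => Cfsg.quadFormPlus m (ZMod 2) a = 0).card = 2 ^ (2 * m - 1) + 2 ^ (m - 1) := by
    zify
    linarith
  have hall : Fintype.card (KS58.F2.V m) = 2 ^ (2 * m) := by
    rw [Fintype.card_fun, ZMod.card, Fintype.card_sum, Fintype.card_fin, two_mul]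
  refine ⟨?_, fun q hq => ?_, ?_, ?_⟩
  · refine (Nat.card_congr e.symm).trans ?_
    rw [Nat.card_eq_fintype_card, hall]
  · obtain ⟨a, ha⟩ := KS58.F2.exists_rep m q hq
    simp only [ha]
    rcases KS58.F2.classify (KS58.F2.qf m a) (KS58.F2.nondeg_qf m a) (KS58.F2.finrank_V m) with h | ⟨-, h⟩
    · exact Or.inl h
    · exact Or.inr h
  · refine (Nat.card_congr ((Equiv.subtypeSubtypeEquivSubtypeInter _ _).symm.trans
      (e.subtypeEquiv (fun a => (KS58.F2.plus_iff a).symm)).symm)).trans ?_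
    rw [Nat.card_eq_fintype_card, Fintype.card_subtype, hp]
  · refine (Nat.card_congr ((Equiv.subtypeSubtypeEquivSubtypeInter _ _).symm.trans
      (e.subtypeEquiv (fun a => (KS58.F2.minus_iff hm a).symm)).symm)).trans ?_
    rw [Nat.card_eq_fintype_card, Fintype.card_subtype]
    have hsplit := Finset.card_filter_add_card_filter_not (s := (Finset.univ : Finset (KS58.F2.V m)))
      (fun a => Cfsg.quadFormPlus m (ZMod 2) a = 0)
    rw [Finset.card_univ, hall, hp] at hsplit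
    have h1 : (Finset.univ.filter fun a : KS58.F2.V m => ¬ Cfsg.quadFormPlus m (ZMod 2) a = 0) = (Finset.univ.filter fun a : KS58.F2.V m => Cfsg.quadFormPlus m (ZMod 2) a = 1) :=
      Finset.filter_congr fun a _ => by
        generalize Cfsg.quadFormPlus m (ZMod 2) a = x
        revert x
        decide
    rw [h1] at hsplit
    have h3 : 2 ^ (2 * m) = 2 * 2 ^ (2 * m - 1) := by rw [← pow_succ', Nat.sub_add_cancel (by omega)]
    omega

end Cfsg.Agent.S2561
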