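import Cfsg.Statements.S2562
import Cfsg.Agent.KnownSimple58.F2Forms
import Cfsg.Agent.Forms59.Elliptic
import Cfsg.Agent.Forms59.Elliptic2

set_option autoImplicit false
open Cfsg

namespace Cfsg.Agent.S2562

/-- Witt indices over the field of two elements, m ≥ 1: for the plus-type form Σ xᵢyᵢ in dimension 2m some m-dimensional subspace is totally singular and no totally singular subspace has larger dimension; for the minus-type form Σ xᵢyᵢ + (z₁² + z₁z₂ + z₂²) in dimension 2m the maximal dimension of a totally singular subspace is m − 1. -/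
theorem result (m : ℕ) (hm : 1 ≤ m) :
    (∃ U : Submodule (ZMod 2) (Fin m ⊕ Fin m → ZMod 2), (∀ u ∈ U, Cfsg.quadFormPlus m (ZMod 2) u = 0) ∧ Module.finrank (ZMod 2) ↥U = m) ∧
    (∀ U : Submodule (ZMod 2) (Fin m ⊕ Fin m → ZMod 2), (∀ u ∈ U, Cfsg.quadFormPlus m (ZMod 2) u = 0) → Module.finrank (ZMod 2) ↥U ≤ m) ∧
    (∃ U : Submodule (ZMod 2) ((Fin (m - 1) ⊕ Fin (m - 1)) ⊕ Fin 2 → ZMod 2), (∀ u ∈ U, Cfsg.quadFormMinus (m - 1) (ZMod 2) 1 1 u = 0) ∧ Module.finrank (ZMod 2) ↥U = m - 1) ∧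
    (∀ U : Submodule (ZMod 2) ((Fin (m - 1) ⊕ Fin (m - 1)) ⊕ Fin 2 → ZMod 2), (∀ u ∈ U, Cfsg.quadFormMinus (m - 1) (ZMod 2) 1 1 u = 0) → Module.finrank (ZMod 2) ↥U ≤ m - 1) := by
  have hab : ∀ z₁ z₂ : ZMod 2, z₁ ^ 2 + 1 * z₁ * z₂ + 1 * z₂ ^ 2 = 0 → z₁ = 0 ∧ z₂ = 0 := by decide
  obtain ⟨U, hU, hU0⟩ := Forms59.exists_totally_singular_plus (F := ZMod 2) m
  refine ⟨⟨U, hU0, hU⟩, fun W hW => ?_, ?_, fun W hW => Forms59.finrank_le_of_totally_singular_minus (m - 1) 1 1 hab W hW⟩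
  · let f : (Fin m ⊕ Fin m → ZMod 2) →ₗ[ZMod 2] ((Fin m ⊕ Fin m) ⊕ Fin 2 → ZMod 2) :=
      { toFun := fun x => Sum.elim x 0
        map_add' := fun x y => by ext (i | i) <;> simp
        map_smul' := fun c x => by ext (i | i) <;> simp }
    have hf : Function.Injective f := fun x y h => funext fun i => congr_fun h (Sum.inl i)
    rw [(Submodule.equivMapOfInjective f hf W).finrank_eq]
    refine Forms59.finrank_le_of_totally_singular_minus m 1 1 hab _ ?_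
    rintro _ ⟨w, hw, rfl⟩
    show Cfsg.quadFormPlus m (ZMod 2) w + ((0 : ZMod 2) ^ 2 + 1 * 0 * 0 + 1 * 0 ^ 2) = 0
    rw [hW w hw]
    decide
  · obtain ⟨U, hU, hU0⟩ := Forms59.exists_totally_singular_plus (F := ZMod 2) (m - 1)
    let f : (Fin (m - 1) ⊕ Fin (m - 1) → ZMod 2) →ₗ[ZMod 2] ((Fin (m - 1) ⊕ Fin (m - 1)) ⊕ Fin 2 → ZMod 2) :=
      { toFun := fun x => Sum.elim x 0
        map_add' := fun x y => by ext (i | i) <;> simp
        map_smul' := fun c x => by ext (i | i) <;> simp }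
    have hf : Function.Injective f := fun x y h => funext fun i => congr_fun h (Sum.inl i)
    refine ⟨U.map f, ?_, by rw [← (Submodule.equivMapOfInjective f hf U).finrank_eq, hU]⟩
    rintro _ ⟨w, hw, rfl⟩
    show Cfsg.quadFormPlus (m - 1) (ZMod 2) w + ((0 : ZMod 2) ^ 2 + 1 * 0 * 0 + 1 * 0 ^ 2) = 0
    rw [hU0 w hw]
    decide

end Cfsg.Agent.S2562
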