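import Cfsg.Statements.S2565
import Cfsg.Agent.KnownSimple58.PermModule
import Cfsg.Agent.S0287

set_option autoImplicit false
open Cfsg

namespace Cfsg.Agent.S2565

/-- The commutator subgroup of the full orthogonal group of the plus-type form Σ xᵢyᵢ in dimension 6 over the field of two elements (the group Ω⁺₆(2), of index 2) is isomorphic to the alternating group of degree 8. -/
theorem result :
    (Cfsg.Omega (ZMod 2) (Cfsg.quadFormPlus 3 (ZMod 2))).index = 2 ∧
    Nonempty (↥(Cfsg.Omega (ZMod 2) (Cfsg.quadFormPlus 3 (ZMod 2))) ≃* alternatingGroup (Fin 8)) := by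
  obtain ⟨e, he⟩ := (KS58.PermModule.exists_iso_standard 1).1 odd_one
  obtain ⟨φ, hφ⟩ := KS58.PermModule.exists_perm_hom 1 le_rfl (Cfsg.quadFormPlus 3 (ZMod 2)) e he
  have hb : Function.Bijective φ := by
    rw [Nat.bijective_iff_injective_and_card]
    refine ⟨hφ, ?_⟩
    rw [Nat.card_perm, Nat.card_eq_fintype_card, Fintype.card_fin,
      Cfsg.Agent.S0287.result (q := 2) (ZMod.card 2) 3 (by norm_num)]
    decide
  let E : Equiv.Perm (Fin 8) ≃* ↥(Cfsg.isometryGroup (ZMod 2) (Cfsg.quadFormPlus 3 (ZMod 2))) :=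
    MulEquiv.ofBijective φ hb
  have hmap : (alternatingGroup (Fin 8)).map E.toMonoidHom = Cfsg.Omega (ZMod 2) (Cfsg.quadFormPlus 3 (ZMod 2)) := by
    rw [← alternatingGroup.commutator_perm_eq (by simp), commutator_def, Subgroup.map_commutator,
      Subgroup.map_top_of_surjective E.toMonoidHom (by exact E.surjective)]
    rfl
  refine ⟨?_, ⟨((alternatingGroup (Fin 8)).equivMapOfInjective E.toMonoidHom E.injective |>.trans
    (MulEquiv.subgroupCongr hmap)).symm⟩⟩
  rw [← hmap, Subgroup.index_map_of_bijective (f := E.toMonoidHom) (by exact E.bijective), alternatingGroup.index_eq_two]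

end Cfsg.Agent.S2565
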