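import Cfsg.Statements.S2566
import Cfsg.Agent.KnownSimple58.IsoHom
import Cfsg.Agent.S0287
import Cfsg.Agent.S0250

set_option autoImplicit false
open Cfsg

namespace Cfsg.Agent.S2566

open scoped Matrix
open KS58.IsoHom

abbrev V := Fin 2 ⊕ Fin 2 → ZMod 2
abbrev M2 := Matrix (Fin 2) (Fin 2) (ZMod 2)
abbrev SL2 := Matrix.SpecialLinearGroup (Fin 2) (ZMod 2)

def e : V ≃ₗ[ZMod 2] M2 where
  toFun v := !![v (.inl 0), v (.inl 1); v (.inr 1), v (.inr 0)]
  invFun X := Sum.elim ![X 0 0, X 0 1] ![X 1 1, X 1 0]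
  map_add' u v := by ext i j; fin_cases i <;> fin_cases j <;> rfl
  map_smul' c v := by ext i j; fin_cases i <;> fin_cases j <;> rfl
  left_inv v := by funext j; rcases j with j | j <;> fin_cases j <;> rfl
  right_inv X := by ext i j; fin_cases i <;> fin_cases j <;> rfl

def mat (x : ↥(Cfsg.isometryGroup (ZMod 2) (Cfsg.quadFormPlus 2 (ZMod 2)))) :
    Matrix (Fin 2 ⊕ Fin 2) (Fin 2 ⊕ Fin 2) (ZMod 2) := ((x : GL (Fin 2 ⊕ Fin 2) (ZMod 2)) : Matrix _ _ _)

theorem mat_mul (x y : ↥(Cfsg.isometryGroup (ZMod 2) (Cfsg.quadFormPlus 2 (ZMod 2)))) : mat (x * y) = mat x * mat y := rfl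

theorem mat_isoHom {H : Type*} [Group H] (ρ : H →* (V ≃ₗ[ZMod 2] V)) (h) (x : H) (v : V) :
    mat (isoHom ρ h x) *ᵥ v = ρ x v := isoHom_mulVec ρ h x v

theorem det_e (v : V) : (e v).det = Cfsg.quadFormPlus 2 (ZMod 2) v := by
  rw [Matrix.det_fin_two, Cfsg.quadFormPlus, Fin.sum_univ_two]
  exact (by decide : ∀ a b c d : ZMod 2, a * b - c * d = a * b + c * d) _ _ _ _

def left : SL2 →* (V ≃ₗ[ZMod 2] V) where
  toFun M :=
    { toFun := fun v => e.symm ((M : M2) * e v)
      map_add' := fun u v => by rw [map_add, mul_add, map_add]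
      map_smul' := fun c v => by rw [map_smul, Matrix.mul_smul, map_smul]; rfl
      invFun := fun v => e.symm (((M⁻¹ : SL2) : M2) * e v)
      left_inv := fun v => by
        show e.symm (((M⁻¹ : SL2) : M2) * e (e.symm ((M : M2) * e v))) = v
        rw [LinearEquiv.apply_symm_apply, ← mul_assoc, ← Matrix.SpecialLinearGroup.coe_mul, inv_mul_cancel, Matrix.SpecialLinearGroup.coe_one, one_mul, LinearEquiv.symm_apply_apply]
      right_inv := fun v => by
        show e.symm ((M : M2) * e (e.symm (((M⁻¹ : SL2) : M2) * e v))) = v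
        rw [LinearEquiv.apply_symm_apply, ← mul_assoc, ← Matrix.SpecialLinearGroup.coe_mul, mul_inv_cancel, Matrix.SpecialLinearGroup.coe_one, one_mul, LinearEquiv.symm_apply_apply] }
  map_one' := LinearEquiv.ext fun v => by
    show e.symm (((1 : SL2) : M2) * e v) = v
    rw [Matrix.SpecialLinearGroup.coe_one, one_mul, LinearEquiv.symm_apply_apply]
  map_mul' M N := LinearEquiv.ext fun v => by
    show e.symm (((M * N : SL2) : M2) * e v) = e.symm ((M : M2) * e (e.symm ((N : M2) * e v)))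
    rw [LinearEquiv.apply_symm_apply, Matrix.SpecialLinearGroup.coe_mul, mul_assoc]

def tr : V ≃ₗ[ZMod 2] V := e.trans ((Matrix.transposeLinearEquiv (Fin 2) (Fin 2) (ZMod 2) (ZMod 2)).trans e.symm)

theorem e_tr (v : V) : e (tr v) = (e v)ᵀ := by simp [tr]

theorem tr_tr : tr * tr = 1 := LinearEquiv.ext fun v => e.injective (by
  show e (tr (tr v)) = e v
  rw [e_tr, e_tr, Matrix.transpose_transpose])

theorem left_iso (M : SL2) (v : V) : Cfsg.quadFormPlus 2 (ZMod 2) (left M v) = Cfsg.quadFormPlus 2 (ZMod 2) v := by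
  rw [← det_e, ← det_e]
  show (e (e.symm ((M : M2) * e v))).det = _
  rw [LinearEquiv.apply_symm_apply, Matrix.det_mul, M.2, one_mul]

def trHom : Subgroup.zpowers tr →* (V ≃ₗ[ZMod 2] V) := (Subgroup.zpowers tr).subtype

theorem tr_iso (v : V) : Cfsg.quadFormPlus 2 (ZMod 2) (tr v) = Cfsg.quadFormPlus 2 (ZMod 2) v := by
  rw [← det_e, ← det_e, e_tr, Matrix.det_transpose]

theorem trHom_iso (x : Subgroup.zpowers tr) (v : V) :
    Cfsg.quadFormPlus 2 (ZMod 2) (trHom x v) = Cfsg.quadFormPlus 2 (ZMod 2) v := by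
  obtain ⟨x, hx⟩ := x
  obtain ⟨n, rfl⟩ := Subgroup.mem_zpowers_iff.mp hx
  show Cfsg.quadFormPlus 2 (ZMod 2) ((tr ^ n : V ≃ₗ[ZMod 2] V) v) = _
  rcases Int.even_or_odd' n with ⟨k, rfl | rfl⟩
  · rw [zpow_mul, zpow_ofNat, sq, tr_tr, one_zpow]; rfl
  · rw [zpow_add_one, zpow_mul, zpow_ofNat, sq, tr_tr, one_zpow, one_mul, tr_iso]


/-- The full orthogonal group of the plus-type form x₁y₁ + x₂y₂ in dimension 4 over the field of two elements has order 72 and is isomorphic to the wreath product of the symmetric group of degree 3 by a group of order 2: it has a normal subgroup isomorphic to the direct product of two symmetric groups of degree 3, of index 2, whose two direct factors are interchanged by conjugation by some element. -/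
theorem result :
    Nat.card ↥(Cfsg.isometryGroup (ZMod 2) (Cfsg.quadFormPlus 2 (ZMod 2))) = 72 ∧
    ∃ (A B : Subgroup ↥(Cfsg.isometryGroup (ZMod 2) (Cfsg.quadFormPlus 2 (ZMod 2)))),
      Nonempty (↥A ≃* Equiv.Perm (Fin 3)) ∧ Nonempty (↥B ≃* Equiv.Perm (Fin 3)) ∧ A ⊓ B = ⊥ ∧ (∀ a ∈ A, ∀ b ∈ B, a * b = b * a) ∧
      (A ⊔ B).index = 2 ∧ ∃ g : ↥(Cfsg.isometryGroup (ZMod 2) (Cfsg.quadFormPlus 2 (ZMod 2))), A.map (MulAut.conj g).toMonoidHom = B := by
  have h72 : Nat.card ↥(Cfsg.isometryGroup (ZMod 2) (Cfsg.quadFormPlus 2 (ZMod 2))) = 72 := by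
    rw [Cfsg.Agent.S0287.result (q := 2) (ZMod.card 2) 2 (by norm_num)]
    decide
  obtain ⟨ι⟩ := Cfsg.Agent.S0250.result (F := ZMod 2) (ZMod.card 2)
  let L := isoHom left left_iso
  let g := isoHom trHom trHom_iso ⟨tr, Subgroup.mem_zpowers _⟩
  let R := (MulAut.conj g).toMonoidHom.comp L
  have hL : Function.Injective L := isoHom_injective _ _ fun M N h => by
    have := e.symm.injective (LinearEquiv.congr_fun h (e.symm 1))
    rw [LinearEquiv.apply_symm_apply, mul_one, mul_one] at this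
    exact Subtype.ext this
  have hR : Function.Injective R := (MulAut.conj g).injective.comp hL
  have hLv : ∀ M v, e (mat (L M) *ᵥ v) = (M : M2) * e v := fun M v => by
    simp only [L]; rw [mat_isoHom]; exact e.apply_symm_apply _
  have hg : ∀ v, e (mat g *ᵥ v) = (e v)ᵀ := fun v => by
    simp only [g]; rw [mat_isoHom]; exact e_tr v
  have hginv : g⁻¹ = g := by
    rw [inv_eq_iff_mul_eq_one, ← map_mul, ← map_one (isoHom trHom trHom_iso)]
    exact congrArg _ (Subtype.ext tr_tr)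
  have hRv : ∀ M v, e (mat (R M) *ᵥ v) = e v * (M : M2)ᵀ := fun M v => by
    show e (mat (g * L M * g⁻¹) *ᵥ v) = _
    rw [hginv, mat_mul, mat_mul, ← Matrix.mulVec_mulVec, ← Matrix.mulVec_mulVec, hg, hLv, hg,
      Matrix.transpose_mul, Matrix.transpose_transpose]
  have ext' : ∀ x y : ↥(Cfsg.isometryGroup (ZMod 2) (Cfsg.quadFormPlus 2 (ZMod 2))),
      (∀ v, e (mat x *ᵥ v) = e (mat y *ᵥ v)) → x = y := fun x y h =>
    Subtype.ext (Units.ext (Matrix.ext_iff_mulVec.mpr fun v => e.injective (h v)))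
  have comm : ∀ M N, Commute (L M) (R N) := fun M N => ext' _ _ fun v => by
    rw [mat_mul, mat_mul, ← Matrix.mulVec_mulVec,
      ← Matrix.mulVec_mulVec, hLv, hRv, hRv, hLv, mul_assoc]
  have disj : Disjoint L.range R.range := by
    rw [Subgroup.disjoint_def]
    rintro x ⟨M, rfl⟩ ⟨N, hN⟩
    have h : ∀ X : M2, (M : M2) * X = X * (N : M2)ᵀ := fun X => by
      rw [← e.apply_symm_apply X, ← hLv, ← hRv, hN]
    have hM : (M : M2) = (N : M2)ᵀ := by simpa using h 1
    rw [← hM] at h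
    have key : ∀ X : M2, X.det = 1 → X * !![1, 1; 0, 1] = !![1, 1; 0, 1] * X →
        X * !![1, 0; 1, 1] = !![1, 0; 1, 1] * X → X = 1 := by decide
    have : M = 1 := Subtype.ext (key _ M.2 (h _) (h _))
    rw [this, map_one]
  refine ⟨h72, L.range, R.range, ⟨(MonoidHom.ofInjective hL).symm.trans ι⟩,
    ⟨(MonoidHom.ofInjective hR).symm.trans ι⟩, disjoint_iff.mp disj, ?_, ?_, g, ?_⟩
  · rintro _ ⟨M, rfl⟩ _ ⟨N, rfl⟩
    exact comm M N
  · have hinj : Function.Injective (MonoidHom.noncommCoprod L R comm) :=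
      (MonoidHom.noncommCoprod_injective L R comm).mpr ⟨hL, hR, disj⟩
    have h36 : Nat.card ↥(L.range ⊔ R.range) = 36 := by
      rw [← MonoidHom.noncommCoprod_range L R comm, ← Nat.card_congr (MonoidHom.ofInjective hinj).toEquiv,
        Nat.card_prod, Nat.card_congr ι.toEquiv, Nat.card_perm, Nat.card_eq_fintype_card, Fintype.card_fin]
      rfl
    have := Subgroup.card_mul_index (L.range ⊔ R.range)
    rw [h36, h72] at this
    omega
  · exact MonoidHom.map_range (MulAut.conj g).toMonoidHom L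

end Cfsg.Agent.S2566
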