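import Cfsg.Statements.S2567
-- import your own Cfsg.Agent.* helpers here

set_option autoImplicit false
open Cfsg

namespace Cfsg.Agent.S2567



/-- Lifting elements of prime order from PGL to GL: let F be a finite field with q elements, r a prime not dividing q − 1, and x an element of order r in GL_n(F) modulo its centre (the scalar matrices). Then x has exactly one preimage in GL_n(F) of order r. -/
theorem result {F : Type*} [Field F] [Fintype F] {q n r : ℕ} (hF : Fintype.card F = q) (hr : r.Prime) (hdiv : ¬ r ∣ q - 1) (x : GL (Fin n) F ⧸ Subgroup.center (GL (Fin n) F)) (hx : orderOf x = r) : ∃! g : GL (Fin n) F, (QuotientGroup.mk g : GL (Fin n) F ⧸ Subgroup.center (GL (Fin n) F)) = x ∧ orderOf g = r := by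
  classical
  obtain ⟨g0, rfl⟩ := QuotientGroup.mk_surjective x
  set Z := Subgroup.center (GL (Fin n) F) with hZ
  have hcop : (Nat.card Z).Coprime r := by
    apply Nat.Coprime.symm
    rw [hr.coprime_iff_not_dvd]
    intro h
    apply hdiv
    refine h.trans ?_
    rw [← hF, ← Fintype.card_units, ← Nat.card_eq_fintype_card, hZ, Matrix.GeneralLinearGroup.center_eq_range_scalar]
    exact Subgroup.card_range_dvd _
  have hg0 : g0 ^ r ∈ Z := by
    rw [← QuotientGroup.eq_one_iff, QuotientGroup.mk_pow]; exact hx ▸ pow_orderOf_eq_one _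
  obtain ⟨z, hz⟩ := (powCoprime hcop).surjective ⟨g0 ^ r, hg0⟩⁻¹
  have hz' : (z : GL (Fin n) F) ^ r = (g0 ^ r)⁻¹ := by simpa using congrArg Subtype.val hz
  have hc : Commute g0 (z : GL (Fin n) F) := (Subgroup.mem_center_iff.mp z.2 g0)
  have hmk : (QuotientGroup.mk (g0 * z) : GL (Fin n) F ⧸ Z) = QuotientGroup.mk g0 :=
    QuotientGroup.eq.mpr (by rw [mul_inv_rev, mul_assoc, inv_mul_cancel, mul_one]; exact Z.inv_mem z.2)
  haveI := Fact.mk hr
  refine ⟨g0 * z, ⟨hmk, orderOf_eq_prime (by rw [hc.mul_pow, hz', mul_inv_cancel]) ?_⟩, ?_⟩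
  · intro h
    rw [h, QuotientGroup.mk_one] at hmk
    rw [show orderOf (QuotientGroup.mk g0 : GL (Fin n) F ⧸ Z) = 1 by rw [← hmk, orderOf_one]] at hx
    exact hr.one_lt.ne hx
  · rintro g ⟨hg, hgo⟩
    have h1 : (g0 * (z : GL (Fin n) F))⁻¹ * g ∈ Z := QuotientGroup.eq.mp (hmk.trans hg.symm)
    set w := (g0 * (z : GL (Fin n) F))⁻¹ * g with hw
    have h2 : g = (g0 * z) * w := by rw [hw, mul_inv_cancel_left]
    have h3 : w ^ r = 1 := by
      have := (show Commute (g0 * (z : GL (Fin n) F)) w from Subgroup.mem_center_iff.mp h1 _).mul_pow r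
      rw [← h2, ← hgo, pow_orderOf_eq_one, hgo, hc.mul_pow, hz', mul_inv_cancel, one_mul] at this
      exact this.symm
    have : (⟨w, h1⟩ : Z) = 1 := (powCoprime hcop).injective (Subtype.ext (by simpa using h3))
    rw [h2, show w = 1 from congrArg Subtype.val this, mul_one]

end Cfsg.Agent.S2567
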