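import Cfsg.Statements.S2568
import Cfsg.Agent.Lib.GLSemisimple.PrimeOrder

set_option autoImplicit false
open Cfsg

namespace Cfsg.Agent.S2568

/-- Number of conjugacy classes of elements of a given prime order r, coprime to the characteristic, in GL_n(q): if i is the multiplicative order of q modulo r and t = (r − 1)/i, the classes correspond to the non-zero t-tuples of natural numbers (a_1, …, a_t) with i(a_1 + ⋯ + a_t) ≤ n (a_j is the multiplicity of the j-th Frobenius orbit of nontrivial r-th roots of unity among the eigenvalues), so there are exactly C(⌊n/i⌋ + t, t) − 1 of them. -/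
theorem result {F : Type*} [Field F] [Fintype F] {p q : ℕ} [Fact p.Prime] [CharP F p] (hF : Fintype.card F = q) (n r i t : ℕ) (hr : r.Prime) (hrp : r ≠ p) (hi : i = orderOf (q : ZMod r)) (ht : t * i = r - 1) : Nat.card {C : ConjClasses (GL (Fin n) F) // ∃ g : GL (Fin n) F, ConjClasses.mk g = C ∧ orderOf g = r} = Nat.choose (n / i + t) t - 1 := by
  classical
  subst hF
  have hp : p.Prime := Fact.out
  haveI : Fact r.Prime := ⟨hr⟩
  obtain ⟨f, -, hK⟩ := FiniteField.card F p
  have hcop : p.Coprime r := (Nat.coprime_primes hp hr).mpr (Ne.symm hrp)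
  have hq0 : ((Fintype.card F : ℕ) : ZMod r) ≠ 0 := by
    rw [Ne, ZMod.natCast_eq_zero_iff]
    exact fun h => hrp ((Nat.prime_dvd_prime_iff_eq hr hp).mp (hr.dvd_of_dvd_pow (hK ▸ h)))
  have hi0 : 0 < i := by
    rw [hi, Nat.pos_iff_ne_zero, ne_eq, orderOf_eq_zero_iff, not_not, isOfFinOrder_iff_pow_eq_one]
    exact ⟨r - 1, by have := hr.two_le; omega, ZMod.pow_card_sub_one_eq_one hq0⟩
  have hrF : ((r : ℕ) : F) ≠ 0 := by
    rw [Ne, CharP.cast_eq_zero_iff F p]
    exact fun h => hrp ((Nat.prime_dvd_prime_iff_eq hp hr).mp h).symm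
  rcases Nat.eq_zero_or_pos n with rfl | hn
  · haveI : IsEmpty {C : ConjClasses (GL (Fin 0) F) // ∃ g : GL (Fin 0) F, ConjClasses.mk g = C ∧ orderOf g = r} :=
      ⟨fun ⟨_, g, _, hg⟩ => hr.ne_one (by
        rw [← hg, show g = 1 from Units.ext (Subsingleton.elim _ _), orderOf_one])⟩
    simp
  let S : Finset (Polynomial F) :=
    (UniqueFactorizationMonoid.normalizedFactors (Polynomial.cyclotomic r F)).toFinset
  have hiu : orderOf (ZMod.unitOfCoprime _ (hcop.pow_left (f : ℕ))) = i := by
    rw [← orderOf_units, ZMod.coe_unitOfCoprime, hi, hK]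
  have hScard : S.card = t := by
    rw [Polynomial.normalizedFactors_cyclotomic_card hK hcop, hiu, Nat.totient_prime hr, ← ht,
      Nat.mul_div_cancel _ hi0]
  let L : Polynomial F := Polynomial.X - Polynomial.C 1
  have hS : ∀ g ∈ S, g.Monic ∧ Irreducible g ∧ g.natDegree = i ∧ g ≠ L := by
    intro g hg
    have hg' := Multiset.mem_toFinset.mp hg
    refine ⟨?_, UniqueFactorizationMonoid.irreducible_of_normalized_factor g hg',
      (Polynomial.natDegree_of_mem_normalizedFactors_cyclotomic hK hcop hg').trans hiu, ?_⟩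
    · rw [← UniqueFactorizationMonoid.normalize_normalized_factor g hg']
      exact Polynomial.monic_normalize (UniqueFactorizationMonoid.prime_of_normalized_factor g hg').ne_zero
    · rintro rfl
      have h := Polynomial.dvd_iff_isRoot.mp (UniqueFactorizationMonoid.dvd_of_mem_normalizedFactors hg')
      rw [Polynomial.IsRoot, Polynomial.eval_one_cyclotomic_prime] at h
      exact hrF h
  have hfac : ∀ g : Polynomial F, g.Monic → Irreducible g →
      (g ∣ Polynomial.X ^ r - 1 ↔ g = L ∨ g ∈ S) := by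
    intro g hgm hgi
    rw [← Polynomial.cyclotomic_prime_mul_X_sub_one F r, hgi.prime.dvd_mul, or_comm]
    refine or_congr ⟨fun h => ?_, fun h => ?_⟩ ⟨fun h => ?_, fun h => ?_⟩
    · exact Polynomial.eq_of_monic_of_associated hgm (Polynomial.monic_X_sub_C 1)
        (hgi.associated_of_dvd (Polynomial.irreducible_X_sub_C 1) (by simpa [L] using h))
    · rw [h]; simp [L]
    · obtain ⟨g', hg', hass⟩ := UniqueFactorizationMonoid.exists_mem_normalizedFactors_of_dvd
        (Polynomial.cyclotomic_ne_zero r F) hgi h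
      have hg'' : g' ∈ S := Multiset.mem_toFinset.mpr hg'
      rwa [Polynomial.eq_of_monic_of_associated hgm (hS g' hg'').1 hass]
    · exact UniqueFactorizationMonoid.dvd_of_mem_normalizedFactors (Multiset.mem_toFinset.mp h)
  have key := Cfsg.Agent.GLSemi.card_classes_GL (F := F) (n := n) (N := r) hn hrF
  rw [Cfsg.Agent.GLSemi.card_admPoly_of_factors n r i hi0 L (Polynomial.monic_X_sub_C 1)
    (Polynomial.irreducible_X_sub_C 1) (Polynomial.natDegree_X_sub_C 1) S hS hfac, hScard] at key
  rw [← key]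
  let A : Set (ConjClasses (GL (Fin n) F)) := {C | ∃ g, ConjClasses.mk g = C ∧ g ^ r = 1}
  have hmem : (1 : ConjClasses (GL (Fin n) F)) ∈ A := ⟨1, rfl, one_pow r⟩
  have hset : {C : ConjClasses (GL (Fin n) F) | ∃ g, ConjClasses.mk g = C ∧ orderOf g = r} = A \ {1} := by
    ext C
    constructor
    · rintro ⟨g, rfl, hg⟩
      refine ⟨⟨g, rfl, hg ▸ pow_orderOf_eq_one g⟩, fun h => hr.ne_one ?_⟩
      rw [Set.mem_singleton_iff, ConjClasses.one_eq_mk_one, ConjClasses.mk_eq_mk_iff_isConj] at h
      rw [← hg, isConj_one_left.mp h, orderOf_one]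
    · rintro ⟨⟨g, rfl, hg⟩, h1⟩
      exact ⟨g, rfl, orderOf_eq_prime hg fun h => h1 (by rw [h]; exact ConjClasses.one_eq_mk_one.symm)⟩
  show Nat.card ↥{C : ConjClasses (GL (Fin n) F) | ∃ g, ConjClasses.mk g = C ∧ orderOf g = r} = Nat.card ↥A - 1
  rw [hset, Nat.card_coe_set_eq, Nat.card_coe_set_eq, Set.ncard_sdiff_singleton_of_mem hmem]

end Cfsg.Agent.S2568
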