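import Cfsg.Statements.S2569
import Cfsg.Agent.KnownSimple58.CyclicDecomp

set_option autoImplicit false
open Cfsg

namespace Cfsg.Agent.S2569

open Polynomial in
lemma exists_commute_det {F : Type*} [Field F] [Fintype F] {n : ℕ} (A : Matrix (Fin n) (Fin n) F)
    {m : ℕ} (hm : (m : F) ≠ 0) (hA : A ^ m = 1) (hn : 0 < n) (d : F) :
    ∃ H : Matrix (Fin n) (Fin n) F, Commute H A ∧ H.det = d := by
  classical
  obtain ⟨ι, hι, q, e, g, ψ, hg, hψ⟩ := KS58.exists_cyclic_decomp A
  have hfin : ∀ i, Module.Finite F (AdjoinRoot (g i)) := fun i =>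
    (AdjoinRoot.powerBasis (hg i).2.2.ne_zero).finite
  have hpow : ∀ k v i, ψ ((A ^ k).mulVec v) i = AdjoinRoot.root (g i) ^ k * ψ v i := by
    intro k
    induction k with
    | zero => simp
    | succ k ih => intro v i; rw [pow_succ, ← Matrix.mulVec_mulVec, ih, hψ, ← mul_assoc, pow_succ]
  obtain ⟨i, hi⟩ : ∃ i, e i ≠ 0 := by
    by_contra hc
    push Not at hc
    haveI : Nonempty (Fin n) := ⟨⟨0, hn⟩⟩
    obtain ⟨v, hv⟩ := exists_ne (0 : Fin n → F)
    refine hv (ψ.injective ?_)
    funext i
    have h1 : IsUnit (g i) := (hg i).2.1.isUnit_iff.mpr (by rw [hc i, pow_zero]; exact isUnit_one)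
    haveI : Subsingleton (AdjoinRoot (g i)) := subsingleton_of_zero_eq_one
      (by rw [← map_one (AdjoinRoot.mk (g i))]; exact (AdjoinRoot.mk_eq_zero.mpr (isUnit_iff_dvd_one.mp h1)).symm)
    exact Subsingleton.elim _ _
  have hirr : Irreducible (g i) := by
    have h1 : g i ∣ X ^ m - 1 := by
      rw [← AdjoinRoot.mk_eq_zero, map_sub, map_pow, AdjoinRoot.mk_X, map_one, sub_eq_zero]
      simpa [hA] using (hpow m (ψ.symm (Pi.single i 1)) i).symm
    have h2 : Squarefree (X ^ m - 1 : F[X]) := by
      rw [← C_1]; exact (separable_X_pow_sub_C 1 hm one_ne_zero).squarefree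
    have h3 : Squarefree (q i ^ e i) := h2.squarefree_of_dvd ((hg i).2.1.symm.dvd.trans h1)
    have h4 : e i = 1 := by
      by_contra h
      refine (hg i).1.not_isUnit (h3 (q i) ?_)
      rw [← sq]
      exact pow_dvd_pow _ (by omega)
    rw [(hg i).2.1.irreducible_iff, h4, pow_one]
    exact (hg i).1
  haveI := Fact.mk hirr
  haveI : Finite (AdjoinRoot (g i)) := Module.finite_of_finite F
  obtain ⟨y, hy⟩ := FiniteField.norm_surjective F (AdjoinRoot (g i)) d
  let P : (Π j, AdjoinRoot (g j)) →ₗ[F] AdjoinRoot (g i) := LinearMap.proj i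
  let split : (Π j, AdjoinRoot (g j)) ≃ₗ[F] AdjoinRoot (g i) × LinearMap.ker P :=
    { toFun := fun x => (x i, ⟨x - Pi.single i (x i), by simp [P]⟩)
      map_add' := fun a b => by
        refine Prod.ext rfl (Subtype.ext ?_)
        simp [Pi.single_add]; abel
      map_smul' := fun c a => by
        refine Prod.ext rfl (Subtype.ext ?_)
        simp [Pi.single_smul, smul_sub]
      invFun := fun p => (Pi.single i p.1 : Π j, AdjoinRoot (g j)) + (p.2 : Π j, AdjoinRoot (g j))
      left_inv := fun x => by simp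
      right_inv := fun p => by
        have h0 : (p.2 : Π j, AdjoinRoot (g j)) i = 0 := p.2.2
        refine Prod.ext ?_ (Subtype.ext ?_) <;> simp [h0] }
  let D : AdjoinRoot (g i) × LinearMap.ker P →ₗ[F] AdjoinRoot (g i) × LinearMap.ker P :=
    LinearMap.prodMap (Algebra.lmul F _ y) LinearMap.id
  let T := ψ.trans split
  refine ⟨LinearMap.toMatrix' (T.symm.toLinearMap ∘ₗ D ∘ₗ T.toLinearMap), ?_, ?_⟩
  · apply (Matrix.toLin' (R := F)).injective
    rw [Matrix.toLin'_mul, Matrix.toLin'_mul, Matrix.toLin'_toMatrix']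
    apply LinearMap.ext
    intro v
    apply T.injective
    simp only [LinearMap.comp_apply, LinearEquiv.coe_coe, LinearEquiv.apply_symm_apply, Matrix.toLin'_apply]
    have key : ∀ w, (T (A.mulVec w)).1 = AdjoinRoot.root (g i) * (T w).1 ∧
        ((T (A.mulVec w)).2 : Π j, AdjoinRoot (g j)) =
          fun j => AdjoinRoot.root (g j) * ((T w).2 : Π j, AdjoinRoot (g j)) j := by
      intro w
      refine ⟨hψ w i, funext fun j => ?_⟩
      show ψ (A.mulVec w) j - (Pi.single i (ψ (A.mulVec w) i) : Π j, AdjoinRoot (g j)) j =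
        _ * (ψ w j - (Pi.single i (ψ w i) : Π j, AdjoinRoot (g j)) j)
      by_cases hj : j = i
      · subst hj; simp
      · simp [Pi.single_eq_of_ne hj, hψ]
    obtain ⟨k1, k2⟩ := key v
    obtain ⟨k3, k4⟩ := key (T.symm (D (T v)))
    refine Prod.ext ?_ (Subtype.ext ?_)
    · rw [k3, LinearEquiv.apply_symm_apply]
      simp only [D, LinearMap.prodMap_apply, Algebra.lmul, k1]
      show y * _ = _ * (y * _)
      ring
    · rw [k4, LinearEquiv.apply_symm_apply]
      simp only [D, LinearMap.prodMap_apply, LinearMap.id_apply, k2]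
  · rw [LinearMap.det_toMatrix']
    have := LinearMap.det_conj D T.symm
    rw [LinearEquiv.symm_symm] at this
    rw [this, LinearMap.det_prodMap, LinearMap.det_id, mul_one, ← hy]
    rfl


/-- In GL_n over a finite field of characteristic p, the conjugacy class of a semisimple element (an element of order prime to p) under the special linear group is its whole GL-conjugacy class: for every such x and every invertible g there is h of determinant one with h x h⁻¹ = g x g⁻¹. -/
theorem result {F : Type*} [Field F] [Fintype F] {p : ℕ} [Fact p.Prime] [CharP F p] {n : ℕ} (x g : GL (Fin n) F) (hx : (orderOf x).Coprime p) : ∃ h : GL (Fin n) F, (h : Matrix (Fin n) (Fin n) F).det = 1 ∧ h * x * h⁻¹ = g * x * g⁻¹ := by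
  classical
  rcases Nat.eq_zero_or_pos n with rfl | hn
  · exact ⟨g, Matrix.det_fin_zero, rfl⟩
  set d := (g : Matrix (Fin n) (Fin n) F).det with hd
  have hd0 : d ≠ 0 := ((Matrix.isUnit_iff_isUnit_det _).mp g.isUnit).ne_zero
  have hm : (orderOf x : F) ≠ 0 := by
    rw [Ne, CharP.cast_eq_zero_iff F p]
    exact (Fact.out : p.Prime).coprime_iff_not_dvd.mp hx.symm
  obtain ⟨H, hH, hdet⟩ := exists_commute_det (x : Matrix (Fin n) (Fin n) F) hm
    (by rw [← Units.val_pow_eq_pow_val, pow_orderOf_eq_one, Units.val_one]) hn d⁻¹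
  let c : GL (Fin n) F := Matrix.GeneralLinearGroup.mkOfDetNeZero H (by rw [hdet]; exact inv_ne_zero hd0)
  refine ⟨g * c, ?_, ?_⟩
  · show ((g : Matrix (Fin n) (Fin n) F) * H).det = 1
    rw [Matrix.det_mul, hdet, ← hd, mul_inv_cancel₀ hd0]
  · have hc : c * x = x * c := Units.ext hH
    rw [mul_inv_rev, mul_assoc g c x, hc]
    group

end Cfsg.Agent.S2569
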