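import Cfsg.Statements.S2571
import Cfsg.Agent.KnownSimple58.RegularNilpotent

set_option autoImplicit false
open Cfsg

namespace Cfsg.Agent.S2571

open KS58


/-- Centraliser of a regular unipotent element in GL_n(q): if u is an invertible n × n matrix over the field with q elements, n ≥ 1, with (u − 1)^n = 0 and rank(u − 1) = n − 1 (a single unipotent Jordan block), then its centraliser in GL_n(q) has order (q − 1) q^(n−1). -/
theorem result {F : Type*} [Field F] [Fintype F] {q n : ℕ} (hF : Fintype.card F = q) (hn : 1 ≤ n) (u : GL (Fin n) F) (hnil : ((u : Matrix (Fin n) (Fin n) F) - 1) ^ n = 0) (hreg : ((u : Matrix (Fin n) (Fin n) F) - 1).rank = n - 1) : Nat.card ↥(Subgroup.centralizer ({u} : Set (GL (Fin n) F))) = (q - 1) * q ^ (n - 1) := by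
  classical
  obtain ⟨n, rfl⟩ : ∃ m, n = m + 1 := ⟨n - 1, by omega⟩
  set N := (u : Matrix (Fin (n + 1)) (Fin (n + 1)) F) - 1 with hN
  have hreg' : IsRegNil N := ⟨hnil, hreg⟩
  obtain ⟨v, hv⟩ := hreg'.exists_cyclic (by omega)
  have hli := linearIndependent_krylov hnil hv
  have hcomm : ∀ c : Fin (n + 1) → F, Commute (∑ i, c i • N ^ (i : ℕ)) N := fun c =>
    Commute.sum_left _ _ _ fun i _ => ((Commute.refl N).pow_left _).smul_left _
  let Φ : {c : Fin (n + 1) → F // c 0 ≠ 0} → ↥(Subgroup.centralizer ({u} : Set (GL (Fin (n + 1)) F))) := fun c =>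
    ⟨Matrix.GeneralLinearGroup.mkOfDetNeZero (∑ i, c.1 i • N ^ (i : ℕ))
        (by rw [det_sum_smul_pow hnil (by omega)]; exact pow_ne_zero _ c.2), by
      rw [Subgroup.mem_centralizer_singleton_iff]
      apply Units.ext
      show (∑ i, c.1 i • N ^ (i : ℕ)) * (u : Matrix (Fin (n + 1)) (Fin (n + 1)) F) = _ * (∑ i, c.1 i • N ^ (i : ℕ))
      rw [show (u : Matrix (Fin (n + 1)) (Fin (n + 1)) F) = N + 1 by rw [hN]; abel, mul_add, add_mul, mul_one,
        one_mul, (hcomm c.1).eq]⟩
  have hΦ : Function.Bijective Φ := by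
    constructor
    · intro c d h
      have h1 : (∑ i, c.1 i • N ^ (i : ℕ)) = ∑ i, d.1 i • N ^ (i : ℕ) :=
        congrArg (fun g : ↥(Subgroup.centralizer ({u} : Set (GL (Fin (n + 1)) F))) =>
          ((g : GL (Fin (n + 1)) F) : Matrix (Fin (n + 1)) (Fin (n + 1)) F)) h
      have h2 := congrArg (fun M : Matrix (Fin (n + 1)) (Fin (n + 1)) F => M.mulVec v) h1
      simp only [Matrix.sum_mulVec, Matrix.smul_mulVec] at h2
      exact Subtype.ext (funext fun i => sub_eq_zero.mp (Fintype.linearIndependent_iff.mp hli (fun i => c.1 i - d.1 i)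
        (by simp only [sub_smul, Finset.sum_sub_distrib, h2, sub_self]) i))
    · intro g
      have hg : Commute ((g : GL (Fin (n + 1)) F) : Matrix (Fin (n + 1)) (Fin (n + 1)) F) N := by
        have h := congrArg Units.val (Subgroup.mem_centralizer_singleton_iff.mp g.2)
        rw [Units.val_mul, Units.val_mul] at h
        exact Commute.sub_right h (Commute.one_right _)
      obtain ⟨c, hc⟩ := hreg'.commute_eq_sum hg
      have hc0 : c 0 ≠ 0 := by
        intro h0
        have := ((Matrix.isUnit_iff_isUnit_det _).mp (g : GL (Fin (n + 1)) F).isUnit).ne_zero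
        rw [hc, det_sum_smul_pow hnil (by omega)] at this
        exact this (by rw [show (⟨0, _⟩ : Fin (n + 1)) = 0 from rfl, h0, zero_pow (by omega)])
      exact ⟨⟨c, hc0⟩, Subtype.ext (Units.ext hc.symm)⟩
  rw [← Nat.card_congr (Equiv.ofBijective Φ hΦ)]
  let e : {c : Fin (n + 1) → F // c 0 ≠ 0} ≃ {a : F // a ≠ 0} × (Fin n → F) :=
    { toFun := fun c => (⟨c.1 0, c.2⟩, Fin.tail c.1)
      invFun := fun p => ⟨Fin.cons p.1.1 p.2, by simpa using p.1.2⟩
      left_inv := fun c => Subtype.ext (Fin.cons_self_tail c.1)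
      right_inv := fun p => by simp }
  rw [Nat.card_congr e, Nat.card_prod, Nat.card_eq_fintype_card, Nat.card_eq_fintype_card, Fintype.card_fun,
    Fintype.card_subtype_compl, Fintype.card_subtype_eq, hF, Fintype.card_fin, Nat.add_sub_cancel]

end Cfsg.Agent.S2571
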