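import Cfsg.Statements.S2579
-- import your own Cfsg.Agent.* helpers here

set_option autoImplicit false
open Cfsg

namespace Cfsg.Agent.S2579

theorem indep_aux {F W : Type*} [Field F] [AddCommGroup W] [Module F W] {ι : Type*} [Fintype ι] [DecidableEq ι]
    (N : W →ₗ[F] W) (K : Submodule F W) (hK : ∀ x ∈ K, N x = 0) (v w : W) (hv : N w = v) (hv0 : v ≠ 0) (hvK : v ∈ K)
    (R : Submodule F K) (hR : Disjoint (Submodule.comap K.subtype (Submodule.span F {v})) R)
    (bR : ι → R) (hb : LinearIndependent F bR) (ca cb : F) (x : ι → F)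
    (h : ca • v + cb • w + ∑ i, x i • ((bR i : K) : W) = 0) : ca = 0 ∧ cb = 0 ∧ ∀ i, x i = 0 := by
  have hb0 : cb = 0 := by
    have := congrArg N h
    simp only [map_add, map_smul, map_sum, hK v hvK, smul_zero, zero_add, map_zero, hv] at this
    rw [Finset.sum_eq_zero (fun i _ => by rw [hK _ (bR i : K).2, smul_zero]), add_zero] at this
    exact (smul_eq_zero.mp this).resolve_right hv0
  rw [hb0, zero_smul, add_zero] at h
  have hy : ca • (⟨v, hvK⟩ : K) + ((∑ i, x i • bR i : R) : K) = 0 := by
    apply Subtype.ext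
    simpa using h
  have hmem : ca • (⟨v, hvK⟩ : K) ∈ Submodule.comap K.subtype (Submodule.span F {v}) := by
    simp [Submodule.smul_mem, Submodule.mem_span_singleton_self]
  have h0 : ((∑ i, x i • bR i : R) : K) = 0 := Submodule.disjoint_def.mp hR _
    (by rw [eq_neg_of_add_eq_zero_right hy]; exact neg_mem hmem) (∑ i, x i • bR i : R).2
  rw [h0, add_zero, smul_eq_zero] at hy
  exact ⟨hy.resolve_right (fun h => hv0 (congrArg Subtype.val h)), hb0,
    Fintype.linearIndependent_iff.mp hb x (Subtype.ext h0)⟩

theorem exists_normal_frame {F : Type*} [Field F] {n : ℕ} (hn : 3 ≤ n)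
    (t : Matrix.SpecialLinearGroup (Fin n) F) (ht : Cfsg.IsTransvection (t : Matrix (Fin n) (Fin n) F))
    (a b : Fin n) (c : Fin n) (hab : a ≠ b) (hca : c ≠ a) (hcb : c ≠ b) :
    ∃ g : Matrix.SpecialLinearGroup (Fin n) F, (t : Matrix (Fin n) (Fin n) F) * (g : Matrix (Fin n) (Fin n) F) =
      (g : Matrix (Fin n) (Fin n) F) * Matrix.transvection a b 1 := by
  classical
  obtain ⟨hr, hsq⟩ := ht
  set M := (t : Matrix (Fin n) (Fin n) F) - 1 with hMdef
  set N := M.mulVecLin with hN
  have hrN : Module.finrank F (LinearMap.range N) = 1 := hr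
  obtain ⟨w, hw⟩ : ∃ w, N w ≠ 0 := by
    by_contra hc
    push Not at hc
    rw [show N = 0 from LinearMap.ext hc, LinearMap.range_zero, finrank_bot] at hrN
    exact zero_ne_one hrN
  set v := N w with hv
  have hNN : N v = 0 := by
    rw [hv, hN, Matrix.mulVecLin_apply, Matrix.mulVecLin_apply, Matrix.mulVec_mulVec, hsq, Matrix.zero_mulVec]
  set K := LinearMap.ker N with hKdef
  have hK : Module.finrank F K = n - 1 := by
    have := N.finrank_range_add_finrank_ker
    rw [Module.finrank_fin_fun, hrN] at this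
    show Module.finrank F (LinearMap.ker N) = n - 1
    omega
  -- a basis: `v` in position `a`, `w` in position `b`, the rest completing `v` to a basis of the kernel
  obtain ⟨R, hR⟩ := Submodule.exists_isCompl (Submodule.comap K.subtype (Submodule.span F {v}))
  have hR1 : Module.finrank F R = n - 2 := by
    have h1 := Submodule.finrank_add_eq_of_isCompl hR
    have h2 : Module.finrank F (Submodule.comap K.subtype (Submodule.span F {v})) = 1 := by
      rw [(Submodule.comapSubtypeEquivOfLe ((Submodule.span_singleton_le_iff_mem _ _).mpr hNN)).finrank_eq,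
        finrank_span_singleton hw]
    omega
  let rest := {i : Fin n // i ≠ a ∧ i ≠ b}
  have hrest : Fintype.card rest = n - 2 := by
    rw [Fintype.card_subtype, show (Finset.univ.filter fun i => i ≠ a ∧ i ≠ b) = (Finset.univ.erase a).erase b by
      ext; simp [and_comm], Finset.card_erase_of_mem (by simp [hab.symm]), Finset.card_erase_of_mem (Finset.mem_univ _)]
    simp; omega
  haveI : Module.Free F ↥R := Module.Free.of_divisionRing F ↥R
  let bR : Module.Basis rest F R := (Module.finBasisOfFinrankEq F R hR1).reindex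
    (Fintype.equivFinOfCardEq hrest).symm
  let col : Fin n → (Fin n → F) := fun i =>
    if h : i ≠ a ∧ i ≠ b then ((bR ⟨i, h⟩ : K) : Fin n → F) else if i = a then v else w
  have hcola : col a = v := by simp [col]
  have hcolb : col b = w := by simp [col, hab.symm]
  have hcolo : ∀ i (h : i ≠ a ∧ i ≠ b), col i = ((bR ⟨i, h⟩ : K) : Fin n → F) := fun i h => by simp [col, h]
  have hind : LinearIndependent F col := by
    rw [Fintype.linearIndependent_iff]
    intro x hx
    have hsum : x a • v + x b • w + ∑ i : rest, x i • ((bR i : K) : Fin n → F) = 0 := by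
      rw [← hx, ← Finset.sum_erase_add _ _ (Finset.mem_univ a), ← Finset.sum_erase_add _ _
        (Finset.mem_erase.mpr ⟨hab.symm, Finset.mem_univ b⟩), hcola, hcolb]
      rw [show ∑ i ∈ (Finset.univ.erase a).erase b, x i • col i = ∑ i : rest, x i • ((bR i : K) : Fin n → F) from ?_]
      · abel
      · rw [Finset.sum_subtype _ (p := fun i => i ≠ a ∧ i ≠ b) (by intro i; simp [and_comm])]
        exact Finset.sum_congr rfl fun i _ => by rw [hcolo i.1 i.2]
    obtain ⟨e1, e2, e3⟩ := indep_aux N K (fun y hy => LinearMap.mem_ker.mp hy) v w rfl hw hNN R hR.disjoint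
      bR bR.linearIndependent (x a) (x b) (fun i => x (i : Fin n)) hsum
    intro i
    by_cases h1 : i = a
    · rw [h1, e1]
    by_cases h2 : i = b
    · rw [h2, e2]
    exact e3 ⟨i, h1, h2⟩
  let G : Matrix (Fin n) (Fin n) F := Matrix.of fun i j => col j i
  have hG : G.det ≠ 0 := by
    have : LinearIndependent F G.col := hind
    exact ((Matrix.isUnit_iff_isUnit_det _).mp (Matrix.linearIndependent_cols_iff_isUnit.mp this)).ne_zero
  let col' : Fin n → (Fin n → F) := Function.update col c (G.det⁻¹ • col c)
  let G' : Matrix (Fin n) (Fin n) F := Matrix.of fun i j => col' j i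
  have hG' : G'.det = 1 := by
    have : G' = G.updateCol c (G.det⁻¹ • col c) := by
      ext i j
      simp only [G', G, col', Matrix.of_apply, Matrix.updateCol_apply, Function.update_apply]
      split <;> simp_all
    rw [this, Matrix.det_updateCol_smul, show G.updateCol c (col c) = G from Matrix.updateCol_eq_self G c,
      inv_mul_cancel₀ hG]
  have hcol' : ∀ j, N (col' j) = if j = b then col' a else 0 := by
    intro j
    by_cases hjb : j = b
    · subst hjb
      simp [col', Function.update_of_ne hcb.symm, Function.update_of_ne hca.symm, hcola, hcolb, hv]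
    rw [if_neg hjb]
    by_cases hjc : j = c
    · subst hjc
      simp only [col', Function.update_self, map_smul, hcolo j ⟨hca, hcb⟩, LinearMap.mem_ker.mp (bR _ : K).2,
        smul_zero]
    by_cases hja : j = a
    · subst hja
      simp [col', Function.update_of_ne hjc, hcola, hNN]
    simp [col', Function.update_of_ne hjc, hcolo j ⟨hja, hjb⟩, LinearMap.mem_ker.mp (bR ⟨j, hja, hjb⟩ : K).2]
  refine ⟨⟨G', hG'⟩, ?_⟩
  show (t : Matrix (Fin n) (Fin n) F) * G' = G' * _
  rw [show (t : Matrix (Fin n) (Fin n) F) = 1 + M by rw [hMdef]; abel, Matrix.transvection, add_mul,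
    mul_add, one_mul, mul_one]
  congr 1
  ext i j
  have := congrFun (hcol' j) i
  rw [hN, Matrix.mulVecLin_apply] at this
  rw [Matrix.mul_apply]
  refine Eq.trans this ?_
  by_cases hjb : j = b
  · subst hjb
    simp [G']
  · simp [hjb, Matrix.single_apply, Ne.symm hjb]


/-- In SL_n(F) with n ≥ 3, over a finite field F, any two transvections (matrices t with t − 1 of rank one and square zero) are conjugate by an element of SL_n(F). -/
theorem result {F : Type*} [Field F] [Finite F] {n : ℕ} (hn : 3 ≤ n) (s t : Matrix.SpecialLinearGroup (Fin n) F) (hs : Cfsg.IsTransvection (s : Matrix (Fin n) (Fin n) F)) (ht : Cfsg.IsTransvection (t : Matrix (Fin n) (Fin n) F)) : IsConj s t := by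
  have h0 : (⟨0, by omega⟩ : Fin n) ≠ ⟨1, by omega⟩ := by simp
  obtain ⟨g, hg⟩ := exists_normal_frame hn s hs ⟨0, by omega⟩ ⟨1, by omega⟩ ⟨2, by omega⟩ h0 (by simp) (by simp)
  obtain ⟨h, hh⟩ := exists_normal_frame hn t ht ⟨0, by omega⟩ ⟨1, by omega⟩ ⟨2, by omega⟩ h0 (by simp) (by simp)
  let T : Matrix.SpecialLinearGroup (Fin n) F :=
    ⟨Matrix.transvection (⟨0, by omega⟩ : Fin n) ⟨1, by omega⟩ 1, Matrix.det_transvection_of_ne _ _ h0 1⟩
  have h1 : IsConj T s := isConj_iff.mpr ⟨g, by
    rw [mul_inv_eq_iff_eq_mul]; exact Subtype.ext hg.symm⟩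
  have h2 : IsConj T t := isConj_iff.mpr ⟨h, by
    rw [mul_inv_eq_iff_eq_mul]; exact Subtype.ext hh.symm⟩
  exact h1.symm.trans h2

end Cfsg.Agent.S2579
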