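import Cfsg.Statements.S2572
import Cfsg.Agent.S2579

set_option autoImplicit false
open Cfsg

namespace Cfsg.Agent.S2572

theorem exists_normal_frame {F : Type*} [Field F] {n : ℕ}
    (t : Matrix (Fin n) (Fin n) F) (ht : Cfsg.IsTransvection t) (a b : Fin n) (hab : a ≠ b) :
    ∃ g : GL (Fin n) F, t * (g : Matrix (Fin n) (Fin n) F) =
      (g : Matrix (Fin n) (Fin n) F) * Matrix.transvection a b 1 := by
  classical
  obtain ⟨hr, hsq⟩ := ht
  set M := t - 1 with hMdef
  set N := M.mulVecLin with hN
  have hrN : Module.finrank F (LinearMap.range N) = 1 := hr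
  obtain ⟨w, hw⟩ : ∃ w, N w ≠ 0 := by
    by_contra hc
    push Not at hc
    rw [show N = 0 from LinearMap.ext hc, LinearMap.range_zero, finrank_bot] at hrN
    exact zero_ne_one hrN
  set v := N w with hv
  have hNN : N v = 0 := by
    rw [hv, hN, Matrix.mulVecLin_apply, Matrix.mulVecLin_apply, Matrix.mulVec_mulVec, hsq, Matrix.zero_mulVec]
  set K := LinearMap.ker N with hKdef
  have hK : Module.finrank F K = n - 1 := by
    have := N.finrank_range_add_finrank_ker
    rw [Module.finrank_fin_fun, hrN] at this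
    show Module.finrank F (LinearMap.ker N) = n - 1
    omega
  -- a basis: `v` in position `a`, `w` in position `b`, the rest completing `v` to a basis of the kernel
  obtain ⟨R, hR⟩ := Submodule.exists_isCompl (Submodule.comap K.subtype (Submodule.span F {v}))
  have hR1 : Module.finrank F R = n - 2 := by
    have h1 := Submodule.finrank_add_eq_of_isCompl hR
    have h2 : Module.finrank F (Submodule.comap K.subtype (Submodule.span F {v})) = 1 := by
      rw [(Submodule.comapSubtypeEquivOfLe ((Submodule.span_singleton_le_iff_mem _ _).mpr hNN)).finrank_eq,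
        finrank_span_singleton hw]
    omega
  let rest := {i : Fin n // i ≠ a ∧ i ≠ b}
  have hrest : Fintype.card rest = n - 2 := by
    rw [Fintype.card_subtype, show (Finset.univ.filter fun i => i ≠ a ∧ i ≠ b) = (Finset.univ.erase a).erase b by
      ext; simp [and_comm], Finset.card_erase_of_mem (by simp [hab.symm]), Finset.card_erase_of_mem (Finset.mem_univ _)]
    simp; omega
  haveI : Module.Free F ↥R := Module.Free.of_divisionRing F ↥R
  let bR : Module.Basis rest F R := (Module.finBasisOfFinrankEq F R hR1).reindex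
    (Fintype.equivFinOfCardEq hrest).symm
  let col : Fin n → (Fin n → F) := fun i =>
    if h : i ≠ a ∧ i ≠ b then ((bR ⟨i, h⟩ : K) : Fin n → F) else if i = a then v else w
  have hcola : col a = v := by simp [col]
  have hcolb : col b = w := by simp [col, hab.symm]
  have hcolo : ∀ i (h : i ≠ a ∧ i ≠ b), col i = ((bR ⟨i, h⟩ : K) : Fin n → F) := fun i h => by simp [col, h]
  have hind : LinearIndependent F col := by
    rw [Fintype.linearIndependent_iff]
    intro x hx
    have hsum : x a • v + x b • w + ∑ i : rest, x i • ((bR i : K) : Fin n → F) = 0 := by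
      rw [← hx, ← Finset.sum_erase_add _ _ (Finset.mem_univ a), ← Finset.sum_erase_add _ _
        (Finset.mem_erase.mpr ⟨hab.symm, Finset.mem_univ b⟩), hcola, hcolb]
      rw [show ∑ i ∈ (Finset.univ.erase a).erase b, x i • col i = ∑ i : rest, x i • ((bR i : K) : Fin n → F) from ?_]
      · abel
      · rw [Finset.sum_subtype _ (p := fun i => i ≠ a ∧ i ≠ b) (by intro i; simp [and_comm])]
        exact Finset.sum_congr rfl fun i _ => by rw [hcolo i.1 i.2]
    obtain ⟨e1, e2, e3⟩ := S2579.indep_aux N K (fun y hy => LinearMap.mem_ker.mp hy) v w rfl hw hNN R hR.disjoint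
      bR bR.linearIndependent (x a) (x b) (fun i => x (i : Fin n)) hsum
    intro i
    by_cases h1 : i = a
    · rw [h1, e1]
    by_cases h2 : i = b
    · rw [h2, e2]
    exact e3 ⟨i, h1, h2⟩
  let G : Matrix (Fin n) (Fin n) F := Matrix.of fun i j => col j i
  have hG : G.det ≠ 0 := by
    have : LinearIndependent F G.col := hind
    exact ((Matrix.isUnit_iff_isUnit_det _).mp (Matrix.linearIndependent_cols_iff_isUnit.mp this)).ne_zero
  refine ⟨Matrix.GeneralLinearGroup.mkOfDetNeZero G hG, ?_⟩
  show t * G = G * _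
  rw [show t = 1 + M by rw [hMdef]; abel, Matrix.transvection, add_mul, mul_add, one_mul, mul_one]
  congr 1
  have hcol : ∀ j, N (col j) = if j = b then col a else 0 := by
    intro j
    by_cases hjb : j = b
    · subst hjb
      simp [hcola, hcolb, hv]
    rw [if_neg hjb]
    by_cases hja : j = a
    · subst hja
      simp [hcola, hNN]
    simp [hcolo j ⟨hja, hjb⟩, LinearMap.mem_ker.mp (bR ⟨j, hja, hjb⟩ : K).2]
  ext i j
  have := congrFun (hcol j) i
  rw [hN, Matrix.mulVecLin_apply] at this
  rw [Matrix.mul_apply]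
  refine Eq.trans this ?_
  by_cases hjb : j = b
  · subst hjb
    simp [G]
  · simp [hjb, Matrix.single_apply, Ne.symm hjb]

/-- Matrix index: first, middle, last. -/
abbrev Ix (m : ℕ) := (Fin 1 ⊕ Fin m) ⊕ Fin 1

theorem count_normal {F : Type*} [Field F] [Fintype F] (m : ℕ) :
    Nat.card {X : GL (Ix m) F // Commute (X : Matrix (Ix m) (Ix m) F) (Matrix.single (Sum.inl (Sum.inl 0)) (Sum.inr 0) 1)} =
      (Fintype.card F - 1) * Nat.card (GL (Fin m) F) * Fintype.card F ^ (2 * m + 1) := by
  classical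
  set a : Ix m := Sum.inl (Sum.inl 0)
  set b : Ix m := Sum.inr 0
  have key : ∀ X : Matrix (Ix m) (Ix m) F, Commute X (Matrix.single a b 1) →
      (∀ i, i ≠ a → X i a = 0) ∧ (∀ j, j ≠ b → X b j = 0) ∧ X a a = X b b := by
    intro X h
    refine ⟨fun i hi => ?_, fun j hj => ?_, ?_⟩
    · have := congrFun (congrFun h.eq i) b
      simpa [Matrix.mul_apply, Matrix.single_apply, Ne.symm hi, hi] using this
    · have := congrFun (congrFun h.eq a) j
      simpa [Matrix.mul_apply, Matrix.single_apply, Ne.symm hj, hj, eq_comm] using this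
    · have := congrFun (congrFun h.eq a) b
      simpa [Matrix.mul_apply, Matrix.single_apply] using this
  let mk : Fˣ × GL (Fin m) F × (Fin m → F) × (Fin m → F) × F → Matrix (Ix m) (Ix m) F := fun p =>
    Matrix.fromBlocks (Matrix.fromBlocks ((p.1 : F) • (1 : Matrix (Fin 1) (Fin 1) F)) (Matrix.of fun _ j => p.2.2.1 j) 0 (p.2.1 : Matrix (Fin m) (Fin m) F))
      (Matrix.of fun i _ => Sum.elim (fun _ => p.2.2.2.2) p.2.2.2.1 i) 0 ((p.1 : F) • (1 : Matrix (Fin 1) (Fin 1) F))
  have hdet : ∀ p, (mk p).det ≠ 0 := by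
    intro p
    simp only [mk, Matrix.det_fromBlocks_zero₂₁, Matrix.det_smul, Matrix.det_one, Fintype.card_fin, pow_one, mul_one]
    exact mul_ne_zero (mul_ne_zero p.1.ne_zero ((Matrix.isUnit_iff_isUnit_det _).mp p.2.1.isUnit).ne_zero) p.1.ne_zero
  have hcomm : ∀ p, Commute (mk p) (Matrix.single a b 1) := by
    intro p
    show mk p * Matrix.single a b 1 = Matrix.single a b 1 * mk p
    ext i j
    simp only [Matrix.mul_apply, Matrix.single_apply, mk, a, b]
    rcases i with (i | i) | i <;> rcases j with (j | j) | j <;> simp [Fin.fin_one_eq_zero]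
  rw [← Nat.card_congr (Equiv.ofBijective (fun p => (⟨Matrix.GeneralLinearGroup.mkOfDetNeZero (mk p) (hdet p), hcomm p⟩ :
    {X : GL (Ix m) F // Commute (X : Matrix (Ix m) (Ix m) F) (Matrix.single a b 1)})) ⟨?_, ?_⟩)]
  · simp only [Nat.card_prod, Nat.card_pi, Finset.prod_const, Finset.card_univ, Fintype.card_fin]
    rw [Nat.card_units, Nat.card_eq_fintype_card]
    ring
  · intro p p' h
    have h' : mk p = mk p' := congrArg (fun X : {X : GL (Ix m) F // Commute (X : Matrix (Ix m) (Ix m) F) (Matrix.single a b 1)} =>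
      ((X : GL (Ix m) F) : Matrix (Ix m) (Ix m) F)) h
    simp only [mk, Matrix.fromBlocks_inj] at h'
    obtain ⟨⟨h1, h2, -, h3⟩, h4, -, -⟩ := h'
    refine Prod.ext (Units.ext (by simpa using congrFun (congrFun h1 0) 0)) (Prod.ext (Units.ext h3) (Prod.ext ?_ (Prod.ext ?_ ?_)))
    · exact funext fun j => congrFun (congrFun h2 0) j
    · exact funext fun i => congrFun (congrFun h4 (Sum.inr i)) 0
    · exact congrFun (congrFun h4 (Sum.inl 0)) 0
  · rintro ⟨X, hX⟩
    obtain ⟨h1, h2, h3⟩ := key _ hX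
    set M := (X : Matrix (Ix m) (Ix m) F)
    let A : Matrix (Fin m) (Fin m) F := Matrix.of fun i j => M (Sum.inl (Sum.inr i)) (Sum.inl (Sum.inr j))
    have hM : M = Matrix.fromBlocks (Matrix.fromBlocks (M a a • (1 : Matrix (Fin 1) (Fin 1) F)) (Matrix.of fun _ j => M a (Sum.inl (Sum.inr j))) 0 A)
        (Matrix.of fun i _ => Sum.elim (fun _ => M a b) (fun i => M (Sum.inl (Sum.inr i)) b) i) 0 (M a a • (1 : Matrix (Fin 1) (Fin 1) F)) := by
      ext i j
      rcases i with (i | i) | i <;> rcases j with (j | j) | j <;>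
        simp [Fin.fin_one_eq_zero, A, a, b, h1, h2, h3]
    have hd : M.det ≠ 0 := ((Matrix.isUnit_iff_isUnit_det _).mp X.isUnit).ne_zero
    rw [hM] at hd
    simp only [Matrix.det_fromBlocks_zero₂₁, Matrix.det_smul, Matrix.det_one, Fintype.card_fin, pow_one, mul_one,
      mul_ne_zero_iff] at hd
    exact ⟨(Units.mk0 (M a a) hd.2, Matrix.GeneralLinearGroup.mkOfDetNeZero A hd.1.2, fun j => M a (Sum.inl (Sum.inr j)),
      fun i => M (Sum.inl (Sum.inr i)) b, M a b), Subtype.ext (Units.ext hM.symm)⟩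


/-- Centraliser of a transvection in GL_n(q), n ≥ 2: if t − 1 has rank one and square zero, the centraliser of t in GL_n(q) has order q^(2n−3) (q − 1) |GL_(n−2)(q)| (a group of order q^(2n−3) extended by GL_1(q) × GL_(n−2)(q)). -/
theorem result {F : Type*} [Field F] [Fintype F] {q n : ℕ} (hF : Fintype.card F = q) (hn : 2 ≤ n) (t : GL (Fin n) F) (ht : Cfsg.IsTransvection (t : Matrix (Fin n) (Fin n) F)) : Nat.card ↥(Subgroup.centralizer ({t} : Set (GL (Fin n) F))) = q ^ (2 * n - 3) * (q - 1) * ∏ i : Fin (n - 2), (q ^ (n - 2) - q ^ (i : ℕ)) := by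
  classical
  obtain ⟨m, rfl⟩ : ∃ m, n = 1 + m + 1 := ⟨n - 2, by omega⟩
  let e : Ix m ≃ Fin (1 + m + 1) := (finSumFinEquiv.sumCongr (Equiv.refl (Fin 1))).trans finSumFinEquiv
  set a := e (Sum.inl (Sum.inl 0))
  set b := e (Sum.inr 0)
  have hab : a ≠ b := e.injective.ne (by simp)
  obtain ⟨g, hg⟩ := exists_normal_frame (t : Matrix (Fin (1 + m + 1)) (Fin (1 + m + 1)) F) ht a b hab
  let R : GL (Ix m) F ≃* GL (Fin (1 + m + 1)) F := Units.mapEquiv (Matrix.reindexAlgEquiv F F e).toMulEquiv
  have hR : Matrix.reindexAlgEquiv F F e (Matrix.single (Sum.inl (Sum.inl 0)) (Sum.inr 0) 1) = Matrix.single a b 1 := by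
    ext i j
    obtain ⟨i, rfl⟩ := e.surjective i
    obtain ⟨j, rfl⟩ := e.surjective j
    simp [Matrix.single_apply, a, b]
  let E : {X : GL (Ix m) F // Commute (X : Matrix (Ix m) (Ix m) F) (Matrix.single (Sum.inl (Sum.inl 0)) (Sum.inr 0) 1)} ≃
      ↥(Subgroup.centralizer ({t} : Set (GL (Fin (1 + m + 1)) F))) :=
    (R.trans (MulAut.conj g)).toEquiv.subtypeEquiv fun X => by
      rw [Subgroup.mem_centralizer_singleton_iff]
      have ht' : t = g * Matrix.GeneralLinearGroup.mkOfDetNeZero (Matrix.transvection a b 1)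
          (by rw [Matrix.det_transvection_of_ne _ _ hab]; exact one_ne_zero) * g⁻¹ := by
        rw [eq_mul_inv_iff_mul_eq]; exact Units.ext hg
      show _ ↔ g * R X * g⁻¹ * t = t * (g * R X * g⁻¹)
      rw [ht']
      simp only [mul_assoc, inv_mul_cancel_left, mul_right_inj]
      simp only [← mul_assoc, mul_left_inj]
      rw [Units.ext_iff, Units.val_mul, Units.val_mul]
      show _ ↔ (Matrix.reindexAlgEquiv F F e (X : Matrix (Ix m) (Ix m) F)) * Matrix.transvection a b 1 =
        Matrix.transvection a b 1 * (Matrix.reindexAlgEquiv F F e (X : Matrix (Ix m) (Ix m) F))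
      rw [Matrix.transvection, mul_add, add_mul, mul_one, one_mul, add_right_inj, ← hR, ← map_mul, ← map_mul]
      exact ((Matrix.reindexAlgEquiv F F e).injective.eq_iff).symm
  rw [← Nat.card_congr E, count_normal, Matrix.card_GL_field, hF, show 2 * (1 + m + 1) - 3 = 2 * m + 1 by omega,
    show 1 + m + 1 - 2 = m by omega]
  ring

end Cfsg.Agent.S2572
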