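import Cfsg.Statements.S2573
-- import your own Cfsg.Agent.* helpers here

set_option autoImplicit false
open Cfsg

namespace Cfsg.Agent.S2573

lemma finrank_ker_pow_le {F V : Type*} [Field F] [AddCommGroup V] [Module F V] [FiniteDimensional F V]
    (f : Module.End F V) (k : ℕ) :
    Module.finrank F (LinearMap.ker (f ^ k)) ≤ k * Module.finrank F (LinearMap.ker f) := by
  induction k with
  | zero =>
    rw [pow_zero, show LinearMap.ker (1 : Module.End F V) = ⊥ from LinearMap.ker_id, finrank_bot]
    exact Nat.zero_le _
  | succ k ih =>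
    let r : LinearMap.ker (f ^ (k + 1)) →ₗ[F] V := f ∘ₗ (LinearMap.ker (f ^ (k + 1))).subtype
    have h := r.finrank_range_add_finrank_ker
    have h1 : Module.finrank F (LinearMap.range r) ≤ Module.finrank F (LinearMap.ker (f ^ k)) := by
      refine Submodule.finrank_mono ?_
      rintro _ ⟨x, rfl⟩
      rw [LinearMap.mem_ker]
      show (f ^ k) (f x) = 0
      rw [← Module.End.mul_apply, ← pow_succ]
      exact x.2
    have h2 : Module.finrank F (LinearMap.ker r) ≤ Module.finrank F (LinearMap.ker f) := by
      refine LinearMap.finrank_le_finrank_of_injective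
        (f := LinearMap.codRestrict (LinearMap.ker f) ((LinearMap.ker (f ^ (k + 1))).subtype ∘ₗ (LinearMap.ker r).subtype)
          fun x => LinearMap.mem_ker.mpr x.2) ?_
      intro a b hab
      exact Subtype.ext (Subtype.ext (congrArg Subtype.val hab :))
    calc Module.finrank F (LinearMap.ker (f ^ (k + 1))) ≤ k * Module.finrank F (LinearMap.ker f) + Module.finrank F (LinearMap.ker f) := by omega
      _ = (k + 1) * Module.finrank F (LinearMap.ker f) := by ring

lemma invariant_eq_ker_pow {F V : Type*} [Field F] [AddCommGroup V] [Module F V] [FiniteDimensional F V]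
    (f : Module.End F V) {N : ℕ} (hf : f ^ N = 0) (h1 : Module.finrank F (LinearMap.ker f) ≤ 1)
    (W : Submodule F V) (hW : ∀ v ∈ W, f v ∈ W) :
    W = LinearMap.ker (f ^ Module.finrank F W) := by
  have hnil : IsNilpotent (f.restrict hW) := ⟨N, by
    rw [Module.End.pow_restrict]
    ext x
    simp [hf]⟩
  have h := (f.restrict hW).charpoly.natDegree
  have hcp : (f.restrict hW) ^ Module.finrank F W = 0 := by
    obtain ⟨m, hm⟩ := hnil
    have := IsNilpotent.charpoly_eq_X_pow_finrank (φ := f.restrict hW) ⟨m, hm⟩
    have h2 := LinearMap.aeval_self_charpoly (f.restrict hW)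
    rw [this, map_pow, Polynomial.aeval_X] at h2
    exact h2
  have hle : W ≤ LinearMap.ker (f ^ Module.finrank F W) := by
    intro x hx
    rw [Module.End.pow_restrict] at hcp
    exact LinearMap.mem_ker.mpr (congrArg Subtype.val (LinearMap.congr_fun hcp ⟨x, hx⟩) :)
  refine Submodule.eq_of_le_of_finrank_le hle ?_
  calc Module.finrank F (LinearMap.ker (f ^ Module.finrank F W))
      ≤ Module.finrank F W * Module.finrank F (LinearMap.ker f) := finrank_ker_pow_le f _
    _ ≤ Module.finrank F W * 1 := Nat.mul_le_mul_left _ h1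
    _ = Module.finrank F W := Nat.mul_one _


/-- The invariant subspaces of a regular unipotent matrix form a chain: over a finite field, if u is an n × n matrix with (u − 1)^n = 0 and rank(u − 1) = n − 1, then every subspace W of F^n with u W ⊆ W is the kernel of (u − 1)^(dim W); so u has at most one invariant subspace of each dimension. -/
theorem result {F : Type*} [Field F] [Finite F] {n : ℕ} (u : Matrix (Fin n) (Fin n) F) (hnil : (u - 1) ^ n = 0) (hreg : (u - 1).rank = n - 1) (W : Submodule F (Fin n → F)) (hW : ∀ v ∈ W, u.mulVec v ∈ W) : W = LinearMap.ker (Matrix.mulVecLin ((u - 1) ^ Module.finrank F W)) := by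
  have hker : Module.finrank F (LinearMap.ker (Matrix.mulVecLin (u - 1))) ≤ 1 := by
    have h := (Matrix.mulVecLin (u - 1)).finrank_range_add_finrank_ker
    rw [Module.finrank_fin_fun] at h
    rw [Matrix.rank] at hreg
    omega
  have hpow : ∀ k, Matrix.mulVecLin ((u - 1) ^ k) = Matrix.mulVecLin (u - 1) ^ k := fun k =>
    map_pow (Matrix.toLinAlgEquiv' (R := F) (n := Fin n)) (u - 1) k
  rw [hpow]
  refine invariant_eq_ker_pow _ (N := n) (by rw [← hpow, hnil, Matrix.mulVecLin_zero]) hker W ?_
  intro v hv
  rw [Matrix.mulVecLin_apply, Matrix.sub_mulVec, Matrix.one_mulVec]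
  exact W.sub_mem (hW v hv) hv

end Cfsg.Agent.S2573
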