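import Cfsg.Statements.S2574
import Cfsg.Agent.KnownSimple58.RegularNilpotent
import Cfsg.Agent.Lib.Symplectic.Basic

set_option autoImplicit false
open Cfsg

namespace Cfsg.Agent.S2574

theorem orth_le {F : Type*} [Field F] {ι : Type*} [Fintype ι] [DecidableEq ι] (f : Module.End F (ι → F))
    {N : ℕ} (hf : f ^ N = 0) (h1 : Module.finrank F (LinearMap.ker f) ≤ 1)
    (W U : Submodule F (ι → F)) (hW : ∀ v ∈ W, f v ∈ W) (hU : ∀ v ∈ U, f v ∈ U)
    (hd : Module.finrank F W ≤ Module.finrank F U) : W ≤ U := by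
  rw [KS58.invariant_eq_ker_pow f hf h1 W hW, KS58.invariant_eq_ker_pow f hf h1 U hU]
  intro x hx
  obtain ⟨d, hd'⟩ := Nat.exists_eq_add_of_le hd
  rw [LinearMap.mem_ker] at hx ⊢
  rw [hd', add_comm, pow_add, Module.End.mul_apply, hx, map_zero]


/-- A regular unipotent element of the symplectic group has totally isotropic small invariant subspaces: over a finite field, if u ∈ Sp_2m(F) satisfies (u − 1)^(2m) = 0 and rank(u − 1) = 2m − 1, and W is a u-invariant subspace with 2 dim W ≤ 2m, then the alternating form vanishes identically on W. -/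
theorem result {F : Type*} [Field F] [Finite F] {m : ℕ} (u : Matrix.symplecticGroup (Fin m) F) (hnil : ((u : Matrix (Fin m ⊕ Fin m) (Fin m ⊕ Fin m) F) - 1) ^ (2 * m) = 0) (hreg : ((u : Matrix (Fin m ⊕ Fin m) (Fin m ⊕ Fin m) F) - 1).rank = 2 * m - 1) (W : Submodule F (Fin m ⊕ Fin m → F)) (hW : ∀ v ∈ W, (u : Matrix (Fin m ⊕ Fin m) (Fin m ⊕ Fin m) F).mulVec v ∈ W) (hdim : 2 * Module.finrank F W ≤ 2 * m) : ∀ v ∈ W, ∀ w ∈ W, Cfsg.sympForm m F v w = 0 := by
  classical
  set M := (u : Matrix (Fin m ⊕ Fin m) (Fin m ⊕ Fin m) F) with hM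
  set f := (M - 1).mulVecLin with hf
  have hfnil : f ^ (2 * m) = 0 := by
    rw [hf, show (M - 1).mulVecLin ^ (2 * m) = ((M - 1) ^ (2 * m)).mulVecLin from
      (map_pow (Matrix.toLinAlgEquiv' (R := F) (n := Fin m ⊕ Fin m)) (M - 1) (2 * m)).symm, hnil, Matrix.mulVecLin_zero]
  have hker : Module.finrank F (LinearMap.ker f) ≤ 1 := by
    have h := f.finrank_range_add_finrank_ker
    have hd : Module.finrank F (Fin m ⊕ Fin m → F) = 2 * m := by
      rw [Module.finrank_pi, Fintype.card_sum, Fintype.card_fin]; omega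
    rw [Matrix.rank] at hreg
    rw [hd, show f.range = ((M - 1).mulVecLin).range from rfl, hreg] at h
    omega
  let B : LinearMap.BilinForm F (Fin m ⊕ Fin m → F) := Matrix.toBilin' (Matrix.J (Fin m) F)
  have hB : ∀ x y, B x y = Cfsg.sympForm m F x y := fun x y => Matrix.toBilin'_apply' _ _ _
  have hBn : B.Nondegenerate :=
    LinearMap.BilinForm.nondegenerate_toBilin'_iff_det_ne_zero.mpr (Matrix.isUnit_det_J (Fin m) F).ne_zero
  have hd : Module.finrank F (B.orthogonal W) = 2 * m - Module.finrank F W := by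
    rw [LinearMap.BilinForm.finrank_orthogonal hBn, Module.finrank_pi, Fintype.card_sum, Fintype.card_fin]
    omega
  have hinj : Function.Injective M.mulVecLin := by
    rw [Matrix.coe_mulVecLin]
    exact Matrix.mulVec_injective_iff_isUnit.mpr ((Group.isUnit u).map (Matrix.symplecticGroup (Fin m) F).subtype)
  have hsurj : ∀ w ∈ W, ∃ w' ∈ W, M.mulVec w' = w := by
    intro w hw
    have h : LinearMap.range (M.mulVecLin.restrict (fun v hv => hW v hv)) = ⊤ :=
      LinearMap.range_eq_top.mpr (LinearMap.surjective_of_injective fun a b hab =>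
        Subtype.ext (hinj (congrArg Subtype.val hab)))
    obtain ⟨w', hw'⟩ := (LinearMap.range_eq_top.mp h) ⟨w, hw⟩
    exact ⟨w'.1, w'.2, congrArg Subtype.val hw'⟩
  have hle : W ≤ B.orthogonal W := by
    refine orth_le f hfnil hker W (B.orthogonal W) ?_ ?_ (by rw [hd]; omega)
    · intro v hv
      rw [hf, Matrix.mulVecLin_apply, Matrix.sub_mulVec, Matrix.one_mulVec]
      exact W.sub_mem (hW v hv) hv
    · intro v hv
      rw [hf, Matrix.mulVecLin_apply, Matrix.sub_mulVec, Matrix.one_mulVec]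
      refine Submodule.sub_mem _ ?_ hv
      rw [LinearMap.BilinForm.mem_orthogonal_iff] at hv ⊢
      intro w hw
      obtain ⟨w', hw', rfl⟩ := hsurj w hw
      show B (M.mulVec w') (M.mulVec v) = 0
      rw [hB, (Symplectic.mem_iff_form M).mp u.2, ← hB]
      exact hv w' hw'
  intro v hv w hw
  rw [← hB]
  exact (LinearMap.BilinForm.mem_orthogonal_iff.mp (hle hw)) v hv

end Cfsg.Agent.S2574
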