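import Cfsg.Statements.S2575
-- import your own Cfsg.Agent.* helpers here

set_option autoImplicit false
open Cfsg

namespace Cfsg.Agent.S2575



/-- Which diagonal involutions of PGL_n(q) lie in PSL_n(q), q odd: for the diagonal matrix t with i entries −1 and n − i entries 1, some non-zero scalar multiple of t has determinant one if and only if i is even or the 2-part of q − 1 exceeds the 2-part of n (that is, −1 is an n-th power in the field exactly in the latter case). -/
theorem result {F : Type*} [Field F] [Fintype F] {q : ℕ} (hF : Fintype.card F = q) (hq : Odd q) {n : ℕ} (hn : 1 ≤ n) (i : ℕ) (hi : i ≤ n) : (∃ c : F, c ≠ 0 ∧ (c • Matrix.diagonal (fun j : Fin n => if (j : ℕ) < i then (-1 : F) else 1)).det = 1) ↔ (Even i ∨ padicValNat 2 n < padicValNat 2 (q - 1)) := by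
  classical
  have h2 : (2 : F) ≠ 0 := by
    intro h
    have h' : ringChar F = 2 := CharP.ringChar_of_prime_eq_zero Nat.prime_two h
    have := FiniteField.even_card_iff_char_two.mp h'
    rw [hF] at this
    rcases hq with ⟨k, rfl⟩
    omega
  have hne : (-1 : F) ≠ 1 := fun h => h2 (by linear_combination -h)
  have hdet : ∀ c : F, (c • Matrix.diagonal (fun j : Fin n => if (j : ℕ) < i then (-1 : F) else 1)).det = c ^ n * (-1) ^ i := by
    intro c
    rw [Matrix.det_smul, Matrix.det_diagonal, Fintype.card_fin, Finset.prod_ite, Finset.prod_const_one, mul_one, Finset.prod_const]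
    congr 2
    have : (Finset.univ.filter fun j : Fin n => (j : ℕ) < i) = (Finset.univ : Finset (Fin i)).map (Fin.castLEEmb hi) := by
      ext j
      simp only [Finset.mem_filter, Finset.mem_univ, true_and, Finset.mem_map]
      exact ⟨fun h => ⟨⟨j, h⟩, rfl⟩, fun ⟨a, ha⟩ => ha ▸ a.2⟩
    rw [this, Finset.card_map, Finset.card_univ, Fintype.card_fin]
  simp only [hdet]
  rcases Nat.even_or_odd i with hev | hod
  · simp only [hev, true_or, iff_true]
    exact ⟨1, one_ne_zero, by simp [hev.neg_one_pow]⟩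
  simp only [Nat.not_even_iff_odd.mpr hod, false_or, hod.neg_one_pow, mul_neg, mul_one, neg_eq_iff_eq_neg]
  have hq1 : q - 1 ≠ 0 := by
    have := Fintype.one_lt_card (α := F); omega
  obtain ⟨ζ, hζ⟩ := IsCyclic.exists_generator (α := Fˣ)
  have hord : orderOf ζ = q - 1 := by
    rw [orderOf_eq_card_of_forall_mem_zpowers hζ, Nat.card_eq_fintype_card, Fintype.card_units, hF]
  have hneu : (-1 : Fˣ) ≠ 1 := fun h => hne (by simpa using congrArg Units.val h)
  have hsq : ∀ x : Fˣ, x ^ 2 = 1 → x ≠ 1 → x = -1 := by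
    intro x hx hx1
    have : (x : F) * x = 1 := by rw [← sq, ← Units.val_pow_eq_pow_val, hx]; rfl
    rcases mul_self_eq_one_iff.mp this with h | h
    · exact absurd (Units.ext h) hx1
    · exact Units.ext (by simp [h])
  obtain ⟨m', hm'⟩ : ∃ m', n = 2 ^ padicValNat 2 n * m' := pow_padicValNat_dvd
  obtain ⟨o, ho⟩ : ∃ o, q - 1 = 2 ^ padicValNat 2 (q - 1) * o := pow_padicValNat_dvd
  have hom : Odd m' := by
    refine Nat.not_even_iff_odd.mp fun ⟨k, hk⟩ => pow_succ_padicValNat_not_dvd (p := 2) (by omega : n ≠ 0) ⟨k, ?_⟩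
    rw [hm'] ; conv_lhs => rw [hk]
    rw [← hm']; ring
  have hoo : Odd o := by
    refine Nat.not_even_iff_odd.mp fun ⟨k, hk⟩ => pow_succ_padicValNat_not_dvd (p := 2) hq1 ⟨k, ?_⟩
    rw [ho] ; conv_lhs => rw [hk]
    rw [← ho]; ring
  generalize padicValNat 2 n = a at hm' ⊢
  generalize padicValNat 2 (q - 1) = e at ho ⊢
  constructor
  · rintro ⟨c, hc0, hc⟩
    by_contra hle
    obtain ⟨d, rfl⟩ := Nat.exists_eq_add_of_le (not_lt.mp hle)
    have h1 : (c ^ n) ^ o = 1 := by
      rw [← pow_mul, show n * o = (q - 1) * (2 ^ d * m') by rw [hm', ho]; ring, pow_mul, ← hF,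
        FiniteField.pow_card_sub_one_eq_one c hc0, one_pow]
    rw [hc, hoo.neg_one_pow] at h1
    exact hne h1
  · intro hlt
    obtain ⟨d, rfl⟩ := Nat.exists_eq_add_of_lt hlt
    refine ⟨((ζ ^ (2 ^ d * o) : Fˣ) : F), Units.ne_zero _, ?_⟩
    have hy : (ζ ^ (2 ^ d * o * 2 ^ a)) = -1 := by
      apply hsq
      · rw [← pow_mul, show 2 ^ d * o * 2 ^ a * 2 = q - 1 by rw [ho]; ring, ← hord, pow_orderOf_eq_one]
      · intro h
        have := Nat.le_of_dvd ?_ (orderOf_dvd_of_pow_eq_one h)
        · rw [hord, ho, show 2 ^ (a + d + 1) * o = 2 * (2 ^ d * o * 2 ^ a) by ring] at this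
          have : 0 < 2 ^ d * o * 2 ^ a := by have := hoo.pos; positivity
          omega
        · have := hoo.pos; positivity
    rw [← Units.val_pow_eq_pow_val, hm', ← pow_mul, show 2 ^ d * o * (2 ^ a * m') = 2 ^ d * o * 2 ^ a * m' by ring,
      pow_mul, hy, hom.neg_one_pow]
    simp

end Cfsg.Agent.S2575
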