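import Cfsg.Statements.S2576
-- import your own Cfsg.Agent.* helpers here

set_option autoImplicit false
open Cfsg

namespace Cfsg.Agent.S2576



/-- Which involutions of PGL_2m(q) coming from a scalar of the quadratic extension field lie in PSL_2m(q), q odd: let μ generate the Sylow 2-subgroup of the multiplicative group of the field with q elements (μ has order the 2-part of q − 1) and let t be the block-diagonal matrix with m diagonal blocks [[0, 1], [μ, 0]] (so t² is the scalar μ and t is an involution modulo scalars). Then some non-zero scalar multiple of t has determinant one if and only if q ≡ 3 (mod 4) or the 2-part of q − 1 is less than the 2-part of 2m. -/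
theorem result {F : Type*} [Field F] [Fintype F] {q : ℕ} (hF : Fintype.card F = q) (hq : Odd q) {m : ℕ} (hm : 1 ≤ m) (μ : F) (hμ : orderOf μ = 2 ^ padicValNat 2 (q - 1)) : (∃ c : F, c ≠ 0 ∧ (c • Matrix.blockDiagonal (fun _ : Fin m => !![(0 : F), 1; μ, 0])).det = 1) ↔ (q % 4 = 3 ∨ padicValNat 2 (q - 1) < padicValNat 2 (2 * m)) := by
  classical
  set e := padicValNat 2 (q - 1) with he
  have hq1 : q - 1 ≠ 0 := by
    have := Fintype.one_lt_card (α := F); omega
  have he1 : 1 ≤ e := one_le_padicValNat_of_dvd hq1 (by obtain ⟨k, rfl⟩ := hq; omega)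
  have hμ0 : μ ≠ 0 := by
    intro h; rw [h, orderOf_zero] at hμ; exact (pow_ne_zero e two_ne_zero) hμ.symm
  have hdet : ∀ c : F, (c • Matrix.blockDiagonal (fun _ : Fin m => !![(0 : F), 1; μ, 0])).det = c ^ (2 * m) * (-μ) ^ m := by
    intro c
    rw [Matrix.det_smul, Matrix.det_blockDiagonal]
    simp [Matrix.det_fin_two]
  simp only [hdet]
  rw [padicValNat.mul (by norm_num) (by omega : m ≠ 0), padicValNat_self]
  have h4 : q % 4 = 3 ↔ e = 1 := by
    constructor
    · intro h
      by_contra hne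
      have : 2 ^ 2 ∣ q - 1 := (pow_dvd_pow 2 (by omega : 2 ≤ e)).trans pow_padicValNat_dvd
      omega
    · intro h
      have := pow_succ_padicValNat_not_dvd (p := 2) hq1
      rw [← he, h] at this
      obtain ⟨k, rfl⟩ := hq
      omega
  obtain ⟨m', hm'⟩ : ∃ m', m = 2 ^ padicValNat 2 m * m' := pow_padicValNat_dvd
  obtain ⟨o, ho⟩ : ∃ o, q - 1 = 2 ^ e * o := pow_padicValNat_dvd
  have hom : Odd m' := by
    refine Nat.not_even_iff_odd.mp fun ⟨k, hk⟩ => pow_succ_padicValNat_not_dvd (p := 2) (by omega : m ≠ 0) ⟨k, ?_⟩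
    rw [hm'] ; conv_lhs => rw [hk]
    rw [← hm']; ring
  have hoo : Odd o := by
    refine Nat.not_even_iff_odd.mp fun ⟨k, hk⟩ => pow_succ_padicValNat_not_dvd (p := 2) hq1 ⟨k, ?_⟩
    rw [← he, ho] ; conv_lhs => rw [hk]
    ring
  rw [h4]
  generalize padicValNat 2 m = a at hm' ⊢
  clear_value e
  constructor
  · rintro ⟨c, hc0, hc⟩
    by_contra hh
    obtain ⟨h1, h2⟩ := not_or.mp hh
    obtain ⟨d, hd⟩ := Nat.exists_eq_add_of_le (by omega : a + 1 ≤ e)
    have h3 : ((-μ) ^ m) ^ (o * 2 ^ d) = 1 := by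
      have := congrArg (· ^ (o * 2 ^ d)) hc
      simp only [mul_pow, one_pow, ← pow_mul] at this
      rw [show 2 * m * (o * 2 ^ d) = (q - 1) * m' by rw [hm', ho, hd]; ring, pow_mul c, ← hF,
        FiniteField.pow_card_sub_one_eq_one c hc0, one_pow, one_mul] at this
      rw [← pow_mul]; exact this
    rw [← pow_mul, show m * (o * 2 ^ d) = 2 ^ (e - 1) * (m' * o) by
      rw [hm', hd, show a + 1 + d - 1 = a + d by omega]; ring, pow_mul,
      (Nat.even_pow.mpr ⟨even_two, by omega⟩ : Even (2 ^ (e - 1))).neg_pow, ← pow_mul] at h3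
    have h5 := orderOf_dvd_of_pow_eq_one h3
    rw [hμ, show 2 ^ e = 2 ^ (e - 1) * 2 by rw [← pow_succ]; congr 1; omega] at h5
    have := Nat.dvd_of_mul_dvd_mul_left (by positivity) h5
    exact Nat.not_even_iff_odd.mpr (hom.mul hoo) (even_iff_two_dvd.mpr this)
  · intro h
    refine ⟨1, one_ne_zero, ?_⟩
    rw [one_pow, one_mul]
    rcases h with h | h
    · have : μ = -1 := by
        have h1 : μ ^ 2 = 1 := by rw [← pow_one 2, ← h, ← hμ, pow_orderOf_eq_one]
        rcases sq_eq_one_iff.mp h1 with h | h'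
        · rw [h, orderOf_one] at hμ; rename_i he'; rw [he'] at hμ; norm_num at hμ
        · exact h'
      rw [this, neg_neg, one_pow]
    · have hdvd : 2 ^ e ∣ m := by
        rw [hm']; exact (pow_dvd_pow 2 (by omega)).mul_right _
      have hev : Even m := even_iff_two_dvd.mpr ((dvd_pow_self 2 (by omega : e ≠ 0)).trans hdvd)
      rw [hev.neg_pow, ← orderOf_dvd_iff_pow_eq_one, hμ]
      exact hdvd

end Cfsg.Agent.S2576
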