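import Cfsg.Statements.S2578
import Cfsg.Agent.KnownSimple58.RegularNilpotent

set_option autoImplicit false
open Cfsg

namespace Cfsg.Agent.S2578

open KS58


/-- Regular unipotent classes of SL_n(q): for n ≥ 2 over the field with q elements, the matrices u of determinant one with (u − 1)^n = 0 and rank(u − 1) = n − 1 form a single GL_n(q)-class which splits into exactly gcd(n, q − 1) conjugacy classes of SL_n(q). -/
theorem result {F : Type*} [Field F] [Fintype F] {q : ℕ} (hF : Fintype.card F = q) {n : ℕ} (hn : 2 ≤ n) : Nat.card {C : ConjClasses (Matrix.SpecialLinearGroup (Fin n) F) // ∃ u : Matrix.SpecialLinearGroup (Fin n) F, ConjClasses.mk u = C ∧ ((u : Matrix (Fin n) (Fin n) F) - 1) ^ n = 0 ∧ ((u : Matrix (Fin n) (Fin n) F) - 1).rank = n - 1} = Nat.gcd n (q - 1) := by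
  classical
  haveI : Nonempty (Fin n) := ⟨⟨0, by omega⟩⟩
  have h0 : (1 + shift F n).det = 1 := by
    rw [Matrix.det_of_lowerTriangular]
    · refine Finset.prod_eq_one fun i _ => ?_
      simp [shift]
    · intro i j h
      have hij : i < j := h
      have : (i : ℕ) ≠ (j : ℕ) + 1 := by have : (i : ℕ) < j := hij; omega
      simp [shift, this, ne_of_lt hij]
  let u0 : Matrix.SpecialLinearGroup (Fin n) F := ⟨1 + shift F n, h0⟩
  let P := (powMonoidHom n : Fˣ →* Fˣ).range
  choose γ hγ using fun x : Fˣ => Matrix.GeneralLinearGroup.det_surjective (n := Fin n) x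
  -- conjugates of `u0` in `SL`
  let cj : GL (Fin n) F → Matrix.SpecialLinearGroup (Fin n) F := fun g =>
    ⟨(g : Matrix (Fin n) (Fin n) F) * (1 + shift F n) * ((g⁻¹ : GL (Fin n) F) : Matrix (Fin n) (Fin n) F), by
      rw [Matrix.det_units_conj, h0]⟩
  have hcj : ∀ g : GL (Fin n) F, ((cj g : Matrix.SpecialLinearGroup (Fin n) F) : Matrix (Fin n) (Fin n) F) - 1 =
      (g : Matrix (Fin n) (Fin n) F) * shift F n * ((g⁻¹ : GL (Fin n) F) : Matrix (Fin n) (Fin n) F) := by
    intro g
    show (g : Matrix (Fin n) (Fin n) F) * (1 + shift F n) * _ - 1 = _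
    rw [mul_add, add_mul, mul_one, Units.mul_inv]
    abel
  have hreg : ∀ g : GL (Fin n) F, ((cj g : Matrix (Fin n) (Fin n) F) - 1) ^ n = 0 ∧
      ((cj g : Matrix (Fin n) (Fin n) F) - 1).rank = n - 1 := by
    intro g
    obtain ⟨h1, h2⟩ := isRegNil_shift F n
    rw [hcj]
    refine ⟨by rw [Units.conj_pow, h1, mul_zero, zero_mul], ?_⟩
    rw [Matrix.rank_mul_eq_left_of_isUnit_det _ _ ((Matrix.isUnit_iff_isUnit_det _).mp (g⁻¹).isUnit),
      Matrix.rank_mul_eq_right_of_isUnit_det _ _ ((Matrix.isUnit_iff_isUnit_det _).mp g.isUnit), h2]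
  let Ψ : Fˣ ⧸ P → {C : ConjClasses (Matrix.SpecialLinearGroup (Fin n) F) // ∃ u : Matrix.SpecialLinearGroup (Fin n) F,
      ConjClasses.mk u = C ∧ ((u : Matrix (Fin n) (Fin n) F) - 1) ^ n = 0 ∧ ((u : Matrix (Fin n) (Fin n) F) - 1).rank = n - 1} :=
    fun d => ⟨ConjClasses.mk (cj (γ d.out)), cj (γ d.out), rfl, hreg _⟩
  -- two conjugates are `SL`-conjugate exactly when the determinants agree modulo `n`-th powers
  have key : ∀ g g' : GL (Fin n) F, IsConj (cj g) (cj g') ↔
      (Matrix.GeneralLinearGroup.det g)⁻¹ * Matrix.GeneralLinearGroup.det g' ∈ P := by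
    intro g g'
    constructor
    · intro h
      obtain ⟨s, hs⟩ := isConj_iff.mp h
      rw [mul_inv_eq_iff_eq_mul] at hs
      set S := Matrix.SpecialLinearGroup.toGL s with hS
      set y := g'⁻¹ * S * g with hy
      have hs' : (S : Matrix (Fin n) (Fin n) F) * (cj g : Matrix (Fin n) (Fin n) F) =
          (cj g' : Matrix (Fin n) (Fin n) F) * (S : Matrix (Fin n) (Fin n) F) :=
        congrArg Subtype.val hs
      have hy' : Commute (y : Matrix (Fin n) (Fin n) F) (shift F n) := by
        have e : (S : Matrix (Fin n) (Fin n) F) * ((cj g : Matrix (Fin n) (Fin n) F) - 1) =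
            ((cj g' : Matrix (Fin n) (Fin n) F) - 1) * (S : Matrix (Fin n) (Fin n) F) := by
          rw [mul_sub, sub_mul, hs', mul_one, one_mul]
        rw [hcj, hcj] at e
        have e' := congrArg (fun M => ((g'⁻¹ : GL (Fin n) F) : Matrix (Fin n) (Fin n) F) * M * (g : Matrix (Fin n) (Fin n) F)) e
        simp only [mul_assoc, Units.inv_mul, mul_one, Units.inv_mul_cancel_left] at e'
        simp only [Commute, SemiconjBy, hy, Units.val_mul, mul_assoc]
        exact e'
      obtain ⟨c, hc⟩ := (isRegNil_shift F n).commute_eq_sum hy'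
      have hdy : (Matrix.GeneralLinearGroup.det y : F) = c ⟨0, by omega⟩ ^ n := by
        rw [Matrix.GeneralLinearGroup.val_det_apply, hc, det_sum_smul_pow (isRegNil_shift F n).1]
      have hy2 : Matrix.GeneralLinearGroup.det y =
          (Matrix.GeneralLinearGroup.det g')⁻¹ * Matrix.GeneralLinearGroup.det g := by
        rw [hy, map_mul, map_mul, map_inv, show Matrix.GeneralLinearGroup.det S = 1 from Units.ext s.2, mul_one]
      have hc0 : c ⟨0, by omega⟩ ≠ 0 := fun h => by
        rw [h, zero_pow (by omega)] at hdy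
        exact Units.ne_zero _ hdy
      rw [← inv_mem_iff, mul_inv_rev, inv_inv, ← hy2]
      exact ⟨Units.mk0 _ hc0, Units.ext hdy.symm⟩
    · rintro ⟨a, ha⟩
      let z : GL (Fin n) F := g' * (g * Matrix.GeneralLinearGroup.scalar (Fin n) a)⁻¹
      have hzdet : (z : Matrix (Fin n) (Fin n) F).det = 1 := by
        have hsc : Matrix.GeneralLinearGroup.det (Matrix.GeneralLinearGroup.scalar (Fin n) a) = a ^ n := by
          ext; simp
        have : Matrix.GeneralLinearGroup.det z = 1 := by
          simp only [z, map_mul, map_inv, hsc]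
          rw [show a ^ n = (Matrix.GeneralLinearGroup.det g)⁻¹ * Matrix.GeneralLinearGroup.det g' from ha,
            mul_inv_cancel_left, mul_inv_cancel]
        exact (Matrix.GeneralLinearGroup.val_det_apply z).symm.trans (congrArg Units.val this)
      let Z : Matrix.SpecialLinearGroup (Fin n) F := ⟨(z : Matrix (Fin n) (Fin n) F), hzdet⟩
      refine isConj_iff.mpr ⟨Z, ?_⟩
      rw [mul_inv_eq_iff_eq_mul]
      apply Subtype.ext
      show (z : Matrix (Fin n) (Fin n) F) * ((g : Matrix (Fin n) (Fin n) F) * (1 + shift F n) * ((g⁻¹ : GL (Fin n) F) : Matrix (Fin n) (Fin n) F)) =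
        (g' : Matrix (Fin n) (Fin n) F) * (1 + shift F n) * ((g'⁻¹ : GL (Fin n) F) : Matrix (Fin n) (Fin n) F) * (z : Matrix (Fin n) (Fin n) F)
      simp only [z, mul_inv_rev, Units.val_mul, mul_assoc, Units.inv_mul_cancel_left]
      congr 1
      rw [← mul_assoc _ (1 + shift F n), ← mul_assoc (1 + shift F n)]
      congr 1
      exact (Matrix.scalar_commute ((a⁻¹ : Fˣ) : F) (fun r => Commute.all _ r) (1 + shift F n)).eq
  have hΨ : Function.Bijective Ψ := by
    constructor
    · intro a b h
      have h' := (key _ _).mp (ConjClasses.mk_eq_mk_iff_isConj.mp (congrArg Subtype.val h))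
      rw [hγ, hγ, ← QuotientGroup.eq, QuotientGroup.out_eq', QuotientGroup.out_eq'] at h'
      exact h'
    · rintro ⟨C, u, rfl, hu1, hu2⟩
      obtain ⟨g, hg⟩ := exists_gl_conj (isRegNil_shift F n) (⟨hu1, hu2⟩ : IsRegNil ((u : Matrix (Fin n) (Fin n) F) - 1))
      have hu : u = cj g := by
        apply Subtype.ext
        show (u : Matrix (Fin n) (Fin n) F) = (g : Matrix (Fin n) (Fin n) F) * (1 + shift F n) * _
        rw [mul_add, hg, mul_one, add_mul, mul_assoc, Units.mul_inv, mul_one]
        abel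
      refine ⟨(Matrix.GeneralLinearGroup.det g : Fˣ), Subtype.ext (ConjClasses.mk_eq_mk_iff_isConj.mpr ?_)⟩
      rw [hu, key, hγ, ← QuotientGroup.eq, QuotientGroup.out_eq']
  rw [← Nat.card_congr (Equiv.ofBijective Ψ hΨ), ← Subgroup.index_eq_card, IsCyclic.index_powMonoidHom_range,
    Nat.card_eq_fintype_card, Fintype.card_units, hF, Nat.gcd_comm]

end Cfsg.Agent.S2578
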