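import Cfsg.Statements.S2581
import Cfsg.Agent.Forms59.JordanForms
-- import your own Cfsg.Agent.* helpers here

set_option autoImplicit false
open Cfsg

namespace Cfsg.Agent.S2581


open Matrix
open scoped Matrix
open Cfsg.Agent.Forms59.Jordan

variable {F : Type*} [Field F] {t : ℕ} {d : Fin t → ℕ}

/-- Free coordinates of the commutant. -/
abbrev Co (d : Fin t → ℕ) := (lk : Fin t × Fin t) × Fin (min (d lk.1) (d lk.2))

/-- The coordinate at height `i` of block `(k, l)`. -/
def coef (c : Co d → F) (l k : Fin t) (i : ℕ) : F :=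
  if h : d k ≤ i + d l ∧ i < d k then c ⟨(l, k), ⟨i - (d k - d l), by dsimp only; omega⟩⟩ else 0

/-- The commuting matrix with given coordinates. -/
def phi (c : Co d → F) : Matrix (Ix d) (Ix d) F :=
  Matrix.of fun p q => if (q.2 : ℕ) ≤ p.2 then coef c q.1 p.1 ((p.2 : ℕ) - q.2) else 0

theorem N_mul_apply (M : Matrix (Ix d) (Ix d) F) (k : Fin t) (a : Fin (d k)) (q : Ix d) :
    (Nmat F d * M) ⟨k, a⟩ q = if 1 ≤ (a : ℕ) then ext0 (fun r => M r q) k ((a : ℕ) - 1) else 0 := by
  rw [← Nmat_mulVec]; rfl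

theorem mul_N_apply (M : Matrix (Ix d) (Ix d) F) (p : Ix d) (l : Fin t) (b : Fin (d l)) :
    (M * Nmat F d) p ⟨l, b⟩ = ext0 (M p) l ((b : ℕ) + 1) := by
  rw [← Nmat_transpose_mulVec]
  exact Finset.sum_congr rfl fun r _ => mul_comm _ _

theorem phi_comm (c : Co d → F) : phi c * Nmat F d = Nmat F d * phi c := by
  ext ⟨k, a⟩ ⟨l, b⟩
  rw [mul_N_apply, N_mul_apply]
  have := a.2
  have := b.2
  unfold ext0 phi
  by_cases hb : (b : ℕ) + 1 < d l
  · rw [dif_pos hb]
    by_cases ha : 1 ≤ (a : ℕ)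
    · rw [if_pos ha, dif_pos (show (a : ℕ) - 1 < d k by omega)]
      simp only [Matrix.of_apply]
      by_cases hab : (b : ℕ) + 1 ≤ a
      · rw [if_pos hab, if_pos (show (b : ℕ) ≤ (a : ℕ) - 1 by omega)]
        congr 1; omega
      · rw [if_neg hab, if_neg (show ¬ (b : ℕ) ≤ (a : ℕ) - 1 by omega)]
    · rw [if_neg ha]; simp only [Matrix.of_apply]; rw [if_neg (by omega)]
  · rw [dif_neg hb]
    by_cases ha : 1 ≤ (a : ℕ)
    · rw [if_pos ha, dif_pos (show (a : ℕ) - 1 < d k by omega)]
      simp only [Matrix.of_apply]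
      by_cases hab : (b : ℕ) ≤ (a : ℕ) - 1
      · rw [if_pos hab, coef, dif_neg (by omega)]
      · rw [if_neg hab]
    · rw [if_neg ha]

theorem phi_injective (hd : ∀ k, 1 ≤ d k) : Function.Injective (phi (F := F) (d := d)) := by
  intro c c' h
  funext ⟨⟨l, k⟩, i⟩
  have hi := i.2
  simp only at hi
  have := congrFun (congrFun h ⟨k, ⟨(i : ℕ) + (d k - d l), by omega⟩⟩) ⟨l, ⟨0, hd l⟩⟩
  simp only [phi, Matrix.of_apply, Nat.zero_le, if_true, Nat.sub_zero, coef] at this
  rw [dif_pos (by omega), dif_pos (by omega)] at this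
  simpa using this

theorem phi_surjective (hd : ∀ k, 1 ≤ d k) (M : Matrix (Ix d) (Ix d) F)
    (hM : M * Nmat F d = Nmat F d * M) : ∃ c, phi c = M := by
  have hstep : ∀ (k l : Fin t) (b : ℕ) (hb : b < d l) (a : Fin (d k)),
      M ⟨k, a⟩ ⟨l, ⟨b, hb⟩⟩ =
        if b ≤ (a : ℕ) then ext0 (fun r => M r ⟨l, ⟨0, hd l⟩⟩) k ((a : ℕ) - b) else 0 := by
    intro k l b
    induction b with
    | zero => intro hb a; rw [if_pos (Nat.zero_le _), Nat.sub_zero, ext0_coe]
    | succ b ih =>
      intro hb a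
      have := a.2
      have h := congrFun (congrFun hM ⟨k, a⟩) ⟨l, ⟨b, by omega⟩⟩
      rw [mul_N_apply, N_mul_apply, ext0, dif_pos hb] at h
      rw [h]
      by_cases ha : 1 ≤ (a : ℕ)
      · rw [if_pos ha, ext0, dif_pos (show (a : ℕ) - 1 < d k by omega), ih]
        by_cases hab : b + 1 ≤ (a : ℕ)
        · rw [if_pos hab, if_pos (show b ≤ (a : ℕ) - 1 by omega)]
          congr 1; simp only; omega
        · rw [if_neg hab, if_neg (show ¬ b ≤ (a : ℕ) - 1 by omega)]
      · rw [if_neg ha, if_neg (by omega)]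
  have hvan : ∀ (k l : Fin t) (u : ℕ), u + d l < d k →
      ext0 (fun r => M r ⟨l, ⟨0, hd l⟩⟩) k u = 0 := by
    intro k l u hu
    have h := congrFun (congrFun hM ⟨k, ⟨u + d l, hu⟩⟩) ⟨l, ⟨d l - 1, by have := hd l; omega⟩⟩
    rw [mul_N_apply, N_mul_apply, ext0_eq_zero _ _ (by have := hd l; simp only; omega),
      if_pos (by have := hd l; simp only; omega), ext0, dif_pos (by have := hd l; simp only; omega),
      hstep, if_pos (by simp only; omega)] at h
    rw [h]; congr 1; have := hd l; simp only; omega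
  refine ⟨fun z => ext0 (fun r => M r ⟨z.1.1, ⟨0, hd z.1.1⟩⟩) z.1.2
    ((z.2 : ℕ) + (d z.1.2 - d z.1.1)), ?_⟩
  ext ⟨k, a⟩ ⟨l, b⟩
  have := a.2
  simp only [phi, Matrix.of_apply]
  rw [hstep k l b b.2 a]
  by_cases hab : (b : ℕ) ≤ a
  · rw [if_pos hab, if_pos hab, coef]
    by_cases h : d k ≤ (a : ℕ) - b + d l ∧ (a : ℕ) - b < d k
    · rw [dif_pos h]
      simp only
      congr 1; omega
    · rw [dif_neg h, hvan k l _ (by omega)]
  · rw [if_neg hab, if_neg hab]

/-- The matrix induced on the kernel of the nilpotent part. -/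
def top (hd : ∀ k, 1 ≤ d k) (c : Co d → F) : Matrix (Fin t) (Fin t) F :=
  Matrix.of fun k l => if d l ≤ d k then c ⟨(l, k), ⟨0, by have := hd k; have := hd l; dsimp only; omega⟩⟩ else 0

/-- A vector of the kernel of the nilpotent part. -/
def bot (v : Fin t → F) : Ix d → F := fun p => if (p.2 : ℕ) + 1 = d p.1 then v p.1 else 0

theorem phi_bot (hd : ∀ k, 1 ≤ d k) (c : Co d → F) (v : Fin t → F) :
    phi c *ᵥ bot v = bot (top hd c *ᵥ v) := by
  funext ⟨k, a⟩
  have := a.2
  have key : ∀ l, phi c ⟨k, a⟩ ⟨l, ⟨d l - 1, by have := hd l; omega⟩⟩ =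
      if (a : ℕ) + 1 = d k then top hd c k l else 0 := by
    intro l
    have := hd l
    simp only [phi, Matrix.of_apply, top, coef]
    by_cases hka : (a : ℕ) + 1 = d k
    · rw [if_pos hka]
      by_cases hlk : d l ≤ d k
      · rw [if_pos hlk, if_pos (by omega), dif_pos (by omega)]
        congr 2
        exact Fin.ext (by simp only; omega)
      · rw [if_neg hlk, if_neg (by omega)]
    · rw [if_neg hka]
      by_cases h : d l - 1 ≤ (a : ℕ)
      · rw [if_pos h, dif_neg (by omega)]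
      · rw [if_neg h]
  simp only [Matrix.mulVec, dotProduct, bot, mul_ite, mul_zero]
  rw [Fintype.sum_sigma]
  have : ∀ l, (∑ b : Fin (d l), if (b : ℕ) + 1 = d l then phi c ⟨k, a⟩ ⟨l, b⟩ * v l else 0) =
      (if (a : ℕ) + 1 = d k then top hd c k l else 0) * v l := by
    intro l
    rw [← key l, Finset.sum_eq_single ⟨d l - 1, by have := hd l; omega⟩
      (fun b _ hb => if_neg fun e => hb (Fin.ext (by simp only; omega)))
      (fun h => absurd (Finset.mem_univ _) h), if_pos (by have := hd l; simp only; omega)]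
  simp only [this]
  by_cases hka : (a : ℕ) + 1 = d k <;> simp [hka]

theorem bot_eq_zero (hd : ∀ k, 1 ≤ d k) {v : Fin t → F} (h : bot (d := d) v = 0) : v = 0 := by
  funext k
  have := congrFun h ⟨k, ⟨d k - 1, by have := hd k; omega⟩⟩
  simpa [bot, show d k - 1 + 1 = d k by have := hd k; omega] using this

theorem det_phi_ne_zero_iff (hd : ∀ k, 1 ≤ d k) (c : Co d → F) :
    (phi c).det ≠ 0 ↔ (top hd c).det ≠ 0 := by
  rw [ne_eq, ne_eq, not_iff_not, ← Matrix.exists_mulVec_eq_zero_iff, ← Matrix.exists_mulVec_eq_zero_iff]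
  constructor
  · rintro ⟨y, hy, hgy⟩
    classical
    have hex : ∃ i, (Nmat F d) ^ i *ᵥ y = 0 := by
      refine ⟨Finset.univ.sup d, funext fun ⟨k, a⟩ => ?_⟩
      have := a.2
      have : d k ≤ Finset.univ.sup d := Finset.le_sup (Finset.mem_univ k)
      rw [Nmat_pow_mulVec, if_neg (by omega)]; rfl
    obtain ⟨i, hi⟩ : ∃ i, Nat.find hex = i + 1 := by
      refine Nat.exists_eq_succ_of_ne_zero fun h0 => hy ?_
      have := Nat.find_spec hex
      rwa [h0, pow_zero, Matrix.one_mulVec] at this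
    have hne : (Nmat F d) ^ i *ᵥ y ≠ 0 := Nat.find_min hex (by omega)
    have hz : Nmat F d *ᵥ ((Nmat F d) ^ i *ᵥ y) = 0 := by
      rw [Matrix.mulVec_mulVec, ← pow_succ', ← hi]; exact Nat.find_spec hex
    set w := (Nmat F d) ^ i *ᵥ y
    have hw : w = bot fun k => w ⟨k, ⟨d k - 1, by have := hd k; omega⟩⟩ := by
      funext ⟨k, a⟩
      have := a.2
      unfold bot
      by_cases h : (a : ℕ) + 1 = d k
      · rw [if_pos h]; congr 2; exact Fin.ext (by simp only; omega)
      · rw [if_neg h]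
        have e := congrFun hz ⟨k, ⟨(a : ℕ) + 1, by omega⟩⟩
        rw [Nmat_mulVec, if_pos (by simp only; omega)] at e
        simpa [ext0] using e
    refine ⟨fun k => w ⟨k, ⟨d k - 1, by have := hd k; omega⟩⟩, fun h => hne ?_, bot_eq_zero hd ?_⟩
    · rw [hw, h]; funext p; simp [bot]
    · rw [← phi_bot, ← hw, Matrix.mulVec_mulVec,
        ((show Commute (phi c) (Nmat F d) from phi_comm c).pow_right i).eq, ← Matrix.mulVec_mulVec,
        hgy, Matrix.mulVec_zero]
  · rintro ⟨v, hv, hTv⟩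
    refine ⟨bot v, fun h => hv (bot_eq_zero hd h), ?_⟩
    rw [phi_bot hd, hTv]; funext p; simp [bot]

/-- Sums over blocks grouped by size. -/
theorem sum_by_size {M : Type*} [AddCommMonoid M] (f : ℕ → M) (d : Fin t → ℕ) :
    ∑ k, f (d k) = ∑ i ∈ Finset.range (Finset.univ.sup d + 1),
      (Finset.univ.filter fun k => d k = i).card • f i := by
  rw [← Finset.sum_fiberwise_of_maps_to (g := d) (t := Finset.range (Finset.univ.sup d + 1))
    (fun k _ => Finset.mem_range.2 (Nat.lt_succ_of_le (Finset.le_sup (Finset.mem_univ k))))]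
  refine Finset.sum_congr rfl fun i _ => ?_
  rw [← Finset.sum_const]
  exact Finset.sum_congr rfl fun k hk => by rw [(Finset.mem_filter.1 hk).2]

theorem exponent_eq (R : Finset ℕ) (a : ℕ → ℕ) (h0 : a 0 = 0) :
    ∑ i ∈ R, a i * ∑ j ∈ R, a j * min i j =
      (2 * (∑ i ∈ R, ∑ j ∈ R, if i < j then i * a i * a j else 0) + ∑ i ∈ R, (i - 1) * a i ^ 2) +
        ∑ i ∈ R, a i ^ 2 := by
  have h1 : ∀ i ∈ R, a i * ∑ j ∈ R, a j * min i j =
      (∑ j ∈ R, if i < j then i * a i * a j else 0) + (∑ j ∈ R, if j < i then j * a j * a i else 0) +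
        ((i - 1) * a i ^ 2 + a i ^ 2) := by
    intro i hi
    have : (i - 1) * a i ^ 2 + a i ^ 2 = ∑ j ∈ R, if i = j then i * a i * a j else 0 := by
      rw [Finset.sum_ite_eq, if_pos hi]
      rcases Nat.eq_zero_or_pos i with rfl | hp
      · simp [h0]
      · rw [← Nat.succ_mul, show (i - 1).succ = i by omega]; ring
    rw [this, Finset.mul_sum, ← Finset.sum_add_distrib, ← Finset.sum_add_distrib]
    refine Finset.sum_congr rfl fun j _ => ?_
    rcases lt_trichotomy i j with h | rfl | h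
    · rw [if_pos h, if_neg h.ne, if_neg h.not_gt, min_eq_left h.le]; ring
    · simp; ring
    · rw [if_pos h, if_neg h.ne', if_neg h.not_gt, min_eq_right h.le]; ring
  rw [Finset.sum_congr rfl h1, Finset.sum_add_distrib, Finset.sum_add_distrib, Finset.sum_add_distrib]
  have h2 : (∑ i ∈ R, ∑ j ∈ R, if j < i then j * a j * a i else 0) =
      ∑ i ∈ R, ∑ j ∈ R, if i < j then i * a i * a j else 0 := Finset.sum_comm
  rw [h2]; ring

/-- The number of invertible matrices on a finite index type. -/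
theorem card_det_ne_zero [Fintype F] {ι : Type*} [Fintype ι] [DecidableEq ι] :
    Nat.card {M : Matrix ι ι F // M.det ≠ 0} =
      ∏ j : Fin (Fintype.card ι), (Fintype.card F ^ Fintype.card ι - Fintype.card F ^ (j : ℕ)) := by
  rw [← Matrix.card_GL_field (n := Fintype.card ι) (𝔽 := F)]
  refine (Nat.card_eq_of_bijective (fun g : GL (Fin (Fintype.card ι)) F =>
    (⟨(Matrix.reindex (Fintype.equivFin ι).symm (Fintype.equivFin ι).symm) (g : Matrix _ _ F),
      by rw [Matrix.det_reindex_self]; exact ((Matrix.isUnit_iff_isUnit_det _).1 g.isUnit).ne_zero⟩ :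
      {M : Matrix ι ι F // M.det ≠ 0})) ⟨fun g g' h => ?_, fun M => ?_⟩).symm
  · exact Units.ext ((Matrix.reindex _ _).injective (Subtype.ext_iff.1 h))
  · have hu : IsUnit (Matrix.reindex (Fintype.equivFin ι) (Fintype.equivFin ι) M.1) := by
      rw [Matrix.isUnit_iff_isUnit_det, Matrix.det_reindex_self]; exact isUnit_iff_ne_zero.2 M.2
    exact ⟨hu.unit, Subtype.ext (by simp)⟩


/-- Order of the centraliser in GL of a unipotent matrix of given Jordan type over the field with q elements: if the type has a_i blocks of size i (all block sizes at least 1), the invertible matrices commuting with it number q^γ · Π_i |GL_(a_i)(q)| with γ = 2 Σ_(i<j) i a_i a_j + Σ_i (i − 1) a_i² (a group of order q^γ extended by Π GL_(a_i)(q)). -/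
theorem result {F : Type*} [Field F] [Fintype F] {q : ℕ} (hF : Fintype.card F = q) {t : ℕ} (d : Fin t → ℕ) (hd : ∀ k, 1 ≤ d k) : Nat.card {g : GL ((k : Fin t) × Fin (d k)) F // (g : Matrix ((k : Fin t) × Fin (d k)) ((k : Fin t) × Fin (d k)) F) * Cfsg.jordanTypeMatrix d F = Cfsg.jordanTypeMatrix d F * (g : Matrix ((k : Fin t) × Fin (d k)) ((k : Fin t) × Fin (d k)) F)} = q ^ (2 * (∑ i ∈ Finset.range (Finset.univ.sup d + 1), ∑ j ∈ Finset.range (Finset.univ.sup d + 1), if i < j then i * (Finset.univ.filter (fun k : Fin t => d k = i)).card * (Finset.univ.filter (fun k : Fin t => d k = j)).card else 0) + ∑ i ∈ Finset.range (Finset.univ.sup d + 1), (i - 1) * (Finset.univ.filter (fun k : Fin t => d k = i)).card ^ 2) * ∏ i ∈ Finset.range (Finset.univ.sup d + 1), ∏ j : Fin ((Finset.univ.filter (fun k : Fin t => d k = i)).card), (q ^ (Finset.univ.filter (fun k : Fin t => d k = i)).card - q ^ (j : ℕ)) := by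
  classical
  let R := Finset.range (Finset.univ.sup d + 1)
  let a : ℕ → ℕ := fun i => (Finset.univ.filter (fun k : Fin t => d k = i)).card
  have hJ : ∀ M : Matrix (Ix d) (Ix d) F, M * Cfsg.jordanTypeMatrix d F = Cfsg.jordanTypeMatrix d F * M ↔
      M * Nmat F d = Nmat F d * M := by
    intro M
    show _ ↔ M * (Umat F d - 1) = (Umat F d - 1) * M
    rw [mul_sub, sub_mul, mul_one, one_mul, sub_left_inj]
  have hmem : ∀ k, d k ∈ R := fun k => Finset.mem_range.2 (Nat.lt_succ_of_le (Finset.le_sup (Finset.mem_univ k)))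
  let j : ((i : R) × ({k // d k = (i : ℕ)} × {k // d k = (i : ℕ)})) → Co d := fun z =>
    ⟨(z.2.1.1, z.2.2.1), ⟨0, by have := hd z.2.1.1; have := hd z.2.2.1; dsimp only; omega⟩⟩
  have hj : Function.Injective j := by
    rintro ⟨⟨i, hi⟩, ⟨p, hp⟩, ⟨q, hq⟩⟩ ⟨⟨i', hi'⟩, ⟨p', hp'⟩, ⟨q', hq'⟩⟩ h
    have := congrArg Sigma.fst h
    simp only [j, Prod.mk.injEq] at this
    obtain ⟨rfl, rfl⟩ := this
    simp only at hp hp'
    obtain rfl : i = i' := hp.symm.trans hp'
    rfl
  have hT : ∀ c : Co d → F, (phi c).det ≠ 0 ↔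
      ∀ i : R, (Matrix.of fun p q : {k // d k = (i : ℕ)} => c (j ⟨i, p, q⟩)).det ≠ 0 := by
    intro c
    have htri : (top hd c)ᵀ.BlockTriangular d := fun p q h => by
      show top hd c q p = 0
      simp [top, Nat.not_le.2 h]
    rw [det_phi_ne_zero_iff hd, ← Matrix.det_transpose, htri.det, Finset.prod_ne_zero_iff]
    have hblk : ∀ i : R, (top hd c)ᵀ.toSquareBlock d (i : ℕ) =
        Matrix.of fun p q : {k // d k = (i : ℕ)} => c (j ⟨i, p, q⟩) := by
      intro i; ext p q
      show top hd c q.1 p.1 = _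
      simp only [top, Matrix.of_apply, j]
      rw [if_pos (by rw [p.2, q.2])]
    constructor
    · intro h i
      by_cases hi : (i : ℕ) ∈ Finset.univ.image d
      · rw [← hblk]; exact h _ hi
      · haveI : IsEmpty {k // d k = (i : ℕ)} :=
          ⟨fun p => hi (Finset.mem_image.2 ⟨p.1, Finset.mem_univ _, p.2⟩)⟩
        rw [Matrix.det_isEmpty]; exact one_ne_zero
    · intro h i hi
      obtain ⟨k, -, rfl⟩ := Finset.mem_image.1 hi
      have := h ⟨d k, hmem k⟩
      rwa [← hblk] at this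
  let B := fun i : R => {M : Matrix {k // d k = (i : ℕ)} {k // d k = (i : ℕ)} F // M.det ≠ 0}
  let Rest := {z : Co d // z ∉ Set.range j}
  have e1 : Nat.card {g : GL (Ix d) F // (g : Matrix (Ix d) (Ix d) F) * Cfsg.jordanTypeMatrix d F =
        Cfsg.jordanTypeMatrix d F * (g : Matrix (Ix d) (Ix d) F)} =
      Nat.card {c : Co d → F // (phi c).det ≠ 0} := by
    refine (Nat.card_eq_of_bijective (fun c : {c : Co d → F // (phi c).det ≠ 0} =>
      (⟨((Matrix.isUnit_iff_isUnit_det (phi c.1)).2 (isUnit_iff_ne_zero.2 c.2)).unit,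
        (hJ _).2 (phi_comm c.1)⟩ : {g : GL (Ix d) F // (g : Matrix (Ix d) (Ix d) F) * Cfsg.jordanTypeMatrix d F =
        Cfsg.jordanTypeMatrix d F * (g : Matrix (Ix d) (Ix d) F)})) ⟨fun c c' h => ?_, fun g => ?_⟩).symm
    · exact Subtype.ext (phi_injective hd (by simpa [Units.ext_iff] using h))
    · obtain ⟨c, hc⟩ := phi_surjective hd _ ((hJ _).1 g.2)
      refine ⟨⟨c, ?_⟩, Subtype.ext (Units.ext (by simp [hc]))⟩
      rw [hc]; exact ((Matrix.isUnit_iff_isUnit_det _).1 g.1.isUnit).ne_zero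
  have e2 : Nat.card {c : Co d → F // (phi c).det ≠ 0} = Nat.card ((Π i, B i) × (Rest → F)) := by
    refine Nat.card_eq_of_bijective (fun c => (fun i => ⟨_, (hT c.1).1 c.2 i⟩, fun z => c.1 z.1))
      ⟨fun c c' h => Subtype.ext (funext fun z => ?_), fun ⟨u, r⟩ => ?_⟩
    · by_cases hz : z ∈ Set.range j
      · obtain ⟨⟨i, p, q⟩, rfl⟩ := hz
        exact congrFun (congrFun (congrArg Subtype.val (congrFun (congrArg Prod.fst h) i)) p) q
      · exact congrFun (congrArg Prod.snd h) ⟨z, hz⟩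
    · let c : Co d → F := fun z => if hz : z ∈ Set.range j then
        (u hz.choose.1).1 hz.choose.2.1 hz.choose.2.2 else r ⟨z, hz⟩
      have hc : ∀ i p q, c (j ⟨i, p, q⟩) = (u i).1 p q := by
        intro i p q
        have hz : j ⟨i, p, q⟩ ∈ Set.range j := ⟨_, rfl⟩
        simp only [c, dif_pos hz]
        have e := hj hz.choose_spec
        generalize hz.choose = w at e ⊢
        subst e; rfl
      have hc' : ∀ i, (Matrix.of fun p q => c (j ⟨i, p, q⟩)) = (u i).1 := fun i => by
        ext p q; exact hc i p q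
      refine ⟨⟨c, (hT c).2 fun i => by rw [hc']; exact (u i).2⟩, Prod.ext (funext fun i => Subtype.ext (hc' i)) (funext fun z => ?_)⟩
      exact dif_neg z.2
  show Nat.card {g : GL (Ix d) F // _} = q ^ (2 * (∑ i ∈ R, ∑ j ∈ R, if i < j then i * a i * a j else 0) +
    ∑ i ∈ R, (i - 1) * a i ^ 2) * ∏ i ∈ R, ∏ j : Fin (a i), (q ^ a i - q ^ (j : ℕ))
  rw [e1, e2, Nat.card_prod, Nat.card_pi, mul_comm, Nat.card_fun, Nat.card_eq_fintype_card (α := F), hF]
  have hfib : ∀ i : ℕ, Fintype.card {k // d k = i} = a i := fun i => Fintype.card_subtype _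
  congr 1
  · congr 1
    have h0 : a 0 = 0 := by
      refine Finset.card_eq_zero.2 (Finset.filter_eq_empty_iff.2 fun k _ => ?_)
      have := hd k; omega
    have hI : Nat.card (Co d) = ∑ i ∈ R, a i * ∑ j ∈ R, a j * min i j := by
      rw [Nat.card_eq_fintype_card, Fintype.card_sigma, Fintype.sum_prod_type]
      simp only [Fintype.card_fin]
      have : ∀ l, ∑ k, min (d l) (d k) = ∑ j ∈ R, a j * min (d l) j := fun l =>
        sum_by_size (fun x => min (d l) x) d
      simp only [this]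
      exact sum_by_size (fun x => ∑ j ∈ R, a j * min x j) d
    have hD : Nat.card (Set.range j) = ∑ i ∈ R, a i ^ 2 := by
      rw [Nat.card_range_of_injective hj, Nat.card_eq_fintype_card, Fintype.card_sigma, ← Finset.sum_coe_sort R]
      exact Finset.sum_congr rfl fun i _ => by rw [Fintype.card_prod, hfib, sq]
    have hs : Nat.card (Set.range j) + Nat.card Rest = Nat.card (Co d) := by
      rw [← Nat.card_sum]; exact Nat.card_congr (Equiv.sumCompl (fun z => z ∈ Set.range j))
    rw [hI, hD, exponent_eq R a h0] at hs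
    omega
  · rw [← Finset.prod_coe_sort R]
    refine Finset.prod_congr rfl fun i _ => ?_
    rw [show Nat.card (B i) = _ from card_det_ne_zero, hfib, hF]

end Cfsg.Agent.S2581
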