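import Cfsg.Statements.S2582
import Cfsg.Agent.Forms59.JordanQuad
-- import your own Cfsg.Agent.* helpers here

set_option autoImplicit false
open Cfsg

namespace Cfsg.Agent.S2582

open Matrix


/-- Which unipotent Jordan types occur in the finite symplectic group: over a finite field, a unipotent matrix with Jordan block sizes d_1, …, d_t (sum 2m, all at least 1) is similar to an element of Sp_2m(F) if and only if every odd block size occurs an even number of times. -/
theorem result {F : Type*} [Field F] [Fintype F] {m t : ℕ} (d : Fin t → ℕ) (hd : ∀ k, 1 ≤ d k) (hsum : ∑ k, d k = 2 * m) : (∃ e : ((k : Fin t) × Fin (d k)) ≃ (Fin m ⊕ Fin m), ∃ A : Matrix.symplecticGroup (Fin m) F, IsConj (Matrix.reindex e e (Cfsg.jordanTypeMatrix d F)) (A : Matrix (Fin m ⊕ Fin m) (Fin m ⊕ Fin m) F)) ↔ ∀ j : ℕ, Odd j → Even (Finset.univ.filter (fun k : Fin t => d k = j)).card := by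
  classical
  have hJalt : ∀ x : Fin m ⊕ Fin m → F, x ⬝ᵥ Matrix.J (Fin m) F *ᵥ x = 0 :=
    Forms59.Jordan.alt_of_skew (by rw [Matrix.J_transpose, neg_one_smul])
      (fun i => by rcases i with i | i <;> simp [Matrix.J])
  have hJu : IsUnit (Matrix.J (Fin m) F) := by
    rw [Matrix.isUnit_iff_isUnit_det]; exact Matrix.isUnit_det_J _ _
  constructor
  · rintro ⟨e, A, hA⟩ j hj
    obtain ⟨P, L, hu, hP, -, hL⟩ := Forms59.Jordan.pullback e hA (SymplecticGroup.mem_iff'.1 A.2) hJu
    exact Forms59.Jordan.even_of_alt hu hP (fun x => by rw [hL, hJalt]) hj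
  · intro h
    obtain ⟨P, hu, hP, halt⟩ := Forms59.Jordan.exists_alt_form (F := F) h
    obtain ⟨m', e, c, hc, hcP⟩ := Forms59.Jordan.exists_symp_normal hu halt
    obtain rfl : m' = m := by
      have h1 := Fintype.card_congr e
      simp [Fintype.card_sigma, hsum] at h1
      omega
    obtain ⟨A, -, hA, hconj⟩ := Forms59.Jordan.push e hc hP hcP hJu
    exact ⟨e, ⟨A, SymplecticGroup.mem_iff'.2 hA⟩, hconj⟩


end Cfsg.Agent.S2582
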