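import Cfsg.Statements.S2583
import Cfsg.Agent.Forms59.JordanQuad
-- import your own Cfsg.Agent.* helpers here

set_option autoImplicit false
open Cfsg

namespace Cfsg.Agent.S2583

open Matrix


/-- Which unipotent Jordan types occur in a finite orthogonal group in odd characteristic: over a finite field of odd order, a unipotent matrix with Jordan block sizes d_1, …, d_t (sum n, all at least 1) is similar to an isometry of some quadratic form on F^n with non-degenerate polar form if and only if every even block size occurs an even number of times. -/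
theorem result {F : Type*} [Field F] [Fintype F] (h2 : (2 : F) ≠ 0) {n t : ℕ} (d : Fin t → ℕ) (hd : ∀ k, 1 ≤ d k) (hsum : ∑ k, d k = n) : (∃ Q : QuadraticForm F (Fin n → F), (QuadraticMap.polarBilin Q).Nondegenerate ∧ ∃ e : ((k : Fin t) × Fin (d k)) ≃ Fin n, ∃ A : ↥(Cfsg.isometryGroup F ⇑Q), IsConj (Matrix.reindex e e (Cfsg.jordanTypeMatrix d F)) ((A : Matrix.GeneralLinearGroup (Fin n) F) : Matrix (Fin n) (Fin n) F)) ↔ ∀ j : ℕ, Even j → 0 < j → Even (Finset.univ.filter (fun k : Fin t => d k = j)).card := by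
  classical
  constructor
  · rintro ⟨Q, hQ, e, A, hA⟩ j hj hj0
    obtain ⟨J, hJu, hJT, hJQ, hJA⟩ := Forms59.Jordan.exists_polar_matrix Q hQ
    obtain ⟨P, L, hu, hP, hsymm, hL⟩ := Forms59.Jordan.pullback e hA (hJA _ fun v => A.2 v v) hJu
    exact Forms59.Jordan.even_of_symm h2 hu hP (hsymm hJT) hj hj0
  · intro h
    have h' : ∀ j, Even j → Even (Finset.univ.filter (fun k : Fin t => d k = j)).card := fun j hj => by
      rcases Nat.eq_zero_or_pos j with rfl | h0
      · rw [Finset.card_eq_zero.2 (Finset.filter_eq_empty_iff.2 fun k _ hk => by have := hd k; omega)]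
        exact Even.zero
      · exact h j hj h0
    obtain ⟨P, hu, hP, hPT⟩ := Forms59.Jordan.exists_symm_form (F := F) h2 h'
    let e : ((k : Fin t) × Fin (d k)) ≃ Fin n := Fintype.equivFinOfCardEq (by simp [Fintype.card_sigma, hsum])

    obtain ⟨A, hAu, hA, hconj⟩ := Forms59.Jordan.push e isUnit_one hP (J := P.submatrix e.symm e.symm)
      (by ext p q; simp) ((Matrix.isUnit_submatrix_equiv _ _).2 hu)
    obtain ⟨Q, hQ, hQv⟩ := Forms59.Jordan.exists_quad (P.submatrix e.symm e.symm) (by
      rw [Matrix.transpose_submatrix, hPT, ← two_smul F, Matrix.isUnit_iff_isUnit_det, Matrix.det_smul]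
      exact (isUnit_iff_ne_zero.2 (pow_ne_zero _ h2)).mul
        ((Matrix.isUnit_iff_isUnit_det _).1 ((Matrix.isUnit_submatrix_equiv _ _).2 hu)))
    obtain ⟨g, rfl⟩ := hAu
    refine ⟨Q, hQ, e, ⟨g, fun u _ => ?_⟩, hconj⟩
    show Q ((g : Matrix (Fin n) (Fin n) F) *ᵥ u) = Q u
    rw [hQv, hQv, dotProduct_comm, ← dotProduct_transpose_mulVec, dotProduct_comm, mulVec_mulVec, mulVec_mulVec,
      mul_assoc, ← mul_assoc, hA, dotProduct_comm]


end Cfsg.Agent.S2583
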