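import Cfsg.Statements.S2584
import Cfsg.Agent.Forms59.JordanQuad
-- import your own Cfsg.Agent.* helpers here

set_option autoImplicit false
open Cfsg

namespace Cfsg.Agent.S2584

open Matrix


/-- Which unipotent Jordan types occur in a finite orthogonal group in characteristic two: over a finite field of characteristic 2 and in even dimension 2m, a unipotent matrix with Jordan block sizes d_1, …, d_t (sum 2m, all at least 1) is similar to an isometry of some quadratic form on F^(2m) with non-degenerate polar form if and only if every odd block size occurs an even number of times (the same condition as for the symplectic group, which contains these orthogonal groups). -/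
theorem result {F : Type*} [Field F] [Fintype F] [CharP F 2] {m t : ℕ} (d : Fin t → ℕ) (hd : ∀ k, 1 ≤ d k) (hsum : ∑ k, d k = 2 * m) : (∃ Q : QuadraticForm F (Fin (2 * m) → F), (QuadraticMap.polarBilin Q).Nondegenerate ∧ ∃ e : ((k : Fin t) × Fin (d k)) ≃ Fin (2 * m), ∃ A : ↥(Cfsg.isometryGroup F ⇑Q), IsConj (Matrix.reindex e e (Cfsg.jordanTypeMatrix d F)) ((A : Matrix.GeneralLinearGroup (Fin (2 * m)) F) : Matrix (Fin (2 * m)) (Fin (2 * m)) F)) ↔ ∀ j : ℕ, Odd j → Even (Finset.univ.filter (fun k : Fin t => d k = j)).card := by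
  classical
  constructor
  · rintro ⟨Q, hQ, e, A, hA⟩ j hj
    obtain ⟨J, hJu, hJT, hJQ, hJA⟩ := Forms59.Jordan.exists_polar_matrix Q hQ
    obtain ⟨P, L, hu, hP, hsymm, hL⟩ := Forms59.Jordan.pullback e hA (hJA _ fun v => A.2 v v) hJu
    exact Forms59.Jordan.even_of_alt hu hP (fun x => by rw [hL, hJQ, CharTwo.two_eq_zero, zero_mul]) hj
  · intro h
    obtain ⟨P, hu, hP, halt⟩ := Forms59.Jordan.exists_alt_form (F := F) h
    let e : ((k : Fin t) × Fin (d k)) ≃ Fin (2 * m) := Fintype.equivFinOfCardEq (by simp [Fintype.card_sigma, hsum])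
    obtain ⟨R, hR, hRU⟩ := Forms59.Jordan.exists_quad_matrix hP halt
    obtain ⟨A, hAu, hA, hconj⟩ := Forms59.Jordan.push e isUnit_one hP (J := P.submatrix e.symm e.symm)
      (by ext p q; simp) ((Matrix.isUnit_submatrix_equiv _ _).2 hu)
    obtain ⟨Q, hQ, hQv⟩ := Forms59.Jordan.exists_quad (R.submatrix e.symm e.symm) (by
      rw [Matrix.transpose_submatrix]
      rw [← hR] at hu
      exact (Matrix.isUnit_submatrix_equiv e.symm e.symm).2 hu)
    obtain ⟨V, hV⟩ : ∃ V : GL (Fin (2 * m)) F,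
        (V : Matrix (Fin (2 * m)) (Fin (2 * m)) F) = Matrix.reindex e e (Forms59.Jordan.Umat F d) := by
      obtain ⟨c, hc⟩ := hconj
      obtain ⟨a, rfl⟩ := hAu
      refine ⟨c⁻¹ * a * c, ?_⟩
      rw [Units.val_mul, Units.val_mul, mul_assoc, ← hc.eq, Units.inv_mul_cancel_left]
    refine ⟨Q, hQ, e, ⟨V, fun u _ => ?_⟩, by rw [hV]⟩
    show Q ((V : Matrix (Fin (2 * m)) (Fin (2 * m)) F) *ᵥ u) = Q u
    have h3 : ∀ y : (k : Fin t) × Fin (d k) → F,
        (y ∘ e.symm) ⬝ᵥ R.submatrix e.symm e.symm *ᵥ (y ∘ e.symm) = y ⬝ᵥ R *ᵥ y := fun y => by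
      rw [submatrix_mulVec_equiv, Equiv.symm_symm, Function.comp_assoc, Equiv.symm_comp_self, Function.comp_id,
        comp_equiv_dotProduct_comp_equiv]
    obtain ⟨y, rfl⟩ : ∃ y : (k : Fin t) × Fin (d k) → F, u = y ∘ e.symm :=
      ⟨u ∘ e, by rw [Function.comp_assoc, Equiv.self_comp_symm, Function.comp_id]⟩
    rw [hQv, hQv, hV, Matrix.reindex_apply, submatrix_mulVec_equiv, Equiv.symm_symm, Function.comp_assoc,
      Equiv.symm_comp_self, Function.comp_id, h3, h3, hRU]


end Cfsg.Agent.S2584
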