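import Cfsg.Statements.S2585
import Cfsg.Agent.Forms59.Standard

set_option autoImplicit false
open Cfsg

namespace Cfsg.Agent.S2585

open Matrix

theorem exists_comp_eq {F V : Type*} [Field F] [AddCommGroup V] [Module F V] (T : V →ₗ[F] V)
    (δ : V →ₗ[F] F) (h : LinearMap.ker T ≤ LinearMap.ker δ) :
    ∃ l : V →ₗ[F] F, ∀ v, l (T v) = δ v := by
  let δ' : LinearMap.range T →ₗ[F] F :=
    ((LinearMap.ker T).liftQ δ h).comp (T.quotKerEquivRange.symm : LinearMap.range T →ₗ[F] _)
  obtain ⟨l, hl⟩ := LinearMap.exists_extend δ'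
  refine ⟨l, fun v => ?_⟩
  have h2 : l (T v) = δ' ⟨T v, LinearMap.mem_range_self T v⟩ := by rw [← hl]; rfl
  have h3 : T.quotKerEquivRange.symm ⟨T v, LinearMap.mem_range_self T v⟩ = Submodule.Quotient.mk v := by
    rw [LinearEquiv.symm_apply_eq]; exact Subtype.ext (T.quotKerEquivRange_apply_mk v).symm
  rw [h2]
  simp [δ', h3]


/-- Over a finite field of characteristic two every element of the symplectic group is orthogonal for a suitable quadratic form: for each A in Sp_2m(F) there is a quadratic form Q on F^(2m) whose polar form is the alternating form defining Sp_2m(F) (so Q is non-degenerate) and which A preserves. Equivalently, for m ≥ 1, Sp_2m(F) is the union of the conjugates of its two orthogonal subgroups O⁺_2m(F) and O⁻_2m(F). -/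
theorem result {F : Type*} [Field F] [Fintype F] [CharP F 2] {m : ℕ} (A : Matrix.symplecticGroup (Fin m) F) : ∃ Q : QuadraticForm F (Fin m ⊕ Fin m → F), (∀ u v : Fin m ⊕ Fin m → F, QuadraticMap.polar ⇑Q u v = Cfsg.sympForm m F u v) ∧ ∀ v : Fin m ⊕ Fin m → F, Q ((A : Matrix (Fin m ⊕ Fin m) (Fin m ⊕ Fin m) F).mulVec v) = Q v := by
  classical
  set M : Matrix (Fin m ⊕ Fin m) (Fin m ⊕ Fin m) F := (A : Matrix (Fin m ⊕ Fin m) (Fin m ⊕ Fin m) F) with hM
  let Q₀ := Forms59.plusQF F m
  have hpolar : ∀ u v, QuadraticMap.polar ⇑Q₀ u v = Cfsg.sympForm m F u v := by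
    intro u v
    simp only [Q₀, Forms59.coe_plusQF, QuadraticMap.polar, Cfsg.quadFormPlus, Cfsg.sympForm,
      Matrix.mulVec, dotProduct, Matrix.J, Fintype.sum_sum_type, Pi.add_apply]
    simp only [Matrix.fromBlocks_apply₁₁, Matrix.fromBlocks_apply₁₂, Matrix.fromBlocks_apply₂₁,
      Matrix.fromBlocks_apply₂₂, Matrix.zero_apply, Matrix.neg_apply, zero_mul, CharTwo.neg_eq,
      Finset.sum_const_zero, zero_add, add_zero, Matrix.one_apply, ite_mul, one_mul,
      Finset.sum_ite_eq, Finset.mem_univ, if_true]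
    simp only [← Finset.sum_add_distrib, ← Finset.sum_sub_distrib]
    refine Finset.sum_congr rfl fun i _ => ?_
    ring
  have hf : ∀ u v, Cfsg.sympForm m F (M *ᵥ u) (M *ᵥ v) = Cfsg.sympForm m F u v := by
    intro u v
    have h := SymplecticGroup.mem_iff'.1 A.2
    simp only [Cfsg.sympForm]
    conv_rhs => rw [← h, ← Matrix.mulVec_mulVec, ← Matrix.mulVec_mulVec, Matrix.dotProduct_mulVec u,
      Matrix.vecMul_transpose]
  let D : (Fin m ⊕ Fin m → F) → F := fun v => Q₀ (M *ᵥ v) + Q₀ v
  have hDadd : ∀ u v, D (u + v) = D u + D v := by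
    intro u v
    simp only [D, Matrix.mulVec_add]
    rw [QuadraticMap.map_add (⇑Q₀), QuadraticMap.map_add (⇑Q₀), hpolar, hpolar, hf]
    linear_combination CharTwo.add_self_eq_zero (Cfsg.sympForm m F u v)
  have hDsmul : ∀ (c : F) v, D (c • v) = c * c * D v := by
    intro c v
    simp only [D, Matrix.mulVec_smul, QuadraticMap.map_smul, smul_eq_mul]
    ring
  have hsq : ∀ a : F, ∃ r : F, a = r * r := fun a => FiniteField.isSquare_of_char_two (ringChar.eq F 2) a
  choose sq hsq using hsq
  have hinj : ∀ a b : F, a * a = b * b → a = b := by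
    intro a b hab
    rcases mul_self_eq_mul_self_iff.1 hab with h | h
    · exact h
    · rwa [CharTwo.neg_eq] at h
  let δ : (Fin m ⊕ Fin m → F) →ₗ[F] F :=
    { toFun := fun v => sq (D v)
      map_add' := fun u v => hinj _ _ (by
        rw [← hsq, hDadd]
        conv_lhs => rw [hsq (D u), hsq (D v)]
        linear_combination (-(sq (D u) * sq (D v))) * (CharTwo.two_eq_zero (R := F)))
      map_smul' := fun c v => hinj _ _ (by
        rw [← hsq, hDsmul]
        conv_lhs => rw [hsq (D v)]
        simp only [RingHom.id_apply, smul_eq_mul]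
        ring) }
  let T : (Fin m ⊕ Fin m → F) →ₗ[F] (Fin m ⊕ Fin m → F) := Matrix.mulVecLin M + LinearMap.id
  have hker : LinearMap.ker T ≤ LinearMap.ker δ := by
    intro v hv
    rw [LinearMap.mem_ker] at hv ⊢
    have hv' : M *ᵥ v = v := by
      funext i
      have h := congr_fun hv i
      simp [T] at h
      rw [eq_neg_of_add_eq_zero_left h, CharTwo.neg_eq]
    show sq (D v) = 0
    apply hinj
    rw [← hsq, mul_zero]
    simp only [D, hv', CharTwo.add_self_eq_zero]
  obtain ⟨l, hl⟩ := exists_comp_eq T δ hker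
  refine ⟨Q₀ + QuadraticMap.linMulLin l l, fun u v => ?_, fun v => ?_⟩
  · rw [show ⇑(Q₀ + QuadraticMap.linMulLin l l) = fun w => Q₀ w + l w * l w from rfl]
    rw [← hpolar]
    simp only [QuadraticMap.polar, map_add]
    linear_combination (l u * l v) * (CharTwo.two_eq_zero (R := F))
  · show Q₀ (M *ᵥ v) + l (M *ᵥ v) * l (M *ᵥ v) = Q₀ v + l v * l v
    have h := hl v
    simp only [T, LinearMap.add_apply, LinearMap.id_apply, Matrix.mulVecLin_apply, map_add] at h
    have h2 : D v = (l (M *ᵥ v) + l v) * (l (M *ᵥ v) + l v) := by rw [h]; exact hsq (D v)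
    simp only [D] at h2
    linear_combination h2 + (l (M *ᵥ v) * l v + l (M *ᵥ v) * l (M *ᵥ v) - Q₀ v) * (CharTwo.two_eq_zero (R := F))

end Cfsg.Agent.S2585
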