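import Cfsg.Statements.S2586
import Cfsg.Agent.S2580

set_option autoImplicit false
open Cfsg

namespace Cfsg.Agent.S2586

/-- Over a finite field, every element of the symplectic group Sp_2m(F) is conjugate by an invertible matrix to its inverse. -/
theorem result {F : Type*} [Field F] [Finite F] {m : ℕ} (A : Matrix.symplecticGroup (Fin m) F) : IsConj (A : Matrix (Fin m ⊕ Fin m) (Fin m ⊕ Fin m) F) ((A⁻¹ : Matrix.symplecticGroup (Fin m) F) : Matrix (Fin m ⊕ Fin m) (Fin m ⊕ Fin m) F) := by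
  classical
  set M : Matrix (Fin m ⊕ Fin m) (Fin m ⊕ Fin m) F := (A : Matrix (Fin m ⊕ Fin m) (Fin m ⊕ Fin m) F)
  let r := (Matrix.reindexAlgEquiv F F (finSumFinEquiv : Fin m ⊕ Fin m ≃ Fin (m + m)))
  have h1 : IsConj M M.transpose := by
    have h := r.symm.toAlgHom.toMonoidHom.map_isConj (S2580.result (r M))
    change IsConj (r.symm (r M)) (r.symm (r M).transpose) at h
    rw [AlgEquiv.symm_apply_apply] at h
    have e : r.symm (r M).transpose = M.transpose := by
      apply r.injective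
      rw [AlgEquiv.apply_symm_apply]
      rfl
    rwa [e] at h
  refine h1.trans ?_
  have hinv : ((A⁻¹ : Matrix.symplecticGroup (Fin m) F) : Matrix (Fin m ⊕ Fin m) (Fin m ⊕ Fin m) F) =
      -(Matrix.J (Fin m) F) * M.transpose * Matrix.J (Fin m) F := SymplecticGroup.coe_inv A
  rw [hinv]
  have hJ : Matrix.J (Fin m) F * Matrix.J (Fin m) F = -1 := Matrix.J_squared _ _
  refine ⟨⟨-(Matrix.J (Fin m) F), Matrix.J (Fin m) F, by rw [neg_mul, hJ, neg_neg],
    by rw [mul_neg, hJ, neg_neg]⟩, ?_⟩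
  show -(Matrix.J (Fin m) F) * M.transpose =
    -(Matrix.J (Fin m) F) * M.transpose * Matrix.J (Fin m) F * -(Matrix.J (Fin m) F)
  rw [mul_assoc _ (Matrix.J (Fin m) F), mul_neg (Matrix.J (Fin m) F), hJ, neg_neg, mul_one]

end Cfsg.Agent.S2586
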