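import Cfsg.Statements.S2590
import Cfsg.Agent.Forms59.SemisimpleConj

set_option autoImplicit false
open Cfsg

namespace Cfsg.Agent.S2590

/-- Two semisimple elements of odd order of a finite orthogonal group (isometry group of a quadratic form on F^n with non-degenerate polar form, F finite of characteristic p; the elements have odd order prime to p) are conjugate in the orthogonal group if and only if they are conjugate in GL_n(F). -/
theorem result {F : Type*} [Field F] [Fintype F] {p : ℕ} [Fact p.Prime] [CharP F p] {n : ℕ} (Q : QuadraticForm F (Fin n → F)) (hQ : (QuadraticMap.polarBilin Q).Nondegenerate) (A B : ↥(Cfsg.isometryGroup F ⇑Q)) (hodd : Odd (orderOf A)) (hA : (orderOf A).Coprime p) : IsConj A B ↔ IsConj ((A : Matrix.GeneralLinearGroup (Fin n) F) : Matrix (Fin n) (Fin n) F) ((B : Matrix.GeneralLinearGroup (Fin n) F) : Matrix (Fin n) (Fin n) F) := by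
  constructor
  · intro h
    exact ((Units.coeHom (Matrix (Fin n) (Fin n) F)).comp (Cfsg.isometryGroup F ⇑Q).subtype).map_isConj h
  rintro ⟨u, hu⟩
  set a : Matrix (Fin n) (Fin n) F := ((A : Matrix.GeneralLinearGroup (Fin n) F) : Matrix (Fin n) (Fin n) F)
  set b : Matrix (Fin n) (Fin n) F := ((B : Matrix.GeneralLinearGroup (Fin n) F) : Matrix (Fin n) (Fin n) F)
  set T := (Matrix.toLinAlgEquiv' : Matrix (Fin n) (Fin n) F ≃ₐ[F] _)
  have haN : a ^ orderOf A = 1 := by
    show (((A ^ orderOf A : ↥(Cfsg.isometryGroup F ⇑Q)) : Matrix.GeneralLinearGroup (Fin n) F) : Matrix (Fin n) (Fin n) F) = _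
    rw [pow_orderOf_eq_one]
    rfl
  have hbN : b ^ orderOf A = 1 := by
    have h := (SemiconjBy.pow_right hu (orderOf A)).eq
    rw [haN, mul_one] at h
    exact (u.mul_left_inj).1 (by rw [one_mul]; exact h.symm)
  have hNF : ((orderOf A : ℕ) : F) ≠ 0 := fun h0 =>
    (Fact.out : p.Prime).coprime_iff_not_dvd.1 (Nat.Coprime.symm hA) ((CharP.cast_eq_zero_iff F p _).1 h0)
  have hpres : ∀ (X : ↥(Cfsg.isometryGroup F ⇑Q)) (v : Fin n → F),
      Q (T ((X : Matrix.GeneralLinearGroup (Fin n) F) : Matrix (Fin n) (Fin n) F) v) = Q v := fun X v => X.2 v v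
  have hg : Function.Bijective (T (u : Matrix (Fin n) (Fin n) F)) :=
    (Module.End.isUnit_iff _).1 (u.isUnit.map T.toMonoidHom)
  obtain ⟨G, hG, hcomm⟩ := Forms59.orth_conj Q hQ (T a) (T b) (T (u : Matrix (Fin n) (Fin n) F)) hg
    (by rw [← map_mul, ← map_mul]; exact congr_arg T hu.eq) (hpres A) (hpres B)
    (by rw [← map_pow, haN, map_one]) (by rw [← map_pow, hbN, map_one]) hNF hodd
  have hGu : IsUnit (T.symm G.toLinearMap) :=
    ((Module.End.isUnit_iff _).2 G.bijective).map T.symm.toMonoidHom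
  let g : ↥(Cfsg.isometryGroup F ⇑Q) := ⟨hGu.unit, fun v w => by
    show Q ((T.symm G.toLinearMap).mulVec v) = Q v
    rw [← Matrix.toLinAlgEquiv'_apply, AlgEquiv.apply_symm_apply]
    exact hG v⟩
  refine isConj_iff.2 ⟨g, ?_⟩
  rw [mul_inv_eq_iff_eq_mul]
  refine Subtype.ext (Units.ext (T.injective ?_))
  show T (T.symm G.toLinearMap * a) = T (b * T.symm G.toLinearMap)
  rw [map_mul, map_mul, AlgEquiv.apply_symm_apply]
  exact LinearMap.ext hcomm

end Cfsg.Agent.S2590
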