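import Cfsg.Statements.S2594
import Cfsg.Agent.Lib.Symplectic.Card

set_option autoImplicit false
open Cfsg

namespace Cfsg.Agent.S2594

open Cfsg.Agent.Symplectic

theorem exists_eq_tv {F : Type*} [Field F] [CharP F 2] {m : ℕ} (t : Sp m F)
    (ht : ((t : Matrix (Fin m ⊕ Fin m) (Fin m ⊕ Fin m) F) - 1).rank = 1) :
    ∃ (w : Vec m F) (c : F), w ≠ 0 ∧ c ≠ 0 ∧ t = tv w c := by
  set N := (t : Matrix (Fin m ⊕ Fin m) (Fin m ⊕ Fin m) F) - 1
  obtain ⟨w, hw, hspan⟩ := finrank_eq_one_iff'.1 (show Module.finrank F (LinearMap.range N.mulVecLin) = 1 from ht)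
  choose φ hφ using fun v => hspan ⟨N.mulVec v, LinearMap.mem_range_self N.mulVecLin v⟩
  have happ : ∀ v, t • v = v + φ v • (w : Vec m F) := by
    intro v
    have h : φ v • (w : Vec m F) = N.mulVec v := congr_arg Subtype.val (hφ v)
    rw [h, smul_eq, Matrix.sub_mulVec, Matrix.one_mulVec]
    abel
  have hw0 : (w : Vec m F) ≠ 0 := fun h => hw (Subtype.ext h)
  have hrel : ∀ u v, φ u * sympForm m F w v = φ v * sympForm m F w u := by
    intro u v
    have h := sympForm_smul_smul t u v
    simp only [happ, sympForm_add_left, sympForm_add_right, sympForm_smul_left, sympForm_smul_right,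
      sympForm_self, sympForm_swap u (w : Vec m F), CharTwo.neg_eq] at h
    have h2 : φ u * sympForm m F w v + φ v * sympForm m F w u = 0 := by linear_combination h
    rw [eq_neg_of_add_eq_zero_left h2, CharTwo.neg_eq]
  obtain ⟨v₀, -, hv₀⟩ := exists_form_ne_zero (S := ∅) (u := (w : Vec m F)) (by simp [supp_empty]) hw0
  refine ⟨w, φ v₀ / sympForm m F w v₀, hw0, ?_, eq_of_smul_eq fun x => ?_⟩
  · intro h0
    have hφ0 : φ v₀ = 0 := (div_eq_zero_iff.1 h0).resolve_right hv₀
    apply hw0
    obtain ⟨u, hu⟩ := w.2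
    have hu' : φ u • w = w := (hφ u).trans (Subtype.ext hu)
    have hφu : φ u = 0 := by
      have := hrel u v₀
      rw [hφ0, zero_mul] at this
      exact (mul_eq_zero.1 this).resolve_right hv₀
    rw [hφu, zero_smul] at hu'
    exact congr_arg Subtype.val hu'.symm
  · rw [happ, tv_smul, sympForm_swap x, CharTwo.neg_eq]
    congr 2
    field_simp
    linear_combination hrel x v₀

/-- Over a finite field with q elements, q even, an element t of Sp_2m(F) with rank(t − 1) = 1 (a symplectic transvection) has centraliser in Sp_2m(F) of order q^(2m−1) · |Sp_(2m−2)(q)| = q^(2m−1) · q^((m−1)²) · Π_(i=1)^(m−1) (q^(2i) − 1). -/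
theorem result {F : Type*} [Field F] [Fintype F] [CharP F 2] {q : ℕ} (hF : Fintype.card F = q) {m : ℕ} (hm : 1 ≤ m) (t : Matrix.symplecticGroup (Fin m) F) (ht : ((t : Matrix (Fin m ⊕ Fin m) (Fin m ⊕ Fin m) F) - 1).rank = 1) : Nat.card ↥(Subgroup.centralizer ({t} : Set ↥(Matrix.symplecticGroup (Fin m) F))) = q ^ (2 * m - 1) * (q ^ ((m - 1) ^ 2) * ∏ i : Fin (m - 1), (q ^ (2 * ((i : ℕ) + 1)) - 1)) := by
  classical
  obtain ⟨w, c, hw, hc, rfl⟩ := exists_eq_tv t ht
  obtain ⟨k, rfl⟩ : ∃ k, m = k + 1 := ⟨m - 1, by omega⟩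
  have hcent : Subgroup.centralizer ({tv w c} : Set (Sp (k + 1) F)) = MulAction.stabilizer (Sp (k + 1) F) w := by
    ext g
    rw [Subgroup.mem_centralizer_singleton_iff, MulAction.mem_stabilizer_iff]
    constructor
    · intro hg
      have h : tv (g • w) c = tv w c := by rw [← conj_tv, hg, mul_inv_cancel_right]
      obtain ⟨v, hv⟩ : ∃ v, sympForm (k + 1) F v w ≠ 0 := by
        obtain ⟨v, -, hv⟩ := exists_form_ne_zero (S := ∅) (u := w) (by simp [supp_empty]) hw
        exact ⟨v, by rw [sympForm_swap]; simpa using hv⟩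
      have happ : ∀ x, (c * sympForm (k + 1) F x (g • w)) • (g • w) = (c * sympForm (k + 1) F x w) • w := by
        intro x
        have := congr_arg (fun z : Sp (k + 1) F => z • x) h
        simpa [tv_smul] using this
      have hgw : g • w ≠ 0 := smul_ne_zero_of_ne_zero g hw
      have hne : c * sympForm (k + 1) F v (g • w) ≠ 0 := by
        intro h0
        have := happ v
        rw [h0, zero_smul] at this
        exact (smul_ne_zero (mul_ne_zero hc hv) hw) this.symm
      obtain ⟨a, ha⟩ : ∃ a : F, g • w = a • w :=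
        ⟨(c * sympForm (k + 1) F v (g • w))⁻¹ * (c * sympForm (k + 1) F v w), by
          rw [mul_smul, ← happ v, smul_smul, inv_mul_cancel₀ hne, one_smul]⟩
      have h2 := happ v
      rw [ha, sympForm_smul_right, smul_smul] at h2
      have h3 := smul_left_injective F hw h2
      have ha2 : a * a = 1 := mul_left_cancel₀ (mul_ne_zero hc hv) (by linear_combination h3)
      have ha1 : a = 1 := by
        rcases mul_self_eq_one_iff.1 ha2 with h | h
        · exact h
        · rwa [CharTwo.neg_eq] at h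
      rw [ha, ha1, one_smul]
    · intro hg
      have h := conj_tv g w c
      rw [hg, mul_inv_eq_iff_eq_mul] at h
      exact h
  rw [hcent]
  have horb : MulAction.orbit (Sp (k + 1) F) w = {v | v ≠ 0} := by
    ext v
    constructor
    · rintro ⟨g, rfl⟩; exact smul_ne_zero_of_ne_zero g hw
    · intro hv; exact exists_smul_eq_of_ne_zero hw hv
  have hcard := MulAction.index_stabilizer (Sp (k + 1) F) w
  have hmul := (MulAction.stabilizer (Sp (k + 1) F) w).card_mul_index
  rw [hcard, horb, card_Sp hF] at hmul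
  have hn : ({v | v ≠ 0} : Set (Vec (k + 1) F)).ncard = q ^ (2 * (k + 1)) - 1 := by
    have : ({v | v ≠ 0} : Set (Vec (k + 1) F)) = {0}ᶜ := rfl
    rw [this, Set.ncard_compl, Set.ncard_singleton, Nat.card_fun, Nat.card_eq_fintype_card (α := F),
      hF, Nat.card_sum, Nat.card_fin, two_mul]
  rw [hn, Finset.prod_range_succ] at hmul
  have hq1 : 1 < q := hF ▸ Fintype.one_lt_card
  have hpos : 0 < q ^ (2 * (k + 1)) - 1 := by
    have := Nat.one_lt_pow (n := 2 * (k + 1)) (by omega) hq1
    omega
  have hres : Nat.card (MulAction.stabilizer (Sp (k + 1) F) w) =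
      q ^ ((k + 1) ^ 2) * ∏ i ∈ Finset.range k, (q ^ (2 * (i + 1)) - 1) :=
    Nat.eq_of_mul_eq_mul_right hpos (by rw [hmul, mul_assoc])
  rw [hres, Nat.add_sub_cancel, Fin.prod_univ_eq_prod_range (fun i => q ^ (2 * (i + 1)) - 1) k,
    ← mul_assoc, ← pow_add]
  congr 2
  rw [add_sq]
  omega

end Cfsg.Agent.S2594
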