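import Cfsg.Statements.S2599
-- import your own Cfsg.Agent.* helpers here

set_option autoImplicit false
open Cfsg

namespace Cfsg.Agent.S2599

open Matrix

/-- An irreducible invariant subspace of a semisimple isometry is non-degenerate or totally singular: let Q be a quadratic form on F^n (F finite of characteristic p) with non-degenerate polar form f, x an isometry of Q of order prime to p, and U a non-zero x-invariant subspace containing no x-invariant subspace other than 0 and U. Then U meets its f-orthogonal trivially, or Q vanishes on U, or p = 2, U is a line spanned by a non-singular vector and x fixes U pointwise. -/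
theorem result {F : Type*} [Field F] [Fintype F] {p : ℕ} [Fact p.Prime] [CharP F p] {n : ℕ} (Q : QuadraticForm F (Fin n → F)) (hQ : (QuadraticMap.polarBilin Q).Nondegenerate) (x : ↥(Cfsg.isometryGroup F ⇑Q)) (hx : (orderOf x).Coprime p) (U : Submodule F (Fin n → F)) (hU0 : U ≠ ⊥) (hUx : ∀ u ∈ U, ((x : Matrix.GeneralLinearGroup (Fin n) F) : Matrix (Fin n) (Fin n) F).mulVec u ∈ U) (hirr : ∀ W : Submodule F (Fin n → F), W ≤ U → (∀ w ∈ W, ((x : Matrix.GeneralLinearGroup (Fin n) F) : Matrix (Fin n) (Fin n) F).mulVec w ∈ W) → W = ⊥ ∨ W = U) : U ⊓ LinearMap.BilinForm.orthogonal (QuadraticMap.polarBilin Q) U = ⊥ ∨ (∀ u ∈ U, Q u = 0) ∨ (p = 2 ∧ Module.finrank F U = 1 ∧ (∃ u ∈ U, Q u ≠ 0) ∧ ∀ u ∈ U, ((x : Matrix.GeneralLinearGroup (Fin n) F) : Matrix (Fin n) (Fin n) F).mulVec u = u) := by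
  classical
  set X := ((x : Matrix.GeneralLinearGroup (Fin n) F) : Matrix (Fin n) (Fin n) F) with hX
  have hiso : ∀ v, Q (X *ᵥ v) = Q v := fun v => x.2 v v
  have hpol : ∀ u v, QuadraticMap.polarBilin Q (X *ᵥ u) (X *ᵥ v) = QuadraticMap.polarBilin Q u v := by
    intro u v
    simp only [QuadraticMap.polarBilin_apply_apply, QuadraticMap.polar, ← Matrix.mulVec_add, hiso]
  -- X maps U onto itself
  have hinj : Function.Injective (X.mulVec) :=
    Matrix.mulVec_injective_of_isUnit (Units.isUnit _)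
  have hsurj : ∀ u ∈ U, ∃ v ∈ U, X *ᵥ v = u := by
    intro u hu
    let T : U →ₗ[F] U := (Matrix.mulVecLin X).restrict (fun v hv => hUx v hv)
    have hT : Function.Injective T := fun a c h => Subtype.ext (hinj (congr_arg Subtype.val h))
    obtain ⟨v, hv⟩ := (LinearMap.injective_iff_surjective.1 hT) ⟨u, hu⟩
    exact ⟨v, v.2, congr_arg Subtype.val hv⟩
  set W := U ⊓ LinearMap.BilinForm.orthogonal (QuadraticMap.polarBilin Q) U with hW
  have hWinv : ∀ w ∈ W, X *ᵥ w ∈ W := by
    intro w hw
    refine ⟨hUx w hw.1, fun v hv => ?_⟩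
    obtain ⟨v', hv', rfl⟩ := hsurj v hv
    have := hw.2 v' hv'
    simpa [LinearMap.BilinForm.isOrtho_def, hpol] using this
  rcases hirr W inf_le_left hWinv with h | h
  · exact Or.inl h
  · right
    have hfz : ∀ u ∈ U, ∀ v ∈ U, QuadraticMap.polar ⇑Q u v = 0 := by
      intro u hu v hv
      have : v ∈ W := h.symm ▸ hv
      exact this.2 u hu
    have hadd : ∀ u ∈ U, ∀ v ∈ U, Q (u + v) = Q u + Q v := by
      intro u hu v hv
      rw [QuadraticMap.map_add (⇑Q), hfz u hu v hv, add_zero]
    let Z : Submodule F (Fin n → F) :=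
      { carrier := {u | u ∈ U ∧ Q u = 0}
        zero_mem' := ⟨U.zero_mem, map_zero Q⟩
        add_mem' := fun {a c} ha hc => ⟨U.add_mem ha.1 hc.1, by rw [hadd a ha.1 c hc.1, ha.2, hc.2, add_zero]⟩
        smul_mem' := fun c a ha => ⟨U.smul_mem c ha.1, by rw [QuadraticMap.map_smul, ha.2, smul_zero]⟩ }
    rcases hirr Z (fun u hu => hu.1) (fun w hw => ⟨hUx w hw.1, by rw [hiso]; exact hw.2⟩) with h0 | h0
    · right
      have hne : ∀ u ∈ U, u ≠ 0 → Q u ≠ 0 := fun u hu hu0 hq =>
        hu0 ((Submodule.eq_bot_iff Z).1 h0 u ⟨hu, hq⟩)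
      obtain ⟨u₀, hu₀, hu₀0⟩ := Submodule.exists_mem_ne_zero_of_ne_bot hU0
      have hq₀ := hne u₀ hu₀ hu₀0
      have h2 : (2 : F) = 0 := by
        by_contra h2
        have := hfz u₀ hu₀ u₀ hu₀
        rw [QuadraticMap.polar_self] at this
        simp [h2, hq₀] at this
      have hp2 : p = 2 :=
        ((Nat.prime_dvd_prime_iff_eq Fact.out Nat.prime_two).1
          ((CharP.cast_eq_zero_iff F p 2).1 (by exact_mod_cast h2)))
      subst hp2
      have key : ∀ u ∈ U, ∃ t : F, u = t • u₀ := by
        intro u hu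
        obtain ⟨t, ht⟩ := FiniteField.isSquare_of_char_two (ringChar.eq F 2) (Q u / Q u₀)
        refine ⟨t, ?_⟩
        by_contra hne'
        apply hne (u + t • u₀) (U.add_mem hu (U.smul_mem _ hu₀))
        · intro h0'
          exact hne' (by rw [eq_neg_of_add_eq_zero_left h0', ← neg_smul, CharTwo.neg_eq])
        · rw [hadd u hu _ (U.smul_mem _ hu₀), QuadraticMap.map_smul, smul_eq_mul, ← ht,
            div_mul_cancel₀ _ hq₀, CharTwo.add_self_eq_zero]
      refine ⟨rfl, ?_, ⟨u₀, hu₀, hq₀⟩, ?_⟩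
      · have hspan : U = F ∙ u₀ := by
          refine le_antisymm (fun u hu => ?_) ((Submodule.span_singleton_le_iff_mem _ _).2 hu₀)
          obtain ⟨t, rfl⟩ := key u hu
          exact Submodule.smul_mem _ _ (Submodule.mem_span_singleton_self _)
        rw [hspan, finrank_span_singleton hu₀0]
      · intro u hu
        obtain ⟨t, ht⟩ := key _ (hUx u₀ hu₀)
        have hq := hiso u₀
        rw [ht, QuadraticMap.map_smul, smul_eq_mul] at hq
        have ht2 : t * t = 1 := mul_right_cancel₀ hq₀ (by rw [hq, one_mul])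
        have ht1 : t = 1 := by
          rcases mul_self_eq_one_iff.1 ht2 with h | h
          · exact h
          · rwa [CharTwo.neg_eq] at h
        obtain ⟨s, rfl⟩ := key u hu
        rw [Matrix.mulVec_smul, ht, ht1, one_smul]
    · left
      intro u hu
      have : u ∈ Z := h0.symm ▸ hu
      exact this.2

end Cfsg.Agent.S2599
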