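import Cfsg.Statements.S2612
import Cfsg.Agent.Forms59.PlusOmega

set_option autoImplicit false
open Cfsg

namespace Cfsg.Agent.S2612

/-- For the hyperbolic quadratic form Σ x_i y_i on F^(2m) (F finite, m ≥ 1, excluding m = 2 over the field of two elements), Ω⁺_2m(F) (the commutator subgroup of the orthogonal group) contains an element interchanging the two complementary maximal totally singular subspaces {y = 0} and {x = 0} if and only if m is even (dimension divisible by 4). -/
theorem result {F : Type*} [Field F] [Fintype F] {m : ℕ} (hm : 1 ≤ m) (h : Fintype.card F ≠ 2 ∨ m ≠ 2) : (∃ g : ↥(Cfsg.isometryGroup F (Cfsg.quadFormPlus m F)), g ∈ Cfsg.Omega F (Cfsg.quadFormPlus m F) ∧ (∀ v : Fin m ⊕ Fin m → F, (∀ i, v (Sum.inr i) = 0) → ∀ i, (((g : Matrix.GeneralLinearGroup (Fin m ⊕ Fin m) F) : Matrix (Fin m ⊕ Fin m) (Fin m ⊕ Fin m) F).mulVec v) (Sum.inl i) = 0) ∧ (∀ v : Fin m ⊕ Fin m → F, (∀ i, v (Sum.inl i) = 0) → ∀ i, (((g : Matrix.GeneralLinearGroup (Fin m ⊕ Fin m)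 F) : Matrix (Fin m ⊕ Fin m) (Fin m ⊕ Fin m) F).mulVec v) (Sum.inr i) = 0)) ↔ Even m := by
  classical
  rw [← Reflections.coe_qPlus]
  constructor
  · rintro ⟨g, hg, h1, -⟩
    have hfix : Forms59.fixDim g = 0 := by
      rw [Forms59.fixDim]
      refine Submodule.finrank_eq_zero.2 (eq_bot_iff.2 fun x hx => ?_)
      obtain ⟨hxS, hxg⟩ := Submodule.mem_inf.1 hx
      obtain ⟨y, hy, rfl⟩ := Forms59.mem_imgSub.1 hxg
      rw [Submodule.mem_bot]
      funext k
      rcases k with i | i
      · exact h1 y hy i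
      · exact hxS i
    have := (Forms59.classHom_eq_one_iff g).1 (Forms59.omega_le_classHom_ker hg)
    rwa [hfix, Nat.sub_zero] at this
  · intro hev
    obtain ⟨g, hg, hs⟩ := Forms59.exists_swap_mem_omega (F := F) hev
    refine ⟨g, hg, fun v hv i => ?_, fun v hv i => ?_⟩
    · exact (hs v (Sum.inl i)).trans (hv i)
    · exact (hs v (Sum.inr i)).trans (hv i)

end Cfsg.Agent.S2612
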