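import Cfsg.Statements.S2613
import Cfsg.Agent.Forms59.Spinor

set_option autoImplicit false
open Cfsg

namespace Cfsg.Agent.S2613

/-- For the hyperbolic form Σ x_j y_j on F^(2m), F finite with q elements, q odd, and 1 ≤ i ≤ m: the involution negating the first i hyperbolic pairs (x_j, y_j ↦ −x_j, −y_j for j < i) and fixing the rest lies in Ω⁺_2m(q) (commutator subgroup of the orthogonal group) if and only if q^i ≡ 1 (mod 4); its (−1)-eigenspace is a hyperbolic 2i-space. -/
theorem result {F : Type*} [Field F] [Fintype F] {q : ℕ} (hF : Fintype.card F = q) (hq : Odd q) {m : ℕ} (i : ℕ) (hi : 1 ≤ i) (him : i ≤ m) : (∃ g : ↥(Cfsg.isometryGroup F (Cfsg.quadFormPlus m F)), g ∈ Cfsg.Omega F (Cfsg.quadFormPlus m F) ∧ ((g : Matrix.GeneralLinearGroup (Fin m ⊕ Fin m) F) : Matrix (Fin m ⊕ Fin m) (Fin m ⊕ Fin m) F) = Matrix.diagonal (fun k : Fin m ⊕ Fin m => if (Sum.elim (fun j : Fin m => (j : ℕ)) (fun j : Fin m => (j : ℕ)) k) < i then (-1 : F) else 1)) ↔ q ^ i % 4 = 1 := by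
  classical
  have h2 : (2 : F) ≠ 0 := Cfsg.Agent.Forms59.two_ne_zero_of_odd hF hq
  rw [← Reflections.coe_qPlus]
  refine Forms59.exists_negPairs_omega_iff h2 hF hq Sum.inl Sum.inr (fun j => Sum.inl_ne_inr)
    (Sum.elim (fun j : Fin m => (j : ℕ)) (fun j : Fin m => (j : ℕ))) ?_ ?_ ?_ ?_ ?_ i hi him
  · intro j k
    rcases k with k | k <;> simp [Fin.ext_iff]
  · intro j x
    simp [Reflections.coe_qPlus, QuadraticMap.polar, Cfsg.quadFormPlus, add_mul, mul_add,
      Finset.sum_add_distrib, Pi.single_apply]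
  · intro j x
    simp [Reflections.coe_qPlus, QuadraticMap.polar, Cfsg.quadFormPlus, add_mul, mul_add,
      Finset.sum_add_distrib, Pi.single_apply]
  · intro x hx
    funext k
    rcases k with k | k
    · have h := hx (Pi.single (Sum.inr k) 1)
      simpa [Reflections.coe_qPlus, QuadraticMap.polar, Cfsg.quadFormPlus, add_mul, mul_add,
        Finset.sum_add_distrib, Pi.single_apply] using h
    · have h := hx (Pi.single (Sum.inl k) 1)
      simpa [Reflections.coe_qPlus, QuadraticMap.polar, Cfsg.quadFormPlus, add_mul, mul_add,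
        Finset.sum_add_distrib, Pi.single_apply] using h
  · simp; omega

end Cfsg.Agent.S2613
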