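import Cfsg.Statements.S2614
import Cfsg.Agent.Forms59.Spinor
import Cfsg.Agent.Lib.UnitaryOrthogonal.Standard

set_option autoImplicit false
open Cfsg

namespace Cfsg.Agent.S2614

/-- For the form x_0² + Σ x_j y_j on F^(2m+1), F finite with q elements, q odd, and 1 ≤ i ≤ m: the involution of determinant one negating the first i hyperbolic pairs (and fixing x_0 and the other pairs) lies in Ω_(2m+1)(q) (commutator subgroup of the orthogonal group) if and only if q^i ≡ 1 (mod 4); its (−1)-eigenspace is a hyperbolic 2i-space. -/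
theorem result {F : Type*} [Field F] [Fintype F] {q : ℕ} (hF : Fintype.card F = q) (hq : Odd q) {m : ℕ} (i : ℕ) (hi : 1 ≤ i) (him : i ≤ m) : (∃ g : ↥(Cfsg.isometryGroup F (Cfsg.quadFormOdd m F)), g ∈ Cfsg.Omega F (Cfsg.quadFormOdd m F) ∧ ((g : Matrix.GeneralLinearGroup (Unit ⊕ (Fin m ⊕ Fin m)) F) : Matrix (Unit ⊕ (Fin m ⊕ Fin m)) (Unit ⊕ (Fin m ⊕ Fin m)) F) = Matrix.diagonal (fun k : Unit ⊕ (Fin m ⊕ Fin m) => if (Sum.elim (fun _ : Unit => i) (Sum.elim (fun j : Fin m => (j : ℕ)) (fun j : Fin m => (j : ℕ))) k) < i then (-1 : F) else 1)) ↔ q ^ i % 4 = 1 := by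
  classical
  have h2 : (2 : F) ≠ 0 := Cfsg.Agent.Forms59.two_ne_zero_of_odd hF hq
  have hQ : Cfsg.quadFormOdd m F = ⇑(UnitaryOrthogonal.qOdd m F) :=
    funext fun v => (UnitaryOrthogonal.qOdd_apply m v).symm
  rw [hQ]
  refine Iff.trans ?_ (Forms59.exists_negPairs_omega_iff (Q := UnitaryOrthogonal.qOdd m F) h2 hF hq (fun j => Sum.inr (Sum.inl j))
    (fun j => Sum.inr (Sum.inr j)) (fun j => by simp)
    (Sum.elim (fun _ : Unit => m) (Sum.elim (fun j : Fin m => (j : ℕ)) (fun j : Fin m => (j : ℕ))))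
    ?_ ?_ ?_ ?_ ?_ i hi him)
  · refine exists_congr fun g => and_congr Iff.rfl ?_
    refine Iff.of_eq (congrArg _ (congrArg _ (funext fun k => ?_)))
    rcases k with k | k | k
    · show (if i < i then (-1 : F) else 1) = if m < i then -1 else 1
      rw [if_neg (lt_irrefl i), if_neg (by omega)]
    · rfl
    · rfl
  · intro j k
    rcases k with k | k | k
    · simp; omega
    · simp [Fin.ext_iff]
    · simp [Fin.ext_iff]
  · intro j x
    simp [← hQ, QuadraticMap.polar, Cfsg.quadFormOdd, add_mul, mul_add,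
      Finset.sum_add_distrib, Pi.single_apply]
  · intro j x
    simp [← hQ, QuadraticMap.polar, Cfsg.quadFormOdd, add_mul, mul_add,
      Finset.sum_add_distrib, Pi.single_apply]
  · intro x hx
    funext k
    rcases k with k | k | k
    · have h := hx (Pi.single (Sum.inl ()) 1)
      simp [← hQ, QuadraticMap.polar, Cfsg.quadFormOdd, add_mul, mul_add,
        Finset.sum_add_distrib, Pi.single_apply] at h
      have : 2 * x (Sum.inl ()) = 0 := by linear_combination h
      simpa [h2] using this
    · have h := hx (Pi.single (Sum.inr (Sum.inr k)) 1)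
      simpa [← hQ, QuadraticMap.polar, Cfsg.quadFormOdd, add_mul, mul_add,
        Finset.sum_add_distrib, Pi.single_apply] using h
    · have h := hx (Pi.single (Sum.inr (Sum.inl k)) 1)
      simpa [← hQ, QuadraticMap.polar, Cfsg.quadFormOdd, add_mul, mul_add,
        Finset.sum_add_distrib, Pi.single_apply] using h
  · simp; omega

end Cfsg.Agent.S2614
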