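import Cfsg.Statements.S2615
import Cfsg.Agent.Forms59.Spinor
import Cfsg.Agent.Lib.UnitaryOrthogonal.Binary

set_option autoImplicit false
open Cfsg

namespace Cfsg.Agent.S2615

/-- For an elliptic form Σ_(j<m−1) x_j y_j + (z₁² + a z₁z₂ + b z₂²) (anisotropic binary part) on F^(2m), F finite with q elements, q odd, and 1 ≤ i ≤ m − 1: the involution negating the first i hyperbolic pairs and fixing the rest lies in Ω⁻_2m(q) (commutator subgroup of the orthogonal group) if and only if q^i ≡ 1 (mod 4). -/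
theorem result {F : Type*} [Field F] [Fintype F] {q : ℕ} (hF : Fintype.card F = q) (hq : Odd q) {m : ℕ} (a b : F) (hab : ∀ z₁ z₂ : F, z₁ ^ 2 + a * z₁ * z₂ + b * z₂ ^ 2 = 0 → z₁ = 0 ∧ z₂ = 0) (i : ℕ) (hi : 1 ≤ i) (him : i + 1 ≤ m) : (∃ g : ↥(Cfsg.isometryGroup F (Cfsg.quadFormMinus (m - 1) F a b)), g ∈ Cfsg.Omega F (Cfsg.quadFormMinus (m - 1) F a b) ∧ ((g : Matrix.GeneralLinearGroup ((Fin (m - 1) ⊕ Fin (m - 1)) ⊕ Fin 2) F) : Matrix ((Fin (m - 1) ⊕ Fin (m - 1)) ⊕ Fin 2) ((Fin (m - 1) ⊕ Fin (m - 1)) ⊕ Fin 2) F) = Matrix.diagonal (fun k : (Fin (m - 1) ⊕ Fin (m - 1)) ⊕ Fin 2 => if (Sum.elim (Sum.elim (fun j : Fin (m - 1) => (j : ℕ)) (fun j : Fin (m - 1) => (j : ℕ))) (fun _ : Fin 2 => i) k) < i then (-1 : F) else 1)) ↔ q ^ i % 4 = 1 := by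
  classical
  have h2 : (2 : F) ≠ 0 := Cfsg.Agent.Forms59.two_ne_zero_of_odd hF hq
  have hd : 4 * b - a ^ 2 ≠ 0 := UnitaryOrthogonal.BinAniso.disc_ne_zero hab
  rw [← Reflections.coe_qMinus]
  refine Iff.trans ?_ (Forms59.exists_negPairs_omega_iff (Q := Reflections.qMinus (m - 1) F a b) h2 hF hq (fun j : Fin (m - 1) => Sum.inl (Sum.inl j))
    (fun j => Sum.inl (Sum.inr j)) (fun j => by simp)
    (Sum.elim (Sum.elim (fun j : Fin (m - 1) => (j : ℕ)) (fun j : Fin (m - 1) => (j : ℕ)))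
      (fun _ : Fin 2 => m - 1))
    ?_ ?_ ?_ ?_ ?_ i hi (by omega))
  · refine exists_congr fun g => and_congr Iff.rfl ?_
    refine Iff.of_eq (congrArg _ (congrArg _ (funext fun k => ?_)))
    rcases k with (k | k) | k
    · rfl
    · rfl
    · show (if i < i then (-1 : F) else 1) = if m - 1 < i then -1 else 1
      rw [if_neg (lt_irrefl i), if_neg (by omega)]
  · intro j k
    rcases k with (k | k) | k
    · simp [Fin.ext_iff]
    · simp [Fin.ext_iff]
    · simp; omega
  · intro j x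
    simp [Reflections.coe_qMinus, QuadraticMap.polar, Cfsg.quadFormMinus, add_mul, mul_add,
      Finset.sum_add_distrib, Pi.single_apply]
  · intro j x
    simp [Reflections.coe_qMinus, QuadraticMap.polar, Cfsg.quadFormMinus, add_mul, mul_add,
      Finset.sum_add_distrib, Pi.single_apply]
  · intro x hx
    have hz := hx (Pi.single (Sum.inr 0) 1)
    have hw := hx (Pi.single (Sum.inr 1) 1)
    simp [Reflections.coe_qMinus, QuadraticMap.polar, Cfsg.quadFormMinus, add_mul, mul_add,
      Finset.sum_add_distrib, Pi.single_apply] at hz hw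
    funext k
    rcases k with (k | k) | k
    · have h := hx (Pi.single (Sum.inl (Sum.inr k)) 1)
      simpa [Reflections.coe_qMinus, QuadraticMap.polar, Cfsg.quadFormMinus, add_mul, mul_add,
        Finset.sum_add_distrib, Pi.single_apply] using h
    · have h := hx (Pi.single (Sum.inl (Sum.inl k)) 1)
      simpa [Reflections.coe_qMinus, QuadraticMap.polar, Cfsg.quadFormMinus, add_mul, mul_add,
        Finset.sum_add_distrib, Pi.single_apply] using h
    · have z0 : x (Sum.inr 0) * (4 * b - a ^ 2) = 0 := by linear_combination 2 * b * hz - a * hw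
      have z1 : x (Sum.inr 1) * (4 * b - a ^ 2) = 0 := by linear_combination 2 * hw - a * hz
      fin_cases k
      · exact (mul_eq_zero.1 z0).resolve_right hd
      · exact (mul_eq_zero.1 z1).resolve_right hd
  · simp

end Cfsg.Agent.S2615
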