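import Cfsg.Statements.S2617
import Cfsg.Agent.Forms59.Elliptic

set_option autoImplicit false
open Cfsg

namespace Cfsg.Agent.S2617

/-- The two standard quadratic forms of even dimension 2m over a finite field are not isometric: there is no linear isomorphism carrying the elliptic form Σ_(i<m−1) x_i y_i + z₁² + z₁z₂ + ζ z₂² (t² + t + ζ without roots) to the hyperbolic form Σ_(i<m) x_i y_i (they have different Witt index). -/
theorem result {F : Type*} [Field F] [Finite F] {m : ℕ} (hm : 1 ≤ m) (ζ : F) (hζ : ∀ t : F, t ^ 2 + t + ζ ≠ 0) (g : (Fin m ⊕ Fin m → F) ≃ₗ[F] ((Fin (m - 1) ⊕ Fin (m - 1)) ⊕ Fin 2 → F)) : ¬ (∀ v : Fin m ⊕ Fin m → F, Cfsg.quadFormMinus (m - 1) F 1 ζ (g v) = Cfsg.quadFormPlus m F v) := by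
  intro hg
  let U : Submodule F ((Fin (m - 1) ⊕ Fin (m - 1)) ⊕ Fin 2 → F) :=
    (LinearMap.ker (LinearMap.funLeft F F (Sum.inr : Fin m → Fin m ⊕ Fin m))).map g.toLinearMap
  have hU : ∀ u ∈ U, Cfsg.quadFormMinus (m - 1) F 1 ζ u = 0 := by
    rintro u ⟨v, hv, rfl⟩
    have hv' : ∀ i, v (Sum.inr i) = 0 := fun i => congr_fun (LinearMap.mem_ker.1 hv) i
    rw [LinearEquiv.coe_coe, hg, Cfsg.quadFormPlus]
    simp [hv']
  have hdim : m ≤ Module.finrank F U := by
    have h1 : Module.finrank F U = Module.finrank F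
        (LinearMap.ker (LinearMap.funLeft F F (Sum.inr : Fin m → Fin m ⊕ Fin m))) :=
      LinearEquiv.finrank_map_eq g _
    have h2 := LinearMap.finrank_range_add_finrank_ker
      (LinearMap.funLeft F F (Sum.inr : Fin m → Fin m ⊕ Fin m))
    have h3 := Submodule.finrank_le
      (LinearMap.range (LinearMap.funLeft F F (Sum.inr : Fin m → Fin m ⊕ Fin m)))
    simp only [Module.finrank_fintype_fun_eq_card, Fintype.card_sum, Fintype.card_fin] at h2 h3
    omega
  have := Forms59.finrank_le_of_totally_singular_minus (m - 1) 1 ζ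
    (Forms59.anisotropic_of_no_root ζ hζ) U hU
  omega

end Cfsg.Agent.S2617
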