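import Cfsg.Statements.S2619
-- import your own Cfsg.Agent.* helpers here

set_option autoImplicit false
open Cfsg

namespace Cfsg.Agent.S2619

/-- Over a finite field of characteristic two, given an alternating bilinear form B on a finite-dimensional space, a basis (v_i) and scalars (λ_i), there is exactly one quadratic form whose polar form is B and whose value at each v_i is λ_i. -/
theorem result {F V ι : Type*} [Field F] [Finite F] [CharP F 2] [AddCommGroup V] [Module F V] [Fintype ι] (b : Module.Basis ι F V) (B : LinearMap.BilinForm F V) (hB : B.IsAlt) (c : ι → F) : ∃! Q : QuadraticForm F V, QuadraticMap.polarBilin Q = B ∧ ∀ i, Q (b i) = c i := by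
  classical
  have e := Fintype.equivFin ι
  let M : Matrix ι ι F := Matrix.of fun i j =>
    if i = j then c i else if e i < e j then B (b i) (b j) else 0
  let C : LinearMap.BilinForm F V := Matrix.toBilin b M
  have hC : ∀ i j, C (b i) (b j) = M i j := fun i j => by
    simp [C, Matrix.toBilin_apply, Finsupp.single_apply, Finset.sum_ite_eq]
  refine ⟨LinearMap.BilinMap.toQuadraticMap C, ⟨?_, fun i => ?_⟩, ?_⟩
  · rw [LinearMap.BilinMap.polarBilin_toQuadraticMap]
    refine LinearMap.BilinForm.ext_basis b fun i j => ?_
    simp only [LinearMap.add_apply, LinearMap.flip_apply, hC, M, Matrix.of_apply]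
    rcases lt_trichotomy (e i) (e j) with h | h | h
    · have hne : i ≠ j := fun h' => by simp [h'] at h
      simp [hne, hne.symm, h, h.not_gt]
    · obtain rfl := e.injective h
      simp [hB.self_eq_zero, CharTwo.add_self_eq_zero]
    · have hne : i ≠ j := fun h' => by simp [h'] at h
      simp [hne, hne.symm, h, h.not_gt]
      rw [← LinearMap.IsAlt.neg hB, CharTwo.neg_eq]
  · simp [LinearMap.BilinMap.toQuadraticMap_apply, hC, M]
  · rintro Q ⟨hQ, hQb⟩
    have hp : ∀ x y, QuadraticMap.polar ⇑Q x y =
        QuadraticMap.polar ⇑(LinearMap.BilinMap.toQuadraticMap C) x y := by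
      intro x y
      have h1 : QuadraticMap.polarBilin Q x y = B x y := by rw [hQ]
      have h2 : QuadraticMap.polarBilin (LinearMap.BilinMap.toQuadraticMap C) = B := by
        rw [LinearMap.BilinMap.polarBilin_toQuadraticMap]
        refine LinearMap.BilinForm.ext_basis b fun i j => ?_
        simp only [LinearMap.add_apply, LinearMap.flip_apply, hC, M, Matrix.of_apply]
        rcases lt_trichotomy (e i) (e j) with h | h | h
        · have hne : i ≠ j := fun h' => by simp [h'] at h
          simp [hne, hne.symm, h, h.not_gt]
        · obtain rfl := e.injective h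
          simp [hB.self_eq_zero, CharTwo.add_self_eq_zero]
        · have hne : i ≠ j := fun h' => by simp [h'] at h
          simp [hne, hne.symm, h, h.not_gt]
          rw [← LinearMap.IsAlt.neg hB, CharTwo.neg_eq]
      have h3 := congr_arg (fun T : LinearMap.BilinForm F V => T x y) h2
      simp only [QuadraticMap.polarBilin_apply_apply] at h1 h3
      rw [h1, h3]
    ext v
    have hadd : ∀ x y, Q x = LinearMap.BilinMap.toQuadraticMap C x →
        Q y = LinearMap.BilinMap.toQuadraticMap C y →
        Q (x + y) = LinearMap.BilinMap.toQuadraticMap C (x + y) := by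
      intro x y hx hy
      rw [QuadraticMap.map_add (⇑Q), QuadraticMap.map_add (⇑(LinearMap.BilinMap.toQuadraticMap C)), hx, hy, hp]
    rw [← b.sum_repr v]
    refine Finset.sum_induction _ (fun w => Q w = LinearMap.BilinMap.toQuadraticMap C w)
      hadd (by simp) (fun i _ => ?_)
    rw [QuadraticMap.map_smul, QuadraticMap.map_smul, hQb]
    simp [LinearMap.BilinMap.toQuadraticMap_apply, hC, M]

end Cfsg.Agent.S2619
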