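import Cfsg.Statements.S2621
import Cfsg.Agent.Forms59.Standard

set_option autoImplicit false
open Cfsg

namespace Cfsg.Agent.S2621

/-- Discriminant of an elliptic quadratic form Σ_(i<m−1) x_i y_i + z₁² + a z₁z₂ + c z₂² (binary part anisotropic) in dimension 2m over a field with q elements, q odd, m ≥ 1: the determinant of the Gram matrix of its polar form in any basis is a square if and only if m(q − 1)/2 is odd (equivalently q^m ≡ 3 (mod 4)). -/
theorem result {F : Type*} [Field F] [Fintype F] {q : ℕ} (hF : Fintype.card F = q) (hq : Odd q) {m : ℕ} (hm : 1 ≤ m) (a c : F) (hac : ∀ z₁ z₂ : F, z₁ ^ 2 + a * z₁ * z₂ + c * z₂ ^ 2 = 0 → z₁ = 0 ∧ z₂ = 0) {ι : Type*} [Fintype ι] [DecidableEq ι] (b : Module.Basis ι F ((Fin (m - 1) ⊕ Fin (m - 1)) ⊕ Fin 2 → F)) : IsSquare (Matrix.of (fun i j : ι => QuadraticMap.polar (Cfsg.quadFormMinus (m - 1) F a c) (b i) (b j))).det ↔ ¬ Even (m * (q - 1) / 2) := by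
  rw [← Forms59.coe_minusQF]
  show IsSquare (Forms59.gram (Forms59.minusQF F (m - 1) a c) b).det ↔ _
  rw [Forms59.isSquare_gram_det_iff _ b (Pi.basisFun F _), Forms59.gram_minusQF_det,
    ← Forms59.even_iff_isSquare_neg_one_pow F hF hq]
  have hchar : ringChar F ≠ 2 := by
    intro h
    have := FiniteField.even_card_of_char_two h
    obtain ⟨r, rfl⟩ := hq
    omega
  have h2 : (2 : F) ≠ 0 := Ring.two_ne_zero hchar
  have hns : ¬ IsSquare (a ^ 2 - 4 * c) := by
    rintro ⟨r, hr⟩
    have := (hac ((r - a) / 2) 1 (by field_simp; linear_combination (-1 : F) * hr)).2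
    exact one_ne_zero this
  obtain ⟨k, rfl⟩ : ∃ k, m = k + 1 := ⟨m - 1, by omega⟩
  rw [Nat.add_sub_cancel, show (-1 : F) ^ k * (4 * c - a ^ 2) = (-1) ^ (k + 1) * (a ^ 2 - 4 * c) by ring]
  constructor
  · intro h hs
    apply hns
    have h' := hs.mul h
    rw [← mul_assoc, ← pow_add, ← two_mul, pow_mul, neg_one_sq, one_pow, one_mul] at h'
    exact h'
  · intro h
    classical
    have h1 := quadraticChar_neg_one_iff_not_isSquare.2 h
    have h2' := quadraticChar_neg_one_iff_not_isSquare.2 hns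
    have h3 : quadraticChar F ((-1) ^ (k + 1) * (a ^ 2 - 4 * c)) = 1 := by
      rw [map_mul, h1, h2']; norm_num
    have hne : (-1 : F) ^ (k + 1) * (a ^ 2 - 4 * c) ≠ 0 := by
      intro h0; rw [h0, MulChar.map_zero] at h3; exact zero_ne_one h3
    exact (quadraticChar_one_iff_isSquare hne).1 h3

end Cfsg.Agent.S2621
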