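import Cfsg.Statements.S2622
-- import your own Cfsg.Agent.* helpers here

set_option autoImplicit false
open Cfsg

namespace Cfsg.Agent.S2622

theorem nondegenerate_orth {F V : Type*} [Field F] [AddCommGroup V] [Module F V]
    (B : LinearMap.BilinForm F V) (hS : B.IsSymm) (hB : B.Nondegenerate) (v : V) (hv : B v v = 1) :
    (B.compl₁₂ (LinearMap.ker (B v)).subtype (LinearMap.ker (B v)).subtype).Nondegenerate := by
  have key : ∀ x : LinearMap.ker (B v), (∀ y : LinearMap.ker (B v), B x y = 0) → x = 0 := by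
    intro x hx
    apply Subtype.ext
    apply hB.1
    intro y
    have hxv : B v (x : V) = 0 := LinearMap.mem_ker.1 x.2
    have h := hx ⟨y - B v y • v, by simp [hv]⟩
    simp only [map_sub, map_smul, smul_eq_mul] at h
    rw [hS.eq (x : V) v, hxv, mul_zero, sub_zero] at h
    exact h
  constructor
  · intro x hx; exact key x fun y => by simpa using hx y
  · intro y hy; exact key y fun x => by rw [hS.eq]; simpa using hy x

theorem exists_unit_vector {F V : Type*} [Field F] [Finite F] [CharP F 2] [AddCommGroup V] [Module F V]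
    (B : LinearMap.BilinForm F V) (v : V) (hv : B v v ≠ 0) : ∃ w : V, B w w = 1 := by
  obtain ⟨t, ht⟩ := FiniteField.isSquare_of_char_two (ringChar.eq F 2) (B v v)⁻¹
  refine ⟨t • v, ?_⟩
  simp only [map_smul, LinearMap.smul_apply, smul_eq_mul]
  rw [← mul_assoc, ← ht, inv_mul_cancel₀ hv]

theorem orthonormal_aux {F : Type*} [Field F] [Finite F] [CharP F 2] : ∀ (n : ℕ) {V : Type*} [AddCommGroup V]
    [Module F V] [FiniteDimensional F V] (B : LinearMap.BilinForm F V), Module.finrank F V = n →
    B.IsSymm → B.Nondegenerate → (∃ v : V, B v v ≠ 0) →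
    ∃ b : Module.Basis (Fin n) F V, ∀ i j, B (b i) (b j) = if i = j then 1 else 0 := by
  intro n
  induction n with
  | zero =>
    intro V _ _ _ B hV _ _ hna
    obtain ⟨v, hv⟩ := hna
    have := Module.finrank_zero_iff.1 hV
    exact absurd (by rw [Subsingleton.elim v 0]; simp) hv
  | succ n ih =>
    intro V _ _ _ B hV hS hB hna
    obtain ⟨v₀, hv₀⟩ := hna
    obtain ⟨v₁, hv₁⟩ := exists_unit_vector B v₀ hv₀
    -- choose the first vector with non-alternating orthogonal complement
    obtain ⟨v, hv, hgood⟩ : ∃ v, B v v = 1 ∧ (n = 0 ∨ ∃ x, B v x = 0 ∧ B x x ≠ 0) := by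
      by_cases hgood : n = 0 ∨ ∃ x, B v₁ x = 0 ∧ B x x ≠ 0
      · exact ⟨v₁, hv₁, hgood⟩
      push Not at hgood
      obtain ⟨hn, halt⟩ := hgood
      have hd := LinearMap.finrank_range_add_finrank_ker (B v₁)
      have hd' := Submodule.finrank_le (LinearMap.range (B v₁))
      rw [Module.finrank_self] at hd'
      obtain ⟨u, hu, hu0⟩ := (LinearMap.ker (B v₁)).exists_mem_ne_zero_of_ne_bot (by
        intro h; rw [h, finrank_bot] at hd; omega)
      have hnd := nondegenerate_orth B hS hB v₁ hv₁
      obtain ⟨w, hw⟩ : ∃ w : LinearMap.ker (B v₁), B u w ≠ 0 := by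
        by_contra h
        push Not at h
        exact hu0 (congr_arg Subtype.val (hnd.1 ⟨u, hu⟩ fun y => by simpa using h y))
      have hu' : B v₁ u = 0 := LinearMap.mem_ker.1 hu
      have hw' : B v₁ (w : V) = 0 := LinearMap.mem_ker.1 w.2
      let w' : V := (B u w)⁻¹ • (w : V)
      have h1 : B v₁ w' = 0 := by simp [w', hw']
      have h2 : B u w' = 1 := by simp [w', hw]
      refine ⟨v₁ + u, ?_, Or.inr ⟨v₁ + w', ?_, ?_⟩⟩
      · simp [hv₁, hu', hS.eq u v₁, halt u hu']
      · simp [hv₁, h1, h2, hS.eq u v₁, hu', CharTwo.add_self_eq_zero]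
      · simp [hv₁, h1, hS.eq w' v₁, halt w' h1]
    let W := LinearMap.ker (B v)
    have hv0 : B v ≠ 0 := fun h => by simp [h] at hv
    have hd := LinearMap.finrank_range_add_finrank_ker (B v)
    have hr : LinearMap.range (B v) = ⊤ :=
      LinearMap.range_eq_top.2 (LinearMap.surjective hv0)
    rw [hr, finrank_top, Module.finrank_self] at hd
    have hWdim : Module.finrank F W = n := by show Module.finrank F ↥(LinearMap.ker (B v)) = n; omega
    obtain ⟨bW, hbW⟩ : ∃ bW : Module.Basis (Fin n) F W, ∀ i j, B (bW i) (bW j) = if i = j then 1 else 0 := by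
      rcases hgood with rfl | ⟨x, hx, hx'⟩
      · exact ⟨Module.finBasisOfFinrankEq F W hWdim, fun i => i.elim0⟩
      · obtain ⟨bW, h⟩ := ih (B.compl₁₂ W.subtype W.subtype) hWdim
          ⟨fun a c => by simpa using hS.eq (a : V) (c : V)⟩ (nondegenerate_orth B hS hB v hv)
          ⟨⟨x, LinearMap.mem_ker.2 hx⟩, by simpa using hx'⟩
        exact ⟨bW, fun i j => by simpa using h i j⟩
    let b : Module.Basis (Fin (n + 1)) F V := Module.Basis.mkFinCons v bW
      (fun c x hx h => by
        have h' := congr_arg (B v) h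
        simp [hv, LinearMap.mem_ker.1 hx] at h'
        exact h')
      (fun z => ⟨-(B v z), by rw [LinearMap.mem_ker, map_add, map_smul, hv]; simp⟩)
    refine ⟨b, fun i j => ?_⟩
    have hb : ⇑b = Fin.cons v (fun i => (bW i : V)) := Module.Basis.coe_mkFinCons _ _ _ _
    have horth : ∀ i, B v (bW i : V) = 0 := fun i => LinearMap.mem_ker.1 (bW i).2
    rw [hb]
    refine Fin.cases ?_ (fun i => ?_) i <;> refine Fin.cases ?_ (fun j => ?_) j
    · simp [hv]
    · simp [horth, (Fin.succ_ne_zero j).symm]
    · simp [hS.eq _ v, horth, Fin.succ_ne_zero]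
    · simp [hbW]


/-- Over a finite field of characteristic two, a non-degenerate symmetric bilinear form that is not alternating (some vector v has B(v, v) ≠ 0) admits an orthonormal basis. -/
theorem result {F V : Type*} [Field F] [Finite F] [CharP F 2] [AddCommGroup V] [Module F V] [FiniteDimensional F V] {n : ℕ} (hV : Module.finrank F V = n) (B : LinearMap.BilinForm F V) (hS : B.IsSymm) (hB : B.Nondegenerate) (hna : ∃ v : V, B v v ≠ 0) : ∃ b : Module.Basis (Fin n) F V, ∀ i j, B (b i) (b j) = if i = j then 1 else 0 := by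
  exact orthonormal_aux n B hV hS hB hna

end Cfsg.Agent.S2622
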