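import Cfsg.Statements.S2623
import Cfsg.Agent.Forms59.Similar

set_option autoImplicit false
open Cfsg

namespace Cfsg.Agent.S2623

theorem neg_one_pow_sq {R : Type*} [CommRing R] (k : ℕ) : ((-1 : R) ^ k) ^ 2 = 1 := by
  rw [← pow_mul, mul_comm, pow_mul, neg_one_sq, one_pow]

theorem not_isSquare_disc {F : Type*} [Field F] (h2 : (2 : F) ≠ 0) (ζ : F)
    (hζ : ∀ t : F, t ^ 2 + t + ζ ≠ 0) : ¬ IsSquare (1 - 4 * ζ) := by
  rintro ⟨r, hr⟩
  exact hζ ((r - 1) / 2) (by field_simp; linear_combination (-1 : F) * hr)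

theorem disc {F V ι κ : Type*} [Field F] [AddCommGroup V] [Module F V]
    [Fintype ι] [DecidableEq ι] [Fintype κ] [DecidableEq κ]
    (e : V ≃ₗ[F] (κ → F)) (P : QuadraticForm F (κ → F)) (Q : QuadraticForm F V)
    (he : ∀ v, Q v = P (e v)) (b : Module.Basis ι F V) (d : F)
    (hd : (Forms59.gram P (Pi.basisFun F κ)).det = d) :
    ∃ u : F, u ≠ 0 ∧ (Forms59.gram Q b).det = u ^ 2 * d := by
  obtain ⟨u, hu, h⟩ := Forms59.exists_gram_det_eq_sq_mul Q b ((Pi.basisFun F κ).map e.symm)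
  refine ⟨u, hu, ?_⟩
  rw [h, Forms59.gram_map Q P e.symm 1 (fun v => by rw [he, LinearEquiv.apply_symm_apply, one_mul]),
    one_smul, hd]

/-- An isometry of the remainders extends to the sums. -/
theorem glue {F ι : Type*} [Field F] (k : ℕ) (R R' : (ι → F) → F)
    (g : (ι → F) ≃ₗ[F] (ι → F)) (hg : ∀ z, R' (g z) = R z) :
    ∃ T : ((Fin k ⊕ Fin k) ⊕ ι → F) ≃ₗ[F] ((Fin k ⊕ Fin k) ⊕ ι → F), ∀ v,
      (∑ i : Fin k, T v (Sum.inl (Sum.inl i)) * T v (Sum.inl (Sum.inr i))) + R' (T v ∘ Sum.inr) =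
      (∑ i : Fin k, v (Sum.inl (Sum.inl i)) * v (Sum.inl (Sum.inr i))) + R (v ∘ Sum.inr) := by
  refine ⟨(LinearEquiv.sumArrowLequivProdArrow (Fin k ⊕ Fin k) ι F F).trans
    (((LinearEquiv.refl F _).prodCongr g).trans
      (LinearEquiv.sumArrowLequivProdArrow (Fin k ⊕ Fin k) ι F F).symm), fun v => ?_⟩
  rw [← hg]
  rfl


/-- Over a finite field of odd order, two quadratic forms on F^n with non-degenerate polar forms are isometric (related by an invertible linear change of variables) if and only if their discriminants (determinants of the Gram matrices of their polar forms) lie in the same square class. -/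
theorem result {F : Type*} [Field F] [Fintype F] (h2 : (2 : F) ≠ 0) {n : ℕ} (Q₁ Q₂ : QuadraticForm F (Fin n → F)) (h₁ : (QuadraticMap.polarBilin Q₁).Nondegenerate) (h₂ : (QuadraticMap.polarBilin Q₂).Nondegenerate) : (∃ g : (Fin n → F) ≃ₗ[F] (Fin n → F), ∀ v, Q₂ (g v) = Q₁ v) ↔ IsSquare ((Matrix.of (fun i j : Fin n => QuadraticMap.polar ⇑Q₁ (Pi.single i 1) (Pi.single j 1))).det * (Matrix.of (fun i j : Fin n => QuadraticMap.polar ⇑Q₂ (Pi.single i 1) (Pi.single j 1))).det) := by
  have hch : ringChar F ≠ 2 := fun h => h2 (by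
    have : CharP F 2 := ringChar.of_eq h
    exact CharTwo.two_eq_zero)
  have hgram : ∀ Q : QuadraticForm F (Fin n → F),
      (Matrix.of (fun i j : Fin n => QuadraticMap.polar ⇑Q (Pi.single i 1) (Pi.single j 1))) =
        Forms59.gram Q (Pi.basisFun F (Fin n)) := by
    intro Q; ext i j; simp [Forms59.gram]
  rw [hgram Q₁, hgram Q₂]
  constructor
  · rintro ⟨g, hg⟩
    let b := Pi.basisFun F (Fin n)
    have hmap := Forms59.gram_map Q₂ Q₁ g 1 (by simpa using hg) b
    obtain ⟨u, hu, hdet⟩ := Forms59.exists_gram_det_eq_sq_mul Q₂ (b.map g) b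
    rw [hmap, one_smul] at hdet
    refine ⟨u * (Forms59.gram Q₂ b).det, ?_⟩
    rw [hdet]; ring
  · intro hsq
    let b := Pi.basisFun F (Fin n)
    have hn : Module.finrank F (Fin n → F) = n := by simp
    rcases Forms59.exists_normal_form Q₁ h₁ with ⟨k, hk, e, he⟩ | ⟨k, hk, c, e, hc, he⟩ | ⟨k, hk, ζ, e, hζ, he⟩ <;>
      rcases Forms59.exists_normal_form Q₂ h₂ with ⟨k', hk', e', he'⟩ | ⟨k', hk', c', e', hc', he'⟩ | ⟨k', hk', ζ', e', hζ', he'⟩ <;>
      try omega
    · obtain rfl : k' = k := by omega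
      exact ⟨e.trans e'.symm, fun v => by simp [he, he']⟩
    · obtain rfl : k = k' + 1 := by omega
      exfalso
      have d1 := disc e (Forms59.plusQF F _) Q₁ (by rw [Forms59.coe_plusQF]; exact he) b _ (Forms59.gram_plusQF_det F _)
      have d2 := disc e' (Forms59.minusQF F _ 1 ζ') Q₂ (by rw [Forms59.coe_minusQF]; exact he') b _ (Forms59.gram_minusQF_det F _ 1 ζ')
      obtain ⟨u, hu, hu'⟩ := d1; obtain ⟨w, hw, hw'⟩ := d2
      rw [hu', hw'] at hsq
      obtain ⟨r, hr⟩ := hsq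
      exact not_isSquare_disc h2 ζ' hζ' ⟨r / (u * w), by
        field_simp
        have := neg_one_pow_sq (R := F) k'
        linear_combination hr + (-(u ^ 2 * w ^ 2) * (1 - 4 * ζ')) * this⟩
    · obtain rfl : k' = k := by omega
      have d1 := disc e (Forms59.oddQF _ c) Q₁ (by rw [Forms59.coe_oddQF]; exact he) b _ (Forms59.gram_oddQF_det _ c)
      have d2 := disc e' (Forms59.oddQF _ c') Q₂ (by rw [Forms59.coe_oddQF]; exact he') b _ (Forms59.gram_oddQF_det _ c')
      obtain ⟨u, hu, hu'⟩ := d1; obtain ⟨w, hw, hw'⟩ := d2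
      rw [hu', hw'] at hsq
      obtain ⟨r, hr⟩ := hsq
      have hr' : ∃ s : F, c = c' * (s * s) := by
        refine ⟨r / (2 * u * w * c'), ?_⟩
        field_simp
        have := neg_one_pow_sq (R := F) k'
        linear_combination hr - (4 * u ^ 2 * w ^ 2 * c * c') * this
      obtain ⟨s, hs⟩ := hr'
      have hs0 : s ≠ 0 := fun h => hc (by simp [hs, h])
      let g : (Fin 1 → F) ≃ₗ[F] (Fin 1 → F) := LinearEquiv.smulOfUnit (R := F) (Units.mk0 s hs0)
      obtain ⟨T, hT⟩ := glue k' (fun z : Fin 1 → F => c * (z 0 * z 0)) (fun z => c' * (z 0 * z 0)) g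
        (fun z => by simp [g, hs, LinearEquiv.smulOfUnit, Units.smul_def]; ring)
      refine ⟨(e.trans T).trans e'.symm, fun v => ?_⟩
      rw [he, he']
      have h := hT (e v)
      simpa [Forms59.sumForm] using h
    · obtain rfl : k' = k + 1 := by omega
      exfalso
      have d1 := disc e (Forms59.minusQF F _ 1 ζ) Q₁ (by rw [Forms59.coe_minusQF]; exact he) b _ (Forms59.gram_minusQF_det F _ 1 ζ)
      have d2 := disc e' (Forms59.plusQF F _) Q₂ (by rw [Forms59.coe_plusQF]; exact he') b _ (Forms59.gram_plusQF_det F _)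
      obtain ⟨u, hu, hu'⟩ := d1; obtain ⟨w, hw, hw'⟩ := d2
      rw [hu', hw'] at hsq
      obtain ⟨r, hr⟩ := hsq
      exact not_isSquare_disc h2 ζ hζ ⟨r / (u * w), by
        field_simp
        have := neg_one_pow_sq (R := F) k
        linear_combination hr + (-(u ^ 2 * w ^ 2) * (1 - 4 * ζ)) * this⟩
    · obtain rfl : k' = k := by omega
      have d1 := disc e (Forms59.minusQF F _ 1 ζ) Q₁ (by rw [Forms59.coe_minusQF]; exact he) b _ (Forms59.gram_minusQF_det F _ 1 ζ)
      have d2 := disc e' (Forms59.minusQF F _ 1 ζ') Q₂ (by rw [Forms59.coe_minusQF]; exact he') b _ (Forms59.gram_minusQF_det F _ 1 ζ')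
      obtain ⟨u, hu, hu'⟩ := d1; obtain ⟨w, hw, hw'⟩ := d2
      rw [hu', hw'] at hsq
      obtain ⟨r, hr⟩ := hsq
      have hz' : 4 * ζ' - 1 ≠ 0 := fun h => not_isSquare_disc h2 ζ' hζ' ⟨0, by linear_combination (-1 : F) * h⟩
      have hr' : ∃ s : F, 4 * ζ - 1 = (4 * ζ' - 1) * (s * s) := by
        refine ⟨r / (u * w * (4 * ζ' - 1)), ?_⟩
        field_simp
        have := neg_one_pow_sq (R := F) k'
        linear_combination hr - (u ^ 2 * w ^ 2 * (4 * ζ - 1) * (4 * ζ' - 1)) * this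
      obtain ⟨s, hs⟩ := hr'
      have hs0 : s ≠ 0 := fun h => not_isSquare_disc h2 ζ hζ ⟨0, by subst h; linear_combination (-1 : F) * hs⟩
      let M : (Fin 2 → F) →ₗ[F] (Fin 2 → F) := Matrix.mulVecLin !![1, (1 - s) / 2; 0, s]
      have hinj : Function.Injective M := by
        rw [injective_iff_map_eq_zero]
        intro z hz
        have h1 := congr_fun hz 1
        have h0 := congr_fun hz 0
        simp [M, dotProduct, Fin.sum_univ_two, hs0] at h1
        simp [M, dotProduct, Fin.sum_univ_two, h1] at h0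
        funext i; fin_cases i
        · exact h0
        · exact h1
      obtain ⟨T, hT⟩ := glue k' (fun z : Fin 2 → F => z 0 ^ 2 + 1 * z 0 * z 1 + ζ * z 1 ^ 2)
        (fun z => z 0 ^ 2 + 1 * z 0 * z 1 + ζ' * z 1 ^ 2) (LinearEquiv.ofInjectiveEndo M hinj)
        (fun z => by
          rw [LinearEquiv.coe_ofInjectiveEndo]
          simp [M, dotProduct, Fin.sum_univ_two]
          field_simp
          linear_combination (-(z 1) ^ 2) * hs)
      refine ⟨(e.trans T).trans e'.symm, fun v => ?_⟩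
      rw [he, he']
      have h := hT (e v)
      simpa [Cfsg.quadFormMinus] using h

end Cfsg.Agent.S2623
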