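import Cfsg.Statements.S2624
import Cfsg.Agent.Forms59.Similar

set_option autoImplicit false
open Cfsg

namespace Cfsg.Agent.S2624

/-- For a quadratic form Q on F^n with non-degenerate polar form, F finite and n ≥ 2 even, every non-zero scalar c is the multiplier of some similarity: there is an invertible linear map g with Q(g v) = c·Q(v) for all v. -/
theorem result {F : Type*} [Field F] [Fintype F] {n : ℕ} (hn : 2 ≤ n) (he : Even n) (Q : QuadraticForm F (Fin n → F)) (hQ : (QuadraticMap.polarBilin Q).Nondegenerate) (c : F) (hc : c ≠ 0) : ∃ g : (Fin n → F) ≃ₗ[F] (Fin n → F), ∀ v, Q (g v) = c * Q v := by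
  rcases Forms59.exists_normal_form Q hQ with ⟨k, hk, e, he⟩ | ⟨k, hk, -⟩ | ⟨k, hk, ζ, e, hζ, he⟩
  · obtain ⟨T, hT⟩ := Forms59.exists_similarity_sum (ι := Fin 0) k hc (fun _ => 0)
      (LinearEquiv.refl F _) (fun _ => (mul_zero c).symm)
    let u : (Fin k ⊕ Fin k → F) ≃ₗ[F] ((Fin k ⊕ Fin k) ⊕ Fin 0 → F) :=
      LinearEquiv.funCongrLeft F F (Equiv.sumEmpty (Fin k ⊕ Fin k) (Fin 0))
    refine ⟨(e.trans (u.trans (T.trans u.symm))).trans e.symm, fun v => ?_⟩
    rw [he, he]
    have h := hT (u (e v))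
    simp only [add_zero] at h
    simpa [Cfsg.quadFormPlus, u] using h
  · simp only [Module.finrank_fintype_fun_eq_card, Fintype.card_fin] at hk
    obtain ⟨r, rfl⟩ := he
    omega
  · obtain ⟨g, hg⟩ := Forms59.exists_similarity_binary ζ hζ hc
    obtain ⟨T, hT⟩ := Forms59.exists_similarity_sum k hc
      (fun z : Fin 2 → F => z 0 ^ 2 + 1 * z 0 * z 1 + ζ * z 1 ^ 2) g hg
    refine ⟨(e.trans T).trans e.symm, fun v => ?_⟩
    rw [he, he]
    simpa [Cfsg.quadFormMinus] using hT (e v)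

end Cfsg.Agent.S2624
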