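import Cfsg.Statements.S2625
import Cfsg.Agent.Forms59.Gram

set_option autoImplicit false
open Cfsg

namespace Cfsg.Agent.S2625

/-- For a quadratic form Q on F^n with non-degenerate polar form, F finite and n odd (so |F| is odd), the multiplier of any similarity is a square: if g is an invertible linear map with Q(g v) = c·Q(v) for all v then c is a square. -/
theorem result {F : Type*} [Field F] [Fintype F] {n : ℕ} (hn : Odd n) (Q : QuadraticForm F (Fin n → F)) (hQ : (QuadraticMap.polarBilin Q).Nondegenerate) (g : (Fin n → F) ≃ₗ[F] (Fin n → F)) (c : F) (hg : ∀ v, Q (g v) = c * Q v) : IsSquare c := by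
  by_cases h2 : ringChar F = 2
  · exact FiniteField.isSquare_of_char_two h2 c
  rcases eq_or_ne c 0 with rfl | hc
  · exact ⟨0, by simp⟩
  obtain ⟨k, rfl⟩ := hn
  let b := Pi.basisFun F (Fin (2 * k + 1))
  have h := Forms59.gram_map Q Q g c hg b
  obtain ⟨u, hu, hdet⟩ := Forms59.exists_gram_det_eq_sq_mul Q (b.map g) b
  rw [h, Matrix.det_smul, Fintype.card_fin] at hdet
  have hne := Forms59.gram_det_ne_zero hQ b
  have h3 : c ^ (2 * k + 1) = u ^ 2 := mul_right_cancel₀ hne hdet
  exact ⟨u / c ^ k, by field_simp; linear_combination h3⟩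

end Cfsg.Agent.S2625
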