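import Cfsg.Statements.S2631
import Cfsg.Agent.Forms59.Transitive
import Cfsg.Agent.Forms59.PlusOmega

set_option autoImplicit false
open Cfsg

namespace Cfsg.Agent.S2631

/-- For the hyperbolic form Σ x_i y_i on F^(2m) over a finite field (m ≥ 1, excluding m = 2 over the field of two elements), Ω (the commutator subgroup of the orthogonal group) acts transitively on each of the two classes of maximal totally singular subspaces: if U and W are m-dimensional totally singular subspaces with m − dim(U ∩ W) even, some element of Ω carries U to W. -/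
theorem result {F : Type*} [Field F] [Fintype F] {m : ℕ} (hm : 1 ≤ m) (h : Fintype.card F ≠ 2 ∨ m ≠ 2) (U W : Submodule F (Fin m ⊕ Fin m → F)) (hU : Module.finrank F U = m) (hW : Module.finrank F W = m) (hU0 : ∀ u ∈ U, Cfsg.quadFormPlus m F u = 0) (hW0 : ∀ w ∈ W, Cfsg.quadFormPlus m F w = 0) (he : Even (m - Module.finrank F ↥(U ⊓ W))) : ∃ g : ↥(Cfsg.isometryGroup F (Cfsg.quadFormPlus m F)), g ∈ Cfsg.Omega F (Cfsg.quadFormPlus m F) ∧ U.map (Matrix.mulVecLin ((g : Matrix.GeneralLinearGroup (Fin m ⊕ Fin m) F) : Matrix (Fin m ⊕ Fin m) (Fin m ⊕ Fin m) F)) = W := by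
  classical
  rw [← Reflections.coe_qPlus] at hU0 hW0 ⊢
  have hQ := Forms59.qPlus_nondegenerate (F := F) (m := m)
  have hS : ∀ x ∈ CG26.Plus.std m F, Reflections.qPlus m F x = 0 := fun x hx => by
    rw [Reflections.coe_qPlus]; exact CG26.Plus.std_ts x hx
  obtain ⟨g, hg⟩ := Forms59.exists_isometry_map_singular hQ U W (hU.trans hW.symm) hU0 hW0
  obtain ⟨t, ht⟩ := Forms59.exists_isometry_map_singular hQ (CG26.Plus.std m F) U
    (CG26.Plus.std_finrank.trans hU.symm) hS hU0
  have hgcls : Forms59.classHom m F g = 1 := by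
    have e : Forms59.classHom m F (t⁻¹ * (g * t)) = Forms59.classHom m F g := by
      rw [map_mul, map_mul, map_inv, mul_comm (Forms59.classHom m F g), inv_mul_cancel_left]
    rw [← e, Forms59.classHom_eq_one_iff]
    have hfix : Forms59.fixDim (t⁻¹ * (g * t)) = Module.finrank F ↥(U ⊓ W) := by
      rw [Forms59.fixDim, ← Forms59.finrank_imgSub t, Forms59.imgSub_inf, ← Forms59.imgSub_mul,
        mul_inv_cancel_left, Forms59.imgSub_mul]
      unfold Forms59.imgSub
      rw [ht, hg]
    rwa [hfix]
  obtain ⟨⟨u, hu⟩, hu0⟩ := (Module.finrank_pos_iff_exists_ne_zero (R := F) (M := U)).1 (by omega)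
  refine Forms59.omega_map_singular hQ (by simp; omega) (by simp; omega) hU0 hu
    (fun e => hu0 (Subtype.ext e)) g hg (Or.inl fun vs hvs hgv => ?_)
  have hlen : ∀ ws : List (Fin m ⊕ Fin m → F), (∀ w ∈ ws, Reflections.qPlus m F w ≠ 0) →
      Forms59.classHom m F (Forms59.reflProd _ ws) = Multiplicative.ofAdd (ws.length : ZMod 2) := by
    intro ws
    induction ws with
    | nil => intro _; simp [Forms59.reflProd]
    | cons w ws ih =>
      intro hws
      rw [Forms59.reflProd_cons, map_mul, Forms59.classHom_refl (hws w (by simp)),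
        ih (fun x hx => hws x (by simp [hx])), ← ofAdd_add, List.length_cons, Nat.cast_succ,
        add_comm]
  rw [hgv, hlen _ hvs, ofAdd_eq_one, ZMod.natCast_eq_zero_iff_even] at hgcls
  exact hgcls

end Cfsg.Agent.S2631
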