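import Cfsg.Statements.S2634
import Cfsg.Agent.Forms59.Transitive

set_option autoImplicit false
open Cfsg

namespace Cfsg.Agent.S2634

/-- Over a finite field of characteristic two, Ω (the commutator subgroup of the orthogonal group of a quadratic form Q on F^n with non-degenerate polar form; excluding dimension 4 over the field of two elements) acts transitively on the non-singular 1-spaces: for u, v with Q(u) ≠ 0 and Q(v) ≠ 0 some element of Ω carries the line through u to the line through v. -/
theorem result {F : Type*} [Field F] [Fintype F] [CharP F 2] {n : ℕ} (h : Fintype.card F ≠ 2 ∨ n ≠ 4) (Q : QuadraticForm F (Fin n → F)) (hQ : (QuadraticMap.polarBilin Q).Nondegenerate) (u v : Fin n → F) (hu : Q u ≠ 0) (hv : Q v ≠ 0) : ∃ g : ↥(Cfsg.isometryGroup F ⇑Q), g ∈ Cfsg.Omega F ⇑Q ∧ (F ∙ ((g : Matrix.GeneralLinearGroup (Fin n) F) : Matrix (Fin n) (Fin n) F).mulVec u) = F ∙ v := by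
  classical
  have hu0 : u ≠ 0 := fun e => hu (by rw [e, QuadraticMap.map_zero])
  have hv0 : v ≠ 0 := fun e => hv (by rw [e, QuadraticMap.map_zero])
  have hn : 2 ≤ n := by
    by_contra hlt
    haveI : Subsingleton (Fin n) := Fin.subsingleton_iff_le_one.2 (by omega)
    obtain ⟨i, hi⟩ : ∃ i, u i ≠ 0 := by
      by_contra hh; push Not at hh; exact hu0 (funext hh)
    refine hu0 (hQ.1 u fun y => ?_)
    have hy : y = (y i / u i) • u := funext fun j => by
      rw [Subsingleton.elim j i, Pi.smul_apply, smul_eq_mul, div_mul_cancel₀ _ hi]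
    show QuadraticMap.polar ⇑Q u y = 0
    rw [hy, QuadraticMap.polar_smul_right, Reflections.polar_self', CharTwo.two_eq_zero, zero_mul,
      smul_zero]
  obtain ⟨r, hr⟩ := Forms59.isSquare_of_two_eq_zero CharTwo.two_eq_zero (Q u / Q v)
  have hr0 : r ≠ 0 := fun e => div_ne_zero hu hv (by rw [hr, e, zero_mul])
  have hv' : Q (r • v) = Q u := by
    rw [Reflections.map_smul', ← hr, div_mul_cancel₀ _ hv]
  have hrv0 : r • v ≠ 0 := smul_ne_zero hr0 hv0
  let φ := (LinearEquiv.toSpanNonzeroSingleton F _ u hu0).symm.trans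
    (LinearEquiv.toSpanNonzeroSingleton F _ (r • v) hrv0)
  obtain ⟨g, hg⟩ := Forms59.exists_isometry_map hQ (F ∙ u) (F ∙ (r • v)) φ fun x => by
    obtain ⟨a, rfl⟩ := (LinearEquiv.toSpanNonzeroSingleton F _ u hu0).surjective x
    simp only [φ, LinearEquiv.trans_apply, LinearEquiv.symm_apply_apply]
    show Q (a • (r • v)) = Q (a • u)
    rw [Reflections.map_smul', Reflections.map_smul' Q a u, hv']
  obtain ⟨g', hg', hmap⟩ := Forms59.exists_omega_map hQ (by rwa [Fintype.card_fin])
    (by rwa [Fintype.card_fin]) g hg (fun vs hvs _ => by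
      by_cases hev : Even vs.length
      · exact ⟨[], by simp, fun x hx => by simpa [Forms59.reflProd] using hx, by simpa using hev,
          Forms59.isSquare_of_two_eq_zero CharTwo.two_eq_zero _⟩
      · refine ⟨[u], by simpa using hu, Forms59.reflProd_stab _ (by simpa using hu) ?_,
          by simpa [parity_simps] using hev, Forms59.isSquare_of_two_eq_zero CharTwo.two_eq_zero _⟩
        intro w hw
        rw [List.mem_singleton] at hw
        exact Or.inl (by rw [hw]; exact Submodule.mem_span_singleton_self u))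
  refine ⟨g', hg', ?_⟩
  rw [Submodule.map_span, Set.image_singleton, Matrix.mulVecLin_apply] at hmap
  rw [hmap]
  exact Submodule.span_singleton_smul_eq (IsUnit.mk0 r hr0) v

end Cfsg.Agent.S2634
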