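import Cfsg.Statements.S2636
-- import your own Cfsg.Agent.* helpers here

set_option autoImplicit false
open Cfsg

namespace Cfsg.Agent.S2636

theorem zpow_smul_fixed {F : Type*} [Field F] (σ : RingAut F) (x : F) (hx : σ x = x) (k : ℤ) :
    (σ ^ k) x = x := by
  have hinv : σ⁻¹ x = x := by
    have h : (σ⁻¹ * σ) x = x := by rw [inv_mul_cancel]; rfl
    have h' : σ⁻¹ (σ x) = x := h
    rwa [hx] at h'
  induction k with
  | zero => simp
  | succ i ih =>
    rw [zpow_add_one]
    show (σ ^ (i : ℤ)) (σ x) = x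
    rw [hx, ih]
  | pred i ih =>
    rw [zpow_sub_one]
    show (σ ^ (-(i : ℤ))) (σ⁻¹ x) = x
    rw [hinv, ih]


/-- Centraliser of a field automorphism in PGL_n: let F be the field with q = q₀^r elements, σ a field automorphism of F of prime order r (so its fixed field has q₀ elements) and n ≥ 1. The invertible matrices g whose entrywise image under σ is a scalar multiple of g — those whose coset modulo scalars is fixed by σ — number (q − 1)/(q₀ − 1) · |GL_n(q₀)|; equivalently the centraliser in PGL_n(q) of the induced automorphism has the order of PGL_n(q₀). -/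
theorem result {F : Type*} [Field F] [Fintype F] {q₀ r n : ℕ} (hr : r.Prime) (hn : 1 ≤ n) (hF : Fintype.card F = q₀ ^ r) (σ : F ≃+* F) (hσ : orderOf σ = r) : Nat.card {g : GL (Fin n) F // ∃ c : F, c ≠ 0 ∧ (g : Matrix (Fin n) (Fin n) F).map σ = c • (g : Matrix (Fin n) (Fin n) F)} = (q₀ ^ r - 1) / (q₀ - 1) * ∏ i : Fin n, (q₀ ^ n - q₀ ^ (i : ℕ)) := by
  classical
  let H : Subgroup (RingAut F) := Subgroup.zpowers σ
  let F₀ : Subfield F := FixedPoints.subfield H F
  have hmem : ∀ x : F, x ∈ F₀ ↔ σ x = x := by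
    intro x
    constructor
    · intro hx; exact hx ⟨σ, Subgroup.mem_zpowers σ⟩
    · intro hx g
      obtain ⟨g, hg⟩ := g
      obtain ⟨k, rfl⟩ := Subgroup.mem_zpowers_iff.1 hg
      exact zpow_smul_fixed σ x hx k
  have hHcard : Nat.card H = r := by rw [Nat.card_zpowers, hσ]
  haveI : Finite H := Nat.finite_of_card_ne_zero (by rw [hHcard]; exact hr.ne_zero)
  letI : Fintype H := Fintype.ofFinite H
  haveI : FaithfulSMul H F := ⟨fun {g₁ g₂} h => Subtype.ext (RingEquiv.ext h)⟩
  have hrank : Module.finrank F₀ F = r := by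
    rw [← hHcard, Nat.card_eq_fintype_card]
    exact FixedPoints.finrank_eq_card H F
  have hcard0 : Nat.card F₀ = q₀ := by
    have h := Module.natCard_eq_pow_finrank (K := F₀) (V := F)
    rw [hrank, Nat.card_eq_fintype_card (α := F), hF] at h
    exact Nat.pow_left_injective hr.ne_zero h.symm
  -- the homomorphism from Fˣ × GL_n(F₀)
  let s : Fˣ →* GL (Fin n) F := Units.map (Matrix.scalar (Fin n) : F →+* Matrix (Fin n) (Fin n) F).toMonoidHom
  let ι : GL (Fin n) F₀ →* GL (Fin n) F := Units.map (F₀.subtype.mapMatrix : Matrix (Fin n) (Fin n) F₀ →+* _).toMonoidHom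
  have hcomm : ∀ (a : Fˣ) (h : GL (Fin n) F), s a * h = h * s a := by
    intro a h
    refine Units.ext ?_
    simp only [Units.val_mul, s, Units.coe_map, RingHom.toMonoidHom_eq_coe, MonoidHom.coe_coe]
    exact (Matrix.scalar_commute (a : F) (fun r' => mul_comm _ _) _).eq
  let Φ : Fˣ × GL (Fin n) F₀ →* GL (Fin n) F :=
    { toFun := fun p => s p.1 * ι p.2
      map_one' := by simp
      map_mul' := fun p p' => by
        simp only [Prod.fst_mul, Prod.snd_mul, map_mul]
        rw [mul_assoc, ← mul_assoc (s p'.1), hcomm p'.1 (ι p.2), mul_assoc, ← mul_assoc] }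
  have hval : ∀ p i j, ((Φ p : GL (Fin n) F) : Matrix (Fin n) (Fin n) F) i j =
      (p.1 : F) * (((p.2 : Matrix (Fin n) (Fin n) F₀) i j : F₀) : F) := by
    intro p i j
    simp [Φ, s, ι, Matrix.scalar_apply, Matrix.diagonal_mul]
  have hrange : ∀ g : GL (Fin n) F, g ∈ Φ.range ↔
      ∃ c : F, c ≠ 0 ∧ (g : Matrix (Fin n) (Fin n) F).map σ = c • (g : Matrix (Fin n) (Fin n) F) := by
    intro g
    constructor
    · rintro ⟨p, rfl⟩
      refine ⟨σ (p.1 : F) / (p.1 : F), div_ne_zero (by simp) (Units.ne_zero _), ?_⟩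
      ext i j
      simp only [Matrix.map_apply, Matrix.smul_apply, hval, smul_eq_mul, map_mul]
      rw [(hmem _).1 ((p.2 : Matrix (Fin n) (Fin n) F₀) i j).2]
      field_simp
    · rintro ⟨c, hc, hg⟩
      have hg' : ∀ i j, σ ((g : Matrix (Fin n) (Fin n) F) i j) = c * (g : Matrix (Fin n) (Fin n) F) i j :=
        fun i j => congr_fun (congr_fun hg i) j
      obtain ⟨i₀, j₀, hx⟩ : ∃ i j, (g : Matrix (Fin n) (Fin n) F) i j ≠ 0 := by
        by_contra hall
        push Not at hall
        have hz : (g : Matrix (Fin n) (Fin n) F) = 0 := Matrix.ext hall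
        haveI : Nonempty (Fin n) := ⟨⟨0, hn⟩⟩
        exact g.isUnit.ne_zero hz
      let a : Fˣ := Units.mk0 _ hx
      have hfix : ∀ i j, (g : Matrix (Fin n) (Fin n) F) i j / (a : F) ∈ F₀ := by
        intro i j
        rw [hmem, map_div₀]
        simp only [a, Units.val_mk0, hg']
        field_simp
      let h : Matrix (Fin n) (Fin n) F₀ := Matrix.of fun i j => ⟨_, hfix i j⟩
      have hh : F₀.subtype.mapMatrix h = ((s a⁻¹ * g : GL (Fin n) F) : Matrix (Fin n) (Fin n) F) := by
        ext i j
        simp [h, s, Matrix.scalar_apply, Matrix.diagonal_mul, div_eq_inv_mul]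
      have hu : IsUnit h := by
        rw [Matrix.isUnit_iff_isUnit_det, isUnit_iff_ne_zero]
        intro h0
        have h1 := RingHom.map_det F₀.subtype h
        rw [h0, map_zero, hh] at h1
        exact (Matrix.isUnit_iff_isUnit_det _).1 (Units.isUnit _) |>.ne_zero h1.symm
      refine ⟨(a, hu.unit), Units.ext (Matrix.ext fun i j => ?_)⟩
      rw [hval]
      simp [h, a, IsUnit.unit_spec]
      field_simp
  have hker : Nat.card Φ.ker = q₀ - 1 := by
    let f : F₀ˣ →* Fˣ × GL (Fin n) F₀ :=
      MonoidHom.prod (Units.map F₀.subtype.toMonoidHom)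
        ((Units.map (Matrix.scalar (Fin n) : F₀ →+* Matrix (Fin n) (Fin n) F₀).toMonoidHom).comp (invMonoidHom))
    have hf : Function.Injective f := fun x y hxy =>
      Units.ext (Subtype.ext (congr_arg Units.val (Prod.ext_iff.1 hxy).1))
    have hfk : f.range = Φ.ker := by
      ext p
      constructor
      · rintro ⟨x, rfl⟩
        refine Units.ext (Matrix.ext fun i j => ?_)
        rw [hval]
        by_cases hij : i = j
        · subst hij
          simp [f, Matrix.scalar_apply, invMonoidHom]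
        · simp [f, Matrix.scalar_apply, hij, invMonoidHom]
      · intro hp
        have hp' : ∀ i j, (p.1 : F) * (((p.2 : Matrix (Fin n) (Fin n) F₀) i j : F₀) : F) =
            (1 : Matrix (Fin n) (Fin n) F) i j := fun i j => by
          rw [← hval, MonoidHom.mem_ker.1 hp]; rfl
        let i₀ : Fin n := ⟨0, hn⟩
        have h1 := hp' i₀ i₀
        simp at h1
        have hm : (p.1 : F) ∈ F₀ := by
          rw [eq_inv_of_mul_eq_one_left h1]
          exact F₀.inv_mem (SetLike.coe_mem _)
        have hne : (⟨(p.1 : F), hm⟩ : F₀) ≠ 0 := fun h => p.1.ne_zero (congr_arg Subtype.val h)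
        refine ⟨Units.mk0 _ hne, Prod.ext (Units.ext rfl) (Units.ext (Matrix.ext fun i j => Subtype.ext ?_))⟩
        apply mul_left_cancel₀ p.1.ne_zero
        rw [hp' i j]
        by_cases hij : i = j
        · subst hij
          simp [f, Matrix.scalar_apply, invMonoidHom]
        · simp [f, Matrix.scalar_apply, hij, invMonoidHom]
    rw [← hfk, ← Nat.card_congr (MonoidHom.ofInjective hf).toEquiv, Nat.card_units, hcard0]
  have hcount : Nat.card {g : GL (Fin n) F // ∃ c : F, c ≠ 0 ∧
      (g : Matrix (Fin n) (Fin n) F).map σ = c • (g : Matrix (Fin n) (Fin n) F)} = Nat.card Φ.range :=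
    Nat.card_congr (Equiv.subtypeEquivRight fun g => (hrange g).symm)
  have hmain := Φ.ker.card_mul_index
  rw [Subgroup.index_ker, hker, Nat.card_prod, Nat.card_units, Nat.card_eq_fintype_card (α := F), hF] at hmain
  letI : Fintype F₀ := Fintype.ofFinite F₀
  have hGL : Nat.card (GL (Fin n) F₀) = ∏ i : Fin n, (q₀ ^ n - q₀ ^ (i : ℕ)) := by
    rw [Matrix.card_GL_field, ← Nat.card_eq_fintype_card, hcard0]
  rw [hGL] at hmain
  have hq1 : 1 < q₀ := hcard0 ▸ Finite.one_lt_card
  obtain ⟨d, hd⟩ := Nat.sub_dvd_pow_sub_pow q₀ 1 r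
  rw [one_pow] at hd
  rw [hcount, hd, Nat.mul_div_cancel_left _ (by omega)]
  rw [hd, mul_assoc] at hmain
  exact Nat.eq_of_mul_eq_mul_left (by omega) hmain

end Cfsg.Agent.S2636
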