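import Cfsg.Statements.S2637
import Cfsg.Agent.Classical10.SpOrderThree
-- import your own Cfsg.Agent.* helpers here

set_option autoImplicit false
open Cfsg

namespace Cfsg.Agent.S2637

/-- Centraliser of a fixed-point-free element of order three in Sp_2m(q) when q ≡ 2 (mod 3): if x ∈ Sp_2m(F) (|F| = q, m ≥ 1) satisfies x³ = 1 and x − 1 is invertible, then its centraliser in Sp_2m(F) has the order of the unitary group GU_m(q), namely q^(m(m−1)/2) Π_(i=1)^m (q^i − (−1)^i) (x lies in the centre of a subgroup GU_m(q) of Sp_2m(q)). -/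
theorem result {F : Type*} [Field F] [Fintype F] {q : ℕ} (hF : Fintype.card F = q) (hq : q % 3 = 2) {m : ℕ} (hm : 1 ≤ m) (x : Matrix.symplecticGroup (Fin m) F) (hx3 : x ^ 3 = 1) (hfpf : IsUnit ((x : Matrix (Fin m ⊕ Fin m) (Fin m ⊕ Fin m) F) - 1)) : (Nat.card ↥(Subgroup.centralizer ({x} : Set ↥(Matrix.symplecticGroup (Fin m) F))) : ℤ) = (q : ℤ) ^ (m * (m - 1) / 2) * ∏ i : Fin m, ((q : ℤ) ^ ((i : ℕ) + 1) - (-1) ^ ((i : ℕ) + 1)) := by
  classical
  have hsm : ∀ v : Fin m ⊕ Fin m → F, x • (x • v) + x • v + v = 0 := by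
    intro v
    set M : Matrix (Fin m ⊕ Fin m) (Fin m ⊕ Fin m) F :=
      (x : Matrix (Fin m ⊕ Fin m) (Fin m ⊕ Fin m) F) with hM
    have h3 : M ^ 3 = 1 := by
      rw [hM, ← SubmonoidClass.coe_pow, hx3]; rfl
    have h0 : M * M + M + 1 = 0 := by
      refine hfpf.mul_right_eq_zero.1 ?_
      rw [sub_mul, one_mul, mul_add, mul_add, mul_one, ← mul_assoc, ← pow_three', h3]
      abel
    have := congrArg (fun A : Matrix (Fin m ⊕ Fin m) (Fin m ⊕ Fin m) F => A.mulVec v) h0
    simpa [Matrix.add_mulVec, Matrix.mulVec_mulVec, Symplectic.smul_eq, hM] using this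
  have e : Nat.card ↥(Subgroup.centralizer ({x} : Set ↥(Matrix.symplecticGroup (Fin m) F))) =
      Nat.card {g : Symplectic.Sp m F // ∀ v : Symplectic.Vec m F, g • (x • v) = x • (g • v)} := by
    refine Nat.card_congr (Equiv.subtypeEquivRight fun g => ?_)
    rw [Subgroup.mem_centralizer_singleton_iff]
    exact ⟨fun h v => by rw [← mul_smul, ← mul_smul, h],
      fun h => Symplectic.eq_of_smul_eq fun v => by rw [mul_smul, mul_smul, h]⟩
  rw [e, Classical10.card_commute_order_three hF hq x hsm, Nat.cast_mul, Nat.cast_pow, Nat.cast_prod,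
    Fin.prod_univ_eq_prod_range (fun i => (q : ℤ) ^ (i + 1) - (-1) ^ (i + 1)) m]
  congr 1
  refine Finset.prod_congr rfl fun i _ => ?_
  have hq1 : 1 ≤ q ^ (i + 1) := Nat.one_le_pow _ _ (by omega)
  rcases Nat.even_or_odd i with he | ho
  · rw [if_pos he, he.add_one.neg_one_pow]; push_cast; ring
  · rw [if_neg (Nat.not_even_iff_odd.2 ho), ho.add_one.neg_one_pow, Nat.cast_sub hq1]; push_cast; ring

end Cfsg.Agent.S2637
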