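import Cfsg.Statements.S2645
import Cfsg.Agent.Forms59.SympSemisimple
-- import your own Cfsg.Agent.* helpers here

set_option autoImplicit false
open Cfsg

namespace Cfsg.Agent.S2645

/-- Number of conjugacy classes of elements of odd prime order r, r different from the characteristic, in the symplectic group Sp_2m(q): let i be the multiplicative order of q modulo r and t = (r − 1)/i. If i is odd the eigenvalue orbits pair off (Λ ≠ Λ⁻¹) and the classes correspond to the non-zero (t/2)-tuples (a_j) with 2i Σ a_j ≤ 2m, giving C(⌊m/i⌋ + t/2, t/2) − 1 classes; if i is even (Λ = Λ⁻¹) they correspond to the non-zero t-tuples with i Σ a_j ≤ 2m, giving C(⌊2m/i⌋ + t, t) − 1 classes. -/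
theorem result {F : Type*} [Field F] [Fintype F] {p q : ℕ} [Fact p.Prime] [CharP F p] (hF : Fintype.card F = q) (m r i t : ℕ) (hr : r.Prime) (hr2 : r ≠ 2) (hrp : r ≠ p) (hi : i = orderOf (q : ZMod r)) (ht : t * i = r - 1) : Nat.card {C : ConjClasses ↥(Matrix.symplecticGroup (Fin m) F) // ∃ g : Matrix.symplecticGroup (Fin m) F, ConjClasses.mk g = C ∧ orderOf g = r} = if Odd i then Nat.choose (m / i + t / 2) (t / 2) - 1 else Nat.choose (2 * m / i + t) t - 1 := by
  classical
  subst hF
  haveI : Fact r.Prime := ⟨hr⟩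
  have h : Forms59.SelfDual.Good F r i := ⟨hr2, by
    rw [Ne, CharP.cast_eq_zero_iff F p]
    exact fun h => hrp ((Nat.prime_dvd_prime_iff_eq Fact.out hr).mp h).symm, hi⟩
  have key := Forms59.SelfDual.card_classes_le_one (m := m) h
  let A : Set (ConjClasses ↥(Matrix.symplecticGroup (Fin m) F)) := {C | ∃ g, ConjClasses.mk g = C ∧ g ^ r = 1}
  have hmem : (1 : ConjClasses ↥(Matrix.symplecticGroup (Fin m) F)) ∈ A := ⟨1, rfl, one_pow r⟩
  have hset : {C : ConjClasses ↥(Matrix.symplecticGroup (Fin m) F) | ∃ g : Matrix.symplecticGroup (Fin m) F,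
      ConjClasses.mk g = C ∧ orderOf g = r} = A \ {1} := by
    ext C
    constructor
    · rintro ⟨g, rfl, hg⟩
      refine ⟨⟨g, rfl, hg ▸ pow_orderOf_eq_one g⟩, fun h => hr.ne_one ?_⟩
      rw [Set.mem_singleton_iff, ConjClasses.one_eq_mk_one, ConjClasses.mk_eq_mk_iff_isConj] at h
      rw [← hg, isConj_one_left.mp h, orderOf_one]
    · rintro ⟨⟨g, rfl, hg⟩, h1⟩
      exact ⟨g, rfl, orderOf_eq_prime hg fun h => h1 (by rw [h]; exact ConjClasses.one_eq_mk_one.symm)⟩
  show Nat.card ↥{C : ConjClasses ↥(Matrix.symplecticGroup (Fin m) F) | ∃ g : Matrix.symplecticGroup (Fin m) F,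
      ConjClasses.mk g = C ∧ orderOf g = r} = _
  rw [hset, Nat.card_coe_set_eq, Set.ncard_sdiff_singleton_of_mem hmem, ← Nat.card_coe_set_eq,
    show Nat.card ↥A = Nat.card ↥(Forms59.SelfDual.Tup h (2 * m)) from key]
  split_ifs with hodd
  · rw [Forms59.SelfDual.card_tup_odd h hodd ht]
  · rw [Forms59.SelfDual.card_tup_even h (Nat.not_odd_iff_even.1 hodd) ht]


end Cfsg.Agent.S2645
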