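import Cfsg.Statements.S2647
import Cfsg.Agent.Forms59.OmegaSeven
import Cfsg.Agent.Fusion91.SimpleFinal
import Cfsg.Agent.CG26.QuadClass
import Cfsg.Agent.Lib.UnitaryOrthogonal.Standard
import Cfsg.Agent.S0286
-- import your own Cfsg.Agent.* helpers here

set_option autoImplicit false
open Cfsg

namespace Cfsg.Agent.S2647


theorem card_two_part {q n : ℕ} (hq : q % 8 = 3 ∨ q % 8 = 5)
    (h : n * 4 = 2 * q ^ (3 ^ 2) * ∏ i ∈ Finset.range 3, (q ^ (2 * (i + 1)) - 1)) :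
    n.factorization 2 = 9 := by
  obtain ⟨m, hm⟩ : ∃ m, q ^ 2 = 16 * m + 9 := by
    rcases hq with e | e
    · obtain ⟨k, rfl⟩ : ∃ k, q = 8 * k + 3 := ⟨q / 8, by omega⟩
      exact ⟨4 * k ^ 2 + 3 * k, by ring⟩
    · obtain ⟨k, rfl⟩ : ∃ k, q = 8 * k + 5 := ⟨q / 8, by omega⟩
      exact ⟨4 * k ^ 2 + 5 * k + 1, by ring⟩
  have e2 : q ^ 2 - 1 = 8 * (2 * m + 1) := by omega
  have e4 : q ^ 4 - 1 = 16 * (2 * (8 * m ^ 2 + 9 * m + 2) + 1) := by
    have : q ^ 4 = 16 * (2 * (8 * m ^ 2 + 9 * m + 2) + 1) + 1 := by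
      rw [show q ^ 4 = (q ^ 2) ^ 2 by ring, hm]; ring
    omega
  have e6 : q ^ 6 - 1 = 8 * (2 * (256 * m ^ 3 + 432 * m ^ 2 + 243 * m + 45) + 1) := by
    have : q ^ 6 = 8 * (2 * (256 * m ^ 3 + 432 * m ^ 2 + 243 * m + 45) + 1) + 1 := by
      rw [show q ^ 6 = (q ^ 2) ^ 3 by ring, hm]; ring
    omega
  set r := q ^ 9 * (2 * m + 1) * (2 * (8 * m ^ 2 + 9 * m + 2) + 1) *
    (2 * (256 * m ^ 3 + 432 * m ^ 2 + 243 * m + 45) + 1) with hr
  have hn : n = 2 ^ 9 * r := by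
    have : n * 4 = 2 ^ 9 * r * 4 := by
      rw [h]
      simp only [Finset.prod_range_succ, Finset.prod_range_zero, one_mul]
      norm_num [e2, e4, e6, hr]
      ring
    omega
  have ho : Odd r := by
    have hq1 : Odd q := Nat.odd_iff.mpr (by omega)
    exact ((hq1.pow.mul (odd_two_mul_add_one _)).mul (odd_two_mul_add_one _)).mul
      (odd_two_mul_add_one _)
  rw [hn, Nat.factorization_mul (by norm_num) (by rcases ho with ⟨k, hk⟩; omega),
    Nat.prime_two.factorization_pow, Finsupp.add_apply, Finsupp.single_eq_same,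
    Nat.factorization_eq_zero_of_not_dvd (Nat.odd_iff.mp ho |> fun e => by omega)]


/-- Let q be an odd prime power with q ≡ ±3 (mod 8), F a field with q elements and S a Sylow 2-subgroup of the commutator subgroup Ω₇(q) of the orthogonal group of the form x₀² + x₁y₁ + x₂y₂ + x₃y₃ over F. Then every automorphism of S induced by N(S) is inner, S has no strongly closed subgroup other than 1 and S with respect to this group, and the 2-fusion system of Ω₇(q) on S is simple. -/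
theorem result {F : Type*} [Field F] [Fintype F] [DecidableEq F] (q : ℕ) (hF : Fintype.card F = q) (hq : q % 8 = 3 ∨ q % 8 = 5) (S : Sylow 2 ↥(Cfsg.Omega F (Cfsg.quadFormOdd 3 F))) : (Cfsg.groupFusionSystem (S : Subgroup ↥(Cfsg.Omega F (Cfsg.quadFormOdd 3 F)))).autGroup (S : Subgroup ↥(Cfsg.Omega F (Cfsg.quadFormOdd 3 F))) = Cfsg.Inn ↥(S : Subgroup ↥(Cfsg.Omega F (Cfsg.quadFormOdd 3 F))) ∧ (∀ T : Subgroup ↥(Cfsg.Omega F (Cfsg.quadFormOdd 3 F)), (Cfsg.groupFusionSystem (S : Subgroup ↥(Cfsg.Omega F (Cfsg.quadFormOdd 3 F)))).StronglyClosed T → T = ⊥ ∨ T = (S : Subgroup ↥(Cfsg.Omega F (Cfsg.quadFormOdd 3 F)))) ∧ (Cfsg.groupFusionSystem (S : Subgroup ↥(Cfsg.Omega F (Cfsg.quadFormOdd 3 F)))).IsSimple 2 := by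
  classical
  have hodd : Odd q := Nat.odd_iff.mpr (by omega)
  have h2 : (2 : F) ≠ 0 := Forms59.two_ne_zero_of_odd hF hodd
  have hQ : Cfsg.quadFormOdd 3 F = ⇑(UnitaryOrthogonal.qOdd 3 F) :=
    funext fun v => (UnitaryOrthogonal.qOdd_apply 3 v).symm
  have hcardI := Cfsg.Agent.S0286.result hF hodd 3
  revert S
  rw [hQ] at hcardI ⊢
  set Q := UnitaryOrthogonal.qOdd 3 F with hQdef
  intro S
  have hnd : Q.polarBilin.Nondegenerate := by
    have h : ∀ x, (∀ y, QuadraticMap.polar ⇑Q x y = 0) → x = 0 := by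
      intro x hx
      funext k
      rcases k with k | k | k
      · have h := hx (Pi.single (Sum.inl ()) 1)
        simp [← hQ, QuadraticMap.polar, Cfsg.quadFormOdd, add_mul, mul_add,
          Finset.sum_add_distrib, Pi.single_apply] at h
        have : 2 * x (Sum.inl ()) = 0 := by linear_combination h
        simpa [h2] using this
      · have h := hx (Pi.single (Sum.inr (Sum.inr k)) 1)
        simpa [← hQ, QuadraticMap.polar, Cfsg.quadFormOdd, add_mul, mul_add,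
          Finset.sum_add_distrib, Pi.single_apply] using h
      · have h := hx (Pi.single (Sum.inr (Sum.inl k)) 1)
        simpa [← hQ, QuadraticMap.polar, Cfsg.quadFormOdd, add_mul, mul_add,
          Finset.sum_add_distrib, Pi.single_apply] using h
    exact ⟨h, fun x hx => h x fun y => by rw [QuadraticMap.polar_comm]; exact hx y⟩
  obtain ⟨c, g, hc, hg⟩ := CG26.exists_sum_sq_of_odd h2 Q hnd (n := 7)
    (by simp [Module.finrank_fintype_fun_eq_card]) (by decide)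
  let Φ : Forms59.OmegaSeven.Frame Q :=
    { B := Module.Basis.ofEquivFun g.symm
      c := c
      c_ne := hc
      two := h2
      Q_eq := fun x => by
        rw [← Module.Basis.equivFun_symm_apply, Module.Basis.equivFun_ofEquivFun, LinearEquiv.symm_symm]
        exact hg x }
  haveI : Fact (Nat.Prime 2) := ⟨Nat.prime_two⟩
  have hidx := Cfsg.Agent.Reflections.omega_index_four h2 hnd
    (by rw [Φ.card_eq]; omega)
  have hv : (Nat.card ↥(Cfsg.Omega F ⇑Q)).factorization 2 = 9 := by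
    refine card_two_part hq ?_
    rw [← hcardI, ← Subgroup.card_mul_index (Cfsg.Omega F ⇑Q), hidx]
  let S₀ : Sylow 2 ↥(Cfsg.Omega F ⇑Q) := Sylow.ofCard Φ.S0 (by rw [hv, Φ.card_S0]; rfl)
  obtain ⟨a, ha⟩ := MulAction.exists_smul_eq ↥(Cfsg.Omega F ⇑Q) S₀ S
  have hS : (S : Subgroup ↥(Cfsg.Omega F ⇑Q)) = Φ.S0.map (MulAut.conj a).toMonoidHom := by
    rw [← ha]; rfl
  have hno : Fusion91.NoClosed (S : Subgroup ↥(Cfsg.Omega F ⇑Q)) := hS ▸ Φ.noClosed.smul a
  have hon : Fusion91.OddNormCentral (S : Subgroup ↥(Cfsg.Omega F ⇑Q)) :=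
    hS ▸ Φ.oddNormCentral.smul a
  have hinner : ∀ x ∈ Subgroup.normalizer ((S : Subgroup ↥(Cfsg.Omega F ⇑Q)) : Set _),
      ∃ s ∈ (S : Subgroup ↥(Cfsg.Omega F ⇑Q)), ∀ y ∈ (S : Subgroup ↥(Cfsg.Omega F ⇑Q)),
        x * y * x⁻¹ = s * y * s⁻¹ :=
    fun x hx => Fusion91.exists_inner_of_oddNormCentral rfl S hon hx
  have hne : (S : Subgroup ↥(Cfsg.Omega F ⇑Q)) ≠ ⊥ := by
    intro hb
    have := S.card_eq_multiplicity
    rw [hv] at this
    rw [show Nat.card ↥(S : Subgroup ↥(Cfsg.Omega F ⇑Q)) = 1 by rw [hb, Subgroup.card_bot]] at this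
    norm_num at this
  refine ⟨?_, ?_, Fusion91.groupFusion_simple_local 2 S hne hno hinner⟩
  · apply le_antisymm
    · intro α hα
      obtain ⟨-, -, x, hx⟩ := Fusion91.hom_of_aut _ le_rfl hα
      have hxn : x ∈ Subgroup.normalizer ((S : Subgroup ↥(Cfsg.Omega F ⇑Q)) : Set _) := by
        refine Subgroup.mem_normalizer_iff.mpr fun y => ⟨fun hy => ?_, fun hy => ?_⟩
        · exact (hx ⟨y, hy⟩).symm ▸ (α ⟨y, hy⟩).2
        · obtain ⟨z, hz⟩ := α.surjective ⟨_, hy⟩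
          have : x * (z : ↥(Cfsg.Omega F ⇑Q)) * x⁻¹ = x * y * x⁻¹ :=
            (hx z).symm.trans (congrArg Subtype.val hz)
          rw [mul_left_inj, mul_right_inj] at this
          exact this ▸ z.2
      obtain ⟨s, hs, hse⟩ := hinner x hxn
      exact ⟨⟨s, hs⟩, MulEquiv.ext fun y => Subtype.ext ((hx y).trans (hse y y.2)).symm⟩
    · rintro _ ⟨s, rfl⟩
      exact (Fusion91.mem_autGroup_iff _ le_rfl).mpr
        ⟨le_rfl, fun y => (MulAut.conj s y).2, (s : ↥(Cfsg.Omega F ⇑Q)), fun y => rfl⟩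
  · intro T hT
    by_cases hbot : T = ⊥
    · exact Or.inl hbot
    refine Or.inr (hno T hT.1 hbot fun x hx b hbx => ?_)
    have hle : Subgroup.zpowers x ≤ T := Subgroup.zpowers_le.mpr hx
    have hmaps : ∀ y : Subgroup.zpowers x,
        b * (y : ↥(Cfsg.Omega F ⇑Q)) * b⁻¹ ∈ (S : Subgroup ↥(Cfsg.Omega F ⇑Q)) := by
      rintro ⟨y, hy⟩
      obtain ⟨i, rfl⟩ := Subgroup.mem_zpowers_iff.mp hy
      show b * x ^ i * b⁻¹ ∈ _
      rw [← conj_zpow]
      exact zpow_mem hbx i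
    exact hT.2 _ hle (Cfsg.conjHom _ b) ⟨hle.trans hT.1, hmaps, b, fun _ => rfl⟩
      ⟨x, Subgroup.mem_zpowers x⟩


end Cfsg.Agent.S2647
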