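import Cfsg.Statements.S2651
import Cfsg.Agent.Forms59.ExtCertCoc
-- import your own Cfsg.Agent.* helpers here

set_option autoImplicit false
open Cfsg

namespace Cfsg.Agent.S2651

/-- The non-split extension of the Mathieu group M₂₃ by its cocode module is unique. Suppose E and E' are finite groups, each with a normal subgroup (N, N'), an isomorphism of the quotient onto M₂₃ = `Spor.M23`, and a surjective additive homomorphism from the binary words on the 24 points `GolayPt` onto the normal subgroup with kernel the Golay code `golayCode` together with its translate by the unit vector at the extra point `none`, intertwining the coordinate permutation w ↦ w ∘ σ⁻¹ (σ the image of gN) with conjugation by g; and suppose that in each group the normal subgroup has no complement. Then E and E' are isomorphic. -/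
theorem result
    {E : Type*} [Group E] [Finite E] (N : Subgroup E) [hN : N.Normal]
    (φ : E ⧸ N ≃* ↥Cfsg.Spor.M23) (θ : (Cfsg.GolayPt → ZMod 2) →+ Additive ↥N)
    (hsurj : Function.Surjective θ)
    (hker : ∀ w : Cfsg.GolayPt → ZMod 2, θ w = 0 ↔ (w ∈ Cfsg.golayCode ∨ w + Pi.single none 1 ∈ Cfsg.golayCode))
    (hθ : ∀ (g : E) (w : Cfsg.GolayPt → ZMod 2),
      ((θ (w ∘ ⇑(((φ (QuotientGroup.mk g) : ↥Cfsg.Spor.M23) : Equiv.Perm Cfsg.GolayPt)⁻¹))).toMul : E)
        = g * ((θ w).toMul : E) * g⁻¹)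
    (hns : ∀ H : Subgroup E, H ⊓ N = ⊥ → H ⊔ N ≠ ⊤)
    {E' : Type*} [Group E'] [Finite E'] (N' : Subgroup E') [hN' : N'.Normal]
    (φ' : E' ⧸ N' ≃* ↥Cfsg.Spor.M23) (θ' : (Cfsg.GolayPt → ZMod 2) →+ Additive ↥N')
    (hsurj' : Function.Surjective θ')
    (hker' : ∀ w : Cfsg.GolayPt → ZMod 2, θ' w = 0 ↔ (w ∈ Cfsg.golayCode ∨ w + Pi.single none 1 ∈ Cfsg.golayCode))
    (hθ' : ∀ (g : E') (w : Cfsg.GolayPt → ZMod 2),
      ((θ' (w ∘ ⇑(((φ' (QuotientGroup.mk g) : ↥Cfsg.Spor.M23) : Equiv.Perm Cfsg.GolayPt)⁻¹))).toMul : E')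
        = g * ((θ' w).toMul : E') * g⁻¹)
    (hns' : ∀ H : Subgroup E', H ⊓ N' = ⊥ → H ⊔ N' ≠ ⊤) :
    Nonempty (E ≃* E') := by
  classical
  obtain ⟨S, hS, hSn, hSa⟩ := Forms59.ExtCert.exists_coc_setting φ θ hsurj hker hθ Forms59.ExtCert.cocCert
    Forms59.ExtCert.cocCert_len Forms59.ExtCert.cocCert_mats
  obtain ⟨S', hS', hSn', hSa'⟩ := Forms59.ExtCert.exists_coc_setting φ' θ' hsurj' hker' hθ' Forms59.ExtCert.cocCert
    Forms59.ExtCert.cocCert_len Forms59.ExtCert.cocCert_mats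
  obtain ⟨z, hz, s, hrel⟩ := S.normalise Forms59.ExtCert.cocCert_rules_len Forms59.ExtCert.cocCert_tabs
    Forms59.ExtCert.cocCert_rows Forms59.ExtCert.cocCert_targets
  obtain ⟨z', hz', s', hrel'⟩ := S'.normalise Forms59.ExtCert.cocCert_rules_len Forms59.ExtCert.cocCert_tabs
    Forms59.ExtCert.cocCert_rows Forms59.ExtCert.cocCert_targets
  have h01 : ∀ u : ZMod 2, u = 0 ∨ u = 1 := by decide
  have hs : s = 1 := (h01 s).resolve_left fun h => by
    obtain ⟨H, hH⟩ := S.exists_complement Forms59.ExtCert.cocCert_pc hz fun r hr => by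
      rw [hrel r hr, h, zero_smul, S.n_zero, one_mul]
    rw [hS] at hH
    exact hns H hH.symm.disjoint.eq_bot hH.symm.sup_eq_top
  have hs' : s' = 1 := (h01 s').resolve_left fun h => by
    obtain ⟨H, hH⟩ := S'.exists_complement Forms59.ExtCert.cocCert_pc hz' fun r hr => by
      rw [hrel' r hr, h, zero_smul, S'.n_zero, one_mul]
    rw [hS'] at hH
    exact hns' H hH.symm.disjoint.eq_bot hH.symm.sup_eq_top
  refine Forms59.ExtCert.iso_of_same_class Forms59.ExtCert.cocCert_pc S S' (fun x x' v hxx => ?_) hz hz'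
    (fun r => Forms59.ExtCert.Setting.vvec Forms59.ExtCert.cocCert r)
    (fun r hr => by rw [hrel r hr, hs, one_smul]) (fun r hr => by rw [hrel' r hr, hs', one_smul])
  obtain ⟨u, hu⟩ := Forms59.ExtCert.exists_coords θ hker
    (Forms59.ExtCert.wordOf Forms59.ExtCert.cocBW v ∘ ⇑((S.π x : Equiv.Perm Cfsg.GolayPt)⁻¹))
  refine ⟨u, ?_, ?_⟩
  · rw [hSa, hu, hSn]
  · have hk : ∀ a b, θ a = θ b → θ' a = θ' b := fun a b hab => by
      have h1 : θ (a - b) = 0 := by rw [map_sub, hab, sub_self]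
      rw [← sub_eq_zero, ← map_sub]
      exact (hker' _).2 ((hker _).1 h1)
    rw [hSa', ← hxx, hk _ _ hu, hSn']


end Cfsg.Agent.S2651
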