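import Cfsg.Statements.S2653
import Cfsg.Agent.AltSection.Reduce

set_option autoImplicit false
open scoped MatrixGroups
open Cfsg

namespace Cfsg.Agent.S2653

/-- Alternating sections of finite linear groups. Let `F` be a finite field of characteristic `p` and `n` a natural number, and suppose some subgroup `H` of GL_n(F) has a normal subgroup `K` with `H ⧸ K` isomorphic to the alternating group of degree `r ≥ 9`. Then `n ≥ r - 2` when `p` divides `r`, and `n ≥ r - 1` otherwise (the smallest degree of a nontrivial projective representation of that alternating group in characteristic `p`). The same bound follows for every classical group with natural module of dimension `n` over `F`, since each is a section of a subgroup of GL_n(F). -/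
theorem result {F : Type*} [Field F] [Fintype F] (p : ℕ) [Fact p.Prime] [CharP F p]
    (n : ℕ) (r : ℕ) (H : Subgroup (GL (Fin n) F)) (K : Subgroup ↥H) [K.Normal]
    (h : Nonempty (↥H ⧸ K ≃* ↥(alternatingGroup (Fin r)))) (hr : 9 ≤ r) :
    r - 1 - (if p ∣ r then 1 else 0) ≤ n := by
  classical
  haveI : Algebra (ZMod p) F := ZMod.algebra F p
  haveI : Algebra.IsAlgebraic (ZMod p) F := Algebra.IsAlgebraic.of_finite (ZMod p) F
  let L := AlgebraicClosure (ZMod p)
  haveI : CharP L p := charP_of_injective_algebraMap (algebraMap (ZMod p) L).injective p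
  let φ : F →+* L := (IsAlgClosed.lift : F →ₐ[ZMod p] L).toRingHom
  let m : GL (Fin n) F →* GL (Fin n) L := Matrix.GeneralLinearGroup.map φ
  have hm : Function.Injective m := fun a b e => Units.ext
    (Matrix.map_injective φ.injective (congrArg Units.val e))
  let μ : ↥H →* GL (Fin n) L := m.comp H.subtype
  have hμ : Function.Injective μ := hm.comp Subtype.val_injective
  let e : ↥H ≃* ↥μ.range := μ.ofInjective hμ
  obtain ⟨θ⟩ := h
  let σ : ↥μ.range →* ↥(alternatingGroup (Fin r)) :=
    (θ.toMonoidHom.comp (QuotientGroup.mk' K)).comp e.symm.toMonoidHom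
  let π : ↥μ.range →* Equiv.Perm (Fin r) := (alternatingGroup (Fin r)).subtype.comp σ
  let ρ : ↥μ.range →* Module.End L (Fin n → L) :=
    (Matrix.toLinAlgEquiv' : Matrix (Fin n) (Fin n) L ≃ₐ[L] _).toAlgHom.toRingHom.toMonoidHom.comp
      ((Units.coeHom _).comp μ.range.subtype)
  exact AltSection.boundDim r hr n p L (Fin n → L) ↥μ.range ρ π (by simp)
    (fun g => Equiv.Perm.mem_alternatingGroup.mp (σ g).2)
    (fun s hs => by
      obtain ⟨q, hq⟩ := θ.surjective ⟨s, Equiv.Perm.mem_alternatingGroup.mpr hs⟩
      obtain ⟨x, rfl⟩ := QuotientGroup.mk'_surjective K q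
      refine ⟨e x, ?_⟩
      show ((θ (QuotientGroup.mk' K (e.symm (e x)))) : Equiv.Perm (Fin r)) = s
      rw [e.symm_apply_apply, hq])
    (fun g hg => by
      have : g = 1 := Subtype.ext (Units.ext
        ((Matrix.toLinAlgEquiv' : Matrix (Fin n) (Fin n) L ≃ₐ[L] _).injective
          (hg.trans (map_one _).symm)))
      rw [this, map_one])

end Cfsg.Agent.S2653
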