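import Cfsg.Statements.S2657
import Cfsg.Agent.AltTorus12.Core
import Cfsg.Agent.AltTorus12.F4Mat
import Cfsg.Agent.ChevTori.SylowMain
import Cfsg.Agent.ChevFixed.F4
import Cfsg.Agent.ChevGroup.Mat.OrderF4
import Cfsg.Agent.WeylGroup.F4
import Mathlib.FieldTheory.Finite.Extension
import Mathlib.GroupTheory.SpecificGroups.Alternating
import Mathlib.GroupTheory.Perm.ViaEmbedding

set_option autoImplicit false
open scoped MatrixGroups
open Cfsg

namespace Cfsg.Agent.S2657

open Cfsg.Lie Cfsg.Agent.ChevGroup Cfsg.Agent.ChevGroup.TypeF4 Cfsg.Agent.ChevTori Cfsg.Agent.ChevCore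
  Cfsg.Agent.AltTorus12 Cfsg.Agent.ChevFixed

theorem evalW_append (u v : List ℕ) : evalW (u ++ v) = (evalW u).mul (evalW v) := by
  induction u with
  | nil => rw [List.nil_append, evalW, M4.one_mul]
  | cons i u ih => rw [List.cons_append, evalW, evalW, ih, M4.mul_assoc']

theorem cartan_simple : ∀ i j k : Fin model.tab.l,
    ((if k = j then (1 : ℤ) else 0) -
      if k = i then chevF4.cartan i.val (chevF4.simple j.val) else 0) = (f4R i.val).toM
        ⟨j.val, j.isLt⟩ ⟨k.val, k.isLt⟩ := by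
  decide +kernel

theorem Pg_refl (i : Fin model.tab.l) : Pg model (reflPerm model i) = (f4R i.val).toM := by
  have hG : ChevCore.Good chevF4 := ChevCore.uGoodF4.toCommGood.toGood
  ext j k
  show cf model (model.S.refl i (model.S.simple j)) k = _
  rw [cf_refl hG, cf_simple hG, show (model.S.simple j).val = chevF4.simple j.val from model.simple_eq j]
  exact cartan_simple i j k

theorem Pg_pw : ∀ w : List (Fin model.tab.l),
    Pg model (pw model w) = (evalW (w.map Fin.val).reverse).toM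
  | [] => by
    rw [List.map_nil, List.reverse_nil, evalW, M4.toM_one]
    exact Pg_one ChevCore.uGoodF4.toCommGood.toGood
  | i :: w => by
    rw [show pw model (i :: w) = reflPerm model i * pw model w from rfl,
      Pg_mul ChevCore.uGoodF4.toCommGood.toGood (reflPerm_mem model i), Pg_pw w, Pg_refl, List.map_cons,
      List.reverse_cons, evalW_append, M4.toM_mul, show evalW [i.val] = (f4R i.val).mul M4.one from rfl,
      M4.mul_one]
    rfl

universe u

variable {K : Type u} [Field K] [Fintype K]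

set_option maxRecDepth 20000 in
/-- The fusion data of the split torus. -/
theorem exists_toral : ∃ X : Toral ↥(chevF4.group K) Kˣ model.tab.l,
    X.T = (rr (F := K) model ChevCore.uGoodF4).H ∧ X.e = 1152 ∧
    ∀ A ∈ X.S, ∃ w : List (Fin model.tab.l), A = Pg model (pw model w) := by
  classical
  set hU := ChevCore.uGoodF4
  set R := rr (F := K) model hU
  refine ⟨⟨R.H, psi model hU, {A | ∃ w, A = Pg model (pw model w)}, 1152, psi_injective model hU, ?_, ?_⟩,
    rfl, rfl, fun A hA => hA⟩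
  · rintro _ ⟨w, rfl⟩
    have hγ : pw model w ∈ weyl model := prod_mem_weyl model w
    obtain ⟨c, hc⟩ := WeylGroup.card_f4 ▸
      weyl_card_dvd model (Mx := CoxeterMatrix.F₄) (by decide +kernel)
    have h1 : pw model w ^ Nat.card (weyl model) = 1 :=
      congrArg Subtype.val (pow_card_eq_one' (x := (⟨_, hγ⟩ : weyl model)))
    rw [← Pg_pow hU.toCommGood.toGood hγ, hc, pow_mul, h1, one_pow, Pg_one hU.toCommGood.toGood]
  · intro g
    obtain ⟨b₁, hb₁, w, -, b₂, hb₂, rfl⟩ := R.exists_bruhat (g := g)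
      ((model.group_top (relsOfCommGood hU.toCommGood K) wit_ok).symm ▸ Subgroup.mem_top g)
    refine ⟨_, ⟨w.reverse, rfl⟩, fun x h => ?_⟩
    have h1 := conj_key model hU longest_ok pos_span w x.2 h hb₁ hb₂ (inv_mul_cancel_right _ _).symm
    rw [← psi_conj model hU w x]
    congr 1
    exact Subtype.ext h1.symm

set_option maxRecDepth 20000 in
theorem not_dvd_index {ℓ : ℕ} (hℓ : ℓ.Prime) (h5 : 5 ≤ ℓ) (hQ : ℓ ∣ Fintype.card K - 1) :
    ¬ ℓ ∣ ((rr (F := K) model ChevCore.uGoodF4).H).index := by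
  classical
  set hU := ChevCore.uGoodF4
  set R := rr (F := K) model hU
  have hA := torusFacts_of_good hU.toCommGood.toGood
  set rel := relsOfCommGood hU.toCommGood K
  have hcard : Nat.card ↥R.H = (Fintype.card K - 1) ^ 4 := by
    rw [← TypeF4.card_torus hA rel, ← model.H_map rel,
      Subgroup.card_map_of_injective Subtype.coe_injective]
  obtain ⟨r, hr⟩ : ∃ r, Fintype.card K = r + 1 :=
    ⟨Fintype.card K - 1, (Nat.sub_add_cancel Fintype.card_pos).symm⟩
  have hr0 : 0 < r := by have := Fintype.one_lt_card (α := K); omega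
  rw [hr, Nat.add_sub_cancel] at hQ hcard
  have hmul := R.H.index_mul_card
  rw [hcard, ChevGroup.TypeF4.card_group hA rel hr] at hmul
  have hg : ∀ d, (r + 1) ^ d - 1 = (∑ i ∈ Finset.range d, (r + 1) ^ i) * r := fun d => by
    have := geom_sum_mul_add r d
    omega
  have he : R.H.index = (r + 1) ^ 24 * (∑ i ∈ Finset.range 2, (r + 1) ^ i) *
      (∑ i ∈ Finset.range 6, (r + 1) ^ i) * (∑ i ∈ Finset.range 8, (r + 1) ^ i) *
      (∑ i ∈ Finset.range 12, (r + 1) ^ i) := by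
    refine Nat.eq_of_mul_eq_mul_right (pow_pos hr0 4) ?_
    rw [hmul, hg, hg, hg, hg]
    ring
  haveI := Fact.mk hℓ
  intro hd
  have h0 : (r : ZMod ℓ) = 0 := (ZMod.natCast_eq_zero_iff r ℓ).2 hQ
  have h1 : ((R.H.index : ℕ) : ZMod ℓ) = 0 := (ZMod.natCast_eq_zero_iff _ ℓ).2 hd
  rw [he] at h1
  push_cast at h1
  simp [h0, Finset.sum_range_succ] at h1
  have h2 : ℓ ∣ 1152 := by
    rw [← ZMod.natCast_eq_zero_iff]
    rw [show (1152 : ℕ) = 2 * 6 * 8 * 12 by norm_num]
    simp only [Nat.cast_mul, Nat.cast_ofNat]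
    rcases h1 with ((h | h) | h) | h <;> rw [h] <;> ring
  have h3 := (show (1152 : ℕ) = 2 ^ 7 * 3 ^ 2 by norm_num) ▸ h2
  rcases hℓ.dvd_mul.1 h3 with h4 | h4 <;>
    have := Nat.le_of_dvd (by norm_num) (hℓ.dvd_of_dvd_pow h4) <;> omega

theorem dvd_pow_sub_one {ℓ p d f : ℕ} (hℓ : ℓ.Prime) (hp : p.Prime) (hne : ℓ ≠ p) (hd : ℓ - 1 ∣ d) :
    ℓ ∣ (p ^ f) ^ d - 1 := by
  obtain ⟨c, rfl⟩ := hd
  have hcop : (p ^ f).Coprime ℓ := Nat.Coprime.pow_left _ ((Nat.coprime_primes hp hℓ).2 hne.symm)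
  have h := (Nat.ModEq.pow_totient hcop).pow c
  rw [Nat.totient_prime hℓ, one_pow, ← pow_mul] at h
  exact (Nat.modEq_iff_dvd' (Nat.one_le_pow _ _ (pow_pos hp.pos _))).1 h.symm

/-- Elements of a small symmetric group in the alternating group of a larger degree. -/
noncomputable def emb {m r : ℕ} (h : m ≤ r) : Equiv.Perm (Fin m) →* Equiv.Perm (Fin r) :=
  Equiv.Perm.viaEmbeddingHom (Fin.castLEEmb h)

theorem emb_mem {m r : ℕ} (h : m ≤ r) {x : Equiv.Perm (Fin m)} (hx : Equiv.Perm.sign x = 1) :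
    emb h x ∈ alternatingGroup (Fin r) := by
  rw [Equiv.Perm.mem_alternatingGroup, ← hx, emb, Equiv.Perm.viaEmbeddingHom_apply, Equiv.Perm.viaEmbedding,
    Equiv.Perm.sign_extendDomain]

/-- The embedding of alternating groups. -/
noncomputable def embA {m r : ℕ} (h : m ≤ r) : ↥(alternatingGroup (Fin m)) →* ↥(alternatingGroup (Fin r)) :=
  ((emb h).comp (alternatingGroup (Fin m)).subtype).codRestrict _ fun x =>
    emb_mem h (Equiv.Perm.mem_alternatingGroup.1 x.2)

theorem embA_injective {m r : ℕ} (h : m ≤ r) : Function.Injective (embA h) := fun a b e =>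
  Subtype.ext (Equiv.Perm.viaEmbeddingHom_injective (Fin.castLEEmb h) (congrArg Subtype.val e))

def a11 : Equiv.Perm (Fin 11) := ⟨fun x => x + 1, fun x => x - 1, by decide, by decide⟩

def b11 : Equiv.Perm (Fin 11) := ⟨fun x => 3 * x, fun x => 4 * x, by decide, by decide⟩

def a7 : Equiv.Perm (Fin 12) :=
  ⟨![1, 2, 3, 4, 5, 6, 0, 7, 8, 9, 10, 11], ![6, 0, 1, 2, 3, 4, 5, 7, 8, 9, 10, 11], by decide, by decide⟩

def a5 : Equiv.Perm (Fin 12) :=
  ⟨![0, 1, 2, 3, 4, 5, 6, 8, 9, 10, 11, 7], ![0, 1, 2, 3, 4, 5, 6, 11, 7, 8, 9, 10], by decide, by decide⟩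

def b12 : Equiv.Perm (Fin 12) :=
  ⟨![0, 3, 6, 2, 5, 1, 4, 7, 9, 11, 8, 10], ![0, 5, 3, 1, 6, 4, 2, 7, 10, 8, 11, 9], by decide, by decide⟩

theorem signs : Equiv.Perm.sign a11 = 1 ∧ Equiv.Perm.sign b11 = 1 ∧ Equiv.Perm.sign a7 = 1 ∧
    Equiv.Perm.sign a5 = 1 ∧ Equiv.Perm.sign b12 = 1 := by decide +kernel

theorem perm_rels : b11 * a11 * b11⁻¹ = a11 ^ 3 ∧ b12 * a7 * b12⁻¹ = a7 ^ 3 ∧ b12 * a5 * b12⁻¹ = a5 ^ 2 ∧
    a7 * a5 = a5 * a7 ∧ a11 ^ 11 = 1 ∧ a11 ≠ 1 ∧ a7 ^ 7 = 1 ∧ a7 ≠ 1 ∧ a5 ^ 5 = 1 ∧ a5 ≠ 1 := by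
  decide +kernel

theorem orderOf_emb {m r ℓ : ℕ} (h : m ≤ r) (hℓ : ℓ.Prime) {x : ↥(alternatingGroup (Fin m))}
    (h1 : (x : Equiv.Perm (Fin m)) ^ ℓ = 1) (h2 : (x : Equiv.Perm (Fin m)) ≠ 1) :
    orderOf (embA h x) = ℓ := by
  haveI := Fact.mk hℓ
  rw [orderOf_injective _ (embA_injective h)]
  exact orderOf_eq_prime (Subtype.ext h1) fun e => h2 (congrArg Subtype.val e)

/-- Alternating sections of the groups of type F₄. Let `F` be a finite field of characteristic `p` and let `G` be the Chevalley group of type F₄ over `F`. If some subgroup of `G` has a quotient isomorphic to the alternating group of degree `r`, then `r` is at most 10, or 11 in characteristic 11. (Only an upper bound is asserted.) -/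
theorem result {F : Type*} [Field F] [Fintype F] (p : ℕ) [Fact p.Prime] [CharP F p]
    (r : ℕ) (H : Subgroup ↥(Cfsg.Lie.chevF4.group F)) (K : Subgroup ↥H) [K.Normal]
    (h : Nonempty (↥H ⧸ K ≃* ↥(alternatingGroup (Fin r)))) :
    r ≤ 10 + (if p = 11 then 1 else 0) := by
  classical
  obtain ⟨hs1, hs2, hs3, hs4, hs5⟩ := signs
  obtain ⟨r1, r2, r3, r4, o1, n1, o2, n2, o3, n3⟩ := perm_rels
  obtain ⟨f, -, hf⟩ := FiniteField.card F p
  have key : ∀ d : ℕ, d ≠ 0 → ∃ (L : Type) (_ : Field L) (_ : Fintype L) (i : F →+* L),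
      Fintype.card L = (p ^ (f : ℕ)) ^ d := by
    intro d hd
    haveI : NeZero d := ⟨hd⟩
    let L := FiniteField.Extension F p d
    letI : Fintype L := Fintype.ofFinite L
    refine ⟨L, inferInstance, inferInstance, algebraMap F L, ?_⟩
    rw [← Nat.card_eq_fintype_card, FiniteField.natCard_extension F p d, Nat.card_eq_fintype_card, hf]
  obtain ⟨e⟩ := h
  let π : ↥H →* ↥(alternatingGroup (Fin r)) := e.toMonoidHom.comp (QuotientGroup.mk' K)
  have hπ : Function.Surjective π := e.surjective.comp (QuotientGroup.mk'_surjective K)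
  by_contra hr
  by_cases hp : p = 11
  · have h12 : 12 ≤ r := by rw [if_pos hp] at hr; omega
    obtain ⟨L, iF, iT, i, hL⟩ := key 12 (by norm_num)
    obtain ⟨X, hT, he, hS⟩ := exists_toral (K := L)
    haveI : Fact (Nat.Prime 7) := ⟨by norm_num⟩
    haveI : Fact (Nat.Prime 5) := ⟨by norm_num⟩
    obtain ⟨B, hB, d7, d5⟩ := X.exists_eigen_pair (ℓ₁ := 7) (ℓ₂ := 5) (s₁ := 3) (s₂ := 2) (by norm_num)
      (by rw [he]; norm_num)
      (hT ▸ not_dvd_index (by norm_num) (by norm_num)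
        (hL ▸ dvd_pow_sub_one (by norm_num) Fact.out (by omega) (by norm_num)))
      (hT ▸ not_dvd_index (by norm_num) (by norm_num)
        (hL ▸ dvd_pow_sub_one (by norm_num) Fact.out (by omega) (by norm_num)))
      ((mapGroup i).comp H.subtype) ((mapGroup_injective i).comp H.subtype_injective) π hπ
      (embA h12 ⟨a7, Equiv.Perm.mem_alternatingGroup.2 hs3⟩)
      (embA h12 ⟨a5, Equiv.Perm.mem_alternatingGroup.2 hs4⟩)
      (embA h12 ⟨b12, Equiv.Perm.mem_alternatingGroup.2 hs5⟩)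
      (orderOf_emb h12 (by norm_num) o2 n2) (orderOf_emb h12 (by norm_num) o3 n3)
      ((show Commute (⟨a7, _⟩ : ↥(alternatingGroup (Fin 12))) ⟨a5, _⟩ from Subtype.ext r4).map _)
      (by rw [← map_inv, ← map_mul, ← map_mul, ← map_pow]; exact congrArg _ (Subtype.ext r2))
      (by rw [← map_inv, ← map_mul, ← map_mul, ← map_pow]; exact congrArg _ (Subtype.ext r3))
    obtain ⟨w, rfl⟩ := hS B hB
    rw [Pg_pw] at d7 d5
    exact (f4_eigen (fun j hj => by
      obtain ⟨k, -, rfl⟩ := List.mem_map.1 (List.mem_reverse.1 hj); exact k.isLt)).2 ⟨d7, d5⟩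
  · have h11 : 11 ≤ r := by rw [if_neg hp] at hr; omega
    obtain ⟨L, iF, iT, i, hL⟩ := key 10 (by norm_num)
    obtain ⟨X, hT, -, hS⟩ := exists_toral (K := L)
    haveI : Fact (Nat.Prime 11) := ⟨by norm_num⟩
    obtain ⟨B, hB, d11⟩ := X.exists_eigen (ℓ := 11) (s := 3)
      (hT ▸ not_dvd_index (by norm_num) (by norm_num)
        (hL ▸ dvd_pow_sub_one (by norm_num) Fact.out (by omega) (by norm_num)))
      ((mapGroup i).comp H.subtype) ((mapGroup_injective i).comp H.subtype_injective) π hπ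
      (embA h11 ⟨a11, Equiv.Perm.mem_alternatingGroup.2 hs1⟩)
      (embA h11 ⟨b11, Equiv.Perm.mem_alternatingGroup.2 hs2⟩)
      (orderOf_emb h11 (by norm_num) o1 n1)
      (by rw [← map_inv, ← map_mul, ← map_mul, ← map_pow]; exact congrArg _ (Subtype.ext r1))
    obtain ⟨w, rfl⟩ := hS B hB
    rw [Pg_pw] at d11
    exact (f4_eigen (fun j hj => by
      obtain ⟨k, -, rfl⟩ := List.mem_map.1 (List.mem_reverse.1 hj); exact k.isLt)).1 d11

end Cfsg.Agent.S2657
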