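import Cfsg.Statements.S2667
import Cfsg.Agent.Shintani.Basic
-- import your own Cfsg.Agent.* helpers here

set_option autoImplicit false
open Cfsg

namespace Cfsg.Agent.S2667

/-- Shintani descent, in an abstract form. Let `σ` be an automorphism of a group `X` and `e ≥ 1` (no surjectivity of the Lang maps is needed for this part; in the classical setting `X` is a connected algebraic group and `σ` a Steinberg endomorphism). Write `G` for the subgroup of fixed points of `σᵉ` and `H` for the subgroup of fixed points of `σ`. The `G`-conjugacy classes in the coset `G σ` of the semidirect product of `G` by `σ` correspond to the orbits of `G` on itself under twisted conjugation `g ↦ k g σ(k)⁻¹`, and the `e`-th power of `g σ` has `G`-part the norm `g σ(g) ⋯ σ^(e-1)(g)`. For `g` in `G` and any `a` with `g = a σ(a)⁻¹`, put `x = σᵉ(a)⁻¹ a`. Then conjugation by `a⁻¹` carries the twisted centralizer `{k ∈ G : k g σ(k)⁻¹ = g}` (the centralizer of `g σ` in `G`) exactly onto the centralizer of `x` in `H`: an element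 `k` of `X` lies in `G` and satisfies `k g σ(k)⁻¹ = g` if and only if `a⁻¹ k a` lies in `H` and commutes with `x`. In particular the two centralizers are conjugate in `X` and have the same order. -/
theorem result {X : Type*} [Group X] (σ : MulAut X) (e : ℕ) (he : 1 ≤ e)
    (g : X) (hg : g ∈ (MulEquiv.toMonoidHom (σ ^ e)).eqLocus (MonoidHom.id X)) (a : X) (ha : g = a * (σ a)⁻¹) (k : X) :
    (k ∈ (MulEquiv.toMonoidHom (σ ^ e)).eqLocus (MonoidHom.id X) ∧ k * g * (σ k)⁻¹ = g) ↔
      (a⁻¹ * k * a ∈ (MulEquiv.toMonoidHom σ).eqLocus (MonoidHom.id X) ∧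
        (a⁻¹ * k * a) * (((σ ^ e) a)⁻¹ * a) = (((σ ^ e) a)⁻¹ * a) * (a⁻¹ * k * a)) := by
  simp only [Shintani.mem_fix_iff]
  rw [Shintani.mem_fix_iff] at hg
  have hsa : σ a = g⁻¹ * a := by rw [ha]; group
  have hfix : ∀ y : X, σ y = y → (σ ^ e) y = y := by
    intro y hy
    clear he hg
    induction e with
    | zero => rfl
    | succ e ih => rw [pow_succ, MulAut.mul_apply, hy, ih]
  constructor
  · rintro ⟨hk, hk'⟩
    have hsk : σ k = g⁻¹ * k * g := by
      have h1 : k * g = g * σ k := by
        calc k * g = k * g * (σ k)⁻¹ * σ k := by group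
          _ = g * σ k := by rw [hk']
      calc σ k = g⁻¹ * (g * σ k) := by group
        _ = g⁻¹ * k * g := by rw [← h1]; group
    have hh : σ (a⁻¹ * k * a) = a⁻¹ * k * a := by
      rw [map_mul, map_mul, map_inv, hsa, hsk]; group
    refine ⟨hh, ?_⟩
    have he1 := hfix _ hh
    rw [map_mul, map_mul, map_inv, hk] at he1
    conv_lhs => rw [← he1]
    group
  · rintro ⟨hh, hc⟩
    have he1 := hfix _ hh
    have hsh := hh
    rw [map_mul, map_mul, map_inv] at he1
    rw [map_mul, map_mul, map_inv, hsa] at hsh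
    constructor
    · have h2 : (σ ^ e) k = (σ ^ e) a * (a⁻¹ * k * a) * ((σ ^ e) a)⁻¹ := by
        conv_rhs => rw [← he1]
        group
      calc (σ ^ e) k = (σ ^ e) a * ((a⁻¹ * k * a) * (((σ ^ e) a)⁻¹ * a)) * a⁻¹ := by rw [h2]; group
        _ = (σ ^ e) a * ((((σ ^ e) a)⁻¹ * a) * (a⁻¹ * k * a)) * a⁻¹ := by rw [hc]
        _ = k := by group
    · have h2 : σ k = g⁻¹ * k * g := by
        calc σ k = (g⁻¹ * a) * ((g⁻¹ * a)⁻¹ * σ k * (g⁻¹ * a)) * (g⁻¹ * a)⁻¹ := by group
          _ = (g⁻¹ * a) * (a⁻¹ * k * a) * (g⁻¹ * a)⁻¹ := by rw [hsh]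
          _ = g⁻¹ * k * g := by group
      rw [h2]; group

end Cfsg.Agent.S2667
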