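import Cfsg.Statements.S2669

set_option autoImplicit false
open Cfsg

namespace Cfsg.Agent.S2669

/-- Shintani descent preserves numbers of fixed points on coset spaces (abstract form). Let `σ` be an automorphism of a group `X` and `e ≥ 1`; write `G` for the fixed points of `σᵉ` and `H` for the fixed points of `σ`, and assume `G` is finite. Let `Y` be a `σ`-stable subgroup of `X` on which the maps `a ↦ a σ(a)⁻¹` and `a ↦ a σᵉ(a)⁻¹` are surjective (as for a closed connected `σ`-stable subgroup of an algebraic group). Let `g ∈ G`, let `a ∈ X` satisfy `g = a σ(a)⁻¹` and put `x = σᵉ(a)⁻¹ a` (the Shintani image, an element of `H`). The element `g σ` of the semidirect product acts on the cosets of `Y ∩ G` in `G` by `k (Y ∩ G) ↦ g σ(k) (Y ∩ G)`, fixing that coset exactly when `k⁻¹ g σ(k) ∈ Y`; and `x` fixes the coset `h (Y ∩ H)` of `H` exactly when `h⁻¹ x h ∈ Y`. Then the two numbers of fixed cosets agree; in cross-multiplied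 form, `#{k ∈ G : k⁻¹ g σ(k) ∈ Y} · |Y ∩ H| = #{h ∈ H : h⁻¹ x h ∈ Y} · |Y ∩ G|`. -/
theorem result {X : Type*} [Group X] (σ : MulAut X) (e : ℕ) (he : 1 ≤ e)
    [Finite ↥((MulEquiv.toMonoidHom (σ ^ e)).eqLocus (MonoidHom.id X))]
    (Y : Subgroup X) (hY : ∀ y : X, y ∈ Y ↔ σ y ∈ Y)
    (hYL : ∀ y ∈ Y, ∃ a ∈ Y, y = a * (σ a)⁻¹) (hYLe : ∀ y ∈ Y, ∃ a ∈ Y, y = a * ((σ ^ e) a)⁻¹)
    (g : X) (hg : g ∈ (MulEquiv.toMonoidHom (σ ^ e)).eqLocus (MonoidHom.id X)) (a : X) (ha : g = a * (σ a)⁻¹) :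
    Nat.card {k : ↥((MulEquiv.toMonoidHom (σ ^ e)).eqLocus (MonoidHom.id X)) // (k : X)⁻¹ * g * σ k ∈ Y} *
        Nat.card ↥(Y ⊓ (MulEquiv.toMonoidHom σ).eqLocus (MonoidHom.id X)) =
      Nat.card {h : ↥((MulEquiv.toMonoidHom σ).eqLocus (MonoidHom.id X)) // (h : X)⁻¹ * (((σ ^ e) a)⁻¹ * a) * h ∈ Y} *
        Nat.card ↥(Y ⊓ (MulEquiv.toMonoidHom (σ ^ e)).eqLocus (MonoidHom.id X)) := by
  set τ := σ ^ e with hτ
  set G' := (MulEquiv.toMonoidHom τ).eqLocus (MonoidHom.id X) with hG'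
  set H' := (MulEquiv.toMonoidHom σ).eqLocus (MonoidHom.id X) with hH'
  have memG : ∀ x : X, x ∈ G' ↔ τ x = x := fun _ => Iff.rfl
  have memH : ∀ x : X, x ∈ H' ↔ σ x = x := fun _ => Iff.rfl
  have fixpow : ∀ (n : ℕ) (x : X), σ x = x → (σ ^ n) x = x := by
    intro n x hx
    induction n with
    | zero => rfl
    | succ n ih => rw [pow_succ, MulAut.mul_apply, hx, ih]
  have hHG : ∀ x : X, σ x = x → τ x = x := fun x hx => fixpow e x hx
  have hτY : ∀ (n : ℕ) (y : X), y ∈ Y → (σ ^ n) y ∈ Y := by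
    intro n y hy
    induction n generalizing y with
    | zero => exact hy
    | succ n ih => rw [pow_succ, MulAut.mul_apply]; exact ih _ ((hY y).1 hy)
  have hcomm : ∀ x : X, σ (τ x) = τ (σ x) := by
    intro x
    rw [← MulAut.mul_apply, ← MulAut.mul_apply, hτ, ← pow_succ', pow_succ]
  set x := (τ a)⁻¹ * a with hx
  have hgτ : τ g = g := hg
  have hτσa : τ (σ a) = (τ g)⁻¹ * τ a := by
    rw [ha]
    simp [map_mul, mul_assoc]
  -- from k in A: a decomposition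
  have hA : ∀ k : X, τ k = k → k⁻¹ * g * σ k ∈ Y →
      ∃ b ∈ Y, ∃ h : X, σ h = h ∧ k * b = a * h := by
    intro k hk hkY
    obtain ⟨b, hb, hb'⟩ := hYL _ hkY
    refine ⟨b, hb, a⁻¹ * (k * b), ?_, by group⟩
    have e1 : g * σ k * σ b = k * b := by
      calc g * σ k * σ b = k * (k⁻¹ * g * σ k) * σ b := by group
        _ = k * b := by rw [hb']; group
    rw [map_mul, map_mul, map_inv]
    calc (σ a)⁻¹ * (σ k * σ b) = a⁻¹ * (a * (σ a)⁻¹ * σ k * σ b) := by group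
      _ = a⁻¹ * (k * b) := by rw [← ha, e1]
  -- a triple gives both conditions
  have hT : ∀ k b h : X, τ k = k → b ∈ Y → σ h = h → k * b = a * h →
      k⁻¹ * g * σ k ∈ Y ∧ h⁻¹ * x * h ∈ Y := by
    intro k b h hk hb hh hkb
    have e2 : σ k * σ b = σ a * h := by
      rw [← map_mul, hkb, map_mul, hh]
    have e3 : k * τ b = τ a * h := by
      calc k * τ b = τ (k * b) := by rw [map_mul, hk]
        _ = τ a * h := by rw [hkb, map_mul, hHG h hh]
    constructor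
    · have : k⁻¹ * g * σ k = b * (σ b)⁻¹ := by
        have hk2 : σ k = σ a * h * (σ b)⁻¹ := by rw [← e2]; group
        have hk3 : k = a * h * b⁻¹ := by rw [← hkb]; group
        rw [hk2, ha, hk3]
        group
      rw [this]
      exact mul_mem hb (inv_mem ((hY b).1 hb))
    · have : h⁻¹ * x * h = (τ b)⁻¹ * b := by
        calc h⁻¹ * x * h = (τ a * h)⁻¹ * (a * h) := by rw [hx]; group
          _ = (k * τ b)⁻¹ * (k * b) := by rw [e3, hkb]
          _ = (τ b)⁻¹ * b := by group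
      rw [this]
      exact mul_mem (inv_mem (hτY e b hb)) hb
  -- from h in B: a decomposition
  have hB : ∀ h : X, σ h = h → h⁻¹ * x * h ∈ Y →
      ∃ k : X, τ k = k ∧ ∃ b ∈ Y, k * b = a * h := by
    intro h hh hhY
    obtain ⟨c, hc, hc'⟩ := hYLe _ (inv_mem hhY)
    refine ⟨a * h * c, ?_, c⁻¹, inv_mem hc, by group⟩
    have e4 : τ a * h = a * h * (h⁻¹ * x * h)⁻¹ := by rw [hx]; group
    rw [map_mul, map_mul, hHG h hh, e4, hc']
    group
  let SA := {k : ↥G' // (k : X)⁻¹ * g * σ k ∈ Y}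
  let SB := {h : ↥H' // (h : X)⁻¹ * x * h ∈ Y}
  have cA : ∀ k : SA, ∃ b ∈ Y, ∃ h : X, σ h = h ∧ (k.1 : X) * b = a * h :=
    fun k => hA _ k.1.2 k.2
  choose bA hbA hA' hhA hAeq using cA
  have cB : ∀ h : SB, ∃ k : X, τ k = k ∧ ∃ b ∈ Y, k * b = a * (h.1 : X) :=
    fun h => hB _ h.1.2 h.2
  choose kB hkB bB hbB hBeq using cB
  let f : SA × ↥(Y ⊓ H') → SB × ↥(Y ⊓ G') := fun p =>
    have hu := Subgroup.mem_inf.1 p.2.2
    have hh : σ (hA' p.1 * p.2.1) = hA' p.1 * p.2.1 := by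
      rw [map_mul, hhA, (memH _).1 hu.2]
    have he' : (p.1.1 : X) * (bA p.1 * p.2.1) = a * (hA' p.1 * p.2.1) := by
      rw [← mul_assoc, hAeq, mul_assoc]
    let hs : SB := ⟨⟨hA' p.1 * p.2.1, hh⟩, (hT _ _ _ p.1.1.2 (mul_mem (hbA p.1) hu.1) hh he').2⟩
    ⟨hs, ⟨(kB hs)⁻¹ * (p.1.1 : X), by
      refine Subgroup.mem_inf.2 ⟨?_, mul_mem (inv_mem ((memG _).2 (hkB hs))) p.1.1.2⟩
      have : (kB hs)⁻¹ * (p.1.1 : X) = bB hs * (bA p.1 * p.2.1)⁻¹ := by
        have h2 := hBeq hs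
        have h3 : kB hs = a * (hA' p.1 * p.2.1) * (bB hs)⁻¹ := by
          show kB hs = a * (hs.1 : X) * (bB hs)⁻¹
          rw [← h2]; group
        have h4 : (p.1.1 : X) = a * (hA' p.1 * p.2.1) * (bA p.1 * p.2.1)⁻¹ := by
          rw [← he']; group
        rw [h3, h4]; group
      rw [this]
      exact mul_mem (hbB hs) (inv_mem (mul_mem (hbA p.1) hu.1))⟩⟩
  have hf : Function.Bijective f := by
    constructor
    · intro p p' hpp
      obtain ⟨⟨k, hk⟩, u⟩ := p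
      obtain ⟨⟨k', hk'⟩, u'⟩ := p'
      simp only [f, Prod.mk.injEq] at hpp
      obtain ⟨h1, h2⟩ := hpp
      have h1' := congrArg (fun s : SB => (s.1 : X)) h1
      have h2' := congrArg (fun s : ↥(Y ⊓ G') => (s : X)) h2
      simp only at h1' h2'
      rw [h1] at h2'
      have hkk : k = k' := Subtype.ext (mul_left_cancel h2')
      subst hkk
      have : (u : X) = u' := mul_left_cancel h1'
      exact Prod.ext rfl (Subtype.ext this)
    · rintro ⟨h, v⟩
      have hv := Subgroup.mem_inf.1 v.2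
      have hb : (v.1)⁻¹ * bB h ∈ Y := mul_mem (inv_mem hv.1) (hbB h)
      have hk : τ (kB h * v.1) = kB h * v.1 := by rw [map_mul, hkB, (memG _).1 hv.2]
      have he' : kB h * v.1 * ((v.1)⁻¹ * bB h) = a * (h.1 : X) := by
        rw [← hBeq h]; group
      let ks : SA := ⟨⟨kB h * v.1, hk⟩, (hT _ _ _ hk hb h.1.2 he').1⟩
      have hu1 : (bA ks)⁻¹ * ((v.1)⁻¹ * bB h) = (hA' ks)⁻¹ * (h.1 : X) := by
        have h5 : bA ks = (kB h * v.1)⁻¹ * (a * hA' ks) := by
          show bA ks = (ks.1 : X)⁻¹ * (a * hA' ks)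
          rw [← hAeq ks]; group
        have h6 : (v.1)⁻¹ * bB h = (kB h * v.1)⁻¹ * (a * (h.1 : X)) := by
          rw [← he']; group
        rw [h5, h6]; group
      refine ⟨⟨ks, ⟨(hA' ks)⁻¹ * (h.1 : X), Subgroup.mem_inf.2 ⟨?_, ?_⟩⟩⟩, ?_⟩
      · rw [← hu1]; exact mul_mem (inv_mem (hbA ks)) hb
      · exact mul_mem (inv_mem ((memH _).2 (hhA ks))) h.1.2
      · have h7 : ∀ (pr : hA' ks * ((hA' ks)⁻¹ * (h.1 : X)) ∈ H') (pr2),
            (⟨⟨hA' ks * ((hA' ks)⁻¹ * (h.1 : X)), pr⟩, pr2⟩ : SB) = h := by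
          intro pr pr2
          exact Subtype.ext (Subtype.ext (by simp))
        refine Prod.ext (h7 _ _) (Subtype.ext
          ((congrArg (fun s : SB => (kB s)⁻¹ * (kB h * v.1)) (h7 _ _)).trans ?_))
        simp only [inv_mul_cancel_left]
  have := Nat.card_eq_of_bijective f hf
  rw [Nat.card_prod, Nat.card_prod] at this
  exact this

end Cfsg.Agent.S2669
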