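import Cfsg.Statements.S2671
import Cfsg.Agent.Lib.GLSemisimple.GUClasses

set_option autoImplicit false
open Cfsg

namespace Cfsg.Agent.S2671

/-- Number of conjugacy classes of elements of odd prime order r in the general unitary group GU_n(q), for r not dividing q(q + 1): let i be the multiplicative order of q modulo r, b = i if i is odd and b = i/2 if i is even, and s = (r − 1)/b. If i ≢ 2 (mod 4) the eigenvalue orbits pair off into dual pairs of totally isotropic blocks and there are C(⌊n/(2b)⌋ + s/2, s/2) − 1 classes; if i ≡ 2 (mod 4) each orbit gives a non-degenerate block of dimension i/2 and there are C(⌊2n/i⌋ + s, s) − 1 classes. -/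
theorem result {K : Type*} [Field K] [Fintype K] {p q n r i b s : ℕ} [Fact p.Prime] [CharP K p] (hK : Fintype.card K = q ^ 2) (hr : r.Prime) (hr2 : r ≠ 2) (hrp : r ≠ p) (hi : i = orderOf (q : ZMod r)) (hi2 : i ≠ 2) (hb : b = if Odd i then i else i / 2) (hs : s * b = r - 1) : Nat.card {C : ConjClasses ↥(Cfsg.GU n K q) // ∃ g : ↥(Cfsg.GU n K q), ConjClasses.mk g = C ∧ orderOf g = r} = if i % 4 = 2 then Nat.choose (2 * n / i + s) s - 1 else Nat.choose (n / (2 * b) + s / 2) (s / 2) - 1 := by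
  classical
  haveI : Fact r.Prime := ⟨hr⟩
  letI : StarRing K := Forms59.starRingOfCard hK
  have hstar : ∀ x : K, star x = x ^ q := fun x => rfl
  obtain ⟨f, -, hcardK⟩ := FiniteField.card K p
  obtain ⟨t, -, hqp⟩ := (Nat.dvd_prime_pow (Fact.out : p.Prime)).mp
    (show q ∣ p ^ (f : ℕ) by rw [← hcardK, hK]; exact dvd_pow_self q two_ne_zero)
  have hpr : ¬ r ∣ p := fun h => hrp ((Nat.prime_dvd_prime_iff_eq hr (Fact.out : p.Prime)).mp h)
  have hrK : (r : K) ≠ 0 := by
    rw [Ne, CharP.cast_eq_zero_iff K p]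
    exact fun h => hrp ((Nat.prime_dvd_prime_iff_eq (Fact.out : p.Prime) hr).mp h).symm
  have hq0 : (q : ZMod r) ≠ 0 := by
    rw [Ne, ZMod.natCast_eq_zero_iff, hqp]
    exact fun h => hpr (hr.dvd_of_dvd_pow h)
  have hi0 : 0 < i := by
    rw [hi, Nat.pos_iff_ne_zero, ne_eq, orderOf_eq_zero_iff, not_not, isOfFinOrder_iff_pow_eq_one]
    exact ⟨r - 1, by have := hr.two_le; omega, ZMod.pow_card_sub_one_eq_one hq0⟩
  have hqi : (q : ZMod r) ^ i = 1 := by rw [hi]; exact pow_orderOf_eq_one _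
  have hdvd : ∀ k : ℕ, (q : ZMod r) ^ k = 1 → i ∣ k := fun k h => by rw [hi]; exact orderOf_dvd_of_pow_eq_one h
  have hord : b = orderOf ((Fintype.card K : ℕ) : ZMod r) := by
    rw [hK, Nat.cast_pow, orderOf_pow' _ two_ne_zero, ← hi, hb]
    rcases Nat.even_or_odd i with ⟨k, hk⟩ | ho
    · rw [if_neg (Nat.not_odd_iff_even.mpr ⟨k, hk⟩), Nat.gcd_eq_right ⟨k, by omega⟩]
    · rw [if_pos ho, Nat.Coprime.gcd_eq_one ho.coprime_two_right, Nat.div_one]
  have h2ne : (-1 : ZMod r) ≠ 1 := by
    intro h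
    have h2 : ((2 : ℕ) : ZMod r) = 0 := by push_cast; linear_combination -h
    rw [ZMod.natCast_eq_zero_iff] at h2
    exact hr2 ((Nat.prime_dvd_prime_iff_eq hr Nat.prime_two).mp h2)
  have hcond : (∃ j : ℕ, ((Fintype.card K : ℕ) : ZMod r) ^ j = -(q : ZMod r)) ↔ i % 4 = 2 := by
    rw [hK, Nat.cast_pow]
    constructor
    · rintro ⟨j, hj⟩
      rw [← pow_mul] at hj
      have hk : (q : ZMod r) ^ (2 * j + (i - 1)) = -1 := by
        rw [pow_add, hj, neg_mul, ← pow_succ', Nat.sub_add_cancel hi0, hqi]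
      have hnd : ¬ i ∣ 2 * j + (i - 1) := fun ⟨c, hc⟩ => h2ne (by rw [← hk, hc, pow_mul, hqi, one_pow])
      have hd2 : i ∣ (2 * j + (i - 1)) * 2 := hdvd _ (by rw [pow_mul, hk]; norm_num)
      rcases Nat.even_or_odd i with ⟨h, hh⟩ | ho
      · have hd3 : h ∣ 2 * j + (i - 1) := Nat.dvd_of_mul_dvd_mul_right two_pos (by
          rwa [show h * 2 = i by omega])
        obtain ⟨c, hc⟩ := hd3
        have hodd : Odd (h * c) := ⟨j + h - 1, by omega⟩
        obtain ⟨⟨u, hu⟩, -⟩ := Nat.odd_mul.mp hodd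
        omega
      · exact absurd (Nat.Coprime.dvd_of_dvd_mul_right ho.coprime_two_right hd2) hnd
    · intro h4
      refine ⟨(i / 2 + 1) / 2, ?_⟩
      have hh : (q : ZMod r) ^ (i / 2) = -1 := by
        have h1 : ((q : ZMod r) ^ (i / 2)) ^ 2 = 1 := by rw [← pow_mul, show i / 2 * 2 = i by omega, hqi]
        rcases sq_eq_one_iff.mp h1 with h | h
        · have := Nat.le_of_dvd (by omega) (hdvd _ h)
          omega
        · exact h
      rw [← pow_mul, show 2 * ((i / 2 + 1) / 2) = i / 2 + 1 by omega, pow_succ, hh, neg_one_mul]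
  rw [GLSemi.card_classes_orderOf hr, GLSemi.card_classes_GU hstar hK hrK,
    GLSemi.card_selfDualAdm (starRingEnd K) star_star hr hrK n hord hs (i % 4 = 2) fun g hg =>
      (GLSemi.dual_eq_self_iff (starRingEnd K) star_star hr hrK (e := q) (fun L _ _ => by
        haveI : CharP L p := charP_of_injective_algebraMap (algebraMap K L).injective p
        exact ⟨iterateFrobenius L p t, fun c => by
            rw [iterateFrobenius_def, ← hqp, ← map_pow]
            rfl,
          fun x => by rw [iterateFrobenius_def, hqp]⟩) hg).trans hcond]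
  by_cases h4 : i % 4 = 2
  · rw [if_pos h4, if_pos h4]
    have hb2 : b = i / 2 := by
      rw [hb, if_neg]
      exact fun ho => by have := Nat.odd_iff.mp ho; omega
    have hdiv : 2 * n / i = n / b := by
      rw [hb2]
      conv_lhs => rw [show i = 2 * (i / 2) by omega]
      exact Nat.mul_div_mul_left _ _ two_pos
    rw [hdiv]
  · rw [if_neg h4, if_neg h4]

end Cfsg.Agent.S2671
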