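import Cfsg.Statements.S2672
import Cfsg.Agent.Lib.GLSemisimple.PGLPrime
import Cfsg.Agent.Lib.GLSemisimple.GUClasses
import Cfsg.Agent.Lib.Unitary.Outer

set_option autoImplicit false
open Cfsg

namespace Cfsg.Agent.S2672

open Polynomial Matrix Cfsg.Agent.GLSemi

variable {F : Type*} [Field F] [Fintype F] {n q : ℕ}

/-- The matrix of an element of `GU_n(q)`. -/
abbrev mval (g : ↥(Cfsg.GU n F q)) : Matrix (Fin n) (Fin n) F := ((g : GL (Fin n) F) : Matrix (Fin n) (Fin n) F)

theorem mem_center_iff_scalar (hF : Fintype.card F = q ^ 2) (g : ↥(Cfsg.GU n F q)) :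
    g ∈ Subgroup.center ↥(Cfsg.GU n F q) ↔ ∃ a : F, mval g = Matrix.scalar (Fin n) a := by
  rw [Unitary.mem_center_GU_iff hF]
  refine exists_congr fun a => ⟨fun h => Matrix.ext_of_mulVec_single fun i => ?_, fun h x => ?_⟩
  · refine (h (Pi.single i 1)).trans ?_
    funext k
    simp [Matrix.mulVec_diagonal]
  · show mval g *ᵥ x = a • x
    rw [h]
    funext k
    simp [Matrix.mulVec_diagonal]

theorem norm_of_scalar [StarRing F] [Nonempty (Fin n)] {M : Matrix (Fin n) (Fin n) F} (hM : Mᴴ * M = 1)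
    {a : F} (h : M = Matrix.scalar (Fin n) a) : star a * a = 1 := by
  subst h
  rw [Matrix.scalar_apply, Matrix.diagonal_conjTranspose, Matrix.diagonal_mul_diagonal] at hM
  obtain ⟨i⟩ := (inferInstance : Nonempty (Fin n))
  have := congrFun (congrFun hM i) i
  rwa [Matrix.diagonal_apply_eq, Matrix.one_apply_eq] at this

theorem smul_unitary [StarRing F] {M : Matrix (Fin n) (Fin n) F} {c : F} (hc : star c * c = 1) (hM : Mᴴ * M = 1) :
    (c • M)ᴴ * (c • M) = 1 := by
  rw [Matrix.conjTranspose_smul, Matrix.smul_mul, Matrix.mul_smul, smul_smul, hM, hc, one_smul]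

/-- Class in `PGU_n(q)`. -/
noncomputable def uClass (g : ↥(Cfsg.GU n F q)) :
    ConjClasses (↥(Cfsg.GU n F q) ⧸ Subgroup.center ↥(Cfsg.GU n F q)) :=
  ConjClasses.mk (QuotientGroup.mk g)

theorem uClass_eq_iff [StarRing F] [Nonempty (Fin n)] (hs : ∀ x : F, star x = x ^ q) (hF : Fintype.card F = q ^ 2)
    (g h : ↥(Cfsg.GU n F q)) :
    uClass g = uClass h ↔ ∃ (c : F) (x : ↥(Cfsg.GU n F q)),
      star c * c = 1 ∧ mval x * mval g = (c • mval h) * mval x := by
  have hu : ∀ z : ↥(Cfsg.GU n F q), (mval z)ᴴ * mval z = 1 := fun z =>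
    (Forms59.mem_GU_iff_conjTranspose hs (z : GL (Fin n) F)).mp z.2
  rw [uClass, uClass, ConjClasses.mk_eq_mk_iff_isConj, isConj_iff]
  constructor
  · rintro ⟨y, hy⟩
    obtain ⟨x, rfl⟩ := QuotientGroup.mk_surjective y
    have hy' : QuotientGroup.mk (s := Subgroup.center ↥(Cfsg.GU n F q)) h = QuotientGroup.mk (x * g * x⁻¹) := hy.symm
    rw [QuotientGroup.eq] at hy'
    obtain ⟨c, hc⟩ := (mem_center_iff_scalar hF _).mp hy'
    refine ⟨c, x, norm_of_scalar (hu _) hc, ?_⟩
    have h1 : x * g = h * (h⁻¹ * (x * g * x⁻¹)) * x := by group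
    have h2 : mval (x * g) = mval h * mval (h⁻¹ * (x * g * x⁻¹)) * mval x := congrArg mval h1
    rw [hc] at h2
    refine (show mval x * mval g = mval (x * g) from rfl).trans (h2.trans ?_)
    rw [Matrix.scalar_apply, ← Matrix.smul_one_eq_diagonal, Matrix.mul_smul, mul_one]
  · rintro ⟨c, x, hc, hx⟩
    refine ⟨QuotientGroup.mk x, ?_⟩
    let z : ↥(Cfsg.GU n F q) := h⁻¹ * (x * g * x⁻¹)
    have hz : mval z = Matrix.scalar (Fin n) c := by
      show mval h⁻¹ * (mval x * mval g * mval x⁻¹) = _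
      rw [hx, mul_assoc (c • mval h), show mval x * mval x⁻¹ = mval (x * x⁻¹) from rfl, mul_inv_cancel,
        show mval (1 : ↥(Cfsg.GU n F q)) = 1 from rfl, mul_one, Matrix.mul_smul,
        show mval h⁻¹ * mval h = mval (h⁻¹ * h) from rfl, inv_mul_cancel,
        show mval (1 : ↥(Cfsg.GU n F q)) = 1 from rfl, Matrix.scalar_apply, Matrix.smul_one_eq_diagonal]
    show QuotientGroup.mk (x * g * x⁻¹) = QuotientGroup.mk h
    exact (QuotientGroup.eq.mpr ((mem_center_iff_scalar hF z).mpr ⟨c, hz⟩)).symm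

theorem card_pgu_prime_classes (hF : Fintype.card F = q ^ 2) (hn : 1 ≤ n) {r : ℕ} (hr : r.Prime) (hr2 : r ≠ 2)
    (hrq : r ∣ q + 1) :
    Nat.card {C : ConjClasses (↥(Cfsg.GU n F q) ⧸ Subgroup.center ↥(Cfsg.GU n F q)) //
      ∃ g, ConjClasses.mk g = C ∧ orderOf g = r} =
      (Nat.choose (n + r - 1) (r - 1) - r - (if r ∣ n then 1 else 0)) / r + r * (if r ∣ n then 1 else 0) := by
  classical
  letI : StarRing F := Forms59.starRingOfCard hF
  have hs : ∀ x : F, star x = x ^ q := fun _ => rfl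
  obtain ⟨θ, hθ'⟩ := (Forms59.card_sq_facts hF).2.2.2
  have hθ : star θ ≠ θ := hθ'
  haveI : Fact r.Prime := ⟨hr⟩
  haveI : NeZero r := ⟨hr.ne_zero⟩
  haveI : Nonempty (Fin n) := ⟨⟨0, by omega⟩⟩
  have hrQ : r ∣ Fintype.card F - 1 := by
    rw [hF, show q ^ 2 - 1 = q ^ 2 - 1 ^ 2 by ring_nf, Nat.sq_sub_sq]
    exact Dvd.dvd.mul_right hrq _
  have hrF : ((r : ℕ) : F) ≠ 0 := by
    intro h
    obtain ⟨c, hc⟩ := hrQ
    have h1 : ((Fintype.card F - 1 : ℕ) : F) = 0 := by rw [hc, Nat.cast_mul, h, zero_mul]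
    rw [Nat.cast_sub Fintype.card_pos, FiniteField.cast_card_eq_zero, Nat.cast_one, zero_sub, neg_eq_zero] at h1
    exact one_ne_zero h1
  set N := r * (Fintype.card F - 1) with hNdef
  have hN : ((N : ℕ) : F) ≠ 0 := by
    rw [hNdef, Nat.cast_mul, Nat.cast_sub Fintype.card_pos, FiniteField.cast_card_eq_zero, Nat.cast_one, zero_sub]
    exact mul_ne_zero hrF (neg_ne_zero.mpr one_ne_zero)
  have hN0 : N ≠ 0 := fun h => hN (by rw [h, Nat.cast_zero])
  have hpowN : ∀ {M : Matrix (Fin n) (Fin n) F} {a : F}, a ≠ 0 → M ^ r = Matrix.scalar (Fin n) a → M ^ N = 1 :=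
    fun {M a} ha hM => by
      rw [hNdef, pow_mul, hM, ← map_pow, FiniteField.pow_card_sub_one_eq_one a ha, map_one]
  have hsmul : ∀ {M : Matrix (Fin n) (Fin n) F} {a : F} (c : F), M ^ r = Matrix.scalar (Fin n) a →
      (c • M) ^ r = Matrix.scalar (Fin n) (c ^ r * a) := fun {M a} c hM => by
    rw [_root_.smul_pow, hM, Matrix.scalar_apply, Matrix.scalar_apply, ← Matrix.diagonal_smul]
    rfl
  have hu : ∀ z : ↥(Cfsg.GU n F q), (mval z)ᴴ * mval z = 1 := fun z =>
    (Forms59.mem_GU_iff_conjTranspose hs (z : GL (Fin n) F)).mp z.2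
  have hmk : ∀ M : Matrix (Fin n) (Fin n) F, Mᴴ * M = 1 → ∃ g : ↥(Cfsg.GU n F q), mval g = M := fun M hM =>
    ⟨⟨⟨M, Mᴴ, mul_eq_one_comm.1 hM, hM⟩, (Forms59.mem_GU_iff_conjTranspose hs _).mpr hM⟩, rfl⟩
  -- norms
  have hne : ∀ {c : F}, star c * c = 1 → c ≠ 0 := fun h0 => right_ne_zero_of_mul_eq_one h0
  have hroot : ∀ {b : F}, star (b ^ r) * b ^ r = 1 → star b * b = 1 := by
    intro b h
    have h1 : (star b * b) ^ r = 1 := by rw [mul_pow, ← star_pow]; exact h
    have hb : b ≠ 0 := fun h0 => by simp [h0, zero_pow hr.ne_zero] at h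
    have h2 : (star b * b) ^ (q - 1) = 1 := by
      rw [hs, ← pow_succ, ← pow_mul, show (q + 1) * (q - 1) = Fintype.card F - 1 by
        rw [hF, show q ^ 2 - 1 = q ^ 2 - 1 ^ 2 by ring_nf, Nat.sq_sub_sq]]
      exact FiniteField.pow_card_sub_one_eq_one b hb
    have hcop : Nat.gcd r (q - 1) = 1 := by
      refine (Nat.Prime.coprime_iff_not_dvd hr).mpr fun hd => hr2 ?_
      have hq1 : 1 < q := (Forms59.card_sq_facts hF).2.2.1
      have h3 : r ∣ 2 := by
        have := Nat.dvd_sub hrq hd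
        rwa [show q + 1 - (q - 1) = 2 by omega] at this
      exact (Nat.prime_dvd_prime_iff_eq hr Nat.prime_two).mp h3
    have := pow_gcd_eq_one.mpr ⟨h1, h2⟩
    rwa [hcop, pow_one] at this
  have hconj : ∀ (g h : ↥(Cfsg.GU n F q)) (a b : F), a ≠ 0 → b ≠ 0 →
      mval g ^ r = Matrix.scalar (Fin n) a → mval h ^ r = Matrix.scalar (Fin n) b → ∀ c : F, star c * c = 1 →
      (mval g).charpoly = (c • mval h).charpoly → uClass g = uClass h := by
    intro g h a b ha hb hg hh c hc hch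
    obtain ⟨Y, hY, hY2⟩ := exists_unitary_conj_of_charpoly θ hθ hN (hu g) (smul_unitary hc (hu h)) (hpowN ha hg)
      (hpowN (mul_ne_zero (pow_ne_zero r (hne hc)) hb) (hsmul _ hh)) hch
    obtain ⟨y, hy⟩ := hmk Y hY
    exact (uClass_eq_iff hs hF g h).mpr ⟨c, y, hc, by rw [hy]; exact hY2⟩
  have hinv : ∀ {g h : ↥(Cfsg.GU n F q)} {a b : F}, mval g ^ r = Matrix.scalar (Fin n) a →
      mval h ^ r = Matrix.scalar (Fin n) b → uClass g = uClass h →
      ∃ c : F, star c * c = 1 ∧ a = c ^ r * b ∧ (mval g).charpoly = (c • mval h).charpoly := by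
    intro g h a b hg hh hgh
    obtain ⟨c, x, hc, hx⟩ := (uClass_eq_iff hs hF g h).mp hgh
    have hxu : IsUnit (mval x) := (x : GL (Fin n) F).isUnit
    refine ⟨c, hc, ?_, ?_⟩
    · have h2 : mval x * mval g ^ r = (c • mval h) ^ r * mval x := SemiconjBy.pow_right hx r
      rw [hg, hsmul _ hh, ← (Matrix.scalar_commute a (Commute.all a) _).eq] at h2
      exact Matrix.scalar_inj.mp (hxu.mul_right_cancel h2)
    · have hzd : mval x * mval g * (((x : GL (Fin n) F)⁻¹ : GL (Fin n) F) : Matrix (Fin n) (Fin n) F) = c • mval h := by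
        rw [hx, mul_assoc, Units.mul_inv, mul_one]
      rw [← hzd, Matrix.coe_units_inv, Matrix.charpoly_units_conj]
  have hmksc : ∀ g : ↥(Cfsg.GU n F q),
      ((QuotientGroup.mk g : ↥(Cfsg.GU n F q) ⧸ Subgroup.center ↥(Cfsg.GU n F q)) = 1) ↔
      ∃ a : F, mval g = Matrix.scalar (Fin n) a := fun g => by
    rw [QuotientGroup.eq_one_iff, mem_center_iff_scalar hF]
  have hpow : ∀ g : ↥(Cfsg.GU n F q), mval (g ^ r) = mval g ^ r := fun g => by
    rw [mval, Subgroup.coe_pow, Units.val_pow_eq_pow_val]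
  have hord : ∀ g : ↥(Cfsg.GU n F q), (¬ ∃ a : F, mval g = Matrix.scalar (Fin n) a) →
      (∃ a : F, mval g ^ r = Matrix.scalar (Fin n) a) →
      orderOf (QuotientGroup.mk g : ↥(Cfsg.GU n F q) ⧸ Subgroup.center ↥(Cfsg.GU n F q)) = r := by
    intro g h1 h2
    refine orderOf_eq_prime ?_ (mt (hmksc g).mp h1)
    rw [← QuotientGroup.mk_pow, hmksc, hpow]
    exact h2
  -- roots of unity
  obtain ⟨ζu, hζu⟩ := exists_prime_orderOf_dvd_card' (G := Fˣ) r (by
    rw [Nat.card_units, Nat.card_eq_fintype_card]; exact hrQ)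
  set ζ : F := (ζu : F) with hζdef
  have hζ : IsPrimitiveRoot ζ r := by
    rw [hζdef, IsPrimitiveRoot.iff_orderOf, orderOf_units, hζu]
  have hz : ∀ j : ZMod r, star (zpw ζ j) * zpw ζ j = 1 := fun j => hroot (by rw [zpw_pow hζ, star_one, one_mul])
  -- split classes
  have hD : ∀ s : Sym (ZMod r) n, ∃ g : ↥(Cfsg.GU n F q), mval g = diagOf ζ s := fun s => hmk _ (by
    rw [diagOf, Matrix.diagonal_conjTranspose, Matrix.diagonal_mul_diagonal, ← Matrix.diagonal_one]
    congr 1
    funext i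
    exact hz _)
  choose D hDv using hD
  let Φ := fun s => uClass (D s)
  set T : Finset (Sym (ZMod r) n) :=
    Finset.univ.filter fun s => ¬ ∃ j, (s : Multiset (ZMod r)) = Multiset.replicate n j with hTdef
  have hsc : ∀ u : Sym (ZMod r) n, mval (D u) ^ r = Matrix.scalar (Fin n) 1 := fun u => by
    rw [hDv, diagOf_pow hζ, map_one]
  have hΦ : ∀ s ∈ T, ∀ t ∈ T, (Φ s = Φ t ↔ ∃ k : ZMod r,
      (s : Multiset (ZMod r)) = (t : Multiset (ZMod r)).map (k + ·)) := by
    intro s _ t _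
    have hmap : ∀ k : ZMod r, Matrix.charpoly (zpw ζ k • diagOf ζ t) =
        (((t : Multiset (ZMod r)).map (k + ·)).map fun j => X - C (zpw ζ j)).prod := fun k => by
      rw [smul_diagOf hζ, charpoly_diag]
      congr 2
      conv_rhs => rw [← map_listing t, Multiset.map_map]
      rfl
    have hpl : ∀ u : Sym (ZMod r) n, (diagOf ζ u).charpoly =
        ((u : Multiset (ZMod r)).map fun j => X - C (zpw ζ j)).prod := fun u => by
      rw [diagOf, charpoly_diag, map_listing]
    constructor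
    · intro h
      obtain ⟨c, -, hc1, hc2⟩ := hinv (hsc s) (hsc t) h
      rw [mul_one] at hc1
      obtain ⟨i, hi, hic⟩ := hζ.eq_pow_of_pow_eq_one hc1.symm
      refine ⟨(i : ZMod r), roots_prod hζ ?_⟩
      rw [← hpl, ← hmap, ← hDv s, hc2, hDv t]
      congr 2
      rw [zpw, ZMod.val_natCast_of_lt hi, hic]
    · rintro ⟨k, hk⟩
      refine hconj _ _ 1 1 one_ne_zero one_ne_zero (hsc s) (hsc t) (zpw ζ k) (hz k) ?_
      rw [hDv, hDv, hpl, hmap, hk]
  obtain ⟨hTcard, himg⟩ := card_orbit_sum (hn := by omega) T Φ (fun s => by simp [hTdef]) hΦ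
  -- non-split classes
  let U : Subgroup Fˣ := rootsOfUnity (q + 1) F
  have hUmem : ∀ x : Fˣ, x ∈ U ↔ star (x : F) * x = 1 := fun x => by
    rw [mem_rootsOfUnity', hs, pow_succ]
  have hUcard : Nat.card U = q + 1 := by
    rw [← Unitary.card_norm_eq_one hF]
    refine Nat.card_congr
      { toFun := fun x => ⟨((x : Fˣ) : F), (mem_rootsOfUnity' _ _).mp x.2⟩
        invFun := fun a => ⟨Units.mk0 a.1 fun h0 => by simpa [h0] using a.2, (mem_rootsOfUnity' _ _).mpr a.2⟩
        left_inv := fun x => Subtype.ext (Units.ext rfl)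
        right_inv := fun a => rfl }
  let P : Subgroup U := (powMonoidHom r : U →* U).range
  have hP : P.index = r := by
    have h := P.card_mul_index
    have h2 : Nat.card P * r = Nat.card U := by
      have h3 := Subgroup.card_mul_index (powMonoidHom r : U →* U).ker
      rw [Subgroup.index_ker, IsCyclic.card_powMonoidHom_ker, Nat.gcd_eq_right (by rw [hUcard]; exact hrq)] at h3
      rw [mul_comm]
      exact h3
    rw [← h2] at h
    exact Nat.eq_of_mul_eq_mul_left Nat.card_pos h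
  have hnorm : ∀ x : U, star (((x : U) : Fˣ) : F) * ((x : Fˣ) : F) = 1 := fun x => (hUmem _).mp x.2
  have hnp : ∀ x : U ⧸ P, x ≠ 1 → ∀ b : F, b ^ r ≠ (((x.out : U) : Fˣ) : F) := by
    intro x hx b hb
    apply hx
    have hbn : star b * b = 1 := hroot (by rw [hb]; exact hnorm _)
    rw [← QuotientGroup.out_eq' x, QuotientGroup.eq_one_iff]
    exact ⟨⟨Units.mk0 b (hne hbn), (hUmem _).mpr hbn⟩, Subtype.ext (Units.ext hb)⟩
  have hE : ∀ x : {x : U ⧸ P // x ≠ 1 ∧ r ∣ n}, ∃ g : ↥(Cfsg.GU n F q),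
      mval g ^ r = Matrix.scalar (Fin n) (((x.1.out : U) : Fˣ) : F) := fun x => by
    set μ : F := (((x.1.out : U) : Fˣ) : F) with hμ
    have hμ1 : star μ * μ = 1 := hnorm _
    have hfm : (X ^ r - C μ : F[X]).Monic := monic_X_pow_sub_C μ hr.ne_zero
    have hfi := X_pow_sub_C_irreducible_of_prime hr (hnp x.1 x.2.1)
    obtain ⟨M₀, hM₀⟩ := exists_pow_eq_scalar_of_irreducible (n := n) hr (hnp x.1 x.2.1) x.2.2
    have haev : aeval M₀ (X ^ r - C μ : F[X]) = 0 := by
      rw [map_sub, map_pow, aeval_X, aeval_C, hM₀, sub_eq_zero]; rfl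
    obtain ⟨-, hcp⟩ := eq_pow_of_factor_eq hfm hfi haev
    rw [natDegree_X_pow_sub_C] at hcp
    have hM₀N := hpowN (hne hμ1) hM₀
    have hadm : M₀.charpoly ∈ AdmPoly F n N := ⟨Matrix.charpoly_monic _,
      (Matrix.charpoly_natDegree_eq_dim _).trans (Fintype.card_fin _),
      fun f hf hfd => factor_dvd_of_pow_eq_one hM₀N hf hfd⟩
    have hdual1 : dual (starRingEnd F) (X ^ r - C μ) = X ^ r - C μ := by
      ext k
      have hdeg : (X ^ r - C μ : F[X]).natDegree = r := natDegree_X_pow_sub_C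
      have hc0 : (X ^ r - C μ : F[X]).coeff 0 = -μ := by
        simp [coeff_X_pow, hr.ne_zero.symm]
      rw [coeff_dual, hdeg, hc0, map_neg]
      have hinvμ : (starRingEnd F μ)⁻¹ = μ := inv_eq_of_mul_eq_one_right hμ1
      rw [inv_neg, hinvμ]
      have hlead : (X ^ r - C μ : F[X]).coeff r = 1 := by simp [coeff_X_pow, coeff_C, hr.ne_zero]
      rcases eq_or_ne k 0 with rfl | hk
      · rw [revAt_zero, hlead, map_one, mul_one, hc0]
      rcases eq_or_ne k r with rfl | hk'
      · rw [revAt_le le_rfl, Nat.sub_self, hc0, hlead, map_neg, neg_mul_neg, mul_comm]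
        exact hμ1
      · have h1 : (X ^ r - C μ : F[X]).coeff k = 0 := by
          simp [coeff_X_pow, coeff_C, hk, hk']
        rw [h1]
        by_cases hkr : k ≤ r
        · rw [revAt_le hkr]
          have h2 : (X ^ r - C μ : F[X]).coeff (r - k) = 0 := by
            simp [coeff_X_pow, coeff_C, show r - k ≠ r by omega, show r - k ≠ 0 by omega]
          rw [h2, map_zero, mul_zero]
        · rw [revAt_eq_self_of_lt (by omega), h1, map_zero, mul_zero]
    obtain ⟨M, hM, hMN, hMc⟩ := exists_unitary_charpoly θ hθ hN hadm (by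
      rw [hcp]
      generalize n / r = k
      induction k with
      | zero => rw [pow_zero, dual, coeff_one_zero, map_one, inv_one, C_1, one_mul, ← C_1, reverse_C, map_C, map_one]
      | succ k ih => rw [pow_succ, dual_mul, ih, hdual1])
    obtain ⟨G, hG, hGM⟩ := exists_unit_conj hN hMN hM₀N hMc
    obtain ⟨g, hg⟩ := hmk M hM
    refine ⟨g, hG.mul_left_cancel ?_⟩
    rw [hg]
    have h2 : G * M ^ r = M₀ ^ r * G := SemiconjBy.pow_right hGM r
    rw [h2, hM₀]
    exact (Matrix.scalar_commute μ (Commute.all μ) G).eq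
  choose E hEv using hE
  let A : Set (ConjClasses (↥(Cfsg.GU n F q) ⧸ Subgroup.center ↥(Cfsg.GU n F q))) := ↑(T.image Φ)
  let B : Set (ConjClasses (↥(Cfsg.GU n F q) ⧸ Subgroup.center ↥(Cfsg.GU n F q))) :=
    Set.range fun x => uClass (E x)
  have hAB : Disjoint A B := by
    rw [Set.disjoint_left]
    rintro C hA ⟨x, rfl⟩
    obtain ⟨s, -, hs'⟩ := Finset.mem_image.mp hA
    obtain ⟨c, -, hc, -⟩ := hinv (hEv x) (hsc s) hs'.symm
    rw [mul_one] at hc
    exact hnp x.1 x.2.1 _ hc.symm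
  have hEinj : Function.Injective fun x => uClass (E x) := by
    intro x y h
    obtain ⟨c, hcn, hc, -⟩ := hinv (hEv x) (hEv y) h
    apply Subtype.ext
    rw [← QuotientGroup.out_eq' x.1, ← QuotientGroup.out_eq' y.1]
    let cU : U := ⟨Units.mk0 c (hne hcn), (hUmem _).mpr hcn⟩
    have heq : x.1.out = cU ^ r * y.1.out := Subtype.ext (Units.ext hc)
    refine QuotientGroup.eq.mpr ⟨cU⁻¹, ?_⟩
    rw [powMonoidHom_apply, heq, _root_.mul_inv_rev, mul_comm _ y.1.out, mul_inv_cancel_left, inv_pow]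
  have hset : {C : ConjClasses (↥(Cfsg.GU n F q) ⧸ Subgroup.center ↥(Cfsg.GU n F q)) |
      ∃ g, ConjClasses.mk g = C ∧ orderOf g = r} = A ∪ B := by
    ext C
    constructor
    · rintro ⟨g, rfl, hg⟩
      obtain ⟨g, rfl⟩ := QuotientGroup.mk_surjective g
      have hns : ¬ ∃ a : F, mval g = Matrix.scalar (Fin n) a := fun h => by
        rw [(hmksc g).mpr h, orderOf_one] at hg
        exact hr.ne_one hg.symm
      obtain ⟨a, ha⟩ : ∃ a : F, mval g ^ r = Matrix.scalar (Fin n) a := by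
        rw [← hpow, ← hmksc, QuotientGroup.mk_pow, ← hg]
        exact pow_orderOf_eq_one _
      have han : star a * a = 1 := norm_of_scalar (hu (g ^ r)) ((hpow g).trans ha)
      have ha0 : a ≠ 0 := hne han
      by_cases hp : ∃ b : F, b ^ r = a
      · left
        obtain ⟨b, hb⟩ := hp
        have hbn : star b * b = 1 := hroot (by rw [hb]; exact han)
        have hb0 : b ≠ 0 := hne hbn
        set M := b⁻¹ • mval g with hM
        have hM1 : M ^ r = 1 := by
          rw [hM, hsmul _ ha, inv_pow, hb, inv_mul_cancel₀ ha0, map_one]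
        obtain ⟨s, hs'⟩ := exists_sym_charpoly hζ hM1
        obtain ⟨Y, hY, hY2⟩ := exists_unitary_conj_of_charpoly θ hθ hrF
          (smul_unitary (M := mval g) (c := b⁻¹) (by rw [star_inv₀, ← mul_inv, hbn, inv_one]) (hu g))
          (show (diagOf ζ s)ᴴ * diagOf ζ s = 1 by rw [← hDv s]; exact hu _) hM1 (diagOf_pow hζ s) hs'
        obtain ⟨y, hy⟩ := hmk Y hY
        have hgs : Y * mval g = (b • diagOf ζ s) * Y := by
          rw [Matrix.smul_mul, ← hY2, Matrix.mul_smul, smul_inv_smul₀ hb0]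
        have heq : uClass g = Φ s :=
          (uClass_eq_iff hs hF g (D s)).mpr ⟨b, y, hbn, by rw [hy, hDv]; exact hgs⟩
        refine Finset.mem_coe.mpr (Finset.mem_image.mpr ⟨s, ?_, heq.symm⟩)
        simp only [hTdef, Finset.mem_filter, Finset.mem_univ, true_and]
        intro hj
        obtain ⟨t, ht⟩ := (diag_eq_scalar hζ s (by omega)).mpr hj
        refine hns ⟨b * t, (IsUnit.of_mul_eq_one_right Yᴴ hY).mul_left_cancel ?_⟩
        rw [hgs, ht, ← map_smul_scalar]
      · right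
        push Not at hp
        obtain ⟨hrn, hch⟩ := eq_pow_of_factor_eq (f := X ^ r - C a) (monic_X_pow_sub_C a hr.ne_zero)
          (X_pow_sub_C_irreducible_of_prime hr hp) (M := mval g) (by
            rw [map_sub, map_pow, aeval_X, aeval_C, ha, sub_eq_zero]; rfl)
        rw [natDegree_X_pow_sub_C] at hrn hch
        let aU : U := ⟨Units.mk0 a ha0, (hUmem _).mpr han⟩
        let x : U ⧸ P := QuotientGroup.mk aU
        have hx : x ≠ 1 := fun h => by
          obtain ⟨c, hc⟩ := (QuotientGroup.eq_one_iff _).mp h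
          exact hp _ (congrArg (fun u : U => ((u : Fˣ) : F)) hc)
        refine ⟨⟨x, hx, hrn⟩, ?_⟩
        obtain ⟨c, hc⟩ := QuotientGroup.eq.mp (QuotientGroup.out_eq' x).symm
        have hout : (((x.out : U) : Fˣ) : F) = a * ((c : Fˣ) : F) ^ r := by
          have h := congrArg (fun u : U => (((aU * u : U) : Fˣ) : F)) hc
          simp only [mul_inv_cancel_left, powMonoidHom_apply] at h
          exact h.symm
        refine hconj _ g _ a (Units.ne_zero _) ha0 (hEv _) ha _ (hnorm c) ?_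
        obtain ⟨-, hch2⟩ := eq_pow_of_factor_eq (f := X ^ r - C (((x.out : U) : Fˣ) : F))
          (monic_X_pow_sub_C _ hr.ne_zero) (X_pow_sub_C_irreducible_of_prime hr (hnp x hx))
          (M := ((c : Fˣ) : F) • mval g) (by
            rw [map_sub, map_pow, aeval_X, aeval_C, hsmul _ ha, hout, mul_comm, sub_eq_zero]; rfl)
        obtain ⟨-, hch3⟩ := eq_pow_of_factor_eq (f := X ^ r - C (((x.out : U) : Fˣ) : F))
          (monic_X_pow_sub_C _ hr.ne_zero) (X_pow_sub_C_irreducible_of_prime hr (hnp x hx))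
          (M := mval (E ⟨x, hx, hrn⟩)) (by
            rw [map_sub, map_pow, aeval_X, aeval_C, hEv, sub_eq_zero]; rfl)
        rw [hch2, hch3]
    · rintro (hC | ⟨x, rfl⟩)
      · obtain ⟨s, hs', rfl⟩ := Finset.mem_image.mp hC
        simp only [hTdef, Finset.mem_filter, Finset.mem_univ, true_and] at hs'
        exact ⟨_, rfl, hord _ (fun h => hs' ((diag_eq_scalar hζ s (by omega)).mp (hDv s ▸ h))) ⟨1, hsc s⟩⟩
      · refine ⟨_, rfl, hord _ ?_ ⟨_, hEv x⟩⟩
        rintro ⟨a, ha⟩
        have h := hEv x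
        rw [ha, ← map_pow, Matrix.scalar_inj] at h
        exact hnp x.1 x.2.1 a h
  have hBcard : B.ncard = (r - 1) * (if r ∣ n then 1 else 0) := by
    rw [Set.ncard_range_of_injective hEinj, Nat.card_eq_fintype_card, Fintype.card_subtype]
    split_ifs with h
    · simp only [h, and_true, mul_one]
      rw [Finset.filter_ne' _ 1, Finset.card_erase_of_mem (Finset.mem_univ _), Finset.card_univ,
        ← Nat.card_eq_fintype_card, ← Subgroup.index_eq_card, hP]
    · simp [h]
  show Nat.card ↥{C : ConjClasses (↥(Cfsg.GU n F q) ⧸ Subgroup.center ↥(Cfsg.GU n F q)) |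
      ∃ g, ConjClasses.mk g = C ∧ orderOf g = r} = _
  rw [hset, Nat.card_coe_set_eq, Set.ncard_union_eq hAB, hBcard, Set.ncard_coe_finset, ← hTcard]
  have h2r := hr.two_le
  split_ifs with h
  · simp only [h, if_true, mul_one] at himg ⊢
    obtain ⟨e, he⟩ : ∃ e, (T.image Φ).card = e + 1 := by
      refine ⟨(T.image Φ).card - 1, ?_⟩
      rcases Nat.eq_zero_or_pos (T.image Φ).card with h0 | h0
      · rw [h0, mul_zero] at himg; omega
      · omega
    rw [he] at himg ⊢
    rw [mul_add, mul_one] at himg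
    rw [show T.card - 1 = r * e by omega, Nat.mul_div_cancel_left _ hr.pos]
    omega
  · simp only [h, if_false, mul_zero, add_zero, Nat.sub_zero] at himg ⊢
    rw [← himg, Nat.mul_div_cancel_left _ hr.pos]
where
  map_smul_scalar {n : ℕ} {b t : F} {Y : Matrix (Fin n) (Fin n) F} :
      Y * Matrix.scalar (Fin n) (b * t) = (b • Matrix.scalar (Fin n) t) * Y := by
    rw [← (Matrix.scalar_commute (b * t) (Commute.all _) Y).eq]
    congr 1
    rw [Matrix.scalar_apply, Matrix.scalar_apply, ← Matrix.diagonal_smul]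
    rfl


/-- Number of conjugacy classes of elements of odd prime order r in PGU_n(q) = GU_n(q)/scalars (n ≥ 3) when r divides q + 1: as in the linear case with q − 1 replaced by q + 1, the classes correspond to the rotation orbits on r-tuples of eigenvalue multiplicities summing to n with every entry < n, plus r − 1 further classes when r divides n; in all (C(n+r−1, r−1) − r − [r ∣ n])/r + r·[r ∣ n]. -/
theorem result {K : Type*} [Field K] [Fintype K] {q n r : ℕ} (hK : Fintype.card K = q ^ 2) (hn : 3 ≤ n) (hr : r.Prime) (hr2 : r ≠ 2) (hrq : r ∣ q + 1) : Nat.card {C : ConjClasses (↥(Cfsg.GU n K q) ⧸ Subgroup.center ↥(Cfsg.GU n K q)) // ∃ g : ↥(Cfsg.GU n K q) ⧸ Subgroup.center ↥(Cfsg.GU n K q), ConjClasses.mk g = C ∧ orderOf g = r} = (Nat.choose (n + r - 1) (r - 1) - r - (if r ∣ n then 1 else 0)) / r + r * (if r ∣ n then 1 else 0) := by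
  
  exact card_pgu_prime_classes hK (by omega) hr hr2 hrq

end Cfsg.Agent.S2672
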