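import Cfsg.Statements.S2676
import Cfsg.Agent.SpUnip77.Count

set_option autoImplicit false
open Classical
open Cfsg
open scoped commutatorElement

namespace Cfsg.Agent.S2676
open Matrix Cfsg.Agent.SpUnip77

namespace Aux

universe u

variable {F : Type u} [Field F] {p : ℕ}

/-- Signed partitions. -/
abbrev Sh (p m : ℕ) : Type :=
  {μ : Nat.Partition (2 * m) // (∀ a ∈ μ.parts, a ≤ p) ∧ ∀ j : ℕ, Odd j → Even (μ.parts.count j)}

/-- The part sizes carrying a sign. -/
noncomputable def D {m : ℕ} (μ : Sh p m) : Finset ℕ := μ.1.parts.toFinset.filter (fun j : ℕ => Even j)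

/-- Signed partitions. -/
abbrev Gam (p m : ℕ) : Type := Σ μ : Sh p m, (D μ → Bool)

/-- Multiplicities. -/
def mul {m : ℕ} (μ : Sh p m) (k : Fin (p + 1)) : ℕ := μ.1.parts.count (k : ℕ)

theorem mul_zero {m : ℕ} (μ : Sh p m) : mul μ 0 = 0 :=
  Multiset.count_eq_zero.2 fun h => (μ.1.parts_pos h).false

theorem mul_sum {m : ℕ} (μ : Sh p m) : ∑ k, mul μ k * (k : ℕ) = 2 * m := by
  calc ∑ k, mul μ k * (k : ℕ) = ∑ a ∈ Finset.range (p + 1), μ.1.parts.count a • a := by
        rw [← Fin.sum_univ_eq_sum_range (fun a => μ.1.parts.count a • a)]; rfl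
    _ = μ.1.parts.sum := (Finset.sum_multiset_count_of_subset μ.1.parts _ fun a ha => by
        rw [Finset.mem_range]
        exact Nat.lt_succ_of_le (μ.2.1 a (Multiset.mem_toFinset.1 ha))).symm
    _ = 2 * m := μ.1.parts_sum

/-- The sign at `k`. -/
noncomputable def bit {m : ℕ} (γ : Gam p m) (k : ℕ) : Bool :=
  if h : k ∈ D γ.1 then γ.2 ⟨k, h⟩ else true

variable [Finite F]

theorem exists_forms (h2 : (2 : F) ≠ 0) {m : ℕ} (γ : Gam p m) :
    ∃ g : (k : Fin (p + 1)) → Matrix (Fin (mul γ.1 k)) (Fin (mul γ.1 k)) F,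
      ∀ k : Fin (p + 1), Good (k : ℕ) (bit γ k) (g k) :=
  ⟨_, fun k => Classical.choose_spec (exists_good h2 (bit γ k) fun hk => γ.1.2.2 _ hk)⟩

theorem gam_ext {m : ℕ} {γ γ' : Gam p m} (h : γ.1 = γ'.1) (hb : ∀ k ∈ D γ.1, bit γ k = bit γ' k) : γ = γ' := by
  obtain ⟨μ, δ⟩ := γ
  obtain ⟨μ', δ'⟩ := γ'
  obtain rfl : μ = μ' := h
  refine congrArg _ (funext fun x => ?_)
  have := hb x x.2
  simpa [bit, x.2] using this

omit [Finite F] in
theorem sign_iff {n : ℕ} {k : ℕ} {c : Bool}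
    {G : Matrix (Fin n) (Fin n) F} (hG : Good k c G) (hk : Even k) (hn : n ≠ 0) : IsSquare G.det ↔ c = true :=
  (hG.2.2 hk).resolve_left hn

theorem count_classes [Fintype F] [Fact p.Prime] [CharP F p] (hp : p ≠ 2) (m : ℕ) :
    Nat.card {C : ConjClasses ↥(Matrix.symplecticGroup (Fin m) F) //
      ∃ g : Matrix.symplecticGroup (Fin m) F, ConjClasses.mk g = C ∧ g ^ p = 1} = Nat.card (Gam p m) := by
  classical
  have h2 : (2 : F) ≠ 0 := Ring.two_ne_zero (by rw [ringChar.eq F p]; exact hp)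
  have hpow : ∀ g : Matrix.symplecticGroup (Fin m) F, g ^ p = 1 ↔
      ((g : Matrix (Fin m ⊕ Fin m) (Fin m ⊕ Fin m) F) - 1) ^ p = 0 := fun g => by
    rw [← pow_char_iff]
    exact ⟨fun h => (SubmonoidClass.coe_pow g p).symm.trans (congrArg Subtype.val h),
      fun h => Subtype.ext ((SubmonoidClass.coe_pow g p).trans h)⟩
  have hrep : ∀ γ : Gam p m, ∃ (g : (k : Fin (p + 1)) → Matrix (Fin (mul γ.1 k)) (Fin (mul γ.1 k)) F)
      (N : Matrix (Fin m ⊕ Fin m) (Fin m ⊕ Fin m) F),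
      (∀ k : Fin (p + 1), Good (k : ℕ) (bit γ k) (g k)) ∧ Skew N ∧ N ^ p = 0 ∧ Pres N (mul γ.1) (model g) := by
    intro γ
    obtain ⟨g, hg⟩ := exists_forms h2 γ
    obtain ⟨N, hN⟩ := exists_realise h2 g (fun k _ => ⟨(hg k).1, (hg k).2.1⟩) (mul_sum γ.1)
    exact ⟨g, N, hg, hN⟩
  choose g N hg hs hN hP using hrep
  let el : Gam p m → ↥(Matrix.symplecticGroup (Fin m) F) := fun γ =>
    ⟨cay (N γ), SymplecticGroup.mem_iff'.2 (cay_preserves (hs γ) (hN γ))⟩
  have hel : ∀ γ, el γ ^ p = 1 := fun γ => (hpow _).2 (cay_sub_one_pow (hN γ))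
  let f : Gam p m → {C : ConjClasses ↥(Matrix.symplecticGroup (Fin m) F) //
      ∃ g : Matrix.symplecticGroup (Fin m) F, ConjClasses.mk g = C ∧ g ^ p = 1} := fun γ =>
    ⟨ConjClasses.mk (el γ), el γ, rfl, hel γ⟩
  refine (Nat.card_congr (Equiv.ofBijective f ⟨?_, ?_⟩)).symm
  · intro γ γ' h
    obtain ⟨c, hc⟩ := isConj_iff.1 (ConjClasses.mk_eq_mk_iff_isConj.1 (congrArg Subtype.val h))
    have hcm : (c : Matrix (Fin m ⊕ Fin m) (Fin m ⊕ Fin m) F) * cay (N γ) = cay (N γ') * c := by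
      have := congrArg Subtype.val (mul_inv_eq_iff_eq_mul.1 hc)
      exact this
    have hi := uncay_intertwine h2 (cay_sub_one_pow (hN γ)) (cay_sub_one_pow (hN γ')) hcm
    rw [uncay_cay h2 (hN γ), uncay_cay h2 (hN γ')] at hi
    have hP' : Pres (N γ') (mul γ.1) (model (g γ)) :=
      (hP γ).of_conj (g := (c : Matrix (Fin m ⊕ Fin m) (Fin m ⊕ Fin m) F)) (g' := ↑(c⁻¹))
        (congrArg Subtype.val (mul_inv_cancel c)) (SymplecticGroup.mem_iff'.1 c.2) hi
    have hm : mul γ.1 = mul γ'.1 := hP'.unique (hP γ') (mul_zero _) (mul_zero _)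
    have hμ : γ.1 = γ'.1 := by
      refine Subtype.ext (Nat.Partition.ext (Multiset.ext.2 fun a => ?_))
      by_cases ha : a ≤ p
      · exact congrFun hm ⟨a, Nat.lt_succ_of_le ha⟩
      · rw [Multiset.count_eq_zero.2 fun h => ha (γ.1.2.1 a h), Multiset.count_eq_zero.2 fun h => ha (γ'.1.2.1 a h)]
    refine gam_ext hμ fun k hk => ?_
    have hk' := Finset.mem_filter.1 hk
    have hmem := Multiset.mem_toFinset.1 hk'.1
    have hkp : k < p + 1 := Nat.lt_succ_of_le (γ.1.2.1 k hmem)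
    have hk0 : 0 < k := γ.1.1.parts_pos hmem
    have hpos : mul γ.1 ⟨k, hkp⟩ ≠ 0 := Multiset.count_ne_zero.2 hmem
    have hpos' : mul γ'.1 ⟨k, hkp⟩ ≠ 0 := hm ▸ hpos
    have e1 := sign_iff (hg γ ⟨k, hkp⟩) hk'.2 hpos
    have e2 := sign_iff (hg γ' ⟨k, hkp⟩) hk'.2 hpos'
    obtain ⟨μ, δ⟩ := γ
    obtain ⟨μ', δ'⟩ := γ'
    obtain rfl : μ = μ' := hμ
    have e3 := hP'.isSquare_iff (hP ⟨μ, δ'⟩) (hs _) (k := ⟨k, hkp⟩) hk0
    rw [lead_model _ hk0, lead_model _ hk0] at e3
    exact Bool.eq_iff_iff.2 (e1.symm.trans (e3.symm.trans e2))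
  · rintro ⟨C, x, rfl, hx⟩
    have hx' := (hpow x).1 hx
    have hxs := uncay_skew h2 (SymplecticGroup.mem_iff'.1 x.2) hx'
    have hxn := uncay_pow h2 hx'
    obtain ⟨mm, B, hm0, hPB⟩ := exists_pres hxn
    have hBf := hPB.isForm hxs
    have hsum : ∑ k, mm k * (k : ℕ) = 2 * m := by
      have h := hPB
      obtain ⟨Q, Q', h1, h2', -, -⟩ := h
      rw [← card_idx]
      have := (Matrix.toLin'OfInv h2' h1).finrank_eq
      rw [Module.finrank_pi, Module.finrank_pi, Fintype.card_sum, Fintype.card_fin] at this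
      omega
    obtain ⟨μ, rfl⟩ : ∃ μ : Sh p m, mul μ = mm := by
      let parts : Multiset ℕ := ∑ k : Fin (p + 1), Multiset.replicate (mm k) (k : ℕ)
      have hcount : ∀ k : Fin (p + 1), parts.count (k : ℕ) = mm k := by
        intro k
        simp only [parts, Multiset.count_sum', Multiset.count_replicate]
        rw [Finset.sum_eq_single k]
        · simp
        · intro b _ hb
          exact if_neg fun e => hb (Fin.ext e)
        · simp
      have hle : ∀ a ∈ parts, a ≤ p := by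
        intro a ha
        obtain ⟨k, -, hk⟩ := Multiset.mem_sum.1 ha
        rw [Multiset.eq_of_mem_replicate hk]
        exact Nat.le_of_lt_succ k.isLt
      let μ₀ : Nat.Partition (2 * m) :=
        { parts := parts
          parts_pos := fun {a} ha => by
            obtain ⟨k, -, hk⟩ := Multiset.mem_sum.1 ha
            obtain ⟨hne, rfl⟩ := Multiset.mem_replicate.1 hk
            refine Nat.pos_of_ne_zero fun h0 => hne ?_
            rw [show k = 0 from Fin.ext h0, hm0]
          parts_sum := by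
            rw [← hsum]
            simp [parts, Multiset.sum_sum] }
      have hcond : (∀ a ∈ μ₀.parts, a ≤ p) ∧ ∀ j : ℕ, Odd j → Even (μ₀.parts.count j) := by
        refine ⟨hle, fun j hj => ?_⟩
        by_cases hjp : j ≤ p
        · rw [hcount ⟨j, Nat.lt_succ_of_le hjp⟩]
          exact even_of_good_sign h2 (hBf.lead_transpose (k := ⟨j, Nat.lt_succ_of_le hjp⟩) hj.pos)
            (hBf.lead_det hPB.det hj.pos) hj
        · rw [Multiset.count_eq_zero.2 fun h => hjp (hle j h)]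
          exact Even.zero
      exact ⟨⟨μ₀, hcond⟩, funext fun k => hcount k⟩
    let γ : Gam p m := ⟨μ, fun j => decide (IsSquare (lead B ⟨j.1, Nat.lt_succ_of_le
      (μ.2.1 j.1 (Multiset.mem_toFinset.1 (Finset.mem_filter.1 j.2).1))⟩).det)⟩
    have hc : ∀ k : Fin (p + 1), 0 < (k : ℕ) → GraphAut.Cong (GraphAut.bf (g γ k)) (GraphAut.bf (lead B k)) := by
      intro k hk
      refine cong_of_good h2 (hg γ k) ⟨hBf.lead_transpose hk, hBf.lead_det hPB.det hk, fun hev => ?_⟩
      by_cases hn : mul μ k = 0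
      · exact Or.inl hn
      · refine Or.inr ?_
        have hmem : (k : ℕ) ∈ D γ.1 :=
          Finset.mem_filter.2 ⟨Multiset.mem_toFinset.2 (Multiset.count_ne_zero.1 hn), hev⟩
        simp [bit, hmem, γ]
    have hPx := hPB.normalise hp hxs (g γ) (fun k _ => ⟨(hg γ k).1, (hg γ k).2.1⟩) hc
    obtain ⟨h, h', hh, hJ, hN'⟩ := (hP γ).conj hPx
    refine ⟨γ, Subtype.ext (ConjClasses.mk_eq_mk_iff_isConj.2 (isConj_iff.2
      ⟨⟨h, SymplecticGroup.mem_iff'.2 hJ⟩, ?_⟩))⟩
    refine mul_inv_eq_iff_eq_mul.2 (Subtype.ext ?_)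
    show h * cay (N γ) = x.1 * h
    rw [cay_intertwine (hN γ) hxn hN', cay_uncay h2 hx']

end Aux


/-- Number of conjugacy classes of elements of order p in Sp_2m(q), q a power of the odd prime p: the classes correspond to the signed partitions of 2m — partitions with all parts at most p in which every odd part has even multiplicity, each even part size that occurs carrying a sign — other than the all-ones partition; so the count is the sum over such partitions of 2^(number of distinct even parts), minus one. -/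
theorem result {F : Type*} [Field F] [Fintype F] {p : ℕ} [Fact p.Prime] [CharP F p] (hp : p ≠ 2) (m : ℕ) : Nat.card {C : ConjClasses ↥(Matrix.symplecticGroup (Fin m) F) // ∃ g : Matrix.symplecticGroup (Fin m) F, ConjClasses.mk g = C ∧ orderOf g = p} = (∑ μ ∈ Finset.univ.filter (fun μ : Nat.Partition (2 * m) => (∀ a ∈ μ.parts, a ≤ p) ∧ ∀ j : ℕ, Odd j → Even (μ.parts.count j)), 2 ^ ((μ.parts.toFinset.filter (fun j : ℕ => Even j)).card)) - 1 := by
  have key := Aux.count_classes (F := F) hp m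
  let A : Set (ConjClasses ↥(Matrix.symplecticGroup (Fin m) F)) :=
    {C | ∃ g : Matrix.symplecticGroup (Fin m) F, ConjClasses.mk g = C ∧ g ^ p = 1}
  have h1 : ConjClasses.mk (1 : ↥(Matrix.symplecticGroup (Fin m) F)) ∈ A := ⟨1, rfl, one_pow p⟩
  have hset : {C : ConjClasses ↥(Matrix.symplecticGroup (Fin m) F) |
      ∃ g : Matrix.symplecticGroup (Fin m) F, ConjClasses.mk g = C ∧ orderOf g = p} =
      A \ {ConjClasses.mk 1} := by
    ext C
    constructor
    · rintro ⟨g, rfl, hg⟩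
      refine ⟨⟨g, rfl, orderOf_dvd_iff_pow_eq_one.1 hg.dvd⟩, fun h => ?_⟩
      have : g = 1 := isConj_one_left.1 (ConjClasses.mk_eq_mk_iff_isConj.1 h)
      rw [this, orderOf_one] at hg
      exact (Fact.out : p.Prime).one_lt.ne hg
    · rintro ⟨⟨g, rfl, hg⟩, hne⟩
      refine ⟨g, rfl, orderOf_eq_prime hg fun h => hne ?_⟩
      rw [h]; rfl
  calc Nat.card {C : ConjClasses ↥(Matrix.symplecticGroup (Fin m) F) // ∃ g : Matrix.symplecticGroup (Fin m) F,
        ConjClasses.mk g = C ∧ orderOf g = p} = (A \ {ConjClasses.mk 1}).ncard := by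
        rw [← hset]; rfl
    _ = A.ncard - 1 := Set.ncard_sdiff_singleton_of_mem h1
    _ = Nat.card (Aux.Gam p m) - 1 := by rw [← key]; rfl
    _ = _ := by
        congr 1
        rw [Nat.card_eq_fintype_card, Fintype.card_sigma,
          Finset.sum_subtype (p := fun μ : Nat.Partition (2 * m) =>
            (∀ a ∈ μ.parts, a ≤ p) ∧ ∀ j : ℕ, Odd j → Even (μ.parts.count j)) _ (fun μ => by simp)]
        refine Finset.sum_congr rfl fun μ _ => ?_
        rw [Fintype.card_fun, Fintype.card_bool, Fintype.card_coe]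
        rfl

end Cfsg.Agent.S2676
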