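import Cfsg.Statements.S2677
import Cfsg.Agent.AutPSU.Descent
import Cfsg.Agent.Lib.Unitary.Count

set_option autoImplicit false
set_option linter.style.haveILetI false
set_option linter.unusedTactic false
set_option maxHeartbeats 800000
open Cfsg
open scoped Matrix

namespace Cfsg.Agent.S2677

open Matrix in
theorem units_norm_surj {k : Type*} [Field k] [Fintype k] {m : ℕ} (hk : Fintype.card k = m ^ 2)
    (ν : kˣ) (hν : ν ^ (m - 1) = 1) : ∃ b : kˣ, b ^ (m + 1) = ν := by
  classical
  have hm : 2 ≤ m := by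
    have := Fintype.one_lt_card (α := k)
    rcases m with - | - | m <;> simp_all
  have hc : Nat.card kˣ = (m + 1) * (m - 1) := by
    rw [Nat.card_eq_fintype_card, Fintype.card_units, hk, ← Nat.sq_sub_sq, one_pow]
  have hle : (powMonoidHom (m + 1) : kˣ →* kˣ).range ≤ (powMonoidHom (m - 1) : kˣ →* kˣ).ker := by
    rintro _ ⟨b, rfl⟩
    show (b ^ (m + 1)) ^ (m - 1) = 1
    rw [← pow_mul, ← hc, pow_card_eq_one']
  have hcard : Nat.card (powMonoidHom (m - 1) : kˣ →* kˣ).ker ≤
      Nat.card (powMonoidHom (m + 1) : kˣ →* kˣ).range := by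
    rw [IsCyclic.card_powMonoidHom_ker, IsCyclic.card_powMonoidHom_range, hc,
      Nat.gcd_eq_right (Dvd.intro_left _ rfl), Nat.gcd_eq_right (Dvd.intro _ rfl),
      Nat.mul_div_cancel_left _ (by omega : 0 < m + 1)]
  exact (Subgroup.eq_of_le_of_card_ge hle hcard).ge hν


/-- Centraliser of a field automorphism of odd prime order in PGU_n(q): let q = q₀^r with r an odd prime, K the field with q² elements and σ a field automorphism of K of order r (fixed field of order q₀²). The elements g of GU_n(q) whose entrywise image under σ is a scalar multiple of g — those whose coset modulo the q + 1 unitary scalars is fixed by σ — number (q + 1)/(q₀ + 1) · |GU_n(q₀)|; equivalently the centraliser in PGU_n(q) of the induced automorphism has the order of PGU_n(q₀). -/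
theorem result {K : Type*} [Field K] [Fintype K] {q₀ q r n : ℕ} (hr : r.Prime) (hr2 : r ≠ 2) (hn : 1 ≤ n) (hq : q = q₀ ^ r) (hK : Fintype.card K = q ^ 2) (σ : K ≃+* K) (hσ : orderOf σ = r) : (Nat.card {g : ↥(Cfsg.GU n K q) // ∃ c : K, c ≠ 0 ∧ ((g : GL (Fin n) K) : Matrix (Fin n) (Fin n) K).map σ = c • ((g : GL (Fin n) K) : Matrix (Fin n) (Fin n) K)} : ℤ) = ((q + 1) / (q₀ + 1) : ℕ) * ((q₀ : ℤ) ^ (n * (n - 1) / 2) * ∏ i : Fin n, ((q₀ : ℤ) ^ ((i : ℕ) + 1) - (-1) ^ ((i : ℕ) + 1))) := by
  classical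
  haveI : NeZero n := ⟨by omega⟩
  have hrp : 0 < orderOf σ := hσ ▸ hr.pos
  haveI hfin : Finite ↥(Subgroup.zpowers σ) :=
    Nat.finite_of_card_ne_zero (by rw [Nat.card_zpowers]; omega)
  set k : Subfield K := FixedPoints.subfield ↥(Subgroup.zpowers σ) K with hk
  haveI : FaithfulSMul ↥(Subgroup.zpowers σ) K :=
    ⟨fun {a b} h => Subtype.ext (RingEquiv.ext h)⟩
  have hrank : Module.finrank k K = r := by
    haveI := Fintype.ofFinite ↥(Subgroup.zpowers σ)
    rw [hk, FixedPoints.finrank_eq_card, ← Nat.card_eq_fintype_card, Nat.card_zpowers, hσ]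
  have hck : Fintype.card k = q₀ ^ 2 := by
    have h : Fintype.card K = Fintype.card k ^ Module.finrank k K := Module.card_eq_pow_finrank
    rw [hrank, hK, hq, ← pow_mul, mul_comm r 2, pow_mul] at h
    exact (Nat.pow_left_injective hr.ne_zero h).symm
  have hq0 : 2 ≤ q₀ := by
    have := Fintype.one_lt_card (α := k)
    rcases q₀ with - | - | q₀ <;> simp_all
  have hmemk : ∀ a : K, a ∈ k ↔ σ a = a := by
    intro a
    constructor
    · intro h; exact h ⟨σ, Subgroup.mem_zpowers σ⟩
    · rintro h ⟨τ, hτ⟩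
      obtain ⟨i, rfl⟩ := Subgroup.mem_zpowers_iff.1 hτ
      have : ∀ j : ℤ, (σ ^ j) a = a := by
        intro j
        induction j using Int.induction_on with
        | zero => simp
        | succ j ih => rw [_root_.zpow_add_one]; show (σ ^ (j : ℤ)) (σ a) = a; rw [h, ih]
        | pred j ih =>
          rw [_root_.zpow_sub_one]
          show (σ ^ (-(j : ℤ))) (σ⁻¹ a) = a
          have h' : σ⁻¹ a = a := by
            conv_lhs => rw [← h]
            exact σ.symm_apply_apply a
          rw [h', ih]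
      exact this i
  obtain ⟨t, ht⟩ : ∃ t, r = 2 * t + 1 := by
    rcases hr.eq_two_or_odd with h | h
    · exact absurd h hr2
    · exact ⟨r / 2, by omega⟩
  have hkq : ∀ x : k, x ^ q = x ^ q₀ := fun x => by
    have hx : ∀ j : ℕ, x ^ (q₀ ^ (2 * j + 1)) = x ^ q₀ := by
      intro j
      induction j with
      | zero => simp
      | succ j ih =>
        rw [show 2 * (j + 1) + 1 = (2 * j + 1) + 2 by ring, pow_add, pow_mul, ih, ← pow_mul,
          show q₀ * q₀ ^ 2 = q₀ ^ 2 * q₀ by ring, pow_mul, ← hck, FiniteField.pow_card]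
    rw [hq, ht, hx]
  let ι : k →+* K := k.subtype
  let μ : Subgroup Kˣ := (powMonoidHom (q + 1) : Kˣ →* Kˣ).ker
  let μ₀ : Subgroup kˣ := (powMonoidHom (q₀ + 1) : kˣ →* kˣ).ker
  let mp : GL (Fin n) k →* GL (Fin n) K := Units.map (ι.mapMatrix).toMonoidHom
  have hgram : ∀ h : GL (Fin n) k, mp h ∈ GU n K q ↔ h ∈ GU n k q₀ := by
    intro h
    rw [AutPSU.mem_GU_iff_gram hK, AutPSU.mem_GU_iff_gram hck]
    have e : ((mp h : GL (Fin n) K) : Matrix (Fin n) (Fin n) K) =
        ((h : Matrix (Fin n) (Fin n) k)).map ι := rfl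
    rw [e]
    have e2 : ((h : Matrix (Fin n) (Fin n) k).map ι).map (fun x => x ^ q) =
        ((h : Matrix (Fin n) (Fin n) k).map (fun x => x ^ q₀)).map ι := by
      ext i j
      simp only [Matrix.map_apply, ← map_pow, hkq]
    rw [e2, ← Matrix.transpose_map, ← Matrix.map_mul]
    constructor
    · intro he
      apply Matrix.map_injective ι.injective
      dsimp only
      rw [he, Matrix.map_one _ (map_zero _) (map_one _)]
    · intro he
      rw [he, Matrix.map_one _ (map_zero _) (map_one _)]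
  let sc : Kˣ →* GL (Fin n) K := Units.map (Matrix.scalar (Fin n)).toMonoidHom
  have hsc : ∀ (a : Kˣ) (g : GL (Fin n) K),
      ((sc a * g : GL (Fin n) K) : Matrix (Fin n) (Fin n) K) = (a : K) • (g : Matrix (Fin n) (Fin n) K) := by
    intro a g
    show Matrix.scalar (Fin n) (a : K) * _ = _
    rw [Matrix.scalar_apply, ← Matrix.smul_eq_diagonal_mul]
  have hscal : ∀ (a : Kˣ) (g : GL (Fin n) K), a ∈ μ → (sc a * g ∈ GU n K q ↔ g ∈ GU n K q) := by
    intro a g ha
    rw [AutPSU.mem_GU_iff_gram hK, AutPSU.mem_GU_iff_gram hK, hsc, Matrix.transpose_smul]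
    have ha' : (a : K) * (a : K) ^ q = 1 := by
      rw [← pow_succ', ← Units.val_pow_eq_pow_val, show a ^ (q + 1) = 1 from ha, Units.val_one]
    have e : ((a : K) • (g : Matrix (Fin n) (Fin n) K)).map (fun x => x ^ q) =
        (a : K) ^ q • (g : Matrix (Fin n) (Fin n) K).map (fun x => x ^ q) := by
      ext i j; simp [mul_pow]
    rw [e, Matrix.smul_mul, Matrix.mul_smul, smul_smul, ha', one_smul]
  have hone : ∀ a : Kˣ, a ∈ μ → sc a ∈ GU n K q := fun a ha => by
    simpa using (hscal a 1 ha).2 (one_mem _)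
  let Φ : ↥μ × ↥(GU n k q₀) →* ↥(GU n K q) :=
    MonoidHom.mk' (fun z => ⟨sc z.1 * mp z.2, (hscal _ _ z.1.2).2 ((hgram _).2 z.2.2)⟩) (by
      intro z w
      refine Subtype.ext ?_
      have hc : sc (w.1 : Kˣ) * mp (z.2 : GL (Fin n) k) = mp (z.2 : GL (Fin n) k) * sc (w.1 : Kˣ) := by
        refine Units.ext ?_
        exact (Matrix.scalar_commute _ (fun r => Commute.all _ r) _).eq
      show sc ((z.1 : Kˣ) * w.1) * mp ((z.2 : GL (Fin n) k) * w.2) = _
      rw [map_mul, map_mul, mul_assoc (sc (z.1 : Kˣ)), ← mul_assoc (sc (w.1 : Kˣ)), hc]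
      show _ = sc (z.1 : Kˣ) * mp (z.2 : GL (Fin n) k) * (sc (w.1 : Kˣ) * mp (w.2 : GL (Fin n) k))
      simp only [mul_assoc])
  have hrange : ∀ g : ↥(GU n K q), g ∈ Φ.range ↔
      ∃ c : K, c ≠ 0 ∧ ((g : GL (Fin n) K) : Matrix (Fin n) (Fin n) K).map σ =
        c • ((g : GL (Fin n) K) : Matrix (Fin n) (Fin n) K) := by
    intro g
    constructor
    · rintro ⟨⟨a, h⟩, rfl⟩
      refine ⟨σ ((a : Kˣ) : K) * ((a : Kˣ) : K)⁻¹, mul_ne_zero ?_ (inv_ne_zero (Units.ne_zero _)), ?_⟩
      · exact fun e => Units.ne_zero (a : Kˣ) (σ.injective (by rw [e, map_zero]))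
      · show ((sc (a : Kˣ) * mp (h : GL (Fin n) k) : GL (Fin n) K) : Matrix (Fin n) (Fin n) K).map σ =
          _ • ((sc (a : Kˣ) * mp (h : GL (Fin n) k) : GL (Fin n) K) : Matrix (Fin n) (Fin n) K)
        rw [hsc, smul_smul, inv_mul_cancel_right₀ (Units.ne_zero _)]
        ext i j
        simp only [Matrix.map_apply, Matrix.smul_apply, smul_eq_mul, map_mul]
        congr 1
        exact (hmemk _).1 (((h : GL (Fin n) k) : Matrix (Fin n) (Fin n) k) i j).2
    · rintro ⟨c, hc, hmap⟩
      set M := ((g : GL (Fin n) K) : Matrix (Fin n) (Fin n) K) with hM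
      obtain ⟨i, j, hij⟩ : ∃ i j, M i j ≠ 0 := by
        by_contra hall
        push Not at hall
        have h0 : M = 0 := Matrix.ext fun i j => hall i j
        exact Units.ne_zero (g : GL (Fin n) K) h0
      set a := M i j with ha
      have hσa : σ a = c * a := by
        have := congrFun (congrFun hmap i) j
        simpa using this
      have hN : ∀ x y, M x y * a⁻¹ ∈ k := fun x y => by
        rw [hmemk, map_mul, map_inv₀, hσa]
        have := congrFun (congrFun hmap x) y
        simp only [Matrix.map_apply, Matrix.smul_apply, smul_eq_mul] at this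
        rw [this]
        field_simp
      let N : Matrix (Fin n) (Fin n) k := Matrix.of fun x y => ⟨M x y * a⁻¹, hN x y⟩
      have hNM : N.map ι = a⁻¹ • M := by
        ext x y
        simp [N, ι, mul_comm]
      have hG : Mᵀ * M.map (fun x => x ^ q) = 1 := (AutPSU.mem_GU_iff_gram hK).1 g.2
      have hG2 : (Nᵀ * N.map (fun x => x ^ q₀)).map ι = (a⁻¹ * a⁻¹ ^ q) • (1 : Matrix (Fin n) (Fin n) K) := by
        rw [Matrix.map_mul, Matrix.transpose_map, hNM]
        have e : (N.map (fun x => x ^ q₀)).map ι = a⁻¹ ^ q • M.map (fun x => x ^ q) := by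
          have : (N.map (fun x => x ^ q₀)).map ι = (N.map ι).map (fun x => x ^ q) := by
            ext x y
            simp only [Matrix.map_apply, ← map_pow, hkq]
          rw [this, hNM]
          ext x y; simp [mul_pow]
        rw [e, Matrix.transpose_smul, Matrix.smul_mul, Matrix.mul_smul, smul_smul, hG]
      set ν : k := (Nᵀ * N.map (fun x => x ^ q₀)) i i with hνdef
      have hν : ι ν = a⁻¹ * a⁻¹ ^ q := by
        have := congrFun (congrFun hG2 i) i
        simpa [hνdef] using this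
      have hν0 : ν ≠ 0 := fun e => by
        rw [e, map_zero] at hν
        exact mul_ne_zero (inv_ne_zero hij) (pow_ne_zero _ (inv_ne_zero hij)) hν.symm
      have hνq : ν ^ q₀ = ν := by
        apply ι.injective
        rw [← hkq, map_pow, hν, mul_pow, ← pow_mul, ← pow_two, ← hK, FiniteField.pow_card, mul_comm]
      obtain ⟨b, hb⟩ := units_norm_surj hck (Units.mk0 ν hν0) (Units.ext (by
        rw [Units.val_pow_eq_pow_val, Units.val_mk0, Units.val_one]
        apply mul_right_cancel₀ hν0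
        rw [← pow_succ, Nat.sub_add_cancel (by omega), hνq, one_mul]))
      have hbν : ι (b : k) * ι (b : k) ^ q = a⁻¹ * a⁻¹ ^ q := by
        rw [← hν, ← map_pow, hkq, ← map_mul, ← pow_succ', ← Units.val_pow_eq_pow_val, hb, Units.val_mk0]
      have hb0 : ι (b : k) ≠ 0 := (map_ne_zero _).2 b.ne_zero
      let lam : Kˣ := Units.mk0 (a * ι (b : k)) (mul_ne_zero hij hb0)
      have hlam : lam ∈ μ := by
        show lam ^ (q + 1) = 1
        refine Units.ext ?_
        rw [Units.val_pow_eq_pow_val, Units.val_mk0, Units.val_one, pow_succ', mul_pow,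
          mul_mul_mul_comm, hbν, mul_mul_mul_comm, ← mul_pow, mul_inv_cancel₀ hij, one_pow, one_mul]
      have hh : (lam : K)⁻¹ • M = (((b : k)⁻¹) • N).map ι := by
        ext x y
        simp [lam, N, ι, mul_comm]
        ring
      have hdet : IsUnit (((b : k)⁻¹) • N).det := by
        rw [isUnit_iff_ne_zero]
        intro e
        have h1 : ι (((b : k)⁻¹) • N).det = 0 := by rw [e, map_zero]
        rw [RingHom.map_det, RingHom.mapMatrix_apply, ← hh, Matrix.det_smul] at h1
        rcases mul_eq_zero.1 h1 with h1 | h1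
        · exact pow_ne_zero _ (inv_ne_zero lam.ne_zero) h1
        · exact ((Matrix.isUnit_iff_isUnit_det M).1 (Units.isUnit (g : GL (Fin n) K))).ne_zero h1
      let h : GL (Fin n) k := ((Matrix.isUnit_iff_isUnit_det _).2 hdet).unit
      have e : sc lam * mp h = (g : GL (Fin n) K) := by
        refine Units.ext ?_
        rw [hsc]
        show (lam : K) • ((((b : k)⁻¹) • N).map ι) = M
        rw [← hh, smul_smul, mul_inv_cancel₀ lam.ne_zero, one_smul]
      have hmem : h ∈ GU n k q₀ := by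
        rw [← hgram, ← hscal lam _ hlam, e]
        exact g.2
      exact ⟨(⟨lam, hlam⟩, ⟨h, hmem⟩), Subtype.ext e⟩
  -- the kernel
  let emb : ↥μ₀ →* ↥μ × ↥(GU n k q₀) :=
    MonoidHom.mk' (fun b => (⟨Units.map ι.toMonoidHom (b : kˣ), by
        show (Units.map ι.toMonoidHom (b : kˣ)) ^ (q + 1) = 1
        refine Units.ext ?_
        have h1 : ((b : kˣ) : k) ^ (q₀ + 1) = 1 := by
          rw [← Units.val_pow_eq_pow_val, show (b : kˣ) ^ (q₀ + 1) = 1 from b.2, Units.val_one]
        show (Units.map ι.toMonoidHom (b : kˣ) ^ (q + 1) : Kˣ).val = 1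
        rw [Units.val_pow_eq_pow_val, Units.coe_map]
        show ι _ ^ (q + 1) = 1
        rw [← map_pow, pow_succ, hkq, ← pow_succ, h1, map_one]⟩,
      ⟨Units.map (Matrix.scalar (Fin n)).toMonoidHom (b : kˣ)⁻¹, by
        rw [AutPSU.mem_GU_iff_gram hck]
        have h1 : ((b : kˣ) : k) ^ (q₀ + 1) = 1 := by
          rw [← Units.val_pow_eq_pow_val, show (b : kˣ) ^ (q₀ + 1) = 1 from b.2, Units.val_one]
        show (Matrix.scalar (Fin n) (((b : kˣ)⁻¹ : kˣ) : k))ᵀ * _ = 1
        rw [Units.coe_map]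
        show (Matrix.scalar (Fin n) (((b : kˣ)⁻¹ : kˣ) : k))ᵀ *
          (Matrix.scalar (Fin n) (((b : kˣ)⁻¹ : kˣ) : k)).map (fun x => x ^ q₀) = 1
        rw [Matrix.scalar_apply, Matrix.diagonal_transpose, Matrix.diagonal_map (f := fun x : k => x ^ q₀) (zero_pow (by omega)),
          Matrix.diagonal_mul_diagonal, ← Matrix.diagonal_one]
        refine congrArg Matrix.diagonal (funext fun _ => ?_)
        rw [← pow_succ', Units.val_inv_eq_inv_val, inv_pow, h1, inv_one]⟩))
      (fun x y => Prod.ext (Subtype.ext (map_mul _ _ _)) (Subtype.ext (by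
        show Units.map _ ((x : kˣ) * (y : kˣ))⁻¹ = Units.map _ (x : kˣ)⁻¹ * Units.map _ (y : kˣ)⁻¹
        rw [← map_mul, mul_inv])))
  have hker : Φ.ker = emb.range := by
    ext ⟨a, h⟩
    constructor
    · intro hz
      have h1 : sc (a : Kˣ) * mp (h : GL (Fin n) k) = 1 := congrArg Subtype.val hz
      have hent : ∀ x y, ((a : Kˣ) : K) * ι (((h : GL (Fin n) k) : Matrix (Fin n) (Fin n) k) x y) =
          (1 : Matrix (Fin n) (Fin n) K) x y := by
        intro x y
        have := congrArg (fun u : GL (Fin n) K => (u : Matrix (Fin n) (Fin n) K)) h1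
        rw [hsc] at this
        exact congrFun (congrFun this x) y
      set d : k := ((h : GL (Fin n) k) : Matrix (Fin n) (Fin n) k) 0 0 with hd
      have had : ((a : Kˣ) : K) * ι d = 1 := by simpa using hent 0 0
      have hd0 : d ≠ 0 := fun e => by rw [e, map_zero, mul_zero] at had; exact zero_ne_one had
      have ha : ((a : Kˣ) : K) = ι d⁻¹ := by
        rw [map_inv₀]; exact eq_inv_of_mul_eq_one_left had
      have hb : (Units.mk0 d hd0)⁻¹ ∈ μ₀ := by
        show ((Units.mk0 d hd0)⁻¹) ^ (q₀ + 1) = 1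
        refine Units.ext (ι.injective ?_)
        rw [Units.val_pow_eq_pow_val, Units.val_inv_eq_inv_val, Units.val_mk0, Units.val_one,
          map_one, pow_succ, ← hkq, ← pow_succ, map_pow, ← ha, ← Units.val_pow_eq_pow_val,
          show (a : Kˣ) ^ (q + 1) = 1 from a.2, Units.val_one]
      refine ⟨⟨_, hb⟩, Prod.ext (Subtype.ext (Units.ext ?_)) (Subtype.ext (Units.ext (Matrix.ext fun x y => ι.injective ?_)))⟩
      · show ι ((Units.mk0 d hd0)⁻¹ : kˣ) = _
        rw [Units.val_inv_eq_inv_val, Units.val_mk0, ha]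
      · show ι (Matrix.scalar (Fin n) ((((Units.mk0 d hd0)⁻¹)⁻¹ : kˣ) : k) x y) = _
        rw [inv_inv, Units.val_mk0]
        apply mul_left_cancel₀ (Units.ne_zero (a : Kˣ))
        rw [hent]
        rcases eq_or_ne x y with rfl | hxy
        · simp [had]
        · simp [hxy]
    · rintro ⟨b, hb⟩
      rw [← hb]
      refine Subtype.ext (Units.ext ?_)
      show ((sc (Units.map ι.toMonoidHom (b : kˣ)) * mp (Units.map (Matrix.scalar (Fin n)).toMonoidHom (b : kˣ)⁻¹) : GL (Fin n) K) : Matrix (Fin n) (Fin n) K) = 1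
      rw [hsc]
      ext x y
      show ι ((b : kˣ) : k) * ι (Matrix.scalar (Fin n) ((((b : kˣ))⁻¹ : kˣ) : k) x y) = _
      rcases eq_or_ne x y with rfl | hxy
      · simp
      · simp [hxy]
  have hinj : Function.Injective emb := by
    intro x y hxy
    have h1 := congrArg (fun z : ↥μ × ↥(GU n k q₀) => ((z.1 : Kˣ) : K)) hxy
    exact Subtype.ext (Units.ext (ι.injective h1))
  have hμ : Nat.card μ = q + 1 := by
    have h2 : Nat.card Kˣ = (q + 1) * (q - 1) := by
      rw [Nat.card_eq_fintype_card, Fintype.card_units, hK, ← Nat.sq_sub_sq, one_pow]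
    rw [IsCyclic.card_powMonoidHom_ker, h2, Nat.gcd_eq_right (Dvd.intro _ rfl)]
  have hμ0 : Nat.card μ₀ = q₀ + 1 := by
    have h2 : Nat.card kˣ = (q₀ + 1) * (q₀ - 1) := by
      rw [Nat.card_eq_fintype_card, Fintype.card_units, hck, ← Nat.sq_sub_sq, one_pow]
    rw [IsCyclic.card_powMonoidHom_ker, h2, Nat.gcd_eq_right (Dvd.intro _ rfl)]
  have hmain : Nat.card Φ.range * (q₀ + 1) = (q + 1) * Nat.card (GU n k q₀) := by
    have h1 := Φ.ker.index_mul_card
    rw [Subgroup.index_ker, hker, Nat.card_congr (MonoidHom.ofInjective hinj).toEquiv.symm,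
      Nat.card_prod, hμ, hμ0] at h1
    exact h1
  have hdvd : q₀ + 1 ∣ q + 1 := by
    have := Odd.nat_add_dvd_pow_add_pow q₀ 1 (n := r) ⟨t, ht⟩
    rwa [one_pow, ← hq] at this
  have hcard : Nat.card Φ.range = (q + 1) / (q₀ + 1) * Nat.card (GU n k q₀) := by
    obtain ⟨w, hw⟩ := hdvd
    rw [hw, Nat.mul_div_cancel_left _ (by omega)]
    rw [hw] at hmain
    exact Nat.eq_of_mul_eq_mul_right (by omega : 0 < q₀ + 1) (by rw [hmain]; ring)
  have hset : Nat.card {g : ↥(Cfsg.GU n K q) // ∃ c : K, c ≠ 0 ∧ ((g : GL (Fin n) K) : Matrix (Fin n) (Fin n) K).map σ = c • ((g : GL (Fin n) K) : Matrix (Fin n) (Fin n) K)} = Nat.card Φ.range :=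
    Nat.card_congr (Equiv.subtypeEquivRight fun g => (hrange g).symm)
  rw [hset, hcard, Unitary.card_GU hck]
  push_cast
  rw [← Fin.prod_univ_eq_prod_range]
  congr 2
  refine Finset.prod_congr rfl fun i _ => ?_
  rcases Nat.even_or_odd (i : ℕ) with he | ho
  · rw [if_pos he, (Even.add_one he).neg_one_pow]
    push_cast
    ring
  · rw [if_neg (Nat.not_even_iff_odd.2 ho), (Odd.add_one ho).neg_one_pow,
      Nat.cast_sub (Nat.one_le_pow _ _ (by omega))]
    push_cast
    ring

end Cfsg.Agent.S2677
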