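import Cfsg.Statements.S2679
import Cfsg.Agent.Lib.UnitaryOrthogonal.OuterClasses

set_option autoImplicit false
open Cfsg

namespace Cfsg.Agent.S2679

open Cfsg.Agent.UnitaryOrthogonal QuadraticMap in
/-- Base change of isometries of the minus form. -/
theorem mem_baseChange {F K : Type*} [Field F] [Field K] (f : F →+* K) (n : ℕ) (a c : F)
    (g : Cfsg.isometryGroup F (Cfsg.quadFormMinus n F a c)) :
    Matrix.GeneralLinearGroup.map f g.1 ∈
      Cfsg.isometryGroup K (Cfsg.quadFormMinus n K (f a) (f c)) := by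
  let gK : GL ((Fin n ⊕ Fin n) ⊕ Fin 2) K := Matrix.GeneralLinearGroup.map f g.1
  let P1 : QuadraticForm K _ := (qMinus n K (f a) (f c)).comp (Matrix.toLin' gK.val)
  let bs := (Pi.basisFun K ((Fin n ⊕ Fin n) ⊕ Fin 2)).reindex
    (Fintype.equivFin ((Fin n ⊕ Fin n) ⊕ Fin 2))
  let bF := (Pi.basisFun F ((Fin n ⊕ Fin n) ⊕ Fin 2)).reindex
    (Fintype.equivFin ((Fin n ⊕ Fin n) ⊕ Fin 2))
  let ext : (((Fin n ⊕ Fin n) ⊕ Fin 2) → F) →+ (((Fin n ⊕ Fin n) ⊕ Fin 2) → K) :=
    { toFun := fun v i => f (v i)
      map_zero' := funext fun i => map_zero _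
      map_add' := fun v w => funext fun i => map_add _ _ _ }
  have hext : ∀ v, P1 (ext v) = qMinus n K (f a) (f c) (ext v) := by
    intro v
    show qMinus n K (f a) (f c) (gK.val.mulVec (ext v)) = _
    have hq : ∀ w, qMinus n K (f a) (f c) (ext w) = f (Cfsg.quadFormMinus n F a c w) := fun w => by
      rw [qMinus_apply]; simp [Cfsg.quadFormMinus, ext, map_sum]
    have hmv : gK.val.mulVec (ext v) = ext (g.1.val.mulVec v) :=
      funext fun i => (RingHom.map_mulVec f g.1.val v i).symm
    rw [hmv, hq, hq]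
    exact congrArg f (g.2 v 0)
  have hb : ∀ i, bs i = ext (bF i) := fun i => by
    simp only [bs, bF, Module.Basis.reindex_apply, Pi.basisFun_apply]
    funext j
    show _ = f _
    rw [Pi.single_apply, Pi.single_apply]
    split <;> simp
  have hbil : P1.toBilin bs = (qMinus n K (f a) (f c)).toBilin bs := by
    refine bs.ext fun i => bs.ext fun j => ?_
    rw [toBilin_apply, toBilin_apply, hb, hb]
    split_ifs
    · exact hext _
    · simp only [polar, ← map_add, hext]
    · rfl
  have hP : P1 = qMinus n K (f a) (f c) := by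
    rw [← toQuadraticMap_toBilin P1 bs, hbil, toQuadraticMap_toBilin]
  intro u _
  have := DFunLike.congr_fun hP u
  show Cfsg.quadFormMinus n K (f a) (f c) (gK.val.mulVec u) = _
  simpa [P1, qMinus_apply] using this

open Cfsg.Agent.UnitaryOrthogonal in
/-- An elliptic orthogonal group embeds in the hyperbolic orthogonal group of the same dimension over the quadratic extension: for a field F with q elements and a field K with q² elements there is an injective homomorphism from O⁻_2m(F) (isometries of Σ_(j<m−1) x_j y_j + z₁² + a z₁z₂ + c z₂², binary part anisotropic) to O⁺_2m(K) (isometries of Σ_(j<m) x_j y_j over K). -/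
theorem result {F K : Type*} [Field F] [Fintype F] [Field K] [Fintype K] {q : ℕ} (hF : Fintype.card F = q) (hK : Fintype.card K = q ^ 2) {m : ℕ} (hm : 1 ≤ m) (a c : F) (hac : ∀ z₁ z₂ : F, z₁ ^ 2 + a * z₁ * z₂ + c * z₂ ^ 2 = 0 → z₁ = 0 ∧ z₂ = 0) : ∃ φ : ↥(Cfsg.isometryGroup F (Cfsg.quadFormMinus (m - 1) F a c)) →* ↥(Cfsg.isometryGroup K (Cfsg.quadFormPlus m K)), Function.Injective φ := by
  classical
  obtain ⟨n, rfl⟩ : ∃ n, m = n + 1 := ⟨m - 1, by omega⟩
  have hab : BinAniso a c := hac
  haveI := hab.fact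
  haveI : Fintype (QuadraticAlgebra F (-c) a) := Fintype.ofFinite _
  have hcard : Fintype.card (QuadraticAlgebra F (-c) a) = Fintype.card K := by
    rw [← Nat.card_eq_fintype_card, quadExt_card, Nat.card_eq_fintype_card, hF, hK]
  let r := FiniteField.ringEquivOfCardEq hcard
  let f : F →+* K := r.toRingHom.comp (algebraMap F (QuadraticAlgebra F (-c) a))
  let t : K := r (-QuadraticAlgebra.omega)
  have hω : (QuadraticAlgebra.omega : QuadraticAlgebra F (-c) a) * QuadraticAlgebra.omega =
      algebraMap F _ (-c) + algebraMap F _ a * QuadraticAlgebra.omega :=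
    QuadraticAlgebra.omega_mul_omega_eq_algebraMap
  have ht : t * t + f a * t + f c = 0 := by
    show r _ * r _ + r (algebraMap F _ a) * r _ + r (algebraMap F _ c) = 0
    rw [← map_mul, ← map_mul, ← map_add, ← map_add, ← map_zero r]
    congr 1
    rw [map_neg] at hω
    linear_combination hω
  have hd : f a + 2 * t ≠ 0 := by
    intro h
    have h' : algebraMap F (QuadraticAlgebra F (-c) a) a + 2 * -QuadraticAlgebra.omega = 0 :=
      r.injective (by rw [map_add, map_mul, map_ofNat, map_zero]; exact h)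
    have him := congrArg QuadraticAlgebra.im h'
    have hre := congrArg QuadraticAlgebra.re h'
    simp [two_mul] at him hre
    by_cases h2 : (2 : F) = 0
    · exact hab.a_ne_zero h2 hre
    · exact h2 (by linear_combination -him)
  obtain ⟨e⟩ := nonempty_qMinus_equiv n ht hd
  let ψ : ↥(Cfsg.isometryGroup F (Cfsg.quadFormMinus n F a c)) →*
      ↥(Cfsg.isometryGroup K (Cfsg.quadFormMinus n K (f a) (f c))) :=
    ((Matrix.GeneralLinearGroup.map f).comp (Subgroup.subtype _)).codRestrict _
      (mem_baseChange f n a c)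
  have hψ : Function.Injective ψ := fun g g' h => by
    refine Subtype.ext (Units.ext (Matrix.ext fun x y => f.injective ?_))
    exact congrArg (fun z : ↥(Cfsg.isometryGroup K (Cfsg.quadFormMinus n K (f a) (f c))) =>
      (z.1.val : Matrix ((Fin n ⊕ Fin n) ⊕ Fin 2) ((Fin n ⊕ Fin n) ⊕ Fin 2) K) x y) h
  let φ := ((isometryGroupEquiv (qMinus n K (f a) (f c)) (qMinus_apply n (f a) (f c))).trans
    ((orthCongr e).trans (isometryGroupEquiv (qPlus (n + 1) K) (qPlus_apply (n + 1))).symm))
  exact ⟨φ.toMonoidHom.comp ψ, φ.injective.comp hψ⟩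

end Cfsg.Agent.S2679
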