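import Cfsg.Statements.S2681
import Cfsg.Agent.Classical10.SpInvolTwo.Classes
-- import your own Cfsg.Agent.* helpers here

set_option autoImplicit false
open Cfsg

namespace Cfsg.Agent.S2681

/-- Centraliser order of an involution t of Sp_2m(q), q even, with s = rank(t − 1) even and f(v, tv) = 0 for every v, f the symplectic form (type a_s): |C(t)| = q^(2ms − (3s² − s)/2) · |Sp_s(q)| · |Sp_(2m−2s)(q)|. -/
theorem result {F : Type*} [Field F] [Fintype F] [CharP F 2] {q : ℕ} (hF : Fintype.card F = q) {m s : ℕ} (t : Matrix.symplecticGroup (Fin m) F) (ht : t ^ 2 = 1) (ht1 : t ≠ 1) (hs : ((t : Matrix (Fin m ⊕ Fin m) (Fin m ⊕ Fin m) F) - 1).rank = s) (heven : Even s) (halt : ∀ v : Fin m ⊕ Fin m → F, Cfsg.sympForm m F v ((t : Matrix (Fin m ⊕ Fin m) (Fin m ⊕ Fin m) F).mulVec v) = 0) : Nat.card ↥(Subgroup.centralizer ({t} : Set ↥(Matrix.symplecticGroup (Fin m) F))) = q ^ (2 * m * s - (3 * s ^ 2 - s) / 2) * ((q : ℕ) ^ ((s / 2) ^ 2) *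 ∏ i : Fin (s / 2), (q ^ (2 * ((i : ℕ) + 1)) - 1)) * ((q : ℕ) ^ ((m - s) ^ 2) * ∏ i : Fin (m - s), (q ^ (2 * ((i : ℕ) + 1)) - 1)) := by
  classical
  have htt : t * t = 1 := by rw [← sq, ht]
  have hrk : Classical10.SpInvolTwo.rk t = s := hs
  have hprod : ∀ k : ℕ, Nat.card (Symplectic.Sp k F) =
      q ^ (k ^ 2) * ∏ i : Fin k, (q ^ (2 * ((i : ℕ) + 1)) - 1) := fun k => by
    rw [Symplectic.card_Sp hF, Fin.prod_univ_eq_prod_range (fun i => q ^ (2 * (i + 1)) - 1)]
  rcases Classical10.SpInvolTwo.classify t htt with ⟨-, k, r, h1, h2, ⟨E⟩⟩ | ⟨hn, -⟩ | ⟨hn, -⟩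
  rotate_left
  · exact absurd (fun v => (Invol2.formB_self t v).trans (halt v)) hn
  · exact absurd (fun v => (Invol2.formB_self t v).trans (halt v)) hn
  have hsk : s = 2 * k := hrk.symm.trans h1
  rw [Classical10.SpInvolTwo.card_centralizer _ t (fun x y => by
      rw [Forms.sympBilin_apply, Forms.sympBilin_apply, Symplectic.sympForm_swap, CharTwo.neg_eq])
    (fun x hx => Forms.sympForm_left_cancel fun v =>
      (Forms.sympBilin_apply _ _).symm.trans (hx v)) E, Classical10.SpInvolTwo.card_isom_symp,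
    Module.finrank_pi, Fintype.card_sum, Fintype.card_fin,
    hprod, hprod, hF, show s / 2 = k by omega, show m - s = r by omega,
    show k + k = 2 * k by omega]
  obtain ⟨T, hT, hT2⟩ : ∃ T, (2 * k + 1).choose 2 = T ∧ T = k * (2 * k + 1) := by
    refine ⟨_, rfl, ?_⟩
    rw [Nat.choose_two_right, Nat.add_sub_cancel,
      show (2 * k + 1) * (2 * k) = 2 * (k * (2 * k + 1)) by ring, Nat.mul_div_cancel_left _ two_pos]
  rw [show 2 * m * s - (3 * s ^ 2 - s) / 2 = 2 * k * (2 * r) + T by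
    subst hsk; rw [← h2, hT2]
    obtain ⟨u, hu⟩ : ∃ u, u = k ^ 2 := ⟨_, rfl⟩
    have hku : k ≤ u := hu ▸ Nat.le_self_pow (by norm_num) k
    rw [show 3 * (2 * k) ^ 2 - 2 * k = 2 * (6 * u - k) by
      rw [show (2 * k) ^ 2 = 4 * u by rw [hu]; ring]; omega, Nat.mul_div_cancel_left _ two_pos]
    refine Nat.sub_eq_of_eq_add ?_
    zify [show k ≤ 6 * u by omega]
    rw [hu]; push_cast; ring,
    hT, pow_add]
  ring

end Cfsg.Agent.S2681
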