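import Cfsg.Statements.S2683
import Cfsg.Agent.S2680
import Cfsg.Agent.Classical10.OPlusInvolTwoOmega
-- import your own Cfsg.Agent.* helpers here

set_option autoImplicit false
open Cfsg

namespace Cfsg.Agent.S2683

/-- For the hyperbolic form Σ x_j y_j on F^(2m) over a finite field with q elements, q even (excluding m = 2 over the field of two elements), and an involution x of the orthogonal group with s = rank(x − 1) odd (type b_s; such x lie outside Ω): the elements of Ω (the commutator subgroup of the orthogonal group) commuting with x number q^(2m(s−1) − (3s² − 3s)/2) · |Sp_(s−1)(q)| · |Sp_(2m−2s)(q)|, where |Sp_2k(q)| = q^(k²) Π_(i=1)^k (q^(2i) − 1). -/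
theorem result {F : Type*} [Field F] [Fintype F] [CharP F 2] {q : ℕ} (hF : Fintype.card F = q) {m s : ℕ} (h : Fintype.card F ≠ 2 ∨ m ≠ 2) (x : ↥(Cfsg.isometryGroup F (Cfsg.quadFormPlus m F))) (hx : x ^ 2 = 1) (hs : (((x : Matrix.GeneralLinearGroup (Fin m ⊕ Fin m) F) : Matrix (Fin m ⊕ Fin m) (Fin m ⊕ Fin m) F) - 1).rank = s) (hodd : Odd s) : Nat.card {g : ↥(Cfsg.Omega F (Cfsg.quadFormPlus m F)) // (g : ↥(Cfsg.isometryGroup F (Cfsg.quadFormPlus m F))) * x = x * (g : ↥(Cfsg.isometryGroup F (Cfsg.quadFormPlus m F)))} = q ^ (2 * m * (s - 1) - (3 * s ^ 2 - 3 * s) / 2) * ((q : ℕ) ^ (((s - 1) / 2) ^ 2) * ∏ i : Fin ((s - 1) / 2), (q ^ (2 * ((i : ℕ) + 1)) - 1)) * ((q : ℕ) ^ ((m - s) ^ 2) * ∏ i : Fin (m - s), (q ^ (2 * ((i : ℕ) + 1)) - 1)) := by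
  classical
  revert x
  rw [← Reflections.coe_qPlus m F]
  intro x hx hs
  have hexc := Classical10.OPlusInvolTwo.exc_of (F := F) (m := m) h
  have hxx : x * x = 1 := by rw [← sq, hx]
  have ht : Classical10.OPlusInvolTwo.toSp x ^ 2 = 1 := by rw [← map_pow, hx, map_one]
  have hrk : Classical10.SpInvolTwo.rk (Classical10.OPlusInvolTwo.toSp x) = s := hs
  have hle : s ≤ m := hrk ▸ Classical10.OPlusInvolTwo.rk_le _ (by rw [← map_mul, hxx, map_one])
  show Classical10.OPlusInvolTwo.cardOmegaZ x = _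
  have hnon : ¬ Classical10.SpInvolTwo.IsAltType (Classical10.OPlusInvolTwo.toSp x) := fun ha =>
    Nat.not_even_iff_odd.2 hodd (hrk ▸ Classical10.SpInvolTwo.even_rk_of_isAlt _
      (by rw [← map_mul, hxx, map_one]) ha)
  have hC := Classical10.OPlusInvolTwo.card_omega_nonAlt hexc x hxx hnon
  rw [S2680.result hF (Classical10.OPlusInvolTwo.toSp x) ht hs hodd, hrk, hF] at hC
  refine Nat.eq_of_mul_eq_mul_right (Nat.pow_pos (n := 2 * m - s) (hF ▸ Fintype.card_pos)) (hC.trans ?_)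
  rw [show 2 * m * s - (3 * s ^ 2 - s) / 2 =
      2 * m * (s - 1) - (3 * s ^ 2 - 3 * s) / 2 + (2 * m - s) by
    obtain ⟨k, rfl⟩ := hodd
    obtain ⟨r, rfl⟩ := Nat.exists_eq_add_of_le hle
    have e1 : (3 * (2 * k + 1) ^ 2 - (2 * k + 1)) / 2 = (2 * k + 1) * (3 * k + 1) := by
      rw [show 3 * (2 * k + 1) ^ 2 - (2 * k + 1) = 2 * ((2 * k + 1) * (3 * k + 1)) from
        Nat.sub_eq_of_eq_add (by ring), Nat.mul_div_cancel_left _ two_pos]
    have e2 : (3 * (2 * k + 1) ^ 2 - 3 * (2 * k + 1)) / 2 = 3 * k * (2 * k + 1) := by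
      rw [show 3 * (2 * k + 1) ^ 2 - 3 * (2 * k + 1) = 2 * (3 * k * (2 * k + 1)) from
        Nat.sub_eq_of_eq_add (by ring), Nat.mul_div_cancel_left _ two_pos]
    rw [e1, e2, show 2 * k + 1 - 1 = 2 * k by omega,
      show 2 * (2 * k + 1 + r) - (2 * k + 1) = 2 * k + 1 + 2 * r by omega,
      show 2 * (2 * k + 1 + r) * (2 * k) - 3 * k * (2 * k + 1) = 2 * k * k + k + 4 * k * r from
        Nat.sub_eq_of_eq_add (by ring)]
    exact Nat.sub_eq_of_eq_add (by ring), pow_add]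
  ring

end Cfsg.Agent.S2683
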