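import Cfsg.Statements.S2684
import Cfsg.Agent.S2681
import Cfsg.Agent.Classical10.OPlusInvolTwoOmega
-- import your own Cfsg.Agent.* helpers here

set_option autoImplicit false
open Cfsg

namespace Cfsg.Agent.S2684

/-- For the hyperbolic form Q = Σ x_j y_j on F^(2m) over a finite field with q elements, q even (excluding m = 2 over the field of two elements), and an involution x ≠ 1 of the orthogonal group with s = rank(x − 1) even and Q vanishing on the image of x − 1 (equivalently f(v, xv) = 0 for all v, where f(u, w) = Q(u + w) − Q(u) − Q(w) is the bilinear form of Q; type a_s, which lies in Ω): its centraliser in Ω (the commutator subgroup of the orthogonal group) has order q^(2ms − (3s² + s)/2) · |Sp_s(q)| · |Ω⁺_(2m−2s)(q)|, where |Ω⁺_2k(q)| = q^(k(k−1)) (q^k − 1) Π_(i=1)^(k−1) (q^(2i) − 1) for k ≥ 1 and the last factor is 1 when s = m. -/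
theorem result {F : Type*} [Field F] [Fintype F] [CharP F 2] {q : ℕ} (hF : Fintype.card F = q) {m s : ℕ} (h : Fintype.card F ≠ 2 ∨ m ≠ 2) (x : ↥(Cfsg.isometryGroup F (Cfsg.quadFormPlus m F))) (hx : x ^ 2 = 1) (hx1 : x ≠ 1) (hs : (((x : Matrix.GeneralLinearGroup (Fin m ⊕ Fin m) F) : Matrix (Fin m ⊕ Fin m) (Fin m ⊕ Fin m) F) - 1).rank = s) (heven : Even s) (halt : ∀ v : Fin m ⊕ Fin m → F, Cfsg.quadFormPlus m F ((((x : Matrix.GeneralLinearGroup (Fin m ⊕ Fin m) F) : Matrix (Fin m ⊕ Fin m) (Fin m ⊕ Fin m) F) - 1).mulVec v) = 0) : Nat.card {g : ↥(Cfsg.Omega F (Cfsg.quadFormPlus m F)) // (g : ↥(Cfsg.isometryGroup F (Cfsg.quadFormPlus m F))) * x = x * (g : ↥(Cfsg.isometryGroup F (Cfsg.quadFormPlus m F)))} = q ^ (2 * m * s - (3 * s ^ 2 + s) / 2) * ((q : ℕ) ^ ((s / 2) ^ 2) * ∏ i : Fin (s / 2), (q ^ (2 * ((i : ℕ) + 1)) - 1)) * (if s = m then 1 else q ^ ((m - s) * (m - s - 1)) * (q ^ (m - s) - 1) * ∏ i : Fin (m - s - 1), (q ^ (2 * ((i : ℕ) + 1)) - 1)) := by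
  classical
  revert x
  rw [← Reflections.coe_qPlus m F]
  intro x hx hx1 hs halt
  have hexc := Classical10.OPlusInvolTwo.exc_of (F := F) (m := m) h
  have hxx : x * x = 1 := by rw [← sq, hx]
  have ht : Classical10.OPlusInvolTwo.toSp x ^ 2 = 1 := by rw [← map_pow, hx, map_one]
  have hrk : Classical10.SpInvolTwo.rk (Classical10.OPlusInvolTwo.toSp x) = s := hs
  have hle : s ≤ m := hrk ▸ Classical10.OPlusInvolTwo.rk_le _ (by rw [← map_mul, hxx, map_one])
  show Classical10.OPlusInvolTwo.cardOmegaZ x = _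
  have hA : Classical10.SpInvolTwo.IsAltType (Classical10.OPlusInvolTwo.toSp x) := fun v =>
    (Classical10.OPlusInvolTwo.qPlus_nil x v).symm.trans (halt v)
  have hC := Classical10.OPlusInvolTwo.card_omega_alt hexc x hxx hx1 hA
  rw [S2681.result hF (Classical10.OPlusInvolTwo.toSp x) ht
    (fun e => hx1 (Classical10.OPlusInvolTwo.toSp_injective (e.trans (map_one _).symm))) hs heven
    (fun v => (Invol2.formB_self _ v).symm.trans (hA v)), hrk, hF] at hC
  obtain ⟨k, rfl⟩ := heven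
  obtain ⟨r, rfl⟩ := Nat.exists_eq_add_of_le hle
  have e1 : (3 * (k + k) ^ 2 - (k + k)) / 2 = k * (6 * k - 1) := by
    rcases k with _ | k
    · rfl
    rw [show 6 * (k + 1) - 1 = 6 * k + 5 by omega,
      show 3 * (k + 1 + (k + 1)) ^ 2 - (k + 1 + (k + 1)) = 2 * ((k + 1) * (6 * k + 5)) from
        Nat.sub_eq_of_eq_add (by ring), Nat.mul_div_cancel_left _ two_pos]
  have e2 : (3 * (k + k) ^ 2 + (k + k)) / 2 = k * (6 * k + 1) := by
    rw [show 3 * (k + k) ^ 2 + (k + k) = 2 * (k * (6 * k + 1)) by ring,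
      Nat.mul_div_cancel_left _ two_pos]
  have e3 : 2 * (k + k + r) * (k + k) - k * (6 * k + 1) = 2 * k * k - k + 4 * k * r := by
    rcases k with _ | k
    · simp
    rw [show 2 * (k + 1) * (k + 1) - (k + 1) = 2 * k * k + 3 * k + 1 from
      Nat.sub_eq_of_eq_add (by ring)]
    exact Nat.sub_eq_of_eq_add (by ring)
  have e4 : 2 * (k + k + r) * (k + k) - k * (6 * k - 1) = 2 * k * k - k + 4 * k * r + 2 * k := by
    rcases k with _ | k
    · simp
    rw [show 6 * (k + 1) - 1 = 6 * k + 5 by omega,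
      show 2 * (k + 1) * (k + 1) - (k + 1) = 2 * k * k + 3 * k + 1 from
        Nat.sub_eq_of_eq_add (by ring)]
    exact Nat.sub_eq_of_eq_add (by ring)
  rw [e2, e3, show k + k + r - (k + k) = r by omega]
  rw [e1, e4, show k + k + r - (k + k) = r by omega] at hC
  have hq : 0 < q := hF ▸ Fintype.card_pos
  rcases r with _ | j
  · rw [if_pos (by omega)] at hC ⊢
    refine Nat.eq_of_mul_eq_mul_right (Nat.pow_pos (n := k + k + 0) hq) (hC.trans ?_)
    simp only [pow_add, two_mul, pow_zero, Finset.univ_eq_empty, Finset.prod_empty, add_zero]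
    ring
  · rw [if_neg (by omega)] at hC ⊢
    refine Nat.eq_of_mul_eq_mul_right (Nat.add_pos_right _ (Nat.pow_pos (n := k + k + (j + 1)) hq))
      (hC.trans ?_)
    rw [Fin.prod_univ_eq_prod_range (fun i => q ^ (2 * (i + 1)) - 1) (j + 1 - 1), Nat.add_sub_cancel,
      Fin.prod_univ_eq_prod_range (fun i => q ^ (2 * (i + 1)) - 1) (j + 1), Finset.prod_range_succ]
    rw [show 2 * (k + k + (j + 1)) - (k + k) = k + k + (j + 1) + (j + 1) by omega,
      show 2 * (j + 1) = (j + 1) + (j + 1) by omega]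
    rw [show (j + 1) ^ 2 = (j + 1) * j + (j + 1) by ring, pow_add q (k + k + (j + 1)),
      pow_add q (2 * k * k - k + 4 * k * (j + 1)), pow_add q ((j + 1) * j)]
    have hX : q ^ (j + 1 + (j + 1)) - 1 = (q ^ (j + 1) - 1) * (q ^ (j + 1) + 1) := by
      rw [pow_add, mul_comm (q ^ (j + 1) - 1), ← Nat.sq_sub_sq, one_pow, sq]
    rw [hX, pow_add q (k + k), two_mul k, pow_add q k k]
    ring

end Cfsg.Agent.S2684
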