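import Cfsg.Statements.S2685
import Cfsg.Agent.S2682
import Cfsg.Agent.Classical10.OPlusInvolTwoOmega
-- import your own Cfsg.Agent.* helpers here

set_option autoImplicit false
open Cfsg

namespace Cfsg.Agent.S2685

/-- For the hyperbolic form Q = Σ x_j y_j on F^(2m) over a finite field with q elements, q even (excluding m = 2 over the field of two elements), and an involution x of the orthogonal group with s = rank(x − 1) even and Q not vanishing on the image of x − 1 (f(v, xv) ≠ 0 for some v, where f(u, w) = Q(u + w) − Q(u) − Q(w) is the bilinear form of Q; type c_s, which lies in Ω): its centraliser in Ω (the commutator subgroup of the orthogonal group) has order q^(2m(s−1) − (3s² − 5s)/2 − 1) · |Sp_(s−2)(q)| · |Sp_(2m−2s)(q)|. -/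
theorem result {F : Type*} [Field F] [Fintype F] [CharP F 2] {q : ℕ} (hF : Fintype.card F = q) {m s : ℕ} (h : Fintype.card F ≠ 2 ∨ m ≠ 2) (x : ↥(Cfsg.isometryGroup F (Cfsg.quadFormPlus m F))) (hx : x ^ 2 = 1) (hs : (((x : Matrix.GeneralLinearGroup (Fin m ⊕ Fin m) F) : Matrix (Fin m ⊕ Fin m) (Fin m ⊕ Fin m) F) - 1).rank = s) (heven : Even s) (hna : ∃ v : Fin m ⊕ Fin m → F, Cfsg.quadFormPlus m F ((((x : Matrix.GeneralLinearGroup (Fin m ⊕ Fin m) F) : Matrix (Fin m ⊕ Fin m) (Fin m ⊕ Fin m) F) - 1).mulVec v) ≠ 0) : Nat.card {g : ↥(Cfsg.Omega F (Cfsg.quadFormPlus m F)) // (g : ↥(Cfsg.isometryGroup F (Cfsg.quadFormPlus m F))) * x = x * (g : ↥(Cfsg.isometryGroup F (Cfsg.quadFormPlus m F)))} = q ^ (2 * m * (s - 1) - (3 * s ^ 2 - 5 * s) / 2 - 1) * ((q : ℕ) ^ (((s - 2) / 2) ^ 2) * ∏ i : Fin ((s - 2) / 2), (q ^ (2 * ((i : ℕ) + 1)) - 1)) * ((q : ℕ) ^ ((m - s) ^ 2) * ∏ i : Fin (m - s), (q ^ (2 * ((i : ℕ) + 1)) - 1)) := by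
  classical
  revert x
  rw [← Reflections.coe_qPlus m F]
  intro x hx hs hna
  have hexc := Classical10.OPlusInvolTwo.exc_of (F := F) (m := m) h
  have hxx : x * x = 1 := by rw [← sq, hx]
  have ht : Classical10.OPlusInvolTwo.toSp x ^ 2 = 1 := by rw [← map_pow, hx, map_one]
  have hrk : Classical10.SpInvolTwo.rk (Classical10.OPlusInvolTwo.toSp x) = s := hs
  have hle : s ≤ m := hrk ▸ Classical10.OPlusInvolTwo.rk_le _ (by rw [← map_mul, hxx, map_one])
  show Classical10.OPlusInvolTwo.cardOmegaZ x = _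
  have hnon : ¬ Classical10.SpInvolTwo.IsAltType (Classical10.OPlusInvolTwo.toSp x) := by
    obtain ⟨v, hv⟩ := hna
    exact fun ha => hv ((Classical10.OPlusInvolTwo.qPlus_nil x v).trans (ha v))
  have hC := Classical10.OPlusInvolTwo.card_omega_nonAlt hexc x hxx hnon
  rw [S2682.result hF (Classical10.OPlusInvolTwo.toSp x) ht hs heven ?_, hrk, hF] at hC
  swap
  · simp only [Classical10.SpInvolTwo.IsAltType, not_forall] at hnon
    obtain ⟨v, hv⟩ := hnon
    exact ⟨v, fun e => hv ((Invol2.formB_self _ v).trans e)⟩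
  have hs0 : s ≠ 0 := by
    rintro rfl
    apply hnon
    intro v
    rw [Invol2.formB_apply, show Invol2.nil (Classical10.OPlusInvolTwo.toSp x) v = 0 from
      LinearMap.congr_fun (LinearMap.range_eq_bot.1 (Submodule.finrank_eq_zero.1 hrk)) v,
      Symplectic.sympForm_zero_right]
  refine Nat.eq_of_mul_eq_mul_right (Nat.pow_pos (n := 2 * m - s) (hF ▸ Fintype.card_pos)) (hC.trans ?_)
  rw [show 2 * m * s - (3 * s ^ 2 - 3 * s) / 2 - 1 =
      2 * m * (s - 1) - (3 * s ^ 2 - 5 * s) / 2 - 1 + (2 * m - s) by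
    obtain ⟨k, hk⟩ := heven
    obtain ⟨j, rfl⟩ : ∃ j, k = j + 1 := ⟨k - 1, by omega⟩
    obtain ⟨r, rfl⟩ := Nat.exists_eq_add_of_le hle
    subst hk
    have e1 : (3 * (j + 1 + (j + 1)) ^ 2 - 3 * (j + 1 + (j + 1))) / 2 = 3 * (j + 1) * (2 * j + 1) := by
      rw [show 3 * (j + 1 + (j + 1)) ^ 2 - 3 * (j + 1 + (j + 1)) = 2 * (3 * (j + 1) * (2 * j + 1)) from
        Nat.sub_eq_of_eq_add (by ring), Nat.mul_div_cancel_left _ two_pos]
    have e2 : (3 * (j + 1 + (j + 1)) ^ 2 - 5 * (j + 1 + (j + 1))) / 2 = (j + 1) * (6 * j + 1) := by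
      rw [show 3 * (j + 1 + (j + 1)) ^ 2 - 5 * (j + 1 + (j + 1)) = 2 * ((j + 1) * (6 * j + 1)) from
        Nat.sub_eq_of_eq_add (by ring), Nat.mul_div_cancel_left _ two_pos]
    rw [e1, e2, show j + 1 + (j + 1) - 1 = 2 * j + 1 by omega,
      show 2 * (j + 1 + (j + 1) + r) - (j + 1 + (j + 1)) = 2 * j + 2 + 2 * r by omega,
      show 2 * (j + 1 + (j + 1) + r) * (2 * j + 1) - (j + 1) * (6 * j + 1) - 1 =
        2 * j * j + 5 * j + 2 + 4 * j * r + 2 * r from
        Nat.sub_eq_of_eq_add (Nat.sub_eq_of_eq_add (by ring))]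
    exact Nat.sub_eq_of_eq_add (Nat.sub_eq_of_eq_add (by ring)), pow_add]
  ring

end Cfsg.Agent.S2685
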