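import Cfsg.Statements.S2718
import Cfsg.Agent.Lib.UnitaryOrthogonal.GraphInvolution

set_option autoImplicit false
open Cfsg
open Cfsg.Agent Cfsg.Agent.UnitaryOrthogonal

namespace Cfsg.Agent.S2718

/-- Let T = PΩ⁺_{2m}(F) with m ≥ 4 and |F| = q odd, G = Inndiag(T), and γ an involutory graph automorphism of T induced by a similarity (one interchanging the two classes of maximal totally singular subspaces). Then the G-class of γ is either a single T-class or the union of exactly two T-classes, and it is the union of two unless m is odd and q ≡ 3 (mod 4). -/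
theorem result {F : Type*} [Field F] [Fintype F] (hodd : Odd (Fintype.card F)) {m : ℕ} (hm : 4 ≤ m) (γ : MulAut (Cfsg.POmega F (Cfsg.quadFormPlus m F))) (hγ : Cfsg.IsSimilarityGraphAutPOmegaPlus m γ) (hγ2 : orderOf γ = 2) :
    (Cfsg.splitClassCount (Cfsg.inndiagPOmegaPlus m F) (Cfsg.Inn (Cfsg.POmega F (Cfsg.quadFormPlus m F))) γ = 1 ∨ Cfsg.splitClassCount (Cfsg.inndiagPOmegaPlus m F) (Cfsg.Inn (Cfsg.POmega F (Cfsg.quadFormPlus m F))) γ = 2) ∧ (¬ (Odd m ∧ Fintype.card F % 4 = 3) → Cfsg.splitClassCount (Cfsg.inndiagPOmegaPlus m F) (Cfsg.Inn (Cfsg.POmega F (Cfsg.quadFormPlus m F))) γ = 2) := by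
  obtain ⟨g, hg, hgP, hgγ⟩ := hγ
  obtain ⟨k, rfl⟩ : ∃ k, m = k + 3 := ⟨m - 3, by omega⟩
  have h2 : (2 : F) ≠ 0 := two_ne_zero_of_card_odd hodd
  have hf : ⇑(FieldAutGen.Plus.qf (k + 3) F) = Cfsg.quadFormPlus (k + 3) F := rfl
  have hcard : Fintype.card (Fin (k + 3) ⊕ Fin (k + 3)) = 2 * (k + 3) := by simp; omega
  have hind := FieldAutGen.Orth.induced_iff.1 hgγ
  have hP := fun (g : GL (Fin (k + 3) ⊕ Fin (k + 3)) F) (c : F) (hc : c ≠ 0)
    (h : ∀ v, Cfsg.quadFormPlus (k + 3) F ((g : Matrix _ _ F).mulVec v) =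
      c * Cfsg.quadFormPlus (k + 3) F v) => preservesSingularClassesPlus_iff (k := k) h2 hc h
  have hγI : γ ∉ Cfsg.inndiagPOmegaPlus (k + 3) F :=
    GraphSplit.not_mem_of_improper hf h2 FieldAutGen.Plus.qf_nondeg (by omega) hcard
      (FieldAutGen.Plus.frame (k + 3) F) hP rfl hg hind hgP
  obtain ⟨h1, h3⟩ := GraphSplit.graph_split hf h2 FieldAutGen.Plus.qf_nondeg (by omega) (by omega)
    hcard (FieldAutGen.Plus.frame (k + 3) F) hP rfl (outer_plus hodd hm) γ hγ2 hg hind hγI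
  exact ⟨h1, fun h => h3 (Or.inl h)⟩

end Cfsg.Agent.S2718
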