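import Cfsg.Statements.S2719
import Cfsg.Agent.Lib.UnitaryOrthogonal.GraphInvolution

set_option autoImplicit false
open Cfsg
open Cfsg.Agent Cfsg.Agent.UnitaryOrthogonal

namespace Cfsg.Agent.S2719

/-- Let T = PΩ⁻_{2m+2}(F) with m ≥ 3 and |F| = q odd (form with anisotropic binary part z₁² + a z₁ z₂ + b z₂²), G = Inndiag(T), and γ an involutory graph automorphism of T (an automorphism in the image of the semisimilarity group, not inner-diagonal, of order 2). Then the G-class of γ is either a single T-class or the union of exactly two T-classes, and it is the union of two unless m is even and q ≡ 1 (mod 4). -/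
theorem result {F : Type*} [Field F] [Fintype F] (hodd : Odd (Fintype.card F)) {m : ℕ} (hm : 3 ≤ m) (a b : F) (hab : (∀ z₁ z₂ : F, z₁ ^ 2 + a * z₁ * z₂ + b * z₂ ^ 2 = 0 → z₁ = 0 ∧ z₂ = 0)) (γ : MulAut (Cfsg.POmega F (Cfsg.quadFormMinus m F a b))) (hγ : Cfsg.IsGraphAutClassPOmegaMinus m a b γ) (hγ2 : orderOf γ = 2) :
    (Cfsg.splitClassCount (Cfsg.inndiagPOmegaMinus m F a b) (Cfsg.Inn (Cfsg.POmega F (Cfsg.quadFormMinus m F a b))) γ = 1 ∨ Cfsg.splitClassCount (Cfsg.inndiagPOmegaMinus m F a b) (Cfsg.Inn (Cfsg.POmega F (Cfsg.quadFormMinus m F a b))) γ = 2) ∧ (¬ (Even m ∧ Fintype.card F % 4 = 1) → Cfsg.splitClassCount (Cfsg.inndiagPOmegaMinus m F a b) (Cfsg.Inn (Cfsg.POmega F (Cfsg.quadFormMinus m F a b))) γ = 2) := by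
  obtain ⟨-, hγI, -⟩ := hγ
  obtain ⟨k, rfl⟩ : ∃ k, m = k + 2 := ⟨m - 2, by omega⟩
  have h2 : (2 : F) ≠ 0 := two_ne_zero_of_card_odd hodd
  have hf : ⇑(UnitaryOrthogonal.qMinus (k + 2) F a b) = Cfsg.quadFormMinus (k + 2) F a b :=
    funext fun v => UnitaryOrthogonal.qMinus_apply _ a b v
  have hQQ : UnitaryOrthogonal.qMinus (k + 2) F a b = Forms59.minusQF F (k + 2) a b :=
    QuadraticMap.ext fun v => by rw [hf, Forms59.coe_minusQF]
  have hQ : (QuadraticMap.polarBilin (UnitaryOrthogonal.qMinus (k + 2) F a b)).Nondegenerate :=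
    hQQ ▸ Forms59.minusQF_nondegenerate (k + 2) a b hab
  have hcard : Fintype.card ((Fin (k + 2) ⊕ Fin (k + 2)) ⊕ Fin 2) = 2 * (k + 3) := by simp; omega
  have E := GraphSplit.minusFrame (k + 2) a b
  obtain ⟨g, σ, hgσ, hind⟩ := FieldAutGen.Orth.exists_semi
    (UnitaryOrthogonal.qMinus_apply (k + 2) a b) (CG26.AutPO.setup_minus hab hm)
    (CG26.AutPO.big_minus hab hm) γ
  have hgσ' : Cfsg.IsSemisimilarityPair (⇑(UnitaryOrthogonal.qMinus (k + 2) F a b)) g σ := by
    rwa [hf]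
  have hσ : σ = 1 := by
    have hcomp := hind.comp (FieldAutGen.Orth.normalises hgσ) hind
    have hγγ : γ * γ = 1 := by have h := pow_orderOf_eq_one γ; rwa [hγ2, pow_two] at h
    rw [hγγ] at hcomp
    have hsemi := FieldAutGen.Orth.IsSemi_comp hgσ' hgσ'
    obtain ⟨hσσ, l, hl⟩ := FieldAutGen.Orth.eq_one_of_induced (by omega) E
      (FieldAutGen.Orth.hasSiegel_of_two_ne_zero h2 _ hQ) hsemi
      (show AutPSL.Induced (FieldAutGen.Orth.rho ⇑(UnitaryOrthogonal.qMinus (k + 2) F a b)) _ _ 1 by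
        rw [hf]; exact hcomp)
    refine GraphSplit.sigma_eq_one h2 (k := k + 3) (by omega) hcard
      (UnitaryOrthogonal.qMinus (k + 2) F a b) ?_ hgσ' hσσ hl
    rw [hQQ, Forms59.gram_minusQF_det, ← mul_assoc, ← pow_add,
      show k + 3 + (k + 2) = 2 * (k + 2) + 1 by ring, pow_succ, pow_mul]
    intro h
    exact GraphSplit.disc_not_isSquare h2 hab (by simpa using h)
  subst hσ
  obtain ⟨h1, h3⟩ := GraphSplit.graph_split hf h2 hQ (k := k + 3) (by omega) (by omega) hcard E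
    (fun g c hc h => preservesSingularClassesMinus_iff (k := k) h2 hab hc h) rfl
    (outer_minus hodd hm hab) γ hγ2 (FieldAutGen.Orth.isSemi_one_iff.1 hgσ) hind hγI
  refine ⟨h1, fun h => h3 ?_⟩
  by_cases hk : Even (k + 2)
  · left
    refine ⟨hk, ?_⟩
    have h4 : Fintype.card F % 4 ≠ 1 := fun e => h ⟨hk, e⟩
    have := Nat.odd_iff.1 hodd
    omega
  · right
    rw [show k + 2 + 1 = k + 3 from rfl] at *
    exact (Nat.not_even_iff_odd.1 hk).add_one

end Cfsg.Agent.S2719
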