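import Cfsg.Statements.S2720
import Cfsg.Agent.CG26.SemiCent
import Cfsg.Agent.FieldAutGen.PlusBasic
import Cfsg.Agent.Lib.UnitaryOrthogonal.OuterClasses

set_option autoImplicit false
open Cfsg
open Cfsg.Agent Cfsg.Agent.UnitaryOrthogonal

namespace Cfsg.Agent.S2720

/-- Let T = PΩ⁺_{2m}(F) (m ≥ 4, F finite of odd characteristic p), G = Inndiag(T), and let x be an automorphism of T induced by a similarity of the form (an element of the image G̃ of the conformal orthogonal group) of odd prime order r ≠ p. Then the T-class, the PSO-class and the G-class of x coincide (conjugacy under inner automorphisms, under the image of the special orthogonal group, and under G), and the PO-class of x coincides with its G̃-class. (In characteristic 2 the first equality fails: there the special orthogonal group is the full orthogonal group and some such classes split.) -/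
theorem result {F : Type*} [Field F] [Fintype F] {p : ℕ} [Fact p.Prime] [CharP F p] (hp : p ≠ 2) {m : ℕ} (hm : 4 ≤ m) (x : MulAut (Cfsg.POmega F (Cfsg.quadFormPlus m F))) (hx : x ∈ Cfsg.pgoAut F (Cfsg.quadFormPlus m F)) {r : ℕ} (hr : r.Prime) (hro : Odd r) (hrp : r ≠ p) (hxr : orderOf x = r) :
    (∀ y : MulAut (Cfsg.POmega F (Cfsg.quadFormPlus m F)), (Cfsg.IsConjUnder (Cfsg.Inn (Cfsg.POmega F (Cfsg.quadFormPlus m F))) x y ↔ Cfsg.IsConjUnder (Cfsg.inndiagPOmegaPlus m F) x y) ∧ (Cfsg.IsConjUnder (Cfsg.psoAut F (Cfsg.quadFormPlus m F)) x y ↔ Cfsg.IsConjUnder (Cfsg.inndiagPOmegaPlus m F) x y)) ∧ (∀ y : MulAut (Cfsg.POmega F (Cfsg.quadFormPlus m F)), Cfsg.IsConjUnder (Cfsg.poAut F (Cfsg.quadFormPlus m F)) x y ↔ Cfsg.IsConjUnder (Cfsg.pgoAut F (Cfsg.quadFormPlus m F)) x y) := by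
  classical
  have h2 : (2 : F) ≠ 0 := Ring.two_ne_zero (by rwa [ringChar.eq F p])
  have hrF : (r : F) ≠ 0 := fun e => hrp
    (((Nat.prime_dvd_prime_iff_eq (Fact.out : p.Prime) hr).1 ((CharP.cast_eq_zero_iff F p r).1 e)).symm)
  obtain ⟨k, rfl⟩ : ∃ k, m = k + 3 := ⟨m - 3, by omega⟩
  exact CG26.SemiCent.classes (Q := FieldAutGen.Plus.qf (k + 3) F) h2 FieldAutGen.Plus.qf_nondeg
    (n := k + 3) (by omega) (by simp; omega) (by omega) (FieldAutGen.Plus.frame (k + 3) F)
    (fun ν hν => ⟨
      { toFun := fun v => Sum.elim (fun i => ν * v (.inl i)) fun i => v (.inr i)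
        invFun := fun v => Sum.elim (fun i => ν⁻¹ * v (.inl i)) fun i => v (.inr i)
        map_add' := fun v w => by ext (i | i) <;> simp [mul_add]
        map_smul' := fun c v => by ext (i | i) <;> simp; ring
        left_inv := fun v => by ext (i | i) <;> simp [hν]
        right_inv := fun v => by ext (i | i) <;> simp [hν] },
      fun v => by
        simp [FieldAutGen.Plus.qf_apply, Cfsg.quadFormPlus, Finset.mul_sum, mul_assoc]⟩)
    (fun g c hc h => preservesSingularClassesPlus_iff h2 hc h) rfl x hx hro hrF hxr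

end Cfsg.Agent.S2720
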