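import Cfsg.Statements.S2721
import Cfsg.Agent.CG26.SemiCent
import Cfsg.Agent.Lib.UnitaryOrthogonal.GraphInvolution

set_option autoImplicit false
open Cfsg
open Cfsg.Agent Cfsg.Agent.UnitaryOrthogonal

namespace Cfsg.Agent.S2721

/-- Let T = PΩ⁻_{2m+2}(F) (m ≥ 3, F finite of odd characteristic p), G = Inndiag(T), and let x be an automorphism of T induced by a similarity of the form (an element of the image G̃ of the conformal orthogonal group) of odd prime order r ≠ p. Then the T-class, the PSO-class and the G-class of x coincide (conjugacy under inner automorphisms, under the image of the special orthogonal group, and under G), and the PO-class of x coincides with its G̃-class. (In characteristic 2 the first equality fails: there the special orthogonal group is the full orthogonal group and some such classes split.) -/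
theorem result {F : Type*} [Field F] [Fintype F] {p : ℕ} [Fact p.Prime] [CharP F p] (hp : p ≠ 2) {m : ℕ} (hm : 3 ≤ m) (a b : F) (hab : (∀ z₁ z₂ : F, z₁ ^ 2 + a * z₁ * z₂ + b * z₂ ^ 2 = 0 → z₁ = 0 ∧ z₂ = 0)) (x : MulAut (Cfsg.POmega F (Cfsg.quadFormMinus m F a b))) (hx : x ∈ Cfsg.pgoAut F (Cfsg.quadFormMinus m F a b)) {r : ℕ} (hr : r.Prime) (hro : Odd r) (hrp : r ≠ p) (hxr : orderOf x = r) :
    (∀ y : MulAut (Cfsg.POmega F (Cfsg.quadFormMinus m F a b)), (Cfsg.IsConjUnder (Cfsg.Inn (Cfsg.POmega F (Cfsg.quadFormMinus m F a b))) x y ↔ Cfsg.IsConjUnder (Cfsg.inndiagPOmegaMinus m F a b) x y) ∧ (Cfsg.IsConjUnder (Cfsg.psoAut F (Cfsg.quadFormMinus m F a b)) x y ↔ Cfsg.IsConjUnder (Cfsg.inndiagPOmegaMinus m F a b) x y)) ∧ (∀ y : MulAut (Cfsg.POmega F (Cfsg.quadFormMinus m F a b)), Cfsg.IsConjUnder (Cfsg.poAut F (Cfsg.quadFormMinus m F a b)) x y ↔ Cfsg.IsConjUnder (Cfsg.pgoAut F (Cfsg.quadFormMinus m F a b)) x y) := by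
  classical
  have h2 : (2 : F) ≠ 0 := Ring.two_ne_zero (by rwa [ringChar.eq F p])
  have hrF : (r : F) ≠ 0 := fun e => hrp
    (((Nat.prime_dvd_prime_iff_eq (Fact.out : p.Prime) hr).1 ((CharP.cast_eq_zero_iff F p r).1 e)).symm)
  obtain ⟨k, rfl⟩ : ∃ k, m = k + 2 := ⟨m - 2, by omega⟩
  have hf : ⇑(qMinus (k + 2) F a b) = Cfsg.quadFormMinus (k + 2) F a b :=
    funext fun v => qMinus_apply _ a b v
  have hQQ : qMinus (k + 2) F a b = Forms59.minusQF F (k + 2) a b :=
    QuadraticMap.ext fun v => by rw [hf, Forms59.coe_minusQF]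
  let Qc := (qMinus (k + 2) F a b).copy (Cfsg.quadFormMinus (k + 2) F a b) hf.symm
  have hQc : Qc = qMinus (k + 2) F a b := QuadraticMap.copy_eq _ _ _
  refine CG26.SemiCent.classes (Q := Qc) h2
    (hQc ▸ hQQ ▸ Forms59.minusQF_nondegenerate (k + 2) a b hab)
    (n := k + 3) (by omega) (by simp; omega) (k := k + 2) (by omega)
    (hQc ▸ GraphSplit.minusFrame (k + 2) a b)
    (fun ν hν => ?_) (fun g c hc h => preservesSingularClassesMinus_iff h2 hab hc h) rfl x hx
    hro hrF hxr
  obtain ⟨δ, -, hδ, -⟩ := (simData_binForm (F := F) hab hν).hypSum hν (k + 2)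
  exact ⟨(minusCoord (k + 2) F).trans (δ.trans (minusCoord (k + 2) F).symm), fun v => by
    rw [hQc]; simp [qMinus, hδ]⟩

end Cfsg.Agent.S2721
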