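import Cfsg.Statements.S2738
-- import your own Cfsg.Agent.* helpers here

set_option autoImplicit false
open Cfsg

namespace Cfsg.Agent.S2738

/-- The special linear group SL(3, 4) has centre of order 3 and does not split over it: no subgroup is a complement to the centre (so SL(3, 4) is a non-split central extension of PSL(3, 4) by a group of order 3). -/
theorem result (F : Type*) [Field F] [Fintype F] (hF : Fintype.card F = 4) : Nat.card ↥(Subgroup.center (Matrix.SpecialLinearGroup (Fin 3) F)) = 3 ∧ ¬ ∃ K : Subgroup (Matrix.SpecialLinearGroup (Fin 3) F), Subgroup.IsComplement' (Subgroup.center (Matrix.SpecialLinearGroup (Fin 3) F)) K := by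
  classical
  have hu : ∀ u : Fˣ, u ^ 3 = 1 := by
    intro u
    have : Fintype.card Fˣ = 3 := by rw [Fintype.card_units, hF]
    rw [← this]; exact pow_card_eq_one
  have hcard : Nat.card ↥(Subgroup.center (Matrix.SpecialLinearGroup (Fin 3) F)) = 3 := by
    rw [Nat.card_congr (Matrix.SpecialLinearGroup.center_equiv_rootsOfUnity' (0 : Fin 3)).toEquiv]
    have htop : rootsOfUnity (Fintype.card (Fin 3)) F = ⊤ := by
      ext u; simp [hu u]
    rw [htop, Subgroup.card_top, Nat.card_eq_fintype_card, Fintype.card_units, hF]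
  refine ⟨hcard, ?_⟩
  rintro ⟨K, hK⟩
  have hKn : K.Normal := by
    refine ⟨fun k hk g => ?_⟩
    obtain ⟨⟨z, k'⟩, hg⟩ := hK.2 g
    simp only at hg
    rw [← hg]
    have hz : ∀ x : (Matrix.SpecialLinearGroup (Fin 3) F), (z : (Matrix.SpecialLinearGroup (Fin 3) F)) * x = x * z := fun x => (Subgroup.mem_center_iff.mp z.2 x).symm
    have h1 : (z : (Matrix.SpecialLinearGroup (Fin 3) F)) * (k' : (Matrix.SpecialLinearGroup (Fin 3) F)) * k * ((z : (Matrix.SpecialLinearGroup (Fin 3) F)) * (k' : (Matrix.SpecialLinearGroup (Fin 3) F)))⁻¹ = (k' : (Matrix.SpecialLinearGroup (Fin 3) F)) * k * (k' : (Matrix.SpecialLinearGroup (Fin 3) F))⁻¹ := by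
      have h2 := hz ((k' : (Matrix.SpecialLinearGroup (Fin 3) F)) * k * (k' : (Matrix.SpecialLinearGroup (Fin 3) F))⁻¹)
      calc (z : (Matrix.SpecialLinearGroup (Fin 3) F)) * (k' : (Matrix.SpecialLinearGroup (Fin 3) F)) * k * ((z : (Matrix.SpecialLinearGroup (Fin 3) F)) * (k' : (Matrix.SpecialLinearGroup (Fin 3) F)))⁻¹
          = ((z : (Matrix.SpecialLinearGroup (Fin 3) F)) * ((k' : (Matrix.SpecialLinearGroup (Fin 3) F)) * k * (k' : (Matrix.SpecialLinearGroup (Fin 3) F))⁻¹)) * (z : (Matrix.SpecialLinearGroup (Fin 3) F))⁻¹ := by group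
        _ = (k' : (Matrix.SpecialLinearGroup (Fin 3) F)) * k * (k' : (Matrix.SpecialLinearGroup (Fin 3) F))⁻¹ := by rw [h2]; group
    rw [h1]
    exact K.mul_mem (K.mul_mem k'.2 hk) (K.inv_mem k'.2)
  let π : (Matrix.SpecialLinearGroup (Fin 3) F) →* (Matrix.SpecialLinearGroup (Fin 3) F) ⧸ K := QuotientGroup.mk' K
  have hcomm : ∀ a b : (Matrix.SpecialLinearGroup (Fin 3) F) ⧸ K, a * b = b * a := by
    intro a b
    obtain ⟨x, rfl⟩ := QuotientGroup.mk'_surjective K a
    obtain ⟨y, rfl⟩ := QuotientGroup.mk'_surjective K b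
    obtain ⟨⟨z, k⟩, hx⟩ := hK.2 x
    simp only at hx
    have hxz : QuotientGroup.mk' K x = QuotientGroup.mk' K (z : (Matrix.SpecialLinearGroup (Fin 3) F)) := by
      have hk1 : QuotientGroup.mk' K (k : (Matrix.SpecialLinearGroup (Fin 3) F)) = 1 :=
        (QuotientGroup.eq_one_iff (k : (Matrix.SpecialLinearGroup (Fin 3) F))).mpr k.2
      rw [← hx, map_mul, hk1, mul_one]
    rw [hxz, ← map_mul, ← map_mul, Subgroup.mem_center_iff.mp z.2 y]
  obtain ⟨w, hw1, -⟩ : ∃ w : Fˣ, w ≠ 1 ∧ True := by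
    have : 1 < Fintype.card Fˣ := by rw [Fintype.card_units, hF]; norm_num
    obtain ⟨w, hw⟩ := Fintype.exists_ne_of_one_lt_card this 1
    exact ⟨w, hw, trivial⟩
  let u : F := w
  have hu3 : u ^ 3 = 1 := by
    have := congrArg (Units.val) (hu w); simpa using this
  let d1 : (Matrix.SpecialLinearGroup (Fin 3) F) := ⟨Matrix.diagonal ![u, u^2, 1], by
    simp [Matrix.det_diagonal, Fin.prod_univ_three]; linear_combination hu3⟩
  let d2 : (Matrix.SpecialLinearGroup (Fin 3) F) := ⟨Matrix.diagonal ![1, u^2, u], by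
    simp [Matrix.det_diagonal, Fin.prod_univ_three]; linear_combination hu3⟩
  let P1 : (Matrix.SpecialLinearGroup (Fin 3) F) := ⟨!![0,1,0;1,0,0;0,0,-1], by simp [Matrix.det_fin_three]⟩
  let P2 : (Matrix.SpecialLinearGroup (Fin 3) F) := ⟨!![-1,0,0;0,0,1;0,1,0], by simp [Matrix.det_fin_three]⟩
  let z : (Matrix.SpecialLinearGroup (Fin 3) F) := ⟨Matrix.diagonal ![u, u, u], by
    simp [Matrix.det_diagonal, Fin.prod_univ_three]; linear_combination hu3⟩
  have hzc : z ∈ Subgroup.center (Matrix.SpecialLinearGroup (Fin 3) F) := by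
    rw [Subgroup.mem_center_iff]
    intro A
    apply Subtype.ext
    ext i j
    rw [Matrix.SpecialLinearGroup.coe_mul, Matrix.SpecialLinearGroup.coe_mul]
    fin_cases i <;> fin_cases j <;>
      simp [z, Matrix.diagonal_mul, Matrix.mul_diagonal, mul_comm]
  have hd1 : ∀ (d P : (Matrix.SpecialLinearGroup (Fin 3) F)), P * d * P⁻¹ = d⁻¹ → d ^ 3 = 1 → π d = 1 := by
    intro d P hP h3
    have h : π d = (π d)⁻¹ := by
      have := congrArg π hP
      rw [map_mul, map_mul, map_inv, map_inv, hcomm (π P) (π d)] at this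
      rw [← this]; group
    have h2 : π d ^ 2 = 1 := by rw [pow_two]; nth_rw 2 [h]; group
    have h3' : π d ^ 3 = 1 := by rw [← map_pow, h3, map_one]
    rw [pow_succ, h2, one_mul] at h3'
    exact h3'
  have hP1 : P1 * d1 * P1⁻¹ = d1⁻¹ := by
    have h : d1 * (P1 * d1) = P1 := by
      apply Subtype.ext
      rw [Matrix.SpecialLinearGroup.coe_mul, Matrix.SpecialLinearGroup.coe_mul]
      ext i j
      simp only [d1, P1, Matrix.diagonal_mul, Matrix.mul_diagonal]
      fin_cases i <;> fin_cases j <;>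
        simp <;>
        linear_combination hu3
    rw [eq_inv_iff_mul_eq_one]
    calc P1 * d1 * P1⁻¹ * d1 = d1⁻¹ * (d1 * (P1 * d1)) * P1⁻¹ * d1 := by group
      _ = 1 := by rw [h]; group
  have hP2 : P2 * d2 * P2⁻¹ = d2⁻¹ := by
    have h : d2 * (P2 * d2) = P2 := by
      apply Subtype.ext
      rw [Matrix.SpecialLinearGroup.coe_mul, Matrix.SpecialLinearGroup.coe_mul]
      ext i j
      simp only [d2, P2, Matrix.diagonal_mul, Matrix.mul_diagonal]
      fin_cases i <;> fin_cases j <;>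
        simp <;>
        linear_combination hu3
    rw [eq_inv_iff_mul_eq_one]
    calc P2 * d2 * P2⁻¹ * d2 = d2⁻¹ * (d2 * (P2 * d2)) * P2⁻¹ * d2 := by group
      _ = 1 := by rw [h]; group
  have h13 : d1 ^ 3 = 1 := by
    apply Subtype.ext
    rw [Matrix.SpecialLinearGroup.coe_pow, Matrix.SpecialLinearGroup.coe_one]
    show (Matrix.diagonal ![u, u^2, 1]) ^ 3 = 1
    rw [Matrix.diagonal_pow, ← Matrix.diagonal_one, Matrix.diagonal_eq_diagonal_iff]
    intro i
    fin_cases i <;> simp [hu3] <;> linear_combination (u ^ 3 + 1) * hu3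
  have h23 : d2 ^ 3 = 1 := by
    apply Subtype.ext
    rw [Matrix.SpecialLinearGroup.coe_pow, Matrix.SpecialLinearGroup.coe_one]
    show (Matrix.diagonal ![1, u^2, u]) ^ 3 = 1
    rw [Matrix.diagonal_pow, ← Matrix.diagonal_one, Matrix.diagonal_eq_diagonal_iff]
    intro i
    fin_cases i <;> simp [hu3] <;> linear_combination (u ^ 3 + 1) * hu3
  have hzeq : z = d1 * d2 := by
    apply Subtype.ext
    rw [Matrix.SpecialLinearGroup.coe_mul]
    show Matrix.diagonal ![u, u, u] = Matrix.diagonal ![u, u^2, 1] * Matrix.diagonal ![1, u^2, u]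
    rw [Matrix.diagonal_mul_diagonal]
    rw [Matrix.diagonal_eq_diagonal_iff]; intro i
    fin_cases i <;> simp [Pi.mul_apply] <;> linear_combination -(u) * hu3
  have hπz : π z = 1 := by
    rw [hzeq, map_mul, hd1 d1 P1 hP1 h13, hd1 d2 P2 hP2 h23, one_mul]
  have hzK : z ∈ K := (QuotientGroup.eq_one_iff z).mp hπz
  have hz1 : z = 1 := by
    have := hK.disjoint
    rw [Subgroup.disjoint_def] at this
    exact this hzc hzK
  apply hw1
  apply Units.ext
  have := congrArg (fun g : (Matrix.SpecialLinearGroup (Fin 3) F) => (g : Matrix (Fin 3) (Fin 3) F) 0 0) hz1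
  simpa [z, u] using this

end Cfsg.Agent.S2738
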