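import Cfsg.Statements.S2739
import Cfsg.Agent.Lib.GLSemisimple.Classes

set_option autoImplicit false
open scoped Pointwise
open Cfsg

namespace Cfsg.Agent.S2739

/-- In the projective special linear group PSL(3, 4) all subgroups of order 3 are conjugate. -/
theorem result (F : Type*) [Field F] [Fintype F] (hF : Fintype.card F = 4) (X Y : Subgroup (Matrix.ProjectiveSpecialLinearGroup (Fin 3) F)) (hX : Nat.card ↥X = 3) (hY : Nat.card ↥Y = 3) : ∃ g : Matrix.ProjectiveSpecialLinearGroup (Fin 3) F, MulAut.conj g • X = Y := by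
  classical
  have h4 : ∀ a : F, a ≠ 0 → a ^ 3 = 1 := fun a ha => by
    have := FiniteField.pow_card_sub_one_eq_one a ha
    rwa [hF] at this
  have h3F : ((3 : ℕ) : F) ≠ 0 := by
    intro h
    have h1 : ((Fintype.card F : ℕ) : F) = 0 := FiniteField.cast_card_eq_zero F
    rw [hF, show ((4 : ℕ) : F) = (3 : ℕ) + 1 by norm_num, h, zero_add] at h1
    exact one_ne_zero h1
  have hX3ne : (Polynomial.X ^ 3 - 1 : Polynomial F) ≠ 0 := by
    rw [← Polynomial.C_1]; exact Polynomial.X_pow_sub_C_ne_zero (by omega) 1
  have hX3deg : (Polynomial.X ^ 3 - 1 : Polynomial F).natDegree = 3 := by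
    rw [← Polynomial.C_1, Polynomial.natDegree_X_pow_sub_C]
  have hX3 : (Polynomial.X ^ 3 - 1 : Polynomial F).Splits := by
    rw [Polynomial.splits_iff_card_roots, hX3deg]
    refine le_antisymm ((Polynomial.card_roots' (Polynomial.X ^ 3 - 1 : Polynomial F)).trans_eq hX3deg) ?_
    have hsub : (Finset.univ.erase (0 : F)).val ≤ (Polynomial.X ^ 3 - 1 : Polynomial F).roots := by
      rw [Multiset.le_iff_subset (Finset.nodup _)]
      intro a ha
      rw [Polynomial.mem_roots hX3ne, Polynomial.IsRoot]
      simp [h4 a (Finset.mem_erase.mp ha).1]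
    refine le_trans ?_ (Multiset.card_le_card hsub)
    rw [← Finset.card_def, Finset.card_erase_of_mem (Finset.mem_univ _), Finset.card_univ, hF]
  -- characteristic polynomial of a non-central element of exponent three
  have key : ∀ g : Matrix.SpecialLinearGroup (Fin 3) F, g ∉ Subgroup.center _ → g ^ 3 = 1 →
      (g : Matrix (Fin 3) (Fin 3) F).charpoly = ((Finset.univ.erase (0 : F)).val.map
        fun a => Polynomial.X - Polynomial.C a).prod := by
    intro g hg hg3
    have hgm : (g : Matrix (Fin 3) (Fin 3) F) ^ 3 = 1 := by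
      rw [← Matrix.SpecialLinearGroup.coe_pow, hg3, Matrix.SpecialLinearGroup.coe_one]
    set P := (g : Matrix (Fin 3) (Fin 3) F).charpoly with hP
    have hPm : P.Monic := Matrix.charpoly_monic _
    have hPd : P.natDegree = 3 := (Matrix.charpoly_natDegree_eq_dim _).trans (Fintype.card_fin 3)
    have hPs : P.Splits := by
      rw [← Polynomial.eq_of_monic_of_associated (?_) hPm
        (UniqueFactorizationMonoid.prod_normalizedFactors hPm.ne_zero)]
      · refine multiset_prod_mem _ fun f hf => ?_
        exact hX3.of_dvd hX3ne (Cfsg.Agent.GLSemi.factor_dvd_of_pow_eq_one hgm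
          (UniqueFactorizationMonoid.irreducible_of_normalized_factor f hf)
          (UniqueFactorizationMonoid.dvd_of_mem_normalizedFactors hf))
      · have h := Polynomial.monic_multiset_prod_of_monic
          (UniqueFactorizationMonoid.normalizedFactors P) id fun f hf => by
            rw [id, ← UniqueFactorizationMonoid.normalize_normalized_factor f hf]
            exact Polynomial.monic_normalize (UniqueFactorizationMonoid.prime_of_normalized_factor f hf).ne_zero
        rwa [Multiset.map_id] at h
    have hprodP : P = (P.roots.map fun a => Polynomial.X - Polynomial.C a).prod :=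
      hPs.eq_prod_roots_of_monic hPm
    have hcard : P.roots.card = 3 := by rw [← hPs.natDegree_eq_card_roots, hPd]
    have hprod : P.roots.prod = 1 := by
      have h1 := hPs.coeff_zero_eq_prod_roots_of_monic hPm
      rw [hP, Cfsg.Agent.GLSemi.charpoly_coeff_zero, g.prop, ← hP, hPd] at h1
      exact (mul_left_cancel₀ (pow_ne_zero 3 (neg_ne_zero.mpr one_ne_zero)) h1).symm
    have hne0 : ∀ a ∈ P.roots, a ≠ 0 := fun a ha h0 => by
      rw [Multiset.prod_eq_zero (h0 ▸ ha)] at hprod
      exact zero_ne_one hprod
    by_cases hnd : P.roots.Nodup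
    · rw [hprodP]
      congr 2
      refine Multiset.eq_of_le_of_card_le ((Multiset.le_iff_subset hnd).mpr fun a ha =>
        Finset.mem_erase.mpr ⟨hne0 a ha, Finset.mem_univ a⟩) ?_
      rw [hcard, ← Finset.card_def, Finset.card_erase_of_mem (Finset.mem_univ _), Finset.card_univ, hF]
    · exfalso
      apply hg
      obtain ⟨a, ha⟩ : ∃ a, 2 ≤ P.roots.count a := by
        by_contra hcon
        push Not at hcon
        exact hnd (Multiset.nodup_iff_count_le_one.mpr fun a => by have := hcon a; omega)
      obtain ⟨t, ht⟩ := Multiset.exists_cons_of_mem (Multiset.count_pos.mp (by omega : 0 < P.roots.count a))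
      obtain ⟨t', ht'⟩ := Multiset.exists_cons_of_mem (a := a) (s := t) (Multiset.count_pos.mp (by
        rw [ht, Multiset.count_cons_self] at ha; omega))
      subst ht'
      have hc1 : t'.card = 1 := by
        rw [ht, Multiset.card_cons, Multiset.card_cons] at hcard; omega
      obtain ⟨c, rfl⟩ := Multiset.card_eq_one.mp hc1
      rw [ht, Multiset.prod_cons, Multiset.prod_cons, Multiset.prod_singleton] at hprod
      have ha3 : a ^ 3 = 1 := h4 a (hne0 a (by rw [ht]; exact Multiset.mem_cons_self _ _))
      have hca : c = a := by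
        calc c = a ^ 3 * c := by rw [ha3, one_mul]
          _ = a * (a * (a * c)) := by ring
          _ = a := by rw [hprod, mul_one]
      subst hca
      have hsc : (Matrix.scalar (Fin 3) c).charpoly = P := by
        rw [hprodP, ht, Matrix.scalar_apply, Matrix.charpoly_diagonal, Fin.prod_univ_three]
        simp [mul_assoc]
      obtain ⟨X, hX1, hX2⟩ := Cfsg.Agent.GLSemi.exists_conj_det (F := F) (n := 3) (N := 3) (by omega) h3F hgm
        (by rw [← map_pow, ha3, map_one]) hsc.symm one_ne_zero
      rw [Matrix.SpecialLinearGroup.mem_center_iff]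
      refine ⟨c, by rw [Fintype.card_fin, ha3], ?_⟩
      have hXu : IsUnit X := (Matrix.isUnit_iff_isUnit_det X).mpr (by rw [hX1]; exact isUnit_one)
      refine (hXu.mul_left_cancel ?_).symm
      rw [hX2]
      exact Matrix.scalar_commute c (Commute.all c) X
  -- lift and conjugate
  have conj : ∀ a b : Matrix.ProjectiveSpecialLinearGroup (Fin 3) F, orderOf a = 3 → orderOf b = 3 →
      ∃ g, g * a * g⁻¹ = b := by
    intro a b ha hb
    have lift : ∀ a : Matrix.ProjectiveSpecialLinearGroup (Fin 3) F, orderOf a = 3 →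
        ∃ x : Matrix.SpecialLinearGroup (Fin 3) F,
          QuotientGroup.mk' _ x = a ∧ x ∉ Subgroup.center _ ∧ x ^ 3 = 1 := by
      intro a ha
      obtain ⟨x, rfl⟩ := QuotientGroup.mk'_surjective _ a
      have hxc : x ∉ Subgroup.center _ := fun h => by
        rw [show QuotientGroup.mk' (Subgroup.center (Matrix.SpecialLinearGroup (Fin 3) F)) x = 1 from
          (QuotientGroup.eq_one_iff x).mpr h, orderOf_one] at ha
        omega
      refine ⟨x, rfl, hxc, ?_⟩
      have h3 := pow_orderOf_eq_one (QuotientGroup.mk' (Subgroup.center (Matrix.SpecialLinearGroup (Fin 3) F)) x)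
      rw [ha, ← map_pow] at h3
      obtain ⟨r, hr3, hr⟩ := Matrix.SpecialLinearGroup.mem_center_iff.mp ((QuotientGroup.eq_one_iff _).mp h3)
      rw [Fintype.card_fin] at hr3
      rw [Matrix.SpecialLinearGroup.coe_pow] at hr
      by_cases hr1 : r = 1
      · subst hr1
        apply Subtype.ext
        rw [Matrix.SpecialLinearGroup.coe_pow, ← hr, map_one, Matrix.SpecialLinearGroup.coe_one]
      exfalso
      let f : Polynomial F := Polynomial.X ^ 3 - Polynomial.C r
      have hf : Irreducible f := by
        rw [Polynomial.irreducible_iff_roots_eq_zero_of_degree_le_three (by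
          rw [Polynomial.natDegree_X_pow_sub_C]; omega) (by rw [Polynomial.natDegree_X_pow_sub_C])]
        refine Multiset.eq_zero_of_forall_notMem fun u hu => hr1 ?_
        rw [Polynomial.mem_roots (Polynomial.X_pow_sub_C_ne_zero (by omega) r), Polynomial.IsRoot] at hu
        simp [f, sub_eq_zero] at hu
        rw [← hu]
        refine h4 u fun h0 => ?_
        rw [h0, zero_pow (by omega)] at hu
        rw [← hu, zero_pow (by omega)] at hr3
        exact zero_ne_one hr3
      have hfm : f.Monic := Polynomial.monic_X_pow_sub_C r (by omega)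
      have hfx : Polynomial.aeval (x : Matrix (Fin 3) (Fin 3) F) f = 0 := by
        simp only [f, map_sub, map_pow, Polynomial.aeval_X, Polynomial.aeval_C]
        rw [← hr, sub_eq_zero]
        rfl
      have hmin : minpoly F (x : Matrix (Fin 3) (Fin 3) F) = f :=
        (minpoly.eq_of_irreducible_of_monic hf hfx hfm).symm
      have hch : (x : Matrix (Fin 3) (Fin 3) F).charpoly = f := by
        have hd := Matrix.minpoly_dvd_charpoly (x : Matrix (Fin 3) (Fin 3) F)
        rw [hmin] at hd
        refine (Polynomial.eq_of_monic_of_associated hfm (Matrix.charpoly_monic _)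
          (Polynomial.associated_of_dvd_of_natDegree_le hd (Matrix.charpoly_monic _).ne_zero ?_)).symm
        rw [Polynomial.natDegree_X_pow_sub_C, Matrix.charpoly_natDegree_eq_dim, Fintype.card_fin]
      have h0 := Cfsg.Agent.GLSemi.charpoly_coeff_zero (x : Matrix (Fin 3) (Fin 3) F)
      rw [hch, x.prop] at h0
      simp [f, Polynomial.coeff_X_pow] at h0
      exact hr1 (by linear_combination -h0)
    obtain ⟨x, rfl, hx, hx3⟩ := lift a ha
    obtain ⟨y, rfl, hy, hy3⟩ := lift b hb
    obtain ⟨X, hX1, hX2⟩ := Cfsg.Agent.GLSemi.exists_conj_det (F := F) (n := 3) (N := 3) (by omega) h3F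
      (by rw [← Matrix.SpecialLinearGroup.coe_pow, hx3, Matrix.SpecialLinearGroup.coe_one])
      (by rw [← Matrix.SpecialLinearGroup.coe_pow, hy3, Matrix.SpecialLinearGroup.coe_one])
      ((key x hx hx3).trans (key y hy hy3).symm) one_ne_zero
    let z : Matrix.SpecialLinearGroup (Fin 3) F := ⟨X, hX1⟩
    refine ⟨QuotientGroup.mk' _ z, ?_⟩
    have hz : z * x * z⁻¹ = y := by
      rw [mul_inv_eq_iff_eq_mul]
      exact Subtype.ext hX2
    rw [← hz, map_mul, map_mul, map_inv]
  haveI : Fact (Nat.Prime 3) := ⟨Nat.prime_three⟩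
  obtain ⟨a, ha⟩ := (isCyclic_of_prime_card hX).exists_generator
  obtain ⟨b, hb⟩ := (isCyclic_of_prime_card hY).exists_generator
  have hXe : X = Subgroup.zpowers (a : Matrix.ProjectiveSpecialLinearGroup (Fin 3) F) := by
    refine le_antisymm (fun u hu => ?_) ((Subgroup.zpowers_le).mpr a.2)
    obtain ⟨k, hk⟩ := Subgroup.mem_zpowers_iff.mp (ha ⟨u, hu⟩)
    exact Subgroup.mem_zpowers_iff.mpr ⟨k, congrArg Subtype.val hk⟩
  have hYe : Y = Subgroup.zpowers (b : Matrix.ProjectiveSpecialLinearGroup (Fin 3) F) := by
    refine le_antisymm (fun u hu => ?_) ((Subgroup.zpowers_le).mpr b.2)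
    obtain ⟨k, hk⟩ := Subgroup.mem_zpowers_iff.mp (hb ⟨u, hu⟩)
    exact Subgroup.mem_zpowers_iff.mpr ⟨k, congrArg Subtype.val hk⟩
  have hoa : orderOf (a : Matrix.ProjectiveSpecialLinearGroup (Fin 3) F) = 3 := by
    rw [← Nat.card_zpowers, ← hXe, hX]
  have hob : orderOf (b : Matrix.ProjectiveSpecialLinearGroup (Fin 3) F) = 3 := by
    rw [← Nat.card_zpowers, ← hYe, hY]
  obtain ⟨g, hg⟩ := conj _ _ hoa hob
  refine ⟨g, ?_⟩
  rw [hXe, hYe, ← hg]
  show (Subgroup.zpowers _).map (MulAut.conj g).toMonoidHom = _
  rw [MonoidHom.map_zpowers]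
  rfl

end Cfsg.Agent.S2739
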