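import Cfsg.Statements.S2751
import Cfsg.Agent.Class49.Trivalent.Coset

set_option autoImplicit false
open Cfsg

set_option linter.style.haveILetI false
open Cfsg.Agent.Class49.Trivalent

namespace Cfsg.Agent.S2751

theorem relIndex_three {G : Type*} [Group G] {M T : Subgroup G} [Finite M]
    (hS : ∃ P : Sylow 2 M, (P : Subgroup M) = T.subgroupOf M)
    (hq : Nonempty (M ⧸ Cfsg.pCore 2 M ≃* Equiv.Perm (Fin 3))) : T.relIndex M = 3 := by
  haveI : Fact (Nat.Prime 2) := ⟨Nat.prime_two⟩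
  obtain ⟨e⟩ := hq
  obtain ⟨P, hP⟩ := hS
  have h6 : (pCore 2 M).index = 6 := by
    rw [Subgroup.index_eq_card, Nat.card_congr e.toEquiv, Nat.card_perm, Nat.card_fin]
    rfl
  have hle : pCore 2 M ≤ (P : Subgroup M) := sSup_le fun N hN => by
    haveI := hN.1
    exact hN.2.le_sylow_of_normal P
  rw [← Subgroup.relIndex_mul_index hle] at h6
  obtain ⟨k, hk⟩ := P.isPGroup'.index ((pCore 2 M).subgroupOf (P : Subgroup M))
  have hodd : ¬ 2 ∣ (P : Subgroup M).index := P.not_dvd_index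
  show (T.subgroupOf M).index = 3
  rw [← hP]
  have hk' : (pCore 2 M).relIndex (P : Subgroup M) = 2 ^ k := hk
  rw [hk'] at h6
  match k with
  | 0 => omega
  | 1 => omega
  | k + 2 =>
    exfalso
    have : 4 ∣ 6 := ⟨2 ^ k * (P : Subgroup M).index, by rw [← h6]; ring⟩
    omega

/-- Goldschmidt's bound for amalgams of index (3, 3): let M₁ and M₂ be finite subgroups of a group G such that M₁ ⊓ M₂ is a Sylow 2-subgroup of both M₁ and M₂, each quotient Mᵢ / O₂(Mᵢ) is isomorphic to the symmetric group of degree 3, and no nontrivial subgroup of M₁ ⊓ M₂ is normal in both M₁ and M₂. Then M₁ ⊓ M₂ has order at most 2^7. -/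
theorem result {G : Type*} [Group G] (M₁ M₂ : Subgroup G) [Finite M₁] [Finite M₂] (ha₁ : ∃ P : Sylow 2 M₁, (P : Subgroup M₁) = (M₁ ⊓ M₂).subgroupOf M₁) (ha₂ : ∃ P : Sylow 2 M₂, (P : Subgroup M₂) = (M₁ ⊓ M₂).subgroupOf M₂) (hb₁ : Nonempty (M₁ ⧸ Cfsg.pCore 2 M₁ ≃* Equiv.Perm (Fin 3))) (hb₂ : Nonempty (M₂ ⧸ Cfsg.pCore 2 M₂ ≃* Equiv.Perm (Fin 3))) (hc : ∀ N : Subgroup G, N ≤ M₁ ⊓ M₂ → (N.subgroupOf M₁).Normal → (N.subgroupOf M₂).Normal → N = ⊥) : Nat.card ↥(M₁ ⊓ M₂) ≤ 2 ^ 7 := by
  classical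
  haveI : Fact (Nat.Prime 2) := ⟨Nat.prime_two⟩
  set H := M₁ ⊔ M₂
  let M : Bool → Subgroup G := fun i => cond i M₂ M₁
  have hM : ∀ i, M i ≤ H := by rintro (_ | _) <;> simp [M, H]
  have hTH : M₁ ⊓ M₂ ≤ H := inf_le_left.trans le_sup_left
  have hTM : ∀ i, M₁ ⊓ M₂ ≤ M i := by
    rintro (_ | _)
    · exact inf_le_left
    · exact inf_le_right
  have hfin : ∀ i, Finite (M i) := by rintro (_ | _) <;> assumption
  have hP : ∀ i, ∃ P : Sylow 2 (M i), (P : Subgroup (M i)) = (M₁ ⊓ M₂).subgroupOf (M i) := by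
    rintro (_ | _) <;> assumption
  have hq : ∀ i, Nonempty (M i ⧸ Cfsg.pCore 2 (M i) ≃* Equiv.Perm (Fin 3)) := by
    rintro (_ | _) <;> assumption
  let S : Setup H :=
    { M := fun i => (M i).subgroupOf H
      T := (M₁ ⊓ M₂).subgroupOf H
      fin := fun i =>
        haveI := hfin i
        Finite.of_equiv _ (Subgroup.subgroupOfEquivOfLe (hM i)).symm.toEquiv
      hT := (Subgroup.comap_inf M₁ M₂ H.subtype)
      gen := by
        show M₁.subgroupOf H ⊔ M₂.subgroupOf H = ⊤
        rw [← Subgroup.subgroupOf_sup le_sup_left le_sup_right, Subgroup.subgroupOf_self]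
      hp := by
        obtain ⟨P, hP'⟩ := hP false
        exact ((P.isPGroup'.of_equiv ((MulEquiv.subgroupCongr hP').trans
          (Subgroup.subgroupOfEquivOfLe (hTM false))))).of_equiv
          (Subgroup.subgroupOfEquivOfLe hTH).symm
      relT := fun i => by
        haveI := hfin i
        rw [Subgroup.relIndex_subgroupOf (hM i)]
        exact relIndex_three (hP i) (hq i)
      quot := fun i =>
        (hq i).map fun e => (QuotientGroup.congr _ _ (Subgroup.subgroupOfEquivOfLe (hM i))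
          (Thompson.map_pCore_equiv _)).trans e
      core := fun N hN hn => by
        have key : ∀ i, ((N.map H.subtype).subgroupOf (M i)).Normal := fun i => ⟨fun n hn' g => by
          obtain ⟨x, hx, e⟩ := Subgroup.mem_map.1 (Subgroup.mem_subgroupOf.1 hn')
          refine Subgroup.mem_subgroupOf.2 (Subgroup.mem_map.2
            ⟨⟨g, hM i g.2⟩ * x * ⟨g, hM i g.2⟩⁻¹, hn i _ g.2 x hx, ?_⟩)
          simp only [map_mul, map_inv, Subgroup.coe_subtype, Subgroup.coe_mul, InvMemClass.coe_inv]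
          rw [← e]
          rfl⟩
        have := hc (N.map H.subtype) (fun y hy => by
          obtain ⟨x, hx, rfl⟩ := Subgroup.mem_map.1 hy
          exact hN hx) (key false) (key true)
        exact (Subgroup.map_eq_bot_iff_of_injective _ H.subtype_injective).1 this }
  have h := S.bound
  rwa [Nat.card_congr (Subgroup.subgroupOfEquivOfLe hTH).toEquiv] at h

end Cfsg.Agent.S2751
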