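import Cfsg.Statements.S2760
import Cfsg.Agent.Lib.Thompson.Cores

set_option autoImplicit false
open Cfsg

namespace Cfsg.Agent.S2760

/-- Let G be a finite group with C_G(O₂(G)) ≤ O₂(G) and H a subgroup of G such that H is normal in G, or the subgroup O²(H) generated by the elements of H of odd order is normal in G. Then C_H(O₂(H)) ≤ O₂(H). -/
theorem result {G : Type*} [Group G] [Finite G] (hchar : Subgroup.centralizer (Cfsg.pCore 2 G : Set G) ≤ Cfsg.pCore 2 G) (H : Subgroup G) (hH : H.Normal ∨ ((Cfsg.pResidual 2 ↥H).map H.subtype).Normal) : Subgroup.centralizer (Cfsg.pCore 2 ↥H : Set ↥H) ≤ Cfsg.pCore 2 ↥H := by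
  haveI : Fact (Nat.Prime 2) := ⟨Nat.prime_two⟩
  -- the normal case: an odd element of `H` centralizing `O₂(H)` is trivial
  have key : ∀ R : Subgroup G, R.Normal → ∀ x ∈ R, (orderOf x).Coprime 2 →
      (∀ q ∈ (Cfsg.pCore 2 ↥R).map R.subtype, q * x = x * q) → x = 1 := by
    intro R hR x hx hodd hc
    haveI := hR
    rw [Thompson.map_pCore_normal_eq] at hc
    have hxC : x ∈ Subgroup.centralizer (Cfsg.pCore 2 G : Set G) := by
      rw [Subgroup.mem_centralizer_iff]
      intro q hq
      set a := x * q * x⁻¹ * q⁻¹ with ha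
      have haR : a ∈ R := by
        rw [ha, mul_assoc, mul_assoc]
        exact R.mul_mem hx (by simpa [mul_assoc] using hR.conj_mem _ (R.inv_mem hx) q)
      have haQ : a ∈ Cfsg.pCore 2 G := by
        rw [ha]
        exact mul_mem ((Thompson.instPCoreNormal).conj_mem q hq x) (inv_mem hq)
      have hax := hc a ⟨haR, haQ⟩
      have hiter : ∀ k : ℕ, x ^ k * q * (x ^ k)⁻¹ = a ^ k * q := by
        intro k
        induction k with
        | zero => simp
        | succ k ih =>
          have hcomm : x * a ^ k = a ^ k * x := ((show Commute a x from hax).pow_left k).symm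
          calc x ^ (k + 1) * q * (x ^ (k + 1))⁻¹ = x * (x ^ k * q * (x ^ k)⁻¹) * x⁻¹ := by
                rw [pow_succ']; group
            _ = x * (a ^ k * q) * x⁻¹ := by rw [ih]
            _ = a ^ k * (x * q * x⁻¹) := by rw [← mul_assoc x, hcomm]; group
            _ = a ^ (k + 1) * q := by rw [pow_succ, ha]; group
      have h1 := hiter (orderOf x)
      rw [pow_orderOf_eq_one, one_mul, inv_one, mul_one] at h1
      have h2 : a ^ orderOf x = 1 := mul_right_cancel (b := q) (by rw [one_mul]; exact h1.symm)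
      obtain ⟨j, hj⟩ := (Thompson.isPGroup_pCore (p := 2) (G := G)) ⟨a, haQ⟩
      have hj' : a ^ 2 ^ j = 1 := by simpa [Subtype.ext_iff] using hj
      have ha1 : a = 1 := orderOf_eq_one_iff.1 (Nat.eq_one_of_dvd_coprimes
        (Nat.Coprime.pow_right j hodd) (orderOf_dvd_of_pow_eq_one h2) (orderOf_dvd_of_pow_eq_one hj'))
      rw [ha, mul_inv_eq_one, mul_inv_eq_iff_eq_mul] at ha1
      exact ha1.symm
    obtain ⟨j, hj⟩ := (Thompson.isPGroup_pCore (p := 2) (G := G)) ⟨x, hchar hxC⟩
    have hj' : x ^ 2 ^ j = 1 := by simpa [Subtype.ext_iff] using hj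
    exact orderOf_eq_one_iff.1 (Nat.eq_one_of_dvd_coprimes
      (Nat.Coprime.pow_right j hodd) dvd_rfl (orderOf_dvd_of_pow_eq_one hj'))
  have odd_case : ∀ x : ↥H, (orderOf x).Coprime 2 →
      x ∈ Subgroup.centralizer (Cfsg.pCore 2 ↥H : Set ↥H) → x = 1 := by
    intro x hodd hx
    have hodd' : (orderOf (x : G)).Coprime 2 := by
      rwa [show orderOf (x : G) = orderOf x from orderOf_injective H.subtype H.subtype_injective x]
    apply Subtype.ext
    rw [Subgroup.mem_centralizer_iff] at hx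
    rcases hH with hH | hH
    · refine key H hH _ x.2 hodd' ?_
      rintro _ ⟨q, hq, rfl⟩
      exact congrArg Subtype.val (hx q hq)
    · refine key _ hH _ ⟨x, Thompson.mem_pResidual_of_coprime hodd, rfl⟩ hodd' ?_
      rintro _ ⟨q, hq, rfl⟩
      haveI hRH : ((Cfsg.pResidual 2 ↥H).map H.subtype).Normal := hH
      have hle : (Cfsg.pResidual 2 ↥H).map H.subtype ≤ H := Subgroup.map_subtype_le _
      have hqH : (q : G) ∈ H := hle q.2
      refine congrArg Subtype.val (hx ⟨q, hqH⟩ ?_)
      have hn : (((Cfsg.pResidual 2 ↥H).map H.subtype).subgroupOf H).Normal := inferInstance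
      refine (Thompson.map_pCore_normal_le (p := 2) (((Cfsg.pResidual 2 ↥H).map H.subtype).subgroupOf H)) ?_
      refine ⟨⟨⟨q, hqH⟩, q.2⟩, ?_, rfl⟩
      have e := Thompson.map_pCore_equiv (p := 2) (Subgroup.subgroupOfEquivOfLe hle).symm
      rw [SetLike.mem_coe, ← e]
      exact ⟨q, hq, rfl⟩
  refine Thompson.le_pCore inferInstance ?_
  rw [IsPGroup.iff_card]
  by_contra hcon
  obtain ⟨r, hr, hdvd, hr2⟩ : ∃ r, Nat.Prime r ∧
      r ∣ Nat.card ↥(Subgroup.centralizer (Cfsg.pCore 2 ↥H : Set ↥H)) ∧ r ≠ 2 := by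
    by_contra! hall
    exact hcon ⟨_, Nat.eq_prime_pow_of_unique_prime_dvd Nat.card_pos.ne' fun hd hh => hall _ hd hh⟩
  haveI := Fact.mk hr
  obtain ⟨x, hx⟩ :=
    exists_prime_orderOf_dvd_card' (G := ↥(Subgroup.centralizer (Cfsg.pCore 2 ↥H : Set ↥H))) r hdvd
  have hxo : orderOf (x : ↥H) = r :=
    (orderOf_injective (Subgroup.centralizer (Cfsg.pCore 2 ↥H : Set ↥H)).subtype
      (Subgroup.subtype_injective _) x).trans hx
  have := odd_case x (by rw [hxo]; exact (Nat.coprime_primes hr Nat.prime_two).2 hr2) x.2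
  rw [this, orderOf_one] at hxo
  exact hr.one_lt.ne hxo

end Cfsg.Agent.S2760
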