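import Cfsg.Statements.S2762
import Cfsg.Agent.LocalEven61.Qd

set_option autoImplicit false
open Cfsg

namespace Cfsg.Agent.S2762

/-- Structure of Qd over a finite field F of characteristic p (the affine subgroup of SL₃(F)): its largest normal p-subgroup is the group of translations (matrices with upper-left block the identity), the block-diagonal matrices form a complement isomorphic to SL₂(F), and the translation subgroup is a natural SL₂(F)-module for that complement. -/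
theorem result {F : Type*} [Field F] [Fintype F] {p : ℕ} [Fact p.Prime] [CharP F p] : (∀ M : ↥(Cfsg.qdOver F), M ∈ Cfsg.pCore p ↥(Cfsg.qdOver F) ↔ ((M : Matrix.SpecialLinearGroup (Fin 3) F) : Matrix (Fin 3) (Fin 3) F) 0 0 = 1 ∧ ((M : Matrix.SpecialLinearGroup (Fin 3) F) : Matrix (Fin 3) (Fin 3) F) 0 1 = 0 ∧ ((M : Matrix.SpecialLinearGroup (Fin 3) F) : Matrix (Fin 3) (Fin 3) F) 1 0 = 0 ∧ ((M : Matrix.SpecialLinearGroup (Fin 3) F) : Matrix (Fin 3) (Fin 3) F) 1 1 = 1) ∧ ∃ K : Subgroup ↥(Cfsg.qdOver F), (∀ M : ↥(Cfsg.qdOver F), M ∈ K ↔ ((M : Matrix.SpecialLinearGroup (Fin 3) F) : Matrix (Fin 3) (Fin 3) F) 0 2 = 0 ∧ ((M : Matrix.SpecialLinearGroup (Fin 3) F) : Matrix (Fin 3) (Fin 3) F) 1 2 = 0) ∧ K ⊓ Cfsg.pCore p ↥(Cfsg.qdOver F) = ⊥ ∧ K ⊔ Cfsg.pCore p ↥(Cfsg.qdOver F) = ⊤ ∧ Nonempty (↥K ≃* Matrix.SpecialLinearGroup (Fin 2) F) ∧ Cfsg.IsNaturalSL2Module F (Cfsg.pCore p ↥(Cfsg.qdOver F)) K := by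
  have hV : Cfsg.pCore p ↥(Cfsg.qdOver F) = (LocalEven61.qdLin (F := F)).ker :=
    LocalEven61.pCore_qdOver
  refine ⟨fun M => ?_, ?_⟩
  · rw [hV, MonoidHom.mem_ker]
    constructor
    · intro h
      have e : ∀ i j : Fin 2, (LocalEven61.qdLin M : Matrix (Fin 2) (Fin 2) F) i j =
          (1 : Matrix (Fin 2) (Fin 2) F) i j := fun i j => by rw [h]; rfl
      exact ⟨e 0 0, e 0 1, e 1 0, e 1 1⟩
    · rintro ⟨h00, h01, h10, -⟩
      exact PLocalB.eq_one_of_diag _ h01 h10 h00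
  let Z : ↥(Cfsg.qdOver F) → Prop := fun M => LocalEven61.qdTrans M = 0
  let s : Matrix.SpecialLinearGroup (Fin 2) F →* ↥(Cfsg.qdOver F) :=
    { toFun := fun A => LocalEven61.qdAff 0 A
      map_one' := LocalEven61.qdAff_zero_one
      map_mul' := fun A B => by rw [LocalEven61.qdAff_mul, Matrix.mulVec_zero, add_zero] }
  have hs : ∀ M, M ∈ s.range ↔ LocalEven61.qdTrans M = 0 := fun M =>
    ⟨by rintro ⟨A, rfl⟩; exact LocalEven61.qdTrans_qdAff _ _,
      fun h => ⟨LocalEven61.qdLin M, (congrArg (fun v => LocalEven61.qdAff v (LocalEven61.qdLin M)) h.symm).trans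
        (LocalEven61.qdAff_eta M)⟩⟩
  have hinj : Function.Injective s := fun A B h => by
    simpa [s, LocalEven61.qdLin_qdAff] using congrArg LocalEven61.qdLin h
  refine ⟨s.range, fun M => ?_, ?_, ?_, ⟨(MonoidHom.ofInjective hinj).symm⟩, ?_⟩
  · rw [hs]
    constructor
    · intro h; exact ⟨congrFun h 0, congrFun h 1⟩
    · rintro ⟨h0, h1⟩; funext i; fin_cases i
      · exact h0
      · exact h1
  · rw [eq_bot_iff]
    rintro M ⟨h1, h2⟩
    rw [hV] at h2
    rw [Subgroup.mem_bot, ← LocalEven61.qdAff_zero_one, ← LocalEven61.qdAff_eta M,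
      (hs M).1 h1, MonoidHom.mem_ker.1 h2]
  · rw [eq_top_iff]
    intro M _
    rw [← LocalEven61.qdAff_eta M, show LocalEven61.qdAff (LocalEven61.qdTrans M) (LocalEven61.qdLin M) =
      LocalEven61.qdAff (LocalEven61.qdTrans M) 1 * s (LocalEven61.qdLin M) from by
        show _ = _ * LocalEven61.qdAff 0 _
        rw [LocalEven61.qdAff_mul, Matrix.mulVec_zero, add_zero, one_mul]]
    refine mul_mem (Subgroup.mem_sup_right ?_) (Subgroup.mem_sup_left ⟨_, rfl⟩)
    rw [hV]; exact LocalEven61.qdLin_qdAff _ _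
  rw [hV]
  haveI : (LocalEven61.qdLin (F := F)).ker.Normal := inferInstance
  let ψ : Additive ↥(LocalEven61.qdLin (F := F)).ker ≃+ (Fin 2 → F) :=
    { toFun := fun v => LocalEven61.qdTrans (v.toMul : ↥(Cfsg.qdOver F))
      invFun := fun w => Additive.ofMul ⟨LocalEven61.qdAff w 1, LocalEven61.qdLin_qdAff w 1⟩
      left_inv := fun v => Additive.toMul.injective
        (Subtype.ext (LocalEven61.eq_qdAff_of_mem_ker (Additive.toMul v).2).symm)
      right_inv := fun w => LocalEven61.qdTrans_qdAff w 1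
      map_add' := fun v w => LocalEven61.qdTrans_mul_of_ker (Additive.toMul v).2 _ }
  refine ⟨le_top.trans_eq (@Subgroup.normalizer_eq_top _ _ _ this).symm, (LocalEven61.qdLin.comp s.range.subtype), ψ, ?_, ?_, ?_⟩
  · intro A; exact ⟨⟨s A, A, rfl⟩, LocalEven61.qdLin_qdAff 0 A⟩
  · ext ⟨M, hM⟩
    rw [MonoidHom.mem_ker, Subgroup.mem_subgroupOf, Subgroup.mem_centralizer_iff]
    show LocalEven61.qdLin M = 1 ↔ _
    constructor
    · intro h v hv
      have : M = 1 := by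
        rw [← LocalEven61.qdAff_zero_one, ← LocalEven61.qdAff_eta M, (hs M).1 hM, h]
      simp [this]
    · intro h
      refine Subtype.ext (Matrix.ext_of_mulVec_single fun i => ?_)
      rw [Matrix.SpecialLinearGroup.coe_one, Matrix.one_mulVec]
      have h1 := h (LocalEven61.qdAff (Pi.single i 1) 1) (LocalEven61.qdLin_qdAff _ _)
      have h2 := LocalEven61.qd_conj_ker M (Pi.single i 1)
      rw [← h1, mul_inv_cancel_right] at h2
      have h3 := congrArg LocalEven61.qdTrans h2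
      rwa [LocalEven61.qdTrans_qdAff, LocalEven61.qdTrans_qdAff, eq_comm] at h3
  · intro l v
    refine ⟨⟨_, MonoidHom.normal_ker _ |>.conj_mem _ v.2 l⟩, rfl, ?_⟩
    show LocalEven61.qdTrans ((l : ↥(Cfsg.qdOver F)) * (v : ↥(Cfsg.qdOver F)) * (l : ↥(Cfsg.qdOver F))⁻¹) =
      (LocalEven61.qdLin (l : ↥(Cfsg.qdOver F)) : Matrix (Fin 2) (Fin 2) F).mulVec (LocalEven61.qdTrans (v : ↥(Cfsg.qdOver F)))
    conv_lhs => rw [LocalEven61.eq_qdAff_of_mem_ker v.2]
    rw [LocalEven61.qd_conj_ker, LocalEven61.qdTrans_qdAff]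

end Cfsg.Agent.S2762
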