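import Cfsg.Statements.S2768
import Cfsg.Agent.LocalEven61.PushingUpZJ

set_option autoImplicit false
open Cfsg

namespace Cfsg.Agent.S2768

/-- Let G be a finite group and p a prime with C_G(O_p(G)) ≤ O_p(G), such that a Sylow p-subgroup S lies in exactly one maximal subgroup of G and G/K ≅ PSL₂(p^n) for some normal K and n ≥ 1. Put J̃(S) = C_S(Z(J(S))), where J(S) is generated by the abelian subgroups of S of largest order. If Z(S) is not normal in G, then J̃(S) is a Sylow p-subgroup of its normal closure ⟨J̃(S)^G⟩. -/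
theorem result {G : Type*} [Group G] [Finite G] {p : ℕ} [Fact p.Prime] (S : Sylow p G) (hE₁ : Subgroup.centralizer (Cfsg.pCore p G : Set G) ≤ Cfsg.pCore p G) (hE₂ : ∃! M : Subgroup G, IsCoatom M ∧ (S : Subgroup G) ≤ M) (K : Subgroup G) [K.Normal] (F : Type) [Field F] [Fintype F] (n : ℕ) (hn : 1 ≤ n) (hF : Fintype.card F = p ^ n) (hE₃ : Nonempty (G ⧸ K ≃* Matrix.ProjectiveSpecialLinearGroup (Fin 2) F)) (hZ : ¬ ((S : Subgroup G) ⊓ Subgroup.centralizer ((S : Subgroup G) : Set G)).Normal) : ∃ P : Sylow p ↥(Subgroup.normalClosure (((S : Subgroup G) ⊓ Subgroup.centralizer (Cfsg.centerThompsonAOf (S : Subgroup G) : Set G)) : Set G)), (P : Subgroup ↥(Subgroup.normalClosure (((S : Subgroup G) ⊓ Subgroup.centralizer (Cfsg.centerThompsonAOf (S : Subgroup G) : Set G)) : Set G))) = (((S : Subgroup G) ⊓ Subgroup.centralizer (Cfsg.centerThompsonAOf (S : Subgroup G) : Set G))).subgroupOf (Subgroup.normalClosure (((S : Subgroup G) ⊓ Subgroup.centralizer (Cfsg.centerThompsonAOf (S : Subgroup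 G) : Set G)) : Set G)) := by
  classical
  have hP : LocalEven61.PUSetup S K F n := ⟨hE₁, hE₂, hn, hF, hE₃⟩
  rw [PLocalB.centerThompsonAOf_eq_core] at *
  set Z := (PLocalB.abelianFamily G).core (S : Subgroup G) with hZdef
  set Jt := (S : Subgroup G) ⊓ Subgroup.centralizer (Z : Set G)
  obtain ⟨C, hC, hJC, hCJ⟩ : ∃ C : Subgroup G, C.Normal ∧ Jt ≤ C ∧ (S : Subgroup G) ⊓ C ≤ Jt := by
    by_cases hA : ∀ A, (PLocalB.abelianFamily G).IsMax (S : Subgroup G) A → A ≤ Cfsg.pCore p G
    · haveI := hP.core_normal_of_le hA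
      exact ⟨Subgroup.centralizer (Z : Set G), inferInstance, inf_le_right, le_rfl⟩
    · push Not at hA
      obtain ⟨R, X, V, hR, -, -, -, hRZ, -, hZR, -⟩ := hP.core_decomp hZ hA
      refine ⟨Subgroup.centralizer (R : Set G), inferInstance,
        inf_le_right.trans (Subgroup.centralizer_le hRZ), fun x hx => ⟨hx.1, ?_⟩⟩
      have hle : Z ≤ Subgroup.centralizer ({x} : Set G) := hZR.trans (sup_le
        (fun z hz => Subgroup.mem_centralizer_singleton_iff.2
          (Subgroup.mem_centralizer_iff.1 hz.2 x hx.1).symm)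
        (fun z hz => Subgroup.mem_centralizer_singleton_iff.2
          (Subgroup.mem_centralizer_iff.1 hx.2 z hz)))
      exact Subgroup.mem_centralizer_iff.2 fun z hz => Subgroup.mem_centralizer_singleton_iff.1 (hle hz)
  set N := Subgroup.normalClosure (Jt : Set G)
  have hNC : N ≤ C := Subgroup.normalClosure_le_normal hJC
  obtain ⟨P, hP'⟩ := Transfer.exists_sylow_subgroupOf_normal S N
  refine ⟨P, hP'.trans ?_⟩
  ext x
  rw [Subgroup.mem_subgroupOf, Subgroup.mem_subgroupOf]
  exact ⟨fun hx => hCJ ⟨hx, hNC x.2⟩, fun hx => hx.1⟩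

end Cfsg.Agent.S2768
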