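import Cfsg.Statements.S2769
import Cfsg.Agent.LocalEven61.PushingUpZJ

set_option autoImplicit false
open Cfsg

namespace Cfsg.Agent.S2769

/-- Let G be a finite group and p a prime with C_G(O_p(G)) ≤ O_p(G), S a Sylow p-subgroup lying in exactly one maximal subgroup of G, and G/K ≅ PSL₂(p^n) for some normal K and n ≥ 1. Let J(S) be generated by the abelian subgroups of S of largest order. If [Z(J(S)), S] ≠ 1, then either [Z(J(S)), S] ∩ Z(S) is normal in G or C_S(Z(J(S))) is normal in G. -/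
theorem result {G : Type*} [Group G] [Finite G] {p : ℕ} [Fact p.Prime] (S : Sylow p G) (hE₁ : Subgroup.centralizer (Cfsg.pCore p G : Set G) ≤ Cfsg.pCore p G) (hE₂ : ∃! M : Subgroup G, IsCoatom M ∧ (S : Subgroup G) ≤ M) (K : Subgroup G) [K.Normal] (F : Type) [Field F] [Fintype F] (n : ℕ) (hn : 1 ≤ n) (hF : Fintype.card F = p ^ n) (hE₃ : Nonempty (G ⧸ K ≃* Matrix.ProjectiveSpecialLinearGroup (Fin 2) F)) (h : ⁅(Cfsg.centerThompsonAOf (S : Subgroup G)), (S : Subgroup G)⁆ ≠ ⊥) : (⁅(Cfsg.centerThompsonAOf (S : Subgroup G)), (S : Subgroup G)⁆ ⊓ ((S : Subgroup G) ⊓ Subgroup.centralizer ((S : Subgroup G) : Set G))).Normal ∨ (((S : Subgroup G) ⊓ Subgroup.centralizer (Cfsg.centerThompsonAOf (S : Subgroup G) : Set G))).Normal := by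
  classical
  have hP : LocalEven61.PUSetup S K F n := ⟨hE₁, hE₂, hn, hF, hE₃⟩
  rw [PLocalB.centerThompsonAOf_eq_core] at *
  set Z := (PLocalB.abelianFamily G).core (S : Subgroup G) with hZdef
  set Zc := (S : Subgroup G) ⊓ Subgroup.centralizer ((S : Subgroup G) : Set G)
  have hcent : ⁅Z, (S : Subgroup G)⁆ ⊓ Zc ≤ Subgroup.center G →
      (⁅Z, (S : Subgroup G)⁆ ⊓ Zc).Normal := fun hle => ⟨fun x hx g => by
    rw [Subgroup.mem_center_iff.1 (hle hx) g, mul_inv_cancel_right]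
    exact hx⟩
  by_cases hns : Zc.Normal
  · exact Or.inl (hcent (inf_le_right.trans (hP.le_center_of_normal le_rfl)))
  by_cases hA : ∀ A, (PLocalB.abelianFamily G).IsMax (S : Subgroup G) A → A ≤ Cfsg.pCore p G
  · haveI hZn : Z.Normal := hP.core_normal_of_le hA
    rcases hP.inf_le_or_sup_eq_top (Subgroup.centralizer (Z : Set G)) with hle | htop
    · refine Or.inr ?_
      rw [show (S : Subgroup G) ⊓ Subgroup.centralizer (Z : Set G) =
        Cfsg.pCore p G ⊓ Subgroup.centralizer (Z : Set G) from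
        le_antisymm (le_inf hle inf_le_right) (inf_le_inf_right _ (Thompson.pCore_le_sylow S))]
      infer_instance
    · refine Or.inl (hcent fun x hx => LocalEven61.mem_center_of_sup_eq_top htop
        (fun c hc => ?_) (fun c hc => Subgroup.mem_centralizer_iff.1 hx.2.2 c hc))
      exact (Subgroup.mem_centralizer_iff.1 hc x (Subgroup.commutator_le_left _ _ hx.1)).symm
  · push Not at hA
    obtain ⟨R, X, V, hR, -, -, hXS, -, hXR, hZR, -⟩ := hP.core_decomp hns hA
    refine Or.inl (hcent fun x hx => LocalEven61.mem_center_of_sup_eq_top hXS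
      (fun c hc => (Subgroup.mem_centralizer_iff.1 (hXR hc) x ?_).symm)
      (fun c hc => Subgroup.mem_centralizer_iff.1 hx.2.2 c hc))
    refine (Subgroup.commutator_le.2 ?_ : ⁅Z, (S : Subgroup G)⁆ ≤ R) hx.1
    intro z hz s hs
    obtain ⟨z₀, hz₀, r, hr, rfl⟩ := (Subgroup.mem_sup_of_normal_right (s := Zc) (t := R)).1 (hZR hz)
    have hc : s * z₀⁻¹ = z₀⁻¹ * s :=
      ((show Commute s z₀ from Subgroup.mem_centralizer_iff.1 hz₀.2 s hs).inv_right).eq
    rw [commutatorElement_def, show z₀ * r * s * (z₀ * r)⁻¹ * s⁻¹ =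
      z₀ * r * (s * r⁻¹ * s⁻¹) * (s * z₀⁻¹) * s⁻¹ by group, hc,
      show z₀ * r * (s * r⁻¹ * s⁻¹) * (z₀⁻¹ * s) * s⁻¹ = z₀ * (r * (s * r⁻¹ * s⁻¹)) * z₀⁻¹ by group]
    exact hR.conj_mem _ (R.mul_mem hr (hR.conj_mem _ (R.inv_mem hr) s)) z₀

end Cfsg.Agent.S2769
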