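import Cfsg.Statements.S2770
import Cfsg.Agent.LocalEven61.PushingUpZJ

set_option autoImplicit false
open Cfsg

namespace Cfsg.Agent.S2770

/-- Let G be a finite group and p a prime with C_G(O_p(G)) ≤ O_p(G), S a Sylow p-subgroup lying in exactly one maximal subgroup of G, and G/K ≅ PSL₂(p^n) for some normal K and n ≥ 1. If Z(S) is not elementary abelian, then either ℧¹(Z(S)) (the subgroup generated by the p-th powers of the elements of Z(S)) is normal in G or C_S(Z(J(S))) is normal in G, J(S) being generated by the abelian subgroups of S of largest order. -/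
theorem result {G : Type*} [Group G] [Finite G] {p : ℕ} [Fact p.Prime] (S : Sylow p G) (hE₁ : Subgroup.centralizer (Cfsg.pCore p G : Set G) ≤ Cfsg.pCore p G) (hE₂ : ∃! M : Subgroup G, IsCoatom M ∧ (S : Subgroup G) ≤ M) (K : Subgroup G) [K.Normal] (F : Type) [Field F] [Fintype F] (n : ℕ) (hn : 1 ≤ n) (hF : Fintype.card F = p ^ n) (hE₃ : Nonempty (G ⧸ K ≃* Matrix.ProjectiveSpecialLinearGroup (Fin 2) F)) (h : ¬ Cfsg.IsElementaryAbelian p ((S : Subgroup G) ⊓ Subgroup.centralizer ((S : Subgroup G) : Set G))) : (Cfsg.powerClosure p 1 ((S : Subgroup G) ⊓ Subgroup.centralizer ((S : Subgroup G) : Set G))).Normal ∨ (((S : Subgroup G) ⊓ Subgroup.centralizer (Cfsg.centerThompsonAOf (S : Subgroup G) : Set G))).Normal := by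
  classical
  have hP : LocalEven61.PUSetup S K F n := ⟨hE₁, hE₂, hn, hF, hE₃⟩
  rw [PLocalB.centerThompsonAOf_eq_core] at *
  set Z := (PLocalB.abelianFamily G).core (S : Subgroup G) with hZdef
  set Zc := (S : Subgroup G) ⊓ Subgroup.centralizer ((S : Subgroup G) : Set G)
  have hcent : (∀ z ∈ Zc, z ^ p ∈ Subgroup.center G) → (Cfsg.powerClosure p 1 Zc).Normal := by
    intro hle
    have hle' : Cfsg.powerClosure p 1 Zc ≤ Subgroup.center G := by
      rw [Cfsg.powerClosure, Subgroup.closure_le]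
      rintro _ ⟨z, hz, rfl⟩
      rw [pow_one]
      exact hle z hz
    exact ⟨fun x hx g => by
      rw [Subgroup.mem_center_iff.1 (hle' hx) g, mul_inv_cancel_right]
      exact hx⟩
  by_cases hns : Zc.Normal
  · exact Or.inl (hcent fun z hz => pow_mem (hP.le_center_of_normal le_rfl hz) p)
  by_cases hA : ∀ A, (PLocalB.abelianFamily G).IsMax (S : Subgroup G) A → A ≤ Cfsg.pCore p G
  · haveI hZn : Z.Normal := hP.core_normal_of_le hA
    rcases hP.inf_le_or_sup_eq_top (Subgroup.centralizer (Z : Set G)) with hle | htop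
    · refine Or.inr ?_
      rw [show (S : Subgroup G) ⊓ Subgroup.centralizer (Z : Set G) =
        Cfsg.pCore p G ⊓ Subgroup.centralizer (Z : Set G) from
        le_antisymm (le_inf hle inf_le_right) (inf_le_inf_right _ (Thompson.pCore_le_sylow S))]
      infer_instance
    · refine Or.inl (hcent fun z hz => pow_mem (LocalEven61.mem_center_of_sup_eq_top htop
        (fun c hc => ?_) (fun c hc => Subgroup.mem_centralizer_iff.1 hz.2 c hc)) p)
      refine (Subgroup.mem_centralizer_iff.1 hc z (Subgroup.mem_sInf.2 fun M hM =>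
        (PLocalB.abelianFamily G).mem_of_centralizes hM hz.1 ?_)).symm
      exact PLocalB.isMulCommutative_sup_zpowers hM.2.1 fun y hy =>
        Subgroup.mem_centralizer_iff.1 hz.2 y (hM.1 hy)
  · push Not at hA
    obtain ⟨R, X, V, -, -, hVn, -, -, -, -, hVQ, hVab, hZcV, hVcen⟩ := hP.core_decomp hns hA
    refine Or.inl (hcent fun z hz => ?_)
    by_contra hzc
    haveI := hVn
    haveI := hVab
    have hVp : IsPGroup p ↥V := Thompson.isPGroup_pCore.to_le hVQ
    have hcomm : ∀ a ∈ V, ∀ b ∈ V, Commute a b := fun a ha b hb =>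
      congrArg Subtype.val (hVab.is_comm.comm ⟨a, ha⟩ ⟨b, hb⟩)
    -- the subgroup of `p`-th powers
    let V₁ : Subgroup G :=
      { carrier := {x | ∃ v ∈ V, v ^ p = x}
        one_mem' := ⟨1, V.one_mem, one_pow p⟩
        mul_mem' := by
          rintro _ _ ⟨a, ha, rfl⟩ ⟨b, hb, rfl⟩
          exact ⟨a * b, V.mul_mem ha hb, (hcomm a ha b hb).mul_pow p⟩
        inv_mem' := by
          rintro _ ⟨a, ha, rfl⟩
          exact ⟨a⁻¹, V.inv_mem ha, inv_pow a p⟩ }
    haveI : V₁.Normal := ⟨by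
      rintro _ ⟨v, hv, rfl⟩ g
      exact ⟨g * v * g⁻¹, hVn.conj_mem v hv g, conj_pow⟩⟩
    have hV₁V : V₁ ≤ V := by
      rintro _ ⟨v, hv, rfl⟩
      exact V.pow_mem hv p
    obtain ⟨-, hb⟩ := hP.relIndex_bound (V := V₁) (hVp.to_le hV₁V) (fun hle => hzc (hle
      ⟨⟨z, hZcV hz, rfl⟩, pow_mem hz.2 p⟩))
    set D := V ⊓ Subgroup.center G with hD
    have h1 : (V₁ ⊓ Subgroup.center G).relIndex V₁ = D.relIndex (D ⊔ V₁) := by
      haveI : D.Normal := ⟨fun x hx g => by
        rw [Subgroup.mem_center_iff.1 hx.2 g, mul_inv_cancel_right]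
        exact hx⟩
      rw [Subgroup.relIndex_sup_left, hD, ← Subgroup.inf_relIndex_right (V ⊓ _),
        inf_right_comm, inf_eq_right.2 hV₁V]
    have h2 := Subgroup.relIndex_mul_relIndex D (D ⊔ V₁) V le_sup_left (sup_le inf_le_left hV₁V)
    have h3 : (D ⊔ V₁).relIndex V = 1 := by
      have hle := hb.trans_eq h1
      have h4 : 0 < p ^ n * p ^ n := Nat.mul_pos (pow_pos (Fact.out : p.Prime).pos n)
        (pow_pos (Fact.out : p.Prime).pos n)
      have h5 : 0 < (D ⊔ V₁).relIndex V :=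
        Nat.pos_of_ne_zero ((D ⊔ V₁).subgroupOf V).index_ne_zero_of_finite
      have h6 := (Nat.mul_le_mul_right ((D ⊔ V₁).relIndex V) hle).trans (h2.trans_le hVcen)
      have h7 := Nat.le_of_mul_le_mul_left (h6.trans_eq (mul_one _).symm) h4
      omega
    rw [Subgroup.relIndex_eq_one] at h3
    haveI : D.Normal := ⟨fun x hx g => by
      rw [Subgroup.mem_center_iff.1 hx.2 g, mul_inv_cancel_right]
      exact hx⟩
    have hiter : ∀ k : ℕ, ∀ v ∈ V, ∃ d ∈ D, ∃ w ∈ V, d * w ^ p ^ k = v := by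
      intro k
      induction k with
      | zero => exact fun v hv => ⟨1, D.one_mem, v, hv, by simp⟩
      | succ k ih =>
        intro v hv
        obtain ⟨d, hd, w, hw, rfl⟩ := ih v hv
        obtain ⟨d', hd', _, ⟨u, hu, rfl⟩, rfl⟩ := Subgroup.mem_sup_of_normal_left.1 (h3 hw)
        refine ⟨d * d' ^ p ^ k, D.mul_mem hd (D.pow_mem hd' _), u, hu, ?_⟩
        rw [(hcomm d' hd'.1 _ (V.pow_mem hu p)).mul_pow, ← pow_mul, ← pow_succ', mul_assoc]
    obtain ⟨i, hi⟩ := IsPGroup.iff_card.1 hVp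
    obtain ⟨d, hd, w, hw, hdw⟩ := hiter i z (hZcV hz)
    apply hzc
    have hwi : w ^ p ^ i = 1 := by
      rw [← hi]
      exact congrArg Subtype.val (pow_card_eq_one' (x := (⟨w, hw⟩ : ↥V)))
    rw [← hdw, hwi, mul_one]
    exact pow_mem hd.2 p

end Cfsg.Agent.S2770
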