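import Cfsg.Statements.S2772
import Cfsg.Agent.S4Amalgam.SimsLocal
import Cfsg.Agent.SporB.Sym3
import Cfsg.Agent.Lib.Thompson.Cores

set_option autoImplicit false
set_option linter.style.haveILetI false
open Cfsg

namespace Cfsg.Agent.S2772

/-- Sims' Theorem in local form: let H be a finite non-abelian simple group and G a maximal subgroup of H with C_G(O₂(G)) ≤ O₂(G), such that N_H(S) is not contained in G for a Sylow 2-subgroup S of G and G/O₂(G) is dihedral of order 2q for a prime q. Then G is isomorphic to the symmetric group of degree 4 or to its direct product with a group of order 2. -/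
theorem result {H : Type*} [Group H] [Finite H] [IsSimpleGroup H] (hna : ¬ IsMulCommutative H) (G : Subgroup H) (hG : IsCoatom G) (hchar : Subgroup.centralizer (Cfsg.pCore 2 ↥G : Set ↥G) ≤ Cfsg.pCore 2 ↥G) (S : Sylow 2 ↥G) (hN : ¬ Subgroup.normalizer (((S : Subgroup ↥G).map G.subtype : Subgroup H) : Set H) ≤ G) (q : ℕ) (hq : q.Prime) (hD : Nonempty (↥G ⧸ Cfsg.pCore 2 ↥G ≃* DihedralGroup q)) : Nonempty (↥G ≃* Equiv.Perm (Fin 4)) ∨ Nonempty (↥G ≃* Equiv.Perm (Fin 4) × Multiplicative (ZMod 2)) := by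
  haveI : Fact (Nat.Prime 2) := ⟨Nat.prime_two⟩
  obtain ⟨e⟩ := hD
  set S₀ : Subgroup H := (S : Subgroup ↥G).map G.subtype with hS₀
  have hSG : S₀ ≤ G := Subgroup.map_subtype_le _
  have hS₀sub : S₀.subgroupOf G = S :=
    Subgroup.comap_map_eq_self_of_injective G.subtype_injective _
  obtain ⟨x, hxN, hxG⟩ := SetLike.not_le_iff_exists.1 hN
  have hidx : (pCore 2 ↥G).index = 2 * q := by
    rw [Subgroup.index_eq_card, Nat.card_congr e.toEquiv, DihedralGroup.nat_card]
  have hQsub : (pCoreOf 2 G).subgroupOf G = pCore 2 ↥G :=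
    Subgroup.comap_map_eq_self_of_injective G.subtype_injective _
  have hq2 : q ≠ 2 := by
    rintro rfl
    have hQp : IsPGroup 2 (pCore 2 ↥G) := S.isPGroup'.to_le (sSup_le fun N hN => by
      haveI := hN.1
      exact hN.2.le_sylow_of_normal S)
    obtain ⟨k, hk⟩ := IsPGroup.iff_card.1 hQp
    have hG2 : IsPGroup 2 ↥G := IsPGroup.of_card (n := k + 2) (by
      rw [← (pCore 2 ↥G).card_mul_index, hk, hidx, pow_add]
      norm_num)
    have htop : pCore 2 ↥G = ⊤ := eq_top_iff.2
      (le_sSup (a := (⊤ : Subgroup ↥G)) ⟨inferInstance, hG2.of_equiv Subgroup.topEquiv.symm⟩)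
    rw [htop, Subgroup.index_top] at hidx
    omega
  have hGne : G ≠ ⊥ := by
    rintro rfl
    rw [Subgroup.eq_bot_of_subsingleton (pCore 2 ↥(⊥ : Subgroup H)), Subgroup.index_bot,
      Subgroup.card_bot] at hidx
    omega
  have hGnorm : Subgroup.normalizer (G : Set H) = G := by
    rcases eq_or_lt_of_le (Subgroup.le_normalizer (H := G)) with h | h
    · exact h.symm
    · have := Subgroup.normalizer_eq_top_iff.1 (hG.2 _ h)
      rcases this.eq_bot_or_eq_top with h' | h'
      · exact absurd h' hGne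
      · exact absurd h' hG.1
  have hsup : ∀ K : Subgroup H, G ≤ K → x ∈ K → K = ⊤ := fun K hK hx =>
    hG.2 K (lt_of_le_of_ne hK (by rintro rfl; exact hxG hx))
  have hxnorm : ∀ K : Subgroup H, G ≤ Subgroup.normalizer (K : Set H) →
      x ∈ Subgroup.normalizer (K : Set H) → K = ⊥ ∨ K = ⊤ := fun K h1 h2 =>
    (Subgroup.normalizer_eq_top_iff.1 (hsup _ h1 h2)).eq_bot_or_eq_top
  have hcenter : Subgroup.center H = ⊥ := by
    rcases (inferInstance : (Subgroup.center H).Normal).eq_bot_or_eq_top with h | h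
    · exact h
    · exact absurd ⟨⟨fun a b => (Subgroup.mem_center_iff.1 (h.symm ▸ Subgroup.mem_top a) b).symm⟩⟩ hna
  have hS2 : IsPGroup 2 ↥S₀ := S.isPGroup'.map _
  have hS₀ne : S₀ ≠ ⊥ := by
    intro h
    have hSbot : (S : Subgroup ↥G) = ⊥ := by
      rw [hS₀] at h
      exact (Subgroup.map_eq_bot_iff_of_injective _ G.subtype_injective).1 h
    have hd := S.not_dvd_index
    rw [hSbot, Subgroup.index_bot] at hd
    refine hd ?_
    rw [← (pCore 2 ↥G).card_mul_index, hidx]
    exact Dvd.dvd.mul_left (Dvd.intro q rfl) _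
  set Z : Subgroup H := omegaOne 2 (S₀ ⊓ Subgroup.centralizer (S₀ : Set H)) with hZ
  have hZne : Z ≠ ⊥ := by
    haveI : Nontrivial ↥S₀ := (Subgroup.nontrivial_iff_ne_bot _).2 hS₀ne
    haveI := hS2.center_nontrivial
    obtain ⟨k, hk⟩ := IsPGroup.iff_card.1 (hS2.to_subgroup (Subgroup.center ↥S₀))
    have hk0 : k ≠ 0 := by
      rintro rfl
      have := Finite.one_lt_card (α := Subgroup.center ↥S₀)
      omega
    obtain ⟨z, hz⟩ := exists_prime_orderOf_dvd_card' (G := Subgroup.center ↥S₀) 2
      (hk ▸ dvd_pow_self 2 hk0)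
    intro h
    have h1 : (((z : ↥S₀) : H)) ∈ Z := by
      refine Subgroup.subset_closure ⟨⟨(z : ↥S₀).2, Subgroup.mem_centralizer_iff.2 fun y hy =>
        congrArg Subtype.val (Subgroup.mem_center_iff.1 z.2 ⟨y, hy⟩)⟩, ?_⟩
      rw [← hz]
      have := pow_orderOf_eq_one z
      exact_mod_cast congrArg (fun a : Subgroup.center ↥S₀ => (((a : ↥S₀)) : H)) this
    rw [h, Subgroup.mem_bot] at h1
    have : z = 1 := Subtype.ext (Subtype.ext h1)
    rw [this, orderOf_one] at hz
    omega
  have hxZ : S4Amalgam.cj x Z = Z := by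
    have : S4Amalgam.cj x (S₀ ⊓ Subgroup.centralizer (S₀ : Set H)) =
        S₀ ⊓ Subgroup.centralizer (S₀ : Set H) := by
      rw [S4Amalgam.cj_inf, S4Amalgam.cj_centralizer,
        S4Amalgam.cj_eq_of_mem_normalizer hxN]
    show Subgroup.map _ (Subgroup.closure _) = Subgroup.closure _
    rw [MonoidHom.map_closure]
    congr 1
    ext y
    constructor
    · rintro ⟨w, ⟨hw, hw2⟩, rfl⟩
      exact ⟨this.le (Subgroup.mem_map_of_mem _ hw), by rw [← map_pow, hw2, map_one]⟩
    · rintro ⟨hy, hy2⟩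
      obtain ⟨w, hw, rfl⟩ := Subgroup.mem_map.1 (this.ge hy)
      exact ⟨w, ⟨hw, (MulAut.conj x).injective (by rw [map_pow, map_one]; exact hy2)⟩, rfl⟩
  have hact : ¬ G ≤ Subgroup.centralizer (Z : Set H) := by
    intro h
    have h1 : Subgroup.centralizer (Z : Set H) = ⊥ ∨ Subgroup.centralizer (Z : Set H) = ⊤ :=
      hxnorm _ (h.trans Subgroup.le_normalizer)
        (S4Amalgam.normalizer_le_normalizer_centralizer _ (S4Amalgam.mem_normalizer_of_cj_eq hxZ))
    rcases h1 with h1 | h1
    · exact hGne (eq_bot_iff.2 (h.trans h1.le))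
    · exact hZne (eq_bot_iff.2 (hcenter ▸ fun z hz => Subgroup.mem_center_iff.2 fun y =>
        (Subgroup.mem_centralizer_iff.1 (h1.ge (Subgroup.mem_top y)) z hz).symm))
  have hSdvd : ¬ 2 ∣ S₀.relIndex G := by
    show ¬ 2 ∣ (S₀.subgroupOf G).index
    rw [hS₀sub]
    exact S.not_dvd_index
  have hcharP : G ⊓ Subgroup.centralizer (pCoreOf 2 G : Set H) ≤ pCoreOf 2 G := by
    intro y hy
    refine Subgroup.mem_map.2 ⟨⟨y, hy.1⟩, hchar (Subgroup.mem_centralizer_iff.2 fun w hw => ?_), rfl⟩
    exact Subtype.ext (Subgroup.mem_centralizer_iff.1 hy.2 w (Subgroup.mem_map_of_mem _ hw))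
  let A : S4Amalgam.SimsLocal.Setting H :=
    { P := G, S := S₀, x := x, q := q, hq := hq, hPx := hsup, hx := hxN, hchar := hcharP
      hSP := hSG, hS2 := hS2, hS := hSdvd
      hQP := by show ((pCoreOf 2 G).subgroupOf G).index = _; rw [hQsub, hidx]
      hq2 := hq2
      hact := hact
      hnc := fun V hV => by
        by_contra hall
        push Not at hall
        have h1 : Subgroup.normalClosure (V : Set H) ≤ Subgroup.centralizer (V : Set H) := by
          refine (Subgroup.closure_le _).2 fun y hy => ?_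
          obtain ⟨v, hv, hc⟩ := Group.mem_conjugatesOfSet_iff.1 hy
          obtain ⟨g, rfl⟩ := isConj_iff.1 hc
          exact Subgroup.mem_centralizer_iff.2 fun w hw =>
            (Subgroup.mem_centralizer_iff.1 (hall g hw) _ (S4Amalgam.conj_mem_cj hv)).symm
        rcases (Subgroup.normalClosure_normal (s := (V : Set H))).eq_bot_or_eq_top with h | h
        · exact hV (eq_bot_iff.2 (Subgroup.le_normalClosure.trans h.le))
        · exact hV (eq_bot_iff.2 (hcenter ▸ fun z hz => Subgroup.mem_center_iff.2 fun y =>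
            (Subgroup.mem_centralizer_iff.1 (h1 (h.ge (Subgroup.mem_top y))) z hz).symm))
      rot := by
        obtain ⟨r, hr⟩ := (e.toMonoidHom.comp (QuotientGroup.mk' _)).range_eq_top.1
          (MonoidHom.range_eq_top.2 (e.surjective.comp (QuotientGroup.mk'_surjective _))) |> fun h =>
            h (DihedralGroup.r 1)
        have hmem : ∀ i : ℕ, (r : H) ^ i ∈ pCoreOf 2 G ↔ (DihedralGroup.r 1 : DihedralGroup q) ^ i = 1 := by
          intro i
          rw [← hr, ← map_pow]
          have h1 : r ^ i ∈ (pCoreOf 2 G).subgroupOf G ↔ (r : H) ^ i ∈ pCoreOf 2 G := by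
            rw [Subgroup.mem_subgroupOf, SubmonoidClass.coe_pow]
          rw [← h1, hQsub]
          exact ((MulEquiv.map_eq_one_iff e).trans (QuotientGroup.eq_one_iff _)).symm
        refine ⟨(r : H), r.2, fun h => ?_, (hmem q).2 DihedralGroup.r_one_pow_n, fun i h0 hi h => ?_⟩
        · have h2 := (hmem 1).1 (by rwa [pow_one])
          rw [pow_one, ← orderOf_eq_one_iff, DihedralGroup.orderOf_r_one] at h2
          exact hq.ne_one h2
        · have h2 := orderOf_dvd_of_pow_eq_one ((hmem i).1 h)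
          rw [DihedralGroup.orderOf_r_one] at h2
          exact absurd (Nat.le_of_dvd h0 h2) (by omega) }
  obtain rfl : q = 3 := A.q_eq_three
  obtain ⟨d3⟩ := SporB.dihedralThree_equiv
  -- the second parabolic
  set G' : Subgroup H := S4Amalgam.cj x G with hG'
  have hne : G' ≠ G := fun h => hxG (hGnorm.le (S4Amalgam.mem_normalizer_of_cj_eq h))
  have hSG' : S₀ ≤ G' := by
    rw [← S4Amalgam.cj_eq_of_mem_normalizer hxN]
    exact S4Amalgam.cj_mono x hSG
  have hinter : G ⊓ G' = S₀ := by
    by_contra h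
    have h1 := A.eq_of_gt (M := S₀) (K := G ⊓ G') A.relIndex_S.1 (le_inf hSG hSG') inf_le_left h
    have h2 : G ≤ G' := h1.ge.trans inf_le_right
    exact hne (Subgroup.eq_of_le_of_card_ge h2 (S4Amalgam.card_cj x G).le).symm
  let φ : ↥G ≃* ↥G' := G.equivMapOfInjective _ (MulAut.conj x).injective
  have hφc : (pCore 2 ↥G).map φ.toMonoidHom = pCore 2 ↥G' := Thompson.map_pCore_equiv φ
  have hQ' : pCoreOf 2 G' = S4Amalgam.cj x (pCoreOf 2 G) := by
    rw [pCoreOf, ← hφc, pCoreOf, S4Amalgam.cj, Subgroup.map_map, Subgroup.map_map]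
    rfl
  let B : S4Amalgam.Amalgam H :=
    { P := fun b => bif b then G' else G
      T := S₀
      fin := fun b => inferInstance
      gen := by
        refine hG.2 _ (lt_of_le_of_ne le_sup_left fun h => hne ?_)
        exact Subgroup.eq_of_le_of_card_ge (le_sup_right.trans h.ge) (S4Amalgam.card_cj x G).ge
      hT := hinter.symm
      hC := fun b => by
        cases b
        · exact hcharP
        · have key : G' ⊓ Subgroup.centralizer ((pCoreOf 2 G' : Subgroup H) : Set H) ≤ pCoreOf 2 G' := by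
            rw [hQ', ← S4Amalgam.cj_centralizer, hG', ← S4Amalgam.cj_inf]
            exact S4Amalgam.cj_mono x hcharP
          exact key
      hS := fun b => by
        cases b
        · exact ⟨S, hS₀sub.symm⟩
        · refine ⟨IsPGroup.toSylow (hS2.of_equiv (Subgroup.subgroupOfEquivOfLe hSG').symm) ?_, rfl⟩
          show ¬ 2 ∣ S₀.relIndex G'
          rw [← S4Amalgam.cj_eq_of_mem_normalizer hxN, hG', S4Amalgam.relIndex_cj]
          exact hSdvd
      core := fun N hN hle => by
        rcases hN.eq_bot_or_eq_top with h | h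
        · exact h
        · exact absurd (top_le_iff.1 ((h ▸ hle).trans hSG)) hG.1
      quot := fun b => by
        cases b
        · exact ⟨e.trans d3⟩
        · exact ⟨(QuotientGroup.congr (pCore 2 ↥G) (pCore 2 ↥G') φ hφc).symm.trans (e.trans d3)⟩
      act := fun b => by
        cases b
        · exact hact
        · show ¬ G' ≤ _
          rw [hG', ← hZ, ← hxZ, ← S4Amalgam.cj_centralizer, S4Amalgam.cj_le_cj_iff]
          exact hact }
  rcases B.main with ⟨⟨f⟩, -⟩ | ⟨⟨f⟩, -⟩
  · exact Or.inl ⟨f⟩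
  · exact Or.inr ⟨f.trans MulEquiv.prodComm⟩

end Cfsg.Agent.S2772
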