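import Cfsg.Statements.S2779
import Cfsg.Agent.LocalEven61.NaturalModule

set_option autoImplicit false
open Cfsg

namespace Cfsg.Agent.S2779

/-- Let L act on the elementary abelian p-group V (inside a finite group, by conjugation, faithfully) as SL₂(F) on its natural module, F a field with p^n elements, and let S be a Sylow p-subgroup of L. Then [V, S, S] = 1; |V| = p^(2n) and |C_V(S)| = p^n; and for every nonidentity s ∈ S and every v ∈ V outside C_V(S): C_V(s) = C_V(S) = [V, S] = [V, s] = the subgroup generated by the commutators [v, t], t ∈ S. -/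
theorem result {G : Type*} [Group G] [Finite G] {p : ℕ} [Fact p.Prime] {F : Type*} [Field F] [Fintype F] (n : ℕ) (hF : Fintype.card F = p ^ n) (V L : Subgroup G) (hnat : Cfsg.IsNaturalSL2Module F V L) (hf : L ⊓ Subgroup.centralizer (V : Set G) = ⊥) (S : Sylow p ↥L) (T : Subgroup G) (hT : T = ((S : Subgroup ↥L).map L.subtype)) : ⁅⁅V, T⁆, T⁆ = ⊥ ∧ Nat.card V = p ^ (2 * n) ∧ Nat.card ↥(V ⊓ Subgroup.centralizer ((T : Subgroup G) : Set G)) = p ^ n ∧ ∀ s ∈ T, s ≠ 1 → (V ⊓ Subgroup.centralizer ({s} : Set G)) = (V ⊓ Subgroup.centralizer ((T : Subgroup G) : Set G)) ∧ ⁅V, T⁆ = (V ⊓ Subgroup.centralizer ((T : Subgroup G) : Set G)) ∧ ⁅V, Subgroup.zpowers s⁆ = (V ⊓ Subgroup.centralizer ((T : Subgroup G) : Set G)) ∧ ∀ v ∈ V, v ∉ Subgroup.centralizer (T : Set G) → Subgroup.closure {x : G | ∃ t ∈ T, x = v * t * v⁻¹ * t⁻¹} = (V ⊓ Subgroup.centralizer ((T : Subgroup G) : Set G)) := by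
  haveI := LocalEven61.charP_of_card hF
  obtain ⟨c⟩ := LocalEven61.exists_natCoords hnat hf S hT
  have hTL : T ≤ L := hT ▸ Subgroup.map_subtype_le _
  have hq : Nat.card F = p ^ n := by rw [Nat.card_eq_fintype_card, hF]
  set C := V ⊓ Subgroup.centralizer ((T : Subgroup G) : Set G) with hC
  have hcomm : ∀ (t : G) (ht : t ∈ T) (w : Fin 2 → F),
      c.pt w * t * (c.pt w)⁻¹ * t⁻¹ ∈ C := by
    intro t ht w
    obtain ⟨a, ha⟩ := (c.mem_iff ⟨t, hTL ht⟩).1 ht
    rw [c.commutator_pt ⟨t, hTL ht⟩ w, ← ha, c.mem_fix_iff hTL]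
    show (w - ((PLocalB.upper a.toAdd : Matrix.SpecialLinearGroup (Fin 2) F) : Matrix (Fin 2) (Fin 2) F).mulVec w) 1 = 0
    rw [LocalEven61.NatCoords.upper_mulVec]; simp
  have hle : ⁅V, T⁆ ≤ C := by
    rw [Subgroup.commutator_le]
    intro v hv t ht
    obtain ⟨w, rfl⟩ := c.pt_surj v hv
    rw [commutatorElement_def]; exact hcomm t ht w
  refine ⟨?_, ?_, ?_, fun s hs hs1 => ?_⟩
  · rw [Subgroup.commutator_eq_bot_iff_le_centralizer]
    exact hle.trans inf_le_right
  · rw [c.card_module, hq, ← pow_mul, mul_comm]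
  · rw [c.card_fix hTL, hq]
  obtain ⟨b, hb⟩ := (c.mem_iff ⟨s, hTL hs⟩).1 hs
  have hb0 : b.toAdd ≠ 0 := by
    intro h0
    apply hs1
    have : c.rep ⟨s, hTL hs⟩ = c.rep 1 := by
      rw [← hb, map_one]
      show PLocalB.upper b.toAdd = 1
      rw [h0, PLocalB.upper_zero]
    exact congrArg Subtype.val (c.rep.injective this)
  have hsform : ∀ w, ((c.rep ⟨s, hTL hs⟩) : Matrix (Fin 2) (Fin 2) F).mulVec w =
      ![w 0 + b.toAdd * w 1, w 1] := fun w => by rw [← hb]; exact LocalEven61.NatCoords.upper_mulVec _ w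
  have hzle : Subgroup.zpowers s ≤ T := Subgroup.zpowers_le.2 hs
  have hsge : C ≤ ⁅V, Subgroup.zpowers s⁆ := c.fix_le_of hTL fun a => by
    have h1 := c.commutator_pt ⟨s, hTL hs⟩ ![0, -(a / b.toAdd)]
    rw [hsform] at h1
    have h2 : (![0, -(a / b.toAdd)] : Fin 2 → F) -
        ![(![0, -(a / b.toAdd)] : Fin 2 → F) 0 + b.toAdd * (![0, -(a / b.toAdd)] : Fin 2 → F) 1,
          (![0, -(a / b.toAdd)] : Fin 2 → F) 1] = ![a, 0] := by
      funext i; fin_cases i <;> simp [mul_div_cancel₀ _ hb0]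
    rw [h2] at h1
    rw [← h1]
    exact Subgroup.commutator_mem_commutator (c.pt_mem _) (Subgroup.mem_zpowers s)
  refine ⟨?_, le_antisymm hle (hsge.trans (Subgroup.commutator_mono le_rfl hzle)),
    le_antisymm ((Subgroup.commutator_mono le_rfl hzle).trans hle) hsge, fun v hv hvC => ?_⟩
  · refine le_antisymm (fun v hv => ?_)
      (inf_le_inf_left _ (Subgroup.centralizer_le (Set.singleton_subset_iff.2 hs)))
    obtain ⟨w, rfl⟩ := c.pt_surj v hv.1
    have := (c.commute_iff ⟨s, hTL hs⟩ w).1 (Subgroup.mem_centralizer_iff.1 hv.2 s rfl)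
    rw [hsform] at this
    have h1 : b.toAdd * w 1 = 0 := by simpa using congrFun this 0
    exact (c.mem_fix_iff hTL w).2 ((mul_eq_zero.1 h1).resolve_left hb0)
  · obtain ⟨w, rfl⟩ := c.pt_surj v hv
    have hw1 : w 1 ≠ 0 := fun h0 => hvC ((c.mem_fix_iff hTL w).2 h0).2
    refine le_antisymm ((Subgroup.closure_le _).2 ?_) (c.fix_le_of hTL fun a => ?_)
    · rintro _ ⟨t, ht, rfl⟩
      exact hcomm t ht w
    · obtain ⟨t, ht, hrep⟩ := c.exists_upper (-(a / w 1)) hTL
      refine Subgroup.subset_closure ⟨t, ht, ?_⟩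
      have h1 := c.commutator_pt ⟨t, hTL ht⟩ w
      rw [hrep, LocalEven61.NatCoords.upper_mulVec] at h1
      rw [h1]
      congr 1
      funext i; fin_cases i <;> simp [div_mul_cancel₀ _ hw1]

end Cfsg.Agent.S2779
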