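import Cfsg.Statements.S2780
import Cfsg.Agent.LocalEven61.NaturalModule

set_option autoImplicit false
open Cfsg

namespace Cfsg.Agent.S2780

/-- A matrix of determinant one fixing a nonzero vector has order dividing the characteristic. -/
theorem fixed_pow_eq_one {F : Type*} [Field F] {p : ℕ} [CharP F p]
    (A : Matrix.SpecialLinearGroup (Fin 2) F) {w : Fin 2 → F} (hw : w ≠ 0)
    (h : (A : Matrix (Fin 2) (Fin 2) F).mulVec w = w) : A ^ p = 1 := by
  have h0 := congrFun h 0
  have h1 := congrFun h 1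
  rw [LocalEven61.sl2_smul_apply] at h0 h1
  have hd := PLocalB.det_entries A
  have htr : A 0 0 + A 1 1 = 2 := by
    by_contra hne
    have hne' : (2 : F) - (A 0 0 + A 1 1) ≠ 0 := sub_ne_zero.2 (Ne.symm hne)
    apply hw
    funext i
    fin_cases i
    · exact (mul_eq_zero.1 (show (2 - (A 0 0 + A 1 1)) * w 0 = 0 by
        linear_combination (A 1 1 - 1) * h0 - A 0 1 * h1 - w 0 * hd)).resolve_left hne'
    · exact (mul_eq_zero.1 (show (2 - (A 0 0 + A 1 1)) * w 1 = 0 by
        linear_combination (A 0 0 - 1) * h1 - A 1 0 * h0 - w 1 * hd)).resolve_left hne'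
  set N : Matrix (Fin 2) (Fin 2) F := (A : Matrix (Fin 2) (Fin 2) F) - 1 with hN
  have hNN : N * N = 0 := by
    ext i j
    fin_cases i <;> fin_cases j <;> simp [hN, Matrix.mul_apply, Fin.sum_univ_two]
    · linear_combination A 0 0 * htr - hd
    · linear_combination A 0 1 * htr
    · linear_combination A 1 0 * htr
    · linear_combination A 1 1 * htr - hd
  have hk : ∀ k : ℕ, ((A : Matrix (Fin 2) (Fin 2) F)) ^ k = 1 + k • N := by
    intro k
    induction k with
    | zero => simp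
    | succ k ih =>
      have hA : (A : Matrix (Fin 2) (Fin 2) F) = 1 + N := by rw [hN]; abel
      rw [pow_succ, ih, hA]
      rw [add_mul, one_mul, smul_mul_assoc, mul_add, mul_one, hNN, add_zero, succ_nsmul]
      abel
  apply Subtype.ext
  rw [Matrix.SpecialLinearGroup.coe_pow, hk p, Matrix.SpecialLinearGroup.coe_one]
  ext i j
  simp [CharP.cast_eq_zero]

/-- Let L act on the elementary abelian p-group V (inside a finite group, faithfully) as SL₂(F) on its natural module, F a field with p^n elements, S a Sylow p-subgroup of L. Then: for every g ∈ L not normalizing S, V is the internal direct product of C_V(S) and C_V(gSg⁻¹); every nonidentity element of L of order prime to p acts on V without nonidentity fixed points; and C_V(S) and V/C_V(S) are irreducible for N_L(S): the only N_L(S)-invariant subgroups of C_V(S) are 1 and C_V(S), and the only N_L(S)-invariant subgroups between C_V(S) and V are those two. -/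
theorem result {G : Type*} [Group G] [Finite G] {p : ℕ} [Fact p.Prime] {F : Type*} [Field F] [Fintype F] (n : ℕ) (hF : Fintype.card F = p ^ n) (V L : Subgroup G) (hnat : Cfsg.IsNaturalSL2Module F V L) (hf : L ⊓ Subgroup.centralizer (V : Set G) = ⊥) (S : Sylow p ↥L) (T : Subgroup G) (hT : T = ((S : Subgroup ↥L).map L.subtype)) : (∀ g ∈ L, g ∉ Subgroup.normalizer (T : Set G) → Cfsg.IsInternalDirectProduct (V ⊓ Subgroup.centralizer ((T : Subgroup G) : Set G)) (V ⊓ Subgroup.centralizer ((T.map (MulAut.conj g).toMonoidHom : Subgroup G) : Set G)) V) ∧ (∀ x ∈ L, x ≠ 1 → (orderOf x).Coprime p → (V ⊓ Subgroup.centralizer ({x} : Set G)) = ⊥) ∧ (∀ U : Subgroup G, U ≤ (V ⊓ Subgroup.centralizer ((T : Subgroup G) : Set G)) → L ⊓ Subgroup.normalizer (T : Set G) ≤ Subgroup.normalizer (U : Set G) → U = ⊥ ∨ U = (V ⊓ Subgroup.centralizer ((T : Subgroup G) : Set G))) ∧ (∀ U : Subgroup G, (V ⊓ Subgroup.centralizer ((T : Subgroup G) : Set G)) ≤ U → U ≤ V → L ⊓ Subgroup.normalizer (T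 : Set G) ≤ Subgroup.normalizer (U : Set G) → U = (V ⊓ Subgroup.centralizer ((T : Subgroup G) : Set G)) ∨ U = V) := by
  haveI := LocalEven61.charP_of_card hF
  obtain ⟨c⟩ := LocalEven61.exists_natCoords hnat hf S hT
  have hTL : T ≤ L := hT ▸ Subgroup.map_subtype_le _
  have hpt : ∀ {U : Subgroup G}, L ⊓ Subgroup.normalizer (T : Set G) ≤ Subgroup.normalizer (U : Set G) →
      ∀ w, c.pt w ∈ U → ∀ t : F, t ≠ 0 → c.pt ![t * w 0, t⁻¹ * w 1] ∈ U := by
    intro U hU w hw t ht
    obtain ⟨l, hl, hlw⟩ := c.exists_diag hTL t ht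
    have := ((Subgroup.mem_normalizer_iff.1 (hU hl)) (c.pt w)).1 hw
    rwa [c.pt_conj, hlw] at this
  refine ⟨fun g hg hgN => ?_, fun x hxL hx1 hcop => ?_, fun U hU hinv => ?_, fun U hU hUV hinv => ?_⟩
  · set A := c.rep ⟨g, hg⟩ with hA
    have h10 : A 1 0 ≠ 0 := by
      intro h0
      apply hgN
      have hn := LocalEven61.borel_normalizes h0
      rw [Subgroup.mem_normalizer_iff]
      intro x
      constructor
      · intro hx
        refine (c.mem_iff (⟨g, hg⟩ * ⟨x, hTL hx⟩ * ⟨g, hg⟩⁻¹)).2 ?_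
        rw [map_mul, map_mul, map_inv]
        exact ((Subgroup.mem_normalizer_iff.1 hn) _).1 ((c.mem_iff _).1 hx)
      · intro hx
        have hxL : x ∈ L := by
          simpa [mul_assoc] using L.mul_mem (L.mul_mem (L.inv_mem hg) (hTL hx)) hg
        refine (c.mem_iff ⟨x, hxL⟩).2 (((Subgroup.mem_normalizer_iff.1 hn) _).2 ?_)
        have h1 := (c.mem_iff (⟨g, hg⟩ * ⟨x, hxL⟩ * ⟨g, hg⟩⁻¹)).1 hx
        rwa [map_mul, map_mul, map_inv] at h1
    have hfix : ∀ w, c.pt w ∈ V ⊓ Subgroup.centralizer ((T.map (MulAut.conj g).toMonoidHom : Subgroup G) : Set G) ↔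
        ∃ a : F, w = ![A 0 0 * a, A 1 0 * a] := by
      intro w
      have hw0 : c.pt w = g * c.pt (((A⁻¹ : Matrix.SpecialLinearGroup (Fin 2) F) : Matrix (Fin 2) (Fin 2) F).mulVec w) * g⁻¹ := by
        rw [c.pt_conj ⟨g, hg⟩, Matrix.mulVec_mulVec, ← Matrix.SpecialLinearGroup.coe_mul, ← hA,
          mul_inv_cancel, Matrix.SpecialLinearGroup.coe_one, Matrix.one_mulVec]
      set u := ((A⁻¹ : Matrix.SpecialLinearGroup (Fin 2) F) : Matrix (Fin 2) (Fin 2) F).mulVec w with hu
      rw [← LocalEven61.centralizer_map_conj]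
      have hiff : c.pt w ∈ (Subgroup.centralizer (T : Set G)).map (MulAut.conj g).toMonoidHom ↔
          c.pt u ∈ Subgroup.centralizer (T : Set G) := by
        rw [LocalEven61.mem_map_conj, hw0]
        simp [mul_assoc]
      rw [Subgroup.mem_inf, hiff]
      constructor
      · rintro ⟨-, h⟩
        have h1 := (c.mem_fix_iff hTL u).1 ⟨c.pt_mem u, h⟩
        refine ⟨u 0, ?_⟩
        have h2 : (A : Matrix (Fin 2) (Fin 2) F).mulVec u = w := by
          rw [hu, Matrix.mulVec_mulVec, ← Matrix.SpecialLinearGroup.coe_mul, mul_inv_cancel,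
            Matrix.SpecialLinearGroup.coe_one, Matrix.one_mulVec]
        rw [← h2]
        funext i
        rw [LocalEven61.sl2_smul_apply]
        fin_cases i <;> simp [h1]
      · rintro ⟨a, rfl⟩
        refine ⟨c.pt_mem _, ((c.mem_fix_iff hTL u).2 ?_).2⟩
        rw [hu, LocalEven61.sl2_smul_apply]
        simp [Matrix.SpecialLinearGroup.coe_inv, Matrix.adjugate_fin_two]
        ring
    refine ⟨inf_le_left, inf_le_left, ?_, ?_, ?_⟩
    · intro a ha b hb
      obtain ⟨w, rfl⟩ := c.pt_surj a ha.1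
      obtain ⟨w', rfl⟩ := c.pt_surj b hb.1
      rw [← c.pt_add, add_comm, c.pt_add]
    · rw [eq_bot_iff]
      rintro v ⟨h1, h2⟩
      obtain ⟨w, rfl⟩ := c.pt_surj v h1.1
      obtain ⟨a, rfl⟩ := (hfix w).1 h2
      have h3 : A 1 0 * a = 0 := by simpa using (c.mem_fix_iff hTL _).1 h1
      rw [(mul_eq_zero.1 h3).resolve_left h10, Subgroup.mem_bot, ← c.pt_zero]
      congr 1
      funext i; fin_cases i <;> simp
    · refine le_antisymm (sup_le inf_le_left inf_le_left) fun v hv => ?_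
      obtain ⟨w, rfl⟩ := c.pt_surj v hv
      set a := w 1 / A 1 0 with ha
      have h2 : w = ![w 0 - A 0 0 * a, 0] + ![A 0 0 * a, A 1 0 * a] := by
        funext i; fin_cases i <;> simp [ha, mul_div_cancel₀ _ h10]
      rw [h2, c.pt_add]
      exact Subgroup.mul_mem_sup ((c.mem_fix_iff hTL _).2 (by simp)) ((hfix _).2 ⟨a, rfl⟩)
  · rw [eq_bot_iff]
    rintro v ⟨hv, hvx⟩
    obtain ⟨w, rfl⟩ := c.pt_surj v hv
    have h := (c.commute_iff ⟨x, hxL⟩ w).1 (Subgroup.mem_centralizer_iff.1 hvx x rfl)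
    by_contra hne
    have hw : w ≠ 0 := fun h0 => hne (by rw [Subgroup.mem_bot, h0, c.pt_zero])
    set A := c.rep ⟨x, hxL⟩ with hA
    have hpow : A ^ p = 1 := fixed_pow_eq_one A hw h
    have hAx : A ^ orderOf x = 1 := by
      rw [hA, ← map_pow, show (⟨x, hxL⟩ : ↥L) ^ orderOf x = 1 from Subtype.ext (pow_orderOf_eq_one x),
        map_one]
    have h1 : A = 1 := orderOf_eq_one_iff.1 (Nat.eq_one_of_dvd_coprimes hcop
      (orderOf_dvd_of_pow_eq_one hAx) (orderOf_dvd_of_pow_eq_one hpow))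
    exact hx1 (congrArg Subtype.val (c.rep.injective (h1.trans c.rep.map_one.symm)))
  · by_cases hb : U = ⊥
    · exact Or.inl hb
    right
    refine le_antisymm hU ?_
    obtain ⟨v, hvU, hv1⟩ : ∃ v ∈ U, v ≠ 1 := by
      by_contra! hall
      exact hb ((Subgroup.eq_bot_iff_forall _).2 hall)
    obtain ⟨w, rfl⟩ := c.pt_surj v (hU hvU).1
    have hw1 := (c.mem_fix_iff hTL w).1 (hU hvU)
    have hw0 : w 0 ≠ 0 := fun h0 => hv1 (by
      rw [← c.pt_zero]; congr 1; funext i; fin_cases i <;> simp [h0, hw1])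
    refine c.fix_le_of hTL fun a => ?_
    rcases eq_or_ne a 0 with rfl | ha
    · rw [show (![0, 0] : Fin 2 → F) = 0 from by funext i; fin_cases i <;> simp, c.pt_zero]
      exact one_mem _
    · have := hpt hinv w hvU (a / w 0) (div_ne_zero ha hw0)
      rwa [hw1, mul_zero, div_mul_cancel₀ _ hw0] at this
  · by_cases hb : U ≤ V ⊓ Subgroup.centralizer ((T : Subgroup G) : Set G)
    · exact Or.inl (le_antisymm hb hU)
    right
    obtain ⟨v, hvU, hvC⟩ := SetLike.not_le_iff_exists.1 hb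
    obtain ⟨w, rfl⟩ := c.pt_surj v (hUV hvU)
    have hw1 : w 1 ≠ 0 := fun h0 => hvC ((c.mem_fix_iff hTL w).2 h0)
    refine le_antisymm hUV fun z hz => ?_
    obtain ⟨u, rfl⟩ := c.pt_surj z hz
    rcases eq_or_ne (u 1) 0 with h0 | h0
    · exact hU ((c.mem_fix_iff hTL u).2 h0)
    · have h2 := hpt hinv w hvU (w 1 / u 1) (div_ne_zero hw1 h0)
      have h3 : u = ![u 0 - w 1 / u 1 * w 0, 0] + ![w 1 / u 1 * w 0, (w 1 / u 1)⁻¹ * w 1] := by
        funext i; fin_cases i <;> simp [inv_div, div_mul_cancel₀ _ hw1]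
      rw [h3, c.pt_add]
      exact mul_mem (hU ((c.mem_fix_iff hTL _).2 (by simp))) h2

end Cfsg.Agent.S2780
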