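import Cfsg.Statements.S2781
import Cfsg.Agent.LocalEven61.Conj
import Cfsg.Agent.Lib.Thompson.Cores

set_option autoImplicit false
set_option linter.style.haveILetI false
open Cfsg

namespace Cfsg.Agent.S2781

theorem mem_of_pow_coprime {G : Type*} [Group G] {W : Subgroup G} {v : G} {n p : ℕ}
    (hvp : v ^ p = 1) (hcop : n.Coprime p) (h : v ^ n ∈ W) : v ∈ W := by
  have : v = v ^ ((n : ℤ) * n.gcdA p + (p : ℤ) * n.gcdB p) := by
    rw [← Nat.gcd_eq_gcd_ab, hcop.gcd_eq_one, Nat.cast_one, zpow_one]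
  rw [this, zpow_add, zpow_mul, zpow_mul, zpow_natCast, zpow_natCast, hvp, one_zpow, mul_one]
  exact W.zpow_mem h _

theorem commutator_le_of_normalizes {G : Type*} [Group G] {V R : Subgroup G}
    (h : R ≤ Subgroup.normalizer (V : Set G)) : ⁅V, R⁆ ≤ V := by
  rw [Subgroup.commutator_le]
  intro v hv r hr
  rw [commutatorElement_def, mul_assoc, mul_assoc, ← mul_assoc r]
  exact V.mul_mem hv ((Subgroup.mem_normalizer_iff.1 (h hr) v⁻¹).1 (V.inv_mem hv))

/- Averaging a `T`-fixed element of `V` over the cosets of `T` in `R`. -/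
open scoped IsMulCommutative in
theorem average_mem {G : Type*} [Group G] [Finite G] {V R : Subgroup G} (hV : IsMulCommutative ↥V)
    (hRn : R ≤ Subgroup.normalizer (V : Set G)) {v : G} (hv : v ∈ V) (T : Subgroup G)
    (hvT : ∀ t ∈ T, t * v = v * t) :
    ∃ P : G, P ∈ V ⊓ Subgroup.centralizer (R : Set G) ∧
      P * (v ^ (T.subgroupOf R).index)⁻¹ ∈ ⁅V, R⁆ := by
  classical
  haveI := hV
  haveI : Fintype (↥R ⧸ T.subgroupOf R) := Fintype.ofFinite _
  let f : ↥R ⧸ T.subgroupOf R → ↥V := fun q => Quotient.liftOn' q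
    (fun r => (⟨(r : G) * v * (r : G)⁻¹, (Subgroup.mem_normalizer_iff.1 (hRn r.2) v).1 hv⟩ : ↥V))
    fun a b hab => by
      rw [QuotientGroup.leftRel_apply] at hab
      have h := hvT _ (Subgroup.mem_subgroupOf.1 hab)
      refine Subtype.ext ?_
      simp only [Subgroup.coe_mul, Subgroup.coe_inv] at h
      show (a : G) * v * (a : G)⁻¹ = b * v * (b : G)⁻¹
      calc (a : G) * v * (a : G)⁻¹
          = (a : G) * (v * ((a : G)⁻¹ * b)) * (b : G)⁻¹ := by group
        _ = (a : G) * (((a : G)⁻¹ * b) * v) * (b : G)⁻¹ := by rw [h]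
        _ = b * v * (b : G)⁻¹ := by group
  have hf : ∀ r : ↥R, (f (r : ↥R ⧸ T.subgroupOf R) : G) = (r : G) * v * (r : G)⁻¹ := fun r => rfl
  refine ⟨((∏ q, f q : ↥V) : G), ⟨(∏ q, f q : ↥V).2, ?_⟩, ?_⟩
  · refine Subgroup.mem_centralizer_iff.2 ?_
    intro r hr
    let e : ↥V →* ↥V :=
      { toFun := fun w => ⟨r * w * r⁻¹, (Subgroup.mem_normalizer_iff.1 (hRn hr) w).1 w.2⟩
        map_one' := Subtype.ext (by simp)
        map_mul' := fun a b => Subtype.ext (by simp [mul_assoc]) }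
    have h1 : e (∏ q, f q) = ∏ q, f q := by
      rw [map_prod]
      refine Fintype.prod_equiv (MulAction.toPerm (⟨r, hr⟩ : ↥R)) _ _ fun q => ?_
      induction q using QuotientGroup.induction_on with | H a => ?_
      refine Subtype.ext ?_
      show r * (f (a : ↥R ⧸ T.subgroupOf R) : G) * r⁻¹ = (f ((⟨r, hr⟩ * a : ↥R) : ↥R ⧸ _) : G)
      rw [hf, hf]
      simp [mul_assoc]
    have h2 : r * ((∏ q, f q : ↥V) : G) * r⁻¹ = ((∏ q, f q : ↥V) : G) := congrArg Subtype.val h1
    exact mul_inv_eq_iff_eq_mul.1 h2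
  · have h1 : (∏ q, f q) * ((⟨v, hv⟩ : ↥V) ^ (T.subgroupOf R).index)⁻¹ =
        ∏ q, f q * (⟨v, hv⟩ : ↥V)⁻¹ := by
      rw [Finset.prod_mul_distrib, Finset.prod_const, Finset.card_univ, ← Nat.card_eq_fintype_card,
        inv_pow]
      rfl
    have h2 : (∏ q, f q * (⟨v, hv⟩ : ↥V)⁻¹) ∈ ⁅V, R⁆.subgroupOf V := by
      refine Subgroup.prod_mem _ fun q _ => ?_
      induction q using QuotientGroup.induction_on with | H a => ?_
      rw [Subgroup.mem_subgroupOf]
      show (f (a : ↥R ⧸ T.subgroupOf R) : G) * v⁻¹ ∈ ⁅V, R⁆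
      rw [hf]
      have := Subgroup.commutator_mem_commutator a.2 hv
      rwa [Subgroup.commutator_comm, commutatorElement_def] at this
    rw [← h1, Subgroup.mem_subgroupOf] at h2
    simpa using h2

/-- Let H act faithfully by conjugation on the elementary abelian p-subgroup V of a finite group, let O^p(H) be the subgroup of H generated by its elements of order prime to p, and T a Sylow p-subgroup of O^p(H). If V is generated by the H-conjugates of C_V(T) (V is the smallest H-invariant subgroup containing C_V(T)), then V = [V, O^p(H)]·C_V(O^p(H)). -/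
theorem result {G : Type*} [Group G] [Finite G] {p : ℕ} [Fact p.Prime] (V H : Subgroup G) (hV : Cfsg.IsElementaryAbelian p V) (hHV : H ≤ Subgroup.normalizer (V : Set G)) (hf : H ⊓ Subgroup.centralizer (V : Set G) = ⊥) (R : Subgroup G) (hR : R = (Cfsg.pResidual p ↥H).map H.subtype) (S : Sylow p ↥R) (T : Subgroup G) (hT : T = ((S : Subgroup ↥R).map R.subtype)) (hgen : ∀ W : Subgroup G, H ≤ Subgroup.normalizer (W : Set G) → (V ⊓ Subgroup.centralizer ((T : Subgroup G) : Set G)) ≤ W → V ≤ W) : ⁅V, R⁆ ⊔ (V ⊓ Subgroup.centralizer ((R : Subgroup G) : Set G)) = V := by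
  classical
  set TR := T.subgroupOf R with hTR
  have hcop : TR.index.Coprime p := by
    refine ((Nat.Prime.coprime_iff_not_dvd Fact.out).2 ?_).symm
    have : TR = (S : Subgroup ↥R) := by
      rw [hTR, hT]
      exact Subgroup.comap_map_eq_self_of_injective R.subtype_injective _
    rw [this]
    exact S.not_dvd_index
  have hRH : R ≤ H := hR ▸ Subgroup.map_subtype_le _
  have hRn : R ≤ Subgroup.normalizer (V : Set G) := hRH.trans hHV
  have hHR : H ≤ Subgroup.normalizer (R : Set G) := by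
    intro g hg
    have key : ∀ g ∈ H, ∀ x ∈ R, g * x * g⁻¹ ∈ R := by
      intro g hg x hx
      rw [hR] at hx ⊢
      obtain ⟨y, hy, rfl⟩ := hx
      exact ⟨⟨g, hg⟩ * y * ⟨g, hg⟩⁻¹, (Subgroup.normal_of_characteristic (Cfsg.pResidual p ↥H)).conj_mem y hy _, rfl⟩
    rw [Subgroup.mem_normalizer_iff]
    refine fun x => ⟨key g hg x, fun hx => ?_⟩
    simpa [mul_assoc] using key g⁻¹ (H.inv_mem hg) _ hx
  set B := V ⊓ Subgroup.centralizer (R : Set G) with hB
  have hcomm_le : ⁅V, R⁆ ≤ V := commutator_le_of_normalizes hRn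
  have hW : H ≤ Subgroup.normalizer ((⁅V, R⁆ ⊔ B : Subgroup G) : Set G) := by
    intro g hg
    have e : (⁅V, R⁆ ⊔ B).map (MulAut.conj g).toMonoidHom = ⁅V, R⁆ ⊔ B := by
      have eV := LocalEven61.map_conj_of_mem_normalizer' (hHV hg)
      have eR := LocalEven61.map_conj_of_mem_normalizer' (hHR hg)
      rw [Subgroup.map_sup, Subgroup.map_commutator, hB,
        Subgroup.map_inf _ _ (MulAut.conj g).toMonoidHom (MulAut.conj g).injective,
        LocalEven61.centralizer_map_conj, eV, eR]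
    exact LocalEven61.mem_normalizer_of_map_eq e
  refine le_antisymm (sup_le hcomm_le inf_le_left) (hgen _ hW ?_)
  rintro v ⟨hv, hvT⟩
  have hvT' : ∀ t ∈ T, t * v = v * t := fun t ht => Subgroup.mem_centralizer_iff.1 hvT t ht
  obtain ⟨P, hP1, hP2⟩ := average_mem hV.1 hRn hv T hvT'
  have hpow : v ^ TR.index ∈ ⁅V, R⁆ ⊔ B := by
    have h1 : v ^ TR.index = (P * (v ^ TR.index)⁻¹)⁻¹ * P := by group
    rw [h1]
    exact mul_mem (inv_mem (Subgroup.mem_sup_left hP2)) (Subgroup.mem_sup_right hP1)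
  exact (mem_of_pow_coprime (hV.2 v hv) hcop hpow)

end Cfsg.Agent.S2781
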