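import Cfsg.Statements.S2787
import Cfsg.Agent.PLocalB.QuatSection
import Cfsg.Agent.PLocalB.QuadAction

set_option autoImplicit false
set_option linter.style.haveILetI false
open Cfsg

open scoped MatrixGroups

namespace Cfsg.Agent.S2787

/-- An irreducible group without `SL(2, p)` sections has no nontrivial quadratic element. -/
theorem eq_one_of_quadratic {G : Type*} [Group G] [Finite G] {p : ℕ} [Fact p.Prime] (hp : p ≠ 2)
    {V : Subgroup G} (hV : Cfsg.IsElementaryAbelian p V) {Q : Subgroup (MulAut V)}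
    (hirr : ∀ U : Subgroup V, (∀ q ∈ Q, ∀ u ∈ U, q u ∈ U) → U = ⊥ ∨ U = ⊤)
    (hno : ∀ (L : Subgroup Q) (π : L →* SL(2, ZMod p)), ¬ Function.Surjective π)
    {a : MulAut V} (ha : a ∈ Q) (hq : ∀ w : V, a (a w * w⁻¹) = a w * w⁻¹) : a = 1 := by
  letI : CommGroup ↥V := { (inferInstance : Group ↥V) with mul_comm := hV.1.is_comm.comm }
  have hpow : ∀ w : V, w ^ p = 1 := fun w => Subtype.ext (by simpa using hV.2 w.1 w.2)
  have hVp : IsPGroup p V := fun w => ⟨1, by rw [pow_one, hpow]⟩
  -- no normal `p`-subgroups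
  have hcore : ∀ N : Subgroup Q, N.Normal → IsPGroup p N → N = ⊥ := by
    intro N hN hNp
    let U : Subgroup V :=
      { carrier := {w | ∀ n ∈ N, (n : MulAut V) w = w}
        one_mem' := fun n _ => map_one _
        mul_mem' := fun {x y} hx hy n hn => by rw [map_mul, hx n hn, hy n hn]
        inv_mem' := fun {x} hx n hn => by rw [map_inv, hx n hn] }
    have hU : ∀ q ∈ Q, ∀ u ∈ U, q u ∈ U := fun q hq u hu n hn => by
      have h1 := hu _ (hN.conj_mem n hn ⟨q, hq⟩⁻¹)
      simp only [inv_inv, Subgroup.coe_mul, InvMemClass.coe_inv, MulAut.mul_apply] at h1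
      conv_rhs => rw [← h1]
      simp
    rcases hirr U hU with h | h
    · letI : MulAction ↥N ↥V := MulAction.compHom _ ((Q.subtype).comp N.subtype)
      have hfix : ∀ w : V, w ∈ MulAction.fixedPoints N V ↔ w ∈ U :=
        fun w => ⟨fun hw n hn => hw ⟨n, hn⟩, fun hw n => hw n n.2⟩
      by_cases hV1 : ∀ w : V, w = 1
      · rw [Subgroup.eq_bot_iff_forall]
        exact fun n _ => Subtype.ext (MulEquiv.ext fun w => (hV1 _).trans (hV1 _).symm)
      push Not at hV1
      obtain ⟨w, hw⟩ := hV1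
      have hdvd : p ∣ Nat.card V := by
        have := orderOf_eq_prime (hpow w) hw
        exact this ▸ orderOf_dvd_natCard w
      obtain ⟨b, hb, hb1⟩ := hNp.exists_fixed_point_of_prime_dvd_card_of_fixed_point V hdvd
        (a := (1 : V)) (fun n => map_one (((n : Q) : MulAut V)))
      exact absurd (Subgroup.mem_bot.1 (h ▸ (hfix b).1 hb)) hb1.symm
    · rw [Subgroup.eq_bot_iff_forall]
      intro n hn
      refine Subtype.ext (MulEquiv.ext fun w => ?_)
      exact (h ▸ Subgroup.mem_top w : w ∈ U) n hn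
  by_contra ha1
  obtain ⟨g, hg⟩ : ∃ g : Q, ¬ IsPGroup p
      (Subgroup.closure ({⟨a, ha⟩, g * ⟨a, ha⟩ * g⁻¹} : Set Q)) := by
    by_contra h
    push Not at h
    obtain ⟨N, hN, hNp, hxN⟩ := Involution.baerSuzuki (⟨a, ha⟩ : Q) h
    rw [hcore N hN hNp, Subgroup.mem_bot] at hxN
    exact ha1 (congrArg Subtype.val hxN)
  set X : Subgroup Q := Subgroup.closure ({⟨a, ha⟩, g * ⟨a, ha⟩ * g⁻¹} : Set Q) with hX
  let α : X →* MulAut V := Q.subtype.comp X.subtype
  obtain ⟨L, π, -, hπ, -, -⟩ := PLocalB.quad_pair_mulAut hp (W := V) hpow α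
    ⟨_, Subgroup.subset_closure (Set.mem_insert _ _)⟩
    ⟨_, Subgroup.subset_closure (Set.mem_insert_of_mem _ rfl)⟩ (by
      apply Subgroup.map_injective X.subtype_injective
      rw [MonoidHom.map_closure, ← MonoidHom.range_eq_map, Subgroup.range_subtype, Set.image_pair]
      rfl)
    (fun w => by
      show a (a w / w) = a w / w
      rw [div_eq_mul_inv]
      exact hq w)
    (fun w => by
      show ((g : MulAut V) * a * (g : MulAut V)⁻¹) (((g : MulAut V) * a * (g : MulAut V)⁻¹) w / w) =
        ((g : MulAut V) * a * (g : MulAut V)⁻¹) w / w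
      obtain ⟨u, rfl⟩ := (g : MulAut V).surjective w
      simp only [MulAut.mul_apply, MulAut.inv_apply_self, ← map_div]
      rw [div_eq_mul_inv, hq])
    (fun h => hg fun z => by
      obtain ⟨j, hj⟩ := h z
      exact ⟨j, Subtype.ext (Subtype.ext (by simpa [α] using hj))⟩)
  exact hno (L.map X.subtype) (π.comp (L.equivMapOfInjective _ X.subtype_injective).symm.toMonoidHom)
    (hπ.comp (L.equivMapOfInjective _ X.subtype_injective).symm.surjective)

/-- Let p be a prime and let H act by conjugation on the elementary abelian p-subgroup V of a finite group, irreducibly (no H-invariant subgroups of V other than 1 and V) and nontrivially, and suppose H/C_H(V) is isomorphic to PSL₂(F) for a field F with p^n elements, p^n odd, or p = 3 and H/C_H(V) is isomorphic to a Ree group ²G₂(3^(2m+1)), m ≥ 1. Then no subgroup A of H acting nontrivially on V acts quadratically: [V, A, A] = 1 forces [V, A] = 1. -/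
theorem result {G : Type*} [Group G] [Finite G] {p : ℕ} [Fact p.Prime] (V H : Subgroup G) (hV : Cfsg.IsElementaryAbelian p V) (hHV : H ≤ Subgroup.normalizer (V : Set G)) (hirr : ∀ U : Subgroup G, U ≤ V → H ≤ Subgroup.normalizer (U : Set G) → U = ⊥ ∨ U = V) (hnt : ¬ H ≤ Subgroup.centralizer (V : Set G)) [hn : ((Subgroup.centralizer (V : Set G)).subgroupOf H).Normal] (hq : (∃ (F : Type) (_ : Field F) (_ : Fintype F) (n : ℕ), Fintype.card F = p ^ n ∧ Odd (Fintype.card F) ∧ Nonempty (↥H ⧸ (Subgroup.centralizer (V : Set G)).subgroupOf H ≃* Matrix.ProjectiveSpecialLinearGroup (Fin 2) F)) ∨ (p = 3 ∧ Cfsg.Lie.IsoRee (↥H ⧸ (Subgroup.centralizer (V : Set G)).subgroupOf H))) (A : Subgroup G) (hA : A ≤ H) (hquad : ⁅⁅V, A⁆, A⁆ = ⊥) : ⁅V, A⁆ = ⊥ := by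
  let α : H →* MulAut V := (Subgroup.normalizerMonoidHom V).comp (Subgroup.inclusion hHV)
  have hα : ∀ (h : H) (w : V), ((α h w : V) : G) = (h : G) * w * (h : G)⁻¹ := fun h w => rfl
  have hker : α.ker = (Subgroup.centralizer (V : Set G)).subgroupOf H := by
    ext h
    rw [MonoidHom.mem_ker, MonoidHom.comp_apply, ← MonoidHom.mem_ker,
      Subgroup.normalizerMonoidHom_ker, Subgroup.mem_subgroupOf, Subgroup.mem_subgroupOf,
      Subgroup.coe_inclusion]
  let e : (↥H ⧸ (Subgroup.centralizer (V : Set G)).subgroupOf H) ≃* α.range :=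
    (QuotientGroup.quotientMulEquivOfEq hker.symm).trans (QuotientGroup.quotientKerEquivRange α)
  have hp : p ≠ 2 := by
    rcases hq with ⟨F, _, _, n, hc, ho, -⟩ | ⟨h3, -⟩
    · rintro rfl
      rcases n with _ | n
      · have := Fintype.one_lt_card (α := F); rw [hc, pow_zero] at this; omega
      · rw [hc, pow_succ'] at ho
        exact Nat.not_odd_iff_even.2 (even_two_mul _) ho
    · omega
  have hno : ∀ (L : Subgroup α.range) (π : L →* SL(2, ZMod p)), ¬ Function.Surjective π := by
    intro L π hπ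
    let L' := L.map e.symm.toMonoidHom
    let π' : L' →* SL(2, ZMod p) :=
      π.comp (L.equivMapOfInjective e.symm.toMonoidHom e.symm.injective).symm.toMonoidHom
    have hπ' : Function.Surjective π' := hπ.comp (L.equivMapOfInjective e.symm.toMonoidHom e.symm.injective).symm.surjective
    rcases hq with ⟨F, _, _, n, hc, ho, ⟨f⟩⟩ | ⟨-, hR⟩
    · exact PLocalB.QuatSec.psl_no_section hp ho (L'.map f.toMonoidHom)
        (π'.comp (L'.equivMapOfInjective f.toMonoidHom f.injective).symm.toMonoidHom)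
        (hπ'.comp (L'.equivMapOfInjective f.toMonoidHom f.injective).symm.surjective)
    · exact PLocalB.QuatSec.ree_no_section hp hR L' π' hπ'
  rw [Subgroup.commutator_eq_bot_iff_le_centralizer]
  intro v hv
  rw [Subgroup.mem_centralizer_iff]
  intro a ha
  have hirr' : ∀ U : Subgroup V, (∀ q ∈ α.range, ∀ u ∈ U, q u ∈ U) → U = ⊥ ∨ U = ⊤ := by
    intro U hU
    rcases hirr (U.map V.subtype) (Subgroup.map_subtype_le _) (fun h hh => by
        rw [Subgroup.mem_normalizer_iff]
        have hfwd : ∀ k : H, ∀ x ∈ U.map V.subtype, (k : G) * x * (k : G)⁻¹ ∈ U.map V.subtype := by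
          rintro k _ ⟨u, hu, rfl⟩
          exact ⟨α k u, hU _ ⟨k, rfl⟩ u hu, hα k u⟩
        refine fun x => ⟨fun hx => hfwd ⟨h, hh⟩ x hx, fun hx => ?_⟩
        have := hfwd (⟨h, hh⟩⁻¹) _ hx
        simpa [mul_assoc] using this) with h | h
    · exact Or.inl ((Subgroup.map_eq_bot_iff_of_injective _ V.subtype_injective).1 h)
    · right
      apply Subgroup.map_injective V.subtype_injective
      rw [h, ← MonoidHom.range_eq_map, Subgroup.range_subtype]
  have h1 := eq_one_of_quadratic hp hV hirr' hno (a := α ⟨a, hA ha⟩) ⟨_, rfl⟩ (fun w => Subtype.ext (by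
    simp only [hα, Subgroup.coe_mul, InvMemClass.coe_inv]
    refine PLocalB.quad_conj (V := V) ?_ w.2
    exact eq_bot_iff.2 ((Subgroup.commutator_mono (Subgroup.commutator_mono le_rfl
      (Subgroup.zpowers_le.2 ha)) (Subgroup.zpowers_le.2 ha)).trans hquad.le)))
  have h2 := congrArg (fun f : MulAut V => ((f ⟨v, hv⟩ : V) : G)) h1
  simp only [hα, MulAut.one_apply] at h2
  exact mul_inv_eq_iff_eq_mul.1 h2

end Cfsg.Agent.S2787
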