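import Cfsg.Statements.S2788
import Cfsg.Agent.LocalEven61.SL2Unipotent
import Cfsg.Agent.LocalEven61.NaturalModule
import Cfsg.Agent.LocalEven61.SL2TorusElement
import Cfsg.Agent.LocalEven61.FreeOrbit
import Mathlib.GroupTheory.Index

set_option autoImplicit false
open Cfsg

namespace Cfsg.Agent.S2788

/-- Let H act faithfully by conjugation on the elementary abelian p-subgroup V of a finite group with H ≅ SL₂(F), F a field with p^n elements, S a Sylow p-subgroup of H, and A ≤ S a subgroup of order at least 3 acting quadratically on V ([V, A, A] = 1). Then |V/C_V(a)| ≥ p^n for every nonidentity a ∈ A. -/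
theorem result {G : Type*} [Group G] [Finite G] {p : ℕ} [Fact p.Prime] (V H : Subgroup G) (hV : Cfsg.IsElementaryAbelian p V) (hHV : H ≤ Subgroup.normalizer (V : Set G)) (hf : H ⊓ Subgroup.centralizer (V : Set G) = ⊥) {F : Type*} [Field F] [Fintype F] (n : ℕ) (hF : Fintype.card F = p ^ n) (hiso : Nonempty (↥H ≃* Matrix.SpecialLinearGroup (Fin 2) F)) (S : Sylow p ↥H) (T : Subgroup G) (hT : T = ((S : Subgroup ↥H).map H.subtype)) (A : Subgroup G) (hA : A ≤ T) (hA3 : 3 ≤ Nat.card A) (hquad : ⁅⁅V, A⁆, A⁆ = ⊥) : ∀ a ∈ A, a ≠ 1 → p ^ n ≤ ((V ⊓ Subgroup.centralizer ({a} : Set G))).relIndex V := by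
  classical
  haveI := LocalEven61.charP_of_card hF
  obtain ⟨e⟩ := hiso
  intro a haA ha1
  have haT : a ∈ T := hA haA
  have haH : a ∈ H := (hT ▸ Subgroup.map_subtype_le _ : T ≤ H) haT
  set Ca := V ⊓ Subgroup.centralizer ({a} : Set G) with hCa
  obtain ⟨m₀, hm₀⟩ : ∃ r, Ca.relIndex V = p ^ r :=
    IsPGroup.index (fun v => ⟨1, Subtype.ext (by simpa using hV.2 v v.2)⟩ : IsPGroup p ↥V) _
  have hfaith : ∀ g ∈ H, g ≠ 1 → g ∉ Subgroup.centralizer (V : Set G) := fun g hg hg1 hgc =>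
    hg1 (Subgroup.mem_bot.1 (hf ▸ ⟨hg, hgc⟩))
  have hr0 : 0 < m₀ := by
    rcases Nat.eq_zero_or_pos m₀ with h0 | h0
    · exfalso
      rw [h0, pow_zero, Subgroup.relIndex_eq_one] at hm₀
      exact hfaith a haH ha1 (Subgroup.mem_centralizer_iff.2 fun v hv =>
        Subgroup.mem_centralizer_singleton_iff.1 (hm₀ hv).2)
    · exact h0
  have hp := (Fact.out : p.Prime)
  rw [hm₀]
  refine Nat.pow_le_pow_right hp.pos ?_
  rcases Nat.lt_or_ge n 2 with hn | hn
  · omega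
  -- `a` is conjugate to a transvection
  have hTp : IsPGroup p ↥T := hT ▸ S.2.map _
  obtain ⟨i, hi⟩ := hTp ⟨a, haT⟩
  have hi' : a ^ p ^ i = 1 := by simpa using congrArg Subtype.val hi
  have hpp : IsPGroup p ↥(Subgroup.zpowers (e ⟨a, haH⟩)) := by
    have h1 : (e ⟨a, haH⟩) ^ p ^ i = 1 := by
      rw [← map_pow, show (⟨a, haH⟩ : ↥H) ^ p ^ i = 1 from Subtype.ext (by simpa using hi'), map_one]
    obtain ⟨j, -, hj⟩ := (Nat.dvd_prime_pow hp).1 (orderOf_dvd_of_pow_eq_one h1)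
    exact IsPGroup.of_card (by rw [Nat.card_zpowers, hj])
  obtain ⟨Q, hQ⟩ := hpp.exists_le_sylow
  obtain ⟨g, hg⟩ := MulAction.exists_smul_eq (Matrix.SpecialLinearGroup (Fin 2) F)
    (LocalEven61.upperSylow : Sylow p (Matrix.SpecialLinearGroup (Fin 2) F)) Q
  have hmem : g⁻¹ * e ⟨a, haH⟩ * g ∈ LocalEven61.upperGroup F := by
    rw [← LocalEven61.coe_upperSylow (p := p), ← LocalEven61.mem_map_conj, ← LocalEven61.sylow_smul_coe, hg]
    exact hQ (Subgroup.mem_zpowers _)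
  obtain ⟨x, hx⟩ := hmem
  have hx' : e ⟨a, haH⟩ = g * PLocalB.upper x.toAdd * g⁻¹ := by
    rw [show PLocalB.upper x.toAdd = g⁻¹ * e ⟨a, haH⟩ * g from hx]; group
  have hx0 : x.toAdd ≠ 0 := by
    intro h0
    rw [h0, PLocalB.upper_zero, mul_one, mul_inv_cancel] at hx'
    exact ha1 (congrArg Subtype.val (e.injective (hx'.trans e.map_one.symm)))
  obtain ⟨ℓ, k, hℓ, hℓ2, hℓp, hdvd, hprim⟩ := LocalEven61.exists_primitive_prime_power hp hn
  obtain ⟨M, hM⟩ := LocalEven61.exists_conj_upper_product hF hℓ hℓ2 hℓp hdvd hx0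
  set m : ↥H := e.symm (g * M * g⁻¹) with hm
  set b : G := (m : G) * a * (m : G)⁻¹ with hb
  set y : ↥H := ⟨a, haH⟩ * (m * ⟨a, haH⟩ * m⁻¹) with hy
  have hye : e y = g * (PLocalB.upper x.toAdd * (M * PLocalB.upper x.toAdd * M⁻¹)) * g⁻¹ := by
    rw [hy, map_mul, map_mul, map_mul, map_inv, hm, e.apply_symm_apply, hx']; group
  have hord : ℓ ^ (k + 1) ∣ orderOf (y : G) := by
    rw [Subgroup.orderOf_coe, ← e.orderOf_eq y, hye]
    have : orderOf (g * (PLocalB.upper x.toAdd * (M * PLocalB.upper x.toAdd * M⁻¹)) * g⁻¹) =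
        orderOf (PLocalB.upper x.toAdd * (M * PLocalB.upper x.toAdd * M⁻¹)) :=
      (MulAut.conj g).orderOf_eq _
    rwa [this]
  set y₁ := (y : G) ^ (orderOf (y : G) / ℓ ^ (k + 1)) with hy₁
  have hy₁ord : orderOf y₁ = ℓ ^ (k + 1) := orderOf_pow_orderOf_div (orderOf_pos _).ne' hord
  have hy₁H : y₁ ∈ H := H.pow_mem y.2 _
  have hz : y₁ ^ ℓ ^ k ∉ Subgroup.centralizer (V : Set G) := by
    refine hfaith _ (H.pow_mem hy₁H _) fun h1 => ?_
    have h2 := Nat.le_of_dvd (pow_pos hℓ.pos k) (hy₁ord ▸ orderOf_dvd_of_pow_eq_one h1)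
    exact absurd h2 (not_le.2 (Nat.pow_lt_pow_right hℓ.one_lt (Nat.lt_succ_self k)))
  obtain ⟨d, hd0, hdi, hdvd'⟩ := LocalEven61.dvd_pow_relIndex_sub_one hℓ hℓp V
    (fun v => ⟨1, Subtype.ext (by simpa using hV.2 v v.2)⟩) y₁ (hHV hy₁H) hy₁ord hz
  have h2n := hprim d hd0 hdvd'
  set Cb := V ⊓ Subgroup.centralizer ({b} : Set G) with hCb
  have hVm : V.map (MulAut.conj (m : G)).toMonoidHom = V :=
    LocalEven61.map_conj_of_mem_normalizer' (hHV m.2)
  have hmap : Ca.map (MulAut.conj (m : G)).toMonoidHom = Cb := by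
    rw [hCa, hCb, Subgroup.map_inf _ _ _ (MulAut.conj (m : G)).injective, hVm]
    congr 1
    ext w
    rw [LocalEven61.mem_map_conj, Subgroup.mem_centralizer_singleton_iff,
      Subgroup.mem_centralizer_singleton_iff, hb]
    constructor <;> intro h
    · calc w * ((m : G) * a * (m : G)⁻¹) = (m : G) * (((m : G)⁻¹ * w * m) * a) * (m : G)⁻¹ := by group
        _ = (m : G) * (a * ((m : G)⁻¹ * w * m)) * (m : G)⁻¹ := by rw [h]
        _ = (m : G) * a * (m : G)⁻¹ * w := by group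
    · calc (m : G)⁻¹ * w * m * a = (m : G)⁻¹ * (w * ((m : G) * a * (m : G)⁻¹)) * m := by group
        _ = (m : G)⁻¹ * ((m : G) * a * (m : G)⁻¹ * w) * m := by rw [h]
        _ = a * ((m : G)⁻¹ * w * m) := by group
  have hCbi : Cb.relIndex V = p ^ m₀ := by
    rw [← hmap, ← hm₀]
    conv_lhs => rw [← hVm]
    exact Subgroup.relIndex_map_map_of_injective _ _ (MulAut.conj (m : G)).injective
  have hle : Ca ⊓ Cb ≤ V ⊓ Subgroup.centralizer ({y₁ ^ ℓ ^ k} : Set G) := by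
    rintro v ⟨h1, h2⟩
    refine ⟨h1.1, Subgroup.mem_centralizer_singleton_iff.2 ?_⟩
    have c1 : Commute v a := Subgroup.mem_centralizer_singleton_iff.1 h1.2
    have c2 : Commute v b := Subgroup.mem_centralizer_singleton_iff.1 h2.2
    have c3 : Commute v (y : G) := c1.mul_right c2
    exact ((c3.pow_right _).pow_right _).eq
  have h3 : p ^ d ≤ p ^ (2 * m₀) := by
    rw [← hdi, two_mul, pow_add]
    refine le_trans (Nat.le_of_dvd ?_ (Subgroup.relIndex_dvd_of_le_left V hle)) ?_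
    · exact Nat.pos_of_ne_zero ((Ca ⊓ Cb).subgroupOf V).index_ne_zero_of_finite
    · refine (Subgroup.relIndex_inf_le (H := Ca) (K := Cb) (L := V)).trans ?_
      rw [hm₀, hCbi]
  have := (Nat.pow_le_pow_iff_right hp.one_lt).1 h3
  omega

end Cfsg.Agent.S2788
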