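import Cfsg.Statements.S2792
import Cfsg.Agent.LocalEven61.Yoshida
import Cfsg.Prelude.Def_Transfer

set_option autoImplicit false
open Cfsg

namespace Cfsg.Agent.S2792

theorem map_transfer {G : Type*} [Group G] [Finite G] {N : Subgroup G} {A B : Type*} [CommGroup A]
    [CommGroup B] (φ : N →* A) (f : A →* B) (g : G) :
    f (MonoidHom.transfer φ g) = MonoidHom.transfer (f.comp φ) g := by
  classical
  letI : Fintype (Quotient (MulAction.orbitRel (Subgroup.zpowers g) (G ⧸ N))) := Fintype.ofFinite _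
  rw [MonoidHom.transfer_eq_prod_quotient_orbitRel_zpowers_quot,
    MonoidHom.transfer_eq_prod_quotient_orbitRel_zpowers_quot, map_prod]
  rfl

/-- Let S be a Sylow p-subgroup of the finite group G and W a subgroup of S weakly closed in S with respect to G. If S ∩ G' ≠ S ∩ (N_G(W))', then there are x ∈ S, z ∈ W and a maximal subgroup W₀ of W such that the iterated commutator [x, z; p−1] (with [x, z] = x⁻¹z⁻¹xz and [x, z; i+1] = [[x, z; i], z]) lies in W₀ but not in the Frattini subgroup of W₀; in particular [x, z; p−1] ≠ 1. -/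
theorem result {G : Type*} [Group G] [Finite G] {p : ℕ} [Fact p.Prime] (S : Sylow p G) (W : Subgroup G) (hW : Cfsg.IsWeaklyClosed W (S : Subgroup G)) (h : (S : Subgroup G) ⊓ commutator G ≠ (S : Subgroup G) ⊓ ⁅Subgroup.normalizer (W : Set G), Subgroup.normalizer (W : Set G)⁆) : ∃ x ∈ (S : Subgroup G), ∃ z ∈ W, ∃ W₀ : Subgroup ↥W, IsCoatom W₀ ∧ (fun y : G => y⁻¹ * z⁻¹ * y * z)^[p - 1] x ∈ W₀.map W.subtype ∧ (fun y : G => y⁻¹ * z⁻¹ * y * z)^[p - 1] x ∉ ((frattini ↥W₀).map W₀.subtype).map W.subtype := by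
  classical
  by_contra hno
  push Not at hno
  apply h
  set N := Subgroup.normalizer (W : Set G) with hNdef
  have hWnorm : (S : Subgroup G) ≤ N := by
    intro g hg
    rw [hNdef, Subgroup.mem_normalizer_iff_map_conj_eq]
    refine hW.2 g ?_
    rintro _ ⟨w, hw, rfl⟩
    exact (S : Subgroup G).mul_mem ((S : Subgroup G).mul_mem hg (hW.1 hw)) (inv_mem hg)
  let SN : Sylow p ↥N := S.subtype hWnorm
  have hconj : ∀ n : ↥N, IsPGroup p ↥(Subgroup.zpowers n) →
      ∃ m : ↥N, ((m * n * m⁻¹ : ↥N) : G) ∈ (S : Subgroup G) := by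
    intro n hn
    obtain ⟨P, hP⟩ := hn.exists_le_sylow
    obtain ⟨m, hm⟩ := MulAction.exists_smul_eq ↥N P SN
    refine ⟨m, ?_⟩
    have h1 : m * n * m⁻¹ ∈ (SN : Subgroup ↥N) := by
      rw [← hm, Sylow.coe_subgroup_smul, Subgroup.mem_pointwise_smul_iff_inv_smul_mem]
      simpa [MulAut.smul_def, mul_assoc] using hP (Subgroup.mem_zpowers n)
    exact h1
  have hfix : ∀ g : G, (∀ w ∈ W, g⁻¹ * w * g ∈ N) → g ∈ N := by
    intro g hg
    set U := (W.map (MulAut.conj g⁻¹).toMonoidHom).subgroupOf N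
    have hU : IsPGroup p ↥U := (((S.2.to_le hW.1).map _).comap_subtype)
    obtain ⟨P, hP⟩ := hU.exists_le_sylow
    obtain ⟨m, hm⟩ := MulAction.exists_smul_eq ↥N P SN
    have hle : W.map (MulAut.conj ((m : G) * g⁻¹)).toMonoidHom ≤ (S : Subgroup G) := by
      rintro _ ⟨w, hw, rfl⟩
      have h1 : m * ⟨g⁻¹ * w * g, hg w hw⟩ * m⁻¹ ∈ (SN : Subgroup ↥N) := by
        rw [← hm, Sylow.coe_subgroup_smul, Subgroup.mem_pointwise_smul_iff_inv_smul_mem]
        simpa [MulAut.smul_def, mul_assoc] using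
          hP (show (⟨g⁻¹ * w * g, hg w hw⟩ : ↥N) ∈ U from ⟨w, hw, by simp⟩)
      simpa [SN, Subgroup.mem_subgroupOf, mul_assoc] using h1
    have h2 : (m : G) * g⁻¹ ∈ N := Subgroup.mem_normalizer_iff_map_conj_eq.2 (hW.2 _ hle)
    simpa using N.inv_mem (N.mul_mem (N.inv_mem m.2) h2)
  -- the `p`-part of the abelianisation of `N`
  set A := Abelianization ↥N
  set k := (Nat.card A).factorization p
  set r := Nat.card A / p ^ k with hr
  let φ₀ : ↥N →* A := (powMonoidHom r).comp Abelianization.of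
  let φ : ↥N →* ↥φ₀.range := φ₀.rangeRestrict
  have hφp : ∀ e : ↥φ₀.range, e ^ p ^ k = 1 := by
    rintro ⟨_, n, rfl⟩
    refine Subtype.ext ?_
    show (Abelianization.of n ^ r) ^ p ^ k = 1
    rw [← pow_mul, hr, Nat.div_mul_cancel (Nat.ordProj_dvd _ _)]
    exact pow_card_eq_one'
  -- `φ` kills elements of order prime to `p`
  let V : G →* ↥φ₀.range := MonoidHom.transfer φ
  let L : Subgroup ↥φ₀.range := (S : Subgroup G).map V ⊔ (powMonoidHom p).range
  let ψ : ↥N →* ↥φ₀.range ⧸ L := (QuotientGroup.mk' L).comp φ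
  have hEexp : ∀ e : ↥φ₀.range ⧸ L, e ^ p = 1 := by
    intro e
    obtain ⟨e, rfl⟩ := QuotientGroup.mk'_surjective L e
    rw [← map_pow]
    exact (QuotientGroup.eq_one_iff _).2 (Subgroup.mem_sup_right ⟨e, rfl⟩)
  have hψS : ∀ j : ℕ, ∀ y (hy : y ∈ (S : Subgroup G)), orderOf y = j → ψ ⟨y, hWnorm hy⟩ = 1 := by
    intro j
    induction j using Nat.strong_induction_on with
    | _ j ih =>
      intro y hy hj
      have h1 := LocalEven61.transfer_eq_of_min (p := p) S.2 hW.1 hWnorm hWnorm hfix hEexp ψ hy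
        (fun n hn1 hn2 => by
          obtain ⟨i, hi⟩ := (IsPGroup.iff_orderOf.1 S.2) ⟨y, hy⟩
          rw [← Subgroup.orderOf_coe] at hi
          obtain ⟨i', -, hi'⟩ := (Nat.dvd_prime_pow Fact.out).1 (hi ▸ hn1)
          obtain ⟨m, hm⟩ := hconj n (IsPGroup.of_card (n := i')
            (by rw [Nat.card_zpowers, ← Subgroup.orderOf_coe]; exact hi'))
          have hlt : orderOf (n : G) < orderOf y :=
            lt_of_le_of_ne (Nat.le_of_dvd (orderOf_pos y) hn1) hn2
          have h2 := ih (orderOf (n : G)) (hj ▸ hlt) _ hm (by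
            rw [show ((m * n * m⁻¹ : ↥N) : G) = MulAut.conj (m : G) (n : G) by
              simp [MulAut.conj_apply], MulEquiv.orderOf_eq])
          rw [map_mul, map_mul, mul_comm, ← mul_assoc, ← map_mul, inv_mul_cancel, map_one,
            one_mul] at h2
          exact h2)
        (fun z hz W₀ hW₀ hmem => hno y hy z hz W₀ hW₀ hmem)
      rw [← h1, show ψ = (QuotientGroup.mk' L).comp φ from rfl, ← map_transfer]
      exact (QuotientGroup.eq_one_iff _).2 (Subgroup.mem_sup_left ⟨y, hy, rfl⟩)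
  have hrange : ∀ e : ↥φ₀.range, ∃ y, ∃ hy : y ∈ (S : Subgroup G), φ ⟨y, hWnorm hy⟩ = e := by
    have hsurj : ((SN : Subgroup ↥N).map φ) = ⊤ := by
      have hp' : IsPGroup p ↥φ₀.range := fun e => ⟨k, hφp e⟩
      exact ((SN.mapSurjective φ₀.rangeRestrict_surjective).3 (hp'.to_subgroup ⊤) le_top).symm
    intro e
    obtain ⟨⟨y, hyN⟩, hy, rfl⟩ := (show e ∈ (SN : Subgroup ↥N).map φ from hsurj ▸ Subgroup.mem_top e)
    exact ⟨y, hy, rfl⟩
  -- the transfer is onto
  have hVS : (S : Subgroup G).map V = ⊤ := by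
    have hL : L = ⊤ := eq_top_iff.2 fun e _ => by
      obtain ⟨y, hy, rfl⟩ := hrange e
      exact (QuotientGroup.eq_one_iff _).1 (hψS _ y hy rfl)
    have hpow : ∀ j : ℕ, (S : Subgroup G).map V ⊔ (powMonoidHom (p ^ j)).range = ⊤ := by
      intro j
      induction j with
      | zero => exact eq_top_iff.2 fun e _ => Subgroup.mem_sup_right ⟨e, by simp⟩
      | succ j ih =>
        refine eq_top_iff.2 fun e _ => ?_
        obtain ⟨a, ha, _, ⟨b, rfl⟩, rfl⟩ := Subgroup.mem_sup.1 (ih.symm ▸ Subgroup.mem_top e)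
        obtain ⟨c, hc, _, ⟨d, rfl⟩, rfl⟩ := Subgroup.mem_sup.1 (hL.symm ▸ Subgroup.mem_top b)
        refine Subgroup.mem_sup.2 ⟨a * c ^ p ^ j, mul_mem ha (pow_mem hc _), _, ⟨d, rfl⟩, ?_⟩
        simp only [powMonoidHom_apply, mul_pow, ← pow_mul, pow_succ', mul_assoc]
    refine eq_top_iff.2 fun e _ => ?_
    obtain ⟨a, ha, _, ⟨b, rfl⟩, rfl⟩ := Subgroup.mem_sup.1 ((hpow k).symm ▸ Subgroup.mem_top e)
    rwa [powMonoidHom_apply, hφp, mul_one]
  -- compare kernels
  let V' : ↥(S : Subgroup G) →* ↥φ₀.range := V.comp (S : Subgroup G).subtype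
  let φ' : ↥(S : Subgroup G) →* ↥φ₀.range := φ.comp (Subgroup.inclusion hWnorm)
  have hV' : Function.Surjective V' := fun e => by
    obtain ⟨y, hy, rfl⟩ := (show e ∈ (S : Subgroup G).map V from hVS.symm ▸ Subgroup.mem_top e)
    exact ⟨⟨y, hy⟩, rfl⟩
  have hφ' : Function.Surjective φ' := fun e => by
    obtain ⟨y, hy, rfl⟩ := hrange e
    exact ⟨⟨y, hy⟩, rfl⟩
  set C₁ := (S : Subgroup G) ⊓ commutator G
  set C₂ := (S : Subgroup G) ⊓ ⁅N, N⁆
  have hle : C₂ ≤ C₁ := inf_le_inf_left _ (Subgroup.commutator_mono le_top le_top)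
  have h1 : C₁.subgroupOf (S : Subgroup G) ≤ V'.ker := fun y hy =>
    Abelianization.commutator_subset_ker V (Subgroup.mem_inf.1 hy).2
  have h2 : φ'.ker ≤ C₂.subgroupOf (S : Subgroup G) := by
    intro y hy
    have h3 : Abelianization.of (⟨y, hWnorm y.2⟩ : ↥N) ^ r = 1 := congrArg Subtype.val hy
    obtain ⟨i, hi⟩ := S.2 y
    have h4 : (⟨y, hWnorm y.2⟩ : ↥N) ^ p ^ i = 1 := Subtype.ext (by simpa using congrArg Subtype.val hi)
    have h5 : Abelianization.of (⟨y, hWnorm y.2⟩ : ↥N) ^ Nat.gcd r (p ^ i) = 1 :=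
      pow_gcd_eq_one.2 ⟨h3, by rw [← map_pow, h4, map_one]⟩
    rw [show Nat.gcd r (p ^ i) = 1 from Nat.Coprime.pow_right i (Nat.coprime_comm.1
      (Nat.coprime_ordCompl Fact.out Nat.card_pos.ne')), pow_one] at h5
    refine ⟨y.2, ?_⟩
    have h6 : (⟨y, hWnorm y.2⟩ : ↥N) ∈ commutator ↥N := (QuotientGroup.eq_one_iff _).1 h5
    rw [← Subgroup.map_subtype_commutator]
    exact ⟨_, h6, rfl⟩
  have hcard : Nat.card V'.ker = Nat.card φ'.ker := by
    refine Nat.eq_of_mul_eq_mul_right (Nat.card_pos (α := ↥φ₀.range)) ?_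
    conv_lhs => rw [← Nat.card_congr (QuotientGroup.quotientKerEquivOfSurjective V' hV').toEquiv]
    conv_rhs => rw [← Nat.card_congr (QuotientGroup.quotientKerEquivOfSurjective φ' hφ').toEquiv]
    rw [mul_comm, ← Subgroup.card_eq_card_quotient_mul_card_subgroup, mul_comm,
      ← Subgroup.card_eq_card_quotient_mul_card_subgroup]
  refine (Subgroup.eq_of_le_of_card_ge hle ?_).symm
  rw [← Nat.card_congr (Subgroup.subgroupOfEquivOfLe (inf_le_left : C₁ ≤ _)).toEquiv,
    ← Nat.card_congr (Subgroup.subgroupOfEquivOfLe (inf_le_left : C₂ ≤ _)).toEquiv]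
  exact (Subgroup.card_le_of_le h1).trans (hcard.trans_le (Subgroup.card_le_of_le h2))

end Cfsg.Agent.S2792
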