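import Cfsg.Statements.S2794
import Cfsg.Agent.LocalEven61.ZJQd
import Cfsg.Agent.LocalEven61.StrongFusionSections
import Cfsg.Agent.PLocalB.QdStable

set_option autoImplicit false
open Cfsg

namespace Cfsg.Agent.S2794

/-- For an odd prime p and a finite group G, the group Qd(p) is not involved in G if and only if in every section K/R of G, for every Sylow p-subgroup S* of K/R, the centre of J(S*) (J generated by the abelian subgroups of largest order) controls strong fusion in K/R. -/
theorem result {G : Type*} [Group G] [Finite G] {p : ℕ} [Fact p.Prime] (hp : p ≠ 2) : ¬ Cfsg.Involves ↥(Cfsg.qd p) G ↔ ∀ (K R : Subgroup G) [hR : (R.subgroupOf K).Normal], ∀ T : Sylow p (K ⧸ R.subgroupOf K), Cfsg.ControlsStrongFusion p (Cfsg.centerThompsonAOf (T : Subgroup (K ⧸ R.subgroupOf K))) := by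
  constructor
  · intro h K R hR T
    rw [← LocalEven61.inducedFunctor_zjA]
    refine LocalEven61.controlsStrongFusion_of_strongCtl
      (LocalEven61.strongCtl_of_constrained (p := p) (LocalEven61.isCharPFunctor_zjA (p := p))
        (G := (↥K ⧸ R.subgroupOf K)) (fun X _ _ hsec hcon S => ?_) _ (ConjFunctor.isSec_refl _)) T
    rw [LocalEven61.inducedFunctor_zjA, PLocalB.centerThompsonAOf_eq_core]
    obtain ⟨K', R', hR', ⟨e⟩⟩ := hsec.exists_section
    refine (PLocalB.abelianFamily X).core_normal hp hcon (fun P _ hP a hq => ?_) S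
    by_contra ha
    exact h (LocalEven61.involves_trans (PLocalB.exists_qd_section_of_not_stable hp P hP a hq ha)
      (LocalEven61.involves_congr e (LocalEven61.involves_trans
        ⟨K', R', hR', ⟨MulEquiv.refl _⟩⟩ ⟨K, R, hR, ⟨MulEquiv.refl _⟩⟩)))
  · rintro h ⟨K, R, hR, ⟨e⟩⟩
    obtain ⟨T, hT⟩ := LocalEven61.not_controlsStrongFusion_of_iso e
    exact hT (h K R T)

end Cfsg.Agent.S2794
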