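import Cfsg.Statements.S2799
import Cfsg.Agent.WeakClosure.Glauberman

set_option autoImplicit false
open Cfsg

namespace Cfsg.Agent.S2799

/-- Let S be a Sylow p-subgroup of the finite group G, J(S) the subgroup generated by the abelian subgroups of S of largest order, and x an element of S lying in the centre of N_G(J(S)). Assume that p is odd, or that x is a p-th power of an element of Z(S), or that the symmetric group of degree 4 is not involved in G. Then x is weakly closed in S with respect to G: every G-conjugate of x that lies in S equals x. -/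
theorem result {G : Type*} [Group G] [Finite G] {p : ℕ} [Fact p.Prime] (S : Sylow p G) (x : G) (hxS : x ∈ (S : Subgroup G)) (hxZ : x ∈ (Subgroup.center ↥(Subgroup.normalizer ((Cfsg.thompsonSubgroupAOf (S : Subgroup G)) : Set G))).map (Subgroup.normalizer ((Cfsg.thompsonSubgroupAOf (S : Subgroup G)) : Set G)).subtype) (h : p ≠ 2 ∨ (∃ z ∈ (S : Subgroup G) ⊓ Subgroup.centralizer ((S : Subgroup G) : Set G), z ^ p = x) ∨ ¬ Cfsg.Involves (Equiv.Perm (Fin 4)) G) : ∀ g : G, g * x * g⁻¹ ∈ (S : Subgroup G) → g * x * g⁻¹ = x := by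
  set S₀ := (S : Subgroup G) with hS₀
  set N := Subgroup.normalizer ((Cfsg.thompsonSubgroupAOf S₀ : Subgroup G) : Set G)
  have hJ : ∀ g ∈ N, Commute g x := by
    obtain ⟨⟨y, hy⟩, hyc, rfl⟩ := hxZ
    intro g hg
    exact congrArg Subtype.val (Subgroup.mem_center_iff.mp hyc ⟨g, hg⟩)
  have hxC : x ∈ Subgroup.centralizer (S₀ : Set G) := Subgroup.mem_centralizer_iff.mpr fun g hg =>
    (hJ g (WeakClosure.normalizer_le_normalizer_thompsonA _ (Subgroup.le_normalizer hg))).eq
  rcases h with h | ⟨z, hz, hzx⟩ | h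
  · exact WeakClosure.weakly_closed S x x hxS hxC hxS hxC (Or.inl h) hJ
  · exact WeakClosure.weakly_closed S x z hxS hxC hz.1 hz.2 (Or.inr (Or.inl hzx)) hJ
  · exact WeakClosure.weakly_closed S x x hxS hxC hxS hxC (Or.inr (Or.inr h)) hJ

end Cfsg.Agent.S2799
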