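import Cfsg.Statements.S2800
import Cfsg.Agent.WeakClosure.Glauberman
import Cfsg.Agent.Lib.PComplement.Thompson
import Cfsg.Agent.LocalEven61.Involves
import Cfsg.Agent.PLocalB.PStable

set_option autoImplicit false
open Cfsg

namespace Cfsg.Agent.S2800

open Subgroup PComplement

universe u

variable {p : ℕ} [hp : Fact p.Prime]

/-- The hypothesis, in a form inherited by sections. -/
def HypA (p : ℕ) (G : Type u) [Group G] (P : Subgroup G) : Prop :=
  HasNormalPComplement p (normalizer (thompsonSubgroupAOf P : Set G)) ∧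
    HasNormalPComplement p (centralizer ((P ⊓ centralizer (P : Set G) : Subgroup G) : Set G)) ∧
    (p ≠ 2 ∨ ¬ Cfsg.Involves (Equiv.Perm (Fin 4)) G)

variable {G : Type u} [Group G] [Finite G]

omit hp in
theorem thompsonA_subgroupOf {M S : Subgroup G} (h : S ≤ M) :
    (thompsonSubgroupAOf (S.subgroupOf M)).map M.subtype = thompsonSubgroupAOf S := by
  rw [PLocalB.thompsonSubgroupAOf_map M.subtype _ (fun _ _ _ _ h => M.subtype_injective h),
    map_subgroupOf_eq_of_le h]

theorem thompsonA_ne_bot {S : Subgroup G} (hS : IsPGroup p S) (hb : S ≠ ⊥) :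
    thompsonSubgroupAOf S ≠ ⊥ := by
  intro hJ
  have : Nontrivial S := (nontrivial_iff_ne_bot S).mpr hb
  apply hS.bot_lt_center.ne'
  rw [Subgroup.eq_bot_iff_forall]
  intro x hx
  apply Subtype.ext
  rw [OneMemClass.coe_one, ← mem_bot, ← hJ]
  exact WeakClosure.mem_thompsonA_of_central x.2 (mem_centralizer_iff.mpr fun y hy =>
    congrArg Subtype.val (mem_center_iff.mp hx ⟨y, hy⟩))

theorem false_of_reduced (P : Sylow p G) (V K : Subgroup G) (hT : HypA p G (P : Subgroup G))
    (h : IsReduced p (P : Subgroup G) V K) : False := by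
  obtain ⟨hJ, hC, h0⟩ := hT
  haveI : V.Normal := h.eq_pCore ▸ Thompson.instPCoreNormal
  have hVp : IsPGroup p V := P.2.to_le h.le_sylow
  set M := normalizer ((thompsonSubgroupAOf (P : Subgroup G) : Subgroup G) : Set G)
  have hPM : (P : Subgroup G) ≤ M :=
    le_normalizer.trans (WeakClosure.normalizer_le_normalizer_thompsonA _)
  have hMP : M = P := by
    refine eq_sylow_of_coprime_eq_one P hPM fun g hg hgp => ?_
    have hgV := h.centralizer_le (mem_centralizer_of_complement hJ hVp (h.le_sylow.trans hPM) hg hgp)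
    obtain ⟨k, hk⟩ := IsPGroup.iff_orderOf.mp hVp ⟨g, hgV⟩
    rw [Subgroup.orderOf_mk] at hk
    exact orderOf_eq_one_iff.mp (Nat.eq_one_of_dvd_coprimes hgp dvd_rfl (by
      rw [hk]
      rcases k with _ | k
      · simp
      · exfalso
        rw [hk] at hgp
        exact hp.out.one_lt.ne' ((Nat.coprime_self p).mp
          (hgp.coprime_dvd_left (dvd_pow_self p k.succ_ne_zero)))))
  set Z : Subgroup G := (P : Subgroup G) ⊓ centralizer ((P : Subgroup G) : Set G)
  have hfix : ∀ g : G, ∀ x ∈ Z, g * x * g⁻¹ = x := by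
    intro g x hx
    have hxV : x ∈ V := h.centralizer_le (centralizer_le h.le_sylow hx.2)
    have hgx : g * x * g⁻¹ ∈ V := (inferInstance : V.Normal).conj_mem x hxV g
    exact WeakClosure.weakly_closed P x x hx.1 hx.2 hx.1 hx.2 (h0.imp id Or.inr)
      (fun k hk => (mem_centralizer_iff.mp hx.2 k (hMP ▸ hk : k ∈ (P : Subgroup G)))) g
      (h.le_sylow hgx)
  have htop : centralizer (Z : Set G) = ⊤ := by
    rw [eq_top_iff]
    exact fun g _ => mem_centralizer_iff.mpr fun x hx => (mul_inv_eq_iff_eq_mul.mp (hfix g x hx)).symm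
  apply h.not_complement
  refine Transfer.hasNormalPComplement_of_surjective hC (centralizer (Z : Set G)).subtype ?_
  intro g
  exact ⟨⟨g, htop.symm ▸ mem_top g⟩, rfl⟩

/-- Thompson's normal `p`-complement theorem with the abelian version of `J`. -/
theorem thompsonA_normal_p_complement {G : Type u} [Group G] [Finite G]
    (P : Sylow p G) (h0 : p ≠ 2 ∨ ¬ Cfsg.Involves (Equiv.Perm (Fin 4)) G)
    (h1 : HasNormalPComplement p (normalizer (thompsonSubgroupAOf (P : Subgroup G) : Set G)))
    (h2 : HasNormalPComplement p (centralizer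
      (((P : Subgroup G) ⊓ centralizer ((P : Subgroup G) : Set G) : Subgroup G) : Set G))) :
    HasNormalPComplement p G := by
  refine hasNormalPComplement_of_criterion (p := p)
    (fun G _ _ P => HypA p G P) ?_ ?_ ?_ ?_
    (fun G _ _ P V K hT h => false_of_reduced P V K hT h) G P ⟨h1, h2, h0⟩
  · -- subgroups
    intro G _ _ P M hPM hT
    refine ⟨hasNormalPComplement_of_map_le M.subtype M.subtype_injective ?_ hT.1,
      hasNormalPComplement_of_map_le M.subtype M.subtype_injective ?_ hT.2.1,
      hT.2.2.imp id fun h hi => h (LocalEven61.involves_of_subgroup M hi)⟩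
    · exact (le_normalizer_map _).trans (by rw [thompsonA_subgroupOf hPM])
    · rintro _ ⟨g, hg, rfl⟩
      refine mem_centralizer_iff.mpr fun z hz => congrArg Subtype.val
        (mem_centralizer_iff.mp hg ⟨z, hPM hz.1⟩ ⟨hz.1, mem_centralizer_iff.mpr fun y hy =>
          Subtype.ext (mem_centralizer_iff.mp hz.2 _ hy)⟩)
  · -- local subgroups
    intro G _ _ P H hHb hHP hyp hT
    set S : Subgroup G := (P : Subgroup G) ⊓ normalizer (H : Set G) with hS
    have hSM : S ≤ normalizer (H : Set G) := inf_le_right
    have hSp : IsPGroup p S := P.2.to_le inf_le_left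
    have hSb : S ≠ ⊥ := fun hb => hHb (le_bot_iff.mp (hb ▸ le_inf hHP le_normalizer))
    refine ⟨hasNormalPComplement_of_map_le _ (normalizer (H : Set G)).subtype_injective ?_
      (hyp _ ((WeakClosure.thompsonA_le S).trans inf_le_left)
        (thompsonA_ne_bot hSp hSb)
        (WeakClosure.normalizer_le_normalizer_thompsonA S)),
      hasNormalPComplement_of_map_le _ (normalizer (H : Set G)).subtype_injective ?_ hT.2.1,
      hT.2.2.imp id fun h hi => h (LocalEven61.involves_of_subgroup _ hi)⟩
    · exact (le_normalizer_map _).trans (by rw [thompsonA_subgroupOf hSM])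
    · rintro _ ⟨g, hg, rfl⟩
      refine mem_centralizer_iff.mpr fun z hz => ?_
      have hzH : z ∈ normalizer (H : Set G) :=
        centralizer_le_normalizer _ (centralizer_le hHP hz.2)
      exact congrArg Subtype.val (mem_centralizer_iff.mp hg ⟨z, hzH⟩
        ⟨⟨hz.1, hzH⟩, mem_centralizer_iff.mpr fun y hy =>
          Subtype.ext (mem_centralizer_iff.mp hz.2 _ hy.1)⟩)
  · -- quotients by normal `p`-subgroups
    intro G _ _ P V _ hVb hVP hyp hT
    set f := QuotientGroup.mk' V with hf
    have hfs := QuotientGroup.mk'_surjective V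
    set Pb : Subgroup (G ⧸ V) := (P : Subgroup G).map f with hPb
    have hPc : Pb.comap f = (P : Subgroup G) := by
      rw [hPb, comap_map_eq, QuotientGroup.ker_mk', sup_eq_left.mpr hVP.le]
    have hPbp : IsPGroup p Pb := P.2.map f
    have hPbb : Pb ≠ ⊥ := by
      rw [hPb, Ne, Subgroup.map_eq_bot_iff, QuotientGroup.ker_mk']
      exact hVP.not_ge
    have hlift : ∀ X : Subgroup (G ⧸ V), X ≠ ⊥ → X ≤ Pb → Pb ≤ normalizer (X : Set (G ⧸ V)) →
        HasNormalPComplement p (normalizer (X : Set (G ⧸ V))) := by
      intro X hXb hXP hXN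
      refine hasNormalPComplement_of_le_map f (B := normalizer (X.comap f : Set G)) ?_
        (hyp (X.comap f) ?_ (hPc ▸ comap_mono hXP)
          (hPc ▸ (comap_mono hXN).trans (le_normalizer_comap f)))
      · rw [← map_comap_eq_self_of_surjective hfs (normalizer (X : Set (G ⧸ V)))]
        exact map_mono (le_normalizer_comap f)
      · refine lt_of_le_of_ne (fun v hv => ?_) fun he => hXb ?_
        · rw [mem_comap, hf, QuotientGroup.mk'_apply, (QuotientGroup.eq_one_iff v).mpr hv]
          exact one_mem _
        · rw [← map_comap_eq_self_of_surjective hfs X, ← he,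
            (Subgroup.map_eq_bot_iff _).mpr (by rw [QuotientGroup.ker_mk'])]
    refine ⟨hlift _ (thompsonA_ne_bot hPbp hPbb) (WeakClosure.thompsonA_le _)
      (le_normalizer.trans (WeakClosure.normalizer_le_normalizer_thompsonA _)),
      Transfer.hasNormalPComplement_mono (centralizer_le_normalizer _) (hlift _ ?_ inf_le_left ?_),
      hT.2.2.imp id fun h hi => h (LocalEven61.involves_of_quotient V hi)⟩
    · have : Nontrivial Pb := (nontrivial_iff_ne_bot Pb).mpr hPbb
      intro hb
      have hc := hPbp.bot_lt_center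
      apply hc.ne'
      rw [Subgroup.eq_bot_iff_forall]
      intro x hx
      apply Subtype.ext
      rw [OneMemClass.coe_one, ← mem_bot, ← hb]
      exact ⟨x.2, mem_centralizer_iff.mpr fun y hy =>
        congrArg Subtype.val (mem_center_iff.mp hx ⟨y, hy⟩)⟩
    · refine le_trans ?_ (centralizer_le_normalizer _)
      intro x hx
      exact mem_centralizer_iff.mpr fun z hz => (mem_centralizer_iff.mp hz.2 x hx).symm
  · -- quotients by normal `p'`-subgroups
    intro G _ _ P N _ hN hT
    set f := QuotientGroup.mk' N with hf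
    have hinj : Set.InjOn f ((P : Subgroup G) : Set G) := by
      intro x hx y hy hxy
      have h0 : x⁻¹ * y ∈ (P : Subgroup G) ⊓ N :=
        ⟨(P : Subgroup G).mul_mem ((P : Subgroup G).inv_mem hx) hy, QuotientGroup.eq.mp hxy⟩
      rw [Thompson.inf_eq_bot_of_isPGroup_of_coprime P.2 hN, mem_bot, inv_mul_eq_one] at h0
      exact h0
    have hnorm : ∀ X : Subgroup G, X ≤ (P : Subgroup G) → ∀ g : G,
        f g ∈ normalizer (X.map f : Set (G ⧸ N)) →
        ∃ k ∈ N, k * g ∈ normalizer (X : Set G) := by
      intro X hX g hg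
      have hnN : ∀ Y : Subgroup G, Y ≤ normalizer (N : Set G) := fun Y => by
        rw [normalizer_eq_top_iff.mpr (inferInstance : N.Normal)]; exact le_top
      set A : Subgroup G := X.map (MulAut.conj g).toMonoidHom with hA
      have hAp : IsPGroup p A := (P.2.to_le hX).map _
      have hcop : (Nat.card A).Coprime (Nat.card N) := by
        obtain ⟨a, ha⟩ := IsPGroup.iff_card.mp hAp
        rw [ha]; exact (hN.pow_right a).symm
      have hle : A ≤ N ⊔ X := by
        have h1 : f g * (f g)⁻¹ = 1 := mul_inv_cancel _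
        rw [sup_comm, ← QuotientGroup.ker_mk' N, ← hf, ← comap_map_eq]
        rintro _ ⟨x, hx, rfl⟩
        rw [mem_comap]
        show f (g * x * g⁻¹) ∈ X.map f
        rw [map_mul, map_mul, map_inv]
        exact (mem_normalizer_iff.mp hg _).mp (mem_map_of_mem f hx)
      obtain ⟨k, hk, hkA⟩ := Coprime.exists_conj_le_of_le_sup A N X (hnN A) (hnN X) hcop
        (Or.inl (Coprime.isSolvable_of_isNilpotent' hAp.isNilpotent)) hle
      refine ⟨k, hk, mem_normalizer_iff_map_conj_eq.mpr ?_⟩
      refine eq_of_le_of_card_ge ?_ (card_map_of_injective (MulAut.conj (k * g)).injective).ge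
      rintro _ ⟨x, hx, rfl⟩
      have := hkA _ (mem_map_of_mem _ hx)
      show k * g * x * (k * g)⁻¹ ∈ X
      simpa [mul_assoc] using this
    refine ⟨hasNormalPComplement_of_le_map f ?_ hT.1, hasNormalPComplement_of_le_map f ?_ hT.2.1,
      hT.2.2.imp id fun h hi => h (LocalEven61.involves_of_quotient N hi)⟩
    · intro x hx
      obtain ⟨g, rfl⟩ := QuotientGroup.mk'_surjective N x
      rw [← PLocalB.thompsonSubgroupAOf_map f _ hinj] at hx
      obtain ⟨k, hk, hkg⟩ := hnorm _ (WeakClosure.thompsonA_le _) g hx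
      exact ⟨k * g, hkg, by
        rw [map_mul, hf, QuotientGroup.mk'_apply N k, (QuotientGroup.eq_one_iff k).mpr hk, one_mul]⟩
    · set Z : Subgroup G := (P : Subgroup G) ⊓ centralizer ((P : Subgroup G) : Set G) with hZ
      intro x hx
      obtain ⟨g, rfl⟩ := QuotientGroup.mk'_surjective N x
      have hZle : Z.map f ≤
          (P : Subgroup G).map f ⊓ centralizer ((P : Subgroup G).map f : Set (G ⧸ N)) := by
        rintro _ ⟨z, hz, rfl⟩
        refine ⟨mem_map_of_mem f hz.1, mem_centralizer_iff.mpr ?_⟩
        rintro _ ⟨y, hy, rfl⟩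
        rw [← map_mul, ← map_mul, mem_centralizer_iff.mp hz.2 y hy]
      have hx' : f g ∈ centralizer (Z.map f : Set (G ⧸ N)) := centralizer_le hZle hx
      obtain ⟨k, hk, hkg⟩ := hnorm Z inf_le_left g (centralizer_le_normalizer _ hx')
      refine ⟨k * g, mem_centralizer_iff.mpr fun z hz => ?_, by
        rw [map_mul, hf, QuotientGroup.mk'_apply N k, (QuotientGroup.eq_one_iff k).mpr hk, one_mul]⟩
      have h1 : k * g * z * (k * g)⁻¹ ∈ Z := (mem_normalizer_iff.mp hkg z).mp hz
      have h2 : f (k * g * z * (k * g)⁻¹) = f z := by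
        have hk1 : f k = 1 := (QuotientGroup.eq_one_iff k).mpr hk
        rw [map_mul, map_mul, map_inv, map_mul, hk1, one_mul, ← mem_centralizer_iff.mp hx' _
          (mem_map_of_mem f hz), mul_inv_cancel_right]
      exact (mul_inv_eq_iff_eq_mul.mp (hinj h1.1 hz.1 h2)).symm


/-- Let S be a Sylow p-subgroup of the finite group G and J(S) the subgroup generated by the abelian subgroups of S of largest order. Suppose p is odd, or the symmetric group of degree 4 is not involved in G. If both C_G(Z(S)) and N_G(J(S)) have normal p-complements, then G has a normal p-complement. -/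
theorem result {G : Type*} [Group G] [Finite G] {p : ℕ} [Fact p.Prime] (S : Sylow p G) (h : p ≠ 2 ∨ ¬ Cfsg.Involves (Equiv.Perm (Fin 4)) G) (hC : Cfsg.HasNormalPComplement p ↥(Subgroup.centralizer (((S : Subgroup G) ⊓ Subgroup.centralizer ((S : Subgroup G) : Set G) : Subgroup G) : Set G))) (hN : Cfsg.HasNormalPComplement p ↥(Subgroup.normalizer ((Cfsg.thompsonSubgroupAOf (S : Subgroup G)) : Set G))) : Cfsg.HasNormalPComplement p G := by
  exact thompsonA_normal_p_complement S h hN hC

end Cfsg.Agent.S2800
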