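import Cfsg.Statements.S2802
import Cfsg.Agent.LocalEven62.PReducedMax

set_option autoImplicit false
open Cfsg
open scoped commutatorElement

namespace Cfsg.Agent.S2802

/-- Let L be a finite group and p a prime with C_L(O_p(L)) ≤ O_p(L), T a Sylow p-subgroup of L and R a subgroup with T ≤ R. If X is a p-reduced normal subgroup of R (normal in R, elementary abelian, O_p(R/C_R(X)) = 1), then the normal closure of X in L is a p-reduced normal subgroup of L. -/
theorem result {L : Type*} [Group L] [Finite L] {p : ℕ} [Fact p.Prime] (hchar : Subgroup.centralizer (Cfsg.pCore p L : Set L) ≤ Cfsg.pCore p L) (T : Sylow p L) (R : Subgroup L) (hTR : (T : Subgroup L) ≤ R) (X : Subgroup ↥R) (hX : Cfsg.IsPReducedNormal p X) : Cfsg.IsPReducedNormal p (Subgroup.normalClosure ((X.map R.subtype : Subgroup L) : Set L)) := by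
  have hV : LocalEven62.PRed p (X.map R.subtype) R := by
    rw [← LocalEven62.pRed_subgroupOf_iff (Subgroup.map_subtype_le X), Subgroup.subgroupOf,
      Subgroup.comap_map_eq_self_of_injective R.subtype_injective]
    exact hX
  have h := LocalEven62.pRed_closure (LocalEven62.charP_top_iff.2 hchar)
    (LocalEven62.IsSyl.of_sylow T) hTR le_top hV
  have heq : Subgroup.normalClosure ((X.map R.subtype : Subgroup L) : Set L) =
      ⨆ g : ↥(⊤ : Subgroup L), (X.map R.subtype).map (MulAut.conj (g : L)).toMonoidHom := by
    haveI := LocalEven62.normal_of_le_normalizer h.le_normalizer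
    refine le_antisymm (Subgroup.normalClosure_le_normal (LocalEven62.le_closure_self _ _))
      (iSup_le fun g => ?_)
    rintro y ⟨x, hx, rfl⟩
    exact Subgroup.normalClosure_normal.conj_mem x (Subgroup.le_normalClosure hx) _
  rw [heq, LocalEven62.isPReducedNormal_iff]
  exact h

end Cfsg.Agent.S2802
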