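import Cfsg.Statements.S2803
import Cfsg.Agent.LocalEven62.PReducedMax

set_option autoImplicit false
open Cfsg
open scoped commutatorElement

namespace Cfsg.Agent.S2803

/-- Let L be a finite group and p a prime with C_L(O_p(L)) ≤ O_p(L), T a Sylow p-subgroup, and Y the largest p-reduced normal subgroup of L. Put T_L = C_T(Y) and L_T = N_L(T_L). Then L = L_T · C_L(Y) (elementwise), T_L = O_p(L_T), and Y = Ω₁(Z(T_L)). -/
theorem result {L : Type*} [Group L] [Finite L] {p : ℕ} [Fact p.Prime] (hchar : Subgroup.centralizer (Cfsg.pCore p L : Set L) ≤ Cfsg.pCore p L) (T : Sylow p L) (Y : Subgroup L) (hY : (Cfsg.IsPReducedNormal p Y ∧ ∀ V : Subgroup L, Cfsg.IsPReducedNormal p V → V ≤ Y)) (TL : Subgroup L) (hTL : TL = (T : Subgroup L) ⊓ Subgroup.centralizer (Y : Set L)) : (∀ g : L, ∃ a ∈ Subgroup.normalizer (TL : Set L), ∃ c ∈ Subgroup.centralizer (Y : Set L), g = a * c) ∧ (Cfsg.pCore p ↥(Subgroup.normalizer (TL : Set L))).map (Subgroup.normalizer (TL :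 Set L)).subtype = TL ∧ Y = Cfsg.omegaOne p (TL ⊓ Subgroup.centralizer (TL : Set L)) := by
  have hYeq : Y = LocalEven62.yOf p (⊤ : Subgroup L) := by
    refine le_antisymm (LocalEven62.le_yOf (LocalEven62.isPReducedNormal_iff.1 hY.1)) ?_
    exact hY.2 _ (LocalEven62.isPReducedNormal_iff.2 (LocalEven62.pRed_yOf ⊤))
  subst hYeq
  obtain ⟨h1, h2, h3⟩ := LocalEven62.omZ_structure (LocalEven62.charP_top_iff.2 hchar)
    (LocalEven62.IsSyl.of_sylow T) TL hTL
  rw [top_inf_eq, top_inf_eq] at h1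
  rw [top_inf_eq] at h2
  refine ⟨fun g => ?_, h2, h3⟩
  have hg : g ∈ Subgroup.normalizer (TL : Set L) ⊔
      Subgroup.centralizer (LocalEven62.yOf p (⊤ : Subgroup L) : Set L) := by
    rw [h1]; trivial
  haveI : (Subgroup.centralizer (LocalEven62.yOf p (⊤ : Subgroup L) : Set L)).Normal :=
    LocalEven62.normal_of_le_normalizer ((LocalEven62.pRed_yOf ⊤).le_normalizer.trans
      (LocalEven62.normalizer_le_normalizer_centralizer _))
  rw [← SetLike.mem_coe, Subgroup.mul_normal] at hg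
  obtain ⟨a, ha, c, hc, rfl⟩ := hg
  exact ⟨a, ha, c, hc, rfl⟩

end Cfsg.Agent.S2803
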