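import Cfsg.Statements.S2804
import Cfsg.Agent.LocalEven62.PReducedMax

set_option autoImplicit false
open Cfsg
open scoped commutatorElement

namespace Cfsg.Agent.S2804

/-- Let L be a finite group and p a prime with C_L(O_p(L)) ≤ O_p(L), V a p-reduced normal subgroup of L and K a subnormal subgroup of L. Then [V, O^p(K)] is contained in K and is a p-reduced normal subgroup of K, where O^p(K) is the subgroup of K generated by its elements of order prime to p. -/
theorem result {L : Type*} [Group L] [Finite L] {p : ℕ} [Fact p.Prime] (hchar : Subgroup.centralizer (Cfsg.pCore p L : Set L) ≤ Cfsg.pCore p L) (V : Subgroup L) (hV : Cfsg.IsPReducedNormal p V) (K : Subgroup L) (hK : K.IsSubnormal) : ⁅V, (Cfsg.pResidual p ↥K).map K.subtype⁆ ≤ K ∧ Cfsg.IsPReducedNormal p ((⁅V, (Cfsg.pResidual p ↥K).map K.subtype⁆).subgroupOf K) := by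
  have hVr := LocalEven62.isPReducedNormal_iff.1 hV
  set O : Subgroup L := LocalEven62.resOf p K with hO
  have hVO : V ≤ Cfsg.pCore p L := hVr.le_pCoreOf.trans LocalEven62.pCoreOf_top.le
  have hVn : V ≤ Subgroup.normalizer (O : Set L) :=
    hVO.trans (LocalEven62.pCore_le_normalizer_resOf hK).2
  have hWO : ⁅V, O⁆ ≤ O := Subgroup.le_normalizer_iff_commutator_le_right.1 hVn
  have hWV : ⁅V, O⁆ ≤ V := by
    haveI := hV.1
    exact Subgroup.commutator_le_left V O
  have hWK : ⁅V, O⁆ ≤ K := hWO.trans (LocalEven62.resOf_le K)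
  refine ⟨hWK, (LocalEven62.pRed_subgroupOf_iff hWK).2 ?_⟩
  refine ⟨hWK, LocalEven62.le_normalizer_of_conj_mem fun k hk w hw => ?_,
    ⟨⟨⟨fun a b => Subtype.ext (LocalEven62.elAb_commute hVr.elAb (hWV a.2) (hWV b.2))⟩⟩,
      fun a ha => hVr.elAb.2 a (hWV ha)⟩, fun N hNK hKN hNC => ?_⟩
  · haveI := hV.1
    have h1 : ⁅V, O⁆.map (MulAut.conj k).toMonoidHom ≤ ⁅V, O⁆ := by
      rw [Subgroup.map_commutator, LocalEven62.mem_normalizer_iff_map.1
          ((LocalEven62.le_normalizer_top (L := K) V) hk),
        LocalEven62.mem_normalizer_iff_map.1 ((Subgroup.le_normalizer.trans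
          (LocalEven62.normalizer_le_normalizer_resOf K)) hk)]
    exact h1 (LocalEven62.conj_mem_map hw)
  · have hsn : (N.subgroupOf (⊤ : Subgroup L)).IsSubnormal :=
      (Subgroup.IsSubnormal.step N K hNK hK
        (Subgroup.normal_subgroupOf_of_le_normalizer hKN)).subgroupOf
    refine (hVr.red_isSubnormal le_top hsn fun x hx hxp => ?_).trans
      (Subgroup.centralizer_le hWV)
    have hxO : x ∈ O := LocalEven62.mem_resOf (hNK hx) hxp
    exact LocalEven62.mem_centralizer_iff_commute.2 (LocalEven62.commute_step hxp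
      (hVr.isPGroup.to_le hWV) (LocalEven62.mem_centralizer_iff_commute.1 (hNC x hx hxp))
      fun v hv => Subgroup.commutator_comm O V ▸ Subgroup.commutator_mem_commutator hxO hv)

end Cfsg.Agent.S2804
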