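import Cfsg.Statements.S2806
import Cfsg.Agent.LocalEven62.LocalKieler
import Cfsg.Agent.LAE65.Subnormal
import Cfsg.Agent.Lib.Components.PComponents

set_option autoImplicit false
open Cfsg
open scoped commutatorElement

namespace Cfsg.Agent.S2806

/-- Let H be a finite group of local characteristic p, T a Sylow p-subgroup, and L₁, L₂ subnormal subgroups of H generating the subgroup L. Then the point stabilizer of L with respect to T ∩ L is generated by the point stabilizers of L₁ and L₂ with respect to T ∩ L₁ and T ∩ L₂ (point stabilizer of X w.r.t. R: the subgroup generated by the p-elements of X centralizing Ω₁(Z(R))). -/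
theorem result {H : Type*} [Group H] [Finite H] {p : ℕ} [Fact p.Prime] (hH : Cfsg.IsOfLocalCharacteristic p H) (T : Sylow p H) (L₁ L₂ : Subgroup H) (h₁ : L₁.IsSubnormal) (h₂ : L₂.IsSubnormal) : Cfsg.pointStabilizer p (L₁ ⊔ L₂) ((T : Subgroup H) ⊓ (L₁ ⊔ L₂)) = Cfsg.pointStabilizer p L₁ ((T : Subgroup H) ⊓ L₁) ⊔ Cfsg.pointStabilizer p L₂ ((T : Subgroup H) ⊓ L₂) := by
  set A : Subgroup H := LocalEven62.omZ p (T : Subgroup H)
  set C : Subgroup H := Subgroup.centralizer (A : Set H)
  -- the point stabilizer of a subnormal subgroup only depends on `A`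
  let PS : Subgroup H → Subgroup H := fun X =>
    Subgroup.closure {x : H | x ∈ X ⊓ C ∧ ∃ k : ℕ, orderOf x = p ^ k}
  have hPS : ∀ X : Subgroup H, X.IsSubnormal →
      Cfsg.pointStabilizer p X ((T : Subgroup H) ⊓ X) = PS X := by
    intro X hX
    show Subgroup.closure _ = Subgroup.closure _
    congr 1
    ext x
    refine and_congr_left fun hk => ?_
    by_cases hne : (T : Subgroup H) ⊓ X = ⊥
    · by_cases hxX : x ∈ X
      · obtain ⟨k, hk⟩ := hk
        have hp' : IsPGroup p ↥(Subgroup.zpowers x) :=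
          IsPGroup.of_card (n := k) (by rw [Nat.card_zpowers, hk])
        obtain ⟨m, -, hm⟩ := (LocalEven62.IsSyl.inf_subnormal T hX).exists_conj_le hp'
          (Subgroup.zpowers_le.2 hxX)
        rw [hne, le_bot_iff, Subgroup.map_eq_bot_iff_of_injective _ (MulAut.conj m).injective] at hm
        have hx1 : x = 1 := Subgroup.mem_bot.1 (hm ▸ Subgroup.mem_zpowers x)
        subst hx1
        exact iff_of_true (one_mem _) (one_mem _)
      · exact iff_of_false (fun h => hxX h.1) (fun h => hxX h.1)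
    · have h := LocalEven62.kieler_local hH T hX hne
      exact ⟨fun hx => h.ge hx, fun hx => h.le hx⟩
  have hJ := LAE65.isSubnormal_sup h₁ h₂
  rw [hPS _ hJ, hPS _ h₁, hPS _ h₂]
  refine le_antisymm ?_ (sup_le (Subgroup.closure_mono fun x hx => ⟨⟨le_sup_left (α := Subgroup H) hx.1.1, hx.1.2⟩, hx.2⟩)
    (Subgroup.closure_mono fun x hx => ⟨⟨le_sup_right (α := Subgroup H) hx.1.1, hx.1.2⟩, hx.2⟩))
  set J : Subgroup H := L₁ ⊔ L₂
  set J' : Subgroup H := J ⊓ C
  have hPle : ∀ X : Subgroup H, PS X ≤ X ⊓ C := fun X => (Subgroup.closure_le _).2 fun x hx => hx.1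
  have hPsn : ∀ X : Subgroup H, X.IsSubnormal → X ≤ J → ((PS X).subgroupOf J').IsSubnormal := by
    intro X hX hXJ
    have h1 : ((X ⊓ C).subgroupOf J').IsSubnormal := by
      have he : (X ⊓ C).subgroupOf J' = X.subgroupOf J' := by
        ext y
        rw [Subgroup.mem_subgroupOf, Subgroup.mem_subgroupOf]
        exact ⟨fun h => h.1, fun h => ⟨h, y.2.2⟩⟩
      rw [he]
      exact hX.subgroupOf
    refine Subgroup.IsSubnormal.step _ _ (fun y hy => hPle X hy) h1
      (Subgroup.normal_subgroupOf_of_le_normalizer ?_)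
    intro y hy
    refine LocalEven62.mem_normalizer_of_conj_mem fun z hz => ?_
    have hn : (y : H) ∈ Subgroup.normalizer ((PS X : Subgroup H) : Set H) := by
      refine LocalEven62.mem_normalizer_of_map_le ?_
      rw [MonoidHom.map_closure]
      refine Subgroup.closure_mono ?_
      rintro _ ⟨z, ⟨hz, k, hk⟩, rfl⟩
      refine ⟨LocalEven62.conj_mem_of_mem_normalizer (Subgroup.le_normalizer hy) hz, k, ?_⟩
      show orderOf (MulAut.conj (y : H) z) = p ^ k
      rw [MulEquiv.orderOf_eq, hk]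
    exact LocalEven62.conj_mem_of_mem_normalizer (H := PS X) hn hz
  have hP1 := hPsn L₁ h₁ le_sup_left
  have hP2 := hPsn L₂ h₂ le_sup_right
  have hW := LAE65.isSubnormal_sup hP1 hP2
  have hTJ : LocalEven62.IsSyl p ((T : Subgroup H) ⊓ J) J' :=
    (LocalEven62.IsSyl.inf_subnormal T hJ).of_le
      (le_inf inf_le_right fun t ht => LocalEven62.mem_centralizer_omZ_of_mem ht.1) inf_le_left
  have hTle : (T : Subgroup H) ⊓ J ≤ PS L₁ ⊔ PS L₂ := by
    rw [inf_comm, LAE65.sylow_inf_sup T h₁ h₂]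
    refine sup_le_sup ?_ ?_
    all_goals
      intro x hx
      refine Subgroup.subset_closure
        ⟨⟨hx.1, LocalEven62.mem_centralizer_omZ_of_mem hx.2⟩, ?_⟩
      obtain ⟨k, hk⟩ := IsPGroup.iff_orderOf.1 T.isPGroup' ⟨x, hx.2⟩
      exact ⟨k, by rwa [Subgroup.orderOf_mk] at hk⟩
  show Subgroup.closure _ ≤ _
  rw [Subgroup.closure_le]
  rintro x ⟨hx, k, hk⟩
  have hxk : x ^ p ^ k = 1 := hk ▸ pow_orderOf_eq_one x
  have hle : ((T : Subgroup H) ⊓ J).subgroupOf J' ≤
      (PS L₁).subgroupOf J' ⊔ (PS L₂).subgroupOf J' := by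
    rw [← Subgroup.subgroupOf_sup ((hPle L₁).trans (inf_le_inf_right _ le_sup_left))
      ((hPle L₂).trans (inf_le_inf_right _ le_sup_right))]
    exact fun y hy => hTle hy
  have h := Components.mem_of_isSubnormal_of_coprime_index (p := p) hW
    (((Fact.out : p.Prime).coprime_iff_not_dvd.2 fun hd => hTJ.not_dvd
      (hd.trans (Subgroup.index_dvd_of_le hle))).symm)
    (g := ⟨x, hx⟩) (k := k) (Subtype.ext hxk)
  rw [← Subgroup.subgroupOf_sup ((hPle L₁).trans (inf_le_inf_right _ le_sup_left))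
      ((hPle L₂).trans (inf_le_inf_right _ le_sup_right))] at h
  exact h

end Cfsg.Agent.S2806
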