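import Cfsg.Statements.S2809
import Cfsg.Agent.LocalEven62.Action

set_option autoImplicit false
open Cfsg
open scoped commutatorElement

namespace Cfsg.Agent.S2809

/-- Let H be a finite group, p a prime, R a p-subgroup of H with C_H(R) ≤ R, and L a subgroup of N_H(R) acting nilpotently on R (some iterated commutator [R, L, …, L] is trivial). Then L is a p-group. -/
theorem result {H : Type*} [Group H] [Finite H] {p : ℕ} [Fact p.Prime] (R : Subgroup H) (hR : IsPGroup p ↥R) (hC : Subgroup.centralizer (R : Set H) ≤ R) (L : Subgroup H) (hL : L ≤ Subgroup.normalizer (R : Set H)) (hnil : ∃ n : ℕ, Cfsg.iterCommutator R L n = ⊥) : IsPGroup p ↥L := by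
  obtain ⟨N, hN⟩ := hnil
  refine LocalEven62.isPGroup_of_coprime_eq_one fun x hxL hx => ?_
  refine Transfer.eq_one_of_coprime_of_mem hR (hC (LocalEven62.mem_centralizer_iff_commute.2 ?_)) hx
  have hle : ∀ i, Cfsg.iterCommutator R L i ≤ R := by
    intro i
    induction i with
    | zero => exact le_rfl
    | succ i ih =>
      exact (Subgroup.commutator_mono ih le_rfl).trans
        (Subgroup.le_normalizer_iff_commutator_le_left.1 hL)
  have key : ∀ n i : ℕ, n + i = N → ∀ r ∈ Cfsg.iterCommutator R L i, Commute x r := by
    intro n
    induction n with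
    | zero =>
      intro i hi r hr
      rw [Nat.zero_add] at hi
      rw [hi, hN, Subgroup.mem_bot] at hr
      rw [hr]
      exact Commute.one_right x
    | succ n ih =>
      intro i hi
      refine LocalEven62.commute_step hx (hR.to_le (hle (i + 1))) (ih (i + 1) (by omega))
        fun r hr => ?_
      rw [Cfsg.iterCommutator, Subgroup.commutator_comm]
      exact Subgroup.commutator_mem_commutator hxL hr
  exact key N 0 (Nat.add_zero N)

end Cfsg.Agent.S2809
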