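import Cfsg.Statements.S2810
import Cfsg.Agent.LocalEven62.Action

set_option autoImplicit false
open Cfsg
open scoped commutatorElement

namespace Cfsg.Agent.S2810

/-- Let H be a finite group of characteristic p and L a subgroup of H centralizing every factor of some H-invariant chain 1 = A₀ ≤ A₁ ≤ … ≤ Aₙ = O_p(H) of normal subgroups (that is, [A_{i+1}, L] ≤ Aᵢ for each i). Then L ≤ O_p(H). -/
theorem result {H : Type*} [Group H] [Finite H] {p : ℕ} [Fact p.Prime] (hchar : Subgroup.centralizer (Cfsg.pCore p H : Set H) ≤ Cfsg.pCore p H) (L : Subgroup H) (n : ℕ) (A : Fin (n + 1) → Subgroup H) (h0 : A 0 = ⊥) (hn : A (Fin.last n) = Cfsg.pCore p H) (hmono : Monotone A) (hnorm : ∀ i, (A i).Normal) (hcent : ∀ i : Fin n, ⁅A i.succ, L⁆ ≤ A i.castSucc) : L ≤ Cfsg.pCore p H := by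
  set C : Subgroup H := ⨅ i : Fin n, LocalEven62.stab (A i.succ) (A i.castSucc) with hC
  have hCn : C.Normal := LocalEven62.normal_of_le_normalizer <| by
    refine LocalEven62.le_normalizer_of_conj_mem fun g hg x hx => ?_
    rw [hC, Subgroup.mem_iInf] at hx ⊢
    intro i
    haveI := hnorm i.succ
    haveI := hnorm i.castSucc
    exact LocalEven62.conj_mem_of_mem_normalizer (LocalEven62.le_normalizer_stab
      (LocalEven62.le_normalizer_top _) (LocalEven62.le_normalizer_top _) hg) (hx i)
  refine le_trans ?_ (Thompson.le_pCore hCn (LocalEven62.isPGroup_of_coprime_eq_one ?_))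
  · intro l hl
    rw [hC, Subgroup.mem_iInf]
    intro i
    haveI := hnorm i.castSucc
    refine ⟨by rw [Subgroup.normalizer_eq_top]; trivial, fun r hr => hcent i ?_⟩
    rw [Subgroup.commutator_comm]
    exact Subgroup.commutator_mem_commutator hl hr
  · intro x hxC hx
    rw [hC, Subgroup.mem_iInf] at hxC
    have key : ∀ i : Fin (n + 1), ∀ a ∈ A i, Commute x a := by
      intro i
      induction i using Fin.induction with
      | zero =>
        intro a ha
        rw [h0, Subgroup.mem_bot] at ha
        rw [ha]
        exact Commute.one_right x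
      | succ i ih =>
        refine LocalEven62.commute_step hx ?_ ih (hxC i).2
        exact Thompson.isPGroup_pCore.to_le (hn ▸ hmono (Fin.le_last _))
    refine Transfer.eq_one_of_coprime_of_mem (Thompson.isPGroup_pCore (p := p))
      (hchar (LocalEven62.mem_centralizer_iff_commute.2 fun r hr => ?_)) hx
    exact key (Fin.last n) r (hn.symm ▸ hr)

end Cfsg.Agent.S2810
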