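import Cfsg.Statements.S2813
import Cfsg.Agent.LocalEven62.Action

set_option autoImplicit false
open Cfsg
open scoped commutatorElement

namespace Cfsg.Agent.S2813

/-- Let K be a subgroup of the finite group H with O_p(K) = 1 and Y a p-subgroup of N_H(K) with [K, Y, Y] = 1. Then [K, Y] = 1. -/
theorem result {H : Type*} [Group H] [Finite H] {p : ℕ} [Fact p.Prime] (K : Subgroup H) (hO : Cfsg.pCore p ↥K = ⊥) (Y : Subgroup H) (hY : IsPGroup p ↥Y) (hYK : Y ≤ Subgroup.normalizer (K : Set H)) (hq : ⁅⁅K, Y⁆, Y⁆ = ⊥) : ⁅K, Y⁆ = ⊥ := by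
  set D : Subgroup H := ⁅K, Y⁆
  have hDK : D ≤ K := Subgroup.le_normalizer_iff_commutator_le_left.1 hYK
  have hDY : ∀ z ∈ D, ∀ y ∈ Y, Commute z y := fun z hz y hy =>
    LocalEven62.mem_centralizer_iff_commute.1
      (Subgroup.commutator_eq_bot_iff_le_centralizer.1 hq hz) y hy
  have hKD : K ≤ Subgroup.normalizer (D : Set H) := Subgroup.normalizer_commutator_ge_left K Y
  have hgen : ∀ z ∈ D, ∀ k ∈ K, ∀ y ∈ Y, Commute z ⁅k, y⁆ := fun z hz k hk y hy => by
    have h1 : k⁻¹ * z * k ∈ D := by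
      simpa using LocalEven62.conj_mem_of_mem_normalizer (inv_mem (hKD hk)) hz
    have h2 : Commute z (k * y * k⁻¹) := by
      have h3 := (hDY _ h1 y hy).eq
      calc z * (k * y * k⁻¹) = k * ((k⁻¹ * z * k) * y) * k⁻¹ := by group
        _ = k * (y * (k⁻¹ * z * k)) * k⁻¹ := by rw [h3]
        _ = k * y * k⁻¹ * z := by group
    rw [commutatorElement_def]
    exact h2.mul_right (hDY z hz y hy).inv_right
  have hab : ∀ a ∈ D, ∀ b ∈ D, Commute a b := fun a ha b hb => by
    have : D ≤ Subgroup.centralizer ({a} : Set H) := Subgroup.commutator_le.2 fun k hk y hy =>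
      Subgroup.mem_centralizer_singleton_iff.2 (hgen a ha k hk y hy).symm.eq
    exact (Subgroup.mem_centralizer_singleton_iff.1 (this hb)).symm
  let E : Subgroup H :=
    { carrier := {z | z ∈ D ∧ ∃ m : ℕ, z ^ p ^ m = 1}
      one_mem' := ⟨one_mem _, 0, by simp⟩
      inv_mem' := fun {a} ⟨ha, m, hm⟩ => ⟨inv_mem ha, m, by rw [inv_pow, hm, inv_one]⟩
      mul_mem' := fun {a b} ⟨ha, m, hm⟩ ⟨hb, n, hn⟩ => ⟨mul_mem ha hb, m + n, by
        rw [(hab a ha b hb).mul_pow, pow_add, pow_mul, hm, one_pow, one_mul, mul_comm, pow_mul, hn,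
          one_pow]⟩ }
  have hDp : IsPGroup p ↥D := by
    have hDE : D ≤ E := Subgroup.commutator_le.2 fun k hk y hy => by
      refine ⟨Subgroup.commutator_mem_commutator hk hy, ?_⟩
      obtain ⟨m, hm⟩ := hY ⟨y, hy⟩
      have hm' : y ^ p ^ m = 1 := congrArg Subtype.val hm
      refine ⟨m, ?_⟩
      have hpow : ∀ j : ℕ, ⁅k, y ^ j⁆ = ⁅k, y⁆ ^ j := by
        intro j
        induction j with
        | zero => simp
        | succ j ih =>
          have hc : Commute (⁅k, y⁆ ^ j) y :=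
            (hDY _ (Subgroup.commutator_mem_commutator hk hy) y hy).pow_left j
          calc ⁅k, y ^ (j + 1)⁆ = ⁅k, y⁆ * (y * ⁅k, y ^ j⁆ * y⁻¹) := by
                rw [pow_succ']; simp only [commutatorElement_def]; group
            _ = ⁅k, y⁆ ^ (j + 1) := by rw [ih, ← hc.eq, mul_inv_cancel_right, pow_succ']
      rw [← hpow, hm', commutatorElement_one_right]
    rintro ⟨z, hz⟩
    obtain ⟨m, hm⟩ := (hDE hz).2
    exact ⟨m, Subtype.ext hm⟩
  have h := LocalEven62.le_pCoreOf hDp hDK hKD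
  rwa [(LocalEven62.pCoreOf_eq_bot_iff K).2 hO, le_bot_iff] at h

end Cfsg.Agent.S2813
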