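import Cfsg.Statements.S2814
import Cfsg.Agent.LocalEven62.SubnormalAux
import Cfsg.Agent.LocalEven62.PReduced

set_option autoImplicit false
open Cfsg
open scoped commutatorElement

namespace Cfsg.Agent.S2814

/-- Let A be a subgroup of the finite group H and K the subnormal closure of A (intersection of the subnormal subgroups containing A). Then K is the normal closure of A inside K and N_H(A) ≤ N_H(K); K = A·O^p(K), O^p(K) being generated by the elements of K of order prime to p; and if A is a p-group, O^p(K) = [O^p(K), A]. -/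
theorem result {H : Type*} [Group H] [Finite H] {p : ℕ} [Fact p.Prime] (A : Subgroup H) (K : Subgroup H) (hK : K = Cfsg.subnormalClosure A) : (Subgroup.normalClosure ((A.subgroupOf K : Subgroup ↥K) : Set ↥K)).map K.subtype = K ∧ Subgroup.normalizer (A : Set H) ≤ Subgroup.normalizer (K : Set H) ∧ A ⊔ (Cfsg.pResidual p ↥K).map K.subtype = K ∧ (IsPGroup p ↥A → ⁅(Cfsg.pResidual p ↥K).map K.subtype, A⁆ = (Cfsg.pResidual p ↥K).map K.subtype) := by
  obtain ⟨hAK, hKsn, hKmin⟩ := LocalEven62.subnormalClosure_mem A
  rw [← hK] at hAK hKsn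
  have hmin : ∀ W : Subgroup ↥K, W.IsSubnormal → A.subgroupOf K ≤ W → W = ⊤ := by
    intro W hW hAW
    have h := hKmin (W.map K.subtype) (fun a ha => ⟨⟨a, hAK ha⟩, hAW ha, rfl⟩) (hW.trans' hKsn)
    rw [← hK] at h
    refine eq_top_iff.2 fun x _ => ?_
    obtain ⟨y, hy, hxy⟩ := h x.2
    exact K.subtype_injective hxy ▸ hy
  refine ⟨?_, fun g hg => ?_, ?_, fun hAp => ?_⟩
  · rw [hmin _ Subgroup.normalClosure_normal.isSubnormal Subgroup.le_normalClosure,
      ← MonoidHom.range_eq_map, Subgroup.range_subtype]
  · refine LocalEven62.mem_normalizer_iff_map.2 (le_antisymm ?_ ?_)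
    · have h := hKmin (K.map (MulAut.conj g⁻¹).toMonoidHom)
        (le_of_eq_of_le (LocalEven62.mem_normalizer_iff_map.1 (inv_mem hg)).symm
          (Subgroup.map_mono hAK)) (hKsn.map (MulAut.conj g⁻¹).surjective)
      rw [← hK] at h
      exact LocalEven62.map_conj_le_iff.2 h
    · have h := hKmin (K.map (MulAut.conj g).toMonoidHom)
        (le_of_eq_of_le (LocalEven62.mem_normalizer_iff_map.1 hg).symm
          (Subgroup.map_mono hAK)) (hKsn.map (MulAut.conj g).surjective)
      rwa [← hK] at h
  · have h := congrArg (Subgroup.map K.subtype)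
      (hmin _ (LocalEven62.isSubnormal_of_pResidual_le (p := p)
        (H := A.subgroupOf K ⊔ Cfsg.pResidual p ↥K) le_sup_right) le_sup_left)
    rwa [Subgroup.map_sup, Subgroup.subgroupOf_map_subtype, inf_eq_left.2 hAK,
      ← MonoidHom.range_eq_map, Subgroup.range_subtype] at h
  · have hsup : A ⊔ LocalEven62.resOf p K = K := by
      have h := congrArg (Subgroup.map K.subtype)
        (hmin _ (LocalEven62.isSubnormal_of_pResidual_le (p := p)
          (H := A.subgroupOf K ⊔ Cfsg.pResidual p ↥K) le_sup_right) le_sup_left)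
      rwa [Subgroup.map_sup, Subgroup.subgroupOf_map_subtype, inf_eq_left.2 hAK,
        ← MonoidHom.range_eq_map, Subgroup.range_subtype] at h
    set R := LocalEven62.resOf p K
    set D : Subgroup H := ⁅R, A⁆
    have hKR : K ≤ Subgroup.normalizer (R : Set H) :=
      Subgroup.le_normalizer.trans (LocalEven62.normalizer_le_normalizer_resOf K)
    have hDR : D ≤ R := Subgroup.le_normalizer_iff_commutator_le_left.1 (hAK.trans hKR)
    have hDK : K ≤ Subgroup.normalizer (D : Set H) := hsup ▸ sup_le
      (Subgroup.normalizer_commutator_ge_right R A) (Subgroup.normalizer_commutator_ge_left R A)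
    have hn : K ≤ Subgroup.normalizer ((A ⊔ D : Subgroup H) : Set H) := by
      conv_lhs => rw [← hsup]
      refine sup_le ((le_sup_left : A ≤ A ⊔ D).trans Subgroup.le_normalizer) fun r hr => ?_
      refine LocalEven62.mem_normalizer_of_map_le ?_
      rw [Subgroup.map_sup, sup_le_iff]
      refine ⟨?_, le_sup_of_le_right (LocalEven62.mem_normalizer_iff_map.1
        (hDK (LocalEven62.resOf_le K hr))).le⟩
      rintro y ⟨a, ha, rfl⟩
      have : (MulAut.conj r).toMonoidHom a = ⁅r, a⁆ * a := by simp [commutatorElement_def]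
      rw [this]
      exact mul_mem ((le_sup_right : D ≤ A ⊔ D) (Subgroup.commutator_mem_commutator hr ha))
        ((le_sup_left : A ≤ A ⊔ D) ha)
    haveI := Subgroup.normal_subgroupOf_of_le_normalizer hn
    have htop := hmin ((A ⊔ D).subgroupOf K) (Subgroup.Normal.isSubnormal inferInstance)
      (fun a ha => (le_sup_left : A ≤ A ⊔ D) ha)
    rw [Subgroup.subgroupOf_eq_top] at htop
    refine le_antisymm hDR (LocalEven62.resOf_le_iff.2 fun x hxK hx => ?_)
    refine LocalEven62.coprime_mem_of_mem_sup ((hAK.trans hDK)) (fun a ha hap => ?_) (htop hxK) hx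
    rw [Transfer.eq_one_of_coprime_of_mem hAp ha hap]
    exact one_mem _

end Cfsg.Agent.S2814
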