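import Cfsg.Statements.S2815
import Cfsg.Agent.LocalEven62.FStar
import Cfsg.Agent.LocalEven62.MinimalOver
import Cfsg.Agent.LargeSub.CharP

set_option autoImplicit false
open Cfsg
open scoped commutatorElement

namespace Cfsg.Agent.S2815

/-- Let H be a finite group and p a prime dividing its order with O_p(H) = 1, and suppose K = O^p(H) (generated by the elements of order prime to p) is quasisimple. Then K = F*(H); for every nontrivial p-subgroup Y of H, K = [K, Y] and K lies in the subgroup generated by the K-conjugates of Y; every normal subgroup of H not containing K has order prime to p; and H is p-irreducible. -/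
theorem result {H : Type*} [Group H] [Finite H] {p : ℕ} [Fact p.Prime] (hp : p ∣ Nat.card H) (hO : Cfsg.pCore p H = ⊥) (hq : Cfsg.IsQuasisimple ↥(Cfsg.pResidual p H)) : Cfsg.pResidual p H = Cfsg.generalizedFittingSubgroup H ∧ (∀ Y : Subgroup H, IsPGroup p ↥Y → Y ≠ ⊥ → ⁅Cfsg.pResidual p H, Y⁆ = Cfsg.pResidual p H ∧ Cfsg.pResidual p H ≤ ⨆ k : ↥(Cfsg.pResidual p H), Y.map (MulAut.conj (k : H)).toMonoidHom) ∧ (∀ C : Subgroup H, C.Normal → ¬ Cfsg.pResidual p H ≤ C → (Nat.card ↥C).Coprime p) ∧ Cfsg.IsPIrreducible p H := by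
  set K : Subgroup H := Cfsg.pResidual p H with hKdef
  set Fs : Subgroup H := Cfsg.generalizedFittingSubgroup H
  have hKn : K.Normal := inferInstance
  have hKc : Cfsg.IsComponent K := ⟨hKn.isSubnormal, hq⟩
  have hKK := Components.component_commutator_eq_self hKc
  have hlay : Cfsg.layer H ≤ K := by
    rw [Components.layer_le_iff]
    intro L hL
    by_contra hno
    haveI : Group.IsPerfect ↥L := hL.2.1
    haveI : Group.IsPerfect ↥(L.map (QuotientGroup.mk' K)) :=
      Group.IsPerfect.ofSurjective ((QuotientGroup.mk' K).subgroupMap_surjective L)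
    haveI : Nontrivial ↥(L.map (QuotientGroup.mk' K)) := by
      rw [Subgroup.nontrivial_iff_ne_bot, Ne, Subgroup.map_eq_bot_iff, QuotientGroup.ker_mk']
      exact hno
    haveI := (Transfer.isPGroup_quotient_pResidual (p := p) (G := H)).isNilpotent
    haveI : Group.IsSolvable (H ⧸ K) := Coprime.isSolvable_of_isNilpotent' inferInstance
    exact Group.IsPerfect.not_isSolvable ↥(L.map (QuotientGroup.mk' K))
      (Coprime.solvable_of_le le_top (Group.isSolvable_of_isSolvable_injective
        (Subgroup.topEquiv (G := H ⧸ K)).injective (f := (Subgroup.topEquiv (G := H ⧸ K)).toMonoidHom)))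
  have hfit : Cfsg.fittingSubgroup H ≤ K := fun x hx => Transfer.mem_pResidual_of_coprime
    ((LocalEven62.fitting_coprime hO).coprime_dvd_left (by
      rw [← Subgroup.orderOf_mk x hx]; exact orderOf_dvd_natCard _))
  have hKF : K = Fs := le_antisymm (Components.component_le_generalizedFitting hKc) (sup_le hlay hfit)
  have hnorm : ∀ (N : Subgroup H), N ≤ K → K ≤ Subgroup.normalizer (N : Set H) →
      N = K ∨ N ≤ Subgroup.centralizer (K : Set H) := by
    intro N hNK hn
    haveI : (N.subgroupOf K).Normal := Subgroup.normal_subgroupOf_of_le_normalizer hn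
    rcases Components.normal_eq_top_or_le_center hq (N.subgroupOf K) with h | h
    · exact Or.inl (le_antisymm hNK (Subgroup.subgroupOf_eq_top.1 h))
    · refine Or.inr fun x hx => LocalEven62.mem_centralizer_iff_commute.2 fun y hy => ?_
      exact (congrArg Subtype.val (Subgroup.mem_center_iff.1 (h (show (⟨x, hNK hx⟩ : ↥K) ∈ N.subgroupOf K from hx))
        ⟨y, hy⟩)).symm
  have hY : ∀ Y : Subgroup H, IsPGroup p ↥Y → Y ≠ ⊥ → ⁅K, Y⁆ = K ∧
      K ≤ ⨆ k : ↥K, Y.map (MulAut.conj (k : H)).toMonoidHom := by
    intro Y hY hY1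
    have hYK : Y ≤ Subgroup.normalizer (K : Set H) := LocalEven62.le_normalizer_top K
    have h1 : ⁅K, Y⁆ = K := by
      refine (hnorm _ (Coprime.commutator_le_of_le_normalizer hYK)
        (Subgroup.normalizer_commutator_ge_left K Y)).resolve_right fun hc => hY1 ?_
      have h2 : ⁅K, Y⁆ = ⊥ := Components.commutator_eq_bot_of_perfect hKK (by
        rw [Subgroup.commutator_comm Y K]
        exact Subgroup.commutator_eq_bot_iff_le_centralizer.2 hc)
      refine LargeSub.eq_bot_of_le_normalizer_generalizedFitting hO hY ?_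
      exact hKF.ge.trans ((Subgroup.commutator_eq_bot_iff_le_centralizer.1 h2).trans
        (Subgroup.centralizer_le_normalizer (Y : Set H)))
    refine ⟨h1, ?_⟩
    conv_lhs => rw [← h1]
    refine Subgroup.commutator_le.2 fun k hk y hy => ?_
    refine Subgroup.mul_mem _ ?_ (Subgroup.inv_mem _ ?_)
    · exact le_iSup (fun k : ↥K => Y.map (MulAut.conj (k : H)).toMonoidHom) ⟨k, hk⟩
        (LocalEven62.conj_mem_map hy)
    · refine le_iSup (fun k : ↥K => Y.map (MulAut.conj (k : H)).toMonoidHom) 1 ?_
      simpa using hy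
  have hC : ∀ C : Subgroup H, C.Normal → ¬ K ≤ C → (Nat.card ↥C).Coprime p := by
    intro C hCn hKC
    haveI := hCn
    have hCK : C ⊓ K ≤ Subgroup.centralizer (K : Set H) :=
      (hnorm _ inf_le_right (LocalEven62.le_normalizer_inf (LocalEven62.le_normalizer_top C)
        Subgroup.le_normalizer)).resolve_left (fun h => hKC (h ▸ inf_le_left))
    have h0 : ⁅K, C⁆ = ⊥ := Components.commutator_eq_bot_of_perfect hKK (by
      refine le_bot_iff.1 ((Subgroup.commutator_mono (le_inf ?_ ?_) le_rfl).trans
        (Subgroup.commutator_eq_bot_iff_le_centralizer.2 hCK).le)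
      · exact Subgroup.commutator_le_left C K
      · exact Subgroup.commutator_le_right C K)
    have hCcent : C ≤ Subgroup.centralizer (K : Set H) :=
      Subgroup.le_centralizer_iff.1 (Subgroup.commutator_eq_bot_iff_le_centralizer.1 h0)
    have hCle : C ≤ K := (hKF ▸ hCcent).trans
      (Components.centralizer_generalizedFitting_le.trans hKF.ge)
    haveI : IsMulCommutative ↥C := ⟨⟨fun a b => Subtype.ext
      (LocalEven62.mem_centralizer_iff_commute.1 (hCcent a.2) b (hCle b.2)).eq⟩⟩
    letI : CommGroup ↥C :=
      { (inferInstance : Group ↥C) with mul_comm := fun a b => Std.Commutative.comm a b }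
    have hnil : Group.IsNilpotent ↥C := CommGroup.isNilpotent
    exact (LocalEven62.fitting_coprime hO).coprime_dvd_left
      (Subgroup.card_dvd_of_le (Fitting.le_fitting hCn hnil))
  refine ⟨hKF, hY, hC, fun hcl => ?_, fun N hN hncl => ?_⟩
  · have hP := hcl (default : Sylow p H)
    exact (default : Sylow p H).ne_bot_of_dvd_card hp
      (le_bot_iff.1 (hO ▸ Thompson.le_pCore hP (default : Sylow p H).isPGroup'))
  · by_contra hno
    refine hncl fun P => ?_
    have h1 : (P : Subgroup ↥N) = ⊥ := by
      obtain ⟨k, hk⟩ := IsPGroup.iff_card.1 P.isPGroup'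
      refine Subgroup.card_eq_one.1 (Nat.eq_one_of_dvd_coprimes (hC N hN hno)
        (Subgroup.card_subgroup_dvd_card _) ?_)
      rw [hk]
      cases k with
      | zero => simp
      | succ k =>
        exfalso
        have hd : p ∣ Nat.card ↥N := dvd_trans (hk ▸ dvd_pow_self p k.succ_ne_zero)
          (Subgroup.card_subgroup_dvd_card _)
        exact (Fact.out : p.Prime).coprime_iff_not_dvd.1 (hC N hN hno).symm hd
    rw [h1]; infer_instance

end Cfsg.Agent.S2815
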