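import Cfsg.Statements.S2816
import Cfsg.Agent.LocalEven62.FStar
import Cfsg.Agent.LargeSub.CharP

set_option autoImplicit false
open Cfsg
open scoped commutatorElement

namespace Cfsg.Agent.S2816

/-- Let H be a finite group and p a prime with O_p(H) = 1, and Y a p-subgroup of H. Then for every subnormal subgroup K of H containing Y, [F*(H), Y] = [F*(K), Y] = [F*(K), Y, Y]; and if Y₀ ≤ Y with [F*(H), Y, Y₀] = 1 then Y₀ = 1 (in particular [F*(H), Y] = 1 forces Y = 1). -/
theorem result {H : Type*} [Group H] [Finite H] {p : ℕ} [Fact p.Prime] (hO : Cfsg.pCore p H = ⊥) (Y : Subgroup H) (hY : IsPGroup p ↥Y) : (∀ K : Subgroup H, K.IsSubnormal → Y ≤ K → ⁅Cfsg.generalizedFittingSubgroup H, Y⁆ = ⁅(Cfsg.generalizedFittingSubgroup ↥K).map K.subtype, Y⁆ ∧ ⁅(Cfsg.generalizedFittingSubgroup ↥K).map K.subtype, Y⁆ = ⁅⁅(Cfsg.generalizedFittingSubgroup ↥K).map K.subtype, Y⁆, Y⁆) ∧ (∀ Y₀ : Subgroup H, Y₀ ≤ Y → ⁅⁅Cfsg.generalizedFittingSubgroup H, Y⁆, Y₀⁆ = ⊥ → Y₀ = ⊥) := by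
  set F : Subgroup H := Cfsg.generalizedFittingSubgroup H
  have hF : F.Normal := inferInstance
  have hsn : ∀ {X : Subgroup H}, X.IsSubnormal → (F ⊓ X).IsSubnormal := fun {X} hX =>
    (hF.isSubnormal).inf hX
  have hYn : ∀ {X : Subgroup H}, Y ≤ X → Y ≤ Subgroup.normalizer ((F ⊓ X : Subgroup H) : Set H) :=
    fun {X} h => LocalEven62.le_normalizer_inf (LocalEven62.le_normalizer_top F)
      (h.trans Subgroup.le_normalizer)
  have hsp : ∀ {X : Subgroup H}, X.IsSubnormal → Y ≤ X →
      ⁅F ⊓ X, Y⁆ = ⁅⁅F ⊓ X, Y⁆, Y⁆ := fun {X} hX hYX =>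
    ((LocalEven62.fs_of_isSubnormal hO (hsn hX) inf_le_left).split hY (hYn hYX)).2
  have main : ∀ K : Subgroup H, K.IsSubnormal → Y ≤ K → ⁅F ⊓ K, Y⁆ = ⁅F, Y⁆ := by
    intro K hK
    induction hK with
    | top => intro _; rw [inf_top_eq]
    | step A B hle hB hn ih =>
      intro hYA
      refine le_antisymm (Subgroup.commutator_mono inf_le_left le_rfl) ?_
      rw [← ih (hYA.trans hle), hsp hB (hYA.trans hle)]
      refine Subgroup.commutator_mono (le_inf ?_ ?_) le_rfl
      · exact (Subgroup.commutator_mono inf_le_left le_rfl).trans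
          (Coprime.commutator_le_of_le_normalizer (LocalEven62.le_normalizer_top F))
      · refine (Subgroup.commutator_mono inf_le_right hYA).trans ?_
        rw [Subgroup.commutator_comm]
        exact Coprime.commutator_le_of_le_normalizer
          ((Subgroup.normal_subgroupOf_iff_le_normalizer hle).1 hn)
  refine ⟨fun K hK hYK => ?_, fun Y₀ hY₀ h => ?_⟩
  · rw [← LocalEven62.generalizedFitting_inf_isSubnormal hK]
    exact ⟨(main K hK hYK).symm, hsp hK hYK⟩
  · refine LargeSub.eq_bot_of_le_normalizer_generalizedFitting hO (hY.to_le hY₀) ?_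
    have hs := ((LocalEven62.fs_of_isSubnormal hO hF.isSubnormal le_rfl).split hY
      (LocalEven62.le_normalizer_top F)).1
    have hle : F ≤ Subgroup.centralizer (Y₀ : Set H) := by
      conv_lhs => rw [← hs]
      exact sup_le (Subgroup.commutator_eq_bot_iff_le_centralizer.1 h)
        (inf_le_right.trans (Subgroup.centralizer_le hY₀))
    exact hle.trans (Subgroup.centralizer_le_normalizer (Y₀ : Set H))

end Cfsg.Agent.S2816
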