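import Cfsg.Statements.S2817
import Cfsg.Agent.LocalEven62.FStar
import Cfsg.Agent.LargeSub.CharP

set_option autoImplicit false
open Cfsg
open scoped commutatorElement

namespace Cfsg.Agent.S2817

/-- Let H be a finite group and p a prime with O_p(H) = 1, Q a p-subgroup of H, L = [F*(H), Q], and F the largest normal subgroup of F*(H) centralized by Q (a normal subgroup of F*(H) centralized by Q and containing every such). Then F = C_{F*(H)}(LQ); L = [L, Q]; L ∩ F ≤ Φ(L); every p-subgroup B of N_H(Q) with [L, B] ≤ F satisfies [L, B] = 1; and C_H(FL) has order prime to p. -/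
theorem result {H : Type*} [Group H] [Finite H] {p : ℕ} [Fact p.Prime] (hO : Cfsg.pCore p H = ⊥) (Q : Subgroup H) (hQ : IsPGroup p ↥Q) (L : Subgroup H) (hL : L = ⁅Cfsg.generalizedFittingSubgroup H, Q⁆) (F : Subgroup H) (hF : F ≤ Cfsg.generalizedFittingSubgroup H ∧ Cfsg.generalizedFittingSubgroup H ≤ Subgroup.normalizer (F : Set H) ∧ Q ≤ Subgroup.centralizer (F : Set H) ∧ ∀ N : Subgroup H, N ≤ Cfsg.generalizedFittingSubgroup H → Cfsg.generalizedFittingSubgroup H ≤ Subgroup.normalizer (N : Set H) → Q ≤ Subgroup.centralizer (N : Set H) → N ≤ F) : F = Cfsg.generalizedFittingSubgroup H ⊓ Subgroup.centralizer ((L ⊔ Q : Subgroup H) : Set H) ∧ ⁅L, Q⁆ = L ∧ L ⊓ F ≤ (frattini ↥L).map L.subtype ∧ (∀ B : Subgroup H, IsPGroup p ↥B → B ≤ Subgroup.normalizer (Q : Set H) → ⁅L, B⁆ ≤ F → ⁅L, B⁆ = ⊥) ∧ (Nat.card ↥(Subgroup.centralizer ((F ⊔ L : Subgroup H) : Set H))).Coprime p := by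
  set Fs : Subgroup H := Cfsg.generalizedFittingSubgroup H with hFsdef
  have hFs : Fs.Normal := inferInstance
  obtain ⟨hFF, hFn, hQF, hFmax⟩ := hF
  have hQFs : Q ≤ Subgroup.normalizer (Fs : Set H) := LocalEven62.le_normalizer_top Fs
  have hfsF : LocalEven62.FS p Fs := LocalEven62.fs_of_isSubnormal hO hFs.isSubnormal le_rfl
  obtain ⟨hsF, hLQ⟩ := hfsF.split hQ hQFs
  rw [← hL] at hsF hLQ
  have hLFs : L ≤ Fs := hL.le.trans (Coprime.commutator_le_of_le_normalizer hQFs)
  have hFsL : Fs ≤ Subgroup.normalizer (L : Set H) := hL ▸ Subgroup.normalizer_commutator_ge_left Fs Q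
  have hQL : Q ≤ Subgroup.normalizer (L : Set H) := hL ▸ Subgroup.normalizer_commutator_ge_right Fs Q
  have hfsL : LocalEven62.FS p L := LocalEven62.fs_of_isSubnormal hO
    (Subgroup.IsSubnormal.step L Fs hLFs hFs.isSubnormal
      (Subgroup.normal_subgroupOf_of_le_normalizer hFsL)) hLFs
  -- `F` centralizes `L`
  have hFL : F ≤ Subgroup.centralizer (L : Set H) := by
    rw [Subgroup.le_centralizer_iff, hL, ← Subgroup.commutator_eq_bot_iff_le_centralizer]
    refine Subgroup.commutator_commutator_eq_bot_of_rotate (le_bot_iff.1 ?_) (le_bot_iff.1 ?_)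
    · rw [Subgroup.commutator_eq_bot_iff_le_centralizer.2 hQF, Subgroup.commutator_bot_left]
    · calc ⁅⁅F, Fs⁆, Q⁆ ≤ ⁅F, Q⁆ :=
            Subgroup.commutator_mono (Coprime.commutator_le_of_le_normalizer hFn) le_rfl
        _ = ⊥ := by
          rw [Subgroup.commutator_comm]
          exact Subgroup.commutator_eq_bot_iff_le_centralizer.2 hQF
  have hF_eq : F = Fs ⊓ Subgroup.centralizer ((L ⊔ Q : Subgroup H) : Set H) := by
    refine le_antisymm (le_inf hFF (Subgroup.le_centralizer_iff.1 (sup_le
      (Subgroup.le_centralizer_iff.1 hFL) hQF))) (hFmax _ inf_le_left ?_ ?_)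
    · conv_lhs => rw [← hsF]
      refine sup_le (LocalEven62.le_normalizer_of_conj_mem fun l hl x hx => ?_)
        (LocalEven62.le_normalizer_inf (inf_le_left.trans Subgroup.le_normalizer) ?_)
      · rw [← ((LocalEven62.mem_centralizer_iff_commute.1 hx.2) l
          ((le_sup_left : L ≤ L ⊔ Q) hl)).eq, mul_inv_cancel_right]
        exact hx
      · refine (LocalEven62.le_normalizer_sup (inf_le_left.trans hFsL) ?_).trans
          (LocalEven62.normalizer_le_normalizer_centralizer _)
        exact inf_le_right.trans ((Subgroup.centralizer_le_normalizer (Q : Set H)))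
    · exact le_sup_right.trans (Subgroup.le_centralizer_iff.1 inf_le_right)
  have hLF : L ⊓ F ≤ (frattini ↥L).map L.subtype := by
    intro z hz
    refine ⟨⟨z, hz.1⟩, ?_, rfl⟩
    rw [SetLike.mem_coe, frattini, Order.radical, Subgroup.mem_iInf]
    intro M
    rw [Subgroup.mem_iInf]
    intro hM
    by_contra hzM
    have hzc : (⟨z, hz.1⟩ : ↥L) ∈ Subgroup.center ↥L := Subgroup.mem_center_iff.2 fun y =>
      Subtype.ext ((LocalEven62.mem_centralizer_iff_commute.1 (hFL hz.2) y y.2).eq.symm)
    set Z : Subgroup ↥L := Subgroup.zpowers ⟨z, hz.1⟩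
    have hZc : Z ≤ Subgroup.center ↥L := Subgroup.zpowers_le.2 hzc
    have htop : M ⊔ Z = ⊤ := hM.2 _ (lt_of_le_of_ne le_sup_left fun he =>
      hzM (he ▸ (le_sup_right : Z ≤ M ⊔ Z) (Subgroup.mem_zpowers _)))
    have hder : commutator ↥L ≤ M := by
      rw [_root_.commutator_def, Subgroup.commutator_le]
      intro a _ b _
      have ha : a ∈ M ⊔ Z := htop ▸ Subgroup.mem_top a
      have hb : b ∈ M ⊔ Z := htop ▸ Subgroup.mem_top b
      have hMN : Z ≤ Subgroup.normalizer (M : Set ↥L) := hZc.trans fun c hc =>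
        LocalEven62.mem_normalizer_of_conj_mem fun x hx => by
          rw [← Subgroup.mem_center_iff.1 hc x, mul_inv_cancel_right]; exact hx
      rw [← SetLike.mem_coe, Subgroup.coe_mul_of_right_le_normalizer_left M Z hMN] at ha hb
      obtain ⟨m, hm, c, hc, rfl⟩ := ha
      obtain ⟨m', hm', c', hc', rfl⟩ := hb
      rw [Components.commutator_mul_center (hZc hc) (hZc hc'), commutatorElement_def]
      exact M.mul_mem (M.mul_mem (M.mul_mem hm hm') (M.inv_mem hm)) (M.inv_mem hm')
    have h1 : z ∈ (commutator ↥L).map L.subtype := by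
      rw [_root_.commutator_def, Subgroup.map_commutator, ← MonoidHom.range_eq_map, Subgroup.range_subtype]
      exact hfsL.inf_centralizer_le_derived hQ hQL hLQ.symm
        ⟨hz.1, Subgroup.le_centralizer_iff.1 hQF hz.2⟩
    obtain ⟨y, hy, hyz⟩ := h1
    have e : y = (⟨z, hz.1⟩ : ↥L) := L.subtype_injective hyz
    exact hzM (hder (e ▸ hy))
  refine ⟨hF_eq, hLQ.symm, hLF, fun B hB hBQ hBF => ?_, ?_⟩
  · -- `B` acts trivially on `L / Φ(L)`
    have hBL : B ≤ Subgroup.normalizer (L : Set H) := fun b hb => by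
      rw [hL]
      exact LocalEven62.mem_normalizer_iff_map.2 (by
        rw [Subgroup.map_commutator,
          LocalEven62.mem_normalizer_iff_map.1 ((LocalEven62.le_normalizer_top Fs) hb),
          LocalEven62.mem_normalizer_iff_map.1 (hBQ hb)])
    rw [Subgroup.commutator_eq_bot_iff_le_centralizer, Subgroup.le_centralizer_iff]
    refine Coprime.le_centralizer_of_frattini B L hBL ?_ fun b hb l hl => ?_
    · obtain ⟨k, hk⟩ := IsPGroup.iff_card.1 hB
      rw [hk]
      exact Nat.Coprime.pow_left k (((LocalEven62.fitting_coprime hfsL.1).coprime_dvd_left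
        (Subgroup.card_dvd_of_le Fitting.frattini_le_fitting)).symm)
    · refine hLF ⟨?_, hBF ?_⟩
      · exact L.mul_mem (LocalEven62.conj_mem_of_mem_normalizer (hBL hb) hl) (L.inv_mem hl)
      · rw [Subgroup.commutator_comm]
        exact Subgroup.commutator_mem_commutator hb hl
  · refine ((Fact.out : p.Prime).coprime_iff_not_dvd.2 fun hd => ?_).symm
    set C : Subgroup H := Subgroup.centralizer ((F ⊔ L : Subgroup H) : Set H)
    obtain ⟨x, hx⟩ := exists_prime_orderOf_dvd_card' p hd
    set P : Subgroup H := Subgroup.zpowers (x : H)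
    have hord : orderOf (x : H) = p := by rw [Subgroup.orderOf_coe, hx]
    have hPp : IsPGroup p ↥P := IsPGroup.of_card (n := 1) (by
      rw [Nat.card_zpowers, hord, pow_one])
    have hPC : P ≤ C := Subgroup.zpowers_le.2 x.2
    have hPF : F ≤ Subgroup.centralizer (P : Set H) :=
      le_sup_left.trans (Subgroup.le_centralizer_iff.1 hPC)
    have hPL : L ≤ Subgroup.centralizer (P : Set H) :=
      le_sup_right.trans (Subgroup.le_centralizer_iff.1 hPC)
    set U : Subgroup H := Fs ⊓ Subgroup.centralizer (L : Set H)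
    have hFsU : Fs ≤ Subgroup.normalizer (U : Set H) := LocalEven62.le_normalizer_inf
      Subgroup.le_normalizer (hFsL.trans (LocalEven62.normalizer_le_normalizer_centralizer L))
    have hQU : Q ≤ Subgroup.normalizer (U : Set H) := LocalEven62.le_normalizer_inf hQFs
      (hQL.trans (LocalEven62.normalizer_le_normalizer_centralizer L))
    have hUsplit := ((LocalEven62.fs_of_isSubnormal hO (Subgroup.IsSubnormal.step U Fs inf_le_left
      hFs.isSubnormal (Subgroup.normal_subgroupOf_of_le_normalizer hFsU)) inf_le_left).split hQ hQU).1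
    have hUP : U ≤ Subgroup.centralizer (P : Set H) := by
      conv_lhs => rw [← hUsplit]
      refine sup_le ?_ (le_trans ?_ hPF)
      · exact ((Subgroup.commutator_mono inf_le_left le_rfl).trans hL.ge).trans hPL
      · rw [hF_eq]
        exact le_inf (inf_le_left.trans inf_le_left) (Subgroup.le_centralizer_iff.1 (sup_le
          (Subgroup.le_centralizer_iff.1 (inf_le_left.trans inf_le_right))
          (Subgroup.le_centralizer_iff.1 inf_le_right)))
    have hPFs : P ≤ Subgroup.normalizer (Fs : Set H) := LocalEven62.le_normalizer_top Fs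
    have hDU : ⁅Fs, P⁆ ≤ U := by
      refine le_inf (Coprime.commutator_le_of_le_normalizer hPFs) ?_
      rw [← Subgroup.commutator_eq_bot_iff_le_centralizer]
      refine Subgroup.commutator_commutator_eq_bot_of_rotate (le_bot_iff.1 ?_) (le_bot_iff.1 ?_)
      · rw [Subgroup.commutator_comm P L, Subgroup.commutator_eq_bot_iff_le_centralizer.2 hPL,
          Subgroup.commutator_bot_left]
      · refine (Subgroup.commutator_mono (Coprime.commutator_le_of_le_normalizer hFsL) le_rfl).trans
          (Subgroup.commutator_eq_bot_iff_le_centralizer.2 hPL).le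
    have h1 : ⁅Fs, P⁆ = ⊥ := by
      rw [(hfsF.split hPp hPFs).2]
      exact Subgroup.commutator_eq_bot_iff_le_centralizer.2 (hDU.trans hUP)
    have h2 : P = ⊥ := LargeSub.eq_bot_of_le_normalizer_generalizedFitting hO hPp
      ((Subgroup.commutator_eq_bot_iff_le_centralizer.1 h1).trans
        (Subgroup.centralizer_le_normalizer (P : Set H)))
    rw [Subgroup.zpowers_eq_bot] at h2
    rw [h2, orderOf_one] at hord
    exact (Fact.out : p.Prime).one_lt.ne hord

end Cfsg.Agent.S2817
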