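import Cfsg.Statements.S2818
import Cfsg.Agent.LocalEven62.Frattini

set_option autoImplicit false
open Cfsg
open scoped commutatorElement

namespace Cfsg.Agent.S2818

/-- Let P be a finite p-subgroup of a group G and H a subgroup of N_G(P) with [P, H] ≤ Ω₁(Z(P)) (the elements of order dividing p in the centre of P). Then H centralizes the Frattini subgroup of P. -/
theorem result {G : Type*} [Group G] [Finite G] {p : ℕ} [Fact p.Prime] (P : Subgroup G) (hP : IsPGroup p ↥P) (H : Subgroup G) (hH : H ≤ Subgroup.normalizer (P : Set G)) (h : ⁅P, H⁆ ≤ Cfsg.omegaOne p (P ⊓ Subgroup.centralizer (P : Set G))) : ⁅(frattini ↥P).map P.subtype, H⁆ = ⊥ := by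
  rw [Subgroup.commutator_eq_bot_iff_le_centralizer, Subgroup.le_centralizer_iff]
  intro l hl
  have hz : ∀ x ∈ P, ⁅l, x⁆ ∈ P ⊓ Subgroup.centralizer (P : Set G) ∧ ⁅l, x⁆ ^ p = 1 := by
    intro x hx
    have h1 : Cfsg.omegaOne p (P ⊓ Subgroup.centralizer (P : Set G)) ≤
        P ⊓ Subgroup.centralizer (P : Set G) := (Subgroup.closure_le _).2 fun y hy => hy.1
    let E : Subgroup G :=
      { carrier := {y | y ∈ P ⊓ Subgroup.centralizer (P : Set G) ∧ y ^ p = 1}
        one_mem' := ⟨one_mem _, one_pow p⟩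
        inv_mem' := fun {a} ⟨ha, ha'⟩ => ⟨inv_mem ha, by rw [inv_pow, ha', inv_one]⟩
        mul_mem' := fun {a b} ⟨ha, ha'⟩ ⟨hb, hb'⟩ => ⟨mul_mem ha hb, by
          rw [(LocalEven62.mem_centralizer_iff_commute.1 ha.2 b hb.1).mul_pow, ha', hb', one_mul]⟩ }
    have h2 : Cfsg.omegaOne p (P ⊓ Subgroup.centralizer (P : Set G)) ≤ E :=
      (Subgroup.closure_le _).2 fun y hy => hy
    exact h2 (h (by rw [Subgroup.commutator_comm]; exact Subgroup.commutator_mem_commutator hl hx))
  have hD : (frattini ↥P).map P.subtype ≤ P ⊓ Subgroup.centralizer ({l} : Set G) := by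
    refine LocalEven62.frattini_map_le_of hP ?_ ?_
    · refine Subgroup.commutator_le.2 fun a ha b hb => Subgroup.mem_inf.2
        ⟨(Subgroup.commutator_le_self P) (Subgroup.commutator_mem_commutator ha hb), ?_⟩
      rw [Subgroup.mem_centralizer_singleton_iff]
      obtain ⟨hca, -⟩ := hz a ha
      obtain ⟨hcb, -⟩ := hz b hb
      have ka : l * a * l⁻¹ = ⁅l, a⁆ * a := by rw [commutatorElement_def]; group
      have kb : l * b * l⁻¹ = ⁅l, b⁆ * b := by rw [commutatorElement_def]; group
      set u := ⁅l, a⁆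
      set v := ⁅l, b⁆
      have hu : ∀ z ∈ P, u * z = z * u := fun z hz =>
        (LocalEven62.mem_centralizer_iff_commute.1 hca.2 z hz).eq
      have hv : ∀ z ∈ P, v * z = z * v := fun z hz =>
        (LocalEven62.mem_centralizer_iff_commute.1 hcb.2 z hz).eq
      have key : (u * a) * (v * b) * (u * a)⁻¹ * (v * b)⁻¹ = a * b * a⁻¹ * b⁻¹ := by
        calc (u * a) * (v * b) * (u * a)⁻¹ * (v * b)⁻¹
            = u * (a * v * b * a⁻¹) * u⁻¹ * b⁻¹ * v⁻¹ := by group
          _ = (a * v * b * a⁻¹) * b⁻¹ * v⁻¹ := by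
              rw [hu _ (mul_mem (mul_mem (mul_mem ha hcb.1) hb) (inv_mem ha)),
                mul_inv_cancel_right]
          _ = (v * a) * b * a⁻¹ * b⁻¹ * v⁻¹ := by rw [← hv a ha]
          _ = v * (a * b * a⁻¹ * b⁻¹) * v⁻¹ := by group
          _ = a * b * a⁻¹ * b⁻¹ := by
              rw [hv _ (mul_mem (mul_mem (mul_mem ha hb) (inv_mem ha)) (inv_mem hb)),
                mul_inv_cancel_right]
      symm
      rw [← mul_inv_eq_iff_eq_mul]
      calc l * ⁅a, b⁆ * l⁻¹ = ⁅l * a * l⁻¹, l * b * l⁻¹⁆ := by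
            simp only [commutatorElement_def]; group
        _ = ⁅a, b⁆ := by
            rw [ka, kb]
            simpa only [commutatorElement_def] using key
    · intro x hx
      refine Subgroup.mem_inf.2 ⟨pow_mem hx p, Subgroup.mem_centralizer_singleton_iff.2 ?_⟩
      obtain ⟨hc, hcp⟩ := hz x hx
      have k : l * x * l⁻¹ = ⁅l, x⁆ * x := by rw [commutatorElement_def]; group
      symm
      rw [← mul_inv_eq_iff_eq_mul, ← conj_pow, k,
        Commute.mul_pow (LocalEven62.mem_centralizer_iff_commute.1 hc.2 x hx), hcp, one_mul]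
  exact LocalEven62.mem_centralizer_iff_commute.2 fun y hy =>
    Commute.symm (Subgroup.mem_centralizer_singleton_iff.1 (hD hy).2)

end Cfsg.Agent.S2818
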