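import Cfsg.Statements.S2819
import Cfsg.Agent.LocalEven62.Frattini

set_option autoImplicit false
open Cfsg
open scoped commutatorElement

namespace Cfsg.Agent.S2819

/-- Let P be a finite p-subgroup of a group G, H a subgroup of N_G(P), and Y a subgroup of H centralizing the derived subgroup P' such that [P, Y] is elementary abelian. Then O^p(⟨Y^H⟩), the subgroup of the normal closure of Y in H generated by its elements of order prime to p, centralizes the Frattini subgroup of P. -/
theorem result {G : Type*} [Group G] [Finite G] {p : ℕ} [Fact p.Prime] (P : Subgroup G) (hP : IsPGroup p ↥P) (H : Subgroup G) (hH : H ≤ Subgroup.normalizer (P : Set G)) (Y : Subgroup G) (hYH : Y ≤ H) (hYc : Y ≤ Subgroup.centralizer ((⁅P, P⁆ : Subgroup G) : Set G)) (hel : Cfsg.IsElementaryAbelian p ⁅P, Y⁆) (NY : Subgroup G) (hNY : NY = (Subgroup.normalClosure ((Y.subgroupOf H : Subgroup ↥H) : Set ↥H)).map H.subtype) : (Cfsg.pResidual p ↥NY).map NY.subtype ≤ Subgroup.centralizer (((frattini ↥P).map P.subtype : Subgroup G) : Set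 G) := by
  set E : Subgroup G := ⁅P, P⁆ with hE
  set F : Subgroup G := (frattini ↥P).map P.subtype
  have hPE : P ≤ Subgroup.normalizer (E : Set G) := Subgroup.normalizer_commutator_ge_left P P
  have hHE : H ≤ Subgroup.normalizer (E : Set G) := fun h hh =>
    LocalEven62.mem_normalizer_iff_map.2 (by
      rw [Subgroup.map_commutator, LocalEven62.mem_normalizer_iff_map.1 (hH hh)])
  have hHF : H ≤ Subgroup.normalizer (F : Set G) := by
    refine LocalEven62.le_normalizer_of_conj_mem fun h hh x hx => ?_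
    have hle : F.map (MulAut.conj h).toMonoidHom ≤ F := by
      rw [Subgroup.map_le_iff_le_comap]
      refine LocalEven62.frattini_map_le_of hP ?_ ?_
      · rw [← Subgroup.map_le_iff_le_comap, Subgroup.map_commutator,
          LocalEven62.mem_normalizer_iff_map.1 (hH hh)]
        exact LocalEven62.commutator_le_frattini_map hP
      · intro y hy
        rw [Subgroup.mem_comap, map_pow]
        exact LocalEven62.pow_mem_frattini_map hP (LocalEven62.conj_mem_of_mem_normalizer (hH hh) hy)
    exact hle (LocalEven62.conj_mem_map hx)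
  -- `Y` stabilizes `Φ(P) / P'` and `P'`
  have hY : ∀ y ∈ Y, ∀ x ∈ F, ⁅y, x⁆ ∈ E := by
    intro y hy
    have hyP : ∀ a ∈ P, y * a * y⁻¹ ∈ P :=
      fun a ha => LocalEven62.conj_mem_of_mem_normalizer (hH (hYH hy)) ha
    let D : Subgroup G :=
      { carrier := {x | x ∈ P ∧ ⁅y, x⁆ ∈ E}
        one_mem' := ⟨one_mem _, by simp [E.one_mem]⟩
        mul_mem' := fun {a b} ⟨ha, ha'⟩ ⟨hb, hb'⟩ => ⟨mul_mem ha hb, by
          have : ⁅y, a * b⁆ = ⁅y, a⁆ * (a * ⁅y, b⁆ * a⁻¹) := by
            simp only [commutatorElement_def]; group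
          rw [this]
          exact E.mul_mem ha' (LocalEven62.conj_mem_of_mem_normalizer (hPE ha) hb')⟩
        inv_mem' := fun {a} ⟨ha, ha'⟩ => ⟨inv_mem ha, by
          have : ⁅y, a⁻¹⁆ = a⁻¹ * ⁅y, a⁆⁻¹ * a⁻¹⁻¹ := by simp only [commutatorElement_def]; group
          rw [this]
          exact LocalEven62.conj_mem_of_mem_normalizer (inv_mem (hPE ha)) (inv_mem ha')⟩ }
    have hFD : F ≤ D := by
      refine LocalEven62.frattini_map_le_of hP (fun x hx => ⟨(Subgroup.commutator_le_self P) hx, ?_⟩)
        fun x hx => ⟨pow_mem hx p, ?_⟩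
      · rw [commutatorElement_eq_one_iff_mul_comm.2
          (LocalEven62.mem_centralizer_iff_commute.1 (hYc hy) x hx)]
        exact E.one_mem
      · set c : G := ⁅y, x⁆ with hc
        have hcP : c ∈ P := by
          rw [hc, commutatorElement_def]; exact mul_mem (hyP x hx) (inv_mem hx)
        have hcp : c ^ p = 1 := by
          have h1 : ⁅x, y⁆ ^ p = 1 := hel.2 _ (Subgroup.commutator_mem_commutator hx hy)
          rw [hc, ← commutatorElement_inv, inv_pow, h1, inv_one]
        have h1 : ⁅y, x ^ p⁆ = (c * x) ^ p * (x ^ p)⁻¹ := by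
          have : y * x * y⁻¹ = c * x := by rw [hc, commutatorElement_def]; group
          rw [commutatorElement_def, ← this, conj_pow]
        have hn : (E.subgroupOf P).Normal := Subgroup.normal_subgroupOf_of_le_normalizer hPE
        have hab : ∀ a b : ↥P ⧸ E.subgroupOf P, Commute a b := fun a b => by
          obtain ⟨a, rfl⟩ := QuotientGroup.mk'_surjective _ a
          obtain ⟨b, rfl⟩ := QuotientGroup.mk'_surjective _ b
          refine commutatorElement_eq_one_iff_mul_comm.1 ?_
          rw [← map_commutatorElement]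
          exact (QuotientGroup.eq_one_iff _).2
            (Subgroup.commutator_mem_commutator a.2 b.2 : ⁅(a : G), (b : G)⁆ ∈ E)
        have h2 : QuotientGroup.mk' (E.subgroupOf P)
            ((⟨c, hcP⟩ * ⟨x, hx⟩) ^ p * (⟨x, hx⟩ ^ p)⁻¹) = 1 := by
          have h3 : (⟨c, hcP⟩ : ↥P) ^ p = 1 := Subtype.ext hcp
          rw [map_mul, map_pow, map_mul, (hab _ _).mul_pow, map_inv, map_pow,
            ← map_pow _ (⟨c, hcP⟩ : ↥P), h3, map_one, one_mul, mul_inv_cancel]
        rw [h1]
        exact (QuotientGroup.eq_one_iff (N := E.subgroupOf P)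
          (((⟨c, hcP⟩ : ↥P) * (⟨x, hx⟩ : ↥P)) ^ p * ((⟨x, hx⟩ : ↥P) ^ p)⁻¹)).1 h2
    exact fun x hx => (hFD hx).2
  have hHn : H ≤ Subgroup.normalizer
      ((LocalEven62.stab F E ⊓ Subgroup.centralizer (E : Set G) : Subgroup G) : Set G) :=
    LocalEven62.le_normalizer_inf (LocalEven62.le_normalizer_stab hHF hHE)
      (hHE.trans (LocalEven62.normalizer_le_normalizer_centralizer E))
  have hNYle : NY ≤ LocalEven62.stab F E ⊓ Subgroup.centralizer (E : Set G) := by
    rw [hNY, Subgroup.map_le_iff_le_comap]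
    haveI : ((LocalEven62.stab F E ⊓ Subgroup.centralizer (E : Set G)).comap H.subtype).Normal :=
      Subgroup.normal_subgroupOf_of_le_normalizer hHn
    refine Subgroup.normalClosure_le_normal fun y hy => ?_
    exact Subgroup.mem_inf.2 ⟨⟨hHE (hYH hy), hY y hy⟩, hYc hy⟩
  refine LocalEven62.resOf_le_iff.2 fun x hx hxp => LocalEven62.mem_centralizer_iff_commute.2 ?_
  exact LocalEven62.commute_step hxp (hP.to_le (Subgroup.commutator_le_self P))
    (LocalEven62.mem_centralizer_iff_commute.1 (hNYle hx).2) ((hNYle hx).1).2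

end Cfsg.Agent.S2819
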