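import Cfsg.Statements.S2820
import Cfsg.Agent.LocalEven62.PReducedMax

set_option autoImplicit false
open Cfsg
open scoped commutatorElement

namespace Cfsg.Agent.S2820

/-- Let A and B be subnormal subgroups of the finite group H with A a p-group and B = O^p(B) (B generated by its elements of order prime to p). Then A normalizes B and B = O^p(AB), the subgroup of ⟨A, B⟩ generated by its elements of order prime to p. -/
theorem result {H : Type*} [Group H] [Finite H] {p : ℕ} [Fact p.Prime] (A B : Subgroup H) (hA : A.IsSubnormal) (hB : B.IsSubnormal) (hAp : IsPGroup p ↥A) (hBres : (Cfsg.pResidual p ↥B).map B.subtype = B) : A ≤ Subgroup.normalizer (B : Set H) ∧ (Cfsg.pResidual p ↥(A ⊔ B)).map (A ⊔ B).subtype = B := by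
  have hAO : A ≤ Cfsg.pCore p H := Thompson.le_pCore_of_isSubnormal hA hAp
  obtain ⟨h1, h2⟩ := LocalEven62.pCore_le_normalizer_resOf (p := p) hB
  refine ⟨(hAO.trans h2).trans (le_of_eq ?_), le_antisymm ?_ ?_⟩
  · show Subgroup.normalizer ((LocalEven62.resOf p B : Subgroup H) : Set H) = _
    rw [LocalEven62.resOf, hBres]
  · refine le_trans (LocalEven62.resOf_mono (L := B ⊔ Cfsg.pCore p H)
      (sup_le (le_sup_of_le_right hAO) le_sup_left)) ?_
    rw [h1]
    exact LocalEven62.resOf_le B
  · conv_lhs => rw [← hBres]
    exact LocalEven62.resOf_mono le_sup_right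

end Cfsg.Agent.S2820
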