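import Cfsg.Statements.S2821
import Cfsg.Agent.LocalEven62.PReducedMax

set_option autoImplicit false
open Cfsg
open scoped commutatorElement

namespace Cfsg.Agent.S2821

/-- Let H be a finite group, p a prime, T a Sylow p-subgroup and L a subgroup of characteristic p containing T; let Y_L be the largest p-reduced normal subgroup of L (the join of the normal elementary abelian p-subgroups V of L with O_p(L/C_L(V)) = 1). Then T₀ := C_T(Y_L) is a Sylow p-subgroup of C_H(Y_L); moreover O_p(L) ≤ T₀ ≤ C_L(Y_L) and Ω₁(Z(T)) ≤ Z_L ≤ Y_L ≤ Ω₁(Z(O_p(L))), where Z_L is generated by the Ω₁(Z(S)) over the Sylow p-subgroups S of L. -/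
theorem result {H : Type*} [Group H] [Finite H] {p : ℕ} [Fact p.Prime] (T : Sylow p H) (L : Subgroup H) (hTL : (T : Subgroup H) ≤ L) (hL : Subgroup.centralizer (Cfsg.pCore p ↥L : Set ↥L) ≤ Cfsg.pCore p ↥L) (T₀ : Subgroup H) (hT₀ : T₀ = (T : Subgroup H) ⊓ Subgroup.centralizer (((Cfsg.largestPReducedOf p L) : Subgroup H) : Set H)) : (∃ P : Sylow p ↥(Subgroup.centralizer (((Cfsg.largestPReducedOf p L) : Subgroup H) : Set H)), (P : Subgroup ↥(Subgroup.centralizer (((Cfsg.largestPReducedOf p L) : Subgroup H) : Set H))) = T₀.subgroupOf (Subgroup.centralizer (((Cfsg.largestPReducedOf p L) : Subgroup H) : Set H))) ∧ (Cfsg.pCoreOf p L) ≤ T₀ ∧ T₀ ≤ L ⊓ Subgroup.centralizer (((Cfsg.largestPReducedOf p L) : Subgroup H) : Set H) ∧ (Cfsg.omegaOne p ((T : Subgroup H) ⊓ Subgroup.centralizer (((T : Subgroup H) : Subgroup H) : Set H))) ≤ Cfsg.sylowCenterClosure p L ∧ Cfsg.sylowCenterClosure p L ≤ (Cfsg.largestPReducedOf p L) ∧ (Cfsg.largestPReducedOf p L) ≤ (Cfsg.omegaOne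 p ((Cfsg.pCoreOf p L) ⊓ Subgroup.centralizer (((Cfsg.pCoreOf p L) : Subgroup H) : Set H))) := by
  have hLc : LocalEven62.CharP p L := LocalEven62.charP_iff.2 hL
  have hTs : LocalEven62.IsSyl p (T : Subgroup H) L := LocalEven62.IsSyl.sylow_of_le T hTL
  set Y := Cfsg.largestPReducedOf p L with hY
  set C : Subgroup H := Subgroup.centralizer (Y : Set H)
  have hYr : LocalEven62.PRed p Y L := LocalEven62.pRed_yOf L
  have hs : LocalEven62.IsSyl p T₀ C := by
    rw [hT₀]
    exact (LocalEven62.IsSyl.sylow_of_le T (hTL.trans hYr.le_normalizer)).inf_normal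
      (LocalEven62.centralizer_le_normalizer' Y)
      (LocalEven62.normalizer_le_normalizer_centralizer Y)
  refine ⟨⟨hs.toSylow, rfl⟩, ?_, ?_, ?_, ?_, LocalEven62.yOf_le_omZ_pCoreOf L⟩
  · rw [hT₀]
    exact le_inf hTs.pCoreOf_le hYr.pCoreOf_le_centralizer
  · rw [hT₀]
    exact inf_le_inf_right _ hTL
  · refine le_trans ?_ (le_iSup (fun S : Sylow p ↥L => Cfsg.omegaOne p
      (((S : Subgroup ↥L).map L.subtype) ⊓ Subgroup.centralizer
        (((S : Subgroup ↥L).map L.subtype : Subgroup H) : Set H))) hTs.toSylow)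
    rw [LocalEven62.IsSyl.coe_toSylow, Subgroup.subgroupOf_map_subtype, inf_eq_left.2 hTL]
  · exact iSup_le fun S => LocalEven62.omZ_le_yOf hLc (LocalEven62.IsSyl.of_sylow_sub S)

end Cfsg.Agent.S2821
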