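import Cfsg.Statements.S2823
import Cfsg.Agent.LocalEven62.PReducedMax
import Cfsg.Agent.LocalEven62.Avg

set_option autoImplicit false
open Cfsg
open scoped commutatorElement

namespace Cfsg.Agent.S2823

/-- Let H be a finite group, p a prime, T a Sylow p-subgroup and L a subgroup of characteristic p containing T; let Z_L be the subgroup generated by the Ω₁(Z(S)) over the Sylow p-subgroups S of L and O^p(L) the subgroup generated by the elements of L of order prime to p. Then Z_L = Ω₁(Z(L))·[Z_L, O^p(L)] and [Z_L, L] = [Z_L, O^p(L)]. -/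
theorem result {H : Type*} [Group H] [Finite H] {p : ℕ} [Fact p.Prime] (T : Sylow p H) (L : Subgroup H) (hTL : (T : Subgroup H) ≤ L) (hL : Subgroup.centralizer (Cfsg.pCore p ↥L : Set ↥L) ≤ Cfsg.pCore p ↥L) : Cfsg.sylowCenterClosure p L = (Cfsg.omegaOne p (L ⊓ Subgroup.centralizer ((L : Subgroup H) : Set H))) ⊔ ⁅Cfsg.sylowCenterClosure p L, (Cfsg.pResidual p ↥L).map L.subtype⁆ ∧ ⁅Cfsg.sylowCenterClosure p L, L⁆ = ⁅Cfsg.sylowCenterClosure p L, (Cfsg.pResidual p ↥L).map L.subtype⁆ := by
  set Z : Subgroup H := Cfsg.sylowCenterClosure p L with hZ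
  have hLc : LocalEven62.CharP p L := LocalEven62.charP_iff.2 hL
  have hTs : LocalEven62.IsSyl p (T : Subgroup H) L := LocalEven62.IsSyl.sylow_of_le T hTL
  set A : Subgroup H := LocalEven62.omZ p (T : Subgroup H)
  set D : Subgroup H := ⁅Z, LocalEven62.resOf p L⁆
  set Om : Subgroup H := Cfsg.omegaOne p (L ⊓ Subgroup.centralizer (L : Set H))
  have hAZ : A ≤ Z := by
    refine le_trans ?_ (le_iSup (fun S : Sylow p ↥L => Cfsg.omegaOne p
      (((S : Subgroup ↥L).map L.subtype) ⊓ Subgroup.centralizer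
        (((S : Subgroup ↥L).map L.subtype : Subgroup H) : Set H))) hTs.toSylow)
    rw [LocalEven62.IsSyl.coe_toSylow, Subgroup.subgroupOf_map_subtype, inf_eq_left.2 hTL]
  have hZY : Z ≤ LocalEven62.yOf p L :=
    iSup_le fun S => LocalEven62.omZ_le_yOf hLc (LocalEven62.IsSyl.of_sylow_sub S)
  have hYr := LocalEven62.pRed_yOf (p := p) L
  have hZc : IsMulCommutative ↥Z :=
    ⟨⟨fun a b => Subtype.ext (LocalEven62.elAb_commute hYr.elAb (hZY a.2) (hZY b.2))⟩⟩
  have hZexp : ∀ z ∈ Z, z ^ p = 1 := fun z hz => hYr.elAb.2 z (hZY hz)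
  have hZL : Z ≤ L := hZY.trans hYr.le
  -- the conjugates of `A` by `L` generate `Z`
  have hLZ : L ≤ Subgroup.normalizer (Z : Set H) := by
    intro g hg
    refine LocalEven62.mem_normalizer_of_map_le ?_
    rw [hZ, Cfsg.sylowCenterClosure, Subgroup.map_iSup, iSup_le_iff]
    intro S
    set P : Subgroup H := (S : Subgroup ↥L).map L.subtype
    have hP := (LocalEven62.IsSyl.of_sylow_sub S).map_conj (Subgroup.le_normalizer hg)
    refine le_trans ?_ (le_iSup (fun S : Sylow p ↥L => Cfsg.omegaOne p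
      (((S : Subgroup ↥L).map L.subtype) ⊓ Subgroup.centralizer
        (((S : Subgroup ↥L).map L.subtype : Subgroup H) : Set H))) hP.toSylow)
    rw [LocalEven62.IsSyl.coe_toSylow, Subgroup.subgroupOf_map_subtype, inf_eq_left.2 hP.le]
    rintro y ⟨x, hx, rfl⟩
    obtain ⟨h1, h2, h3⟩ := LocalEven62.mem_omZ.1 hx
    refine LocalEven62.mem_omZ.2 ⟨LocalEven62.conj_mem_map h1,
      LocalEven62.mem_centralizer_iff_commute.2 ?_, by rw [← map_pow, h3, map_one]⟩
    rintro z ⟨z', hz', rfl⟩
    exact (LocalEven62.mem_centralizer_iff_commute.1 h2 z' hz').map (MulAut.conj g).toMonoidHom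
  have hRn : L ≤ Subgroup.normalizer ((LocalEven62.resOf p L : Subgroup H) : Set H) :=
    Subgroup.le_normalizer.trans (LocalEven62.normalizer_le_normalizer_resOf L)
  have hLD : L ≤ Subgroup.normalizer (D : Set H) := by
    intro g hg
    refine LocalEven62.mem_normalizer_iff_map.2 ?_
    rw [Subgroup.map_commutator, LocalEven62.mem_normalizer_iff_map.1 (hLZ hg),
      LocalEven62.mem_normalizer_iff_map.1 (hRn hg)]
  have hDL : D ≤ L :=
    (Subgroup.commutator_mono hZL (LocalEven62.resOf_le L)).trans (Subgroup.commutator_le_self L)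
  have hstab : L ≤ LocalEven62.stab A D := by
    rw [← hTs.sup_resOf]
    refine sup_le (fun t ht => ⟨hLD (hTL ht), fun a ha => ?_⟩)
      (fun x hx => ⟨hLD (LocalEven62.resOf_le L hx), fun a ha => ?_⟩)
    · rw [commutatorElement_eq_one_iff_mul_comm.2]
      · exact D.one_mem
      · exact (LocalEven62.mem_centralizer_iff_commute.1
          (LocalEven62.omZ_le_centralizer _ ha) t ht).symm
    · show _ ∈ D
      rw [← commutatorElement_inv]
      exact D.inv_mem (Subgroup.commutator_mem_commutator (hAZ ha) hx)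
  obtain ⟨φ, hφ, -, hD, -⟩ := LocalEven62.exists_avg (S := (T : Subgroup H)) hZc hLZ
  have hOmL : Om ≤ L ⊓ Subgroup.centralizer (L : Set H) :=
    (Subgroup.closure_le _).2 fun x hx => hx.1
  have hA1 : A ≤ Om ⊔ D := fun a ha => by
    have haZ : a ∈ Z ⊓ Subgroup.centralizer ((T : Subgroup H) : Set H) :=
      Subgroup.mem_inf.2 ⟨hAZ ha, LocalEven62.omZ_le_centralizer _ ha⟩
    have hd := hD D a haZ fun k hk => (hstab hk).2 a ha
    have hf : φ a ∈ Om := Subgroup.subset_closure
      ⟨⟨hZL (hφ a haZ).1, (hφ a haZ).2⟩, hZexp _ (hφ a haZ).1⟩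
    refine LocalEven62.mem_of_pow_mem ⟨1, by rw [pow_one]; exact hZexp a (hAZ ha)⟩ hTs.not_dvd ?_
    have h1 := (Om ⊔ D).mul_mem ((le_sup_left : Om ≤ Om ⊔ D) hf)
      ((Om ⊔ D).inv_mem ((le_sup_right : D ≤ Om ⊔ D) hd))
    rwa [mul_inv_rev, inv_inv, mul_inv_cancel_left] at h1
  have hLsup : L ≤ Subgroup.normalizer ((Om ⊔ D : Subgroup H) : Set H) :=
    LocalEven62.le_normalizer_sup (LocalEven62.le_normalizer_of_conj_mem fun g hg x hx => by
      rw [(LocalEven62.mem_centralizer_iff_commute.1 (hOmL hx).2 g hg).symm.eq,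
        mul_inv_cancel_right]
      exact hx) hLD
  have hZle : Z ≤ Om ⊔ D := by
    refine iSup_le fun S => ?_
    obtain ⟨k, hk, hkS⟩ := (LocalEven62.IsSyl.of_sylow_sub S).exists_conj_eq hTs
    have hk' := LocalEven62.mem_normalizer_iff_map.1 (hLsup hk)
    rw [← hk']
    intro x hx
    rw [LocalEven62.mem_map_conj]
    refine hA1 (LocalEven62.mem_omZ.2 ?_)
    obtain ⟨h1, h2, h3⟩ := LocalEven62.mem_omZ.1 hx
    rw [← hkS, LocalEven62.mem_map_conj] at h1
    refine ⟨h1, LocalEven62.mem_centralizer_iff_commute.2 fun t ht => ?_, ?_⟩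
    · have h4 : Commute x (k * t * k⁻¹) := LocalEven62.mem_centralizer_iff_commute.1 h2 _
        (hkS ▸ LocalEven62.conj_mem_map ht)
      simpa [mul_assoc] using h4.map (MulAut.conj k⁻¹).toMonoidHom
    · simpa [h3] using (map_pow (MulAut.conj k⁻¹).toMonoidHom x p).symm
  have hOmZ : Om ≤ Z := fun z hz => by
    have hz1 := hOmL hz
    have hzp : z ^ p = 1 := by
      let E := LocalEven62.expSub p (L ⊓ Subgroup.centralizer (L : Set H))
        fun a ha b hb => LocalEven62.mem_centralizer_iff_commute.1 ha.2 b hb.1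
      exact ((Subgroup.closure_le (K := E)).2 (fun x hx => hx) hz).2
    have hzc := LocalEven62.mem_centralizer_iff_commute.1 hz1.2
    have hzT : z ∈ (T : Subgroup H) := by
      refine hTs.normal_le (R := Subgroup.zpowers z) ?_ (Subgroup.zpowers_le.2 hz1.1) ?_
        (Subgroup.mem_zpowers z)
      · rintro ⟨y, hy⟩
        obtain ⟨i, rfl⟩ := Subgroup.mem_zpowers_iff.1 hy
        refine ⟨1, Subtype.ext ?_⟩
        show (z ^ i) ^ p ^ 1 = 1
        rw [pow_one, ← zpow_natCast, ← zpow_mul, mul_comm, zpow_mul, zpow_natCast, hzp, one_zpow]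
      · refine LocalEven62.le_normalizer_of_conj_mem fun g hg y hy => ?_
        obtain ⟨i, rfl⟩ := Subgroup.mem_zpowers_iff.1 hy
        rw [((hzc g hg).zpow_left i).symm.eq, mul_inv_cancel_right]
        exact Subgroup.zpow_mem_zpowers z i
    exact hAZ (LocalEven62.mem_omZ.2
      ⟨hzT, Subgroup.centralizer_le hTL hz1.2, hzp⟩)
  refine ⟨le_antisymm hZle (sup_le hOmZ ?_), le_antisymm ?_
    (Subgroup.commutator_mono le_rfl (LocalEven62.resOf_le L))⟩
  · exact Subgroup.le_normalizer_iff_commutator_le_left.1 ((LocalEven62.resOf_le L).trans hLZ)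
  · have hstab2 : Z ≤ LocalEven62.stab L D := by
      refine hZle.trans (sup_le (fun z hz => ⟨hLD (hOmL hz).1, fun g hg => ?_⟩)
        fun d hd => ⟨hLD (hDL hd), fun g hg => ?_⟩)
      · rw [commutatorElement_eq_one_iff_mul_comm.2
          (LocalEven62.mem_centralizer_iff_commute.1 (hOmL hz).2 g hg)]
        exact D.one_mem
      · exact Subgroup.le_normalizer_iff_commutator_le_left.1 hLD
          (Subgroup.commutator_mem_commutator hd hg)
    exact Subgroup.commutator_le.2 fun z hz g hg => (hstab2 hz).2 g hg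

end Cfsg.Agent.S2823
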