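import Cfsg.Statements.S2825
import Cfsg.Agent.LocalEven62.PReducedMax

set_option autoImplicit false
open Cfsg
open scoped commutatorElement

namespace Cfsg.Agent.S2825

/-- Let L be a subnormal subgroup of the finite group H, p a prime, Y_H and Y_L the largest p-reduced normal subgroups. Then Y_H ∩ L = Y_H ∩ Y_L and this subgroup is a p-reduced normal subgroup of L; C_L(Y_L) = C_L(Y_H) = C_L(Y_H ∩ L); and if O^p(H) ≤ L, then [Y_L, L] = 1 if and only if [Y_H, H] = 1. -/
theorem result {H : Type*} [Group H] [Finite H] {p : ℕ} [Fact p.Prime] (L : Subgroup H) (hL : L.IsSubnormal) : Cfsg.largestPReduced p H ⊓ L = Cfsg.largestPReduced p H ⊓ (Cfsg.largestPReducedOf p L) ∧ Cfsg.IsPReducedNormal p ((Cfsg.largestPReduced p H ⊓ L).subgroupOf L) ∧ L ⊓ Subgroup.centralizer ((Cfsg.largestPReducedOf p L : Subgroup H) : Set H) = L ⊓ Subgroup.centralizer (Cfsg.largestPReduced p H : Set H) ∧ L ⊓ Subgroup.centralizer (Cfsg.largestPReduced p H : Set H) = L ⊓ Subgroup.centralizer ((Cfsg.largestPReduced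 p H ⊓ L : Subgroup H) : Set H) ∧ (Cfsg.pResidual p H ≤ L → (⁅(Cfsg.largestPReducedOf p L), L⁆ = ⊥ ↔ ⁅Cfsg.largestPReduced p H, (⊤ : Subgroup H)⁆ = ⊥)) := by
  rw [LocalEven62.largestPReduced_eq]
  obtain ⟨h1, h2⟩ := (LocalEven62.pRed_yOf (p := p) (⊤ : Subgroup H)).inf_subnormal hL
  have hc := LocalEven62.centralizer_yOf_subnormal (p := p) hL
  refine ⟨le_antisymm (le_inf inf_le_left (LocalEven62.le_yOf h1))
      (inf_le_inf_left _ (LocalEven62.pRed_yOf L).le),
    (LocalEven62.pRed_subgroupOf_iff inf_le_right).2 h1, hc,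
    le_antisymm (inf_le_inf_left _ (Subgroup.centralizer_le fun v hv => hv.1))
      (le_inf inf_le_left h2), fun hres => ?_⟩
  rw [Subgroup.commutator_eq_bot_iff_le_centralizer, Subgroup.commutator_eq_bot_iff_le_centralizer,
    Subgroup.le_centralizer_iff, Subgroup.le_centralizer_iff (K := ⊤)]
  constructor
  · intro h
    have hLC : L ≤ Subgroup.centralizer
        (LocalEven62.yOf p (⊤ : Subgroup H) : Set H) :=
      ((le_inf le_rfl h).trans hc.le).trans inf_le_right
    exact (LocalEven62.pRed_yOf ⊤).red ⊤ le_rfl Subgroup.le_normalizer fun x _ hx =>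
      hLC (hres (Transfer.mem_pResidual_of_coprime hx))
  · intro h
    exact ((le_inf le_rfl (le_top.trans h)).trans hc.symm.le).trans inf_le_right

end Cfsg.Agent.S2825
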