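import Cfsg.Statements.S2826
import Cfsg.Agent.LocalEven62.PReducedMax
import Cfsg.Agent.LocalEven62.Avg

set_option autoImplicit false
open Cfsg
open scoped commutatorElement

namespace Cfsg.Agent.S2826

/-- Let H be a finite group of characteristic p, T a Sylow p-subgroup, and V a normal elementary abelian p-subgroup of H containing Ω₁(Z(T)). Then C_H(Ω₁(Z(T))) = C_H([V, O^p(H)] ∩ Ω₁(Z(T))), O^p(H) being generated by the elements of order prime to p. -/
theorem result {H : Type*} [Group H] [Finite H] {p : ℕ} [Fact p.Prime] (hH : Subgroup.centralizer (Cfsg.pCore p H : Set H) ≤ Cfsg.pCore p H) (T : Sylow p H) (V : Subgroup H) [V.Normal] (hV : Cfsg.IsElementaryAbelian p V) (hZV : (Cfsg.omegaOne p ((T : Subgroup H) ⊓ Subgroup.centralizer (((T : Subgroup H) : Subgroup H) : Set H))) ≤ V) : Subgroup.centralizer ((Cfsg.omegaOne p ((T : Subgroup H) ⊓ Subgroup.centralizer (((T : Subgroup H) : Subgroup H) : Set H))) : Set H) = Subgroup.centralizer (((⁅V, Cfsg.pResidual p H⁆ ⊓ (Cfsg.omegaOne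 p ((T : Subgroup H) ⊓ Subgroup.centralizer (((T : Subgroup H) : Subgroup H) : Set H)))) : Subgroup H) : Set H) := by
  set A : Subgroup H := Cfsg.omegaOne p
    ((T : Subgroup H) ⊓ Subgroup.centralizer ((T : Subgroup H) : Set H))
  set D : Subgroup H := ⁅V, Cfsg.pResidual p H⁆
  refine le_antisymm (Subgroup.centralizer_le fun x hx => hx.2) ?_
  set K : Subgroup H := Subgroup.centralizer ((D ⊓ A : Subgroup H) : Set H)
  have hTK : (T : Subgroup H) ≤ K := fun t ht => LocalEven62.mem_centralizer_iff_commute.2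
    fun d hd => (LocalEven62.mem_centralizer_iff_commute.1
      (LocalEven62.omZ_le_centralizer (T : Subgroup H) hd.2) t ht).symm
  haveI : D.Normal := Subgroup.commutator_normal V (Cfsg.pResidual p H)
  have hstab : ⊤ ≤ LocalEven62.stab A D := by
    rw [← Transfer.sylow_sup_pResidual_eq_top T]
    refine sup_le (fun t ht => ⟨LocalEven62.le_normalizer_top (L := ⊤) D trivial, fun a ha => ?_⟩)
      (fun x hx => ⟨LocalEven62.le_normalizer_top (L := ⊤) D trivial, fun a ha => ?_⟩)
    · rw [commutatorElement_eq_one_iff_mul_comm.2]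
      · exact D.one_mem
      · exact (LocalEven62.mem_centralizer_iff_commute.1
          (LocalEven62.omZ_le_centralizer _ ha) t ht).symm
    · rw [← commutatorElement_inv]
      exact D.inv_mem (Subgroup.commutator_mem_commutator (hZV ha) hx)
  obtain ⟨φ, hφ, -, hD, -⟩ := LocalEven62.exists_avg (S := (T : Subgroup H)) (K := K) hV.1
    (LocalEven62.le_normalizer_top V)
  have hVT : V ≤ (T : Subgroup H) := (Thompson.le_pCore (p := p) ‹V.Normal›
    (LocalEven62.isPGroup_of_isElementaryAbelian hV)).trans (Thompson.pCore_le_sylow T)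
  intro x hx
  refine LocalEven62.mem_centralizer_iff_commute.2 fun a ha => ?_
  have haZ : a ∈ V ⊓ Subgroup.centralizer ((T : Subgroup H) : Set H) :=
    Subgroup.mem_inf.2 ⟨hZV ha, LocalEven62.omZ_le_centralizer _ ha⟩
  have hd := hD D a haZ fun k _ => (hstab (Subgroup.mem_top k)).2 a ha
  set m := (T : Subgroup H).relIndex K
  have hdV : (a ^ m)⁻¹ * φ a ∈ V := V.mul_mem (V.inv_mem (pow_mem (hZV ha) _)) (hφ a haZ).1
  have hdA : (a ^ m)⁻¹ * φ a ∈ A := LocalEven62.mem_omZ.2 ⟨hVT hdV,
    (Subgroup.centralizer ((T : Subgroup H) : Set H)).mul_mem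
      ((Subgroup.centralizer ((T : Subgroup H) : Set H)).inv_mem (pow_mem haZ.2 _))
      (Subgroup.centralizer_le hTK (hφ a haZ).2), hV.2 _ hdV⟩
  have hpow : a ^ m ∈ Subgroup.centralizer (K : Set H) := by
    have h1 : (a ^ m)⁻¹ * φ a ∈ Subgroup.centralizer (K : Set H) :=
      Subgroup.le_centralizer_iff.1 (le_refl K) (Subgroup.mem_inf.2 ⟨hd, hdA⟩)
    have h2 := (Subgroup.centralizer (K : Set H)).mul_mem (hφ a haZ).2
      ((Subgroup.centralizer (K : Set H)).inv_mem h1)
    rwa [mul_inv_rev, inv_inv, mul_inv_cancel_left] at h2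
  exact (LocalEven62.mem_centralizer_iff_commute.1 (LocalEven62.mem_of_pow_mem ⟨1, by
    rw [pow_one]; exact hV.2 a (hZV ha)⟩ (LocalEven62.IsSyl.sylow_of_le T hTK).not_dvd hpow)
    x hx).symm

end Cfsg.Agent.S2826
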