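import Cfsg.Statements.S2827
import Cfsg.Agent.LocalEven62.MinimalOver

set_option autoImplicit false
open Cfsg
open scoped commutatorElement

namespace Cfsg.Agent.S2827

/-- Let H be a finite p-irreducible group (not p-closed, and O^p(H) lies in every normal subgroup that is not p-closed) and T a Sylow p-subgroup. Then H is generated by the conjugates of T and H = H'·T; O^p(H) ≤ H'; and for every normal subgroup Y of T not contained in O_p(H), O^p(H) = [O^p(H), Y] and O^p(H) is contained in the normal closure of Y in H. -/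
theorem result {H : Type*} [Group H] [Finite H] {p : ℕ} [Fact p.Prime] (hH : Cfsg.IsPIrreducible p H) (T : Sylow p H) : Subgroup.normalClosure ((T : Subgroup H) : Set H) = ⊤ ∧ commutator H ⊔ (T : Subgroup H) = ⊤ ∧ Cfsg.pResidual p H ≤ commutator H ∧ ∀ Y : Subgroup H, Y ≤ (T : Subgroup H) → (T : Subgroup H) ≤ Subgroup.normalizer (Y : Set H) → ¬ Y ≤ Cfsg.pCore p H → ⁅Cfsg.pResidual p H, Y⁆ = Cfsg.pResidual p H ∧ Cfsg.pResidual p H ≤ Subgroup.normalClosure (Y : Set H) := by
  have hnc : ∀ {N : Subgroup H}, N.Normal → ∀ {R : Subgroup H}, IsPGroup p ↥R → R ≤ N →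
      ¬ R ≤ Cfsg.pCore p H → Cfsg.pResidual p H ≤ N := by
    intro N hN R hR hRN hRc
    haveI := hN
    refine LocalEven62.pResidual_le_of_irreducible hH hN fun hcl => hRc ?_
    exact (hcl.le_pCoreOf hR hRN).trans LocalEven62.pCore_le_pCoreOf_normal
  have hTc : ¬ (T : Subgroup H) ≤ Cfsg.pCore p H := fun h =>
    LocalEven62.not_pCl_of_irreducible hH (LocalEven62.pCl_of_syl (LocalEven62.IsSyl.of_sylow T) (by
      rw [le_antisymm h (Thompson.pCore_le_sylow T)]
      exact LocalEven62.le_normalizer_top _))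
  have hsup := Transfer.sylow_sup_pResidual_eq_top T
  have hclT : Subgroup.normalClosure ((T : Subgroup H) : Set H) = ⊤ := top_le_iff.1 (hsup ▸ sup_le
    Subgroup.le_normalClosure (hnc Subgroup.normalClosure_normal T.isPGroup'
      Subgroup.le_normalClosure hTc))
  haveI hn : (commutator H ⊔ (T : Subgroup H)).Normal := Subgroup.Normal.of_commutator_le H le_sup_left
  have hcT : commutator H ⊔ (T : Subgroup H) = ⊤ :=
    top_le_iff.1 (hclT ▸ Subgroup.normalClosure_le_normal
      (fun x hx => (le_sup_right : (T : Subgroup H) ≤ commutator H ⊔ T) hx))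
  refine ⟨hclT, hcT, Transfer.pResidual_le_of_isPGroup_quotient fun x => ?_, fun Y hYT hTY hY => ?_⟩
  · obtain ⟨g, rfl⟩ := QuotientGroup.mk'_surjective _ x
    have hg : g ∈ commutator H ⊔ (T : Subgroup H) := hcT ▸ Subgroup.mem_top g
    rw [← SetLike.mem_coe, Subgroup.normal_mul] at hg
    obtain ⟨c, hc, t, ht, rfl⟩ := hg
    obtain ⟨k, hk⟩ := T.isPGroup' ⟨t, ht⟩
    refine ⟨k, ?_⟩
    rw [map_mul, show QuotientGroup.mk' (commutator H) c = 1 from (QuotientGroup.eq_one_iff c).2 hc,
      one_mul, ← map_pow, show t ^ p ^ k = 1 from congrArg Subtype.val hk, map_one]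
  · have hYp : IsPGroup p ↥Y := T.isPGroup'.to_le hYT
    set R := Cfsg.pResidual p H
    have hRY : R ≤ Subgroup.normalClosure (Y : Set H) :=
      hnc Subgroup.normalClosure_normal hYp Subgroup.le_normalClosure hY
    set D : Subgroup H := ⁅R, Y⁆
    have hDn : (T : Subgroup H) ≤ Subgroup.normalizer (D : Set H) := fun t ht =>
      LocalEven62.mem_normalizer_iff_map.2 (by
        rw [Subgroup.map_commutator, LocalEven62.mem_normalizer_iff_map.1 (hTY ht),
          LocalEven62.mem_normalizer_iff_map.1 ((LocalEven62.le_normalizer_top R) ht)])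
    have hRD : R ≤ Subgroup.normalizer (D : Set H) := Subgroup.normalizer_commutator_ge_left R Y
    haveI : D.Normal := LocalEven62.normal_of_sup_eq_top hDn hRD hsup
    haveI : (Y ⊔ D).Normal := LocalEven62.normal_of_sup_eq_top
      (LocalEven62.le_normalizer_sup hTY hDn) (fun r hr => LocalEven62.mem_normalizer_of_map_le (by
        rw [Subgroup.map_sup, sup_le_iff]
        refine ⟨?_, le_sup_of_le_right (LocalEven62.mem_normalizer_iff_map.1 (hRD hr)).le⟩
        rintro y ⟨a, ha, rfl⟩
        have : (MulAut.conj r).toMonoidHom a = ⁅r, a⁆ * a := by simp [commutatorElement_def]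
        rw [this]
        exact mul_mem ((le_sup_right : D ≤ Y ⊔ D) (Subgroup.commutator_mem_commutator hr ha))
          ((le_sup_left : Y ≤ Y ⊔ D) ha))) hsup
    refine ⟨le_antisymm (Subgroup.commutator_le_left R Y)
      (Transfer.pResidual_le_iff.2 fun x hx => ?_), hRY⟩
    refine LocalEven62.coprime_mem_of_mem_sup (N := Y) (LocalEven62.le_normalizer_top D)
      (fun a ha hap => ?_) ?_ hx
    · rw [Transfer.eq_one_of_coprime_of_mem hYp ha hap]
      exact one_mem _
    · exact (hRY.trans (Subgroup.normalClosure_le_normal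
        (fun y hy => (le_sup_left : Y ≤ Y ⊔ D) hy))) (Transfer.mem_pResidual_of_coprime hx)

end Cfsg.Agent.S2827
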