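import Cfsg.Statements.S2829
import Cfsg.Agent.LocalEven62.MinimalOver

set_option autoImplicit false
open Cfsg
open scoped commutatorElement

namespace Cfsg.Agent.S2829

/-- Every strongly p-irreducible finite group is p-irreducible. -/
theorem result {H : Type*} [Group H] [Finite H] {p : ℕ} [Fact p.Prime] (hH : Cfsg.IsStronglyPIrreducible p H) : Cfsg.IsPIrreducible p H := by
  refine ⟨hH.1, fun N hN hNc => hH.2 N hN fun hcomm => hNc ?_⟩
  haveI := hN
  rw [LocalEven62.isPClosed_iff_pCl]
  have hS := LocalEven62.IsSyl.of_sylow_sub (default : Sylow p ↥N)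
  set S : Subgroup H := ((default : Sylow p ↥N) : Subgroup ↥N).map N.subtype
  refine LocalEven62.pCl_of_syl hS fun n hn => LocalEven62.mem_normalizer_of_conj_mem fun s hs => ?_
  have h1 : ⁅n, s⁆ ∈ Cfsg.pCore p H ⊓ N := Subgroup.mem_inf.2
    ⟨hcomm (Subgroup.commutator_mem_commutator hn (Subgroup.mem_top s)), by
      rw [commutatorElement_def]
      exact N.mul_mem (N.mul_mem (N.mul_mem hn (hS.le hs)) (N.inv_mem hn)) (N.inv_mem (hS.le hs))⟩
  have h2 : Cfsg.pCore p H ⊓ N ≤ S := hS.normal_le Thompson.isPGroup_pCore.to_inf_left inf_le_right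
    (LocalEven62.le_normalizer_inf (LocalEven62.le_normalizer_top _) Subgroup.le_normalizer)
  have h3 : n * s * n⁻¹ = ⁅n, s⁆ * s := by rw [commutatorElement_def]; group
  rw [h3]
  exact S.mul_mem (h2 h1) hs

end Cfsg.Agent.S2829
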