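import Cfsg.Statements.S2830
import Cfsg.Agent.LocalEven62.MinimalOver

set_option autoImplicit false
open Cfsg
open scoped commutatorElement

namespace Cfsg.Agent.S2830

/-- Let H act by conjugation on the elementary abelian p-subgroup V of a finite group G (H ≤ N(V)), with H p-irreducible and O^p(H) not centralizing V. Then C_H(V) is p-closed and C_T(V) ≤ O_p(H) for every p-subgroup T of H. If in addition O_p(H) centralizes V, then C_T(V) = T ∩ O_p(H) for every p-subgroup T of H, and V is p-reduced for H: O_p(H/C_H(V)) = 1. -/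
theorem result {G : Type*} [Group G] [Finite G] {p : ℕ} [Fact p.Prime] (V H : Subgroup G) (hV : Cfsg.IsElementaryAbelian p V) (hHV : H ≤ Subgroup.normalizer (V : Set G)) (hH : Cfsg.IsPIrreducible p ↥H) (hnc : ¬ (Cfsg.pResidual p ↥H).map H.subtype ≤ Subgroup.centralizer (V : Set G)) [hn : ((Subgroup.centralizer (V : Set G)).subgroupOf H).Normal] : Cfsg.IsPClosed p ↥(H ⊓ Subgroup.centralizer (V : Set G)) ∧ (∀ T : Subgroup G, T ≤ H → IsPGroup p ↥T → T ⊓ Subgroup.centralizer (V : Set G) ≤ Cfsg.pCoreOf p H) ∧ (Cfsg.pCoreOf p H ≤ Subgroup.centralizer (V : Set G) → (∀ T : Subgroup G, T ≤ H → IsPGroup p ↥T → T ⊓ Subgroup.centralizer (V : Set G) = T ⊓ Cfsg.pCoreOf p H) ∧ Cfsg.pCore p (↥H ⧸ (Subgroup.centralizer (V : Set G)).subgroupOf H) = ⊥) := by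
  set CV : Subgroup G := Subgroup.centralizer (V : Set G)
  set C : Subgroup G := H ⊓ CV
  have hHC : H ≤ Subgroup.normalizer (C : Set G) := LocalEven62.le_normalizer_inf Subgroup.le_normalizer
    (hHV.trans (LocalEven62.normalizer_le_normalizer_centralizer V))
  have hirr : ∀ N : Subgroup G, N ≤ H → H ≤ Subgroup.normalizer (N : Set G) →
      ¬ LocalEven62.PCl p N → LocalEven62.resOf p H ≤ N := by
    intro N hNH hHN hN
    have hcl : ¬ Cfsg.IsPClosed p ↥(N.subgroupOf H) := fun h => hN (by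
      rw [LocalEven62.isPClosed_map_iff H.subtype (by
        rw [(MonoidHom.ker_eq_bot_iff _).2 H.subtype_injective]; exact IsPGroup.of_bot),
        Subgroup.subgroupOf_map_subtype, inf_eq_left.2 hNH] at h
      exact LocalEven62.isPClosed_iff_pCl.1 h)
    exact Subgroup.map_le_iff_le_comap.2
      (hH.2 _ (Subgroup.normal_subgroupOf_of_le_normalizer hHN) hcl)
  have hC : LocalEven62.PCl p C := by
    by_contra hno
    exact hnc ((hirr C inf_le_left hHC hno).trans inf_le_right)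
  have hCO : Cfsg.pCoreOf p C ≤ Cfsg.pCoreOf p H :=
    LocalEven62.le_pCoreOf (LocalEven62.isPGroup_pCoreOf C)
      ((LocalEven62.pCoreOf_le C).trans inf_le_left)
      (hHC.trans (LocalEven62.normalizer_le_normalizer_pCoreOf C))
  have hT : ∀ T : Subgroup G, T ≤ H → IsPGroup p ↥T → T ⊓ CV ≤ Cfsg.pCoreOf p H := fun T hTH hTp =>
    (hC.le_pCoreOf hTp.to_inf_left (inf_le_inf_right _ hTH)).trans hCO
  refine ⟨LocalEven62.isPClosed_iff_pCl.2 hC, hT, fun hO => ⟨fun T hTH hTp =>
    le_antisymm (le_inf inf_le_left (hT T hTH hTp)) (inf_le_inf_left _ hO), ?_⟩⟩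
  set π := QuotientGroup.mk' (CV.subgroupOf H)
  set N : Subgroup G := ((Cfsg.pCore p (↥H ⧸ CV.subgroupOf H)).comap π).map H.subtype
  have hNp : ∀ x ∈ N, Nat.Coprime (orderOf x) p → x ∈ CV := by
    rintro x ⟨y, hy, rfl⟩ hx
    exact (QuotientGroup.eq_one_iff y).1 (Transfer.eq_one_of_coprime_of_mem Thompson.isPGroup_pCore hy
      (LocalEven62.coprime_orderOf_map π ((LocalEven62.coprime_orderOf_mk y.2).2 hx)))
  have hNH : N ≤ H := Subgroup.map_subtype_le _
  have hHN : H ≤ Subgroup.normalizer (N : Set G) := by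
    refine LocalEven62.le_normalizer_of_conj_mem fun h hh x hx => ?_
    obtain ⟨y, hy, rfl⟩ := hx
    exact ⟨⟨h, hh⟩ * y * ⟨h, hh⟩⁻¹, Subgroup.Normal.conj_mem inferInstance y hy _, rfl⟩
  have hNcl : LocalEven62.PCl p N := by
    by_contra hno
    refine hnc (LocalEven62.resOf_le_iff.2 fun x hxH hx => ?_)
    exact hNp x (hirr N hNH hHN hno (LocalEven62.mem_resOf hxH hx)) hx
  have hN : N ≤ CV := by
    rw [← hNcl.isSyl_pCoreOf.sup_resOf]
    refine sup_le (le_trans (LocalEven62.le_pCoreOf (LocalEven62.isPGroup_pCoreOf N)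
      ((LocalEven62.pCoreOf_le N).trans hNH)
      (hHN.trans (LocalEven62.normalizer_le_normalizer_pCoreOf N))) hO) ?_
    exact LocalEven62.resOf_le_iff.2 hNp
  rw [eq_bot_iff]
  intro z hz
  obtain ⟨y, rfl⟩ := QuotientGroup.mk'_surjective _ z
  exact Subgroup.mem_bot.2 ((QuotientGroup.eq_one_iff y).2 (hN ⟨y, hz, rfl⟩))

end Cfsg.Agent.S2830
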