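import Cfsg.Statements.S2831
import Cfsg.Agent.LocalEven62.MinimalOver

set_option autoImplicit false
open Cfsg
open scoped commutatorElement

namespace Cfsg.Agent.S2831

/-- Let H be a finite group with Sylow p-subgroup T such that H is T-minimal (H is generated by the conjugates of T and T lies in exactly one maximal subgroup of H). Then H is p-irreducible: H is not p-closed and O^p(H) lies in every normal subgroup of H that is not p-closed. -/
theorem result {H : Type*} [Group H] [Finite H] {p : ℕ} [Fact p.Prime] (T : Sylow p H) (hmin : Cfsg.IsMinimalOver (T : Subgroup H)) : Cfsg.IsPIrreducible p H := by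
  obtain ⟨M, hM, -⟩ := hmin.2
  have hTs := LocalEven62.IsSyl.of_sylow T
  refine ⟨fun hcl => ?_, fun N hN hNc => ?_⟩
  · exact LocalEven62.not_normal_le hmin hM.1 (hcl T) le_rfl hM.2
  · haveI := hN
    have htop : (T : Subgroup H) ⊔ N = ⊤ := by
      by_contra hne
      refine hNc (LocalEven62.isPClosed_iff_pCl.2
        (LocalEven62.pCl_of_normal_le hmin hM.1 hTs hM.2 le_rfl ?_))
      exact le_sup_right.trans (LocalEven62.minimalOver_le hmin hM.1 hM.2 le_sup_left hne)
    refine Transfer.pResidual_le_of_isPGroup_quotient fun x => ?_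
    obtain ⟨g, rfl⟩ := QuotientGroup.mk'_surjective _ x
    have hg : g ∈ (T : Subgroup H) ⊔ N := htop ▸ Subgroup.mem_top g
    rw [← SetLike.mem_coe, Subgroup.mul_normal] at hg
    obtain ⟨t, ht, n, hn, rfl⟩ := hg
    obtain ⟨k, hk⟩ := T.isPGroup' ⟨t, ht⟩
    refine ⟨k, ?_⟩
    rw [map_mul, show QuotientGroup.mk' N n = 1 from (QuotientGroup.eq_one_iff n).2 hn, mul_one,
      ← map_pow, show t ^ p ^ k = 1 from congrArg Subtype.val hk, map_one]

end Cfsg.Agent.S2831
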