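import Cfsg.Statements.S2832
import Cfsg.Agent.LocalEven62.MinimalOver

set_option autoImplicit false
open Cfsg
open scoped commutatorElement

namespace Cfsg.Agent.S2832

/-- Let H be a finite group with Sylow p-subgroup T such that H is T-minimal (generated by the conjugates of T, with T in exactly one maximal subgroup), and let N be a normal subgroup of H. Then either H/N is a p-group or H/N is minimal over the image of T in the same sense. -/
theorem result {H : Type*} [Group H] [Finite H] {p : ℕ} [Fact p.Prime] (T : Sylow p H) (hmin : Cfsg.IsMinimalOver (T : Subgroup H)) (N : Subgroup H) [N.Normal] : IsPGroup p (H ⧸ N) ∨ Cfsg.IsMinimalOver ((T : Subgroup H).map (QuotientGroup.mk' N)) := by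
  obtain ⟨M, hM, -⟩ := hmin.2
  by_cases htop : (T : Subgroup H) ⊔ N = ⊤
  · left
    intro x
    obtain ⟨g, rfl⟩ := QuotientGroup.mk'_surjective _ x
    have hg : g ∈ (T : Subgroup H) ⊔ N := htop ▸ Subgroup.mem_top g
    rw [← SetLike.mem_coe, Subgroup.mul_normal] at hg
    obtain ⟨t, ht, n, hn, rfl⟩ := hg
    obtain ⟨k, hk⟩ := T.isPGroup' ⟨t, ht⟩
    refine ⟨k, ?_⟩
    rw [map_mul, show QuotientGroup.mk' N n = 1 from (QuotientGroup.eq_one_iff n).2 hn, mul_one,
      ← map_pow, show t ^ p ^ k = 1 from congrArg Subtype.val hk, map_one]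
  · right
    have hle : (T : Subgroup H) ⊔ N ≤ M :=
      LocalEven62.minimalOver_le hmin hM.1 hM.2 le_sup_left htop
    set π := QuotientGroup.mk' N
    have hπ : Function.Surjective π := QuotientGroup.mk'_surjective N
    have hker : π.ker ≤ M := by
      rw [QuotientGroup.ker_mk']; exact le_sup_right.trans hle
    have hMb : IsCoatom (M.map π) := by
      refine ⟨fun h => hM.1.1 ?_, fun K hK => ?_⟩
      · rw [← Subgroup.comap_map_eq_self hker, h, Subgroup.comap_top]
      · rw [← Subgroup.map_comap_eq_self_of_surjective hπ K, hM.1.2 (K.comap π) ?_,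
          Subgroup.map_top_of_surjective _ hπ]
        refine lt_of_le_of_ne (Subgroup.map_le_iff_le_comap.1 hK.le) fun he => hK.ne ?_
        rw [he, Subgroup.map_comap_eq_self_of_surjective hπ]
    refine ⟨?_, M.map π, ⟨hMb, Subgroup.map_mono hM.2⟩, fun X ⟨hX, hTX⟩ => ?_⟩
    · have := Subgroup.map_normalClosure ((T : Subgroup H) : Set H) π hπ
      rw [hmin.1, Subgroup.map_top_of_surjective _ hπ] at this
      rw [Subgroup.coe_map]
      exact this.symm
    · rw [← Subgroup.map_comap_eq_self_of_surjective hπ X]
      congr 1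
      exact hmin.2.unique
        ⟨Subgroup.isCoatom_comap_of_surjective hπ hX, Subgroup.map_le_iff_le_comap.1 hTX⟩ hM

end Cfsg.Agent.S2832
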