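import Cfsg.Statements.S2833
import Cfsg.Agent.LocalEven62.Basic
import Cfsg.Agent.LocalEven62.Action

set_option autoImplicit false
open Cfsg
open scoped commutatorElement

namespace Cfsg.Agent.S2833

/-- Let V be a subgroup of a finite group G normalized by the subgroup L, let X ≤ L and g ∈ L with [V, X, X] = 1 and L generated by X and gXg⁻¹. Put W = [V, L]. Then W = [V, X]·[V, gXg⁻¹], C_W(X) = [V, X], and C_W(L) = [V, X] ∩ [V, gXg⁻¹]. -/
theorem result {G : Type*} [Group G] [Finite G] (V L : Subgroup G) (hLV : L ≤ Subgroup.normalizer (V : Set G)) (X : Subgroup G) (hX : X ≤ L) (g : G) (hg : g ∈ L) (hq : ⁅⁅V, X⁆, X⁆ = ⊥) (hgen : X ⊔ X.map (MulAut.conj g).toMonoidHom = L) (W : Subgroup G) (hW : W = ⁅V, L⁆) : ⁅V, X⁆ ⊔ ⁅V, X.map (MulAut.conj g).toMonoidHom⁆ = W ∧ W ⊓ Subgroup.centralizer (X : Set G) = ⁅V, X⁆ ∧ W ⊓ Subgroup.centralizer (L : Set G) = ⁅V, X⁆ ⊓ ⁅V, X.map (MulAut.conj g).toMonoidHom⁆ := by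
  subst hW
  set X' : Subgroup G := X.map (MulAut.conj g).toMonoidHom with hX'def
  set A : Subgroup G := ⁅V, X⁆
  set B : Subgroup G := ⁅V, X'⁆
  have hX' : X' ≤ L := hgen ▸ le_sup_right
  have hgV := LocalEven62.mem_normalizer_iff_map.1 (hLV hg)
  have hB : B = A.map (MulAut.conj g).toMonoidHom := by
    rw [Subgroup.map_commutator, hgV]
  have hqB : ⁅B, X'⁆ = ⊥ := by
    rw [hB, hX'def, ← Subgroup.map_commutator, hq, Subgroup.map_bot]
  have hAX : A ≤ Subgroup.centralizer (X : Set G) := Subgroup.commutator_eq_bot_iff_le_centralizer.1 hq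
  have hBX' : B ≤ Subgroup.centralizer (X' : Set G) :=
    Subgroup.commutator_eq_bot_iff_le_centralizer.1 hqB
  have hBV : B ≤ V := Subgroup.le_normalizer_iff_commutator_le_left.1 (hX'.trans hLV)
  have hAV : A ≤ V := Subgroup.le_normalizer_iff_commutator_le_left.1 (hX.trans hLV)
  have hVA : V ≤ Subgroup.normalizer (A : Set G) := Subgroup.normalizer_commutator_ge_left V X
  have hVB : V ≤ Subgroup.normalizer (B : Set G) := Subgroup.normalizer_commutator_ge_left V X'
  have hmove : ∀ (Y A₀ B₀ : Subgroup G), A₀ ≤ V → B₀ ≤ V →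
      Y ≤ Subgroup.normalizer (A₀ : Set G) → ⁅B₀, Y⁆ ≤ A₀ →
      Y ≤ Subgroup.normalizer ((A₀ ⊔ B₀ : Subgroup G) : Set G) := by
    intro Y A₀ B₀ _ _ hYA hc y hy
    refine LocalEven62.mem_normalizer_of_map_le ?_
    rw [Subgroup.map_sup, sup_le_iff]
    refine ⟨le_sup_of_le_left (LocalEven62.mem_normalizer_iff_map.1 (hYA hy)).le, ?_⟩
    rintro z ⟨b, hb, rfl⟩
    have : (MulAut.conj y).toMonoidHom b = ⁅b, y⁆⁻¹ * b := by
      show y * b * y⁻¹ = (b * y * b⁻¹ * y⁻¹)⁻¹ * b
      group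
    rw [this]
    exact mul_mem ((le_sup_left : A₀ ≤ A₀ ⊔ B₀) (inv_mem (hc (Subgroup.commutator_mem_commutator hb hy))))
      ((le_sup_right : B₀ ≤ A₀ ⊔ B₀) hb)
  set U : Subgroup G := A ⊔ B
  have hLU : L ≤ Subgroup.normalizer (U : Set G) := by
    rw [← hgen]
    refine sup_le (hmove X A B hAV hBV (Subgroup.normalizer_commutator_ge_right V X)
      (Subgroup.commutator_mono hBV le_rfl)) ?_
    have h := hmove X' B A hBV hAV (Subgroup.normalizer_commutator_ge_right V X')
      (Subgroup.commutator_mono hAV le_rfl)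
    rwa [sup_comm] at h
  have hVU : V ≤ Subgroup.normalizer (U : Set G) := LocalEven62.le_normalizer_sup hVA hVB
  have hWU : ⁅V, L⁆ = U := by
    refine le_antisymm ?_ (sup_le (Subgroup.commutator_mono le_rfl hX)
      (Subgroup.commutator_mono le_rfl hX'))
    have hVn : V ≤ Subgroup.normalizer (U : Set G) := hVU
    have hle : L ≤ LocalEven62.stab V U := by
      rw [← hgen]
      refine sup_le (fun x hx => ⟨hLU (hX hx), fun v hv => ?_⟩) (fun x hx => ⟨hLU (hX' hx), fun v hv => ?_⟩)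
      · rw [← commutatorElement_inv]
        exact U.inv_mem ((le_sup_left : A ≤ U) (Subgroup.commutator_mem_commutator hv hx))
      · rw [← commutatorElement_inv]
        exact U.inv_mem ((le_sup_right : B ≤ U) (Subgroup.commutator_mem_commutator hv hx))
    refine Subgroup.commutator_le.2 fun v hv l hl => ?_
    rw [← commutatorElement_inv]
    exact U.inv_mem ((hle hl).2 v hv)
  have hsplit : ∀ w ∈ ⁅V, L⁆, ∃ a ∈ A, ∃ b ∈ B, w = a * b := by
    intro w hw
    rw [hWU, ← SetLike.mem_coe, Subgroup.coe_mul_of_left_le_normalizer_right A B (hAV.trans hVB)] at hw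
    obtain ⟨a, ha, b, hb, rfl⟩ := hw
    exact ⟨a, ha, b, hb, rfl⟩
  have hcentL : ∀ b ∈ B, b ∈ Subgroup.centralizer (X : Set G) → b ∈ Subgroup.centralizer (L : Set G) :=
    fun b hb hbX => by
      have hle : L ≤ Subgroup.centralizer ({b} : Set G) := hgen ▸ sup_le
        (fun x hx => Subgroup.mem_centralizer_singleton_iff.2
          (LocalEven62.mem_centralizer_iff_commute.1 hbX x hx).eq.symm)
        (fun x hx => Subgroup.mem_centralizer_singleton_iff.2
          (LocalEven62.mem_centralizer_iff_commute.1 (hBX' hb) x hx).eq.symm)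
      exact LocalEven62.mem_centralizer_iff_commute.2 fun x hx =>
        (Subgroup.mem_centralizer_singleton_iff.1 (hle hx) : Commute x b).symm
  have hfix : ∀ b ∈ B, b ∈ Subgroup.centralizer (L : Set G) → b ∈ A := fun b hb hbL => by
    rw [hB, LocalEven62.mem_map_conj] at hb
    rwa [mul_assoc, (LocalEven62.mem_centralizer_iff_commute.1 hbL g hg).eq, inv_mul_cancel_left] at hb
  have h2 : ⁅V, L⁆ ⊓ Subgroup.centralizer (X : Set G) = A := by
    refine le_antisymm ?_ (le_inf (hWU ▸ le_sup_left) hAX)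
    rintro w ⟨hw, hwX⟩
    obtain ⟨a, ha, b, hb, rfl⟩ := hsplit w hw
    have hbX : b ∈ Subgroup.centralizer (X : Set G) := by
      simpa using (Subgroup.centralizer (X : Set G)).mul_mem (inv_mem (hAX ha)) hwX
    exact A.mul_mem ha (hfix b hb (hcentL b hb hbX))
  refine ⟨hWU.symm, h2, le_antisymm ?_ ?_⟩
  · rintro w ⟨hw, hwL⟩
    have hwA : w ∈ A := h2.le ⟨hw, Subgroup.centralizer_le hX hwL⟩
    refine ⟨hwA, ?_⟩
    show w ∈ B
    rw [hB, LocalEven62.mem_map_conj, mul_assoc,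
      (LocalEven62.mem_centralizer_iff_commute.1 hwL g hg).eq, inv_mul_cancel_left]
    exact hwA
  · intro w hw
    exact ⟨hWU.ge ((le_sup_left : A ≤ U) hw.1), hcentL w hw.2 (hAX hw.1)⟩

end Cfsg.Agent.S2833
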