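import Cfsg.Statements.S2834
import Cfsg.Agent.LocalEven62.ConjGen
-- import your own Cfsg.Agent.* helpers here

set_option autoImplicit false
open Cfsg

namespace Cfsg.Agent.S2834

/-- The L-Lemma: let H be a finite group with Sylow p-subgroup T such that H is T-minimal (generated by the conjugates of T, T in exactly one maximal subgroup M), and let A ≤ T with A not contained in O_p(H). Then there is a subgroup L of H containing A·O_p(H) such that (a) A·O_p(L) lies in exactly one maximal subgroup L₀ of L, and L₀ = L ∩ gMg⁻¹ for some g ∈ H; (b) L = ⟨A, xAx⁻¹⟩·O_p(L) for every x ∈ L outside L₀. -/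
theorem result {H : Type*} [Group H] [Finite H] {p : ℕ} [Fact p.Prime] (T : Sylow p H) (hmin : Cfsg.IsMinimalOver (T : Subgroup H)) (M : Subgroup H) (hM : IsCoatom M ∧ (T : Subgroup H) ≤ M) (A : Subgroup H) (hAT : A ≤ (T : Subgroup H)) (hA : ¬ A ≤ Cfsg.pCore p H) : ∃ L : Subgroup H, A ⊔ Cfsg.pCore p H ≤ L ∧ ∃ L₀ : Subgroup H, A ⊔ (Cfsg.pCoreOf p L) ≤ L₀ ∧ L₀ < L ∧ (∀ X : Subgroup H, A ⊔ (Cfsg.pCoreOf p L) ≤ X → X < L → X ≤ L₀) ∧ (∃ g : H, L₀ = L ⊓ ((M : Subgroup H).map (MulAut.conj (g : H)).toMonoidHom)) ∧ ∀ x ∈ L, x ∉ L₀ → (A ⊔ ((A : Subgroup H).map (MulAut.conj (x : H)).toMonoidHom)) ⊔ (Cfsg.pCoreOf p L) = L := by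
  set O : Subgroup H := Cfsg.pCore p H
  set B : Subgroup H := A ⊔ O
  have hBT : B ≤ (T : Subgroup H) := sup_le hAT (Thompson.pCore_le_sylow T)
  have hBp : IsPGroup p ↥B := T.isPGroup'.to_le hBT
  have hBO : ¬ B ≤ O := fun h => hA (le_sup_left.trans h)
  have hTp : IsPGroup p ↥(T : Subgroup H) := T.isPGroup'
  -- `W`, generated by the conjugates of `B` in `T`, has normalizer inside `M`
  have hWM : Subgroup.normalizer
      ((LocalEven62.genConj B (T : Subgroup H) : Subgroup H) : Set H) ≤ M := by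
    set W := LocalEven62.genConj B (T : Subgroup H)
    rcases eq_top_or_exists_le_coatom (Subgroup.normalizer (W : Set H)) with h | ⟨C, hC, hle⟩
    · haveI : W.Normal := LocalEven62.normal_of_le_normalizer h.ge
      exact absurd ((LocalEven62.le_genConj_self hBT).trans
        (Thompson.le_pCore inferInstance (hTp.to_le (LocalEven62.genConj_le _ _)))) hBO
    · have : C = M := hmin.2.unique ⟨hC, (Subgroup.le_normalizer.trans
        (LocalEven62.normalizer_le_normalizer_genConj B _)).trans hle⟩ ⟨hM.1, hM.2⟩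
      exact this ▸ hle
  -- a largest `p`-subgroup generated by conjugates of `B` with normalizer not in a conjugate of `M`
  obtain ⟨R, ⟨hRp, hRg, k, hRk, hNk⟩, hmax⟩ :=
    Set.Finite.exists_maximalFor (fun R : Subgroup H => Nat.card ↥R)
      {R : Subgroup H | IsPGroup p ↥R ∧ R ≤ LocalEven62.genConj B R ∧
        ∃ k : H, R ≤ M.map (MulAut.conj k).toMonoidHom ∧
          ¬ Subgroup.normalizer (R : Set H) ≤ M.map (MulAut.conj k).toMonoidHom}
      (Set.toFinite _)
      ⟨⊥, IsPGroup.of_bot, bot_le, 1, bot_le, fun h => hM.1.1 (top_le_iff.1 (by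
        refine le_trans ?_ (h.trans_eq (LocalEven62.map_conj_one M))
        exact LocalEven62.le_normalizer_top _))⟩
  have hbig : ∀ D : Subgroup H, IsPGroup p ↥D → D ≤ LocalEven62.genConj B D →
      Nat.card ↥R < Nat.card ↥D → ∀ j : H, D ≤ M.map (MulAut.conj j).toMonoidHom →
      Subgroup.normalizer (D : Set H) ≤ M.map (MulAut.conj j).toMonoidHom := by
    intro D hD hDg hlt j hj
    by_contra hn
    exact absurd (hmax ⟨hD, hDg, j, hj, hn⟩ hlt.le) (not_le.2 hlt)
  have star : ∀ (P : Subgroup H) (j : H), IsPGroup p ↥P → P ≤ LocalEven62.genConj B P →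
      Nat.card ↥R < Nat.card
        ↥(LocalEven62.genConj B (P ⊓ M.map (MulAut.conj j).toMonoidHom)) →
      P ≤ M.map (MulAut.conj j).toMonoidHom ∧
        Subgroup.normalizer (P : Set H) ≤ M.map (MulAut.conj j).toMonoidHom := by
    intro P j hP hPg hlt
    set M1 := M.map (MulAut.conj j).toMonoidHom
    set D := LocalEven62.genConj B (P ⊓ M1)
    have hDle : D ≤ P ⊓ M1 := LocalEven62.genConj_le _ _
    have hND := hbig D (hP.to_le (hDle.trans inf_le_left)) (LocalEven62.genConj_idem _ _) hlt j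
      (hDle.trans inf_le_right)
    set N1 := P ⊓ Subgroup.normalizer (D : Set H)
    have hN1 : N1 ≤ P ⊓ M1 := le_inf inf_le_left (inf_le_right.trans hND)
    have hg1 : LocalEven62.genConj B N1 = D :=
      le_antisymm (LocalEven62.genConj_mono hN1) ((LocalEven62.genConj_idem _ _).trans
        (LocalEven62.genConj_mono (le_inf (hDle.trans inf_le_left) Subgroup.le_normalizer)))
    have hN1P : N1 = P := LocalEven62.eq_of_inf_normalizer_le hP inf_le_left
      (le_inf inf_le_left ((inf_le_right.trans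
        (LocalEven62.normalizer_le_normalizer_genConj B N1)).trans_eq (by rw [hg1])))
    have hPD : P = D := le_antisymm (hPg.trans (by rw [← hg1, hN1P])) (hDle.trans inf_le_left)
    exact ⟨hPD.le.trans (hDle.trans inf_le_right), hPD.symm ▸ hND⟩
  -- move `R` into `T`
  obtain ⟨m, hm, hmT⟩ := ((LocalEven62.IsSyl.of_sylow T).of_le hM.2 le_top).exists_conj_le
    (R := R.map (MulAut.conj k⁻¹).toMonoidHom) (hRp.map _)
    (LocalEven62.map_conj_le_iff.2 (by rwa [inv_inv]))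
  rw [LocalEven62.map_conj_mul] at hmT
  set a : H := m * k⁻¹ with ha
  set R₁ : Subgroup H := R.map (MulAut.conj a).toMonoidHom with hR₁
  have hR₁g : R₁ ≤ LocalEven62.genConj B R₁ :=
    (Subgroup.map_mono hRg).trans (LocalEven62.map_genConj_le B R a)
  have hN₁ : ¬ Subgroup.normalizer (R₁ : Set H) ≤ M := by
    refine fun h => hNk fun n hn => ?_
    have h1 := h (LocalEven62.mem_normalizer_map_conj (a := a) hn)
    rw [LocalEven62.mem_map_conj]
    have h2 := M.mul_mem (M.mul_mem (M.inv_mem hm) h1) hm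
    simpa [ha, mul_assoc] using h2
  -- a conjugate of `B` in `T` normalizing, but not contained in, `R₁`
  have hc : ∃ h : H, B.map (MulAut.conj h).toMonoidHom ≤
      (T : Subgroup H) ⊓ Subgroup.normalizer (R₁ : Set H) ∧
      ¬ B.map (MulAut.conj h).toMonoidHom ≤ R₁ := by
    by_contra hno
    simp only [not_exists, not_and, not_not] at hno
    set N1 := (T : Subgroup H) ⊓ Subgroup.normalizer (R₁ : Set H)
    have hg1 : LocalEven62.genConj B N1 = R₁ := le_antisymm (iSup₂_le hno)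
      (hR₁g.trans (LocalEven62.genConj_mono (le_inf hmT Subgroup.le_normalizer)))
    have hN1T : N1 = (T : Subgroup H) := LocalEven62.eq_of_inf_normalizer_le hTp inf_le_left
      (le_inf inf_le_left ((inf_le_right.trans
        (LocalEven62.normalizer_le_normalizer_genConj B N1)).trans_eq (by rw [hg1])))
    exact hN₁ (by rw [← hg1, hN1T]; exact hWM)
  obtain ⟨h, hhN, hhR⟩ := hc
  -- move that conjugate back to `B`
  set R₂ : Subgroup H := R₁.map (MulAut.conj h⁻¹).toMonoidHom with hR₂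
  set M₂ : Subgroup H := M.map (MulAut.conj h⁻¹).toMonoidHom with hM₂
  set T₂ : Subgroup H := (T : Subgroup H).map (MulAut.conj h⁻¹).toMonoidHom
  have hBT₂ : B ≤ T₂ := LocalEven62.map_conj_le_iff.1 (hhN.trans inf_le_left)
  have hR₂T : R₂ ≤ T₂ := Subgroup.map_mono hmT
  have hT₂M : T₂ ≤ M₂ := Subgroup.map_mono hM.2
  have hBR₂ : ¬ B ≤ R₂ := fun hle => hhR (LocalEven62.map_conj_le_iff.2 hle)
  have hBNR₂ : B ≤ Subgroup.normalizer (R₂ : Set H) := by
    intro b hb
    have h1 := LocalEven62.mem_normalizer_map_conj (a := h⁻¹)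
      ((hhN.trans inf_le_right) (LocalEven62.conj_mem_map (g := h) hb))
    rwa [show h⁻¹ * (h * b * h⁻¹) * h⁻¹⁻¹ = b by group] at h1
  have hN₂ : ¬ Subgroup.normalizer (R₂ : Set H) ≤ M₂ := by
    refine fun hle => hN₁ fun n hn => ?_
    have h1 := hle (LocalEven62.mem_normalizer_map_conj (a := h⁻¹) hn)
    rw [hM₂, LocalEven62.mem_map_conj] at h1
    simpa [mul_assoc] using h1
  set P : Subgroup H := R₂ ⊔ B
  have hPT : P ≤ T₂ := sup_le hR₂T hBT₂
  have hR₂g : R₂ ≤ LocalEven62.genConj B R₂ :=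
    (Subgroup.map_mono hR₁g).trans (LocalEven62.map_genConj_le B R₁ h⁻¹)
  have hPg : P ≤ LocalEven62.genConj B P :=
    sup_le (hR₂g.trans (LocalEven62.genConj_mono le_sup_left))
      (LocalEven62.le_genConj_self le_sup_right)
  have hcard : Nat.card ↥R < Nat.card ↥P := by
    rw [← LocalEven62.card_map_conj R a, ← hR₁, ← LocalEven62.card_map_conj R₁ h⁻¹, ← hR₂]
    by_contra hge
    exact hBR₂ ((le_sup_right : B ≤ P).trans
      (Subgroup.eq_of_le_of_card_ge (le_sup_left : R₂ ≤ P) (not_lt.1 hge)).ge)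
  have star₂ : ∀ D : Subgroup H, IsPGroup p ↥D → D ≤ LocalEven62.genConj B D → P ≤ D →
      D ≤ M₂ ∧ Subgroup.normalizer (D : Set H) ≤ M₂ := by
    intro D hD hDg hPD
    refine star D h⁻¹ hD hDg (hcard.trans_le ?_)
    exact Nat.le_of_dvd Nat.card_pos (Subgroup.card_dvd_of_le
      (hPg.trans (LocalEven62.genConj_mono (le_inf hPD (hPT.trans hT₂M)))))
  have starS : ∀ S : Subgroup H, IsPGroup p ↥S → P ≤ S →
      Subgroup.normalizer (S : Set H) ≤ M₂ := fun S hS hPS =>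
    (LocalEven62.normalizer_le_normalizer_genConj B S).trans
      (star₂ _ (hS.to_le (LocalEven62.genConj_le _ _)) (LocalEven62.genConj_idem _ _)
        (hPg.trans (LocalEven62.genConj_mono hPS))).2
  -- the subgroup `L`
  obtain ⟨L, ⟨hPL, hLN, hLM⟩, hLmin⟩ := exists_minimal_of_wellFoundedLT
    (fun L : Subgroup H => P ≤ L ∧ L ≤ Subgroup.normalizer (R₂ : Set H) ∧ ¬ L ≤ M₂)
    ⟨Subgroup.normalizer (R₂ : Set H), sup_le Subgroup.le_normalizer hBNR₂, le_rfl, hN₂⟩
  have hsmall : ∀ X : Subgroup H, P ≤ X → X < L → X ≤ L ⊓ M₂ := fun X hPX hXL =>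
    le_inf hXL.le (by_contra fun hno =>
      hXL.not_ge (hLmin ⟨hPX, hXL.le.trans hLN, hno⟩ hXL.le))
  set Q : Subgroup H := Cfsg.pCoreOf p L
  have hQp : IsPGroup p ↥Q := LocalEven62.isPGroup_pCoreOf L
  have hLQ : L ≤ Subgroup.normalizer (Q : Set H) := LocalEven62.le_normalizer_pCoreOf L
  have hR₂Q : R₂ ≤ Q := LocalEven62.le_pCoreOf ((hTp.map _).to_le hR₂T)
    (le_sup_left.trans hPL) hLN
  have hOQ : O ≤ Q := LocalEven62.le_pCoreOf Thompson.isPGroup_pCore
    ((le_sup_right : O ≤ B).trans (le_sup_right.trans hPL)) (LocalEven62.le_normalizer_top O)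
  have hBQ : ¬ B ≤ Q := fun hle =>
    hLM (hLQ.trans (starS Q hQp (sup_le hR₂Q hle)))
  have hAL : A ≤ L := le_sup_left.trans (le_sup_right.trans hPL)
  have hQL : Q ≤ L := LocalEven62.pCoreOf_le L
  have hPAQ : P ≤ A ⊔ Q :=
    sup_le (hR₂Q.trans le_sup_right) (sup_le le_sup_left (hOQ.trans le_sup_right))
  have hAQlt : A ⊔ Q < L := lt_of_le_of_ne (sup_le hAL hQL) fun he => hBQ (by
    have hp : IsPGroup p ↥L := he ▸ LocalEven62.isPGroup_sup
      (hBp.to_le le_sup_left) hQp (hAL.trans hLQ)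
    exact (le_sup_right.trans hPL).trans (LocalEven62.le_pCoreOf hp le_rfl Subgroup.le_normalizer))
  refine ⟨L, le_sup_right.trans hPL, L ⊓ M₂, hsmall _ hPAQ hAQlt,
    lt_of_le_of_ne inf_le_left (fun he => hLM (inf_eq_left.1 he)),
    fun X hX hXL => hsmall X (hPAQ.trans hX) hXL, ⟨h⁻¹, rfl⟩, fun x hxL hx => ?_⟩
  -- (b)
  by_contra hne
  set X := (A ⊔ A.map (MulAut.conj x).toMonoidHom) ⊔ Q
  have hPX : P ≤ X := hPAQ.trans (sup_le (le_sup_left.trans le_sup_left) le_sup_right)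
  have hXL : X < L := lt_of_le_of_ne (sup_le (sup_le hAL (by
    rintro _ ⟨y, hy, rfl⟩
    exact L.mul_mem (L.mul_mem hxL (hAL hy)) (L.inv_mem hxL))) hQL) hne
  have hXL₀ := hsmall X hPX hXL
  have hAQ₀ := hsmall _ hPAQ hAQlt
  have hPx : P.map (MulAut.conj x).toMonoidHom ≤ L ⊓ M₂ := by
    rw [Subgroup.map_sup, sup_le_iff]
    refine ⟨?_, ?_⟩
    · rw [LocalEven62.mem_normalizer_iff_map.1 (hLN hxL)]
      exact (hR₂Q.trans le_sup_right).trans hAQ₀
    · rw [Subgroup.map_sup, sup_le_iff,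
        LocalEven62.mem_normalizer_iff_map.1 ((LocalEven62.le_normalizer_top (L := L) O) hxL)]
      exact ⟨((le_sup_right : A.map (MulAut.conj x).toMonoidHom ≤ _).trans le_sup_left).trans hXL₀,
        (hOQ.trans le_sup_right).trans hAQ₀⟩
  have hPp : IsPGroup p ↥P := (hTp.map _).to_le hPT
  obtain ⟨S, hS⟩ := (hPp.of_equiv
    (Subgroup.subgroupOfEquivOfLe (hPAQ.trans hAQ₀)).symm).exists_le_sylow
  have hS₀ : LocalEven62.IsSyl p ((S : Subgroup ↥(L ⊓ M₂)).map (L ⊓ M₂).subtype) (L ⊓ M₂) :=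
    LocalEven62.IsSyl.of_sylow_sub S
  set S₀ := (S : Subgroup ↥(L ⊓ M₂)).map (L ⊓ M₂).subtype
  have hPS₀ : P ≤ S₀ := fun y hy => ⟨⟨y, (hPAQ.trans hAQ₀) hy⟩, hS hy, rfl⟩
  have hNS₀ := starS S₀ hS₀.isPGroup hPS₀
  obtain ⟨y, hy, hyS⟩ := hS₀.exists_conj_le (hPp.map _) hPx
  rw [LocalEven62.map_conj_mul] at hyS
  set z : H := y * x
  have hzL : z ∈ L := L.mul_mem hy.1 hxL
  have hPS₁ := LocalEven62.map_conj_le_iff.1 hyS
  set S₁ : Subgroup H := S₀.map (MulAut.conj z⁻¹).toMonoidHom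
  have hS₁p : IsPGroup p ↥S₁ := hS₀.isPGroup.map _
  have hS₁L : S₁ ≤ L := by
    rintro _ ⟨u, hu, rfl⟩
    exact L.mul_mem (L.mul_mem (L.inv_mem hzL) (hS₀.le hu).1) (L.inv_mem (L.inv_mem hzL))
  have hS₁M : S₁ ≤ L ⊓ M₂ := le_inf hS₁L (Subgroup.le_normalizer.trans (starS S₁ hS₁p hPS₁))
  obtain ⟨w, hw, hwS⟩ := hS₀.exists_conj_le hS₁p hS₁M
  rw [LocalEven62.map_conj_mul] at hwS
  have hn : w * z⁻¹ ∈ Subgroup.normalizer (S₀ : Set H) := LocalEven62.mem_normalizer_of_map_le hwS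
  refine hx ⟨hxL, ?_⟩
  have h1 : z⁻¹ ∈ M₂ := by simpa using M₂.mul_mem (M₂.inv_mem hw.2) (hNS₀ hn)
  have h2 : z ∈ M₂ := by simpa using M₂.inv_mem h1
  have h3 : x = y⁻¹ * z := by simp [z]
  rw [h3]
  exact M₂.mul_mem (M₂.inv_mem hy.2) h2

end Cfsg.Agent.S2834
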