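import Cfsg.Statements.S2835
import Cfsg.Agent.LocalEven62.MinimalOver

set_option autoImplicit false
open Cfsg
open scoped commutatorElement

namespace Cfsg.Agent.S2835

/-- Let L be a finite group, L₀ a maximal subgroup, T a Sylow p-subgroup of L₀ and Y ≤ T, and suppose L is Y-minimal (generated by the conjugates of Y, with Y in exactly one maximal subgroup, necessarily L₀). Then N_L(T) ≤ L₀, O_p(L) ≤ L₀ and T is a Sylow p-subgroup of L; N_L(L₀) = L₀; L = ⟨Y, gYg⁻¹⟩ for each g ∈ L outside L₀; and if Y is abelian then Y ∩ gYg⁻¹ = C_Y(L) for each such g. -/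
theorem result {L : Type*} [Group L] [Finite L] {p : ℕ} [Fact p.Prime] (L₀ : Subgroup L) (hL₀ : IsCoatom L₀) (T : Sylow p ↥L₀) (Y : Subgroup L) (hYT : Y ≤ (T : Subgroup ↥L₀).map L₀.subtype) (hmin : Cfsg.IsMinimalOver Y) : Subgroup.normalizer (((T : Subgroup ↥L₀).map L₀.subtype : Subgroup L) : Set L) ≤ L₀ ∧ Cfsg.pCore p L ≤ L₀ ∧ (∃ P : Sylow p L, (P : Subgroup L) = (T : Subgroup ↥L₀).map L₀.subtype) ∧ Subgroup.normalizer (L₀ : Set L) = L₀ ∧ (∀ g : L, g ∉ L₀ → Y ⊔ Y.map (MulAut.conj g).toMonoidHom = ⊤) ∧ (IsMulCommutative ↥Y → ∀ g : L, g ∉ L₀ → Y ⊓ Y.map (MulAut.conj g).toMonoidHom = Y ⊓ Subgroup.center L) := by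
  set T' : Subgroup L := (T : Subgroup ↥L₀).map L₀.subtype
  have hT'L : T' ≤ L₀ := Subgroup.map_subtype_le _
  have hT' : LocalEven62.IsSyl p T' L₀ := LocalEven62.IsSyl.of_sylow_sub T
  have hYL : Y ≤ L₀ := hYT.trans hT'L
  have hNT : Subgroup.normalizer (T' : Set L) ≤ L₀ := by
    by_cases htop : Subgroup.normalizer (T' : Set L) = ⊤
    · exact (LocalEven62.not_normal_le hmin hL₀ (Subgroup.normalizer_eq_top_iff.1 htop) hYT hT'L).elim
    · exact LocalEven62.minimalOver_le hmin hL₀ hYL (hYT.trans Subgroup.le_normalizer) htop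
  obtain ⟨P, hP⟩ := hT'.isPGroup.exists_le_sylow
  have hPT : (P : Subgroup L) = T' := by
    by_contra hne
    obtain ⟨r, hrP, hrT, hrN, -⟩ := LocalEven62.exists_not_mem_commutator_mem
      (P := (⊥ : Subgroup L)) (IsPGroup.of_bot) P.isPGroup' bot_le bot_le
      (lt_of_le_of_ne hP (Ne.symm hne))
    have h1 := hT'.eq_of_le P.isPGroup'.to_inf_left inf_le_right (le_inf hP hT'L)
    exact hrT (h1.ge (Subgroup.mem_inf.2 ⟨hrP, hNT hrN⟩))
  have hN0 := LocalEven62.normalizer_eq_self_of_minimal hmin hL₀ hYL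
  have hgen : ∀ g : L, g ∉ L₀ → Y ⊔ Y.map (MulAut.conj g).toMonoidHom = ⊤ := by
    intro g hg
    by_contra hne
    exact hg (LocalEven62.mem_of_conj_le_of_minimal hmin hL₀ hYL
      (le_sup_right.trans (LocalEven62.minimalOver_le hmin hL₀ hYL le_sup_left hne)))
  refine ⟨hNT, (Thompson.pCore_le_sylow P).trans (hPT.le.trans hT'L), ⟨P, hPT⟩, hN0, hgen,
    fun hab g hg => le_antisymm (le_inf inf_le_left ?_) (le_inf inf_le_left ?_)⟩
  · intro u hu
    rw [Subgroup.mem_center_iff]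
    intro x
    have hle : ⊤ ≤ Subgroup.centralizer ({u} : Set L) := by
      rw [← hgen g hg]
      refine sup_le (fun y hy => Subgroup.mem_centralizer_singleton_iff.2 ?_) ?_
      · exact congrArg Subtype.val (hab.is_comm.comm (⟨y, hy⟩ : ↥Y) ⟨u, hu.1⟩)
      · rintro _ ⟨y, hy, rfl⟩
        obtain ⟨v, hv, hvu⟩ := hu.2
        rw [Subgroup.mem_centralizer_singleton_iff, ← hvu, ← map_mul, ← map_mul]
        exact congrArg _ (congrArg Subtype.val (hab.is_comm.comm (⟨y, hy⟩ : ↥Y) ⟨v, hv⟩))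
    exact Subgroup.mem_centralizer_singleton_iff.1 (hle (Subgroup.mem_top x))
  · intro u hu
    rw [LocalEven62.mem_map_conj, mul_assoc, ← Subgroup.mem_center_iff.1 hu.2 g, inv_mul_cancel_left]
    exact hu.1

end Cfsg.Agent.S2835
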