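import Cfsg.Statements.S2836
import Cfsg.Agent.LocalEven62.MinimalOver
import Cfsg.Agent.S2835
import Cfsg.Agent.Lib.Fitting

set_option autoImplicit false
open Cfsg
open scoped commutatorElement

namespace Cfsg.Agent.S2836

/-- Let L be a finite group, L₀ a maximal subgroup, T a Sylow p-subgroup of L₀, Y ≤ T, and suppose L is Y-minimal. Let D be the intersection of the conjugates of L₀ (the core of L₀). Then D contains O_p(L) and D/O_p(L) is the Frattini subgroup of L/O_p(L), so D is p-closed; and every normal subgroup N of L contained in L₀ is p-closed with N/O_p(N) a nilpotent group of order prime to p. -/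
theorem result {L : Type*} [Group L] [Finite L] {p : ℕ} [Fact p.Prime] (L₀ : Subgroup L) (hL₀ : IsCoatom L₀) (T : Sylow p ↥L₀) (Y : Subgroup L) (hYT : Y ≤ (T : Subgroup ↥L₀).map L₀.subtype) (hmin : Cfsg.IsMinimalOver Y) : (Cfsg.pCore p L ≤ L₀.normalCore ∧ (L₀.normalCore).map (QuotientGroup.mk' (Cfsg.pCore p L)) = frattini (L ⧸ Cfsg.pCore p L) ∧ Cfsg.IsPClosed p ↥(L₀.normalCore)) ∧ ∀ (N : Subgroup L) [N.Normal], N ≤ L₀ → Cfsg.IsPClosed p ↥N ∧ Group.IsNilpotent (↥N ⧸ Cfsg.pCore p ↥N) ∧ (Nat.card (↥N ⧸ Cfsg.pCore p ↥N)).Coprime p := by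
  set T' : Subgroup L := (T : Subgroup ↥L₀).map L₀.subtype
  have hT'L : T' ≤ L₀ := Subgroup.map_subtype_le _
  have hYL : Y ≤ L₀ := hYT.trans hT'L
  obtain ⟨-, hOL, ⟨P, hP⟩, -, -, -⟩ := S2835.result L₀ hL₀ T Y hYT hmin
  have hT's : LocalEven62.IsSyl p T' ⊤ := by
    rw [show T' = (P : Subgroup L) from hP.symm]; exact LocalEven62.IsSyl.of_sylow P
  set D : Subgroup L := L₀.normalCore
  set O : Subgroup L := Cfsg.pCore p L
  have hOD : O ≤ D := Subgroup.normal_le_normalCore.2 hOL
  have hDcl : LocalEven62.PCl p D :=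
    LocalEven62.pCl_of_normal_le hmin hL₀ hT's hT'L hYT (Subgroup.normalCore_le L₀)
  have hπ : Function.Surjective (QuotientGroup.mk' O) := QuotientGroup.mk'_surjective O
  have hfr : D.map (QuotientGroup.mk' O) = frattini (L ⧸ O) := by
    refine le_antisymm (le_iInf₂ fun X hX => ?_) fun z hz => ?_
    · rw [Subgroup.map_le_iff_le_comap]
      set X' : Subgroup L := X.comap (QuotientGroup.mk' O)
      have hX' : IsCoatom X' := Subgroup.isCoatom_comap_of_surjective hπ hX
      by_contra hno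
      have htop : X' ⊔ D = ⊤ := hX'.2 _ (lt_of_le_of_ne le_sup_left fun he =>
        hno ((le_sup_right : D ≤ X' ⊔ D).trans he.symm.le))
      have hOX : O ≤ X' := by
        intro x hx
        show QuotientGroup.mk' O x ∈ X
        rw [show QuotientGroup.mk' O x = 1 from (QuotientGroup.eq_one_iff x).2 hx]
        exact X.one_mem
      have hS := hDcl.isSyl_pCoreOf
      obtain ⟨S, hS', hSX⟩ := LocalEven62.exists_sylow_le_of_not_dvd_index
        (LocalEven62.not_dvd_index_of_sup_eq_top hS
          ((LocalEven62.pCore_le_pCoreOf_normal).trans hOX) htop)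
      obtain ⟨g, -, hg⟩ := hS'.exists_conj_eq hT's
      have h1 : Y ≤ X'.map (MulAut.conj g⁻¹).toMonoidHom :=
        LocalEven62.map_conj_le_iff.1 ((Subgroup.map_mono hYT).trans (hg.le.trans hSX))
      have h2 := hmin.2.unique ⟨LocalEven62.isCoatom_map_conj hX' g⁻¹, h1⟩ ⟨hL₀, hYL⟩
      refine hno fun d hd => ?_
      have h3 : g⁻¹ * d * g ∈ L₀ := by
        have := Subgroup.normalCore_le L₀ ((Subgroup.normalCore_normal L₀).conj_mem d hd g⁻¹)
        simpa using this
      rw [← h2, LocalEven62.mem_map_conj] at h3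
      simpa [mul_assoc] using h3
    · obtain ⟨x, rfl⟩ := hπ z
      refine ⟨x, fun b => ?_, rfl⟩
      have hcoa : IsCoatom ((L₀.map (MulAut.conj b⁻¹).toMonoidHom).map (QuotientGroup.mk' O)) := by
        have hker : (QuotientGroup.mk' O).ker ≤ L₀.map (MulAut.conj b⁻¹).toMonoidHom := by
          rw [QuotientGroup.ker_mk']
          intro y hy
          rw [LocalEven62.mem_map_conj, inv_inv]
          exact hOL (Subgroup.Normal.conj_mem inferInstance y hy b)
        have hc := LocalEven62.isCoatom_map_conj hL₀ b⁻¹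
        refine ⟨fun h => hc.1 ?_, fun K hK => ?_⟩
        · rw [← Subgroup.comap_map_eq_self hker, h, Subgroup.comap_top]
        · rw [← Subgroup.map_comap_eq_self_of_surjective hπ K,
            hc.2 (K.comap (QuotientGroup.mk' O)) ?_, Subgroup.map_top_of_surjective _ hπ]
          refine lt_of_le_of_ne (Subgroup.map_le_iff_le_comap.1 hK.le) fun he => hK.ne ?_
          rw [he, Subgroup.map_comap_eq_self_of_surjective hπ]
      obtain ⟨y, hy, hyx⟩ := frattini_le_coatom hcoa hz
      have h3 : b * x * b⁻¹ ∈ L₀ := by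
        rw [SetLike.mem_coe, LocalEven62.mem_map_conj, inv_inv] at hy
        have h4 : y⁻¹ * x ∈ O := QuotientGroup.eq.1 hyx
        have h5 := hOL (Subgroup.Normal.conj_mem inferInstance _ h4 b)
        have := mul_mem hy h5
        simpa [mul_assoc] using this
      exact h3
  refine ⟨⟨hOD, hfr, LocalEven62.isPClosed_iff_pCl.2 hDcl⟩, fun N _ hN => ?_⟩
  have hcl : LocalEven62.PCl p N :=
    LocalEven62.pCl_of_normal_le hmin hL₀ hT's hT'L hYT hN
  refine ⟨LocalEven62.isPClosed_iff_pCl.2 hcl, ?_, ?_⟩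
  · have hND : N ≤ D := Subgroup.normal_le_normalCore.2 hN
    let f : ↥N →* L ⧸ O := (QuotientGroup.mk' O).comp N.subtype
    have hker : f.ker = Cfsg.pCore p ↥N := by
      rw [← LocalEven62.subgroupOf_pCoreOf (p := p) N, Cfsg.pCoreOf, Thompson.map_pCore_normal_eq]
      ext x
      rw [MonoidHom.mem_ker, Subgroup.mem_subgroupOf]
      exact ⟨fun h => ⟨x.2, (QuotientGroup.eq_one_iff _).1 h⟩,
        fun h => (QuotientGroup.eq_one_iff _).2 h.2⟩
    have hle : f.range ≤ frattini (L ⧸ O) := by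
      rintro _ ⟨x, rfl⟩
      exact hfr ▸ ⟨x, hND x.2, rfl⟩
    have hnil : Group.IsNilpotent ↥f.range := Fitting.isNilpotent_of_le frattini_nilpotent hle
    haveI := hnil
    exact Group.nilpotent_of_mulEquiv
      ((QuotientGroup.quotientKerEquivRange f).symm.trans (QuotientGroup.quotientMulEquivOfEq hker))
  · rw [← Subgroup.index_eq_card, ← LocalEven62.subgroupOf_pCoreOf (p := p) N]
    exact ((Fact.out : p.Prime).coprime_iff_not_dvd.2 hcl.isSyl_pCoreOf.not_dvd).symm

end Cfsg.Agent.S2836
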