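import Cfsg.Statements.S2837
import Cfsg.Agent.LocalEven62.MinimalOver
import Cfsg.Agent.S2835
import Cfsg.Agent.LocalEven62.Frattini

set_option autoImplicit false
open Cfsg
open scoped commutatorElement

namespace Cfsg.Agent.S2837

/-- Let L be a finite group of characteristic p, L₀ a maximal subgroup, Y an elementary abelian p-subgroup of L₀ with L Y-minimal and O_p(L) ≤ N_L(Y). Put A = the normal closure of O_p(L) ∩ Y in L. Then for every g ∈ L outside L₀: Φ(A) = A' = [A ∩ Y, A] = [A ∩ Y, A ∩ gYg⁻¹] ≤ C_Y(L), and Y ∩ gYg⁻¹ = (A ∩ Y) ∩ (A ∩ gYg⁻¹) = C_Y(L) = C_A(L). -/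
theorem result {L : Type*} [Group L] [Finite L] {p : ℕ} [Fact p.Prime] (hchar : Subgroup.centralizer (Cfsg.pCore p L : Set L) ≤ Cfsg.pCore p L) (L₀ : Subgroup L) (hL₀ : IsCoatom L₀) (Y : Subgroup L) (hYL₀ : Y ≤ L₀) (hYel : Cfsg.IsElementaryAbelian p Y) (hmin : Cfsg.IsMinimalOver Y) (hOY : Cfsg.pCore p L ≤ Subgroup.normalizer (Y : Set L)) (A : Subgroup L) (hA : A = Subgroup.normalClosure (((Cfsg.pCore p L ⊓ Y : Subgroup L)) : Set L)) (g : L) (hg : g ∉ L₀) : (frattini ↥A).map A.subtype = ⁅A, A⁆ ∧ ⁅A, A⁆ = ⁅A ⊓ Y, A⁆ ∧ ⁅A ⊓ Y, A⁆ = ⁅A ⊓ Y, A ⊓ Y.map (MulAut.conj g).toMonoidHom⁆ ∧ ⁅A ⊓ Y, A⁆ ≤ Y ⊓ Subgroup.center L ∧ Y ⊓ Y.map (MulAut.conj g).toMonoidHom = Y ⊓ Subgroup.center L ∧ (A ⊓ Y) ⊓ (A ⊓ Y.map (MulAut.conj g).toMonoidHom) = Y ⊓ Subgroup.center L ∧ A ⊓ Subgroup.center L = Y ⊓ Subgroup.center L := by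
  have hYp := LocalEven62.isPGroup_of_isElementaryAbelian hYel
  obtain ⟨T, hT⟩ := (hYp.of_equiv (Subgroup.subgroupOfEquivOfLe hYL₀).symm).exists_le_sylow
  have hYT : Y ≤ (T : Subgroup ↥L₀).map L₀.subtype := fun y hy => ⟨⟨y, hYL₀ hy⟩, hT hy, rfl⟩
  obtain ⟨-, -, -, -, hgen, hZ⟩ := S2835.result L₀ hL₀ T Y hYT hmin
  have hgen := hgen g hg
  have hZ := hZ hYel.1 g hg
  set Y' : Subgroup L := Y.map (MulAut.conj g).toMonoidHom
  set O : Subgroup L := Cfsg.pCore p L
  set Z : Subgroup L := Y ⊓ Subgroup.center L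
  have hYO : ⁅O, Y⁆ ≤ Y := Subgroup.le_normalizer_iff_commutator_le_right.1 hOY
  have hOY' : O ≤ Subgroup.normalizer (Y' : Set L) := fun o ho => by
    refine LocalEven62.mem_normalizer_of_conj_mem fun y hy => ?_
    rw [LocalEven62.mem_map_conj] at hy ⊢
    have h1 : g⁻¹ * o * g ∈ O := by
      simpa using (Thompson.instPCoreNormal (G := L) (p := p)).conj_mem o ho g⁻¹
    have := LocalEven62.conj_mem_of_mem_normalizer (hOY h1) hy
    simpa [mul_assoc] using this
  have hAO : A ≤ O := hA ▸ Subgroup.normalClosure_le_normal (fun x hx => hx.1)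
  set U : Subgroup L := O ⊓ Y
  set U' : Subgroup L := O ⊓ Y'
  have hUA : U ≤ A := hA ▸ Subgroup.le_normalClosure
  have hAY : A ⊓ Y = U := le_antisymm (inf_le_inf_right _ hAO) (le_inf hUA inf_le_right)
  haveI hAn : A.Normal := hA ▸ Subgroup.normalClosure_normal
  have hU'A : U' ≤ A := by
    intro x hx
    obtain ⟨y, hy, rfl⟩ := hx.2
    have hyO : y ∈ O := by
      have := (Thompson.instPCoreNormal (G := L) (p := p)).conj_mem _ hx.1 g⁻¹
      simpa [mul_assoc] using this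
    exact hAn.conj_mem y (hUA ⟨hyO, hy⟩) g
  have hAY' : A ⊓ Y' = U' := le_antisymm (inf_le_inf_right _ hAO) (le_inf hU'A inf_le_right)
  have hAeq : A = U ⊔ U' := by
    refine le_antisymm ?_ (sup_le hUA hU'A)
    haveI : (U ⊔ U').Normal := by
      refine LocalEven62.normal_of_sup_eq_top (A := Y) (B := Y') ?_ ?_ hgen
      · intro y hy
        refine LocalEven62.mem_normalizer_of_map_le ?_
        rw [Subgroup.map_sup, sup_le_iff]
        refine ⟨le_sup_of_le_left ?_, ?_⟩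
        · rintro _ ⟨u, hu, rfl⟩
          exact ⟨(Thompson.instPCoreNormal).conj_mem u hu.1 y,
            LocalEven62.conj_mem_of_mem_normalizer (Subgroup.le_normalizer hy) hu.2⟩
        · rintro _ ⟨u, hu, rfl⟩
          have h1 : (MulAut.conj y).toMonoidHom u = ⁅u, y⁆⁻¹ * u := by
            show y * u * y⁻¹ = (u * y * u⁻¹ * y⁻¹)⁻¹ * u
            group
          rw [h1]
          refine mul_mem ((le_sup_left : U ≤ U ⊔ U') (U.inv_mem ⟨?_, ?_⟩))
            ((le_sup_right : U' ≤ U ⊔ U') hu)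
          · exact Subgroup.commutator_le_left O Y (Subgroup.commutator_mem_commutator hu.1 hy)
          · exact hYO (Subgroup.commutator_mem_commutator hu.1 hy)
      · intro y hy
        refine LocalEven62.mem_normalizer_of_map_le ?_
        rw [Subgroup.map_sup, sup_le_iff]
        refine ⟨?_, le_sup_of_le_right ?_⟩
        · rintro _ ⟨u, hu, rfl⟩
          have h1 : (MulAut.conj y).toMonoidHom u = ⁅u, y⁆⁻¹ * u := by
            show y * u * y⁻¹ = (u * y * u⁻¹ * y⁻¹)⁻¹ * u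
            group
          rw [h1]
          refine mul_mem ((le_sup_right : U' ≤ U ⊔ U') (U'.inv_mem ⟨?_, ?_⟩))
            ((le_sup_left : U ≤ U ⊔ U') hu)
          · exact Subgroup.commutator_le_left O Y' (Subgroup.commutator_mem_commutator hu.1 hy)
          · exact Subgroup.le_normalizer_iff_commutator_le_right.1 hOY'
              (Subgroup.commutator_mem_commutator hu.1 hy)
        · rintro _ ⟨u, hu, rfl⟩
          exact ⟨(Thompson.instPCoreNormal).conj_mem u hu.1 y,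
            LocalEven62.conj_mem_of_mem_normalizer (Subgroup.le_normalizer hy) hu.2⟩
    conv_lhs => rw [hA]
    exact Subgroup.normalClosure_le_normal (fun x hx => (le_sup_left : U ≤ U ⊔ U') hx)
  have hYc : ∀ a ∈ Y, ∀ b ∈ Y, Commute a b := fun a ha b hb => LocalEven62.elAb_commute hYel ha hb
  have hY'c : ∀ a ∈ Y', ∀ b ∈ Y', Commute a b := by
    rintro _ ⟨a, ha, rfl⟩ _ ⟨b, hb, rfl⟩
    exact (hYc a ha b hb).map _
  have hUU' : ⁅U, U'⁆ ≤ Z := by
    rw [← hZ]
    refine Subgroup.commutator_le.2 fun u hu v hv => ⟨?_, ?_⟩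
    · have h1 : ⁅v, u⁆ ∈ Y := hYO (Subgroup.commutator_mem_commutator hv.1 hu.2)
      rw [← commutatorElement_inv]
      exact Y.inv_mem h1
    · exact Subgroup.le_normalizer_iff_commutator_le_right.1 hOY'
        (Subgroup.commutator_mem_commutator hu.1 hv.2)
  have hZA : Z ≤ A := by
    refine le_trans (le_inf ?_ inf_le_left) hUA
    refine Thompson.le_pCore ⟨fun z hz k => ?_⟩ (hYp.to_le inf_le_left)
    rw [Subgroup.mem_center_iff.1 hz.2 k, mul_inv_cancel_right]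
    exact hz
  -- every element of `A` is a product of an element of `U` and one of `U'`
  have hprod : ∀ a ∈ A, ∃ u ∈ U, ∃ v ∈ U', a = u * v := by
    intro a ha
    have hn : U' ≤ Subgroup.normalizer (U : Set L) := LocalEven62.le_normalizer_inf
      (LocalEven62.le_normalizer_top O) ((inf_le_left : U' ≤ O).trans hOY)
    rw [hAeq, ← SetLike.mem_coe, Subgroup.coe_mul_of_right_le_normalizer_left U U' hn] at ha
    obtain ⟨u, hu, v, hv, rfl⟩ := ha
    exact ⟨u, hu, v, hv, rfl⟩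
  have hAA : ⁅A, A⁆ ≤ ⁅U, U'⁆ := by
    refine Subgroup.commutator_le.2 fun a ha b hb => ?_
    obtain ⟨u, hu, v, hv, rfl⟩ := hprod a ha
    obtain ⟨s, hs, t, ht, rfl⟩ := hprod b hb
    have hc : ∀ {x y : L}, x ∈ U → y ∈ U' → ∀ k : L, k * ⁅x, y⁆ * k⁻¹ = ⁅x, y⁆ := fun hx hy k => by
      rw [Subgroup.mem_center_iff.1 (hUU' (Subgroup.commutator_mem_commutator hx hy)).2 k,
        mul_inv_cancel_right]
    have h1 : ⁅u * v, s * t⁆ =
        u * (⁅v, s⁆ * (s * ⁅v, t⁆ * s⁻¹)) * u⁻¹ * (⁅u, s⁆ * (s * ⁅u, t⁆ * s⁻¹)) := by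
      simp only [commutatorElement_def]; group
    rw [h1, commutatorElement_eq_one_iff_mul_comm.2 (hY'c v hv.2 t ht.2).eq,
      commutatorElement_eq_one_iff_mul_comm.2 (hYc u hu.2 s hs.2).eq, hc hu ht s]
    simp only [mul_one, one_mul, mul_inv_cancel]
    rw [show ⁅v, s⁆ = ⁅s, v⁆⁻¹ from (commutatorElement_inv s v).symm]
    have h2 : u * ⁅s, v⁆⁻¹ * u⁻¹ = ⁅s, v⁆⁻¹ := by
      rw [← conj_inv, hc hs hv u]
    rw [h2]
    exact mul_mem (inv_mem (Subgroup.commutator_mem_commutator hs hv))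
      (Subgroup.commutator_mem_commutator hu ht)
  have hAp : IsPGroup p ↥A := Thompson.isPGroup_pCore.to_le hAO
  rw [hAY, hAY']
  have e1 : ⁅U, A⁆ = ⁅U, U'⁆ := le_antisymm ((Subgroup.commutator_mono hUA le_rfl).trans hAA)
    (Subgroup.commutator_mono le_rfl hU'A)
  have e2 : ⁅A, A⁆ = ⁅U, A⁆ := le_antisymm (hAA.trans e1.ge) (Subgroup.commutator_mono hUA le_rfl)
  refine ⟨le_antisymm (LocalEven62.frattini_map_le_of hAp le_rfl fun a ha => ?_)
      (LocalEven62.commutator_le_frattini_map hAp), e2, e1, e1.le.trans hUU', hZ,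
    le_antisymm ((inf_le_inf inf_le_right inf_le_right).trans hZ.le) ?_, ?_⟩
  · obtain ⟨u, hu, v, hv, rfl⟩ := hprod a ha
    haveI : (⁅A, A⁆.subgroupOf A).Normal :=
      Subgroup.normal_subgroupOf_of_le_normalizer (Subgroup.normalizer_commutator_ge_left A A)
    have h1 : Commute (QuotientGroup.mk' (⁅A, A⁆.subgroupOf A) ⟨u, hUA hu⟩)
        (QuotientGroup.mk' (⁅A, A⁆.subgroupOf A) ⟨v, hU'A hv⟩) := by
      refine commutatorElement_eq_one_iff_mul_comm.1 ?_
      rw [← map_commutatorElement]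
      exact (QuotientGroup.eq_one_iff _).2
        (Subgroup.commutator_mem_commutator (hUA hu) (hU'A hv) : ⁅u, v⁆ ∈ ⁅A, A⁆)
    have hu1 : (⟨u, hUA hu⟩ : ↥A) ^ p = 1 := Subtype.ext (hYel.2 u hu.2)
    have hv1 : (⟨v, hU'A hv⟩ : ↥A) ^ p = 1 := by
      obtain ⟨y, hy, hye⟩ := hv.2
      refine Subtype.ext ?_
      show v ^ p = 1
      rw [← hye, ← map_pow, hYel.2 y hy, map_one]
    have h2 : QuotientGroup.mk' (⁅A, A⁆.subgroupOf A) ((⟨u, hUA hu⟩ * ⟨v, hU'A hv⟩) ^ p) = 1 := by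
      rw [map_pow, map_mul, h1.mul_pow, ← map_pow, ← map_pow, hu1, hv1, map_one, one_mul]
    exact (QuotientGroup.eq_one_iff (N := ⁅A, A⁆.subgroupOf A)
      (((⟨u, hUA hu⟩ : ↥A) * (⟨v, hU'A hv⟩ : ↥A)) ^ p)).1 h2
  · exact le_inf (le_inf (hZA.trans hAO) inf_le_left)
      (le_inf (hZA.trans hAO) (hZ.ge.trans inf_le_right))
  · refine le_antisymm (fun a ha => ⟨?_, ha.2⟩) (le_inf hZA inf_le_right)
    obtain ⟨u, hu, v, hv, rfl⟩ := hprod a ha.1
    have hac := Subgroup.mem_center_iff.1 ha.2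
    have hv' : v ∈ Subgroup.center L := by
      rw [Subgroup.mem_center_iff]
      intro x
      have hle : ⊤ ≤ Subgroup.centralizer ({v} : Set L) := by
        rw [← hgen]
        refine sup_le (fun y hy => Subgroup.mem_centralizer_singleton_iff.2 ?_)
          (fun y hy => Subgroup.mem_centralizer_singleton_iff.2 (hY'c y hy v hv.2).eq)
        have h1 : Commute y (u * v) := hac y
        have h2 : Commute y u := hYc y hy u hu.2
        have := h2.inv_right.mul_right h1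
        rwa [inv_mul_cancel_left] at this
      exact Subgroup.mem_centralizer_singleton_iff.1 (hle (Subgroup.mem_top x))
    obtain ⟨y, hy, hye⟩ := hv.2
    have hyv : y = v := by
      have h3 := Subgroup.mem_center_iff.1 hv' g⁻¹
      have h4 : y = g⁻¹ * v * g := by rw [← hye]; simp [mul_assoc]
      rw [h4, h3, inv_mul_cancel_right]
    exact Y.mul_mem hu.2 (hyv ▸ hy)

end Cfsg.Agent.S2837
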