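import Cfsg.Statements.S2840
import Cfsg.Agent.LocalEven62.WeakClosed

set_option autoImplicit false
open Cfsg
open scoped commutatorElement

namespace Cfsg.Agent.S2840

/-- Let Q be a nontrivial p-subgroup of the finite group H that is a weakly closed subgroup and K a subgroup containing Q; let K° be the weak closure of Q in K (generated by the H-conjugates of Q inside K). Then K° is generated by the K-conjugates of Q, and K° is the subnormal closure of Q in K. -/
theorem result {H : Type*} [Group H] [Finite H] {p : ℕ} [Fact p.Prime] (Q : Subgroup H) (hQp : IsPGroup p ↥Q) (hQ1 : Q ≠ ⊥) (hwc : Cfsg.IsWeaklyClosedSubgroup p Q) (K : Subgroup H) (hQK : Q ≤ K) (Kc : Subgroup H) (hKc : Kc = Cfsg.weakClosure Q K) : Kc = ⨆ k : ↥K, ((Q : Subgroup H).map (MulAut.conj ((k : H) : H)).toMonoidHom) ∧ Kc = (Cfsg.subnormalClosure (Q.subgroupOf K)).map K.subtype := by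
  subst hKc
  refine ⟨LocalEven62.weakClosure_eq_iSup hwc hQK, ?_⟩
  have hQ' := LocalEven62.wc_subgroupOf hwc hQK
  refine le_antisymm ?_ ?_
  · -- every subnormal subgroup of `K` containing `Q` contains all `K`-conjugates of `Q`
    have key : ∀ S : Subgroup ↥K, S.IsSubnormal → Q.subgroupOf K ≤ S →
        ∀ k : ↥K, (Q.subgroupOf K).map (MulAut.conj k).toMonoidHom ≤ S := by
      intro S hS
      induction hS with
      | top => exact fun _ _ => le_top
      | step A B hAB _ hN ih =>
        intro hA k
        have hk := ih (hA.trans hAB) k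
        obtain ⟨b, hb, he⟩ := LocalEven62.wc_exists_mem hQ' (hA.trans hAB) hk
        rw [he]
        rintro y ⟨q, hq, rfl⟩
        exact hN.conj_mem ⟨q, hAB (hA hq)⟩ (hA hq) ⟨b, hb⟩
    rw [LocalEven62.weakClosure_eq_iSup hwc hQK]
    refine iSup_le fun k => ?_
    rintro y ⟨q, hq, rfl⟩
    refine ⟨k * ⟨q, hQK hq⟩ * k⁻¹, ?_, rfl⟩
    refine (le_sInf fun S hS => key S hS.2 hS.1 k) (LocalEven62.conj_mem_map ?_)
    exact hq
  · rw [Subgroup.map_le_iff_le_comap]
    refine sInf_le ⟨fun q hq => LocalEven62.self_le_weakClosure hQK hq, ?_⟩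
    exact (Subgroup.normal_subgroupOf_of_le_normalizer
      (LocalEven62.le_normalizer_weakClosure Q K)).isSubnormal

end Cfsg.Agent.S2840
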