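import Cfsg.Statements.S2841
import Cfsg.Agent.LocalEven62.WeakClosed

set_option autoImplicit false
open Cfsg
open scoped commutatorElement

namespace Cfsg.Agent.S2841

/-- Let Q be a nontrivial p-subgroup of the finite group H that is a weakly closed subgroup and N a normal subgroup of H. Then N = N_N(Q)·[N, Q] and [N, Q] = (Q ∩ [N, Q])·[N, Q, Q]. -/
theorem result {H : Type*} [Group H] [Finite H] {p : ℕ} [Fact p.Prime] (Q : Subgroup H) (hQp : IsPGroup p ↥Q) (hQ1 : Q ≠ ⊥) (hwc : Cfsg.IsWeaklyClosedSubgroup p Q) (N' : Subgroup H) [N'.Normal] : (∀ n : H, n ∈ N' → ∃ a ∈ N' ⊓ Subgroup.normalizer ((Q : Subgroup H) : Set H), ∃ b ∈ ⁅N', Q⁆, n = a * b) ∧ (∀ c : H, c ∈ ⁅N', Q⁆ → ∃ a ∈ Q ⊓ ⁅N', Q⁆, ∃ b ∈ ⁅⁅N', Q⁆, Q⁆, c = a * b) := by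
  have key : ∀ M : Subgroup H, Q ≤ Subgroup.normalizer (M : Set H) → ∀ n ∈ M,
      ∃ a ∈ M ⊓ Subgroup.normalizer (Q : Set H), ∃ b ∈ ⁅M, Q⁆, n = a * b := by
    intro M hM n hn
    set D : Subgroup H := ⁅M, Q⁆
    have hDM : D ≤ M := Subgroup.le_normalizer_iff_commutator_le_left.1 hM
    have hQD : Q ≤ Subgroup.normalizer (D : Set H) := Subgroup.normalizer_commutator_ge_right M Q
    have hW : Q.map (MulAut.conj n⁻¹).toMonoidHom ≤ Q ⊔ D := by
      rintro y ⟨q, hq, rfl⟩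
      have : (MulAut.conj n⁻¹).toMonoidHom q = ⁅n⁻¹, q⁆ * q := by simp [commutatorElement_def]
      rw [this]
      exact mul_mem ((le_sup_right : D ≤ Q ⊔ D) (Subgroup.commutator_mem_commutator (inv_mem hn) hq))
        ((le_sup_left : Q ≤ Q ⊔ D) hq)
    obtain ⟨w, hw, he⟩ := LocalEven62.wc_exists_mem hwc le_sup_left hW
    rw [sup_comm] at hw
    rw [← SetLike.mem_coe, Subgroup.coe_mul_of_right_le_normalizer_left D Q hQD] at hw
    obtain ⟨d, hd, q, hq, rfl⟩ := hw
    refine ⟨n * d, Subgroup.mem_inf.2 ⟨M.mul_mem hn (hDM hd), ?_⟩, d⁻¹, D.inv_mem hd, by group⟩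
    have hq' := LocalEven62.mem_normalizer_iff_map.1 ((Subgroup.le_normalizer : Q ≤ _) hq)
    have hd' : Q.map (MulAut.conj n⁻¹).toMonoidHom = Q.map (MulAut.conj d).toMonoidHom := by
      rw [he]
      conv_rhs => rw [← hq']
      rw [LocalEven62.map_conj_mul]
    rw [LocalEven62.mem_normalizer_iff_map, ← LocalEven62.map_conj_mul, ← hd',
      LocalEven62.map_conj_mul, mul_inv_cancel, LocalEven62.map_conj_one]
  refine ⟨key N' (LocalEven62.le_normalizer_top N'), fun c hc => ?_⟩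
  set D : Subgroup H := ⁅N', Q⁆
  have hQD : Q ≤ Subgroup.normalizer (D : Set H) := Subgroup.normalizer_commutator_ge_right N' Q
  set E : Subgroup H := ⁅D, Q⁆
  have hED : E ≤ D := Subgroup.le_normalizer_iff_commutator_le_left.1 hQD
  have hQE : Q ≤ Subgroup.normalizer (E : Set H) := Subgroup.normalizer_commutator_ge_right D Q
  have hDE : D ≤ Subgroup.normalizer (E : Set H) := Subgroup.normalizer_commutator_ge_left D Q
  -- `Q ⊔ D` is the normal closure of `Q` in itself, so it equals `Q ⊔ E`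
  have hconj : ∀ n ∈ N', Q.map (MulAut.conj n).toMonoidHom ≤ Q ⊔ E := by
    intro n hn
    have hW : Q.map (MulAut.conj n).toMonoidHom ≤ Q ⊔ D := by
      rintro y ⟨q, hq, rfl⟩
      have : (MulAut.conj n).toMonoidHom q = ⁅n, q⁆ * q := by simp [commutatorElement_def]
      rw [this]
      exact mul_mem ((le_sup_right : D ≤ Q ⊔ D) (Subgroup.commutator_mem_commutator hn hq))
        ((le_sup_left : Q ≤ Q ⊔ D) hq)
    obtain ⟨w, hw, he⟩ := LocalEven62.wc_exists_mem hwc le_sup_left hW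
    rw [he]
    have hn' : w ∈ Subgroup.normalizer ((Q ⊔ E : Subgroup H) : Set H) := by
      refine (sup_le ((le_sup_left : Q ≤ Q ⊔ E).trans Subgroup.le_normalizer) ?_) hw
      intro d hd
      refine LocalEven62.mem_normalizer_of_map_le ?_
      rw [Subgroup.map_sup, sup_le_iff]
      refine ⟨?_, le_sup_of_le_right (LocalEven62.mem_normalizer_iff_map.1 (hDE hd)).le⟩
      rintro y ⟨q, hq, rfl⟩
      have : (MulAut.conj d).toMonoidHom q = ⁅d, q⁆ * q := by simp [commutatorElement_def]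
      rw [this]
      exact mul_mem ((le_sup_right : E ≤ Q ⊔ E) (Subgroup.commutator_mem_commutator hd hq))
        ((le_sup_left : Q ≤ Q ⊔ E) hq)
    exact le_of_le_of_eq (Subgroup.map_mono le_sup_left) (LocalEven62.mem_normalizer_iff_map.1 hn')
  have hDle : D ≤ Q ⊔ E := Subgroup.commutator_le.2 fun n hn q hq => by
    rw [commutatorElement_def]
    exact mul_mem (hconj n hn (LocalEven62.conj_mem_map hq)) (inv_mem ((le_sup_left : Q ≤ Q ⊔ E) hq))
  have hw := hDle hc
  rw [← SetLike.mem_coe, Subgroup.coe_mul_of_left_le_normalizer_right Q E hQE] at hw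
  obtain ⟨a, ha, b, hb, rfl⟩ := hw
  exact ⟨a, ⟨ha, by simpa using mul_mem hc (inv_mem (hED hb))⟩, b, hb, rfl⟩

end Cfsg.Agent.S2841
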