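import Cfsg.Statements.S2842
import Cfsg.Agent.LocalEven62.WeakClosed

set_option autoImplicit false
open Cfsg
open scoped commutatorElement

namespace Cfsg.Agent.S2842

/-- Let Q be a nontrivial p-subgroup of the finite group H that is a weakly closed subgroup with C_H(Q) ≤ Q, and Q ≤ L ≤ H. Suppose H has characteristic p, or more generally that C_H(y) has characteristic p for some nonidentity y ∈ C_{O_p(L)}(Q). Then [Q, C_H(O_p(L))] ≤ Q ∩ O_p(L), C_H(O_p(L)) is a p-group, and L has characteristic p. -/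
theorem result {H : Type*} [Group H] [Finite H] {p : ℕ} [Fact p.Prime] (Q : Subgroup H) (hQp : IsPGroup p ↥Q) (hQ1 : Q ≠ ⊥) (hwc : Cfsg.IsWeaklyClosedSubgroup p Q) (hCQ : Subgroup.centralizer ((Q : Subgroup H) : Set H) ≤ Q) (L : Subgroup H) (hQL : Q ≤ L) (hyp : Subgroup.centralizer (Cfsg.pCore p H : Set H) ≤ Cfsg.pCore p H ∨ ∃ y : H, y ≠ 1 ∧ y ∈ (Cfsg.pCoreOf p L) ⊓ Subgroup.centralizer ((Q : Subgroup H) : Set H) ∧ Subgroup.centralizer (Cfsg.pCore p ↥(Subgroup.centralizer ({y} : Set H)) : Set ↥(Subgroup.centralizer ({y} : Set H))) ≤ Cfsg.pCore p ↥(Subgroup.centralizer ({y} : Set H))) : ⁅Q, Subgroup.centralizer (((Cfsg.pCoreOf p L) : Subgroup H) : Set H)⁆ ≤ Q ⊓ (Cfsg.pCoreOf p L) ∧ IsPGroup p ↥(Subgroup.centralizer (((Cfsg.pCoreOf p L) : Subgroup H) : Set H)) ∧ Subgroup.centralizer (Cfsg.pCore p ↥L : Set ↥L) ≤ Cfsg.pCore p ↥L := by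
  rw [← LocalEven62.charP_iff]
  rcases hyp with hyp | ⟨y, -, hy, hyc⟩
  · exact LocalEven62.selfCentralizing_overgroup hwc hCQ hQL le_top
      (LocalEven62.charP_top_iff.2 hyp) le_top
  · refine LocalEven62.selfCentralizing_overgroup (X := Subgroup.centralizer ({y} : Set H))
      hwc hCQ hQL ?_ (LocalEven62.charP_iff.2 hyc) ?_
    · exact fun q hq => Subgroup.mem_centralizer_singleton_iff.2
        (LocalEven62.mem_centralizer_iff_commute.1 hy.2 q hq).symm.eq
    · exact fun c hc => Subgroup.mem_centralizer_singleton_iff.2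
        (LocalEven62.mem_centralizer_iff_commute.1 hc y hy.1).eq

end Cfsg.Agent.S2842
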