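import Cfsg.Statements.S2843
import Cfsg.Agent.LocalEven62.WeakClosed

set_option autoImplicit false
open Cfsg
open scoped commutatorElement

namespace Cfsg.Agent.S2843

/-- Let Q be a nontrivial large p-subgroup of the finite group H, Q ≤ L ≤ H, and Y a nontrivial p-subgroup of H normalized by L. Let L° be the weak closure of Q in L (generated by the conjugates of Q inside L). Then L° equals the weak closure of Q in L·C_H(Y), and [L°, C_H(Y)] ≤ O_p(L°); in particular C_H(Y) normalizes L°. -/
theorem result {H : Type*} [Group H] [Finite H] {p : ℕ} [Fact p.Prime] (Q : Subgroup H) (hQp : IsPGroup p ↥Q) (hQ1 : Q ≠ ⊥) (hL : Cfsg.IsLarge Q) (L : Subgroup H) (hQL : Q ≤ L) (Y : Subgroup H) (hYp : IsPGroup p ↥Y) (hY1 : Y ≠ ⊥) (hLY : L ≤ Subgroup.normalizer ((Y : Subgroup H) : Set H)) : Cfsg.weakClosure Q L = Cfsg.weakClosure Q (L ⊔ Subgroup.centralizer ((Y : Subgroup H) : Set H)) ∧ ⁅Cfsg.weakClosure Q L, Subgroup.centralizer ((Y : Subgroup H) : Set H)⁆ ≤ (Cfsg.pCoreOf p (Cfsg.weakClosure Q L)) ∧ Subgroup.centralizer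 ((Y : Subgroup H) : Set H) ≤ Subgroup.normalizer (((Cfsg.weakClosure Q L) : Subgroup H) : Set H) := by
  have hQY : Q ≤ Subgroup.normalizer (Y : Set H) := hQL.trans hLY
  set C : Subgroup H := Subgroup.centralizer (Y : Set H) with hC
  have hwc := LocalEven62.large_weaklyClosed hQp hQ1 hL
  have hLC : L ≤ Subgroup.normalizer (C : Set H) :=
    hLY.trans (LocalEven62.normalizer_le_normalizer_centralizer Y)
  -- `C` normalizes every conjugate of `Q` inside `L`
  have hfix : ∀ g : H, Q.map (MulAut.conj g).toMonoidHom ≤ L →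
      C ≤ Subgroup.normalizer ((Q.map (MulAut.conj g).toMonoidHom : Subgroup H) : Set H) :=
    fun g hg => LocalEven62.large_centralizer_le (LocalEven62.large_conj hL g) (hQp.map _) hYp hY1
      (hg.trans hLY)
  have hCW : C ≤ Subgroup.normalizer ((Cfsg.weakClosure Q L : Subgroup H) : Set H) := fun c hc =>
    LocalEven62.mem_normalizer_of_map_le (by
      rw [Subgroup.map_le_iff_le_comap, LocalEven62.weakClosure_le_iff]
      intro g hg
      rw [← Subgroup.map_le_iff_le_comap, LocalEven62.mem_normalizer_iff_map.1 (hfix g hg hc)]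
      exact LocalEven62.le_weakClosure hg)
  refine ⟨le_antisymm (LocalEven62.weakClosure_mono le_sup_left) ?_, ?_, hCW⟩
  · rw [LocalEven62.weakClosure_le_iff]
    intro g hg
    obtain ⟨k, hk, he⟩ := LocalEven62.wc_exists_mem hwc (le_sup_of_le_left hQL) hg
    rw [← SetLike.mem_coe, sup_comm, Subgroup.coe_mul_of_right_le_normalizer_left C L hLC] at hk
    obtain ⟨c, hc, l, hl, rfl⟩ := hk
    have hl' : Q.map (MulAut.conj l).toMonoidHom ≤ L :=
      le_of_le_of_eq (Subgroup.map_mono hQL)
        (LocalEven62.mem_normalizer_iff_map.1 (Subgroup.le_normalizer hl))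
    rw [he, ← LocalEven62.map_conj_mul, LocalEven62.mem_normalizer_iff_map.1 (hfix l hl' hc)]
    exact LocalEven62.le_weakClosure hl'
  · set W : Subgroup H := Cfsg.weakClosure Q L with hW
    have hWL : W ≤ L := LocalEven62.weakClosure_le Q L
    set O : Subgroup H := Cfsg.pCoreOf p W with hO
    have hWO : W ≤ Subgroup.normalizer (O : Set H) := LocalEven62.le_normalizer_pCoreOf W
    have hCO : C ≤ Subgroup.normalizer (O : Set H) :=
      hCW.trans (LocalEven62.normalizer_le_normalizer_pCoreOf W)
    -- each conjugate of `Q` inside `L` centralizes `C` modulo `O`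
    have hle : W ≤ LocalEven62.stab C O := by
      rw [hW, LocalEven62.weakClosure_le_iff]
      intro g hg q hq
      have hqW : q ∈ W := LocalEven62.le_weakClosure hg hq
      refine ⟨hWO hqW, fun c hc => ?_⟩
      set P : Subgroup H := Q.map (MulAut.conj g).toMonoidHom
      have hPC : P ≤ Subgroup.normalizer (C : Set H) := hg.trans hLC
      have h1 : ⁅q, c⁆ ∈ P ⊓ C :=
        LocalEven62.commutator_le_of_mutual hPC (hfix g hg) (Subgroup.commutator_mem_commutator hq hc)
      have h2 : P ⊓ C ≤ Cfsg.pCoreOf p C :=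
        LocalEven62.le_pCoreOf (hQp.map _).to_inf_left inf_le_right
          (LocalEven62.le_normalizer_inf (hfix g hg) Subgroup.le_normalizer)
      refine LocalEven62.le_pCoreOf (R := Cfsg.pCoreOf p C ⊓ W)
        (LocalEven62.isPGroup_pCoreOf C).to_inf_left inf_le_right
        (LocalEven62.le_normalizer_inf ((hWL.trans hLC).trans
          (LocalEven62.normalizer_le_normalizer_pCoreOf C)) Subgroup.le_normalizer)
        ⟨h2 h1, LocalEven62.le_weakClosure hg h1.1⟩
    exact Subgroup.commutator_le.2 fun w hw c hc => (hle hw).2 c hc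

end Cfsg.Agent.S2843
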