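import Cfsg.Statements.S2844
import Cfsg.Agent.LocalEven62.WeakClosed

set_option autoImplicit false
open Cfsg
open scoped commutatorElement

namespace Cfsg.Agent.S2844

/-- Let Q be a nontrivial large p-subgroup of the finite group H and Q• = O_p(N_H(Q)). Then for every g ∈ H outside N_H(Q): C_H(Q) ∩ C_H(gQg⁻¹) = 1, C_H(Q•) ∩ C_H(gQ•g⁻¹) = 1, Z(Q) ∩ Z(gQg⁻¹) = 1 and Z(Q•) ∩ Z(gQ•g⁻¹) = 1; moreover N_H(Q) = N_H(Q•) and Q• is large in H. -/
theorem result {H : Type*} [Group H] [Finite H] {p : ℕ} [Fact p.Prime] (Q : Subgroup H) (hQp : IsPGroup p ↥Q) (hQ1 : Q ≠ ⊥) (hL : Cfsg.IsLarge Q) (Qb : Subgroup H) (hQb : Qb = Cfsg.largeBullet p Q) : (∀ g : H, g ∉ Subgroup.normalizer ((Q : Subgroup H) : Set H) → Subgroup.centralizer ((Q : Subgroup H) : Set H) ⊓ Subgroup.centralizer ((((Q : Subgroup H).map (MulAut.conj (g : H)).toMonoidHom) : Subgroup H) : Set H) = ⊥ ∧ Subgroup.centralizer ((Qb : Subgroup H) : Set H) ⊓ Subgroup.centralizer ((((Qb : Subgroup H).map (MulAut.conj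 (g : H)).toMonoidHom) : Subgroup H) : Set H) = ⊥ ∧ (Q ⊓ Subgroup.centralizer ((Q : Subgroup H) : Set H)) ⊓ (((Q : Subgroup H).map (MulAut.conj (g : H)).toMonoidHom) ⊓ Subgroup.centralizer ((((Q : Subgroup H).map (MulAut.conj (g : H)).toMonoidHom) : Subgroup H) : Set H)) = ⊥ ∧ (Qb ⊓ Subgroup.centralizer ((Qb : Subgroup H) : Set H)) ⊓ (((Qb : Subgroup H).map (MulAut.conj (g : H)).toMonoidHom) ⊓ Subgroup.centralizer ((((Qb : Subgroup H).map (MulAut.conj (g : H)).toMonoidHom) : Subgroup H) : Set H)) = ⊥) ∧ Subgroup.normalizer ((Q : Subgroup H) : Set H) = Subgroup.normalizer ((Qb : Subgroup H) : Set H) ∧ Cfsg.IsLarge Qb := by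
  have hwc := LocalEven62.large_weaklyClosed hQp hQ1 hL
  have hQN : Q ≤ Subgroup.normalizer (Q : Set H) := Subgroup.le_normalizer
  have hQb' : Q ≤ Qb := hQb ▸ LocalEven62.le_pCoreOf hQp hQN le_rfl
  have hQbp : IsPGroup p ↥Qb := hQb ▸ LocalEven62.isPGroup_pCoreOf _
  have hCle : Subgroup.centralizer (Qb : Set H) ≤ Subgroup.centralizer (Q : Set H) :=
    Subgroup.centralizer_le hQb'
  have hNeq : Subgroup.normalizer (Q : Set H) = Subgroup.normalizer (Qb : Set H) :=
    le_antisymm (hQb ▸ Subgroup.le_normalizer.trans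
        (LocalEven62.normalizer_le_normalizer_pCoreOf _))
      (LocalEven62.wc_normalizer_le hwc hQbp hQb')
  have hlarge : Cfsg.IsLarge Qb :=
    ⟨hCle.trans (hL.1.trans hQb'), fun U hU hU1 => hNeq ▸ hL.2 U (hU.trans hCle) hU1⟩
  refine ⟨fun g hg => ?_, hNeq, hlarge⟩
  have key : Subgroup.centralizer (Q : Set H) ⊓
      Subgroup.centralizer ((Q.map (MulAut.conj g).toMonoidHom : Subgroup H) : Set H) = ⊥ := by
    by_contra hU1
    set Qg : Subgroup H := Q.map (MulAut.conj g).toMonoidHom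
    set U := Subgroup.centralizer (Q : Set H) ⊓ Subgroup.centralizer (Qg : Set H) with hU
    have h1 : Subgroup.centralizer (U : Set H) ≤ Subgroup.normalizer (Q : Set H) :=
      LocalEven62.large_centralizer_le_normalizer hL inf_le_left hU1
    have h2 : Subgroup.centralizer (U : Set H) ≤ Subgroup.normalizer (Qg : Set H) :=
      LocalEven62.large_centralizer_le_normalizer (LocalEven62.large_conj hL g) inf_le_right hU1
    have hQU : Q ≤ Subgroup.centralizer (U : Set H) := Subgroup.le_centralizer_iff.1 inf_le_left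
    have hQgU : Qg ≤ Subgroup.centralizer (U : Set H) := Subgroup.le_centralizer_iff.1 inf_le_right
    exact hg (LocalEven62.mem_normalizer_iff_map.2
      (LocalEven62.wc_mutual hwc (LocalEven62.commutator_le_of_mutual (hQU.trans h2) (hQgU.trans h1))))
  have keyb : Subgroup.centralizer (Qb : Set H) ⊓
      Subgroup.centralizer ((Qb.map (MulAut.conj g).toMonoidHom : Subgroup H) : Set H) = ⊥ :=
    le_bot_iff.1 ((inf_le_inf hCle (Subgroup.centralizer_le (Subgroup.map_mono hQb'))).trans key.le)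
  exact ⟨key, keyb, le_bot_iff.1 ((inf_le_inf inf_le_right inf_le_right).trans key.le),
    le_bot_iff.1 ((inf_le_inf inf_le_right inf_le_right).trans keyb.le)⟩

end Cfsg.Agent.S2844
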