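import Cfsg.Statements.S2845
import Cfsg.Agent.LocalEven62.WeakClosed

set_option autoImplicit false
open Cfsg
open scoped commutatorElement

namespace Cfsg.Agent.S2845

/-- Let Q be a nontrivial large p-subgroup of the finite group H. Then for every subgroup L ≥ Q with O_p(L) ≠ 1, C_H(O_p(L)) is a p-group and L has characteristic p, and either the weak closure L° of Q in L equals Q or C_H(L°) = 1; for every subgroup R of H containing a Sylow p-subgroup of H with O_p(R) ≠ 1, C_H(O_p(R)) ≤ O_p(R); and H has parabolic characteristic p. -/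
theorem result {H : Type*} [Group H] [Finite H] {p : ℕ} [Fact p.Prime] (Q : Subgroup H) (hQp : IsPGroup p ↥Q) (hQ1 : Q ≠ ⊥) (hL : Cfsg.IsLarge Q) : (∀ L : Subgroup H, Q ≤ L → Cfsg.pCore p ↥L ≠ ⊥ → IsPGroup p ↥(Subgroup.centralizer (((Cfsg.pCoreOf p L) : Subgroup H) : Set H)) ∧ Subgroup.centralizer (Cfsg.pCore p ↥L : Set ↥L) ≤ Cfsg.pCore p ↥L ∧ (Cfsg.weakClosure Q L = Q ∨ Subgroup.centralizer (((Cfsg.weakClosure Q L) : Subgroup H) : Set H) = ⊥)) ∧ (∀ R : Subgroup H, Cfsg.IsParabolic p R → Cfsg.pCore p ↥R ≠ ⊥ → Subgroup.centralizer (((Cfsg.pCoreOf p R) : Subgroup H) : Set H) ≤ (Cfsg.pCoreOf p R)) ∧ Cfsg.IsOfParabolicCharacteristic p H := by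
  have hwc := LocalEven62.large_weaklyClosed hQp hQ1 hL
  -- the first two claims, for any large subgroup
  have main : ∀ Q : Subgroup H, IsPGroup p Q → Q ≠ ⊥ → Cfsg.IsLarge Q → ∀ L : Subgroup H, Q ≤ L →
      Cfsg.pCore p ↥L ≠ ⊥ →
      IsPGroup p ↥(Subgroup.centralizer ((Cfsg.pCoreOf p L : Subgroup H) : Set H)) ∧
        LocalEven62.CharP p L := by
    intro Q hQp hQ1 hL L hQL hO
    set P : Subgroup H := Cfsg.pCoreOf p L
    have hP1 : P ≠ ⊥ := fun h => hO ((LocalEven62.pCoreOf_eq_bot_iff L).1 h)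
    exact (LocalEven62.selfCentralizing_overgroup (LocalEven62.large_weaklyClosed hQp hQ1 hL) hL.1
      hQL Subgroup.le_normalizer (LocalEven62.charP_of_selfCentralizing hQp Subgroup.le_normalizer
        le_rfl hL.1) (LocalEven62.large_centralizer_le hL hQp (LocalEven62.isPGroup_pCoreOf L) hP1
          (hQL.trans (LocalEven62.le_normalizer_pCoreOf L)))).2
  have para : ∀ R : Subgroup H, Cfsg.IsParabolic p R → Cfsg.pCore p ↥R ≠ ⊥ →
      Subgroup.centralizer ((Cfsg.pCoreOf p R : Subgroup H) : Set H) ≤ Cfsg.pCoreOf p R := by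
    rintro R ⟨T, hTR⟩ hO
    obtain ⟨g, -, hg⟩ := (LocalEven62.IsSyl.of_sylow T).exists_conj_le hQp le_top
    obtain ⟨hC, -⟩ := main _ (hQp.map _)
      (by rwa [Ne, Subgroup.map_eq_bot_iff_of_injective _ (MulAut.conj g).injective])
      (LocalEven62.large_conj hL g) R (hg.trans hTR) hO
    set C : Subgroup H := Subgroup.centralizer ((Cfsg.pCoreOf p R : Subgroup H) : Set H)
    have hTC : (T : Subgroup H) ≤ Subgroup.normalizer (C : Set H) :=
      hTR.trans ((LocalEven62.le_normalizer_pCoreOf R).trans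
        (LocalEven62.normalizer_le_normalizer_centralizer _))
    have hCR : C ≤ R := by
      have hT := (LocalEven62.IsSyl.of_sylow T).eq_of_le
        (LocalEven62.isPGroup_sup T.isPGroup' hC hTC) le_top le_sup_left
      exact (le_sup_right.trans hT.symm.le).trans hTR
    exact LocalEven62.le_pCoreOf hC hCR ((LocalEven62.le_normalizer_pCoreOf R).trans
        (LocalEven62.normalizer_le_normalizer_centralizer _))
  refine ⟨fun L hQL hO => ⟨(main Q hQp hQ1 hL L hQL hO).1,
    LocalEven62.charP_iff.1 (main Q hQp hQ1 hL L hQL hO).2, ?_⟩, para, ?_⟩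
  · by_cases hall : ∀ g : H, Q.map (MulAut.conj g).toMonoidHom ≤ L →
        Q.map (MulAut.conj g).toMonoidHom = Q
    · exact Or.inl (le_antisymm (LocalEven62.weakClosure_le_iff.2 fun g hg => (hall g hg).le)
        (LocalEven62.self_le_weakClosure hQL))
    · right
      push Not at hall
      obtain ⟨g, hgL, hg⟩ := hall
      rw [eq_bot_iff]
      intro u hu
      by_contra hu1
      have huQ := Subgroup.centralizer_le (LocalEven62.self_le_weakClosure hQL) hu
      have huQg := Subgroup.centralizer_le (LocalEven62.le_weakClosure hgL) hu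
      set U := Subgroup.zpowers u
      have hU1 : U ≠ ⊥ := fun h => hu1 (by simpa [U] using h)
      have h1 := LocalEven62.large_centralizer_le_normalizer hL (Subgroup.zpowers_le.2 huQ) hU1
      have h2 := LocalEven62.large_centralizer_le_normalizer (LocalEven62.large_conj hL g)
        (Subgroup.zpowers_le.2 huQg) hU1
      have hQU : Q ≤ Subgroup.centralizer (U : Set H) :=
        Subgroup.le_centralizer_iff.1 (Subgroup.zpowers_le.2 huQ)
      have hQgU := Subgroup.le_centralizer_iff.1 (Subgroup.zpowers_le.2 huQg)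
      exact hg (LocalEven62.wc_mutual hwc
        (LocalEven62.commutator_le_of_mutual (hQU.trans h2) (hQgU.trans h1)))
  · intro R hR hR1 hpar
    set N : Subgroup H := Subgroup.normalizer (R : Set H)
    have hO : Cfsg.pCore p ↥N ≠ ⊥ := fun h => hR1 (le_bot_iff.1
      ((LocalEven62.le_pCoreOf hR Subgroup.le_normalizer le_rfl).trans
        ((LocalEven62.pCoreOf_eq_bot_iff N).2 h).le))
    exact LocalEven62.charP_iff.1 (inf_le_right.trans (para N hpar hO))

end Cfsg.Agent.S2845
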