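import Cfsg.Statements.S2846
import Cfsg.Agent.LocalEven62.FrakM
import Cfsg.Agent.LocalEven62.WeakClosed
import Cfsg.Agent.S2843
import Cfsg.Agent.S2845

set_option autoImplicit false
open Cfsg

namespace Cfsg.Agent.S2846

/-- Let Q be a nontrivial large p-subgroup of the finite group H, S a Sylow p-subgroup containing Q, and L a subgroup containing S with O_p(L) ≠ 1 and C_H(O_p(L)) ≤ O_p(L). Then there are a subgroup M containing S having the basic property (M ∈ 𝔐_H, writing Y_X for the largest p-reduced normal subgroup of X and 𝓛_H for the set of subgroups X with O_p(X) ≠ 1 and C_H(O_p(X)) ≤ O_p(X): M ∈ 𝓛_H, M·C_H(Y_M) is the only maximal member of 𝓛_H containing M and its largest p-reduced normal subgroup is again Y_M, C_M(Y_M) is p-closed, and the image of C_M(Y_M) in M/O_p(M) lies in the Frattini subgroup of M/O_p(M)) and a subgroup L* with S ≤ L* ≤ M, O_p(L*) ≠ 1, C_H(O_p(L*)) ≤ O_p(L*), such that L·C_H(Y_L) = L*·C_H(Y_L),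 the weak closures of Q in L and in L* agree and lie in that of M, and Y_L = Y_{L*} ≤ Y_M. If moreover Q is not normal in L, then Q is normal in neither L* nor M. -/
theorem result {H : Type*} [Group H] [Finite H] {p : ℕ} [Fact p.Prime] (Q : Subgroup H) (hQp : IsPGroup p ↥Q) (hQ1 : Q ≠ ⊥) (hLg : Cfsg.IsLarge Q) (S : Sylow p H) (hQS : Q ≤ (S : Subgroup H)) (L : Subgroup H) (hSL : (S : Subgroup H) ≤ L) (hL : L ∈ Cfsg.charPSubgroups p H) : ∃ M Ls : Subgroup H, (S : Subgroup H) ≤ M ∧ Cfsg.IsInFrakM p M ∧ (S : Subgroup H) ≤ Ls ∧ Ls ≤ M ∧ Ls ∈ Cfsg.charPSubgroups p H ∧ L ⊔ Subgroup.centralizer (((Cfsg.largestPReducedOf p L) : Subgroup H) : Set H) = Ls ⊔ Subgroup.centralizer (((Cfsg.largestPReducedOf p L) : Subgroup H) : Set H) ∧ Cfsg.weakClosure Q L = Cfsg.weakClosure Q Ls ∧ Cfsg.weakClosure Q Ls ≤ Cfsg.weakClosure Q M ∧ (Cfsg.largestPReducedOf p L) = (Cfsg.largestPReducedOf p Ls) ∧ (Cfsg.largestPReducedOf p Ls) ≤ (Cfsg.largestPReducedOf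 p M) ∧ (¬ L ≤ Subgroup.normalizer ((Q : Subgroup H) : Set H) → ¬ Ls ≤ Subgroup.normalizer ((Q : Subgroup H) : Set H) ∧ ¬ M ≤ Subgroup.normalizer ((Q : Subgroup H) : Set H)) := by
  obtain ⟨-, -, hpar⟩ := S2845.result Q hQp hQ1 hLg
  obtain ⟨M, hM, -, hSM, hY, Ls, hSLs, hLsM, hLs, hYLs, hfac⟩ :=
    LocalEven62.exists_frakM hpar S hSL hL
  have hwc := LocalEven62.large_weaklyClosed hQp hQ1 hLg
  set Y : Subgroup H := Cfsg.largestPReducedOf p L
  have hYn := LocalEven62.pRed_yOf (p := p) L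
  have hY1 : Y ≠ ⊥ := by
    intro h
    have hS1 : (S : Subgroup H) ≠ ⊥ := fun h' => hQ1 (le_bot_iff.1 (hQS.trans h'.le))
    obtain ⟨r, hr, hr1, hrp, hrT⟩ := LocalEven62.exists_fixed S.isPGroup' S.isPGroup'
      Subgroup.le_normalizer hS1
    refine hr1 (Subgroup.mem_bot.1 (h ▸ LocalEven62.omZ_le_yOf (LocalEven62.charP_of_mem hL)
      (LocalEven62.IsSyl.sylow_of_le S hSL) (LocalEven62.mem_omZ.2
        ⟨hr, LocalEven62.mem_centralizer_iff_commute.2 fun y hy => (hrT y hy).symm, hrp⟩)))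
  have hYp : IsPGroup p ↥Y := LocalEven62.PRed.isPGroup hYn
  have e1 := (S2843.result Q hQp hQ1 hLg L (hQS.trans hSL) Y hYp hY1
    (LocalEven62.PRed.le_normalizer hYn)).1
  have e2 := (S2843.result Q hQp hQ1 hLg Ls (hQS.trans hSLs) Y hYp hY1
    (by
      have h := LocalEven62.PRed.le_normalizer (LocalEven62.pRed_yOf (p := p) Ls)
      rwa [hYLs] at h)).1
  have hW : Cfsg.weakClosure Q L = Cfsg.weakClosure Q Ls := by
    rw [e1, e2]; exact congrArg _ hfac
  refine ⟨M, Ls, hSM, hM, hSLs, hLsM, hLs, hfac, hW, LocalEven62.weakClosure_mono hLsM, hYLs.symm,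
    hYLs.le.trans hY, fun hn => ?_⟩
  have hLs' : ¬ Ls ≤ Subgroup.normalizer (Q : Set H) := fun hle => hn (by
    have h := LocalEven62.le_normalizer_weakClosure Q L
    rwa [hW, LocalEven62.weakClosure_eq_self_of_le_normalizer hwc (hQS.trans hSLs) hle] at h)
  exact ⟨hLs', fun hle => hLs' (hLsM.trans hle)⟩

end Cfsg.Agent.S2846
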