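import Cfsg.Statements.S2848
import Cfsg.Agent.LargeSub.FrakM

set_option autoImplicit false
open Cfsg

namespace Cfsg.Agent.S2848

/-- Standing hypotheses: G a finite group, S a Sylow p-subgroup, Q a nontrivial large p-subgroup of G contained in S (C_G(Q) ≤ Q and N_G(U) ≤ N_G(Q) for all nontrivial U ≤ C_G(Q)), and M a subgroup containing S with the basic property (M ∈ 𝔐_G(S)); Y_M denotes the largest p-reduced normal subgroup of M and M† = M·C_G(Y_M). Then O_p(M) is a weakly closed subgroup of M† (for p): it is the only M†-conjugate of itself inside some Sylow p-subgroup of M† containing it. -/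
theorem result {G : Type*} [Group G] [Finite G] {p : ℕ} [Fact p.Prime] (S : Sylow p G) (Q : Subgroup G) (hQp : IsPGroup p ↥Q) (hQ1 : Q ≠ ⊥) (hQS : Q ≤ (S : Subgroup G)) (hQ : Cfsg.IsLarge Q) (M : Subgroup G) (hSM : (S : Subgroup G) ≤ M) (hM : Cfsg.IsInFrakM p M) : Cfsg.IsWeaklyClosedSubgroup p (((Cfsg.pCoreOf p M)).subgroupOf (M ⊔ Subgroup.centralizer (((Cfsg.largestPReducedOf p M) : Subgroup G) : Set G))) := by
  have h : LargeSub.Std p S Q M := ⟨hQp, hQS, hQ, hSM, hM⟩
  set Y := Cfsg.largestPReducedOf p M with hY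
  set D := M ⊔ Subgroup.centralizer (Y : Set G) with hD
  set O := Cfsg.pCoreOf p M with hO
  have hOD : O ≤ D := (LargeSub.pCoreOf_le M).trans le_sup_left
  refine ⟨S.subtype (hSM.trans le_sup_left), ?_, ?_⟩
  · rw [Sylow.coe_subtype]
    exact Subgroup.comap_mono h.O_le_S'
  · intro g hg
    rw [Sylow.coe_subtype] at hg
    refine Subgroup.eq_of_le_of_card_ge ?_ (LargeSub.card_conj _ _).ge
    intro x hx
    have hxS : (x : G) ∈ (S : Subgroup G) := hg hx
    have hxC : (x : G) ∈ Subgroup.centralizer (Y : Set G) := by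
      obtain ⟨z, hz, rfl⟩ := hx
      have h1 : ((g : G) * (z : G) * (g : G)⁻¹) ∈
          (Subgroup.centralizer (Y : Set G)).map (MulAut.conj (g : G)).toMonoidHom :=
        ⟨z, LargeSub.pCoreOf_le_centralizer_largestPReducedOf M hz, rfl⟩
      rw [LargeSub.conj_centralizer,
        LargeSub.conj_eq_of_mem_normalizer (h.dagger_le_normalizer_Y g.2)] at h1
      simpa using h1
    show (x : G) ∈ O
    rw [hO, ← h.S_inf_centralizer_eq]
    exact ⟨hxS, hxC⟩

end Cfsg.Agent.S2848
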