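import Cfsg.Statements.S2849
import Cfsg.Agent.LargeSub.FrakM

set_option autoImplicit false
open Cfsg

namespace Cfsg.Agent.S2849

/-- Standing hypotheses: G a finite group, S a Sylow p-subgroup, Q a nontrivial large p-subgroup of G contained in S (C_G(Q) ≤ Q and N_G(U) ≤ N_G(Q) for all nontrivial U ≤ C_G(Q)), and M a subgroup containing S with the basic property (M ∈ 𝔐_G(S)); Y_M denotes the largest p-reduced normal subgroup of M and M† = M·C_G(Y_M). Suppose Y_M is asymmetric in G. Then for every subgroup R with Y_M ≤ R ≤ M†, the normal closure of Y_M in N_G(R) is elementary abelian. -/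
theorem result {G : Type*} [Group G] [Finite G] {p : ℕ} [Fact p.Prime] (S : Sylow p G) (Q : Subgroup G) (hQp : IsPGroup p ↥Q) (hQ1 : Q ≠ ⊥) (hQS : Q ≤ (S : Subgroup G)) (hQ : Cfsg.IsLarge Q) (M : Subgroup G) (hSM : (S : Subgroup G) ≤ M) (hM : Cfsg.IsInFrakM p M) (hasym : ¬ Cfsg.IsSymmetricIn (Cfsg.largestPReducedOf p M)) (R : Subgroup G) (hYR : (Cfsg.largestPReducedOf p M) ≤ R) (hRM : R ≤ (M ⊔ Subgroup.centralizer (((Cfsg.largestPReducedOf p M) : Subgroup G) : Set G))) : Cfsg.IsElementaryAbelian p ((Subgroup.normalClosure ((((Cfsg.largestPReducedOf p M)).subgroupOf (Subgroup.normalizer ((R : Subgroup G) : Set G)) : Subgroup ↥(Subgroup.normalizer ((R : Subgroup G) : Set G))) : Set ↥(Subgroup.normalizer ((R : Subgroup G) : Set G)))).map (Subgroup.normalizer ((R : Subgroup G) : Set G)).subtype) := by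
  have h : LargeSub.Std p S Q M := ⟨hQp, hQS, hQ, hSM, hM⟩
  set Y := Cfsg.largestPReducedOf p M with hY
  set N := Subgroup.normalizer ((R : Subgroup G) : Set G) with hN
  obtain ⟨hYc, hYp⟩ := LargeSub.isElementaryAbelian_largestPReducedOf (p := p) M
  have hRY : R ≤ Subgroup.normalizer (Y : Set G) := hRM.trans h.dagger_le_normalizer_Y
  have hcomm : ∀ a b : ↥N, ∀ u ∈ Y, ∀ v ∈ Y,
      ((a : G) * u * (a : G)⁻¹) * ((b : G) * v * (b : G)⁻¹) =
        ((b : G) * v * (b : G)⁻¹) * ((a : G) * u * (a : G)⁻¹) := by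
    intro a b u hu v hv
    set g := (a : G)⁻¹ * (b : G) with hg
    have hgN : g ∈ N := mul_mem (inv_mem a.2) b.2
    have h1 : Y.map (MulAut.conj g).toMonoidHom ≤ Subgroup.normalizer (Y : Set G) :=
      ((Subgroup.map_mono hYR).trans (LargeSub.conj_eq_of_mem_normalizer hgN).le).trans hRY
    have h2 : Y ≤ Subgroup.normalizer (Y.map (MulAut.conj g).toMonoidHom : Set G) := by
      rw [← LargeSub.conj_normalizer, LargeSub.le_conj_iff]
      exact ((Subgroup.map_mono hYR).trans
        (LargeSub.conj_eq_of_mem_normalizer (inv_mem hgN)).le).trans hRY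
    have hc : ⁅Y, Y.map (MulAut.conj g).toMonoidHom⁆ = ⊥ := by
      by_contra hne
      exact hasym ⟨g, hne, le_inf (LargeSub.commutator_le_left_of_le_normalizer h1)
        (LargeSub.commutator_le_of_le_normalizer h2)⟩
    have hwm : g * v * g⁻¹ ∈ Subgroup.centralizer (Y : Set G) := by
      rw [Subgroup.commutator_comm, Subgroup.commutator_eq_bot_iff_le_centralizer] at hc
      exact hc ⟨v, hv, rfl⟩
    have hw := Subgroup.mem_centralizer_iff.1 hwm u hu
    calc ((a : G) * u * (a : G)⁻¹) * ((b : G) * v * (b : G)⁻¹)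
        = (a : G) * (u * (g * v * g⁻¹)) * (a : G)⁻¹ := by rw [hg]; group
      _ = (a : G) * ((g * v * g⁻¹) * u) * (a : G)⁻¹ := by rw [hw]
      _ = ((b : G) * v * (b : G)⁻¹) * ((a : G) * u * (a : G)⁻¹) := by rw [hg]; group
  rw [Subgroup.normalClosure, MonoidHom.map_closure]
  set T : Set G := N.subtype '' Group.conjugatesOfSet (Y.subgroupOf N : Set ↥N) with hT
  have hTmem : ∀ x ∈ T, ∃ a : ↥N, ∃ u ∈ Y, x = (a : G) * u * (a : G)⁻¹ := by
    rintro _ ⟨w, hw, rfl⟩
    obtain ⟨z, hz, hzw⟩ := Group.mem_conjugatesOfSet_iff.1 hw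
    obtain ⟨a, rfl⟩ := isConj_iff.1 hzw
    exact ⟨a, z, hz, rfl⟩
  have hc : ∀ x ∈ T, ∀ y ∈ T, x * y = y * x := by
    intro x hx y hy
    obtain ⟨a, u, hu, rfl⟩ := hTmem x hx
    obtain ⟨b, v, hv, rfl⟩ := hTmem y hy
    exact hcomm a b u hu v hv
  haveI hW : IsMulCommutative (Subgroup.closure T) := Subgroup.isMulCommutative_closure hc
  refine ⟨hW, fun w hw => ?_⟩
  induction hw using Subgroup.closure_induction with
  | mem x hx =>
    obtain ⟨a, u, hu, rfl⟩ := hTmem x hx
    rw [conj_pow, hYp u hu]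
    group
  | one => simp
  | mul x y hx hy ihx ihy =>
    have hxy : Commute x y := setLike_mul_comm hx hy
    rw [hxy.mul_pow, ihx, ihy, one_mul]
  | inv x hx ih => rw [inv_pow, ih, inv_one]

end Cfsg.Agent.S2849
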