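import Cfsg.Statements.S2850
import Cfsg.Agent.LargeSub.FrakM

set_option autoImplicit false
open Cfsg

namespace Cfsg.Agent.S2850

/-- Standing hypotheses: G a finite group, S a Sylow p-subgroup, Q a nontrivial large p-subgroup of G contained in S (C_G(Q) ≤ Q and N_G(U) ≤ N_G(Q) for all nontrivial U ≤ C_G(Q)), and M a subgroup containing S with the basic property (M ∈ 𝔐_G(S)); Y_M denotes the largest p-reduced normal subgroup of M and M† = M·C_G(Y_M). Suppose Y_M is asymmetric in G. Then N_G(L) ≤ N_G(O_p(M)) ≤ M† for every p-subgroup L containing O_p(M); O_p(M) is a weakly closed subgroup of G; for every subgroup L containing O_p(M), L ∩ M† contains a Sylow p-subgroup of L; and two elements of Y_M conjugate in G are conjugate in M. -/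
theorem result {G : Type*} [Group G] [Finite G] {p : ℕ} [Fact p.Prime] (S : Sylow p G) (Q : Subgroup G) (hQp : IsPGroup p ↥Q) (hQ1 : Q ≠ ⊥) (hQS : Q ≤ (S : Subgroup G)) (hQ : Cfsg.IsLarge Q) (M : Subgroup G) (hSM : (S : Subgroup G) ≤ M) (hM : Cfsg.IsInFrakM p M) (hasym : ¬ Cfsg.IsSymmetricIn (Cfsg.largestPReducedOf p M)) : (∀ L : Subgroup G, IsPGroup p ↥L → (Cfsg.pCoreOf p M) ≤ L → Subgroup.normalizer ((L : Subgroup G) : Set G) ≤ Subgroup.normalizer (((Cfsg.pCoreOf p M) : Subgroup G) : Set G) ∧ Subgroup.normalizer (((Cfsg.pCoreOf p M) : Subgroup G) : Set G) ≤ (M ⊔ Subgroup.centralizer (((Cfsg.largestPReducedOf p M) : Subgroup G) : Set G))) ∧ Cfsg.IsWeaklyClosedSubgroup p (Cfsg.pCoreOf p M) ∧ (∀ L : Subgroup G, (Cfsg.pCoreOf p M) ≤ L → Cfsg.IsParabolic p ((L ⊓ (M ⊔ Subgroup.centralizer (((Cfsg.largestPReducedOf p M) : Subgroup G) : Set G))).subgroupOf L)) ∧ (∀ x ∈ (Cfsg.largestPReducedOf p M), ∀ g : G, g * x * g⁻¹ ∈ (Cfsg.largestPReducedOf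 p M) → ∃ m ∈ M, m * x * m⁻¹ = g * x * g⁻¹) := by
  have h : LargeSub.Std p S Q M := ⟨hQp, hQS, hQ, hSM, hM⟩
  refine ⟨fun L hL hOL => ⟨h.asym_normalizer_le hasym hOL hL, h.normalizer_O_le⟩,
    ⟨S, h.asym_weaklyClosed hasym⟩, fun L hOL => ?_, ?_⟩
  · obtain ⟨T, -, hT⟩ := h.asym_exists_sylow_le hasym hOL
    exact ⟨T, fun x hx => ⟨x.2, h.normalizer_O_le (hT ⟨x, hx, rfl⟩)⟩⟩
  · intro x hx g hgx
    set K := Subgroup.centralizer ({g * x * g⁻¹} : Set G) with hK
    have hOK : Cfsg.pCoreOf p M ≤ K := fun o ho => by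
      rw [hK, Subgroup.mem_centralizer_singleton_iff]
      exact (Subgroup.mem_centralizer_iff.1
        (LargeSub.pCoreOf_le_centralizer_largestPReducedOf M ho) _ hgx).symm
    have hgK : (Cfsg.pCoreOf p M).map (MulAut.conj g).toMonoidHom ≤ K := by
      rintro _ ⟨o, ho, rfl⟩
      have ho' := Subgroup.mem_centralizer_iff.1
        (LargeSub.pCoreOf_le_centralizer_largestPReducedOf M ho) _ hx
      rw [hK, Subgroup.mem_centralizer_singleton_iff]
      show g * o * g⁻¹ * (g * x * g⁻¹) = g * x * g⁻¹ * (g * o * g⁻¹)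
      calc g * o * g⁻¹ * (g * x * g⁻¹) = g * (o * x) * g⁻¹ := by group
        _ = g * (x * o) * g⁻¹ := by rw [ho']
        _ = g * x * g⁻¹ * (g * o * g⁻¹) := by group
    obtain ⟨T, hT⟩ := LargeSub.exists_sylow_subgroup_le hOK (LargeSub.isPGroup_pCoreOf (p := p) M)
    obtain ⟨T', hT'⟩ := LargeSub.exists_sylow_subgroup_le hgK
      (LargeSub.isPGroup_conj (LargeSub.isPGroup_pCoreOf (p := p) M) g)
    obtain ⟨k, hk⟩ := MulAction.exists_smul_eq ↥K T' T
    have hkT : ((Cfsg.pCoreOf p M).map (MulAut.conj ((k : G) * g)).toMonoidHom) ≤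
        (T : Subgroup ↥K).map K.subtype := by
      rw [LargeSub.conj_mul]
      refine (Subgroup.map_mono hT').trans ?_
      rw [← hk, Sylow.coe_subgroup_smul, Subgroup.map_map]
      rintro _ ⟨z, hz, rfl⟩
      exact ⟨k * z * k⁻¹, ⟨z, hz, rfl⟩, rfl⟩
    have hkO := h.asym_conj_eq hasym (T.isPGroup'.map _) hT hkT
    obtain ⟨m, hm, c, hc, hmc⟩ := h.exists_mul_of_mem_dagger
      (h.normalizer_O_le (LargeSub.mem_normalizer_of_conj_eq hkO))
    refine ⟨m, hm, ?_⟩
    have hcx : x * c = c * x := Subgroup.mem_centralizer_iff.1 hc x hx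
    have hkg : (k : G) * (g * x * g⁻¹) = (g * x * g⁻¹) * (k : G) :=
      Subgroup.mem_centralizer_singleton_iff.1 k.2
    calc m * x * m⁻¹ = m * ((x * c) * c⁻¹) * m⁻¹ := by group
      _ = m * ((c * x) * c⁻¹) * m⁻¹ := by rw [hcx]
      _ = (m * c) * x * (m * c)⁻¹ := by group
      _ = ((k : G) * g) * x * ((k : G) * g)⁻¹ := by rw [hmc]
      _ = ((k : G) * (g * x * g⁻¹)) * (k : G)⁻¹ := by group
      _ = g * x * g⁻¹ := by rw [hkg]; group

end Cfsg.Agent.S2850
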