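import Cfsg.Statements.S2853
import Cfsg.Agent.LargeSub.FrakH

set_option autoImplicit false
open Cfsg

namespace Cfsg.Agent.S2853

/-- Standing hypotheses: G a finite group, S a Sylow p-subgroup, Q a nontrivial large p-subgroup of G contained in S, M a subgroup containing S with the basic property (M ∈ 𝔐_G(S)); Y_M the largest p-reduced normal subgroup of M and M† = M·C_G(Y_M). Suppose Y_M is char-p-tall and asymmetric in G and H ∈ ℌ_G(O_p(M)). Then every Sylow p-subgroup of H ∩ M† is a Sylow p-subgroup of H; O_p(H) normalizes O_p(M) and Y_M; O^p(H) = [O^p(H), Y_M] and H = O^p(H)·O_p(M); O^p(H)·Y_M is the normal closure of Y_M in H; and H is the normal closure of O_p(M) in H. Here O^p(H) is the subgroup generated by the elements of H of order prime to p. -/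
theorem result {G : Type*} [Group G] [Finite G] {p : ℕ} [Fact p.Prime] (S : Sylow p G) (Q : Subgroup G) (hQp : IsPGroup p ↥Q) (hQ1 : Q ≠ ⊥) (hQS : Q ≤ (S : Subgroup G)) (hQ : Cfsg.IsLarge Q) (M : Subgroup G) (hSM : (S : Subgroup G) ≤ M) (hM : Cfsg.IsInFrakM p M) (htall : Cfsg.IsCharPTall p (Cfsg.largestPReducedOf p M)) (hasym : ¬ Cfsg.IsSymmetricIn (Cfsg.largestPReducedOf p M)) (H : Subgroup G) (hH : Cfsg.IsInFrakH p M H) (R : Subgroup G) (hR : R = (Cfsg.pResidual p ↥H).map H.subtype) : (∀ T : Sylow p ↥(H ⊓ (M ⊔ Subgroup.centralizer (((Cfsg.largestPReducedOf p M) : Subgroup G) : Set G))), ∃ P : Sylow p ↥H, ((P : Subgroup ↥H).map H.subtype) = (T : Subgroup ↥(H ⊓ (M ⊔ Subgroup.centralizer (((Cfsg.largestPReducedOf p M) : Subgroup G) : Set G)))).map (H ⊓ (M ⊔ Subgroup.centralizer (((Cfsg.largestPReducedOf p M) : Subgroup G) : Set G))).subtype) ∧ Cfsg.pCoreOf p H ≤ Subgroup.normalizer (((Cfsg.pCoreOf p M) : Subgroup G) : Set G) ⊓ Subgroup.normalizer (((Cfsg.largestPReducedOf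 p M) : Subgroup G) : Set G) ∧ ⁅R, (Cfsg.largestPReducedOf p M)⁆ = R ∧ R ⊔ (Cfsg.pCoreOf p M) = H ∧ R ⊔ (Cfsg.largestPReducedOf p M) = (Subgroup.normalClosure ((((Cfsg.largestPReducedOf p M)).subgroupOf H : Subgroup ↥H) : Set ↥H)).map H.subtype ∧ (Subgroup.normalClosure ((((Cfsg.pCoreOf p M)).subgroupOf H : Subgroup ↥H) : Set ↥H)).map H.subtype = H := by
  have h : LargeSub.Std p S Q M := ⟨hQp, hQS, hQ, hSM, hM⟩
  subst hR
  set Y := Cfsg.largestPReducedOf p M with hY
  set O := Cfsg.pCoreOf p M with hO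
  set D := M ⊔ Subgroup.centralizer (Y : Set G) with hD
  have hOH : O ≤ H := hH.2.1
  have hYH : Y ≤ H := (LargeSub.largestPReducedOf_le_pCoreOf M).trans hOH
  obtain ⟨hcomm, hW⟩ := LargeSub.Std.frakH_commutator_eq hH
  refine ⟨fun T => ?_, le_inf (h.frakH_pCoreOf_le hasym hH) ?_, hcomm,
    LargeSub.Std.frakH_residual_sup hH, ?_, ?_⟩
  · obtain ⟨T₀, -, hT₀⟩ := h.asym_exists_sylow_le hasym hOH
    have hT₀D : (T₀ : Subgroup ↥H).map H.subtype ≤ H ⊓ D :=
      le_inf (Subgroup.map_subtype_le _) (hT₀.trans h.normalizer_O_le)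
    obtain ⟨T', hT'⟩ := LargeSub.exists_sylow_subgroup_le hT₀D (T₀.isPGroup'.map _)
    set T1 := (T : Subgroup ↥(H ⊓ D)).map (H ⊓ D).subtype with hT1
    obtain ⟨P, hP⟩ := LargeSub.exists_sylow_subgroup_le
      (X := H) (R := T1) ((Subgroup.map_subtype_le _).trans inf_le_left) (T.isPGroup'.map _)
    refine ⟨P, (Subgroup.eq_of_le_of_card_ge hP ?_).symm⟩
    have e1 : Nat.card ↥((P : Subgroup ↥H).map H.subtype) =
        Nat.card ↥((T₀ : Subgroup ↥H).map H.subtype) := by
      rw [Subgroup.card_map_of_injective H.subtype_injective,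
        Subgroup.card_map_of_injective H.subtype_injective]
      exact Nat.card_congr (Sylow.equiv P T₀).toEquiv
    have e2 : Nat.card ↥T1 = Nat.card ↥((T' : Subgroup ↥(H ⊓ D)).map (H ⊓ D).subtype) := by
      rw [hT1, Subgroup.card_map_of_injective (H ⊓ D).subtype_injective,
        Subgroup.card_map_of_injective (H ⊓ D).subtype_injective]
      exact Nat.card_congr (Sylow.equiv T T').toEquiv
    rw [e1, e2]
    exact Subgroup.card_le_of_le hT'
  · rw [hY, h.normalizer_Y_eq]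
    exact (h.frakH_pCoreOf_le hasym hH).trans h.normalizer_O_le
  · rw [LargeSub.normalClosure_map_eq_iSup hYH, hW]
  · rw [LargeSub.normalClosure_map_eq_iSup hOH, LargeSub.Std.frakH_eq_iSup_conj hH]

end Cfsg.Agent.S2853
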