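import Cfsg.Statements.S2854
import Cfsg.Agent.LargeSub.FrakH

set_option autoImplicit false
open Cfsg

namespace Cfsg.Agent.S2854

open Subgroup LargeSub in
theorem key {G : Type*} [Group G] [Finite G] {p : ℕ} [Fact p.Prime] (S : Sylow p G)
    (Q : Subgroup G) (hQp : IsPGroup p ↥Q) (hQS : Q ≤ (S : Subgroup G)) (hQ : IsLarge Q)
    (M : Subgroup G) (hSM : (S : Subgroup G) ≤ M) (hM : IsInFrakM p M)
    (hasym : ¬ IsSymmetricIn (largestPReducedOf p M)) (H : Subgroup G) (hH : IsInFrakH p M H)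
    (Qg : Subgroup G) (hQgp : IsPGroup p ↥Qg) (hHQ : H ≤ normalizer (Qg : Set G)) :
    Qg ≤ pCoreOf p (H ⊔ Qg) ∧
      pCoreOf p (H ⊔ Qg) ≤ normalizer (pCoreOf p M : Set G) ∧
      normalizer (pCoreOf p M : Set G) ≤ normalizer (largestPReducedOf p M : Set G) ∧
      normalizer (largestPReducedOf p M : Set G) =
        M ⊔ centralizer (largestPReducedOf p M : Set G) ∧
      (H.subgroupOf (H ⊔ Qg)).Normal ∧
      (pResidual p ↥H).map H.subtype = (pResidual p ↥(H ⊔ Qg)).map (H ⊔ Qg).subtype ∧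
      IsPIrreducible p ↥(H ⊔ Qg) := by
  have h : Std p S Q M := ⟨hQp, hQS, hQ, hSM, hM⟩
  set O := pCoreOf p M with hO
  set Y := largestPReducedOf p M with hYdef
  set H' := H ⊔ Qg with hH'
  set R' := pCoreOf p H' with hR'
  have hOH : O ≤ H := hH.2.1
  have hYH : Y ≤ H := (largestPReducedOf_le_pCoreOf M).trans hOH
  have hHH' : H ≤ H' := le_sup_left
  have hQR : Qg ≤ R' := le_pCoreOf le_sup_right (sup_le hHQ le_normalizer) hQgp
  have hRN : R' ≤ normalizer (O : Set G) :=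
    le_sup_right.trans (h.asym_le_normalizer_O hasym (L := O ⊔ R') le_sup_left
      (isPGroup_sup (isPGroup_pCoreOf M) (isPGroup_pCoreOf H')
        ((hOH.trans hHH').trans (le_normalizer_pCoreOf p H'))))
  have hHR : H' = H ⊔ R' := le_antisymm (sup_le le_sup_left (hQR.trans le_sup_right))
    (sup_le hHH' (pCoreOf_le H'))
  have hRH : R' ≤ normalizer (H : Set G) := fun r hr => by
    apply mem_normalizer_of_conj_le
    conv_lhs => rw [← Std.frakH_eq_iSup_conj hH]
    rw [Subgroup.map_iSup]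
    refine iSup_le fun x => ?_
    have e : r * (x : G) = (x : G) * ((x : G)⁻¹ * r * x) := by group
    have hr' : (x : G)⁻¹ * r * x ∈ R' :=
      (mem_normalizer_iff''.1 (le_normalizer_pCoreOf p H' (hHH' x.2)) r).1 hr
    rw [← LargeSub.conj_mul, e, LargeSub.conj_mul, conj_eq_of_mem_normalizer (hRN hr')]
    exact (Subgroup.map_mono hOH).trans (conj_eq_of_mem x.2).le
  have hH'H : H' ≤ normalizer (H : Set G) := by rw [hHR]; exact sup_le le_normalizer hRH
  have hpow : ∀ x ∈ H', ∃ k, x ^ p ^ k ∈ H := fun x hx => by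
    rw [hHR, sup_comm] at hx
    exact pow_mem_of_mem_sup (isPGroup_pCoreOf H') hRH hx
  refine ⟨hQR, hRN, h.normalizer_O_le.trans h.normalizer_Y_eq.ge, h.normalizer_Y_eq,
    Subgroup.normal_subgroupOf_of_le_normalizer hH'H, le_antisymm ?_ ?_, ?_, ?_⟩
  · rw [pResidual_map_le_iff]
    exact fun x hx hc => mem_pResidual_map (hHH' hx) hc
  · rw [pResidual_map_le_iff]
    intro x hx hc
    obtain ⟨k, hk⟩ := hpow x hx
    exact mem_pResidual_map (mem_of_pow_mem_of_coprime hk hc) hc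
  · intro hcl
    obtain ⟨T, hT⟩ := exists_sylow_subgroup_le (hYH.trans hHH') (isPGroup_largestPReducedOf M)
    haveI := hcl T
    have h1 : (T : Subgroup ↥H').map H'.subtype ≤ R' :=
      Subgroup.map_mono (Thompson.le_pCore ‹_› T.isPGroup')
    exact hH.2.2.1 ((le_inf (hT.trans h1) hYH).trans (pCoreOf_inf_le hHH'))
  intro N hN hNc
  haveI := hN
  set N' := N.map H'.subtype with hN'
  have hN'H' : N' ≤ H' := map_subtype_le _
  have hH'N : H' ≤ normalizer (N' : Set G) := le_normalizer_map_subtype N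
  set N₂ := (R' ⊔ N') ⊓ H with hN₂
  have hHN₂ : H ≤ normalizer (N₂ : Set G) :=
    le_normalizer_inf (le_normalizer_sup (hHH'.trans (le_normalizer_pCoreOf p H'))
      (hHH'.trans hH'N)) le_normalizer
  have hRN' : R' ≤ normalizer (N' : Set G) := (pCoreOf_le H').trans hH'N
  by_cases hP : N₂ ⊔ O = H
  · -- `O^p(H') ≤ N`
    rw [pResidual, Subgroup.closure_le]
    intro x hx
    have hxc : (orderOf (x : G)).Coprime p := by rwa [Subgroup.orderOf_coe]
    obtain ⟨k, hk⟩ := hpow x x.2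
    have hxH : (x : G) ∈ H := mem_of_pow_mem_of_coprime hk hxc
    rw [← hP, sup_comm] at hxH
    obtain ⟨j, hj⟩ := pow_mem_of_mem_sup (isPGroup_pCoreOf M) (hOH.trans hHN₂) hxH
    obtain ⟨i, hi⟩ := pow_mem_of_mem_sup (isPGroup_pCoreOf H') hRN'
      ((mem_of_pow_mem_of_coprime hj hxc : (x : G) ∈ N₂).1)
    obtain ⟨n, hn, he⟩ := mem_of_pow_mem_of_coprime hi hxc
    rwa [SetLike.mem_coe, ← (Subtype.ext he : n = x)]
  exfalso
  apply hNc
  have hlt : N₂ ⊔ O < H := lt_of_le_of_ne (sup_le inf_le_right hOH) hP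
  have hYP := hH.2.2.2 _ le_sup_right hlt
  set A := pCoreOf p H with hA
  have hcomm : ∀ n ∈ N₂, ∀ y ∈ Y, n * y * n⁻¹ * y⁻¹ ∈ A := by
    intro n hn y hy
    refine pCoreOf_mono_of_normal (inf_le_right : N₂ ≤ H) hHN₂
      (pCoreOf_inf_le (le_sup_left : N₂ ≤ N₂ ⊔ O) ⟨?_, ?_⟩)
    · exact (pCoreOf p _).mul_mem ((mem_normalizer_iff.1 (le_normalizer_pCoreOf p _ (le_sup_left
        (b := O) hn)) y).1 (hYP hy)) ((pCoreOf p _).inv_mem (hYP hy))
    · have h1 := mul_mem hn ((mem_normalizer_iff.1 (hHN₂ (hYH hy)) n⁻¹).1 (inv_mem hn))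
      simpa [mul_assoc] using h1
  set R := (pResidual p ↥H).map H.subtype with hR
  set π := QuotientGroup.mk' (pCore p ↥H) with hπ
  haveI : (R.subgroupOf H).Normal :=
    Subgroup.normal_subgroupOf_of_le_normalizer (le_normalizer_pResidual_map H)
  haveI : ((R.subgroupOf H).map π).Normal :=
    ‹(R.subgroupOf H).Normal›.map π (QuotientGroup.mk'_surjective _)
  haveI : (N₂.subgroupOf H).Normal := Subgroup.normal_subgroupOf_of_le_normalizer hHN₂
  -- the centralizer of `N₂` modulo `O_p(H)`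
  set E := (centralizer (((N₂.subgroupOf H).map π : Subgroup _) : Set (↥H ⧸ pCore p ↥H))).comap π
    with hE
  haveI : ((N₂.subgroupOf H).map π).Normal :=
    ‹(N₂.subgroupOf H).Normal›.map π (QuotientGroup.mk'_surjective _)
  haveI hEn : E.Normal := inferInstance
  have hYE : Y.subgroupOf H ≤ E := by
    intro y hy
    rw [hE, mem_comap, mem_centralizer_iff]
    rintro _ ⟨n, hn, rfl⟩
    rw [← map_mul, ← map_mul, hπ, QuotientGroup.mk'_apply, QuotientGroup.mk'_apply,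
      QuotientGroup.eq]
    have e4 : ((n * y)⁻¹ * (y * n) : ↥H) = y⁻¹ * (n⁻¹ * y * n * y⁻¹) * y := by group
    rw [e4]
    have h5 : n⁻¹ * y * n * y⁻¹ ∈ pCore p ↥H := by
      obtain ⟨r', hr', he'⟩ := hcomm (n : G)⁻¹ (inv_mem hn) (y : G) hy
      have e5 : n⁻¹ * y * n * y⁻¹ = r' := Subtype.ext (by
        simp only [coe_subtype] at he'
        simp [he', mul_assoc])
      rw [e5]; exact hr'
    have h6 := (inferInstance : (pCore p ↥H).Normal).conj_mem _ h5 y⁻¹
    rwa [inv_inv] at h6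
  have hRE : R.subgroupOf H ≤ E := by
    have h1 : (normalClosure ((Y.subgroupOf H : Subgroup ↥H) : Set ↥H)).map H.subtype ≤
        E.map H.subtype := Subgroup.map_mono (normalClosure_le_normal hYE)
    rw [normalClosure_map_eq_iSup hYH, (Std.frakH_commutator_eq hH).2] at h1
    intro x hx
    obtain ⟨e, he, hex⟩ := h1 (mem_sup_left hx)
    rwa [← (Subtype.ext hex : e = x)]
  have hsmall : ∀ n ∈ N₂, (∃ k, n ^ p ^ k = 1) → n ∈ A := by
    intro n hn hnp
    have hnH : n ∈ H := hn.2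
    have hone : π ⟨n, hnH⟩ = 1 := by
      refine eq_one_of_central_ext (Z := centralizer ((R.subgroupOf H).map π : Set
        (↥H ⧸ pCore p ↥H))) Thompson.pCore_quotient_pCore ((R.subgroupOf H).map π) ?_ ?_ ?_ ?_
      · rintro q ⟨-, hq2⟩
        rw [mem_centralizer_iff]
        intro z hz
        exact (mem_centralizer_iff.1 hz q hq2).symm
      · intro q _
        obtain ⟨z, rfl⟩ := QuotientGroup.mk'_surjective _ q
        obtain ⟨k, hk⟩ := exists_pow_mem_pResidual_map (p := p) z.2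
        exact ⟨k, z ^ p ^ k, hk, map_pow π z _⟩
      · rw [mem_centralizer_iff]
        rintro _ ⟨r, hr, rfl⟩
        exact (mem_centralizer_iff.1 (hRE hr) _ ⟨⟨n, hnH⟩, hn, rfl⟩).symm
      · obtain ⟨k, hk⟩ := hnp
        exact ⟨k, by rw [← map_pow, show (⟨n, hnH⟩ : ↥H) ^ p ^ k = 1 from Subtype.ext hk, map_one]⟩
    exact ⟨⟨n, hnH⟩, (QuotientGroup.eq_one_iff (⟨n, hnH⟩ : ↥H)).1 hone, rfl⟩
  have hpel : ∀ x ∈ N', (∃ k, x ^ p ^ k = 1) → x ∈ R' := by
    intro x hx hxp
    have hx' : x ∈ R' ⊔ H := by rw [sup_comm, ← hHR]; exact hN'H' hx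
    obtain ⟨r, hr, n, hn, rfl⟩ := exists_mul_of_mem_sup hRH hx'
    have hn₂ : n ∈ N₂ := ⟨(mul_mem_cancel_left (mem_sup_left hr)).1 (mem_sup_right hx), hn⟩
    have hmem : n ∈ zpowers (r * n) ⊔ R' := by
      have h1 := mul_mem (mem_sup_right (inv_mem hr))
        (mem_sup_left (mem_zpowers (r * n)) : r * n ∈ zpowers (r * n) ⊔ R')
      rwa [inv_mul_cancel_left] at h1
    have hnp := exists_pow_prime_pow_eq_one (isPGroup_sup (isPGroup_zpowers hxp)
      (isPGroup_pCoreOf H') (zpowers_le.2 (le_normalizer_pCoreOf p H' (hN'H' hx)))) hmem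
    exact mul_mem hr (pCoreOf_mono_of_normal hHH' hH'H (hsmall n hn₂ hnp))
  intro T
  have heq : (T : Subgroup ↥N) = ((R'.subgroupOf H').subgroupOf N) := by
    refine le_antisymm ?_ ?_
    · intro t ht
      obtain ⟨k, hk⟩ := exists_pow_prime_pow_eq_one T.isPGroup' ht
      exact hpel _ ⟨_, t.2, rfl⟩ ⟨k, by
        simpa using congrArg (fun z : ↥N => ((z : ↥H') : G)) hk⟩
    · haveI : (R'.subgroupOf H').Normal :=
        Subgroup.normal_subgroupOf_of_le_normalizer (le_normalizer_pCoreOf p H')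
      haveI : (comap N.subtype (comap H'.subtype (pCoreOf p H'))).Normal :=
        Subgroup.Normal.comap ‹(R'.subgroupOf H').Normal› N.subtype
      exact ((isPGroup_pCoreOf H').comap_subtype.comap_subtype).le_sylow_of_normal T
  rw [heq]
  exact Subgroup.Normal.comap
    (Subgroup.normal_subgroupOf_of_le_normalizer (le_normalizer_pCoreOf p H')) N.subtype


/-- Standing hypotheses: G a finite group, S a Sylow p-subgroup, Q a nontrivial large p-subgroup of G contained in S, M a subgroup containing S with the basic property (M ∈ 𝔐_G(S)); Y_M the largest p-reduced normal subgroup of M and M† = M·C_G(Y_M). Suppose Y_M is asymmetric in G, H ∈ ℌ_G(O_p(M)), and H ≤ N_G(gQg⁻¹) for some g ∈ G. Then gQg⁻¹ ≤ O_p(H·gQg⁻¹) ≤ N_G(O_p(M)) ≤ N_G(Y_M) = M†; H is normal in H·gQg⁻¹ with O^p(H) = O^p(H·gQg⁻¹); and H·gQg⁻¹ is p-irreducible. -/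
theorem result {G : Type*} [Group G] [Finite G] {p : ℕ} [Fact p.Prime] (S : Sylow p G) (Q : Subgroup G) (hQp : IsPGroup p ↥Q) (hQ1 : Q ≠ ⊥) (hQS : Q ≤ (S : Subgroup G)) (hQ : Cfsg.IsLarge Q) (M : Subgroup G) (hSM : (S : Subgroup G) ≤ M) (hM : Cfsg.IsInFrakM p M) (hasym : ¬ Cfsg.IsSymmetricIn (Cfsg.largestPReducedOf p M)) (H : Subgroup G) (hH : Cfsg.IsInFrakH p M H) (g : G) (hHQ : H ≤ Subgroup.normalizer ((((Q : Subgroup G).map (MulAut.conj (g : G)).toMonoidHom) : Subgroup G) : Set G)) : ((Q : Subgroup G).map (MulAut.conj (g : G)).toMonoidHom) ≤ Cfsg.pCoreOf p (H ⊔ ((Q : Subgroup G).map (MulAut.conj (g : G)).toMonoidHom)) ∧ Cfsg.pCoreOf p (H ⊔ ((Q : Subgroup G).map (MulAut.conj (g : G)).toMonoidHom)) ≤ Subgroup.normalizer (((Cfsg.pCoreOf p M) : Subgroup G) : Set G) ∧ Subgroup.normalizer (((Cfsg.pCoreOf p M) : Subgroup G) : Set G) ≤ Subgroup.normalizer (((Cfsg.largestPReducedOf p M) : Subgroup G) : Set G) ∧ Subgroup.normalizer (((Cfsg.largestPReducedOf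 p M) : Subgroup G) : Set G) = (M ⊔ Subgroup.centralizer (((Cfsg.largestPReducedOf p M) : Subgroup G) : Set G)) ∧ (H.subgroupOf (H ⊔ ((Q : Subgroup G).map (MulAut.conj (g : G)).toMonoidHom))).Normal ∧ (Cfsg.pResidual p ↥H).map H.subtype = (Cfsg.pResidual p ↥(H ⊔ ((Q : Subgroup G).map (MulAut.conj (g : G)).toMonoidHom))).map (H ⊔ ((Q : Subgroup G).map (MulAut.conj (g : G)).toMonoidHom)).subtype ∧ Cfsg.IsPIrreducible p ↥(H ⊔ ((Q : Subgroup G).map (MulAut.conj (g : G)).toMonoidHom)) := by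
  exact key S Q hQp hQS hQ M hSM hM hasym H hH _ (hQp.map _) hHQ

end Cfsg.Agent.S2854
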