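import Cfsg.Statements.S2855
import Cfsg.Agent.LargeSub.CharP

set_option autoImplicit false
open Cfsg

namespace Cfsg.Agent.S2855

open Subgroup LargeSub
open scoped commutatorElement

set_option linter.unusedSectionVars false
set_option linter.style.haveILetI false

variable {H : Type*} [Group H] [Finite H] {p : ℕ} [Fact p.Prime]

theorem mem_of_pParts {N : Subgroup H} {x : H}
    (hc : ∀ y ∈ zpowers x, (orderOf y).Coprime p → y ∈ N)
    (hp : ∀ y ∈ zpowers x, (∃ k, y ^ p ^ k = 1) → y ∈ N) : x ∈ N := by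
  obtain ⟨k, hk⟩ := exists_coprime_pow (p := p) x
  have h1 := hc _ (pow_mem (mem_zpowers x) _) hk
  have h2 : x ^ orderOf (x ^ p ^ k) ∈ N := hp _ (pow_mem (mem_zpowers x) _)
    ⟨k, by rw [← pow_mul, mul_comm, pow_mul, pow_orderOf_eq_one]⟩
  have hcop : IsCoprime ((p ^ k : ℕ) : ℤ) ((orderOf (x ^ p ^ k) : ℕ) : ℤ) :=
    Int.isCoprime_iff_nat_coprime.2 (by simpa using (hk.pow_right k).symm)
  obtain ⟨a, b, hab⟩ := hcop
  rw [← zpow_natCast] at h1 h2
  have h4 := mul_mem (zpow_mem h1 a) (zpow_mem h2 b)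
  rwa [← zpow_mul, ← zpow_mul, ← zpow_add, mul_comm ((p ^ k : ℕ) : ℤ) a,
    mul_comm ((orderOf (x ^ p ^ k) : ℕ) : ℤ) b, hab, zpow_one] at h4

variable (𝒦 : Set (Subgroup H))

section

variable (hinv : ∀ h : H, ∀ E ∈ 𝒦, E.map (MulAut.conj h).toMonoidHom ∈ 𝒦)
  (htr : ∀ E ∈ 𝒦, ∀ K ∈ 𝒦, ∃ h : H, K = E.map (MulAut.conj h).toMonoidHom)
  (hres : pResidual p H ≤ sSup 𝒦)
  (hnorm : ∀ E ∈ 𝒦, sSup 𝒦 ⊔ pCore p H ≤ normalizer ((E ⊔ pCore p H : Subgroup H) : Set H))

include hinv in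
theorem R_normal : (sSup 𝒦 ⊔ pCore p H).Normal := by
  haveI : (sSup 𝒦).Normal := by
    rw [← normalizer_eq_top_iff, eq_top_iff]
    intro g _
    apply mem_normalizer_of_conj_le
    rw [map_le_iff_le_comap]
    refine sSup_le fun E hE => ?_
    rw [← map_le_iff_le_comap]
    exact le_sSup (hinv g E hE)
  infer_instance

theorem le_R {E : Subgroup H} (hE : E ∈ 𝒦) : E ⊔ pCore p H ≤ sSup 𝒦 ⊔ pCore p H :=
  sup_le_sup_right (le_sSup hE) _

include hres in
theorem pow_mem_R (x : H) : ∃ k, x ^ p ^ k ∈ sSup 𝒦 ⊔ pCore p H := by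
  obtain ⟨k, hk⟩ := exists_coprime_pow (p := p) x
  exact ⟨k, mem_sup_left (hres (Thompson.mem_pResidual_of_coprime hk))⟩

include hinv hres in
theorem exists_eq_mul (T : Sylow p H) (h : H) :
    ∃ r ∈ sSup 𝒦 ⊔ pCore p H, ∃ t ∈ T, h = r * t := by
  haveI hn := R_normal 𝒦 hinv (p := p)
  have htop := le_sylow_sup T ⊤ (sSup 𝒦 ⊔ pCore p H) (fun x _ => pow_mem_R 𝒦 hres x)
  obtain ⟨r, hr, t, ht, he⟩ := exists_mul_of_mem_sup
    (A := sSup 𝒦 ⊔ pCore p H) (B := normalizer (sSup 𝒦 ⊔ pCore p H : Subgroup H))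
    (le_normalizer.trans le_normalizer) (x := h)
    (by rw [normalizer_eq_top]; exact mem_sup_right trivial)
  obtain ⟨t', ht', r', hr', he'⟩ := Subgroup.mem_sup_of_normal_right.1 (htop (mem_top h))
  exact ⟨t' * r' * t'⁻¹, hn.conj_mem r' hr' t', t', ht', by rw [← he']; group⟩

include hinv hres hnorm in
theorem exists_conj_inf {E U : Subgroup H} (hE : E ∈ 𝒦) (T : Sylow p H) (hU : U ≤ E ⊔ pCore p H)
    (hUp : IsPGroup p U) : ∃ r ∈ sSup 𝒦 ⊔ pCore p H,
      U ≤ ((T : Subgroup H) ⊓ (E ⊔ pCore p H)).map (MulAut.conj r).toMonoidHom := by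
  obtain ⟨V, hV⟩ := hUp.exists_le_sylow
  obtain ⟨h, hh⟩ := MulAction.exists_smul_eq H T V
  obtain ⟨r, hr, t, ht, rfl⟩ := exists_eq_mul 𝒦 hinv hres T h
  refine ⟨r, hr, ?_⟩
  rw [conj_inf, conj_eq_of_mem_normalizer (hnorm E hE hr)]
  refine le_inf (hV.trans ?_) hU
  rw [← hh, Sylow.coe_subgroup_smul]
  show (T : Subgroup H).map (MulAut.conj (r * t)).toMonoidHom ≤ _
  rw [LargeSub.conj_mul, conj_eq_of_mem ht]

include hinv hres hnorm in
/-- `T ∩ EQ` is a Sylow subgroup of `EQ`. -/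
theorem max_inf {E U : Subgroup H} (hE : E ∈ 𝒦) (T : Sylow p H) (hU : U ≤ E ⊔ pCore p H)
    (hUp : IsPGroup p U) (hle : (T : Subgroup H) ⊓ (E ⊔ pCore p H) ≤ U) :
    U = (T : Subgroup H) ⊓ (E ⊔ pCore p H) := by
  obtain ⟨r, -, hr⟩ := exists_conj_inf 𝒦 hinv hres hnorm hE T hU hUp
  exact (eq_of_le_of_card_ge hle ((card_le_of_le hr).trans (card_conj _ r).le)).symm

include hinv hres hnorm in
/-- `T ∩ E` is a Sylow subgroup of `E`. -/
theorem exists_sylow_eq {E : Subgroup H} (hE : E ∈ 𝒦) (T : Sylow p H) :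
    ∃ U : Sylow p ↥E, (U : Subgroup ↥E) = (T : Subgroup H).subgroupOf E := by
  have hp : IsPGroup p ↥((T : Subgroup H).subgroupOf E) := T.isPGroup'.comap_subtype
  obtain ⟨U, hU⟩ := hp.exists_le_sylow
  refine ⟨U, le_antisymm (fun u hu => ?_) hU⟩
  set Q := pCore p H with hQ
  set U' := (U : Subgroup ↥E).map E.subtype with hU'
  have hUQ : IsPGroup p ↥(U' ⊔ Q) := (IsPGroup.map U.isPGroup' E.subtype).to_sup_of_normal_right
    Thompson.isPGroup_pCore
  have hle : U' ⊔ Q ≤ E ⊔ Q := sup_le_sup_right (map_subtype_le _) Q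
  have heq := max_inf 𝒦 hinv hres hnorm hE T hle hUQ (fun x hx => by
    obtain ⟨e, he, q, hq, rfl⟩ := Subgroup.mem_sup_of_normal_right.1 hx.2
    have heT : e ∈ (T : Subgroup H) :=
      ((T : Subgroup H).mul_mem_cancel_right (Thompson.pCore_le_sylow T hq)).1 hx.1
    exact Subgroup.mul_mem_sup (S := U') ⟨⟨e, he⟩, hU heT, rfl⟩ hq)
  have h1 : (u : H) ∈ U' ⊔ Q := mem_sup_left ⟨u, hu, rfl⟩
  rw [heq] at h1
  exact h1.1

end

/-- `Y` is the unique maximal subgroup of `X` over `A`. -/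
def IsMax (A X Y : Subgroup H) : Prop :=
  A ≤ Y ∧ Y ≤ X ∧ Y ≠ X ∧ ∀ Z : Subgroup H, A ≤ Z → Z ≤ X → Z ≠ X → Z ≤ Y

omit [Finite H] in
theorem IsMax.conj {A X Y : Subgroup H} (h : IsMax A X Y) (g : H) :
    IsMax (A.map (MulAut.conj g).toMonoidHom) (X.map (MulAut.conj g).toMonoidHom)
      (Y.map (MulAut.conj g).toMonoidHom) := by
  refine ⟨map_mono h.1, map_mono h.2.1,
    fun e => h.2.2.1 (map_injective (MulAut.conj g).injective e), fun Z h1 h2 h3 => ?_⟩
  rw [le_conj_iff]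
  refine h.2.2.2 _ (le_conj_iff.2 (by rwa [inv_inv])) (conj_le_iff.2 (by rwa [inv_inv])) fun e => h3 ?_
  rw [← e, conj_conj_inv]

omit [Finite H] in
theorem IsMax.unique {A X Y Y' : Subgroup H} (h : IsMax A X Y) (h' : IsMax A X Y') : Y = Y' :=
  le_antisymm (h'.2.2.2 Y h.1 h.2.1 h.2.2.1) (h.2.2.2 Y' h'.1 h'.2.1 h'.2.2.1)

section

variable (hne : 𝒦.Nonempty)
  (hinv : ∀ h : H, ∀ E ∈ 𝒦, E.map (MulAut.conj h).toMonoidHom ∈ 𝒦)
  (htr : ∀ E ∈ 𝒦, ∀ K ∈ 𝒦, ∃ h : H, K = E.map (MulAut.conj h).toMonoidHom)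
  (hres : pResidual p H ≤ sSup 𝒦)
  (hnorm : ∀ E ∈ 𝒦, sSup 𝒦 ⊔ pCore p H ≤ normalizer ((E ⊔ pCore p H : Subgroup H) : Set H))

include hne hinv htr hres hnorm in
theorem minimal (hmin : ∀ E ∈ 𝒦, ∀ T : Sylow p ↥E, IsMinimalOver (T : Subgroup ↥E))
    (T : Sylow p H) : IsMinimalOver (T : Subgroup H) := by
  classical
  haveI hRn := R_normal 𝒦 hinv (p := p)
  set Q := pCore p H with hQ
  set R₀ := sSup 𝒦 ⊔ Q with hR₀
  have hQT : Q ≤ (T : Subgroup H) := Thompson.pCore_le_sylow T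
  have hRT : ∀ h : H, h ∈ R₀ ⊔ (T : Subgroup H) := fun h => by
    obtain ⟨r, hr, t, ht, rfl⟩ := exists_eq_mul 𝒦 hinv hres T h
    exact mul_mem_sup hr ht
  -- the normal closure of `T`
  have hclE : ∀ E ∈ 𝒦, E ≤ normalClosure ((T : Subgroup H) : Set H) := by
    intro E hE
    obtain ⟨U, hU⟩ := exists_sylow_eq 𝒦 hinv hres hnorm hE T
    have h1 := (hmin E hE U).1
    have h2 : normalClosure ((U : Subgroup ↥E) : Set ↥E) ≤
        (normalClosure ((T : Subgroup H) : Set H)).subgroupOf E := by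
      refine normalClosure_le_normal fun u hu => subset_normalClosure ?_
      rw [SetLike.mem_coe, hU] at hu
      exact hu
    rw [h1] at h2
    exact fun e he => h2 (mem_top ⟨e, he⟩)
  refine ⟨?_, ?_⟩
  · rw [eq_top_iff]
    exact fun h _ => (sup_le (sup_le (sSup_le hclE) (hQT.trans subset_normalClosure))
      subset_normalClosure) (hRT h)
  -- the unique maximal subgroup of `EQ` over `T ∩ EQ`
  have hmaxE : ∀ E ∈ 𝒦, ∃ N, IsMax ((T : Subgroup H) ⊓ (E ⊔ Q)) (E ⊔ Q) N := by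
    intro E hE
    obtain ⟨U, hU⟩ := exists_sylow_eq 𝒦 hinv hres hnorm hE T
    obtain ⟨-, ME, ⟨hME, hUM⟩, huniq⟩ := hmin E hE U
    have hmod : ∀ Z : Subgroup H, Q ≤ Z → Z ≤ E ⊔ Q → Z ≤ (Z ⊓ E) ⊔ Q := by
      intro Z hQZ hZ z hz
      obtain ⟨e, he, q, hq, rfl⟩ := Subgroup.mem_sup_of_normal_right.1 (hZ hz)
      exact mul_mem_sup ⟨(Z.mul_mem_cancel_right (hQZ hq)).1 hz, he⟩ hq
    refine ⟨ME.map E.subtype ⊔ Q, ?_, sup_le_sup_right (map_subtype_le _) Q, ?_, ?_⟩
    · intro x hx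
      obtain ⟨e, he, q, hq, rfl⟩ := Subgroup.mem_sup_of_normal_right.1 hx.2
      refine mul_mem_sup ⟨⟨e, he⟩, hUM ?_, rfl⟩ hq
      rw [hU]
      exact ((T : Subgroup H).mul_mem_cancel_right (hQT hq)).1 hx.1
    · intro heq
      apply hME.1
      rw [eq_top_iff]
      intro e _
      have he : (e : H) ∈ ME.map E.subtype ⊔ Q := heq ▸ mem_sup_left e.2
      obtain ⟨m, hm, q, hq, hmq⟩ := Subgroup.mem_sup_of_normal_right.1 he
      obtain ⟨m', hm', rfl⟩ := hm
      have hq' : m'⁻¹ * e ∈ ME := hUM (by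
        rw [hU, mem_subgroupOf]
        simp only [coe_mul, coe_inv]
        rw [← hmq]
        simpa using hQT hq)
      simpa using mul_mem hm' hq'
    · intro Z h1 h2 h3
      have hQZ : Q ≤ Z := (le_inf hQT le_sup_right).trans h1
      have hne' : Z.subgroupOf E ≠ ⊤ := fun h => h3 (le_antisymm h2
        (sup_le (subgroupOf_eq_top.1 h) hQZ))
      obtain ⟨C, hC, hle⟩ := (eq_top_or_exists_le_coatom (Z.subgroupOf E)).resolve_left hne'
      have hUC : (U : Subgroup ↥E) ≤ C := by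
        refine le_trans ?_ hle
        rw [hU]
        exact fun x hx => h1 ⟨hx, mem_sup_left x.2⟩
      obtain rfl := huniq C ⟨hC, hUC⟩
      refine (hmod Z hQZ h2).trans (sup_le_sup_right ?_ Q)
      exact fun z hz => ⟨⟨z, hz.2⟩, hle hz.1, rfl⟩
  choose N hN using hmaxE
  have hNn : ∀ E (hE : E ∈ 𝒦), ∀ n ∈ R₀,
      n ∈ normalizer (((T : Subgroup H) ⊓ (E ⊔ Q) : Subgroup H) : Set H) →
      n ∈ normalizer (N E hE : Set H) := by
    intro E hE n hn hn'
    apply mem_normalizer_of_conj_eq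
    have h1 := (hN E hE).conj n
    rw [conj_eq_of_mem_normalizer hn', conj_eq_of_mem_normalizer (hnorm E hE hn)] at h1
    exact h1.unique (hN E hE)
  set Mc := R₀ ⊓ ⨅ E : {E // E ∈ 𝒦}, normalizer (N E.1 E.2 : Set H) with hMc
  have hTMc : (T : Subgroup H) ≤ normalizer (Mc : Set H) := by
    intro t ht
    apply mem_normalizer_of_conj_le
    rintro _ ⟨x, hx, rfl⟩
    refine ⟨hRn.conj_mem x hx.1 t, ?_⟩
    refine mem_iInf.2 ?_
    rintro ⟨E, hE⟩
    set E' := E.map (MulAut.conj t⁻¹).toMonoidHom with hE'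
    have hE'K : E' ∈ 𝒦 := hinv _ E hE
    have hX : (E' ⊔ Q).map (MulAut.conj t).toMonoidHom = E ⊔ Q := by
      rw [Subgroup.map_sup, hE', conj_conj_inv, conj_eq_of_mem_normalizer]
      rw [normalizer_eq_top]; trivial
    have h1 := (hN E' hE'K).conj t
    rw [conj_inf, hX, conj_eq_of_mem ht] at h1
    have h2 := h1.unique (hN E hE)
    have h3 : x ∈ normalizer (N E' hE'K : Set H) := (mem_iInf.1 hx.2) ⟨E', hE'K⟩
    have h4 := mem_map_of_mem (MulAut.conj t).toMonoidHom h3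
    rwa [conj_normalizer, h2] at h4
  have hTR : (T : Subgroup H) ⊓ R₀ ≤ Mc := by
    rintro t ⟨ht, htR⟩
    refine ⟨htR, mem_iInf.2 fun E => hNn E.1 E.2 t htR ?_⟩
    exact mem_normalizer_of_conj_eq (by
      rw [conj_inf, conj_eq_of_mem ht, conj_eq_of_mem_normalizer (hnorm E.1 E.2 htR)])
  have hMT : Mc ⊔ (T : Subgroup H) ≠ ⊤ := by
    intro htop
    obtain ⟨E, hE⟩ := hne
    have hR : R₀ ≤ normalizer (N E hE : Set H) := by
      intro r hr
      obtain ⟨t, ht, c, hc, rfl⟩ := exists_mul_of_mem_sup hTMc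
        (show r ∈ (T : Subgroup H) ⊔ Mc by rw [sup_comm, htop]; trivial)
      have htR : t ∈ R₀ := (R₀.mul_mem_cancel_right hc.1).1 hr
      exact mul_mem ((mem_iInf.1 (hTR ⟨ht, htR⟩).2) ⟨E, hE⟩) ((mem_iInf.1 hc.2) ⟨E, hE⟩)
    obtain ⟨U, hU⟩ := exists_sylow_eq 𝒦 hinv hres hnorm hE T
    apply (hN E hE).2.2.1
    refine le_antisymm (hN E hE).2.1 (sup_le ?_ ((le_inf hQT le_sup_right).trans (hN E hE).1))
    haveI hn : ((N E hE).subgroupOf E).Normal :=
      Subgroup.normal_subgroupOf_of_le_normalizer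
        ((le_sSup hE).trans (le_sup_left.trans hR))
    have h2 : normalClosure ((U : Subgroup ↥E) : Set ↥E) ≤ (N E hE).subgroupOf E := by
      refine normalClosure_le_normal fun u hu => ?_
      rw [hU] at hu
      exact (hN E hE).1 ⟨hu, mem_sup_left u.2⟩
    rw [(hmin E hE U).1] at h2
    exact fun e he => h2 (mem_top ⟨e, he⟩)
  have hTtop : (T : Subgroup H) ≠ ⊤ := fun h => hMT (by rw [h]; exact sup_top_eq _)
  obtain ⟨M₀, hM₀, hTM₀⟩ := (eq_top_or_exists_le_coatom (T : Subgroup H)).resolve_left hTtop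
  have key : ∀ M : Subgroup H, IsCoatom M → (T : Subgroup H) ≤ M →
      M = Mc ⊔ (T : Subgroup H) := by
    intro M hM hTM
    have hnot : ∀ E ∈ 𝒦, ¬ E ≤ M := by
      intro E hE hEM
      apply hM.1
      rw [eq_top_iff]
      intro h _
      refine sup_le (sup_le (sSup_le fun K hK => ?_) (hQT.trans hTM)) hTM (hRT h)
      obtain ⟨g, rfl⟩ := htr E hE K hK
      obtain ⟨r, hr, t, ht, rfl⟩ := exists_eq_mul 𝒦 hinv hres T g
      have e : r * t = t * (t⁻¹ * r * t) := by group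
      have hr' : t⁻¹ * r * t ∈ R₀ := by simpa using hRn.conj_mem r hr t⁻¹
      rw [e, LargeSub.conj_mul]
      refine le_trans (map_mono ?_) (conj_eq_of_mem (hTM ht)).le
      refine le_trans (map_mono (le_sup_left : E ≤ E ⊔ Q)) ?_
      rw [conj_eq_of_mem_normalizer (hnorm E hE hr')]
      exact sup_le hEM (hQT.trans hTM)
    have hle : M ≤ Mc ⊔ (T : Subgroup H) := by
      intro m hm
      obtain ⟨r, hr, t, ht, rfl⟩ := exists_eq_mul 𝒦 hinv hres T m
      have hrM : r ∈ M := (M.mul_mem_cancel_right (hTM ht)).1 hm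
      refine mul_mem_sup ⟨hr, mem_iInf.2 ?_⟩ ht
      rintro ⟨E, hE⟩
      set X := E ⊔ Q with hX
      set A := (T : Subgroup H) ⊓ X with hA
      have hAM : A ≤ M ⊓ X := inf_le_inf_right X hTM
      have hAp : IsPGroup p A := T.isPGroup'.to_inf_left
      have hAr : A.map (MulAut.conj r).toMonoidHom ≤ M ⊓ X :=
        (map_mono hAM).trans (by
          rw [conj_inf, conj_eq_of_mem hrM, conj_eq_of_mem_normalizer (hnorm E hE hr)])
      obtain ⟨V, hV⟩ := exists_sylow_subgroup_le hAM hAp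
      obtain ⟨W, hW⟩ := exists_sylow_subgroup_le hAr (isPGroup_conj hAp r)
      have hVA : (V : Subgroup ↥(M ⊓ X)).map (M ⊓ X).subtype = A :=
        max_inf 𝒦 hinv hres hnorm hE T ((map_subtype_le _).trans inf_le_right)
          (IsPGroup.map V.isPGroup' _) hV
      obtain ⟨a, ha⟩ := MulAction.exists_smul_eq ↥(M ⊓ X) V W
      have haA : A.map (MulAut.conj r).toMonoidHom = A.map (MulAut.conj (a : H)).toMonoidHom := by
        refine eq_of_le_of_card_ge (hW.trans ?_) (by rw [card_conj, card_conj])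
        rw [← hVA, ← ha, Sylow.coe_subgroup_smul]
        rintro _ ⟨_, ⟨z, hz, rfl⟩, rfl⟩
        exact ⟨z, ⟨z, hz, rfl⟩, rfl⟩
      have hn : (a : H)⁻¹ * r ∈ normalizer (A : Set H) := by
        apply mem_normalizer_of_conj_eq
        rw [LargeSub.conj_mul, haA, conj_inv_conj]
      have haR : (a : H) ∈ R₀ := le_R 𝒦 hE a.2.2
      have haN : (a : H) ∈ N E hE := by
        refine (hN E hE).2.2.2 (M ⊓ X) hAM inf_le_right (fun h => hnot E hE ?_) a.2
        exact le_sup_left.trans (inf_eq_right.1 h)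
      have h1 := mul_mem (le_normalizer haN) (hNn E hE _ (mul_mem (inv_mem haR) hr) hn)
      rwa [mul_inv_cancel_left] at h1
    exact ((hM.le_iff.1 hle).resolve_left hMT).symm
  refine ⟨M₀, ⟨hM₀, hTM₀⟩, fun M hM => ?_⟩
  rw [key M hM.1 hM.2, key M₀ hM₀ hTM₀]

include hne hinv htr hres hnorm in
theorem irreducible (hirr : ∀ E ∈ 𝒦, IsStronglyPIrreducible p ↥E) :
    IsPIrreducible p H ∧ ∀ E ∈ 𝒦, ∀ K ∈ 𝒦,
      (pResidual p ↥(E ⊔ pCore p H)).map (E ⊔ pCore p H).subtype =
          (pResidual p ↥(K ⊔ pCore p H)).map (K ⊔ pCore p H).subtype ∨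
        ⁅E, K⁆ ≤ pCore p H := by
  haveI hRn := R_normal 𝒦 hinv (p := p)
  set Q := pCore p H with hQ
  set R₀ := sSup 𝒦 ⊔ Q with hR₀
  set π := QuotientGroup.mk' Q with hπ
  have hπ1 : ∀ x, x ∈ Q → π x = 1 := fun x hx => (QuotientGroup.eq_one_iff x).2 hx
  have hπ2 : ∀ x, π x = 1 → x ∈ Q := fun x hx => (QuotientGroup.eq_one_iff x).1 hx
  have hX : pCore p (H ⧸ Q) = ⊥ := Thompson.pCore_quotient_pCore
  have hEn : ∀ E ∈ 𝒦, E ≤ normalizer ((E ⊔ Q : Subgroup H) : Set H) := fun E hE =>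
    le_sup_left.trans le_normalizer
  -- `O_p(E) ≤ Q`
  have hOE : ∀ E ∈ 𝒦, pCoreOf p E ≤ Q := by
    intro E hE
    have h1 : pCoreOf p E ⊔ Q ≤ pCoreOf p (E ⊔ Q) := by
      refine le_pCoreOf (sup_le_sup_right (pCoreOf_le E) Q) ?_
        ((isPGroup_pCoreOf E).to_sup_of_normal_right Thompson.isPGroup_pCore)
      refine sup_le (le_normalizer_sup (le_normalizer_pCoreOf p E) ?_)
        (le_sup_right.trans le_normalizer)
      exact fun g _ => by rw [normalizer_eq_top]; trivial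
    refine (le_sup_left.trans (h1.trans ((pCoreOf_mono_of_normal (le_R 𝒦 hE) (hnorm E hE)).trans
      ?_)))
    exact Thompson.le_pCore (normalizer_eq_top_iff.1 (by
      rw [eq_top_iff, ← normalizer_eq_top (H := R₀)]
      exact normalizer_le_normalizer_pCoreOf p R₀)) (isPGroup_pCoreOf R₀)
  -- strong irreducibility, read modulo `Q`
  have hstrong : ∀ E ∈ 𝒦, ∀ N : Subgroup H, N ≤ E → E ≤ normalizer (N : Set H) →
      (∀ n ∈ N, ∀ e ∈ E, π n * π e = π e * π n) ∨
        ∀ x ∈ E, (orderOf x).Coprime p → x ∈ N := by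
    intro E hE N hNE hEN
    haveI := Subgroup.normal_subgroupOf_of_le_normalizer hEN
    by_cases h : ⁅N.subgroupOf E, (⊤ : Subgroup ↥E)⁆ ≤ pCore p ↥E
    · left
      intro n hn e he
      have h1 : (⁅(⟨n, hNE hn⟩ : ↥E), ⟨e, he⟩⁆ : ↥E) ∈ pCore p ↥E :=
        h (commutator_mem_commutator hn (mem_top _))
      have h2 := hπ1 _ (hOE E hE ⟨_, h1, rfl⟩)
      simp only [coe_subtype, commutatorElement_def, coe_mul, coe_inv, map_mul, map_inv] at h2
      calc π n * π e = π n * π e * (π n)⁻¹ * (π e)⁻¹ * (π e * π n) := by group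
        _ = π e * π n := by rw [h2, one_mul]
    · right
      intro x hx hxc
      exact (hirr E hE).2 _ ‹_› h (Thompson.mem_pResidual_of_coprime
        (g := (⟨x, hx⟩ : ↥E)) (by rwa [orderOf_mk]))
  -- each `E` is generated by its `p`-elements
  have hgen : ∀ E ∈ 𝒦, E ≤ closure {x | x ∈ E ∧ ∃ k, x ^ p ^ k = 1} := by
    intro E hE
    set E₀ := closure {x | x ∈ E ∧ ∃ k, x ^ p ^ k = 1} with hE₀
    have hE₀E : E₀ ≤ E := (closure_le _).2 fun x hx => hx.1
    have hEE₀ : E ≤ normalizer (E₀ : Set H) := fun g hg => by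
      apply mem_normalizer_of_conj_le
      rw [hE₀, MonoidHom.map_closure]
      refine closure_mono ?_
      rintro _ ⟨x, ⟨hx, k, hk⟩, rfl⟩
      exact ⟨mul_mem (mul_mem hg hx) (inv_mem hg), k, by rw [← map_pow, hk, map_one]⟩
    rcases hstrong E hE E₀ hE₀E hEE₀ with h | h
    · exfalso
      apply (hirr E hE).1
      intro T
      refine ⟨fun t ht e => ?_⟩
      obtain ⟨k, hk⟩ := exists_pow_prime_pow_eq_one T.isPGroup' ht
      have hk' : (t : H) ^ p ^ k = 1 := by simpa using congrArg (fun z : ↥E => (z : H)) hk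
      have h1 := h (t : H) (subset_closure ⟨t.2, k, hk'⟩) e e.2
      have h2 : ((e * t * e⁻¹ * t⁻¹ : ↥E) : H) ∈ Q := hπ2 _ (by
        simp only [coe_mul, coe_inv, map_mul, map_inv]
        rw [← h1]; group)
      have hsub : (Q.subgroupOf E) ≤ (T : Subgroup ↥E) :=
        (Thompson.isPGroup_pCore.comap_subtype).le_sylow_of_normal T
      have h3 := mul_mem (hsub (mem_subgroupOf.2 h2)) ht
      rwa [inv_mul_cancel_right] at h3
    · intro x hx
      exact mem_of_pParts (p := p) (fun y hy hc => h y (zpowers_le.2 hx hy) hc)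
        (fun y hy hyp => subset_closure ⟨zpowers_le.2 hx hy, hyp⟩)
  -- an element centralizing the `p`-elements of `E` modulo `Q` centralizes `E` modulo `Q`
  have hcent : ∀ E ∈ 𝒦, ∀ h : H,
      (∀ x ∈ E, (∃ k, x ^ p ^ k = 1) → π h * π x = π x * π h) →
      ∀ x ∈ E, π h * π x = π x * π h := by
    intro E hE h hh x hx
    have h1 : x ∈ (centralizer ({π h} : Set (H ⧸ Q))).comap π := by
      refine ((closure_le _).2 ?_) (hgen E hE hx)
      rintro y ⟨hy, hyp⟩
      exact mem_centralizer_singleton_iff.2 (hh y hy hyp).symm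
    exact (mem_centralizer_singleton_iff.1 h1).symm
  -- `p`-elements commuting with their commutators with `h`
  have hpel : ∀ h x : H, (∃ k, x ^ p ^ k = 1) →
      π h * π x * (π h)⁻¹ * (π x)⁻¹ ∈ centralizer ({π x} : Set (H ⧸ Q)) →
      (orderOf (π h * π x * (π h)⁻¹ * (π x)⁻¹)).Coprime p → π h * π x = π x * π h := by
    intro h x hxp hc hcop
    set c := π h * π x * (π h)⁻¹ * (π x)⁻¹ with hcdef
    have h1 : c * π x = π h * π x * (π h)⁻¹ := by rw [hcdef]; group
    obtain ⟨k, hk⟩ := hxp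
    have h2 : (c * π x) ^ p ^ k = 1 := by
      rw [h1, conj_pow, ← map_pow, hk, map_one]; group
    have hcomm : Commute c (π x) := mem_centralizer_singleton_iff.1 hc
    rw [hcomm.mul_pow, ← map_pow π x, hk, map_one, mul_one] at h2
    have h3 : c = 1 := eq_one_of_pElement_of_coprime ⟨k, h2⟩ hcop
    rw [h3, one_mul] at h1
    calc π h * π x = π h * π x * (π h)⁻¹ * π h := by group
      _ = π x * π h := by rw [← h1]
  -- the dichotomy for a subgroup `N` meeting `E`
  have hZ : ∀ E ∈ 𝒦, ∀ N : Subgroup H, N ≤ E → E ≤ normalizer (N : Set H) →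
      (∀ n ∈ N, ∀ e ∈ E, π n * π e = π e * π n) → ∀ n ∈ N, (orderOf (π n)).Coprime p := by
    intro E hE N hNE hEN hcen n hn
    obtain ⟨k, m, hm, hkm⟩ := Nat.exists_eq_pow_mul_and_not_dvd (orderOf_pos (π n)).ne' p
      (Fact.out : p.Prime).ne_one
    -- the `p`-elements of `N` lie in `Q`
    have hp : ∀ y ∈ N, (∃ j, y ^ p ^ j = 1) → y ∈ Q := by
      intro y hy hyp
      set P := zpowers y ⊔ (E ⊓ Q) with hP
      have hPE : P ≤ E := sup_le (zpowers_le.2 (hNE hy)) inf_le_left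
      have hEP : E ≤ normalizer (P : Set H) := fun e he => by
        apply mem_normalizer_of_conj_le
        rw [hP, Subgroup.map_sup]
        refine sup_le ?_ ?_
        · rw [MonoidHom.map_zpowers, zpowers_le]
          show e * y * e⁻¹ ∈ _
          have h1 := hcen y hy e he
          have h2 : e * y * e⁻¹ * y⁻¹ ∈ E ⊓ Q := mem_inf.2
            ⟨mul_mem (mul_mem (mul_mem he (hNE hy)) (inv_mem he)) (inv_mem (hNE hy)), hπ2 _ (by
              simp only [map_mul, map_inv]; rw [← h1]; group)⟩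
          have h3 := mul_mem (mem_sup_right h2 : _ ∈ zpowers y ⊔ (E ⊓ Q))
            (mem_sup_left (mem_zpowers y))
          rwa [inv_mul_cancel_right] at h3
        · rw [conj_inf, conj_eq_of_mem he, conj_eq_of_mem_normalizer
            (by rw [normalizer_eq_top]; trivial)]
          exact le_sup_right
      have hPp : IsPGroup p P := (isPGroup_zpowers hyp).to_sup_of_normal_right'
        Thompson.isPGroup_pCore.to_inf_right
        ((zpowers_le.2 (hNE hy)).trans (le_normalizer_inf le_normalizer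
          (fun g _ => by rw [normalizer_eq_top]; trivial)))
      exact hOE E hE (le_pCoreOf hPE hEP hPp (mem_sup_left (mem_zpowers y)))
    have hy : n ^ orderOf (n ^ p ^ (Classical.choose (exists_coprime_pow (p := p) n))) ∈ Q := by
      refine hp _ (pow_mem hn _) ⟨Classical.choose (exists_coprime_pow (p := p) n), ?_⟩
      rw [← pow_mul, mul_comm, pow_mul, pow_orderOf_eq_one]
    have h1 : orderOf (π n) ∣ orderOf (n ^ p ^ (Classical.choose (exists_coprime_pow (p := p) n))) :=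
      orderOf_dvd_of_pow_eq_one (by rw [← map_pow]; exact hπ1 _ hy)
    exact (Classical.choose_spec (exists_coprime_pow (p := p) n)).coprime_dvd_left h1
  -- the residual of `EQ`
  have hresEQ : ∀ E ∈ 𝒦, ∀ X : Subgroup H, Q ≤ X →
      (∀ x ∈ E, (orderOf x).Coprime p → x ∈ X) →
      ∀ x ∈ E ⊔ Q, (orderOf x).Coprime p → x ∈ X := by
    intro E hE X hQX hx x hxEQ hxc
    set R1 := (pResidual p ↥E).map E.subtype ⊔ Q with hR1
    have hER : E ≤ normalizer (R1 : Set H) := le_normalizer_sup (le_normalizer_pResidual_map E)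
      (fun g _ => by rw [normalizer_eq_top]; trivial)
    have hR1X : R1 ≤ X := sup_le (pResidual_map_le_iff.2 hx) hQX
    obtain ⟨e, he, q, hq, rfl⟩ := Subgroup.mem_sup_of_normal_right.1 hxEQ
    obtain ⟨k, hk⟩ := exists_pow_mem_pResidual_map (p := p) he
    refine hR1X ?_
    haveI : (R1.subgroupOf (E ⊔ Q)).Normal := Subgroup.normal_subgroupOf_of_le_normalizer
      (sup_le hER (le_sup_right.trans le_normalizer))
    set ψ := QuotientGroup.mk' (R1.subgroupOf (E ⊔ Q)) with hψ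
    have h2 : ψ ⟨e * q, hxEQ⟩ = ψ ⟨e, mem_sup_left he⟩ := by
      rw [hψ, QuotientGroup.mk'_apply, QuotientGroup.mk'_apply, eq_comm, QuotientGroup.eq]
      simpa [mem_subgroupOf] using (mem_sup_right hq : q ∈ R1)
    refine mem_of_pow_mem_of_coprime (k := k) ?_ hxc
    have h3 : ψ (⟨e * q, hxEQ⟩ ^ p ^ k) = 1 := by
      rw [map_pow, h2, ← map_pow, hψ, QuotientGroup.mk'_apply, QuotientGroup.eq_one_iff]
      simpa [mem_subgroupOf] using (mem_sup_left hk : e ^ p ^ k ∈ R1)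
    rw [hψ, QuotientGroup.mk'_apply, QuotientGroup.eq_one_iff] at h3
    simpa [mem_subgroupOf] using h3
  refine ⟨⟨?_, ?_⟩, ?_⟩
  · intro hcl
    obtain ⟨E, hE⟩ := hne
    obtain ⟨T⟩ := (inferInstance : Nonempty (Sylow p H))
    haveI := hcl T
    obtain ⟨U, hU⟩ := exists_sylow_eq 𝒦 hinv hres hnorm hE T
    apply (hirr E hE).1
    have hUn : (U : Subgroup ↥E).Normal := hU ▸ Subgroup.Normal.comap ‹_› E.subtype
    intro V
    obtain ⟨g, hg⟩ := MulAction.exists_smul_eq ↥E U V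
    haveI := hUn
    rw [← hg, Sylow.smul_eq_of_normal]
    exact hUn
  · intro N hN hNc
    haveI := hN
    by_cases h : ∃ E ∈ 𝒦, ∀ x ∈ E, (orderOf x).Coprime p → x ∈ N ⊔ Q
    · obtain ⟨E, hE, hEN⟩ := h
      have hallK : ∀ K ∈ 𝒦, ∀ x ∈ K, (orderOf x).Coprime p → x ∈ N ⊔ Q := by
        intro K hK x hx hxc
        obtain ⟨g, rfl⟩ := htr E hE K hK
        obtain ⟨y, hy, rfl⟩ := hx
        have hyc : (orderOf y).Coprime p := by
          rwa [show orderOf ((MulAut.conj g).toMonoidHom y) = orderOf y from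
            orderOf_injective _ (MulAut.conj g).injective y] at hxc
        exact (inferInstance : (N ⊔ Q).Normal).conj_mem y (hEN y hy hyc) g
      set ρ := QuotientGroup.mk' (N ⊔ Q) with hρ
      have hEp : ∀ K ∈ 𝒦, (K ⊔ Q).map ρ ≤ pCoreOf p (R₀.map ρ) := by
        intro K hK
        refine le_pCoreOf (map_mono (le_R 𝒦 hK))
          ((map_mono (hnorm K hK)).trans (Subgroup.le_normalizer_map ρ)) ?_
        rintro ⟨_, x, hx, rfl⟩
        obtain ⟨k, hk⟩ := exists_coprime_pow (p := p) x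
        refine ⟨k, Subtype.ext ?_⟩
        simp only [SubmonoidClass.coe_pow, OneMemClass.coe_one, ← map_pow]
        exact (QuotientGroup.eq_one_iff _).2
          (hresEQ K hK _ le_sup_right (hallK K hK) _ (pow_mem hx _) hk)
      have hRp : IsPGroup p ↥((sSup 𝒦).map ρ) := by
        refine (isPGroup_pCoreOf (R₀.map ρ)).to_le (map_le_iff_le_comap.2 (sSup_le fun K hK => ?_))
        exact map_le_iff_le_comap.1 ((map_mono le_sup_left).trans (hEp K hK))
      rw [pResidual, Subgroup.closure_le]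
      intro x hx
      have hxR := hres (Thompson.mem_pResidual_of_coprime hx)
      obtain ⟨k, hk⟩ := exists_pow_prime_pow_eq_one hRp (mem_map_of_mem ρ hxR)
      rw [← map_pow, hρ, QuotientGroup.mk'_apply, QuotientGroup.eq_one_iff] at hk
      have h1 := mem_of_pow_mem_of_coprime hk hx
      rw [sup_comm] at h1
      obtain ⟨j, hj⟩ := pow_mem_of_mem_sup Thompson.isPGroup_pCore
        (fun g _ => by rw [normalizer_eq_top]; trivial) h1
      exact mem_of_pow_mem_of_coprime hj hx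
    exfalso
    push_neg at h
    apply hNc
    set N₁ := (N ⊔ Q) ⊓ R₀ with hN₁
    have hinner : ∀ E ∈ 𝒦, ∀ n ∈ (N ⊔ Q) ⊓ E, ∀ e ∈ E, π n * π e = π e * π n := by
      intro E hE
      rcases hstrong E hE ((N ⊔ Q) ⊓ E) inf_le_right
        (le_normalizer_inf (fun g _ => by rw [normalizer_eq_top]; trivial) le_normalizer) with
        h1 | h1
      · exact h1
      · obtain ⟨x, hx, hxc, hxn⟩ := h E hE
        exact absurd (h1 x hx hxc).1 hxn
    -- `N₁` centralizes every `E` modulo `Q`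
    have hN₁c : ∀ n ∈ N₁, ∀ E ∈ 𝒦, ∀ e ∈ E, π n * π e = π e * π n := by
      intro n hn E hE
      refine hcent E hE n fun x hx hxp => ?_
      have hc : n * x * n⁻¹ * x⁻¹ ∈ (N ⊔ Q) ⊓ (E ⊔ Q) := by
        refine mem_inf.2 ⟨?_, ?_⟩
        · have h1 := mul_mem hn.1
            ((inferInstance : (N ⊔ Q).Normal).conj_mem _ (inv_mem hn.1) x)
          simpa [mul_assoc] using h1
        · exact mul_mem ((mem_normalizer_iff.1 (hnorm E hE hn.2) x).1 (mem_sup_left hx))
            (inv_mem (mem_sup_left hx))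
      obtain ⟨e, he, q, hq, heq⟩ := Subgroup.mem_sup_of_normal_right.1 hc.2
      have he1 : e ∈ (N ⊔ Q) ⊓ E := ⟨((N ⊔ Q).mul_mem_cancel_right (mem_sup_right hq)).1
        (heq ▸ hc.1), he⟩
      have hπc : π n * π x * (π n)⁻¹ * (π x)⁻¹ = π e := by
        rw [← map_inv, ← map_inv, ← map_mul, ← map_mul, ← map_mul, ← heq, map_mul, hπ1 q hq,
          mul_one]
      refine hpel n x hxp ?_ ?_
      · rw [hπc, mem_centralizer_singleton_iff]
        exact hinner E hE e he1 x hx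
      · rw [hπc]
        exact hZ E hE _ inf_le_right
          (le_normalizer_inf (fun g _ => by rw [normalizer_eq_top]; trivial) le_normalizer)
          (hinner E hE) e he1
    have hN₁R : ∀ n ∈ N₁, ∀ r ∈ R₀, π n * π r = π r * π n := by
      intro n hn r hr
      have h1 : R₀ ≤ (centralizer ({π n} : Set (H ⧸ Q))).comap π := by
        refine sup_le (sSup_le fun E hE e he => ?_) fun q hq => ?_
        · exact mem_centralizer_singleton_iff.2 (hN₁c n hn E hE e he).symm
        · refine mem_centralizer_singleton_iff.2 ?_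
          rw [hπ1 q hq, one_mul, mul_one]
      exact (mem_centralizer_singleton_iff.1 (h1 hr)).symm
    haveI : (R₀.map π).Normal := hRn.map π (QuotientGroup.mk'_surjective Q)
    have hsmall : ∀ c : H, π c ∈ centralizer (R₀.map π : Set (H ⧸ Q)) →
        (∃ j, (π c) ^ p ^ j = 1) → c ∈ Q := by
      intro c hc hcp
      apply hπ2
      refine eq_one_of_central_ext (Z := centralizer (R₀.map π : Set (H ⧸ Q))) hX (R₀.map π)
        ?_ ?_ hc hcp
      · rintro q ⟨-, hq2⟩
        rw [mem_centralizer_iff]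
        intro z hz
        exact (mem_centralizer_iff.1 hz q hq2).symm
      · intro q _
        obtain ⟨z, rfl⟩ := QuotientGroup.mk'_surjective Q q
        obtain ⟨k, hk⟩ := pow_mem_R 𝒦 hres z
        exact ⟨k, z ^ p ^ k, hk, map_pow π z _⟩
    have hN₁p : ∀ n ∈ N₁, (orderOf (π n)).Coprime p := by
      intro n hn
      obtain ⟨k, hk⟩ := exists_coprime_pow (p := p) n
      have h1 : n ^ orderOf (n ^ p ^ k) ∈ Q := by
        refine hsmall _ ?_ ⟨k, ?_⟩
        · rw [mem_centralizer_iff]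
          rintro _ ⟨r, hr, rfl⟩
          exact (hN₁R _ (pow_mem hn _) r hr).symm
        · rw [← map_pow, ← pow_mul, mul_comm, pow_mul, pow_orderOf_eq_one, map_one]
      refine hk.coprime_dvd_left (orderOf_dvd_of_pow_eq_one ?_)
      rw [← map_pow]; exact hπ1 _ h1
    -- `N` centralizes `R₀` modulo `Q`
    have hNR : ∀ n ∈ N, π n ∈ centralizer (R₀.map π : Set (H ⧸ Q)) := by
      intro n hn
      have h1 : R₀ ≤ (centralizer ({π n} : Set (H ⧸ Q))).comap π := by
        refine sup_le (sSup_le fun E hE e he => mem_centralizer_singleton_iff.2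
          (hcent E hE n (fun x hx hxp => ?_) e he).symm) fun q hq => ?_
        · have hxR : x ∈ R₀ := le_R 𝒦 hE (mem_sup_left hx)
          have hc : n * x * n⁻¹ * x⁻¹ ∈ N₁ := by
            refine mem_inf.2 ⟨mem_sup_left ?_, mul_mem (hRn.conj_mem x hxR n) (inv_mem hxR)⟩
            have h2 := mul_mem hn (hN.conj_mem _ (inv_mem hn) x)
            simpa [mul_assoc] using h2
          refine hpel n x hxp ?_ ?_
          · rw [mem_centralizer_singleton_iff, ← map_inv, ← map_inv, ← map_mul, ← map_mul,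
              ← map_mul]
            exact hN₁R _ hc x hxR
          · rw [← map_inv, ← map_inv, ← map_mul, ← map_mul, ← map_mul]
            exact hN₁p _ hc
        · refine mem_centralizer_singleton_iff.2 ?_
          rw [hπ1 q hq, one_mul, mul_one]
      rw [mem_centralizer_iff]
      rintro _ ⟨r, hr, rfl⟩
      exact mem_centralizer_singleton_iff.1 (h1 hr)
    intro T
    have hTQ : (T : Subgroup ↥N) = Q.subgroupOf N := by
      refine le_antisymm (fun t ht => ?_) (Thompson.isPGroup_pCore.comap_subtype.le_sylow_of_normal T)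
      obtain ⟨k, hk⟩ := exists_pow_prime_pow_eq_one T.isPGroup' ht
      refine hsmall t (hNR t t.2) ⟨k, ?_⟩
      rw [← map_pow, show (t : H) ^ p ^ k = 1 by
        simpa using congrArg (fun z : ↥N => (z : H)) hk, map_one]
    rw [hTQ]
    infer_instance
  · intro E hE K hK
    have hhalf : ∀ E ∈ 𝒦, ∀ K ∈ 𝒦,
        (∀ n ∈ (K ⊔ Q) ⊓ E, ∀ e ∈ E, π n * π e = π e * π n) ∨
          (pResidual p ↥(E ⊔ Q)).map (E ⊔ Q).subtype =
            (pResidual p ↥(K ⊔ Q)).map (K ⊔ Q).subtype := by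
      intro E hE K hK
      have hEK : E ≤ normalizer (((K ⊔ Q) ⊓ E : Subgroup H) : Set H) :=
        le_normalizer_inf (((le_sup_left).trans (le_R 𝒦 hE)).trans (hnorm K hK)) le_normalizer
      rcases hstrong E hE ((K ⊔ Q) ⊓ E) inf_le_right hEK with h | h
      · exact Or.inl h
      right
      have hle : (pResidual p ↥(E ⊔ Q)).map (E ⊔ Q).subtype ≤
          (pResidual p ↥(K ⊔ Q)).map (K ⊔ Q).subtype := by
        rw [pResidual_map_le_iff]
        exact fun x hx hc => mem_pResidual_map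
          (hresEQ E hE (K ⊔ Q) le_sup_right (fun y hy hyc => (h y hy hyc).1) x hx hc) hc
      refine eq_of_le_of_card_ge hle ?_
      obtain ⟨g, rfl⟩ := htr E hE K hK
      have hQg : Q.map (MulAut.conj g).toMonoidHom = Q :=
        conj_eq_of_mem_normalizer (by rw [normalizer_eq_top]; trivial)
      refine le_trans (card_le_of_le (K := ((pResidual p ↥(E ⊔ Q)).map (E ⊔ Q).subtype).map
        (MulAut.conj g).toMonoidHom) ?_) (card_conj _ g).le
      rw [pResidual_map_le_iff]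
      intro x hx hxc
      have hx' : g⁻¹ * x * g ∈ E ⊔ Q := by
        rw [← mem_conj, Subgroup.map_sup, hQg]; exact hx
      refine mem_conj.2 (mem_pResidual_map hx' ?_)
      rwa [show g⁻¹ * x * g = MulAut.conj g⁻¹ x by simp, MulEquiv.orderOf_eq]
    rcases hhalf E hE K hK with hE1 | hEQ
    swap
    · exact Or.inl hEQ
    rcases hhalf K hK E hE with hK1 | hEQ
    swap
    · exact Or.inl hEQ.symm
    right
    rw [commutator_le]
    intro x hx k hk
    apply hπ2
    have hmain : π k * π x = π x * π k := by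
      refine hcent E hE k (fun y hy hyp => ?_) x hx
      have hc : k * y * k⁻¹ * y⁻¹ ∈ (K ⊔ Q) ⊓ (E ⊔ Q) := by
        have hkR : k ∈ R₀ := le_R 𝒦 hK (mem_sup_left hk)
        have hyR : y ∈ R₀ := le_R 𝒦 hE (mem_sup_left hy)
        refine mem_inf.2 ⟨?_, mul_mem ((mem_normalizer_iff.1 (hnorm E hE hkR) y).1 (mem_sup_left hy))
          (inv_mem (mem_sup_left hy))⟩
        have h2 := mul_mem (mem_sup_left hk : k ∈ K ⊔ Q)
          ((mem_normalizer_iff.1 (hnorm K hK hyR) k⁻¹).1 (mem_sup_left (inv_mem hk)))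
        simpa [mul_assoc] using h2
      obtain ⟨e, he, q, hq, heq⟩ := Subgroup.mem_sup_of_normal_right.1 hc.2
      have he1 : e ∈ (K ⊔ Q) ⊓ E :=
        ⟨((K ⊔ Q).mul_mem_cancel_right (mem_sup_right hq)).1 (heq ▸ hc.1), he⟩
      have hπc : π k * π y * (π k)⁻¹ * (π y)⁻¹ = π e := by
        rw [← map_inv, ← map_inv, ← map_mul, ← map_mul, ← map_mul, ← heq, map_mul, hπ1 q hq,
          mul_one]
      refine hpel k y hyp ?_ ?_
      · rw [hπc, mem_centralizer_singleton_iff]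
        exact hE1 e he1 y hy
      · rw [hπc]
        exact hZ E hE _ inf_le_right
          (le_normalizer_inf (((le_sup_left).trans (le_R 𝒦 hE)).trans (hnorm K hK)) le_normalizer)
          hE1 e he1
    simp only [commutatorElement_def, map_mul, map_inv]
    rw [← hmain]; group

end


/-- Let H be a finite group, p a prime, and 𝒦 a nonempty set of subgroups of H permuted transitively by conjugation, with R the subgroup generated by the members of 𝒦. Suppose O^p(H) ≤ R, each E ∈ 𝒦 has E·O_p(H) normal in R·O_p(H), and each E ∈ 𝒦 is p-minimal (generated by the conjugates of a Sylow p-subgroup T_E of E, with T_E in exactly one maximal subgroup of E). Then H is p-minimal in the same sense. If instead each E ∈ 𝒦 is strongly p-irreducible, then H is p-irreducible and, for E, K ∈ 𝒦, either O^p(E·O_p(H)) = O^p(K·O_p(H)) or [E, K] ≤ O_p(H). -/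
theorem result {H : Type*} [Group H] [Finite H] {p : ℕ} [Fact p.Prime] (𝒦 : Set (Subgroup H)) (hne : 𝒦.Nonempty) (hinv : ∀ h : H, ∀ E ∈ 𝒦, E.map (MulAut.conj h).toMonoidHom ∈ 𝒦) (htr : ∀ E ∈ 𝒦, ∀ K ∈ 𝒦, ∃ h : H, K = E.map (MulAut.conj h).toMonoidHom) (hres : Cfsg.pResidual p H ≤ sSup 𝒦) (hnorm : ∀ E ∈ 𝒦, sSup 𝒦 ⊔ Cfsg.pCore p H ≤ Subgroup.normalizer ((E ⊔ Cfsg.pCore p H : Subgroup H) : Set H)) : ((∀ E ∈ 𝒦, ∀ T : Sylow p ↥E, Cfsg.IsMinimalOver (T : Subgroup ↥E)) → ∀ T : Sylow p H, Cfsg.IsMinimalOver (T : Subgroup H)) ∧ ((∀ E ∈ 𝒦, Cfsg.IsStronglyPIrreducible p ↥E) → Cfsg.IsPIrreducible p H ∧ ∀ E ∈ 𝒦, ∀ K ∈ 𝒦, (Cfsg.pResidual p ↥(E ⊔ Cfsg.pCore p H)).map (E ⊔ Cfsg.pCore p H).subtype = (Cfsg.pResidual p ↥(K ⊔ Cfsg.pCore p H)).map (K ⊔ Cfsg.pCore p H).subtype ∨ ⁅E, K⁆ ≤ Cfsg.pCore p H) := by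
  exact ⟨fun h T => minimal 𝒦 hne hinv htr hres hnorm h T,
    fun h => irreducible 𝒦 hne hinv htr hres hnorm h⟩

end Cfsg.Agent.S2855
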