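import Cfsg.Statements.S2860
import Cfsg.Agent.LargeSub.Section
import Cfsg.Agent.LargeSub.WeakClosure
import Cfsg.Agent.LargeSub.CharP
import Cfsg.Agent.LocalEven62.WeakClosed
import Cfsg.Agent.S2843
import Cfsg.Agent.Lib.Thompson.Cores

set_option autoImplicit false
open Cfsg

namespace Cfsg.Agent.S2860

open scoped commutatorElement

/-- Let Q be a nontrivial large p-subgroup of the finite group H, U a nontrivial elementary abelian p-subgroup of H, and Q ≤ E ≤ N_H(U) with Q not normal in E. Suppose O_p(E/C_E(U)) = 1 and O^p(E)·C_E(U)/C_E(U) is quasisimple. Let E° be the weak closure of Q in E (generated by the conjugates of Q inside E) and E_∘ = O^p(E°). Then O^p(E)·C_E(U) = E_∘·C_E(U); E_∘ is perfect and equals O^p(E_∘); E_∘/C_{E_∘}(U) and E_∘/O_p(E_∘) are quasisimple; and E_∘ = [E_∘, Y] for every p-subgroup Y of E not centralizing U. -/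
theorem result {G : Type*} [Group G] [Finite G] {p : ℕ} [Fact p.Prime] (Q : Subgroup G) (hQp : IsPGroup p ↥Q) (hQ1 : Q ≠ ⊥) (hQ : Cfsg.IsLarge Q) (U : Subgroup G) (hU : Cfsg.IsElementaryAbelian p U) (hU1 : U ≠ ⊥) (E : Subgroup G) (hQE : Q ≤ E) (hEU : E ≤ Subgroup.normalizer ((U : Subgroup G) : Set G)) (hQn : ¬ E ≤ Subgroup.normalizer ((Q : Subgroup G) : Set G)) [hn : ((Subgroup.centralizer ((U : Subgroup G) : Set G)).subgroupOf E).Normal] (hred : Cfsg.pCore p (↥E ⧸ (Subgroup.centralizer ((U : Subgroup G) : Set G)).subgroupOf E) = ⊥) (hqs : Cfsg.IsQuasisimple ↥(((Cfsg.pResidual p ↥E) ⊔ (Subgroup.centralizer ((U : Subgroup G) : Set G)).subgroupOf E).map (QuotientGroup.mk' ((Subgroup.centralizer ((U : Subgroup G) : Set G)).subgroupOf E)))) (Er : Subgroup G) (hEr : Er = ((Cfsg.pResidual p ↥(Cfsg.weakClosure Q E)).map ((Cfsg.weakClosure Q E)).subtype)) [hn2 : ((Subgroup.centralizer ((U : Subgroup G) : Set G)).subgroupOf Er).Normal] : ((Cfsg.pResidual p ↥E).map (E).subtype) ⊔ (E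 ⊓ Subgroup.centralizer ((U : Subgroup G) : Set G)) = Er ⊔ (E ⊓ Subgroup.centralizer ((U : Subgroup G) : Set G)) ∧ ⁅Er, Er⁆ = Er ∧ ((Cfsg.pResidual p ↥Er).map (Er).subtype) = Er ∧ Cfsg.IsQuasisimple (↥Er ⧸ (Subgroup.centralizer ((U : Subgroup G) : Set G)).subgroupOf Er) ∧ Cfsg.IsQuasisimple (↥Er ⧸ Cfsg.pCore p ↥Er) ∧ ∀ Y : Subgroup G, Y ≤ E → IsPGroup p ↥Y → ¬ Y ≤ Subgroup.centralizer ((U : Subgroup G) : Set G) → ⁅Er, Y⁆ = Er := by
  have hwc := LocalEven62.large_weaklyClosed hQp hQ1 hQ
  have hUp : IsPGroup p ↥U := fun u => ⟨1, Subtype.ext (by simpa using hU.2 u u.2)⟩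
  obtain ⟨-, hWC, -⟩ := S2843.result Q hQp hQ1 hQ E hQE U hUp hU1 hEU
  set CU := Subgroup.centralizer (U : Set G) with hCU
  set C := E ⊓ CU with hC
  have hCmap : (CU.subgroupOf E).map E.subtype = C := by
    rw [Subgroup.subgroupOf_map_subtype, inf_comm]
  have hEC : E ≤ Subgroup.normalizer (C : Set G) :=
    LargeSub.le_normalizer_inf Subgroup.le_normalizer
      (hEU.trans (LargeSub.normalizer_le_normalizer_centralizer U))
  have hCE : C ≤ E := inf_le_left
  set W := Cfsg.weakClosure Q E with hW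
  set O := Cfsg.pCoreOf p W with hO
  obtain ⟨hsup, hKQ⟩ := LargeSub.weakClosure_residual (X := E) hQp hwc hQE
  rw [← hW, ← hEr] at hsup hKQ
  set K := Er with hKdef
  have hWE : W ≤ E := LargeSub.weakClosure_le Q E
  have hKW : K ≤ W := hEr ▸ Subgroup.map_subtype_le _
  have hKE : K ≤ E := hKW.trans hWE
  have hQW : Q ≤ W := LargeSub.le_weakClosure hQE
  have hWn : E ≤ Subgroup.normalizer (W : Set G) := LargeSub.le_normalizer_weakClosure Q E
  have hKn : E ≤ Subgroup.normalizer (K : Set G) := hEr ▸ LargeSub.le_normalizer_pResidual_of hWn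
  have hOn : E ≤ Subgroup.normalizer (O : Set G) :=
    hWn.trans (LargeSub.normalizer_le_normalizer_pCoreOf p W)
  have hWC' : ⁅W, C⁆ ≤ O := (Subgroup.commutator_mono le_rfl inf_le_right).trans hWC
  set P := (Cfsg.pResidual p ↥E).map E.subtype with hP
  have hPE : P ≤ E := Subgroup.map_subtype_le _
  have hKP : K ≤ P := by
    rw [hEr, LargeSub.pResidual_map_le_iff]
    exact fun x hx hc => LargeSub.mem_pResidual_map (hWE hx) hc
  have hPn : E ≤ Subgroup.normalizer (P : Set G) := LargeSub.le_normalizer_pResidual_map E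
  have hQC : ¬ Q ≤ C := fun hle => hQn (hEU.trans (hQ.2 U
    (Subgroup.le_centralizer_iff.1 (hle.trans inf_le_right)) hU1))
  -- the quotient
  set π := QuotientGroup.mk' (CU.subgroupOf E) with hπ
  let img : Subgroup G → Subgroup (↥E ⧸ CU.subgroupOf E) := LargeSub.secImg E (CU.subgroupOf E)
  have hPimg : img P = ((Cfsg.pResidual p ↥E) ⊔ CU.subgroupOf E).map π := by
    rw [Subgroup.map_sup, show (CU.subgroupOf E).map π = ⊥ by
      rw [Subgroup.map_eq_bot_iff, hπ, QuotientGroup.ker_mk'], sup_bot_eq]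
    show ((P.subgroupOf E).map π) = _
    rw [show P.subgroupOf E = Cfsg.pResidual p ↥E from
      Subgroup.comap_map_eq_self_of_injective E.subtype_injective _]
  rw [← hPimg] at hqs
  haveI hKbn : (img K).Normal := LargeSub.secImg_normal hKE hKn
  haveI hPbn : (img P).Normal := LargeSub.secImg_normal hPE hPn
  have hKbP : img K ≤ img P := LargeSub.secImg_mono hKP
  haveI hKP' : ((img K).subgroupOf (img P)).Normal := Subgroup.Normal.subgroupOf hKbn _
  have hperf : ⁅img P, img P⁆ = img P := Subgroup.isPerfect_iff.mp hqs.1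
  -- normal subgroups inside `img P`
  have hdich : ∀ N : Subgroup (↥E ⧸ CU.subgroupOf E), N ≤ img P →
      img P ≤ Subgroup.normalizer (N : Set (↥E ⧸ CU.subgroupOf E)) →
      img P ≤ N ∨ ⁅N, img P⁆ = ⊥ := by
    intro N hN hn'
    haveI : (N.subgroupOf (img P)).Normal := (Subgroup.normal_subgroupOf_iff_le_normalizer hN).2 hn'
    rcases Components.normal_eq_top_or_le_center hqs (N.subgroupOf (img P)) with h | h
    · exact Or.inl (Subgroup.subgroupOf_eq_top.1 h)
    · right
      rw [Subgroup.commutator_eq_bot_iff_le_centralizer]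
      intro x hx
      rw [Subgroup.mem_centralizer_iff]
      intro y hy
      exact congrArg Subtype.val (Subgroup.mem_center_iff.1
        (h (show (⟨x, hN hx⟩ : ↥(img P)) ∈ N.subgroupOf (img P) from hx)) ⟨y, hy⟩)
  have hcentP : ∀ A : Subgroup G, A ≤ E → IsPGroup p ↥A → ⁅img P, img A⁆ = ⊥ → A ≤ C := by
    intro A hAE hAp hA
    rw [Subgroup.commutator_comm, Subgroup.commutator_eq_bot_iff_le_centralizer] at hA
    intro a ha
    have hmem : π ⟨a, hAE ha⟩ ∈ img A := ⟨⟨a, hAE ha⟩, ha, rfl⟩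
    have h1 : π ⟨a, hAE ha⟩ = 1 := by
      refine LargeSub.eq_one_of_central_ext hred
        (Subgroup.centralizer (img P : Set (↥E ⧸ CU.subgroupOf E))) (img P) ?_ ?_ (hA hmem)
        (LargeSub.exists_pow_prime_pow_eq_one (LargeSub.isPGroup_secImg hAp) hmem)
      · intro z hz
        exact Subgroup.mem_centralizer_iff.2 fun w hw =>
          (Subgroup.mem_centralizer_iff.1 hw z (Subgroup.mem_inf.1 hz).2).symm
      · intro z _
        obtain ⟨⟨y, hy⟩, rfl⟩ := QuotientGroup.mk'_surjective _ z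
        obtain ⟨k, hk⟩ := LargeSub.exists_pow_mem_pResidual_map (p := p) hy
        refine ⟨k, ?_⟩
        rw [← map_pow]
        exact ⟨_, hk, rfl⟩
    rw [hπ, QuotientGroup.mk'_apply, QuotientGroup.eq_one_iff] at h1
    exact Subgroup.mem_inf.2 ⟨hAE ha, h1⟩
  have hPK : img P ≤ img K := by
    rcases hdich (img K) hKbP (Subgroup.normalizer_eq_top (H := img K) ▸ le_top) with h | h
    · exact h
    exfalso
    apply hQC
    refine hcentP Q hQE hQp ?_
    -- `[Q, P] ≤ W ∩ P`
    haveI hWbn : (img W).Normal := LargeSub.secImg_normal hWE hWn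
    set D := img W ⊓ img P with hD
    rcases hdich D inf_le_right (Subgroup.normalizer_eq_top (H := D) ▸ le_top) with hd | hd
    · exfalso
      -- `P = O^p(P)` lies in `Q K`, so in `K`
      have hle : P ≤ W ⊔ C := hCmap ▸ (LargeSub.secImg_le_iff hPE hWE).1 (hd.trans inf_le_left)
      have hPKC : P ≤ K ⊔ C := by
        rw [hP, LargeSub.pResidual_map_le_iff]
        intro x hx hc
        have h1 : x ∈ Q ⊔ (K ⊔ C) := by
          have := hle (LargeSub.mem_pResidual_map hx hc)
          rwa [hsup, sup_assoc] at this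
        obtain ⟨k, hk⟩ := LargeSub.pow_mem_of_mem_sup hQp (LargeSub.le_normalizer_sup
          (hQE.trans hKn) (hQE.trans hEC)) h1
        exact LargeSub.mem_of_pow_mem_of_coprime hk hc
      have h2 : img P ≤ img K := (LargeSub.secImg_le_iff hPE hKE).2 (hCmap.symm ▸ hPKC)
      have h3 : ⁅img P, img P⁆ = ⊥ := le_bot_iff.1 (h ▸ Subgroup.commutator_mono h2 le_rfl)
      rw [hperf] at h3
      haveI : Subsingleton ↥(img P) := ⟨fun a b => Subtype.ext (by
        rw [Subgroup.mem_bot.1 (h3.le a.2), Subgroup.mem_bot.1 (h3.le b.2)])⟩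
      exact absurd (Components.nontrivial_of_isQuasisimple hqs) (not_nontrivial _)
    · refine Components.commutator_eq_bot_of_perfect hperf (le_bot_iff.1 (hd ▸
        Subgroup.commutator_mono (le_inf ?_ ?_) le_rfl))
      · exact (Subgroup.commutator_mono (LargeSub.secImg_mono hQW) le_rfl).trans
          (Subgroup.commutator_le_left (img W) (img P))
      · exact Subgroup.commutator_le_right (img Q) (img P)
  have hKeq : img K = img P := le_antisymm hKbP hPK
  have hpart1 : P ⊔ C = K ⊔ C := le_antisymm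
    (sup_le (hCmap ▸ (LargeSub.secImg_le_iff hPE hKE).1 hPK) le_sup_right)
    (sup_le_sup_right hKP C)
  -- strip off `O`
  have hstrip : ∀ R : Subgroup G, R ≤ K → K ≤ Subgroup.normalizer (R : Set G) → K ≤ R ⊔ O →
      K ≤ R := by
    intro R hRK hRn hle
    conv_lhs => rw [hEr]
    rw [LargeSub.pResidual_map_le_iff]
    intro x hx hc
    have hxK : x ∈ K := hEr ▸ LargeSub.mem_pResidual_map hx hc
    have h1 := hle hxK
    rw [sup_comm] at h1
    obtain ⟨k, hk⟩ : ∃ k, x ^ p ^ k ∈ R := by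
      obtain ⟨r, hr, o, ho, he⟩ := LargeSub.exists_mul_of_mem_sup
        ((hRK.trans hKE).trans hOn) (show x ∈ R ⊔ O by rw [sup_comm]; exact h1)
      have hoK : o ∈ O ⊓ K := Subgroup.mem_inf.2 ⟨ho, by
        have e : o = r⁻¹ * x := by rw [he, inv_mul_cancel_left]
        rw [e]; exact mul_mem (inv_mem (hRK hr)) hxK⟩
      refine LargeSub.pow_mem_of_mem_sup ((LargeSub.isPGroup_pCoreOf W).to_inf_left (K := K))
        (inf_le_right.trans hRn) ?_
      rw [he]
      exact mul_mem (Subgroup.mem_sup_right hr) (Subgroup.mem_sup_left hoK)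
    exact LargeSub.mem_of_pow_mem_of_coprime hk hc
  have hperfK : ⁅K, K⁆ = K := by
    have hle : ⁅K, K⁆ ≤ K := K.commutator_le_self
    refine le_antisymm hle (hstrip _ hle (Subgroup.normalizer_commutator_ge_left K K) ?_)
    have hKD : K ≤ ⁅K, K⁆ ⊔ C := by
      have h1 : img K ≤ img ⁅K, K⁆ := by
        show img K ≤ LargeSub.secImg E _ ⁅K, K⁆
        rw [LargeSub.secImg_commutator hKE hKE]
        show img K ≤ ⁅img K, img K⁆
        rw [hKeq, hperf]
      exact hCmap ▸ (LargeSub.secImg_le_iff hKE (hle.trans hKE)).1 h1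
    calc K = ⁅K, Q⁆ := hKQ.symm
      _ ≤ ⁅K, K⁆ ⊔ O := by
        rw [Subgroup.commutator_le]
        intro k hk q hq
        obtain ⟨d, hd, c, hc, hkd⟩ := LargeSub.exists_mul_of_mem_sup ((hle.trans hKE).trans hEC) (hKD hk)
        have e : ⁅k, q⁆ = d * ⁅c, q⁆ * d⁻¹ * (d * (q * d⁻¹ * q⁻¹)) := by
          rw [hkd]; simp only [commutatorElement_def]; group
        rw [e]
        refine mul_mem (Subgroup.mem_sup_right ?_) (Subgroup.mem_sup_left (mul_mem hd ?_))
        · refine (Subgroup.mem_normalizer_iff.1 (hOn (hle.trans hKE hd)) _).1 ?_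
          rw [← commutatorElement_inv]
          exact inv_mem (hWC' (Subgroup.commutator_mem_commutator (hQW hq) hc))
        · refine (Subgroup.mem_normalizer_iff.1 ?_ _).1 (inv_mem hd)
          have hn' : E ≤ Subgroup.normalizer (⁅K, K⁆ : Subgroup G) := fun g hg => by
            apply LargeSub.mem_normalizer_of_conj_le
            rw [Subgroup.map_commutator, LargeSub.conj_eq_of_mem_normalizer (hKn hg)]
          exact hn' (hQE hq)
  have hpart3 : (Cfsg.pResidual p ↥K).map K.subtype = K := by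
    refine le_antisymm (Subgroup.map_subtype_le _) ?_
    conv_lhs => rw [hEr]
    rw [LargeSub.pResidual_map_le_iff]
    exact fun x hx hc => LargeSub.mem_pResidual_map (hEr ▸ LargeSub.mem_pResidual_map hx hc) hc
  haveI : Group.IsPerfect ↥K := Subgroup.isPerfect_iff.mpr hperfK
  have hqK : Cfsg.IsQuasisimple (↥K ⧸ CU.subgroupOf K) := by
    let f : ↥K →* ↥(img P) := (π.comp (Subgroup.inclusion hKE)).codRestrict (img P)
      (fun k => hKbP ⟨⟨(k : G), hKE k.2⟩, k.2, rfl⟩)
    have hf : Function.Surjective f := by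
      rintro ⟨y, hy⟩
      rw [← hKeq] at hy
      obtain ⟨z, hz, hzy⟩ := hy
      exact ⟨⟨z, hz⟩, Subtype.ext hzy⟩
    have hker : f.ker = CU.subgroupOf K := by
      ext k
      rw [MonoidHom.mem_ker, ← Subtype.val_inj]
      show π (Subgroup.inclusion hKE k) = 1 ↔ _
      rw [hπ, QuotientGroup.mk'_apply, QuotientGroup.eq_one_iff, Subgroup.mem_subgroupOf,
        Subgroup.mem_subgroupOf, Subgroup.coe_inclusion]
    exact Components.isQuasisimple_of_mulEquiv ((QuotientGroup.quotientKerEquivOfSurjective f hf).symm.trans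
      (QuotientGroup.quotientMulEquivOfEq hker)) hqs
  have hOKn : K ≤ Subgroup.normalizer (O : Set G) := hKE.trans hOn
  refine ⟨hpart1, hperfK, hpart3, hqK, ?_, fun Y hYE hYp hYC => ?_⟩
  · have hle : Cfsg.pCore p ↥K ≤ CU.subgroupOf K := by
      intro k hk
      have h1 : (k : G) ∈ Cfsg.pCoreOf p K := ⟨k, hk, rfl⟩
      haveI : (img (Cfsg.pCoreOf p K)).Normal := LargeSub.secImg_normal
        ((LargeSub.pCoreOf_le K).trans hKE) (hKn.trans (LargeSub.normalizer_le_normalizer_pCoreOf p K))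
      have h2 : img (Cfsg.pCoreOf p K) = ⊥ := le_bot_iff.1 (hred ▸
        Thompson.le_pCore inferInstance (LargeSub.isPGroup_secImg (LargeSub.isPGroup_pCoreOf K)))
      have h3 := (LargeSub.secImg_eq_bot_iff ((LargeSub.pCoreOf_le K).trans hKE)).1 h2 h1
      rw [hCmap] at h3
      exact (Subgroup.mem_inf.1 h3).2
    refine LargeSub.isQuasisimple_of_central_quotient
      (QuotientGroup.map _ (CU.subgroupOf K) (MonoidHom.id _) hle) ?_ hqK ?_
    · exact fun y => by
        obtain ⟨k, rfl⟩ := QuotientGroup.mk'_surjective _ y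
        exact ⟨QuotientGroup.mk' _ k, rfl⟩
    · intro y hy
      obtain ⟨k, rfl⟩ := QuotientGroup.mk'_surjective _ y
      have hkC : k ∈ CU.subgroupOf K := by
        rw [MonoidHom.mem_ker] at hy
        exact (QuotientGroup.eq_one_iff _).1 hy
      rw [Subgroup.mem_center_iff]
      intro z
      obtain ⟨l, rfl⟩ := QuotientGroup.mk'_surjective _ z
      rw [← commutatorElement_eq_one_iff_mul_comm, ← map_commutatorElement, QuotientGroup.mk'_apply,
        QuotientGroup.eq_one_iff]
      have hc : ((⁅l, k⁆ : ↥K) : G) ∈ O ⊓ K := Subgroup.mem_inf.2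
        ⟨hWC' (Subgroup.commutator_mem_commutator (hKW l.2) (Subgroup.mem_inf.2 ⟨hKE k.2, hkC⟩)),
          (⁅l, k⁆ : ↥K).2⟩
      obtain ⟨w, hw, hwe⟩ := LargeSub.pCoreOf_inf_le hKW hc
      rw [← show w = ⁅l, k⁆ from Subtype.ext hwe]
      exact hw
  · set R := ⁅K, Y⁆ with hR
    have hRK : R ≤ K := LargeSub.commutator_le_left_of_le_normalizer (hYE.trans hKn)
    refine le_antisymm hRK (hstrip R hRK (Subgroup.normalizer_commutator_ge_left K Y) ?_)
    have hKR : K ≤ R ⊔ C := by
      have hRb : img R = ⁅img K, img Y⁆ := LargeSub.secImg_commutator hKE hYE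
      rcases hdich (img R) (LargeSub.secImg_mono (hRK.trans hKP)) (by
          rw [hRb, ← hKeq]; exact Subgroup.normalizer_commutator_ge_left _ _) with h | h
      · exact hCmap ▸ (LargeSub.secImg_le_iff hKE (hRK.trans hKE)).1 (hKbP.trans h)
      · exfalso
        apply hYC
        refine (hcentP Y hYE hYp ?_).trans inf_le_right
        refine Components.commutator_eq_bot_of_perfect hperf ?_
        rw [Subgroup.commutator_comm (img Y) (img P), ← hKeq, ← hRb, hKeq]
        exact h
    conv_lhs => rw [← hperfK]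
    rw [Subgroup.commutator_le]
    intro x hx y hy
    obtain ⟨r, hr, c, hc, rfl⟩ := LargeSub.exists_mul_of_mem_sup ((hRK.trans hKE).trans hEC) (hKR hx)
    have e : ⁅r * c, y⁆ = r * ⁅c, y⁆ * r⁻¹ * (r * (y * r⁻¹ * y⁻¹)) := by
      simp only [commutatorElement_def]; group
    rw [e]
    refine mul_mem (Subgroup.mem_sup_right ?_) (Subgroup.mem_sup_left (mul_mem hr ?_))
    · refine (Subgroup.mem_normalizer_iff.1 (hOKn (hRK hr)) _).1 ?_
      rw [← commutatorElement_inv]
      exact inv_mem (hWC' (Subgroup.commutator_mem_commutator (hKW hy) hc))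
    · exact (Subgroup.mem_normalizer_iff.1 (Subgroup.normalizer_commutator_ge_left K Y hy) _).1
        (inv_mem hr)

end Cfsg.Agent.S2860
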