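import Cfsg.Statements.S2861
import Cfsg.Agent.FrakL82.Member

set_option autoImplicit false
set_option linter.style.haveILetI false
open Cfsg

namespace Cfsg.Agent.S2861

open Cfsg.Agent.FrakL82 Subgroup

/-- Standing hypotheses: G a finite group, S a Sylow p-subgroup, Q a nontrivial large p-subgroup of G contained in S, M a subgroup containing S with the basic property (M ∈ 𝔐_G(S)); Y_M the largest p-reduced normal subgroup of M and M† = M·C_G(Y_M). Let L ∈ 𝔏_G(Y_M) (L ∈ 𝔏_G(Y_M): Y_M ≤ L; O_p(L) is the normal closure in L of Y_M ∩ O_p(L) and normalizes Y_M; L is Y_M-minimal of characteristic p with N_L(Y_M) its unique maximal subgroup over Y_M; and L/O_p(L) ≅ SL₂(q) with q = |Y_M : Y_M ∩ O_p(L)|, or p = 2 and L/O_p(L) is a Suzuki group Sz(q) or dihedral of order 2r, r an odd prime) and A = O_p(L). Then Y_M·A/A is the unique nontrivial elementary abelian normal p-subgroup of N_L(Y_M)/A. -/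
theorem result {G : Type*} [Group G] [Finite G] {p : ℕ} [Fact p.Prime] (S : Sylow p G) (Q : Subgroup G) (hQp : IsPGroup p ↥Q) (hQ1 : Q ≠ ⊥) (hQS : Q ≤ (S : Subgroup G)) (hQ : Cfsg.IsLarge Q) (M : Subgroup G) (hSM : (S : Subgroup G) ≤ M) (hM : Cfsg.IsInFrakM p M) (L : Subgroup G) (hL : Cfsg.IsInFrakL p M L) (NL : Subgroup G) (hNL : NL = L ⊓ Subgroup.normalizer (((Cfsg.largestPReducedOf p M) : Subgroup G) : Set G)) [hn : (((Cfsg.pCoreOf p L)).subgroupOf NL).Normal] : let Ybar : Subgroup (↥NL ⧸ ((Cfsg.pCoreOf p L)).subgroupOf NL) := (((Cfsg.largestPReducedOf p M)).subgroupOf NL).map (QuotientGroup.mk' (((Cfsg.pCoreOf p L)).subgroupOf NL)); Ybar ≠ ⊥ ∧ Ybar.Normal ∧ Cfsg.IsElementaryAbelian p Ybar ∧ ∀ (V : Subgroup (↥NL ⧸ ((Cfsg.pCoreOf p L)).subgroupOf NL)), V.Normal → Cfsg.IsElementaryAbelian p V → V ≠ ⊥ → V = Ybar := by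
  intro Ybar
  haveI hAn : (pCore p ↥L).Normal := Subgroup.sSup_normal _ fun _ hN => hN.1
  have hYe := LargeSub.isElementaryAbelian_largestPReducedOf (p := p) M
  have hYL : largestPReducedOf p M ≤ L := hL.1
  have hle : NL ≤ L := hNL ▸ inf_le_left
  have hYN : largestPReducedOf p M ≤ NL := hNL ▸ le_inf hYL le_normalizer
  set N₀ := (pCoreOf p L).subgroupOf NL with hN₀
  set ψ : ↥NL →* ↥L ⧸ pCore p ↥L := (QuotientGroup.mk' (pCore p ↥L)).comp (Subgroup.inclusion hle)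
  have hker : ∀ x : ↥NL, ψ x = 1 ↔ x ∈ N₀ := fun x => by
    show QuotientGroup.mk' (pCore p ↥L) (Subgroup.inclusion hle x) = 1 ↔ _
    rw [QuotientGroup.mk'_apply, QuotientGroup.eq_one_iff]
    constructor
    · exact fun h => ⟨_, h, rfl⟩
    · rintro ⟨y, hy, hyx⟩
      rwa [show Subgroup.inclusion hle x = y from Subtype.ext hyx.symm]
  set j : ↥NL ⧸ N₀ →* ↥L ⧸ pCore p ↥L := QuotientGroup.lift N₀ ψ fun x hx => (hker x).2 hx
  have hj : Function.Injective j := (injective_iff_map_eq_one j).2 fun a ha => by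
    obtain ⟨x, rfl⟩ := QuotientGroup.mk'_surjective N₀ a
    exact (QuotientGroup.eq_one_iff x).2 ((hker x).1 ha)
  have hjY : Ybar.map j = rootImage p M L := by
    ext k
    constructor
    · rintro ⟨_, ⟨y, hy, rfl⟩, rfl⟩
      exact ⟨⟨y, hYL hy⟩, hy, rfl⟩
    · rintro ⟨y, hy, rfl⟩
      exact ⟨_, ⟨⟨y, hYN hy⟩, hy, rfl⟩, rfl⟩
  refine ⟨fun h => rootImage_ne_bot hL (by rw [← hjY, h, Subgroup.map_bot]), ?_, ?_, ?_⟩
  · refine Normal.map ⟨fun y hy g => ?_⟩ _ (QuotientGroup.mk'_surjective N₀)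
    exact (mem_normalizer_iff.1 (mem_inf.1 (hNL.le g.2)).2 (y : G)).1 hy
  · haveI := hYe.1
    refine ⟨Subgroup.map_isMulCommutative _ _, ?_⟩
    rintro _ ⟨y, hy, rfl⟩
    rw [← map_pow, show y ^ p = 1 from Subtype.ext (by simpa using hYe.2 _ hy), map_one]
  · intro V hV hVe hV1
    refine map_injective hj ((unique_rootImage hL (V.map j) ?_ ?_ ?_ ?_).trans hjY.symm)
    · rintro _ ⟨v, hv, rfl⟩
      rw [← map_pow, hVe.2 v hv, map_one]
    · exact fun h => hV1 ((Subgroup.map_eq_bot_iff_of_injective _ hj).1 h)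
    · rintro _ ⟨v, -, rfl⟩
      obtain ⟨x, rfl⟩ := QuotientGroup.mk'_surjective N₀ v
      refine le_normalizer_map _ ⟨Subgroup.inclusion hle x, ?_, rfl⟩
      rw [SetLike.mem_coe, mem_normalizer_iff]
      intro w
      exact mem_normalizer_iff.1 (mem_inf.1 (hNL.le x.2)).2 w.1
    · intro X hX hne x hx
      obtain ⟨z, rfl⟩ := QuotientGroup.mk'_surjective (pCore p ↥L) x
      have hz : (z : G) ∈ NL := hNL.ge (mem_normalizer_of_proper hL hX hne hx)
      refine le_normalizer_map j ⟨QuotientGroup.mk' N₀ ⟨z, hz⟩, ?_, rfl⟩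
      rw [SetLike.mem_coe, mem_normalizer_iff]
      intro w
      refine ⟨fun hw => hV.conj_mem w hw _, fun hw => ?_⟩
      simpa [mul_assoc] using hV.conj_mem _ hw (QuotientGroup.mk' N₀ ⟨z, hz⟩)⁻¹

end Cfsg.Agent.S2861
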