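import Cfsg.Statements.S2863
import Cfsg.Agent.LargeSub.Reduced
import Cfsg.Agent.FrakL82.SL
import Cfsg.Agent.FrakL82.Sz
import Cfsg.Agent.Lib.RankOne.SzBridge

set_option autoImplicit false
set_option linter.style.haveILetI false
open Cfsg

namespace Cfsg.Agent.S2863

open Cfsg.Agent.FrakL82 Subgroup

/-- Standing hypotheses: G a finite group, S a Sylow p-subgroup, Q a nontrivial large p-subgroup of G contained in S, M a subgroup containing S with the basic property (M ∈ 𝔐_G(S)); Y_M the largest p-reduced normal subgroup of M and M† = M·C_G(Y_M). Let L ∈ 𝔏_G(Y_M) (L ∈ 𝔏_G(Y_M): Y_M ≤ L; O_p(L) is the normal closure in L of Y_M ∩ O_p(L) and normalizes Y_M; L is Y_M-minimal of characteristic p with N_L(Y_M) its unique maximal subgroup over Y_M; and L/O_p(L) ≅ SL₂(q) with q = |Y_M : Y_M ∩ O_p(L)|, or p = 2 and L/O_p(L) is a Suzuki group Sz(q) or dihedral of order 2r, r an odd prime), A = O_p(L), and C = C_{Y_M}(L). Then every element h of L whose order is not a power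 of p acts without nontrivial fixed points on A/C: for a ∈ A, hah⁻¹a⁻¹ ∈ C implies a ∈ C. -/
theorem result {G : Type*} [Group G] [Finite G] {p : ℕ} [Fact p.Prime] (S : Sylow p G) (Q : Subgroup G) (hQp : IsPGroup p ↥Q) (hQ1 : Q ≠ ⊥) (hQS : Q ≤ (S : Subgroup G)) (hQ : Cfsg.IsLarge Q) (M : Subgroup G) (hSM : (S : Subgroup G) ≤ M) (hM : Cfsg.IsInFrakM p M) (L : Subgroup G) (hL : Cfsg.IsInFrakL p M L) (h : G) (hh : h ∈ L) (hnp : ¬ ∃ k : ℕ, orderOf h = p ^ k) : ∀ a ∈ (Cfsg.pCoreOf p L), h * a * h⁻¹ * a⁻¹ ∈ (Cfsg.largestPReducedOf p M) ⊓ Subgroup.centralizer ((L : Subgroup G) : Set G) → a ∈ (Cfsg.largestPReducedOf p M) ⊓ Subgroup.centralizer ((L : Subgroup G) : Set G) := by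
  classical
  obtain ⟨hYL, hgen, hnorm, hmin, hchar, ⟨-, hmax⟩, hiso⟩ := hL
  have hYe := LargeSub.isElementaryAbelian_largestPReducedOf (p := p) M
  have hYp := LargeSub.isPGroup_largestPReducedOf (p := p) M
  generalize largestPReducedOf p M = Y at hYL hgen hnorm hmin hmax hiso hYe hYp ⊢
  set Y' : Subgroup ↥L := Y.subgroupOf L with hY'
  set A' : Subgroup ↥L := pCore p ↥L
  haveI hAn : A'.Normal := Subgroup.sSup_normal _ fun _ hN => hN.1
  have hAp : IsPGroup p A' := Thompson.isPGroup_pCore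
  have hAof : (pCoreOf p L).subgroupOf L = A' :=
    comap_map_eq_self_of_injective L.subtype_injective A'
  have hcomm : ∀ x ∈ Y', ∀ y ∈ Y', x * y = y * x := fun x hx y hy => Subtype.ext (by
    haveI := hYe.1
    exact setLike_mul_comm (s := Y) hx hy)
  have hY'p : IsPGroup p Y' := fun x => by
    obtain ⟨k, hk⟩ := hYp ⟨_, x.2⟩
    refine ⟨k, Subtype.ext (Subtype.ext ?_)⟩
    simpa using congrArg Subtype.val hk
  have hset : FrakL82.Setup p Y' A' := by
    refine ⟨hcomm, hY'p, hAp, ?_, ?_, hmin.1, ?_, hchar⟩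
    · intro x hx
      rw [mem_normalizer_iff]
      intro z
      exact mem_normalizer_iff.1 (hnorm ⟨x, hx, rfl⟩) z.1
    · refine map_injective L.subtype_injective ?_
      refine hgen.trans ?_
      rw [show ((Y ⊓ pCoreOf p L).subgroupOf L) = Y' ⊓ A' by rw [← hAof]; exact comap_inf _ _ _]
    · intro X hX hne x hx
      have hlt : X.map L.subtype < L := lt_of_le_of_ne (map_subtype_le X) fun he => hne <|
        map_injective L.subtype_injective (by rw [he, ← MonoidHom.range_eq_map, Subgroup.range_subtype])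
      have := hmax (X.map L.subtype) (fun y hy => ⟨⟨y, hYL hy⟩, hX hy, rfl⟩) hlt ⟨x, hx, rfl⟩
      rw [mem_normalizer_iff]
      intro z
      exact mem_normalizer_iff.1 (mem_inf.1 this).2 z.1
  set C' : Subgroup ↥L := Y' ⊓ center ↥L with hC'
  haveI hCn : C'.Normal := ⟨fun x hx g => by
    rw [show g * x * g⁻¹ = x by rw [mem_center_iff.1 hx.2 g, mul_inv_cancel_right]]; exact hx⟩
  have hCmem : ∀ x : ↥L, x ∈ C' ↔ (x : G) ∈ Y ⊓ centralizer (L : Set G) := fun x => by
    constructor
    · exact fun hx => mem_inf.2 ⟨hx.1, mem_centralizer_iff.2 fun l hl =>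
        congrArg Subtype.val (mem_center_iff.1 hx.2 ⟨l, hl⟩)⟩
    · exact fun hx => mem_inf.2 ⟨(mem_inf.1 hx).1, mem_center_iff.2 fun g =>
        Subtype.ext (mem_centralizer_iff.1 (mem_inf.1 hx).2 g g.2)⟩
  -- properties of the image of `Y`
  set K : Subgroup (↥L ⧸ A') := Y'.map (QuotientGroup.mk' A') with hK
  have hKp : IsPGroup p K := hY'p.map _
  have hKpow : ∀ k ∈ K, k ^ p = 1 := by
    rintro _ ⟨y, hy, rfl⟩
    rw [← map_pow, show y ^ p = 1 from Subtype.ext (by simpa using hYe.2 _ hy), map_one]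
  have hKcard : Nat.card K = (Y ⊓ pCoreOf p L).relIndex Y := by
    have h1 : A'.relIndex Y' = Nat.card K := by
      conv_lhs => rw [← QuotientGroup.ker_mk' A']
      exact Subgroup.relIndex_ker (K := Y') (QuotientGroup.mk' A')
    rw [← h1, inf_relIndex_left, ← hAof, hY', Subgroup.relIndex_subgroupOf hYL]
  have hKtop : normalClosure (K : Set (↥L ⧸ A')) = ⊤ := by
    rw [hK, coe_map, ← map_normalClosure _ _ (QuotientGroup.mk'_surjective A'), hset.top,
      map_top_of_surjective _ (QuotientGroup.mk'_surjective A')]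
  have htwo : p = 2 → Nat.card K = 2 → ∀ r : ℕ, r.Prime → r ≠ p → ∀ x : ↥L ⧸ A', orderOf x = r →
      FrakL82.IsGood p K x := by
    rintro rfl hc r hr hr2 x hx
    refine FrakL82.good_of_card_two hc ?_ ?_ r hr hr2 x hx
    · intro N hN hNp
      have hcomap : IsPGroup 2 (N.comap (QuotientGroup.mk' A')) := by
        refine hNp.comap_of_ker_isPGroup _ ?_
        rw [QuotientGroup.ker_mk']; exact hAp
      have hle : N.comap (QuotientGroup.mk' A') ≤ A' := le_sSup ⟨hN.comap _, hcomap⟩
      refine (eq_bot_iff_forall N).2 fun n hn => ?_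
      obtain ⟨z, rfl⟩ := QuotientGroup.mk'_surjective A' n
      exact (QuotientGroup.eq_one_iff z).2 (hle hn)
    · intro X hX hne x hx'
      obtain ⟨z, rfl⟩ := QuotientGroup.mk'_surjective A' x
      have hz : z ∈ normalizer (Y' : Set ↥L) := hset.max (X.comap (QuotientGroup.mk' A'))
        (fun y hy => hX ⟨y, hy, rfl⟩) (fun he => hne (by
          rw [← map_comap_eq_self_of_surjective (QuotientGroup.mk'_surjective A') X, he,
            map_top_of_surjective _ (QuotientGroup.mk'_surjective A')])) hx'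
      exact le_normalizer_map _ ⟨z, hz, rfl⟩
  have hgood : ∀ r : ℕ, r.Prime → r ≠ p → ∀ x : ↥L ⧸ A', orderOf x = r →
      FrakL82.IsGood p K x := by
    rcases hiso with ⟨F, _, _, hq, ⟨e⟩⟩ | ⟨hp2, F, _, _, m, hF, hq, ⟨e⟩⟩ | ⟨hp2, r', hr', hr'2, ⟨e⟩⟩
    · intro r hr hrp x hx
      rw [← hKcard] at hq
      have hF1 : 1 < Fintype.card F := Fintype.one_lt_card
      obtain ⟨n, hn⟩ := IsPGroup.iff_card.1 hKp
      rw [hn] at hq
      have hn1 : n ≠ 0 := fun h0 => by rw [h0, pow_zero] at hq; omega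
      haveI : CharP F p := by
        haveI := Nat.pos_of_ne_zero hn1
        exact charP_of_card_eq_prime_pow hq
      refine FrakL82.IsGood.of_equiv e (FrakL82.SL.good (hKp.map _) ?_ hr hrp ?_)
      · rw [← Nat.card_congr (K.equivMapOfInjective _ e.injective).toEquiv, hn,
          Nat.card_eq_fintype_card, hq]
      · rw [MulEquiv.orderOf_eq, hx]
    · subst hp2
      rw [← hKcard] at hq
      rcases Nat.eq_zero_or_pos m with hm | hm
      · subst hm
        exact htwo rfl (by rw [← hq, hF]; norm_num)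
      intro r hr hrp x hx
      let e' : ↥L ⧸ A' ≃* Cfsg.Sz F m := e.trans (RankOne.SzBridge.szEquiv hF hm).symm
      refine FrakL82.IsGood.of_equiv e' (FrakL82.sz_good hF hm ?_ ?_ hr hrp ?_)
      · rintro _ ⟨k, hk, rfl⟩
        rw [← map_pow, hKpow k hk, map_one]
      · intro hbot
        have hc : Nat.card (K.map e'.toMonoidHom) = 1 := by rw [hbot, card_bot]
        rw [← Nat.card_congr (K.equivMapOfInjective _ e'.injective).toEquiv, ← hq, hF] at hc
        exact absurd hc (Nat.one_lt_two_pow (by omega)).ne'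
      · rw [MulEquiv.orderOf_eq, hx]
    · subst hp2
      refine htwo rfl ?_
      have hcardQ : Nat.card (↥L ⧸ A') = 2 * r' := by
        rw [Nat.card_congr e.toEquiv, DihedralGroup.nat_card]
      obtain ⟨n, hn⟩ := IsPGroup.iff_card.1 hKp
      have hdvd : 2 ^ n ∣ 2 * r' := hn ▸ hcardQ ▸ card_subgroup_dvd_card K
      have hn1 : n ≤ 1 := by
        by_contra hcon
        have h4 : 2 ^ 2 ∣ 2 * r' := (pow_dvd_pow 2 (by omega)).trans hdvd
        have h2r : 2 ∣ r' := (Nat.mul_dvd_mul_iff_left (by norm_num : 0 < 2)).1 (by simpa using h4)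
        exact hr'2 ((Nat.prime_dvd_prime_iff_eq Nat.prime_two hr').1 h2r).symm
      interval_cases n
      · exfalso
        have hbot : K = ⊥ := eq_bot_of_card_eq K (by rw [hn]; norm_num)
        rw [hbot] at hKtop
        have h1 : normalClosure ((⊥ : Subgroup (↥L ⧸ A')) : Set (↥L ⧸ A')) ≤ ⊥ :=
          normalClosure_le_normal le_rfl
        rw [hKtop] at h1
        have h2 : Nat.card (↥L ⧸ A') = 1 := by
          rw [← Subgroup.card_top, le_bot_iff.1 h1, card_bot]
        have := hr'.two_le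
        omega
      · simpa using hn
  intro a ha hc
  obtain ⟨a', ha', rfl⟩ := ha
  refine (hCmem a').1 (FrakL82.free hset hC' hgood (x := ⟨h, hh⟩) ?_ ha' ?_)
  · rintro ⟨k, hk⟩
    exact hnp ⟨k, by rw [← hk]; exact (Subgroup.orderOf_mk _ _).symm⟩
  · have h1 : (⟨h, hh⟩ : ↥L) * a' * (⟨h, hh⟩ : ↥L)⁻¹ * a'⁻¹ ∈ C' := (hCmem _).2 (by simpa using hc)
    have h2 := (QuotientGroup.eq_one_iff _).2 h1
    change QuotientGroup.mk' C' _ = 1 at h2
    simp only [map_mul, map_inv] at h2
    exact mul_inv_eq_iff_eq_mul.1 (mul_inv_eq_one.1 h2)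

end Cfsg.Agent.S2863
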