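import Cfsg.Statements.S2864
import Cfsg.Agent.LargeSub.FrakH

set_option autoImplicit false
open Cfsg

namespace Cfsg.Agent.S2864

open Subgroup LargeSub in
theorem key {G : Type*} [Group G] [Finite G] {p : ℕ} [Fact p.Prime] (S : Sylow p G)
    (Q : Subgroup G) (hQp : IsPGroup p ↥Q) (hQS : Q ≤ (S : Subgroup G)) (hQ : IsLarge Q)
    (M : Subgroup G) (hSM : (S : Subgroup G) ≤ M) (hM : IsInFrakM p M) (I : Subgroup G)
    (hI1 : I ≠ ⊥) (hIp : IsPGroup p ↥I) (hIM : I ≤ M ∧ M ≤ normalizer (I : Set G))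
    (Y : Subgroup G)
    (hY : Y ≤ pCoreOf p (M ⊔ centralizer (largestPReducedOf p M : Set G)))
    (L : Subgroup G) (hYL : Y ≤ L) (A : Subgroup G) (hAp : IsPGroup p ↥A)
    (hAL : A ≤ L ∧ L ≤ normalizer (A : Set G)) (hIA : I ≤ A) (_hAM : A ≤ M)
    (hc : ⁅Y, A⁆ ≤ ⁅I, A⁆) : Y ≤ pCoreOf p L := by
  have h : Std p S Q M := ⟨hQp, hQS, hQ, hSM, hM⟩
  set D := M ⊔ centralizer (largestPReducedOf p M : Set G) with hD
  set C := L ⊓ centralizer (A : Set G) with hC
  have hCD : C ≤ D :=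
    (inf_le_right.trans ((centralizer_le hIA).trans (centralizer_le_normalizer _))).trans
      (h.M_mem_normalizer_mem hIp hI1 hIM.2)
  have hLC : L ≤ normalizer (C : Set G) :=
    le_normalizer_inf le_normalizer (hAL.2.trans (normalizer_le_normalizer_centralizer A))
  have hLA' : L ≤ normalizer (⁅A, A⁆ : Subgroup G) := fun g hg => by
    apply mem_normalizer_of_conj_eq
    rw [map_commutator, conj_eq_of_mem_normalizer (hAL.2 hg)]
  -- the kernel of the action of `L` on `A / [A, A]`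
  let K : Subgroup G :=
    { carrier := {l | l ∈ L ∧ ∀ a ∈ A, l * a * l⁻¹ * a⁻¹ ∈ ⁅A, A⁆}
      one_mem' := ⟨one_mem _, fun a _ => by simp⟩
      mul_mem' := by
        rintro x y ⟨hx, hx'⟩ ⟨hy, hy'⟩
        refine ⟨mul_mem hx hy, fun a ha => ?_⟩
        have h1 := hx' _ ((mem_normalizer_iff.1 (hAL.2 hy) a).1 ha)
        have h2 := mul_mem h1 (hy' a ha)
        simpa [mul_assoc] using h2
      inv_mem' := by
        rintro x ⟨hx, hx'⟩
        refine ⟨inv_mem hx, fun a ha => ?_⟩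
        have h1 := hx' _ ((mem_normalizer_iff.1 (hAL.2 (inv_mem hx)) a).1 ha)
        have h2 := inv_mem h1
        simpa [mul_assoc] using h2 }
  have hKL : K ≤ L := fun x hx => hx.1
  have hLK : L ≤ normalizer (K : Set G) := fun g hg => by
    apply mem_normalizer_of_conj_le
    rintro _ ⟨x, ⟨hx, hx'⟩, rfl⟩
    refine ⟨mul_mem (mul_mem hg hx) (inv_mem hg), fun a ha => ?_⟩
    have h1 := hx' _ ((mem_normalizer_iff''.1 (hAL.2 hg) a).1 ha)
    have h2 := (mem_normalizer_iff.1 (hLA' hg) _).1 h1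
    simpa [mul_assoc] using h2
  have hKC : ∀ x ∈ K, ∃ k, x ^ p ^ k ∈ C := by
    intro x hx
    obtain ⟨k, hk⟩ := exists_coprime_pow (p := p) x
    have hxk : x ^ p ^ k ∈ K := pow_mem hx _
    exact ⟨k, hKL hxk, centralizes_of_centralizes_mod_commutator hAp (hAL.2 (hKL hxk)) hk hxk.2⟩
  have hYK : Y ≤ K := fun y hy => ⟨hYL hy, fun a ha =>
    commutator_mono hIA le_rfl (hc (commutator_mem_commutator hy ha))⟩
  set P := pCoreOf p D ⊓ K with hP
  have hPp : IsPGroup p P := (isPGroup_pCoreOf D).to_inf_left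
  have hCP : C ≤ normalizer (P : Set G) :=
    le_normalizer_inf (hCD.trans (le_normalizer_pCoreOf p D)) ((inf_le_left.trans hLK))
  have hPC : P ≤ normalizer (C : Set G) := (inf_le_right.trans hKL).trans hLC
  have hcomm : ∀ x ∈ P, ∀ c ∈ C, x * c * x⁻¹ * c⁻¹ ∈ pCoreOf p L := by
    intro x hx c hc'
    refine pCoreOf_mono_of_normal (inf_le_left : C ≤ L) hLC ?_
    refine le_pCoreOf (N := P ⊓ C) inf_le_right (le_normalizer_inf hCP le_normalizer)
      hPp.to_inf_left ⟨?_, ?_⟩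
    · have h1 := mul_mem hx ((mem_normalizer_iff.1 (hCP hc') x⁻¹).1 (inv_mem hx))
      simpa [mul_assoc] using h1
    · exact C.mul_mem ((mem_normalizer_iff.1 (hPC hx) c).1 hc') (C.inv_mem hc')
  -- pass to `L / O_p(L)`
  set π := QuotientGroup.mk' (pCore p ↥L) with hπ
  haveI : (C.subgroupOf L).Normal := Subgroup.normal_subgroupOf_of_le_normalizer hLC
  haveI : (K.subgroupOf L).Normal := Subgroup.normal_subgroupOf_of_le_normalizer hLK
  haveI : ((C.subgroupOf L).map π).Normal :=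
    ‹(C.subgroupOf L).Normal›.map π (QuotientGroup.mk'_surjective _)
  haveI : ((K.subgroupOf L).map π).Normal :=
    ‹(K.subgroupOf L).Normal›.map π (QuotientGroup.mk'_surjective _)
  intro y hy
  have hyP : y ∈ P := ⟨hY hy, hYK hy⟩
  have hone : π ⟨y, hYL hy⟩ = 1 := by
    refine eq_one_of_central_ext (Z := (K.subgroupOf L).map π ⊓
      centralizer ((C.subgroupOf L).map π : Set (↥L ⧸ pCore p ↥L)))
      Thompson.pCore_quotient_pCore ((C.subgroupOf L).map π) ?_ ?_ ⟨⟨⟨y, hYL hy⟩, hYK hy, rfl⟩, ?_⟩ ?_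
    · rintro q ⟨⟨_, -⟩, hq2⟩
      rw [mem_centralizer_iff]
      rintro z ⟨-, hz⟩
      exact (mem_centralizer_iff.1 hz q hq2).symm
    · rintro _ ⟨⟨z, hz, rfl⟩, -⟩
      obtain ⟨k, hk⟩ := hKC z hz
      exact ⟨k, z ^ p ^ k, hk, map_pow π z _⟩
    · refine mem_centralizer_iff.2 ?_
      rintro _ ⟨c, hc', rfl⟩
      rw [← map_mul, ← map_mul, hπ, QuotientGroup.mk'_apply, QuotientGroup.mk'_apply,
        QuotientGroup.eq]
      have h1 := hcomm y⁻¹ (inv_mem hyP) (c : G)⁻¹ (inv_mem hc')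
      obtain ⟨r, hr, he⟩ := h1
      have e : ((c : ↥L) * ⟨y, hYL hy⟩)⁻¹ * (⟨y, hYL hy⟩ * c) = r := by
        apply Subtype.ext
        simp only [coe_subtype] at he
        simp [he, mul_assoc]
      rw [e]
      exact hr
    · obtain ⟨k, hk⟩ := exists_pow_prime_pow_eq_one hPp hyP
      refine ⟨k, ?_⟩
      rw [← map_pow, show (⟨y, hYL hy⟩ : ↥L) ^ p ^ k = 1 from Subtype.ext hk, map_one]
  exact ⟨⟨y, hYL hy⟩, (QuotientGroup.eq_one_iff (⟨y, hYL hy⟩ : ↥L)).1 hone, rfl⟩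


/-- Standing hypotheses: G a finite group, S a Sylow p-subgroup, Q a nontrivial large p-subgroup of G contained in S, M a subgroup containing S with the basic property (M ∈ 𝔐_G(S)); Y_M the largest p-reduced normal subgroup of M and M† = M·C_G(Y_M). Let I be a nontrivial normal p-subgroup of M and Y ≤ O_p(M†); let L be a subgroup of G containing Y and A a normal p-subgroup of L with I ≤ A ≤ M. If [Y, A] ≤ [I, A], then Y ≤ O_p(L). -/
theorem result {G : Type*} [Group G] [Finite G] {p : ℕ} [Fact p.Prime] (S : Sylow p G) (Q : Subgroup G) (hQp : IsPGroup p ↥Q) (hQ1 : Q ≠ ⊥) (hQS : Q ≤ (S : Subgroup G)) (hQ : Cfsg.IsLarge Q) (M : Subgroup G) (hSM : (S : Subgroup G) ≤ M) (hM : Cfsg.IsInFrakM p M) (I : Subgroup G) (hI1 : I ≠ ⊥) (hIp : IsPGroup p ↥I) (hIM : I ≤ M ∧ M ≤ Subgroup.normalizer ((I : Subgroup G) : Set G)) (Y : Subgroup G) (hY : Y ≤ (Cfsg.pCoreOf p (M ⊔ Subgroup.centralizer (((Cfsg.largestPReducedOf p M) : Subgroup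 G) : Set G)))) (L : Subgroup G) (hYL : Y ≤ L) (A : Subgroup G) (hAp : IsPGroup p ↥A) (hAL : A ≤ L ∧ L ≤ Subgroup.normalizer ((A : Subgroup G) : Set G)) (hIA : I ≤ A) (hAM : A ≤ M) (hc : ⁅Y, A⁆ ≤ ⁅I, A⁆) : Y ≤ (Cfsg.pCoreOf p L) := by
  exact key S Q hQp hQS hQ M hSM hM I hI1 hIp hIM Y hY L hYL A hAp hAL hIA hAM hc

end Cfsg.Agent.S2864
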