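import Cfsg.Statements.S2872
import Cfsg.Agent.Lib.Transfer.Residual
import Cfsg.Agent.Lib.PGroup.Basic
import Cfsg.Agent.LargeSub.Basic

set_option autoImplicit false
open Cfsg

namespace Cfsg.Agent.S2872

/-- Let S be a Sylow 2-subgroup of the finite group G. Then G has a proper normal subgroup of 2-power index (O²(G) ≠ G), or Ω₁(Z(S)) is contained in the Frattini subgroup of S, or N_G(S) acts nontrivially on Ω₁(Z(S)) by conjugation. -/
theorem result {G : Type*} [Group G] [Finite G] (S : Sylow 2 G) : Cfsg.pResidual 2 G ≠ ⊤ ∨ Cfsg.omegaOne 2 ((S : Subgroup G) ⊓ Subgroup.centralizer ((S : Subgroup G) : Set G)) ≤ (frattini ↥(S : Subgroup G)).map (S : Subgroup G).subtype ∨ ∃ g ∈ Subgroup.normalizer ((S : Subgroup G) : Set G), ∃ z ∈ Cfsg.omegaOne 2 ((S : Subgroup G) ⊓ Subgroup.centralizer ((S : Subgroup G) : Set G)), g * z * g⁻¹ ≠ z := by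
  classical
  haveI : Fact (Nat.Prime 2) := ⟨Nat.prime_two⟩
  set H : Subgroup G := (S : Subgroup G) with hH
  by_contra hcon
  push Not at hcon
  obtain ⟨hres, hle, hcent⟩ := hcon
  -- the involution and the maximal subgroup missing it
  obtain ⟨z, hzmem, hzΦ⟩ : ∃ z : G, z ∈ {x : G | x ∈ H ⊓ Subgroup.centralizer (H : Set G) ∧ x ^ 2 = 1} ∧
      z ∉ (frattini ↥H).map H.subtype := by
    by_contra h
    push Not at h
    exact hle ((Subgroup.closure_le _).mpr h)
  obtain ⟨⟨hzH, hzC⟩, hz2⟩ := hzmem
  have hzΩ : z ∈ Cfsg.omegaOne 2 (H ⊓ Subgroup.centralizer (H : Set G)) :=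
    Subgroup.subset_closure ⟨⟨hzH, hzC⟩, hz2⟩
  obtain ⟨M, hM, hzM⟩ : ∃ M : Subgroup ↥H, IsCoatom M ∧ (⟨z, hzH⟩ : ↥H) ∉ M := by
    by_contra h
    push Not at h
    apply hzΦ
    refine ⟨⟨z, hzH⟩, ?_, rfl⟩
    simp only [frattini, Order.radical, SetLike.mem_coe, Subgroup.mem_iInf]
    exact h
  have hMi : M.index = 2 := Cfsg.Agent.PGroup.index_eq_prime_of_isCoatom S.2 hM
  haveI hMn : M.Normal := Cfsg.Agent.PGroup.normal_of_isCoatom S.2 hM
  haveI : Fact (Nat.card (↥H ⧸ M)).Prime := ⟨by rw [← Subgroup.index_eq_card, hMi]; exact Nat.prime_two⟩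
  have hcyc : IsCyclic (↥H ⧸ M) := isCyclic_of_prime_card (p := Nat.card (↥H ⧸ M)) rfl
  let _ : CommGroup (↥H ⧸ M) :=
    { (inferInstance : Group (↥H ⧸ M)) with
      mul_comm := fun a b => (hcyc.isMulCommutative).is_comm.comm a b }
  let φ : ↥H →* ↥H ⧸ M := QuotientGroup.mk' _
  have hsq : ∀ a : ↥H ⧸ M, a ^ 2 = 1 := fun a => by
    have := pow_card_eq_one' (G := ↥H ⧸ M) (x := a)
    rwa [← Subgroup.index_eq_card, hMi] at this
  have hc1 : φ ⟨z, hzH⟩ ≠ 1 := fun h => hzM ((QuotientGroup.eq_one_iff _).mp h)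
  -- the transfer is trivial
  have htriv : MonoidHom.transfer φ z = (1 : ↥H ⧸ M) := by
    refine Cfsg.Agent.Transfer.eq_one_of_pResidual_eq_top hres (MonoidHom.transfer φ) ?_ z
    exact IsPGroup.of_card (n := 1) (by rw [← Subgroup.index_eq_card, hMi, pow_one])
  have hfix : ∀ q : G ⧸ H, z • q = q ↔ q.out⁻¹ * z * q.out ∈ H := by
    intro q
    conv_lhs => rw [← QuotientGroup.out_eq' q]
    rw [MulAction.Quotient.smul_mk, eq_comm, QuotientGroup.eq, smul_eq_mul, mul_assoc]
  let f : G ⧸ H → ↥H ⧸ M := fun q =>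
    if h : q.out⁻¹ * z * q.out ∈ H then φ ⟨_, h⟩ else 1
  let _ := H.fintypeQuotientOfFiniteIndex
  have hprod : MonoidHom.transfer φ z = ∏ q : G ⧸ H, f q := by
    rw [MonoidHom.transfer_eq_prod_quotient_orbitRel_zpowers_quot φ z,
      ← Finset.prod_fiberwise Finset.univ
        (Quotient.mk (MulAction.orbitRel (Subgroup.zpowers z) (G ⧸ H))) f]
    refine Finset.prod_congr rfl (fun o _ => ?_)
    have horb : ∀ x : G ⧸ H, Quotient.mk (MulAction.orbitRel (Subgroup.zpowers z) (G ⧸ H)) x = o →
        ∃ k : ℤ, z ^ k • o.out = x := by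
      intro x hx
      have hrel : (MulAction.orbitRel (Subgroup.zpowers z) (G ⧸ H)) x o.out :=
        Quotient.exact (hx.trans (Quotient.out_eq o).symm)
      obtain ⟨⟨_, k, rfl⟩, hw⟩ := hrel
      exact ⟨k, hw⟩
    by_cases hfx : z • o.out = o.out
    · have hper : Function.minimalPeriod (z • ·) o.out = 1 :=
        Function.minimalPeriod_eq_one_iff_isFixedPt.mpr hfx
      rw [Finset.prod_eq_single o.out]
      · simp only [f, dif_pos ((hfix _).mp hfx)]
        congr 1
        apply Subtype.ext
        simp only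
        rw [hper, pow_one]
      · intro x hx hne
        obtain ⟨k, hk⟩ := horb x (by simpa using hx)
        exfalso; apply hne
        rw [← hk]
        have : ∀ m : ℤ, z ^ m ∈ MulAction.stabilizer G o.out := fun m => Subgroup.zpow_mem _ hfx m
        exact this k
      · intro h; simp at h
    · have hper : Function.minimalPeriod (z • ·) o.out = 2 := by
        apply Function.minimalPeriod_eq_prime
        · show z • z • o.out = o.out
          rw [← mul_smul, ← sq, hz2, one_smul]
        · exact hfx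
      rw [Finset.prod_eq_one]
      · symm
        have : (⟨o.out.out⁻¹ * z ^ Function.minimalPeriod (z • ·) o.out * o.out.out,
            QuotientGroup.out_conj_pow_minimalPeriod_mem H z o.out⟩ : H) = 1 := by
          apply Subtype.ext
          simp only [hper, hz2, mul_one, inv_mul_cancel]; rfl
        rw [this, map_one]
      · intro x hx
        obtain ⟨k, hk⟩ := horb x (by simpa using hx)
        have hnx : ¬ z • x = x := by
          intro h; apply hfx
          rw [← hk, ← mul_smul, (Commute.self_zpow z k).eq, mul_smul] at h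
          exact smul_left_cancel _ h
        simp only [f, dif_neg (fun h => hnx ((hfix x).mpr h))]
  set c := φ ⟨z, hzH⟩ with hc
  -- `f` only takes the values `1` and `c`
  have hval : ∀ q, f q ≠ c → f q = 1 := by
    intro q hq
    by_contra h1
    apply hq
    obtain ⟨d, -, huniq⟩ := (Nat.card_eq_two_iff' (1 : ↥H ⧸ M)).mp
      (by rw [← Subgroup.index_eq_card, hMi])
    rw [huniq _ h1, huniq _ hc1]
  -- `f` is invariant under the Sylow subgroup
  have hinv : ∀ (s : ↥H) (q : G ⧸ H), f (s • q) = f q := by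
    intro s q
    obtain ⟨t, ht⟩ := QuotientGroup.mk_out_eq_mul H ((s : G) * q.out)
    have hq' : s • q = (((s : G) * q.out : G) : G ⧸ H) := by
      conv_lhs => rw [← QuotientGroup.out_eq' q]
      rfl
    have hzs : (s : G)⁻¹ * z * (s : G) = z := by
      rw [mul_assoc, ← Subgroup.mem_centralizer_iff.mp hzC _ s.2, inv_mul_cancel_left]
    have he : (s • q).out⁻¹ * z * (s • q).out = (t : G)⁻¹ * (q.out⁻¹ * z * q.out) * (t : G) := by
      rw [hq', ht]
      calc ((s : G) * q.out * (t : G))⁻¹ * z * ((s : G) * q.out * (t : G))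
          = (t : G)⁻¹ * (q.out⁻¹ * ((s : G)⁻¹ * z * (s : G)) * q.out) * (t : G) := by group
        _ = _ := by rw [hzs]
    by_cases h : q.out⁻¹ * z * q.out ∈ H
    · have h' : (s • q).out⁻¹ * z * (s • q).out ∈ H := by
        rw [he]; exact mul_mem (mul_mem (inv_mem t.2) h) t.2
      simp only [f, dif_pos h, dif_pos h']
      have : (⟨_, h'⟩ : ↥H) = t⁻¹ * ⟨_, h⟩ * t := Subtype.ext he
      rw [this, map_mul, map_mul, map_inv, mul_comm, mul_inv_cancel_left]
    · have h' : ¬ (s • q).out⁻¹ * z * (s • q).out ∈ H := by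
        intro hh
        apply h
        rw [he] at hh
        have := mul_mem (mul_mem t.2 hh) (inv_mem t.2)
        simpa [mul_assoc] using this
      simp only [f, dif_neg h, dif_neg h']
  -- every fixed coset has value `c`
  have hfixed : ∀ q : G ⧸ H, (∀ s : ↥H, s • q = q) → f q = c := by
    intro q hq
    have hn : q.out ∈ Subgroup.normalizer (H : Set G) := by
      have h1 : q.out⁻¹ ∈ Subgroup.normalizer (H : Set G) := by
        refine Cfsg.Agent.LargeSub.mem_normalizer_of_conj_le ?_
        rintro _ ⟨s, hs, rfl⟩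
        have := hq ⟨s, hs⟩
        conv_lhs at this => rw [← QuotientGroup.out_eq' q]
        conv_rhs at this => rw [← QuotientGroup.out_eq' q]
        have h2 := QuotientGroup.eq.mp this.symm
        simp only [MulEquiv.coe_toMonoidHom, MulAut.conj_apply, inv_inv]
        simpa [mul_assoc] using h2
      simpa using inv_mem h1
    have h3 := hcent q.out hn z hzΩ
    have h4 : q.out⁻¹ * z * q.out = z := by
      calc q.out⁻¹ * z * q.out = q.out⁻¹ * (q.out * z * q.out⁻¹) * q.out := by rw [h3]
        _ = z := by group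
    have h5 : q.out⁻¹ * z * q.out ∈ H := by rw [h4]; exact hzH
    simp only [f, dif_pos h5, hc]
    exact congrArg φ (Subtype.ext h4)
  -- parity
  let W := {q : G ⧸ H // f q = c}
  letI : MulAction ↥H W :=
    { smul := fun s w => ⟨s • w.1, by rw [hinv]; exact w.2⟩
      one_smul := fun w => Subtype.ext (one_smul _ _)
      mul_smul := fun s t w => Subtype.ext (mul_smul _ _ _) }
  have hW := S.2.card_modEq_card_fixedPoints W
  have hA := S.2.card_modEq_card_fixedPoints (G ⧸ H)
  have he : Nat.card (MulAction.fixedPoints ↥H W) = Nat.card (MulAction.fixedPoints ↥H (G ⧸ H)) :=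
    Nat.card_congr
      { toFun := fun w => ⟨w.1.1, fun s => congrArg Subtype.val (w.2 s)⟩
        invFun := fun q => ⟨⟨q.1, hfixed q.1 q.2⟩, fun s => Subtype.ext (q.2 s)⟩
        left_inv := fun w => rfl
        right_inv := fun q => rfl }
  rw [he] at hW
  have hodd : Nat.card W % 2 = 1 := by
    have h1 : ¬ 2 ∣ Nat.card (G ⧸ H) := by rw [← Subgroup.index_eq_card]; exact S.not_dvd_index
    have := hW.trans hA.symm
    unfold Nat.ModEq at this
    omega
  apply hc1
  have hfin : ∏ q : G ⧸ H, f q = c ^ Nat.card W := by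
    rw [← Finset.prod_filter_mul_prod_filter_not Finset.univ (fun q => f q = c) f,
      Finset.prod_congr rfl (fun q hq => (Finset.mem_filter.mp hq).2),
      Finset.prod_eq_one (fun q hq => hval q (Finset.mem_filter.mp hq).2), mul_one,
      Finset.prod_const, Nat.card_eq_fintype_card, Fintype.card_subtype]
  rw [hprod, hfin, ← Nat.div_add_mod (Nat.card W) 2, hodd, pow_succ, pow_mul, hsq, one_pow,
    one_mul] at htriv
  exact htriv

end Cfsg.Agent.S2872
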