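import Cfsg.Statements.S2873
import Cfsg.Agent.LargeSub.Basic
import Cfsg.Agent.Lib.Thompson.Cores

set_option autoImplicit false
open Cfsg

namespace Cfsg.Agent.S2873

theorem dihedral_facts (r : ℕ) [Fact r.Prime] (hr : r ≠ 2) :
    (∃ s : DihedralGroup r, orderOf s = 2) ∧
    (∀ s t : DihedralGroup r, orderOf s = 2 → orderOf t = 2 → ∃ n, n * s * n⁻¹ = t) ∧
    (∀ s ρ : DihedralGroup r, orderOf s = 2 → orderOf ρ = r → s * ρ * s = ρ⁻¹) := by
  haveI : NeZero r := ⟨(Fact.out : r.Prime).ne_zero⟩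
  have h2 : (2 : ZMod r) ≠ 0 := by
    intro h
    have h1 : ((2 : ℕ) : ZMod r) = 0 := by exact_mod_cast h
    rw [ZMod.natCast_eq_zero_iff] at h1
    exact hr ((Nat.prime_dvd_prime_iff_eq Fact.out Nat.prime_two).1 h1)
  have hs : ∀ s : DihedralGroup r, orderOf s = 2 → ∃ i, s = DihedralGroup.sr i := by
    intro s hs
    cases s with
    | r i =>
      exfalso
      have := pow_orderOf_eq_one (DihedralGroup.r i)
      rw [hs, pow_two, DihedralGroup.r_mul_r, DihedralGroup.one_def] at this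
      injection this with h
      rw [← two_mul, mul_eq_zero] at h
      rw [h.resolve_left h2, ← DihedralGroup.one_def, orderOf_one] at hs
      omega
    | sr i => exact ⟨i, rfl⟩
  refine ⟨⟨DihedralGroup.sr 0, DihedralGroup.orderOf_sr 0⟩, ?_, ?_⟩
  · intro s t h1 h3
    obtain ⟨i, rfl⟩ := hs s h1
    obtain ⟨j, rfl⟩ := hs t h3
    refine ⟨DihedralGroup.r ((i - j) / 2), ?_⟩
    rw [DihedralGroup.inv_r, DihedralGroup.r_mul_sr, DihedralGroup.sr_mul_r]
    congr 1
    field_simp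
    ring
  · intro s ρ h1 h3
    obtain ⟨i, rfl⟩ := hs s h1
    cases ρ with
    | r j =>
      rw [DihedralGroup.sr_mul_r, DihedralGroup.sr_mul_sr, DihedralGroup.inv_r]
      congr 1
      ring
    | sr j => rw [DihedralGroup.orderOf_sr] at h3; exact absurd h3.symm hr


/-- Let G be a finite group and r an odd prime such that G ⧸ O₂(G) is dihedral of order 2r, and let R be a Sylow r-subgroup of G with C_{O₂(G)}(R) = 1. Then N_G(R) is dihedral of order 2r; for any involution a of N_G(R), every involution of G outside O₂(G) is conjugate to a; and |C_{O₂(G)}(a)|² = |O₂(G)|. -/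
theorem result {G : Type*} [Group G] [Finite G] {r : ℕ} [Fact r.Prime] (hr : r ≠ 2) [hN : (Cfsg.pCore 2 G).Normal] (hquot : Nonempty (G ⧸ Cfsg.pCore 2 G ≃* DihedralGroup r)) (R : Sylow r G) (hC : Cfsg.pCore 2 G ⊓ Subgroup.centralizer ((R : Subgroup G) : Set G) = ⊥) : Nonempty (↥(Subgroup.normalizer ((R : Subgroup G) : Set G)) ≃* DihedralGroup r) ∧ ∀ a : G, a ∈ Subgroup.normalizer ((R : Subgroup G) : Set G) → orderOf a = 2 → (∀ b : G, orderOf b = 2 → b ∉ Cfsg.pCore 2 G → ∃ g : G, g * a * g⁻¹ = b) ∧ Nat.card ↥(Cfsg.pCore 2 G ⊓ Subgroup.centralizer ({a} : Set G)) ^ 2 = Nat.card ↥(Cfsg.pCore 2 G) := by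
  classical
  haveI : Fact (Nat.Prime 2) := ⟨Nat.prime_two⟩
  have hrp : r.Prime := Fact.out
  obtain ⟨e⟩ := hquot
  obtain ⟨⟨s₀, hs₀⟩, hconj, hinvert⟩ := dihedral_facts r hr
  set Q := Cfsg.pCore 2 G with hQ
  obtain ⟨k, hk⟩ := IsPGroup.iff_card.1 (Thompson.isPGroup_pCore (p := 2) (G := G))
  have hidx : Q.index = 2 * r := by
    rw [Subgroup.index_eq_card, Nat.card_congr e.toEquiv, DihedralGroup.nat_card]
  have hQR : Q ⊓ (R : Subgroup G) = ⊥ := by
    rw [inf_comm]
    refine Thompson.inf_eq_bot_of_isPGroup_of_coprime R.2 ?_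
    rw [hk]
    exact Nat.Coprime.pow_left _ (((Nat.coprime_primes Nat.prime_two hrp)).2 (Ne.symm hr))
  have hRdvd : Nat.card ↥(R : Subgroup G) ∣ 2 * r := by
    have hinj : Function.Injective ((QuotientGroup.mk' Q).comp (R : Subgroup G).subtype) := by
      rw [← MonoidHom.ker_eq_bot_iff, eq_bot_iff]
      intro x hx
      rw [MonoidHom.mem_ker, MonoidHom.comp_apply, QuotientGroup.mk'_apply, QuotientGroup.eq_one_iff] at hx
      have : (x : G) ∈ Q ⊓ (R : Subgroup G) := ⟨hx, x.2⟩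
      rw [hQR, Subgroup.mem_bot] at this
      exact Subgroup.mem_bot.2 (Subtype.ext this)
    have := Subgroup.card_dvd_of_injective _ hinj
    rwa [← Subgroup.index_eq_card, hidx] at this
  have hRr : Nat.card ↥(R : Subgroup G) = r := by
    have h1 : r ∣ Nat.card ↥(R : Subgroup G) := R.dvd_card_of_dvd_card
      ((dvd_mul_left r 2).trans (hidx ▸ Q.index_dvd_card))
    refine Nat.dvd_antisymm ?_ h1
    obtain ⟨n, hn⟩ := IsPGroup.iff_card.1 R.2
    exact (Nat.Coprime.dvd_of_dvd_mul_left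
      (by rw [hn]; exact Nat.Coprime.pow_left _ ((Nat.coprime_primes hrp Nat.prime_two).2 hr)) hRdvd)
  set N := Subgroup.normalizer ((R : Subgroup G) : Set G) with hNdef
  -- `N` is a complement of `Q`
  have hinf : ∀ x ∈ N, x ∈ Q → x = 1 := by
    intro x hxN hxQ
    have : x ∈ Q ⊓ Subgroup.centralizer ((R : Subgroup G) : Set G) := by
      refine Subgroup.mem_inf.2 ⟨hxQ, Subgroup.mem_centralizer_iff.2 fun y hy => ?_⟩
      have h1 : x * y * x⁻¹ * y⁻¹ ∈ Q ⊓ (R : Subgroup G) := Subgroup.mem_inf.2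
        ⟨by rw [show x * y * x⁻¹ * y⁻¹ = x * (y * x⁻¹ * y⁻¹) by group];
            exact mul_mem hxQ (hN.conj_mem _ (inv_mem hxQ) y),
          mul_mem ((Subgroup.mem_normalizer_iff.1 hxN y).1 hy) (inv_mem hy)⟩
      rw [hQR, Subgroup.mem_bot, mul_inv_eq_one, mul_inv_eq_iff_eq_mul] at h1
      exact h1.symm
    rwa [hC, Subgroup.mem_bot] at this
  have hsup : N ⊔ Q = ⊤ := by
    set K := Q ⊔ (R : Subgroup G) with hK
    have hKc : K.index = 2 := by
      have h1 := Subgroup.relIndex_mul_index (le_sup_left : Q ≤ K)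
      have h2 : Q.relIndex K = r := by
        rw [hK, sup_comm, Subgroup.relIndex_sup_right, Subgroup.relIndex, Subgroup.index_eq_card]
        have hb : Q.subgroupOf (R : Subgroup G) = ⊥ := by
          rw [Subgroup.subgroupOf_eq_bot, disjoint_iff, hQR]
        rw [hb]
        exact (Nat.card_congr (QuotientGroup.quotientBot).toEquiv).trans hRr
      rw [h2, hidx, mul_comm 2 r] at h1
      exact Nat.eq_of_mul_eq_mul_left hrp.pos h1
    haveI := Subgroup.normal_of_index_eq_two hKc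
    have h3 := Sylow.normalizer_sup_eq_top' R (le_sup_right : (R : Subgroup G) ≤ K)
    rw [eq_top_iff, ← h3]
    exact sup_le le_sup_left (sup_le le_sup_right
      (Subgroup.le_normalizer.trans le_sup_left))
  let ψ : ↥N →* DihedralGroup r := e.toMonoidHom.comp ((QuotientGroup.mk' Q).comp N.subtype)
  have hψinj : Function.Injective ψ := by
    rw [← MonoidHom.ker_eq_bot_iff, eq_bot_iff]
    intro x hx
    rw [MonoidHom.mem_ker] at hx
    have hx' : ((x : G) : G ⧸ Q) = 1 := by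
      apply e.injective
      rw [map_one]; exact hx
    exact Subgroup.mem_bot.2 (Subtype.ext (hinf x x.2 ((QuotientGroup.eq_one_iff _).1 hx')))
  have hψsurj : Function.Surjective ψ := by
    intro d
    obtain ⟨g, hg⟩ := QuotientGroup.mk_surjective (e.symm d)
    have hgmem : g ∈ (↑(N ⊔ Q) : Set G) := by rw [hsup]; trivial
    rw [Subgroup.mul_normal N Q] at hgmem
    obtain ⟨n, hn, q, hq, rfl⟩ := hgmem
    refine ⟨⟨n, hn⟩, ?_⟩
    show e (n : G ⧸ Q) = d
    rw [show ((n : G) : G ⧸ Q) = ((n * q : G) : G ⧸ Q) from (QuotientGroup.eq.2 (by simpa using hq)),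
      hg, MulEquiv.apply_symm_apply]
  set E := MulEquiv.ofBijective ψ ⟨hψinj, hψsurj⟩ with hE
  refine ⟨⟨E⟩, ?_⟩
  have hNconj : ∀ s t : G, s ∈ N → t ∈ N → orderOf s = 2 → orderOf t = 2 →
      ∃ n ∈ N, n * s * n⁻¹ = t := by
    intro s t hs ht h1 h2
    obtain ⟨n, hn⟩ := hconj (E ⟨s, hs⟩) (E ⟨t, ht⟩)
      (by rw [MulEquiv.orderOf_eq, Subgroup.orderOf_mk, h1])
      (by rw [MulEquiv.orderOf_eq, Subgroup.orderOf_mk, h2])
    refine ⟨E.symm n, (E.symm n).2, ?_⟩
    have h3 : E.symm n * ⟨s, hs⟩ * (E.symm n)⁻¹ = ⟨t, ht⟩ := E.injective (by simp [hn])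
    exact congrArg Subtype.val h3
  intro a haN ha
  obtain ⟨ρ, hρ⟩ := exists_prime_orderOf_dvd_card' (G := ↥(R : Subgroup G)) r (by rw [hRr])
  set c : G := (ρ : G) with hc
  have hcN : c ∈ N := Subgroup.le_normalizer ρ.2
  have hcz : Subgroup.zpowers c = (R : Subgroup G) :=
    Subgroup.eq_of_le_of_card_ge (Subgroup.zpowers_le.2 ρ.2)
      (by rw [Nat.card_zpowers, hc, Subgroup.orderOf_coe, hρ, hRr])
  have haa : a * a = 1 := by rw [← pow_two, ← ha]; exact pow_orderOf_eq_one a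
  have hainv : a⁻¹ = a := inv_eq_of_mul_eq_one_left haa
  have hinvc : a * c * a = c⁻¹ := by
    have h := hinvert (E ⟨a, haN⟩) (E ⟨c, hcN⟩) (by rw [MulEquiv.orderOf_eq, Subgroup.orderOf_mk, ha])
      (by rw [MulEquiv.orderOf_eq, Subgroup.orderOf_mk, hc, Subgroup.orderOf_coe, hρ])
    have h3 : (⟨a, haN⟩ : ↥N) * ⟨c, hcN⟩ * ⟨a, haN⟩ = (⟨c, hcN⟩ : ↥N)⁻¹ := E.injective (by rw [map_mul, map_mul, map_inv, h])
    exact congrArg Subtype.val h3
  set a' := a * c with ha'
  have ha'a' : a' * a' = 1 := by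
    rw [ha', show a * c * (a * c) = a * c * a * c by group, hinvc, inv_mul_cancel]
  -- elements of the coset `Q c` are conjugate to `c` under `Q`
  have hcoset : ∀ x : G, x * c⁻¹ ∈ Q → ∃ q ∈ Q, q * c * q⁻¹ = x := by
    intro x hx
    let f : ↥Q → ↥Q := fun q => ⟨(q : G) * c * (q : G)⁻¹ * c⁻¹, by
      rw [show (q : G) * c * (q : G)⁻¹ * c⁻¹ = (q : G) * (c * (q : G)⁻¹ * c⁻¹) by group]
      exact mul_mem q.2 (hN.conj_mem _ (inv_mem q.2) c)⟩
    have hf : Function.Injective f := by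
      intro u v huv
      have h := mul_right_cancel (congrArg Subtype.val huv :
        (u : G) * c * (u : G)⁻¹ * c⁻¹ = (v : G) * c * (v : G)⁻¹ * c⁻¹)
      have h1 : (v : G)⁻¹ * u ∈ Q ⊓ Subgroup.centralizer ((R : Subgroup G) : Set G) := by
        refine Subgroup.mem_inf.2 ⟨mul_mem (inv_mem v.2) u.2, ?_⟩
        rw [← hcz, Subgroup.zpowers_eq_closure, Subgroup.centralizer_closure,
          Subgroup.mem_centralizer_singleton_iff]
        calc (v : G)⁻¹ * u * c = (v : G)⁻¹ * ((u : G) * c * (u : G)⁻¹) * u := by group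
          _ = (v : G)⁻¹ * ((v : G) * c * (v : G)⁻¹) * u := by rw [h]
          _ = c * ((v : G)⁻¹ * u) := by group
      rw [hC, Subgroup.mem_bot, inv_mul_eq_one] at h1
      exact Subtype.ext h1.symm
    obtain ⟨q, hq⟩ := Finite.surjective_of_injective hf ⟨x * c⁻¹, hx⟩
    exact ⟨q, q.2, mul_right_cancel (congrArg Subtype.val hq)⟩
  -- an involution inverting a conjugate of `c` is determined by its coset
  have huniq : ∀ s ∈ N, ∀ (q b : G), q ∈ Q → b * b = 1 →
      b * (q * c * q⁻¹) * b = (q * c * q⁻¹)⁻¹ → (b : G ⧸ Q) = (s : G ⧸ Q) → b = q * s * q⁻¹ := by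
    intro s hs q b hq hbb hinvb hbs
    have hbinv : b⁻¹ = b := inv_eq_of_mul_eq_one_left hbb
    set d := q⁻¹ * b * q with hd
    have hdc : d * c * d⁻¹ = c⁻¹ := by
      calc d * c * d⁻¹ = q⁻¹ * (b * (q * c * q⁻¹) * b⁻¹) * q := by rw [hd]; group
        _ = q⁻¹ * (q * c * q⁻¹)⁻¹ * q := by rw [hbinv, hinvb]
        _ = c⁻¹ := by group
    have hdN : d ∈ N := by
      apply LargeSub.mem_normalizer_of_conj_le
      rw [← hcz, MonoidHom.map_zpowers]
      simp only [MulEquiv.coe_toMonoidHom, MulAut.conj_apply, hdc, Subgroup.zpowers_inv]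
      exact le_rfl
    have hds : s⁻¹ * d = 1 := by
      refine hinf _ (mul_mem (inv_mem hs) hdN) ?_
      rw [← QuotientGroup.eq_one_iff, hd]
      simp only [QuotientGroup.mk_mul, QuotientGroup.mk_inv, (QuotientGroup.eq_one_iff q).2 hq, hbs]
      group
    rw [inv_mul_eq_one] at hds
    rw [hds, hd]; group
  -- the two cosets of involutions
  have ha'N : a' ∈ N := mul_mem haN hcN
  have hqq : ∀ {q : G}, q ∈ Q → (q : G ⧸ Q) = 1 := fun hq => (QuotientGroup.eq_one_iff _).2 hq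
  have hconjQ : ∀ b : G, b * b = 1 → (b : G ⧸ Q) = (a : G ⧸ Q) → ∃ q ∈ Q, q * a * q⁻¹ = b := by
    intro b hbb hba
    obtain ⟨q, hq, hx⟩ := hcoset (b * a') (by
      rw [← QuotientGroup.eq_one_iff]
      simp only [QuotientGroup.mk_mul, QuotientGroup.mk_inv, hba]
      rw [← QuotientGroup.mk_mul, ← QuotientGroup.mk_inv, ← QuotientGroup.mk_mul, ha',
        show a * (a * c) * c⁻¹ = a * a by group, haa, QuotientGroup.mk_one])
    refine ⟨q, hq, (huniq a haN q b hq hbb ?_ hba).symm⟩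
    rw [hx, mul_inv_rev, inv_eq_of_mul_eq_one_left ha'a', inv_eq_of_mul_eq_one_left hbb,
      show b * (b * a') * b = b * b * a' * b by group, hbb, one_mul]
  constructor
  · intro b hb hbQ
    have hbb : b * b = 1 := by rw [← pow_two, ← hb]; exact pow_orderOf_eq_one b
    obtain ⟨n, hn⟩ := hψsurj (e (b : G ⧸ Q))
    have hn1 : ((n : G) : G ⧸ Q) = (b : G ⧸ Q) := e.injective hn
    have hno : orderOf (n : G) = 2 := by
      refine orderOf_eq_prime ?_ fun h1 => hbQ ?_
      · refine hinf _ (pow_mem n.2 2) ?_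
        rw [← QuotientGroup.eq_one_iff, QuotientGroup.mk_pow, hn1, ← QuotientGroup.mk_pow, pow_two, hbb,
          QuotientGroup.mk_one]
      · rw [← QuotientGroup.eq_one_iff, ← hn1, h1, QuotientGroup.mk_one]
    obtain ⟨m, -, hma⟩ := hNconj a n haN n.2 ha hno
    obtain ⟨q, -, hqa⟩ := hconjQ (m⁻¹ * b * m)
      (by rw [show m⁻¹ * b * m * (m⁻¹ * b * m) = m⁻¹ * (b * b) * m by group, hbb]; group)
      (by
        simp only [QuotientGroup.mk_mul, QuotientGroup.mk_inv, ← hn1, ← hma]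
        group)
    exact ⟨m * q, by
      rw [show m * q * a * (m * q)⁻¹ = m * (q * a * q⁻¹) * m⁻¹ by group, hqa]; group⟩
  · -- counting
    set C := Q ⊓ Subgroup.centralizer ({a} : Set G) with hCdef
    let I : G → Type _ := fun s => {b : G // b * b = 1 ∧ (b : G ⧸ Q) = (s : G ⧸ Q)}
    have hIC : Nat.card (I a) * Nat.card ↥C = Nat.card ↥Q := by
      let g : ↥Q → I a := fun q => ⟨(q : G) * a * (q : G)⁻¹,
        by rw [show (q : G) * a * (q : G)⁻¹ * ((q : G) * a * (q : G)⁻¹) = q * (a * a) * (q : G)⁻¹ by group,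
          haa]; group,
        by simp only [QuotientGroup.mk_mul, QuotientGroup.mk_inv, hqq q.2]; group⟩
      have hg : Function.Surjective g := by
        rintro ⟨b, hb1, hb2⟩
        obtain ⟨q, hq, hqb⟩ := hconjQ b hb1 hb2
        exact ⟨⟨q, hq⟩, Subtype.ext hqb⟩
      have hrel : ∀ u v : ↥Q, g u = g v ↔ u⁻¹ * v ∈ C.subgroupOf Q := by
        intro u v
        rw [Subgroup.mem_subgroupOf, Subgroup.coe_mul, Subgroup.coe_inv, hCdef, Subgroup.mem_inf,
          Subgroup.mem_centralizer_singleton_iff]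
        constructor
        · intro h
          have h' : (u : G) * a * (u : G)⁻¹ = (v : G) * a * (v : G)⁻¹ := congrArg Subtype.val h
          refine ⟨mul_mem (inv_mem u.2) v.2, ?_⟩
          calc (u : G)⁻¹ * v * a = (u : G)⁻¹ * ((v : G) * a * (v : G)⁻¹) * v := by group
            _ = (u : G)⁻¹ * ((u : G) * a * (u : G)⁻¹) * v := by rw [h']
            _ = a * ((u : G)⁻¹ * v) := by group
        · rintro ⟨-, h⟩
          refine Subtype.ext ?_
          show (u : G) * a * (u : G)⁻¹ = (v : G) * a * (v : G)⁻¹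
          calc (u : G) * a * (u : G)⁻¹ = (u : G) * (a * ((u : G)⁻¹ * v)) * (v : G)⁻¹ := by group
            _ = (u : G) * ((u : G)⁻¹ * v * a) * (v : G)⁻¹ := by rw [h]
            _ = _ := by group
      let g' : ↥Q ⧸ C.subgroupOf Q → I a := Quotient.lift g (fun u v huv =>
        (hrel u v).2 (QuotientGroup.leftRel_apply.1 huv))
      have hg' : Function.Bijective g' := by
        refine ⟨?_, fun b => ?_⟩
        · rintro ⟨u⟩ ⟨v⟩ h
          exact QuotientGroup.eq.2 ((hrel u v).1 h)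
        · obtain ⟨u, hu⟩ := hg b
          exact ⟨(u : ↥Q ⧸ C.subgroupOf Q), hu⟩
      rw [← Nat.card_congr (Equiv.ofBijective g' hg'),
        ← Nat.card_congr (Subgroup.subgroupOfEquivOfLe (inf_le_left : C ≤ Q)).toEquiv, mul_comm]
      exact Subgroup.card_mul_index (C.subgroupOf Q)
    obtain ⟨m, -, hm⟩ := hNconj a a' haN ha'N ha (by
      refine orderOf_eq_prime (by rw [pow_two]; exact ha'a') fun h1 => ?_
      have hac : a = c⁻¹ := by rw [ha'] at h1; exact eq_inv_of_mul_eq_one_left h1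
      rw [hac, orderOf_inv, hc, Subgroup.orderOf_coe, hρ] at ha
      exact hr ha)
    have hII : Nat.card (I a) = Nat.card (I a') := by
      refine Nat.card_congr ((MulAut.conj m).toEquiv.subtypeEquiv fun b => ?_)
      simp only [MulEquiv.toEquiv_eq_coe, EquivLike.coe_coe, MulAut.conj_apply, ← hm]
      refine and_congr ?_ ?_
      · rw [show m * b * m⁻¹ * (m * b * m⁻¹) = m * (b * b) * m⁻¹ by group, conj_eq_one_iff]
      · simp only [QuotientGroup.mk_mul, QuotientGroup.mk_inv, mul_left_inj, mul_right_inj]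
    let F : I a × I a' → ↥Q := fun bb => ⟨bb.1.1 * bb.2.1 * c⁻¹, by
      rw [← QuotientGroup.eq_one_iff]
      simp only [QuotientGroup.mk_mul, QuotientGroup.mk_inv, bb.1.2.2, bb.2.2.2]
      rw [← QuotientGroup.mk_mul, ← QuotientGroup.mk_inv, ← QuotientGroup.mk_mul, ha',
        show a * (a * c) * c⁻¹ = a * a by group, haa, QuotientGroup.mk_one]⟩
    have hF : Function.Bijective F := by
      constructor
      · rintro ⟨⟨b, hb1, hb2⟩, ⟨b', hb1', hb2'⟩⟩ ⟨⟨d, hd1, hd2⟩, ⟨d', hd1', hd2'⟩⟩ h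
        have hbd : b * b' = d * d' := mul_right_cancel (congrArg Subtype.val h)
        obtain ⟨q, hq, hx⟩ := hcoset (b * b') (F ⟨⟨b, hb1, hb2⟩, ⟨b', hb1', hb2'⟩⟩).2
        have e1 : b = q * a * q⁻¹ := huniq a haN q b hq hb1 (by
          rw [hx, mul_inv_rev, inv_eq_of_mul_eq_one_left hb1', inv_eq_of_mul_eq_one_left hb1,
            show b * (b * b') * b = b * b * b' * b by group, hb1, one_mul]) hb2
        have e2 : d = q * a * q⁻¹ := huniq a haN q d hq hd1 (by
          rw [hx, hbd, mul_inv_rev, inv_eq_of_mul_eq_one_left hd1', inv_eq_of_mul_eq_one_left hd1,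
            show d * (d * d') * d = d * d * d' * d by group, hd1, one_mul]) hd2
        obtain rfl : b = d := e1.trans e2.symm
        obtain rfl : b' = d' := mul_left_cancel hbd
        rfl
      · rintro ⟨y, hy⟩
        obtain ⟨q, hq, hx⟩ := hcoset (y * c) (by simpa using hy)
        refine ⟨⟨⟨q * a * q⁻¹, ?_, ?_⟩, ⟨q * a' * q⁻¹, ?_, ?_⟩⟩, Subtype.ext ?_⟩
        · rw [show q * a * q⁻¹ * (q * a * q⁻¹) = q * (a * a) * q⁻¹ by group, haa]; group
        · simp only [QuotientGroup.mk_mul, QuotientGroup.mk_inv, hqq hq]; group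
        · rw [show q * a' * q⁻¹ * (q * a' * q⁻¹) = q * (a' * a') * q⁻¹ by group, ha'a']; group
        · simp only [QuotientGroup.mk_mul, QuotientGroup.mk_inv, hqq hq]; group
        · show q * a * q⁻¹ * (q * a' * q⁻¹) * c⁻¹ = y
          rw [show q * a * q⁻¹ * (q * a' * q⁻¹) = q * (a * a * c) * q⁻¹ by rw [ha']; group, haa, one_mul,
            hx, mul_inv_cancel_right]
    have hI2 := Nat.card_congr (Equiv.ofBijective F hF)
    rw [Nat.card_prod, ← hII] at hI2
    have hpos : 0 < Nat.card ↥Q := Nat.card_pos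
    have hI0 : 0 < Nat.card (I a) := by
      rcases Nat.eq_zero_or_pos (Nat.card (I a)) with h | h
      · rw [h, zero_mul] at hI2; omega
      · exact h
    have hCI : Nat.card ↥C = Nat.card (I a) := Nat.eq_of_mul_eq_mul_left hI0 (hIC.trans hI2.symm)
    rw [pow_two, hCI, hI2]

end Cfsg.Agent.S2873
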