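import Cfsg.Statements.S2874
import Cfsg.Agent.LargeSub.GLTwo

set_option autoImplicit false
open Cfsg

namespace Cfsg.Agent.S2874

open Cfsg.Agent.LargeSub.GLTwo

def tA : ↥(alternatingGroup (Fin 4)) :=
  ⟨Equiv.swap 0 1 * Equiv.swap 1 2, by rw [Equiv.Perm.mem_alternatingGroup]; decide⟩

def vA : ↥(alternatingGroup (Fin 4)) :=
  ⟨Equiv.swap 0 1 * Equiv.swap 2 3, by rw [Equiv.Perm.mem_alternatingGroup]; decide⟩

theorem a4_facts : tA * tA * tA = 1 ∧ tA ≠ 1 ∧ vA * vA = 1 ∧ vA ≠ 1 ∧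
    vA * (tA * vA * (tA * tA)) = tA * tA * vA * tA := by decide +kernel

theorem a4_gen : ∀ g : ↥(alternatingGroup (Fin 4)), ∃ i : Fin 3,
    g = tA ^ (i : ℕ) ∨ g = tA ^ (i : ℕ) * vA ∨ g = tA ^ (i : ℕ) * (tA * vA * (tA * tA)) ∨
      g = tA ^ (i : ℕ) * (tA * tA * vA * tA) := by decide +kernel

/-- Normal form of a subgroup isomorphic to `A₄`. -/
theorem normal_form (k : ℕ) (hk : 2 ≤ k) (H : Subgroup (GL (Fin 2) (ZMod (2 ^ k))))
    (h : Nonempty (↥H ≃* ↥(alternatingGroup (Fin 4)))) :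
    ∃ (g X A : GL (Fin 2) (ZMod (2 ^ k))) (m : M2 (ZMod (2 ^ k))),
      H = (Subgroup.closure {X, A}).map (MulAut.conj g).toMonoidHom ∧
      (X : M2 (ZMod (2 ^ k))) = !![0, -1; 1, -1] ∧
      (A : M2 (ZMod (2 ^ k))) = 1 + (2 : ZMod (2 ^ k)) ^ (k - 1) • m ∧
      redM k (by omega) m ≠ 0 ∧
      redM k (by omega) m + !![0, 1; 1, 1] * redM k (by omega) m * (!![0, 1; 1, 1] * !![0, 1; 1, 1]) +
        !![0, 1; 1, 1] * !![0, 1; 1, 1] * redM k (by omega) m * !![0, 1; 1, 1] = 0 := by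
  have hk0 : k ≠ 0 := by omega
  obtain ⟨e⟩ := h
  let φ : ↥(alternatingGroup (Fin 4)) →* GL (Fin 2) (ZMod (2 ^ k)) := H.subtype.comp e.symm.toMonoidHom
  have hφ : Function.Injective φ := Subtype.val_injective.comp e.symm.injective
  have hH : φ.range = H := by
    rw [MonoidHom.range_comp, MonoidHom.range_eq_top.2 e.symm.surjective, ← MonoidHom.range_eq_map,
      Subgroup.range_subtype]
  obtain ⟨ht3, ht1, hv2, hv1, hvt⟩ := a4_facts
  have hx3 : φ tA * φ tA * φ tA = 1 := by rw [← map_mul, ← map_mul, ht3, map_one]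
  have hx3' : (φ tA).val * (φ tA).val * (φ tA).val = 1 := by
    rw [← Units.val_mul, ← Units.val_mul, hx3, Units.val_one]
  have hx1 : redM k hk0 (φ tA).val ≠ 1 := fun hr => ht1 (hφ (by
    rw [map_one]; exact Units.ext (eq_one_of_cube (hk := hk0) hr hx3')))
  obtain ⟨g, hg⟩ := order_three_conj (hk := hk0) hx3 hx1
  let ψ : ↥(alternatingGroup (Fin 4)) →* GL (Fin 2) (ZMod (2 ^ k)) :=
    (MulAut.conj g⁻¹).toMonoidHom.comp φ
  have hψ : Function.Injective ψ := (MulAut.conj g⁻¹).injective.comp hφ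
  set X := ψ tA with hX
  set A := ψ vA with hA
  have hXval : (X : M2 (ZMod (2 ^ k))) = !![0, -1; 1, -1] := by
    rw [← hg, hX]
    simp [ψ]
  have hred : redM k hk0 (X : M2 (ZMod (2 ^ k))) = !![0, 1; 1, 1] := by
    rw [hXval]
    have hneg : (-1 : ZMod 2) = 1 := by decide
    ext i j
    fin_cases i <;> fin_cases j <;> simp [redM, RingHom.mapMatrix_apply, hneg]
  have hX3 : (X : M2 (ZMod (2 ^ k))) * X * X = 1 := by
    rw [← Units.val_mul, ← Units.val_mul, hX, ← map_mul, ← map_mul, ht3, map_one, Units.val_one]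
  have hA2 : (A : M2 (ZMod (2 ^ k))) * A = 1 := by
    rw [← Units.val_mul, hA, ← map_mul, hv2, map_one, Units.val_one]
  have hAX : (A : M2 (ZMod (2 ^ k))) * (X * A * (X * X)) = X * X * A * X := by
    have := congrArg (fun z => ((ψ z : GL (Fin 2) (ZMod (2 ^ k))) : M2 (ZMod (2 ^ k)))) hvt
    simpa only [map_mul, Units.val_mul] using this
  have hX1 : redM k hk0 (X : M2 (ZMod (2 ^ k))) ≠ 1 := by rw [hred]; decide
  have hAred : redM k hk0 (A : M2 (ZMod (2 ^ k))) = 1 := by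
    refine f2_of_a (redM k hk0 (X : M2 (ZMod (2 ^ k)))) _ ?_ hX1 ?_ ?_
    · rw [← map_mul, ← map_mul, hX3, map_one]
    · rw [← map_mul, hA2, map_one]
    · have := congrArg (redM k hk0) hAX
      simpa only [map_mul] using this
  obtain ⟨m, hm, hrel⟩ := last_layer (hk := hk0) hk hX3 hX1 hAred hA2 hAX
  rw [hred] at hrel
  refine ⟨g, X, A, m, ?_, hXval, hm, ?_, hrel⟩
  · have hgen : Subgroup.closure {X, A} = ψ.range := by
      refine le_antisymm ((Subgroup.closure_le _).2 ?_) ?_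
      · rintro y (rfl | rfl)
        · exact ⟨tA, rfl⟩
        · exact ⟨vA, rfl⟩
      · rintro _ ⟨z, rfl⟩
        have hXm : X ∈ Subgroup.closure ({X, A} : Set (GL (Fin 2) (ZMod (2 ^ k)))) :=
          Subgroup.subset_closure (Or.inl rfl)
        have hAm : A ∈ Subgroup.closure ({X, A} : Set (GL (Fin 2) (ZMod (2 ^ k)))) :=
          Subgroup.subset_closure (Or.inr rfl)
        obtain ⟨i, rfl | rfl | rfl | rfl⟩ := a4_gen z
        · simp only [map_pow]; exact pow_mem hXm _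
        · simp only [map_mul, map_pow]; exact mul_mem (pow_mem hXm _) hAm
        · simp only [map_mul, map_pow]
          exact mul_mem (pow_mem hXm _) (mul_mem (mul_mem hXm hAm) (mul_mem hXm hXm))
        · simp only [map_mul, map_pow]
          exact mul_mem (pow_mem hXm _) (mul_mem (mul_mem (mul_mem hXm hXm) hAm) hXm)
    rw [hgen, MonoidHom.range_eq_map, Subgroup.map_map, ← MonoidHom.range_eq_map, ← hH]
    congr 1
    ext z
    simp [ψ, mul_assoc]
  · intro hm0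
    apply hv1
    apply hψ
    rw [map_one, ← hA]
    refine Units.ext ?_
    rw [hm, smul_eq_zero_top hk0 hm0, add_zero, Units.val_one]


/-- For k ≥ 2, any two subgroups of GL₂(ℤ/2ᵏℤ) (the automorphism group of the homocyclic group ℤ/2ᵏ × ℤ/2ᵏ) that are isomorphic to the alternating group of degree 4 are conjugate. -/
theorem result (k : ℕ) (hk : 2 ≤ k) (H₁ H₂ : Subgroup (GL (Fin 2) (ZMod (2 ^ k)))) (h₁ : Nonempty (↥H₁ ≃* ↥(alternatingGroup (Fin 4)))) (h₂ : Nonempty (↥H₂ ≃* ↥(alternatingGroup (Fin 4)))) : ∃ g : GL (Fin 2) (ZMod (2 ^ k)), H₂ = H₁.map (MulAut.conj g).toMonoidHom := by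
  have hk0 : k ≠ 0 := by omega
  obtain ⟨g₁, X₁, A₁, m₁, e₁, hX₁, hA₁, hn₁, hr₁⟩ := normal_form k hk H₁ h₁
  obtain ⟨g₂, X₂, A₂, m₂, e₂, hX₂, hA₂, hn₂, hr₂⟩ := normal_form k hk H₂ h₂
  obtain rfl : X₂ = X₁ := Units.ext (hX₂.trans hX₁.symm)
  obtain ⟨i, hi⟩ := f2_orbit _ _ hn₁ hn₂ hr₁ hr₂
  have hred : redM k hk0 (X₂ : M2 (ZMod (2 ^ k))) = !![0, 1; 1, 1] := by
    rw [hX₂]
    have hneg : (-1 : ZMod 2) = 1 := by decide
    ext i j
    fin_cases i <;> fin_cases j <;> simp [redM, RingHom.mapMatrix_apply, hneg]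
  have hX3 : X₂ * X₂ * X₂ = 1 := by
    refine Units.ext ?_
    rw [Units.val_mul, Units.val_mul, hX₂, Units.val_one]
    ext i j
    fin_cases i <;> fin_cases j <;> simp [Matrix.mul_apply, Fin.sum_univ_two]
  have hpow : X₂ ^ (i : ℕ) * (X₂ * X₂) ^ (i : ℕ) = 1 := by
    rw [← ((Commute.refl X₂).mul_right (Commute.refl X₂)).mul_pow, ← mul_assoc, hX3, one_pow]
  have hA : A₂ = X₂ ^ (i : ℕ) * A₁ * (X₂ * X₂) ^ (i : ℕ) := by
    refine Units.ext ?_
    rw [Units.val_mul, Units.val_mul, hA₁, hA₂, mul_add, add_mul, mul_one, ← Units.val_mul, hpow,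
      Units.val_one, mul_smul_comm, smul_mul_assoc]
    refine one_add_smul_eq hk0 ?_
    rw [map_mul, map_mul, Units.val_pow_eq_pow_val, Units.val_pow_eq_pow_val, map_pow, map_pow,
      Units.val_mul, map_mul, hred]
    exact hi
  have hA1 : A₁ = (X₂ ^ (i : ℕ))⁻¹ * A₂ * X₂ ^ (i : ℕ) := by
    rw [eq_inv_of_mul_eq_one_right hpow] at hA
    rw [hA]; group
  have hcl : Subgroup.closure ({X₂, A₁} : Set (GL (Fin 2) (ZMod (2 ^ k)))) =
      Subgroup.closure {X₂, A₂} := by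
    refine le_antisymm ((Subgroup.closure_le _).2 ?_) ((Subgroup.closure_le _).2 ?_)
    · rintro y (rfl | rfl)
      · exact Subgroup.subset_closure (Or.inl rfl)
      · rw [hA1]
        have hXm : X₂ ^ (i : ℕ) ∈ Subgroup.closure ({X₂, A₂} : Set (GL (Fin 2) (ZMod (2 ^ k)))) :=
          Subgroup.pow_mem _ (Subgroup.subset_closure (Set.mem_insert _ _)) _
        exact mul_mem (mul_mem (inv_mem hXm) (Subgroup.subset_closure (Or.inr rfl))) hXm
    · rintro y (rfl | rfl)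
      · exact Subgroup.subset_closure (Or.inl rfl)
      · rw [hA]
        have hXm : X₂ ∈ Subgroup.closure ({X₂, A₁} : Set (GL (Fin 2) (ZMod (2 ^ k)))) :=
          Subgroup.subset_closure (Or.inl rfl)
        exact mul_mem (mul_mem (pow_mem hXm _) (Subgroup.subset_closure (Or.inr rfl)))
          (pow_mem (mul_mem hXm hXm) _)
  refine ⟨g₂ * g₁⁻¹, ?_⟩
  rw [e₂, e₁, Subgroup.map_map, hcl]
  congr 1
  ext z
  simp [mul_assoc]

end Cfsg.Agent.S2874
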