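import Cfsg.Statements.S2880
import Cfsg.Agent.Class49.Extraspecial

set_option autoImplicit false
open Cfsg

namespace Cfsg.Agent.S2880

open Subgroup Cfsg.Agent.Class49
open scoped commutatorElement

theorem center_le_and_centralizer_eq {E : Type*} [Group E] [Finite E] (m : ℕ)
    (hE : Cfsg.IsExtraspecial 2 E) (hcard : Nat.card E = 2 ^ (2 * m + 1)) (A : Subgroup E)
    (hA : Cfsg.IsElementaryAbelian 2 A) (hAcard : Nat.card A = 2 ^ (m + 1)) :
    Subgroup.center E ≤ A ∧ Subgroup.centralizer (A : Set E) = A := by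
  have hAA : A ≤ Subgroup.centralizer (A : Set E) := by
    intro a ha
    rw [mem_centralizer_iff]
    intro b hb
    exact congrArg Subtype.val (hA.1.is_comm.comm (⟨b, hb⟩ : A) ⟨a, ha⟩)
  have hB : A ⊔ Subgroup.center E ≤
      Subgroup.centralizer ((A ⊔ Subgroup.center E : Subgroup E) : Set E) := by
    rw [sup_le_iff, Subgroup.le_centralizer_iff, sup_le_iff]
    refine ⟨⟨hAA, Subgroup.center_le_centralizer _⟩, Subgroup.center_le_centralizer _⟩
  have h := exSp_card_centralizer hE (le_sup_right : Subgroup.center E ≤ A ⊔ Subgroup.center E)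
  have h1 := Subgroup.card_le_of_le hB
  have h2 : Nat.card A ≤ Nat.card (A ⊔ Subgroup.center E : Subgroup E) :=
    Subgroup.card_le_of_le le_sup_left
  have hsq : Nat.card A * Nat.card A = Nat.card E * 2 := by
    rw [hAcard, hcard, ← pow_add, ← pow_succ]; ring_nf
  have h3 : Nat.card (A ⊔ Subgroup.center E : Subgroup E) ≤ Nat.card A := by nlinarith
  have heq : A = A ⊔ Subgroup.center E := Subgroup.eq_of_le_of_card_ge le_sup_left h3
  have hZ : Subgroup.center E ≤ A := le_sup_right.trans heq.ge
  refine ⟨hZ, (Subgroup.eq_of_le_of_card_ge hAA ?_).symm⟩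
  have h4 := exSp_card_centralizer hE hZ
  have h5 : 0 < Nat.card A := Nat.card_pos
  nlinarith


/-- Let E be an extraspecial 2-group of order 2^(2m+1) of plus type, that is, containing an elementary abelian subgroup of order 2^(m+1) (equivalently, a central product of m dihedral groups of order 8). Then E has exactly 2^(2m) − 2^m elements of order 4. -/
theorem result {E : Type*} [Group E] [Finite E] (m : ℕ) (hm : 1 ≤ m) (hE : Cfsg.IsExtraspecial 2 E) (hcard : Nat.card E = 2 ^ (2 * m + 1)) (hplus : ∃ A : Subgroup E, Cfsg.IsElementaryAbelian 2 A ∧ Nat.card A = 2 ^ (m + 1)) : Nat.card {x : E // orderOf x = 4} = 2 ^ (2 * m) - 2 ^ m := by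
  obtain ⟨A, hA, hAcard⟩ := hplus
  obtain ⟨hZA, hCA⟩ := center_le_and_centralizer_eq m hE hcard A hA hAcard
  classical
  haveI := Fintype.ofFinite E
  have h4 : ∀ x : E, orderOf x = 4 ↔ x ^ 2 ≠ 1 := by
    intro x
    constructor
    · intro h hh
      have := orderOf_dvd_of_pow_eq_one hh
      rw [h] at this
      norm_num at this
    · intro h
      have h1 : x ^ (2 ^ (1 + 1)) = 1 := by
        rw [show 2 ^ (1 + 1) = 2 * 2 by norm_num, pow_mul]
        exact exSp_center_sq hE (exSp_sq_mem_center hE x)
      have := orderOf_eq_prime_pow (p := 2) (n := 1) (x := x) (by rwa [pow_one]) h1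
      simpa using this
  have hA2 : ∀ a ∈ A, a ^ 2 = 1 := hA.2
  have hsq : ∀ (x a : E), a ∈ A → (x * a) ^ 2 = x ^ 2 * ⁅x⁻¹, a⁆ := by
    intro x a ha
    have : a⁻¹ = a := inv_eq_of_mul_eq_one_left (by rw [← pow_two]; exact hA2 a ha)
    rw [commutatorElement_def, this]
    simp only [pow_two]
    group
  have hhalf : ∀ x : E, x ∉ A → Nat.card {a : A // (x * a) ^ 2 ≠ 1} * 2 = Nat.card A := by
    intro x hx
    set C := Subgroup.centralizer ({x} : Set E)
    set K := C.subgroupOf A with hK
    have hKne : K ≠ ⊤ := by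
      intro h
      rw [hK, Subgroup.subgroupOf_eq_top] at h
      apply hx
      rw [← hCA, mem_centralizer_iff]
      intro a ha
      exact mem_centralizer_singleton_iff.mp (h ha)
    have hidx : K.index = 2 := by
      have h1 : K.index ≤ 2 :=
        le_trans (Nat.le_of_dvd (Nat.pos_of_ne_zero Subgroup.index_ne_zero_of_finite) ?_)
          (exSp_index_centralizer_singleton_le hE x)
      · have h2 : K.index ≠ 1 := fun h => hKne (Subgroup.index_eq_one.mp h)
        have h3 : K.index ≠ 0 := Subgroup.index_ne_zero_of_finite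
        omega
      · haveI : C.Normal := by
          constructor
          intro c hc g
          have hgc : g * c * g⁻¹ = ⁅g, c⁆ * c := by rw [commutatorElement_def]; group
          rw [hgc]
          exact mul_mem (Subgroup.center_le_centralizer _ (exSp_comm_mem_center hE g c)) hc
        exact Subgroup.relIndex_dvd_index_of_normal C A
    have hcard2 : Nat.card K * 2 = Nat.card A := by rw [← hidx, Subgroup.card_mul_index]
    have hmem : ∀ a : A, a ∈ K ↔ ⁅x⁻¹, (a : E)⁆ = 1 := by
      intro a
      rw [hK, mem_subgroupOf, mem_centralizer_singleton_iff, commutatorElement_eq_one_iff_mul_comm]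
      constructor
      · intro h
        exact (Commute.inv_left (h.symm : Commute x (a : E))).eq
      · intro h
        have h' : Commute (x⁻¹)⁻¹ (a : E) := Commute.inv_left h
        rw [inv_inv] at h'
        exact h'.eq.symm
    by_cases hx2 : x ^ 2 = 1
    · have he : ∀ a : A, (x * a) ^ 2 ≠ 1 ↔ ¬ a ∈ K := by
        intro a; rw [hsq x a a.2, hx2, one_mul, hmem]
      rw [Nat.card_congr (Equiv.subtypeEquivRight he)]
      have hsum : Nat.card K + Nat.card {a : A // ¬ a ∈ K} = Nat.card A := by
        rw [← Nat.card_sum, Nat.card_congr (Equiv.sumCompl (fun a : A => a ∈ K))]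
      omega
    · have he : ∀ a : A, (x * a) ^ 2 ≠ 1 ↔ a ∈ K := by
        intro a
        rw [hsq x a a.2, hmem]
        constructor
        · intro h
          by_contra hc
          apply h
          have hxc := exSp_sq_mem_center hE x
          rw [← exSp_eq_of_mem_center hE hxc hx2 (exSp_comm_mem_center hE _ _) hc, ← pow_two,
            exSp_center_sq hE hxc]
        · intro h
          rw [h, mul_one]; exact hx2
      rw [Nat.card_congr (Equiv.subtypeEquivRight he)]
      exact hcard2
  have hNA : ∀ x : E, x ^ 2 ≠ 1 → x ∉ A := fun x hx hxA => hx (hA2 x hxA)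
  let e : (Σ x : {x : E // x ∉ A}, {a : A // ((x : E) * a) ^ 2 ≠ 1}) ≃
      {y : E // y ^ 2 ≠ 1} × A :=
    { toFun := fun p => (⟨(p.1 : E) * (p.2.1 : E), p.2.2⟩, p.2.1)
      invFun := fun q => ⟨⟨(q.1 : E) * (q.2 : E)⁻¹, fun h => hNA _ q.1.2
        (by simpa using mul_mem h q.2.2)⟩, ⟨q.2, by simpa using q.1.2⟩⟩
      left_inv := by
        rintro ⟨⟨x, hx⟩, ⟨a, ha⟩⟩
        refine Sigma.subtype_ext ?_ rfl
        exact Subtype.ext (by simp)
      right_inv := by
        rintro ⟨⟨y, hy⟩, a⟩
        exact Prod.ext (Subtype.ext (by simp)) rfl }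
  have hc := Nat.card_congr e
  rw [Nat.card_sigma, Nat.card_prod] at hc
  have hX : Nat.card {x : E // x ∉ A} + Nat.card A = Nat.card E := by
    rw [add_comm, ← Nat.card_sum]
    exact Nat.card_congr (Equiv.sumCompl (fun x : E => x ∈ A))
  have hc2 : Nat.card {x : E // x ∉ A} * Nat.card A = (Nat.card {y : E // y ^ 2 ≠ 1} * Nat.card A) * 2 := by
    rw [← hc, Finset.sum_mul, Finset.sum_congr rfl (fun x _ => hhalf x.1 x.2), Finset.sum_const,
      Finset.card_univ, smul_eq_mul, Nat.card_eq_fintype_card (α := {x : E // x ∉ A})]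
  rw [Nat.card_congr (Equiv.subtypeEquivRight h4)]
  have hc3 : Nat.card {x : E // x ∉ A} = Nat.card {y : E // y ^ 2 ≠ 1} * 2 := by
    apply Nat.eq_of_mul_eq_mul_right (Nat.card_pos (α := A))
    rw [hc2]; ring
  rw [hc3, hAcard, hcard, pow_succ, pow_succ] at hX
  omega

end Cfsg.Agent.S2880
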