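import Cfsg.Statements.S2881
import Cfsg.Agent.S2880

set_option autoImplicit false
open Cfsg

namespace Cfsg.Agent.S2881

/-- Let E be an extraspecial 2-group of order 2^(2m+1) of plus type (containing an elementary abelian subgroup of order 2^(m+1)), and let ω be an automorphism of E of order 5 whose fixed points are exactly the centre of E. Then m is divisible by 4. -/
theorem result {E : Type*} [Group E] [Finite E] (m : ℕ) (hm : 1 ≤ m) (hE : Cfsg.IsExtraspecial 2 E) (hcard : Nat.card E = 2 ^ (2 * m + 1)) (hplus : ∃ A : Subgroup E, Cfsg.IsElementaryAbelian 2 A ∧ Nat.card A = 2 ^ (m + 1)) (ω : E ≃* E) (hω : orderOf ω = 5) (hfix : ∀ x : E, ω x = x ↔ x ∈ Subgroup.center E) : 4 ∣ m := by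
  classical
  have hN := Cfsg.Agent.S2880.result m hm hE hcard hplus
  set G := Subgroup.zpowers (ω : MulAut E) with hG
  letI : MulAction ↥G {x : E // orderOf x = 4} :=
    { smul := fun σ x => ⟨(σ : MulAut E) x.1, by rw [MulEquiv.orderOf_eq]; exact x.2⟩
      one_smul := fun x => Subtype.ext rfl
      mul_smul := fun σ τ x => Subtype.ext rfl }
  haveI : Fact (Nat.Prime 5) := ⟨by norm_num⟩
  have hcardG : Nat.card G = 5 := by
    rw [hG, Nat.card_zpowers]; exact hω
  have hP : IsPGroup 5 ↥G := IsPGroup.of_card (n := 1) (by rw [hcardG, pow_one])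
  have hmod := hP.card_modEq_card_fixedPoints {x : E // orderOf x = 4}
  have hfp : IsEmpty (MulAction.fixedPoints ↥G {x : E // orderOf x = 4}) := by
    constructor
    rintro ⟨x, hx⟩
    have h1 : ω x.1 = x.1 :=
      congrArg Subtype.val (hx ⟨ω, Subgroup.mem_zpowers (ω : MulAut E)⟩)
    have h2 := Cfsg.Agent.Class49.exSp_center_sq hE ((hfix _).mp h1)
    have h3 := orderOf_dvd_of_pow_eq_one h2
    rw [x.2] at h3
    norm_num at h3
  rw [Nat.card_of_isEmpty (α := MulAction.fixedPoints ↥G {x : E // orderOf x = 4}), hN] at hmod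
  have h5 : 5 ∣ 2 ^ (2 * m) - 2 ^ m := (Nat.modEq_zero_iff_dvd).mp hmod
  have hfac : 2 ^ (2 * m) - 2 ^ m = 2 ^ m * (2 ^ m - 1) := by
    rw [Nat.mul_sub, mul_one, two_mul, pow_add]
  rw [hfac] at h5
  have h6 : 5 ∣ 2 ^ m - 1 :=
    (Nat.Coprime.pow_right m (by norm_num : Nat.Coprime 5 2)).dvd_of_dvd_mul_left h5
  have h7 : 2 ^ m % 5 = 2 ^ (m % 4) % 5 := by
    conv_lhs => rw [← Nat.div_add_mod m 4]
    rw [pow_add, pow_mul, Nat.mul_mod, Nat.pow_mod]
    norm_num
  have h8 : 1 ≤ 2 ^ m := Nat.one_le_two_pow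
  have h9 : m % 4 < 4 := Nat.mod_lt _ (by norm_num)
  have h10 : 2 ^ m % 5 = 1 := by omega
  rcases Nat.eq_zero_or_pos (m % 4) with h | h
  · exact Nat.dvd_of_mod_eq_zero h
  · interval_cases hr : m % 4 <;> omega

end Cfsg.Agent.S2881
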