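import Cfsg.Statements.S2882
import Cfsg.Agent.Fusion91.SimpleFinal
import Cfsg.Agent.Fusion91.Mathieu.CertM24
import Cfsg.Agent.Fusion91.Mathieu.Orders
import Cfsg.Agent.Lib.Golay.Order
import Cfsg.Agent.Lib.Golay.Transitive
import Cfsg.Agent.Lib.Golay.Code
import Cfsg.Agent.S0364
import Cfsg.Agent.S0381
import Cfsg.Agent.S1554

set_option autoImplicit false
open Cfsg

namespace Cfsg.Agent.S2882

open scoped Pointwise

/-- In the Mathieu group of degree 24 (realised as the automorphism group of the extended binary Golay code) every Sylow 2-subgroup is self-normalizing. -/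
theorem result (S : Sylow 2 ↥Cfsg.M24) : Subgroup.normalizer ((S : Subgroup ↥Cfsg.M24) : Set ↥Cfsg.M24) = (S : Subgroup ↥Cfsg.M24) := by
  classical
  haveI : Fact (Nat.Prime 2) := ⟨Nat.prime_two⟩
  obtain ⟨-, -, hfus⟩ := Fusion91.Mathieu.of_cert _ _ _ Fusion91.Mathieu.sound24
    Fusion91.Mathieu.checkM24 Fusion91.Mathieu.part24 (by decide +kernel) S
  set T : Subgroup ↥Cfsg.M24 := (S : Subgroup ↥Cfsg.M24) with hT
  -- order of the Sylow subgroup
  obtain ⟨a, ha⟩ := IsPGroup.iff_card.1 S.isPGroup'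
  have ha10 : a = 10 := by
    have h := S.card_eq_multiplicity
    rw [S0364.result] at h
    have h2 : Nat.factorization 244823040 2 = 10 := by
      rw [show (244823040 : ℕ) = 2 ^ 10 * 239085 by norm_num,
        Nat.factorization_mul (by norm_num) (by norm_num), Nat.Prime.factorization_pow Nat.prime_two]
      simp [Nat.factorization_eq_zero_of_not_dvd (show ¬ 2 ∣ 239085 by norm_num)]
    rw [h2] at h
    exact Nat.pow_right_injective le_rfl (ha.symm.trans h)
  subst ha10
  -- the point stabilizer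
  haveI := Cfsg.Agent.Golay.five_transitive
  have hpt24 : Nat.card Cfsg.GolayPt = 24 := by simp [Nat.card_eq_fintype_card]
  haveI h1t : MulAction.IsMultiplyPretransitive ↥Cfsg.M24 Cfsg.GolayPt 1 :=
    MulAction.isMultiplyPretransitive_of_le (n := 5) (by norm_num) (by rw [hpt24]; norm_num)
  haveI : MulAction.IsPretransitive ↥Cfsg.M24 Cfsg.GolayPt := MulAction.is_one_pretransitive_iff.1 h1t
  have hstab : ∀ q : Cfsg.GolayPt, Nat.card (MulAction.stabilizer ↥Cfsg.M24 q) = 10200960 := by
    intro q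
    have h := Subgroup.card_mul_index (MulAction.stabilizer ↥Cfsg.M24 q)
    rw [MulAction.index_stabilizer_of_transitive, hpt24, S0364.result] at h
    omega
  -- every `S`-orbit on points has at least 8 points
  have horb : ∀ (q : Cfsg.GolayPt) (W : Finset Cfsg.GolayPt), (∀ s : ↥T, (s : ↥Cfsg.M24) • q ∈ W) →
      ∃ m, 8 ≤ m ∧ m ≤ W.card ∧ m = Nat.card (MulAction.orbit ↥T q) := by
    intro q W hW
    refine ⟨_, ?_, ?_, rfl⟩
    · rw [Nat.card_coe_set_eq, ← MulAction.index_stabilizer]
      have h := Subgroup.card_mul_index (MulAction.stabilizer ↥T q)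
      rw [ha] at h
      obtain ⟨b, hb⟩ := IsPGroup.iff_card.1 (S.isPGroup'.to_subgroup (MulAction.stabilizer ↥T q))
      have hdvd : 2 ^ b ∣ 10200960 := by
        rw [← hb, ← hstab q]
        exact Subgroup.card_dvd_of_injective
          ((T.subtype.comp (MulAction.stabilizer ↥T q).subtype).codRestrict
            (MulAction.stabilizer ↥Cfsg.M24 q) (fun s => s.2))
          (fun u v huv => by
            have h' := congrArg Subtype.val huv
            exact Subtype.ext (Subtype.ext h'))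
      have hb7 : b ≤ 7 := by
        by_contra hlt
        have h8 : 2 ^ 8 ∣ 10200960 := (pow_dvd_pow 2 (by omega : 8 ≤ b)).trans hdvd
        norm_num at h8
      rw [hb] at h
      by_contra hlt
      have : 2 ^ b ≤ 2 ^ 7 := Nat.pow_le_pow_right two_pos hb7
      nlinarith
    · rw [Nat.card_coe_set_eq, ← Set.ncard_coe_finset W]
      refine Set.ncard_le_ncard ?_ W.finite_toSet
      rintro _ ⟨s, rfl⟩
      exact hW s
  -- a fixed octad
  let Oct := {o : Finset Cfsg.GolayPt // o ∈ Cfsg.octads}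
  letI : MulAction ↥T Oct :=
    { smul := fun s o => ⟨((s : ↥Cfsg.M24) : Equiv.Perm Cfsg.GolayPt) • o.1,
        Cfsg.Agent.Golay.smul_mem_octads (s : ↥Cfsg.M24).2 o.2⟩
      one_smul := fun o => Subtype.ext (one_smul _ o.1)
      mul_smul := fun s t o => Subtype.ext (mul_smul _ _ o.1) }
  have hmod := S.isPGroup'.card_modEq_card_fixedPoints Oct
  have hOct : Nat.card Oct = 759 := by
    rw [← Cfsg.Agent.Golay.ncard_octads, ← Nat.card_coe_set_eq]
  obtain ⟨⟨⟨o, ho⟩, hfix⟩⟩ : Nonempty (MulAction.fixedPoints ↥T Oct) := by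
    by_contra hne
    rw [not_nonempty_iff] at hne
    rw [Nat.card_of_isEmpty (α := MulAction.fixedPoints ↥T Oct), hOct] at hmod
    exact absurd hmod (by decide)
  have hfo : ∀ s : ↥T, ((s : ↥Cfsg.M24) : Equiv.Perm Cfsg.GolayPt) • o = o :=
    fun s => congrArg Subtype.val (hfix s)
  set W := (Finset.univ : Finset Cfsg.GolayPt) \ o with hWdef
  have hWc : W.card = 16 := by
    rw [hWdef, Finset.card_sdiff, Finset.inter_univ, Finset.card_univ, Cfsg.Agent.Golay.card_of_mem_octads ho,
      ← Nat.card_eq_fintype_card, hpt24]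
  have hso : ∀ (s : ↥T) (q : Cfsg.GolayPt), q ∈ o → (s : ↥Cfsg.M24) • q ∈ o := by
    intro s q hq
    rw [← hfo s]
    exact Finset.smul_mem_smul_finset hq
  have hsW : ∀ (s : ↥T) (q : Cfsg.GolayPt), q ∈ W → (s : ↥Cfsg.M24) • q ∈ W := by
    intro s q hq
    simp only [hWdef, Finset.mem_sdiff, Finset.mem_univ, true_and] at hq ⊢
    intro h
    apply hq
    have := hso s⁻¹ _ h
    simpa using this
  -- the pointwise stabilizer of the octad
  set E : Subgroup ↥Cfsg.M24 := (Cfsg.M24 ⊓ fixingSubgroup (Equiv.Perm Cfsg.GolayPt)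
    (o : Set Cfsg.GolayPt)).subgroupOf Cfsg.M24 with hE
  have hEmem : ∀ g : ↥Cfsg.M24, g ∈ E ↔ ∀ q ∈ o, (g : Equiv.Perm Cfsg.GolayPt) • q = q := by
    intro g
    simp [hE, Subgroup.mem_subgroupOf, mem_fixingSubgroup_iff]
  have hEc : Nat.card ↥E = 16 :=
    (Nat.card_congr (Subgroup.subgroupOfEquivOfLe inf_le_left).toEquiv).trans (S0381.result o ho).1
  have hTE : T ≤ Subgroup.normalizer (E : Set ↥Cfsg.M24) := by
    intro s hs
    rw [Subgroup.mem_normalizer_iff]
    intro g
    rw [hEmem, hEmem]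
    constructor
    · intro h q hq
      have h1 := h _ (hso (⟨s, hs⟩⁻¹ : ↥T) q hq)
      simp only [Subgroup.coe_inv, Subgroup.smul_def] at h1
      rw [Subgroup.coe_mul, Subgroup.coe_mul, Subgroup.coe_inv, mul_smul, mul_smul, h1, smul_inv_smul]
    · intro h q hq
      have h1 := h _ (hso (⟨s, hs⟩ : ↥T) q hq)
      simp only [Subgroup.smul_def] at h1
      rw [Subgroup.coe_mul, Subgroup.coe_mul, Subgroup.coe_inv, mul_smul, mul_smul, inv_smul_smul,
        smul_left_cancel_iff] at h1
      exact h1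
  have hET : E ≤ T := by
    have hEp : IsPGroup 2 ↥E := IsPGroup.of_card (n := 4) (by rw [hEc]; norm_num)
    have := S.is_maximal' (hEp.to_sup_of_normal_left' S.isPGroup' hTE) le_sup_right
    exact le_sup_left.trans this.le
  -- the complement of the octad is one orbit
  have hWorb : ∀ q ∈ W, ∀ q' ∈ W, ∃ s : ↥T, (s : ↥Cfsg.M24) • q = q' := by
    intro q hq q' hq'
    have hfree : Function.Injective (fun e : ↥E =>
        (⟨(e : ↥Cfsg.M24) • q, hsW ⟨e, hET e.2⟩ q hq⟩ : W)) := by
      intro u v huv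
      have h : (u : ↥Cfsg.M24) • q = (v : ↥Cfsg.M24) • q := congrArg Subtype.val huv
      have hq' : q ∉ o := (Finset.mem_sdiff.1 hq).2
      have hbot := (S1554.result o ho q hq').1
      have hm : ((v⁻¹ * u : ↥E) : ↥Cfsg.M24) • q = q := by
        rw [Subgroup.coe_mul, Subgroup.coe_inv, mul_smul, h, inv_smul_smul]
      have hmem : (((v⁻¹ * u : ↥E) : ↥Cfsg.M24) : Equiv.Perm Cfsg.GolayPt) ∈ (⊥ : Subgroup _) := by
        rw [← hbot]
        have h1 := Subgroup.mem_subgroupOf.1 (v⁻¹ * u : ↥E).2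
        refine Subgroup.mem_inf.2 ⟨h1, Subgroup.mem_inf.2 ⟨Subgroup.mem_inf.2 ⟨((v⁻¹ * u : ↥E) : ↥Cfsg.M24).2, ?_⟩, hm⟩⟩
        exact congrArg Subtype.val (hfix ⟨_, hET (v⁻¹ * u : ↥E).2⟩)
      have h2 : v⁻¹ * u = 1 := Subtype.ext (Subtype.ext (Subgroup.mem_bot.1 hmem))
      exact (inv_mul_eq_one.1 h2).symm
    have hbij : Function.Bijective (fun e : ↥E =>
        (⟨(e : ↥Cfsg.M24) • q, hsW ⟨e, hET e.2⟩ q hq⟩ : W)) := by
      refine (Nat.bijective_iff_injective_and_card _).2 ⟨hfree, ?_⟩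
      rw [hEc, Nat.card_eq_fintype_card, Fintype.card_coe, hWc]
    obtain ⟨e, he⟩ := hbij.2 ⟨q', hq'⟩
    exact ⟨⟨e, hET e.2⟩, congrArg Subtype.val he⟩
  -- the octad is one orbit
  have hoorb : ∀ q ∈ o, ∀ q' ∈ o, ∃ s : ↥T, (s : ↥Cfsg.M24) • q = q' := by
    intro q hq q' hq'
    obtain ⟨m, hm, hmo, hmeq⟩ := horb q o (fun s => hso s q hq)
    have heq : MulAction.orbit ↥T q = (o : Set Cfsg.GolayPt) := by
      refine Set.eq_of_subset_of_ncard_le ?_ ?_ o.finite_toSet
      · rintro _ ⟨s, rfl⟩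
        exact hso s q hq
      · rw [Set.ncard_coe_finset, Cfsg.Agent.Golay.card_of_mem_octads ho, ← Nat.card_coe_set_eq, ← hmeq]
        exact hm
    obtain ⟨s, hs⟩ : q' ∈ MulAction.orbit ↥T q := by rw [heq]; exact hq'
    exact ⟨s, hs⟩
  -- odd order elements centralizing the Sylow subgroup are trivial
  have hodd : ∀ x : ↥Cfsg.M24, x ∈ Subgroup.centralizer (T : Set ↥Cfsg.M24) → Odd (orderOf x) → x = 1 := by
    intro x hx hxo
    have hcomm : ∀ (s : ↥T) (q : Cfsg.GolayPt), x • (s : ↥Cfsg.M24) • q = (s : ↥Cfsg.M24) • x • q := by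
      intro s q
      rw [← mul_smul, ← mul_smul, Subgroup.mem_centralizer_iff.1 hx s s.2]
    have hsame : ∀ q : Cfsg.GolayPt, ∃ s : ↥T, (s : ↥Cfsg.M24) • q = x • q := by
      intro q
      by_cases hW' : ∀ w ∈ W, x • w ∈ W
      · have hinjW : Set.SurjOn (fun w => x • w) (W : Set Cfsg.GolayPt) (W : Set Cfsg.GolayPt) :=
          Finset.surjOn_of_injOn_of_card_le _ (fun w hw => hW' w hw)
            (fun u _ v _ h => MulAction.injective x h) le_rfl
        by_cases hq : q ∈ o
        · refine hoorb q hq _ ?_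
          by_contra hxq
          obtain ⟨w, hw, hwe⟩ := hinjW (show x • q ∈ (W : Set Cfsg.GolayPt) by
            simp [hWdef, hxq])
          have hwq : w = q := MulAction.injective x hwe
          subst hwq
          exact (Finset.mem_sdiff.1 hw).2 hq
        · have hqW : q ∈ W := Finset.mem_sdiff.2 ⟨Finset.mem_univ _, hq⟩
          exact hWorb q hqW _ (hW' q hqW)
      · exfalso
        push Not at hW'
        obtain ⟨w, hw, hxw⟩ := hW'
        have hxo' : x • w ∈ o := by simpa [hWdef] using hxw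
        -- then all of `x • W` lies in the octad
        have hsub : W.image (fun w => x • w) ⊆ o := by
          intro y hy
          obtain ⟨w', hw', rfl⟩ := Finset.mem_image.1 hy
          obtain ⟨s, rfl⟩ := hWorb w hw w' hw'
          rw [hcomm]
          exact hso s _ hxo'
        have := Finset.card_le_card hsub
        rw [Finset.card_image_of_injective _ (MulAction.injective x), hWc,
          Cfsg.Agent.Golay.card_of_mem_octads ho] at this
        omega
    have hfixall : ∀ q : Cfsg.GolayPt, x • q = q := by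
      intro q
      obtain ⟨s, hs⟩ := hsame q
      have hpow : ∀ n : ℕ, x ^ n • q = (s : ↥Cfsg.M24) ^ n • q := by
        intro n
        induction n with
        | zero => simp
        | succ n ih =>
          rw [pow_succ', mul_smul, ih, ← SubmonoidClass.coe_pow, hcomm, ← hs, ← mul_smul,
            SubmonoidClass.coe_pow, ← pow_succ]
      have h1024 : x ^ (2 ^ 10) • q = q := by
        rw [hpow, ← SubmonoidClass.coe_pow, ← ha, pow_card_eq_one', OneMemClass.coe_one, one_smul]
      obtain ⟨j, hj⟩ := exists_pow_eq_self_of_coprime (x := x) (n := 2 ^ 10)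
        (Nat.Coprime.pow_left 10 (Nat.coprime_two_left.2 hxo))
      have hmem : x ^ (2 ^ 10) ∈ MulAction.stabilizer ↥Cfsg.M24 q := h1024
      have := Subgroup.pow_mem _ hmem j
      rwa [hj] at this
    exact Subtype.ext (Equiv.ext hfixall)
  refine le_antisymm (fun g hg => ?_) Subgroup.le_normalizer
  obtain ⟨s, hs, hconj⟩ := hfus g hg
  have hc : s⁻¹ * g ∈ Subgroup.centralizer (T : Set ↥Cfsg.M24) := by
    rw [Subgroup.mem_centralizer_iff]
    intro y hy
    have := hconj y hy
    calc y * (s⁻¹ * g) = s⁻¹ * (s * y * s⁻¹) * g := by group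
      _ = s⁻¹ * (g * y * g⁻¹) * g := by rw [this]
      _ = s⁻¹ * g * y := by group
  set c := s⁻¹ * g with hcdef
  obtain ⟨k, hk⟩ : ∃ k, c ^ 2 ^ k = 1 := by
    obtain ⟨k, m, hm, hkm⟩ := Nat.exists_eq_pow_mul_and_not_dvd (orderOf_pos c).ne' 2 (by norm_num)
    refine ⟨k, hodd _ (Subgroup.pow_mem _ hc _) ?_⟩
    rw [orderOf_pow' _ (pow_pos two_pos k).ne', hkm, Nat.gcd_eq_right (dvd_mul_right _ _),
      Nat.mul_div_cancel_left _ (pow_pos two_pos k)]
    exact Nat.odd_iff.2 (by omega)
  have hzc : IsPGroup 2 ↥(Subgroup.zpowers c) := by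
    rintro ⟨y, hy⟩
    obtain ⟨i, rfl⟩ := Subgroup.mem_zpowers_iff.1 hy
    exact ⟨k, Subtype.ext (show (c ^ i) ^ 2 ^ k = 1 by
      rw [← zpow_natCast, ← zpow_mul, mul_comm, zpow_mul, zpow_natCast, hk, one_zpow])⟩
  have hle : Subgroup.zpowers c ⊔ T ≤ T :=
    (S.is_maximal' (hzc.to_sup_of_normal_right' S.isPGroup'
      ((Subgroup.zpowers_le.2 hc).trans (Subgroup.centralizer_le_normalizer _))) le_sup_right).le
  have := mul_mem hs (hle (Subgroup.mem_sup_left (Subgroup.mem_zpowers c)))
  rwa [hcdef, mul_inv_cancel_left] at this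

end Cfsg.Agent.S2882
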