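import Cfsg.Statements.S2896
import Cfsg.Agent.LargeSub.Local

set_option autoImplicit false
open Cfsg

namespace Cfsg.Agent.S2896

/-- Let p be a prime dividing the order of the finite group G, S a Sylow p-subgroup of G and X a subgroup of S. (i) If some nontrivial element z of the centre of X has F*(C_G(z)) = O_p(C_G(z)), then F*(N_G(X)) = O_p(N_G(X)). (ii) G has parabolic characteristic p if and only if F*(C_G(z)) = O_p(C_G(z)) for every nontrivial z ∈ Ω₁(Z(S)). (iii) If F*(C_G(z)) = O_p(C_G(z)) for every element z of S of order p, then G has local characteristic p. -/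
theorem result {G : Type*} [Group G] [Finite G] {p : ℕ} [Fact p.Prime] (hdiv : p ∣ Nat.card G) (S : Sylow p G) (X : Subgroup G) (hX : X ≤ (S : Subgroup G)) : (∀ z : G, z ≠ 1 → z ∈ X → (∀ x ∈ X, x * z = z * x) → Cfsg.generalizedFittingSubgroup ↥(Subgroup.centralizer ({z} : Set G)) = Cfsg.pCore p ↥(Subgroup.centralizer ({z} : Set G)) → Cfsg.generalizedFittingSubgroup ↥(Subgroup.normalizer (X : Set G)) = Cfsg.pCore p ↥(Subgroup.normalizer (X : Set G))) ∧ (Cfsg.IsOfParabolicCharacteristic p G ↔ ∀ z : G, z ≠ 1 → z ∈ Cfsg.omegaOne p ((S : Subgroup G) ⊓ Subgroup.centralizer ((S : Subgroup G) : Set G)) → Cfsg.generalizedFittingSubgroup ↥(Subgroup.centralizer ({z} : Set G)) = Cfsg.pCore p ↥(Subgroup.centralizer ({z} : Set G))) ∧ ((∀ z : G, z ∈ (S : Subgroup G) → orderOf z = p → Cfsg.generalizedFittingSubgroup ↥(Subgroup.centralizer ({z} : Set G)) = Cfsg.pCore p ↥(Subgroup.centralizer ({z} : Set G))) → Cfsg.IsOfLocalCharacteristic p G) := by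
  open Cfsg.Agent.LocalEven64 Cfsg.Agent.LargeSub in
  refine ⟨fun z _ hzX hzc hF => charPOf_iff_generalizedFitting.mp
      (charPOf_normalizer_of_central (S.2.to_le hX) hzX hzc (charPOf_iff_generalizedFitting.mpr hF)),
    ⟨fun hG z hz1 hz => ?_, fun h => ?_⟩, fun h => ⟨hdiv, fun T hT hT1 => ?_⟩⟩
  · have hz' : z ∈ (S : Subgroup G) ⊓ Subgroup.centralizer ((S : Subgroup G) : Set G) :=
      (Subgroup.closure_le _).mpr (fun x hx => hx.1) hz
    exact LocalEven64.charPOf_iff_generalizedFitting.mp (LargeSub.parabolic_charPOf_centralizer hG S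
      hz'.1 (fun x hx => Subgroup.mem_centralizer_iff.mp hz'.2 x hx) hz1)
  · refine LargeSub.parabolicCharacteristic_of S fun z hz hzc hzo =>
      LocalEven64.charPOf_iff_generalizedFitting.mpr (h z ?_ ?_)
    · rintro rfl; exact (Fact.out : p.Prime).ne_one (by simpa using hzo.symm)
    · exact LargeSub.mem_omegaOne_of ⟨hz, Subgroup.mem_centralizer_iff.mpr hzc⟩
        (hzo ▸ pow_orderOf_eq_one z)
  · obtain ⟨w, hw, hwo, hwc⟩ := LargeSub.exists_central_orderOf_eq hT hT1
    obtain ⟨g, -, hg⟩ := LargeSub.exists_conj_le_of_sylow_le S le_top le_top hT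
    obtain ⟨s, hs, rfl⟩ := hg hw
    refine LargeSub.charPOf_normalizer_of_central hT hw hwc ?_
    refine LargeSub.charPOf_centralizer_conj
      (LocalEven64.charPOf_iff_generalizedFitting.mpr (h s hs ?_)) g
    rw [← hwo]
    exact (orderOf_injective (MulAut.conj g).toMonoidHom (MulAut.conj g).injective s).symm

end Cfsg.Agent.S2896
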