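import Cfsg.Statements.S2897
import Cfsg.Agent.LargeSub.Local
import Cfsg.Agent.Lib.Transfer.Focal

set_option autoImplicit false
open Cfsg

namespace Cfsg.Agent.S2897

/-- Let p be a prime dividing the order of the finite group G, suppose G has parabolic characteristic p, let S be a Sylow p-subgroup of G and G₁ a normal subgroup of G. If Ω₁(Z(S ∩ G₁)) is nontrivial and contained in Ω₁(Z(S)), then G₁ has parabolic characteristic p. -/
theorem result {G : Type*} [Group G] [Finite G] {p : ℕ} [Fact p.Prime] (hdiv : p ∣ Nat.card G) (hG : Cfsg.IsOfParabolicCharacteristic p G) (S : Sylow p G) (G₁ : Subgroup G) [G₁.Normal] (hne : Cfsg.omegaOne p (((S : Subgroup G) ⊓ G₁) ⊓ Subgroup.centralizer (((S : Subgroup G) ⊓ G₁ : Subgroup G) : Set G)) ≠ ⊥) (hle : Cfsg.omegaOne p (((S : Subgroup G) ⊓ G₁) ⊓ Subgroup.centralizer (((S : Subgroup G) ⊓ G₁ : Subgroup G) : Set G)) ≤ Cfsg.omegaOne p ((S : Subgroup G) ⊓ Subgroup.centralizer ((S : Subgroup G) : Set G))) : Cfsg.IsOfParabolicCharacteristic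 p ↥G₁ := by
  open Cfsg.Agent.LocalEven64 Cfsg.Agent.LargeSub in
  obtain ⟨T, hT⟩ := Cfsg.Agent.Transfer.exists_sylow_subgroupOf_normal S G₁
  refine LargeSub.parabolicCharacteristic_of T fun z hz hzc hzo => ?_
  rw [hT] at hz hzc
  have hzp : ((z : G)) ^ p = 1 := by
    rw [← hzo, ← Subgroup.orderOf_coe]; exact pow_orderOf_eq_one _
  have hzW : (z : G) ∈ Cfsg.omegaOne p (((S : Subgroup G) ⊓ G₁) ⊓
      Subgroup.centralizer (((S : Subgroup G) ⊓ G₁ : Subgroup G) : Set G)) := by
    refine LargeSub.mem_omegaOne_of ⟨⟨hz, z.2⟩, Subgroup.mem_centralizer_iff.mpr fun x hx => ?_⟩ hzp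
    exact congrArg Subtype.val (hzc ⟨x, hx.2⟩ hx.1)
  have hz' : (z : G) ∈ (S : Subgroup G) ⊓ Subgroup.centralizer ((S : Subgroup G) : Set G) :=
    (Subgroup.closure_le _).mpr (fun x hx => hx.1) (hle hzW)
  have hC := LargeSub.parabolic_charPOf_centralizer hG S hz'.1
    (fun x hx => Subgroup.mem_centralizer_iff.mp hz'.2 x hx) (by
      intro h
      have : z = 1 := Subtype.ext h
      rw [this, orderOf_one] at hzo
      exact (Fact.out : p.Prime).ne_one hzo.symm)
  have hK := hC.of_normal (L := G₁ ⊓ Subgroup.centralizer ({(z : G)} : Set G)) inf_le_right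
    (LargeSub.le_normalizer_inf (by rw [Subgroup.normalizer_eq_top (H := G₁)]; exact le_top)
      Subgroup.le_normalizer)
  have e : G₁ ⊓ Subgroup.centralizer ({(z : G)} : Set G) =
      (Subgroup.centralizer ({z} : Set ↥G₁)).map G₁.subtype := by
    ext x
    constructor
    · rintro ⟨hx1, hx2⟩
      exact ⟨⟨x, hx1⟩, Subgroup.mem_centralizer_singleton_iff.mpr
        (Subtype.ext (Subgroup.mem_centralizer_singleton_iff.mp hx2)), rfl⟩
    · rintro ⟨y, hy, rfl⟩
      exact ⟨y.2, Subgroup.mem_centralizer_singleton_iff.mpr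
        (congrArg Subtype.val (Subgroup.mem_centralizer_singleton_iff.mp hy))⟩
  rw [e] at hK
  exact LargeSub.charPOf_of_map hK

end Cfsg.Agent.S2897
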