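import Cfsg.Statements.S2898
import Cfsg.Agent.LargeSub.Local

set_option autoImplicit false
open Cfsg

namespace Cfsg.Agent.S2898

/-- Let G be a finite group of even order with parabolic characteristic 2. If the centre of G ⧸ O(G) is trivial, then O(G) = 1. -/
theorem result {G : Type*} [Group G] [Finite G] (h2 : 2 ∣ Nat.card G) (hG : Cfsg.IsOfParabolicCharacteristic 2 G) [hN : (Cfsg.oddCore G).Normal] (hZ : Subgroup.center (G ⧸ Cfsg.oddCore G) = ⊥) : Cfsg.oddCore G = ⊥ := by
  classical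
  haveI : Fact (Nat.Prime 2) := ⟨Nat.prime_two⟩
  set N := Cfsg.oddCore G with hNdef
  obtain ⟨S⟩ := (inferInstance : Nonempty (Sylow 2 G))
  have hS1 : (S : Subgroup G) ≠ ⊥ := fun h => by
    have := S.dvd_card_of_dvd_card h2
    rw [h, Subgroup.card_bot] at this
    norm_num at this
  obtain ⟨z, hzS, hzo, hzc⟩ := LargeSub.exists_central_orderOf_eq S.2 hS1
  by_contra hN1
  -- central involutions of `S` invert `N` without fixed points
  have hfree : ∀ u ∈ (S : Subgroup G), (∀ x ∈ (S : Subgroup G), x * u = u * x) → orderOf u = 2 →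
      N ⊓ Subgroup.centralizer ({u} : Set G) = ⊥ := by
    intro u hu huc huo
    have hC := LargeSub.parabolic_charPOf_centralizer hG S hu huc
      (by rintro rfl; simp at huo)
    have hK := hC.of_normal (L := N ⊓ Subgroup.centralizer ({u} : Set G)) inf_le_right
      (LargeSub.le_normalizer_inf (by rw [Subgroup.normalizer_eq_top (H := N)]; exact le_top)
        Subgroup.le_normalizer)
    have hcop : (Nat.card N).Coprime 2 := Cfsg.Agent.Thompson.card_pPrimeCore_coprime
    rw [Subgroup.eq_bot_iff_forall]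
    intro x hx
    have hxo : (orderOf x).Coprime 2 :=
      hcop.coprime_dvd_left (by
        have := orderOf_dvd_natCard (⟨x, hx.1⟩ : N)
        rwa [Subgroup.orderOf_mk] at this)
    refine hK.eq_one hx hxo (Subgroup.mem_centralizer_iff.mpr fun y hy => ?_)
    have : y ∈ Cfsg.pCoreOf 2 (N ⊓ Subgroup.centralizer ({u} : Set G)) ⊓ N :=
      ⟨hy, (LargeSub.pCoreOf_le _ hy).1⟩
    rw [Cfsg.Agent.Thompson.inf_eq_bot_of_isPGroup_of_coprime (LargeSub.isPGroup_pCoreOf _) hcop]
      at this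
    rw [Subgroup.mem_bot.mp this, one_mul, mul_one]
  have hz2 : z * z = 1 := by rw [← pow_two, ← hzo]; exact pow_orderOf_eq_one z
  have hzinv : z⁻¹ = z := inv_eq_of_mul_eq_one_left hz2
  -- inversion
  have hinv : ∀ y ∈ N, z * y * z = y⁻¹ := by
    have hzN : ∀ x ∈ N, z * x * z ∈ N := fun x hx => by
      have h := (inferInstance : N.Normal).conj_mem x hx z
      rwa [hzinv] at h
    let f : N → N := fun x => ⟨(x : G)⁻¹ * (z * x * z), mul_mem (inv_mem x.2) (hzN x x.2)⟩
    have hf : Function.Injective f := by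
      intro a b hab
      have h : (a : G)⁻¹ * (z * a * z) = (b : G)⁻¹ * (z * b * z) := congrArg Subtype.val hab
      have h1 : (b : G) * (a : G)⁻¹ ∈ N ⊓ Subgroup.centralizer ({z} : Set G) := by
        refine Subgroup.mem_inf.2 ⟨mul_mem b.2 (inv_mem a.2), Subgroup.mem_centralizer_singleton_iff.mpr ?_⟩
        calc (b : G) * (a : G)⁻¹ * z = b * ((a : G)⁻¹ * (z * a * z)) * (z⁻¹ * (a : G)⁻¹) := by group
          _ = b * ((b : G)⁻¹ * (z * b * z)) * (z⁻¹ * (a : G)⁻¹) := by rw [h]
          _ = z * (b * (a : G)⁻¹) := by group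
      rw [hfree z hzS hzc hzo, Subgroup.mem_bot, mul_inv_eq_one] at h1
      exact Subtype.ext h1.symm
    intro y hy
    obtain ⟨x, hx⟩ := Finite.surjective_of_injective hf ⟨y, hy⟩
    have hxy : (x : G)⁻¹ * (z * x * z) = y := congrArg Subtype.val hx
    rw [← hxy]
    calc z * ((x : G)⁻¹ * (z * x * z)) * z = z * (x : G)⁻¹ * z * x * (z * z) := by group
      _ = z⁻¹ * (x : G)⁻¹ * z⁻¹ * x := by rw [hz2, mul_one, hzinv]
      _ = _ := by group
  -- the centralizer of `N` has odd order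
  set C := Subgroup.centralizer (N : Set G) with hCdef
  haveI hCn : C.Normal := by rw [hCdef]; infer_instance
  have hCN : C ≤ N := by
    refine Cfsg.Agent.Thompson.le_pPrimeCore hCn ?_
    by_contra hcop
    rw [Nat.coprime_comm, Nat.prime_two.coprime_iff_not_dvd, not_not] at hcop
    obtain ⟨Q, hQ⟩ := exists_prime_orderOf_dvd_card' 2 hcop
    obtain ⟨g, -, hg⟩ := LargeSub.exists_conj_le_of_sylow_le S le_top le_top
      (LargeSub.isPGroup_zpowers (p := 2) (x := (Q : G))
        ⟨1, by rw [pow_one, ← hQ, ← Subgroup.orderOf_coe]; exact pow_orderOf_eq_one _⟩)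
    obtain ⟨s, hs, hsQ⟩ := hg (Subgroup.mem_zpowers (Q : G))
    have hsC : s ∈ C := by
      have h1 : g⁻¹ * (Q : G) * g⁻¹⁻¹ ∈ C := hCn.conj_mem _ Q.2 g⁻¹
      rw [← hsQ] at h1
      simpa [mul_assoc] using h1
    have hne : (S : Subgroup G) ⊓ C ≠ ⊥ := by
      intro h
      have : s ∈ (S : Subgroup G) ⊓ C := ⟨hs, hsC⟩
      rw [h, Subgroup.mem_bot] at this
      rw [this, map_one] at hsQ
      rw [← Subgroup.orderOf_coe, ← hsQ, orderOf_one] at hQ
      exact absurd hQ (by norm_num)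
    obtain ⟨u, hu, huo⟩ := LargeSub.exists_orderOf_eq_of_ne_bot
      (S.2.to_inf_left (K := C)).to_inf_left
      (LargeSub.exists_ne_one_inf_centralizer S.2 (S.2.to_inf_left (K := C)) hne
        (LargeSub.le_normalizer_inf Subgroup.le_normalizer
          (by rw [Subgroup.normalizer_eq_top (H := C)]; exact le_top)))
    apply hN1
    rw [← hfree u hu.1.1 (fun x hx => Subgroup.mem_centralizer_iff.mp hu.2 x hx) huo, eq_comm,
      inf_eq_left]
    intro n hn
    exact Subgroup.mem_centralizer_singleton_iff.mpr (Subgroup.mem_centralizer_iff.mp hu.1.2 n hn)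
  -- so `z` is central modulo `N`
  have hzcen : (z : G ⧸ N) ∈ Subgroup.center (G ⧸ N) := by
    rw [Subgroup.mem_center_iff]
    intro q
    induction q using QuotientGroup.induction_on with
    | _ g =>
      rw [← QuotientGroup.mk_mul, ← QuotientGroup.mk_mul, QuotientGroup.eq]
      refine hCN (Subgroup.mem_centralizer_iff.mpr fun y hy => ?_)
      have hy1 : g⁻¹⁻¹⁻¹ * y * g⁻¹⁻¹ ∈ N := by
        simpa using (inferInstance : N.Normal).conj_mem y hy g⁻¹
      have hgy : g * y * g⁻¹ ∈ N := (inferInstance : N.Normal).conj_mem y hy g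
      have e1 : z * g * y * g⁻¹ * z = (g * y * g⁻¹)⁻¹ := by
        rw [show z * g * y * g⁻¹ * z = z * (g * y * g⁻¹) * z by group]; exact hinv _ hgy
      have e2 : z * y * z = y⁻¹ := hinv y hy
      -- `(g z)⁻¹ (z g)` centralizes `N`
      have e3 : ((g * z)⁻¹ * (z * g)) * y * ((g * z)⁻¹ * (z * g))⁻¹ = y := by
        calc ((g * z)⁻¹ * (z * g)) * y * ((g * z)⁻¹ * (z * g))⁻¹
            = z⁻¹ * (g⁻¹ * (z * g * y * g⁻¹ * z⁻¹) * g) * z := by group
          _ = z⁻¹ * (g⁻¹ * (g * y * g⁻¹)⁻¹ * g) * z := by rw [hzinv, e1]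
          _ = z⁻¹ * y⁻¹ * z := by group
          _ = z * y⁻¹ * z := by rw [hzinv]
          _ = (z⁻¹ * y * z⁻¹)⁻¹ := by group
          _ = y := by rw [hzinv, e2, inv_inv]
      exact (mul_inv_eq_iff_eq_mul.mp e3).symm
  rw [hZ, Subgroup.mem_bot, QuotientGroup.eq_one_iff] at hzcen
  have h1 : orderOf z ∣ Nat.card N := by
    have := orderOf_dvd_natCard (⟨z, hzcen⟩ : N)
    rwa [Subgroup.orderOf_mk] at this
  rw [hzo] at h1
  exact (Nat.prime_two.coprime_iff_not_dvd.mp
    (Cfsg.Agent.Thompson.card_pPrimeCore_coprime (p := 2) (G := G)).symm) h1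

end Cfsg.Agent.S2898
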