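import Cfsg.Statements.S2906
import Cfsg.Agent.LargeSub.PMinimalLayer

set_option autoImplicit false
open Cfsg

namespace Cfsg.Agent.S2906

/-- Let P be a finite p-minimal group with O_p(P) = 1, S a Sylow p-subgroup of P and K a component of P. Then O^p(P) = F*(P) = E(P) is generated by the S-conjugates of K, and the subgroup K·N_S(K) is again p-minimal. -/
theorem result {P : Type*} [Group P] [Finite P] {p : ℕ} [Fact p.Prime] (hP : Cfsg.IsPMinimal p P) (hOp : Cfsg.pCore p P = ⊥) (S : Sylow p P) (K : Subgroup P) (hK : Cfsg.IsComponent K) : Cfsg.pResidual p P = Cfsg.generalizedFittingSubgroup P ∧ Cfsg.generalizedFittingSubgroup P = Cfsg.layer P ∧ Cfsg.layer P = ⨆ s : ↥(S : Subgroup P), K.map (MulAut.conj (s : P)).toMonoidHom ∧ Cfsg.IsPMinimal p ↥(K ⊔ ((S : Subgroup P) ⊓ Subgroup.normalizer (K : Set P))) := by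
  classical
  obtain ⟨hn, M, ⟨hMc, hSM⟩, huniq⟩ := hP S
  have h : LargeSub.PMin p S M := ⟨hn, hMc, hSM, fun M' h1 h2 => huniq M' ⟨h1, h2⟩⟩
  obtain ⟨hKM, hOE, hF, hlayer⟩ := h.component_structure hOp hK
  refine ⟨hOE.trans hF.symm, hF, hlayer, ?_⟩
  set T : Subgroup P := (S : Subgroup P) ⊓ Subgroup.normalizer (K : Set P) with hT
  set H : Subgroup P := K ⊔ T with hH
  have hTK : T ≤ Subgroup.normalizer (K : Set P) := inf_le_right
  have hD : T ⊓ K = (S : Subgroup P) ⊓ K := by
    rw [hT, inf_assoc, inf_eq_right.2 (Subgroup.le_normalizer : K ≤ _)]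
  -- `T` is a Sylow subgroup of `H`
  have hTi : ¬ p ∣ T.relIndex H := by
    haveI : (K.subgroupOf (T ⊔ K)).Normal :=
      (Subgroup.normal_subgroupOf_iff_le_normalizer le_sup_right).2 (sup_le hTK Subgroup.le_normalizer)
    haveI : (K.subgroupOf T).Normal := Subgroup.normal_subgroupOf_of_le_normalizer hTK
    have e2 : K.relIndex (T ⊔ K) = K.relIndex T :=
      (Nat.card_congr (QuotientGroup.quotientInfEquivProdNormalizerQuotient T K hTK).toEquiv).symm
    have h1 := Subgroup.relIndex_mul_relIndex (T ⊓ K) T H inf_le_left le_sup_right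
    have h2 := Subgroup.relIndex_mul_relIndex (T ⊓ K) K H inf_le_right le_sup_left
    rw [Subgroup.inf_relIndex_left] at h1
    rw [hH, sup_comm, e2] at h2
    rw [hH, sup_comm, ← h2, mul_comm ((T ⊓ K).relIndex K)] at h1
    rw [hH, sup_comm, Nat.eq_of_mul_eq_mul_left (Nat.pos_of_ne_zero Subgroup.index_ne_zero_of_finite) h1,
      hD]
    exact LAE65.not_dvd_relIndex_inf S hK.1
  set S₀ := ((S.2.to_le (inf_le_left : T ≤ _)).comap_subtype (K := H)).toSylow hTi with hS₀
  have hS₀c : (S₀ : Subgroup ↥H) = T.subgroupOf H := IsPGroup.toSylow_coe _ _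
  -- proper subgroups of `H` containing `T` lie in `M`
  have hsub : ∀ U : Subgroup P, T ≤ U → U ≤ H → U ≠ H → U ≤ M := by
    intro U hTU hUH hne
    have hV : U ⊓ K ≤ M := by
      refine h.component_subgroup_le hK hlayer inf_le_right ?_ ?_ ?_
      · intro hVK
        exact hne (le_antisymm hUH (sup_le (hVK.ge.trans inf_le_left) hTU))
      · exact le_inf (((le_of_eq (inf_comm K (S : Subgroup P))).trans hD.ge).trans (inf_le_left.trans hTU)) inf_le_left
      · exact LargeSub.le_normalizer_inf (hTU.trans Subgroup.le_normalizer) hTK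
    intro u hu
    have hu' : u ∈ T ⊔ K := by
      rw [sup_comm]; exact hUH hu
    obtain ⟨t, ht, k, hk, rfl⟩ := LargeSub.exists_mul_of_mem_sup hTK hu'
    have hkU : k ∈ U := by
      simpa using mul_mem (inv_mem (hTU ht)) hu
    exact mul_mem (hSM ht.1) (hV (Subgroup.mem_inf.2 ⟨hkU, hk⟩))
  have hMH : M.subgroupOf H ≠ ⊤ := fun e =>
    hKM ((le_sup_left : K ≤ H).trans (Subgroup.subgroupOf_eq_top.1 e))
  have hSH : (S₀ : Subgroup ↥H) ≤ M.subgroupOf H := by
    rw [hS₀c]; exact fun x hx => hSM hx.1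
  have hle : ∀ U : Subgroup ↥H, (S₀ : Subgroup ↥H) ≤ U → U ≠ ⊤ → U ≤ M.subgroupOf H := by
    intro U hU hne
    have := hsub (U.map H.subtype) ?_ (Subgroup.map_subtype_le U) ?_
    · exact fun x hx => this ⟨x, hx, rfl⟩
    · intro t ht
      exact ⟨⟨t, (le_sup_right : T ≤ H) ht⟩, hU (by rw [hS₀c]; exact ht), rfl⟩
    · intro e
      apply hne
      apply Subgroup.map_injective H.subtype_injective
      rw [e, ← MonoidHom.range_eq_map, Subgroup.range_subtype]
  obtain ⟨M₁, hM₁, hleM₁⟩ := (eq_top_or_exists_le_coatom (M.subgroupOf H)).resolve_left hMH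
  refine LargeSub.isPMinimal_of_pMin (S := S₀) (M := M₁) ⟨?_, hM₁, hSH.trans hleM₁, fun M' h1 h2 => ?_⟩
  · intro hnorm
    rw [hS₀c, Subgroup.normal_subgroupOf_iff_le_normalizer le_sup_right] at hnorm
    have hKT : K ≤ Subgroup.normalizer (T : Set P) := le_sup_left.trans hnorm
    have hbot : K ⊓ T = ⊥ := by
      have hn' : ((K ⊓ T).subgroupOf K).Normal :=
        (Subgroup.normal_subgroupOf_iff_le_normalizer inf_le_left).2
          (LargeSub.le_normalizer_inf Subgroup.le_normalizer hKT)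
      have hsn : (K ⊓ T).IsSubnormal :=
        Subgroup.IsSubnormal.trans inf_le_left hn'.isSubnormal hK.1
      rw [← le_bot_iff, ← hOp]
      exact Thompson.le_pCore_of_isSubnormal hsn ((S.2.to_le (inf_le_left : T ≤ _)).to_le inf_le_right)
    have hcent : T ≤ Subgroup.centralizer (K : Set P) := by
      rw [← Subgroup.commutator_eq_bot_iff_le_centralizer, ← le_bot_iff, ← hbot]
      exact le_inf (LargeSub.commutator_le_of_le_normalizer hTK)
        (LargeSub.commutator_le_left_of_le_normalizer hKT)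
    apply hKM
    intro k hk
    refine h.component_subgroup_le hK hlayer (V := Subgroup.zpowers k) (Subgroup.zpowers_le.2 hk) ?_ ?_ ?_
      (Subgroup.mem_zpowers k)
    · intro e
      apply Components.not_isMulCommutative_of_isQuasisimple hK.2
      rw [← e]
      infer_instance
    · rw [show K ⊓ (S : Subgroup P) = ⊥ by rw [inf_comm, ← hD, inf_comm, hbot]]
      exact bot_le
    · intro t ht
      apply LargeSub.mem_normalizer_of_conj_le
      rintro _ ⟨x, hx, rfl⟩
      have hxK : x ∈ K := Subgroup.zpowers_le.2 hk hx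
      have e : t * x * t⁻¹ = x := by
        rw [← Subgroup.mem_centralizer_iff.1 (hcent ht) x hxK, mul_inv_cancel_right]
      simpa [e] using hx
  · have h3 : M' ≤ M₁ := (hle M' h2 h1.1).trans hleM₁
    exact (h3.eq_or_lt).resolve_right fun hlt => hM₁.1 (h1.2 _ hlt)

end Cfsg.Agent.S2906
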