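import Cfsg.Statements.S2907
-- import your own Cfsg.Agent.* helpers here

set_option autoImplicit false
open Cfsg

namespace Cfsg.Agent.S2907

/-- Let X be a finite semi-extraspecial p-group and x an element of X outside the centre. Then the index of C_X(x) in X equals the order of Z(X), and the commutators [x, y], y ∈ X, form exactly the centre Z(X). -/
theorem result {X : Type*} [Group X] [Finite X] {p : ℕ} [Fact p.Prime] (hX : Cfsg.IsSemiExtraspecial p X) (x : X) (hx : x ∉ Subgroup.center X) : (Subgroup.centralizer ({x} : Set X)).index = Nat.card ↥(Subgroup.center X) ∧ {z : X | ∃ y : X, z = x * y * x⁻¹ * y⁻¹} = (Subgroup.center X : Set X) := by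
  obtain ⟨⟨hp, hfr, hcomm⟩, hY⟩ := hX
  have hz : ∀ y : X, x * y * x⁻¹ * y⁻¹ ∈ Subgroup.center X := fun y => by
    rw [← hcomm]
    exact Subgroup.commutator_mem_commutator (Subgroup.mem_top x) (Subgroup.mem_top y)
  let φ : X →* Subgroup.center X :=
    MonoidHom.mk' (fun y => ⟨x * y * x⁻¹ * y⁻¹, hz y⟩) fun a b => by
      apply Subtype.ext
      show x * (a * b) * x⁻¹ * (a * b)⁻¹ = (x * a * x⁻¹ * a⁻¹) * (x * b * x⁻¹ * b⁻¹)
      have hb := Subgroup.mem_center_iff.mp (hz b) a⁻¹
      calc x * (a * b) * x⁻¹ * (a * b)⁻¹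
          = x * a * x⁻¹ * ((x * b * x⁻¹ * b⁻¹) * a⁻¹) := by group
        _ = x * a * x⁻¹ * (a⁻¹ * (x * b * x⁻¹ * b⁻¹)) := by rw [hb]
        _ = _ := by group
  have hker : φ.ker = Subgroup.centralizer ({x} : Set X) := by
    ext y
    rw [MonoidHom.mem_ker, Subgroup.mem_centralizer_singleton_iff, Subtype.ext_iff]
    show x * y * x⁻¹ * y⁻¹ = 1 ↔ _
    constructor
    · intro h
      have : x * y = y * x := by
        have h' := congrArg (· * (y * x)) h
        simpa [mul_assoc] using h'
      exact this.symm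
    · intro h
      rw [← h]; group
  have hsurj : φ.range = ⊤ := by
    by_contra hne
    obtain ⟨M, hM, hle⟩ := (eq_top_or_exists_le_coatom φ.range).resolve_left hne
    let Y : Subgroup X := M.map (Subgroup.center X).subtype
    have hYZ : Y ≤ Subgroup.center X := Subgroup.map_subtype_le M
    have hYo : Y.subgroupOf (Subgroup.center X) = M :=
      Subgroup.comap_map_eq_self_of_injective (Subgroup.subtype_injective _) M
    obtain ⟨hYn, -, hcard⟩ := hY Y hYZ (hYo.symm ▸ hM)
    haveI := hYn
    let π := QuotientGroup.mk' Y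
    have hxc : π x ∈ Subgroup.center (X ⧸ Y) := by
      rw [Subgroup.mem_center_iff]
      intro q
      obtain ⟨y, rfl⟩ := QuotientGroup.mk'_surjective Y q
      have : π (x * y * x⁻¹ * y⁻¹) = 1 :=
        (QuotientGroup.eq_one_iff _).mpr ⟨φ y, hle ⟨y, rfl⟩, rfl⟩
      have h' := congrArg (· * (π y * π x)) this
      simp [map_mul, map_inv, mul_assoc] at h'
      exact h'.symm
    have hZle : (Subgroup.center X).map π ≤ Subgroup.center (X ⧸ Y) := by
      rintro _ ⟨z, hz, rfl⟩
      rw [Subgroup.mem_center_iff]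
      intro q
      obtain ⟨y, rfl⟩ := QuotientGroup.mk'_surjective Y q
      rw [← map_mul, ← map_mul, Subgroup.mem_center_iff.mp hz y]
    have hZne : (Subgroup.center X).map π ≠ ⊥ := by
      intro hb
      rw [Subgroup.map_eq_bot_iff, QuotientGroup.ker_mk'] at hb
      have : Y.subgroupOf (Subgroup.center X) = ⊤ := Subgroup.subgroupOf_eq_top.mpr hb
      exact hM.1 (hYo.symm.trans this)
    have hZeq : (Subgroup.center X).map π = Subgroup.center (X ⧸ Y) := by
      apply Subgroup.eq_of_le_of_card_ge hZle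
      rw [hcard]
      rcases (Fact.out : p.Prime).eq_one_or_self_of_dvd _ (hcard ▸ Subgroup.card_dvd_of_le hZle) with h | h
      · exact absurd (Subgroup.card_eq_one.mp h) hZne
      · exact h.ge
    rw [← hZeq] at hxc
    obtain ⟨z, hzc, hzx⟩ := hxc
    obtain ⟨w, hw, hwx⟩ := (QuotientGroup.mk'_eq_mk' Y).mp hzx
    exact hx (hwx ▸ mul_mem hzc (hYZ hw))
  constructor
  · rw [← hker, Subgroup.index_ker, hsurj, Subgroup.card_top]
  · ext z
    constructor
    · rintro ⟨y, rfl⟩; exact hz y
    · intro hzc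
      obtain ⟨y, hy⟩ := MonoidHom.range_eq_top.mp hsurj ⟨z, hzc⟩
      exact ⟨y, (congrArg Subtype.val hy).symm⟩

end Cfsg.Agent.S2907
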