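import Cfsg.Statements.S2909
import Cfsg.Agent.LocalEven64.CharP
import Cfsg.Agent.LocalEven64.Commutator
import Cfsg.Agent.Lib.Coprime.Generation

set_option autoImplicit false
open Cfsg

namespace Cfsg.Agent.S2909

open Subgroup LocalEven64
open scoped commutatorElement

variable {G : Type*} [Group G]

/-- The elements normalizing `W` and acting trivially on `E` modulo `W`. -/
theorem comm_mem_of_mem {E W : Subgroup G} {g : G} (hg : g ∈ normalizer (W : Set G))
    (h : ∀ e ∈ E, ⁅g, e⁆ ∈ W) : ∀ y ∈ zpowers g, ∀ e ∈ E, ⁅y, e⁆ ∈ W := by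
  let K : Subgroup G :=
    { carrier := {y | y ∈ normalizer (W : Set G) ∧ ∀ e ∈ E, ⁅y, e⁆ ∈ W}
      one_mem' := ⟨one_mem _, fun e _ => by simp⟩
      mul_mem' := by
        rintro a b ⟨ha, ha'⟩ ⟨hb, hb'⟩
        refine ⟨(normalizer (W : Set G)).mul_mem ha hb, fun e he => ?_⟩
        rw [commutatorElement_mul_left_eq_conj_mul]
        exact mul_mem ((mem_normalizer_iff.mp ha _).mp (hb' e he)) (ha' e he)
      inv_mem' := by
        rintro a ⟨ha, ha'⟩
        refine ⟨(normalizer (W : Set G)).inv_mem ha, fun e he => ?_⟩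
        have := (mem_normalizer_iff.mp ((normalizer (W : Set G)).inv_mem ha) _).mp (inv_mem (ha' e he))
        have e' : ⁅a⁻¹, e⁆ = a⁻¹ * ⁅a, e⁆⁻¹ * a⁻¹⁻¹ := by
          simp only [commutatorElement_def]; group
        rw [e']; exact this }
  intro y hy
  exact ((zpowers_le (H := K)).mpr ⟨hg, h⟩ hy).2

theorem key [Finite G] {p : ℕ} [Fact p.Prime] (E : Subgroup G) [E.Normal] (hE : IsPGroup p ↥E)
    (U : Subgroup G) (hU : Cfsg.IsElementaryAbelian p U) (hnc : ¬ IsCyclic ↥U)
    (hcond : (∀ u ∈ U, u ≠ 1 → E ⊓ centralizer (U : Set G) = E ⊓ centralizer ({u} : Set G)) ∨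
      (∀ u ∈ U, u ≠ 1 → ⁅E, U⁆ = ⁅E, zpowers u⁆))
    (R : Subgroup G) (hR : ¬ p ∣ Nat.card ↥R) (hRU : U ≤ normalizer (R : Set G)) :
    ⁅R, U⁆ ≤ centralizer (E : Set G) := by
  haveI := hU.1
  have hUp : IsPGroup p U := fun x => ⟨1, Subtype.ext (by simpa using hU.2 x x.2)⟩
  have hcop : (Nat.card U).Coprime (Nat.card R) := by
    obtain ⟨k, hk⟩ := IsPGroup.iff_card.mp hUp
    rw [hk]
    exact ((Fact.out : p.Prime).coprime_iff_not_dvd.mpr hR).pow_left k
  set C := centralizer (E : Set G) with hC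
  haveI : C.Normal := by
    rw [← normalizer_eq_top_iff, ← top_le_iff]
    exact (normalizer_eq_top_iff.mpr ‹E.Normal›).ge.trans (normalizer_le_normalizer_centralizer E)
  let π := QuotientGroup.mk' C
  have hgoal : ∀ H : Subgroup G, H = (centralizer ((U.map π : Subgroup (G ⧸ C)) : Set (G ⧸ C))).comap π →
      R ≤ H → ⁅R, U⁆ ≤ C := by
    rintro H rfl hRH
    rw [commutator_le]
    intro x hx v hv
    rw [← QuotientGroup.eq_one_iff, ← QuotientGroup.mk'_apply C, map_commutatorElement,
      commutatorElement_eq_one_iff_mul_comm]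
    exact (mem_centralizer_iff.mp (hRH hx) _ ⟨v, hv, rfl⟩).symm
  refine hgoal _ rfl (Coprime.le_of_centralizer_le U R _ hnc hRU hcop ?_)
  rintro u hu hu1 x ⟨hxR, hxu⟩
  rw [mem_comap, mem_centralizer_iff]
  rintro _ ⟨v, hv, rfl⟩
  suffices hy : ⁅x, v⁆ ∈ C by
    rw [← QuotientGroup.eq_one_iff, ← QuotientGroup.mk'_apply C, map_commutatorElement,
      commutatorElement_eq_one_iff_mul_comm] at hy
    exact hy.symm
  set y := ⁅x, v⁆ with hy
  have hyR : y ∈ R := by
    rw [hy, commutatorElement_def]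
    have h1 := (mem_normalizer_iff.mp (hRU hv) x⁻¹).mp (inv_mem hxR)
    simpa [mul_assoc] using mul_mem hxR h1
  have hyp : (orderOf y).Coprime p :=
    (((Fact.out : p.Prime).coprime_iff_not_dvd.mpr hR).symm).coprime_dvd_left (orderOf_dvd_natCard R hyR)
  have hxu' : x * u = u * x := mem_centralizer_singleton_iff.mp hxu
  have hvu : v * u = u * v := congrArg Subtype.val (mul_comm' (⟨v, hv⟩ : U) ⟨u, hu⟩)
  have hxc : x ∈ centralizer ({u} : Set G) := mem_centralizer_singleton_iff.mpr hxu'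
  have hvc : v ∈ centralizer ({u} : Set G) := mem_centralizer_singleton_iff.mpr hvu
  have hyu : y ∈ centralizer ({u} : Set G) := by
    rw [hy, commutatorElement_def]
    exact mul_mem (mul_mem (mul_mem hxc hvc) (inv_mem hxc)) (inv_mem hvc)
  have hyQ : y ∈ centralizer (zpowers u : Set G) := by
    rw [mem_centralizer_iff]
    rintro _ ⟨i, rfl⟩
    exact ((Commute.zpow_right (show Commute y u from mem_centralizer_singleton_iff.mp hyu) i).eq).symm
  have hEn : ∀ g : G, g ∈ normalizer (E : Set G) := fun g => by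
    rw [normalizer_eq_top_iff.mpr ‹E.Normal›]; exact mem_top g
  have huQ : IsPGroup p (zpowers u) := hUp.to_le (zpowers_le.mpr hu)
  rcases hcond with h | h
  · refine pq_lemma hE huQ (fun g _ => hEn g) hyp (hEn y) hyQ fun e he heQ => ?_
    have heu : e ∈ centralizer ({u} : Set G) :=
      mem_centralizer_singleton_iff.mpr (mem_centralizer_iff.mp heQ u (mem_zpowers u)).symm
    have hfix : ∀ e', e' ∈ E → e' ∈ centralizer ({u} : Set G) → Commute v e' := fun e' h1 h2 => by
      have : e' ∈ E ⊓ centralizer (U : Set G) := (h u hu hu1).symm ▸ ⟨h1, h2⟩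
      exact mem_centralizer_iff.mp this.2 v hv
    have h1 : Commute v (x⁻¹ * e * x⁻¹⁻¹) := hfix _ (‹E.Normal›.conj_mem e he x⁻¹)
      (mul_mem (mul_mem (inv_mem hxc) heu) (inv_mem (inv_mem hxc)))
    have h2 : Commute v⁻¹ e := (hfix e he heu).inv_left
    have h3 : Commute (x * v * x⁻¹) e := by
      show x * v * x⁻¹ * e = e * (x * v * x⁻¹)
      calc x * v * x⁻¹ * e = x * (v * (x⁻¹ * e * x⁻¹⁻¹)) * x⁻¹ := by group
        _ = x * ((x⁻¹ * e * x⁻¹⁻¹) * v) * x⁻¹ := by rw [h1.eq]
        _ = e * (x * v * x⁻¹) := by group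
    have h4 := h3.mul_left h2
    rwa [hy, commutatorElement_def]
  · set W := ⁅E, U⁆ with hW
    have hWu : W = ⁅E, zpowers u⁆ := h u hu hu1
    have hvW : v ∈ normalizer (W : Set G) := normalizer_commutator_ge_right E U hv
    have hxW : x ∈ normalizer (W : Set G) := by
      rw [hWu]
      refine OddLocal43.normalizes_commutator (A := zpowers x) ?_ ?_ (mem_zpowers x)
      · exact fun g _ => hEn g
      · rw [zpowers_le]
        refine centralizer_le_normalizer (s := (zpowers u : Set G)) ?_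
        rw [mem_centralizer_iff]
        rintro _ ⟨i, rfl⟩
        exact ((Commute.zpow_right (show Commute x u from hxu') i).eq).symm
    have hvE : ∀ e ∈ E, ⁅v, e⁆ ∈ W := fun e he => by
      rw [hW, commutator_comm]; exact commutator_mem_commutator hv he
    have hv'E : ∀ e ∈ E, ⁅v⁻¹, e⁆ ∈ W := fun e he => by
      rw [hW, commutator_comm]; exact commutator_mem_commutator (inv_mem hv) he
    have hxvE : ∀ e ∈ E, ⁅x * v * x⁻¹, e⁆ ∈ W := fun e he => by
      have h1 := (mem_normalizer_iff.mp hxW _).mp (hvE (x⁻¹ * e * x⁻¹⁻¹) (‹E.Normal›.conj_mem e he x⁻¹))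
      rw [conjugate_commutatorElement] at h1
      simpa [mul_assoc] using h1
    have hyW : y ∈ normalizer (W : Set G) := by
      rw [hy, commutatorElement_def]
      exact mul_mem (mul_mem (mul_mem hxW hvW) (inv_mem hxW)) (inv_mem hvW)
    have hyE : ∀ e ∈ E, ⁅y, e⁆ ∈ W := fun e he => by
      have hyv : y = (x * v * x⁻¹) * v⁻¹ := by rw [hy, commutatorElement_def]
      rw [hyv, commutatorElement_mul_left_eq_conj_mul]
      exact mul_mem ((mem_normalizer_iff.mp
        (mul_mem (mul_mem hxW hvW) (inv_mem hxW)) _).mp (hv'E e he)) (hxvE e he)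
    have hle : ⁅E, zpowers y⁆ ≤ ⁅E, zpowers u⁆ := by
      rw [← hWu, commutator_comm, commutator_le]
      exact comm_mem_of_mem hyW hyE
    have hEy := commutator_eq_bot_of_le_commutator hE huQ (B := zpowers y) ?_
      (fun g _ => hEn g) (fun g _ => hEn g) ?_ hle
    · exact le_centralizer_iff.mp (commutator_eq_bot_iff_le_centralizer.mp hEy) (mem_zpowers y)
    · intro hp
      rw [Nat.card_zpowers] at hp
      exact (Fact.out : p.Prime).coprime_iff_not_dvd.mp hyp.symm hp
    · rw [commutator_eq_bot_iff_le_centralizer, le_centralizer_iff, zpowers_le]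
      exact hyQ

/-- Let p be a prime, E a normal p-subgroup of the finite group G, and U a non-cyclic elementary abelian p-subgroup of G such that either C_E(U) = C_E(u) for every nontrivial u ∈ U, or [E, U] = [E, ⟨u⟩] for every nontrivial u ∈ U. If R is a subgroup of order prime to p normalized by U, then [R, U] centralizes E. -/
theorem result {G : Type*} [Group G] [Finite G] {p : ℕ} [Fact p.Prime] (E : Subgroup G) [E.Normal] (hE : IsPGroup p ↥E) (U : Subgroup G) (hU : Cfsg.IsElementaryAbelian p U) (hnc : ¬ IsCyclic ↥U) (hcond : (∀ u ∈ U, u ≠ 1 → E ⊓ Subgroup.centralizer (U : Set G) = E ⊓ Subgroup.centralizer ({u} : Set G)) ∨ (∀ u ∈ U, u ≠ 1 → ⁅E, U⁆ = ⁅E, Subgroup.zpowers u⁆)) (R : Subgroup G) (hR : ¬ p ∣ Nat.card ↥R) (hRU : U ≤ Subgroup.normalizer (R : Set G)) : ⁅R, U⁆ ≤ Subgroup.centralizer (E : Set G) := by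
  exact key E hE U hU hnc hcond R hR hRU

end Cfsg.Agent.S2909
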