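import Cfsg.Statements.S2910
import Cfsg.Agent.T51.SmallElements
import Cfsg.Agent.Lib.Thompson.Cores

set_option autoImplicit false
open Cfsg

namespace Cfsg.Agent.S2910

theorem key {G : Type*} [Group G] [Finite G] {p : ℕ} [hpf : Fact p.Prime] (hp : p ≠ 2)
    (hdiv : p ∣ Nat.card G) (P : Sylow p G)
    (hZ : Cfsg.omegaOne p (P : Subgroup G) ≤ Subgroup.center G) :
    Cfsg.HasNormalPComplement p G ∧ ¬ Cfsg.IsQuasisimple G := by
  have hcomp : Cfsg.HasNormalPComplement p G := by
    refine T51.hasNormalPComplement_of_small_hypercentral 1 fun a ha => ?_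
    have hap : a ^ p = 1 := ha.resolve_right fun h => hp h.1
    rw [Subgroup.upperCentralSeries_one]
    have hpg : IsPGroup p (Subgroup.zpowers a) := fun x => by
      refine ⟨1, Subtype.ext ?_⟩
      obtain ⟨k, hk⟩ := x.2
      have hk' : a ^ k = (x : G) := hk
      rw [pow_one, SubmonoidClass.coe_pow, ← hk', ← zpow_natCast, ← zpow_mul, mul_comm, zpow_mul,
        zpow_natCast, hap, one_zpow]
      rfl
    obtain ⟨Q, hQ⟩ := hpg.exists_le_sylow
    obtain ⟨g, hg⟩ := MulAction.exists_smul_eq G Q P
    have hmem : g * a * g⁻¹ ∈ (P : Subgroup G) := by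
      rw [← hg]
      exact ⟨a, hQ (Subgroup.mem_zpowers a), rfl⟩
    have hc : g * a * g⁻¹ ∈ Subgroup.center G := hZ (Subgroup.subset_closure ⟨hmem, by
      show (MulAut.conj g a) ^ p = 1
      rw [← map_pow, hap, map_one]⟩)
    have := (inferInstance : (Subgroup.center G).Normal).conj_mem _ hc g⁻¹
    simpa [mul_assoc] using this
  refine ⟨hcomp, fun hq => ?_⟩
  haveI := hq.1
  have htop : Cfsg.pResidual p G = ⊤ := by
    let Q := G ⧸ Cfsg.pResidual p G
    haveI : Group.IsNilpotent Q := (Thompson.isPGroup_quotient_pResidual (p := p) (G := G)).isNilpotent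
    by_contra hne
    haveI : Nontrivial Q := QuotientGroup.nontrivial_iff.mpr hne
    exact Group.IsPerfect.not_isNilpotent Q inferInstance
  have := Transfer.hasNormalPComplement_iff_not_dvd.mp hcomp
  rw [htop, Subgroup.card_top] at this
  exact this hdiv

/-- Let p be an odd prime dividing the order of the finite group G and P a Sylow p-subgroup of G. If Ω₁(P) (generated by the elements of order dividing p) is contained in the centre of G, then G has a normal p-complement. In particular, if G is quasisimple then Ω₁(P) is not central in G. -/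
theorem result {G : Type*} [Group G] [Finite G] {p : ℕ} [Fact p.Prime] (hp : p ≠ 2) (hdiv : p ∣ Nat.card G) (P : Sylow p G) (hZ : Cfsg.omegaOne p (P : Subgroup G) ≤ Subgroup.center G) : Cfsg.HasNormalPComplement p G ∧ ¬ Cfsg.IsQuasisimple G := by
  exact key hp hdiv P hZ

end Cfsg.Agent.S2910
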