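import Cfsg.Statements.S2911
import Mathlib

set_option autoImplicit false
open Cfsg

namespace Cfsg.Agent.S2911

variable {G : Type*} [Group G] [Finite G]

theorem inv_fix {u : G} {H : Subgroup G} (q : G ⧸ H) :
    u • q = q ↔ q.out⁻¹ * u * q.out ∈ H := by
  conv_lhs => rw [← QuotientGroup.out_eq' q]
  rw [MulAction.Quotient.smul_mk, eq_comm, QuotientGroup.eq, smul_eq_mul, mul_assoc]

/-- A transfer criterion: a central involution of a Sylow 2-subgroup `S` whose `N(S)`-conjugates
avoid a subgroup `M` of index 2 in `S` lies outside a subgroup of index 2 of the group. -/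
theorem central_transfer (S : Sylow 2 G) (M : Subgroup G)
    (hM : M.relIndex (S : Subgroup G) = 2) {u : G} (hu : orderOf u = 2)
    (huS : u ∈ (S : Subgroup G)) (huc : ∀ s ∈ (S : Subgroup G), s * u = u * s)
    (hno : ∀ g ∈ Subgroup.normalizer ((S : Subgroup G) : Set G), g⁻¹ * u * g ∉ M) :
    ∃ N : Subgroup G, N.index = 2 := by
  classical
  have : Fact (Nat.Prime 2) := ⟨Nat.prime_two⟩
  set H : Subgroup G := (S : Subgroup G) with hH
  have hM' : (M.subgroupOf H).index = 2 := hM
  let φ : H →* ℤˣ := MonoidHom.mk' (fun s => if s ∈ M.subgroupOf H then 1 else -1) (by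
    intro a b
    rw [Subgroup.mul_mem_iff_of_index_two hM']
    by_cases ha : a ∈ M.subgroupOf H <;> by_cases hb : b ∈ M.subgroupOf H <;> simp [ha, hb])
  have hu2 : u ^ 2 = 1 := by rw [← hu]; exact pow_orderOf_eq_one u
  let _ := H.fintypeQuotientOfFiniteIndex
  let f : G ⧸ H → ℤˣ := fun q => if h : q.out⁻¹ * u * q.out ∈ H then φ ⟨_, h⟩ else 1
  have hprod : MonoidHom.transfer φ u = ∏ q : G ⧸ H, f q := by
    rw [MonoidHom.transfer_eq_prod_quotient_orbitRel_zpowers_quot φ u,
      ← Finset.prod_fiberwise Finset.univ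
        (Quotient.mk (MulAction.orbitRel (Subgroup.zpowers u) (G ⧸ H))) f]
    refine Finset.prod_congr rfl (fun o _ => ?_)
    have horb : ∀ x : G ⧸ H, Quotient.mk (MulAction.orbitRel (Subgroup.zpowers u) (G ⧸ H)) x = o →
        ∃ k : ℤ, u ^ k • o.out = x := by
      intro x hx
      have hrel : (MulAction.orbitRel (Subgroup.zpowers u) (G ⧸ H)) x o.out :=
        Quotient.exact (hx.trans (Quotient.out_eq o).symm)
      obtain ⟨⟨_, k, rfl⟩, hw⟩ := hrel
      exact ⟨k, hw⟩
    by_cases hfx : u • o.out = o.out
    · have hper : Function.minimalPeriod (u • ·) o.out = 1 :=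
        Function.minimalPeriod_eq_one_iff_isFixedPt.mpr hfx
      rw [Finset.prod_eq_single o.out]
      · simp only [f, dif_pos ((inv_fix _).mp hfx)]
        congr 1
        apply Subtype.ext
        simp only
        rw [hper, pow_one]
      · intro x hx hne
        obtain ⟨k, hk⟩ := horb x (by simpa using hx)
        exfalso; apply hne
        rw [← hk]
        have : ∀ m : ℤ, u ^ m ∈ MulAction.stabilizer G o.out := fun m => Subgroup.zpow_mem _ hfx m
        exact this k
      · intro h; simp at h
    · have hper : Function.minimalPeriod (u • ·) o.out = 2 := by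
        apply Function.minimalPeriod_eq_prime
        · show u • u • o.out = o.out
          rw [← mul_smul, ← sq, hu2, one_smul]
        · exact hfx
      rw [Finset.prod_eq_one]
      · symm
        have : (⟨o.out.out⁻¹ * u ^ Function.minimalPeriod (u • ·) o.out * o.out.out,
            QuotientGroup.out_conj_pow_minimalPeriod_mem H u o.out⟩ : H) = 1 := by
          apply Subtype.ext
          simp only [hper, hu2, mul_one, inv_mul_cancel]; rfl
        rw [this, map_one]
      · intro x hx
        obtain ⟨k, hk⟩ := horb x (by simpa using hx)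
        have hnx : ¬ u • x = x := by
          intro h; apply hfx
          rw [← hk, ← mul_smul, (Commute.self_zpow u k).eq, mul_smul] at h
          exact smul_left_cancel _ h
        simp only [f, dif_neg fun h => hnx ((inv_fix _).mpr h)]
  -- the cosets where the value is `-1`
  let A : SubMulAction H (G ⧸ H) :=
    { carrier := {q | ∀ g : G, (g : G ⧸ H) = q → g⁻¹ * u * g ∈ H ∧ g⁻¹ * u * g ∉ M}
      smul_mem' := by
        intro s q hq g hg
        have hg' : (((s : G)⁻¹ * g : G) : G ⧸ H) = q := by
          have h := congrArg ((s : G)⁻¹ • ·) hg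
          exact h.trans (inv_smul_smul (s : G) q)
        have e : ((s : G)⁻¹ * g)⁻¹ * u * ((s : G)⁻¹ * g) = g⁻¹ * u * g := by
          calc ((s : G)⁻¹ * g)⁻¹ * u * ((s : G)⁻¹ * g) = g⁻¹ * ((s : G) * u) * (s : G)⁻¹ * g := by group
            _ = g⁻¹ * (u * (s : G)) * (s : G)⁻¹ * g := by rw [huc _ s.2]
            _ = g⁻¹ * u * g := by group
        exact e ▸ hq _ hg' }
  have hA : ∀ q : G ⧸ H, f q = -1 ↔ q ∈ A := by
    intro q
    constructor
    · intro hq g hg
      by_cases h : q.out⁻¹ * u * q.out ∈ H
      · simp only [f, dif_pos h] at hq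
        have hm : ¬ (⟨_, h⟩ : H) ∈ M.subgroupOf H := fun hm => by
          have : φ ⟨_, h⟩ = 1 := if_pos hm
          rw [this] at hq
          exact absurd hq (by decide)
        have hgh : q.out⁻¹ * g ∈ H := by
          rw [← QuotientGroup.eq, QuotientGroup.out_eq', hg]
        set b : H := ⟨q.out⁻¹ * g, hgh⟩
        have e : g⁻¹ * u * g = ((b⁻¹ * ⟨_, h⟩ * b : H) : G) := by
          simp only [b, Subgroup.coe_mul, InvMemClass.coe_inv]; group
        rw [e]
        refine ⟨SetLike.coe_mem _, fun hmem => hm ?_⟩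
        have hmem' : b⁻¹ * ⟨_, h⟩ * b ∈ M.subgroupOf H := hmem
        haveI : (M.subgroupOf H).Normal := Subgroup.normal_of_index_eq_two hM'
        have := ‹(M.subgroupOf H).Normal›.conj_mem _ hmem' b
        simpa [mul_assoc] using this
      · simp only [f, dif_neg h] at hq
        exact absurd hq (by decide)
    · intro hq
      obtain ⟨h1, h2⟩ := hq q.out (QuotientGroup.out_eq' q)
      simp only [f, dif_pos h1]
      exact if_neg h2
  have hfix : ∀ g : G, g ∈ Subgroup.normalizer (H : Set G) → (g : G ⧸ H) ∈ A := by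
    intro g hg g' hg'
    have hgg : g' ∈ Subgroup.normalizer (H : Set G) := by
      have : g⁻¹ * g' ∈ H := QuotientGroup.eq.mp hg'.symm
      simpa using (Subgroup.normalizer (H : Set G)).mul_mem hg (Subgroup.le_normalizer this)
    refine ⟨?_, hno g' hgg⟩
    have := (Subgroup.mem_normalizer_iff.mp ((Subgroup.normalizer (H : Set G)).inv_mem hgg) u).mp huS
    simpa using this
  have hfix' : ∀ q : G ⧸ H, q ∈ MulAction.fixedPoints H (G ⧸ H) → q ∈ A := by
    intro q hq
    have h : q.out ∈ Subgroup.normalizer (H : Set G) := by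
      refine Sylow.mem_fixedPoints_mul_left_cosets_iff_mem_normalizer.mp ?_
      rwa [QuotientGroup.out_eq']
    simpa using hfix _ h
  have hodd : Odd (Finset.univ.filter (fun q : G ⧸ H => f q = -1)).card := by
    have h1 := S.isPGroup'.card_modEq_card_fixedPoints A
    have h2 := S.isPGroup'.card_modEq_card_fixedPoints (G ⧸ H)
    have h3 : Nat.card (MulAction.fixedPoints H A) = Nat.card (MulAction.fixedPoints H (G ⧸ H)) := by
      refine Nat.card_congr
        { toFun := fun q => ⟨(q.1 : G ⧸ H), fun s => congrArg Subtype.val (q.2 s)⟩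
          invFun := fun q => ⟨⟨q.1, hfix' q.1 q.2⟩, fun s => Subtype.ext (q.2 s)⟩
          left_inv := fun q => rfl
          right_inv := fun q => rfl }
    have hset : Nat.card A = (Finset.univ.filter (fun q : G ⧸ H => f q = -1)).card := by
      rw [← Nat.card_eq_finsetCard]
      exact Nat.card_congr (Equiv.subtypeEquivRight fun q => by simp [hA])
    have hi : ¬ 2 ∣ Nat.card (G ⧸ H) := S.not_dvd_index
    have h4 : Nat.card A ≡ Nat.card (G ⧸ H) [MOD 2] := h1.trans (h3 ▸ h2.symm)
    rw [Nat.odd_iff, ← hset, h4]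
    omega
  have hmin : MonoidHom.transfer φ u = -1 := by
    rw [hprod, show (∏ q : G ⧸ H, f q) = ∏ q : G ⧸ H, if f q = -1 then -1 else 1 from
      Finset.prod_congr rfl fun q _ => by
        rcases Int.units_eq_one_or (f q) with h | h <;> rw [h] <;> simp]
    simp only [Finset.prod_ite, Finset.prod_const, Finset.prod_const_one, mul_one]
    simpa using hodd.neg_one_pow (α := ℤˣ)
  refine ⟨(MonoidHom.transfer φ).ker, ?_⟩
  have hs : Function.Surjective (MonoidHom.transfer φ) := by
    intro y
    rcases Int.units_eq_one_or y with rfl | rfl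
    · exact ⟨1, map_one _⟩
    · exact ⟨u, hmin⟩
  rw [Subgroup.index_ker, MonoidHom.range_eq_top.mpr hs, Subgroup.card_top, Nat.card_eq_fintype_card]
  rfl

theorem dihedral_central_square :
    ∀ z : DihedralGroup 4, (∀ w, w * z = z * w) → ∃ w, w * w = z := by decide

theorem key (S : Sylow 2 G)
    (hS : Nonempty (↥(S : Subgroup G) ≃* Multiplicative (ZMod 2) × DihedralGroup 4)) :
    ∃ H : Subgroup G, H.index = 2 := by
  obtain ⟨e⟩ := hS
  set c : ↥(S : Subgroup G) := e.symm (Multiplicative.ofAdd 1, 1) with hc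
  let M₀ : Subgroup ↥(S : Subgroup G) :=
    ((MonoidHom.fst (Multiplicative (ZMod 2)) (DihedralGroup 4)).comp e.toMonoidHom).ker
  let M : Subgroup G := M₀.map (Subgroup.subtype _)
  have hM : M.relIndex (S : Subgroup G) = 2 := by
    rw [Subgroup.relIndex, Subgroup.subgroupOf,
      Subgroup.comap_map_eq_self_of_injective (Subgroup.subtype_injective _), Subgroup.index_ker]
    rw [MonoidHom.range_eq_top.mpr (Prod.fst_surjective.comp e.surjective), Subgroup.card_top]
    simp [Nat.card_eq_fintype_card, ZMod.card]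
  have hc1 : orderOf (c : G) = 2 := by
    rw [Subgroup.orderOf_coe, hc, MulEquiv.orderOf_eq]
    exact orderOf_eq_prime (by decide) (by decide)
  have hcen : ∀ s ∈ (S : Subgroup G), s * (c : G) = (c : G) * s := fun s hs => by
    have : (⟨s, hs⟩ : ↥(S : Subgroup G)) * c = c * ⟨s, hs⟩ := e.injective (by
      rw [hc, map_mul, map_mul, MulEquiv.apply_symm_apply]
      exact Prod.ext (mul_comm _ _) (by simp))
    exact congrArg Subtype.val this
  refine central_transfer S M hM hc1 c.2 hcen ?_
  rintro g hg ⟨h, hh, hhg⟩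
  have hh1 : (e h).1 = 1 := hh
  have hgi := (Subgroup.normalizer ((S : Subgroup G) : Set G)).inv_mem hg
  have hcentral : ∀ w : DihedralGroup 4, w * (e h).2 = (e h).2 * w := by
    intro w
    set y : ↥(S : Subgroup G) := e.symm (1, w) with hy
    have h1 : g * (y : G) * g⁻¹ ∈ (S : Subgroup G) := (Subgroup.mem_normalizer_iff.mp hg _).mp y.2
    have h2 := hcen _ h1
    have h3 : (y : G) * (h : G) = (h : G) * (y : G) := by
      rw [show (h : G) = g⁻¹ * (c : G) * g from hhg]
      calc (y : G) * (g⁻¹ * (c : G) * g) = g⁻¹ * ((g * (y : G) * g⁻¹) * (c : G)) * g := by group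
        _ = g⁻¹ * ((c : G) * (g * (y : G) * g⁻¹)) * g := by rw [h2]
        _ = _ := by group
    have h4 := congrArg Prod.snd (congrArg e (Subtype.ext h3 : y * h = h * y))
    simpa [hy] using h4
  obtain ⟨w, hw⟩ := dihedral_central_square _ hcentral
  set y : ↥(S : Subgroup G) := e.symm (1, w) with hy
  have hyy : y * y = h := e.injective (by rw [map_mul, hy, MulEquiv.apply_symm_apply]; exact Prod.ext (by simp [hh1]) hw)
  have h1 : g * (y : G) * g⁻¹ ∈ (S : Subgroup G) := (Subgroup.mem_normalizer_iff.mp hg _).mp y.2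
  have h2 : (⟨_, h1⟩ : ↥(S : Subgroup G)) * ⟨_, h1⟩ = c := by
    apply Subtype.ext
    show g * (y : G) * g⁻¹ * (g * (y : G) * g⁻¹) = (c : G)
    have e1 : ((y * y : ↥(S : Subgroup G)) : G) = g⁻¹ * (c : G) * g := by rw [hyy]; exact hhg
    rw [show g * (y : G) * g⁻¹ * (g * (y : G) * g⁻¹) = g * ((y : G) * (y : G)) * g⁻¹ by group,
      show (y : G) * (y : G) = _ from e1]
    group
  have h5 := congrArg Prod.fst (congrArg e h2)
  rw [hc, map_mul, MulEquiv.apply_symm_apply, Prod.fst_mul] at h5
  revert h5
  generalize (e ⟨_, h1⟩).1 = a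
  revert a
  decide

/-- A finite group whose Sylow 2-subgroups are isomorphic to the direct product of a group of order 2 and a dihedral group of order 8 has a subgroup of index two. -/
theorem result {G : Type*} [Group G] [Finite G] (S : Sylow 2 G) (hS : Nonempty (↥(S : Subgroup G) ≃* Multiplicative (ZMod 2) × DihedralGroup 4)) : ∃ H : Subgroup G, H.index = 2 := by
  exact key S hS

end Cfsg.Agent.S2911
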