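import Cfsg.Statements.S2912
import Cfsg.Agent.Lib.Coprime.Galois

set_option autoImplicit false
open Cfsg

namespace Cfsg.Agent.S2912

theorem eigen_bound {L : Type*} [Field L] {W : Type*} [AddCommGroup W] [Module L W]
    [FiniteDimensional L W] {E : Type*} [Group E] [Finite E] (ρ : E →* Module.End L W) {p w : ℕ}
    [hp : Fact p.Prime] (hEcard : Nat.card E = p ^ (2 * w + 1))
    (hEcen : Nat.card (Subgroup.center E) = p) (hcomm : commutator E ≤ Subgroup.center E) {z : E}
    (hzgen : Subgroup.zpowers z = Subgroup.center E) (hz : orderOf z = p)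
    (hE0 : (Nat.card E : L) ≠ 0) {μ : L} (hμ : orderOf μ = p) {v : W} (hv : v ≠ 0)
    (hzv : ρ z v = μ • v) : p ^ w ≤ Module.finrank L ↥(Module.End.eigenspace (ρ z) μ) := by
  set U := Module.End.eigenspace (ρ z) μ with hU
  have hzc : z ∈ Subgroup.center E := hzgen.le (Subgroup.mem_zpowers z)
  have hinv : ∀ x : E, ∀ u ∈ U, ρ x u ∈ U := fun x u hu => by
    rw [hU, Module.End.mem_eigenspace_iff, ← LinAct.rho_mul, ← Subgroup.mem_center_iff.mp hzc x,
      LinAct.rho_mul, Module.End.mem_eigenspace_iff.mp hu, map_smul]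
  let ρ' : E →* Module.End L U :=
    { toFun := fun x => (ρ x).restrict (hinv x)
      map_one' := LinearMap.ext fun u => Subtype.ext (LinAct.rho_one ρ u)
      map_mul' := fun x y => LinearMap.ext fun u => Subtype.ext (LinAct.rho_mul ρ x y u) }
  have hT : OddLocal43.TwistedRep ρ' p z μ :=
    ⟨fun u => by rw [hzgen], fun a b => hcomm
      (Subgroup.commutator_mem_commutator (Subgroup.mem_top a) (Subgroup.mem_top b)), hz,
      LinearMap.ext fun u => Subtype.ext (Module.End.mem_eigenspace_iff.mp u.2), hμ⟩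
  have : Nontrivial U := ⟨⟨⟨v, by rw [hU, Module.End.mem_eigenspace_iff]; exact hzv⟩, 0,
    fun h0 => hv (congrArg Subtype.val h0)⟩⟩
  have hfr := hT.finrank_end hE0
  rw [Module.finrank_linearMap] at hfr
  have hc1 : 1 ≤ Module.finrank L ↥(OddLocal43.commutant ρ') := by
    refine Submodule.one_le_finrank_iff.mpr fun h0 => ?_
    have h1 : (1 : Module.End L U) ∈ OddLocal43.commutant ρ' := fun u => by simp
    rw [h0, Submodule.mem_bot] at h1
    exact one_ne_zero h1
  have hidx : (Subgroup.center E).index = (p ^ w) ^ 2 := by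
    have h1 := (Subgroup.center E).card_mul_index
    rw [hEcen, hEcard, pow_succ, mul_comm (p ^ (2 * w))] at h1
    rw [Nat.eq_of_mul_eq_mul_left hp.out.pos h1, ← pow_mul, mul_comm]
  refine (Nat.pow_le_pow_iff_left two_ne_zero).mp ?_
  rw [sq (Module.finrank L U), hfr, hidx]
  exact Nat.le_mul_of_pos_right _ hc1

theorem mul_le_finrank {L : Type*} [Field L] {W : Type*} [AddCommGroup W] [Module L W]
    [FiniteDimensional L W] (f : Module.End L W) {ι : Type*} (s : Finset ι) (μ : ι → L)
    (hμ : Set.InjOn μ (s : Set ι)) {m : ℕ}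
    (h : ∀ i ∈ s, m ≤ Module.finrank L ↥(f.eigenspace (μ i))) :
    s.card * m ≤ Module.finrank L W := by
  classical
  have hsum := LinAct.sum_finrank_le_of_iSupIndep (fun c => f.eigenspace c)
    f.eigenspaces_iSupIndep (s.image μ)
  calc s.card * m = ∑ _i ∈ s, m := by simp
    _ ≤ ∑ i ∈ s, Module.finrank L ↥(f.eigenspace (μ i)) := Finset.sum_le_sum h
    _ = ∑ c ∈ s.image μ, Module.finrank L ↥(f.eigenspace c) :=
        (Finset.sum_image (f := fun c => Module.finrank L ↥(f.eigenspace c)) hμ).symm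
    _ ≤ _ := hsum ▸ Submodule.finrank_le _

/-- Let p and r be distinct primes, let E be an extraspecial subgroup of order p^(2w+1) of a finite group, and let A be an elementary abelian r-subgroup normalized by E on which E acts faithfully (C_E(A) = 1). If n ≥ 1 is least with p dividing rⁿ − 1 (the smallest dimension of a faithful representation of a group of order p over the field with r elements), then the order of A is at least r^(n·p^w). -/
theorem result {G : Type*} [Group G] [Finite G] {p r : ℕ} [Fact p.Prime] [hr : Fact r.Prime] (hpr : p ≠ r) (E A : Subgroup G) (w : ℕ) (hE : Cfsg.IsExtraspecial p ↥E) (hEcard : Nat.card ↥E = p ^ (2 * w + 1)) (hA : Cfsg.IsElementaryAbelian r A) (hnorm : E ≤ Subgroup.normalizer (A : Set G)) (hfaith : E ⊓ Subgroup.centralizer (A : Set G) = ⊥) (n : ℕ) (hn : 1 ≤ n) (hdiv : p ∣ r ^ n - 1) (hmin : ∀ k : ℕ, 1 ≤ k → p ∣ r ^ k - 1 → n ≤ k) : r ^ (n * p ^ w) ≤ Nat.card ↥A := by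
  classical
  have hp : p.Prime := Fact.out
  have : Fact r.Prime := hr
  obtain ⟨⟨hEp, -, hEcomm⟩, hEcen⟩ := hE
  obtain ⟨d, hcardA, M0, hM0⟩ := LinAct.exists_matrix_rep (r := r) ↥A
    (fun a b => hA.1.is_comm.comm a b) (fun v => Subtype.ext (by simpa using hA.2 v v.2))
  let φ : ↥E →* MulAut ↥A := A.normalizerMonoidHom.comp (Subgroup.inclusion hnorm)
  have hφinj : Function.Injective φ := by
    rw [← MonoidHom.ker_eq_bot_iff, eq_bot_iff]
    intro x hx
    have hmem : (x : G) ∈ E ⊓ Subgroup.centralizer (A : Set G) :=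
      ⟨x.2, Subgroup.mem_centralizer_iff.mpr fun a ha => by
        have h1 := congrArg (fun σ : MulAut ↥A => ((σ ⟨a, ha⟩ : ↥A) : G)) (MonoidHom.mem_ker.mp hx)
        simp [φ] at h1
        calc a * (x : G) = (x : G) * a * (x : G)⁻¹ * x := by rw [h1]
          _ = (x : G) * a := by group⟩
    rw [hfaith, Subgroup.mem_bot] at hmem
    exact Subgroup.mem_bot.mpr (Subtype.ext hmem)
  let L := AlgebraicClosure (ZMod r)
  let Mx : ↥E →* Matrix (Fin d) (Fin d) (ZMod r) := M0.comp φ
  let ρ : ↥E →* Module.End L (Fin d → L) :=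
    ((Matrix.toLinAlgEquiv' (R := L) (n := Fin d)).toRingEquiv.toRingHom.comp
      (algebraMap (ZMod r) L).mapMatrix).toMonoidHom.comp Mx
  have hρ : ∀ (x : ↥E) (v : Fin d → L), ρ x v = ((Mx x).map (algebraMap (ZMod r) L)).mulVec v :=
    fun x v => rfl
  have hρinj : Function.Injective ρ := by
    refine ((Matrix.toLinAlgEquiv' (R := L) (n := Fin d)).injective.comp
      ((Matrix.map_injective (RingHom.injective (algebraMap (ZMod r) L))))).comp ?_
    exact hM0.comp hφinj
  have hchar : CharP L r := charP_of_injective_algebraMap (algebraMap (ZMod r) L).injective r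
  have hp0 : (p : L) ≠ 0 := fun h0 => hpr ((Nat.prime_dvd_prime_iff_eq hr.out hp).mp
    ((CharP.cast_eq_zero_iff L r p).mp h0)).symm
  have hE0 : (Nat.card ↥E : L) ≠ 0 := by
    rw [hEcard, Nat.cast_pow]; exact pow_ne_zero _ hp0
  obtain ⟨⟨z, hzc⟩, hz⟩ := exists_prime_orderOf_dvd_card' (G := Subgroup.center ↥E) p
    (dvd_of_eq hEcen.symm)
  rw [Subgroup.orderOf_mk] at hz
  have hzgen : Subgroup.zpowers z = Subgroup.center ↥E :=
    Subgroup.eq_of_le_of_card_ge (Subgroup.zpowers_le.mpr hzc) (by rw [Nat.card_zpowers, hz, hEcen])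
  have hzp : ρ z ^ p = 1 := by rw [← map_pow, ← hz, pow_orderOf_eq_one, map_one]
  have hz1 : ρ z ≠ 1 := fun h1 => hp.ne_one (by
    rw [← hz, hρinj (h1.trans (map_one ρ).symm), orderOf_one])
  obtain ⟨ω, hω1, hωp, hω⟩ := OddLocal43.exists_eigenvalue_ne_one (ρ z) hp0 hzp hz1
  have hωo : orderOf ω = p := orderOf_eq_prime hωp hω1
  obtain ⟨v0, hv0⟩ := hω.exists_hasEigenvector
  have hdim : ∀ i : ℕ, p ^ w ≤ Module.finrank L ↥(Module.End.eigenspace (ρ z) (ω ^ (r ^ i))) := by
    intro i
    obtain ⟨v, hv, hMv⟩ := LinAct.exists_eigen_pow (r := r) (M := Mx z) hv0.2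
      ((hρ z v0).symm.trans (Module.End.mem_eigenspace_iff.mp hv0.1)) i
    refine eigen_bound ρ hEcard hEcen hEcomm.le hzgen hz hE0 ?_ hv ((hρ z v).trans hMv)
    rw [← hωo]
    refine Nat.Coprime.orderOf_pow ?_
    rw [hωo]
    exact ((Nat.coprime_primes hp hr.out).mpr hpr).pow_right i
  have hinj : Set.InjOn (fun i => ω ^ (r ^ i)) (Finset.range n : Set ℕ) := by
    intro i hi j hj hij
    by_contra hne
    wlog hlt : i < j generalizing i j with H
    · exact H hj hi hij.symm (Ne.symm hne) (by omega)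
    have h1 : r ^ j ≡ r ^ i [MOD p] := by
      rw [← hωo]
      exact ((orderOf_pos_iff.mp (hωo ▸ hp.pos)).pow_eq_pow_iff_modEq.mp
        (show ω ^ (r ^ j) = ω ^ (r ^ i) from hij.symm))
    have h2 := (Nat.modEq_iff_dvd' (Nat.pow_le_pow_right hr.out.pos hlt.le)).mp h1.symm
    have h3 : r ^ j - r ^ i = r ^ i * (r ^ (j - i) - 1) := by
      rw [Nat.mul_sub_one, ← pow_add, Nat.add_sub_cancel' hlt.le]
    rw [h3] at h2
    have h4 := (((Nat.coprime_primes hp hr.out).mpr hpr).pow_right i).dvd_of_dvd_mul_left h2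
    have h5 := hmin (j - i) (by omega) h4
    have hj' : j < n := Finset.mem_range.mp hj
    omega
  have hle : n * p ^ w ≤ d := by
    have h1 := mul_le_finrank (ρ z) (Finset.range n) _ hinj fun i _ => hdim i
    rwa [Finset.card_range, Module.finrank_fin_fun] at h1
  rw [hcardA]
  exact Nat.pow_le_pow_right hr.out.pos hle

end Cfsg.Agent.S2912
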