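import Cfsg.Statements.S2924
import Cfsg.Agent.LocalEven64.OddBalance

set_option autoImplicit false
open Cfsg

namespace Cfsg.Agent.S2924

open Subgroup LocalEven64
open scoped commutatorElement

variable {G : Type*} [Group G] [Finite G]

theorem comm_mem_center (Y : Subgroup G) (hY : Cfsg.IsElementaryAbelian 2 Y) {a b : G} (ha : a ∈ Y)
    (hb : b ∈ Y) : a ∈ centralizer ({b} : Set G) := by
  haveI := hY.1
  exact mem_centralizer_singleton_iff.mpr (congrArg Subtype.val (mul_comm' (⟨a, ha⟩ : Y) ⟨b, hb⟩))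

/-- `O(C(x))` is inverted by `z`. -/
theorem core_inverted (Y : Subgroup G) (hY : Cfsg.IsElementaryAbelian 2 Y) {z : G} (hz : z ∈ Y)
    (hzc : CharPOf 2 (centralizer ({z} : Set G))) {x : G} (hx : x ∈ Y) :
    ∀ k ∈ pPCoreOf 2 (centralizer ({x} : Set G)), z * k * z⁻¹ = k⁻¹ := by
  haveI : Fact (Nat.Prime 2) := ⟨Nat.prime_two⟩
  set C := centralizer ({x} : Set G)
  set K := pPCoreOf 2 C
  have hzC : z ∈ C := comm_mem_center Y hY hz hx
  refine inverts_of_fpf (hY.2 z hz) (le_normalizer_pPCoreOf C hzC) ?_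
  intro k hk hkz
  set D := centralizer ({z} : Set G) ⊓ C
  have hDn : D ≤ normalizer ((K ⊓ centralizer ({z} : Set G) : Subgroup G) : Set G) :=
    le_normalizer_inf (inf_le_right.trans (le_normalizer_pPCoreOf C)) (inf_le_left.trans le_normalizer)
  have hxc : x ∈ centralizer ({z} : Set G) := comm_mem_center Y hY hx hz
  have hB : IsPGroup 2 (zpowers x) := by
    intro w
    refine ⟨1, Subtype.ext ?_⟩
    obtain ⟨i, hi⟩ := w.2
    have hi' : x ^ i = (w : G) := hi
    rw [pow_one, SubmonoidClass.coe_pow, ← hi', ← zpow_natCast, ← zpow_mul, mul_comm, zpow_mul,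
      zpow_natCast, hY.2 x hx, one_zpow]
    rfl
  have hBC : centralizer (zpowers x : Set G) = C := by
    rw [zpowers_eq_closure, centralizer_closure]
  have hDc : CharPOf 2 D := by
    refine hzc.of_le_normalizer hB ?_ inf_le_left ?_ ?_
    · rw [zpowers_le]; exact ⟨hxc, mem_centralizer_singleton_iff.mpr rfl⟩
    · refine le_trans inf_le_right ?_
      rw [← hBC]; exact centralizer_le_normalizer _
    · rw [hBC]; exact inf_le_inf_right _ (pCoreOf_le _)
  have hbot := hDc.eq_bot_of_coprime (N := K ⊓ centralizer ({z} : Set G))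
    (le_inf inf_le_right (inf_le_left.trans (pPCoreOf_le C))) hDn
    ((card_pPCoreOf_coprime C).coprime_dvd_left (card_dvd_of_le inf_le_left))
  have : k ∈ K ⊓ centralizer ({z} : Set G) :=
    ⟨hk, mem_centralizer_singleton_iff.mpr (mul_inv_eq_iff_eq_mul.mp hkz).symm⟩
  rwa [hbot, mem_bot] at this

/-- Balance. -/
theorem balance (Y : Subgroup G) (hY : Cfsg.IsElementaryAbelian 2 Y) {z : G} (hz : z ∈ Y)
    (hzc : CharPOf 2 (centralizer ({z} : Set G)))
    (hE : ∀ x ∈ Y, x ≠ 1 → Cfsg.layer ↥(centralizer ({x} : Set G)) = ⊥)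
    {a b : G} (ha : a ∈ Y) (hb : b ∈ Y) (hb1 : b ≠ 1) :
    pPCoreOf 2 (centralizer ({a} : Set G)) ⊓ centralizer ({b} : Set G) ≤
      pPCoreOf 2 (centralizer ({b} : Set G)) := by
  haveI : Fact (Nat.Prime 2) := ⟨Nat.prime_two⟩
  set C := centralizer ({b} : Set G) with hC
  set zC : ↥C := ⟨z, comm_mem_center Y hY hz hb⟩
  set aC : ↥C := ⟨a, comm_mem_center Y hY ha hb⟩
  have hzC2 : zC ^ 2 = 1 := Subtype.ext (hY.2 z hz)
  have haC2 : aC ^ 2 = 1 := Subtype.ext (hY.2 a ha)
  have hB : IsPGroup 2 (zpowers b) := by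
    intro w
    refine ⟨1, Subtype.ext ?_⟩
    obtain ⟨i, hi⟩ := w.2
    have hi' : b ^ i = (w : G) := hi
    rw [pow_one, SubmonoidClass.coe_pow, ← hi', ← zpow_natCast, ← zpow_mul, mul_comm, zpow_mul,
      zpow_natCast, hY.2 b hb, one_zpow]
    rfl
  have hBC : centralizer (zpowers b : Set G) = C := by rw [hC, zpowers_eq_closure, centralizer_closure]
  have hzCc : CharPOf 2 (centralizer ({zC} : Set ↥C)) := by
    have h1 : CharPOf 2 (centralizer ({z} : Set G) ⊓ C) := by
      refine hzc.of_le_normalizer hB ?_ inf_le_left ?_ ?_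
      · rw [zpowers_le]; exact ⟨comm_mem_center Y hY hb hz, mem_centralizer_singleton_iff.mpr rfl⟩
      · refine le_trans inf_le_right ?_
        rw [← hBC]; exact centralizer_le_normalizer _
      · rw [hBC]; exact inf_le_inf_right _ (pCoreOf_le _)
    have h2 := h1.subgroupOf (inf_le_right (a := centralizer ({z} : Set G)))
    have e : (centralizer ({z} : Set G) ⊓ C).subgroupOf C = centralizer ({zC} : Set ↥C) := by
      ext w
      simp only [mem_subgroupOf, Subgroup.mem_inf, mem_centralizer_singleton_iff, Subtype.ext_iff,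
        Subgroup.coe_mul]
      exact ⟨fun h => h.1, fun h => ⟨h, w.2⟩⟩
    rwa [e] at h2
  have hchar := charP_quotient_oddCore hzC2 (hE b hb hb1) hzCc (fun k hk => Subtype.ext
    (core_inverted Y hY hz hzc hb (k : G) ⟨k, hk, rfl⟩))
  rintro x ⟨hxa, hxb⟩
  set K := Cfsg.pPrimeCore 2 ↥C
  set π := QuotientGroup.mk' K
  set xC : ↥C := ⟨x, hxb⟩
  suffices hx1 : π xC = 1 from ⟨xC, (QuotientGroup.eq_one_iff _).mp hx1, rfl⟩
  set P := Cfsg.pCore 2 (↥C ⧸ K)
  have hxodd : (orderOf (π xC)).Coprime 2 := by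
    refine Nat.Coprime.coprime_dvd_left (orderOf_map_dvd π xC) ?_
    rw [← Subgroup.orderOf_coe]
    exact (card_pPCoreOf_coprime _).coprime_dvd_left (orderOf_dvd_natCard _ hxa)
  refine eq_one_of_mem_pGroup Thompson.isPGroup_pCore (hchar ?_) hxodd
  have hzp : IsPGroup 2 (zpowers (π aC)) := by
    intro w
    refine ⟨1, Subtype.ext ?_⟩
    obtain ⟨i, hi⟩ := w.2
    have hi' : (π aC) ^ i = (w : ↥C ⧸ K) := hi
    rw [pow_one, SubmonoidClass.coe_pow, ← hi', ← zpow_natCast, ← zpow_mul, mul_comm, zpow_mul,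
      zpow_natCast, ← map_pow, haC2, map_one, one_zpow]
    rfl
  have hnP : ∀ w : ↥C ⧸ K, w ∈ normalizer (P : Set (↥C ⧸ K)) := fun w => by
    rw [normalizer_eq_top_iff.mpr Thompson.instPCoreNormal]; exact mem_top w
  have hxa' : xC * aC = aC * xC :=
    Subtype.ext (mem_centralizer_singleton_iff.mp (pPCoreOf_le _ hxa))
  refine pq_lemma Thompson.isPGroup_pCore hzp (fun w _ => hnP w) hxodd (hnP _) ?_ ?_
  · rw [zpowers_eq_closure, centralizer_closure, mem_centralizer_singleton_iff, ← map_mul, ← map_mul, hxa']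
  · intro w hw hwa
    rw [zpowers_eq_closure, centralizer_closure, mem_centralizer_singleton_iff] at hwa
    obtain ⟨h, rfl⟩ := QuotientGroup.mk'_surjective K w
    have hh : ∀ c ∈ zpowers aC, c * h * c⁻¹ * h⁻¹ ∈ K := by
      intro c hc
      obtain ⟨i, rfl⟩ := Subgroup.mem_zpowers_iff.mp hc
      have h2 : (π aC) ^ i * π h * ((π aC) ^ i)⁻¹ * (π h)⁻¹ = 1 := by
        rw [← (Commute.zpow_right (show Commute (π h) (π aC) from hwa) i).eq]; group
      rw [← QuotientGroup.eq_one_iff, ← QuotientGroup.mk'_apply K, map_mul, map_mul, map_mul, map_inv,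
        map_inv, map_zpow]
      exact h2
    have hn : ∀ g : ↥C, g ∈ normalizer (K : Set ↥C) := fun g => by
      rw [normalizer_eq_top_iff.mpr Thompson.instPPrimeCoreNormal]; exact mem_top g
    obtain ⟨k, hk, hfix⟩ := Coprime.exists_fixed_in_coset_of_normal (zpowers aC) K (fun g _ => hn g)
      (by
        rw [Nat.card_zpowers]
        exact Thompson.card_pPrimeCore_coprime.symm.coprime_dvd_left (orderOf_dvd_of_pow_eq_one haC2))
      (Or.inl (Group.isSolvable_of_comm fun a b => mul_comm' a b)) h (hn h) hh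
    set h' := h * k
    have hπ : π h' = π h := by
      rw [map_mul, show π k = 1 from (QuotientGroup.eq_one_iff k).mpr hk, mul_one]
    rw [← hπ] at hw ⊢
    -- `h'` centralizes `a`, so it normalizes `O(C(a)) ∩ C(b)`
    have hh'a : (h' : G) ∈ centralizer ({a} : Set G) := by
      rw [mem_centralizer_singleton_iff]
      exact congrArg Subtype.val (mem_centralizer_iff.mp hfix aC (mem_zpowers aC)).symm
    have hc2 : π ⁅xC, h'⁆ ∈ P := by
      rw [map_commutatorElement, commutatorElement_def]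
      exact mul_mem ((mem_normalizer_iff.mp (hnP (π xC)) _).mp hw) (inv_mem hw)
    have hc1 : (orderOf (π ⁅xC, h'⁆)).Coprime 2 := by
      refine Nat.Coprime.coprime_dvd_left (orderOf_map_dvd π _) ?_
      rw [← Subgroup.orderOf_coe]
      refine (card_pPCoreOf_coprime (centralizer ({a} : Set G))).coprime_dvd_left
        (orderOf_dvd_natCard _ ?_)
      show ((xC * h' * xC⁻¹ * h'⁻¹ : ↥C) : G) ∈ _
      have h1 := (mem_normalizer_iff.mp (le_normalizer_pPCoreOf (p := 2) _ hh'a) x⁻¹).mp (inv_mem hxa)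
      simpa [mul_assoc, xC] using mul_mem hxa h1
    have h3 := eq_one_of_mem_pGroup Thompson.isPGroup_pCore hc2 hc1
    rw [map_commutatorElement, commutatorElement_eq_one_iff_mul_comm] at h3
    exact h3

theorem eq_mem_pow_two {x : G} (h : (orderOf x).Coprime 2) {H : Subgroup G} (hx : x * x ∈ H) :
    x ∈ H := by
  obtain ⟨m, hm⟩ := exists_pow_eq_self_of_coprime (x := x) (n := 2) h.symm
  rw [← hm, sq]
  exact pow_mem hx m

theorem key (Y : Subgroup G) (hY : Cfsg.IsElementaryAbelian 2 Y) (h8 : 8 ≤ Nat.card ↥Y)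
    (hE : ∀ x ∈ Y, x ≠ 1 → Cfsg.layer ↥(centralizer ({x} : Set G)) = ⊥)
    (hz : ∃ z ∈ Y, z ≠ 1 ∧ Cfsg.generalizedFittingSubgroup ↥(centralizer ({z} : Set G)) =
      Cfsg.pCore 2 ↥(centralizer ({z} : Set G))) :
    Odd (Nat.card ↥(⨆ y : {y : G // y ∈ Y ∧ y ≠ 1}, pPCoreOf 2 (centralizer ({(y : G)} : Set G)))) ∧
      normalizer (Y : Set G) ≤ normalizer ((⨆ y : {y : G // y ∈ Y ∧ y ≠ 1},
        pPCoreOf 2 (centralizer ({(y : G)} : Set G)) : Subgroup G) : Set G) := by
  classical
  haveI : Fact (Nat.Prime 2) := ⟨Nat.prime_two⟩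
  obtain ⟨z, hzY, -, hzF⟩ := hz
  have hzc : CharPOf 2 (centralizer ({z} : Set G)) := charPOf_iff_generalizedFitting.mpr hzF
  haveI := hY.1
  cases nonempty_fintype G
  let θ : G → Subgroup G := fun a => pPCoreOf 2 (centralizer ({a} : Set G))
  have hodd : ∀ a, ∀ x ∈ θ a, (orderOf x).Coprime 2 := fun a x hx =>
    (card_pPCoreOf_coprime (centralizer ({a} : Set G))).coprime_dvd_left (orderOf_dvd_natCard _ hx)
  have hab : ∀ a ∈ Y, ∀ x ∈ θ a, ∀ x' ∈ θ a, Commute x x' := by
    intro a ha x hx x' hx'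
    have h1 := core_inverted Y hY hzY hzc ha _ (mul_mem hx hx')
    rw [show z * (x * x') * z⁻¹ = (z * x * z⁻¹) * (z * x' * z⁻¹) by group,
      core_inverted Y hY hzY hzc ha x hx, core_inverted Y hY hzY hzc ha x' hx'] at h1
    have h2 := congrArg (·⁻¹) h1
    simp at h2
    exact h2.symm
  -- eigenvectors
  let Eig : G → Finset G → Set G := fun a T =>
    {x | x ∈ θ a ∧ ∀ y ∈ T, y * x * y⁻¹ = x ∨ y * x * y⁻¹ = x⁻¹}
  have hgen : ∀ a ∈ Y, ∀ T : Finset G, (∀ y ∈ T, y ∈ Y) → θ a ≤ closure (Eig a T) := by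
    intro a ha T
    induction T using Finset.induction_on with
    | empty => intro _ x hx; exact subset_closure ⟨hx, by simp⟩
    | @insert y T hyT ih =>
      intro hT
      have hy : y ∈ Y := hT y (Finset.mem_insert_self y T)
      refine (ih fun t ht => hT t (Finset.mem_insert_of_mem ht)).trans ((closure_le _).mpr ?_)
      rintro x ⟨hxa, hxT⟩
      have hyn : y * x * y⁻¹ ∈ θ a :=
        (mem_normalizer_iff.mp (le_normalizer_pPCoreOf _ (comm_mem_center Y hY hy ha)) x).mp hxa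
      have hyy : ∀ w : G, y * (y * w * y⁻¹) * y⁻¹ = w := fun w => by
        have h2 : y * y = 1 := by rw [← sq]; exact hY.2 y hy
        calc y * (y * w * y⁻¹) * y⁻¹ = (y * y) * w * (y * y)⁻¹ := by group
          _ = w := by rw [h2]; group
      have hT' : ∀ t ∈ T, t * (y * x * y⁻¹) * t⁻¹ = y * x * y⁻¹ ∧ t * x * t⁻¹ = x ∨
          t * (y * x * y⁻¹) * t⁻¹ = (y * x * y⁻¹)⁻¹ ∧ t * x * t⁻¹ = x⁻¹ := by
        intro t ht
        have hty : t * y = y * t := mem_centralizer_singleton_iff.mp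
          (comm_mem_center Y hY (hT t (Finset.mem_insert_of_mem ht)) hy)
        have e : t * (y * x * y⁻¹) * t⁻¹ = y * (t * x * t⁻¹) * y⁻¹ := by
          calc t * (y * x * y⁻¹) * t⁻¹ = (t * y) * x * (t * y)⁻¹ := by group
            _ = (y * t) * x * (y * t)⁻¹ := by rw [hty]
            _ = _ := by group
        rcases hxT t ht with h | h
        · left; exact ⟨by rw [e, h], h⟩
        · right; exact ⟨by rw [e, h]; group, h⟩
      have hc : Commute x (y * x * y⁻¹) := hab a ha _ hxa _ hyn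
      have h1 : x * (y * x * y⁻¹) ∈ Eig a (insert y T) := by
        refine ⟨mul_mem hxa hyn, fun t ht => ?_⟩
        rcases Finset.mem_insert.mp ht with rfl | ht
        · left
          rw [show t * (x * (t * x * t⁻¹)) * t⁻¹ = (t * x * t⁻¹) * (t * (t * x * t⁻¹) * t⁻¹) by group,
            hyy, hc.eq]
        · rw [show t * (x * (y * x * y⁻¹)) * t⁻¹ = (t * x * t⁻¹) * (t * (y * x * y⁻¹) * t⁻¹) by group]
          rcases hT' t ht with ⟨h, h'⟩ | ⟨h, h'⟩
          · left; rw [h, h']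
          · right; rw [h, h', ← mul_inv_rev, hc.eq]
      have h2 : x * (y * x * y⁻¹)⁻¹ ∈ Eig a (insert y T) := by
        refine ⟨mul_mem hxa (inv_mem hyn), fun t ht => ?_⟩
        rcases Finset.mem_insert.mp ht with rfl | ht
        · right
          rw [show t * (x * (t * x * t⁻¹)⁻¹) * t⁻¹ = (t * x * t⁻¹) * (t * (t * x * t⁻¹) * t⁻¹)⁻¹ by group,
            hyy, mul_inv_rev, inv_inv]
        · rw [show t * (x * (y * x * y⁻¹)⁻¹) * t⁻¹ = (t * x * t⁻¹) * (t * (y * x * y⁻¹) * t⁻¹)⁻¹ by group]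
          rcases hT' t ht with ⟨h, h'⟩ | ⟨h, h'⟩
          · left; rw [h, h']
          · right; rw [h, h', inv_inv, mul_inv_rev, inv_inv]; exact hc.inv_left.eq
      refine eq_mem_pow_two (hodd a x hxa) ?_
      have e : x * x = (x * (y * x * y⁻¹)) * (x * (y * x * y⁻¹)⁻¹) := by
        calc x * x = x * ((y * x * y⁻¹) * x) * (y * x * y⁻¹)⁻¹ := by rw [← hc.eq]; group
          _ = _ := by group
      rw [e]
      exact mul_mem (subset_closure h1) (subset_closure h2)
  let T₀ : Finset G := Finset.univ.filter (· ∈ Y)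
  let Gen : Set G := {x | ∃ a ∈ Y, a ≠ 1 ∧ x ∈ Eig a T₀}
  set W := (⨆ y : {y : G // y ∈ Y ∧ y ≠ 1}, pPCoreOf 2 (centralizer ({(y : G)} : Set G))) with hW
  have hWle : W ≤ closure Gen := iSup_le fun ⟨a, ha, ha1⟩ =>
    (hgen a ha T₀ (by simp [T₀])).trans (closure_mono fun x hx => ⟨a, ha, ha1, hx⟩)
  -- each generator is centralized by a subgroup of index at most `2`
  have hidx : ∀ x, (∀ y ∈ T₀, y * x * y⁻¹ = x ∨ y * x * y⁻¹ = x⁻¹) →
      (centralizer ({x} : Set G)).relIndex Y ≤ 2 := by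
    intro x hx
    by_cases hall : Y ≤ centralizer ({x} : Set G)
    · rw [relIndex_eq_one.mpr hall]; omega
    obtain ⟨y₀, hy₀, hy₀x⟩ := SetLike.not_le_iff_exists.mp hall
    refine le_of_eq (index_eq_two_iff_exists_notMem_and.mpr ⟨⟨y₀, hy₀⟩, hy₀x, fun b => ?_⟩)
    by_cases hb : (b : G) ∈ centralizer ({x} : Set G)
    · exact Or.inr hb
    left
    have hflip : ∀ y ∈ Y, y ∉ centralizer ({x} : Set G) → y * x * y⁻¹ = x⁻¹ := fun y hy hyx =>
      (hx y (by simp [T₀, hy])).resolve_left fun h =>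
        hyx (mem_centralizer_singleton_iff.mpr (mul_inv_eq_iff_eq_mul.mp h))
    show (b : G) * y₀ ∈ centralizer ({x} : Set G)
    rw [mem_centralizer_singleton_iff, ← mul_inv_eq_iff_eq_mul]
    calc (b : G) * y₀ * x * ((b : G) * y₀)⁻¹ = (b : G) * (y₀ * x * y₀⁻¹) * (b : G)⁻¹ := by group
      _ = (b : G) * x⁻¹ * (b : G)⁻¹ := by rw [hflip y₀ hy₀ hy₀x]
      _ = ((b : G) * x * (b : G)⁻¹)⁻¹ := by group
      _ = x := by rw [hflip b b.2 hb, inv_inv]
  have hcomm : ∀ x ∈ Gen, ∀ x' ∈ Gen, Commute x x' := by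
    rintro x ⟨a, ha, ha1, hxa, hxT⟩ x' ⟨a', ha', ha'1, hxa', hxT'⟩
    have hle : (centralizer ({x} : Set G) ⊓ centralizer ({x'} : Set G)).relIndex Y ≤ 4 :=
      relIndex_inf_le.trans (Nat.mul_le_mul (hidx x hxT) (hidx x' hxT'))
    obtain ⟨d, hd1, hdY, hdx, hdx'⟩ : ∃ d : G, d ≠ 1 ∧ d ∈ Y ∧
        d ∈ centralizer ({x} : Set G) ∧ d ∈ centralizer ({x'} : Set G) := by
      by_contra hno
      push Not at hno
      have hbot : (centralizer ({x} : Set G) ⊓ centralizer ({x'} : Set G)).subgroupOf Y = ⊥ := by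
        rw [eq_bot_iff]
        intro d hd
        by_contra hd1
        exact hno d (fun e => hd1 (Subtype.ext e)) d.2 hd.1 hd.2
      rw [relIndex, hbot, index_bot] at hle
      omega
    have hx1 : x ∈ θ d := balance Y hY hzY hzc hE ha hdY hd1
      ⟨hxa, mem_centralizer_singleton_iff.mpr (mem_centralizer_singleton_iff.mp hdx).symm⟩
    have hx2 : x' ∈ θ d := balance Y hY hzY hzc hE ha' hdY hd1
      ⟨hxa', mem_centralizer_singleton_iff.mpr (mem_centralizer_singleton_iff.mp hdx').symm⟩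
    exact hab d hdY x hx1 x' hx2
  refine ⟨?_, ?_⟩
  · rw [← Nat.not_even_iff_odd, even_iff_two_dvd]
    intro h2
    obtain ⟨w, hw⟩ := exists_prime_orderOf_dvd_card' 2 h2
    have hmem : (w : G) ∈ closure Gen := hWle w.2
    have hcl : ∀ v ∈ closure Gen, ∀ u ∈ closure Gen, Commute v u := by
      intro v hv u hu
      induction hv, hu using closure_induction₂ with
      | mem a b ha hb => exact hcomm a ha b hb
      | one_left a _ => exact Commute.one_left a
      | one_right a _ => exact Commute.one_right a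
      | mul_left a b c _ _ _ h1 h2 => exact h1.mul_left h2
      | mul_right a b c _ _ _ h1 h2 => exact h1.mul_right h2
      | inv_left a b _ _ h => exact h.inv_left
      | inv_right a b _ _ h => exact h.inv_right
    have hcoall : ∀ v ∈ closure Gen, (orderOf v).Coprime 2 := by
      intro v hmem
      induction hmem using closure_induction with
      | mem v hv => obtain ⟨a, ha, -, hva, -⟩ := hv; exact hodd a v hva
      | one => simp
      | mul a b ha hb h1 h2 =>
        exact (h1.mul_left h2).coprime_dvd_left (hcl a ha b hb).orderOf_mul_dvd_mul_orderOf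
      | inv a ha h => rwa [orderOf_inv]
    have hco : (orderOf (w : G)).Coprime 2 := hcoall _ hmem
    rw [Subgroup.orderOf_coe, hw] at hco
    exact absurd hco (by decide)
  · intro g hg
    rw [mem_normalizer_iff_map_conj_eq]
    refine Subgroup.eq_of_le_of_card_ge ?_ (by rw [card_map_of_injective (MulAut.conj g).injective])
    rw [Subgroup.map_iSup]
    refine iSup_le fun ⟨y, hy, hy1⟩ => ?_
    have hy' : g * y * g⁻¹ ∈ Y := (mem_normalizer_iff.mp hg y).mp hy
    have hy'1 : g * y * g⁻¹ ≠ 1 := fun h => hy1 (conj_eq_one_iff.mp h)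
    refine le_trans ?_ (le_iSup (fun y : {y : G // y ∈ Y ∧ y ≠ 1} =>
      pPCoreOf 2 (centralizer ({(y : G)} : Set G))) ⟨_, hy', hy'1⟩)
    have e : (centralizer ({y} : Set G)).map (MulAut.conj g).toMonoidHom =
        centralizer ({g * y * g⁻¹} : Set G) := by
      ext w
      rw [mem_centralizer_singleton_iff]
      constructor
      · rintro ⟨v, hv, rfl⟩
        have hv' := mem_centralizer_singleton_iff.mp hv
        show g * v * g⁻¹ * (g * y * g⁻¹) = g * y * g⁻¹ * (g * v * g⁻¹)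
        calc g * v * g⁻¹ * (g * y * g⁻¹) = g * (v * y) * g⁻¹ := by group
          _ = g * (y * v) * g⁻¹ := by rw [hv']
          _ = _ := by group
      · intro h
        refine ⟨g⁻¹ * w * g, mem_centralizer_singleton_iff.mpr ?_, ?_⟩
        · calc g⁻¹ * w * g * y = g⁻¹ * (w * (g * y * g⁻¹)) * g := by group
            _ = g⁻¹ * ((g * y * g⁻¹) * w) * g := by rw [h]
            _ = _ := by group
        · show g * (g⁻¹ * w * g) * g⁻¹ = w
          group
    refine le_pPCoreOf ((Subgroup.map_mono (pPCoreOf_le _)).trans e.le) ?_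
      ((card_pPCoreOf_coprime _).coprime_dvd_left (card_map_dvd _ _))
    rw [← e]
    exact (Subgroup.map_mono (le_normalizer_pPCoreOf _)).trans (le_normalizer_map _)

/-- Let X be a finite group and Y an elementary abelian 2-subgroup of X of order at least 8 such that C_X(x) has no components (E(C_X(x)) = 1) for every nontrivial x ∈ Y, and F*(C_X(z)) = O₂(C_X(z)) for some nontrivial z ∈ Y. Then the subgroup generated by the cores O(C_X(y)), y ∈ Y nontrivial, has odd order and is normalized by N_X(Y). -/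
theorem result {X : Type*} [Group X] [Finite X] (Y : Subgroup X) (hY : Cfsg.IsElementaryAbelian 2 Y) (h8 : 8 ≤ Nat.card ↥Y) (hE : ∀ x ∈ Y, x ≠ 1 → Cfsg.layer ↥(Subgroup.centralizer ({x} : Set X)) = ⊥) (hz : ∃ z ∈ Y, z ≠ 1 ∧ Cfsg.generalizedFittingSubgroup ↥(Subgroup.centralizer ({z} : Set X)) = Cfsg.pCore 2 ↥(Subgroup.centralizer ({z} : Set X))) : Odd (Nat.card ↥(⨆ y : {y : X // y ∈ Y ∧ y ≠ 1}, (Cfsg.oddCore ↥(Subgroup.centralizer ({(y : X)} : Set X))).map (Subgroup.centralizer ({(y : X)} : Set X)).subtype)) ∧ Subgroup.normalizer (Y : Set X) ≤ Subgroup.normalizer ((⨆ y : {y : X // y ∈ Y ∧ y ≠ 1}, (Cfsg.oddCore ↥(Subgroup.centralizer ({(y : X)} : Set X))).map (Subgroup.centralizer ({(y : X)} : Set X)).subtype : Subgroup X) : Set X) := by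
  exact key Y hY h8 hE hz

end Cfsg.Agent.S2924
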