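import Cfsg.Statements.S2928
import Cfsg.Agent.LocalEven64.SymSylowTwoMain

set_option autoImplicit false
open Cfsg

namespace Cfsg.Agent.S2928

/-- Let n ≥ 8 and let H be a subgroup of the symmetric group of degree n whose generalized Fitting subgroup F*(H) is quasisimple. If H contains a Sylow 2-subgroup of the alternating group of degree n, then F*(H) is isomorphic to an alternating group of degree m for some m ∈ {n − 3, n − 2, n − 1, n}. -/
theorem result (n : ℕ) (hn : 8 ≤ n) (H : Subgroup (Equiv.Perm (Fin n))) (hF : Cfsg.IsQuasisimple ↥(Cfsg.generalizedFittingSubgroup ↥H)) (hS : ∃ P : Sylow 2 ↥(alternatingGroup (Fin n)), ((P : Subgroup ↥(alternatingGroup (Fin n))).map (alternatingGroup (Fin n)).subtype) ≤ H) : ∃ m : ℕ, (m = n - 3 ∨ m = n - 2 ∨ m = n - 1 ∨ m = n) ∧ Nonempty (↥(Cfsg.generalizedFittingSubgroup ↥H) ≃* ↥(alternatingGroup (Fin m))) := by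
  obtain ⟨P, hP⟩ := hS
  let f : Fin n → Fin n := fun i =>
    if h : i.val % 2 = 0 then (if h' : i.val + 1 < n then ⟨i.val + 1, h'⟩ else i)
    else ⟨i.val - 1, by omega⟩
  have hf : ∀ i, f (f i) = i := fun i => by
    have := i.isLt
    apply Fin.ext
    simp only [f]
    split_ifs <;> simp_all <;> omega
  have hfix : ∀ i j, f i = i → f j = j → i = j := fun i j hi hj => by
    have := i.isLt
    have := j.isLt
    have key : ∀ k : Fin n, f k = k → k.val + 1 = n := fun k hk => by
      have := k.isLt
      have hv := congrArg Fin.val hk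
      simp only [f] at hv
      split_ifs at hv <;> simp_all <;> omega
    have := key i hi
    have := key j hj
    exact Fin.ext (by omega)
  obtain ⟨A, h5, hcard, hmap⟩ := LocalEven64.exists_altOn_of_sylow_two
    hF (by simp only [Fintype.card_fin]; omega) P hP (t₀ := Function.Involutive.toPerm f hf)
    (fun i => hf i) (fun i j hi hj => hfix i j hi hj)
  rw [Fintype.card_fin] at hcard
  have hle : A.card ≤ n := by simpa using Finset.card_le_univ A
  obtain ⟨e⟩ := LocalEven64.altOn_equiv A
  refine ⟨A.card, by omega, ⟨?_⟩⟩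
  exact ((Subgroup.equivMapOfInjective _ _ H.subtype_injective).trans
    (MulEquiv.subgroupCongr hmap)).trans (e.symm.trans (Equiv.altCongrHom A.equivFin))

end Cfsg.Agent.S2928
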