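import Cfsg.Statements.S4231
import Cfsg.Agent.KnownSimple.AutAlternating.Main
import Cfsg.Agent.AutA6.SylowPairs
import Cfsg.Agent.AutA6.ThreeCycle
import Mathlib
-- import your own Cfsg.Agent.* helpers here

set_option autoImplicit false
open Cfsg

namespace Cfsg.Agent.S4231

open Equiv Equiv.Perm

/-- A `p`-group of permutations of fewer than `p ^ 2` points is abelian. -/
theorem comm_of_card_lt {X : Type*} [Finite X] {p : ℕ} [Fact p.Prime] (R : Subgroup (Perm X))
    (hR : IsPGroup p R) (hX : Nat.card X < p ^ 2) (a b : R) : a * b = b * a := by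
  have hp : p.Prime := Fact.out
  suffices h : ∀ x : X, ((a * b * a⁻¹ * b⁻¹ : R) : Perm X) x = x by
    have h1 : a * b * a⁻¹ * b⁻¹ = 1 := Subtype.ext (Equiv.ext h)
    calc a * b = a * b * a⁻¹ * b⁻¹ * (b * a) := by group
      _ = b * a := by rw [h1, one_mul]
  intro x
  have hidx : (MulAction.stabilizer R x).index = Nat.card (MulAction.orbit R x) :=
    (Nat.card_congr (MulAction.orbitEquivQuotientStabilizer R x)).symm
  obtain ⟨k, hk⟩ := hR.index (MulAction.stabilizer R x)
  have hk1 : k ≤ 1 := by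
    by_contra hk2
    have h1 : p ^ 2 ≤ Nat.card (MulAction.orbit R x) := by
      rw [← hidx, hk]; exact Nat.pow_le_pow_right hp.pos (by omega)
    have h2 : Nat.card (MulAction.orbit R x) ≤ Nat.card X :=
      Nat.card_le_card_of_injective _ Subtype.val_injective
    omega
  suffices h : a * b * a⁻¹ * b⁻¹ ∈ MulAction.stabilizer R x from MulAction.mem_stabilizer_iff.1 h
  rcases Nat.le_one_iff_eq_zero_or_eq_one.1 hk1 with rfl | rfl
  · rw [pow_zero, Subgroup.index_eq_one] at hk
    rw [hk]; exact Subgroup.mem_top _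
  · rw [pow_one] at hk
    haveI : (MulAction.stabilizer R x).Normal := by
      apply Subgroup.normal_of_index_eq_minFac_card
      rw [hk]
      obtain ⟨m, hm⟩ := IsPGroup.iff_card.mp hR
      rw [hm, Nat.pow_minFac (fun h0 => ?_), hp.minFac_eq]
      subst h0
      have := (MulAction.stabilizer R x).index_dvd_card
      rw [hk, hm, pow_zero, Nat.dvd_one] at this
      exact hp.one_lt.ne' this
    haveI : IsCyclic (R ⧸ MulAction.stabilizer R x) := by
      refine isCyclic_of_prime_card (p := p) ?_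
      exact hk
    letI := IsCyclic.commGroup (α := R ⧸ MulAction.stabilizer R x)
    rw [← QuotientGroup.eq_one_iff]
    simp only [QuotientGroup.mk_mul, QuotientGroup.mk_inv]
    rw [mul_comm (a : R ⧸ MulAction.stabilizer R x) b, mul_inv_cancel_right, mul_inv_cancel]

theorem conjNormal_injective {n : ℕ} (hn : 4 ≤ n) :
    Function.Injective (MulAut.conjNormal : Perm (Fin n) →* MulAut ↥(alternatingGroup (Fin n))) := by
  classical
  rw [← MonoidHom.ker_eq_bot_iff, eq_bot_iff]
  intro σ hσ
  rw [Subgroup.mem_bot]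
  by_contra hne
  obtain ⟨a, ha⟩ : ∃ a, σ a ≠ a := not_forall.1 fun h => hne (Equiv.ext h)
  obtain ⟨c, hc1, hc2⟩ : ∃ c, c ≠ a ∧ c ≠ σ a := by
    by_contra h
    have h1 : (Finset.univ : Finset (Fin n)) ⊆ {a, σ a} := fun x _ => by
      simp only [Finset.mem_insert, Finset.mem_singleton]
      by_contra hx; exact h ⟨x, fun e => hx (Or.inl e), fun e => hx (Or.inr e)⟩
    have h2 := Finset.card_le_card h1
    have h3 : ({a, σ a} : Finset (Fin n)).card ≤ 2 := Finset.card_le_two
    simp at h2; omega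
  obtain ⟨d, hd1, hd2, hd3⟩ : ∃ d, d ≠ a ∧ d ≠ σ a ∧ d ≠ c := by
    by_contra h
    have h1 : (Finset.univ : Finset (Fin n)) ⊆ {a, σ a, c} := fun x _ => by
      simp only [Finset.mem_insert, Finset.mem_singleton]
      by_contra hx
      exact h ⟨x, fun e => hx (Or.inl e), fun e => hx (Or.inr (Or.inl e)),
        fun e => hx (Or.inr (Or.inr e))⟩
    have h2 := Finset.card_le_card h1
    have h3 : ({a, σ a, c} : Finset (Fin n)).card ≤ 3 := Finset.card_le_three
    simp at h2; omega
  open Cfsg.Agent.KnownSimple.AutAlt in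
  have hx : cyc a c d ∈ alternatingGroup (Fin n) :=
    (cyc_isThreeCycle hc1.symm hd1.symm hd3.symm).mem_alternatingGroup
  have h1 : σ * Cfsg.Agent.KnownSimple.AutAlt.cyc a c d * σ⁻¹ =
      Cfsg.Agent.KnownSimple.AutAlt.cyc a c d := by
    have h0 := congrArg (fun φ : MulAut ↥(alternatingGroup (Fin n)) =>
      (φ ⟨_, hx⟩ : Perm (Fin n))) (MonoidHom.mem_ker.1 hσ)
    simpa [MulAut.conjNormal_apply] using h0
  have h2 := congrArg (fun τ : Perm (Fin n) => τ (σ a)) h1
  simp only [Perm.mul_apply, Perm.inv_def, Equiv.symm_apply_apply] at h2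
  rw [Cfsg.Agent.KnownSimple.AutAlt.cyc_a hc1.symm hd1.symm,
    Cfsg.Agent.KnownSimple.AutAlt.cyc_of ha hc2.symm hd2.symm] at h2
  exact hc1 (σ.injective h2)

theorem exists_perm_of_odd {n : ℕ} (hn : 4 ≤ n) (φ : MulAut ↥(alternatingGroup (Fin n)))
    (hodd : Odd (orderOf φ)) : ∃ σ : Perm (Fin n), MulAut.conjNormal σ = φ := by
  by_cases h6 : n = 6
  · subst h6
    by_cases hk : Cfsg.Agent.AutA6.Keeps φ
    · exact Cfsg.Agent.AutA6.exists_perm_of_map_three hn φ hk
    · obtain ⟨τ, hτ⟩ := Cfsg.Agent.AutA6.exists_perm_of_map_three hn (φ * φ)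
        (Cfsg.Agent.AutA6.keeps_mul hk hk)
      obtain ⟨m, hm⟩ := hodd
      refine ⟨τ ^ (m + 1), ?_⟩
      rw [map_pow, hτ, ← pow_two, ← pow_mul, show 2 * (m + 1) = orderOf φ + 1 by omega, pow_succ,
        pow_orderOf_eq_one, one_mul]
  · exact (Cfsg.Agent.KnownSimple.AutAlt.bijective_conjNormal hn h6).2 φ

theorem sylow_comm {n : ℕ} (hn : 4 ≤ n) (G : Subgroup (MulAut ↥(alternatingGroup (Fin n))))
    {p : ℕ} [Fact p.Prime] (hp2 : p ≠ 2) (hnp : n < p ^ 2) (P : Sylow p G) :
    IsMulCommutative (P : Subgroup G) := by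
  refine ⟨⟨fun a b => ?_⟩⟩
  set f := (MulAut.conjNormal : Perm (Fin n) →* MulAut ↥(alternatingGroup (Fin n))) with hf
  set P' := (P : Subgroup G).map G.subtype with hP'
  have hpre : ∀ z : ↥(P : Subgroup G), ∃ σ : Perm (Fin n), f σ = ((z : G) : MulAut _) := by
    intro z
    refine exists_perm_of_odd hn _ ?_
    obtain ⟨k, hk⟩ := IsPGroup.iff_orderOf.mp P.isPGroup' z
    rw [Subgroup.orderOf_coe, Subgroup.orderOf_coe, hk]
    exact ((Fact.out : p.Prime).odd_of_ne_two hp2).pow
  have hR : IsPGroup p ↥(P'.comap f) :=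
    (P.isPGroup'.map G.subtype).comap_of_injective f (conjNormal_injective hn)
  obtain ⟨σ, hσ⟩ := hpre a
  obtain ⟨τ, hτ⟩ := hpre b
  have hc := comm_of_card_lt _ hR (by simpa using hnp)
    ⟨σ, show f σ ∈ P' by rw [hσ]; exact Subgroup.mem_map_of_mem G.subtype a.2⟩
    ⟨τ, show f τ ∈ P' by rw [hτ]; exact Subgroup.mem_map_of_mem G.subtype b.2⟩
  refine Subtype.ext (Subtype.ext ?_)
  have := congrArg f (congrArg Subtype.val hc)
  simp only [Subgroup.coe_mul, map_mul, hσ, hτ] at this
  simpa using this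

theorem false_of_large {n : ℕ} (hn : 5 ≤ n) (G : Subgroup (MulAut (alternatingGroup (Fin n))))
    (hG : (MulAut.conj : alternatingGroup (Fin n) →* MulAut (alternatingGroup (Fin n))).range ≤ G)
    {p q : ℕ} (hp : p.Prime) (hq : q.Prime) (hqp : q < p) (hnp : p ^ 2 ≤ n)
    (h : ∀ g : G, orderOf g ≠ p * q) : False := by
  classical
  have hp3 : 3 ≤ p := by have := hq.two_le; omega
  have hpo : Odd p := hp.odd_of_ne_two (by omega)
  have hsq : p * 3 ≤ p ^ 2 := by rw [pow_two]; exact Nat.mul_le_mul le_rfl hp3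
  have hco : Nat.Coprime p q := (Nat.coprime_primes hp hq).2 (by omega)
  obtain ⟨σ, hσA, hσo⟩ : ∃ σ ∈ alternatingGroup (Fin n), orderOf σ = p * q := by
    by_cases hq2 : q = 2
    · subst hq2
      obtain ⟨σ, hσ⟩ := (Equiv.Perm.exists_with_cycleType_iff (α := Fin n)
        (m := {p, 2, 2})).2 ⟨by simp; omega, by simp; omega⟩
      refine ⟨σ, ?_, ?_⟩
      · rw [mem_alternatingGroup, sign_of_cycleType, hσ]
        simp only [Multiset.insert_eq_cons, Multiset.sum_cons, Multiset.sum_singleton,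
          Multiset.card_cons, Multiset.card_singleton]
        refine Even.neg_one_pow ?_
        obtain ⟨m, hm⟩ := hpo
        exact ⟨m + 4, by omega⟩
      · rw [← lcm_cycleType, hσ]
        simp [Multiset.insert_eq_cons]
        exact hco.lcm_eq_mul
    · obtain ⟨σ, hσ⟩ := (Equiv.Perm.exists_with_cycleType_iff (α := Fin n)
        (m := {p, q})).2 ⟨by simp; omega, by simp; exact ⟨by omega, hq.two_le⟩⟩
      refine ⟨σ, ?_, ?_⟩
      · rw [mem_alternatingGroup, sign_of_cycleType, hσ]
        simp only [Multiset.insert_eq_cons, Multiset.sum_cons, Multiset.sum_singleton,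
          Multiset.card_cons, Multiset.card_singleton]
        refine Even.neg_one_pow ?_
        obtain ⟨m, hm⟩ := hpo
        obtain ⟨l, hl⟩ := hq.odd_of_ne_two hq2
        exact ⟨m + l + 2, by omega⟩
      · rw [← lcm_cycleType, hσ]
        simp [Multiset.insert_eq_cons]
        exact hco.lcm_eq_mul
  have e : MulAut.conj (⟨σ, hσA⟩ : alternatingGroup (Fin n)) =
      MulAut.conjNormal σ := by
    refine MulEquiv.ext fun x => Subtype.ext ?_
    simp [MulAut.conjNormal_apply]
  refine h ⟨_, hG ⟨⟨σ, hσA⟩, rfl⟩⟩ ?_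
  rw [Subgroup.orderOf_mk, e, orderOf_injective _ (conjNormal_injective (by omega)), hσo]


/-- Let n ≥ 5 and let G be a group of automorphisms of the alternating group of degree n containing all inner automorphisms. If p ≠ q are primes and G has no element of order pq, then every Sylow p-subgroup of G is abelian or every Sylow q-subgroup of G is abelian. -/
theorem result (n : ℕ) (hn : 5 ≤ n) (G : Subgroup (MulAut (alternatingGroup (Fin n))))
    (hG : (MulAut.conj : alternatingGroup (Fin n) →* MulAut (alternatingGroup (Fin n))).range ≤ G)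
    (p q : ℕ) [Fact p.Prime] [Fact q.Prime] (hpq : p ≠ q) (h : ∀ g : G, orderOf g ≠ p * q) :
    (∀ P : Sylow p G, IsMulCommutative (P : Subgroup G)) ∨ (∀ Q : Sylow q G, IsMulCommutative (Q : Subgroup G)) := by
  have hp : p.Prime := Fact.out
  have hq : q.Prime := Fact.out
  rcases lt_or_gt_of_ne hpq with hlt | hlt
  · by_cases hn2 : n < q ^ 2
    · exact Or.inr fun Q => sylow_comm (by omega) G (by have := hp.two_le; omega) hn2 Q
    · exact (false_of_large hn G hG hq hp hlt (by omega)
        (fun g hg => h g (by rw [hg, mul_comm]))).elim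
  · by_cases hn2 : n < p ^ 2
    · exact Or.inl fun P => sylow_comm (by omega) G (by have := hq.two_le; omega) hn2 P
    · exact (false_of_large hn G hG hp hq hlt (by omega) h).elim

end Cfsg.Agent.S4231
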