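import Cfsg.Statements.S2930
import Cfsg.Agent.LocalEven64.AltThreeMinimal
import Cfsg.Agent.Lib.Components.GenFitting
import Cfsg.Agent.S4231

set_option autoImplicit false
open Cfsg

namespace Cfsg.Agent.S2930

/-- Let X be a finite 3-minimal group (a Sylow 3-subgroup is not normal and lies in a unique maximal subgroup) whose generalized Fitting subgroup is isomorphic to an alternating group of degree n ≥ 5. Then X = F*(X), and n = 6, n = 9, or n = 3ᵃ + 1 for some a ≥ 2. -/
theorem result {X : Type*} [Group X] [Finite X] (hX : Cfsg.IsPMinimal 3 X) (n : ℕ) (hn : 5 ≤ n) (hF : Nonempty (↥(Cfsg.generalizedFittingSubgroup X) ≃* ↥(alternatingGroup (Fin n)))) : Cfsg.generalizedFittingSubgroup X = ⊤ ∧ (n = 6 ∨ n = 9 ∨ ∃ a : ℕ, 2 ≤ a ∧ n = 3 ^ a + 1) := by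
  classical
  haveI : Fact (Nat.Prime 3) := ⟨Nat.prime_three⟩
  obtain ⟨e⟩ := hF
  set F := Cfsg.generalizedFittingSubgroup X with hFdef
  haveI hFn : F.Normal := by rw [hFdef]; infer_instance
  haveI : IsSimpleGroup ↥(alternatingGroup (Fin n)) :=
    alternatingGroup.isSimpleGroup (by simpa using hn)
  haveI : IsSimpleGroup ↥F := e.isSimpleGroup
  have hnc : ¬ IsMulCommutative ↥(alternatingGroup (Fin n)) := fun hc => by
    have hcom : commutator ↥(alternatingGroup (Fin n)) = ⊥ := by
      rw [commutator_def, Subgroup.commutator_eq_bot_iff_le_centralizer]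
      exact fun x _ => Subgroup.mem_centralizer_iff.mpr fun y _ => hc.is_comm.comm y x
    rw [commutator_alternatingGroup_eq_top (by simpa using hn)] at hcom
    exact absurd hcom top_ne_bot
  have hCbot : ∀ x : X, (∀ y ∈ F, x * y = y * x) → x = 1 := by
    intro x hx
    have hxF : x ∈ F := Components.centralizer_generalizedFitting_le
      (Subgroup.mem_centralizer_iff.mpr fun y hy => (hx y hy).symm)
    have hxc : (⟨x, hxF⟩ : F) ∈ Subgroup.center ↥F := Subgroup.mem_center_iff.mpr fun y =>
      Subtype.ext (hx y y.2).symm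
    rcases (inferInstance : (Subgroup.center ↥F).Normal).eq_bot_or_eq_top with h | h
    · rw [h, Subgroup.mem_bot] at hxc
      exact congrArg Subtype.val hxc
    · refine absurd ⟨⟨fun a b => ?_⟩⟩ hnc
      have := Subgroup.mem_center_iff.mp (h.ge (Subgroup.mem_top (e.symm b))) (e.symm a)
      exact e.symm.injective (by simpa using this)
  obtain ⟨S⟩ := (inferInstance : Nonempty (Sylow 3 X))
  obtain ⟨hSn, M, ⟨hMc, hSM⟩, huniq⟩ := hX S
  have hover : ∀ U : Subgroup X, (S : Subgroup X) ≤ U → U ≠ ⊤ → U ≤ M := by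
    intro U hU hne
    rcases eq_top_or_exists_le_coatom U with h | ⟨M', hM', hle⟩
    · exact absurd h hne
    · exact huniq M' ⟨hM', hU.trans hle⟩ ▸ hle
  have hSF : (S : Subgroup X) ≤ F := by
    intro x hx
    set φ : MulAut ↥(alternatingGroup (Fin n)) := MulAut.congr e (MulAut.conjNormal x) with hφ
    obtain ⟨k, hk⟩ := S.isPGroup' ⟨x, hx⟩
    have hxk : x ^ 3 ^ k = 1 := congrArg Subtype.val hk
    have hφk : φ ^ 3 ^ k = 1 := by
      rw [hφ, ← map_pow, ← map_pow, hxk, map_one, map_one]
    have hodd : Odd (3 ^ k) := (by decide : Odd 3).pow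
    obtain ⟨σ, hσ⟩ := S4231.exists_perm_of_odd (by omega) φ
      (hodd.of_dvd_nat (orderOf_dvd_of_pow_eq_one hφk))
    have hσk : σ ^ 3 ^ k = 1 := S4231.conjNormal_injective (n := n) (by omega) (by
      rw [map_pow, hσ, hφk, map_one])
    have hsign : σ ∈ alternatingGroup (Fin n) := by
      rw [Equiv.Perm.mem_alternatingGroup]
      rcases Int.units_eq_one_or (Equiv.Perm.sign σ) with h | h
      · exact h
      · have h1 := congrArg Equiv.Perm.sign hσk
        rw [map_pow, map_one, h, hodd.neg_one_pow] at h1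
        exact absurd h1 (by decide)
    set f : F := e.symm ⟨σ, hsign⟩ with hf
    have hact : ∀ y : F, MulAut.conjNormal x y = f * y * f⁻¹ := by
      intro y
      apply e.injective
      have h1 : φ (e y) = e (MulAut.conjNormal x y) := by simp [hφ, MulAut.congr]
      rw [← h1, ← hσ, map_mul, map_mul, map_inv, hf, MulEquiv.apply_symm_apply]
      exact Subtype.ext (by simp [MulAut.conjNormal_apply])
    have h1 : (f : X)⁻¹ * x = 1 := hCbot _ fun y hy => by
      have h2 : x * y * x⁻¹ = f * y * (f : X)⁻¹ := by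
        simpa [MulAut.conjNormal_apply] using congrArg Subtype.val (hact ⟨y, hy⟩)
      calc (f : X)⁻¹ * x * y = (f : X)⁻¹ * (x * y * x⁻¹) * x := by group
        _ = y * ((f : X)⁻¹ * x) := by rw [h2]; group
    rw [← inv_mul_eq_one.mp h1]
    exact f.2
  have hFtop : F = ⊤ := by
    by_contra hne
    have h1 := hover F hSF hne
    have h2 := hover (Subgroup.normalizer ((S : Subgroup X) : Set X)) Subgroup.le_normalizer
      (fun h => hSn (Subgroup.normalizer_eq_top_iff.mp h))
    exact hMc.1 (top_le_iff.mp ((Sylow.normalizer_sup_eq_top' (N := F) S hSF).ge.trans (sup_le h2 h1)))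
  refine ⟨hFtop, ?_⟩
  set ι : X ≃* ↥(alternatingGroup (Fin n)) :=
    Subgroup.topEquiv.symm.trans ((MulEquiv.subgroupCongr hFtop.symm).trans e) with hι
  set f : X →* Equiv.Perm (Fin n) := (alternatingGroup (Fin n)).subtype.comp ι.toMonoidHom with hfdef
  have hinj : Function.Injective f := Subtype.val_injective.comp ι.injective
  have hrange : ∀ U : Subgroup X, U.map f ≤ alternatingGroup (Fin n) := by
    rintro U _ ⟨u, -, rfl⟩
    exact (ι u).2
  have htop : (⊤ : Subgroup X).map f = alternatingGroup (Fin n) := by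
    refine le_antisymm (hrange _) fun σ hσ => ⟨ι.symm ⟨σ, hσ⟩, trivial, ?_⟩
    simp [hfdef]
  have := LocalEven64.card_cases_of_unique (α := Fin n) (P := (S : Subgroup X).map f) (M := M.map f)
    (hrange _) (fun h => hMc.1 (Subgroup.map_injective hinj (le_antisymm
      (Subgroup.map_mono le_top) (htop.le.trans h))))
    (fun U hSU hUA hne => by
      have hU : (U.comap f).map f = U := Subgroup.map_comap_eq_self (hUA.trans (htop.ge.trans
        (by rw [MonoidHom.range_eq_map])))
      rw [← hU]
      refine Subgroup.map_mono (hover _ (Subgroup.map_le_iff_le_comap.mp hSU) fun h => hne ?_)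
      rw [← hU, h, htop])
    (by simpa using hn) (S.isPGroup'.map f)
  simpa using this

end Cfsg.Agent.S2930
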