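import Cfsg.Statements.S2932
import Cfsg.Agent.FG78.SL2Nat.Four
import Cfsg.Agent.LocalEven61.NaturalModule

set_option autoImplicit false
open Cfsg

namespace Cfsg.Agent.S2932

/-- Let p be a prime. Inside a finite ambient group let V be an elementary abelian p-subgroup and G a subgroup normalizing V and acting faithfully on it (G ∩ C(V) = 1), and let L ≤ G act on V as SL₂(F) on its natural module, F a finite field of characteristic p, with L ≅ SL₂(F). If every Sylow p-subgroup of N_G(L) is a Sylow p-subgroup of G, then either L is normal in G, or F has 4 elements and G is isomorphic to the alternating group of degree 7. -/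
theorem result {X : Type*} [Group X] [Finite X] {p : ℕ} [Fact p.Prime] (F : Type) [Field F] [Fintype F] [CharP F p] (V G L : Subgroup X) (hV : Cfsg.IsElementaryAbelian p V) (hGV : G ≤ Subgroup.normalizer (V : Set X)) (hfaith : G ⊓ Subgroup.centralizer (V : Set X) = ⊥) (hLG : L ≤ G) (hnat : Cfsg.IsNaturalSL2Module F V L) (hLiso : Nonempty (↥L ≃* Matrix.SpecialLinearGroup (Fin 2) F)) (hSyl : ∀ S : Sylow p ↥(G ⊓ Subgroup.normalizer (L : Set X)), ∀ P : Sylow p ↥G, Nat.card S = Nat.card P) : (L.subgroupOf G).Normal ∨ (Fintype.card F = 4 ∧ Nonempty (↥G ≃* ↥(alternatingGroup (Fin 7)))) := by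
  classical
  have hf : L ⊓ Subgroup.centralizer (V : Set X) = ⊥ :=
    le_bot_iff.1 ((inf_le_inf_right _ hLG).trans hfaith.le)
  let S : Sylow p ↥L := Classical.arbitrary _
  obtain ⟨c⟩ := Cfsg.Agent.LocalEven61.exists_natCoords (p := p) hnat hf S rfl
  let e : (Fin 2 → F) ≃ ↥V := Equiv.ofBijective (fun w => ⟨c.pt w, c.pt_mem w⟩)
    ⟨fun a b h => c.pt_inj (congrArg Subtype.val h),
      fun v => (c.pt_surj v v.2).imp fun w hw => Subtype.ext hw⟩
  have hmem : ∀ (g : ↥G) (w : Fin 2 → F), (g : X) * c.pt w * (g : X)⁻¹ ∈ V := fun g w =>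
    ((Subgroup.mem_normalizer_iff.1 (hGV g.2)) _).1 (c.pt_mem w)
  let act : ↥G → (Fin 2 → F) → (Fin 2 → F) := fun g w => e.symm ⟨_, hmem g w⟩
  have hact : ∀ g w, c.pt (act g w) = (g : X) * c.pt w * (g : X)⁻¹ := fun g w =>
    congrArg Subtype.val (e.apply_symm_apply ⟨_, hmem g w⟩)
  letI : DistribMulAction ↥G (Fin 2 → F) :=
    { smul := act
      one_smul := fun w => c.pt_inj (by
        show c.pt (act 1 w) = _
        rw [hact]; simp)
      mul_smul := fun g h w => c.pt_inj (by
        show c.pt (act (g * h) w) = c.pt (act g (act h w))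
        rw [hact, hact, hact]; simp [mul_assoc])
      smul_zero := fun g => c.pt_inj (by
        show c.pt (act g 0) = _
        rw [hact, c.pt_zero]; simp)
      smul_add := fun g v w => c.pt_inj (by
        show c.pt (act g (v + w)) = c.pt (act g v + act g w)
        rw [c.pt_add, hact, hact, hact, c.pt_add]
        group) }
  let N : Subgroup X := G ⊓ Subgroup.normalizer (L : Set X)
  let emb' : Matrix.SpecialLinearGroup (Fin 2) F →* ↥N :=
    (Subgroup.inclusion (le_inf hLG Subgroup.le_normalizer)).comp c.rep.symm.toMonoidHom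
  let inc : ↥N →* ↥G := Subgroup.inclusion inf_le_left
  obtain ⟨S₀, hS₀⟩ := ((LocalEven61.upperSylow (F := F) (p := p)).isPGroup'.map emb').exists_le_sylow
  let P : Sylow p ↥G := Classical.arbitrary _
  let T : Sylow p ↥G := Sylow.ofCard ((S₀ : Subgroup ↥N).map inc) (by
    rw [Subgroup.card_map_of_injective (Subgroup.inclusion_injective _)]
    exact (hSyl S₀ P).trans P.card_eq_multiplicity)
  have hrange : ∀ x : ↥G, x ∈ (inc.comp emb').range ↔ (x : X) ∈ L := by
    intro x
    constructor
    · rintro ⟨A, rfl⟩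
      exact (c.rep.symm A).2
    · intro hx
      exact ⟨c.rep ⟨x, hx⟩, Subtype.ext (by
        show ((c.rep.symm (c.rep ⟨x, hx⟩) : ↥L) : X) = x
        rw [c.rep.symm_apply_apply])⟩
  let ctx : FG78.SL2Nat.Ctx F p ↥G :=
    { faith := fun g hg => by
        have h1 : (g : X) ∈ G ⊓ Subgroup.centralizer (V : Set X) := by
          refine ⟨g.2, Subgroup.mem_centralizer_iff.2 fun v hv => ?_⟩
          obtain ⟨w, rfl⟩ := c.pt_surj v hv
          have h := hact g w
          rw [show act g w = w from hg w] at h
          exact (eq_mul_inv_iff_mul_eq.1 h)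
        rw [hfaith, Subgroup.mem_bot] at h1
        exact Subtype.ext h1
      emb := inc.comp emb'
      emb_smul := fun A w => c.pt_inj (by
        show c.pt (act (inc (emb' A)) w) = _
        rw [hact]
        have h := c.pt_conj (c.rep.symm A) w
        rw [c.rep.apply_symm_apply] at h
        exact h)
      T := T
      T_le := by
        rintro _ ⟨n, -, rfl⟩
        rw [Subgroup.mem_normalizer_iff]
        intro x
        show x ∈ (inc.comp emb').range ↔ _ ∈ (inc.comp emb').range
        rw [hrange, hrange]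
        exact Subgroup.mem_normalizer_iff.1 n.2.2 x
      U_le := by
        rw [← Subgroup.map_map]
        exact Subgroup.map_mono hS₀ }
  have hL : ctx.L = L.subgroupOf G := by
    ext x
    exact hrange x
  rw [← hL]
  by_cases h4 : Nat.card F = 4
  · have hp2 : p = 2 := by
      obtain ⟨n, hp, hn⟩ := FiniteField.card F p
      have h : p ∣ 2 ^ 2 := by
        rw [show (2 : ℕ) ^ 2 = Nat.card F by omega, Nat.card_eq_fintype_card, hn]
        exact dvd_pow_self p n.pos.ne'
      exact (Nat.prime_dvd_prime_iff_eq hp Nat.prime_two).1 (hp.dvd_of_dvd_pow h)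
    subst hp2
    rcases ctx.normal_or_alt_seven h4 with h | h
    · exact Or.inl h
    · exact Or.inr ⟨by rw [← Nat.card_eq_fintype_card]; exact h4, h⟩
  · exact Or.inl (ctx.normal_of_key (ctx.key_of_card_ne_four h4))

end Cfsg.Agent.S2932
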