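import Cfsg.Statements.S2933
import Cfsg.Agent.S1237
import Cfsg.Agent.TwoFusionB.FpfSixIso
-- import your own Cfsg.Agent.* helpers here

set_option autoImplicit false
open Cfsg

namespace Cfsg.Agent.S2933

open Subgroup Cfsg.Agent.TwoFusionB

/-- The classification of the groups with such automorphisms. -/
theorem classify {T : Type*} [Group T] [Finite T] {ρ τ : MulAut T} (h : Six T ρ τ) :
    (Nat.card T = 16 ∧ ∀ x : T, x * x = 1) ∨
      (∃ n : ℕ, 1 ≤ n ∧ Nonempty (T ≃* Multiplicative (ZMod (2 ^ n)) × Multiplicative (ZMod (2 ^ n)))) ∨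
      (∃ (F : Type) (_ : Field F) (_ : Fintype F), Fintype.card F = 4 ∧
        ∀ P : Sylow 2 (Matrix.ProjectiveSpecialLinearGroup (Fin 3) F),
          Nonempty (T ≃* ↥(P : Subgroup (Matrix.ProjectiveSpecialLinearGroup (Fin 3) F)))) ∨
      (∃ (F : Type) (_ : Field F) (_ : Fintype F), Fintype.card F = 16 ∧
        ∀ P : Sylow 2 (Cfsg.PSU 3 F 4), Nonempty (T ≃* ↥(P : Subgroup (Cfsg.PSU 3 F 4)))) := by
  classical
  by_cases hc : ∀ a b : T, a * b = b * a
  · rcases h.comm_cases hc with h16 | h3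
    · exact Or.inl h16
    · right; left
      obtain ⟨n, hn, ⟨e⟩⟩ := Cfsg.Agent.S1237.homocyclic h3 hc ρ fun x _ hx => h.fpf x hx
      exact ⟨n, hn, ⟨e.trans (MulEquiv.prodMultiplicative _ _)⟩⟩
  right; right
  obtain ⟨h64, hz4, hsq, hexp⟩ := h.shape hc
  have h' : Fpf64 T ρ := ⟨h.hp, h64, h.cube, h.fpf, hz4, hsq, hexp⟩
  have : Fact (Nat.Prime 2) := ⟨Nat.prime_two⟩
  by_cases hf : ∃ f : T, f * f = 1 ∧ f ∉ center T
  · left
    obtain ⟨f, hf2, hfZ⟩ := hf
    obtain ⟨F, i1, i2, hF, S, ⟨e⟩⟩ := h'.recognize hf2 hfZ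
    exact ⟨F, i1, i2, hF, fun P => ⟨e.trans (Sylow.equiv S P)⟩⟩
  · right
    push Not at hf
    have h3 : ThreeInvol T := ⟨h.hp, hf, by
      rw [← hz4]
      exact Nat.card_congr (Equiv.subtypeEquivRight fun x => ⟨hf x, hexp x⟩)⟩
    have hS : Shape64 ρ := ⟨h3, h64, fun x => hexp _ (hsq x), fun x y => h'.cm_sq x y, h.cube,
      fun x _ hx => h.fpf x hx⟩
    let _ : Fintype (GaloisField 2 4) := Fintype.ofFinite _
    have hF : Fintype.card (GaloisField 2 4) = 16 := by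
      rw [← Nat.card_eq_fintype_card, GaloisField.card 2 4 (by norm_num)]; norm_num
    refine ⟨GaloisField 2 4, inferInstance, inferInstance, hF, fun P => ?_⟩
    obtain ⟨-, hcen, hsuz⟩ := Cfsg.Agent.SuzukiTwo.psu_sylow
      (show Fintype.card (GaloisField 2 4) = 4 ^ 2 by rw [hF]; norm_num) (n := 2) le_rfl
      (by norm_num) P
    obtain ⟨χ, hP⟩ := Cfsg.Agent.S1237.exists_shape64 hsuz hcen
    exact Shape64.nonempty_mulEquiv hS hP


/-- Let T be a 2-subgroup of a finite group G, V ≤ Z(T) a four-group, and t, ρ ∈ N_G(V) ∩ N_G(T) elements of order 2 and 3 with t commuting with ρ and with V. If [V, ρ] = V and C_T(t) = V, then T is elementary abelian of order 16, or homocyclic of rank 2 (ℤ/2ⁿ × ℤ/2ⁿ for some n ≥ 1), or isomorphic to a Sylow 2-subgroup of PSL₃(4) or of PSU₃(4). -/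
theorem result {G : Type*} [Group G] [Finite G] (T V : Subgroup G) (hT : IsPGroup 2 ↥T) (hVT : V ≤ T ⊓ Subgroup.centralizer (T : Set G)) (hV : Nat.card ↥V = 4 ∧ ∀ v ∈ V, v ^ 2 = 1) (t ρ : G) (ht : orderOf t = 2) (hρ : orderOf ρ = 3) (htn : t ∈ Subgroup.normalizer (V : Set G) ⊓ Subgroup.normalizer (T : Set G)) (hρn : ρ ∈ Subgroup.normalizer (V : Set G) ⊓ Subgroup.normalizer (T : Set G)) (htρ : t * ρ = ρ * t) (htV : t ∈ Subgroup.centralizer (V : Set G)) (hVρ : ⁅V, Subgroup.zpowers ρ⁆ = V) (hCt : T ⊓ Subgroup.centralizer ({t} : Set G) = V) : (Nat.card ↥T = 16 ∧ ∀ x ∈ T, x ^ 2 = 1) ∨ (∃ n : ℕ, 1 ≤ n ∧ Nonempty (↥T ≃* Multiplicative (ZMod (2 ^ n)) × Multiplicative (ZMod (2 ^ n)))) ∨ (∃ (F : Type) (_ : Field F) (_ : Fintype F), Fintype.card F = 4 ∧ ∀ P : Sylow 2 (Matrix.ProjectiveSpecialLinearGroup (Fin 3) F), Nonempty (↥T ≃* ↥(P : Subgroup (Matrix.ProjectiveSpecialLinearGroup (Fin 3) F)))) ∨ (∃ (F : Type) (_ : Field F) (_ : Fintype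 F), Fintype.card F = 16 ∧ ∀ P : Sylow 2 (Cfsg.PSU 3 F 4), Nonempty (↥T ≃* ↥(P : Subgroup (Cfsg.PSU 3 F 4)))) := by
  classical
  have hVT' : ∀ v ∈ V, v ∈ T ⊓ Subgroup.centralizer (T : Set G) := fun v hv => hVT hv
  obtain ⟨hV4, hVexp⟩ := hV
  let t' : (normalizer (T : Set G) : Subgroup G) := ⟨t, htn.2⟩
  let r' : (normalizer (T : Set G) : Subgroup G) := ⟨ρ, hρn.2⟩
  set τ : MulAut T := T.normalizerMonoidHom t' with hτdef
  set σ : MulAut T := T.normalizerMonoidHom r' with hσdef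
  have hτ : ∀ x : T, (τ x : G) = t * x * t⁻¹ := fun x => rfl
  have hσ : ∀ x : T, (σ x : G) = ρ * x * ρ⁻¹ := fun x => rfl
  have ht2 : t * t = 1 := by rw [← pow_two, ← ht]; exact pow_orderOf_eq_one t
  have hρ3 : ρ * ρ * ρ = 1 := by
    rw [← pow_two, ← pow_succ, show 2 + 1 = orderOf ρ by rw [hρ]]; exact pow_orderOf_eq_one ρ
  have htinv : t⁻¹ = t := inv_eq_of_mul_eq_one_right ht2
  have hfix : ∀ x : T, τ x = x ↔ (x : G) ∈ V := by
    intro x
    rw [← Subtype.coe_inj, hτ, mul_inv_eq_iff_eq_mul, ← hCt, mem_inf,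
      mem_centralizer_singleton_iff]
    exact ⟨fun e => ⟨x.2, e.symm⟩, fun e => e.2.symm⟩
  have hVT : ∀ v ∈ V, v ∈ T := fun v hv => (hVT hv).1
  have hcomm : ∀ x, τ (σ x) = σ (τ x) := by
    intro x
    have e : t⁻¹ * ρ⁻¹ = ρ⁻¹ * t⁻¹ := by rw [← mul_inv_rev, ← mul_inv_rev, htρ]
    apply Subtype.ext
    rw [hτ, hσ, hσ, hτ, show t * (ρ * (x : G) * ρ⁻¹) * t⁻¹ = (t * ρ) * x * (ρ⁻¹ * t⁻¹) by group,
      htρ, ← e]
    group
  have hcube : ∀ x, σ (σ (σ x)) = x := fun x => Subtype.ext (by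
    rw [hσ, hσ, hσ, show ρ * (ρ * (ρ * (x : G) * ρ⁻¹) * ρ⁻¹) * ρ⁻¹ =
      (ρ * ρ * ρ) * x * (ρ * ρ * ρ)⁻¹ by group, hρ3]
    group)
  have hinvol : ∀ x, τ (τ x) = x := fun x => Subtype.ext (by
    rw [hτ, hτ, htinv, show t * (t * (x : G) * t) * t = (t * t) * x * (t * t) by group, ht2]
    group)
  have hVfpf : ∀ v ∈ V, ρ * v * ρ⁻¹ = v → v = 1 := by
    intro v hv hρv
    by_contra hv1
    have hnorm : ∀ u ∈ V, ρ * u * ρ⁻¹ ∈ V := fun u hu => (mem_normalizer_iff.1 hρn.1 u).1 hu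
    have hall : ∀ u ∈ V, ρ * u * ρ⁻¹ = u := by
      intro u hu
      haveI := Fintype.ofFinite V
      by_contra hne
      set u1 := ρ * u * ρ⁻¹ with hu1
      set u2 := ρ * u1 * ρ⁻¹ with hu2
      have h3' : ρ * u2 * ρ⁻¹ = u := by
        rw [hu2, hu1, show ρ * (ρ * (ρ * u * ρ⁻¹) * ρ⁻¹) * ρ⁻¹ =
          (ρ * ρ * ρ) * u * (ρ * ρ * ρ)⁻¹ by group, hρ3]
        group
      have inj : ∀ a b : G, ρ * a * ρ⁻¹ = ρ * b * ρ⁻¹ → a = b := fun a b e =>
        mul_left_cancel (mul_right_cancel e)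
      have n12 : u1 ≠ u2 := fun e => hne (inj _ _ (by rw [← hu1, ← hu2]; exact e)).symm
      have n02 : u ≠ u2 := fun e => hne (by rw [← e] at h3'; exact h3')
      have n0 : ∀ w, (w = 1 ∨ w = v) → w ≠ u ∧ w ≠ u1 ∧ w ≠ u2 := by
        intro w hw
        have hwf : ρ * w * ρ⁻¹ = w := by
          rcases hw with rfl | rfl
          · group
          · exact hρv
        refine ⟨fun e => hne (by rw [e] at hwf; exact hwf), fun e => hne ?_, fun e => hne ?_⟩
        · have e' : w = u := inj _ _ (by rw [hwf, e, hu1])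
          rw [e'] at hwf
          exact hwf
        · have : w = u1 := inj _ _ (by rw [hwf, e, hu2])
          exact absurd (this.symm.trans e) n12
      have hmem : ∀ w ∈ ({1, v, u, u1, u2} : Finset G), w ∈ V := by
        intro w hw
        simp only [Finset.mem_insert, Finset.mem_singleton] at hw
        rcases hw with rfl | rfl | rfl | rfl | rfl
        exacts [one_mem _, hv, hu, hnorm _ hu, hnorm _ (hnorm _ hu)]
      have hle : ({1, v, u, u1, u2} : Finset G).card ≤ 4 := by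
        rw [← hV4, ← Nat.card_eq_finsetCard]
        exact Nat.card_le_card_of_injective (fun w => (⟨w.1, hmem w.1 w.2⟩ : V))
          fun a b e => Subtype.ext (congrArg (Subtype.val : V → G) e)
      obtain ⟨a1, a2, a3⟩ := n0 1 (Or.inl rfl)
      obtain ⟨b1, b2, b3⟩ := n0 v (Or.inr rfl)
      rw [Finset.card_insert_of_notMem (by simp [Ne.symm hv1, a1, a2, a3]),
        Finset.card_insert_of_notMem (by simp [b1, b2, b3]),
        Finset.card_insert_of_notMem (by simp [Ne.symm hne, n02]),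
        Finset.card_insert_of_notMem (by simp [n12]), Finset.card_singleton] at hle
      omega
    have hbot : ⁅V, Subgroup.zpowers ρ⁆ = ⊥ := by
      rw [commutator_eq_bot_iff_le_centralizer]
      intro u hu
      rw [Subgroup.mem_centralizer_iff]
      rintro _ ⟨k, rfl⟩
      have hc : Commute ρ u := mul_inv_eq_iff_eq_mul.1 (hall u hu)
      exact hc.zpow_left k
    rw [hVρ] at hbot
    rw [hbot, card_bot] at hV4
    omega
  have hfpf : ∀ x, σ x = x → x = 1 := by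
    intro x hx
    by_contra hx1
    obtain ⟨w, hw, hw1, hwf⟩ := exists_fixed_mod hT τ hinvol
      (σ.toMonoidHom.eqLocus (MonoidHom.id T)) ⊥
      (fun y hy => by
        have hy' : σ y = y := hy
        show σ (τ y) = τ y
        rw [← hcomm, hy']) (show x ∈ _ from hx) (by simpa using hx1)
    have hτw : τ w = w := (inv_mul_eq_one.1 (mem_bot.1 hwf)).symm
    apply hw1
    rw [mem_bot]
    exact Subtype.ext (hVfpf _ ((hfix w).1 hτw) (congrArg Subtype.val (show σ w = w from hw)))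
  have h : Six T σ τ :=
    { hp := hT
      cube := hcube
      fpf := hfpf
      invol := hinvol
      comm := hcomm
      fixCent := fun x hx => mem_center_iff.2 fun g => Subtype.ext
        (Subgroup.mem_centralizer_iff.1 (hVT' _ ((hfix x).1 hx)).2 g g.2)
      fix4 := by
        rw [← hV4]
        exact Nat.card_congr
          { toFun := fun x => ⟨(x.1 : G), (hfix x.1).1 x.2⟩
            invFun := fun v => ⟨⟨v.1, hVT _ v.2⟩, (hfix _).2 v.2⟩
            left_inv := fun x => rfl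
            right_inv := fun v => rfl } }
  rcases classify h with ⟨h16, hel⟩ | h' | h' | h'
  · exact Or.inl ⟨h16, fun x hx => by rw [pow_two]; exact congrArg Subtype.val (hel ⟨x, hx⟩)⟩
  · exact Or.inr (Or.inl h')
  · exact Or.inr (Or.inr (Or.inl h'))
  · exact Or.inr (Or.inr (Or.inr h'))

end Cfsg.Agent.S2933
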