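import Cfsg.Statements.S2934
import Cfsg.Agent.LocalEven64.UniqueInvolutionMain
import Cfsg.Agent.Lib.LargeExtraspecial.Pullback

set_option autoImplicit false
open Cfsg

namespace Cfsg.Agent.S2934

/-- Let p be an odd prime, W a finite 2-group and E a non-cyclic abelian p-subgroup of Aut(W) such that, for every nontrivial e ∈ E, the fixed points of e in W contain at most one involution. Then E has order 9, W is extraspecial of order 2⁵, 2⁷ or 2⁹, and the common fixed points of E in W form exactly the centre Z(W). -/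
theorem result {W : Type*} [Group W] [Finite W] (hW : IsPGroup 2 W) {p : ℕ} [Fact p.Prime] (hp : p ≠ 2) (E : Subgroup (MulAut W)) (hE : IsPGroup p ↥E) (hab : IsMulCommutative ↥E) (hnc : ¬ IsCyclic ↥E) (hfix : ∀ e ∈ E, e ≠ 1 → ∀ x y : W, orderOf x = 2 → orderOf y = 2 → e x = x → e y = y → x = y) : Nat.card ↥E = 9 ∧ Cfsg.IsExtraspecial 2 W ∧ (Nat.card W = 2 ^ 5 ∨ Nat.card W = 2 ^ 7 ∨ Nat.card W = 2 ^ 9) ∧ {x : W | ∀ e ∈ E, e x = x} = (Subgroup.center W : Set W) := by
  classical
  let φ : ↥E →* MulAut W := E.subtype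
  let Γ := W ⋊[φ] ↥E
  haveI : Finite Γ := Finite.of_equiv (W × ↥E) SemidirectProduct.equivProd.symm
  let iW : W →* Γ := SemidirectProduct.inl
  let iE : ↥E →* Γ := SemidirectProduct.inr
  have hiW : Function.Injective iW := SemidirectProduct.inl_injective
  have hiE : Function.Injective iE := SemidirectProduct.inr_injective
  have haut : ∀ (e : E) (w : W), iE e * iW w * (iE e)⁻¹ = iW ((e : MulAut W) w) := fun e w => by
    have := (SemidirectProduct.inl_aut (φ := φ) e w).symm
    simpa [iE, iW, φ] using this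
  have hcomm : ∀ (e : E) (w : W), Commute (iE e) (iW w) ↔ (e : MulAut W) w = w := fun e w => by
    rw [← hiW.eq_iff, ← haut, mul_inv_eq_iff_eq_mul]
    exact Iff.rfl
  have hA : ¬ IsCyclic ↥iE.range := fun hc => hnc
    ((MonoidHom.ofInjective hiE).isCyclic.mpr hc)
  have hd : LocalEven64.UIData iE.range iW.range p :=
    { prime := Fact.out
      odd := hp
      pA := hE.of_equiv (MonoidHom.ofInjective hiE)
      two := hW.of_equiv (MonoidHom.ofInjective hiW)
      comm := by
        rintro _ ⟨a, rfl⟩ _ ⟨b, rfl⟩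
        rw [← map_mul, ← map_mul, hab.is_comm.comm a b]
      noncyclic := hA
      norm := by
        refine Coprime.le_normalizer_of_conj_mem ?_
        rintro _ ⟨e, rfl⟩ _ ⟨w, rfl⟩
        exact ⟨_, (haut e w).symm⟩
      faithful := by
        rw [eq_bot_iff]
        rintro _ ⟨⟨e, rfl⟩, hc⟩
        have he : e = 1 := Subtype.ext (MulEquiv.ext fun w =>
          (hcomm e w).mp (Subgroup.mem_centralizer_iff.mp hc _ ⟨w, rfl⟩).symm)
        rw [he, map_one]
        exact one_mem _
      fix := by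
        rintro _ ⟨e, rfl⟩ he _ ⟨x, rfl⟩ _ ⟨y, rfl⟩ hx hy hex hey
        rw [orderOf_injective iW hiW] at hx hy
        rw [hfix (e : MulAut W) e.2 (fun h => he (by
          rw [show e = 1 from Subtype.ext h, map_one])) x y hx hy ((hcomm e x).mp hex) ((hcomm e y).mp hey)] }
  obtain ⟨z, hz⟩ := hd.exists_pdata
  obtain ⟨h1, h2, h3, h4⟩ := hd.main hz
  rw [← Nat.card_congr (MonoidHom.ofInjective hiE).toEquiv] at h1
  rw [← Nat.card_congr (MonoidHom.ofInjective hiW).toEquiv] at h3
  refine ⟨h1, LargeExtraspecial.isExtraspecial_equiv (MonoidHom.ofInjective hiW).symm h2, h3, ?_⟩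
  ext x
  have hx := h4 ((MonoidHom.ofInjective hiW) x)
  constructor
  · intro hfx
    have hc := hx.mp (by
      rintro _ ⟨e, rfl⟩
      exact (hcomm e x).mpr (hfx e e.2))
    refine Subgroup.mem_center_iff.mpr fun y => (MonoidHom.ofInjective hiW).injective ?_
    rw [map_mul, map_mul]
    exact Subgroup.mem_center_iff.mp hc _
  · intro hfx e he
    refine (hcomm ⟨e, he⟩ x).mp (hx.mpr (Subgroup.mem_center_iff.mpr fun y => ?_) _ ⟨_, rfl⟩)
    obtain ⟨y, rfl⟩ := (MonoidHom.ofInjective hiW).surjective y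
    rw [← map_mul, ← map_mul, Subgroup.mem_center_iff.mp hfx y]

end Cfsg.Agent.S2934
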