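import Cfsg.Statements.S2937
import Cfsg.Agent.LieStruct.All
import Cfsg.Agent.LieStruct.Simple
import Cfsg.Agent.LieStruct.Small
import Cfsg.Agent.LieStruct.Tits
import Cfsg.Agent.LieStruct.PMinLinear
import Cfsg.Agent.LieStruct.PMinClassical
import Cfsg.Agent.LieStruct.PMinExceptional
import Cfsg.Agent.LieStruct.PMinTwisted
import Cfsg.Agent.LieStruct.PMinSmall
import Cfsg.Agent.LieStruct.PMinU33
import Cfsg.Agent.LieStruct.PMinTits
import Cfsg.Agent.Lib.Components.GenFitting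
-- import your own Cfsg.Agent.* helpers here

set_option autoImplicit false
open Cfsg

namespace Cfsg.Agent.S2937

open Cfsg.Agent.LieStruct

/-- The possible behaviours of the socle. -/
theorem socle_cases {K : Type*} [Group K] [Finite K] [IsSimpleGroup K] {p : ℕ} [Fact p.Prime]
    (hK : Cfsg.IsChevSimple p K) :
    (PMinSys p K ∧ Cfsg.IsLieRankOneChar p K) ∨
    (PMinSwap p K ∧ p = 2 ∧ ((∃ (F : Type) (_ : Field F) (_ : Fintype F) (_ : CharP F 2), Nonempty (K ≃* Matrix.ProjectiveSpecialLinearGroup (Fin 3) F)) ∨ (∃ (F : Type) (_ : Field F) (_ : Fintype F) (_ : CharP F 2), 4 ≤ Fintype.card F ∧ Nonempty (K ≃* Cfsg.PSp 2 F)) ∨ Nonempty (K ≃* ↥(alternatingGroup (Fin 6))))) ∨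
    PMinExcluded p K ∨ PMinTwo p K := by
  rcases hK with h | ⟨rfl, h | ⟨F, _, _, hF, h⟩ | h⟩ | ⟨rfl, F, _, _, hF, h⟩
  · rcases h with h | h | h | h | h | h | h | h | ⟨rfl, h⟩ | ⟨rfl, h⟩ | ⟨rfl, h⟩
    · obtain ⟨F, i1, i2, i3, n, hn, h4, ⟨e⟩⟩ := id h
      obtain ⟨m, rfl⟩ : ∃ m, n = m + 1 := ⟨n - 1, by omega⟩
      obtain ⟨h1, h2, h3, h5⟩ := psl_pmin (p := p) (show 0 < m by omega) e
      rcases Nat.lt_or_ge m 3 with hm | hm
      · obtain rfl | rfl : m = 1 ∨ m = 2 := by omega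
        · exact Or.inl ⟨h1 rfl, Or.inl ⟨F, i1, i2, i3, h4 rfl, ⟨e⟩⟩⟩
        · by_cases hp : p = 2
          · subst hp
            exact Or.inr (Or.inl ⟨h2 rfl rfl, rfl, Or.inl ⟨F, i1, i2, i3, ⟨e⟩⟩⟩)
          · exact Or.inr (Or.inr (Or.inl (h3 rfl hp)))
      · exact Or.inr (Or.inr (Or.inl (h5 hm)))
    · rcases psp_pmin h with ⟨h1, h2, h3⟩ | h1
      · exact Or.inr (Or.inl ⟨h1, h2, Or.inr (Or.inl h3)⟩)
      · exact Or.inr (Or.inr (Or.inl h1))
    · rcases psu_pmin h with ⟨h1, h2⟩ | h1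
      · exact Or.inl ⟨h1, Or.inr (Or.inl h2)⟩
      · exact Or.inr (Or.inr (Or.inl h1))
    · exact Or.inr (Or.inr (Or.inl (pomega_odd_pmin h)))
    · exact Or.inr (Or.inr (Or.inl (pomega_plus_pmin h)))
    · exact Or.inr (Or.inr (Or.inl (pomega_minus_pmin h)))
    · exact Or.inr (Or.inr (Or.inl (exceptional_pmin h)))
    · obtain ⟨F, _, _, _, q, hq, ⟨hF, ⟨e⟩⟩ | ⟨hF, ⟨e⟩⟩⟩ := h
      · exact Or.inr (Or.inr (Or.inl (twistedE6_pmin hq hF e)))
      · exact Or.inr (Or.inr (Or.inl (twistedD4_pmin hq hF e)))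
    · exact Or.inl ⟨suzuki_pmin h, Or.inr (Or.inr (Or.inl ⟨rfl, h⟩))⟩
    · obtain ⟨F, _, _, m, -, hF, ⟨e⟩⟩ := h
      exact Or.inr (Or.inr (Or.inl (twistedF4_pmin hF e)))
    · obtain ⟨F, _, _, m, -, hF, ⟨e⟩⟩ := id h
      exact Or.inl ⟨twistedG2_pmin hF e, Or.inr (Or.inr (Or.inr ⟨rfl, Or.inl h⟩))⟩
  · obtain ⟨e⟩ := h
    exact Or.inr (Or.inl ⟨a6_pmin' e, rfl, Or.inr (Or.inr ⟨e⟩)⟩)
  · obtain ⟨e⟩ := h
    exact Or.inr (Or.inr (Or.inr (u33_pmin hF e)))
  · exact Or.inr (Or.inr (Or.inl (tits_pmin h)))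
  · obtain ⟨e⟩ := h
    exact Or.inl ⟨l28_pmin hF e, Or.inr (Or.inr (Or.inr ⟨rfl, Or.inr ⟨F, inferInstance, inferInstance, hF, ⟨e⟩⟩⟩))⟩

/-- The Sylow subgroup of the socle is a proper non-trivial subgroup. -/
theorem sylow_proper {X : Type*} [Group X] [Finite X] {p : ℕ} [Fact p.Prime] (hX : Cfsg.IsPMinimal p X)
    {K : Subgroup X} [K.Normal] [IsSimpleGroup ↥K]
    (hC : Subgroup.centralizer (K : Set X) ≤ K) (hK : Cfsg.IsChevSimple p ↥K) (U : Sylow p ↥K) :
    (U : Subgroup ↥K) ≠ ⊤ ∧ (U : Subgroup ↥K) ≠ ⊥ := by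
  have hbot : (U : Subgroup ↥K) ≠ ⊥ := by
    intro e
    have hover : Over p ↥K := by
      rcases hK with h | ⟨rfl, h | ⟨F, _, _, hF, h⟩ | h⟩ | ⟨rfl, F, _, _, hF, h⟩
      · exact (lieType_facts h).2
      · exact h.elim fun e => Small.over_extra_A6 e
      · exact h.elim fun e => Small.over_extra_U33 hF e
      · exact isoTits h
      · exact h.elim fun e => Small.over_extra_L28 hF e
    refine bot_ne_top (hover ⊥ ((Subgroup.eq_bot_iff_forall _).2 fun x _ => Subsingleton.elim _ _) ?_)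
    have := U.not_dvd_index
    rwa [e] at this
  refine ⟨fun e => ?_, hbot⟩
  have hp : IsPGroup p ↥K := (e ▸ U.2 : IsPGroup p ↥(⊤ : Subgroup ↥K)).of_equiv Subgroup.topEquiv
  haveI : Nontrivial ↥(Subgroup.center ↥K) := hp.center_nontrivial
  have hcen : Subgroup.center ↥K = ⊤ :=
    (inferInstance : (Subgroup.center ↥K).Normal).eq_bot_or_eq_top.resolve_left
      ((Subgroup.nontrivial_iff_ne_bot _).1 inferInstance)
  have hcomm : ∀ a b : ↥K, a * b = b * a := fun a b =>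
    Subgroup.mem_center_iff.1 (hcen.ge (Subgroup.mem_top b)) a
  letI : CommGroup ↥K := { (inferInstance : Group ↥K) with mul_comm := hcomm }
  have hprime : (Nat.card ↥K).Prime := IsSimpleGroup.prime_card
  haveI : IsCyclic ↥K := isCyclic_of_prime_card (hp := ⟨hprime⟩) rfl
  have hcard : Nat.card ↥K = p := by
    obtain ⟨n, hn⟩ := IsPGroup.iff_card.1 hp
    rw [hn] at hprime ⊢
    rw [Nat.Prime.eq_one_of_pow hprime, pow_one]
  obtain ⟨S, hKS⟩ := (show IsPGroup p K from hp).exists_le_sylow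
  have hSC : (S : Subgroup X) ≤ Subgroup.centralizer (K : Set X) := by
    intro s hs
    set φ : ↥(S : Subgroup X) →* MulAut ↥K := MulAut.conjNormal.comp (S : Subgroup X).subtype
    have h1 : φ.range = ⊥ := by
      obtain ⟨n, hn⟩ := IsPGroup.iff_card.1 (S.2.of_surjective φ.rangeRestrict φ.rangeRestrict_surjective)
      refine Subgroup.card_eq_one.1 ?_
      rcases Nat.eq_zero_or_pos n with rfl | hn0
      · simpa using hn
      exfalso
      have h2 : p ∣ Nat.card (MulAut ↥K) :=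
        ((dvd_pow_self p hn0.ne').trans hn.symm.dvd).trans (Subgroup.card_subgroup_dvd_card _)
      rw [IsCyclic.card_mulAut, hcard, Nat.totient_prime Fact.out] at h2
      have h3 := (Fact.out : p.Prime).two_le
      exact absurd (Nat.le_of_dvd (by omega) h2) (by omega)
    have h2 : φ ⟨s, hs⟩ = 1 := Subgroup.mem_bot.1 (h1.le ⟨⟨s, hs⟩, rfl⟩)
    refine Subgroup.mem_centralizer_iff.2 fun k hk => ?_
    have h3 : s * k * s⁻¹ = k := congrArg Subtype.val (DFunLike.congr_fun h2 (⟨k, hk⟩ : ↥K))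
    exact (mul_inv_eq_iff_eq_mul.1 h3).symm
  have hSK : (S : Subgroup X) = K := le_antisymm (hSC.trans hC) hKS
  exact (hX S).1 (hSK.symm ▸ inferInstance)

/-- Let X be a finite p-minimal group whose generalized Fitting subgroup K = F*(X) is a simple group of Lie type in characteristic p, and let U be a Sylow p-subgroup of K. Then N_X(U) is a maximal subgroup of X, and either K has Lie rank one (K ≅ PSL₂(pᵉ), PSU₃(pᵉ), a Suzuki group for p = 2, or a Ree group or PSL₂(8) for p = 3), or p = 2, K ≠ X and K is isomorphic to PSL₃(2ᵉ) or to PSp₄(2ᵉ) (e ≥ 2) or to the alternating group of degree 6. -/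
theorem result {X : Type*} [Group X] [Finite X] {p : ℕ} [Fact p.Prime] (hX : Cfsg.IsPMinimal p X) (hK : Cfsg.IsChevSimple p ↥(Cfsg.generalizedFittingSubgroup X)) (U : Sylow p ↥(Cfsg.generalizedFittingSubgroup X)) : IsCoatom (Subgroup.normalizer (((U : Subgroup ↥(Cfsg.generalizedFittingSubgroup X)).map (Cfsg.generalizedFittingSubgroup X).subtype : Subgroup X) : Set X)) ∧ (Cfsg.IsLieRankOneChar p ↥(Cfsg.generalizedFittingSubgroup X) ∨ (p = 2 ∧ Cfsg.generalizedFittingSubgroup X ≠ ⊤ ∧ ((∃ (F : Type) (_ : Field F) (_ : Fintype F) (_ : CharP F 2), Nonempty (↥(Cfsg.generalizedFittingSubgroup X) ≃* Matrix.ProjectiveSpecialLinearGroup (Fin 3) F)) ∨ (∃ (F : Type) (_ : Field F) (_ : Fintype F) (_ : CharP F 2), 4 ≤ Fintype.card F ∧ Nonempty (↥(Cfsg.generalizedFittingSubgroup X) ≃* Cfsg.PSp 2 F)) ∨ Nonempty (↥(Cfsg.generalizedFittingSubgroup X) ≃* ↥(alternatingGroup (Fin 6)))))) := by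
  haveI : IsSimpleGroup ↥(Cfsg.generalizedFittingSubgroup X) := isSimpleGroup_chevSimple hK
  obtain ⟨hne, hbot⟩ := sylow_proper hX Components.centralizer_generalizedFitting_le hK U
  rcases socle_cases hK with ⟨h, h'⟩ | ⟨h, h2, h'⟩ | h | h
  · exact ⟨pmin_coatom hX U hne hbot h, Or.inl h'⟩
  · obtain ⟨h1, h3⟩ := pmin_swap hX U hne hbot h
    exact ⟨h1, Or.inr ⟨h2, h3, h'⟩⟩
  · exact (pmin_excluded hX U hne hbot h).elim
  · exact (pmin_two hX U hne hbot h).elim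

end Cfsg.Agent.S2937
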