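import Cfsg.Statements.S2939
import Cfsg.Agent.LocalEven64.SylowControl

set_option autoImplicit false
open Cfsg

namespace Cfsg.Agent.S2939

open Subgroup LocalEven64

variable {G : Type*} [Group G] [Finite G] {p : ℕ} [Fact p.Prime] {𝓕 : Set (Subgroup G)}

omit [Finite G] [Fact p.Prime] in
theorem conjRight_subset_iff {g : G} {A : Set G} {X : Subgroup G} :
    Cfsg.conjRight g A ⊆ (X : Set G) ↔ ∀ a ∈ A, a ∈ Cfsg.subgroupConjRight g⁻¹ X := by
  simp only [Cfsg.conjRight, Set.subset_def, Set.forall_mem_image, mem_conjR,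
    inv_inv, SetLike.mem_coe]

theorem forward (h𝓕 : Cfsg.IsNormalSet 𝓕) (h : Cfsg.ControlsSylowIntersections p 𝓕) :
    Cfsg.FamilyStronglyControlsFusion p 𝓕 := by
  intro S A g hA ⟨a, haA, ha1⟩ hAg
  set T := sylowConjR g⁻¹ S with hT
  have hAT : ∀ a ∈ A, a ∈ (T : Subgroup G) := conjRight_subset_iff.mp hAg
  have hne : (S : Subgroup G) ⊓ (T : Subgroup G) ≠ ⊥ := by
    intro hb
    have : a ∈ (S : Subgroup G) ⊓ (T : Subgroup G) := ⟨hA haA, hAT a haA⟩
    rw [hb] at this
    exact ha1 this
  have key : ∀ T' : Sylow p G, Linked p 𝓕 ((S : Subgroup G) ⊓ (T : Subgroup G)) S T' →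
      ∃ (n : ℕ) (Y : Fin n → Subgroup G) (y : Fin n → G),
        sylowConjR (List.ofFn y).prod T' = S ∧
        (∀ i : Fin n, Y i ∈ Cfsg.sylowMembers p 𝓕 (S : Subgroup G) ∧ y i ∈ Y i) ∧
        ∀ i : Fin n, Cfsg.conjRight (((List.ofFn y).take (i.val + 1)).prod) A ⊆
          (S : Set G) ∩ (Y i : Set G) := by
    intro T' hT'
    induction hT' with
    | refl => exact ⟨0, Fin.elim0, Fin.elim0, by simp [sylowConjR_one], fun i => i.elim0, fun i => i.elim0⟩
    | @tail b c _ hbc ih =>
      obtain ⟨n, Y, y, hz, hmem, hsub⟩ := ih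
      obtain ⟨X, x, hx, h1, h2, h3, h4⟩ := hbc
      set z := (List.ofFn y).prod with hzdef
      have hofn : List.ofFn (Fin.snoc y (z⁻¹ * x * z) : Fin (n + 1) → G) =
          List.ofFn y ++ [z⁻¹ * x * z] := by
        rw [List.ofFn_succ', List.concat_eq_append]
        simp
      have hprod : (List.ofFn (Fin.snoc y (z⁻¹ * x * z) : Fin (n + 1) → G)).prod = x * z := by
        rw [hofn, List.prod_append, ← hzdef]; simp [mul_assoc]
      refine ⟨n + 1, Fin.snoc Y (Cfsg.subgroupConjRight z X), Fin.snoc y (z⁻¹ * x * z), ?_, ?_, ?_⟩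
      · rw [hprod, ← sylowConjR_mul, h3, hz]
      · intro i
        induction i using Fin.lastCases with
        | last =>
          simp only [Fin.snoc_last]
          refine ⟨?_, by rw [mem_conjR]; simpa [mul_assoc] using hx⟩
          have := sylowMembers_conjR h𝓕 h1 z
          rwa [← coe_sylowConjR, hz] at this
        | cast j => simpa only [Fin.snoc_castSucc] using hmem j
      · intro i
        induction i using Fin.lastCases with
        | last =>
          rw [Fin.val_last, List.take_of_length_le (by simp), hprod, Fin.snoc_last]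
          rintro _ ⟨a, ha, rfl⟩
          have hc := h4 ⟨hA ha, hAT a ha⟩
          refine ⟨?_, ?_⟩
          · rw [← hz, ← h3, sylowConjR_mul]
            refine mem_conjR.mpr ?_
            have e : x * z * ((x * z)⁻¹ * a * (x * z)) * (x * z)⁻¹ = a := by group
            beta_reduce
            rw [e]; exact hc.1
          · refine mem_conjR.mpr ?_
            have := X.mul_mem (X.mul_mem (X.inv_mem hx) hc.2) hx
            simpa [mul_assoc] using this
        | cast j =>
          rw [hofn, Fin.snoc_castSucc, Fin.val_castSucc,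
            List.take_append_of_le_length (by simp)]
          exact hsub j
  obtain ⟨n, Y, y, hz, hmem, hsub⟩ := key T (controls_linked h S T hne)
  refine ⟨n, Y, y, (List.ofFn y).prod⁻¹ * g, ?_, hmem, by group, hsub⟩
  rw [← conjR_eq_self_iff]
  rw [hT, sylowConjR_mul] at hz
  have := congrArg (fun P : Sylow p G => (P : Subgroup G)) hz
  simp only [coe_sylowConjR] at this
  conv_lhs => rw [← this]
  rw [conjR_mul, show g⁻¹ * (List.ofFn y).prod * ((List.ofFn y).prod⁻¹ * g) = 1 by group, conjR_one]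

theorem backward (h𝓕 : Cfsg.IsNormalSet 𝓕) (h : Cfsg.FamilyStronglyControlsFusion p 𝓕) :
    Cfsg.ControlsSylowIntersections p 𝓕 := by
  rw [controls_iff]
  intro S T _ hne
  obtain ⟨g, rfl⟩ := exists_conjR_eq S T
  set D := (S : Subgroup G) ⊓ (sylowConjR g S : Subgroup G) with hD
  obtain ⟨a, haD, ha1⟩ := (Subgroup.ne_bot_iff_exists_ne_one.mp hne) |> fun ⟨a, ha⟩ =>
    (⟨(a : G), a.2, fun e => ha (Subtype.ext e)⟩ : ∃ a, a ∈ D ∧ a ≠ 1)
  obtain ⟨n, Y, y, y₀, hy₀, hmem, hg, hsub⟩ := h S (D : Set G) g⁻¹ (fun x hx => hx.1) ⟨a, haD, ha1⟩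
    (conjRight_subset_iff.mpr fun x hx => by simpa [coe_sylowConjR] using hx.2)
  have key : ∀ k, k ≤ n →
      Linked p 𝓕 D S (sylowConjR (((List.ofFn y).take k).prod)⁻¹ S) := by
    intro k
    induction k with
    | zero => intro _; simpa [sylowConjR_one] using Relation.ReflTransGen.refl
    | succ k ih =>
      intro hk
      refine (ih (by omega)).tail ?_
      set i : Fin n := ⟨k, hk⟩
      set z := ((List.ofFn y).take k).prod with hz
      have hzs : ((List.ofFn y).take (k + 1)).prod = z * y i := by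
        rw [List.prod_take_succ _ _ (by simpa using hk), List.getElem_ofFn, hz]
      have e : Cfsg.subgroupConjRight (z * y i)⁻¹ (Y i) = Cfsg.subgroupConjRight z⁻¹ (Y i) := by
        rw [mul_inv_rev, ← conjR_mul, conjR_eq_self_of_mem ((Y i).inv_mem (hmem i).2)]
      rw [hzs]
      refine ⟨Cfsg.subgroupConjRight z⁻¹ (Y i), z * y i * z⁻¹, ?_,
        sylowMembers_conjR h𝓕 (hmem i).1 z⁻¹, ?_, ?_, ?_⟩
      · exact mem_conjR.mpr (by simpa [mul_assoc] using (hmem i).2)
      · rw [coe_sylowConjR, ← e]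
        exact sylowMembers_conjR h𝓕 (hmem i).1 _
      · rw [sylowConjR_mul]; congr 1; group
      · intro x hx
        have h2 := hsub i ⟨x, hx, rfl⟩
        rw [show i.val + 1 = k + 1 from rfl, hzs] at h2
        have h21 : (z * y i)⁻¹ * x * (z * y i) ∈ (S : Subgroup G) := h2.1
        refine ⟨mem_conjR.mpr (by simpa [mul_assoc] using h21), ?_⟩
        rw [← e]
        exact mem_conjR.mpr (by simpa [mul_assoc] using h2.2)
  have := key n le_rfl
  rw [List.take_of_length_le (by simp)] at this
  convert this using 1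
  have hfix : sylowConjR y₀⁻¹ S = S :=
    Sylow.ext (conjR_eq_self_iff.mpr ((normalizer _).inv_mem hy₀))
  rw [← inv_inv g, hg, mul_inv_rev, ← sylowConjR_mul, hfix]


/-- Let p be a prime dividing the order of the finite group G and 𝓕 a family of subgroups of G closed under conjugation, with conjugates taken as X^g = g⁻¹Xg. Then 𝓕 controls Sylow p-intersections in G (any two distinct Sylow p-subgroups S and T with S ∩ T ≠ 1 are joined by a chain S = S₀, S₁, …, Sₙ = T of Sylow p-subgroups where, for each i, some member Xᵢ of 𝓕 meets both S_{i-1} and Sᵢ in Sylow p-subgroups of Xᵢ, satisfies S ∩ T ≤ Sᵢ ∩ Xᵢ, and contains an element xᵢ with Sᵢ^{xᵢ} = S_{i-1}) if and only if 𝓕 strongly controls p-fusion in G (whenever A is a subset of a Sylow p-subgroup S, A contains an element other than 1, and A^g ⊆ S, the element g factorises as g = y₁⋯yₙy with y ∈ N_G(S) and each yᵢ in a member Yᵢ of 𝓕 that meets S in a Sylow p-subgroup of Yᵢ, with A^{y₁⋯yᵢ} ⊆ S ∩ Yᵢ for each i). -/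
theorem result {G : Type*} [Group G] [Finite G] {p : ℕ} [Fact p.Prime] (hdiv : p ∣ Nat.card G) (𝓕 : Set (Subgroup G)) (h𝓕 : Cfsg.IsNormalSet 𝓕) : Cfsg.ControlsSylowIntersections p 𝓕 ↔ Cfsg.FamilyStronglyControlsFusion p 𝓕 := by
  constructor
  · exact fun h => forward h𝓕 h
  · exact fun h => backward h𝓕 h

end Cfsg.Agent.S2939
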