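import Cfsg.Statements.S2940
-- import your own Cfsg.Agent.* helpers here

set_option autoImplicit false
open Cfsg

namespace Cfsg.Agent.S2940

/-- Let S be a Sylow p-subgroup of the finite group G and G₁, G₂ subgroups containing S with G = G₁G₂. Then for every g ∈ G there is a Sylow p-subgroup U of G with S ∩ S^g ≤ U ≤ G₁ ∩ G₂^g (conjugates taken as X^g = g⁻¹Xg). -/
theorem result {G : Type*} [Group G] [Finite G] {p : ℕ} [Fact p.Prime] (S : Sylow p G) (G₁ G₂ : Subgroup G) (h1 : (S : Subgroup G) ≤ G₁) (h2 : (S : Subgroup G) ≤ G₂) (hfact : ∀ g : G, ∃ g₁ ∈ G₁, ∃ g₂ ∈ G₂, g = g₁ * g₂) (g : G) : ∃ U : Sylow p G, (S : Subgroup G) ⊓ Cfsg.subgroupConjRight g (S : Subgroup G) ≤ (U : Subgroup G) ∧ (U : Subgroup G) ≤ G₁ ⊓ Cfsg.subgroupConjRight g G₂ := by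
  obtain ⟨g₁, hg₁, g₂, hg₂, hg⟩ := hfact g⁻¹
  have hg' : g = g₂⁻¹ * g₁⁻¹ := by rw [← mul_inv_rev, ← hg, inv_inv]
  -- `G₂^g = G₂^{g₁⁻¹}`
  have hconj : ∀ x, x ∈ Cfsg.subgroupConjRight g G₂ ↔ g₁⁻¹ * x * g₁ ∈ G₂ := by
    intro x
    constructor
    · rintro ⟨y, hy, rfl⟩
      have := G₂.mul_mem (G₂.mul_mem hg₂ hy) (G₂.inv_mem hg₂)
      simpa [hg', mul_assoc] using this
    · intro hx
      refine ⟨g₂⁻¹ * (g₁⁻¹ * x * g₁) * g₂, G₂.mul_mem (G₂.mul_mem (G₂.inv_mem hg₂) hx) hg₂, ?_⟩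
      simp [hg', mul_assoc]
  let K : Subgroup G := G₁ ⊓ Cfsg.subgroupConjRight g G₂
  let S' : Sylow p G := (MulAut.conj g₁ : MulAut G) • S
  have hS' : (S' : Subgroup G) ≤ K := by
    intro x hx
    change x ∈ ((MulAut.conj g₁ : MulAut G) • S : Sylow p G).1 at hx
    rw [Sylow.pointwise_smul_def, Subgroup.mem_pointwise_smul_iff_inv_smul_mem] at hx
    have hx' : g₁⁻¹ * x * g₁ ∈ (S : Subgroup G) := by simpa using hx
    refine ⟨?_, (hconj x).mpr (h2 hx')⟩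
    have := G₁.mul_mem (G₁.mul_mem hg₁ (h1 hx')) (G₁.inv_mem hg₁)
    simpa [mul_assoc] using this
  have hI : (S : Subgroup G) ⊓ Cfsg.subgroupConjRight g (S : Subgroup G) ≤ K :=
    inf_le_inf h1 (Subgroup.map_mono h2)
  set I : Subgroup G := (S : Subgroup G) ⊓ Cfsg.subgroupConjRight g (S : Subgroup G) with hIdef
  have hIp : IsPGroup p (I.subgroupOf K) :=
    (S.isPGroup'.to_le inf_le_left).comap_subtype
  obtain ⟨P, hP⟩ := hIp.exists_le_sylow
  haveI : Nonempty (Sylow p K) := ⟨P⟩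
  obtain ⟨k, hk⟩ := MulAction.exists_smul_eq K (S'.subtype hS') P
  refine ⟨(MulAut.conj (k : G) : MulAut G) • S', ?_, ?_⟩
  · intro x hx
    have hxP : (⟨x, hI hx⟩ : K) ∈ (P : Subgroup K) := hP hx
    rw [← hk] at hxP
    change (⟨x, hI hx⟩ : K) ∈ ((MulAut.conj k : MulAut K) • S'.subtype hS' : Sylow p K).1 at hxP
    rw [Sylow.pointwise_smul_def, Subgroup.mem_pointwise_smul_iff_inv_smul_mem] at hxP
    show x ∈ ((MulAut.conj (k : G) : MulAut G) • S' : Sylow p G).1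
    rw [Sylow.pointwise_smul_def, Subgroup.mem_pointwise_smul_iff_inv_smul_mem]
    simpa [Sylow.coe_subtype, Subgroup.mem_subgroupOf] using hxP
  · intro x hx
    change x ∈ ((MulAut.conj (k : G) : MulAut G) • S' : Sylow p G).1 at hx
    rw [Sylow.pointwise_smul_def, Subgroup.mem_pointwise_smul_iff_inv_smul_mem] at hx
    have := K.mul_mem (K.mul_mem k.2 (hS' hx)) (K.inv_mem k.2)
    simpa [mul_assoc, K] using this

end Cfsg.Agent.S2940
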