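import Cfsg.Statements.S2953
import Cfsg.Agent.LocalEven64.VertexGroup

set_option autoImplicit false
open Cfsg

namespace Cfsg.Agent.S2953

/-- Let G be a finite group of characteristic 2 type in which every 2-local subgroup is solvable and the centralizer of Ω₁(Z(S)) lies in N_G(S) for every Sylow 2-subgroup S; suppose O₂(G) = 1, fix a Sylow 2-subgroup S and a 2-local subgroup M containing N_G(J(S)) (J the Thompson subgroup generated by the elementary abelian 2-subgroups of largest order). Let T be maximal (for the order of a largest elementary abelian subgroup, then the order of J(T), then the order of T) among the nontrivial 2-subgroups of M lying in a 2-local subgroup not inside M. Then there are two distinct J(T)-components K₁, K₂ such that, with Pᵢ = ⟨Kᵢ, T⟩: C_G(O₂(Pᵢ)) ≤ O₂(Pᵢ), T is a Sylow 2-subgroup of Pᵢ, O₂(Pᵢ) has index 6 in Pᵢ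 with Pᵢ/O₂(Pᵢ) non-abelian, [Ω₁(Z(T)), Pᵢ] ≠ 1, O₂(⟨P₁, P₂⟩) = 1, and each Pᵢ lies in exactly one maximal 2-local subgroup Lᵢ of G, in which T is a Sylow 2-subgroup. -/
theorem result {G : Type*} [Group G] [Finite G] (hL : Cfsg.IsCharacteristicTwoType G) (hN : ∀ N : Subgroup G, Cfsg.IsTwoLocal N → Group.IsSolvable ↥N)
    (hZ : ∀ S : Sylow 2 G, Subgroup.centralizer (Cfsg.omegaCenterOf (S : Subgroup G) : Set G) ≤ Subgroup.normalizer ((S : Subgroup G) : Set G)) (hO : Cfsg.pCore 2 G = ⊥) (S : Sylow 2 G) (M : Subgroup G) (hM : Cfsg.IsTwoLocal M)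
    (hMJ : Subgroup.normalizer (Cfsg.thompsonSubgroupOf 2 (S : Subgroup G) : Set G) ≤ M) (T : Subgroup G) (hT : T ∈ Cfsg.maxStraddlingTwoSubgroups M) :
    ∃ K₁ K₂ : Subgroup G, K₁ ≠ K₂ ∧ Cfsg.IsJComponent T K₁ ∧ Cfsg.IsJComponent T K₂ ∧
      Cfsg.pCoreOf 2 ((K₁ ⊔ T) ⊔ (K₂ ⊔ T)) = ⊥ ∧
      ∀ P ∈ [K₁ ⊔ T, K₂ ⊔ T],
        Subgroup.centralizer (Cfsg.pCoreOf 2 P : Set G) ≤ Cfsg.pCoreOf 2 P ∧ Cfsg.IsSylowTwoIn T P ∧
        (Cfsg.pCoreOf 2 P).relIndex P = 6 ∧ ¬ ⁅P, P⁆ ≤ Cfsg.pCoreOf 2 P ∧ ⁅Cfsg.omegaCenterOf T, P⁆ ≠ ⊥ ∧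
        ∃ L : Subgroup G, Cfsg.IsMaximalTwoLocal L ∧ P ≤ L ∧ Cfsg.IsSylowTwoIn T L ∧
          ∀ L' : Subgroup G, Cfsg.IsMaximalTwoLocal L' → P ≤ L' → L' = L := by
  obtain ⟨S', hTS', hMJ'⟩ := LocalEven64.exists_sylow_above S hMJ hT.1.1 hT.1.2.2.1
  obtain ⟨K, hK⟩ := LocalEven64.outside_nonempty S' hMJ' hL hN hZ hT
  obtain ⟨L, K', L', v, -, v', hne, hC, hcard⟩ :=
    LocalEven64.straddle_setup hL hN hZ hO S' hMJ' hT hTS' hK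
  obtain ⟨k, hk⟩ := LocalEven64.exists_compData v.comp
  obtain ⟨k', hk'⟩ := LocalEven64.exists_compData v'.comp
  refine ⟨K, K', fun h => hne ?_, v.comp, v'.comp, v.pCoreOf_join hk hC v' hk' hne hcard, ?_⟩
  · exact v'.eq_of_maximal v.maxl (sup_le (h ▸ v.le) v.sylow.1 |>.trans' (sup_le_sup_left
      (Thompson.thompsonSubgroupOf_le T) K'))
  intro P hP
  simp only [List.mem_cons, List.mem_nil_iff, or_false] at hP
  have key : ∀ {K₁ L₁ K₂ L₂ : Subgroup G} {k₁ k₂ : G}, LocalEven64.Vertex T K₁ L₁ →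
      LocalEven64.CompData K₁ k₁ → LocalEven64.Vertex T K₂ L₂ → LocalEven64.CompData K₂ k₂ →
      L₁ ≠ L₂ →
      Subgroup.centralizer (Cfsg.pCoreOf 2 (K₁ ⊔ T) : Set G) ≤ Cfsg.pCoreOf 2 (K₁ ⊔ T) ∧
        Cfsg.IsSylowTwoIn T (K₁ ⊔ T) ∧ (Cfsg.pCoreOf 2 (K₁ ⊔ T)).relIndex (K₁ ⊔ T) = 6 ∧
        ¬ ⁅K₁ ⊔ T, K₁ ⊔ T⁆ ≤ Cfsg.pCoreOf 2 (K₁ ⊔ T) ∧
        ⁅Cfsg.omegaCenterOf T, K₁ ⊔ T⁆ ≠ ⊥ ∧
        ∃ L : Subgroup G, Cfsg.IsMaximalTwoLocal L ∧ K₁ ⊔ T ≤ L ∧ Cfsg.IsSylowTwoIn T L ∧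
          ∀ L' : Subgroup G, Cfsg.IsMaximalTwoLocal L' → K₁ ⊔ T ≤ L' → L' = L := by
    intro K₁ L₁ K₂ L₂ k₁ k₂ v₁ hk₁ v₂ hk₂ hne'
    rw [v₁.pCoreOf_sup hk₁ hC]
    exact ⟨v₁.centralizer_rK_le hk₁ hC v₂ hk₂ hne' hcard, v₁.isSylowTwoIn_sup hk₁ hC,
      v₁.relIndex_rK_sup hk₁ hC, v₁.not_commutator_le hk₁ hC, v₁.commutator_omega_ne_bot hk₁ hC,
      L₁, v₁.maxl, v₁.sup_le_maximal hk₁ hC, v₁.sylow, fun L'' hm hle => v₁.eq_of_maximal hm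
        ((sup_le_sup_left (Thompson.thompsonSubgroupOf_le T) K₁).trans hle)⟩
  rcases hP with rfl | rfl
  · exact key v hk v' hk' hne
  · exact key v' hk' v hk hne.symm

end Cfsg.Agent.S2953
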