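import Cfsg.Statements.S2955
import Cfsg.Agent.LocalEven64.SylowControl

set_option autoImplicit false
open Cfsg

namespace Cfsg.Agent.S2955

/-- Let p be a prime dividing the order of the finite group G and 𝓕 a conjugation-closed family of subgroups that controls Sylow p-intersections in G. Suppose the Sylow p-subgroups of G are chain-connected: any two of them are joined by a chain of Sylow p-subgroups, consecutive ones distinct with nontrivial intersection, all containing the intersection of the two ends (equivalently, the graph on the Sylow p-subgroups whose edges are the distinct pairs meeting nontrivially is connected). Then for every Sylow p-subgroup S, G is generated by N_G(S) together with the members of 𝓕 that meet S in a Sylow p-subgroup of themselves. -/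
theorem result {G : Type*} [Group G] [Finite G] (p : ℕ) [Fact p.Prime] (hdiv : p ∣ Nat.card G)
    (𝓕 : Set (Subgroup G)) (h𝓕 : Cfsg.IsNormalSet 𝓕) (hc : Cfsg.ControlsSylowIntersections p 𝓕)
    (hconn : Cfsg.IsSylowChainConnected p G) (S : Sylow p G) :
    (⨆ X ∈ Cfsg.sylowMembers p 𝓕 (S : Subgroup G), X) ⊔ Subgroup.normalizer ((S : Subgroup G) : Set G) = ⊤ := by
  classical
  set H := (⨆ X ∈ Cfsg.sylowMembers p 𝓕 (S : Subgroup G), X) ⊔
    Subgroup.normalizer ((S : Subgroup G) : Set G) with hH
  -- every Sylow subgroup linked to a conjugate of `S` under `H` is one too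
  have step : ∀ (D : Subgroup G) (U V : Sylow p G), LocalEven64.Linked p 𝓕 D U V →
      (∃ h ∈ H, LocalEven64.sylowConjR h S = U) → ∃ h ∈ H, LocalEven64.sylowConjR h S = V := by
    intro D U V hUV hU
    induction hUV with
    | refl => exact hU
    | @tail b c _ hbc ih =>
      obtain ⟨h, hh, rfl⟩ := ih
      obtain ⟨X, x, hx, h1, -, h3, -⟩ := hbc
      have hXH : X ≤ H := by
        have h1' := LocalEven64.sylowMembers_conjR h𝓕 h1 h⁻¹
        rw [LocalEven64.coe_sylowConjR, LocalEven64.conjR_mul, mul_inv_cancel,
          LocalEven64.conjR_one] at h1'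
        intro w hw
        have hle : Cfsg.subgroupConjRight h⁻¹ X ≤ H :=
          le_trans (le_biSup (fun X => X) h1') le_sup_left
        have hmem : h * w * h⁻¹ ∈ H := hle (LocalEven64.mem_conjR.mpr (by simpa [mul_assoc] using hw))
        simpa [mul_assoc] using H.mul_mem (H.mul_mem (H.inv_mem hh) hmem) hh
      refine ⟨h * x⁻¹, H.mul_mem hh (H.inv_mem (hXH hx)), ?_⟩
      rw [← LocalEven64.sylowConjR_mul, ← h3, LocalEven64.sylowConjR_mul, mul_inv_cancel,
        LocalEven64.sylowConjR_one]
  have all : ∀ T : Sylow p G, ∃ h ∈ H, LocalEven64.sylowConjR h S = T := by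
    intro T
    obtain ⟨n, c, h0, hl, -, hadj⟩ := hconn S T
    suffices ∀ i : Fin (n + 1), ∃ h ∈ H, LocalEven64.sylowConjR h S = c i from hl ▸ this _
    intro i
    induction i using Fin.induction with
    | zero => exact ⟨1, H.one_mem, by rw [LocalEven64.sylowConjR_one, h0]⟩
    | succ i ih =>
      exact step _ _ _ (LocalEven64.controls_linked hc _ _ (hadj i).2) ih
  rw [eq_top_iff]
  intro g _
  obtain ⟨h, hh, hhg⟩ := all (LocalEven64.sylowConjR g S)
  have hn : g * h⁻¹ ∈ Subgroup.normalizer ((S : Subgroup G) : Set G) := by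
    rw [← LocalEven64.conjR_eq_self_iff, ← LocalEven64.conjR_mul, ← LocalEven64.coe_sylowConjR,
      ← hhg, LocalEven64.coe_sylowConjR, LocalEven64.conjR_mul, mul_inv_cancel, LocalEven64.conjR_one]
  have := H.mul_mem (show g * h⁻¹ ∈ H from Subgroup.mem_sup_right hn) hh
  simpa [mul_assoc] using this

end Cfsg.Agent.S2955
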