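import Cfsg.Statements.S2956
import Cfsg.Agent.LocalEven64.FunctorRegular

set_option autoImplicit false
open Cfsg

namespace Cfsg.Agent.S2956

open Subgroup LocalEven64

variable {G : Type*} [Group G] [Finite G] {p : ℕ} [Fact p.Prime] {f : Subgroup G → Set (Subgroup G)}

/-- The family of the statement. -/
abbrev Fam (p : ℕ) (f : Subgroup G → Set (Subgroup G)) : Set (Subgroup G) :=
  Cfsg.functorFamily p f ⊤ ∪ {M | Cfsg.IsMaximalPLocal p M ∧ ¬ Cfsg.IsFunctorRegular p f M}

theorem exists_maximal_pLocal {N : Subgroup G} (hN : Cfsg.IsPLocal p N) :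
    ∃ M, Cfsg.IsMaximalPLocal p M ∧ N ≤ M := by
  obtain ⟨M, hNM, hM⟩ := Finite.exists_le_maximal (p := Cfsg.IsPLocal p) hN
  exact ⟨M, ⟨hM.prop, fun N' hN' hle => le_antisymm (hM.2 hN' hle) hle⟩, hNM⟩

omit [Finite G] [Fact p.Prime] in
theorem le_of_inf_normalizer_le {D S : Subgroup G} (hS : Group.IsNilpotent S) (hDS : D ≤ S)
    (h : S ⊓ normalizer (D : Set G) ≤ D) : S ≤ D := by
  by_contra hne
  have hlt : D.subgroupOf S < ⊤ := by
    rw [lt_top_iff_ne_top, Ne, subgroupOf_eq_top]; exact hne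
  obtain ⟨x, hx1, hx2⟩ := SetLike.exists_of_lt
    ((Group.normalizerCondition_of_isNilpotent (G := S)) _ hlt)
  exact hx2 (h ⟨x.2, (subgroupOf_normalizer_eq hDS).ge hx1⟩)

/-- The inner induction: inside a local subgroup with Sylow subgroups larger than `D`. -/
theorem inner (hf : Cfsg.IsNormalizerFunctor p f)
    (hf1 : ∀ P : Subgroup G, IsPGroup p ↥P → P ≠ ⊥ → ∀ F ∈ f P, F ≠ ⊥) {D : Subgroup G} (hD1 : D ≠ ⊥)
    (outer : ∀ U V : Sylow p G, ∀ E : Subgroup G, D < E → E ≤ U → E ≤ V → Linked p (Fam p f) D U V)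
    (k : ℕ) : ∀ M c c' : Subgroup G, Cfsg.IsPLocal p M → IsSylowIn p c M → IsSylowIn p c' M →
      Nat.card G ≤ Nat.card c + k → D < c → D < c' → ∀ U V : Sylow p G, c ≤ U → c' ≤ V →
      Linked p (Fam p f) D U V := by
  induction k using Nat.strong_induction_on with
  | _ k IH => ?_
  intro N c₀ c₀' hN hc₀ hc₀' hk hDc₀ hDc₀' U₀ V₀ hU₀ hV₀
  obtain ⟨M, hM, hNM⟩ := exists_maximal_pLocal hN
  obtain ⟨c, hc, hcc⟩ := exists_isSylowIn_ge hc₀.isPGroup (hc₀.le.trans hNM)
  obtain ⟨c', hc', hcc'⟩ := exists_isSylowIn_ge hc₀'.isPGroup (hc₀'.le.trans hNM)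
  obtain ⟨U, hU⟩ := hc.isPGroup.exists_le_sylow
  obtain ⟨V, hV⟩ := hc'.isPGroup.exists_le_sylow
  refine (outer U₀ U c₀ hDc₀ hU₀ (hcc.trans hU)).trans
    (Relation.ReflTransGen.trans ?_ (outer V V₀ c₀' hDc₀' (hcc'.trans hV) hV₀))
  have hkc : Nat.card G ≤ Nat.card c + k :=
    hk.trans (Nat.add_le_add_right (Subgroup.card_le_of_le hcc) k)
  have hDc : D < c := lt_of_lt_of_le hDc₀ hcc
  have hDc' : D < c' := lt_of_lt_of_le hDc₀' hcc'
  by_cases hreg : Cfsg.IsFunctorRegular p f M
  · -- regular: follow the links inside `M`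
    refine exists_links_of_regular hf hreg hc hc' (le_inf hDc.le hDc'.le) hD1
      (P := fun d => ∀ W : Sylow p G, d ≤ W → Linked p (Fam p f) D U W)
      (fun W hW => outer U W c hDc hU hW) ?_ V hV
    intro b d F R hPb hb hd hR hF hbF hdF x hx hxd hDb hDd W hW
    obtain ⟨Wb, hWb⟩ := hb.isPGroup.exists_le_sylow
    refine (hPb Wb hWb).trans ?_
    have hDR : Nat.card D < Nat.card R := by
      rw [hR.card_eq hc]
      refine lt_of_le_of_ne (Subgroup.card_le_of_le hDc.le) fun e => hDc.ne ?_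
      exact Subgroup.eq_of_le_of_card_ge hDc.le e.ge
    have hR1 : R ≠ ⊥ := by
      rintro rfl
      rw [Subgroup.card_bot] at hDR
      have := Nat.card_pos (α := D)
      omega
    have hFR : F ≤ R ∧ normalizer (R : Set G) ≤ normalizer (F : Set G) := (hf R hR.isPGroup).1 F hF
    have hDb' : D < b := lt_of_le_of_ne hDb fun e => by rw [e, hb.card_eq hR] at hDR; omega
    have hDd' : D < d := lt_of_le_of_ne hDd fun e => by rw [e, hd.card_eq hR] at hDR; omega
    obtain ⟨T, hT⟩ := hR.isPGroup.exists_le_sylow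
    by_cases hTR : (T : Subgroup G) ≤ R
    · -- `R` is a Sylow subgroup of `G`
      have hTeq : (T : Subgroup G) = R := le_antisymm hTR hT
      have hcardT : ∀ (e : Subgroup G) (We : Sylow p G), IsSylowIn p e M → e ≤ We →
          (We : Subgroup G) = e := by
        intro e We he hle
        refine (Subgroup.eq_of_le_of_card_ge hle ?_).symm
        rw [We.card_eq_multiplicity, ← T.card_eq_multiplicity, hTeq, hR.card_eq he]
      have hmem : normalizer (F : Set G) ∈ Fam p f :=
        Or.inl (normalizer_mem_functorFamily_top f T (hTeq.symm ▸ hF))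
      refine Relation.ReflTransGen.single ⟨normalizer (F : Set G), x, hx.2,
        mem_sylowMembers_of_sylow_le hmem ((hcardT b Wb hb hWb).symm ▸ hbF),
        mem_sylowMembers_of_sylow_le hmem ((hcardT d W hd hW).symm ▸ hdF), ?_, ?_⟩
      · exact Sylow.ext (by rw [coe_sylowConjR, hcardT d W hd hW, hcardT b Wb hb hWb, hxd])
      · exact le_inf (hDd.trans hW) (hDd.trans hdF)
    · -- a larger local subgroup
      have hbig : Nat.card R < Nat.card ↥((T : Subgroup G) ⊓ normalizer (R : Set G)) := by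
        refine lt_of_le_of_ne (Subgroup.card_le_of_le (le_inf hT le_normalizer)) fun e => hTR ?_
        haveI : Group.IsNilpotent (T : Subgroup G) := T.isPGroup'.isNilpotent
        exact le_of_inf_normalizer_le inferInstance hT
          (Subgroup.eq_of_le_of_card_ge (le_inf hT le_normalizer) e.ge).ge
      obtain ⟨e, he, hbe⟩ := exists_isSylowIn_ge hb.isPGroup hbF
      obtain ⟨e', he', hde'⟩ := exists_isSylowIn_ge hd.isPGroup hdF
      have hlarge : Nat.card c < Nat.card e := by
        rw [← hR.card_eq hc]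
        exact lt_of_lt_of_le hbig (he.card_le (T.isPGroup'.to_le inf_le_left)
          (inf_le_right.trans hFR.2))
      obtain ⟨We, hWe⟩ := he.isPGroup.exists_le_sylow
      obtain ⟨We', hWe'⟩ := he'.isPGroup.exists_le_sylow
      refine (outer Wb We b hDb' hWb (hbe.trans hWe)).trans
        (Relation.ReflTransGen.trans ?_ (outer We' W d hDd' (hde'.trans hWe') hW))
      have hek : Nat.card e ≤ Nat.card G := Subgroup.card_le_card_group e
      exact IH (k - 1) (by omega) _ e e' ⟨F, hR.isPGroup.to_le hFR.1, hf1 R hR.isPGroup hR1 F hF, rfl⟩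
        he he' (by omega) (lt_of_lt_of_le hDb' hbe) (lt_of_lt_of_le hDd' hde') We We' hWe hWe'
  · -- singular: one link
    obtain ⟨m, hm, hmc⟩ := hc.exists_conjR_eq hc'
    have hV' : c' ≤ (sylowConjR m U : Subgroup G) := by
      rw [coe_sylowConjR, ← hmc]; exact conjR_mono hU m
    refine Relation.ReflTransGen.head (b := sylowConjR m U) ?_ (outer _ V c' hDc' hV' hV)
    refine ⟨M, m⁻¹, M.inv_mem hm, mem_sylowMembers_of_isSylowIn (Or.inr ⟨hM, hreg⟩) hc hU,
      mem_sylowMembers_of_isSylowIn (Or.inr ⟨hM, hreg⟩) hc' hV', ?_, ?_⟩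
    · rw [sylowConjR_mul, mul_inv_cancel, sylowConjR_one]
    · exact le_inf (hDc'.le.trans hV') (hDc'.le.trans hc'.le)

theorem key (hf : Cfsg.IsNormalizerFunctor p f)
    (hf1 : ∀ P : Subgroup G, IsPGroup p ↥P → P ≠ ⊥ → ∀ F ∈ f P, F ≠ ⊥) :
    Cfsg.ControlsSylowIntersections p (Fam p f) := by
  suffices ∀ D : Subgroup G, D ≠ ⊥ → ∀ S T : Sylow p G, D ≤ S → D ≤ T →
      Linked p (Fam p f) D S T from
    controls_iff.mpr fun S T _ hne => this _ hne S T inf_le_left inf_le_right
  intro D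
  induction D using WellFoundedGT.induction with
  | _ D IH => ?_
  intro hD1 S T hDS hDT
  have outer : ∀ U V : Sylow p G, ∀ E : Subgroup G, D < E → E ≤ U → E ≤ V →
      Linked p (Fam p f) D U V := fun U V E hE hU hV =>
    (IH E hE (fun e => hD1 (le_bot_iff.mp (e ▸ hE.le))) U V hU hV).mono subset_rfl hE.le
  have hlt : ∀ U : Sylow p G, D ≤ U → D ≠ U → D < (U : Subgroup G) ⊓ normalizer (D : Set G) := by
    intro U hDU hne
    haveI : Group.IsNilpotent (U : Subgroup G) := U.isPGroup'.isNilpotent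
    refine lt_of_le_of_ne (le_inf hDU le_normalizer) fun e => hne ?_
    exact le_antisymm hDU (le_of_inf_normalizer_le inferInstance hDU e.ge)
  by_cases hS : D = S
  · have hTS : T = S := Sylow.ext (S.is_maximal' T.isPGroup' (hS ▸ hDT))
    rw [hTS]
  by_cases hT : D = T
  · have hST : S = T := Sylow.ext (T.is_maximal' S.isPGroup' (hT ▸ hDS))
    rw [hST]
  set N := normalizer (D : Set G) with hN
  have hNloc : Cfsg.IsPLocal p N := ⟨D, S.isPGroup'.to_le hDS, hD1, rfl⟩
  obtain ⟨c, hc, hcS⟩ := exists_isSylowIn_ge (p := p) (S.isPGroup'.to_le inf_le_left)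
    (inf_le_right : (S : Subgroup G) ⊓ N ≤ N)
  obtain ⟨c', hc', hcT⟩ := exists_isSylowIn_ge (p := p) (T.isPGroup'.to_le inf_le_left)
    (inf_le_right : (T : Subgroup G) ⊓ N ≤ N)
  obtain ⟨U, hU⟩ := hc.isPGroup.exists_le_sylow
  obtain ⟨V, hV⟩ := hc'.isPGroup.exists_le_sylow
  refine (outer S U _ (hlt S hDS hS) inf_le_left (hcS.trans hU)).trans
    (Relation.ReflTransGen.trans ?_ (outer V T _ (hlt T hDT hT) (hcT.trans hV) inf_le_left))
  exact inner hf hf1 hD1 outer (Nat.card G) N c c' hNloc hc hc' (Nat.le_add_left _ _)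
    (lt_of_lt_of_le (hlt S hDS hS) hcS) (lt_of_lt_of_le (hlt T hDT hT) hcT) U V hU hV

/-- Let p be a prime dividing the order of the finite group G, and f an assignment to every p-subgroup P of a set f(P) of subgroups of P, each normalized by N_G(P), compatible with conjugation, such that for P ≠ 1 the members of f(P) are nontrivial. Let 𝓕 be the family of the normalizers N_G(F) of the members F of f(S) over the Sylow p-subgroups S of G, and 𝓕' the family of the maximal p-local subgroups M of G that are singular for f (the corresponding family of normalizers inside M does not control Sylow p-intersections in M). Then 𝓕 ∪ 𝓕' controls Sylow p-intersections in G. -/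
theorem result {G : Type*} [Group G] [Finite G] (p : ℕ) [Fact p.Prime] (hdiv : p ∣ Nat.card G)
    (f : Subgroup G → Set (Subgroup G)) (hf : Cfsg.IsNormalizerFunctor p f)
    (hf1 : ∀ P : Subgroup G, IsPGroup p ↥P → P ≠ ⊥ → ∀ F ∈ f P, F ≠ ⊥)
    (𝓕 𝓕' : Set (Subgroup G)) (h𝓕 : 𝓕 = Cfsg.functorFamily p f ⊤)
    (h𝓕' : 𝓕' = {M | Cfsg.IsMaximalPLocal p M ∧ ¬ Cfsg.IsFunctorRegular p f M}) :
    Cfsg.ControlsSylowIntersections p (𝓕 ∪ 𝓕') := by
  subst h𝓕 h𝓕'
  exact key hf hf1

end Cfsg.Agent.S2956
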