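import Cfsg.Statements.S2957
import Cfsg.Agent.LocalEven64.FunctorRegular

set_option autoImplicit false
open Cfsg

namespace Cfsg.Agent.S2957

open Subgroup LocalEven64

variable {G : Type*} [Group G] [Finite G] {p : ℕ} [Fact p.Prime] {f : Subgroup G → Set (Subgroup G)}

theorem top_isNormalSet (hf : Cfsg.IsNormalizerFunctor p f) :
    Cfsg.IsNormalSet (Cfsg.functorFamily p f ⊤) := by
  rintro _ ⟨R, F, hF, rfl⟩ g
  let R₀ : Subgroup G := (R : Subgroup ↥(⊤ : Subgroup G)).map (Subgroup.subtype ⊤)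
  obtain ⟨T, hT⟩ := exists_sylow_eq_of_card (c := R₀) (R.isPGroup'.map _) (Classical.arbitrary (Sylow p G))
    (by
      rw [Sylow.card_eq_multiplicity, card_map_of_injective (Subgroup.subtype_injective _),
        R.card_eq_multiplicity, Subgroup.card_top])
  have h1 : Cfsg.subgroupConjRight g F ∈ f (sylowConjR g T : Subgroup G) := by
    rw [coe_sylowConjR, Cfsg.subgroupConjRight, Cfsg.subgroupConjRight,
      (hf _ T.isPGroup').2 g⁻¹, hT]
    exact ⟨F, hF, rfl⟩
  have h2 := normalizer_mem_functorFamily_top f _ h1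
  rwa [top_inf_eq, Cfsg.subgroupConjRight, Subgroup.map_equiv_normalizer_eq]

theorem linked_in (hf : Cfsg.IsNormalizerFunctor p f) {M : Subgroup G}
    (hM : Cfsg.IsFunctorRegular p f M) (U V : Sylow p G) (hU : (U : Subgroup G) ≤ M)
    (hV : (V : Subgroup G) ≤ M) {D : Subgroup G} (hD : D ≤ (U : Subgroup G) ⊓ V) (hD1 : D ≠ ⊥) :
    Linked p (Cfsg.functorFamily p f ⊤) D U V := by
  have hUM : IsSylowIn p (U : Subgroup G) M := ⟨U.subtype hU, by
    rw [Sylow.coe_subtype, map_subgroupOf_eq_of_le hU]⟩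
  have hVM : IsSylowIn p (V : Subgroup G) M := ⟨V.subtype hV, by
    rw [Sylow.coe_subtype, map_subgroupOf_eq_of_le hV]⟩
  refine exists_links_of_regular hf hM hUM hVM hD hD1
    (P := fun d => ∀ T : Sylow p G, (T : Subgroup G) = d → Linked p (Cfsg.functorFamily p f ⊤) D U T)
    (fun T hT => by rw [Sylow.ext hT]) ?_ V rfl
  intro b d F R hPb hb hd hR hF hbF hdF x hx hxd _ hDd T hT
  obtain ⟨Tb, hTb⟩ := exists_sylow_eq_of_card hb.isPGroup U (hb.card_eq hUM).ge
  obtain ⟨TR, hTR⟩ := exists_sylow_eq_of_card hR.isPGroup U (hR.card_eq hUM).ge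
  have hmem : normalizer (F : Set G) ∈ Cfsg.functorFamily p f ⊤ :=
    normalizer_mem_functorFamily_top f TR (hTR.symm ▸ hF)
  refine (hPb Tb hTb).tail ⟨normalizer (F : Set G), x, hx.2, mem_sylowMembers_of_sylow_le hmem
    (hTb.symm ▸ hbF), mem_sylowMembers_of_sylow_le hmem (hT.symm ▸ hdF), ?_, ?_⟩
  · exact Sylow.ext (by rw [coe_sylowConjR, hT, hTb, hxd])
  · rw [hT]; exact le_inf hDd (hDd.trans hdF)

theorem key (hf : Cfsg.IsNormalizerFunctor p f) (S₀ : Sylow p G) {G₁ G₂ : Subgroup G}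
    (h₁ : (S₀ : Subgroup G) ≤ G₁) (h₂ : (S₀ : Subgroup G) ≤ G₂)
    (hprod : ∀ g : G, ∃ g₁ ∈ G₁, ∃ g₂ ∈ G₂, g = g₁ * g₂)
    (hr₁ : Cfsg.IsFunctorRegular p f G₁) (hr₂ : Cfsg.IsFunctorRegular p f G₂) :
    Cfsg.IsFunctorRegular p f ⊤ := by
  let e : ↥(⊤ : Subgroup G) ≃* G := Subgroup.topEquiv
  have main : ∀ S T : Sylow p G, (S : Subgroup G) ⊓ T ≠ ⊥ →
      Linked p (Cfsg.functorFamily p f ⊤) ((S : Subgroup G) ⊓ T) S T := by
    intro S T hne
    obtain ⟨s, rfl⟩ := exists_conjR_eq S₀ S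
    obtain ⟨t, rfl⟩ := exists_conjR_eq S₀ T
    -- reduce to `S₀` and `S₀^g`
    set g := t * s⁻¹ with hg
    suffices hbase : ∀ D, D ≤ (S₀ : Subgroup G) ⊓ sylowConjR g S₀ → D ≠ ⊥ →
        Linked p (Cfsg.functorFamily p f ⊤) D S₀ (sylowConjR g S₀) by
      have h := hbase (Cfsg.subgroupConjRight s⁻¹
        ((sylowConjR s S₀ : Subgroup G) ⊓ sylowConjR t S₀)) ?_ ?_
      · have h' := h.conjR (top_isNormalSet hf) s
        rw [conjR_mul, inv_mul_cancel, conjR_one, sylowConjR_mul, hg, inv_mul_cancel_right] at h'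
        exact h'
      · rw [conjR_inf, ← coe_sylowConjR, ← coe_sylowConjR, sylowConjR_mul, sylowConjR_mul, ← hg,
          mul_inv_cancel, sylowConjR_one]
      · intro hb
        apply hne
        have := congrArg (Cfsg.subgroupConjRight s) hb
        rw [conjR_mul, inv_mul_cancel, conjR_one] at this
        rw [this]; exact Subgroup.map_bot _
    intro D hD hD1
    obtain ⟨g₁, hg₁, g₂, hg₂, hgeq⟩ := hprod g⁻¹
    have hg' : g = g₂⁻¹ * g₁⁻¹ := by rw [← mul_inv_rev, ← hgeq, inv_inv]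
    -- `S₀^g ≤ G₂^g = G₂^{g₁⁻¹}`, and `S₀^{g₁⁻¹}` is a Sylow subgroup of `G₁ ∩ G₂^g`
    set K := G₁ ⊓ Cfsg.subgroupConjRight g G₂ with hK
    have hconj : Cfsg.subgroupConjRight g G₂ = Cfsg.subgroupConjRight g₁⁻¹ G₂ := by
      rw [hg', ← conjR_mul, conjR_eq_self_of_mem (G₂.inv_mem hg₂)]
    set W := sylowConjR g₁⁻¹ S₀ with hW
    have hWK : (W : Subgroup G) ≤ K := by
      rw [hK, hconj, hW, coe_sylowConjR]
      refine le_inf ?_ (conjR_mono h₂ _)
      calc Cfsg.subgroupConjRight g₁⁻¹ (S₀ : Subgroup G) ≤ Cfsg.subgroupConjRight g₁⁻¹ G₁ :=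
            conjR_mono h₁ _
        _ = G₁ := conjR_eq_self_of_mem (G₁.inv_mem hg₁)
    have hDK : D ≤ K := hD.trans (inf_le_inf h₁ (conjR_mono h₂ g))
    obtain ⟨c, hc, hDc⟩ := exists_isSylowIn_ge (p := p) (S₀.isPGroup'.to_le (hD.trans inf_le_left)) hDK
    have hWK' : IsSylowIn p (W : Subgroup G) K := ⟨W.subtype hWK, by
      rw [Sylow.coe_subtype, map_subgroupOf_eq_of_le hWK]⟩
    obtain ⟨U, hU⟩ := exists_sylow_eq_of_card hc.isPGroup W (hc.card_eq hWK').ge
    have hUK : (U : Subgroup G) ≤ K := hU ▸ hc.le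
    have hDU : D ≤ (U : Subgroup G) := hU ▸ hDc
    have l1 : Linked p (Cfsg.functorFamily p f ⊤) D S₀ U :=
      linked_in hf hr₁ S₀ U h₁ (hUK.trans inf_le_left) (le_inf (hD.trans inf_le_left) hDU) hD1
    refine l1.trans ?_
    have hgU : (sylowConjR g⁻¹ U : Subgroup G) ≤ G₂ := by
      calc Cfsg.subgroupConjRight g⁻¹ (U : Subgroup G)
          ≤ Cfsg.subgroupConjRight g⁻¹ (Cfsg.subgroupConjRight g G₂) :=
            conjR_mono (hUK.trans inf_le_right) _
        _ = G₂ := by rw [conjR_mul, mul_inv_cancel, conjR_one]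
    have hD1' : Cfsg.subgroupConjRight g⁻¹ D ≠ ⊥ := fun hb =>
      hD1 (conjR_injective g⁻¹ (hb.trans (Subgroup.map_bot _).symm))
    have l2 := (linked_in hf hr₂ (sylowConjR g⁻¹ U) S₀ hgU h₂
      (D := Cfsg.subgroupConjRight g⁻¹ D) (le_inf (conjR_mono hDU _) ?_) hD1').conjR
      (top_isNormalSet hf) g
    · rw [conjR_mul, inv_mul_cancel, conjR_one, sylowConjR_mul, inv_mul_cancel, sylowConjR_one] at l2
      exact l2
    · calc Cfsg.subgroupConjRight g⁻¹ D
          ≤ Cfsg.subgroupConjRight g⁻¹ (sylowConjR g S₀ : Subgroup G) :=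
            conjR_mono (hD.trans inf_le_right) _
        _ = (S₀ : Subgroup G) := by rw [coe_sylowConjR, conjR_mul, mul_inv_cancel, conjR_one]
  -- transport to the group `↥⊤`
  rw [Cfsg.IsFunctorRegular, controls_iff]
  intro S T _ hne
  obtain ⟨S', hS'⟩ := exists_sylow_eq_of_card (c := (S : Subgroup ↥(⊤ : Subgroup G)).map e.toMonoidHom)
    (S.isPGroup'.map _) S₀ (by
      rw [Sylow.card_eq_multiplicity, card_map_of_injective e.injective, S.card_eq_multiplicity,
        Subgroup.card_top])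
  obtain ⟨T', hT'⟩ := exists_sylow_eq_of_card (c := (T : Subgroup ↥(⊤ : Subgroup G)).map e.toMonoidHom)
    (T.isPGroup'.map _) S₀ (by
      rw [Sylow.card_eq_multiplicity, card_map_of_injective e.injective, T.card_eq_multiplicity,
        Subgroup.card_top])
  have hI : (S' : Subgroup G) ⊓ T' =
      ((S : Subgroup ↥(⊤ : Subgroup G)) ⊓ T).map e.toMonoidHom := by
    rw [hS', hT', Subgroup.map_inf _ _ _ e.injective]
  have hl := main S' T' (by rw [hI]; exact fun hb => hne ((map_eq_bot_iff_of_injective _ e.injective).mp hb))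
  rw [hI] at hl
  clear hne
  suffices ∀ U : Sylow p G, Linked p (Cfsg.functorFamily p f ⊤)
      (((S : Subgroup ↥(⊤ : Subgroup G)) ⊓ T).map e.toMonoidHom) S' U →
      ∀ U₀ : Sylow p ↥(⊤ : Subgroup G), (U₀ : Subgroup ↥(⊤ : Subgroup G)).map e.toMonoidHom = U →
        Linked p ((fun X : Subgroup G => X.subgroupOf ⊤) '' Cfsg.functorFamily p f ⊤)
          ((S : Subgroup ↥(⊤ : Subgroup G)) ⊓ T) S U₀ from this T' hl T hT'.symm
  intro U hU
  induction hU with
  | refl =>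
    intro U₀ hU₀
    have : U₀ = S := Sylow.ext (Subgroup.map_injective e.injective (hU₀.trans hS'))
    rw [this]
  | @tail b d _ hbd ih =>
    intro d₀ hd₀
    obtain ⟨X, x, hx, h1, h2, h3, h4⟩ := hbd
    have hmap : ∀ Y : Subgroup G, (Y.subgroupOf ⊤).map e.toMonoidHom = Y := fun Y =>
      map_subgroupOf_eq_of_le le_top
    let b₀ := sylowConjR (e.symm x) d₀
    have hb₀ : (b₀ : Subgroup ↥(⊤ : Subgroup G)).map e.toMonoidHom = (b : Subgroup G) := by
      rw [← h3, coe_sylowConjR, coe_sylowConjR, ← hd₀]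
      simp only [Cfsg.subgroupConjRight, Subgroup.map_map]
      congr 1
    have hmem : ∀ (s₀ : Sylow p ↥(⊤ : Subgroup G)) (s : Sylow p G),
        (s₀ : Subgroup ↥(⊤ : Subgroup G)).map e.toMonoidHom = (s : Subgroup G) →
        X ∈ Cfsg.sylowMembers p (Cfsg.functorFamily p f ⊤) (s : Subgroup G) →
        X.subgroupOf ⊤ ∈ Cfsg.sylowMembers p
          ((fun X : Subgroup G => X.subgroupOf ⊤) '' Cfsg.functorFamily p f ⊤)
          (s₀ : Subgroup ↥(⊤ : Subgroup G)) := by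
      rintro s₀ s hs ⟨hXF, hP⟩
      obtain ⟨-, hq2, hq3⟩ := exists_sylow_map_iff.mp hP
      have hI' : ((s₀ : Subgroup ↥(⊤ : Subgroup G)) ⊓ X.subgroupOf ⊤).map e.toMonoidHom =
          (s : Subgroup G) ⊓ X := by
        rw [Subgroup.map_inf _ _ _ e.injective, hs, hmap]
      refine ⟨⟨X, hXF, rfl⟩, exists_sylow_map_iff.mpr ⟨inf_le_right,
        s₀.isPGroup'.to_le inf_le_left, ?_⟩⟩
      rw [← Subgroup.relIndex_map_map_of_injective _ _ (f := e.toMonoidHom) e.injective, hI', hmap]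
      exact hq3
    refine (ih b₀ hb₀).tail ⟨X.subgroupOf ⊤, e.symm x, ?_, hmem b₀ b hb₀ h1, hmem d₀ d hd₀ h2, rfl, ?_⟩
    · exact hx
    · rw [← Subgroup.map_le_map_iff_of_injective (f := e.toMonoidHom) e.injective]
      refine h4.trans ?_
      rw [Subgroup.map_inf _ _ _ e.injective, hd₀, hmap]


/-- Let p be a prime dividing the order of the finite group G, f an equivariant assignment of a set of subgroups f(P) of P to every p-subgroup P, each normalized by N_G(P), and S a Sylow p-subgroup. If G = G₁G₂ for subgroups G₁, G₂ both containing S and both regular for f (in each Gᵢ, the family of normalizers in Gᵢ of the members of f(P), P a Sylow p-subgroup of Gᵢ, controls Sylow p-intersections), then G itself is regular for f. -/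
theorem result {G : Type*} [Group G] [Finite G] (p : ℕ) [Fact p.Prime] (hdiv : p ∣ Nat.card G)
    (f : Subgroup G → Set (Subgroup G)) (hf : Cfsg.IsNormalizerFunctor p f) (S : Sylow p G)
    (G₁ G₂ : Subgroup G) (h₁ : (S : Subgroup G) ≤ G₁) (h₂ : (S : Subgroup G) ≤ G₂)
    (hprod : ∀ g : G, ∃ g₁ ∈ G₁, ∃ g₂ ∈ G₂, g = g₁ * g₂)
    (hr₁ : Cfsg.IsFunctorRegular p f G₁) (hr₂ : Cfsg.IsFunctorRegular p f G₂) :
    Cfsg.IsFunctorRegular p f ⊤ := by
  exact key hf S h₁ h₂ hprod hr₁ hr₂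

end Cfsg.Agent.S2957
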