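import Cfsg.Statements.S2958
-- import your own Cfsg.Agent.* helpers here

set_option autoImplicit false
open Cfsg

namespace Cfsg.Agent.S2958

/-- Let X, A, B be subgroups of a group G such that G is generated by the conjugates of X and every conjugate of X is contained in A or in B. Then A = G or B = G. -/
theorem result {G : Type*} [Group G] (X A B : Subgroup G) (hgen : (⨆ g : G, X.map (MulAut.conj g).toMonoidHom) = ⊤) (hcover : ∀ g : G, X.map (MulAut.conj g).toMonoidHom ≤ A ∨ X.map (MulAut.conj g).toMonoidHom ≤ B) : A = ⊤ ∨ B = ⊤ := by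
  by_contra hne
  push Not at hne
  obtain ⟨hA, hB⟩ := hne
  -- the conjugates not inside `A`
  let B₁ : Subgroup G := ⨆ g : {g : G // ¬ X.map (MulAut.conj g).toMonoidHom ≤ A}, X.map (MulAut.conj (g : G)).toMonoidHom
  have hB₁ : B₁ ≤ B := iSup_le fun g => (hcover g).resolve_left g.2
  have hnorm : ∀ g : G, ∀ h ∈ X.map (MulAut.conj g).toMonoidHom, h ∈ Subgroup.normalizer (B₁ : Set G) := by
    intro g h hh
    by_cases hgA : X.map (MulAut.conj g).toMonoidHom ≤ A
    · have key : ∀ a ∈ A, B₁.map (MulAut.conj a).toMonoidHom ≤ B₁ := by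
        intro a ha
        rw [Subgroup.map_iSup]
        refine iSup_le fun g' => ?_
        have e : (X.map (MulAut.conj (g' : G)).toMonoidHom).map (MulAut.conj a).toMonoidHom =
            X.map (MulAut.conj (a * (g' : G))).toMonoidHom := by
          rw [Subgroup.map_map]; congr 1; ext x; simp [mul_assoc]
        rw [e]
        refine le_iSup (fun g : {g : G // ¬ X.map (MulAut.conj g).toMonoidHom ≤ A} =>
          X.map (MulAut.conj (g : G)).toMonoidHom) ⟨a * g', fun hle => g'.2 ?_⟩
        intro y hy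
        have : a * y * a⁻¹ ∈ A := by
          apply hle
          rw [← e]
          exact ⟨y, hy, by simp⟩
        have h2 := A.mul_mem (A.mul_mem (A.inv_mem ha) this) ha
        simpa [mul_assoc] using h2
      rw [Subgroup.mem_normalizer_iff]
      intro y
      constructor
      · intro hy
        exact key h (hgA hh) ⟨y, hy, by simp⟩
      · intro hy
        have := key h⁻¹ (A.inv_mem (hgA hh)) ⟨_, hy, rfl⟩
        simpa [mul_assoc] using this
    · exact Subgroup.le_normalizer (le_iSup (fun g : {g : G // ¬ X.map (MulAut.conj g).toMonoidHom ≤ A} =>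
          X.map (MulAut.conj (g : G)).toMonoidHom) ⟨g, hgA⟩ hh)
  have htop : Subgroup.normalizer (B₁ : Set G) = ⊤ := top_le_iff.mp (hgen ▸ iSup_le fun g => hnorm g)
  haveI : B₁.Normal := Subgroup.normalizer_eq_top_iff.mp htop
  have hex : ∃ g₀ : G, ¬ X.map (MulAut.conj g₀).toMonoidHom ≤ A := by
    by_contra hall
    push Not at hall
    exact hA (top_le_iff.mp (hgen ▸ iSup_le hall))
  obtain ⟨g₀, hg₀⟩ := hex
  apply hB
  apply top_le_iff.mp
  rw [← hgen]
  refine iSup_le fun g => le_trans ?_ hB₁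
  rintro y ⟨x, hx, rfl⟩
  have hx₀ : g₀ * x * g₀⁻¹ ∈ B₁ :=
    le_iSup (fun g : {g : G // ¬ X.map (MulAut.conj g).toMonoidHom ≤ A} =>
      X.map (MulAut.conj (g : G)).toMonoidHom) ⟨g₀, hg₀⟩ ⟨x, hx, rfl⟩
  have := ‹B₁.Normal›.conj_mem _ hx₀ (g * g₀⁻¹)
  simpa [mul_assoc] using this

end Cfsg.Agent.S2958
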