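import Cfsg.Statements.S2963
-- import your own Cfsg.Agent.* helpers here

set_option autoImplicit false
open Cfsg
open scoped Pointwise

namespace Cfsg.Agent.S2963

/-- Let n be odd. If the symmetric group of degree n is a minimal parabolic group for the prime 2, that is, a Sylow 2-subgroup is not normal and lies in exactly one maximal subgroup, then n = 2^m + 1 for some natural number m. -/
theorem result (n : ℕ) (hn : Odd n) (h : Cfsg.IsPMinimal 2 (Equiv.Perm (Fin n))) : ∃ m : ℕ, n = 2 ^ m + 1 := by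
  classical
  obtain ⟨S⟩ := (inferInstance : Nonempty (Sylow 2 (Equiv.Perm (Fin n))))
  obtain ⟨hnn, M, ⟨hM, hSM⟩, huniq⟩ := h S
  haveI : Fact (Nat.Prime 2) := ⟨Nat.prime_two⟩
  -- a fixed point
  have hne : (MulAction.fixedPoints (S : Subgroup (Equiv.Perm (Fin n))) (Fin n)).Nonempty := by
    refine S.isPGroup'.nonempty_fixed_point_of_prime_not_dvd_card _ ?_
    rw [Nat.card_eq_fintype_card, Fintype.card_fin]
    exact fun h2 => (Nat.not_even_iff_odd.mpr hn) (even_iff_two_dvd.mpr h2)
  obtain ⟨z, hz⟩ := hne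
  by_cases hn1 : n = 1
  · subst hn1
    exfalso
    exact hnn ⟨fun a ha g => by rwa [Subsingleton.elim (g * a * g⁻¹) a]⟩
  obtain ⟨i, hi⟩ : ∃ i : Fin n, i ≠ z := by
    by_contra hall
    push Not at hall
    have : Fintype.card (Fin n) ≤ 1 := Fintype.card_le_one_iff.mpr fun a b => (hall a).trans (hall b).symm
    rw [Fintype.card_fin] at this
    have := z.pos
    omega
  let B : Set (Fin n) := MulAction.orbit (S : Subgroup (Equiv.Perm (Fin n))) i
  have hzB : z ∉ B := by
    rintro ⟨s, hs⟩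
    apply hi
    have h2 : s⁻¹ • z = i := by rw [← hs]; exact inv_smul_smul s i
    rw [← h2]; exact hz s⁻¹
  by_cases hall : ∀ j : Fin n, j ≠ z → j ∈ B
  · have hB : B = {z}ᶜ := by
      ext j
      exact ⟨fun hj hjz => hzB (hjz ▸ hj), hall j⟩
    obtain ⟨m, hm⟩ := S.isPGroup'.card_orbit i
    refine ⟨m, ?_⟩
    have h3 : Nat.card B = n - 1 := by
      rw [hB, Nat.card_eq_fintype_card, Fintype.card_compl_set]; simp
    change Nat.card B = _ at hm
    have := z.pos
    omega
  · exfalso
    push Not at hall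
    obtain ⟨c, hcz, hcB⟩ := hall
    let A₁ := MulAction.stabilizer (Equiv.Perm (Fin n)) z
    let A₂ := MulAction.stabilizer (Equiv.Perm (Fin n)) B
    have hSA₁ : (S : Subgroup (Equiv.Perm (Fin n))) ≤ A₁ := fun s hs => hz ⟨s, hs⟩
    have hSA₂ : (S : Subgroup (Equiv.Perm (Fin n))) ≤ A₂ := fun s hs =>
      MulAction.smul_orbit (⟨s, hs⟩ : (S : Subgroup (Equiv.Perm (Fin n)))) i
    have hzc : Equiv.swap z c ∈ A₂ := by
      rw [MulAction.mem_stabilizer_iff]
      ext j
      simp only [Set.mem_smul_set]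
      constructor
      · rintro ⟨k, hk, rfl⟩
        rwa [Equiv.Perm.smul_def, Equiv.swap_apply_of_ne_of_ne]
        · exact fun e => hzB (e ▸ hk)
        · exact fun e => hcB (e ▸ hk)
      · intro hj
        refine ⟨j, hj, Equiv.swap_apply_of_ne_of_ne ?_ ?_⟩
        · exact fun e => hzB (e ▸ hj)
        · exact fun e => hcB (e ▸ hj)
    have hlift : ∀ A : Subgroup (Equiv.Perm (Fin n)), (S : Subgroup (Equiv.Perm (Fin n))) ≤ A →
        A ≠ ⊤ → A ≤ M := by
      intro A hSA hA
      obtain ⟨M', hM', hle⟩ := (eq_top_or_exists_le_coatom A).resolve_left hA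
      exact huniq M' ⟨hM', hSA.trans hle⟩ ▸ hle
    have hA₁ : A₁ ≤ M := hlift A₁ hSA₁ fun e => by
      have hm : Equiv.swap z i ∈ A₁ := e ▸ Subgroup.mem_top _
      exact hi (by simpa [A₁, MulAction.mem_stabilizer_iff] using hm)
    have hA₂ : A₂ ≤ M := hlift A₂ hSA₂ fun e => by
      have hm : Equiv.swap z i ∈ A₂ := e ▸ Subgroup.mem_top _
      rw [MulAction.mem_stabilizer_iff] at hm
      apply hzB
      rw [← hm]
      exact ⟨i, MulAction.mem_orbit_self i, by simp⟩
    have hsw : ∀ j, j ≠ z → Equiv.swap z j ∈ M := by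
      intro j hj
      by_cases hjc : j = c
      · exact hjc ▸ hA₂ hzc
      · have h1 : Equiv.swap c j ∈ M := hA₁ (Equiv.swap_apply_of_ne_of_ne hcz.symm hj.symm)
        have h2 := M.mul_mem (M.mul_mem h1 (hA₂ hzc)) (M.inv_mem h1)
        rw [← Equiv.swap_apply_apply, Equiv.swap_apply_of_ne_of_ne hcz.symm hj.symm,
          Equiv.swap_apply_left] at h2
        exact h2
    apply hM.1
    rw [eq_top_iff, ← Equiv.Perm.closure_isSwap, Subgroup.closure_le]
    rintro σ ⟨a, b, hab, rfl⟩
    by_cases ha : a = z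
    · exact ha ▸ hsw b (fun e => hab (ha.trans e.symm))
    by_cases hb : b = z
    · rw [hb, Equiv.swap_comm]; exact hsw a ha
    exact hA₁ (Equiv.swap_apply_of_ne_of_ne (Ne.symm ha) (Ne.symm hb))

end Cfsg.Agent.S2963
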