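import Cfsg.Statements.S2968
-- import your own Cfsg.Agent.* helpers here

set_option autoImplicit false
open Cfsg

namespace Cfsg.Agent.S2968

variable {G : Type*} [Group G] [Finite G] {p : ℕ} [Fact p.Prime]

omit [Finite G] in
theorem mem_centralizer_of_isolated' {x : G} (hiso : Cfsg.IsIsolated x) {g : G}
    (h : Commute x (g * x * g⁻¹)) : g * x = x * g := by
  have := hiso g h
  calc g * x = g * x * g⁻¹ * g := by group
    _ = x * g := by rw [this]

/-- An isolated element is central in every `p`-subgroup containing it. -/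
theorem mem_centralizer_of_isolated {x : G} (hiso : Cfsg.IsIsolated x) :
    ∀ (P : Sylow p G), x ∈ (P : Subgroup G) → x ∈ Subgroup.centralizer ((P : Subgroup G) : Set G) := by
  intro P hxP
  haveI : Group.IsNilpotent (P : Subgroup G) := P.isPGroup'.isNilpotent
  let C : Subgroup (P : Subgroup G) := Subgroup.centralizer {⟨x, hxP⟩}
  suffices hC : C = ⊤ by
    rw [Subgroup.mem_centralizer_iff]
    intro y hy
    have : (⟨y, hy⟩ : (P : Subgroup G)) ∈ C := hC ▸ Subgroup.mem_top _
    exact congrArg Subtype.val (Subgroup.mem_centralizer_singleton_iff.mp this)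
  by_contra hne
  obtain ⟨g, hgN, hgC⟩ := SetLike.exists_of_lt
    (Group.normalizerCondition_of_isNilpotent C (lt_top_iff_ne_top.mpr hne))
  apply hgC
  rw [Subgroup.mem_centralizer_singleton_iff]
  have hxC : (⟨x, hxP⟩ : (P : Subgroup G)) ∈ C := Subgroup.mem_centralizer_singleton_iff.mpr rfl
  have h1 := (Subgroup.mem_normalizer_iff.mp hgN _).mp hxC
  have h2 := congrArg Subtype.val (Subgroup.mem_centralizer_singleton_iff.mp h1)
  exact Subtype.ext (mem_centralizer_of_isolated' hiso (g := (g : G)) h2.symm)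

theorem strongly (P : Sylow p G) (x : G) (hxP : x ∈ (P : Subgroup G))
    (hx : ∃ k : ℕ, orderOf x = p ^ k) (hiso : Cfsg.IsIsolated x) :
    Cfsg.IsStronglyClosed (Subgroup.zpowers x) (P : Subgroup G) := by
  refine ⟨Subgroup.zpowers_le.mpr hxP, fun y hy g hgy => ?_⟩
  obtain ⟨k, rfl⟩ := Subgroup.mem_zpowers_iff.mp hy
  set z := g * x ^ k * g⁻¹ with hz
  let C : Subgroup G := Subgroup.centralizer {z}
  have hxC : x ∈ C := by
    rw [Subgroup.mem_centralizer_singleton_iff]
    exact (Subgroup.mem_centralizer_iff.mp (mem_centralizer_of_isolated hiso P hxP) z hgy).symm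
  have hx'C : g * x * g⁻¹ ∈ C := by
    rw [Subgroup.mem_centralizer_singleton_iff, hz]
    group
  have hxp : IsPGroup p (Subgroup.zpowers x) := by
    obtain ⟨m, hm⟩ := hx
    exact IsPGroup.of_card (n := m) (by rw [Nat.card_zpowers, hm])
  obtain ⟨Q₁, hQ₁⟩ := (hxp.comap_subtype (K := C)).exists_le_sylow
  have hxp' : IsPGroup p (((Subgroup.zpowers x).map (MulAut.conj g).toMonoidHom)) := hxp.map _
  obtain ⟨Q₂, hQ₂⟩ := (hxp'.comap_subtype (K := C)).exists_le_sylow
  obtain ⟨h, hh⟩ := MulAction.exists_smul_eq C Q₂ Q₁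
  have hm1 : (⟨x, hxC⟩ : C) ∈ (Q₁ : Subgroup C) := hQ₁ (Subgroup.mem_zpowers x)
  have hm2 : (⟨g * x * g⁻¹, hx'C⟩ : C) ∈ (Q₂ : Subgroup C) :=
    hQ₂ ⟨x, Subgroup.mem_zpowers x, rfl⟩
  have hm3 : h * ⟨g * x * g⁻¹, hx'C⟩ * h⁻¹ ∈ (Q₁ : Subgroup C) := by
    rw [← hh]
    change _ ∈ ((MulAut.conj h : MulAut C) • Q₂ : Sylow p C).1
    rw [Sylow.pointwise_smul_def, Subgroup.mem_pointwise_smul_iff_inv_smul_mem]
    simpa [mul_assoc] using hm2
  obtain ⟨R, hR⟩ := (Q₁.isPGroup'.map C.subtype).exists_le_sylow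
  have hcen := mem_centralizer_of_isolated hiso R (hR ⟨_, hm1, rfl⟩)
  have hcomm := Subgroup.mem_centralizer_iff.mp hcen ((h : G) * (g * x * g⁻¹) * (h : G)⁻¹)
    (hR ⟨_, hm3, rfl⟩)
  have hiso' : ((h : G) * g) * x = x * ((h : G) * g) :=
    mem_centralizer_of_isolated' hiso (by
      have e : (h : G) * g * x * ((h : G) * g)⁻¹ = (h : G) * (g * x * g⁻¹) * (h : G)⁻¹ := by group
      rw [e]; exact hcomm.symm)
  have hhz : (h : G) * z = z * (h : G) := Subgroup.mem_centralizer_singleton_iff.mp h.2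
  have : z = x ^ k := by
    calc z = (h : G) * z * (h : G)⁻¹ := by rw [hhz]; group
      _ = ((h : G) * g) * x ^ k * ((h : G) * g)⁻¹ := by rw [hz]; group
      _ = x ^ k * ((h : G) * g) * ((h : G) * g)⁻¹ := by
          rw [show ((h : G) * g) * x ^ k = x ^ k * ((h : G) * g) from (Commute.zpow_right hiso' k)]
      _ = x ^ k := by group
  rw [this]
  exact Subgroup.zpow_mem_zpowers x k


/-- Let G be a finite group, p a prime, P a Sylow p-subgroup of G and x ∈ P an element of p-power order which is isolated in G (the only conjugate of x commuting with x is x itself). Then x lies in the centre of P, and the subgroup generated by x is both strongly closed and weakly closed in P with respect to G. -/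
theorem result {G : Type*} [Group G] [Finite G] {p : ℕ} [Fact p.Prime] (P : Sylow p G) (x : G) (hxP : x ∈ (P : Subgroup G)) (hx : ∃ k : ℕ, orderOf x = p ^ k) (hiso : Cfsg.IsIsolated x) : x ∈ (P : Subgroup G) ⊓ Subgroup.centralizer ((P : Subgroup G) : Set G) ∧ Cfsg.IsStronglyClosed (Subgroup.zpowers x) (P : Subgroup G) ∧ Cfsg.IsWeaklyClosed (Subgroup.zpowers x) (P : Subgroup G) := by
  refine ⟨⟨hxP, mem_centralizer_of_isolated hiso P hxP⟩, ?_, ?_⟩
  · exact strongly P x hxP hx hiso
  · obtain ⟨hle, hsc⟩ := strongly P x hxP hx hiso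
    refine ⟨hle, fun g hg => ?_⟩
    have hsub : (Subgroup.zpowers x).map (MulAut.conj g).toMonoidHom ≤ Subgroup.zpowers x := by
      rintro _ ⟨y, hy, rfl⟩
      exact hsc y hy g (hg ⟨y, hy, rfl⟩)
    apply Subgroup.eq_of_le_of_card_ge hsub
    rw [Subgroup.card_map_of_injective (MulAut.conj g).injective]

end Cfsg.Agent.S2968
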