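import Cfsg.Statements.S2971
import Cfsg.Agent.LAE65.Isolated
import Cfsg.Agent.LAE65.CyclicPGroup

set_option autoImplicit false
open Cfsg

namespace Cfsg.Agent.S2971

/-- Let G be a finite group and p an odd prime such that G has p-rank at most 1 (no elementary abelian subgroup of order p²). If x ∈ G is an isolated element of order p, then x is central modulo the largest normal subgroup of G of order prime to p. -/
theorem result {G : Type*} [Group G] [Finite G] {p : ℕ} [Fact p.Prime] (hp : p ≠ 2) (hrk : Cfsg.PRankLE p 1 G) (x : G) (hx : orderOf x = p) (hiso : Cfsg.IsIsolated x) : Cfsg.InZStar p x := by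
  have hp' : p.Prime := Fact.out
  have hx1 : x ≠ 1 := by rintro rfl; rw [orderOf_one] at hx; exact hp'.one_lt.ne hx
  have hxp : ∃ k : ℕ, orderOf x = p ^ k := ⟨1, by rw [hx, pow_one]⟩
  obtain ⟨P, hxP⟩ := (LAE65.isPGroup_zpowers hxp).exists_le_sylow
  replace hxP := hxP (Subgroup.mem_zpowers x)
  have hP : IsPGroup p (P : Subgroup G) := P.2
  have hxc : ∀ u ∈ (P : Subgroup G), u * x = x * u := fun u hu =>
    LAE65.mem_centralizer_singleton.1 (LAE65.isolated_le_centralizer hiso hP hxP hu)
  -- every element of order dividing the prime in the Sylow subgroup is a power of the given one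
  have huniq : ∀ u ∈ (P : Subgroup G), u ^ p = 1 → u ∈ Subgroup.zpowers x := by
    intro u hu hup
    by_contra hux
    have hA : IsMulCommutative (Subgroup.closure ({x, u} : Set G)) := by
      refine Subgroup.isMulCommutative_closure ?_
      rintro a (rfl | rfl) b (rfl | rfl)
      exacts [rfl, (hxc _ hu).symm, hxc _ hu, rfl]
    have hAp : ∀ a ∈ Subgroup.closure ({x, u} : Set G), a ^ p = 1 := by
      intro a ha
      have hcomm : ∀ c ∈ Subgroup.closure ({x, u} : Set G), ∀ d ∈ Subgroup.closure ({x, u} : Set G),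
          Commute c d := fun c hc d hd => congrArg Subtype.val (hA.is_comm.comm ⟨c, hc⟩ ⟨d, hd⟩)
      induction ha using Subgroup.closure_induction with
      | mem a ha =>
        rcases ha with rfl | rfl
        · rw [← hx, pow_orderOf_eq_one]
        · exact hup
      | one => exact one_pow p
      | mul a b ha hb iha ihb => rw [(hcomm a ha b hb).mul_pow, iha, ihb, one_mul]
      | inv a ha iha => rw [inv_pow, iha, inv_one]
    have h := hrk _ hA hAp
    rw [pow_one, ← hx, ← Nat.card_zpowers] at h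
    refine hux ?_
    have hle : Subgroup.zpowers x ≤ Subgroup.closure ({x, u} : Set G) :=
      Subgroup.zpowers_le.2 (Subgroup.subset_closure (Set.mem_insert _ _))
    rw [Subgroup.eq_of_le_of_card_ge hle h]
    exact Subgroup.subset_closure (Set.mem_insert_of_mem _ rfl)
  have hcyc : IsCyclic (P : Subgroup G) := by
    refine LAE65.isCyclic_of_unique_order_p hp hP (fun a b ha ha1 hb => ?_)
    obtain ⟨i, hi⟩ := Subgroup.mem_zpowers_iff.1
      (huniq a a.2 (by rw [← Subgroup.coe_pow, ha]; rfl))
    obtain ⟨j, hj⟩ := Subgroup.mem_zpowers_iff.1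
      (huniq b b.2 (by rw [← Subgroup.coe_pow, hb]; rfl))
    have hci : IsCoprime i (p : ℤ) := by
      refine ((Prime.coprime_iff_not_dvd (Nat.prime_iff_prime_int.1 hp')).2 fun hd => ha1 ?_).symm
      obtain ⟨d, rfl⟩ := hd
      apply Subtype.ext
      have hxp0 : x ^ p = 1 := by conv_lhs => arg 2; rw [← hx]
                                  exact pow_orderOf_eq_one x
      rw [← hi, zpow_mul, zpow_natCast, hxp0, one_zpow]; rfl
    obtain ⟨s, t, hst⟩ := hci
    refine Subgroup.mem_zpowers_iff.2 ⟨s * j, Subtype.ext ?_⟩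
    have hxp1 : x ^ (p : ℤ) = 1 := by rw [zpow_natCast, ← hx, pow_orderOf_eq_one]
    rw [Subgroup.coe_zpow, ← hi, ← hj, ← zpow_mul]
    conv_rhs => rw [show j = (s * i + t * (p : ℤ)) * j by rw [hst, one_mul]]
    rw [add_mul, zpow_add, mul_assoc t, mul_comm t, mul_assoc (p : ℤ), zpow_mul x (p : ℤ), hxp1,
      one_zpow, mul_one, mul_assoc, mul_left_comm]
  obtain ⟨Q, N, hN, hc⟩ := LAE65.isolated_cyclic_hasNormalPComplement hxp hiso hx1
    (fun Q => (P.equiv Q).isCyclic.1 hcyc)
  have hcop : (Nat.card N).Coprime p := by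
    rw [Nat.coprime_comm, hp'.coprime_iff_not_dvd, ← hc.index_eq_card]
    exact Q.not_dvd_index
  have hNle : N ≤ Cfsg.pPrimeCore p G := le_sSup ⟨hN, hcop⟩
  have htop : N ⊔ (P : Subgroup G) = ⊤ := by
    obtain ⟨g, rfl⟩ := MulAction.exists_smul_eq G Q P
    have h2 := hc.sup_eq_top
    have : N ⊔ ((g • Q : Sylow p G) : Subgroup G) =
        (N ⊔ (Q : Subgroup G)).map (MulAut.conj g).toMonoidHom := by
      rw [Subgroup.map_sup]
      exact congrArg₂ (· ⊔ ·) (@Subgroup.Normal.map_conj_eq _ _ N hN g).symm rfl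
    rw [this, h2, Subgroup.map_top_of_surjective _ (MulAut.conj g).surjective]
  intro g
  have hg : g ∈ N ⊔ (P : Subgroup G) := htop ▸ Subgroup.mem_top g
  rw [← SetLike.mem_coe, @Subgroup.normal_mul _ _ N _ hN, Set.mem_mul] at hg
  obtain ⟨n, hn, u, hu, rfl⟩ := hg
  refine hNle ?_
  have : n * u * x * (n * u)⁻¹ * x⁻¹ = n * (x * n⁻¹ * x⁻¹) := by
    rw [mul_inv_rev, mul_assoc n u x, hxc u hu]; group
  rw [this]
  exact N.mul_mem hn (hN.conj_mem _ (N.inv_mem hn) x)

end Cfsg.Agent.S2971
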