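import Cfsg.Statements.S2981
import Cfsg.Agent.Lib.Thompson.FFPM.Full
import Cfsg.Agent.Lib.Thompson.FFPM.Offender
import Cfsg.Agent.Lib.Thompson.WSubgroup
import Cfsg.Agent.Lib.Thompson.Alperin

set_option linter.style.haveILetI false
set_option maxHeartbeats 1600000

set_option autoImplicit false
open Cfsg
open scoped commutatorElement

namespace Cfsg.Agent.S2981

theorem comm_inf_centralizer {G : Type*} [Group G] (Q : Subgroup G) :
    IsMulCommutative ↥(Q ⊓ Subgroup.centralizer (Q : Set G)) :=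
  ⟨⟨fun a b => Subtype.ext (Subgroup.mem_centralizer_iff.1 b.2.2 a a.2.1)⟩⟩

theorem card_mul_le {G : Type*} [Group G] [Finite G] (B D : Subgroup G) :
    Nat.card ↥B * Nat.card ↥D ≤ Nat.card ↥(B ⊔ D : Subgroup G) * Nat.card ↥(B ⊓ D) := by
  have h : (B ⊓ D).relIndex B ≤ D.relIndex (B ⊔ D) := by
    rw [Subgroup.inf_relIndex_left]
    refine Subgroup.relIndex_le_of_le_right le_sup_left ?_
    exact Subgroup.index_ne_zero_of_finite
  have e1 := Subgroup.relIndex_mul_relIndex ⊥ (B ⊓ D) B bot_le inf_le_left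
  have e2 := Subgroup.relIndex_mul_relIndex ⊥ D (B ⊔ D) bot_le le_sup_right
  simp only [Subgroup.relIndex_bot_left] at e1 e2
  rw [← e1, ← e2]
  calc Nat.card ↥(B ⊓ D) * (B ⊓ D).relIndex B * Nat.card ↥D
      = Nat.card ↥D * (B ⊓ D).relIndex B * Nat.card ↥(B ⊓ D) := by ring
    _ ≤ Nat.card ↥D * D.relIndex (B ⊔ D) * Nat.card ↥(B ⊓ D) := by gcongr


/-- The local C**(G,T)-Theorem for minimal parabolic groups. Let G be a finite p-minimal group (a Sylow p-subgroup T is not normal and lies in exactly one maximal subgroup) of characteristic p (C_G(O_p(G)) ≤ O_p(G)), and suppose G ≠ C**(G,T), the subgroup generated by C_G(Ω₁(Z(T))) and N_G(J(T)) (J(T) generated by the elementary abelian p-subgroups of T of largest order). Put V = Ω₁(Z(O_p(G))) and C = C_G(V). Then there are subgroups E₁, …, E_r of G containing C such that: J(G)TC = G and the E_i C/C form an internal direct product equal to J(G)C/C; any two of the E_i are conjugate by an element of T;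 V = C_V(⟨E_i⟩)·∏[V, E_i] with [V, E_i, E_j] = 1 for i ≠ j; for some n ≥ 1, each E_i/C is isomorphic to SL₂(pⁿ), or p = 2 and to the symmetric group of degree 2ⁿ + 1; and E_i acts on [V, E_i]/C_{[V,E_i]}(E_i) as the natural two-dimensional SL₂(pⁿ)-module, respectively as the symmetric group of degree 2ⁿ+1 on its even-weight permutation module. -/
theorem result {G : Type*} [Group G] [Finite G] {p : ℕ} [Fact p.Prime] (hmin : Cfsg.IsPMinimal p G) (hG : Subgroup.centralizer (Cfsg.pCore p G : Set G) ≤ Cfsg.pCore p G) (T : Sylow p G) (hne : Cfsg.cStarStarOf p (T : Subgroup G) ≠ ⊤) : ∃ (r : ℕ) (E : Fin r → Subgroup G), (∀ i, Subgroup.centralizer (Cfsg.omegaOneCenter p (Cfsg.pCore p G) : Set G) ≤ E i) ∧ Cfsg.thompsonSubgroup p G ⊔ (T : Subgroup G) ⊔ Subgroup.centralizer (Cfsg.omegaOneCenter p (Cfsg.pCore p G) : Set G) = ⊤ ∧ (⨆ i, E i) = Cfsg.thompsonSubgroup p G ⊔ Subgroup.centralizer (Cfsg.omegaOneCenter p (Cfsg.pCore p G) : Set G) ∧ (∀ i j, i ≠ j → ⁅E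 i, E j⁆ ≤ Subgroup.centralizer (Cfsg.omegaOneCenter p (Cfsg.pCore p G) : Set G)) ∧ (∀ i, E i ⊓ (⨆ j ∈ {j | j ≠ i}, E j) ≤ Subgroup.centralizer (Cfsg.omegaOneCenter p (Cfsg.pCore p G) : Set G)) ∧ (∀ i j, ∃ t ∈ (T : Subgroup G), (E i).map (MulAut.conj t).toMonoidHom = E j) ∧ (Cfsg.omegaOneCenter p (Cfsg.pCore p G) ⊓ Subgroup.centralizer ((⨆ i, E i : Subgroup G) : Set G)) ⊔ (⨆ i, ⁅Cfsg.omegaOneCenter p (Cfsg.pCore p G), E i⁆) = Cfsg.omegaOneCenter p (Cfsg.pCore p G) ∧ (∀ i j, i ≠ j → ⁅⁅Cfsg.omegaOneCenter p (Cfsg.pCore p G), E i⁆, E j⁆ = ⊥) ∧ ∀ i, ∃ n : ℕ, 1 ≤ n ∧ ((∃ (F : Type) (_ : Field F) (_ : Fintype F), Fintype.card F = p ^ n ∧ (∃ _ : ((Subgroup.centralizer (Cfsg.omegaOneCenter p (Cfsg.pCore p G) : Set G)).subgroupOf (E i)).Normal, Nonempty (↥(E i) ⧸ (Subgroup.centralizer (Cfsg.omegaOneCenter p (Cfsg.pCore p G) : Set G)).subgroupOf (E i) ≃* Matrix.SpecialLinearGroup (Fin 2) F)) ∧ Cfsg.ActsAsSL2OnSection F ⊤ (E i) ⁅Cfsg.omegaOneCenter p (Cfsg.pCore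 p G), E i⁆ (⁅Cfsg.omegaOneCenter p (Cfsg.pCore p G), E i⁆ ⊓ Subgroup.centralizer ((E i : Subgroup G) : Set G))) ∨ (p = 2 ∧ (∃ _ : ((Subgroup.centralizer (Cfsg.omegaOneCenter p (Cfsg.pCore p G) : Set G)).subgroupOf (E i)).Normal, Nonempty (↥(E i) ⧸ (Subgroup.centralizer (Cfsg.omegaOneCenter p (Cfsg.pCore p G) : Set G)).subgroupOf (E i) ≃* Equiv.Perm (Fin (2 ^ n + 1)))) ∧ Cfsg.ActsAsOddPermModuleOnSection (2 ^ n + 1) ⊤ (E i) ⁅Cfsg.omegaOneCenter p (Cfsg.pCore p G), E i⁆ (⁅Cfsg.omegaOneCenter p (Cfsg.pCore p G), E i⁆ ⊓ Subgroup.centralizer ((E i : Subgroup G) : Set G)))) := by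
  classical
  set Q := Cfsg.pCore p G with hQdef
  set V := Cfsg.omegaOneCenter p Q with hVdef
  set C : Subgroup G := Subgroup.centralizer (V : Set G) with hCdef
  have hQn : Q.Normal := Agent.Thompson.instPCoreNormal
  have hQp : IsPGroup p ↥Q := Agent.Thompson.isPGroup_pCore
  haveI := hQn
  haveI : (Q ⊓ Subgroup.centralizer (Q : Set G)).Normal :=
    haveI := Subgroup.normal_centralizer (H := Q)
    inferInstance
  have hVn : V.Normal := Agent.Thompson.omegaOne_normal _
  have hVea : Cfsg.IsElementaryAbelian p V := Agent.Thompson.isElementaryAbelian_omegaOne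
    (Agent.S2981.comm_inf_centralizer Q)
  haveI := hVn
  haveI : C.Normal := Subgroup.normal_centralizer
  have hQC : Q ≤ C := fun x hx => Subgroup.mem_centralizer_iff.2 fun v hv =>
    ((Subgroup.mem_centralizer_iff.1 (Agent.Thompson.omegaOne_le p _ hv).2) x hx).symm
  have hQT : ∀ T' : Sylow p G, Q ≤ (T' : Subgroup G) := fun T' => hQp.le_sylow_of_normal T'
  set Z := Cfsg.omegaOneCenter p (T : Subgroup G) with hZdef
  have hZV : Z ≤ V := (Subgroup.closure_le _).2 fun x hx => by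
    have hxC : x ∈ Subgroup.centralizer (Q : Set G) :=
      Subgroup.centralizer_le (hQT T) hx.1.2
    exact Agent.Thompson.mem_omegaOne ⟨hG hxC, hxC⟩ hx.2
  have hfixZ : ∀ v ∈ V, v ∈ Subgroup.centralizer ((T : Subgroup G) : Set G) → v ∈ Z := fun v hv hvT =>
    Agent.Thompson.mem_omegaOne ⟨hQT T (Agent.Thompson.omegaOne_le p _ hv).1, hvT⟩ (hVea.2 v hv)
  have hCZ : C ≤ Subgroup.centralizer (Z : Set G) := Subgroup.centralizer_le hZV
  obtain ⟨hTn, M, ⟨hM, hTM⟩, hMu⟩ := hmin T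
  have huniqG : ∀ (T' : Sylow p G) (M' : Subgroup G), IsCoatom M' → (T' : Subgroup G) ≤ M' →
      ∀ K : Subgroup G, (T' : Subgroup G) ≤ K → K ≠ ⊤ → K ≤ M' := by
    intro T' M' hM' hT' K hK hKt
    obtain ⟨-, N', -, hNu⟩ := hmin T'
    obtain ⟨L, hL, hKL⟩ := (eq_top_or_exists_le_coatom K).resolve_left hKt
    rw [hNu M' ⟨hM', hT'⟩, ← hNu L ⟨hL, hK.trans hKL⟩]
    exact hKL
  have hstar : Subgroup.centralizer (Z : Set G) ≠ ⊤ := fun e => hne (by
    rw [eq_top_iff, ← e]; exact le_sup_left)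
  have hTZ : (T : Subgroup G) ≤ Subgroup.centralizer (Z : Set G) := fun x hx =>
    Subgroup.mem_centralizer_iff.2 fun z hz =>
      ((Subgroup.mem_centralizer_iff.1 (Agent.Thompson.omegaOne_le p _ hz).2) x hx).symm
  have hCTne : C ⊔ (T : Subgroup G) ≠ ⊤ := fun e => hstar (by
    rw [eq_top_iff, ← e]; exact sup_le hCZ hTZ)
  set π := QuotientGroup.mk' C with hπdef
  have hπs : Function.Surjective π := QuotientGroup.mk'_surjective C
  have hπker : π.ker = C := QuotientGroup.ker_mk' C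
  let Tb : Sylow p (G ⧸ C) := T.mapSurjective hπs
  have hTb : (Tb : Subgroup (G ⧸ C)) = (T : Subgroup G).map π := rfl
  have hcm : ∀ K : Subgroup G, C ≤ K → (K.map π).comap π = K := fun K hK => by
    rw [Subgroup.comap_map_eq, hπker, sup_eq_left.2 hK]
  -- the action on `V`
  haveI : IsMulCommutative ↥V := hVea.1
  letI : AddCommGroup (Additive ↥V) :=
    { (inferInstance : AddGroup (Additive ↥V)) with
      add_comm := fun a b => Subtype.ext
        (Agent.Thompson.elemAb_comm hVea.1 (Additive.toMul a).2 (Additive.toMul b).2) }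
  let cv : Additive ↥V → G := fun v => ((Additive.toMul v : ↥V) : G)
  have hcv : Function.Injective cv := fun a b h => Additive.toMul.injective (Subtype.ext h)
  have hcva : ∀ u w : Additive ↥V, cv (u + w) = cv u * cv w := fun _ _ => rfl
  have hcvn : ∀ u : Additive ↥V, cv (-u) = (cv u)⁻¹ := fun _ => rfl
  have hcv0 : cv 0 = 1 := rfl
  have hcvV : ∀ u : Additive ↥V, cv u ∈ V := fun u => (Additive.toMul u).2
  let conjV : G →* AddMonoid.End (Additive ↥V) :=
    { toFun := fun g => MonoidHom.toAdditive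
        ((MulAut.conjNormal g : MulAut ↥V) : ↥V →* ↥V)
      map_one' := AddMonoidHom.ext fun v => hcv (by
        show ((MulAut.conjNormal (1 : G) (Additive.toMul v) : ↥V) : G) = cv v
        rw [map_one]; rfl)
      map_mul' := fun a b => AddMonoidHom.ext fun v => hcv (by
        show ((MulAut.conjNormal (a * b) (Additive.toMul v) : ↥V) : G) =
          ((MulAut.conjNormal a (MulAut.conjNormal b (Additive.toMul v)) : ↥V) : G)
        rw [map_mul]; rfl) }
  let act : G ⧸ C →* AddMonoid.End (Additive ↥V) := QuotientGroup.lift C conjV fun g hg =>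
    AddMonoidHom.ext fun v => hcv (by
      show ((MulAut.conjNormal g (Additive.toMul v) : ↥V) : G) = cv v
      rw [MulAut.conjNormal_apply, mul_inv_eq_iff_eq_mul]
      exact (Subgroup.mem_centralizer_iff.1 hg _ (hcvV v)).symm)
  letI : DistribMulAction (G ⧸ C) (Additive ↥V) :=
    { smul := fun g v => act g v
      one_smul := fun v => by show act 1 v = v; rw [map_one]; rfl
      mul_smul := fun a b v => by show act (a * b) v = act a (act b v); rw [map_mul]; rfl
      smul_zero := fun g => map_zero (act g)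
      smul_add := fun g v w => map_add (act g) v w }
  have hsmul : ∀ (g : G) (v : Additive ↥V), cv (π g • v) = g * cv v * g⁻¹ := fun g v => by
    show ((MulAut.conjNormal g (Additive.toMul v) : ↥V) : G) = _
    rw [MulAut.conjNormal_apply]
  have hfixmap : ∀ (K : Subgroup G) (v : Additive ↥V),
      v ∈ (Agent.FFSL2.fix (K.map π) : AddSubgroup (Additive ↥V)) ↔
        cv v ∈ Subgroup.centralizer (K : Set G) := by
    intro K v
    rw [Subgroup.mem_centralizer_iff, Agent.FFSL2.mem_fix]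
    constructor
    · intro h x hx
      have h1 := congrArg cv (h _ ⟨x, hx, rfl⟩)
      rw [hsmul, mul_inv_eq_iff_eq_mul] at h1
      exact h1
    · rintro h _ ⟨x, hx, rfl⟩
      apply hcv
      rw [hsmul, h x hx, mul_inv_cancel_right]
  have hfai : ∀ z : G ⧸ C, (∀ v : Additive ↥V, z • v = v) → z = 1 := by
    intro z hz
    obtain ⟨g, rfl⟩ := hπs z
    refine (QuotientGroup.eq_one_iff g).2 (Subgroup.mem_centralizer_iff.2 fun v hv => ?_)
    have h1 := congrArg cv (hz (Additive.ofMul ⟨v, hv⟩))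
    rw [hsmul, mul_inv_eq_iff_eq_mul] at h1
    exact h1.symm
  have hp : ∀ v : Additive ↥V, p • v = 0 := fun v => by
    apply hcv
    show ((Additive.toMul v ^ p : ↥V) : G) = 1
    rw [SubmonoidClass.coe_pow]
    exact hVea.2 _ (Additive.toMul v).2
  have hTbn : ¬ (Tb : Subgroup (G ⧸ C)).Normal := fun hn => by
    haveI : (C ⊔ (T : Subgroup G)).Normal := by
      have e : ((Tb : Subgroup (G ⧸ C)).comap π) = C ⊔ (T : Subgroup G) := by
        rw [hTb, Subgroup.comap_map_eq, hπker, sup_comm]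
      exact e ▸ hn.comap π
    have hfr := Sylow.normalizer_sup_eq_top' T (le_sup_right : (T : Subgroup G) ≤ C ⊔ T)
    have h1 : C ⊔ (T : Subgroup G) ≤ M := huniqG T M hM hTM _ le_sup_right hCTne
    have h2 : Subgroup.normalizer ((T : Subgroup G) : Set G) ≤ M :=
      huniqG T M hM hTM _ Subgroup.le_normalizer fun e => hTn (Subgroup.normalizer_eq_top_iff.1 e)
    exact hM.1 (eq_top_iff.2 (hfr ▸ sup_le h2 h1))
  have hcore : ∀ R : Subgroup (G ⧸ C), R.Normal → IsPGroup p ↥R → R = ⊥ := by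
    intro R hRn hRp
    set K := R.comap π with hK
    haveI : K.Normal := hRn.comap π
    obtain ⟨S₁⟩ : Nonempty (Sylow p ↥K) := inferInstance
    obtain ⟨T', hT'⟩ := (S₁.isPGroup'.map K.subtype).exists_le_sylow
    have hS₁ := Agent.Thompson.Alperin.sylow_inf_eq K S₁ T' hT'
    have hKle : K ≤ C ⊔ (S₁ : Subgroup ↥K).map K.subtype := by
      intro k hk
      have hkT : π k ∈ (T'.mapSurjective hπs : Subgroup (G ⧸ C)) :=
        hRp.le_sylow_of_normal (T'.mapSurjective hπs) hk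
      obtain ⟨t, ht, e⟩ := hkT
      have hc : k * t⁻¹ ∈ C := by rw [← hπker, MonoidHom.mem_ker, map_mul, map_inv, e, mul_inv_cancel]
      have htK : t ∈ K := by show π t ∈ R; rw [e]; exact hk
      rw [show k = k * t⁻¹ * t by group]
      exact Subgroup.mul_mem_sup hc (hS₁ ▸ ⟨ht, htK⟩)
    have hfr := Sylow.normalizer_sup_eq_top S₁
    obtain ⟨hT'n, M', ⟨hM', hT'M'⟩, -⟩ := hmin T'
    have hCT' : C ⊔ (T' : Subgroup G) ≠ ⊤ := fun e => hCTne (by
      have hall : ∀ x : G ⧸ C, x ∈ (T'.mapSurjective hπs : Subgroup (G ⧸ C)) := fun x => by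
        obtain ⟨g, rfl⟩ := hπs x
        have h1 : g ∈ ((T' : Subgroup G).map π).comap π := by
          rw [Subgroup.comap_map_eq, hπker, sup_comm, e]; exact Subgroup.mem_top g
        exact h1
      have htop : (Tb : Subgroup (G ⧸ C)) = ⊤ := by
        refine Tb.is_maximal' (Q := ⊤) ?_ le_top |>.symm
        exact (T'.mapSurjective hπs).isPGroup'.to_le fun x _ => hall x
      have h2 := congrArg (Subgroup.comap π) htop
      rwa [hTb, Subgroup.comap_map_eq, hπker, sup_comm, Subgroup.comap_top] at h2)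
    have hNt : Subgroup.normalizer (((S₁ : Subgroup ↥K).map K.subtype : Subgroup G) : Set G) = ⊤ := by
      by_contra hN
      have hT'N : (T' : Subgroup G) ≤
          Subgroup.normalizer (((S₁ : Subgroup ↥K).map K.subtype : Subgroup G) : Set G) := by
        rw [← hS₁]
        intro x hx
        rw [Subgroup.mem_normalizer_iff]
        intro y
        constructor
        · rintro ⟨h1, h2⟩
          exact ⟨Subgroup.mul_mem _ (Subgroup.mul_mem _ hx h1) (Subgroup.inv_mem _ hx),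
            Subgroup.Normal.conj_mem inferInstance y h2 x⟩
        · rintro ⟨h1, h2⟩
          have h1' := Subgroup.mul_mem _ (Subgroup.mul_mem _ (Subgroup.inv_mem _ hx) h1) hx
          have h2' := Subgroup.Normal.conj_mem (inferInstance : K.Normal) _ h2 x⁻¹
          exact ⟨show y ∈ (T' : Subgroup G) by simpa [mul_assoc] using h1', by simpa [mul_assoc] using h2'⟩
      refine hM'.1 (eq_top_iff.2 (hfr ▸ sup_le (huniqG T' M' hM' hT'M' _ hT'N hN) (hKle.trans ?_)))
      exact sup_le (le_sup_left.trans (huniqG T' M' hM' hT'M' _ le_sup_right hCT'))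
        (hT'.trans hT'M')
    rw [eq_bot_iff]
    intro x hx
    obtain ⟨g, rfl⟩ := hπs x
    have h1 : (S₁ : Subgroup ↥K).map K.subtype ≤ C := by
      refine le_trans ?_ hQC
      exact le_sSup ⟨Subgroup.normalizer_eq_top_iff.1 hNt, S₁.isPGroup'.map _⟩
    exact Subgroup.mem_bot.2 ((QuotientGroup.eq_one_iff g).2 ((hKle.trans (sup_le le_rfl h1)) hx))
  have hMC : C ≤ M := le_sup_left.trans (huniqG T M hM hTM _ le_sup_right hCTne)
  have hpm : Agent.FFPM.PM (Additive ↥V) Tb (M.map π) := by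
    refine ⟨fun e => hM.1 ?_, Subgroup.map_mono hTM, fun K hK hKt => ?_, hTbn, hcore, hfai, hp,
      fun hle => hstar ?_⟩
    · rw [← hcm M hMC, e, Subgroup.comap_top]
    · rw [← Subgroup.map_comap_eq_self_of_surjective hπs K]
      refine Subgroup.map_mono (huniqG T M hM hTM _ (Subgroup.map_le_iff_le_comap.1 hK) fun e => hKt ?_)
      rw [← Subgroup.map_comap_eq_self_of_surjective hπs K, e, Subgroup.map_top_of_surjective _ hπs]
    · rw [eq_top_iff]
      intro g _
      refine Subgroup.mem_centralizer_iff.2 fun z hz => ?_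
      have h1 : (Additive.ofMul ⟨z, hZV hz⟩ : Additive ↥V) ∈
          (Agent.FFSL2.fix (Tb : Subgroup (G ⧸ C)) : AddSubgroup (Additive ↥V)) := by
        rw [hTb, hfixmap]
        exact (Agent.Thompson.omegaOne_le p _ hz).2
      have h2 := congrArg cv (hle h1 (π g) (Subgroup.mem_top _))
      rw [hsmul, mul_inv_eq_iff_eq_mul] at h2
      exact h2.symm
  -- offenders
  set 𝒜 := Cfsg.maxElementaryAbelianSubgroups p G with h𝒜
  have hcardquot : ∀ B : Subgroup G,
      Nat.card ↥B = Nat.card ↥(B.map π) * Nat.card ↥(B ⊓ C) := fun B => by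
    have h1 := Agent.FFPM.card_range_mul (π.comp B.subtype)
    rw [h1, MonoidHom.range_comp, Subgroup.range_subtype, mul_comm]
    congr 1
    refine (Subgroup.card_map_of_injective (K := (π.comp B.subtype).ker) B.subtype_injective).symm.trans ?_
    rw [← MonoidHom.comap_ker, hπker, ← Subgroup.subgroupOf, Subgroup.subgroupOf_map_subtype, inf_comm]
  have hfixcard : ∀ B : Subgroup G,
      Nat.card ↥(Agent.FFSL2.fix (B.map π) : AddSubgroup (Additive ↥V)) =
        Nat.card ↥(V ⊓ Subgroup.centralizer (B : Set G)) := fun B => Nat.card_congr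
    { toFun := fun y => ⟨cv y, hcvV _, (hfixmap B _).1 y.2⟩
      invFun := fun x => ⟨Additive.ofMul ⟨x, x.2.1⟩, (hfixmap B _).2 x.2.2⟩
      left_inv := fun _ => rfl
      right_inv := fun _ => rfl }
  have hbest : ∀ A ∈ 𝒜, Cfsg.IsBestOffenderOn p V A := by
    intro A hA
    refine ⟨fun B hB => ?_, ?_, fun a ha => by rw [hA.1.2 a ha]; exact Subgroup.one_mem _⟩
    · set D := V ⊓ Subgroup.centralizer (B : Set G) with hD
      have hDe : Cfsg.IsElementaryAbelian p D := Agent.Thompson.isElementaryAbelian_of_le hVea inf_le_left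
      have hBe : Cfsg.IsElementaryAbelian p B := Agent.Thompson.isElementaryAbelian_of_le hA.1 hB
      have hBD : B ≤ Subgroup.centralizer (D : Set G) :=
        Subgroup.le_centralizer_iff.1 inf_le_right
      have h1 := hA.2 _ (Agent.Thompson.isElementaryAbelian_sup hBe hDe hBD)
      have h2 := Agent.S2981.card_mul_le B D
      refine h2.trans ((Nat.mul_le_mul_right _ h1).trans (Nat.mul_le_mul_left _ ?_))
      refine Subgroup.card_le_of_le fun x hx => ⟨hx.2.1, Subgroup.mem_centralizer_iff.2 fun a ha => ?_⟩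
      exact Agent.Thompson.elemAb_comm hA.1.1 ha (hB hx.1)
    · rw [Subgroup.commutator_le]
      intro a ha b hb
      rw [commutatorElement_def, Agent.Thompson.elemAb_comm hA.1.1 ha hb]
      simp
  have hmuA : ∀ A : Subgroup G, Cfsg.IsBestOffenderOn p V A →
      Nat.card (Additive ↥V) ≤ Agent.FFPM.mu (Additive ↥V) (A.map π) := by
    intro A hA
    have h1 := hA.1 (A ⊓ C) inf_le_left
    have h2 : V ≤ V ⊓ Subgroup.centralizer ((A ⊓ C : Subgroup G) : Set G) :=
      le_inf le_rfl (Subgroup.le_centralizer_iff.1 inf_le_right)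
    have h3 := (Nat.mul_le_mul_left _ (Subgroup.card_le_of_le h2)).trans h1
    rw [hcardquot A, mul_comm (Nat.card ↥(A.map π)), mul_assoc] at h3
    rw [Agent.FFPM.mu, hfixcard]
    exact le_of_eq_of_le (Nat.card_congr Additive.toMul) (Nat.le_of_mul_le_mul_left h3 Nat.card_pos)
  -- an offender in `T` outside `C`
  obtain ⟨A₀, hA₀, hA₀C⟩ : ∃ A ∈ 𝒜, ¬ A ≤ C := by
    by_contra! hall
    apply hne
    rw [eq_top_iff]
    obtain ⟨S₂, hS₂⟩ := (((T.isPGroup'.to_le (inf_le_left : (T : Subgroup G) ⊓ C ≤ T)).comap_subtype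
      (K := C))).exists_le_sylow
    obtain ⟨T'', hT''⟩ := (S₂.isPGroup'.map C.subtype).exists_le_sylow
    obtain ⟨g, hg⟩ := MulAction.exists_smul_eq G T T''
    have hinf := Agent.Thompson.Alperin.sylow_inf_eq C S₂ T'' hT''
    have hconjC : Agent.FFSL2.cj g C = C := Agent.FFPM.cj_eq_of_mem_normalizer
      (by rw [Subgroup.normalizer_eq_top]; exact Subgroup.mem_top g)
    have hcardeq : Nat.card ↥((T'' : Subgroup G) ⊓ C) ≤ Nat.card ↥((T : Subgroup G) ⊓ C) := by
      rw [← hg, ← Agent.FFSL2.card_cj g ((T : Subgroup G) ⊓ C), Agent.FFSL2.cj,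
        Subgroup.map_inf _ _ _ (MulAut.conj g).injective, ← Agent.FFSL2.cj, ← Agent.FFSL2.cj, hconjC]
      exact le_of_eq rfl
    have hle2 : (T : Subgroup G) ⊓ C ≤ (T'' : Subgroup G) ⊓ C := by
      rw [hinf]
      intro x hx
      exact ⟨⟨x, hx.2⟩, hS₂ hx, rfl⟩
    have hT0 : (S₂ : Subgroup ↥C).map C.subtype = (T : Subgroup G) ⊓ C :=
      hinf.symm.trans (Subgroup.eq_of_le_of_card_ge hle2 hcardeq).symm
    have hfr := Sylow.normalizer_sup_eq_top S₂
    rw [← hfr]
    refine sup_le ?_ (hCZ.trans le_sup_left)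
    refine le_trans ?_ le_sup_right
    rw [hT0]
    have hJ : Cfsg.thompsonSubgroupOf p (T : Subgroup G) ≤ (T : Subgroup G) ⊓ C := by
      rw [Agent.Thompson.thompsonSubgroupOf_eq]
      exact sSup_le fun A hA => le_inf hA.1 (hall A (Agent.Thompson.isMaxEAIn_sylow_iff T hA))
    rw [← Agent.Thompson.thompsonSubgroupOf_eq_of_le inf_le_left hJ]
    exact Agent.Thompson.normalizer_le_normalizer_thompsonSubgroupOf _
  obtain ⟨hBb, -, hBne⟩ := Agent.Thompson.bestOffender_replacement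
    (Agent.Thompson.isPGroup_of_isElementaryAbelian hVea) hVea.1
    (le_top.trans (Subgroup.normalizer_eq_top (H := V)).ge) (hbest A₀ hA₀) (U := V) le_rfl
  set B := A₀ ⊓ Subgroup.centralizer ((⁅V, A₀⁆ : Subgroup G) : Set G) with hBdef
  have hBC : ¬ B ≤ C := fun hle => hBne (fun e => hA₀C
    (Subgroup.commutator_eq_bot_iff_le_centralizer.1 (Subgroup.commutator_comm V A₀ ▸ e))) (by
    rw [Subgroup.commutator_comm, Subgroup.commutator_eq_bot_iff_le_centralizer]; exact hle)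
  have hmap_ne : ∀ A : Subgroup G, ¬ A ≤ C → A.map π ≠ ⊥ := fun A hA e => hA (by
    rw [← hπker]; exact (Subgroup.map_eq_bot_iff A).1 e)
  obtain ⟨q, hconf⟩ := Agent.FFPM.exists_conf hpm (A := B.map π) (hmap_ne B hBC)
    (by
      rintro _ ⟨b, hb, rfl⟩ v
      rw [hfixmap B, sub_eq_add_neg, hcva, hsmul, hcvn]
      refine Subgroup.mem_centralizer_iff.2 fun c hc => ?_
      exact (Subgroup.mem_centralizer_iff.1 hc.2 _ (by
        rw [Subgroup.commutator_comm]
        exact Subgroup.commutator_mem_commutator hb.1 (hcvV v))).symm)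
    (hmuA B hBb)
  obtain ⟨r, E, hE, hEsup, -, -⟩ := hconf.exists_components'
  set N := Agent.FFPM.lineSup (Additive ↥V) q Tb 1 with hNdef
  have hNn : N.Normal := (hconf.lineSup_spec 1).1
  have hoff : ∀ A ∈ 𝒜, ¬ A ≤ C → A.map π ≤ N ∧
      N ≤ Subgroup.normalClosure ((A.map π : Subgroup (G ⧸ C)) : Set (G ⧸ C)) := fun A hA hAC =>
    hconf.offender_mem ((Agent.Thompson.isPGroup_of_isElementaryAbelian hA.1).map π)
      (by
        rintro _ ⟨a, ha, rfl⟩ _ ⟨b, hb, rfl⟩
        rw [← map_mul, ← map_mul, Agent.Thompson.elemAb_comm hA.1.1 ha hb])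
      (hmap_ne A hAC) (hmuA A (hbest A hA))
  set J := Cfsg.thompsonSubgroup p G with hJdef
  haveI hJn : J.Normal := ⟨fun x hx g => by
    have h1 := Agent.Thompson.map_thompsonSubgroup_equiv (p := p) (MulAut.conj g)
    show (MulAut.conj g) x ∈ J
    rw [hJdef, ← h1]
    exact ⟨x, hx, rfl⟩⟩
  have hJN : J.map π = N := by
    refine le_antisymm ?_ ?_
    · rw [Subgroup.map_le_iff_le_comap]
      refine sSup_le fun A hA => ?_
      by_cases hAC : A ≤ C
      · intro a ha
        show π a ∈ N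
        rw [MonoidHom.mem_ker.1 (hπker.symm ▸ hAC ha : a ∈ π.ker)]
        exact Subgroup.one_mem _
      · exact Subgroup.map_le_iff_le_comap.1 (hoff A hA hAC).1
    · haveI : (J.map π).Normal := hJn.map π hπs
      exact (hoff A₀ hA₀ hA₀C).2.trans (Subgroup.normalClosure_le_normal
        (Subgroup.map_mono (Agent.Thompson.le_thompsonSubgroup hA₀)))
  let E' : Fin r → Subgroup G := fun i => (E i).comap π
  have hE'C : ∀ i, C ≤ E' i := fun i => hπker ▸ Subgroup.ker_le_comap π (E i)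
  have hE'map : ∀ i, (E' i).map π = E i := fun i =>
    Subgroup.map_comap_eq_self_of_surjective hπs _
  have hsup : (⨆ i, E' i) = J ⊔ C := by
    have h1 : C ≤ ⨆ i, E' i := (hE'C ⟨0, hE.pos⟩).trans (le_iSup E' _)
    have e : (⨆ i, E' i).map π = N := by
      rw [Subgroup.map_iSup, ← hEsup]; exact iSup_congr hE'map
    rw [← hcm _ h1, e, ← hJN, Subgroup.comap_map_eq, hπker]
  -- commutator subgroups
  have hin : ∀ i, ∀ u ∈ Agent.FFPM.movV (Additive ↥V) (E i), cv u ∈ ⁅V, E' i⁆ := by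
    intro i u hu
    induction hu using AddSubgroup.closure_induction with
    | mem u hu =>
      obtain ⟨z, hz, v, rfl⟩ := hu
      obtain ⟨g, rfl⟩ := hπs z
      rw [sub_eq_add_neg, hcva, hsmul, hcvn, Subgroup.commutator_comm]
      exact Subgroup.commutator_mem_commutator (show g ∈ E' i from hz) (hcvV v)
    | zero => rw [hcv0]; exact Subgroup.one_mem _
    | add a b _ _ ha hb => rw [hcva]; exact Subgroup.mul_mem _ ha hb
    | neg a _ ha => rw [hcvn]; exact Subgroup.inv_mem _ ha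
  have hout : ∀ i, ∀ x ∈ ⁅V, E' i⁆, ∃ u ∈ Agent.FFPM.movV (Additive ↥V) (E i), cv u = x := by
    intro i x hx
    let K : Subgroup G :=
      { carrier := {x | ∃ u ∈ Agent.FFPM.movV (Additive ↥V) (E i), cv u = x}
        one_mem' := ⟨0, zero_mem _, hcv0⟩
        mul_mem' := by
          rintro _ _ ⟨a, ha, rfl⟩ ⟨b, hb, rfl⟩
          exact ⟨a + b, add_mem ha hb, hcva a b⟩
        inv_mem' := by
          rintro _ ⟨a, ha, rfl⟩
          exact ⟨-a, neg_mem ha, hcvn a⟩ }
    have hle : ⁅V, E' i⁆ ≤ K := by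
      rw [Subgroup.commutator_comm, Subgroup.commutator_le]
      intro g hg v hv
      refine ⟨π g • (Additive.ofMul ⟨v, hv⟩ : Additive ↥V) - Additive.ofMul ⟨v, hv⟩,
        Agent.FFPM.sub_mem_movV (X := E i) (z := π g) hg _, ?_⟩
      rw [sub_eq_add_neg, hcva, hsmul, hcvn]
      rfl
    exact hle hx
  have hcen : ∀ i (u : Additive ↥V), u ∈ (Agent.FFSL2.fix (E i) : AddSubgroup (Additive ↥V)) ↔
      cv u ∈ Subgroup.centralizer ((E' i : Subgroup G) : Set G) := fun i u => by
    conv_lhs => rw [← hE'map i]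
    exact hfixmap _ _
  have hdec : ∀ i (v : Additive ↥V), ∃ u ∈ Agent.FFPM.movV (Additive ↥V) (E i),
      v - u ∈ (Agent.FFSL2.fix (E i) : AddSubgroup (Additive ↥V)) := by
    intro i v
    obtain ⟨c, hc, hrest⟩ := hE.split v
    have hle : (⨆ j, Agent.FFPM.movV (Additive ↥V) (E j)) ≤
        Agent.FFPM.movV (Additive ↥V) (E i) ⊔ Agent.FFSL2.fix (E i) := iSup_le fun j => by
      by_cases e : j = i
      · exact e ▸ le_sup_left
      · exact (hE.orth j i e).trans le_sup_right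
    obtain ⟨u, hu, w, hw, e⟩ := AddSubgroup.mem_sup.1 (hle hrest)
    refine ⟨u, hu, ?_⟩
    rw [show v - u = c + w by rw [eq_add_of_sub_eq' e.symm]; abel]
    exact add_mem (fun a ha => hc a ((le_iSup E i) ha)) hw
  have hnorm : ∀ i, E' i ≤ Subgroup.normalizer ((⁅V, E' i⁆ : Subgroup G) : Set G) := by
    intro i
    have key : ∀ z ∈ E' i, ∀ x ∈ ⁅V, E' i⁆, z * x * z⁻¹ ∈ ⁅V, E' i⁆ := by
      intro z hz x hx
      obtain ⟨u, hu, rfl⟩ := hout i x hx
      have := hin i _ (Agent.FFPM.smul_mem_movV (X := E i) (z := π z) hz hu)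
      rwa [hsmul] at this
    intro z hz
    rw [Subgroup.mem_normalizer_iff]
    intro x
    refine ⟨key z hz x, fun hx => ?_⟩
    have := key z⁻¹ (Subgroup.inv_mem _ hz) _ hx
    simpa [mul_assoc] using this
  refine ⟨r, E', hE'C, ?_, hsup, fun i j hij => ?_, fun i => ?_, fun i j => ?_, ?_,
    fun i j hij => ?_, fun i => ?_⟩
  · have e : (J ⊔ (T : Subgroup G) ⊔ C).map π = ⊤ := by
      have hC1 : C.map π = ⊥ := (Subgroup.map_eq_bot_iff C).2 hπker.ge
      rw [Subgroup.map_sup, Subgroup.map_sup, hC1, sup_bot_eq, hJN, ← hTb, ← hEsup]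
      exact hE.sup
    rw [← hcm _ le_sup_right, e, Subgroup.comap_top]
  · rw [Subgroup.commutator_le]
    intro a ha b hb
    refine hπker ▸ (MonoidHom.mem_ker.2 ?_ : ⁅a, b⁆ ∈ π.ker)
    rw [map_commutatorElement, commutatorElement_eq_one_iff_mul_comm]
    exact hE.com i j hij _ ha _ hb
  · intro x hx
    refine hπker ▸ (MonoidHom.mem_ker.2 ?_ : x ∈ π.ker)
    have h1 : π x ∈ E i ⊓ ⨆ j ∈ ({j | j ≠ i} : Set (Fin r)), E j := by
      refine ⟨hx.1, ?_⟩
      have hle : (⨆ j ∈ ({j | j ≠ i} : Set (Fin r)), E' j) ≤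
          (⨆ j ∈ ({j | j ≠ i} : Set (Fin r)), E j).comap π :=
        iSup₂_le fun j hj => Subgroup.comap_mono (le_iSup₂ (f := fun j _ => E j) j hj)
      exact hle hx.2
    rwa [hE.indep i, Subgroup.mem_bot] at h1
  · obtain ⟨t, ht, e⟩ := hE.trans i j
    rw [hTb] at ht
    obtain ⟨t₀, ht₀, rfl⟩ := ht
    refine ⟨t₀, ht₀, ?_⟩
    ext x
    show x ∈ ((E i).comap π).map (MulAut.conj t₀).toMonoidHom ↔ π x ∈ E j
    rw [← e, Agent.FFSL2.mem_cj]
    constructor
    · rintro ⟨y, hy, rfl⟩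
      have : (π t₀)⁻¹ * π ((MulAut.conj t₀).toMonoidHom y) * π t₀ = π y := by
        rw [← map_inv, ← map_mul, ← map_mul]
        simp [mul_assoc]
      rw [this]
      exact hy
    · intro hy
      refine ⟨t₀⁻¹ * x * t₀, ?_, by simp [mul_assoc]⟩
      show π (t₀⁻¹ * x * t₀) ∈ E i
      rwa [map_mul, map_mul, map_inv]
  · refine le_antisymm (sup_le inf_le_left (iSup_le fun i => ?_)) fun v hv => ?_
    · intro x hx
      obtain ⟨u, -, rfl⟩ := hout i x hx
      exact hcvV u
    obtain ⟨c, hc, hrest⟩ := hE.split (Additive.ofMul ⟨v, hv⟩)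
    have h1 : cv c ∈ Subgroup.centralizer (((⨆ i, E' i) : Subgroup G) : Set G) := by
      refine (hfixmap _ _).1 ?_
      rwa [Subgroup.map_iSup, show (⨆ i, (E' i).map π) = ⨆ i, E i from iSup_congr hE'map]
    have h2 : ∀ u ∈ (⨆ i, Agent.FFPM.movV (Additive ↥V) (E i)),
        cv u ∈ (⨆ i, ⁅V, E' i⁆ : Subgroup G) := by
      intro u hu
      induction hu using AddSubgroup.iSup_induction' with
      | hp i u hu => exact Subgroup.mem_iSup_of_mem i (hin i u hu)
      | h1 => rw [hcv0]; exact Subgroup.one_mem _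
      | hadd a b _ _ ha hb => rw [hcva]; exact Subgroup.mul_mem _ ha hb
    have e : v = cv c * cv (Additive.ofMul ⟨v, hv⟩ - c) := by
      rw [← hcva, add_sub_cancel]
      rfl
    rw [e]
    exact Subgroup.mul_mem _ (Subgroup.mem_sup_left ⟨hcvV c, h1⟩)
      (Subgroup.mem_sup_right (h2 _ hrest))
  · rw [Subgroup.commutator_eq_bot_iff_le_centralizer]
    intro x hx
    obtain ⟨u, hu, rfl⟩ := hout i x hx
    exact (hcen j u).1 (hE.orth i j hij hu)
  obtain ⟨n, hn, hshape⟩ := hE.shape i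
  refine ⟨n, hn, ?_⟩
  let φ : ↥(E' i) →* ↥(E i) := (π.comp (E' i).subtype).codRestrict (E i) fun z => z.2
  have hφ : ∀ z : ↥(E' i), ((φ z : ↥(E i)) : G ⧸ C) = π (z : G) := fun _ => rfl
  have hφs : Function.Surjective φ := fun y => by
    obtain ⟨g, hg⟩ := hπs y
    exact ⟨⟨g, show π g ∈ E i by rw [hg]; exact y.2⟩, Subtype.ext hg⟩
  haveI hnor : (C.subgroupOf (E' i)).Normal := Subgroup.Normal.subgroupOf inferInstance _
  have hφk : C.subgroupOf (E' i) = φ.ker := by
    ext z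
    rw [Subgroup.mem_subgroupOf, MonoidHom.mem_ker, ← QuotientGroup.eq_one_iff]
    exact ⟨fun h => Subtype.ext h, fun h => congrArg Subtype.val h⟩
  let iso : ↥(E' i) ⧸ C.subgroupOf (E' i) ≃* ↥(E i) :=
    (QuotientGroup.quotientMulEquivOfEq hφk).trans
      (QuotientGroup.quotientKerEquivOfSurjective φ hφs)
  let back : ↥⁅V, E' i⁆ → ↥(Agent.FFPM.movV (Additive ↥V) (E i)) := fun x =>
    ⟨(hout i x x.2).choose, (hout i x x.2).choose_spec.1⟩
  have hback : ∀ x, cv (back x) = x := fun x => (hout i x x.2).choose_spec.2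
  have hback_mul : ∀ x y, back (x * y) = back x + back y := fun x y => Subtype.ext (hcv (by
    rw [AddSubgroup.coe_add, hcva, hback, hback, hback]; rfl))
  have hback_conj : ∀ (z : ↥(E' i)) (x : ↥⁅V, E' i⁆) (hx : (z : G) * x * (z : G)⁻¹ ∈ ⁅V, E' i⁆),
      back ⟨_, hx⟩ = ⟨(φ z : G ⧸ C) • (back x : Additive ↥V),
        Agent.FFPM.smul_mem_movV (φ z).2 (back x).2⟩ := fun z x hx => Subtype.ext (hcv (by
    rw [hback]
    show _ = cv ((π (z : G)) • (back x : Additive ↥V))
    rw [hsmul, hback]))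
  have hconj : ∀ (z : ↥(E' i)) (x : ↥⁅V, E' i⁆), (z : G) * x * (z : G)⁻¹ ∈ ⁅V, E' i⁆ :=
    fun z x => (Subgroup.mem_normalizer_iff.1 (hnorm i z.2) x).1 x.2
  rcases hshape with ⟨F, i1, i2, ρ, ψ, hc, hsurj, hker, hψ⟩ | ⟨hp2, ρ, ψ, hsum, honto, hker, hψ⟩
  · letI : Field F := i1
    refine Or.inl ⟨F, i1, i2, hc, ⟨hnor, ⟨iso.trans ρ⟩⟩, hnorm i, inf_le_left, ρ.toMonoidHom.comp φ,
      MonoidHom.mk' (fun x => Multiplicative.ofAdd (ψ (back x : Additive ↥V))) (fun x y => ?_),
      MonoidHom.range_eq_top.2 (ρ.surjective.comp hφs), fun w => ?_, fun x => ?_, fun z x =>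
      ⟨⟨_, hconj z x⟩, rfl, ?_⟩⟩
    · rw [hback_mul, AddSubgroup.coe_add, map_add, ofAdd_add]
    · obtain ⟨v, hv⟩ := hsurj (Multiplicative.toAdd w)
      obtain ⟨u, hu, hu'⟩ := hdec i v
      refine ⟨⟨cv u, hin i u hu⟩, ?_⟩
      rw [MonoidHom.mk'_apply, show (back ⟨cv u, hin i u hu⟩ : Additive ↥V) = u from
        hcv (hback _)]
      have h3 : ψ (v - u) = 0 := (hker _).2 hu'
      rw [map_sub, sub_eq_zero] at h3
      rw [← h3, hv, ofAdd_toAdd]
    · rw [MonoidHom.mk'_apply, ofAdd_eq_one, hker, hcen, hback]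
      exact ⟨fun h => ⟨x.2, h⟩, fun h => h.2⟩
    · show ψ (back ⟨_, hconj z x⟩ : Additive ↥V) =
        (ρ (φ z) : Matrix (Fin 2) (Fin 2) F).mulVec (ψ (back x : Additive ↥V))
      rw [hback_conj]
      exact hψ (φ z) _
  · refine Or.inr ⟨hp2, ⟨hnor, ⟨iso.trans ρ⟩⟩, hnorm i, inf_le_left, ρ.toMonoidHom.comp φ,
      MonoidHom.mk' (fun x => Multiplicative.ofAdd (ψ (back x))) (fun x y => ?_),
      MonoidHom.range_eq_top.2 (ρ.surjective.comp hφs), fun x => ?_, fun w hw => ?_, fun x => ?_,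
      fun z x => ⟨⟨_, hconj z x⟩, rfl, fun k => ?_⟩⟩
    · rw [hback_mul, map_add, ofAdd_add]
    · exact hsum _
    · obtain ⟨u, hu⟩ := honto w hw
      refine ⟨⟨cv u, hin i _ u.2⟩, ?_⟩
      rw [MonoidHom.mk'_apply, toAdd_ofAdd, show back ⟨cv u, hin i _ u.2⟩ = u from
        Subtype.ext (hcv (hback _)), hu]
    · rw [MonoidHom.mk'_apply, ofAdd_eq_one, hker, hcen, hback]
      exact ⟨fun h => ⟨x.2, h⟩, fun h => h.2⟩
    · show ψ (back ⟨_, hconj z x⟩) k = ψ (back x) ((ρ (φ z))⁻¹ k)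
      rw [hback_conj]
      exact hψ (φ z) _ k

end Cfsg.Agent.S2981
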