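import Cfsg.Statements.S2982
import Cfsg.Agent.Lib.Thompson.Block.Main
-- import your own Cfsg.Agent.* helpers here

set_option autoImplicit false
open Cfsg

namespace Cfsg.Agent.S2982

/-- Pushing up for minimal parabolic groups. Let G be a finite p-minimal group (a Sylow p-subgroup T is not normal and lies in exactly one maximal subgroup) of characteristic p (C_G(O_p(G)) ≤ O_p(G)). Suppose that no nontrivial characteristic subgroup of the Baumann subgroup B(T) is normal in G and that Ω₁(Z(T)) is not normal in G. Then G has a set of B(T)-blocks with the block structure of the local C*(G,T)-Theorem, every block E with E/O_p(E) alternating of degree 2m+1 (p = 2) has 2m+1 = 2ⁿ+1, and C*(G,T) = (C*(G,T) ∩ ⟨blocks⟩)·T. -/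
theorem result {G : Type*} [Group G] [Finite G] {p : ℕ} [Fact p.Prime] (hmin : Cfsg.IsPMinimal p G) (hG : Subgroup.centralizer (Cfsg.pCore p G : Set G) ≤ Cfsg.pCore p G) (T : Sylow p G) (hchar : ∀ C : Subgroup G, C ≤ Cfsg.baumannSubgroupOf p (T : Subgroup G) → C ≠ ⊥ → (C.subgroupOf (Cfsg.baumannSubgroupOf p (T : Subgroup G))).Characteristic → ¬ C.Normal) (hz : ¬ (Cfsg.omegaOneCenter p (T : Subgroup G)).Normal) : ∃ 𝓑 : Set (Subgroup G), Cfsg.HasBaumannBlockStructure p (T : Subgroup G) 𝓑 ∧ (∀ E ∈ 𝓑, ∀ m : ℕ, Nonempty (↥E ⧸ Cfsg.pCore p ↥E ≃* ↥(alternatingGroup (Fin (2 * m + 1)))) → ∃ n : ℕ, 2 * m + 1 = 2 ^ n + 1) ∧ Cfsg.cStarOf p (T : Subgroup G) = (Cfsg.cStarOf p (T : Subgroup G) ⊓ sSup 𝓑) ⊔ (T : Subgroup G) := by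
  obtain ⟨M, q, h⟩ := Block82.exists_ctx hmin hG T hchar hz
  refine ⟨Block82.blockSet T q, ⟨fun E hE => (h.blockSet_block hE).1, fun E hE g => h.conj_mem hE g,
    fun E hE E' hE' hne => h.comm_of_ne hE hE' hne, ?_, fun F hF _ => h.block_le_some hF,
    h.inf_sSup, fun E hE => h.clauses hE⟩, fun E hE m hm => h.degree hE m hm, ?_⟩
  · rw [eq_top_iff, ← h.sup_T, sup_comm (cStarOf p _)]
    exact sup_le_sup_left h.T_le_cStar _
  · haveI := h.normal_sSup
    refine le_antisymm (fun x hx => ?_) (sup_le inf_le_left h.T_le_cStar)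
    obtain ⟨n, hn, t, ht, rfl⟩ := (Subgroup.mem_sup_of_normal_left (t := (T : Subgroup G))).1
      (h.sup_T.ge (Subgroup.mem_top x))
    refine Subgroup.mul_mem_sup ⟨?_, hn⟩ ht
    have := mul_mem hx (inv_mem (h.T_le_cStar ht))
    rwa [mul_inv_cancel_right] at this

end Cfsg.Agent.S2982
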