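import Cfsg.Statements.S2998
import Cfsg.Agent.LAE65.Basic

set_option autoImplicit false
open Cfsg

namespace Cfsg.Agent.S2998

/-- Let G be a finite group, p a prime, P a Sylow p-subgroup of G and x ∈ P an element such that N_G(R) ≤ C_G(x) for every nontrivial subgroup R of P. Then P ≤ C_G(x); every G-conjugate of x lying in P equals x (so g ∈ C_G(x) whenever g x g⁻¹ ∈ P); and for every normal subgroup N of G, the image of x in G ⧸ N has the same property with respect to the image of P: the normalizer of every nontrivial subgroup of the image of P centralizes the image of x. -/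
theorem result {G : Type*} [Group G] [Finite G] {p : ℕ} [Fact p.Prime] (P : Sylow p G) (x : G) (hxP : x ∈ (P : Subgroup G)) (hlc : ∀ R : Subgroup G, R ≤ (P : Subgroup G) → R ≠ ⊥ → Subgroup.normalizer (R : Set G) ≤ Subgroup.centralizer ({x} : Set G)) : (P : Subgroup G) ≤ Subgroup.centralizer ({x} : Set G) ∧ (∀ g : G, g * x * g⁻¹ ∈ (P : Subgroup G) → g * x * g⁻¹ = x) ∧ ∀ (N : Subgroup G) [N.Normal], ∀ R : Subgroup (G ⧸ N), R ≤ (P : Subgroup G).map (QuotientGroup.mk' N) → R ≠ ⊥ → Subgroup.normalizer (R : Set (G ⧸ N)) ≤ Subgroup.centralizer ({(QuotientGroup.mk x : G ⧸ N)} : Set (G ⧸ N)) := by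
  have hP : IsPGroup p (P : Subgroup G) := P.2
  by_cases hx1 : x = 1
  · subst hx1
    refine ⟨fun u _ => LAE65.mem_centralizer_singleton.2 (by simp), fun g _ => by simp,
      fun N _ R _ _ u _ => LAE65.mem_centralizer_singleton.2 (by simp)⟩
  have hPne : (P : Subgroup G) ≠ ⊥ := fun h => hx1 (Subgroup.mem_bot.1 (h ▸ hxP))
  have hPC : (P : Subgroup G) ≤ Subgroup.centralizer ({x} : Set G) :=
    le_trans Subgroup.le_normalizer (hlc _ le_rfl hPne)
  refine ⟨hPC, ?_, ?_⟩
  · intro g hgP
    set y := g * x * g⁻¹ with hy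
    have hy1 : y ≠ 1 := fun h => hx1 (by simpa [hy] using h)
    -- the centralizer of the conjugate lies in that of x, hence equals it
    have hle : Subgroup.centralizer ({y} : Set G) ≤ Subgroup.centralizer ({x} : Set G) := by
      refine le_trans ?_ (hlc _ (Subgroup.zpowers_le.2 hgP) (Subgroup.zpowers_ne_bot.2 hy1))
      intro u hu
      rw [LAE65.mem_normalizer_iff_map, MonoidHom.map_zpowers]
      congr 1
      exact LAE65.mem_centralizer_singleton_conj.1 hu
    have himg : (Subgroup.centralizer ({x} : Set G)).map (MulAut.conj g).toMonoidHom =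
        Subgroup.centralizer ({y} : Set G) := by
      ext u
      rw [LAE65.mem_map_conj_iff, LAE65.mem_centralizer_singleton_conj,
        LAE65.mem_centralizer_singleton_conj, hy]
      constructor
      · intro h
        calc u * (g * x * g⁻¹) * u⁻¹ = g * ((g⁻¹ * u * g) * x * (g⁻¹ * u * g)⁻¹) * g⁻¹ := by group
          _ = _ := by rw [h]
      · intro h
        calc (g⁻¹ * u * g) * x * (g⁻¹ * u * g)⁻¹ = g⁻¹ * (u * (g * x * g⁻¹) * u⁻¹) * g := by group
          _ = x := by rw [h]; group
    have hCeq : Subgroup.centralizer ({y} : Set G) = Subgroup.centralizer ({x} : Set G) :=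
      Subgroup.eq_of_le_of_card_ge hle (by rw [← himg, LAE65.card_map_conj])
    have hQ : (P : Subgroup G).map (MulAut.conj g).toMonoidHom ≤
        Subgroup.centralizer ({x} : Set G) := by
      rw [← hCeq, ← himg]; exact Subgroup.map_mono hPC
    have hi : ¬ p ∣ ((P : Subgroup G).map (MulAut.conj g).toMonoidHom).relIndex
        (Subgroup.centralizer ({x} : Set G)) :=
      LAE65.not_dvd_relIndex_of_le (g • P) hQ
    obtain ⟨c, hc, hce⟩ := LAE65.exists_conj_eq_in hQ hPC (LAE65.isPGroup_map_conj hP g) hP hi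
      (LAE65.not_dvd_relIndex_of_le P hPC)
    rw [LAE65.map_conj_mul, ← LAE65.mem_normalizer_iff_map] at hce
    have hcg := hlc _ le_rfl hPne hce
    exact LAE65.mem_centralizer_singleton_conj.1 (((Subgroup.centralizer ({x} : Set G)).mul_mem_cancel_left hc).1 hcg)
  · intro N _ R hR hRne
    intro u hu
    obtain ⟨u, rfl⟩ := QuotientGroup.mk_surjective u
    let π := QuotientGroup.mk' N
    set H := R.comap π with hH
    set R₀ := (P : Subgroup G) ⊓ H with hR₀
    have hN : N ≤ H := fun a ha => by
      show π a ∈ R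
      rw [show π a = 1 from (QuotientGroup.eq_one_iff a).2 ha]; exact R.one_mem
    have hdec : ∀ h ∈ H, ∃ a ∈ N, ∃ r ∈ R₀, h = a * r := by
      intro h hh
      obtain ⟨r, hr, hre⟩ := hR hh
      refine ⟨h * r⁻¹, ?_, r, ⟨hr, ?_⟩, by group⟩
      · rw [← QuotientGroup.eq_one_iff, QuotientGroup.mk_mul, QuotientGroup.mk_inv]
        exact mul_inv_eq_one.2 hre.symm
      · show π r ∈ R
        rw [hre]; exact hh
    have hne : R₀ ≠ ⊥ := by
      intro hb
      refine hRne ((Subgroup.eq_bot_iff_forall _).2 fun z hz => ?_)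
      obtain ⟨z, rfl⟩ := QuotientGroup.mk_surjective z
      obtain ⟨a, ha, r, hr, rfl⟩ := hdec z hz
      rw [hb, Subgroup.mem_bot] at hr
      rw [hr, mul_one]
      exact (QuotientGroup.eq_one_iff a).2 ha
    have hiR : ¬ p ∣ R₀.relIndex H := by
      have hHle : H ≤ (P : Subgroup G) ⊔ N := fun h hh => by
        obtain ⟨a, ha, r, hr, rfl⟩ := hdec h hh
        exact Subgroup.mul_mem _ (Subgroup.mem_sup_right ha) (Subgroup.mem_sup_left hr.1)
      obtain ⟨S, hRS, hSH, hS, hSi⟩ := LAE65.exists_sylow_in (p := p) (inf_le_right : R₀ ≤ H)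
        (hP.to_le inf_le_left)
      obtain ⟨g, hg, hgS⟩ := LAE65.exists_conj_le_in (p := p) (le_trans hSH hHle) hS
        (le_sup_left : (P : Subgroup G) ≤ _) hP (LAE65.not_dvd_relIndex_of_le P le_sup_left)
      rw [← SetLike.mem_coe, Subgroup.coe_mul_of_left_le_normalizer_right] at hg
      on_goal 2 => exact Subgroup.le_normalizer_of_normal
      obtain ⟨q, hq, b, hb, rfl⟩ := Set.mem_mul.1 hg
      have hSP : S.map (MulAut.conj b).toMonoidHom ≤ R₀ := by
        refine le_inf ?_ (LAE65.map_conj_le_of_mem hSH (hN hb))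
        intro z hz
        rw [LAE65.mem_map_conj_iff] at hz
        have h2 := hgS (LAE65.conj_mem_map (g := q * b) hz)
        have h3 : q * z * q⁻¹ ∈ (P : Subgroup G) := by simpa [mul_assoc] using h2
        have := (P : Subgroup G).mul_mem ((P : Subgroup G).mul_mem ((P : Subgroup G).inv_mem hq) h3) hq
        simpa [mul_assoc] using this
      have : R₀ = S := Subgroup.eq_of_le_of_card_ge hRS
        (le_trans (LAE65.card_map_conj S b).ge (Subgroup.card_le_of_le hSP))
      rw [this]; exact hSi
    have huH : u ∈ Subgroup.normalizer (H : Set G) := by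
      rw [Subgroup.mem_normalizer_iff]
      intro h
      show π h ∈ R ↔ π (u * h * u⁻¹) ∈ R
      rw [map_mul, map_mul, map_inv]
      exact Subgroup.mem_normalizer_iff.1 hu _
    obtain ⟨h, hh, hhe⟩ := LAE65.exists_conj_eq_in
      (LAE65.map_conj_le_of_normalizer (inf_le_right : R₀ ≤ H) huH) (inf_le_right : R₀ ≤ H)
      (LAE65.isPGroup_map_conj (hP.to_le inf_le_left) u) (hP.to_le inf_le_left)
      (by rw [LAE65.not_dvd_relIndex_map_conj huH]; exact hiR) hiR
    rw [LAE65.map_conj_mul, ← LAE65.mem_normalizer_iff_map] at hhe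
    have hc := hlc _ inf_le_left hne hhe
    have hh2 := hlc _ inf_le_left hne
    obtain ⟨a, ha, r, hr, rfl⟩ := hdec h hh
    have hrC : r ∈ Subgroup.centralizer ({x} : Set G) := hPC hr.1
    have h3 := LAE65.mem_centralizer_singleton.1 hc
    rw [LAE65.mem_centralizer_singleton]
    have h4 := congrArg π h3
    simp only [map_mul, show π a = 1 from (QuotientGroup.eq_one_iff a).2 ha, one_mul] at h4
    have h5 : π r * π x = π x * π r := by rw [← map_mul, ← map_mul, LAE65.mem_centralizer_singleton.1 hrC]
    change π u * π x = π x * π u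
    apply mul_left_cancel (a := π r)
    calc π r * (π u * π x) = π x * (π r * π u) := by rw [← mul_assoc]; exact h4
      _ = (π x * π r) * π u := by rw [mul_assoc]
      _ = π r * (π x * π u) := by rw [← h5, mul_assoc]

end Cfsg.Agent.S2998
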