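import Cfsg.Statements.S2999
import Cfsg.Agent.Lib.Thompson.FFSL2.Minimal
import Cfsg.Agent.Lib.Thompson.Replacement
-- import your own Cfsg.Agent.* helpers here

set_option autoImplicit false
set_option linter.style.haveILetI false
open Cfsg

namespace Cfsg.Agent.S2999

/-- Let p be a prime and let P and V be subgroups of a finite group with V elementary abelian, P normalizing V and acting faithfully on it (P ∩ C(V) = 1). Suppose P is p-minimal (a Sylow p-subgroup T of P is not normal and lies in a unique maximal subgroup M of P) and A ≤ T is an elementary abelian subgroup such that: |V/C_V(A)| ≤ |A| while |A₀|·|C_V(A₀)| < |A|·|C_V(A)| for every nontrivial proper subgroup A₀ of A; [C_V(T), P] ≠ 1; and P = ⟨A, xAx⁻¹⟩ for every x ∈ P outside M. Then, with q = |A|, there is a field F with q elements such that P ≅ SL₂(F), C_V(A) = [V, A]·C_V(P), and P acts on V/C_V(P) as SL₂(F) on its natural two-dimensional module. -/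
theorem result {G : Type*} [Group G] [Finite G] {p : ℕ} [Fact p.Prime] (V P : Subgroup G) (hV : Cfsg.IsElementaryAbelian p V) (hPV : P ≤ Subgroup.normalizer (V : Set G)) (hfaith : P ⊓ Subgroup.centralizer (V : Set G) = ⊥) (hmin : Cfsg.IsPMinimal p ↥P) (T : Sylow p ↥P) (M : Subgroup ↥P) (hM : IsCoatom M) (hTM : (T : Subgroup ↥P) ≤ M) (A : Subgroup G) (hAT : A ≤ ((T : Subgroup ↥P).map P.subtype)) (hAel : Cfsg.IsElementaryAbelian p A) (hi : Nat.card ↥V ≤ Nat.card ↥A * Nat.card ↥(V ⊓ Subgroup.centralizer ((A : Subgroup G) : Set G)) ∧ ∀ A₀ : Subgroup G, A₀ ≤ A → A₀ ≠ ⊥ → A₀ ≠ A → Nat.card ↥A₀ * Nat.card ↥(V ⊓ Subgroup.centralizer ((A₀ : Subgroup G) : Set G)) < Nat.card ↥A * Nat.card ↥(V ⊓ Subgroup.centralizer ((A : Subgroup G) : Set G))) (hii : ⁅(V ⊓ Subgroup.centralizer ((((T : Subgroup ↥P).map P.subtype) : Subgroup G) : Set G)), P⁆ ≠ ⊥) (hiii : ∀ x : ↥P, x ∉ M → A ⊔ A.map (MulAut.conj (x : G)).toMonoidHom = P) : ∃ (F : Type) (_ : Field F) (_ : Fintype F), Fintype.card F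 = Nat.card ↥A ∧ Nonempty (↥P ≃* Matrix.SpecialLinearGroup (Fin 2) F) ∧ (V ⊓ Subgroup.centralizer ((A : Subgroup G) : Set G)) = ⁅V, A⁆ ⊔ (V ⊓ Subgroup.centralizer ((P : Subgroup G) : Set G)) ∧ Cfsg.ActsAsSL2OnSection F ⊤ P V (V ⊓ Subgroup.centralizer ((P : Subgroup G) : Set G)) := by
  classical
  have hAP : A ≤ P := hAT.trans (Subgroup.map_subtype_le _)
  have hbot : ∀ x ∈ P, x ∈ Subgroup.centralizer (V : Set G) → x = 1 := fun x hx hc => by
    have h : x ∈ P ⊓ Subgroup.centralizer (V : Set G) := ⟨hx, hc⟩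
    rwa [hfaith, Subgroup.mem_bot] at h
  obtain ⟨hTn, M', hM', hMu⟩ := hmin T
  have hMM : M = M' := hMu M ⟨hM, hTM⟩
  have huniq : ∀ K : Subgroup ↥P, (T : Subgroup ↥P) ≤ K → K ≠ ⊤ → K ≤ M := by
    intro K hK hKt
    obtain ⟨N, hN, hKN⟩ := (eq_top_or_exists_le_coatom K).resolve_left hKt
    rw [hMM, ← hMu N ⟨hN, hK.trans hKN⟩]
    exact hKN
  obtain ⟨x₀, hx₀⟩ : ∃ x : ↥P, x ∉ M := by
    by_contra! h
    exact hM.1 ((Subgroup.eq_top_iff' M).2 h)
  have hAbot : A ≠ ⊥ := by
    intro h
    have h1 := hiii x₀ hx₀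
    rw [h, Subgroup.map_bot, sup_bot_eq] at h1
    refine hTn ⟨fun t ht z => ?_⟩
    haveI : Subsingleton ↥P := by rw [← h1]; infer_instance
    rw [Subsingleton.elim (z * t * z⁻¹) t]
    exact ht
  haveI : IsMulCommutative ↥V := hV.1
  haveI : IsMulCommutative ↥A := hAel.1
  have hApV : A ≤ Subgroup.normalizer (V : Set G) := hAP.trans hPV
  -- quadratic action
  have hbest : ∀ B, B ≤ A → Agent.Thompson.measureOn V B ≤ Agent.Thompson.measureOn V A := by
    intro B hB
    simp only [Agent.Thompson.measureOn_eq]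
    by_cases hB0 : B = ⊥
    · subst hB0
      rw [Subgroup.card_bot, one_mul]
      exact (Subgroup.card_le_of_le inf_le_left).trans hi.1
    by_cases hBA : B = A
    · rw [hBA]
    exact (hi.2 B hB hB0 hBA).le
  have hAA : ⁅A, A⁆ ≤ Subgroup.centralizer (V : Set G) := by
    rw [Subgroup.commutator_eq_bot_iff_le_centralizer.2 (Agent.Thompson.le_centralizer_self hAel.1)]
    exact bot_le
  obtain ⟨hm, -⟩ := Agent.Thompson.replProp_commutator hV.1 hApV hAA hbest (U := V) le_rfl
  set A₂ := A ⊓ Subgroup.centralizer ((⁅V, A⁆ : Subgroup G) : Set G) with hA₂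
  have hA₂A : A₂ = A := by
    by_contra hne
    refine (hi.2 A₂ inf_le_left ?_ hne).ne hm
    obtain ⟨-, -, hne₂⟩ := Agent.Thompson.bestOffender_replacement
      (Agent.Thompson.isPGroup_of_isElementaryAbelian hV) hV.1 hApV
      (A := A) ⟨hbest, hAA, fun a ha => by rw [hAel.2 a ha]; exact Subgroup.one_mem _⟩ (U := V) le_rfl
    intro h
    refine hne₂ (fun h1 => hAbot ((Subgroup.eq_bot_iff_forall _).2 fun x hx => ?_)) ?_
    · exact hbot x (hAP hx)
        ((Subgroup.commutator_eq_bot_iff_le_centralizer.mp (Subgroup.commutator_comm V A ▸ h1)) hx)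
    · rw [← hA₂, h, Subgroup.commutator_bot_right]
  -- the action
  have hmem : ∀ (h : ↥P) (v : ↥V), (h : G) * v * (h : G)⁻¹ ∈ V := fun h v =>
    (Subgroup.mem_normalizer_iff.1 (hPV h.2) v).1 v.2
  letI : AddCommGroup (Additive ↥V) :=
    { (inferInstance : AddGroup (Additive ↥V)) with
      add_comm := fun a b => Subtype.ext
        (Agent.Thompson.elemAb_comm hV.1 (Additive.toMul a).2 (Additive.toMul b).2) }
  letI : DistribMulAction ↥P (Additive ↥V) :=
    { smul := fun h v => Additive.ofMul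
        (⟨(h : G) * ((Additive.toMul v : ↥V) : G) * (h : G)⁻¹, hmem h (Additive.toMul v)⟩ : ↥V)
      one_smul := fun v => by
        apply Additive.toMul.injective
        exact Subtype.ext (by
          show ((1 : ↥P) : G) * _ * ((1 : ↥P) : G)⁻¹ = _
          simp)
      mul_smul := fun a b v => by
        apply Additive.toMul.injective
        exact Subtype.ext (by
          show ((a * b : ↥P) : G) * _ * ((a * b : ↥P) : G)⁻¹ = (a : G) * ((b : G) * _ * (b : G)⁻¹) * (a : G)⁻¹
          rw [Subgroup.coe_mul]; group)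
      smul_zero := fun h => by
        apply Additive.toMul.injective
        exact Subtype.ext (by
          show (h : G) * ((1 : ↥V) : G) * (h : G)⁻¹ = _
          simp)
      smul_add := fun h v w => by
        apply Additive.toMul.injective
        exact Subtype.ext (by
          show (h : G) * ((Additive.toMul v * Additive.toMul w : ↥V) : G) * (h : G)⁻¹ =
            ((h : G) * _ * (h : G)⁻¹) * ((h : G) * _ * (h : G)⁻¹)
          rw [Subgroup.coe_mul]; group) }
  let cv : Additive ↥V → G := fun v => ((Additive.toMul v : ↥V) : G)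
  have hcv : Function.Injective cv := fun a b h => Additive.toMul.injective (Subtype.ext h)
  have hsmul : ∀ (h : ↥P) (v : Additive ↥V), cv (h • v) = (h : G) * cv v * (h : G)⁻¹ :=
    fun _ _ => rfl
  have hfixmem : ∀ (K : Subgroup G), K ≤ P → ∀ v : Additive ↥V,
      v ∈ (Agent.FFSL2.fix (K.subgroupOf P) : AddSubgroup (Additive ↥V)) ↔
        cv v ∈ Subgroup.centralizer (K : Set G) := by
    intro K hK v
    rw [Subgroup.mem_centralizer_iff, Agent.FFSL2.mem_fix]
    constructor
    · intro h x hx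
      have h1 := congrArg cv (h ⟨x, hK hx⟩ hx)
      rw [hsmul, mul_inv_eq_iff_eq_mul] at h1
      exact h1
    · intro h a ha
      apply hcv
      rw [hsmul, show (a : G) * cv v = cv v * (a : G) from h _ ha, mul_inv_cancel_right]
  have hcard : ∀ (K : Subgroup G), K ≤ P →
      Nat.card ↥(V ⊓ Subgroup.centralizer (K : Set G)) =
        Nat.card ↥(Agent.FFSL2.fix (K.subgroupOf P) : AddSubgroup (Additive ↥V)) := fun K hK =>
    Nat.card_congr
      { toFun := fun x => ⟨Additive.ofMul ⟨x, x.2.1⟩, (hfixmem K hK _).2 x.2.2⟩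
        invFun := fun y => ⟨cv y, (Additive.toMul (y : Additive ↥V)).2, (hfixmem K hK _).1 y.2⟩
        left_inv := fun x => rfl
        right_inv := fun y => rfl }
  have hfai : ∀ h : ↥P, (∀ v : Additive ↥V, h • v = v) → h = 1 := by
    intro h hh
    refine Subtype.ext (hbot _ h.2 (Subgroup.mem_centralizer_iff.2 fun v hv => ?_))
    have h1 := congrArg cv (hh (Additive.ofMul ⟨v, hv⟩))
    rw [hsmul, mul_inv_eq_iff_eq_mul] at h1
    exact h1.symm
  have hp : ∀ v : Additive ↥V, p • v = 0 := fun v => by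
    apply hcv
    show ((Additive.toMul v ^ p : ↥V) : G) = 1
    rw [SubmonoidClass.coe_pow]
    exact hV.2 _ (Additive.toMul v).2
  have hcA : ∀ (K : Subgroup G), K ≤ P → Nat.card ↥(K.subgroupOf P) = Nat.card ↥K := fun K hK =>
    Nat.card_congr (Subgroup.subgroupOfEquivOfLe hK).toEquiv
  have hmapA : (A.subgroupOf P).map P.subtype = A := by
    rw [Subgroup.subgroupOf_map_subtype, inf_eq_left.2 hAP]
  have hquad : ∀ a ∈ A.subgroupOf P, ∀ v : Additive ↥V,
      a • v - v ∈ (Agent.FFSL2.fix (A.subgroupOf P) : AddSubgroup (Additive ↥V)) := by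
    intro a ha v
    rw [hfixmem A hAP, sub_eq_add_neg]
    show ((a : G) * cv v * (a : G)⁻¹) * (cv v)⁻¹ ∈ _
    rw [Subgroup.mem_centralizer_iff]
    intro b hb
    have hcomm : cv v * (a : G) * (cv v)⁻¹ * (a : G)⁻¹ ∈ (⁅V, A⁆ : Subgroup G) :=
      Subgroup.commutator_mem_commutator (Additive.toMul v).2 ha
    have hb' : b ∈ A₂ := hA₂A.symm ▸ hb
    have h1 := Subgroup.mem_centralizer_iff.1 hb'.2 _ ((⁅V, A⁆ : Subgroup G).inv_mem hcomm)
    rw [show (a : G) * cv v * (a : G)⁻¹ * (cv v)⁻¹ =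
      (cv v * (a : G) * (cv v)⁻¹ * (a : G)⁻¹)⁻¹ by group]
    exact h1.symm
  have conf : Agent.FFSL2.MinConf (Additive ↥V) T M (A.subgroupOf P) := by
    refine ⟨hM.1, hTM, huniq, hTn, fun a ha => ?_, fun h => hAbot ?_, fun a ha b hb => ?_, hquad,
      ?_, ?_, fun x hx => ?_, fun h => hii ?_⟩
    · obtain ⟨t, ht, e⟩ := hAT ha
      exact (Subtype.ext e : t = a) ▸ ht
    · rw [← hmapA, h, Subgroup.map_bot]
    · exact Subtype.ext (Agent.Thompson.elemAb_comm hAel.1 ha hb)
    · rw [hcA A hAP, ← hcard A hAP]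
      exact le_of_eq_of_le (Nat.card_congr Additive.toMul) hi.1
    · intro A₀ hle hne hneA
      set K := A₀.map P.subtype with hK
      have hKA : K ≤ A := (Subgroup.map_mono hle).trans hmapA.le
      have hKsub : K.subgroupOf P = A₀ := Subgroup.comap_map_eq_self_of_injective P.subtype_injective _
      have h1 := hi.2 K hKA
        (fun e => hne (by rw [← hKsub, e, Subgroup.bot_subgroupOf]))
        (fun e => hneA (by rw [← hKsub, e]))
      rw [hcard A hAP, hcard K (hKA.trans hAP), hKsub, ← hcA A hAP, ← hcA K (hKA.trans hAP),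
        hKsub] at h1
      exact h1
    · apply Subgroup.map_injective P.subtype_injective
      rw [← MonoidHom.range_eq_map, Subgroup.range_subtype, Subgroup.map_sup, hmapA]
      refine Eq.trans ?_ (hiii x hx)
      congr 1
      conv_rhs => rw [← hmapA]
      rw [Agent.FFSL2.cj, Subgroup.map_map, Subgroup.map_map]
      rfl
    · rw [Subgroup.commutator_eq_bot_iff_le_centralizer]
      intro w hw
      rw [Subgroup.mem_centralizer_iff]
      intro z hz
      have hTsub : ((T : Subgroup ↥P).map P.subtype).subgroupOf P = (T : Subgroup ↥P) :=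
        Subgroup.comap_map_eq_self_of_injective P.subtype_injective _
      have h1 := (hfixmem _ (Subgroup.map_subtype_le (T : Subgroup ↥P))
        (Additive.ofMul ⟨w, hw.1⟩)).2 hw.2
      rw [hTsub] at h1
      have h2 := h h1
      rw [← Subgroup.subgroupOf_self (H := P), hfixmem P le_rfl] at h2
      exact Subgroup.mem_centralizer_iff.1 h2 z hz
  obtain ⟨F, i1, i2, ρ, ψ, hcF, hψ⟩ := conf.natural_sl2 hp hfai
  have hfixtop : ∀ v : Additive ↥V,
      v ∈ (Agent.FFSL2.fix (⊤ : Subgroup ↥P) : AddSubgroup (Additive ↥V)) ↔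
        cv v ∈ V ⊓ Subgroup.centralizer ((P : Subgroup G) : Set G) := by
    intro v
    rw [← Subgroup.subgroupOf_self (H := P), hfixmem P le_rfl]
    exact ⟨fun h => ⟨(Additive.toMul v).2, h⟩, fun h => h.2⟩
  refine ⟨F, i1, i2, hcF.trans (hcA A hAP), ⟨ρ⟩, le_antisymm ?_ (sup_le ?_ ?_), ?_⟩
  · intro w hw
    have hAm := conf.self_mem hp
    obtain ⟨E, hE, hne⟩ := conf.exists_opp hp hAm
    obtain ⟨v, hv, hvA⟩ := conf.exists_fix_not hp hfai hAm hE hne
    have hw' : Additive.ofMul (⟨w, hw.1⟩ : ↥V) ∈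
        (Agent.FFSL2.fix (A.subgroupOf P) : AddSubgroup (Additive ↥V)) :=
      (hfixmem A hAP _).2 hw.2
    obtain ⟨a, ha, z, hz, e⟩ := conf.exists_eq_comm hp hfai hAm hE hne hv hvA hw'
    have e' : w = (a : G) * cv v * (a : G)⁻¹ * (cv v)⁻¹ * cv z := by
      have h1 := congrArg cv e
      rw [sub_eq_add_neg] at h1
      exact h1
    rw [e']
    refine Subgroup.mul_mem _ ((le_sup_left : ⁅V, A⁆ ≤ _) ?_) ((le_sup_right : V ⊓ _ ≤ _) ((hfixtop z).1 hz))
    rw [show (a : G) * cv v * (a : G)⁻¹ * (cv v)⁻¹ =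
      (cv v * (a : G) * (cv v)⁻¹ * (a : G)⁻¹)⁻¹ by group]
    exact Subgroup.inv_mem _ (Subgroup.commutator_mem_commutator (Additive.toMul v).2 ha)
  · exact le_inf (Agent.Thompson.commutator_le_of_le_normalizer hApV)
      (fun w hw => Subgroup.mem_centralizer_iff.2 fun b hb => by
        have hb' : b ∈ A₂ := hA₂A.symm ▸ hb
        exact (Subgroup.mem_centralizer_iff.1 hb'.2 w hw).symm)
  · exact inf_le_inf_left V (Subgroup.centralizer_le hAP)
  letI : Field F := i1
  refine ⟨hPV, inf_le_left, ρ.toMonoidHom, MonoidHom.mk'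
    (fun u => Multiplicative.ofAdd (ψ (QuotientAddGroup.mk (Additive.ofMul u)))) (fun u w => ?_),
    MonoidHom.range_eq_top.2 ρ.surjective, ?_, ?_, ?_⟩
  · rw [ofMul_mul, QuotientAddGroup.mk_add, map_add, ofAdd_add]
  · intro y
    obtain ⟨q, hq⟩ := ψ.surjective (Multiplicative.toAdd y)
    induction q using QuotientAddGroup.induction_on with
    | H v => exact ⟨Additive.toMul v, congrArg Multiplicative.ofAdd hq⟩
  · intro u
    simp only [MonoidHom.mk'_apply]
    rw [ofAdd_eq_one, map_eq_zero_iff ψ ψ.injective, QuotientAddGroup.eq_zero_iff, hfixtop]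
    rfl
  · intro e u
    exact ⟨Additive.toMul (e • (Additive.ofMul u)), rfl, hψ e (Additive.ofMul u)⟩

end Cfsg.Agent.S2999
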