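import Cfsg.Statements.S3000
import Cfsg.Agent.Lib.Thompson.FFPM.Offender

set_option linter.style.haveILetI false

set_option autoImplicit false
open Cfsg

namespace Cfsg.Agent.S3000

/-- Let p be a prime and let P and V be subgroups of a finite group with V elementary abelian, P normalizing V and acting faithfully on it (P ∩ C(V) = 1). Suppose P is p-minimal (a Sylow p-subgroup T of P is not normal and lies in a unique maximal subgroup M of P), O_p(P) = 1, C_P(C_V(T)) ≤ M, and P has a best offender on V: a subgroup A not centralizing V, with A/C_A(V) elementary abelian, such that |B|·|C_V(B)| ≤ |A|·|C_V(A)| for every subgroup B of A. Then there are subgroups E₁, …, E_r of P (r ≥ 1), pairwise commuting and forming with T a product P = (E₁ × ⋯ × E_r)T (internal direct product of the E_i), any two of which are conjugate by an element of T, such that V = C_V(E₁⋯E_r)·∏[V, E_i] with [V, E_i, E_j] = 1 for i ≠ j, and for each i there is n ≥ 1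 with either E_i ≅ SL₂(pⁿ) acting on [V, E_i]/C_{[V,E_i]}(E_i) as on its natural two-dimensional module, or p = 2 and E_i isomorphic to the symmetric group of degree 2ⁿ + 1 acting on [V, E_i]/C_{[V,E_i]}(E_i) as on its even-weight permutation module. -/
theorem result {G : Type*} [Group G] [Finite G] {p : ℕ} [Fact p.Prime] (V P : Subgroup G) (hV : Cfsg.IsElementaryAbelian p V) (hPV : P ≤ Subgroup.normalizer (V : Set G)) (hfaith : P ⊓ Subgroup.centralizer (V : Set G) = ⊥) (hmin : Cfsg.IsPMinimal p ↥P) (T : Sylow p ↥P) (M : Subgroup ↥P) (hM : IsCoatom M) (hTM : (T : Subgroup ↥P) ≤ M) (hOp : Cfsg.pCore p ↥P = ⊥) (hoff : ∃ A : Subgroup G, A ≤ P ∧ ¬ A ≤ Subgroup.centralizer (V : Set G) ∧ Cfsg.IsBestOffenderOn p V A) (hCT : P ⊓ Subgroup.centralizer ((V ⊓ Subgroup.centralizer ((((T : Subgroup ↥P).map P.subtype) : Subgroup G) : Set G)) : Set G) ≤ M.map P.subtype) : ∃ (r : ℕ) (E : Fin r → Subgroup G), 1 ≤ r ∧ (∀ i, E i ≤ P) ∧ (∀ i j, i ≠ j → ⁅E i,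 E j⁆ = ⊥) ∧ (∀ i, E i ⊓ (⨆ j ∈ {j | j ≠ i}, E j) = ⊥) ∧ (⨆ i, E i) ⊔ ((T : Subgroup ↥P).map P.subtype) = P ∧ (∀ i j, ∃ t ∈ ((T : Subgroup ↥P).map P.subtype), (E i).map (MulAut.conj t).toMonoidHom = E j) ∧ (V ⊓ Subgroup.centralizer (((⨆ i, E i) : Subgroup G) : Set G)) ⊔ (⨆ i, ⁅V, E i⁆) = V ∧ (∀ i j, i ≠ j → ⁅⁅V, E i⁆, E j⁆ = ⊥) ∧ ∀ i, ∃ n : ℕ, 1 ≤ n ∧ ((∃ (F : Type) (_ : Field F) (_ : Fintype F), Fintype.card F = p ^ n ∧ Nonempty (↥(E i) ≃* Matrix.SpecialLinearGroup (Fin 2) F) ∧ Cfsg.ActsAsSL2OnSection F ⊤ (E i) ⁅V, E i⁆ (⁅V, E i⁆ ⊓ Subgroup.centralizer ((E i : Subgroup G) : Set G))) ∨ (p = 2 ∧ Nonempty (↥(E i) ≃* Equiv.Perm (Fin (2 ^ n + 1))) ∧ Cfsg.ActsAsOddPermModuleOnSection (2 ^ n + 1) ⊤ (E i) ⁅V, E i⁆ (⁅V, E i⁆ ⊓ Subgroup.centralizer ((E i : Subgroup G) : Set G)))) := by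
  classical
  have hbot : ∀ x ∈ P, x ∈ Subgroup.centralizer (V : Set G) → x = 1 := fun x hx hc => by
    have h : x ∈ P ⊓ Subgroup.centralizer (V : Set G) := ⟨hx, hc⟩
    rwa [hfaith, Subgroup.mem_bot] at h
  obtain ⟨hTn, M', hM', hMu⟩ := hmin T
  have hMM : M = M' := hMu M ⟨hM, hTM⟩
  have huniq : ∀ K : Subgroup ↥P, (T : Subgroup ↥P) ≤ K → K ≠ ⊤ → K ≤ M := by
    intro K hK hKt
    obtain ⟨N, hN, hKN⟩ := (eq_top_or_exists_le_coatom K).resolve_left hKt
    rw [hMM, ← hMu N ⟨hN, hK.trans hKN⟩]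
    exact hKN
  haveI : IsMulCommutative ↥V := hV.1
  have hmem : ∀ (h : ↥P) (v : ↥V), (h : G) * v * (h : G)⁻¹ ∈ V := fun h v =>
    (Subgroup.mem_normalizer_iff.1 (hPV h.2) v).1 v.2
  letI : AddCommGroup (Additive ↥V) :=
    { (inferInstance : AddGroup (Additive ↥V)) with
      add_comm := fun a b => Subtype.ext
        (Agent.Thompson.elemAb_comm hV.1 (Additive.toMul a).2 (Additive.toMul b).2) }
  letI : DistribMulAction ↥P (Additive ↥V) :=
    { smul := fun h v => Additive.ofMul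
        (⟨(h : G) * ((Additive.toMul v : ↥V) : G) * (h : G)⁻¹, hmem h (Additive.toMul v)⟩ : ↥V)
      one_smul := fun v => by
        apply Additive.toMul.injective
        exact Subtype.ext (by
          show ((1 : ↥P) : G) * _ * ((1 : ↥P) : G)⁻¹ = _
          simp)
      mul_smul := fun a b v => by
        apply Additive.toMul.injective
        exact Subtype.ext (by
          show ((a * b : ↥P) : G) * _ * ((a * b : ↥P) : G)⁻¹ = (a : G) * ((b : G) * _ * (b : G)⁻¹) * (a : G)⁻¹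
          rw [Subgroup.coe_mul]; group)
      smul_zero := fun h => by
        apply Additive.toMul.injective
        exact Subtype.ext (by
          show (h : G) * ((1 : ↥V) : G) * (h : G)⁻¹ = _
          simp)
      smul_add := fun h v w => by
        apply Additive.toMul.injective
        exact Subtype.ext (by
          show (h : G) * ((Additive.toMul v * Additive.toMul w : ↥V) : G) * (h : G)⁻¹ =
            ((h : G) * _ * (h : G)⁻¹) * ((h : G) * _ * (h : G)⁻¹)
          rw [Subgroup.coe_mul]; group) }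
  let cv : Additive ↥V → G := fun v => ((Additive.toMul v : ↥V) : G)
  have hcv : Function.Injective cv := fun a b h => Additive.toMul.injective (Subtype.ext h)
  have hcv0 : cv 0 = 1 := rfl
  have hcva : ∀ u w : Additive ↥V, cv (u + w) = cv u * cv w := fun _ _ => rfl
  have hcvn : ∀ u : Additive ↥V, cv (-u) = (cv u)⁻¹ := fun _ => rfl
  have hcvV : ∀ u : Additive ↥V, cv u ∈ V := fun u => (Additive.toMul u).2
  have hsmul : ∀ (h : ↥P) (v : Additive ↥V), cv (h • v) = (h : G) * cv v * (h : G)⁻¹ :=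
    fun _ _ => rfl
  have hfixmem : ∀ (K : Subgroup G), K ≤ P → ∀ v : Additive ↥V,
      v ∈ (Agent.FFSL2.fix (K.subgroupOf P) : AddSubgroup (Additive ↥V)) ↔
        cv v ∈ Subgroup.centralizer (K : Set G) := by
    intro K hK v
    rw [Subgroup.mem_centralizer_iff, Agent.FFSL2.mem_fix]
    constructor
    · intro h x hx
      have h1 := congrArg cv (h ⟨x, hK hx⟩ hx)
      rw [hsmul, mul_inv_eq_iff_eq_mul] at h1
      exact h1
    · intro h a ha
      apply hcv
      rw [hsmul, show (a : G) * cv v = cv v * (a : G) from h _ ha, mul_inv_cancel_right]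
  have hfixmap : ∀ (K : Subgroup ↥P) (v : Additive ↥V),
      v ∈ (Agent.FFSL2.fix K : AddSubgroup (Additive ↥V)) ↔
        cv v ∈ Subgroup.centralizer ((K.map P.subtype : Subgroup G) : Set G) := fun K v => by
    rw [← hfixmem _ (Subgroup.map_subtype_le K),
      show (K.map P.subtype).subgroupOf P = K from
        Subgroup.comap_map_eq_self_of_injective P.subtype_injective K]
  have hfai : ∀ h : ↥P, (∀ v : Additive ↥V, h • v = v) → h = 1 := by
    intro h hh
    refine Subtype.ext (hbot _ h.2 (Subgroup.mem_centralizer_iff.2 fun v hv => ?_))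
    have h1 := congrArg cv (hh (Additive.ofMul ⟨v, hv⟩))
    rw [hsmul, mul_inv_eq_iff_eq_mul] at h1
    exact h1.symm
  have hp : ∀ v : Additive ↥V, p • v = 0 := fun v => by
    apply hcv
    show ((Additive.toMul v ^ p : ↥V) : G) = 1
    rw [SubmonoidClass.coe_pow]
    exact hV.2 _ (Additive.toMul v).2
  have hpm : Agent.FFPM.PM (Additive ↥V) T M := by
    refine ⟨hM.1, hTM, huniq, hTn, fun Q hQ hQp => ?_, hfai, hp, fun hle => hM.1 ?_⟩
    · exact le_bot_iff.1 ((le_sSup ⟨hQ, hQp⟩ : Q ≤ Cfsg.pCore p ↥P).trans hOp.le)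
    · rw [eq_top_iff]
      intro z _
      have hz : (z : G) ∈ M.map P.subtype := by
        refine hCT ⟨z.2, Subgroup.mem_centralizer_iff.2 fun w hw => ?_⟩
        have h1 : (Additive.ofMul ⟨w, hw.1⟩ : Additive ↥V) ∈
            (Agent.FFSL2.fix (T : Subgroup ↥P) : AddSubgroup (Additive ↥V)) :=
          (hfixmap _ _).2 hw.2
        have h2 := congrArg cv (hle h1 z (Subgroup.mem_top z))
        rw [hsmul, mul_inv_eq_iff_eq_mul] at h2
        exact h2.symm
      obtain ⟨m, hm, e⟩ := hz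
      exact (Subtype.ext e : m = z) ▸ hm
  obtain ⟨A₀, hA₀P, hA₀ne, hA₀⟩ := hoff
  obtain ⟨B, hBA, hBne, hBq, hBc⟩ :=
    Agent.FFPM.exists_quad_offender hV (hA₀P.trans hPV) hA₀ hA₀ne
  have hBP : B ≤ P := hBA.trans hA₀P
  obtain ⟨q, hconf⟩ := Agent.FFPM.exists_conf hpm (A := B.subgroupOf P)
    (fun e => hBne fun x hx => by
      have h1 : (⟨x, hBP hx⟩ : ↥P) ∈ B.subgroupOf P := hx
      rw [e, Subgroup.mem_bot, Subgroup.mk_eq_one] at h1
      rw [h1]
      exact Subgroup.one_mem _)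
    (fun b hb v => by
      rw [hfixmem B hBP, sub_eq_add_neg, hcva, hsmul, hcvn]
      exact hBq _ hb _ (hcvV v))
    (by
      have e1 : Nat.card ↥(B.subgroupOf P) = Nat.card ↥B :=
        Nat.card_congr (Subgroup.subgroupOfEquivOfLe hBP).toEquiv
      have e2 : Nat.card ↥(Agent.FFSL2.fix (B.subgroupOf P) : AddSubgroup (Additive ↥V)) =
          Nat.card ↥(V ⊓ Subgroup.centralizer (B : Set G)) := Nat.card_congr
        { toFun := fun y => ⟨cv y, hcvV _, (hfixmem B hBP _).1 y.2⟩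
          invFun := fun x => ⟨Additive.ofMul ⟨x, x.2.1⟩, (hfixmem B hBP _).2 x.2.2⟩
          left_inv := fun _ => rfl
          right_inv := fun _ => rfl }
      rw [Agent.FFPM.mu, e1, e2]
      exact le_of_eq_of_le (Nat.card_congr Additive.toMul) hBc)
  obtain ⟨r, E, hE⟩ := hconf.exists_components
  let E' : Fin r → Subgroup G := fun i => (E i).map P.subtype
  have hE'P : ∀ i, E' i ≤ P := fun i => Subgroup.map_subtype_le _
  -- the commutator subgroups
  have hin : ∀ i, ∀ u ∈ Agent.FFPM.movV (Additive ↥V) (E i), cv u ∈ ⁅V, E' i⁆ := by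
    intro i u hu
    induction hu using AddSubgroup.closure_induction with
    | mem u hu =>
      obtain ⟨z, hz, v, rfl⟩ := hu
      rw [sub_eq_add_neg, hcva, hsmul, hcvn, Subgroup.commutator_comm]
      exact Subgroup.commutator_mem_commutator ⟨z, hz, rfl⟩ (hcvV v)
    | zero => exact Subgroup.one_mem _
    | add a b _ _ ha hb => rw [hcva]; exact Subgroup.mul_mem _ ha hb
    | neg a _ ha => rw [hcvn]; exact Subgroup.inv_mem _ ha
  have hout : ∀ i, ∀ x ∈ ⁅V, E' i⁆, ∃ u ∈ Agent.FFPM.movV (Additive ↥V) (E i), cv u = x := by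
    intro i x hx
    let K : Subgroup G :=
      { carrier := {x | ∃ u ∈ Agent.FFPM.movV (Additive ↥V) (E i), cv u = x}
        one_mem' := ⟨0, zero_mem _, hcv0⟩
        mul_mem' := by
          rintro _ _ ⟨a, ha, rfl⟩ ⟨b, hb, rfl⟩
          exact ⟨a + b, add_mem ha hb, hcva a b⟩
        inv_mem' := by
          rintro _ ⟨a, ha, rfl⟩
          exact ⟨-a, neg_mem ha, hcvn a⟩ }
    have hle : ⁅V, E' i⁆ ≤ K := by
      rw [Subgroup.commutator_comm, Subgroup.commutator_le]
      rintro _ ⟨z, hz, rfl⟩ v hv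
      refine ⟨z • (Additive.ofMul ⟨v, hv⟩ : Additive ↥V) - Additive.ofMul ⟨v, hv⟩,
        Agent.FFPM.sub_mem_movV hz _, ?_⟩
      rw [sub_eq_add_neg, hcva, hsmul, hcvn]
      rfl
    exact hle hx
  have hdec : ∀ i (v : Additive ↥V), ∃ u ∈ Agent.FFPM.movV (Additive ↥V) (E i),
      v - u ∈ (Agent.FFSL2.fix (E i) : AddSubgroup (Additive ↥V)) := by
    intro i v
    obtain ⟨c, hc, hrest⟩ := hE.split v
    have hle : (⨆ j, Agent.FFPM.movV (Additive ↥V) (E j)) ≤
        Agent.FFPM.movV (Additive ↥V) (E i) ⊔ Agent.FFSL2.fix (E i) := iSup_le fun j => by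
      by_cases e : j = i
      · exact e ▸ le_sup_left
      · exact (hE.orth j i e).trans le_sup_right
    obtain ⟨u, hu, w, hw, e⟩ := AddSubgroup.mem_sup.1 (hle hrest)
    refine ⟨u, hu, ?_⟩
    rw [show v - u = c + w by rw [eq_add_of_sub_eq' e.symm]; abel]
    exact add_mem (fun a ha => hc a ((le_iSup E i) ha)) hw
  have hnorm : ∀ i, E' i ≤ Subgroup.normalizer ((⁅V, E' i⁆ : Subgroup G) : Set G) := by
    intro i
    have key : ∀ z ∈ E' i, ∀ x ∈ ⁅V, E' i⁆, z * x * z⁻¹ ∈ ⁅V, E' i⁆ := by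
      rintro _ ⟨z, hz, rfl⟩ x hx
      obtain ⟨u, hu, rfl⟩ := hout i x hx
      have := hin i _ (Agent.FFPM.smul_mem_movV hz hu)
      rwa [hsmul] at this
    intro z hz
    rw [Subgroup.mem_normalizer_iff]
    intro x
    refine ⟨key z hz x, fun hx => ?_⟩
    have := key z⁻¹ (Subgroup.inv_mem _ hz) _ hx
    simpa [mul_assoc] using this
  refine ⟨r, E', hE.pos, hE'P, fun i j hij => ?_, fun i => ?_, ?_, fun i j => ?_, ?_,
    fun i j hij => ?_, fun i => ?_⟩
  · rw [Subgroup.commutator_eq_bot_iff_le_centralizer]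
    rintro _ ⟨a, ha, rfl⟩
    rw [Subgroup.mem_centralizer_iff]
    rintro _ ⟨b, hb, rfl⟩
    exact (congrArg Subtype.val (hE.com i j hij a ha b hb)).symm
  · have e : (⨆ j ∈ ({j | j ≠ i} : Set (Fin r)), E' j) =
        (⨆ j ∈ ({j | j ≠ i} : Set (Fin r)), E j).map P.subtype := by
      simp only [E', Subgroup.map_iSup]
    rw [e, ← Subgroup.map_inf _ _ _ P.subtype_injective, hE.indep i, Subgroup.map_bot]
  · have e : (⨆ i, E' i) = (⨆ i, E i).map P.subtype := by simp only [E', Subgroup.map_iSup]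
    rw [e, ← Subgroup.map_sup, hE.sup, ← MonoidHom.range_eq_map, Subgroup.range_subtype]
  · obtain ⟨t, ht, e⟩ := hE.trans i j
    refine ⟨t, ⟨t, ht, rfl⟩, ?_⟩
    show ((E i).map P.subtype).map _ = (E j).map P.subtype
    rw [← e, Agent.FFSL2.cj, Subgroup.map_map, Subgroup.map_map]
    rfl
  · refine le_antisymm (sup_le inf_le_left (iSup_le fun i => ?_)) fun v hv => ?_
    · intro x hx
      obtain ⟨u, -, rfl⟩ := hout i x hx
      exact hcvV u
    obtain ⟨c, hc, hrest⟩ := hE.split (Additive.ofMul ⟨v, hv⟩)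
    have h1 : cv c ∈ Subgroup.centralizer (((⨆ i, E' i) : Subgroup G) : Set G) := by
      have e : (⨆ i, E' i) = (⨆ i, E i).map P.subtype := by simp only [E', Subgroup.map_iSup]
      rw [e]
      exact (hfixmap _ _).1 hc
    have h2 : ∀ u ∈ (⨆ i, Agent.FFPM.movV (Additive ↥V) (E i)),
        cv u ∈ (⨆ i, ⁅V, E' i⁆ : Subgroup G) := by
      intro u hu
      induction hu using AddSubgroup.iSup_induction' with
      | hp i u hu => exact Subgroup.mem_iSup_of_mem i (hin i u hu)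
      | h1 => exact Subgroup.one_mem _
      | hadd a b _ _ ha hb => rw [hcva]; exact Subgroup.mul_mem _ ha hb
    have e : v = cv c * cv (Additive.ofMul ⟨v, hv⟩ - c) := by
      rw [← hcva, add_sub_cancel]
      rfl
    rw [e]
    exact Subgroup.mul_mem _ (Subgroup.mem_sup_left ⟨hcvV c, h1⟩)
      (Subgroup.mem_sup_right (h2 _ hrest))
  · rw [Subgroup.commutator_eq_bot_iff_le_centralizer]
    intro x hx
    obtain ⟨u, hu, rfl⟩ := hout i x hx
    exact (hfixmap _ _).1 (hE.orth i j hij hu)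
  obtain ⟨n, hn, hshape⟩ := hE.shape i
  refine ⟨n, hn, ?_⟩
  let eE : ↥(E' i) ≃* ↥(E i) :=
    ((E i).equivMapOfInjective P.subtype P.subtype_injective).symm
  have heE : ∀ z : ↥(E' i), ((eE z : ↥P) : G) = (z : G) := fun z => by
    conv_rhs => rw [← MulEquiv.apply_symm_apply eE.symm z]
    rfl
  have hU0 : ∀ u : Additive ↥V,
      u ∈ (Agent.FFSL2.fix (E i) : AddSubgroup (Additive ↥V)) ↔
        cv u ∈ Subgroup.centralizer ((E' i : Subgroup G) : Set G) := hfixmap _
  let back : ↥⁅V, E' i⁆ → ↥(Agent.FFPM.movV (Additive ↥V) (E i)) := fun x =>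
    ⟨(hout i x x.2).choose, (hout i x x.2).choose_spec.1⟩
  have hback : ∀ x, cv (back x) = x := fun x => (hout i x x.2).choose_spec.2
  have hback_mul : ∀ x y, back (x * y) = back x + back y := fun x y => Subtype.ext (hcv (by
    rw [AddSubgroup.coe_add, hcva, hback, hback, hback]; rfl))
  have hback_conj : ∀ (z : ↥(E' i)) (x : ↥⁅V, E' i⁆) (hx : (z : G) * x * (z : G)⁻¹ ∈ ⁅V, E' i⁆),
      back ⟨_, hx⟩ = ⟨(eE z : ↥P) • (back x : Additive ↥V),
        Agent.FFPM.smul_mem_movV (eE z).2 (back x).2⟩ := fun z x hx => Subtype.ext (hcv (by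
    rw [hback, hsmul, hback, heE]))
  have hconj : ∀ (z : ↥(E' i)) (x : ↥⁅V, E' i⁆), (z : G) * x * (z : G)⁻¹ ∈ ⁅V, E' i⁆ :=
    fun z x => (Subgroup.mem_normalizer_iff.1 (hnorm i z.2) x).1 x.2
  rcases hshape with ⟨F, i1, i2, ρ, ψ, hc, hsurj, hker, hψ⟩ | ⟨hp2, ρ, ψ, hsum, honto, hker, hψ⟩
  · letI : Field F := i1
    refine Or.inl ⟨F, i1, i2, hc, ⟨eE.trans ρ⟩, hnorm i, inf_le_left, (eE.trans ρ).toMonoidHom,
      MonoidHom.mk' (fun x => Multiplicative.ofAdd (ψ (back x : Additive ↥V))) (fun x y => ?_),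
      MonoidHom.range_eq_top.2 (eE.trans ρ).surjective, fun w => ?_, fun x => ?_, fun z x =>
      ⟨⟨_, hconj z x⟩, rfl, ?_⟩⟩
    · rw [hback_mul, AddSubgroup.coe_add, map_add, ofAdd_add]
    · obtain ⟨v, hv⟩ := hsurj (Multiplicative.toAdd w)
      obtain ⟨u, hu, hu'⟩ := hdec i v
      refine ⟨⟨cv u, hin i u hu⟩, ?_⟩
      rw [MonoidHom.mk'_apply, show (back ⟨cv u, hin i u hu⟩ : Additive ↥V) = u from
        hcv (hback _)]
      have h3 : ψ (v - u) = 0 := (hker _).2 hu'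
      rw [map_sub, sub_eq_zero] at h3
      rw [← h3, hv, ofAdd_toAdd]
    · rw [MonoidHom.mk'_apply, ofAdd_eq_one, hker, hU0, hback]
      exact ⟨fun h => ⟨x.2, h⟩, fun h => h.2⟩
    · show ψ (back ⟨_, hconj z x⟩ : Additive ↥V) =
        (ρ (eE z) : Matrix (Fin 2) (Fin 2) F).mulVec (ψ (back x : Additive ↥V))
      rw [hback_conj]
      exact hψ (eE z) _
  · refine Or.inr ⟨hp2, ⟨eE.trans ρ⟩, hnorm i, inf_le_left, (eE.trans ρ).toMonoidHom,
      MonoidHom.mk' (fun x => Multiplicative.ofAdd (ψ (back x))) (fun x y => ?_),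
      MonoidHom.range_eq_top.2 (eE.trans ρ).surjective, fun x => ?_, fun w hw => ?_, fun x => ?_,
      fun z x => ⟨⟨_, hconj z x⟩, rfl, fun k => ?_⟩⟩
    · rw [hback_mul, map_add, ofAdd_add]
    · exact hsum _
    · obtain ⟨u, hu⟩ := honto w hw
      refine ⟨⟨cv u, hin i _ u.2⟩, ?_⟩
      rw [MonoidHom.mk'_apply, toAdd_ofAdd, show back ⟨cv u, hin i _ u.2⟩ = u from
        Subtype.ext (hcv (hback _)), hu]
    · rw [MonoidHom.mk'_apply, ofAdd_eq_one, hker, hU0, hback]
      exact ⟨fun h => ⟨x.2, h⟩, fun h => h.2⟩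
    · show ψ (back ⟨_, hconj z x⟩) k = ψ (back x) ((ρ (eE z))⁻¹ k)
      rw [hback_conj]
      exact hψ (eE z) _ k


end Cfsg.Agent.S3000
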