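import Cfsg.Statements.S3001
import Cfsg.Agent.Lib.Thompson.FFPM.Lift
import Cfsg.Agent.Lib.Thompson.FFPM.Offender

set_option linter.style.haveILetI false

set_option autoImplicit false
open Cfsg

namespace Cfsg.Agent.S3001

/-- Let p be a prime and let P and V be subgroups of a finite group with V elementary abelian, P normalizing V and acting faithfully on it (P ∩ C(V) = 1). Suppose P is p-minimal (a Sylow p-subgroup is not normal and lies in a unique maximal subgroup), O_p(P) = 1, and P has a best offender on V (a subgroup A not centralizing V, with A/C_A(V) elementary abelian and |B|·|C_V(B)| ≤ |A|·|C_V(A)| for every B ≤ A). Then [C_V(T), P] ≠ 1 for every Sylow p-subgroup T of P. -/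
theorem result {G : Type*} [Group G] [Finite G] {p : ℕ} [Fact p.Prime] (V P : Subgroup G) (hV : Cfsg.IsElementaryAbelian p V) (hPV : P ≤ Subgroup.normalizer (V : Set G)) (hfaith : P ⊓ Subgroup.centralizer (V : Set G) = ⊥) (hmin : Cfsg.IsPMinimal p ↥P) (hOp : Cfsg.pCore p ↥P = ⊥) (hoff : ∃ A : Subgroup G, A ≤ P ∧ ¬ A ≤ Subgroup.centralizer (V : Set G) ∧ Cfsg.IsBestOffenderOn p V A) (T : Sylow p ↥P) : ⁅(V ⊓ Subgroup.centralizer ((((T : Subgroup ↥P).map P.subtype) : Subgroup G) : Set G)), P⁆ ≠ ⊥ := by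
  classical
  have hbot : ∀ x ∈ P, x ∈ Subgroup.centralizer (V : Set G) → x = 1 := fun x hx hc => by
    have h : x ∈ P ⊓ Subgroup.centralizer (V : Set G) := ⟨hx, hc⟩
    rwa [hfaith, Subgroup.mem_bot] at h
  obtain ⟨hTn, M, ⟨hM, hTM⟩, hMu⟩ := hmin T
  have huniq : ∀ K : Subgroup ↥P, (T : Subgroup ↥P) ≤ K → K ≠ ⊤ → K ≤ M := by
    intro K hK hKt
    obtain ⟨N, hN, hKN⟩ := (eq_top_or_exists_le_coatom K).resolve_left hKt
    rw [← hMu N ⟨hN, hK.trans hKN⟩]
    exact hKN
  haveI : IsMulCommutative ↥V := hV.1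
  have hmem : ∀ (h : ↥P) (v : ↥V), (h : G) * v * (h : G)⁻¹ ∈ V := fun h v =>
    (Subgroup.mem_normalizer_iff.1 (hPV h.2) v).1 v.2
  letI : AddCommGroup (Additive ↥V) :=
    { (inferInstance : AddGroup (Additive ↥V)) with
      add_comm := fun a b => Subtype.ext
        (Agent.Thompson.elemAb_comm hV.1 (Additive.toMul a).2 (Additive.toMul b).2) }
  letI : DistribMulAction ↥P (Additive ↥V) :=
    { smul := fun h v => Additive.ofMul
        (⟨(h : G) * ((Additive.toMul v : ↥V) : G) * (h : G)⁻¹, hmem h (Additive.toMul v)⟩ : ↥V)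
      one_smul := fun v => by
        apply Additive.toMul.injective
        exact Subtype.ext (by
          show ((1 : ↥P) : G) * _ * ((1 : ↥P) : G)⁻¹ = _
          simp)
      mul_smul := fun a b v => by
        apply Additive.toMul.injective
        exact Subtype.ext (by
          show ((a * b : ↥P) : G) * _ * ((a * b : ↥P) : G)⁻¹ = (a : G) * ((b : G) * _ * (b : G)⁻¹) * (a : G)⁻¹
          rw [Subgroup.coe_mul]; group)
      smul_zero := fun h => by
        apply Additive.toMul.injective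
        exact Subtype.ext (by
          show (h : G) * ((1 : ↥V) : G) * (h : G)⁻¹ = _
          simp)
      smul_add := fun h v w => by
        apply Additive.toMul.injective
        exact Subtype.ext (by
          show (h : G) * ((Additive.toMul v * Additive.toMul w : ↥V) : G) * (h : G)⁻¹ =
            ((h : G) * _ * (h : G)⁻¹) * ((h : G) * _ * (h : G)⁻¹)
          rw [Subgroup.coe_mul]; group) }
  let cv : Additive ↥V → G := fun v => ((Additive.toMul v : ↥V) : G)
  have hcv : Function.Injective cv := fun a b h => Additive.toMul.injective (Subtype.ext h)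
  have hcv0 : cv 0 = 1 := rfl
  have hcva : ∀ u w : Additive ↥V, cv (u + w) = cv u * cv w := fun _ _ => rfl
  have hcvn : ∀ u : Additive ↥V, cv (-u) = (cv u)⁻¹ := fun _ => rfl
  have hcvV : ∀ u : Additive ↥V, cv u ∈ V := fun u => (Additive.toMul u).2
  have hsmul : ∀ (h : ↥P) (v : Additive ↥V), cv (h • v) = (h : G) * cv v * (h : G)⁻¹ :=
    fun _ _ => rfl
  have hfixmem : ∀ (K : Subgroup G), K ≤ P → ∀ v : Additive ↥V,
      v ∈ (Agent.FFSL2.fix (K.subgroupOf P) : AddSubgroup (Additive ↥V)) ↔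
        cv v ∈ Subgroup.centralizer (K : Set G) := by
    intro K hK v
    rw [Subgroup.mem_centralizer_iff, Agent.FFSL2.mem_fix]
    constructor
    · intro h x hx
      have h1 := congrArg cv (h ⟨x, hK hx⟩ hx)
      rw [hsmul, mul_inv_eq_iff_eq_mul] at h1
      exact h1
    · intro h a ha
      apply hcv
      rw [hsmul, show (a : G) * cv v = cv v * (a : G) from h _ ha, mul_inv_cancel_right]
  have hfixmap : ∀ (K : Subgroup ↥P) (v : Additive ↥V),
      v ∈ (Agent.FFSL2.fix K : AddSubgroup (Additive ↥V)) ↔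
        cv v ∈ Subgroup.centralizer ((K.map P.subtype : Subgroup G) : Set G) := fun K v => by
    rw [← hfixmem _ (Subgroup.map_subtype_le K),
      show (K.map P.subtype).subgroupOf P = K from
        Subgroup.comap_map_eq_self_of_injective P.subtype_injective K]
  have hfai : ∀ h : ↥P, (∀ v : Additive ↥V, h • v = v) → h = 1 := by
    intro h hh
    refine Subtype.ext (hbot _ h.2 (Subgroup.mem_centralizer_iff.2 fun v hv => ?_))
    have h1 := congrArg cv (hh (Additive.ofMul ⟨v, hv⟩))
    rw [hsmul, mul_inv_eq_iff_eq_mul] at h1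
    exact h1.symm
  have hp : ∀ v : Additive ↥V, p • v = 0 := fun v => by
    apply hcv
    show ((Additive.toMul v ^ p : ↥V) : G) = 1
    rw [SubmonoidClass.coe_pow]
    exact hV.2 _ (Additive.toMul v).2
  obtain ⟨A₀, hA₀P, hA₀ne, hA₀⟩ := hoff
  obtain ⟨B, hBA, hBne, hBq, hBc⟩ :=
    Agent.FFPM.exists_quad_offender hV (hA₀P.trans hPV) hA₀ hA₀ne
  have hBP : B ≤ P := hBA.trans hA₀P
  intro hcom
  rw [Subgroup.commutator_eq_bot_iff_le_centralizer] at hcom
  refine Agent.FFPM.fix_T_not_le (H := ↥P) (Nat.card (Additive ↥V)) (Additive ↥V) le_rfl T M hM.1 hTM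
    huniq hTn (fun Q hQ hQp =>
      le_bot_iff.1 ((le_sSup ⟨hQ, hQp⟩ : Q ≤ Cfsg.pCore p ↥P).trans hOp.le))
    hfai hp ⟨B.subgroupOf P, fun e => hBne fun x hx => ?_, fun b hb v => ?_, ?_⟩
    fun v hv z _ => hcv ?_
  · have h1 : (⟨x, hBP hx⟩ : ↥P) ∈ B.subgroupOf P := hx
    rw [e, Subgroup.mem_bot, Subgroup.mk_eq_one] at h1
    rw [h1]
    exact Subgroup.one_mem _
  · rw [hfixmem B hBP, sub_eq_add_neg, hcva, hsmul, hcvn]
    exact hBq _ hb _ (hcvV v)
  · have e1 : Nat.card ↥(B.subgroupOf P) = Nat.card ↥B :=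
      Nat.card_congr (Subgroup.subgroupOfEquivOfLe hBP).toEquiv
    have e2 : Nat.card ↥(Agent.FFSL2.fix (B.subgroupOf P) : AddSubgroup (Additive ↥V)) =
        Nat.card ↥(V ⊓ Subgroup.centralizer (B : Set G)) := Nat.card_congr
      { toFun := fun y => ⟨cv y, hcvV _, (hfixmem B hBP _).1 y.2⟩
        invFun := fun x => ⟨Additive.ofMul ⟨x, x.2.1⟩, (hfixmem B hBP _).2 x.2.2⟩
        left_inv := fun _ => rfl
        right_inv := fun _ => rfl }
    rw [Agent.FFPM.mu, e1, e2]
    exact le_of_eq_of_le (Nat.card_congr Additive.toMul) hBc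
  · rw [hsmul, mul_inv_eq_iff_eq_mul]
    exact Subgroup.mem_centralizer_iff.1 (hcom ⟨hcvV v, (hfixmap _ _).1 hv⟩) z z.2

end Cfsg.Agent.S3001
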