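import Cfsg.Statements.S3003
import Cfsg.Agent.LAE65.Basic
import Cfsg.Agent.Lib.Coprime.Generation

set_option autoImplicit false
open Cfsg

namespace Cfsg.Agent.S3003

/-- Let G be a finite group, p a prime and Q a large p-subgroup of G: C_G(Q) ≤ Q and N_G(U) ≤ N_G(Q) for every nontrivial subgroup U of C_G(Q). Let Q ≤ G₁ ≤ G, let R be a subgroup of order prime to p normalized by G₁, and let U ≤ G₁ be a p-subgroup. If U contains a nontrivial element which is G₁-conjugate to an element of Z(Q), then C_R(U) = 1. In particular, if U is elementary abelian of order at least p² and every maximal subgroup of U contains a nontrivial element G₁-conjugate into Z(Q), then R = 1. -/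
theorem result {G : Type*} [Group G] [Finite G] {p : ℕ} [Fact p.Prime] (Q : Subgroup G) (hQp : IsPGroup p ↥Q) (hlarge : Cfsg.IsLarge Q) (G₁ : Subgroup G) (hQG : Q ≤ G₁) (R : Subgroup G) (hR : (Nat.card ↥R).Coprime p) (hGR : G₁ ≤ Subgroup.normalizer (R : Set G)) (U : Subgroup G) (hUG : U ≤ G₁) (hUp : IsPGroup p ↥U) : ((∃ x ∈ U, x ≠ 1 ∧ ∃ g ∈ G₁, g * x * g⁻¹ ∈ Q ⊓ Subgroup.centralizer (Q : Set G)) → R ⊓ Subgroup.centralizer (U : Set G) = ⊥) ∧ (Cfsg.IsElementaryAbelian p U → p ^ 2 ≤ Nat.card ↥U → (∀ U₀ : Subgroup G, U₀ ≤ U → IsCoatom (U₀.subgroupOf U) → ∃ x ∈ U₀, x ≠ 1 ∧ ∃ g ∈ G₁, g * x * g⁻¹ ∈ Q ⊓ Subgroup.centralizer (Q : Set G)) → R = ⊥) := by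
  have hp : p.Prime := Fact.out
  have key : ∀ z ∈ Q ⊓ Subgroup.centralizer (Q : Set G), z ≠ 1 →
      R ⊓ Subgroup.centralizer ({z} : Set G) = ⊥ := by
    intro z hz hz1
    rw [Subgroup.eq_bot_iff_forall]
    rintro r ⟨hr, hrz⟩
    have hN : r ∈ Subgroup.normalizer (Q : Set G) := by
      refine hlarge.2 (Subgroup.zpowers z) (Subgroup.zpowers_le.2 hz.2)
        (Subgroup.zpowers_ne_bot.2 hz1) ?_
      rw [LAE65.mem_normalizer_iff_map, MonoidHom.map_zpowers]
      congr 1
      exact LAE65.mem_centralizer_singleton_conj.1 hrz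
    have hcop : R ⊓ Q = ⊥ := by
      refine Subgroup.inf_eq_bot_of_coprime ?_
      obtain ⟨n, hn⟩ := IsPGroup.iff_card.1 hQp
      rw [hn]; exact hR.pow_right n
    have hrQ : r ∈ Subgroup.centralizer (Q : Set G) := by
      rw [Subgroup.mem_centralizer_iff]
      intro q hq
      have hqR : r * q * r⁻¹ * q⁻¹ ∈ R := by
        have h1 := (Subgroup.mem_normalizer_iff.1 (hGR (hQG hq)) r⁻¹).1 (R.inv_mem hr)
        simpa [mul_assoc] using R.mul_mem hr h1
      have hqQ : r * q * r⁻¹ * q⁻¹ ∈ Q :=
        Q.mul_mem ((Subgroup.mem_normalizer_iff.1 hN q).1 hq) (Q.inv_mem hq)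
      have h := hcop.le ⟨hqR, hqQ⟩
      rw [Subgroup.mem_bot, mul_inv_eq_one, mul_inv_eq_iff_eq_mul] at h
      exact h.symm
    exact Subgroup.mem_bot.1 (hcop.le ⟨hr, hlarge.1 hrQ⟩)
  have key2 : ∀ U : Subgroup G, U ≤ G₁ → (∃ x ∈ U, x ≠ 1 ∧ ∃ g ∈ G₁,
      g * x * g⁻¹ ∈ Q ⊓ Subgroup.centralizer (Q : Set G)) →
      R ⊓ Subgroup.centralizer (U : Set G) = ⊥ := by
    rintro U hUG ⟨x, hxU, hx1, g, hg, hgz⟩
    rw [Subgroup.eq_bot_iff_forall]
    rintro r ⟨hr, hrU⟩
    have h := key _ hgz (fun h => hx1 (by simpa using h))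
    have hmem : g * r * g⁻¹ ∈ R ⊓ Subgroup.centralizer ({g * x * g⁻¹} : Set G) := by
      refine ⟨(Subgroup.mem_normalizer_iff.1 (hGR hg) r).1 hr, ?_⟩
      refine Subgroup.mem_centralizer_singleton_iff.2 ?_
      have := congrArg (fun t => g * t * g⁻¹) (hrU x hxU)
      simpa [mul_assoc] using this.symm
    rw [h, Subgroup.mem_bot] at hmem
    simpa using hmem
  refine ⟨key2 U hUG, fun hU hcard hmax => ?_⟩
  haveI := hU.1
  -- descend from the maximal subgroups
  have hdesc : ∀ n : ℕ, ∀ Y : Subgroup G, Y ≤ U → Y ≠ U → Nat.card U - Nat.card Y = n →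
      R ⊓ Subgroup.centralizer (Y : Set G) = ⊥ := by
    intro n
    induction n using Nat.strong_induction_on with
    | _ n ih =>
      intro Y hY hYne hn
      by_cases hcoat : IsCoatom (Y.subgroupOf U)
      · exact key2 Y (hY.trans hUG) (hmax Y hY hcoat)
      have hY' : Y.subgroupOf U ≠ ⊤ := fun h => hYne (le_antisymm hY (Subgroup.subgroupOf_eq_top.1 h))
      rcases eq_top_or_exists_le_coatom (Y.subgroupOf U) with h | ⟨M, hM, hYM⟩
      · exact absurd h hY'
      have hYM' : Y.subgroupOf U ≠ M := fun h => hcoat (h ▸ hM)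
      obtain ⟨a, haM, haY⟩ := SetLike.exists_of_lt (lt_of_le_of_ne hYM hYM')
      obtain ⟨b, -, hbM⟩ := SetLike.exists_of_lt (lt_top_iff_ne_top.2 hM.1)
      set A := Subgroup.closure ({(a : G), (b : G)} : Set G) with hA
      have hAU : A ≤ U := (Subgroup.closure_le _).2 (by rintro _ (rfl | rfl) <;> [exact a.2; exact b.2])
      haveI : IsMulCommutative A := by
        refine Subgroup.isMulCommutative_closure fun s hs t ht => ?_
        exact congrArg Subtype.val (hU.1.is_comm.comm ⟨s, hAU (Subgroup.subset_closure hs)⟩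
          ⟨t, hAU (Subgroup.subset_closure ht)⟩)
      set K := R ⊓ Subgroup.centralizer (Y : Set G) with hK
      have hAnc : ¬ IsCyclic A := by
        rintro ⟨g, hg⟩
        obtain ⟨i, hi⟩ := Subgroup.mem_zpowers_iff.1 (hg ⟨a, Subgroup.subset_closure (Set.mem_insert _ _)⟩)
        obtain ⟨j, hj⟩ := Subgroup.mem_zpowers_iff.1
          (hg ⟨b, Subgroup.subset_closure (Set.mem_insert_of_mem _ rfl)⟩)
        have hi' : (g : G) ^ i = a := by simpa using congrArg Subtype.val hi
        have hj' : (g : G) ^ j = b := by simpa using congrArg Subtype.val hj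
        have hgp : (g : G) ^ (p : ℤ) = 1 := by rw [zpow_natCast]; exact hU.2 _ (hAU g.2)
        have hci : IsCoprime i (p : ℤ) := by
          refine ((Prime.coprime_iff_not_dvd (Nat.prime_iff_prime_int.1 hp)).2 fun hd => haY ?_).symm
          obtain ⟨d, rfl⟩ := hd
          show (a : G) ∈ Y
          rw [← hi', zpow_mul, hgp, one_zpow]; exact Y.one_mem
        obtain ⟨s, t, hst⟩ := hci
        refine hbM ?_
        have hba : b = a ^ (s * j) := by
          apply Subtype.ext
          rw [Subgroup.coe_zpow, ← hi', ← zpow_mul, ← hj']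
          calc (g : G) ^ j = (g : G) ^ ((s * i + t * (p : ℤ)) * j) := by rw [hst, one_mul]
            _ = (g : G) ^ (i * (s * j)) * ((g : G) ^ (p : ℤ)) ^ (t * j) := by
              rw [← zpow_mul, ← zpow_add]; congr 1; ring
            _ = _ := by rw [hgp, one_zpow, mul_one]
        rw [hba]; exact M.zpow_mem haM _
      refine le_bot_iff.1 (Coprime.le_of_centralizer_le A K ⊥ hAnc ?_ ?_ fun e he he1 => ?_)
      · refine Coprime.le_normalizer_inf (le_trans hAU (hUG.trans hGR))
          (le_trans hAU (le_trans ?_ Subgroup.le_normalizer))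
        intro u hu y hy
        exact congrArg Subtype.val (hU.1.is_comm.comm ⟨y, hY hy⟩ ⟨u, hu⟩)
      · obtain ⟨k, hk⟩ := IsPGroup.iff_card.1 (hUp.to_le hAU)
        rw [hk]
        exact Nat.Coprime.pow_left k (hR.coprime_dvd_left (Subgroup.card_dvd_of_le inf_le_left)).symm
      · by_cases heY : e ∈ Y
        · -- impossible: the new elements are independent of the old subgroup
          exfalso
          have hmul : A = Subgroup.zpowers (a : G) ⊔ Subgroup.zpowers (b : G) := by
            rw [hA, Subgroup.zpowers_eq_closure, Subgroup.zpowers_eq_closure,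
              ← Subgroup.closure_union]; rfl
          rw [hmul, ← SetLike.mem_coe, Subgroup.coe_mul_of_left_le_normalizer_right, Set.mem_mul] at he
          on_goal 2 =>
            rw [Subgroup.zpowers_le, LAE65.mem_normalizer_iff_map, MonoidHom.map_zpowers]
            congr 1
            exact mul_inv_eq_iff_eq_mul.2 (congrArg Subtype.val (hU.1.is_comm.comm a b))
          obtain ⟨_, ⟨i, rfl⟩, _, ⟨j, rfl⟩, rfl⟩ := he
          have hpw : ∀ (u : ↥U) (Z : Subgroup U) (k : ℤ), u ^ k ∈ Z → ¬ (p : ℤ) ∣ k → u ∈ Z := by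
            intro u Z k hk hpk
            obtain ⟨s, t, hst⟩ := ((Prime.coprime_iff_not_dvd (Nat.prime_iff_prime_int.1 hp)).2 hpk)
            have : u = (u ^ (p : ℤ)) ^ s * (u ^ k) ^ t := by
              rw [← zpow_mul, ← zpow_mul, ← zpow_add, mul_comm _ s, mul_comm k t, hst, zpow_one]
            rw [this]
            refine Z.mul_mem (Z.zpow_mem ?_ _) (Z.zpow_mem hk _)
            have : u ^ (p : ℤ) = 1 := by
              apply Subtype.ext; rw [zpow_natCast, Subgroup.coe_pow]; exact hU.2 _ u.2
            rw [this]; exact Z.one_mem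
          have heY' : a ^ i * b ^ j ∈ Y.subgroupOf U := by
            rw [Subgroup.mem_subgroupOf]; simpa using heY
          have hbj : b ^ j ∈ M := by
            have := M.mul_mem (M.inv_mem (M.zpow_mem haM i)) (hYM heY')
            simpa using this
          have hpj : (p : ℤ) ∣ j := by_contra fun h => hbM (hpw b M j hbj h)
          obtain ⟨j, rfl⟩ := hpj
          have hgp : (b : G) ^ (p : ℤ) = 1 := by rw [zpow_natCast]; exact hU.2 _ b.2
          have hb1 : (b : G) ^ ((p : ℤ) * j) = 1 := by rw [zpow_mul, hgp, one_zpow]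
          simp only [hb1, mul_one] at he1 heY
          by_cases hpi : (p : ℤ) ∣ i
          · obtain ⟨i, rfl⟩ := hpi
            refine he1 ?_
            rw [zpow_mul, zpow_natCast, hU.2 _ a.2, one_zpow]
          · exact haY (hpw a _ i (by rw [Subgroup.mem_subgroupOf]; simpa using heY) hpi)
        set Y' := Y ⊔ Subgroup.zpowers e with hY'def
        have hY'U : Y' ≤ U := sup_le hY (Subgroup.zpowers_le.2 (hAU he))
        have hlt : Nat.card Y < Nat.card Y' := by
          refine lt_of_le_of_ne (Subgroup.card_le_of_le le_sup_left) fun h => heY ?_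
          rw [Subgroup.eq_of_le_of_card_ge (le_sup_left : Y ≤ Y') h.ge]
          exact Subgroup.mem_sup_right (Subgroup.mem_zpowers e)
        have hle : K ⊓ Subgroup.centralizer ({e} : Set G) ≤ R ⊓ Subgroup.centralizer (Y' : Set G) := by
          rintro r ⟨⟨hr, hrY⟩, hre⟩
          refine ⟨hr, fun y hy => ?_⟩
          have : Y' ≤ Subgroup.centralizer ({r} : Set G) := sup_le
            (fun u hu => Subgroup.mem_centralizer_singleton_iff.2 (hrY u hu))
            (Subgroup.zpowers_le.2 (Subgroup.mem_centralizer_singleton_iff.2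
              (Subgroup.mem_centralizer_singleton_iff.1 hre).symm))
          exact Subgroup.mem_centralizer_singleton_iff.1 (this hy)
        refine le_trans hle (le_of_eq ?_)
        by_cases hY'eq : Y' = U
        · rw [hY'eq, eq_bot_iff]
          rcases eq_top_or_exists_le_coatom (Y.subgroupOf U) with h | ⟨N, hN, -⟩
          · exact absurd h hY'
          have hN' : (N.map U.subtype).subgroupOf U = N := by
            rw [← Subgroup.comap_subtype, Subgroup.comap_map_eq_self_of_injective U.subtype_injective]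
          have := key2 (N.map U.subtype) ((Subgroup.map_subtype_le N).trans hUG)
            (hmax _ (Subgroup.map_subtype_le N) (by rw [hN']; exact hN))
          exact le_trans (inf_le_inf_left R (Subgroup.centralizer_le (Subgroup.map_subtype_le N)))
            this.le
        · exact ih _ (by have := Subgroup.card_le_of_le hY'U; omega) Y' hY'U hY'eq rfl
  have h := hdesc _ ⊥ bot_le (fun h => ?_) rfl
  · rw [inf_eq_left.2 ] at h
    · exact h
    · intro r _
      simp [Subgroup.mem_centralizer_iff]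
  · rw [← h, Subgroup.card_bot] at hcard
    exact absurd hcard (not_le.2 (Nat.one_lt_pow two_ne_zero hp.one_lt))

end Cfsg.Agent.S3003
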