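import Cfsg.Statements.S3008
import Cfsg.Agent.LAE65.CD

set_option autoImplicit false
open Cfsg

namespace Cfsg.Agent.S3008

/-- Let P be a finite p-group, with J(P) generated by its abelian subgroups of largest order and J̃(P) = C_P(Z(J(P))); call R ≤ P centrally large if |R|·|Z(R)| is as large as possible, and let P_MCL be generated by the minimal centrally large subgroups. Then: for every centrally large Q, Q·J(P) ⊇ J̃(P); some minimal centrally large subgroup of P is normalized by both J(P) and P_MCL; if P = J(P) and d(P)² = |P|·|Z(P)|, where d(P) is the largest order of an abelian subgroup, then every minimal centrally large subgroup of P is abelian; and if every minimal centrally large subgroup is abelian then J̃(P) = J(P). -/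
theorem result {p : ℕ} [Fact p.Prime] (P : Type*) [Group P] [Finite P] (hP : IsPGroup p P) : (∀ Q : Subgroup P, Cfsg.IsCentrallyLarge Q → Subgroup.centralizer ((Cfsg.thompsonSubgroupA P ⊓ Subgroup.centralizer (Cfsg.thompsonSubgroupA P : Set P) : Subgroup P) : Set P) ≤ Q ⊔ Cfsg.thompsonSubgroupA P) ∧ (∃ Q : Subgroup P, Cfsg.IsMinimalCentrallyLarge Q ∧ Cfsg.thompsonSubgroupA P ≤ Subgroup.normalizer (Q : Set P) ∧ Cfsg.minimalCentrallyLargeJoin P ≤ Subgroup.normalizer (Q : Set P)) ∧ (Cfsg.thompsonSubgroupA P = ⊤ → (∀ A ∈ Cfsg.maxAbelianSubgroups P, Nat.card ↥A ^ 2 = Nat.card P * Nat.card ↥(Subgroup.center P)) → ∀ Q : Subgroup P, Cfsg.IsMinimalCentrallyLarge Q → IsMulCommutative ↥Q) ∧ ((∀ Q : Subgroup P, Cfsg.IsMinimalCentrallyLarge Q → IsMulCommutative ↥Q) → Subgroup.centralizer ((Cfsg.thompsonSubgroupA P ⊓ Subgroup.centralizer (Cfsg.thompsonSubgroupA P : Set P) : Subgroup P) : Set P) = Cfsg.thompsonSubgroupA P) := by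
  haveI : Group.IsNilpotent P := hP.isNilpotent
  refine ⟨fun Q hQ => LAE65.jTilde_le hQ, LAE65.exists_mcl_normalized, fun hJ hd Q hQ => ?_,
    fun hall => le_antisymm ?_ ?_⟩
  · obtain ⟨A, hA⟩ := LAE65.exists_maxAbelian (P := P)
    have hS := LAE65.cl_sup_thompson hQ.1
    rw [hJ, sup_top_eq] at hS
    have hAcl : Cfsg.IsCentrallyLarge A := by
      refine LAE65.cl_iff.2 ⟨?_, (LAE65.centralizer_maxAbelian hA).le⟩
      show Nat.card A * _ = _
      rw [LAE65.centralizer_maxAbelian hA, ← pow_two, hd A hA, ← LAE65.maxCentralProduct_eq, ← hS,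
        LAE65.card_center_eq, Subgroup.card_top, top_inf_eq, Subgroup.coe_top, Subgroup.centralizer_univ]
    obtain ⟨R, hRA, hR⟩ := LAE65.exists_mcl_le hAcl
    have hRab : IsMulCommutative R := by
      refine LAE65.le_centralizer_iff_isMulCommutative.1 ?_
      exact le_trans hRA (le_trans (LAE65.le_centralizer_iff_isMulCommutative.2 hA.1)
        (LAE65.centralizer_anti hRA))
    exact ((LAE65.abelian_mcl_iff hR hRab Q).1 hQ).1
  · obtain ⟨Q₀, hQ₀⟩ := LAE65.exists_cl (P := P)
    obtain ⟨Q, -, hQ⟩ := LAE65.exists_mcl_le hQ₀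
    refine le_trans (LAE65.jTilde_le hQ.1) (sup_le ?_ le_rfl)
    exact le_sSup ((LAE65.abelian_mcl_iff hQ (hall Q hQ) Q).1 hQ)
  · rw [Subgroup.le_centralizer_iff]
    exact inf_le_right

end Cfsg.Agent.S3008
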