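import Cfsg.Statements.S3012


set_option autoImplicit false
open Cfsg

namespace Cfsg.Agent.S3012

/-- Let G be a finite group, V a nontrivial elementary abelian 2-subgroup of G satisfying the Sidki pair condition (every odd-order element inverted by an element of V commutes with a nontrivial element of V), and K a normal subgroup of G with V ∩ K = 1. Then the image of V in G/K satisfies the Sidki pair condition in G/K. -/
theorem result {G : Type*} [Group G] [Finite G] (V K : Subgroup G) [K.Normal] (hV : Cfsg.IsElementaryAbelian 2 V) (hV1 : V ≠ ⊥) (hS : Cfsg.IsSidkiPair V) (hVK : V ⊓ K = ⊥) : Cfsg.IsSidkiPair (V.map (QuotientGroup.mk' K)) := by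
  intro hb vb hvb hodd hinv
  obtain ⟨v, hv, rfl⟩ := hvb
  obtain ⟨h, rfl⟩ := QuotientGroup.mk_surjective hb
  let π := QuotientGroup.mk' K
  change Odd (orderOf (π h)) at hodd
  change π v * π h * (π v)⁻¹ = (π h)⁻¹ at hinv
  have hv2 : v * v = 1 := by rw [← pow_two]; exact hV.2 v hv
  have hvinv : v⁻¹ = v := inv_eq_of_mul_eq_one_left hv2
  obtain ⟨r, hr⟩ := hodd
  -- a preimage inverted by the involution
  set u := h ^ (r + 1) with hu
  set d := u * v * u⁻¹ * v with hd
  have hdinv : v * d * v⁻¹ = d⁻¹ := by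
    rw [hd, mul_inv_rev, mul_inv_rev, mul_inv_rev, inv_inv, hvinv]
    simp only [mul_assoc, hv2, mul_one]
  have hdimg : π d = π h := by
    have hrel : π v * π u⁻¹ * (π v)⁻¹ = π u := by
      have hu2 : π u⁻¹ = ((π h) ^ (r + 1))⁻¹ := by rw [hu, map_inv, map_pow]
      rw [hu2, ← inv_pow, ← MulAut.conj_apply, map_pow, map_inv, MulAut.conj_apply, hinv, inv_inv,
        hu, map_pow]
    have h2 : π d = π u * (π v * π u⁻¹ * (π v)⁻¹) := by
      rw [hd, map_mul, map_mul, map_mul]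
      conv_lhs => arg 2; rw [← hvinv, map_inv]
      group
    rw [h2, hrel, hu, map_pow, ← pow_add, show r + 1 + (r + 1) = orderOf (π h) + 1 by omega,
      pow_succ, pow_orderOf_eq_one, one_mul]
  -- pass to its odd part
  obtain ⟨k, m, hm, hdm⟩ := Nat.exists_eq_two_pow_mul_odd (orderOf_pos d).ne'
  obtain ⟨e, he0, he1⟩ : ∃ e : ℕ, e ≡ 0 [MOD 2 ^ k] ∧ e ≡ 1 [MOD orderOf (π h)] :=
    ⟨_, (Nat.chineseRemainder (Nat.Coprime.pow_left k
      (Nat.coprime_two_left.2 ⟨r, hr⟩)) 0 1).2⟩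
  have hodd' : Odd (orderOf (d ^ e)) := by
    have hdvd : orderOf (d ^ e) ∣ m := by
      rw [orderOf_dvd_iff_pow_eq_one, ← pow_mul, ← orderOf_dvd_iff_pow_eq_one, hdm]
      exact Nat.mul_dvd_mul_right (Nat.modEq_zero_iff_dvd.1 he0) m
    exact Odd.of_dvd_nat hm hdvd
  have hinv' : v * d ^ e * v⁻¹ = (d ^ e)⁻¹ := by
    rw [← MulAut.conj_apply, map_pow, MulAut.conj_apply, hdinv, inv_pow]
  obtain ⟨w, hw, hw1, hwc⟩ := hS (d ^ e) v hv hodd' hinv'
  refine ⟨π w, ⟨w, hw, rfl⟩, ?_, ?_⟩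
  · intro hone
    have hwK : w ∈ V ⊓ K := ⟨hw, (QuotientGroup.eq_one_iff w).1 hone⟩
    rw [hVK, Subgroup.mem_bot] at hwK
    exact hw1 hwK
  · have hde : π (d ^ e) = π h := by
      rw [map_pow, hdimg]
      have := pow_eq_pow_iff_modEq.2 he1
      rwa [pow_one] at this
    change π w * π h = π h * π w
    rw [← hde, ← map_mul, ← map_mul, hwc]

end Cfsg.Agent.S3012
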