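import Cfsg.Statements.S3013


set_option autoImplicit false
open Cfsg

namespace Cfsg.Agent.S3013

/-- Let G be a finite group and V a nontrivial elementary abelian 2-subgroup of G satisfying the Sidki pair condition. Let v ∈ V and let x be an element of odd order inverted by v, and put C = C_G(v) ∩ C_G(x), the centralizer of the dihedral subgroup generated by v and x. Then C ∩ V is nontrivial and satisfies the Sidki pair condition inside C: every odd-order element of C inverted by an element of C ∩ V commutes with a nontrivial element of C ∩ V. -/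
theorem result {G : Type*} [Group G] [Finite G] (V : Subgroup G) (hV : Cfsg.IsElementaryAbelian 2 V) (hV1 : V ≠ ⊥) (hS : Cfsg.IsSidkiPair V) (v x : G) (hv : v ∈ V) (hx : Odd (orderOf x)) (hinv : v * x * v⁻¹ = x⁻¹) (C : Subgroup G) (hC : C = Subgroup.centralizer ({v} : Set G) ⊓ Subgroup.centralizer ({x} : Set G)) : C ⊓ V ≠ ⊥ ∧ Cfsg.IsSidkiPair ((C ⊓ V).subgroupOf C) := by
  subst hC
  have hcom : ∀ a ∈ V, ∀ b ∈ V, Commute a b := fun a ha b hb =>
    congrArg Subtype.val (hV.1.is_comm.comm ⟨a, ha⟩ ⟨b, hb⟩)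
  constructor
  · obtain ⟨w, hw, hw1, hwx⟩ := hS x v hv hx hinv
    intro hbot
    refine hw1 (Subgroup.mem_bot.1 (hbot ▸ ⟨⟨?_, ?_⟩, hw⟩))
    · exact Subgroup.mem_centralizer_singleton_iff.2 (hcom w hw v hv)
    · exact Subgroup.mem_centralizer_singleton_iff.2 hwx
  · rintro ⟨h, hhv, hhx⟩ ⟨u, huv, hux⟩ hu hodd hinvu
    have hu' : u ∈ V := hu.2
    have hhv' : Commute h v := Subgroup.mem_centralizer_singleton_iff.1 hhv
    have hhx' : Commute h x := Subgroup.mem_centralizer_singleton_iff.1 hhx
    have hux' : Commute u x := Subgroup.mem_centralizer_singleton_iff.1 hux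
    have huh : u * h * u⁻¹ = h⁻¹ := congrArg Subtype.val hinvu
    rw [← Subgroup.orderOf_coe] at hodd
    change Odd (orderOf h) at hodd
    have hodd2 : Odd (orderOf (h * x)) :=
      Odd.of_dvd_nat (hodd.mul hx) hhx'.orderOf_mul_dvd_mul_orderOf
    have hinv2 : (u * v) * (h * x) * (u * v)⁻¹ = (h * x)⁻¹ := by
      calc (u * v) * (h * x) * (u * v)⁻¹ = u * ((v * h * v⁻¹) * (v * x * v⁻¹)) * u⁻¹ := by group
        _ = u * (h * x⁻¹) * u⁻¹ := by rw [hhv'.symm.eq, mul_inv_cancel_right, hinv]
        _ = (u * h * u⁻¹) * (u * x⁻¹ * u⁻¹) := by group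
        _ = (h * x)⁻¹ := by
          rw [huh, hux'.inv_right.eq, mul_inv_cancel_right, mul_inv_rev, hhx'.symm.inv_inv.eq]
    obtain ⟨w, hw, hw1, hwc⟩ := hS (h * x) (u * v) (V.mul_mem hu' hv) hodd2 hinv2
    -- conjugating by the first involution separates the two factors
    have hwd : Commute w (h * x⁻¹) := by
      have h2 : Commute w (h * x) := hwc
      have h3 := h2.map (MulAut.conj v).toMonoidHom
      simp only [MulEquiv.coe_toMonoidHom, MulAut.conj_apply] at h3
      rw [(hcom v hv w hw).eq, mul_inv_cancel_right] at h3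
      have : v * (h * x) * v⁻¹ = h * x⁻¹ := by
        rw [← mul_assoc v, hhv'.symm.eq, mul_assoc h, mul_assoc h, hinv]
      rwa [this] at h3
    have hwh2 : Commute w (h ^ 2) := by
      have := (show Commute w (h * x) from hwc).mul_right hwd
      rwa [show h * x * (h * x⁻¹) = h ^ 2 by
        rw [mul_assoc h x, ← mul_assoc x h, hhx'.symm.eq, pow_two]; group] at this
    have hwh : Commute w h := by
      obtain ⟨r, hr⟩ := hodd
      have := hwh2.pow_right (r + 1)
      rwa [← pow_mul, show 2 * (r + 1) = orderOf h + 1 by omega, pow_succ, pow_orderOf_eq_one,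
        one_mul] at this
    have hwx : Commute w x := by
      have := hwh.inv_right.mul_right (show Commute w (h * x) from hwc)
      rwa [inv_mul_cancel_left] at this
    refine ⟨⟨w, ⟨Subgroup.mem_centralizer_singleton_iff.2 (hcom w hw v hv),
      Subgroup.mem_centralizer_singleton_iff.2 hwx⟩⟩, ?_, ?_, Subtype.ext hwh⟩
    · exact ⟨⟨Subgroup.mem_centralizer_singleton_iff.2 (hcom w hw v hv),
        Subgroup.mem_centralizer_singleton_iff.2 hwx⟩, hw⟩
    · exact fun h1 => hw1 (congrArg Subtype.val h1)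

end Cfsg.Agent.S3013
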