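import Cfsg.Statements.S3014
import Cfsg.Agent.LAE65.Wielandt

set_option autoImplicit false
open Cfsg

namespace Cfsg.Agent.S3014

/-- Let G be a finite group and H ≤ M ≤ G subgroups such that for every g ∈ G the subgroup generated by H and g H g⁻¹ meets M exactly in H. If H is a maximal subgroup of M and M is a maximal subgroup of G, then the normal closure of H in G meets M exactly in H. -/
theorem result {G : Type*} [Group G] [Finite G] (H M : Subgroup G) (hHM : H ≤ M) (hcl : ∀ g : G, (H ⊔ H.map (MulAut.conj g).toMonoidHom) ⊓ M = H) (hmaxH : IsCoatom (H.subgroupOf M)) (hmaxM : IsCoatom M) : Subgroup.normalClosure (H : Set G) ⊓ M = H := by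
  refine le_antisymm ?_ (le_inf Subgroup.le_normalClosure hHM)
  -- the bottom group is normalized by the intermediate one
  have hMN : M ≤ Subgroup.normalizer (H : Set G) := by
    intro m hm
    rw [LAE65.mem_normalizer_iff_map]
    refine Subgroup.eq_of_le_of_card_ge ?_ (LAE65.card_map_conj H m).ge
    intro y hy
    rw [← hcl m]
    exact ⟨Subgroup.mem_sup_right hy, LAE65.map_conj_le_of_mem hHM hm hy⟩
  have hn : (H.subgroupOf M).Normal := (Subgroup.normal_subgroupOf_iff_le_normalizer hHM).2 hMN
  rcases hmaxM.le_iff.1 hMN with h | h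
  · -- the bottom group is normal
    haveI : H.Normal := Subgroup.normalizer_eq_top_iff.1 h
    rw [Subgroup.normalClosure_eq_self]
    exact inf_le_left
  by_cases hex : ∀ g : G, g ∉ M → ∀ x ∈ M, g * x * g⁻¹ ∈ M → x ∈ H
  · obtain ⟨K, hK, hHK, hKM, -⟩ := LAE65.exists_normal_inf_le M H hHM hn
      (LAE65.commutator_mem_of_coatom hHM hmaxH hn) hex
    exact le_trans (inf_le_inf_right M (@Subgroup.normalClosure_le_normal _ _ _ K hK hHK)) hKM
  · push Not at hex
    obtain ⟨g, hg, x, hx, hgx, hxH⟩ := hex
    set L := H ⊔ H.map (MulAut.conj g⁻¹).toMonoidHom with hL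
    have hxL : x ∈ Subgroup.normalizer (L : Set G) := by
      rw [LAE65.mem_normalizer_iff_map, hL, Subgroup.map_sup,
        LAE65.mem_normalizer_iff_map.1 (hMN hx),
        LAE65.mem_normalizer_iff_map.1 (LAE65.normalizer_map_conj (hMN hgx))]
    have hgen : M ≤ L ⊔ Subgroup.zpowers x := by
      rw [← LAE65.sup_zpowers_eq hHM hmaxH hx hxH]
      exact sup_le_sup_right le_sup_left _
    rcases hmaxM.le_iff.1 hgen with h' | h'
    · haveI := LAE65.normal_of_normalized hxL h'
      refine le_trans (inf_le_inf_right M ?_) (hcl g⁻¹).le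
      exact Subgroup.normalClosure_le_normal (le_sup_left : H ≤ L)
    · exfalso
      have hLM : L ≤ M := h' ▸ le_sup_left
      have h2 := hcl g⁻¹
      rw [inf_eq_left.2 hLM] at h2
      have h3 : g⁻¹ ∈ Subgroup.normalizer (H : Set G) := LAE65.mem_normalizer_iff_map.2
        (Subgroup.eq_of_le_of_card_ge (le_sup_right.trans h2.le) (LAE65.card_map_conj H g⁻¹).ge)
      exact hg (inv_mem_iff.1 (h ▸ h3))

end Cfsg.Agent.S3014
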