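import Cfsg.Statements.S3015
import Cfsg.Agent.LAE65.Wielandt
import Cfsg.Agent.Lib.Thompson.Cores

set_option autoImplicit false
open Cfsg

namespace Cfsg.Agent.S3015

/-- Let G be a finite non-abelian simple group, M a maximal subgroup of G and H a normal subgroup of M of prime index in M. Then G is generated by H together with one of its conjugates. -/
theorem result {G : Type*} [Group G] [Finite G] [IsSimpleGroup G] (hG : ¬ IsMulCommutative G) (M H : Subgroup G) (hmaxM : IsCoatom M) (hHM : H ≤ M) (hHn : (H.subgroupOf M).Normal) (hidx : (H.relIndex M).Prime) : ∃ g : G, H ⊔ H.map (MulAut.conj g).toMonoidHom = ⊤ := by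
  by_contra hgen
  push Not at hgen
  classical
  set q := H.relIndex M with hq
  have hmaxH : IsCoatom (H.subgroupOf M) := LAE65.coatom_of_relIndex_prime hidx
  have hMN := LAE65.le_normalizer_of_subgroupOf hHM hHn
  have hHlt : H ≠ M := fun h => hidx.one_lt.ne' (by rw [hq, h, Subgroup.relIndex_self])
  have hHtop : H ≠ ⊤ := fun h => hmaxM.1 (top_le_iff.1 (h ▸ hHM))
  have hMbot : M ≠ ⊥ := fun h => hHlt (le_antisymm hHM (h ▸ bot_le))
  have hNM : Subgroup.normalizer (M : Set G) = M := by
    rcases hmaxM.le_iff.1 (Subgroup.le_normalizer : M ≤ _) with h | h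
    · rcases (Subgroup.normalizer_eq_top_iff.1 h).eq_bot_or_eq_top with h1 | h1
      · exact absurd h1 hMbot
      · exact absurd h1 hmaxM.1
    · exact h
  -- the conclusion of the transfer argument
  have finish : (∀ g : G, g ∉ M → ∀ x ∈ M, g * x * g⁻¹ ∈ M → x ∈ H) → False := by
    intro hkey
    obtain ⟨K, hK, hHK, hKM, hcomm⟩ := LAE65.exists_normal_inf_le M H hHM hHn
      (LAE65.commutator_mem_of_coatom hHM hmaxH hHn) hkey
    rcases hK.eq_bot_or_eq_top with hK1 | hK1
    · refine hG ⟨⟨fun a b => ?_⟩⟩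
      have := hcomm a b
      rw [hK1, Subgroup.mem_bot, mul_inv_eq_one, mul_inv_eq_iff_eq_mul] at this
      exact this
    · rw [hK1, top_inf_eq] at hKM
      exact hHlt (le_antisymm hHM hKM)
  by_cases hHbot : H = ⊥
  · refine finish fun g hg x hx hgx => ?_
    by_contra hxH
    have hxM := LAE65.sup_zpowers_eq hHM hmaxH hx hxH
    rw [hHbot, bot_sup_eq] at hxM
    refine hg (hNM.le ?_)
    rw [LAE65.mem_normalizer_iff_map]
    refine Subgroup.eq_of_le_of_card_ge ?_ (LAE65.card_map_conj M g).ge
    conv_lhs => rw [← hxM]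
    rw [MonoidHom.map_zpowers, Subgroup.zpowers_le]
    exact hgx
  have hNH : Subgroup.normalizer (H : Set G) = M := by
    rcases hmaxM.le_iff.1 hMN with h | h
    · rcases (Subgroup.normalizer_eq_top_iff.1 h).eq_bot_or_eq_top with h1 | h1
      · exact absurd h1 hHbot
      · exact absurd h1 hHtop
    · exact h
  -- no conjugate of the subgroup lies in the maximal subgroup, apart from itself
  have hbad : ∀ g : G, g ∉ M → ¬ H.map (MulAut.conj g).toMonoidHom ≤ M := by
    intro g hg hle
    set c := (MulAut.conj g).toMonoidHom with hc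
    set H₁ := H.map c with hH₁
    set H₂ := H₁.map c with hH₂
    set M₁ := M.map c with hM₁
    have hcinj : Function.Injective c := (MulAut.conj g).injective
    have hne : H₁ ≠ H := fun h => hg (hNH.le (LAE65.mem_normalizer_iff_map.2 h))
    have hne₂ : H₂ ≠ H₁ := fun h => hne (Subgroup.map_injective hcinj h)
    have hnot : ¬ H₁ ≤ H := fun h => hne (Subgroup.eq_of_le_of_card_ge h (LAE65.card_map_conj H g).ge)
    obtain ⟨y, hy, hyH⟩ := SetLike.not_le_iff_exists.1 hnot
    have hM : H ⊔ H₁ = M := le_antisymm (sup_le hHM hle)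
      (le_trans (LAE65.sup_zpowers_eq hHM hmaxH (hle hy) hyH).ge
        (sup_le_sup_left (Subgroup.zpowers_le.2 hy) _))
    have hM₁' : H₁ ⊔ H₂ = M₁ := by rw [hM₁, ← hM, Subgroup.map_sup, hH₂, hH₁]
    have hH₁M₁ : H₁ ≤ M₁ := hM₁' ▸ le_sup_left
    have hH₂M₁ : H₂ ≤ M₁ := hM₁' ▸ le_sup_right
    have hMne : M₁ ≠ M := fun h => hg (hNM.le (LAE65.mem_normalizer_iff_map.2 h))
    have hH₂g : H₂ = H.map (MulAut.conj (g * g)).toMonoidHom := LAE65.map_conj_mul H g g
    set L := H ⊔ H₂ with hL
    have hLtop : L ≠ ⊤ := by rw [hL, hH₂g]; exact hgen (g * g)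
    have hLH : L ⊓ M = H := by
      by_contra hne'
      obtain ⟨z, hz, hzH⟩ := SetLike.exists_of_lt
        (lt_of_le_of_ne (le_inf le_sup_left hHM : H ≤ L ⊓ M) (Ne.symm hne'))
      have hML : M ≤ L := by
        rw [← LAE65.sup_zpowers_eq hHM hmaxH hz.2 hzH]
        exact sup_le le_sup_left (Subgroup.zpowers_le.2 hz.1)
      have hLM : L = M := (hmaxM.le_iff.1 hML).resolve_left hLtop
      refine hMne (Subgroup.eq_of_le_of_card_ge ?_ (LAE65.card_map_conj M g).ge)
      rw [← hM₁']
      exact sup_le hle ((le_sup_right : H₂ ≤ L).trans hLM.le)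
    have hLH₂ : L ⊓ H₁ = H₁ ⊓ H₂ := by
      refine le_antisymm ?_ (le_inf (le_trans inf_le_right le_sup_right) inf_le_left)
      intro z hz
      refine ⟨hz.2, ?_⟩
      by_contra hz2
      -- otherwise the shifted maximal subgroup lies in the generated one
      obtain ⟨w, hw, hwc⟩ := (hH₁M₁ hz.2 : z ∈ M.map c)
      have hwH : w ∉ H₁ := fun h => hz2 (hwc ▸ Subgroup.mem_map_of_mem c h)
      have hrel : H₁.relIndex M = q := by
        have h1 := Subgroup.card_mul_index (H₁.subgroupOf M)
        have h2 := Subgroup.card_mul_index (H.subgroupOf M)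
        rw [Nat.card_congr (Subgroup.subgroupOfEquivOfLe hle).toEquiv, LAE65.card_map_conj] at h1
        rw [Nat.card_congr (Subgroup.subgroupOfEquivOfLe hHM).toEquiv] at h2
        exact Nat.eq_of_mul_eq_mul_left Nat.card_pos (h1.trans h2.symm)
      have hgenM := congrArg (Subgroup.map c)
        (LAE65.sup_zpowers_eq hle (LAE65.coatom_of_relIndex_prime (hrel ▸ hidx)) hw hwH)
      rw [Subgroup.map_sup, MonoidHom.map_zpowers, hwc] at hgenM
      have hmax₁ : H₁ ≤ L := hH₁M₁.trans
        (hgenM.ge.trans (sup_le le_sup_right (Subgroup.zpowers_le.2 hz.1)))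
      exact hne (Subgroup.eq_of_le_of_card_ge ((le_inf hmax₁ hle).trans hLH.le)
        (LAE65.card_map_conj H g).ge)
    set A := H ⊓ H₁ with hA
    have hAshift : A.map c = A := by
      rw [hA, Subgroup.map_inf _ _ _ hcinj, ← hH₁, ← hH₂, ← hLH₂]
      conv_rhs => rw [← hLH, inf_assoc, inf_eq_right.2 hle]
    have hMA : M ≤ Subgroup.normalizer (A : Set G) := by
      have hH₁A : H₁ ≤ Subgroup.normalizer (A : Set G) := by
        intro u hu
        rw [LAE65.mem_normalizer_iff_map, hA, Subgroup.map_inf _ _ _ (MulAut.conj u).injective,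
          LAE65.mem_normalizer_iff_map.1 (hMN (hle hu)),
          LAE65.mem_normalizer_iff_map.1 (Subgroup.le_normalizer hu)]
      rw [← hM]
      refine sup_le (fun u hu => ?_) hH₁A
      have hgA : g ∈ Subgroup.normalizer (A : Set G) := LAE65.mem_normalizer_iff_map.2 hAshift
      have h5 : g * u * g⁻¹ ∈ Subgroup.normalizer (A : Set G) := hH₁A (LAE65.conj_mem_map hu)
      have h6 := (Subgroup.normalizer (A : Set G)).mul_mem
        ((Subgroup.normalizer (A : Set G)).mul_mem ((Subgroup.normalizer (A : Set G)).inv_mem hgA) h5) hgA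
      simpa [mul_assoc] using h6
    have hAn : A.Normal := by
      rcases hmaxM.le_iff.1 hMA with h | h
      · exact Subgroup.normalizer_eq_top_iff.1 h
      · exact absurd (h ▸ LAE65.mem_normalizer_iff_map.2 hAshift) hg
    have hAbot : A = ⊥ := hAn.eq_bot_or_eq_top.resolve_right
      fun h => hHtop (top_le_iff.1 (h ▸ inf_le_left))
    -- so the subgroup has prime order
    haveI : Fact q.Prime := ⟨hidx⟩
    have hcard : Nat.card H₁ = Nat.card H := LAE65.card_map_conj H g
    have hd1 : H.relIndex H₁ ∣ q := by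
      haveI := hHn
      have h := Subgroup.relIndex_dvd_index_of_normal (H.subgroupOf M) (H₁.subgroupOf M)
      rwa [Subgroup.relIndex_subgroupOf hle] at h
    have hH1q : Nat.card H₁ = q := by
      have h1 : H.relIndex H₁ = Nat.card H₁ := by
        rw [← Subgroup.inf_relIndex_right, ← hA, hAbot, Subgroup.relIndex_bot_left]
      rw [h1] at hd1
      rcases (Nat.dvd_prime hidx).1 hd1 with h | h
      · rw [hcard, Subgroup.card_eq_one] at h
        exact absurd h hHbot
      · exact h
    have hMcard : Nat.card M = q ^ 2 := by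
      have := Subgroup.card_mul_index (H.subgroupOf M)
      rw [Nat.card_congr (Subgroup.subgroupOfEquivOfLe hHM).toEquiv, ← hcard, hH1q] at this
      rw [← this, pow_two]; rfl
    have hab := IsPGroup.isMulCommutative_of_card_eq_prime_sq hMcard
    have hMle : M ≤ Subgroup.normalizer (H₁ : Set G) := by
      intro u hu
      rw [Subgroup.mem_normalizer_iff]
      intro v
      constructor
      · intro hv
        rw [show u * v = v * u from congrArg Subtype.val (hab.is_comm.comm ⟨u, hu⟩ ⟨v, hle hv⟩),
          mul_inv_cancel_right]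
        exact hv
      · intro hv
        have hv' : v ∈ M := by simpa [mul_assoc] using M.mul_mem (M.mul_mem (M.inv_mem hu) (hle hv)) hu
        rwa [show u * v = v * u from congrArg Subtype.val (hab.is_comm.comm ⟨u, hu⟩ ⟨v, hv'⟩),
          mul_inv_cancel_right] at hv
    rw [hH₁, ← Subgroup.map_normalizer_eq_of_bijective (H := H) (f := c) (MulAut.conj g).bijective, hNH] at hMle
    exact hMne (Subgroup.eq_of_le_of_card_ge hMle (LAE65.card_map_conj M g).le).symm
  refine finish fun g hg x hx hgx => ?_
  by_contra hxH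
  set H' := H.map (MulAut.conj g⁻¹).toMonoidHom with hH'
  set L := H ⊔ H' with hL
  have hg' : g⁻¹ ∉ M := fun h => hg (by simpa using M.inv_mem h)
  have hxL : x ∈ Subgroup.normalizer (L : Set G) := by
    rw [LAE65.mem_normalizer_iff_map, hL, Subgroup.map_sup,
      LAE65.mem_normalizer_iff_map.1 (hMN hx),
      LAE65.mem_normalizer_iff_map.1 (LAE65.normalizer_map_conj (hMN hgx))]
  have hge : M ≤ L ⊔ Subgroup.zpowers x := by
    rw [← LAE65.sup_zpowers_eq hHM hmaxH hx hxH]
    exact sup_le_sup_right le_sup_left _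
  rcases hmaxM.le_iff.1 hge with h | h
  · rcases (LAE65.normal_of_normalized hxL h).eq_bot_or_eq_top with h1 | h1
    · exact hHbot (le_bot_iff.1 (h1 ▸ le_sup_left))
    · exact hgen g⁻¹ h1
  · exact hbad g⁻¹ hg' ((le_sup_right : H' ≤ L).trans (h ▸ le_sup_left))

end Cfsg.Agent.S3015
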