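import Cfsg.Statements.S3017
import Cfsg.Agent.EC72.Colour
import Cfsg.Agent.S0215
import Mathlib.GroupTheory.SchurZassenhaus

set_option maxHeartbeats 400000

set_option autoImplicit false
open Cfsg

namespace Cfsg.Agent.S3017

open Subgroup
open Cfsg.Agent.EC72

universe u

variable {G : Type u} [Group G] [Finite G]

/-- If the factorisation holds in a quotient by a normal subgroup, it holds in the group. -/
theorem of_quotient {H : Subgroup G} (hH2 : IsPGroup 2 H) (hcl : Cfsg.IsExtremelyClosed H)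
    (hHab : IsMulCommutative H) (N : Subgroup G) [N.Normal]
    (hodd : Odd (H.relIndex (H ⊔ N)))
    (hN : N ≤ normalizer (H : Set G) ⊔ Cfsg.oddCore G)
    (hO : (Cfsg.oddCore (G ⧸ N)).comap (QuotientGroup.mk' N) ≤
      normalizer (H : Set G) ⊔ Cfsg.oddCore G)
    (ih : IsPGroup 2 (H.map (QuotientGroup.mk' N)) → IsMulCommutative (H.map (QuotientGroup.mk' N)) →
      Cfsg.IsExtremelyClosed (H.map (QuotientGroup.mk' N)) →
      normalizer (H.map (QuotientGroup.mk' N) : Set (G ⧸ N)) ⊔ Cfsg.oddCore (G ⧸ N) = ⊤) :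
    normalizer (H : Set G) ⊔ Cfsg.oddCore G = ⊤ := by
  obtain ⟨hclq, hnq⟩ := quotient hH2 hcl N hodd
  have hq := ih (hH2.map _) (by haveI := hHab; exact inferInstance) hclq
  set π := QuotientGroup.mk' N
  have h2 : ⊤ ≤ (normalizer (H : Set G) ⊔ (Cfsg.oddCore (G ⧸ N)).comap π).map π := by
    rw [Subgroup.map_sup, map_comap_eq_self_of_surjective (QuotientGroup.mk'_surjective N), ← hq]
    exact sup_le_sup_right hnq _
  refine top_le_iff.1 fun x _ => ?_
  obtain ⟨y, hy, hyx⟩ := h2 (mem_top (π x))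
  have h3 : y⁻¹ * x ∈ N := QuotientGroup.eq.1 hyx
  have h4 := mul_mem ((sup_le le_sup_left hO : _ ≤ normalizer (H : Set G) ⊔ Cfsg.oddCore G) hy)
    (hN h3)
  rwa [mul_inv_cancel_left] at h4

theorem card_quotient_lt (N : Subgroup G) [N.Normal] (hN : N ≠ ⊥) :
    Nat.card (G ⧸ N) < Nat.card G := by
  rw [card_eq_card_quotient_mul_card_subgroup N]
  exact lt_mul_of_one_lt_right Nat.card_pos ((one_lt_card_iff_ne_bot N).2 hN)

theorem odd_relIndex_sup {H N : Subgroup G} [N.Normal] (hN : Odd (Nat.card N)) :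
    Odd (H.relIndex (H ⊔ N)) := by
  have h1 := relIndex_mul_relIndex ⊥ H (H ⊔ N) bot_le le_sup_left
  have h2 := relIndex_mul_relIndex ⊥ N (N ⊔ H) bot_le le_sup_left
  have h3 := relIndex_mul_relIndex ⊥ (N ⊓ H) H bot_le inf_le_right
  rw [relIndex_bot_left, relIndex_bot_left] at h1 h2 h3
  rw [relIndex_sup_left, sup_comm N H, ← h1, ← h3, inf_relIndex_right] at h2
  have h4 : Nat.card N = Nat.card (N ⊓ H : Subgroup G) * H.relIndex (H ⊔ N) := by
    refine Nat.eq_of_mul_eq_mul_right (Nat.pos_of_ne_zero (Subgroup.index_ne_zero_of_finite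
      (H := N.subgroupOf H))) (h2.trans ?_)
    show _ = _ * N.relIndex H
    ring
  exact hN.of_dvd_nat ⟨_, by rw [h4, mul_comm]⟩

/-- A normal subgroup which is `⟨a⟩` times odd index, with `a` a central involution, lies in
`⟨a⟩ O(G)`. -/
theorem le_sup_oddCore (a : G) (ha : a ∈ center G) (ha2 : orderOf a = 2) (M : Subgroup G)
    [M.Normal] (haM : a ∈ M) (hodd : Odd ((zpowers a).relIndex M)) :
    M ≤ zpowers a ⊔ Cfsg.oddCore G := by
  set A := (zpowers a).subgroupOf M
  have hAc : A ≤ center M := fun x hx => mem_center_iff.2 fun y => Subtype.ext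
    (mem_center_iff.1 ((zpowers_le.2 ha) (show (x : G) ∈ zpowers a from hx)) y)
  haveI : A.Normal := ⟨fun x hx y => by
    rw [mem_center_iff.1 (hAc hx) y, mul_inv_cancel_right]; exact hx⟩
  have hAcard : Nat.card A = 2 := by
    rw [Nat.card_congr (subgroupOfEquivOfLe (zpowers_le.2 haM)).toEquiv, Nat.card_zpowers, ha2]
  obtain ⟨R, hR⟩ := exists_right_complement'_of_coprime (N := A)
    (by rw [hAcard]; exact Nat.coprime_two_left.2 hodd)
  haveI : R.Normal := by
    rw [← normalizer_eq_top_iff, ← top_le_iff, ← hR.sup_eq_top]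
    exact sup_le (le_trans hAc (center_le_normalizer _)) le_normalizer
  have hRle : R ≤ Cfsg.pPrimeCore 2 M :=
    Thompson.le_pPrimeCore inferInstance (Nat.coprime_two_right.2 (by
      rw [← hR.symm.index_eq_card]; exact hodd))
  intro x hx
  have h2 : (⟨x, hx⟩ : M) ∈ A ⊔ R := hR.sup_eq_top ▸ mem_top _
  have h3 := mem_map_of_mem M.subtype h2
  rw [Subgroup.map_sup] at h3
  refine (sup_le ?_ ?_ : _ ≤ zpowers a ⊔ Cfsg.oddCore G) h3
  · rintro _ ⟨y, hy, rfl⟩
    exact mem_sup_left hy
  · exact le_trans (map_mono hRle) (le_trans (Thompson.map_pPrimeCore_normal_le M) le_sup_right)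

theorem aux : ∀ (n : ℕ) (G : Type u) [Group G] [Finite G] (H : Subgroup G), Nat.card G = n →
    IsPGroup 2 H → IsMulCommutative H → Cfsg.IsExtremelyClosed H →
    normalizer (H : Set G) ⊔ Cfsg.oddCore G = ⊤ := by
  intro n
  induction n using Nat.strong_induction_on with
  | _ n IH =>
  intro G _ _ H hn hH2 hHab hcl
  haveI : Fact (Nat.Prime 2) := ⟨Nat.prime_two⟩
  subst hn
  -- the odd core
  by_cases hO : Cfsg.oddCore G = ⊥
  swap
  · set N := Cfsg.oddCore G
    haveI : N.Normal := Thompson.instPPrimeCoreNormal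
    refine of_quotient hH2 hcl hHab N (odd_relIndex_sup (Nat.coprime_two_right.1
      Thompson.card_pPrimeCore_coprime)) le_sup_right ?_
      (IH _ (card_quotient_lt N hO) (G ⧸ N) _ rfl)
    rw [show Cfsg.oddCore (G ⧸ N) = ⊥ from Thompson.pPrimeCore_quotient_pPrimeCore,
      MonoidHom.comap_bot, QuotientGroup.ker_mk']
    exact le_sup_right
  -- a central involution in `H`
  by_cases hZ : ∃ a ∈ H, orderOf a = 2 ∧ a ∈ center G
  · obtain ⟨a, haH, ha2, haZ⟩ := hZ
    set N := zpowers a with hN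
    haveI : N.Normal := ⟨fun x hx y => by
      rw [mem_center_iff.1 ((zpowers_le.2 haZ) hx) y, mul_inv_cancel_right]; exact hx⟩
    have hNH : N ≤ H := zpowers_le.2 haH
    have hN1 : N ≠ ⊥ := fun h => by
      rw [hN, zpowers_eq_bot] at h; rw [h, orderOf_one] at ha2; omega
    have hle : N ≤ normalizer (H : Set G) ⊔ Cfsg.oddCore G :=
      le_trans hNH (le_trans le_normalizer le_sup_left)
    refine of_quotient hH2 hcl hHab N (by rw [sup_eq_left.2 hNH, relIndex_self]; exact odd_one) hle
      ?_ (IH _ (card_quotient_lt N hN1) (G ⧸ N) _ rfl)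
    set Ob := Cfsg.oddCore (G ⧸ N)
    have hNle : N ≤ Ob.comap (QuotientGroup.mk' N) := by
      refine le_trans (le_of_eq (QuotientGroup.ker_mk' N).symm) ?_
      exact comap_mono bot_le
    refine le_trans (le_sup_oddCore a haZ ha2 (Ob.comap (QuotientGroup.mk' N))
      (hNle (mem_zpowers a)) ?_) (sup_le hle le_sup_right)
    have h1 := Thompson.card_comap_quotient N Ob
    have h2 := relIndex_mul_relIndex ⊥ N _ bot_le hNle
    rw [relIndex_bot_left, relIndex_bot_left, h1, mul_comm] at h2
    rw [Nat.eq_of_mul_eq_mul_right Nat.card_pos h2]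
    exact Nat.coprime_two_right.1 Thompson.card_pPrimeCore_coprime
  push Not at hZ
  -- the centralisers of involutions
  have hfac : ∀ a ∈ H, orderOf a = 2 → ∃ W : Subgroup G, W ≤ centralizer ({a} : Set G) ∧
      centralizer ({a} : Set G) ≤ normalizer (W : Set G) ∧ Odd (Nat.card W) ∧
      centralizer ({a} : Set G) ≤
        (normalizer (H : Set G) ⊓ centralizer ({a} : Set G)) ⊔ W := by
    intro a ha ha2
    set C := centralizer ({a} : Set G) with hC
    have hHC : H ≤ C := fun x hx => mem_centralizer_singleton_iff.2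
      (congrArg Subtype.val (hHab.is_comm.comm ⟨x, hx⟩ ⟨a, ha⟩))
    have hCtop : C ≠ ⊤ := fun h => hZ a ha ha2 (mem_center_iff.2 fun g =>
      mem_centralizer_singleton_iff.1 (h ▸ mem_top g : g ∈ C))
    have hlt : Nat.card C < Nat.card G :=
      lt_of_le_of_ne (Nat.le_of_dvd Nat.card_pos (card_subgroup_dvd_card C))
        fun h => hCtop (eq_top_of_card_eq C h)
    have h1 := IH _ hlt C (H.subgroupOf C) rfl
      (hH2.of_equiv (subgroupOfEquivOfLe hHC).symm)
      ⟨⟨fun x y => by
        refine Subtype.ext (Subtype.ext ?_)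
        simpa using congrArg Subtype.val
          (hHab.is_comm.comm ⟨((x : C) : G), x.2⟩ ⟨((y : C) : G), y.2⟩)⟩⟩ (isExtremelyClosed_subgroupOf hHC hcl)
    refine ⟨(Cfsg.oddCore C).map C.subtype, map_subtype_le _, ?_, ?_, ?_⟩
    · have key : ∀ t ∈ C, ∀ y ∈ (Cfsg.oddCore C).map C.subtype,
          t * y * t⁻¹ ∈ (Cfsg.oddCore C).map C.subtype := by
        rintro t ht _ ⟨o, ho, rfl⟩
        exact ⟨⟨t, ht⟩ * o * ⟨t, ht⟩⁻¹, Normal.conj_mem Thompson.instPPrimeCoreNormal o ho _, rfl⟩
      exact fun t ht => mem_normalizer_iff.2 fun y => ⟨key t ht y, fun hy => by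
        simpa [mul_assoc] using key _ (C.inv_mem ht) _ hy⟩
    · rw [card_map_of_injective C.subtype_injective]
      exact Nat.coprime_two_right.1 Thompson.card_pPrimeCore_coprime
    · intro x hx
      have h2 := mem_map_of_mem C.subtype (h1 ▸ mem_top (⟨x, hx⟩ : C) :
        (⟨x, hx⟩ : C) ∈ normalizer ((H.subgroupOf C : Subgroup C) : Set C) ⊔ Cfsg.oddCore C)
      rw [Subgroup.map_sup] at h2
      refine SetLike.le_def.mp (sup_le_sup_right ?_ _) h2
      rintro _ ⟨y, hy, rfl⟩
      exact ⟨mem_normalizer_of_subgroupOf hHC hy, y.2⟩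
  -- the elements compatible with the colouring
  let M₀ : Submonoid G :=
    { carrier := {g | ∀ t ∈ invClass H, colour H (g * t * g⁻¹) = colour H (g * colour H t * g⁻¹)}
      one_mem' := fun t ht => by
        simp [colour_self hH2 hHab hcl (colour_mem hH2 hHab hcl ht).1
          (colour_mem hH2 hHab hcl ht).2]
      mul_mem' := fun {g k} hg hk t ht => by
        have h1 : ∀ s : G, g * k * s * (g * k)⁻¹ = g * (k * s * k⁻¹) * g⁻¹ := fun s => by group
        rw [h1, h1, hg _ (conj_mem_invClass ht k), hk t ht,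
          ← hg _ (conj_mem_invClass (colour_mem_invClass hH2 hHab hcl ht) k)] }
  let M : Subgroup G :=
    { M₀ with
      inv_mem' := fun {g} hg => by
        have h1 : g⁻¹ = g ^ (orderOf g - 1) := inv_eq_of_mul_eq_one_right (by
          rw [← pow_succ', Nat.sub_add_cancel (orderOf_pos g), pow_orderOf_eq_one])
        rw [h1]
        exact M₀.pow_mem hg _ }
  have hNM : normalizer (H : Set G) ≤ M := fun x hx t ht => by
    obtain ⟨h1, h2⟩ := colour_mem hH2 hHab hcl ht
    rw [colour_normalizer hH2 hHab hcl hx ht, colour_self hH2 hHab hcl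
      ((mem_normalizer_iff.1 hx _).1 h1) (by rw [orderOf_conj', h2])]
  have hCM : ∀ a ∈ H, orderOf a = 2 → centralizer ({a} : Set G) ≤ M := by
    intro a ha ha2
    obtain ⟨W, hW1, hW2, hW3, hW4⟩ := hfac a ha ha2
    refine le_trans hW4 (sup_le (le_trans inf_le_left hNM) fun c hc t ht => ?_)
    rw [colour_conj_core hH2 hHab hcl ha ha2 hW1 hW2 hW3 hW4 ht hc,
      colour_conj_core hH2 hHab hcl ha ha2 hW1 hW2 hW3 hW4
        (colour_mem_invClass hH2 hHab hcl ht) hc,
      colour_self hH2 hHab hcl (colour_mem hH2 hHab hcl ht).1 (colour_mem hH2 hHab hcl ht).2]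
  have hMtop : ∀ g : G, g ∈ M := by
    intro g
    by_cases hsub : ∀ a b : G, a ∈ H → orderOf a = 2 → b ∈ H → orderOf b = 2 → a = b
    · intro t ht
      obtain ⟨h1, h2⟩ := colour_mem hH2 hHab hcl (conj_mem_invClass ht g)
      obtain ⟨h3, h4⟩ := colour_mem hH2 hHab hcl
        (conj_mem_invClass (colour_mem_invClass hH2 hHab hcl ht) g)
      exact hsub _ _ h1 h2 h3 h4
    push Not at hsub
    obtain ⟨a, b, ha, ha2, hb, hb2, hab⟩ := hsub
    have hcyc : ¬ IsCyclic H := fun h => by
      classical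
      haveI := Fintype.ofFinite H
      have h1 := h.card_pow_eq_one_le (n := 2) (by norm_num)
      have h2 : ({1, ⟨a, ha⟩, ⟨b, hb⟩} : Finset H) ⊆
          Finset.univ.filter fun x : H => x ^ 2 = 1 := by
        intro x hx
        simp only [Finset.mem_insert, Finset.mem_singleton] at hx
        simp only [Finset.mem_filter, Finset.mem_univ, true_and]
        refine Subtype.ext ?_
        rcases hx with rfl | rfl | rfl
        · simp
        · simp [sq, mul_self_of_orderOf ha2]
        · simp [sq, mul_self_of_orderOf hb2]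
      have h3 := Finset.card_le_card h2
      have ha1 : a ≠ 1 := fun h => by rw [h, orderOf_one] at ha2; omega
      have hb1 : b ≠ 1 := fun h => by rw [h, orderOf_one] at hb2; omega
      rw [Finset.card_insert_of_notMem (by
          simp only [Finset.mem_insert, Finset.mem_singleton, Subtype.ext_iff, Subgroup.coe_one, not_or]
          exact ⟨Ne.symm ha1, Ne.symm hb1⟩),
        Finset.card_pair (by simpa using hab)] at h3
      omega
    obtain ⟨d, hd, hdn⟩ := exists_mem_pair hH2 hHab hcl g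
    obtain ⟨O, h1, -, hHO, hOodd, -⟩ := exists_pair hH2 hHab hcl g
    have hOM : O ≤ M := by
      haveI := hHab
      refine Coprime.le_of_centralizer_le H O M hcyc hHO ?_ fun e he he1 => ?_
      · obtain ⟨k, hk⟩ := IsPGroup.iff_card.1 hH2
        rw [hk]
        exact Nat.Coprime.pow_left _ (Nat.coprime_two_left.2 hOodd)
      obtain ⟨k, hk⟩ := hH2.exists_orderOf_eq_pow ⟨e, he⟩
      rw [orderOf_mk] at hk
      have hk0 : k ≠ 0 := fun h => he1 (orderOf_eq_one_iff.1 (by rw [hk, h, pow_zero]))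
      obtain ⟨j, rfl⟩ := Nat.exists_eq_succ_of_ne_zero hk0
      refine le_trans inf_le_right (le_trans ?_ (hCM (e ^ 2 ^ j) (pow_mem he _) ?_))
      · exact fun x hx => mem_centralizer_singleton_iff.2
          (Commute.pow_right (mem_centralizer_singleton_iff.1 hx) _)
      · rw [orderOf_pow, hk, Nat.gcd_eq_right (pow_dvd_pow 2 j.le_succ), pow_succ,
          Nat.mul_div_cancel_left _ (by positivity)]
    have hdM : d ∈ M := by
      rw [← h1] at hd
      exact (sup_le (le_trans le_normalizer hNM) hOM) hd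
    have := M.mul_mem hdM (hNM hdn)
    rwa [mul_inv_cancel_left] at this
  -- the action on the involutions of `H`
  let I : Type _ := {e : G // e ∈ H ∧ orderOf e = 2}
  letI : MulAction G I :=
    { smul := fun g e => ⟨colour H (g * e.1 * g⁻¹),
        colour_mem hH2 hHab hcl (conj_mem_invClass (self_mem_invClass e.2.1 e.2.2) g)⟩
      one_smul := fun e => Subtype.ext (by
        show colour H (1 * e.1 * 1⁻¹) = e.1
        simp [colour_self hH2 hHab hcl e.2.1 e.2.2])
      mul_smul := fun g k e => Subtype.ext (by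
        show colour H (g * k * e.1 * (g * k)⁻¹) = colour H (g * colour H (k * e.1 * k⁻¹) * g⁻¹)
        rw [← hMtop g _ (conj_mem_invClass (self_mem_invClass e.2.1 e.2.2) k)]
        congr 1
        group) }
  set L := (MulAction.toPermHom G I).ker
  have hmemL : ∀ g : G, g ∈ L → ∀ (e : G), e ∈ H → orderOf e = 2 →
      colour H (g * e * g⁻¹) = e := fun g hg e he he2 =>
    congrArg Subtype.val (Equiv.congr_fun (MonoidHom.mem_ker.1 hg) (⟨e, he, he2⟩ : I))
  have hHL : H ≤ L := fun x hx => MonoidHom.mem_ker.2 (Equiv.ext fun e => Subtype.ext (by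
    show colour H (x * e.1 * x⁻¹) = e.1
    have h1 : x * e.1 = e.1 * x :=
      congrArg Subtype.val (hHab.is_comm.comm ⟨x, hx⟩ ⟨e.1, e.2.1⟩)
    rw [h1, mul_inv_cancel_right, colour_self hH2 hHab hcl e.2.1 e.2.2]))
  by_cases hL : L = ⊤
  · -- every involution of `H` is isolated
    by_cases hH : H = ⊥
    · refine top_le_iff.1 (le_trans ?_ le_sup_left)
      intro x _
      rw [hH, mem_normalizer_iff]
      simp
    haveI : Nontrivial H := (nontrivial_iff_ne_bot H).2 hH
    obtain ⟨k, hk, hcard⟩ := hH2.nontrivial_iff_card.1 inferInstance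
    obtain ⟨⟨e, he⟩, he2⟩ := exists_prime_orderOf_dvd_card' (G := H) 2
      (hcard ▸ dvd_pow_self 2 hk.ne')
    rw [orderOf_mk] at he2
    obtain ⟨S, hS⟩ := hH2.exists_le_sylow
    obtain ⟨hSN, -⟩ := (S3021.result H hH2 hcl).2 S hS
    have hiso : ∀ g : G, g * e * g⁻¹ ∈ S → g * e * g⁻¹ = e := by
      intro g hg
      have h1 := mem_of_conj_mem_normalizer hcl (LAE65.conj_mem_map (g := g) he) (hSN hg)
      have h2 := hmemL g (hL ▸ mem_top g) e he he2
      rwa [colour_self hH2 hHab hcl h1 (by rw [orderOf_conj', he2])] at h2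
    obtain ⟨N, hN, hNodd, hcomm⟩ := S0215.result S e he2 (hS he) hiso
    have hNb : N = ⊥ := by
      rw [eq_bot_iff, ← hO]
      exact Thompson.le_pPrimeCore hN (Nat.coprime_two_right.2 hNodd)
    refine absurd (mem_center_iff.2 fun g => ?_) (hZ e he he2)
    have h1 := hcomm g
    rw [hNb, mem_bot, mul_inv_eq_one, mul_inv_eq_iff_eq_mul] at h1
    exact h1.symm
  · have hlt : Nat.card L < Nat.card G :=
      lt_of_le_of_ne (Nat.le_of_dvd Nat.card_pos (card_subgroup_dvd_card L))
        fun h => hL (eq_top_of_card_eq L h)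
    have h1 := IH _ hlt L (H.subgroupOf L) rfl
      (hH2.of_equiv (subgroupOfEquivOfLe hHL).symm)
      ⟨⟨fun x y => by
        refine Subtype.ext (Subtype.ext ?_)
        simpa using congrArg Subtype.val
          (hHab.is_comm.comm ⟨((x : L) : G), x.2⟩ ⟨((y : L) : G), y.2⟩)⟩⟩ (isExtremelyClosed_subgroupOf hHL hcl)
    have hLle : L ≤ normalizer (H : Set G) ⊔ Cfsg.oddCore G := by
      intro x hx
      have h2 := mem_map_of_mem L.subtype (h1 ▸ mem_top (⟨x, hx⟩ : L) :
        (⟨x, hx⟩ : L) ∈ normalizer ((H.subgroupOf L : Subgroup L) : Set L) ⊔ Cfsg.oddCore L)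
      rw [Subgroup.map_sup] at h2
      refine SetLike.le_def.mp (sup_le_sup ?_ (Thompson.map_pPrimeCore_normal_le L)) h2
      rintro _ ⟨y, hy, rfl⟩
      exact mem_normalizer_of_subgroupOf hHL hy
    refine top_le_iff.1 fun g _ => ?_
    obtain ⟨d, hd, hdn⟩ := exists_mem_pair hH2 hHab hcl g
    have hdL : d ∈ L := by
      refine (sup_le hHL ?_) hd
      rintro _ ⟨y, hy, rfl⟩
      exact Normal.conj_mem inferInstance y (hHL hy) g
    have := mul_mem (hLle hdL) (mem_sup_left (T := Cfsg.oddCore G) hdn)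
    rwa [mul_inv_cancel_left] at this

/-- Let G be a finite group and H an abelian 2-subgroup of G that is extremely closed (for every g, the subgroup generated by H and g H g⁻¹ meets N_G(H) exactly in H). Then G = N_G(H) O(G), where O(G) is the largest normal subgroup of odd order. For H of order 2 this is Glauberman's Z*-statement. -/
theorem result {G : Type*} [Group G] [Finite G] (H : Subgroup G) (hH2 : IsPGroup 2 H) (hHab : IsMulCommutative H) (hcl : Cfsg.IsExtremelyClosed H) : Subgroup.normalizer (H : Set G) ⊔ Cfsg.oddCore G = ⊤ := by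
  exact aux _ G H rfl hH2 hHab hcl

end Cfsg.Agent.S3017
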