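import Cfsg.Statements.S3019
import Cfsg.Agent.PairSyl14.Main
import Cfsg.Agent.PairSyl14.Exists
import Cfsg.Agent.PairSyl14.Sweep
import Cfsg.Agent.PairSyl14.Bound
import Cfsg.Agent.PairSyl14.FinishTwo
import Cfsg.Agent.PairSyl14.FinishOne
import Cfsg.Agent.PairSyl14.Reduce

set_option autoImplicit false
open Cfsg

namespace Cfsg.Agent.S3019

/-- Let G be a finite group, p a prime and P a Sylow p-subgroup of G. Then G is p-solvable if and only if, for every g ∈ G, the subgroup generated by P and g P g⁻¹ is p-solvable. -/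
theorem result {G : Type*} [Group G] [Finite G] {p : ℕ} [Fact p.Prime] (P : Sylow p G) : Cfsg.IsPSolvable p G ↔ ∀ g : G, Cfsg.IsPSolvable p ↥((P : Subgroup G) ⊔ (P : Subgroup G).map (MulAut.conj g).toMonoidHom) := by
  exact Cfsg.Agent.PairSyl14.reduce
    (Cfsg.Agent.PairSyl14.main Cfsg.Agent.PairSyl14.existsSetup Cfsg.Agent.PairSyl14.sweep
      Cfsg.Agent.PairSyl14.bound Cfsg.Agent.PairSyl14.finishTwo Cfsg.Agent.PairSyl14.finishOne) G p P

end Cfsg.Agent.S3019
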