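import Cfsg.Statements.S3020
import Cfsg.Agent.LAE65.Isolated
import Mathlib.GroupTheory.Nilpotent

set_option autoImplicit false
open Cfsg

namespace Cfsg.Agent.S3020

/-- Let G be a finite group, p a prime and H an abelian p-subgroup of G that is extremely closed (for every g, the subgroup generated by H and g H g⁻¹ meets N_G(H) exactly in H). Then for every g ∈ G, the subgroup T generated by H and g H g⁻¹ is the product of H with O_{p'}(T), and H meets O_{p'}(T) trivially; that is, O_{p'}(T) is a normal p-complement of H in T. -/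
theorem result {G : Type*} [Group G] [Finite G] {p : ℕ} [Fact p.Prime] (H : Subgroup G) (hHp : IsPGroup p H) (hHab : IsMulCommutative H) (hcl : Cfsg.IsExtremelyClosed H) (g : G) (T : Subgroup G) (hT : T = H ⊔ H.map (MulAut.conj g).toMonoidHom) : H ⊔ (Cfsg.pPrimeCore p ↥T).map T.subtype = T ∧ H ⊓ (Cfsg.pPrimeCore p ↥T).map T.subtype = ⊥ := by
  have hp : p.Prime := Fact.out
  have hHT : H ≤ T := hT ▸ le_sup_left
  have hcl' : T ⊓ Subgroup.normalizer (H : Set G) = H := hT ▸ hcl g
  set H' := H.subgroupOf T with hH'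
  have hH'p : IsPGroup p H' := hHp.of_equiv (Subgroup.subgroupOfEquivOfLe hHT).symm
  have hnorm : Subgroup.normalizer (H' : Set T) = H' := by
    refine le_antisymm (fun t ht => ?_) Subgroup.le_normalizer
    show (t : G) ∈ H
    rw [← hcl']
    refine ⟨t.2, Subgroup.mem_normalizer_iff.2 fun y => ⟨fun hy => ?_, fun hy => ?_⟩⟩
    · exact (Subgroup.mem_normalizer_iff.1 ht ⟨y, hHT hy⟩).1 hy
    · have hyT : y ∈ T := by
        have := T.mul_mem (T.mul_mem (T.inv_mem t.2) (hHT hy)) t.2
        simpa [mul_assoc] using this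
      exact (Subgroup.mem_normalizer_iff.1 ht ⟨y, hyT⟩).2 hy
  obtain ⟨P, hP⟩ := hH'p.exists_le_sylow
  have hPH : (P : Subgroup T) = H' := by
    refine le_antisymm (Subgroup.subgroupOf_eq_top.1 ?_) hP
    haveI : Group.IsNilpotent (P : Subgroup T) := P.2.isNilpotent
    by_contra hne
    obtain ⟨t, ht, htn⟩ := SetLike.exists_of_lt
      (Group.normalizerCondition_of_isNilpotent (H'.subgroupOf (P : Subgroup T))
        (lt_top_iff_ne_top.2 hne))
    refine htn ?_
    show (t : T) ∈ H'
    rw [← hnorm]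
    refine Subgroup.mem_normalizer_iff.2 fun y => ⟨fun hy => ?_, fun hy => ?_⟩
    · exact (Subgroup.mem_normalizer_iff.1 ht ⟨y, hP hy⟩).1 hy
    · have hyP : y ∈ (P : Subgroup T) := by
        have := (P : Subgroup T).mul_mem ((P : Subgroup T).mul_mem
          ((P : Subgroup T).inv_mem t.2) (hP hy)) t.2
        simpa [mul_assoc] using this
      exact (Subgroup.mem_normalizer_iff.1 ht ⟨y, hyP⟩).2 hy
  have hNC : Subgroup.normalizer ((P : Subgroup T) : Set T) ≤
      Subgroup.centralizer ((P : Subgroup T) : Set T) := by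
    rw [hPH, hnorm]
    intro a ha
    rw [Subgroup.mem_centralizer_iff]
    intro b hb
    exact Subtype.ext (congrArg Subtype.val
      (hHab.is_comm.comm (⟨(b : G), hb⟩ : H) ⟨(a : G), ha⟩) :)
  set N := (MonoidHom.transferSylow P hNC).ker with hN
  have hc : N.IsComplement' (P : Subgroup T) := MonoidHom.ker_transferSylow_isComplement' P hNC
  have hcop : (Nat.card N).Coprime p := by
    rw [Nat.coprime_comm, hp.coprime_iff_not_dvd]
    exact MonoidHom.not_dvd_card_ker_transferSylow P hNC
  have hle : N ≤ Cfsg.pPrimeCore p T := le_sSup ⟨inferInstance, hcop⟩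
  constructor
  · refine le_antisymm (sup_le hHT (Subgroup.map_subtype_le _)) fun t ht => ?_
    have h2 : (⟨t, ht⟩ : T) ∈ H' ⊔ Cfsg.pPrimeCore p T := by
      have : (⊤ : Subgroup T) ≤ H' ⊔ Cfsg.pPrimeCore p T := by
        rw [← hc.sup_eq_top, hPH, sup_comm]
        exact sup_le_sup_left hle _
      exact this (Subgroup.mem_top _)
    have h3 := Subgroup.mem_map_of_mem T.subtype h2
    rw [Subgroup.map_sup, hH', Subgroup.subgroupOf_map_subtype, inf_eq_left.2 hHT] at h3
    exact h3
  · rw [Subgroup.eq_bot_iff_forall]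
    rintro _ ⟨hyH, y, hy, rfl⟩
    have hnot : ¬ p ∣ orderOf y := by
      intro hd
      have hall : ∀ M : Subgroup T, M.Normal ∧ (Nat.card M).Coprime p → M ≤ N := by
        rintro M ⟨hM, hMc⟩ z hz
        haveI := hM
        rw [hN, MonoidHom.mem_ker]
        have h4 : orderOf (MonoidHom.transferSylow P hNC z) ∣ Nat.card M :=
          (orderOf_map_dvd _ z).trans
            ((Subgroup.orderOf_coe (⟨z, hz⟩ : M)).symm ▸ orderOf_dvd_natCard _)
        obtain ⟨e, he⟩ := P.2.exists_orderOf_eq_pow (MonoidHom.transferSylow P hNC z)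
        rw [← orderOf_eq_one_iff]
        rw [he] at h4 ⊢
        rcases Nat.eq_zero_or_pos e with rfl | hep
        · rfl
        · exact absurd ((dvd_pow_self p hep.ne').trans h4) (fun h5 => hp.one_lt.ne'
            (Nat.eq_one_of_dvd_coprimes hMc h5 dvd_rfl))
      have hyN : y ∈ N := (sSup_le hall : Cfsg.pPrimeCore p T ≤ N) hy
      have : orderOf y ∣ Nat.card N :=
        (Subgroup.orderOf_coe (⟨y, hyN⟩ : N)).symm ▸ orderOf_dvd_natCard _
      exact hp.one_lt.ne' (Nat.eq_one_of_dvd_coprimes hcop (hd.trans this) dvd_rfl)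
    obtain ⟨e, he⟩ := hH'p.exists_orderOf_eq_pow (⟨y, hyH⟩ : H')
    rw [← Subgroup.orderOf_coe] at he
    rcases Nat.eq_zero_or_pos e with rfl | hep
    · rw [pow_zero, orderOf_eq_one_iff] at he
      show (y : G) = 1
      rw [show y = 1 from he]; rfl
    · exact absurd (he ▸ dvd_pow_self p hep.ne') hnot

end Cfsg.Agent.S3020
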