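import Cfsg.Statements.S3022
import Cfsg.Agent.Lib.Thompson.Block.Parity
-- import your own Cfsg.Agent.* helpers here

set_option autoImplicit false
open Cfsg

namespace Cfsg.Agent.S3022

variable {G : Type*} [Group G] {p : ℕ} {S : Subgroup G}

/-- `Ω₁(Z(S))` is invariant under the automorphisms of `S`. -/
theorem apply_mem_omegaCenter (a : MulAut ↥S) {x : ↥S} (hx : (x : G) ∈ omegaOneCenter p S) :
    ((a x : ↥S) : G) ∈ omegaOneCenter p S := by
  have key : ∀ y : G, y ∈ omegaOneCenter p S → ∀ hy : y ∈ S,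
      ((a ⟨y, hy⟩ : ↥S) : G) ∈ omegaOneCenter p S := by
    intro y hy
    induction hy using Subgroup.closure_induction with
    | mem y hy =>
      intro hyS
      refine Thompson.mem_omegaOne ⟨(a ⟨y, hyS⟩).2, Subgroup.mem_centralizer_iff.2 fun z hz => ?_⟩ ?_
      · have h1 : a.symm ⟨z, hz⟩ * ⟨y, hyS⟩ = ⟨y, hyS⟩ * a.symm ⟨z, hz⟩ :=
          Subtype.ext (Subgroup.mem_centralizer_iff.1 hy.1.2 _ (a.symm ⟨z, hz⟩).2)
        have h2 := congrArg (fun w => ((a w : ↥S) : G)) h1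
        simpa using h2
      · have h1 : (⟨y, hyS⟩ : ↥S) ^ p = 1 := Subtype.ext (by simpa using hy.2)
        rw [← SubmonoidClass.coe_pow, ← map_pow, h1, map_one, OneMemClass.coe_one]
    | one =>
      intro hyS
      rw [show (⟨1, hyS⟩ : ↥S) = 1 from rfl, map_one]
      exact one_mem _
    | mul u w hu hw ihu ihw =>
      intro hyS
      have huS : u ∈ S := (Thompson.omegaOne_le p _ hu).1
      have hwS : w ∈ S := (Thompson.omegaOne_le p _ hw).1
      rw [show (⟨u * w, hyS⟩ : ↥S) = ⟨u, huS⟩ * ⟨w, hwS⟩ from rfl, map_mul, Subgroup.coe_mul]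
      exact mul_mem (ihu huS) (ihw hwS)
    | inv u hu ihu =>
      intro hyS
      have huS : u ∈ S := (Thompson.omegaOne_le p _ hu).1
      rw [show (⟨u⁻¹, hyS⟩ : ↥S) = ⟨u, huS⟩⁻¹ from rfl, map_inv, Subgroup.coe_inv]
      exact inv_mem (ihu huS)
  exact key _ hx x.2

theorem mem_baumann_iff {x : ↥S} : (x : G) ∈ baumannSubgroupOf p S ↔
    x ∈ Subgroup.centralizer (omegaCenterThompson p ↥S : Set ↥S) := by
  have e : omegaOne p (centerThompsonOf p S) = (omegaCenterThompson p ↥S).map S.subtype :=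
    (Thompson.map_omegaCenterThompson S.subtype S.subtype_injective).symm
  rw [baumannSubgroupOf, Subgroup.mem_inf, e, Subgroup.mem_centralizer_iff,
    Subgroup.mem_centralizer_iff]
  refine ⟨fun h y hy => Subtype.ext (h.2 _ ⟨y, hy, rfl⟩), fun h => ⟨x.2, ?_⟩⟩
  rintro _ ⟨y, hy, rfl⟩
  exact congrArg Subtype.val (h y hy)

/-- The Baumann subgroup is invariant under the automorphisms of `S`. -/
theorem apply_mem_baumann (a : MulAut ↥S) {x : ↥S} (hx : (x : G) ∈ baumannSubgroupOf p S) :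
    ((a x : ↥S) : G) ∈ baumannSubgroupOf p S := by
  rw [mem_baumann_iff, Subgroup.mem_centralizer_iff] at hx ⊢
  intro y hy
  have hZ : (omegaCenterThompson p ↥S).map a.toMonoidHom = omegaCenterThompson p ↥S := by
    rw [Thompson.map_omegaCenterThompson _ a.injective,
      Subgroup.characteristic_iff_map_eq.1 inferInstance a]
    rfl
  obtain ⟨z, hz, rfl⟩ := hZ.ge hy
  show a z * a x = a x * a z
  rw [← map_mul, ← map_mul, hx z hz]

theorem apply_mem_of_char (a : MulAut ↥S) {C : Subgroup G} (hC : C ≤ baumannSubgroupOf p S)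
    (hch : (C.subgroupOf (baumannSubgroupOf p S)).Characteristic) {x : ↥S} (hx : (x : G) ∈ C) :
    ((a x : ↥S) : G) ∈ C := by
  have hBS : baumannSubgroupOf p S ≤ S := inf_le_left
  let φ : ↥(baumannSubgroupOf p S) ≃* ↥(baumannSubgroupOf p S) :=
    { toFun := fun b => ⟨(a ⟨b, hBS b.2⟩ : ↥S), apply_mem_baumann a b.2⟩
      invFun := fun b => ⟨(a.symm ⟨b, hBS b.2⟩ : ↥S), apply_mem_baumann a.symm b.2⟩
      left_inv := fun b => Subtype.ext (by simp)
      right_inv := fun b => Subtype.ext (by simp)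
      map_mul' := fun b c => Subtype.ext (by
        show ((a (⟨b, hBS b.2⟩ * ⟨c, hBS c.2⟩) : ↥S) : G) = _
        rw [map_mul]; rfl) }
  have h1 : (⟨x, hC hx⟩ : ↥(baumannSubgroupOf p S)) ∈
      (C.subgroupOf (baumannSubgroupOf p S)).comap φ.toMonoidHom := by
    rw [hch.fixed φ]; exact hx
  exact h1

/-- Let G be a finite group all of whose non-abelian simple sections are known simple groups, such that a Sylow 2-subgroup of G lies in exactly one maximal subgroup of G and C_G(O₂(G)) ≤ O₂(G). Let S be a Sylow 2-subgroup of G and A a group of automorphisms of S of odd order. Then some nontrivial A-invariant subgroup of S is normal in G. -/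
theorem result {G : Type*} [Group G] [Finite G] (hK : Cfsg.IsKGroup G) (hirr : ∀ S : Sylow 2 G, ∃! M : Subgroup G, IsCoatom M ∧ (S : Subgroup G) ≤ M) (hchar : Subgroup.centralizer (Cfsg.pCore 2 G : Set G) ≤ Cfsg.pCore 2 G) (S : Sylow 2 G) (A : Subgroup (MulAut ↥(S : Subgroup G))) (hA : Odd (Nat.card A)) : ∃ U : Subgroup G, U ≠ ⊥ ∧ U.Normal ∧ U ≤ (S : Subgroup G) ∧ ∀ a ∈ A, ∀ x : ↥(S : Subgroup G), (x : G) ∈ U → ((a x : ↥(S : Subgroup G)) : G) ∈ U := by
  have hS : (S : Subgroup G) ≠ ⊥ := by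
    intro e
    obtain ⟨M, ⟨hM, -⟩, -⟩ := hirr S
    refine hM.1 (eq_top_iff.2 fun g _ => ?_)
    have hQ : Cfsg.pCore 2 G = ⊥ := le_bot_iff.1 (e ▸ Thompson.pCore_le_sylow S)
    have hg := hchar (show g ∈ Subgroup.centralizer (Cfsg.pCore 2 G : Set G) by
      rw [Subgroup.mem_centralizer_iff]
      intro y hy
      rw [Subgroup.mem_bot.1 (hQ ▸ hy : y ∈ (⊥ : Subgroup G)), one_mul, mul_one])
    rw [hQ, Subgroup.mem_bot] at hg
    rw [hg]
    exact one_mem _
  by_cases hn : (S : Subgroup G).Normal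
  · exact ⟨S, hS, hn, le_rfl, fun a _ x _ => (a x).2⟩
  by_cases hz : (omegaOneCenter 2 (S : Subgroup G)).Normal
  · refine ⟨_, fun e => ?_, hz, (Thompson.omegaOne_le 2 _).trans inf_le_left,
      fun a _ x hx => apply_mem_omegaCenter a hx⟩
    refine Thompson.omegaOne_ne_bot (S.isPGroup'.to_le inf_le_left) ?_ e
    intro hc
    haveI : Nontrivial ↥(S : Subgroup G) := (Subgroup.nontrivial_iff_ne_bot _).2 hS
    haveI := IsPGroup.center_nontrivial S.isPGroup'
    obtain ⟨z, hz1⟩ := exists_ne (1 : ↥(Subgroup.center ↥(S : Subgroup G)))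
    refine hz1 (Subtype.ext (Subtype.ext (Subgroup.mem_bot.1 (hc.le ⟨z.1.2, ?_⟩))))
    exact Subgroup.mem_centralizer_iff.2 fun y hy =>
      congrArg Subtype.val (Subgroup.mem_center_iff.1 z.2 ⟨y, hy⟩)
  by_cases hC : ∃ C : Subgroup G, C ≤ baumannSubgroupOf 2 (S : Subgroup G) ∧ C ≠ ⊥ ∧
      (C.subgroupOf (baumannSubgroupOf 2 (S : Subgroup G))).Characteristic ∧ C.Normal
  · obtain ⟨C, hCB, hC1, hCc, hCn⟩ := hC
    exact ⟨C, hC1, hCn, hCB.trans inf_le_left, fun a _ x hx => apply_mem_of_char a hCB hCc hx⟩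
  have hmin : Cfsg.IsPMinimal 2 G := fun T => ⟨fun hT => hn (by
    obtain ⟨g, rfl⟩ := MulAction.exists_smul_eq G T S
    rw [LocalEven61.sylow_smul_coe]
    exact hT.map _ (MulAut.conj g).surjective), hirr T⟩
  obtain ⟨M, q, h⟩ := Block82.exists_ctx hmin hchar S
    (fun C hCB hC1 hCc hCn => hC ⟨C, hCB, hC1, hCc, hCn⟩) hz
  have hodd : ∀ φ ∈ A, Block82.imW S φ ≤ Block82.cenW S 1 := fun φ hφ =>
    h.imW_le_of_odd (hA.of_dvd_nat (by
      rw [← Subgroup.orderOf_mk φ hφ]
      exact orderOf_dvd_natCard _))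
  set U' : Subgroup ↥(S : Subgroup G) := ⨆ φ ∈ A, Block82.imW S φ with hU'
  set U := U'.map (S : Subgroup G).subtype with hU
  have hV : Block82.Om 2 G ≤ U := fun v hv =>
    ⟨⟨v, Thompson.pCore_le_sylow S ((LAE65.Block.omegaOneCenter_le _) hv)⟩,
      le_iSup₂ (f := fun φ (_ : φ ∈ A) => Block82.imW S φ) 1 A.one_mem hv, rfl⟩
  have hUc : U ≤ Block82.cen 2 G := by
    rw [hU, Subgroup.map_le_iff_le_comap]
    exact iSup₂_le fun φ hφ x hx => Block82.mem_cenW_one.1 (hodd φ hφ hx)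
  have hnS : U'.Normal := ⟨fun x hx s => by
    have key : U' ≤ U'.comap (MulAut.conj s).toMonoidHom := iSup₂_le fun φ hφ y hy =>
      le_iSup₂ (f := fun φ (_ : φ ∈ A) => Block82.imW S φ) φ hφ
        ((Block82.imW_normal φ).conj_mem y hy s)
    exact key hx⟩
  refine ⟨U, fun e => ?_, ?_, Subgroup.map_subtype_le _, fun a ha x hx => ?_⟩
  · obtain ⟨B, hB⟩ := h.conf.mems_nonempty 1
    obtain ⟨v, -, hv⟩ := SetLike.exists_of_lt (lt_top_iff_ne_top.2 hB.1.fix_ne_top)
    refine hv ?_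
    rw [show v = 0 from Block82.cv_injective (Subgroup.mem_bot.1 (e ▸ hV (Block82.cv_mem v)))]
    exact zero_mem _
  · refine Subgroup.normalizer_eq_top_iff.1 (eq_top_iff.2 ?_)
    rw [← h.sup_T]
    refine sup_le ?_ ?_
    · refine Subgroup.le_normalizer_iff_commutator_le_right.2 ?_
      exact Subgroup.commutator_le.2 fun k hk u hu => hV (h.sSup_comm_cen hk (hUc hu))
    · have := Subgroup.le_normalizer_map (H := U') (S : Subgroup G).subtype
      rwa [Subgroup.normalizer_eq_top, ← MonoidHom.range_eq_map, Subgroup.range_subtype] at this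
  · obtain ⟨y, hy, e⟩ := hx
    obtain rfl : y = x := Subtype.ext e
    refine ⟨a y, ?_, rfl⟩
    have key : U' ≤ U'.comap a.toMonoidHom := iSup₂_le fun φ hφ z hz =>
      le_iSup₂ (f := fun φ (_ : φ ∈ A) => Block82.imW S φ) (a * φ) (A.mul_mem ha hφ)
        (Block82.apply_mem_imW hz)
    exact key hy

end Cfsg.Agent.S3022
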