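import Cfsg.Statements.S3027
import Cfsg.Agent.LAE65.Basic
import Mathlib.GroupTheory.QuotientGroup.Basic

set_option autoImplicit false
open Cfsg
open scoped commutatorElement

namespace Cfsg.Agent.S3027

/-- Let G be a finite group and D a normal subgroup of G such that G/D is perfect (that is, G = G′D). Then among the subnormal subgroups B of G with BD = G there is a least one, and it is normal in G. -/
theorem result {G : Type*} [Group G] [Finite G] (D : Subgroup G) [D.Normal] (hperf : ⁅(⊤ : Subgroup G), (⊤ : Subgroup G)⁆ ⊔ D = ⊤) :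
    ∃ B : Subgroup G, B.Normal ∧ B ⊔ D = ⊤ ∧ ∀ B' : Subgroup G, B'.IsSubnormal → B' ⊔ D = ⊤ → B ≤ B' := by
  classical
  let π := QuotientGroup.mk' D
  have htop : ∀ X : Subgroup G, X ⊔ D = ⊤ ↔ X.map π = ⊤ := by
    intro X
    constructor
    · intro h
      rw [eq_top_iff, ← Subgroup.map_top_of_surjective π (QuotientGroup.mk'_surjective D), ← h,
        Subgroup.map_sup, (Subgroup.map_eq_bot_iff (H := D) (f := π)).2 (QuotientGroup.ker_mk' D).ge,
        sup_bot_eq]
    · intro h
      have := congrArg (Subgroup.comap π) h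
      rwa [Subgroup.comap_map_eq, Subgroup.comap_top, QuotientGroup.ker_mk'] at this
  have hperf' : ⁅(⊤ : Subgroup (G ⧸ D)), (⊤ : Subgroup (G ⧸ D))⁆ = ⊤ := by
    have h := (htop _).1 hperf
    rwa [Subgroup.map_commutator, Subgroup.map_top_of_surjective π (QuotientGroup.mk'_surjective D)] at h
  have hinf : ∀ X Y : Subgroup G, X ≤ Subgroup.normalizer (Y : Set G) →
      Y ≤ Subgroup.normalizer (X : Set G) → X ⊔ D = ⊤ → Y ⊔ D = ⊤ → (X ⊓ Y) ⊔ D = ⊤ := by
    intro X Y hXY hYX hX hY
    have hle : ⁅X, Y⁆ ≤ X ⊓ Y := le_inf (by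
        rw [Subgroup.commutator_le]
        intro a ha b hb
        have h1 := (Subgroup.mem_normalizer_iff.1 (hYX hb) a⁻¹).1 (X.inv_mem ha)
        simpa [commutatorElement_def, mul_assoc] using X.mul_mem ha h1) (by
        rw [Subgroup.commutator_le]
        intro a ha b hb
        exact Y.mul_mem ((Subgroup.mem_normalizer_iff.1 (hXY ha) b).1 hb) (Y.inv_mem hb))
    rw [htop] at hX hY ⊢
    rw [eq_top_iff, ← hperf']
    calc ⁅(⊤ : Subgroup (G ⧸ D)), (⊤ : Subgroup (G ⧸ D))⁆ = (⁅X, Y⁆).map π := by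
          rw [Subgroup.map_commutator, hX, hY]
      _ ≤ _ := Subgroup.map_mono hle
  haveI := Fintype.ofFinite G
  obtain ⟨R, ⟨hRn, hRD⟩, hRmin⟩ := Set.Finite.exists_minimal
    (s := {X : Subgroup G | X.Normal ∧ X ⊔ D = ⊤}) (Set.toFinite _) ⟨⊤, inferInstance, top_sup_eq _⟩
  haveI := hRn
  refine ⟨R, hRn, hRD, fun B hB => ?_⟩
  induction hB with
  | top => exact fun _ => le_top
  | step B K hBK hK hN ih =>
    intro hBD
    have hKD : K ⊔ D = ⊤ := eq_top_iff.2 (hBD ▸ sup_le_sup_right hBK D)
    have hRK : R ≤ K := ih hKD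
    have hKB : K ≤ Subgroup.normalizer (B : Set G) :=
      (Subgroup.normal_subgroupOf_iff_le_normalizer hBK).1 hN
    -- supplements inside the least normal one, normalized by it
    obtain ⟨T, ⟨hTR, hTn, hTD⟩, hTmin⟩ := Set.Finite.exists_minimal
      (s := {T : Subgroup G | T ≤ R ∧ R ≤ Subgroup.normalizer (T : Set G) ∧ T ⊔ D = ⊤})
      (Set.toFinite _) ⟨R, le_rfl, Subgroup.le_normalizer, hRD⟩
    have hnormInf : ∀ X Y : Subgroup G, R ≤ Subgroup.normalizer (X : Set G) →
        R ≤ Subgroup.normalizer (Y : Set G) → R ≤ Subgroup.normalizer ((X ⊓ Y : Subgroup G) : Set G) := by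
      intro X Y hX hY r hr
      rw [LAE65.mem_normalizer_iff_map, Subgroup.map_inf _ _ _ (MulAut.conj r).injective,
        LAE65.mem_normalizer_iff_map.1 (hX hr), LAE65.mem_normalizer_iff_map.1 (hY hr)]
    have hmin' : ∀ X : Subgroup G, X ≤ R → R ≤ Subgroup.normalizer (X : Set G) → X ⊔ D = ⊤ → T ≤ X := by
      intro X hXR hXn hXD
      have hmem : T ⊓ X ∈ {T : Subgroup G | T ≤ R ∧ R ≤ Subgroup.normalizer (T : Set G) ∧ T ⊔ D = ⊤} :=
        ⟨inf_le_left.trans hTR, hnormInf T X hTn hXn,
          hinf T X (hTR.trans hXn) (hXR.trans hTn) hTD hXD⟩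
      exact le_trans (hTmin hmem inf_le_left) inf_le_right
    have hTnormal : T.Normal := by
      rw [Subgroup.normal_iff_map_conj_eq]
      intro g
      have hDg : D.map (MulAut.conj g).toMonoidHom = D := Subgroup.Normal.map_conj_eq (H := D) g
      have hge : T ≤ T.map (MulAut.conj g).toMonoidHom := by
        refine hmin' _ ?_ ?_ ?_
        · exact (Subgroup.map_mono hTR).trans (Subgroup.Normal.map_conj_eq (H := R) g).le
        · intro r hr
          rw [LAE65.mem_normalizer_iff_map, LAE65.map_conj_mul]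
          have hr' : g⁻¹ * r * g ∈ R := by simpa using hRn.conj_mem r hr g⁻¹
          have := congrArg (Subgroup.map (MulAut.conj g).toMonoidHom)
            (LAE65.mem_normalizer_iff_map.1 (hTn hr'))
          rw [LAE65.map_conj_mul] at this
          rwa [show g * (g⁻¹ * r * g) = r * g by group] at this
        · have := congrArg (Subgroup.map (MulAut.conj g).toMonoidHom) hTD
          rwa [Subgroup.map_sup, hDg, Subgroup.map_top_of_surjective _ (MulAut.conj g).surjective] at this
      exact (Subgroup.eq_of_le_of_card_ge hge (LAE65.card_map_conj T g).le).symm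
    have hRT : R ≤ T := hRmin ⟨hTnormal, hTD⟩ hTR
    refine le_trans hRT (le_trans (hmin' (R ⊓ B) inf_le_left
      (hnormInf R B Subgroup.le_normalizer (hRK.trans hKB)) ?_) inf_le_right)
    exact hinf R B (hRK.trans hKB) Subgroup.le_normalizer_of_normal hRD hBD

end Cfsg.Agent.S3027
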