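import Cfsg.Statements.S3035
import Cfsg.Agent.InvChar68.D8Structure
import Cfsg.Agent.Lib.LinearGroup.PSL27
import Cfsg.Agent.S0495
import Cfsg.Agent.S0497

set_option autoImplicit false
open Cfsg

namespace Cfsg.Agent.S3035

/-- Let G be a finite group with an involution z whose centralizer is dihedral of order 8. Then G = C_G(z) O(G) with O(G) the largest normal subgroup of odd order, or G is isomorphic to the symmetric group of degree 4, the symmetric group of degree 5, the group SL₃(2), or the alternating group of degree 6. -/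
theorem result {G : Type*} [Group G] [Finite G] (z : G) (hz : orderOf z = 2)
    (hC : Nonempty (↥(Subgroup.centralizer ({z} : Set G)) ≃* DihedralGroup 4)) :
    Subgroup.centralizer ({z} : Set G) ⊔ Cfsg.oddCore G = ⊤ ∨ Nonempty (G ≃* Equiv.Perm (Fin 4)) ∨ Nonempty (G ≃* Equiv.Perm (Fin 5)) ∨
      Nonempty (G ≃* Matrix.SpecialLinearGroup (Fin 3) (ZMod 2)) ∨ Nonempty (G ≃* ↥(alternatingGroup (Fin 6))) := by
  obtain ⟨e⟩ := hC
  by_cases hidx : ∀ N : Subgroup G, N.Normal → N.index ≠ 2
  · have hs : IsSimpleGroup G := InvChar68.D8.isSimpleGroup hz e hidx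
    rcases InvChar68.D8.card_eq hz e hidx with h | h
    · refine Or.inr (Or.inr (Or.inr (Or.inl ?_)))
      have : Fact (Nat.Prime 7) := ⟨by norm_num⟩
      obtain ⟨f⟩ := S0495.result h (ZMod.card 7)
      obtain ⟨g⟩ := LinearGroup.PSL27.equiv
      exact ⟨f.trans g⟩
    · exact Or.inr (Or.inr (Or.inr (Or.inr (S0497.result h))))
  · push Not at hidx
    obtain ⟨N, _, hN2⟩ := hidx
    by_cases hc : InvChar68.D8.cyc e ∈ N
    · exact Or.inl (InvChar68.D8.sup_eq_top_of_complement hz e hN2
        (InvChar68.D8.complement_of_cyc_mem hz e hN2 hc))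
    · rcases InvChar68.D8.complement_or_small hz e hN2 hc with h | ⟨h4, hexp, hconj⟩
      · exact Or.inl (InvChar68.D8.sup_eq_top_of_complement hz e hN2 h)
      · rcases InvChar68.D8.symm_of_fused hz e hN2 h4 hexp hconj with h | h
        · exact Or.inr (Or.inl h)
        · exact Or.inr (Or.inr (Or.inl h))

end Cfsg.Agent.S3035
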