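import Mathlib
import Cfsg.Statements.S3036
-- Chermak–Delgado lattice argument

set_option autoImplicit false
open Cfsg
open scoped Pointwise

namespace Cfsg.Agent.S3036

variable {G : Type*} [Group G] [Finite G]

/-- Chermak–Delgado measure. -/
noncomputable def meas (H : Subgroup G) : ℕ :=
  Nat.card H * Nat.card ↥(Subgroup.centralizer (H : Set G))

lemma card_mul_le_prod (H K : Subgroup G) :
    Nat.card H * Nat.card K ≤ Nat.card ↥((H : Set G) * (K : Set G)) * Nat.card ↥(H ⊓ K) := by
  classical
  rw [← Nat.card_prod, ← Nat.card_prod]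
  have hex : ∀ x : ↥((H : Set G) * (K : Set G)), ∃ h : H, (h : G)⁻¹ * x ∈ K := by
    rintro ⟨x, h, hh, k, hk, rfl⟩
    exact ⟨⟨h, hh⟩, by simpa using hk⟩
  choose c hc using hex
  have hmem : ∀ q : H × K, (q.1 : G) * q.2 ∈ (H : Set G) * (K : Set G) :=
    fun q => Set.mul_mem_mul q.1.2 q.2.2
  refine Nat.card_le_card_of_injective
    (fun q : H × K => ((⟨(q.1 : G) * q.2, hmem q⟩ : ↥((H : Set G) * (K : Set G))),
      (⟨(c ⟨(q.1 : G) * q.2, hmem q⟩ : G)⁻¹ * q.1,
        H.mul_mem (H.inv_mem (c _).2) q.1.2, by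
          have h := K.mul_mem (hc ⟨(q.1 : G) * q.2, hmem q⟩) (K.inv_mem q.2.2)
          simpa [mul_assoc] using h⟩ : ↥(H ⊓ K)))) ?_
  intro q r h
  have h2 : (c ⟨(q.1 : G) * q.2, hmem q⟩ : G)⁻¹ * q.1 = (c ⟨(r.1 : G) * r.2, hmem r⟩ : G)⁻¹ * r.1 :=
    congrArg (fun z => ((z.2 : ↥(H ⊓ K)) : G)) h
  have h1 : (⟨(q.1 : G) * q.2, hmem q⟩ : ↥((H : Set G) * (K : Set G))) = ⟨(r.1 : G) * r.2, hmem r⟩ :=
    congrArg Prod.fst h
  rw [h1, mul_right_inj] at h2
  have h3 : (q.1 : G) * q.2 = (r.1 : G) * r.2 := congrArg Subtype.val h1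
  rw [h2, mul_right_inj] at h3
  exact Prod.ext (Subtype.ext h2) (Subtype.ext h3)

lemma card_mul_le (H K : Subgroup G) :
    Nat.card H * Nat.card K ≤ Nat.card ↥(H ⊔ K) * Nat.card ↥(H ⊓ K) := by
  refine (card_mul_le_prod H K).trans (Nat.mul_le_mul_right _ ?_)
  refine Nat.card_mono (Set.toFinite _) ?_
  rintro x ⟨h, hh, k, hk, rfl⟩
  exact Subgroup.mul_mem_sup hh hk

omit [Finite G] in
lemma map_centralizer_eq (s : Set G) (g : G) :
    (Subgroup.centralizer s).map (MulAut.conj g).toMonoidHom =
      Subgroup.centralizer ((MulAut.conj g).toMonoidHom '' s) := by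
  apply le_antisymm (Subgroup.map_centralizer_le_centralizer_image _ _)
  intro x hx
  refine ⟨(MulAut.conj g).symm x, ?_, (MulAut.conj g).apply_symm_apply x⟩
  intro h hh
  apply (MulAut.conj g).injective
  rw [map_mul, map_mul, MulEquiv.apply_symm_apply]
  exact hx _ ⟨h, hh, rfl⟩

lemma meas_mul_le (H K : Subgroup G) : meas H * meas K ≤ meas (H ⊓ K) * meas (H ⊔ K) := by
  set C := fun L : Subgroup G => Subgroup.centralizer (L : Set G)
  have hsup : C (H ⊔ K) = C H ⊓ C K := by
    apply le_antisymm
    · exact le_inf (Subgroup.centralizer_le (by exact_mod_cast (le_sup_left : H ≤ H ⊔ K)))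
        (Subgroup.centralizer_le (by exact_mod_cast (le_sup_right : K ≤ H ⊔ K)))
    · intro x hx
      have : H ⊔ K ≤ Subgroup.centralizer {x} := by
        apply sup_le
        · intro y hy; exact Subgroup.mem_centralizer_singleton_iff.mpr ((Subgroup.mem_centralizer_iff.mp hx.1 y hy))
        · intro y hy; exact Subgroup.mem_centralizer_singleton_iff.mpr ((Subgroup.mem_centralizer_iff.mp hx.2 y hy))
      rw [Subgroup.mem_centralizer_iff]
      intro y hy
      exact Subgroup.mem_centralizer_singleton_iff.mp (this hy)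
  have hinf : C H ⊔ C K ≤ C (H ⊓ K) :=
    sup_le (Subgroup.centralizer_le (by exact_mod_cast (inf_le_left : H ⊓ K ≤ H)))
      (Subgroup.centralizer_le (by exact_mod_cast (inf_le_right : H ⊓ K ≤ K)))
  have a := card_mul_le H K
  have b := card_mul_le (C H) (C K)
  have c := Subgroup.card_le_of_le hinf
  simp only [meas]
  calc Nat.card H * Nat.card ↥(C H) * (Nat.card K * Nat.card ↥(C K))
      = (Nat.card H * Nat.card K) * (Nat.card ↥(C H) * Nat.card ↥(C K)) := by ring
    _ ≤ (Nat.card ↥(H ⊔ K) * Nat.card ↥(H ⊓ K)) * (Nat.card ↥(C (H ⊓ K)) * Nat.card ↥(C (H ⊔ K))) := by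
        rw [hsup]; refine Nat.mul_le_mul a ?_
        exact b.trans (Nat.mul_le_mul_right _ c)
    _ = _ := by ring

lemma meas_top (hC : Subgroup.center G = ⊥) : meas (⊤ : Subgroup G) = Nat.card G := by
  simp [meas, Subgroup.centralizer_univ, hC]

lemma meas_bot : meas (⊥ : Subgroup G) = Nat.card G := by
  have : Subgroup.centralizer ((⊥ : Subgroup G) : Set G) = ⊤ := by
    ext x; simp [Subgroup.mem_centralizer_iff]
  simp [meas, this]

/-- A member of the lattice of maximal-measure subgroups cannot be proper nontrivial. -/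
lemma no_proper_max [IsSimpleGroup G] (hC : Subgroup.center G = ⊥)
    (hmax : ∀ H : Subgroup G, meas H ≤ Nat.card G)
    (A : Subgroup G) (hA1 : A ≠ ⊥) (hA2 : A ≠ ⊤) : meas A ≠ Nat.card G := by
  intro hA
  obtain ⟨B, hAB, hB⟩ := (Set.toFinite {H : Subgroup G | H ≠ ⊥ ∧ H ≠ ⊤ ∧ meas H = Nat.card G}).exists_le_maximal (a := A) ⟨hA1, hA2, hA⟩
  obtain ⟨⟨hB1, hB2, hBm⟩, hBmax⟩ := hB
  have hN : B.Normal := by
    refine ⟨fun b hb g => ?_⟩
    set B' := B.map (MulAut.conj g).toMonoidHom with hB'
    have hm' : meas B' = Nat.card G := by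
      rw [← hBm]; simp only [meas, hB']
      have e : Subgroup.centralizer ((B.map (MulAut.conj g).toMonoidHom : Subgroup G) : Set G)
          = (Subgroup.centralizer (B : Set G)).map (MulAut.conj g).toMonoidHom := by
        rw [Subgroup.coe_map]
        exact (map_centralizer_eq (B : Set G) g).symm
      rw [e, Subgroup.card_map_of_injective (MulAut.conj g).injective, Subgroup.card_map_of_injective (MulAut.conj g).injective]
    have key := meas_mul_le B B'
    rw [hBm, hm'] at key
    have hsm : meas (B ⊔ B') = Nat.card G := by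
      refine le_antisymm (hmax _) ?_
      have h1 := hmax (B ⊓ B')
      have hpos : 0 < Nat.card G := Nat.card_pos
      by_contra hlt
      push Not at hlt
      exact absurd key (not_le.mpr (Nat.mul_lt_mul_of_le_of_lt h1 hlt hpos))
    by_cases htop : B ⊔ B' = ⊤
    · exfalso
      have him : meas (B ⊓ B') = Nat.card G := by
        refine le_antisymm (hmax _) ?_
        have hpos : 0 < Nat.card G := Nat.card_pos
        rw [hsm] at key
        exact Nat.le_of_mul_le_mul_right key hpos
      -- equality forces every element to be a product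
      have a := card_mul_le B B'
      have b := card_mul_le (Subgroup.centralizer (B : Set G)) (Subgroup.centralizer (B' : Set G))
      have hinf : Subgroup.centralizer (B : Set G) ⊔ Subgroup.centralizer (B' : Set G) ≤ Subgroup.centralizer ((B ⊓ B' : Subgroup G) : Set G) :=
        sup_le (Subgroup.centralizer_le (by exact_mod_cast (inf_le_left : B ⊓ B' ≤ B)))
          (Subgroup.centralizer_le (by exact_mod_cast (inf_le_right : B ⊓ B' ≤ B')))
      have c := Subgroup.card_le_of_le hinf
      have hCC : Subgroup.centralizer (B : Set G) ⊓ Subgroup.centralizer (B' : Set G) = ⊥ := by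
        rw [eq_bot_iff, ← hC]
        intro x hx
        rw [Subgroup.mem_center_iff]
        intro y
        have : B ⊔ B' ≤ Subgroup.centralizer {x} := sup_le
          (fun y hy => Subgroup.mem_centralizer_singleton_iff.mpr (Subgroup.mem_centralizer_iff.mp hx.1 y hy))
          (fun y hy => Subgroup.mem_centralizer_singleton_iff.mpr (Subgroup.mem_centralizer_iff.mp hx.2 y hy))
        rw [htop] at this
        exact Subgroup.mem_centralizer_singleton_iff.mp (this (Subgroup.mem_top y))
      have heq : Nat.card B * Nat.card B' = Nat.card G * Nat.card ↥(B ⊓ B') := by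
        rw [htop, Subgroup.card_top] at a
        refine le_antisymm a ?_
        rw [hCC, Subgroup.card_bot, mul_one] at b
        have e : Nat.card G * Nat.card G = (Nat.card B * Nat.card B') *
          (Nat.card ↥(Subgroup.centralizer (B : Set G)) * Nat.card ↥(Subgroup.centralizer (B' : Set G))) := by
          calc Nat.card G * Nat.card G = meas B * meas B' := by rw [hBm, hm']
            _ = _ := by simp only [meas]; ring
        have e2 : Nat.card ↥(B ⊓ B') * Nat.card ↥(Subgroup.centralizer ((B ⊓ B' : Subgroup G) : Set G)) = Nat.card G := him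
        have hpos : 0 < Nat.card ↥(Subgroup.centralizer ((B ⊓ B' : Subgroup G) : Set G)) := Nat.card_pos
        refine Nat.le_of_mul_le_mul_right ?_ hpos
        calc Nat.card G * Nat.card ↥(B ⊓ B') * Nat.card ↥(Subgroup.centralizer ((B ⊓ B' : Subgroup G) : Set G))
            = Nat.card G * Nat.card G := by rw [mul_assoc, e2]
          _ = _ := e
          _ ≤ _ := by gcongr; exact b.trans c
      have hprod : (B : Set G) * (B' : Set G) = Set.univ := by
        apply Set.eq_of_subset_of_ncard_le (Set.subset_univ _)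
        rw [Set.ncard_univ, ← Nat.card_coe_set_eq]
        have h := card_mul_le_prod B B'
        rw [heq] at h
        exact Nat.le_of_mul_le_mul_right h Nat.card_pos
      -- g = b * b' with b' = g c g⁻¹
      obtain ⟨u, hu, v, hv, huv⟩ : g⁻¹ ∈ (B : Set G) * (B' : Set G) := hprod ▸ Set.mem_univ _
      obtain ⟨w, hw, rfl⟩ := hv
      have hgB : g ∈ B := by
        have h9 : u * (g * w * g⁻¹) = g⁻¹ := huv
        have h7 : g = u⁻¹ * w⁻¹ := by
          calc g = u⁻¹ * (u * (g * w * g⁻¹)) * g * w⁻¹ := by group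
            _ = u⁻¹ * g⁻¹ * g * w⁻¹ := by rw [h9]
            _ = _ := by group
        rw [h7]; exact B.mul_mem (B.inv_mem hu) (B.inv_mem hw)
      have hBB : B' = B :=
        Subgroup.mem_normalizer_iff_map_conj_eq.mp (Subgroup.le_normalizer hgB)
      rw [hBB, sup_idem] at htop
      exact hB2 htop
    · have hne : B ⊔ B' ≠ ⊥ := fun h => hB1 (le_bot_iff.mp (h ▸ le_sup_left))
      have := hBmax (⟨hne, htop, hsm⟩ : B ⊔ B' ∈ {H : Subgroup G | H ≠ ⊥ ∧ H ≠ ⊤ ∧ meas H = Nat.card G}) le_sup_left
      have hb' : (MulAut.conj g) b ∈ B' := ⟨b, hb, rfl⟩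
      exact this (le_sup_right (a := B) hb')
  exact (hN.eq_bot_or_eq_top).elim hB1 hB2

theorem result {G : Type*} [Group G] [Finite G] [IsSimpleGroup G] (hG : ¬ IsMulCommutative G) (A : Subgroup G) (hA1 : A ≠ ⊥) (hA2 : A ≠ ⊤) : Nat.card A * Nat.card ↥(Subgroup.centralizer (A : Set G)) < Nat.card G := by
  have hC : Subgroup.center G = ⊥ := by
    rcases (inferInstance : (Subgroup.center G).Normal).eq_bot_or_eq_top with h | h
    · exact h
    · exfalso; apply hG
      exact ⟨⟨fun a b => (Subgroup.mem_center_iff.mp (h ▸ Subgroup.mem_top a) b).symm⟩⟩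
  have hmax : ∀ H : Subgroup G, meas H ≤ Nat.card G := by
    by_contra hne
    push Not at hne
    obtain ⟨H₀, hH₀⟩ := hne
    obtain ⟨M₁, hM₁⟩ := Finite.exists_max (meas (G := G))
    obtain ⟨M, hM⟩ := (Set.toFinite {H : Subgroup G | meas H = meas M₁}).exists_maximal ⟨M₁, rfl⟩
    have hgt : Nat.card G < meas M₁ := hH₀.trans_le (hM₁ H₀)
    have hN : M.Normal := by
      refine ⟨fun b hb g => ?_⟩
      set B' := M.map (MulAut.conj g).toMonoidHom with hB'
      have hm' : meas B' = meas M₁ := by
        rw [← hM.1]; simp only [meas, hB']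
        have e : Subgroup.centralizer ((M.map (MulAut.conj g).toMonoidHom : Subgroup G) : Set G)
            = (Subgroup.centralizer (M : Set G)).map (MulAut.conj g).toMonoidHom := by
          rw [Subgroup.coe_map]
          exact (map_centralizer_eq (M : Set G) g).symm
        rw [e, Subgroup.card_map_of_injective (MulAut.conj g).injective, Subgroup.card_map_of_injective (MulAut.conj g).injective]
      have key := meas_mul_le M B'
      rw [hm', show meas M = meas M₁ from hM.1] at key
      have hsm : meas (M ⊔ B') = meas M₁ := by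
        refine le_antisymm (hM₁ _) ?_
        by_contra hlt
        push Not at hlt
        exact absurd key (not_le.mpr (Nat.mul_lt_mul_of_le_of_lt (hM₁ _) hlt (lt_of_le_of_lt (Nat.zero_le _) hgt)))
      exact hM.2 hsm le_sup_left (le_sup_right (a := M) (⟨b, hb, rfl⟩ : (MulAut.conj g) b ∈ B'))
    rcases hN.eq_bot_or_eq_top with h | h
    · have := hM.1; rw [h] at this
      have e : meas (⊥ : Subgroup G) = meas M₁ := this
      rw [meas_bot] at e; omega
    · have := hM.1; rw [h] at this
      have e : meas (⊤ : Subgroup G) = meas M₁ := this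
      rw [meas_top hC] at e; omega
  exact lt_of_le_of_ne (hmax A) (no_proper_max hC hmax A hA1 hA2)

end Cfsg.Agent.S3036
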