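import Mathlib
import Cfsg.Statements.S3037

set_option autoImplicit false
open Cfsg
open scoped Pointwise

namespace Cfsg.Agent.S3037

theorem result {X : Type*} [Group X] [Finite X] {p : ℕ} [Fact p.Prime] (V G : Subgroup X) (hV : Cfsg.IsElementaryAbelian p V)
    (hGV : G ≤ Subgroup.normalizer (V : Set X)) (hfaith : G ⊓ Subgroup.centralizer (V : Set X) = ⊥)
    (hirr : ∀ W : Subgroup X, W ≤ V → G ≤ Subgroup.normalizer (W : Set X) → W = ⊥ ∨ W = V)
    (A : Subgroup X) (hA : A ≤ G) (hA1 : A ≠ ⊥) (α : ℝ) (hα : 0 < α)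
    (hbig : (Nat.card V : ℝ) ≤ (Nat.card A : ℝ) ^ α * (Nat.card ↥(V ⊓ Subgroup.centralizer (A : Set X)) : ℝ)) :
    (Nat.card V : ℝ) ≤ (Nat.card G : ℝ) ^ α := by
  classical
  set CV : Subgroup X → Subgroup X := fun B => V ⊓ Subgroup.centralizer (B : Set X) with hCV
  set m : Subgroup X → ℝ := fun B => (Nat.card B : ℝ) ^ α * (Nat.card ↥(CV B) : ℝ) with hm
  -- counting
  have hcount : ∀ H K : Subgroup X,
      Nat.card H * Nat.card K ≤ Nat.card ↥(H ⊔ K) * Nat.card ↥(H ⊓ K) := by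
    intro H K
    have : K.IsFiniteRelIndex (H ⊔ K) := ⟨Subgroup.index_ne_zero_of_finite⟩
    have h1 : K.relIndex H ≤ K.relIndex (H ⊔ K) :=
      Subgroup.relIndex_le_of_le_right le_sup_left Subgroup.relIndex_ne_zero
    have h2 : Nat.card ↥(K ⊓ H) * K.relIndex H = Nat.card H := by
      have := Subgroup.relIndex_mul_relIndex (⊥ : Subgroup X) (K ⊓ H) H bot_le inf_le_right
      simpa [Subgroup.relIndex_bot_left, Subgroup.inf_relIndex_right] using this
    have h3 : Nat.card K * K.relIndex (H ⊔ K) = Nat.card ↥(H ⊔ K) := by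
      have := Subgroup.relIndex_mul_relIndex (⊥ : Subgroup X) K (H ⊔ K) bot_le le_sup_right
      simpa [Subgroup.relIndex_bot_left] using this
    rw [inf_comm] at h2
    calc Nat.card H * Nat.card K = Nat.card ↥(H ⊓ K) * K.relIndex H * Nat.card K := by rw [h2]
      _ ≤ Nat.card ↥(H ⊓ K) * K.relIndex (H ⊔ K) * Nat.card K := by gcongr
      _ = Nat.card ↥(H ⊔ K) * Nat.card ↥(H ⊓ K) := by rw [← h3]; ring
  have hsup : ∀ B C : Subgroup X, CV (B ⊔ C) = CV B ⊓ CV C := by
    intro B C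
    apply le_antisymm
    · exact le_inf (inf_le_inf_left _ (Subgroup.centralizer_le (by exact_mod_cast (le_sup_left : B ≤ B ⊔ C))))
        (inf_le_inf_left _ (Subgroup.centralizer_le (by exact_mod_cast (le_sup_right : C ≤ B ⊔ C))))
    · intro x hx
      refine ⟨hx.1.1, Subgroup.le_centralizer_iff.mpr ?_ (Subgroup.mem_zpowers x)⟩
      apply sup_le <;> rw [Subgroup.le_centralizer_iff, Subgroup.zpowers_le]
      exacts [hx.1.2, hx.2.2]
  have hinf : ∀ B C : Subgroup X, CV B ⊔ CV C ≤ CV (B ⊓ C) := fun B C =>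
    sup_le (inf_le_inf_left _ (Subgroup.centralizer_le (by exact_mod_cast (inf_le_left : B ⊓ C ≤ B))))
      (inf_le_inf_left _ (Subgroup.centralizer_le (by exact_mod_cast (inf_le_right : B ⊓ C ≤ C))))
  have hpos : ∀ B : Subgroup X, (0:ℝ) < (Nat.card B : ℝ) := fun B => by exact_mod_cast Nat.card_pos
  have hmpos : ∀ B, 0 < m B := fun B => mul_pos (Real.rpow_pos_of_pos (hpos B) α) (hpos _)
  have hmul : ∀ B C, m B * m C ≤ m (B ⊓ C) * m (B ⊔ C) := by
    intro B C
    have a : (Nat.card B : ℝ) ^ α * (Nat.card C : ℝ) ^ α ≤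
        (Nat.card ↥(B ⊔ C) : ℝ) ^ α * (Nat.card ↥(B ⊓ C) : ℝ) ^ α := by
      rw [← Real.mul_rpow (hpos _).le (hpos _).le, ← Real.mul_rpow (hpos _).le (hpos _).le]
      exact Real.rpow_le_rpow (mul_pos (hpos _) (hpos _)).le (by exact_mod_cast hcount B C) hα.le
    have b : (Nat.card ↥(CV B) : ℝ) * (Nat.card ↥(CV C) : ℝ) ≤
        (Nat.card ↥(CV (B ⊓ C)) : ℝ) * (Nat.card ↥(CV (B ⊔ C)) : ℝ) := by
      rw [hsup]
      exact_mod_cast (hcount (CV B) (CV C)).trans (Nat.mul_le_mul_right _ (Subgroup.card_le_of_le (hinf B C)))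
    calc m B * m C = ((Nat.card B : ℝ) ^ α * (Nat.card C : ℝ) ^ α) *
        ((Nat.card ↥(CV B) : ℝ) * (Nat.card ↥(CV C) : ℝ)) := by simp only [hm]; ring
      _ ≤ _ := mul_le_mul a b (mul_pos (hpos _) (hpos _)).le
          (mul_pos (Real.rpow_pos_of_pos (hpos _) α) (Real.rpow_pos_of_pos (hpos _) α)).le
      _ = _ := by simp only [hm]; ring
  have : Nonempty {B : Subgroup X // B ≤ G} := ⟨⟨⊥, bot_le⟩⟩
  obtain ⟨⟨B₁, hB₁G⟩, hB₁⟩ := Finite.exists_max (fun B : {B : Subgroup X // B ≤ G} => m B.1)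
  have hmax : ∀ B, B ≤ G → m B ≤ m B₁ := fun B hB => hB₁ ⟨B, hB⟩
  have hVA : (Nat.card V : ℝ) ≤ m A := hbig
  have hbot : m ⊥ = Nat.card V := by
    have : CV ⊥ = V := by
      rw [hCV]; ext x; simp [Subgroup.mem_centralizer_iff]
    simp [hm, this]
  have hne : ∃ B, B ≤ G ∧ m B = m B₁ ∧ B ≠ ⊥ := by
    by_cases h : B₁ = ⊥
    · exact ⟨A, hA, le_antisymm (hmax A hA) (by rw [h, hbot]; exact hVA), hA1⟩
    · exact ⟨B₁, hB₁G, rfl, h⟩
  obtain ⟨B₂, hB₂, hB₂m, hB₂ne⟩ := hne
  obtain ⟨M, hB₂M, hM⟩ := (Set.toFinite {B : Subgroup X | B ≤ G ∧ m B = m B₁}).exists_le_maximal ⟨hB₂, hB₂m⟩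
  have hMne : M ≠ ⊥ := fun h => hB₂ne (le_bot_iff.mp (h ▸ hB₂M))
  -- M is invariant under G
  have hnorm : G ≤ Subgroup.normalizer (M : Set X) := by
    intro g hg
    rw [Subgroup.mem_normalizer_iff_map_conj_eq]
    set M' := M.map (MulAut.conj g).toMonoidHom with hM'
    have hM'G : M' ≤ G := by
      rintro _ ⟨y, hy, rfl⟩
      exact G.mul_mem (G.mul_mem hg (hM.1.1 hy)) (G.inv_mem hg)
    have e : CV M' = (CV M).map (MulAut.conj g).toMonoidHom := by
      have hv : V.map (MulAut.conj g).toMonoidHom = V :=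
        Subgroup.mem_normalizer_iff_map_conj_eq.mp (hGV hg)
      ext x
      simp only [hCV, hM', Subgroup.mem_inf, Subgroup.mem_map_equiv, Subgroup.coe_map]
      constructor
      · rintro ⟨hx, hc⟩
        refine ⟨by rw [← hv] at hx; exact Subgroup.mem_map_equiv.mp hx, fun y hy => (MulAut.conj g).injective ?_⟩
        rw [map_mul, map_mul, MulEquiv.apply_symm_apply]
        exact hc _ ⟨y, hy, rfl⟩
      · rintro ⟨hx, hc⟩
        refine ⟨by rw [← hv]; exact Subgroup.mem_map_equiv.mpr hx, ?_⟩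
        rintro _ ⟨y, hy, rfl⟩
        have := congrArg (MulAut.conj g) (hc y hy)
        rw [map_mul, map_mul, MulEquiv.apply_symm_apply] at this
        exact this
    have hm' : m M' = m B₁ := by
      rw [← hM.1.2]; simp only [hm]
      rw [e, hM', Subgroup.card_map_of_injective (MulAut.conj g).injective,
        Subgroup.card_map_of_injective (MulAut.conj g).injective]
    have hs : m (M ⊔ M') = m B₁ := by
      refine le_antisymm (hmax _ (sup_le hM.1.1 hM'G)) ?_
      have k := hmul M M'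
      rw [hm', hM.1.2] at k
      have := hmax (M ⊓ M') (inf_le_left.trans hM.1.1)
      nlinarith [hmpos B₁, hmpos (M ⊔ M')]
    have hle : M' ≤ M := le_sup_right.trans (hM.2 ⟨sup_le hM.1.1 hM'G, hs⟩ le_sup_left)
    exact Subgroup.eq_of_le_of_card_ge hle (Subgroup.card_map_of_injective (MulAut.conj g).injective).ge
  have hW : CV M = ⊥ := by
    rcases hirr (CV M) inf_le_left (by
      intro g hg
      rw [Subgroup.mem_normalizer_iff_map_conj_eq]
      have hv : V.map (MulAut.conj g).toMonoidHom = V := Subgroup.mem_normalizer_iff_map_conj_eq.mp (hGV hg)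
      have hmM : M.map (MulAut.conj g).toMonoidHom = M := Subgroup.mem_normalizer_iff_map_conj_eq.mp (hnorm hg)
      refine Subgroup.eq_of_le_of_card_ge ?_ (Subgroup.card_map_of_injective (MulAut.conj g).injective).ge
      rintro _ ⟨x, hx, rfl⟩
      refine ⟨by rw [← hv]; exact ⟨x, hx.1, rfl⟩, ?_⟩
      intro y hy
      rw [← hmM] at hy
      obtain ⟨y', hy', rfl⟩ := hy
      exact ((map_mul _ _ _).symm.trans (congrArg _ (hx.2 y' hy'))).trans (map_mul _ _ _)) with h | h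
    · exact h
    · exfalso; apply hMne
      rw [eq_bot_iff, ← hfaith]
      refine le_inf hM.1.1 (Subgroup.le_centralizer_iff.mp ?_)
      rw [← h]; exact inf_le_right
  calc (Nat.card V : ℝ) ≤ m A := hVA
    _ ≤ m B₁ := hmax A hA
    _ = m M := hM.1.2.symm
    _ = (Nat.card M : ℝ) ^ α := by simp only [hm]; rw [hW]; simp
    _ ≤ _ := Real.rpow_le_rpow (hpos _).le (by exact_mod_cast Subgroup.card_le_of_le hM.1.1) hα.le

end Cfsg.Agent.S3037
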