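import Cfsg.Statements.S3038
import Cfsg.Agent.LocalEvenD.RankTwoFitting
import Cfsg.Agent.LocalEvenD.RankTwoShape.Group

set_option autoImplicit false
open Cfsg
open scoped commutatorElement

namespace Cfsg.Agent.S3038

/-- Let G be a finite group and p an odd prime with O_{p'}(G) = 1. Suppose that G has p-rank at most 2 and that some element x of order p is isolated in G and not central. Then F*(G) is a non-abelian simple group, and for every Sylow p-subgroup P of F*(G), either no conjugate of x lies in P and P is cyclic, or some conjugate of x lies in P and either P is extraspecial of order p³ and exponent p, or p = 3 and P has order 3^{2k+1} for some k ≥ 2 and is of maximal class (nilpotency class 2k). Since O_{p'}(G) = 1, such an x is not central modulo O_{p'}(G): the hypotheses describe a counterexample to the Z*_p statement in p-rank at most 2, and the conclusion records the structure it would have. -/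
theorem result {G : Type*} [Group G] [Finite G] {p : ℕ} [Fact p.Prime] (hp : p ≠ 2) (hcore : Cfsg.pPrimeCore p G = ⊥)
    (hrank : Cfsg.PRankLE p 2 G) (x : G) (hx : orderOf x = p) (hiso : Cfsg.IsIsolated x) (hnc : x ∉ Subgroup.center G) :
    IsSimpleGroup ↥(Cfsg.generalizedFittingSubgroup G) ∧ ¬ IsMulCommutative ↥(Cfsg.generalizedFittingSubgroup G) ∧
    ∀ P : Sylow p ↥(Cfsg.generalizedFittingSubgroup G),
      ((∀ g : G, g * x * g⁻¹ ∉ ((P : Subgroup ↥(Cfsg.generalizedFittingSubgroup G)).map (Cfsg.generalizedFittingSubgroup G).subtype)) ∧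
          IsCyclic ↥(P : Subgroup ↥(Cfsg.generalizedFittingSubgroup G))) ∨
      ((∃ g : G, g * x * g⁻¹ ∈ ((P : Subgroup ↥(Cfsg.generalizedFittingSubgroup G)).map (Cfsg.generalizedFittingSubgroup G).subtype)) ∧
        ((Cfsg.IsExtraspecial p ↥(P : Subgroup ↥(Cfsg.generalizedFittingSubgroup G)) ∧
            Nat.card (P : Subgroup ↥(Cfsg.generalizedFittingSubgroup G)) = p ^ 3 ∧
            ∀ y ∈ (P : Subgroup ↥(Cfsg.generalizedFittingSubgroup G)), y ^ p = 1) ∨
         (p = 3 ∧ ∃ k : ℕ, 2 ≤ k ∧ Nat.card (P : Subgroup ↥(Cfsg.generalizedFittingSubgroup G)) = 3 ^ (2 * k + 1) ∧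
            ∃ _ : Group.IsNilpotent ↥(P : Subgroup ↥(Cfsg.generalizedFittingSubgroup G)),
              Group.nilpotencyClass ↥(P : Subgroup ↥(Cfsg.generalizedFittingSubgroup G)) = 2 * k))) := by
  classical
  obtain ⟨hsimple, hna⟩ := LocalEvenD.rk_fitting_simple hp hcore hrank hx hiso hnc
  set E := Cfsg.generalizedFittingSubgroup G
  refine ⟨hsimple, hna, fun P => ?_⟩
  haveI := hsimple
  by_cases hex : ∃ g : G, g * x * g⁻¹ ∈ (P : Subgroup ↥E).map E.subtype
  · refine Or.inr ⟨hex, ?_⟩
    obtain ⟨a, ⟨y, hy, hya⟩⟩ := hex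
    change (y : G) = a * x * a⁻¹ at hya
    have hperf : commutator ↥E = ⊤ :=
      ((inferInstance : (commutator ↥E).Normal).eq_bot_or_eq_top).resolve_left fun h => hna ⟨⟨fun u v => by
        have h1 : ⁅u, v⁆ ∈ commutator ↥E :=
          Subgroup.commutator_mem_commutator (Subgroup.mem_top u) (Subgroup.mem_top v)
        rw [h, Subgroup.mem_bot] at h1
        exact commutatorElement_eq_one_iff_mul_comm.1 h1⟩⟩
    have hyiso : Cfsg.IsIsolated y := fun g hg => Subtype.ext (by
      have h := LocalEvenD.rk_isolated_conj hiso a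
      rw [← hya] at h
      exact h (g : G) (congrArg Subtype.val hg))
    have hyo : orderOf y = p := by
      rw [← Subgroup.orderOf_coe, hya, ← MulAut.conj_apply, MulEquiv.orderOf_eq, hx]
    rcases LocalEvenD.RankTwoShape.sylow_shape hp hperf (LocalEvenD.RankTwoShape.prankLE_subgroup hrank E)
      hyo hyiso P hy with ⟨h1, h2, h3⟩ | h
    · exact Or.inl ⟨h1, h2, fun z hz => congrArg Subtype.val (h3 ⟨z, hz⟩)⟩
    · exact Or.inr h
  · push Not at hex
    refine Or.inl ⟨hex, ?_⟩
    haveI : IsCyclic ↥((P : Subgroup ↥E).map E.subtype) :=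
      LocalEvenD.RankTwoShape.cyclic_of_no_conj hp hrank hx hiso _ (P.isPGroup'.map E.subtype) hex
    exact (Subgroup.equivMapOfInjective _ E.subtype E.subtype_injective).isCyclic.2 inferInstance

end Cfsg.Agent.S3038
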