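import Cfsg.Statements.S3043
import Cfsg.Agent.LocalEvenD.TIInvol.CaseB
import Cfsg.Agent.LocalEvenD.TIInvol.OneCase
import Cfsg.Agent.LocalEvenD.TIInvol.TwoCase

set_option autoImplicit false
open Cfsg

namespace Cfsg.Agent.S3043

/-- Let M be a nontrivial subgroup of a finite group G meeting each of its other conjugates trivially, with N_G(M) = M · C_{N_G(M)}(z) for some involution z ∈ N_G(M), and with C_G(x) of odd order for every nontrivial x ∈ M. Then one of the following holds: M is normal in G; the number of involutions of G is at most |G : M|; G is isomorphic to PGL₂(F) or to PSL₂(F) for a finite field F with |F| = |M|, M is an elementary abelian p-group for the characteristic p of F, and |F| ≡ 1 (mod 4) in the PSL₂ case; G is isomorphic to PSL₂(F) with |F| = 2^e, e > 1, and M is cyclic of order 2^e + 1; or for some d ≥ 1, G has an elementary abelian normal subgroup of order 2^{2d} complemented by N_G(M), and N_G(M) is dihedral of order 2(2^d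 + 1). -/
theorem result {G : Type*} [Group G] [Finite G] (M : Subgroup G) (hM1 : M ≠ ⊥)
    (hTI : ∀ g : G, M ⊓ M.map (MulAut.conj g).toMonoidHom ≠ ⊥ → M.map (MulAut.conj g).toMonoidHom = M)
    (z : G) (hz : orderOf z = 2) (hzN : z ∈ Subgroup.normalizer (M : Set G))
    (hfac : M ⊔ (Subgroup.normalizer (M : Set G) ⊓ Subgroup.centralizer ({z} : Set G)) = Subgroup.normalizer (M : Set G))
    (hodd : ∀ x ∈ M, x ≠ 1 → Odd (Nat.card ↥(Subgroup.centralizer ({x} : Set G)))) :
    M.Normal ∨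
    Nat.card {g : G // orderOf g = 2} ≤ M.index ∨
    (∃ (F : Type) (_ : Field F) (_ : Fintype F) (p : ℕ) (_ : Fact p.Prime) (_ : CharP F p), Fintype.card F = Nat.card M ∧ Cfsg.IsElementaryAbelian p M ∧
        (Nonempty (G ≃* (GL (Fin 2) F ⧸ Subgroup.center (GL (Fin 2) F))) ∨
         (Fintype.card F % 4 = 1 ∧ Nonempty (G ≃* Matrix.ProjectiveSpecialLinearGroup (Fin 2) F)))) ∨
    (∃ (F : Type) (_ : Field F) (_ : Fintype F) (e : ℕ), 1 < e ∧ Fintype.card F = 2 ^ e ∧ IsCyclic ↥M ∧ Nat.card M = 2 ^ e + 1 ∧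
        Nonempty (G ≃* Matrix.ProjectiveSpecialLinearGroup (Fin 2) F)) ∨
    (∃ (d : ℕ) (E : Subgroup G), 1 ≤ d ∧ E.Normal ∧ Cfsg.IsElementaryAbelian 2 E ∧ Nat.card E = 2 ^ (2 * d) ∧
        E ⊓ Subgroup.normalizer (M : Set G) = ⊥ ∧ E ⊔ Subgroup.normalizer (M : Set G) = ⊤ ∧
        Nonempty (↥(Subgroup.normalizer (M : Set G)) ≃* DihedralGroup (2 ^ d + 1))) := by
  by_cases hnn : M.Normal
  · exact Or.inl hnn
  refine Or.inr ?_
  by_cases hcount : Nat.card {g : G // orderOf g = 2} ≤ M.index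
  · exact Or.inl hcount
  refine Or.inr ?_
  have S : Cfsg.Agent.LocalEvenD.TIInvol.Setup G M z :=
    ⟨hM1, hTI, hz, hzN, hfac, hodd, hnn, not_le.1 hcount⟩
  by_cases hbig : 2 * Nat.card (Cfsg.Agent.LocalEvenD.TIInvol.Dz M z) <
      Nat.card (Subgroup.centralizer ({z} : Set G))
  · obtain ⟨d, hd, hH, hn, ⟨hm, hG⟩ | ⟨hm, hG, hidx⟩⟩ := S.bigData hbig
    · obtain ⟨E, h1, h2, h3, h4, h5, h6⟩ := S.one_case hd (S.card_D_two hbig) hm hG
      exact Or.inr (Or.inr ⟨d, E, hd, h1, h2, h3, h4, h5, h6⟩)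
    · obtain ⟨F, iF, iFF, hF, hcyc, hiso⟩ := S.two_case hbig hd hH hn hm hG hidx
      exact Or.inr (Or.inl ⟨F, iF, iFF, d + 1, by omega, hF, hcyc, hm, hiso⟩)
  · obtain ⟨u, hu⟩ := S.exists_outer
    have hH : Nat.card (Subgroup.centralizer ({z} : Set G)) =
        2 * Nat.card (Cfsg.Agent.LocalEvenD.TIInvol.Dz M z) := by
      refine le_antisymm (not_lt.1 hbig) ?_
      rw [S.card_centralizer, two_mul]
      refine Nat.add_le_add_left (Nat.card_le_card_of_injective
        (fun d : Cfsg.Agent.LocalEvenD.TIInvol.Dz M z =>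
          (⟨u * (d : G), Subgroup.mul_mem _ hu.1 d.2.2,
            fun h => hu.2 ((Subgroup.mul_mem_cancel_right _ d.2.1).1 h)⟩ :
            Cfsg.Agent.LocalEvenD.TIInvol.Outer M z)) ?_) _
      exact fun d d' e => Subtype.ext (mul_left_cancel (congrArg Subtype.val e))
    have key : ∀ (F : Type) (_ : Field F) (_ : Fintype F), Fintype.card F = Nat.card M →
        ∃ (p : ℕ) (_ : Fact p.Prime) (_ : CharP F p), Cfsg.IsElementaryAbelian p M := by
      intro F _ _ hF
      obtain ⟨p, hp⟩ := CharP.exists F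
      obtain ⟨k, hpp, hk⟩ := FiniteField.card F p
      refine ⟨p, ⟨hpp⟩, hp, S.elementary hH hu hpp ?_⟩
      rw [← hF, hk]
      exact dvd_pow_self _ k.pos.ne'
    refine Or.inl ?_
    rcases S.card_cases hH hu with h | h
    · obtain ⟨F, iF, iFF, hF, hiso⟩ := S.pgl_case hH hu h
      obtain ⟨p, hp, hc, hel⟩ := key F iF iFF hF
      exact ⟨F, iF, iFF, p, hp, hc, hF, hel, Or.inl hiso⟩
    · obtain ⟨F, iF, iFF, hF, h4, hiso⟩ := S.psl_case hH hu h
      obtain ⟨p, hp, hc, hel⟩ := key F iF iFF hF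
      exact ⟨F, iF, iFF, p, hp, hc, hF, hel, Or.inr ⟨h4, hiso⟩⟩

end Cfsg.Agent.S3043
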