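import Cfsg.Statements.S3044
import Cfsg.Agent.LocalEvenD.Isolated.Perfect

set_option autoImplicit false
open Cfsg

namespace Cfsg.Agent.S3044

open Subgroup LocalEvenD.Isolated LargeSub
open scoped commutatorElement


/-- Let G be a finite group, p a prime, S a Sylow p-subgroup of G and P a p-minimal subgroup of G containing S (S is not normal in P and lies in exactly one maximal subgroup of P). Let L be the subgroup generated by N_G(S) and all p-minimal subgroups of G containing S other than P, and suppose P is isolated: O_p(L) is not contained in O_p(P). Put Y for the normal closure of O^p(P) in G. Then G = YL; P is again isolated in the subgroup YS (the subgroup L₀ generated by N_{YS}(S) and the p-minimal subgroups of YS containing S other than P has O_p(L₀) not contained in O_p(P)); and either Y = O^p(P), or p divides |Y/O_p(Y)|, Y/O_p(Y) is generated by its components (a central product of quasisimple groups), and S permutes these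 components transitively by conjugation. -/
theorem result {G : Type*} [Group G] [Finite G] {p : ℕ} [Fact p.Prime] (S : Sylow p G) (P : Subgroup G) (hSP : (S : Subgroup G) ≤ P) (hPmin : Cfsg.IsPMinimal p ↥P)
    (L Y : Subgroup G)
    (hL : L = Subgroup.normalizer ((S : Subgroup G) : Set G) ⊔ ⨆ P' : {P' : Subgroup G // (S : Subgroup G) ≤ P' ∧ Cfsg.IsPMinimal p ↥P' ∧ P' ≠ P}, (P' : Subgroup G))
    (hiso : ¬ (Cfsg.pCore p ↥L).map L.subtype ≤ (Cfsg.pCore p ↥P).map P.subtype)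
    (hY : Y = Subgroup.normalClosure (((Cfsg.pResidual p ↥P).map P.subtype : Subgroup G) : Set G)) :
    Y ⊔ L = ⊤ ∧
    ¬ (Cfsg.pCore p ↥((Subgroup.normalizer ((S : Subgroup G) : Set G) ⊓ (Y ⊔ (S : Subgroup G))) ⊔
          ⨆ P' : {P' : Subgroup G // (S : Subgroup G) ≤ P' ∧ P' ≤ Y ⊔ (S : Subgroup G) ∧ Cfsg.IsPMinimal p ↥P' ∧ P' ≠ P}, (P' : Subgroup G))).map
        (Subgroup.subtype _) ≤ (Cfsg.pCore p ↥P).map P.subtype ∧
    ((Cfsg.pResidual p ↥P).map P.subtype = Y ∨
     ∃ _ : (Cfsg.pCore p ↥Y).Normal,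
       p ∣ Nat.card (↥Y ⧸ Cfsg.pCore p ↥Y) ∧ Cfsg.layer (↥Y ⧸ Cfsg.pCore p ↥Y) = ⊤ ∧
       ∀ K₁ K₂ : Subgroup (↥Y ⧸ Cfsg.pCore p ↥Y), Cfsg.IsComponent K₁ → Cfsg.IsComponent K₂ →
         ∃ s ∈ (S : Subgroup G), ((K₂.comap (QuotientGroup.mk' (Cfsg.pCore p ↥Y))).map Y.subtype) = (((K₁.comap (QuotientGroup.mk' (Cfsg.pCore p ↥Y))).map Y.subtype)).map (MulAut.conj s).toMonoidHom) := by
  classical
  have h : Isol p S P L := ⟨hSP, hPmin, hL, hiso⟩
  refine ⟨Y_sup_L h hY, fun hle => ?_, ?_⟩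
  · refine h.iso (le_trans ?_ hle)
    set L₀ := (normalizer ((S : Subgroup G) : Set G) ⊓ (Y ⊔ (S : Subgroup G))) ⊔
      ⨆ P' : {P' : Subgroup G // (S : Subgroup G) ≤ P' ∧ P' ≤ Y ⊔ (S : Subgroup G) ∧
        Cfsg.IsPMinimal p ↥P' ∧ P' ≠ P}, (P' : Subgroup G) with hL₀
    have hSL₀ : (S : Subgroup G) ≤ L₀ := le_trans (le_inf le_normalizer le_sup_right) le_sup_left
    have hL₀L : L₀ ≤ L := sup_le (inf_le_left.trans (normalizer_le_L h))
      (iSup_le fun P' => pMinimal_le_L h P'.2.1 P'.2.2.2.1 P'.2.2.2.2)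
    exact le_pCoreOf ((core_le_sylow h).trans hSL₀) (hL₀L.trans (le_normalizer_pCoreOf p L))
      (isPGroup_pCoreOf L)
  set π := QuotientGroup.mk' (pCore p G) with hπ
  by_cases hpf : ⁅Y.map π, Y.map π⁆ = Y.map π
  swap
  · exact Or.inl (residual_eq_Y h hY hpf)
  haveI hYn := normal_Y hY
  haveI hYbn := normal_map_Y (p := p) hY
  let f := π.comp Y.subtype
  have hker : f.ker = pCore p ↥Y := by
    rw [show f.ker = (pCore p G).subgroupOf Y from by
      rw [← MonoidHom.comap_ker, QuotientGroup.ker_mk']; rfl]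
    exact le_antisymm (Thompson.subgroupOf_pCore_le Y)
      (map_le_iff_le_comap.1 (Thompson.map_pCore_normal_le Y))
  have hrange : f.range = Y.map π := by rw [MonoidHom.range_comp, range_subtype]
  let e : ↥(Y.map π) ≃* ↥Y ⧸ pCore p ↥Y := ((MulEquiv.subgroupCongr hrange).symm.trans
    (QuotientGroup.quotientKerEquivRange f).symm).trans (QuotientGroup.quotientMulEquivOfEq hker)
  refine Or.inr ⟨inferInstance, ?_, ?_, ?_⟩
  · rw [← Nat.card_congr e.toEquiv]
    exact dvd_card_map_Y h hY hpf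
  · rw [← Components.map_layer_equiv e, ← map_top_of_surjective e.toMonoidHom e.surjective]
    congr 1
    refine top_le_iff.1 fun y _ => ?_
    have hle : Y.map π ≤ (layer ↥(Y.map π)).map (Y.map π).subtype :=
      (map_Y_le_sSup_components h hY hpf).trans (sSup_le fun C hC x hx =>
        ⟨⟨x, hC.2 hx⟩, Components.component_le_layer (Components.component_subgroupOf hC.1 hC.2)
          (mem_subgroupOf.2 hx), rfl⟩)
    obtain ⟨z, hz, hzy⟩ := hle y.2
    exact Subtype.ext hzy ▸ hz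
  intro K₁ K₂ hK₁ hK₂
  set g : ↥Y ⧸ pCore p ↥Y →* G ⧸ pCore p G := (Y.map π).subtype.comp e.symm.toMonoidHom with hg
  have hgi : Function.Injective g := (Y.map π).subtype_injective.comp e.symm.injective
  have hgf : ∀ y : ↥Y, g (QuotientGroup.mk' (pCore p ↥Y) y) = π y := fun y => by
    have he : e ⟨π y, mem_map_of_mem π y.2⟩ = QuotientGroup.mk' (pCore p ↥Y) y := by
      show QuotientGroup.quotientMulEquivOfEq hker ((QuotientGroup.quotientKerEquivRange f).symm
        ((MulEquiv.subgroupCongr hrange).symm ⟨π y, mem_map_of_mem π y.2⟩)) = _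
      rw [show (MulEquiv.subgroupCongr hrange).symm ⟨π y, mem_map_of_mem π y.2⟩ =
          QuotientGroup.quotientKerEquivRange f (y : ↥Y ⧸ f.ker) from rfl, MulEquiv.symm_apply_apply]
      rfl
    rw [← he]
    show ((e.symm (e _) : ↥(Y.map π)) : G ⧸ pCore p G) = _
    rw [MulEquiv.symm_apply_apply]
  have hcomp : ∀ K : Subgroup (↥Y ⧸ pCore p ↥Y), IsComponent K →
      IsComponent (K.map g) ∧ K.map g ≤ Y.map π ∧
        (K.comap (QuotientGroup.mk' (pCore p ↥Y))).map Y.subtype = (K.map g).comap π ⊓ Y := by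
    intro K hK
    refine ⟨?_, ?_, ?_⟩
    · rw [hg, ← Subgroup.map_map, ← Components.isComponent_map_subtype_iff hYbn.isSubnormal]
      exact Components.component_map_equiv e.symm hK
    · rw [hg, ← Subgroup.map_map]; exact map_subtype_le _
    · ext x
      constructor
      · rintro ⟨y, hy, rfl⟩
        exact ⟨⟨_, hy, hgf y⟩, y.2⟩
      · rintro ⟨⟨k, hk, hkx⟩, hxY⟩
        exact ⟨⟨x, hxY⟩, show _ ∈ K from hgi (hkx.trans (hgf ⟨x, hxY⟩).symm) ▸ hk, rfl⟩
  obtain ⟨hC₁, hC₁Y, hA₁⟩ := hcomp K₁ hK₁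
  obtain ⟨hC₂, hC₂Y, hA₂⟩ := hcomp K₂ hK₂
  obtain ⟨_, ⟨s, hs, rfl⟩, hC⟩ := mem_orbitSet h hY hpf hC₁ hC₁Y hC₂ hC₂Y
  refine ⟨s, hs, ?_⟩
  rw [hA₂, hA₁, hC]
  ext x
  constructor
  · rintro ⟨⟨c, hc, hcx⟩, hxY⟩
    refine ⟨s⁻¹ * x * s, ⟨?_, by simpa using hYn.conj_mem x hxY s⁻¹⟩, by simp [mul_assoc]⟩
    show π (s⁻¹ * x * s) ∈ K₁.map g
    rw [map_mul, map_mul, ← hcx, map_inv]
    simp only [MulEquiv.coe_toMonoidHom, MulAut.conj_apply]
    rwa [show (π s)⁻¹ * (π s * c * (π s)⁻¹) * π s = c by group]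
  · rintro ⟨y, ⟨hy, hyY⟩, rfl⟩
    exact ⟨⟨π y, hy, by simp only [MulEquiv.coe_toMonoidHom, MulAut.conj_apply, map_mul, map_inv, hπ]⟩,
      hYn.conj_mem y hyY s⟩

end Cfsg.Agent.S3044
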