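import Cfsg.Statements.S3045
import Cfsg.Agent.LocalEvenD.Isolated.Solvable

set_option autoImplicit false
open Cfsg

namespace Cfsg.Agent.S3045

/-- Let G be a finite group, p a prime, S a Sylow p-subgroup of G and P a p-minimal subgroup of G containing S. Let L be the subgroup generated by N_G(S) and all p-minimal subgroups of G containing S other than P, and suppose O_p(L) is not contained in O_p(P). Put Y for the normal closure of O^p(P) in G. Then O^p(P) is contained in the preimage in G of F*(G/O_p(G)); and if Y is solvable, then Y = O^p(P) and Y/O_p(Y) is a t-group of nilpotency class at most 2 for some prime t ≠ p. -/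
theorem result {G : Type*} [Group G] [Finite G] {p : ℕ} [Fact p.Prime] (S : Sylow p G) (P : Subgroup G) (hSP : (S : Subgroup G) ≤ P) (hPmin : Cfsg.IsPMinimal p ↥P)
    (L Y : Subgroup G)
    (hL : L = Subgroup.normalizer ((S : Subgroup G) : Set G) ⊔ ⨆ P' : {P' : Subgroup G // (S : Subgroup G) ≤ P' ∧ Cfsg.IsPMinimal p ↥P' ∧ P' ≠ P}, (P' : Subgroup G))
    (hiso : ¬ (Cfsg.pCore p ↥L).map L.subtype ≤ (Cfsg.pCore p ↥P).map P.subtype)
    (hY : Y = Subgroup.normalClosure (((Cfsg.pResidual p ↥P).map P.subtype : Subgroup G) : Set G)) [hn : (Cfsg.pCore p G).Normal] :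
    (Cfsg.pResidual p ↥P).map P.subtype ≤ (Cfsg.generalizedFittingSubgroup (G ⧸ Cfsg.pCore p G)).comap (QuotientGroup.mk' (Cfsg.pCore p G)) ∧
    (Group.IsSolvable ↥Y → (Cfsg.pResidual p ↥P).map P.subtype = Y ∧
       ∃ _ : (Cfsg.pCore p ↥Y).Normal, ∃ t : ℕ, t.Prime ∧ t ≠ p ∧ IsPGroup t (↥Y ⧸ Cfsg.pCore p ↥Y) ∧
         ∃ _ : Group.IsNilpotent (↥Y ⧸ Cfsg.pCore p ↥Y), Group.nilpotencyClass (↥Y ⧸ Cfsg.pCore p ↥Y) ≤ 2) := by
  classical
  have h : LocalEvenD.Isolated.Isol p S P L := ⟨hSP, hPmin, hL, hiso⟩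
  refine ⟨(LocalEvenD.Isolated.residual_le_Y hY).trans (Subgroup.map_le_iff_le_comap.1
    (LocalEvenD.Isolated.map_Y_le_generalizedFitting h hY)), fun hsol => ?_⟩
  haveI hYn := LocalEvenD.Isolated.normal_Y hY
  set π := QuotientGroup.mk' (pCore p G) with hπ
  haveI := (Subgroup.nontrivial_iff_ne_bot _).2 (LocalEvenD.Isolated.map_Y_ne_bot h hY)
  have hne : ⁅Y.map π, Y.map π⁆ ≠ Y.map π := by
    intro he
    haveI := hsol
    haveI hs : Group.IsSolvable ↥(Y.map π) :=
      Group.isSolvable_of_surjective (π.subgroupMap_surjective Y)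
    have hperf : Group.IsPerfect ↥(Y.map π) := ⟨by
      rw [← (Subgroup.map_injective (Y.map π).subtype_injective).eq_iff, _root_.commutator_def,
        Subgroup.map_commutator, ← MonoidHom.range_eq_map, Subgroup.range_subtype]
      exact he⟩
    exact Group.IsPerfect.not_isSolvable ↥(Y.map π) hs
  refine ⟨LocalEvenD.Isolated.residual_eq_Y h hY hne, inferInstance, ?_⟩
  obtain ⟨t, ht, htp, hYt⟩ := LocalEvenD.Isolated.exists_isPGroup_map_Y h hY hne
  let f := π.comp Y.subtype
  have hker : f.ker = pCore p ↥Y := by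
    rw [show f.ker = (pCore p G).subgroupOf Y from by
      rw [← MonoidHom.comap_ker, QuotientGroup.ker_mk']; rfl]
    exact le_antisymm (Thompson.subgroupOf_pCore_le Y)
      (Subgroup.map_le_iff_le_comap.1 (Thompson.map_pCore_normal_le Y))
  have hrange : f.range = Y.map π := by
    rw [MonoidHom.range_comp, Subgroup.range_subtype]
  let e : ↥(Y.map π) ≃* ↥Y ⧸ pCore p ↥Y := ((MulEquiv.subgroupCongr hrange).symm.trans
    (QuotientGroup.quotientKerEquivRange f).symm).trans (QuotientGroup.quotientMulEquivOfEq hker)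
  have hlc := LocalEvenD.Isolated.lowerCentralSeries_map_Y h hY hne
  haveI : Group.IsNilpotent ↥(Y.map π) := Subgroup.nilpotent_iff_lowerCentralSeries.2 ⟨2, hlc⟩
  refine ⟨t, ht, htp, hYt.of_surjective e.toMonoidHom e.surjective,
    Group.nilpotent_of_mulEquiv e, ?_⟩
  exact le_trans (Group.nilpotencyClass_le_of_surjective e.toMonoidHom e.surjective)
    (Subgroup.lowerCentralSeries_eq_bot_iff_nilpotencyClass_le.1 hlc)

end Cfsg.Agent.S3045
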