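import Cfsg.Statements.S3047
import Cfsg.Agent.FG78.RankOne3047.Unitary

set_option autoImplicit false
open Cfsg

namespace Cfsg.Agent.S3047

/-- Let p ≥ 5 be a prime, G a finite group all of whose composition factors are known simple groups, S a Sylow p-subgroup and P a p-minimal subgroup of G containing S such that O^p(P/O_p(P)) is isomorphic to SL₂(pᵃ), PSL₂(pᵃ), SU₃(pᵃ) or PSU₃(pᵃ) for some a ≥ 1. Let L be the subgroup generated by N_G(S) and the p-minimal subgroups of G containing S other than P. Then either O^p(P) is normal in G, or every p-element of the centre of L lies in O_p(P). -/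
theorem result {G : Type*} [Group G] [Finite G] {p : ℕ} [Fact p.Prime] (hp : 5 ≤ p) (hK : Cfsg.IsCompositionKGroup G)
    (S : Sylow p G) (P : Subgroup G) (hSP : (S : Subgroup G) ≤ P) (hPmin : Cfsg.IsPMinimal p ↥P) [hn : (Cfsg.pCore p ↥P).Normal]
    (hrk1 : ∃ (F : Type) (_ : Field F) (_ : Fintype F) (a : ℕ), 1 ≤ a ∧
      ((Fintype.card F = p ^ a ∧ (Nonempty (↥(Cfsg.pResidual p (↥P ⧸ Cfsg.pCore p ↥P)) ≃* Matrix.SpecialLinearGroup (Fin 2) F) ∨
                                  Nonempty (↥(Cfsg.pResidual p (↥P ⧸ Cfsg.pCore p ↥P)) ≃* Matrix.ProjectiveSpecialLinearGroup (Fin 2) F))) ∨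
       (Fintype.card F = p ^ (2 * a) ∧ (Nonempty (↥(Cfsg.pResidual p (↥P ⧸ Cfsg.pCore p ↥P)) ≃* ↥(Cfsg.SU 3 F (p ^ a))) ∨
                                        Nonempty (↥(Cfsg.pResidual p (↥P ⧸ Cfsg.pCore p ↥P)) ≃* Cfsg.PSU 3 F (p ^ a))))))
    (L : Subgroup G)
    (hL : L = Subgroup.normalizer ((S : Subgroup G) : Set G) ⊔ ⨆ P' : {P' : Subgroup G // (S : Subgroup G) ≤ P' ∧ Cfsg.IsPMinimal p ↥P' ∧ P' ≠ P}, (P' : Subgroup G)) :
    ((Cfsg.pResidual p ↥P).map P.subtype).Normal ∨
    ∀ z ∈ L ⊓ Subgroup.centralizer (L : Set G), (∃ k : ℕ, orderOf z = p ^ k) → z ∈ (Cfsg.pCore p ↥P).map P.subtype := by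
  refine Or.inr fun z hz hzp => ?_
  obtain ⟨k, hk⟩ := hzp
  have hSL : (S : Subgroup G) ≤ L := hL ▸ le_sup_of_le_left Subgroup.le_normalizer
  have hc : ∀ x ∈ L, x * z = z * x := fun x hx => Subgroup.mem_centralizer_iff.mp hz.2 x hx
  have hzS : z ∈ (S : Subgroup G) := by
    have hzn : z ∈ Subgroup.normalizer ((S : Subgroup G) : Set G) := by
      refine Subgroup.mem_normalizer_fintype fun n hn => ?_
      show z * n * z⁻¹ ∈ (S : Subgroup G)
      rwa [← hc n (hSL hn), mul_inv_cancel_right]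
    have hzpg : IsPGroup p ↥(Subgroup.zpowers z) :=
      IsPGroup.of_card (n := k) (by rw [Nat.card_zpowers, hk])
    exact S.is_maximal'
      (IsPGroup.to_sup_of_normal_right' hzpg S.isPGroup' (Subgroup.zpowers_le.mpr hzn))
      le_sup_right ▸ Subgroup.mem_sup_left (Subgroup.mem_zpowers z)
  let P' := ↥P ⧸ Cfsg.pCore p ↥P
  let π : ↥P →* P' := QuotientGroup.mk' _
  let S' : Sylow p P' :=
    (S.subtype hSP).mapSurjective (QuotientGroup.mk'_surjective (Cfsg.pCore p ↥P))
  have hQS : Cfsg.pCore p ↥P ≤ (S : Subgroup G).subgroupOf P :=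
    IsPGroup.le_sylow_of_normal Cfsg.Agent.Thompson.isPGroup_pCore (S.subtype hSP)
  refine ⟨⟨z, hSP hzS⟩, (QuotientGroup.eq_one_iff _).mp ?_, rfl⟩
  show π ⟨z, hSP hzS⟩ = 1
  have hzS' : π ⟨z, hSP hzS⟩ ∈ (S' : Subgroup P') := Subgroup.mem_map_of_mem _ hzS
  have hzN : ∀ y ∈ Subgroup.normalizer ((S' : Subgroup P') : Set P'),
      y * π ⟨z, hSP hzS⟩ = π ⟨z, hSP hzS⟩ * y := by
    intro y hy
    obtain ⟨x, rfl⟩ := QuotientGroup.mk'_surjective _ y
    have hxN : (x : G) ∈ Subgroup.normalizer ((S : Subgroup G) : Set G) := by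
      refine Subgroup.mem_normalizer_fintype fun n hn => ?_
      have h1 : π x * π ⟨n, hSP hn⟩ * (π x)⁻¹ ∈ (S' : Subgroup P') :=
        (Subgroup.mem_normalizer_iff.mp hy _).mp (Subgroup.mem_map_of_mem _ hn)
      obtain ⟨s, hs, hse⟩ := h1
      have h2 : s⁻¹ * (x * ⟨n, hSP hn⟩ * x⁻¹) ∈ Cfsg.pCore p ↥P := by
        refine (QuotientGroup.eq_one_iff _).mp ?_
        show π (s⁻¹ * (x * ⟨n, hSP hn⟩ * x⁻¹)) = 1
        rw [map_mul, map_inv, inv_mul_eq_one, map_mul, map_mul, map_inv]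
        exact hse
      have h3 := ((S : Subgroup G).subgroupOf P).mul_mem hs (hQS h2)
      rw [mul_inv_cancel_left] at h3
      exact h3
    show π x * π ⟨z, hSP hzS⟩ = π ⟨z, hSP hzS⟩ * π x
    rw [← map_mul, ← map_mul]
    exact congrArg π (Subtype.ext (hc x (hL ▸ Subgroup.mem_sup_left hxN)))
  have hO : Cfsg.pCore p P' = ⊥ := Cfsg.Agent.Thompson.pCore_quotient_pCore
  obtain ⟨F, _, _, a, ha, h⟩ := hrk1
  rcases h with ⟨hF, h⟩ | ⟨hF, h⟩
  · haveI : CharP F p := charP_of_card_eq_prime_pow (f := a)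
      hF
    obtain ⟨d⟩ := Cfsg.Agent.FG78.RankOne3047.exists_data_SL2 F hp
    rcases h with ⟨⟨e⟩⟩ | ⟨⟨e⟩⟩
    · refine Cfsg.Agent.FG78.RankOne3047.eq_one d hp
        ((Subgroup.subtype _).comp e.symm.toMonoidHom) ?_ ?_ hO S' hzS' hzN
      · intro x hx
        have : x = 1 := e.symm.injective
          (Subtype.ext (by simpa [MonoidHom.mem_ker] using hx))
        exact this ▸ Subgroup.one_mem _
      · rw [MonoidHom.range_comp, MonoidHom.range_eq_top.mpr e.symm.surjective,
          ← MonoidHom.range_eq_map, Subgroup.range_subtype]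
    · refine Cfsg.Agent.FG78.RankOne3047.eq_one d hp
        ((Subgroup.subtype _).comp (e.symm.toMonoidHom.comp (QuotientGroup.mk' _))) ?_ ?_ hO S' hzS'
        hzN
      · intro x hx
        exact (QuotientGroup.eq_one_iff x).mp (e.symm.injective
          (Subtype.ext (by simpa [MonoidHom.mem_ker] using hx)))
      · rw [MonoidHom.range_comp, MonoidHom.range_comp,
          MonoidHom.range_eq_top.mpr (QuotientGroup.mk'_surjective _), ← MonoidHom.range_eq_map,
          MonoidHom.range_eq_top.mpr e.symm.surjective, ← MonoidHom.range_eq_map,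
          Subgroup.range_subtype]
  · haveI : CharP F p := charP_of_card_eq_prime_pow (f := 2 * a)
      hF
    have hF' : Fintype.card F = (p ^ a) ^ 2 := by rw [hF, ← pow_mul, mul_comm]
    obtain ⟨d⟩ := Cfsg.Agent.FG78.RankOne3047.exists_data_SU3 hF' hp
    rcases h with ⟨⟨e⟩⟩ | ⟨⟨e⟩⟩
    · refine Cfsg.Agent.FG78.RankOne3047.eq_one d hp
        ((Subgroup.subtype _).comp e.symm.toMonoidHom) ?_ ?_ hO S' hzS' hzN
      · intro x hx
        have : x = 1 := e.symm.injective
          (Subtype.ext (by simpa [MonoidHom.mem_ker] using hx))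
        exact this ▸ Subgroup.one_mem _
      · rw [MonoidHom.range_comp, MonoidHom.range_eq_top.mpr e.symm.surjective,
          ← MonoidHom.range_eq_map, Subgroup.range_subtype]
    · refine Cfsg.Agent.FG78.RankOne3047.eq_one d hp
        ((Subgroup.subtype _).comp (e.symm.toMonoidHom.comp (QuotientGroup.mk' _))) ?_ ?_ hO S' hzS'
        hzN
      · intro x hx
        exact (QuotientGroup.eq_one_iff x).mp (e.symm.injective
          (Subtype.ext (by simpa [MonoidHom.mem_ker] using hx)))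
      · rw [MonoidHom.range_comp, MonoidHom.range_comp,
          MonoidHom.range_eq_top.mpr (QuotientGroup.mk'_surjective _), ← MonoidHom.range_eq_map,
          MonoidHom.range_eq_top.mpr e.symm.surjective, ← MonoidHom.range_eq_map,
          Subgroup.range_subtype]

end Cfsg.Agent.S3047
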