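import Cfsg.Statements.S3048
import Cfsg.Agent.Lib.Fitting
import Cfsg.Agent.Lib.Components.Basic
import Cfsg.Agent.Lib.Components.Balance
import Cfsg.Agent.Lib.Thompson.Cores

set_option autoImplicit false
set_option linter.style.haveILetI false
universe u
open Cfsg

namespace Cfsg.Agent.S3048

open Subgroup
open scoped commutatorElement Pointwise

variable {G : Type u} [Group G] [Finite G]

theorem mem_of_odd_of_mul_self {N : Subgroup G} {h : G} (ho : Odd (orderOf h)) (hh : h * h ∈ N) :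
    h ∈ N := by
  obtain ⟨k, hk⟩ := ho
  have e : (h * h) ^ (k + 1) = h := by
    rw [← pow_two, ← pow_mul, show 2 * (k + 1) = orderOf h + 1 by omega, pow_succ, pow_orderOf_eq_one, one_mul]
  exact e ▸ N.pow_mem hh _

theorem exists_odd_mem (K : Subgroup G) (hK : ¬ IsPGroup 2 K) : ∃ a ∈ K, a ≠ 1 ∧ Odd (orderOf a) := by
  by_contra hne
  push Not at hne
  refine hK fun g => ?_
  obtain ⟨a, m, hm, he⟩ := Nat.exists_eq_two_pow_mul_odd (orderOf_pos (g : G)).ne'
  refine ⟨a, Subtype.ext ?_⟩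
  by_contra h1
  have ho : orderOf ((g : G) ^ 2 ^ a) = m := by
    rw [orderOf_pow_of_dvd (by positivity) (he ▸ dvd_mul_right _ _), he,
      Nat.mul_div_cancel_left _ (by positivity)]
  have := hne _ (K.pow_mem g.2 _) (by simpa using h1)
  rw [ho] at this
  exact this hm

theorem exists_min (P : Subgroup G → Prop) (h : ∃ K, P K) :
    ∃ K, P K ∧ ∀ M, P M → M ≤ K → M = K := by
  classical
  have hex : ∃ n, ∃ K, P K ∧ Nat.card K = n := by
    obtain ⟨K, hK⟩ := h
    exact ⟨_, K, hK, rfl⟩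
  obtain ⟨K, hK, hc⟩ := Nat.find_spec hex
  refine ⟨K, hK, fun M hM hle => Subgroup.eq_of_le_of_card_ge hle ?_⟩
  rw [hc]
  exact Nat.find_min' hex ⟨M, hM, rfl⟩

/-- every normal subgroup has trivial 2-core when `G` has. -/
theorem pCore_normal_eq_bot (hO : Cfsg.pCore 2 G = ⊥) (N : Subgroup G) [N.Normal] :
    Cfsg.pCore 2 N = ⊥ := by
  haveI := Fitting.pCore_characteristic (G := N) 2
  have h1 : ((Cfsg.pCore 2 N).map N.subtype).Normal :=
    Fitting.normal_map_subtype_of_characteristic _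
  have h2 : IsPGroup 2 ↥((Cfsg.pCore 2 N).map N.subtype) :=
    (Fitting.pCore_isPGroup 2).map N.subtype
  have h3 := Fitting.le_pCore h1 h2
  rw [hO, le_bot_iff, Subgroup.map_eq_bot_iff_of_injective _ N.subtype_injective] at h3
  exact h3

/-- The hypothesis "`K` has no nontrivial normal 2-subgroup", inside the ambient group. -/
def NoTwoCore (K : Subgroup G) : Prop :=
  ∀ S : Subgroup G, S ≤ K → K ≤ normalizer (S : Set G) → IsPGroup 2 S → S = ⊥

theorem noTwoCore_of_normal (hO : Cfsg.pCore 2 G = ⊥) (N : Subgroup G) [N.Normal] : NoTwoCore N := by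
  intro S hS hn hp
  have h1 : (S.subgroupOf N).Normal := Subgroup.normal_subgroupOf_of_le_normalizer hn
  have h2 : IsPGroup 2 ↥(S.subgroupOf N) := hp.of_equiv (Subgroup.subgroupOfEquivOfLe hS).symm
  have h3 := Fitting.le_pCore h1 h2
  rw [pCore_normal_eq_bot hO N, le_bot_iff, subgroupOf_eq_bot] at h3
  exact disjoint_self.mp (h3.mono_right hS) 

theorem commute_of_mem_pCore {K H : Subgroup G} (hK : NoTwoCore K) (hKH : K ≤ H)
    (hn : H ≤ normalizer (K : Set G)) {u : G} (hu : u ∈ (Cfsg.pCore 2 H).map H.subtype) :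
    ∀ n ∈ K, u * n = n * u := by
  set P := (Cfsg.pCore 2 H).map H.subtype with hP
  have hPH : P ≤ H := Subgroup.map_subtype_le _
  have hPn : H ≤ normalizer (P : Set G) := by
    haveI : (Cfsg.pCore 2 H).Normal := Fitting.pCore_normal 2
    have : (P.subgroupOf H) = Cfsg.pCore 2 H := Subgroup.comap_map_eq_self_of_injective H.subtype_injective _
    exact (Subgroup.normal_subgroupOf_iff_le_normalizer hPH).mp (by rw [this]; infer_instance)
  have hS : P ⊓ K = ⊥ := hK _ inf_le_right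
    ((le_inf (hKH.trans hPn) Subgroup.le_normalizer).trans (Subgroup.inf_normalizer_le_normalizer_inf ..))
    (((Fitting.pCore_isPGroup 2).map H.subtype).to_le inf_le_left)
  intro n hnK
  have hc : u * n * u⁻¹ * n⁻¹ ∈ P ⊓ K := by
    refine ⟨?_, K.mul_mem ((mem_normalizer_iff.mp (hn (hPH hu)) n).mp hnK) (K.inv_mem hnK)⟩
    rw [show u * n * u⁻¹ * n⁻¹ = u * (n * u⁻¹ * n⁻¹) by group]
    exact P.mul_mem hu ((mem_normalizer_iff.mp (hPn (hKH hnK)) _).mp (P.inv_mem hu))
  rw [hS, mem_bot, mul_inv_eq_one, mul_inv_eq_iff_eq_mul] at hc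
  exact hc

theorem elementary_mono {U V : Subgroup G} (hV : Cfsg.IsElementaryAbelian 2 V) (h : U ≤ V) :
    Cfsg.IsElementaryAbelian 2 U :=
  ⟨⟨⟨fun a b => Subtype.ext (show (a : G) * b = b * a from congrArg Subtype.val
      (hV.1.is_comm.comm ⟨(a : G), h a.2⟩ ⟨(b : G), h b.2⟩))⟩⟩, fun a ha => hV.2 a (h ha)⟩

theorem witness_of_not_sidki {U : Subgroup G} (h : ¬ Cfsg.IsSidkiPair U) :
    ∃ a w : G, w ∈ U ∧ Odd (orderOf a) ∧ w * a * w⁻¹ = a⁻¹ ∧ ∀ x ∈ U, x * a = a * x → x = 1 := by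
  simp only [Cfsg.IsSidkiPair, not_forall, not_exists, not_and] at h
  obtain ⟨a, w, hw, ho, he, hx⟩ := h
  exact ⟨a, w, hw, ho, he, fun x hxU hc => by_contra fun hne => hx x hxU hne hc⟩

/-- A nontrivial elementary subgroup of a proper subgroup, not meeting its 2-core, is not a Sidki pair. -/
theorem witness_in_subgroup
    (hminG : ∀ (H : Type u) [Group H] [Finite H] (W : Subgroup H), Nat.card H < Nat.card G →
      Cfsg.IsElementaryAbelian 2 W → W ≠ ⊥ → Cfsg.IsSidkiPair W → W ⊓ Cfsg.pCore 2 H ≠ ⊥)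
    {U H : Subgroup G} (hH : H ≠ ⊤) (hUH : U ≤ H) (hU : Cfsg.IsElementaryAbelian 2 U) (hU1 : U ≠ ⊥)
    (hcore : ∀ u ∈ U, u ∈ (Cfsg.pCore 2 H).map H.subtype → u = 1) :
    ∃ a w : G, a ∈ H ∧ w ∈ U ∧ Odd (orderOf a) ∧ w * a * w⁻¹ = a⁻¹ ∧
      ∀ x ∈ U, x * a = a * x → x = 1 := by
  have hlt : Nat.card H < Nat.card G :=
    lt_of_le_of_ne (Subgroup.card_le_card_group H) fun h => hH (Subgroup.eq_top_of_card_eq H h)
  have he : Cfsg.IsElementaryAbelian 2 (U.subgroupOf H) :=
    ⟨⟨⟨fun a b => Subtype.ext (Subtype.ext (show ((a : H) : G) * ((b : H) : G) = ((b : H) : G) * ((a : H) : G)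
      from congrArg Subtype.val (hU.1.is_comm.comm ⟨((a : H) : G), a.2⟩ ⟨((b : H) : G), b.2⟩)))⟩⟩,
      fun a ha => Subtype.ext (hU.2 _ ha)⟩
  have hne : U.subgroupOf H ≠ ⊥ := by
    rw [ne_eq, subgroupOf_eq_bot]
    exact fun hd => hU1 (disjoint_self.mp (hd.mono_right hUH))
  have hns : ¬ Cfsg.IsSidkiPair (U.subgroupOf H) := by
    intro hs
    apply hminG H _ hlt he hne hs
    rw [eq_bot_iff]
    rintro x ⟨hx1, hx2⟩
    exact Subtype.ext (hcore _ hx1 ⟨x, hx2, rfl⟩)
  obtain ⟨a, w, hw, ho, hi, hx⟩ := witness_of_not_sidki hns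
  refine ⟨a, w, a.2, hw, by simpa using ho, congrArg Subtype.val hi, fun x hxU hc => ?_⟩
  exact congrArg Subtype.val (hx ⟨x, hUH hxU⟩ hxU (Subtype.ext hc))

theorem no_involution (hO : Cfsg.pCore 2 G = ⊥) (B : Subgroup G) [B.Normal]
    (hB : ∀ a ∈ B, ∀ b ∈ B, a * b = b * a) {z : G} (hz : z ∈ B) (h2 : z * z = 1) : z = 1 := by
  let S : Subgroup G :=
    { carrier := {x | x ∈ B ∧ x * x = 1}
      one_mem' := ⟨B.one_mem, by simp⟩
      mul_mem' := fun {a b} ha hb => ⟨B.mul_mem ha.1 hb.1, by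
        rw [mul_assoc, ← mul_assoc b a b, ← hB a ha.1 b hb.1, mul_assoc, hb.2, mul_one, ha.2]⟩
      inv_mem' := fun {a} ha => ⟨B.inv_mem ha.1, by rw [← mul_inv_rev, ha.2, inv_one]⟩ }
  have hS : S.Normal := ⟨fun x hx g => ⟨Subgroup.Normal.conj_mem inferInstance x hx.1 g, by
    rw [show g * x * g⁻¹ * (g * x * g⁻¹) = g * (x * x) * g⁻¹ by group, hx.2]; group⟩⟩
  have hp : IsPGroup 2 S := fun x => ⟨1, Subtype.ext (by simpa [pow_two] using x.2.2)⟩
  have : z ∈ Cfsg.pCore 2 G := Fitting.le_pCore hS hp ⟨hz, h2⟩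
  rwa [hO, mem_bot] at this

theorem sidki_map (V N : Subgroup G) [N.Normal] (hV : Cfsg.IsElementaryAbelian 2 V)
    (hS : Cfsg.IsSidkiPair V) (hVN : V ⊓ N = ⊥) :
    Cfsg.IsSidkiPair (V.map (QuotientGroup.mk' N)) := by
  rintro hb vb ⟨v, hv, rfl⟩ ho he
  by_cases h1 : hb = 1
  · subst h1
    by_cases hV1 : V = ⊥
    · subst hV1
      obtain ⟨w, hw, hw1, _⟩ := hS 1 v hv (by simp) (by group)
      exact absurd (mem_bot.mp hw) hw1
    obtain ⟨w, hw, hw1⟩ := (Subgroup.ne_bot_iff_exists_ne_one.mp hV1)  |> fun ⟨w, hw⟩ =>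
      (⟨w.1, w.2, fun e => hw (Subtype.ext e)⟩ : ∃ w, w ∈ V ∧ w ≠ 1)
    refine ⟨_, ⟨w, hw, rfl⟩, fun e => hw1 ?_, by group⟩
    have : w ∈ V ⊓ N := ⟨hw, (QuotientGroup.eq_one_iff w).mp e⟩
    rwa [hVN, mem_bot] at this
  obtain ⟨g, hg⟩ := QuotientGroup.mk'_surjective N hb
  obtain ⟨k, hk⟩ := ho
  have hvv : v * v = 1 := by simpa [pow_two] using hV.2 v hv
  have hvi : v⁻¹ = v := inv_eq_of_mul_eq_one_right hvv
  -- an element inverted by `v` lying over `hb⁻²`
  set d := v * g * v * g⁻¹ with hd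
  have hdi : v * d * v⁻¹ = d⁻¹ := by
    rw [hd, mul_inv_rev, mul_inv_rev, mul_inv_rev, inv_inv, hvi,
      show v * (v * g * v * g⁻¹) * v = (v * v) * g * v * g⁻¹ * v by group, hvv, one_mul]
    group
  have hdm : QuotientGroup.mk' N d = (hb⁻¹) ^ 2 := by
    rw [hd, map_mul, map_mul, map_mul, map_inv, hg]
    have : QuotientGroup.mk' N v * hb * QuotientGroup.mk' N v = hb⁻¹ := by
      conv_lhs => arg 2; rw [← hvi, map_inv]
      exact he
    rw [this, pow_two]
  obtain ⟨a, m, hm, hord⟩ := Nat.exists_eq_two_pow_mul_odd (orderOf_pos d).ne'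
  have hoe : orderOf (d ^ 2 ^ a) = m := by
    rw [orderOf_pow_of_dvd (by positivity) (hord ▸ dvd_mul_right _ _), hord,
      Nat.mul_div_cancel_left _ (by positivity)]
  have hei : v * d ^ 2 ^ a * v⁻¹ = (d ^ 2 ^ a)⁻¹ := by
    rw [← conj_pow, hdi, inv_pow]
  obtain ⟨w, hw, hw1, hc⟩ := hS (d ^ 2 ^ a) v hv (hoe ▸ hm) hei
  refine ⟨_, ⟨w, hw, rfl⟩, fun e => hw1 ?_, ?_⟩
  · have : w ∈ V ⊓ N := ⟨hw, (QuotientGroup.eq_one_iff w).mp e⟩
    rwa [hVN, mem_bot] at this
  have hc2 : Commute (QuotientGroup.mk' N w) (hb ^ (2 * 2 ^ a)) := by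
    have h3 : Commute (QuotientGroup.mk' N w) (QuotientGroup.mk' N (d ^ 2 ^ a)) :=
      (show Commute w (d ^ 2 ^ a) from hc).map (QuotientGroup.mk' N)
    rw [map_pow, hdm, ← pow_mul, inv_pow] at h3
    simpa using h3.inv_right
  have hcop : Nat.Coprime (2 * 2 ^ a) (orderOf hb) := by
    rw [← pow_succ']
    exact Nat.Coprime.pow_left _ (Nat.coprime_two_left.mpr ⟨k, hk⟩)
  obtain ⟨j, hj⟩ := exists_pow_eq_self_of_coprime hcop
  exact (hj ▸ hc2.pow_right j).eq

theorem pCore_eq_bot (V : Subgroup G) (hV : Cfsg.IsElementaryAbelian 2 V) (hV1 : V ≠ ⊥)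
    (hS : Cfsg.IsSidkiPair V) (hVO : V ⊓ Cfsg.pCore 2 G = ⊥)
    (hminG : ∀ (H : Type u) [Group H] [Finite H] (W : Subgroup H), Nat.card H < Nat.card G →
      Cfsg.IsElementaryAbelian 2 W → W ≠ ⊥ → Cfsg.IsSidkiPair W → W ⊓ Cfsg.pCore 2 H ≠ ⊥) :
    Cfsg.pCore 2 G = ⊥ := by
  by_contra hne
  haveI := Fitting.pCore_normal (G := G) 2
  refine hminG (G ⧸ Cfsg.pCore 2 G) (V.map (QuotientGroup.mk' _)) (card_quotient_lt hne) (map_elementary _ hV)
    (map_ne_bot _ hV1 hVO) (sidki_map V _ hV hS hVO) ?_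
  rw [Cfsg.Agent.Thompson.pCore_quotient_pCore, inf_bot_eq]
where
  card_quotient_lt {N : Subgroup G} (hN : N ≠ ⊥) : Nat.card (G ⧸ N) < Nat.card G := by
    rw [Subgroup.card_eq_card_quotient_mul_card_subgroup N]
    exact lt_mul_of_one_lt_right Nat.card_pos (Subgroup.one_lt_card_iff_ne_bot N |>.mpr hN)
  map_elementary {H : Type u} [Group H] (f : G →* H) {U : Subgroup G} (hU : Cfsg.IsElementaryAbelian 2 U) :
      Cfsg.IsElementaryAbelian 2 (U.map f) := by
    refine ⟨⟨⟨?_⟩⟩, ?_⟩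
    · rintro ⟨_, a, ha, rfl⟩ ⟨_, b, hb, rfl⟩
      refine Subtype.ext ?_
      show f a * f b = f b * f a
      rw [← map_mul, ← map_mul]
      exact congrArg f (congrArg Subtype.val (hU.1.is_comm.comm ⟨a, ha⟩ ⟨b, hb⟩))
    · rintro _ ⟨a, ha, rfl⟩
      rw [← map_pow, hU.2 a ha, map_one]
  map_ne_bot (N : Subgroup G) [N.Normal] {U : Subgroup G} (hU : U ≠ ⊥) (hUN : U ⊓ N = ⊥) :
      U.map (QuotientGroup.mk' N) ≠ ⊥ := by
    rw [ne_eq, Subgroup.map_eq_bot_iff, QuotientGroup.ker_mk']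
    exact fun h => hU (by rwa [inf_eq_left.mpr h] at hUN)

/-- No nontrivial element of `V` centralizes a nontrivial normal subgroup. -/
theorem eq_one_of_centralizes (V : Subgroup G) (hV : Cfsg.IsElementaryAbelian 2 V) (hV1 : V ≠ ⊥)
    (hS : Cfsg.IsSidkiPair V) (hO : Cfsg.pCore 2 G = ⊥)
    (hminG : ∀ (H : Type u) [Group H] [Finite H] (W : Subgroup H), Nat.card H < Nat.card G →
      Cfsg.IsElementaryAbelian 2 W → W ≠ ⊥ → Cfsg.IsSidkiPair W → W ⊓ Cfsg.pCore 2 H ≠ ⊥)
    (hminV : ∀ W : Subgroup G, Nat.card W < Nat.card V → Cfsg.IsElementaryAbelian 2 W → W ≠ ⊥ →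
      Cfsg.IsSidkiPair W → W ⊓ Cfsg.pCore 2 G ≠ ⊥)
    (N : Subgroup G) [N.Normal] (hN : N ≠ ⊥) {z : G} (hzV : z ∈ V)
    (hz : ∀ n ∈ N, z * n = n * z) : z = 1 := by
  by_contra hz1
  have hcomm : ∀ a ∈ V, ∀ b ∈ V, a * b = b * a := fun a ha b hb =>
    congrArg Subtype.val (hV.1.is_comm.comm ⟨a, ha⟩ ⟨b, hb⟩)
  have hsq : ∀ a ∈ V, a * a = 1 := fun a ha => by simpa [pow_two] using hV.2 a ha
  set A := centralizer (N : Set G) with hAdef
  haveI hAn : A.Normal := inferInstance
  have memA : ∀ {x : G}, x ∈ A ↔ ∀ n ∈ N, n * x = x * n := Subgroup.mem_centralizer_iff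
  set W := V ⊓ A with hW
  have hzW : z ∈ W := ⟨hzV, memA.mpr fun n hn => (hz n hn).symm⟩
  by_cases hVA : V ≤ A
  · by_cases hA : A = ⊤
    · -- `N` is central
      have hcen : ∀ n ∈ N, ∀ x : G, x * n = n * x := fun n hn x =>
        ((memA.mp (hA.ge (mem_top x))) n hn).symm
      have hVN : V ⊓ N = ⊥ := by
        rw [eq_bot_iff]
        rintro x ⟨hxV, hxN⟩
        exact no_involution hO N (fun a ha b hb => (hcen a ha b).symm) hxN (hsq x hxV)
      have h := hminG (G ⧸ N) (V.map (QuotientGroup.mk' N)) (pCore_eq_bot.card_quotient_lt hN)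
        (pCore_eq_bot.map_elementary _ hV) (pCore_eq_bot.map_ne_bot N hV1 hVN) (sidki_map V N hV hS hVN)
      apply h
      rw [eq_bot_iff]
      rintro _ ⟨⟨u, huV, rfl⟩, huO⟩
      haveI := Fitting.pCore_normal (G := G ⧸ N) 2
      set X := (Cfsg.pCore 2 (G ⧸ N)).comap (QuotientGroup.mk' N) with hX
      have huX : u ∈ X := huO
      let f : X →* Cfsg.pCore 2 (G ⧸ N) :=
        ((QuotientGroup.mk' N).comp X.subtype).codRestrict _ fun x => x.2
      haveI : Group.IsNilpotent ↥(Cfsg.pCore 2 (G ⧸ N)) := (Fitting.pCore_isPGroup 2).isNilpotent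
      have hker : f.ker ≤ center X := by
        intro x hx
        have : (x : G) ∈ N := (QuotientGroup.eq_one_iff _).mp (congrArg Subtype.val hx)
        exact mem_center_iff.mpr fun y => Subtype.ext (hcen _ this y)
      haveI : Group.IsNilpotent X := Subgroup.isNilpotent_of_ker_le_center f hker
      have hp : IsPGroup 2 (zpowers (⟨u, huX⟩ : X)) := by
        rintro ⟨y, k, rfl⟩
        refine ⟨1, Subtype.ext (Subtype.ext ?_)⟩
        simp only [pow_one, SubmonoidClass.coe_pow, SubgroupClass.coe_zpow, OneMemClass.coe_one]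
        rw [← zpow_natCast, ← zpow_mul, mul_comm, zpow_mul, zpow_natCast, pow_two, hsq u huV, one_zpow]
      obtain ⟨P, hP⟩ := hp.exists_le_sylow
      haveI : (P : Subgroup X).Normal := Sylow.normal_of_normalizerCondition Group.normalizerCondition_of_isNilpotent P
      have := Fitting.le_pCore (p := 2) (N := (P : Subgroup X)) inferInstance P.isPGroup'
        (hP (mem_zpowers _))
      rw [pCore_normal_eq_bot hO X, mem_bot] at this
      have hu1 : u = 1 := congrArg Subtype.val this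
      simp [hu1]
    · obtain ⟨a, w, _, hw, ho, hi, hx⟩ := witness_in_subgroup hminG hA hVA hV hV1 fun u _ hu => by
        rw [pCore_normal_eq_bot hO A, Subgroup.map_bot, mem_bot] at hu
        exact hu
      obtain ⟨x, hxV, hx1, hxc⟩ := hS a w hw ho hi
      exact hx1 (hx x hxV hxc)
  have hWlt : Nat.card W < Nat.card V :=
    lt_of_le_of_ne (Subgroup.card_le_of_le inf_le_left) fun h =>
      hVA (inf_eq_left.mp (Subgroup.eq_of_le_of_card_ge inf_le_left h.ge))
  have hW1 : W ≠ ⊥ := fun h => hz1 (by rwa [h, mem_bot] at hzW)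
  have hWns : ¬ Cfsg.IsSidkiPair W := fun hs =>
    hminV W hWlt (elementary_mono hV inf_le_left) hW1 hs (by rw [hO, inf_bot_eq])
  obtain ⟨h, w, hw, ho, hi, hx⟩ := witness_of_not_sidki hWns
  have hhA : h ∈ A := by
    refine mem_of_odd_of_mul_self ho ?_
    have : w * (h * w⁻¹ * h⁻¹) ∈ A := A.mul_mem hw.2 (hAn.conj_mem _ (A.inv_mem hw.2) h)
    rw [show w * (h * w⁻¹ * h⁻¹) = w * h * w⁻¹ * h⁻¹ by group, hi] at this
    simpa using A.inv_mem this
  set U := V ⊓ centralizer ({h} : Set G) with hU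
  have memU : ∀ {x : G}, x ∈ U ↔ x ∈ V ∧ x * h = h * x := by
    intro x; rw [hU, mem_inf, mem_centralizer_singleton_iff]; 
  obtain ⟨u₀, hu₀V, hu₀1, hu₀c⟩ := hS h w hw.1 ho hi
  have hU1 : U ≠ ⊥ := fun e => hu₀1 (mem_bot.mp (e ▸ memU.mpr ⟨hu₀V, hu₀c⟩))
  have hUW : ∀ x ∈ U, x ∈ A → x = 1 := fun x hxU hxA => hx x ⟨(memU.mp hxU).1, hxA⟩ (memU.mp hxU).2
  have hH : N ⊔ U ≠ ⊤ := by
    intro htop
    have hzc : zpowers z ≤ center G := by
      rw [zpowers_le, mem_center_iff]
      intro g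
      have hle : N ⊔ U ≤ centralizer ({z} : Set G) :=
        sup_le (fun n hn => mem_centralizer_singleton_iff.mpr (hz n hn).symm)
          (fun x hxU => mem_centralizer_singleton_iff.mpr (hcomm x (memU.mp hxU).1 z hzV))
      exact mem_centralizer_singleton_iff.mp (hle (htop ▸ mem_top g))
    exact hz1 (no_involution hO (center G) (fun a ha b _ => (mem_center_iff.mp ha b).symm)
      (hzc (mem_zpowers z)) (hsq z hzV))
  obtain ⟨n, u, hnH, hu, hon, hni, hnx⟩ := witness_in_subgroup hminG hH le_sup_right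
    (elementary_mono hV inf_le_left) hU1 fun x hxU hx' => hUW x hxU (memA.mpr fun m hm =>
      (commute_of_mem_pCore (noTwoCore_of_normal hO N) le_sup_left
        (normalizer_eq_top (H := N) ▸ le_top) hx' m hm).symm)
  have hnN : n ∈ N := by
    refine mem_of_odd_of_mul_self hon ?_
    obtain ⟨m, hm, x, hxU, rfl⟩ := mem_sup_of_normal_left.mp hnH
    rw [show m * x * (m * x) = m * (x * m * x⁻¹) * (x * x) by group, hsq x (memU.mp hxU).1, mul_one]
    exact N.mul_mem hm (Subgroup.Normal.conj_mem inferInstance m hm x)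
  have hhn : h * n = n * h := ((memA.mp hhA) n hnN).symm
  have hwn : w * n⁻¹ = n⁻¹ * w := ((memA.mp hw.2) _ (N.inv_mem hnN)).symm
  have hodd : Odd (orderOf (h * n)) :=
    (ho.mul hon).of_dvd_nat (Commute.orderOf_mul_dvd_mul_orderOf hhn)
  have hinv : w * u * (h * n) * (w * u)⁻¹ = (h * n)⁻¹ := by
    rw [show w * u * (h * n) * (w * u)⁻¹ = w * (u * h * u⁻¹) * w⁻¹ * (w * (u * n * u⁻¹) * w⁻¹) by group,
      mul_inv_eq_iff_eq_mul.mpr (memU.mp hu).2, hni, hi, mul_inv_eq_iff_eq_mul.mpr hwn, hhn, mul_inv_rev]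
  obtain ⟨x, hxV, hx1, hxc⟩ := hS (h * n) (w * u) (V.mul_mem hw.1 (memU.mp hu).1) hodd hinv
  set m := h⁻¹ * (x * h * x⁻¹) with hm
  set y := x * n * x⁻¹ with hy
  have hyN : y ∈ N := Subgroup.Normal.conj_mem inferInstance n hnN x
  have hmy : m = n * y⁻¹ := by
    have e : (x * h * x⁻¹) * y = h * n := by
      rw [hy, show x * h * x⁻¹ * (x * n * x⁻¹) = x * (h * n) * x⁻¹ by group, hxc]; group
    rw [hm, eq_mul_inv_iff_mul_eq, mul_assoc, e]; group
  have hmA : m ∈ A := A.mul_mem (A.inv_mem hhA) (hAn.conj_mem h hhA x)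
  have hmN : m ∈ N := hmy ▸ N.mul_mem hnN (N.inv_mem hyN)
  have hux : u * x = x * u := hcomm u (memU.mp hu).1 x hxV
  have huh : u * h * u⁻¹ = h := mul_inv_eq_iff_eq_mul.mpr (memU.mp hu).2
  have h1 : u * m * u⁻¹ = m := by
    calc u * m * u⁻¹ = (u * h * u⁻¹)⁻¹ * ((u * x) * h * (u * x)⁻¹) := by rw [hm]; group
      _ = (u * h * u⁻¹)⁻¹ * (x * (u * h * u⁻¹) * x⁻¹) := by rw [hux]; group
      _ = m := by rw [huh]
  have h2 : u * m * u⁻¹ = n⁻¹ * y := by
    calc u * m * u⁻¹ = (u * n * u⁻¹) * ((u * x) * n * (u * x)⁻¹)⁻¹ := by rw [hmy, hy]; group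
      _ = (u * n * u⁻¹) * (x * (u * n * u⁻¹) * x⁻¹)⁻¹ := by rw [hux]; group
      _ = n⁻¹ * y := by rw [hni, hy]; group
  have h3 : m * m = 1 := by
    have h4 : y⁻¹ * n = m := by
      have := (memA.mp hmA) y hyN
      rw [show y⁻¹ * n = y⁻¹ * (m * y) by rw [hmy]; group, ← this]; group
    conv_lhs => arg 2; rw [← h4]
    rw [← h1, h2]; group
  have hm1 : m = 1 := no_involution hO (N ⊓ A) (fun a ha b hb => (memA.mp hb.2) a ha.1) ⟨hmN, hmA⟩ h3
  have hxh : x * h = h * x := by
    have : x * h * x⁻¹ = h := by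
      rw [hm, inv_mul_eq_one] at hm1; exact hm1.symm
    exact mul_inv_eq_iff_eq_mul.mp this
  have hxn : x * n = n * x := by
    have : y = n := by rw [hm1] at hmy; exact (mul_inv_eq_one.mp hmy.symm).symm
    exact mul_inv_eq_iff_eq_mul.mp this
  exact hx1 (hnx x (memU.mpr ⟨hxV, hxh⟩) hxn)

/-- Normalizers normalize centralizers. -/
theorem normalizer_le_centralizer_normalizer (K : Subgroup G) :
    normalizer (K : Set G) ≤ normalizer ((centralizer (K : Set G) : Subgroup G) : Set G) := by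
  intro g hg
  have key : ∀ g ∈ normalizer (K : Set G), ∀ c ∈ centralizer (K : Set G),
      g * c * g⁻¹ ∈ centralizer (K : Set G) := by
    intro g hg c hc
    refine mem_centralizer_iff.mpr fun k hk => ?_
    have h1 := mem_centralizer_iff.mp hc (g⁻¹ * k * g) ((mem_normalizer_iff''.mp hg k).mp hk)
    calc k * (g * c * g⁻¹) = g * (g⁻¹ * k * g * c) * g⁻¹ := by group
      _ = g * (c * (g⁻¹ * k * g)) * g⁻¹ := by rw [h1]
      _ = g * c * g⁻¹ * k := by group
  refine mem_normalizer_iff.mpr fun c => ⟨key g hg c, fun h => ?_⟩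
  have := key g⁻¹ (inv_mem hg) _ h
  rwa [show g⁻¹ * (g * c * g⁻¹) * g⁻¹⁻¹ = c by group] at this

theorem commute_of_inf_bot {N L M : Subgroup G} (hL : N ≤ normalizer (L : Set G))
    (hM : N ≤ normalizer (M : Set G)) (hLN : L ≤ N) (hMN : M ≤ N) (h : L ⊓ M = ⊥)
    {a b : G} (ha : a ∈ L) (hb : b ∈ M) : a * b = b * a := by
  have : a * b * a⁻¹ * b⁻¹ ∈ L ⊓ M := by
    refine ⟨?_, M.mul_mem ((mem_normalizer_iff.mp (hM (hLN ha)) b).mp hb) (M.inv_mem hb)⟩
    rw [show a * b * a⁻¹ * b⁻¹ = a * (b * a⁻¹ * b⁻¹) by group]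
    exact L.mul_mem ha ((mem_normalizer_iff.mp (hL (hMN hb)) _).mp (L.inv_mem ha))
  rw [h, mem_bot, mul_inv_eq_one, mul_inv_eq_iff_eq_mul] at this
  exact this

theorem main (V : Subgroup G) (hV : Cfsg.IsElementaryAbelian 2 V) (hV1 : V ≠ ⊥)
    (hS : Cfsg.IsSidkiPair V) (hVO : V ⊓ Cfsg.pCore 2 G = ⊥)
    (hminG : ∀ (H : Type u) [Group H] [Finite H] (W : Subgroup H), Nat.card H < Nat.card G →
      Cfsg.IsElementaryAbelian 2 W → W ≠ ⊥ → Cfsg.IsSidkiPair W → W ⊓ Cfsg.pCore 2 H ≠ ⊥)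
    (hminV : ∀ W : Subgroup G, Nat.card W < Nat.card V → Cfsg.IsElementaryAbelian 2 W → W ≠ ⊥ →
      Cfsg.IsSidkiPair W → W ⊓ Cfsg.pCore 2 G ≠ ⊥) :
    IsSimpleGroup ↥(Cfsg.generalizedFittingSubgroup G) ∧
      ¬ IsMulCommutative ↥(Cfsg.generalizedFittingSubgroup G) ∧
      V ⊔ Cfsg.generalizedFittingSubgroup G = ⊤ := by
  have hO := pCore_eq_bot V hV hV1 hS hVO hminG
  have hcomm : ∀ a ∈ V, ∀ b ∈ V, a * b = b * a := fun a ha b hb =>
    congrArg Subtype.val (hV.1.is_comm.comm ⟨a, ha⟩ ⟨b, hb⟩)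
  have hsq : ∀ a ∈ V, a * a = 1 := fun a ha => by simpa [pow_two] using hV.2 a ha
  have hinvV : ∀ a ∈ V, a⁻¹ = a := fun a ha => inv_eq_of_mul_eq_one_right (hsq a ha)
  have hcen := fun (N : Subgroup G) [N.Normal] (hN : N ≠ ⊥) (z : G) (hzV : z ∈ V)
      (hz : ∀ n ∈ N, z * n = n * z) => eq_one_of_centralizes V hV hV1 hS hO hminG hminV N hN hzV hz
  -- every nontrivial normal subgroup is supplemented by `V`
  have hgen : ∀ (N : Subgroup G), N.Normal → N ≠ ⊥ → N ⊔ V = ⊤ := by
    intro N hn hN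
    haveI := hn
    by_contra hne
    obtain ⟨a, w, _, hw, ho, hi, hx⟩ := witness_in_subgroup hminG hne le_sup_right hV hV1
      fun x hxV hx' => hcen N hN x hxV (commute_of_mem_pCore (noTwoCore_of_normal hO N) le_sup_left
        (normalizer_eq_top (H := N) ▸ le_top) hx')
    obtain ⟨x, hxV, hx1, hxc⟩ := hS a w hw ho hi
    exact hx1 (hx x hxV hxc)
  have hder : ∀ (N : Subgroup G), N.Normal → N ≠ ⊥ → ⁅(⊤ : Subgroup G), (⊤ : Subgroup G)⁆ ≤ N := by
    intro N hn hN
    haveI := hn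
    rw [commutator_le]
    intro a _ b _
    obtain ⟨n, hn', v, hv, rfl⟩ := mem_sup_of_normal_left.mp ((hgen N hn hN).ge (mem_top a))
    obtain ⟨n', hn'', v', hv', rfl⟩ := mem_sup_of_normal_left.mp ((hgen N hn hN).ge (mem_top b))
    refine (QuotientGroup.eq_one_iff _).mp ?_
    have e1 : ((n * v : G) : G ⧸ N) = (v : G ⧸ N) := by simp [(QuotientGroup.eq_one_iff n).mpr hn']
    have e2 : ((n' * v' : G) : G ⧸ N) = (v' : G ⧸ N) := by simp [(QuotientGroup.eq_one_iff n').mpr hn'']
    rw [← QuotientGroup.mk'_apply, map_commutatorElement, QuotientGroup.mk'_apply, QuotientGroup.mk'_apply, e1, e2,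
      commutatorElement_eq_one_iff_mul_comm, ← QuotientGroup.mk_mul, ← QuotientGroup.mk_mul, hcomm v hv v' hv']
  have htop : (⊤ : Subgroup G) ≠ ⊥ := fun h => hV1 (le_bot_iff.mp (h ▸ le_top))
  obtain ⟨N, ⟨hNn, hN1⟩, hNmin⟩ := exists_min (fun N : Subgroup G => N.Normal ∧ N ≠ ⊥) ⟨⊤, inferInstance, htop⟩
  haveI := hNn
  have hN2 : ∀ S : Subgroup G, S ≤ N → N ≤ normalizer (S : Set G) → IsPGroup 2 S → S = ⊥ :=
    noTwoCore_of_normal hO N
  -- `N` is not abelian
  have hNna : ¬ ∀ a ∈ N, ∀ b ∈ N, a * b = b * a := by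
    intro hab
    have hfix : ∀ x ∈ V, x ≠ 1 → ∀ n ∈ N, x * n * x⁻¹ = n⁻¹ := by
      intro x hxV hx1 n hn
      set F := N ⊓ centralizer ({x} : Set G) with hF
      have hFn : F.Normal := by
        rw [← normalizer_eq_top_iff, eq_top_iff, ← hgen N hNn hN1, sup_le_iff]
        constructor
        · intro a ha
          rw [mem_normalizer_iff]
          intro b
          by_cases hb : b ∈ N
          · rw [hab a ha b hb, mul_inv_cancel_right]
          · refine iff_of_false (fun h => hb h.1) fun h => hb ?_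
            have := hNn.conj_mem _ h.1 a⁻¹
            rwa [show a⁻¹ * (a * b * a⁻¹) * a⁻¹⁻¹ = b by group] at this
        · refine (le_inf (normalizer_eq_top (H := N) ▸ le_top) ?_).trans (inf_normalizer_le_normalizer_inf ..)
          exact fun a ha => Subgroup.le_normalizer (mem_centralizer_singleton_iff.mpr (hcomm a ha x hxV))
      have hF1 : F = ⊥ := by
        by_contra hne
        have h := hNmin F ⟨hFn, hne⟩ inf_le_left
        exact hx1 (hcen N hN1 x hxV fun m hm =>
          (mem_centralizer_singleton_iff.mp (h.ge hm).2).symm)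
      have hxn : x * n * x⁻¹ ∈ N := hNn.conj_mem n hn x
      have : n * (x * n * x⁻¹) ∈ F := by
        refine ⟨N.mul_mem hn hxn, mem_centralizer_singleton_iff.mpr ?_⟩
        have hxi := hinvV x hxV
        rw [hxi] at hxn ⊢
        have e := hab n hn _ hxn
        calc n * (x * n * x) * x = n * x * n * (x * x) := by group
          _ = n * x * n := by rw [hsq x hxV, mul_one]
          _ = (x * x) * n * x * n := by rw [hsq x hxV, one_mul]
          _ = x * ((x * n * x) * n) := by group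
          _ = x * (n * (x * n * x)) := by rw [e]
      rw [hF1, mem_bot] at this
      exact eq_inv_of_mul_eq_one_right this
    obtain ⟨a, haN, ha1, hao⟩ := exists_odd_mem N fun hp => hN1 (hN2 N le_rfl Subgroup.le_normalizer hp)
    obtain ⟨v, hv1⟩ := Subgroup.ne_bot_iff_exists_ne_one.mp hV1
    obtain ⟨x, hxV, hx1, hxc⟩ := hS a v v.2 hao (hfix v v.2 (fun e => hv1 (Subtype.ext e)) a haN)
    have := hfix x hxV hx1 a haN
    rw [hxc, mul_inv_cancel_right] at this
    exact ha1 (no_involution hO N hab haN (eq_inv_iff_mul_eq_one.mp this))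
  -- a minimal normal subgroup of `N`
  obtain ⟨K, ⟨hKN, hK1, hKn⟩, hKmin⟩ := exists_min
    (fun K : Subgroup G => K ≤ N ∧ K ≠ ⊥ ∧ N ≤ normalizer (K : Set G)) ⟨N, le_rfl, hN1, Subgroup.le_normalizer⟩
  let c : G → Subgroup G := fun x => K.map (MulAut.conj x).toMonoidHom
  have memc : ∀ {x a : G}, a ∈ c x ↔ x⁻¹ * a * x ∈ K := by
    intro x a
    constructor
    · rintro ⟨b, hb, rfl⟩
      simpa [mul_assoc] using hb
    · exact fun h => ⟨_, h, by simp [mul_assoc]⟩
  have hcN : ∀ x, c x ≤ N := fun x a ha => by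
    have := hNn.conj_mem _ (hKN (memc.mp ha)) x
    rwa [show x * (x⁻¹ * a * x) * x⁻¹ = a by group] at this
  have hcn : ∀ x, N ≤ normalizer (c x : Set G) := by
    intro x a ha
    rw [mem_normalizer_iff]
    intro b
    have hax : x⁻¹ * a * x ∈ N := by simpa using hNn.conj_mem a ha x⁻¹
    rw [memc, memc, mem_normalizer_iff.mp (hKn hax) (x⁻¹ * b * x),
      show x⁻¹ * a * x * (x⁻¹ * b * x) * (x⁻¹ * a * x)⁻¹ = x⁻¹ * (a * b * a⁻¹) * x by group]
  have hKc : ∀ x, c x = K ∨ K ⊓ c x = ⊥ := by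
    intro x
    by_cases h : K ⊓ c x = ⊥
    · exact Or.inr h
    have h1 := hKmin (K ⊓ c x) ⟨inf_le_left.trans hKN, h,
      (le_inf hKn (hcn x)).trans (inf_normalizer_le_normalizer_inf ..)⟩ inf_le_left
    refine Or.inl (Subgroup.eq_of_le_of_card_ge (inf_eq_left.mp h1) ?_).symm
    exact le_of_eq (Subgroup.card_map_of_injective (MulAut.conj x).injective)
  have hcomK : ∀ x, c x ≠ K → ∀ a ∈ K, ∀ b ∈ c x, a * b = b * a := fun x hx a ha b hb =>
    commute_of_inf_bot hKn (hcn x) hKN (hcN x) ((hKc x).resolve_left hx) ha hb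
  set T := ⨆ x : V, c x with hT
  have hTN : T = N := by
    have hTle : T ≤ N := iSup_le fun x => hcN _
    refine hNmin T ⟨?_, ?_⟩ hTle
    · rw [← normalizer_eq_top_iff, eq_top_iff, ← hgen N hNn hN1, sup_le_iff]
      refine ⟨(le_iInf fun x : V => hcn (x : G)).trans (iInf_normalizer_le_normalizer_iSup _), ?_⟩
      intro v hv
      have hmap : ∀ v ∈ V, T.map (MulAut.conj v).toMonoidHom ≤ T := by
        intro v hv
        rw [hT, Subgroup.map_iSup]
        refine iSup_le fun x => le_iSup_of_le (⟨v, hv⟩ * x : V) ?_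
        rintro _ ⟨a, ha, rfl⟩
        have hax := memc.mp ha
        refine memc.mpr ?_
        simpa [mul_assoc] using hax
      exact Components.map_conj_eq_iff_mem_normalizer.mp
        (Subgroup.eq_of_le_of_card_ge (hmap v hv)
          (le_of_eq (Subgroup.card_map_of_injective (MulAut.conj v).injective).symm))
    · intro h
      refine hK1 (le_bot_iff.mp (h ▸ ?_))
      exact le_iSup_of_le (1 : V) fun a ha => memc.mpr (by simpa using ha)
  have hKna : ¬ ∀ a ∈ K, ∀ b ∈ K, a * b = b * a := by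
    intro hab
    have h0 : ∀ a ∈ K, a ∈ centralizer (N : Set G) := by
      intro a ha
      have : N ≤ centralizer ({a} : Set G) := hTN ▸ iSup_le fun x b hb => by
        rw [mem_centralizer_singleton_iff]
        by_cases hx : c x = K
        · exact hab b (hx ▸ hb) a ha
        · exact (hcomK x hx a ha b hb).symm
      exact mem_centralizer_iff.mpr fun b hb => mem_centralizer_singleton_iff.mp (this hb)
    have : N ≤ centralizer (N : Set G) := by
      conv_lhs => rw [← hTN]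
      refine iSup_le fun x a ha => ?_
      have := (inferInstance : (centralizer (N : Set G)).Normal).conj_mem _ (h0 _ (memc.mp ha)) (x : G)
      rwa [show (x : G) * ((x : G)⁻¹ * a * x) * (x : G)⁻¹ = a by group] at this
    exact hNna fun a ha b hb => (mem_centralizer_iff.mp (this hb)) a ha
  have hK2 : NoTwoCore K ∧ ¬ IsPGroup 2 K := by
    have hp : ¬ IsPGroup 2 K := fun hp => hK1 (hN2 K hKN hKn hp)
    refine ⟨fun S hS hn hSp => ?_, hp⟩
    by_contra hS1
    -- the 2-core of `K` is normalized by `N`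
    set P := (Cfsg.pCore 2 K).map K.subtype with hP
    have hSP : S ≤ P := by
      have := Fitting.le_pCore (Subgroup.normal_subgroupOf_of_le_normalizer hn)
        (hSp.of_equiv (Subgroup.subgroupOfEquivOfLe hS).symm)
      intro s hs
      exact ⟨⟨s, hS hs⟩, this (show (⟨s, hS hs⟩ : K) ∈ S.subgroupOf K from hs), rfl⟩
    haveI := Fitting.pCore_characteristic (G := K) 2
    have hPn : N ≤ normalizer (P : Set G) := hKn.trans (Components.normalizer_le_normalizer_map_characteristic K _)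
    have hP1 : P = K := hKmin P ⟨(map_subtype_le _).trans hKN, fun e => hS1 (le_bot_iff.mp (e ▸ hSP)), hPn⟩
      (map_subtype_le _)
    exact hp (hP1 ▸ (Fitting.pCore_isPGroup 2).map K.subtype)
  have hcK : ∀ x ∈ V, (∀ a ∈ K, x * a = a * x) → x = 1 := by
    intro x hxV hx
    refine hcen N hN1 x hxV fun n hn => ?_
    have : T ≤ centralizer ({x} : Set G) := iSup_le fun y b hb => by
      rw [mem_centralizer_singleton_iff]
      have := hx _ (memc.mp hb)
      calc b * x = (y : G) * (((y : G)⁻¹ * b * y) * ((y : G)⁻¹ * x)) := by group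
        _ = (y : G) * (((y : G)⁻¹ * b * y) * (x * (y : G)⁻¹)) := by
            rw [hcomm (y : G)⁻¹ (V.inv_mem y.2) x hxV]
        _ = (y : G) * ((x * ((y : G)⁻¹ * b * y)) * (y : G)⁻¹) := by rw [this]; group
        _ = ((y : G) * x) * (y : G)⁻¹ * b := by group
        _ = x * b := by rw [hcomm (y : G) y.2 x hxV]; group
    exact (mem_centralizer_singleton_iff.mp (this (hTN.ge hn))).symm
  -- `N` is simple
  have hKN' : K = N := by
    by_contra hne
    have hKG : ¬ V ≤ normalizer (K : Set G) := by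
      intro h
      refine hne (hNmin K ⟨?_, hK1⟩ hKN)
      rw [← normalizer_eq_top_iff, eq_top_iff, ← hgen N hNn hN1]
      exact sup_le hKn h
    set V1 := V ⊓ normalizer (K : Set G) with hV1def
    by_cases h1 : V1 = ⊥
    · obtain ⟨a, haK, ha1, hao⟩ := exists_odd_mem K hK2.2
      obtain ⟨⟨v, hv⟩, hv1⟩ := Subgroup.ne_bot_iff_exists_ne_one.mp hV1
      have hv1' : v ≠ 1 := fun e => hv1 (Subtype.ext e)
      have hdist : ∀ x ∈ V, x ≠ 1 → c x ≠ K := fun x hxV hx1 he => hx1 (by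
        have : x ∈ V1 := ⟨hxV, Components.map_conj_eq_iff_mem_normalizer.mp he⟩
        rwa [h1, mem_bot] at this)
      set b := v * a⁻¹ * v⁻¹ with hb
      have hbc : b ∈ c v := memc.mpr (by simpa [hb, mul_assoc] using K.inv_mem haK)
      have hab : a * b = b * a := hcomK v (hdist v hv hv1') a haK b hbc
      have hbo : Odd (orderOf b) := by
        have : orderOf b = orderOf a := by
          rw [hb, show v * a⁻¹ * v⁻¹ = MulAut.conj v a⁻¹ from rfl, MulEquiv.orderOf_eq, orderOf_inv]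
        rwa [this]
      have hodd : Odd (orderOf (a * b)) :=
        (hao.mul hbo).of_dvd_nat (Commute.orderOf_mul_dvd_mul_orderOf hab)
      have hinv : v * (a * b) * v⁻¹ = (a * b)⁻¹ := by
        rw [mul_inv_rev, hb, hinvV v hv]
        calc v * (a * (v * a⁻¹ * v)) * v = v * a * v * a⁻¹ * (v * v) := by group
          _ = v * a * v * a⁻¹ := by rw [hsq v hv, mul_one]
          _ = (v * a⁻¹ * v)⁻¹ * a⁻¹ := by rw [mul_inv_rev, mul_inv_rev, hinvV v hv]; group
      obtain ⟨x, hxV, hx1, hxc⟩ := hS (a * b) v hv hodd hinv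
      by_cases hxv : x = v
      · subst hxv
        have : (a * b)⁻¹ = a * b := by rw [← hinv, hxc, mul_inv_cancel_right]
        have h2 : a * b = 1 := by
          obtain ⟨k, hk⟩ := hodd
          have hsq2 : (a * b) * (a * b) = 1 := by
            nth_rewrite 1 [← this]; exact inv_mul_cancel _
          have := pow_orderOf_eq_one (a * b)
          rwa [hk, pow_succ, pow_mul, pow_two, hsq2, one_pow, one_mul] at this
        have : a ∈ K ⊓ c x := ⟨haK, by
          rw [eq_inv_of_mul_eq_one_left h2]; exact (c x).inv_mem hbc⟩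
        rw [(hKc x).resolve_left (hdist x hxV hx1), mem_bot] at this
        exact ha1 this
      · have hxv1 : x * v ≠ 1 := fun e => hxv (by rw [eq_inv_of_mul_eq_one_left e, hinvV v hv])
        have h4 : a * b ∈ centralizer (K : Set G) := by
          have e1 : x * a * x⁻¹ ∈ centralizer (K : Set G) := mem_centralizer_iff.mpr fun k hk =>
            hcomK x (hdist x hxV hx1) k hk _ (memc.mpr (by simpa [mul_assoc] using haK))
          have e2 : x * b * x⁻¹ ∈ centralizer (K : Set G) := mem_centralizer_iff.mpr fun k hk =>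
            hcomK (x * v) (hdist _ (V.mul_mem hxV hv) hxv1) k hk _ (memc.mpr (by
              simpa [hb, mul_assoc] using K.inv_mem haK))
          have := (centralizer (K : Set G)).mul_mem e1 e2
          rwa [show x * a * x⁻¹ * (x * b * x⁻¹) = x * (a * b) * x⁻¹ by group, hxc,
            mul_inv_cancel_right] at this
        have hbC : b ∈ centralizer (K : Set G) := mem_centralizer_iff.mpr fun k hk =>
          hcomK v (hdist v hv hv1') k hk b hbc
        have haC : a ∈ centralizer (K : Set G) := by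
          have := (centralizer (K : Set G)).mul_mem h4 ((centralizer (K : Set G)).inv_mem hbC)
          rwa [mul_inv_cancel_right] at this
        have hZ := hKmin (K ⊓ centralizer (K : Set G)) ⟨inf_le_left.trans hKN,
          fun e => ha1 (mem_bot.mp (e ▸ (⟨haK, haC⟩ : a ∈ K ⊓ centralizer (K : Set G)))),
          (le_inf hKn (hKn.trans (normalizer_le_centralizer_normalizer K))).trans
            (inf_normalizer_le_normalizer_inf ..)⟩ inf_le_left
        exact hKna fun y hy z hz => (mem_centralizer_iff.mp ((hZ.ge hz).2)) y hy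
    · have hH : K ⊔ V1 ≠ ⊤ := by
        intro htop
        refine hne (hNmin K ⟨?_, hK1⟩ hKN)
        rw [← normalizer_eq_top_iff, eq_top_iff, ← htop]
        exact sup_le Subgroup.le_normalizer inf_le_right
      obtain ⟨b, y, _, hy, hbo, hbi, hbx⟩ := witness_in_subgroup hminG hH le_sup_right
        (elementary_mono hV inf_le_left) h1 fun x hx hx' => hcK x hx.1
          (commute_of_mem_pCore hK2.1 le_sup_left (sup_le Subgroup.le_normalizer inf_le_right) hx')
      have hbK : b ∈ K := by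
        refine mem_of_odd_of_mul_self hbo ?_
        have hbH : b ∈ K ⊔ V1 := by assumption
        obtain ⟨m, hm, x, hxU, rfl⟩ : b ∈ ((K : Set G) * (V1 : Set G)) := by
          rwa [← coe_mul_of_right_le_normalizer_left K V1 inf_le_right]
        rw [show m * x * (m * x) = m * (x * m * x⁻¹) * (x * x) by group, hsq x hxU.1, mul_one]
        exact K.mul_mem hm ((mem_normalizer_iff.mp hxU.2 m).mp hm)
      have hb1 : b ≠ 1 := by
        intro e
        obtain ⟨z, hz⟩ := Subgroup.ne_bot_iff_exists_ne_one.mp h1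
        exact hz (Subtype.ext (hbx z z.2 (by rw [e, mul_one, one_mul])))
      obtain ⟨x, hxV, hx1, hxc⟩ := hS b y hy.1 hbo hbi
      have hxn : x ∈ normalizer (K : Set G) := by
        apply Components.map_conj_eq_iff_mem_normalizer.mp
        refine (hKc x).resolve_right fun h => hb1 ?_
        have : b ∈ K ⊓ c x := ⟨hbK, memc.mpr (by
          rw [mul_assoc, ← hxc, inv_mul_cancel_left]; exact hbK)⟩
        rwa [h, mem_bot] at this
      exact hx1 (hbx x ⟨hxV, hxn⟩ hxc)
  subst hKN'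
  haveI : Nontrivial K := (Subgroup.nontrivial_iff_ne_bot K).mpr hN1
  haveI hsimp : IsSimpleGroup K := ⟨fun M hM => by
    by_cases h : M = ⊥
    · exact Or.inl h
    right
    have hMn : K ≤ normalizer ((M.map K.subtype : Subgroup G) : Set G) := by
      intro a ha
      rw [mem_normalizer_iff]
      intro b
      constructor
      · rintro ⟨m, hm, rfl⟩
        exact ⟨_, hM.conj_mem m hm ⟨a, ha⟩, rfl⟩
      · rintro ⟨m, hm, e⟩
        refine ⟨_, hM.conj_mem m hm (⟨a, ha⟩ : K)⁻¹, ?_⟩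
        simp only [Subgroup.coe_subtype] at e
        simp [e, mul_assoc]
    have := hKmin (M.map K.subtype) ⟨map_subtype_le _, by
      rwa [ne_eq, map_eq_bot_iff_of_injective _ K.subtype_injective], hMn⟩ (map_subtype_le _)
    apply Subgroup.map_injective K.subtype_injective
    rw [this, ← MonoidHom.range_eq_map, Subgroup.range_subtype]⟩
  have hna : ¬ IsMulCommutative K := fun h => hNna fun a ha b hb =>
    congrArg Subtype.val (h.is_comm.comm ⟨a, ha⟩ ⟨b, hb⟩)
  have hperfect : ⁅(⊤ : Subgroup K), (⊤ : Subgroup K)⁆ = ⊤ := by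
    refine (Subgroup.commutator_normal (⊤ : Subgroup K) ⊤).eq_bot_or_eq_top.resolve_left fun h => hna ?_
    refine ⟨⟨fun a b => ?_⟩⟩
    have : ⁅a, b⁆ ∈ (⊥ : Subgroup K) := h ▸ commutator_mem_commutator (mem_top a) (mem_top b)
    exact commutatorElement_eq_one_iff_mul_comm.mp (mem_bot.mp this)
  haveI : Group.IsPerfect K := ⟨hperfect⟩
  have hq : Cfsg.IsQuasisimple K := Components.isQuasisimple_of_forall_normal fun M hM =>
    hM.eq_bot_or_eq_top.symm.imp id fun h => h.trans_le bot_le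
  have hcomp : Cfsg.IsComponent K := ⟨Subgroup.Normal.isSubnormal hNn, hq⟩
  have hF : Cfsg.fittingSubgroup G = ⊥ := by
    by_contra hF
    have h1 := hder _ (Fitting.fitting_normal) hF
    have h2 : K ≤ Cfsg.fittingSubgroup G := by
      have := Subgroup.map_commutator (⊤ : Subgroup K) ⊤ K.subtype
      rw [hperfect, ← MonoidHom.range_eq_map, Subgroup.range_subtype] at this
      exact this.le.trans ((commutator_mono le_top le_top).trans h1)
    haveI : Group.IsNilpotent K := Fitting.isNilpotent_of_le Fitting.fitting_isNilpotent h2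
    exact Components.not_isSolvable_of_isQuasisimple hq inferInstance
  have hlay : Cfsg.layer G = K := by
    refine le_antisymm (sSup_le ?_) (le_sSup hcomp)
    rintro L ⟨-, hL⟩
    haveI := hL.1
    have := Subgroup.map_commutator (⊤ : Subgroup L) ⊤ L.subtype
    rw [← _root_.commutator_def, Group.IsPerfect.commutator_eq_top, ← MonoidHom.range_eq_map,
      Subgroup.range_subtype] at this
    exact this.le.trans ((commutator_mono le_top le_top).trans (hder K hNn hN1))
  have hGF : Cfsg.generalizedFittingSubgroup G = K := by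
    rw [Cfsg.generalizedFittingSubgroup, hlay, hF, sup_bot_eq]
  rw [hGF]
  exact ⟨hsimp, hna, sup_comm V K ▸ hgen K hNn hN1⟩


/-- Minimal counterexample reduction for the Sidki pair problem. Let G be a finite group and V a nontrivial elementary abelian 2-subgroup satisfying the Sidki pair condition with V ∩ O₂(G) = 1. Suppose that for every finite group H of smaller order, every nontrivial elementary abelian 2-subgroup W of H satisfying the Sidki pair condition meets O₂(H) nontrivially, and that the same holds in G for every such subgroup W of order smaller than that of V. Then the generalized Fitting subgroup F*(G) is a non-abelian simple group and G = V F*(G). -/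
theorem result {G : Type u} [Group G] [Finite G] (V : Subgroup G) (hV : Cfsg.IsElementaryAbelian 2 V) (hV1 : V ≠ ⊥) (hS : Cfsg.IsSidkiPair V) (hVO : V ⊓ Cfsg.pCore 2 G = ⊥) (hminG : ∀ (H : Type u) [Group H] [Finite H] (W : Subgroup H), Nat.card H < Nat.card G → Cfsg.IsElementaryAbelian 2 W → W ≠ ⊥ → Cfsg.IsSidkiPair W → W ⊓ Cfsg.pCore 2 H ≠ ⊥) (hminV : ∀ W : Subgroup G, Nat.card W < Nat.card V → Cfsg.IsElementaryAbelian 2 W → W ≠ ⊥ → Cfsg.IsSidkiPair W → W ⊓ Cfsg.pCore 2 G ≠ ⊥) : IsSimpleGroup ↥(Cfsg.generalizedFittingSubgroup G) ∧ ¬ IsMulCommutative ↥(Cfsg.generalizedFittingSubgroup G) ∧ V ⊔ Cfsg.generalizedFittingSubgroup G = ⊤ := by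
  exact main V hV hV1 hS hVO hminG hminV

end Cfsg.Agent.S3048
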