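import Cfsg.Statements.S3053
import Cfsg.Agent.LocalEvenD.SPEmb
import Cfsg.Agent.LocalEvenD.ExtraCube

set_option autoImplicit false
open Cfsg
open Cfsg.Agent.LocalEvenD

namespace Cfsg.Agent.S3053

theorem result {G : Type*} [Group G] [Finite G]
    {p : ℕ} [Fact p.Prime] (hp : p ≠ 2) (P : Sylow p G) (hE : Cfsg.IsExtraspecial p ↥P)
    (hcard : Nat.card P = p ^ 3) (hexp : Monoid.exponent ↥P = p ^ 2) :
    Cfsg.IsStronglyClosed ((Subgroup.center ↥P).map (P : Subgroup G).subtype) (P : Subgroup G) := by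
  refine ⟨Subgroup.map_subtype_le _, ?_⟩
  rintro _ ⟨x, hx, rfl⟩ h hy
  by_contra hyZ
  set y : ↥P := ⟨h * (x : G) * h⁻¹, hy⟩ with hydef
  have hyc : y ∉ Subgroup.center ↥P := fun hc => hyZ ⟨y, hc, rfl⟩
  have hx1 : x ≠ 1 := by
    rintro rfl
    exact hyc (by simp [hydef, show (⟨(1 : G), P.one_mem⟩ : ↥P) = 1 from rfl])
  have hxp : x ^ p = 1 := xs_center_pow hE hx
  have hyp : y ^ p = 1 := by
    apply Subtype.ext
    show (h * (x : G) * h⁻¹) ^ p = 1
    have h' : (x : G) ^ p = 1 := by exact_mod_cast congrArg Subtype.val hxp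
    rw [conj_pow, h']; group
  -- the centralizer E of y inside P, as a subgroup of G
  set E : Subgroup G := (P : Subgroup G) ⊓ Subgroup.centralizer ({(y : G)} : Set G) with hEdef
  have hxE : (x : G) ∈ E := by
    refine ⟨x.2, Subgroup.mem_centralizer_singleton_iff.mpr ?_⟩
    exact congrArg Subtype.val (Subgroup.mem_center_iff.mp hx y).symm
  have hyE : (y : G) ∈ E := ⟨y.2, Subgroup.mem_centralizer_singleton_iff.mpr rfl⟩
  have hEcard : Nat.card E = p ^ 2 := by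
    rw [← xs_card_centralizer hE hcard hyc]
    refine (Nat.card_congr (Equiv.ofBijective (fun u : Subgroup.centralizer ({y} : Set ↥P) =>
      (⟨((u : ↥P) : G), (u : ↥P).2, ?_⟩ : E)) ⟨?_, ?_⟩)).symm
    · exact Subgroup.mem_centralizer_singleton_iff.mpr
        (congrArg Subtype.val (Subgroup.mem_centralizer_singleton_iff.mp u.2))
    · intro a b hab; exact Subtype.ext (Subtype.ext (congrArg (fun z : E => (z : G)) hab))
    · rintro ⟨u, hu, hu'⟩
      exact ⟨⟨⟨u, hu⟩, Subgroup.mem_centralizer_singleton_iff.mpr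
        (Subtype.ext (Subgroup.mem_centralizer_singleton_iff.mp hu'))⟩, rfl⟩
  have hEab : ∀ a ∈ E, ∀ b ∈ E, a * b = b * a := by
    intro a ha b hb
    exact congrArg Subtype.val (xs_commute_of_centralizer hE hcard hyc
      (a := (⟨a, ha.1⟩ : ↥P)) (b := (⟨b, hb.1⟩ : ↥P))
      (Subtype.ext (Subgroup.mem_centralizer_singleton_iff.mp ha.2))
      (Subtype.ext (Subgroup.mem_centralizer_singleton_iff.mp hb.2)))
  -- move x so that y is central in a conjugate of P through E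
  set C := Subgroup.centralizer ({(y : G)} : Set G) with hC
  obtain ⟨k, hk, hEQ⟩ : ∃ k, k * (x : G) * k⁻¹ = (y : G) ∧ E ≤ (P : Subgroup G).map (MulAut.conj k).toMonoidHom := by
    set R := (P : Subgroup G).map (MulAut.conj h).toMonoidHom with hR
    have hRC : R ≤ C := by
      rintro _ ⟨u, hu, rfl⟩
      refine Subgroup.mem_centralizer_singleton_iff.mpr ?_
      have := congrArg Subtype.val (Subgroup.mem_center_iff.mp hx ⟨u, hu⟩)
      show h * u * h⁻¹ * (h * x * h⁻¹) = h * x * h⁻¹ * (h * u * h⁻¹)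
      calc h * u * h⁻¹ * (h * (x : G) * h⁻¹) = h * (u * x) * h⁻¹ := by group
        _ = h * (x * u) * h⁻¹ := by rw [show u * (x : G) = x * u from this]
        _ = _ := by group
    let RS : Sylow p G := (h • P : Sylow p G)
    have hRS : (RS : Subgroup G) = R := by rw [Sylow.coe_subgroup_smul]; rfl
    let Q0 : Sylow p C := RS.subtype (hRS ▸ hRC)
    have hEp : IsPGroup p (E.subgroupOf C) :=
      (P.2.to_le inf_le_left).of_equiv (Subgroup.subgroupOfEquivOfLe (inf_le_right : E ≤ C)).symm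
    obtain ⟨Q1, hQ1⟩ := hEp.exists_le_sylow
    obtain ⟨c, hc⟩ := MulAction.exists_smul_eq C Q0 Q1
    refine ⟨c * h, ?_, ?_⟩
    · have := Subgroup.mem_centralizer_singleton_iff.mp c.2
      calc (c : G) * h * x * ((c : G) * h)⁻¹ = (c : G) * (h * x * h⁻¹) * (c : G)⁻¹ := by group
        _ = _ := by rw [show h * (x : G) * h⁻¹ = (y : G) from rfl, this]; group
    · intro u hu
      have hu1 : (⟨u, hu.2⟩ : C) ∈ (Q1 : Subgroup C) := hQ1 hu
      rw [← hc, Sylow.coe_subgroup_smul, Subgroup.pointwise_smul_def] at hu1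
      obtain ⟨w, hw, hwu⟩ := hu1
      have hwR : ((w : C) : G) ∈ R := hRS ▸ hw
      obtain ⟨v, hv, hvw⟩ := hwR
      refine ⟨v, hv, ?_⟩
      have h2 : (c : G) * (w : G) * (c : G)⁻¹ = u := congrArg Subtype.val hwu
      rw [← h2, ← hvw]
      simp [mul_assoc]
  have hZx : Subgroup.zpowers x = Subgroup.center ↥P :=
    Subgroup.eq_of_le_of_card_ge (Subgroup.zpowers_le.mpr hx)
      (le_of_eq (hE.2.trans (by rw [Nat.card_zpowers, orderOf_eq_prime hxp hx1])))
  -- x seen in P through k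
  obtain ⟨x', hx', hxx'⟩ := hEQ hxE
  have hxx : k * x' * k⁻¹ = (x : G) := hxx'
  have hx'c : (⟨x', hx'⟩ : ↥P) ∉ Subgroup.center ↥P := by
    intro hc
    -- then x commutes with the conjugate, so E is central there, against x ≠ y ^ i
    have hZ : Nat.card (Subgroup.center ↥P) = p := hE.2
    have : (⟨x', hx'⟩ : ↥P) ∈ Subgroup.zpowers x := by
      rw [hZx]; exact hc
    obtain ⟨i, hi⟩ := Subgroup.mem_zpowers_iff.mp this
    have h2 : (x : G) = (y : G) ^ i := by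
      rw [← hxx, ← show ((x : ↥P) : G) ^ i = x' from by simpa using congrArg Subtype.val hi, ← hk, conj_zpow]
    apply hyc
    have h3 : x = y ^ i := Subtype.ext (by simpa using h2)
    have hord : orderOf y = p := orderOf_eq_prime hyp (by
      intro hy1; exact hyc (hy1 ▸ one_mem _))
    have hnd : ¬ (p : ℤ) ∣ i := by
      rintro ⟨j, rfl⟩
      apply hx1; rw [h3, zpow_mul, zpow_natCast, hyp, one_zpow]
    obtain ⟨s, t, hst⟩ := (Int.isCoprime_iff_gcd_eq_one.mp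
      ((Nat.prime_iff_prime_int.mp (Fact.out : p.Prime)).coprime_iff_not_dvd.mpr hnd) |> Int.isCoprime_iff_gcd_eq_one.mpr)
    have : y = x ^ t := by
      rw [h3, ← zpow_mul, show i * t = 1 - s * p by linarith, zpow_sub, zpow_one, mul_comm s, zpow_mul,
        zpow_natCast, hyp, one_zpow, inv_one, mul_one]
    rw [this]; exact Subgroup.zpow_mem _ hx t
  obtain ⟨u, hu⟩ := xs_exists_conj_eq hE hyc hx
  have hu' : (u : G) * y * (u : G)⁻¹ = y * x := by simpa using congrArg Subtype.val hu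
  have hux : (u : G) * x * (u : G)⁻¹ = x := by
    have := congrArg Subtype.val (Subgroup.mem_center_iff.mp hx u)
    have h' : (u : G) * x = x * u := this
    rw [h']; group
  obtain ⟨v₀, hv₀⟩ := xs_exists_conj_eq hE hx'c (inv_mem hx)
  set v : G := k * (v₀ : G) * k⁻¹ with hv
  have hv' : (v₀ : G) * x' * (v₀ : G)⁻¹ = x' * (x : G)⁻¹ := by simpa using congrArg Subtype.val hv₀
  have hvx : v * x * v⁻¹ = x * (y : G)⁻¹ := by
    calc v * x * v⁻¹ = v * (k * x' * k⁻¹) * v⁻¹ := by rw [hxx]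
      _ = k * ((v₀ : G) * x' * (v₀ : G)⁻¹) * k⁻¹ := by rw [hv]; group
      _ = (k * x' * k⁻¹) * (k * x * k⁻¹)⁻¹ := by rw [hv']; group
      _ = _ := by rw [hxx, hk]
  have hvy : v * y * v⁻¹ = (y : G) := by
    have := congrArg Subtype.val (Subgroup.mem_center_iff.mp hx v₀)
    have h' : (v₀ : G) * x = x * v₀ := this
    calc v * y * v⁻¹ = v * (k * x * k⁻¹) * v⁻¹ := by rw [hk]
      _ = k * ((v₀ : G) * x) * (v₀ : G)⁻¹ * k⁻¹ := by rw [hv]; group
      _ = k * x * k⁻¹ := by rw [h']; group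
      _ = y := hk
  have hxy : (x : G) * y = y * x := hEab _ hxE _ hyE
  have hc : ∀ a b c : G, a * (b * c) * a⁻¹ = (a * b * a⁻¹) * (a * c * a⁻¹) := fun a b c => by group
  have hci : ∀ a b : G, a * b⁻¹ * a⁻¹ = (a * b * a⁻¹)⁻¹ := fun a b => by group
  set w : G := (u : G) * v * u with hw
  have hwx : w * x * w⁻¹ = (y : G)⁻¹ := by
    calc w * x * w⁻¹ = (u : G) * (v * ((u : G) * x * (u : G)⁻¹) * v⁻¹) * (u : G)⁻¹ := by rw [hw]; group
      _ = (u : G) * (x * (y : G)⁻¹) * (u : G)⁻¹ := by rw [hux, hvx]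
      _ = x * ((y : G) * x)⁻¹ := by rw [hc, hci, hu', hux]
      _ = _ := by group
  have hwy : w * y * w⁻¹ = (x : G) := by
    calc w * y * w⁻¹ = (u : G) * (v * ((u : G) * y * (u : G)⁻¹) * v⁻¹) * (u : G)⁻¹ := by rw [hw]; group
      _ = (u : G) * (y * (x * (y : G)⁻¹)) * (u : G)⁻¹ := by rw [hu', hc v, hvy, hvx]
      _ = (u : G) * x * (u : G)⁻¹ := by rw [← mul_assoc (y : G), ← hxy]; group
      _ = x := hux
  set t₀ : G := w * w with ht₀
  have htx : t₀ * x * t₀⁻¹ = (x : G)⁻¹ := by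
    calc t₀ * x * t₀⁻¹ = w * (w * x * w⁻¹) * w⁻¹ := by rw [ht₀]; group
      _ = _ := by rw [hwx, hci, hwy]
  have hty : t₀ * y * t₀⁻¹ = (y : G)⁻¹ := by
    calc t₀ * y * t₀⁻¹ = w * (w * y * w⁻¹) * w⁻¹ := by rw [ht₀]; group
      _ = _ := by rw [hwy, hwx]
  -- elements fixing x and sending y into y⟨x⟩
  let K : Subgroup G :=
    { carrier := {g | g * x * g⁻¹ = x ∧ ∃ i : ℤ, g * y * g⁻¹ = y * (x : G) ^ i}
      one_mem' := ⟨by simp, 0, by simp⟩
      mul_mem' := by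
        rintro a b ⟨ha, i, hi⟩ ⟨hb, j, hj⟩
        refine ⟨?_, i + j, ?_⟩
        · calc a * b * x * (a * b)⁻¹ = a * (b * x * b⁻¹) * a⁻¹ := by group
            _ = x := by rw [hb, ha]
        · calc a * b * y * (a * b)⁻¹ = a * (b * y * b⁻¹) * a⁻¹ := by group
            _ = (a * y * a⁻¹) * (a * x * a⁻¹) ^ j := by rw [hj, hc, conj_zpow]
            _ = _ := by rw [hi, ha, zpow_add, mul_assoc]
      inv_mem' := by
        rintro a ⟨ha, i, hi⟩
        have hax : a⁻¹ * x * a⁻¹⁻¹ = x := by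
          calc a⁻¹ * x * a⁻¹⁻¹ = a⁻¹ * (a * x * a⁻¹) * a := by rw [ha]; group
            _ = _ := by group
        refine ⟨hax, -i, ?_⟩
        calc a⁻¹ * y * a⁻¹⁻¹ = a⁻¹ * ((a * y * a⁻¹) * ((x : G) ^ i)⁻¹) * a⁻¹⁻¹ := by rw [hi]; group
          _ = y * ((a⁻¹ * x * a⁻¹⁻¹) ^ i)⁻¹ := by rw [conj_zpow]; group
          _ = _ := by rw [hax, zpow_neg] }
  have hPK : (P : Subgroup G) ≤ K := by
    intro r hr
    refine ⟨?_, ?_⟩
    · have h' : r * (x : G) = x * r := congrArg Subtype.val (Subgroup.mem_center_iff.mp hx ⟨r, hr⟩)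
      rw [h']; group
    · have hcm : y⁻¹ * (⟨r, hr⟩ * y * (⟨r, hr⟩ : ↥P)⁻¹) ∈ Subgroup.zpowers x := by
        rw [hZx]
        have := xs_comm_mem_center hE y⁻¹ (⟨r, hr⟩ : ↥P)
        simpa [mul_assoc] using this
      obtain ⟨i, hi⟩ := Subgroup.mem_zpowers_iff.mp hcm
      refine ⟨i, ?_⟩
      have := congrArg Subtype.val hi
      simp only [SubgroupClass.coe_zpow, InvMemClass.coe_inv] at this
      rw [this]
      simp [mul_assoc]
  have hPtK : ((t₀ • P : Sylow p G) : Subgroup G) ≤ K := by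
    rw [Sylow.coe_subgroup_smul, Subgroup.pointwise_smul_def]
    rintro _ ⟨r, hr, rfl⟩
    obtain ⟨hrx, i, hri⟩ := hPK hr
    show t₀ * r * t₀⁻¹ * x * (t₀ * r * t₀⁻¹)⁻¹ = x ∧ _
    have hix : t₀⁻¹ * x * t₀ = (x : G)⁻¹ := by
      calc t₀⁻¹ * x * t₀ = t₀⁻¹ * (t₀ * x * t₀⁻¹)⁻¹ * t₀ := by rw [htx, inv_inv]
        _ = _ := by group
    have hiy : t₀⁻¹ * y * t₀ = (y : G)⁻¹ := by
      calc t₀⁻¹ * y * t₀ = t₀⁻¹ * (t₀ * y * t₀⁻¹)⁻¹ * t₀ := by rw [hty, inv_inv]
        _ = _ := by group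
    refine ⟨?_, i, ?_⟩
    · calc t₀ * r * t₀⁻¹ * x * (t₀ * r * t₀⁻¹)⁻¹ = t₀ * (r * (t₀⁻¹ * x * t₀) * r⁻¹) * t₀⁻¹ := by group
        _ = x := by rw [hix, hci r, hrx, hci, htx, inv_inv]
    · show t₀ * r * t₀⁻¹ * y * (t₀ * r * t₀⁻¹)⁻¹ = _
      calc t₀ * r * t₀⁻¹ * y * (t₀ * r * t₀⁻¹)⁻¹ = t₀ * (r * (t₀⁻¹ * y * t₀) * r⁻¹) * t₀⁻¹ := by group
        _ = (t₀ * ((y : G) * (x : G) ^ i) * t₀⁻¹)⁻¹ := by rw [hiy, hci r, hri, hci]
        _ = ((y : G)⁻¹ * ((x : G)⁻¹) ^ i)⁻¹ := by rw [hc, hty, ← conj_zpow, htx]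
        _ = (x : G) ^ i * y := by rw [inv_zpow, mul_inv_rev, inv_inv, inv_inv]
        _ = _ := (Commute.zpow_left hxy i).eq
  obtain ⟨k₁, hk₁⟩ := MulAction.exists_smul_eq K ((t₀ • P).subtype hPtK) (P.subtype hPK)
  set t : G := (k₁ : G) * t₀ with ht
  have htP : t ∈ Subgroup.normalizer ((P : Subgroup G) : Set G) := by
    rw [Sylow.smul_subtype] at hk₁
    have := Sylow.subtype_injective hk₁
    refine Sylow.smul_eq_iff_mem_normalizer.mp ?_
    rw [ht, mul_smul]; exact this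
  obtain ⟨hk₁x, b, hk₁y⟩ := k₁.2
  have htx' : t * x * t⁻¹ = (x : G)⁻¹ := by
    calc t * x * t⁻¹ = (k₁ : G) * (t₀ * x * t₀⁻¹) * (k₁ : G)⁻¹ := by rw [ht]; group
      _ = _ := by rw [htx, hci, hk₁x]
  have hty' : t * y * t⁻¹ = ((y : G) * (x : G) ^ b)⁻¹ := by
    calc t * y * t⁻¹ = (k₁ : G) * (t₀ * y * t₀⁻¹) * (k₁ : G)⁻¹ := by rw [ht]; group
      _ = _ := by rw [hty, hci, hk₁y]
  set r : G := t * u * t⁻¹ with hr
  have hrP : r ∈ (P : Subgroup G) := (Subgroup.mem_normalizer_iff.mp htP u).mp u.2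
  have hry : r * y * r⁻¹ = (y : G) * x := by
    have h1 : t⁻¹ * y * t = ((y : G) * (x : G) ^ (-b))⁻¹ := by
      have h2 : t * ((y : G) * (x : G) ^ (-b))⁻¹ * t⁻¹ = y := by
        rw [hci, hc, hty', ← conj_zpow, htx', inv_zpow', neg_neg]
        rw [mul_inv_rev, inv_inv, ← mul_assoc]
        rw [← zpow_neg, (Commute.zpow_left hxy (-b)).eq]; group
      conv_lhs => rw [← h2]
      group
    calc r * y * r⁻¹ = t * ((u : G) * (t⁻¹ * y * t) * (u : G)⁻¹) * t⁻¹ := by rw [hr]; group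
      _ = (((y : G) * (x : G) ^ b)⁻¹ * (x : G)⁻¹ * ((x : G)⁻¹) ^ (-b))⁻¹ := by
          rw [h1, hci (u : G), hc, hu', ← conj_zpow, hux, hci, hc, hc, hty', htx', ← conj_zpow, htx']
      _ = _ := by
          rw [inv_zpow, ← zpow_neg, neg_neg, mul_inv_rev, mul_inv_rev, inv_inv, inv_inv,
            (Commute.zpow_left hxy b).symm.eq]
          group
          exact hxy
  have hz : (⟨r, hrP⟩ : ↥P)⁻¹ * u ∈ Subgroup.centralizer ({y} : Set ↥P) := by
    rw [Subgroup.mem_centralizer_singleton_iff]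
    apply Subtype.ext
    show r⁻¹ * (u : G) * y = y * (r⁻¹ * u)
    calc r⁻¹ * (u : G) * y = r⁻¹ * ((u : G) * y * (u : G)⁻¹) * u := by group
      _ = r⁻¹ * (r * y * r⁻¹) * u := by rw [hu', hry]
      _ = _ := by group
  have hup : u ^ p ≠ 1 := by
    intro hup
    have h1 := congrArg Subtype.val (xs_omega hE hcard hp hexp hyc hyp hup)
    have h2 : (u : G) * y = y * u := h1
    rw [h2] at hu'
    apply hx1; apply Subtype.ext
    have : (y : G) * 1 = y * x := by rw [← hu']; group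
    exact (mul_left_cancel this).symm
  -- p-th powers: E has exponent p, so r and u have equal p-th powers
  have hzp : ((⟨r, hrP⟩ : ↥P)⁻¹ * u) ^ p = 1 := by
    -- the centralizer is generated by the centre and y
    let f : ↥P →* ↥P := MonoidHom.mk' (fun a => a ^ p) (xs_mul_pow hE hp)
    have hle : Subgroup.center ↥P ⊔ Subgroup.zpowers y ≤ f.ker ⊓ Subgroup.centralizer ({y} : Set ↥P) :=
      sup_le (le_inf (fun c hc => MonoidHom.mem_ker.mpr (xs_center_pow hE hc)) (Subgroup.center_le_centralizer _))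
        (Subgroup.zpowers_le.mpr ⟨MonoidHom.mem_ker.mpr hyp, Subgroup.mem_centralizer_singleton_iff.mpr rfl⟩)
    have heq := Subgroup.eq_of_le_of_card_ge (hle.trans inf_le_right) (by
      rw [xs_card_centralizer hE hcard hyc]
      obtain ⟨m, hm⟩ := PGroup.exists_card_eq_pow hE.1.1 (Subgroup.center ↥P ⊔ Subgroup.zpowers y)
      rw [hm]
      refine Nat.pow_le_pow_right (Fact.out : p.Prime).pos ?_
      have hlt : p ^ 1 < p ^ m := by
        rw [pow_one, ← hm]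
        refine hE.2.ge.trans_lt ?_
        have hl : Subgroup.center ↥P < Subgroup.center ↥P ⊔ Subgroup.zpowers y :=
          lt_of_le_of_ne le_sup_left fun he => hyc (he ▸ Subgroup.mem_sup_right (Subgroup.mem_zpowers y))
        exact lt_of_le_of_ne (Subgroup.card_le_of_le hl.le) fun he => hl.ne (Subgroup.eq_of_le_of_card_ge hl.le he.ge)
      exact (Nat.pow_lt_pow_iff_right (Fact.out : p.Prime).one_lt).mp hlt)
    exact MonoidHom.mem_ker.mp ((le_inf_iff.mp hle).1 (heq ▸ hz))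
  apply hup
  have hru : (⟨r, hrP⟩ : ↥P) ^ p = u ^ p := by
    rw [xs_mul_pow hE hp, inv_pow, inv_mul_eq_one] at hzp; exact hzp
  have hupc : u ^ p ∈ Subgroup.center ↥P := xs_pow_mem_center hE u
  obtain ⟨i, hi⟩ := Subgroup.mem_zpowers_iff.mp (show u ^ p ∈ Subgroup.zpowers x by
    rw [hZx]; exact hupc)
  have h2 : r ^ p = (((u : G) ^ p))⁻¹ := by
    have hup' : (u : G) ^ p = (x : G) ^ i := by simpa using congrArg Subtype.val hi.symm
    rw [hr, conj_pow, hup', ← conj_zpow, htx', inv_zpow]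
  have h3 : (u : G) ^ p = ((u : G) ^ p)⁻¹ := by
    rw [← h2]; simpa using (congrArg Subtype.val hru).symm
  have h4 : (u ^ p) * (u ^ p) = 1 := by
    apply Subtype.ext
    show (u : G) ^ p * (u : G) ^ p = 1
    nth_rewrite 2 [h3]; group
  refine PGroup.eq_one_of_pow_coprime hE.1.1 (m := 2)
    ((Nat.coprime_primes Fact.out Nat.prime_two).mpr hp) (by rw [pow_two]; exact h4)

end Cfsg.Agent.S3053
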