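import Cfsg.Statements.S3054
import Cfsg.Agent.LocalEvenD.PlaneAction
import Mathlib.LinearAlgebra.Basis.VectorSpace

set_option autoImplicit false
set_option linter.style.haveILetI false

namespace Cfsg.Agent.S3054

open Cfsg.Agent.LocalEvenD

/-- A transvection of an abelian group of order `p ^ 2` and exponent `p`. -/
theorem exists_transvection_aut {A : Type*} [CommGroup A] [Finite A] {p : ℕ} [hp : Fact p.Prime]
    (hcard : Nat.card A = p ^ 2) (hexp : ∀ x : A, x ^ p = 1) {a z : A} (ha : a ≠ 1)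
    (hz : z ∉ Subgroup.zpowers a) :
    ∃ φ : MulAut A, orderOf φ = p ∧ φ a = a ∧ φ z = z * a := by
  have hsm : ∀ v : Additive A, p • v = 0 := fun v => hexp v.toMul
  haveI : Module (ZMod p) (Additive A) := AddCommGroup.zmodModule hsm
  have hfr : Module.finrank (ZMod p) (Additive A) = 2 := by
    have h1 := Module.natCard_eq_pow_finrank (K := ZMod p) (V := Additive A)
    rw [Nat.card_zmod, show Nat.card (Additive A) = p ^ 2 from hcard] at h1
    exact ((Nat.pow_right_injective hp.out.two_le) h1).symm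
  have hli : LinearIndependent (ZMod p) ![Additive.ofMul a, Additive.ofMul z] := by
    rw [LinearIndependent.pair_iff' fun h => ha (Additive.ofMul.injective h)]
    intro r hr
    refine hz ⟨(r.val : ℤ), ?_⟩
    apply Additive.ofMul.injective
    show Additive.ofMul (a ^ (r.val : ℤ)) = Additive.ofMul z
    rw [zpow_natCast, ofMul_pow, ← Nat.cast_smul_eq_nsmul (ZMod p), ZMod.natCast_zmod_val, hr]
  let B := basisOfLinearIndependentOfCardEqFinrank hli (by simp [hfr])
  let L : Additive A →ₗ[ZMod p] Additive A :=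
    B.constr (ZMod p) ![Additive.ofMul a, Additive.ofMul z + Additive.ofMul a]
  have hB0 : B 0 = Additive.ofMul a := by simp [B]
  have hB1 : B 1 = Additive.ofMul z := by simp [B]
  have hLa : L (Additive.ofMul a) = Additive.ofMul a := by
    rw [← hB0]; simp [L, Module.Basis.constr_basis]; simp [B]
  have hLz : L (Additive.ofMul z) = Additive.ofMul z + Additive.ofMul a := by
    rw [← hB1]; simp [L, Module.Basis.constr_basis]; simp [B]
  have hiter : ∀ n : ℕ, (L ^ n) (Additive.ofMul a) = Additive.ofMul a ∧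
      (L ^ n) (Additive.ofMul z) = Additive.ofMul z + n • Additive.ofMul a := by
    intro n
    induction n with
    | zero => simp
    | succ n ih =>
      refine ⟨by rw [pow_succ', Module.End.mul_apply, ih.1, hLa], ?_⟩
      rw [pow_succ', Module.End.mul_apply, ih.2, map_add, map_nsmul, hLa, hLz, succ_nsmul',
        ← add_assoc]
  have hLp : L ^ p = 1 := by
    refine B.ext fun i => ?_
    fin_cases i
    · show (L ^ p) (B 0) = B 0
      rw [hB0]; exact (hiter p).1
    · show (L ^ p) (B 1) = B 1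
      rw [hB1, (hiter p).2, hsm, add_zero]
  have hL1 : ∀ v, (L ^ (p - 1)) (L v) = v := by
    intro v
    rw [← Module.End.mul_apply, ← pow_succ, Nat.sub_add_cancel hp.out.one_le, hLp,
      Module.End.one_apply]
  have hL2 : ∀ v, L ((L ^ (p - 1)) v) = v := by
    intro v
    rw [← Module.End.mul_apply, ← pow_succ', Nat.sub_add_cancel hp.out.one_le, hLp,
      Module.End.one_apply]
  let φ : MulAut A :=
    { toFun := fun x => (L (Additive.ofMul x)).toMul
      invFun := fun x => ((L ^ (p - 1)) (Additive.ofMul x)).toMul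
      left_inv := fun x => by simp [hL1]
      right_inv := fun x => by simp [hL2]
      map_mul' := fun x y => by simp [ofMul_mul, map_add, toMul_add] }
  have hφ : ∀ (n : ℕ) (x : A), (φ ^ n) x = ((L ^ n) (Additive.ofMul x)).toMul := by
    intro n
    induction n with
    | zero => intro x; rfl
    | succ n ih =>
      intro x
      rw [pow_succ', MulAut.mul_apply, ih, pow_succ', Module.End.mul_apply]
      rfl
  refine ⟨φ, orderOf_eq_prime ?_ ?_, ?_, ?_⟩
  · ext x
    rw [hφ, hLp]
    rfl
  · intro h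
    have h1 : φ z = z := by rw [h]; rfl
    rw [show φ z = (L (Additive.ofMul z)).toMul from rfl, hLz] at h1
    exact ha (by simpa using h1)
  · show (L (Additive.ofMul a)).toMul = a
    rw [hLa]; rfl
  · show (L (Additive.ofMul z)).toMul = z * a
    rw [hLz]; rfl

theorem result.{u} {G : Type u} [Group G] [Finite G]
    {p : ℕ} [Fact p.Prime] (hp : p ≠ 2) (P : Sylow p G) (hE : Cfsg.IsExtraspecial p ↥P)
    (hcard : Nat.card P = p ^ 3) (hexp : Monoid.exponent ↥P = p)
    (A : Fin 3 → Subgroup G) (hA : Function.Injective A) (hAP : ∀ i, A i ≤ (P : Subgroup G))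
    (hAcard : ∀ i, Nat.card ↥(A i) = p ^ 2)
    (hSL : ∀ i, ∀ φ : MulAut ↥(A i), orderOf φ = p → ∃ g : G, ∀ a : ↥(A i), (φ a : G) = g * (a : G) * g⁻¹) :
    p ≤ 13 := by
  have hpr : p.Prime := Fact.out
  by_contra h13
  have hp17 : 17 ≤ p := by
    by_contra h
    have h2 : p = 14 ∨ p = 15 ∨ p = 16 := by omega
    rcases h2 with rfl | rfl | rfl <;> exact absurd hpr (by norm_num)
  have hexp' : ∀ x ∈ (P : Subgroup G), x ^ p = 1 := by
    intro x hx
    have h1 := Monoid.pow_exponent_eq_one (⟨x, hx⟩ : ↥P)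
    rw [hexp] at h1
    exact congrArg Subtype.val h1
  replace hE : Cfsg.IsExtraspecial p ↥(P : Subgroup G) := hE
  replace hcard : Nat.card ↥(P : Subgroup G) = p ^ 3 := hcard
  have hzne : Subgroup.center ↥(P : Subgroup G) ≠ ⊥ := by
    intro h
    have h1 := hE.2
    rw [h, Subgroup.card_bot] at h1
    exact hpr.one_lt.ne h1
  obtain ⟨⟨z, hz⟩, hz1⟩ := Subgroup.ne_bot_iff_exists_ne_one.1 hzne
  have hz1' : z ≠ 1 := fun h => hz1 (Subtype.ext h)
  have hzcyc : Subgroup.zpowers z = Subgroup.center ↥(P : Subgroup G) :=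
    Subgroup.eq_of_le_of_card_ge (Subgroup.zpowers_le.2 hz) (by
      rw [hE.2, Nat.card_zpowers, orderOf_eq_prime (Subtype.ext (hexp' _ z.2)) hz1'])
  have hcomm : ∀ i, IsMulCommutative ↥(A i) := fun i =>
    IsPGroup.isMulCommutative_of_card_eq_prime_sq (hAcard i)
  set A' : Fin 3 → Subgroup ↥(P : Subgroup G) := fun i => (A i).subgroupOf (P : Subgroup G)
  have hA'card : ∀ i, Nat.card (A' i) = p ^ 2 := fun i => by
    rw [← hAcard i]
    exact Nat.card_congr (Subgroup.subgroupOfEquivOfLe (hAP i)).toEquiv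
  have hzA : ∀ i, z ∈ A' i := by
    intro i
    by_contra hzn
    set B := A' i ⊔ Subgroup.zpowers z with hB
    have hcardB : p ^ 2 < Nat.card B := by
      rw [← hA'card i]
      refine lt_of_le_of_ne (Subgroup.card_le_of_le le_sup_left) fun h => hzn ?_
      rw [Subgroup.eq_of_le_of_card_ge (le_sup_left : A' i ≤ B) h.ge]
      exact Subgroup.mem_sup_right (Subgroup.mem_zpowers z)
    have hd : Nat.card B ∣ p ^ 3 := by
      rw [← show Nat.card ↥(P : Subgroup G) = p ^ 3 from hcard]
      exact B.card_subgroup_dvd_card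
    obtain ⟨k, hk3, hk⟩ := (Nat.dvd_prime_pow hpr).1 hd
    rw [hk] at hcardB
    have hk2 : 2 < k := (Nat.pow_lt_pow_iff_right hpr.one_lt).1 hcardB
    have hBtop : B = ⊤ := Subgroup.eq_top_of_card_eq _ (by
      rw [hk, show k = 3 by omega]; exact hcard.symm)
    have hcentr : A' i ≤ Subgroup.center ↥(P : Subgroup G) := by
      intro a ha
      rw [Subgroup.mem_center_iff]
      intro x
      have hle : B ≤ Subgroup.centralizer ({a} : Set ↥(P : Subgroup G)) := by
        refine sup_le (fun w hw => Subgroup.mem_centralizer_singleton_iff.2 ?_)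
          (Subgroup.zpowers_le.2 (Subgroup.mem_centralizer_singleton_iff.2
            (Subgroup.mem_center_iff.1 hz a).symm))
        exact Subtype.ext (by simpa using congrArg (fun q : ↥(A i) => (q : G)) ((hcomm i).is_comm.comm (⟨(w : G), hw⟩ : A i) ⟨(a : G), ha⟩))
      exact Subgroup.mem_centralizer_singleton_iff.1 (hle (hBtop.symm ▸ Subgroup.mem_top x))
    have h1 := Subgroup.card_le_of_le hcentr
    rw [hE.2, hA'card] at h1
    nlinarith [hpr.two_le]
  have hex : ∀ i, ∃ a, a ∈ A' i ∧ a ∉ Subgroup.center ↥(P : Subgroup G) := by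
    intro i
    by_contra h
    push Not at h
    have h1 := Subgroup.card_le_of_le (h : A' i ≤ _)
    rw [hE.2, hA'card] at h1
    nlinarith [hpr.two_le]
  choose a haA hanc using hex
  have hAeq : ∀ i (w : ↥(P : Subgroup G)), w ∈ A' i → w ∉ Subgroup.center ↥(P : Subgroup G) →
      A' i = Subgroup.zpowers z ⊔ Subgroup.zpowers w := by
    intro i w hw hwn
    have hle : Subgroup.zpowers z ⊔ Subgroup.zpowers w ≤ A' i :=
      sup_le (Subgroup.zpowers_le.2 (hzA i)) (Subgroup.zpowers_le.2 hw)
    refine (Subgroup.eq_of_le_of_card_ge hle ?_).symm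
    rw [hA'card]
    have hd : Nat.card ↥(Subgroup.zpowers z ⊔ Subgroup.zpowers w) ∣ p ^ 2 :=
      hA'card i ▸ Subgroup.card_dvd_of_le hle
    obtain ⟨k, hk3, hk⟩ := (Nat.dvd_prime_pow hpr).1 hd
    have hlt : p < Nat.card ↥(Subgroup.zpowers z ⊔ Subgroup.zpowers w) := by
      have hzc : Nat.card (Subgroup.zpowers z) = p := by rw [hzcyc, hE.2]
      refine lt_of_eq_of_lt hzc.symm
        (lt_of_le_of_ne (Subgroup.card_le_of_le le_sup_left) fun h => hwn ?_)
      rw [← hzcyc, Subgroup.eq_of_le_of_card_ge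
        (le_sup_left : Subgroup.zpowers z ≤ Subgroup.zpowers z ⊔ Subgroup.zpowers w) h.ge]
      exact Subgroup.mem_sup_right (Subgroup.mem_zpowers w)
    rw [hk] at hlt ⊢
    nth_rw 1 [← pow_one p] at hlt
    have := (Nat.pow_lt_pow_iff_right hpr.one_lt).1 hlt
    rw [show k = 2 by omega]
  have hind : ∀ i j, i ≠ j → ∀ n : ℕ,
      a j * (a i ^ n)⁻¹ ∉ Subgroup.center ↥(P : Subgroup G) := by
    intro i j hij n hmem
    have hj : a j ∈ A' i := by
      have e : a j = a j * (a i ^ n)⁻¹ * a i ^ n := by group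
      rw [e]
      refine mul_mem ?_ (pow_mem (haA i) n)
      exact Subgroup.zpowers_le.2 (hzA i) (hzcyc.symm ▸ hmem)
    refine hij (hA ?_)
    have h1 : A' i = A' j := (hAeq i _ hj (hanc j)).trans (hAeq j _ (haA j) (hanc j)).symm
    rw [← Subgroup.map_subgroupOf_eq_of_le (hAP i), ← Subgroup.map_subgroupOf_eq_of_le (hAP j)]
    exact congrArg _ h1
  have hl : ∀ i, ∃ gl : G, gl * (a i : G) * gl⁻¹ = a i ∧ gl * (z : G) * gl⁻¹ = z * a i := by
    intro i
    letI : CommGroup ↥(A i) := { (inferInstance : Group ↥(A i)) with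
      mul_comm := (hcomm i).is_comm.comm }
    obtain ⟨φ, hφ, hφa, hφz⟩ := exists_transvection_aut (A := ↥(A i)) (hAcard i)
      (fun x => Subtype.ext (hexp' _ (hAP i x.2)))
      (a := ⟨(a i : G), haA i⟩) (z := ⟨(z : G), hzA i⟩)
      (fun h => hanc i (by
        rw [show a i = 1 from Subtype.ext (congrArg (fun q : ↥(A i) => (q : G)) h)]
        exact one_mem _))
      (fun ⟨k, hk⟩ => by
        have hmem : z ∈ Subgroup.zpowers (a i) :=
          ⟨k, Subtype.ext (by simpa using congrArg (fun q : ↥(A i) => (q : G)) hk)⟩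
        have hai1 : a i ≠ 1 := fun h => hanc i (h ▸ one_mem _)
        have he := Subgroup.eq_of_le_of_card_ge (Subgroup.zpowers_le.2 hmem) (by
          rw [Nat.card_zpowers, Nat.card_zpowers,
            orderOf_eq_prime (Subtype.ext (hexp' _ (a i).2)) hai1,
            orderOf_eq_prime (Subtype.ext (hexp' _ z.2)) hz1'])
        exact hanc i (hzcyc ▸ (he ▸ Subgroup.mem_zpowers (a i) : a i ∈ Subgroup.zpowers z)))
    obtain ⟨g, hg⟩ := hSL i φ hφ
    refine ⟨g, ?_, ?_⟩
    · have := hg ⟨(a i : G), haA i⟩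
      rw [hφa] at this
      exact this.symm
    · have := hg ⟨(z : G), hzA i⟩
      rw [hφz] at this
      exact this.symm
  have := (planes_bound P hE hcard hexp' hz a hanc hind hl (by omega)).2 (Or.inl hp17)
  simp at this

end Cfsg.Agent.S3054
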