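import Cfsg.Statements.S3055
import Cfsg.Agent.LocalEvenD.PlaneAction

set_option autoImplicit false

namespace Cfsg.Agent.S3055

open Cfsg.Agent.LAE65 Cfsg.Agent.LocalEvenD

theorem exists_transvection {G : Type*} [Group G] [Finite G] {p : ℕ} [hp : Fact p.Prime]
    (P : Sylow p G) (hE : Cfsg.IsExtraspecial p (P : Subgroup G))
    (hexp : ∀ x ∈ (P : Subgroup G), x ^ p = 1)
    {x z : ↥(P : Subgroup G)} (hx : x ∉ Subgroup.center ↥(P : Subgroup G))
    (hz : z ∈ Subgroup.center ↥(P : Subgroup G))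
    (hz1 : z ≠ 1) {g : G} (hg : g * (x : G) * g⁻¹ = z) :
    ∃ gl : G, gl * (x : G) * gl⁻¹ = x ∧ gl * (z : G) * gl⁻¹ = z * x := by
  set C := Subgroup.centralizer ({(z : G)} : Set G) with hC
  have hPC : (P : Subgroup G) ≤ C := fun w hw => mem_centralizer_singleton.2
    (congrArg Subtype.val (Subgroup.mem_center_iff.1 hz ⟨w, hw⟩))
  have hzx : Commute (z : G) (x : G) :=
    (congrArg Subtype.val (Subgroup.mem_center_iff.1 hz x)).symm
  have hwC : g * (z : G) * g⁻¹ ∈ C := by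
    refine mem_centralizer_singleton.2 ?_
    have e : Commute (g * (z : G) * g⁻¹) (g * (x : G) * g⁻¹) := hzx.map (MulAut.conj g)
    rwa [hg] at e
  have hwp : IsPGroup p (Subgroup.zpowers (g * (z : G) * g⁻¹)) := by
    refine isPGroup_zpowers ⟨1, ?_⟩
    rw [pow_one, ← MulAut.conj_apply, MulEquiv.orderOf_eq]
    exact orderOf_eq_prime (hexp _ z.2) fun h => hz1 (Subtype.ext h)
  obtain ⟨h, hh, hle⟩ := exists_conj_le_in (Subgroup.zpowers_le.2 hwC) hwp hPC P.2
    (not_dvd_relIndex_of_le P hPC)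
  set y := h * g with hy
  have hyx : y * (x : G) * y⁻¹ = z := by
    calc y * (x : G) * y⁻¹ = h * (g * x * g⁻¹) * h⁻¹ := by rw [hy]; group
      _ = _ := by rw [hg]; exact mem_centralizer_singleton_conj.1 hh
  have hx'P : y * (z : G) * y⁻¹ ∈ (P : Subgroup G) := by
    have := hle (conj_mem_map (g := h) (Subgroup.mem_zpowers (g * (z : G) * g⁻¹)))
    simpa [hy, mul_assoc] using this
  set x' : ↥(P : Subgroup G) := ⟨_, hx'P⟩ with hx'
  have hx'nc : x' ∉ Subgroup.center ↥(P : Subgroup G) := by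
    intro hc
    have heq : Subgroup.zpowers z = Subgroup.center ↥(P : Subgroup G) :=
      Subgroup.eq_of_le_of_card_ge (Subgroup.zpowers_le.2 hz) (by
        rw [hE.2, Nat.card_zpowers, orderOf_eq_prime (Subtype.ext (hexp _ z.2)) hz1])
    obtain ⟨k, hk⟩ := Subgroup.mem_zpowers_iff.1 (heq.symm ▸ hc : x' ∈ Subgroup.zpowers z)
    have hk' : (z : G) ^ k = y * (z : G) * y⁻¹ := by
      rw [← SubgroupClass.coe_zpow, hk]
    have hzpow : (z : G) = (x : G) ^ k := by
      have e : y * ((x : G) ^ k) * y⁻¹ = y * (z : G) * y⁻¹ := by rw [← conj_zpow, hyx, hk']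
      exact (mul_left_cancel (mul_right_cancel e)).symm
    have hzmem : z ∈ Subgroup.zpowers x := ⟨k, Subtype.ext (by simp [hzpow])⟩
    have hx1 : x ≠ 1 := fun h => hx (h ▸ one_mem _)
    have he := Subgroup.eq_of_le_of_card_ge (Subgroup.zpowers_le.2 hzmem)
      (by rw [Nat.card_zpowers, Nat.card_zpowers, orderOf_eq_prime (Subtype.ext (hexp _ x.2)) hx1,
        orderOf_eq_prime (Subtype.ext (hexp _ z.2)) hz1])
    exact hx (heq ▸ (he ▸ Subgroup.mem_zpowers x : x ∈ Subgroup.zpowers z))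
  obtain ⟨s, hs⟩ := xs_exists_conj_eq hE hx'nc hz
  have hs' : (s : G) * (y * (z : G) * y⁻¹) * (s : G)⁻¹ = y * (z : G) * y⁻¹ * z :=
    congrArg Subtype.val hs
  have hsz : (s : G) * (z : G) * (s : G)⁻¹ = z :=
    mul_inv_eq_iff_eq_mul.2 (congrArg Subtype.val (Subgroup.mem_center_iff.1 hz s))
  refine ⟨y⁻¹ * s * y, ?_, ?_⟩
  · calc y⁻¹ * s * y * (x : G) * (y⁻¹ * s * y)⁻¹ = y⁻¹ * (s * (y * x * y⁻¹) * (s : G)⁻¹) * y := by
          group
      _ = y⁻¹ * (y * x * y⁻¹) * y := by rw [hyx, hsz]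
      _ = _ := by group
  · calc y⁻¹ * s * y * (z : G) * (y⁻¹ * s * y)⁻¹ = y⁻¹ * (s * (y * z * y⁻¹) * (s : G)⁻¹) * y := by
          group
      _ = y⁻¹ * (y * z * y⁻¹ * (y * x * y⁻¹)) * y := by rw [hs', hyx]
      _ = _ := by group

theorem result.{u} {G : Type u} [Group G] [Finite G]
    {p : ℕ} [Fact p.Prime] (hp : p ≠ 2) (P : Sylow p G) (hE : Cfsg.IsExtraspecial p ↥P)
    (hcard : Nat.card P = p ^ 3) (hexp : Monoid.exponent ↥P = p)
    (hconj : ∀ x y : ↥P, x ≠ 1 → y ≠ 1 → ∃ g : G, g * (x : G) * g⁻¹ = (y : G)) :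
    p ≤ 7 := by
  by_contra h7
  have hp11 : 11 ≤ p := by
    by_contra h
    have h2 : p = 8 ∨ p = 9 ∨ p = 10 := by omega
    have hpr : p.Prime := Fact.out
    rcases h2 with rfl | rfl | rfl <;> exact absurd hpr (by norm_num)
  have hexp' : ∀ x ∈ (P : Subgroup G), x ^ p = 1 := by
    intro x hx
    have h1 := Monoid.pow_exponent_eq_one (⟨x, hx⟩ : ↥P)
    rw [hexp] at h1
    exact congrArg Subtype.val h1
  replace hE : Cfsg.IsExtraspecial p ↥(P : Subgroup G) := hE
  replace hcard : Nat.card ↥(P : Subgroup G) = p ^ 3 := hcard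
  have hzne : Subgroup.center ↥(P : Subgroup G) ≠ ⊥ := by
    intro h
    have h1 := hE.2
    rw [h, Subgroup.card_bot] at h1
    exact (Fact.out : p.Prime).one_lt.ne h1
  obtain ⟨⟨z, hz⟩, hz1⟩ := Subgroup.ne_bot_iff_exists_ne_one.1 hzne
  have hz1' : z ≠ 1 := fun h => hz1 (Subtype.ext h)
  obtain ⟨a, ha⟩ : ∃ a : ↥(P : Subgroup G), a ∉ Subgroup.center ↥(P : Subgroup G) := by
    by_contra h
    push Not at h
    have htop : Subgroup.center ↥(P : Subgroup G) = ⊤ := (Subgroup.eq_top_iff' _).2 h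
    have h1 := hE.2
    rw [htop, Subgroup.card_top] at h1
    rw [show Nat.card ↥(P : Subgroup G) = p ^ 3 from hcard] at h1
    exact absurd h1 (ne_of_gt (lt_self_pow₀ (Fact.out : p.Prime).one_lt (by norm_num)))
  obtain ⟨b, hb⟩ : ∃ b, b * a ≠ a * b := by
    by_contra h
    push Not at h
    exact ha (Subgroup.mem_center_iff.2 h)
  obtain ⟨co, hco, hco0, -⟩ := exists_coord P hE hcard
  have hcopow : ∀ x (n : ℕ), co (x ^ n) = (n : ZMod p) • co x := by
    intro x n
    induction n with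
    | zero => simp [(hco0 1).2 (one_mem _)]
    | succ n ih => rw [pow_succ, hco, ih, Nat.cast_succ, add_smul, one_smul]
  have hli : LinearIndependent (ZMod p) ![co a, co b] := by
    rw [LinearIndependent.pair_iff' fun h => ha ((hco0 _).1 h)]
    intro r hr
    refine hb ?_
    have hbc : b * (a ^ r.val)⁻¹ ∈ Subgroup.center ↥(P : Subgroup G) := by
      have h1 : co (b * (a ^ r.val)⁻¹) + co (a ^ r.val) = co b := by
        rw [← hco, inv_mul_cancel_right]
      rw [hcopow, ZMod.natCast_zmod_val, hr] at h1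
      rw [← hco0]
      exact add_eq_right.1 h1
    have e := Subgroup.mem_center_iff.1 hbc a
    have e2 : b * a = b * (a ^ r.val)⁻¹ * a * a ^ r.val := by
      rw [mul_assoc (b * _), ← pow_succ', pow_succ]; group
    rw [e2, ← e]; group
  have hpair := LinearIndependent.pair_iff.1 hli
  let pts : Option (ZMod p) → ↥(P : Subgroup G) := fun o => o.elim b fun r => a * b ^ r.val
  have hcopts : ∀ o, ∃ α β : ZMod p, co (pts o) = α • co a + β • co b ∧
      ((o = none ∧ α = 0 ∧ β = 1) ∨ ∃ r, o = some r ∧ α = 1 ∧ β = r) := by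
    rintro (_ | r)
    · exact ⟨0, 1, by simp [pts], Or.inl ⟨rfl, rfl, rfl⟩⟩
    · refine ⟨1, r, ?_, Or.inr ⟨r, rfl, rfl, rfl⟩⟩
      show co (a * b ^ r.val) = _
      rw [hco, hcopow, ZMod.natCast_zmod_val, one_smul]
  have hnc : ∀ o, pts o ∉ Subgroup.center ↥(P : Subgroup G) := by
    intro o ho
    obtain ⟨α, β, hab, hcase⟩ := hcopts o
    rw [(hco0 _).2 ho] at hab
    obtain ⟨h1, h2⟩ := hpair α β hab.symm
    rcases hcase with ⟨-, -, h⟩ | ⟨r, -, h, -⟩
    · exact one_ne_zero (h ▸ h2)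
    · exact one_ne_zero (h ▸ h1)
  have hind : ∀ i j, i ≠ j → ∀ n : ℕ,
      pts j * (pts i ^ n)⁻¹ ∉ Subgroup.center ↥(P : Subgroup G) := by
    intro i j hij n hmem
    have h0 : co (pts j) = (n : ZMod p) • co (pts i) := by
      rw [← hcopow, ← sub_eq_zero, ← (hco0 _).2 hmem]
      have h1 : co (pts j * (pts i ^ n)⁻¹) + co (pts i ^ n) = co (pts j) := by
        rw [← hco, inv_mul_cancel_right]
      rw [← h1, add_sub_cancel_right]
    obtain ⟨α, β, hab, hci⟩ := hcopts i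
    obtain ⟨γ, δ, hgd, hcj⟩ := hcopts j
    rw [hab, hgd, smul_add, smul_smul, smul_smul] at h0
    have h1 := hpair (γ - n * α) (δ - n * β) (by
      rw [sub_smul, sub_smul, sub_add_sub_comm, h0, sub_self])
    rw [sub_eq_zero, sub_eq_zero] at h1
    rcases hci with ⟨rfl, rfl, rfl⟩ | ⟨r, rfl, rfl, rfl⟩ <;>
      rcases hcj with ⟨rfl, rfl, rfl⟩ | ⟨r', rfl, rfl, rfl⟩
    · exact hij rfl
    · rw [mul_zero] at h1; exact one_ne_zero h1.1
    · rw [mul_one] at h1; rw [← h1.1, zero_mul] at h1; exact one_ne_zero h1.2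
    · rw [mul_one] at h1; rw [← h1.1, one_mul] at h1; exact hij (by rw [h1.2])
  have hl : ∀ o, ∃ gl : G, gl * (pts o : G) * gl⁻¹ = pts o ∧ gl * (z : G) * gl⁻¹ = z * pts o := by
    intro o
    obtain ⟨g, hg⟩ := hconj (pts o) z (fun h => hnc o (by rw [h]; exact one_mem _)) hz1'
    exact exists_transvection P hE hexp' (hnc o) hz hz1' hg
  obtain ⟨h12, h11⟩ := planes_bound P hE hcard hexp' hz pts hnc hind hl hp11
  rw [Fintype.card_option, ZMod.card] at h12 h11
  have hpr : p.Prime := Fact.out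
  by_cases h : p = 11
  · have := h11 (Or.inr h); omega
  · omega

end Cfsg.Agent.S3055
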