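import Cfsg.Statements.S3056
import Cfsg.Agent.LocalEvenD.SPEmb

set_option autoImplicit false
open Cfsg

namespace Cfsg.Agent.S3056

theorem result {G : Type*} [Group G] [Finite G]
    (p : ℕ) [Fact p.Prime] :
    ¬ Cfsg.IsSylowChainConnected p G ↔
      ∃ H : Subgroup G, H ≠ ⊤ ∧ p ∣ Nat.card H ∧
        ∀ g : G, g ∉ H → ¬ p ∣ Nat.card ↥(H ⊓ H.map (MulAut.conj g).toMonoidHom) :=
  LocalEvenD.not_chainConnected_iff

end Cfsg.Agent.S3056
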