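import Cfsg.Statements.S3057
import Cfsg.Agent.LocalEvenD.SPEmb
import Cfsg.Agent.S0016
import Cfsg.Agent.Lib.Coprime.Generation
import Cfsg.Agent.Lib.Thompson.PSolvable
import Cfsg.Agent.Lib.PGroup.Basic
import Mathlib.GroupTheory.SpecificGroups.Quaternion

set_option autoImplicit false
set_option linter.style.haveILetI false
open Cfsg

namespace Cfsg.Agent.S3057

variable {G : Type*} [Group G] [Finite G] {p : ℕ} [hp : Fact p.Prime]

/-- At most one subgroup of order `p`. -/
def UniqueP (p : ℕ) (Q : Type*) [Group Q] : Prop :=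
  ∀ H K : Subgroup Q, Nat.card H = p → Nat.card K = p → H = K

theorem uniqueP_congr {A B : Type*} [Group A] [Group B] (e : A ≃* B) (h : UniqueP p A) :
    UniqueP p B := by
  intro H K hH hK
  have key : ∀ X : Subgroup B, Nat.card X = p → Nat.card (X.comap e.toMonoidHom) = p := fun X hX =>
    (Nat.card_congr (e.toEquiv.subtypeEquiv fun _ => Iff.rfl)).trans hX
  exact Subgroup.comap_injective (f := e.toMonoidHom) e.surjective (h _ _ (key H hH) (key K hK))

theorem uniqueP_of_cyclic {Q : Type*} [Group Q] [Finite Q] [IsCyclic Q] : UniqueP p Q := by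
  classical
  haveI := Fintype.ofFinite Q
  intro H K hH hK
  have key : ∀ X : Subgroup Q, Nat.card X = p → (X : Set Q).toFinset =
      (Finset.univ.filter fun a : Q => a ^ p = 1) := by
    intro X hX
    refine Finset.eq_of_subset_of_card_le (fun a ha => ?_) ?_
    · refine Finset.mem_filter.2 ⟨Finset.mem_univ _, ?_⟩
      have ha' : a ∈ X := Set.mem_toFinset.1 ha
      have := congrArg Subtype.val (pow_card_eq_one' (G := X) (x := ⟨a, ha'⟩))
      rw [Subgroup.coe_pow, hX, Subgroup.coe_one] at this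
      exact this
    · refine (IsCyclic.card_pow_eq_one_le (α := Q) hp.out.pos).trans (le_of_eq ?_)
      rw [← hX, Set.toFinset_card, Nat.card_eq_fintype_card]
      rfl
  exact SetLike.coe_injective (Set.toFinset_inj.1 ((key H hH).trans (key K hK).symm))

theorem uniqueP_quaternion (n : ℕ) : UniqueP 2 (QuaternionGroup (2 ^ n)) := by
  have key : ∀ x : QuaternionGroup (2 ^ n), orderOf x = 2 → x = QuaternionGroup.a (2 ^ n : ℕ) := by
    intro x hx
    cases x with
    | xa i => rw [QuaternionGroup.orderOf_xa] at hx; omega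
    | a i =>
      have h2 : QuaternionGroup.a i * QuaternionGroup.a i = 1 := by
        have h := pow_orderOf_eq_one (QuaternionGroup.a i)
        rw [hx] at h
        rwa [sq] at h
      have h1 : (QuaternionGroup.a i : QuaternionGroup (2 ^ n)) ≠ 1 := fun h => by
        rw [h, orderOf_one] at hx; omega
      rw [QuaternionGroup.a_mul_a, QuaternionGroup.one_def, QuaternionGroup.a.injEq] at h2
      rw [QuaternionGroup.one_def, Ne, QuaternionGroup.a.injEq] at h1
      congr 1
      obtain ⟨k, rfl⟩ := ZMod.natCast_zmod_surjective i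
      have h3 : 2 * 2 ^ n ∣ k + k := (ZMod.natCast_eq_zero_iff _ _).1 (by push_cast; exact h2)
      have h4 : ¬ 2 * 2 ^ n ∣ k := fun h => h1 ((ZMod.natCast_eq_zero_iff _ _).2 h)
      obtain ⟨c, hc⟩ := h3
      have hk : k = 2 ^ n * c := by
        have h5 : 2 * k = 2 * (2 ^ n * c) := by rw [← mul_assoc, ← hc]; ring
        omega
      rcases Nat.even_or_odd c with ⟨d, hd⟩ | ⟨d, hd⟩
      · exact absurd ⟨d, by rw [hk, hd]; ring⟩ h4
      · rw [hk, hd, show 2 ^ n * (2 * d + 1) = 2 * 2 ^ n * d + 2 ^ n by ring, Nat.cast_add,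
          Nat.cast_mul, ZMod.natCast_self, zero_mul, zero_add]
  intro H K hH hK
  obtain ⟨x, hx⟩ := exists_prime_orderOf_dvd_card' (G := H) 2 hH.symm.dvd
  obtain ⟨y, hy⟩ := exists_prime_orderOf_dvd_card' (G := K) 2 hK.symm.dvd
  have ex : Subgroup.zpowers (x : QuaternionGroup (2 ^ n)) = H :=
    Subgroup.eq_of_le_of_card_ge (Subgroup.zpowers_le.2 x.2)
      (by rw [Nat.card_zpowers, Subgroup.orderOf_coe, hx, hH])
  have ey : Subgroup.zpowers (y : QuaternionGroup (2 ^ n)) = K :=
    Subgroup.eq_of_le_of_card_ge (Subgroup.zpowers_le.2 y.2)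
      (by rw [Nat.card_zpowers, Subgroup.orderOf_coe, hy, hK])
  rw [← ex, ← ey, key (x : QuaternionGroup (2 ^ n)) (by rw [Subgroup.orderOf_coe, hx]),
    key (y : QuaternionGroup (2 ^ n)) (by rw [Subgroup.orderOf_coe, hy])]

theorem exists_noncyclic {S : Subgroup G} (hS : IsPGroup p S) (h : ¬ UniqueP p ↥S) :
    ∃ A : Subgroup G, A ≤ S ∧ IsMulCommutative A ∧ ¬ IsCyclic A ∧ IsPGroup p A := by
  simp only [UniqueP, not_forall] at h
  obtain ⟨H, K, hH, hK, hne⟩ := h
  have hSb : (⊤ : Subgroup ↥S) ≠ ⊥ := by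
    intro hb
    have h1 : H = ⊥ := le_bot_iff.1 (le_top.trans hb.le)
    rw [h1, Subgroup.card_bot] at hH
    exact hp.out.one_lt.ne hH
  obtain ⟨⟨w, hw⟩, hw1⟩ := Subgroup.ne_bot_iff_exists_ne_one.1 (PGroup.inf_center_ne_bot hS hSb)
  have hCp : IsPGroup p (Subgroup.center ↥S) := hS.to_subgroup _
  haveI : Nontrivial (Subgroup.center ↥S) :=
    ⟨⟨⟨w, hw.2⟩, 1, fun h => hw1 (Subtype.ext (by simpa using congrArg Subtype.val h))⟩⟩
  obtain ⟨z, hz⟩ := exists_prime_orderOf_dvd_card' (G := Subgroup.center ↥S) p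
    (hCp.card_eq_or_dvd.resolve_left fun h => by
      exact (Finite.one_lt_card (α := Subgroup.center ↥S)).ne h.symm)
  set Z := Subgroup.zpowers (z : ↥S) with hZ
  have hZc : Nat.card Z = p := by rw [hZ, Nat.card_zpowers, Subgroup.orderOf_coe, hz]
  have hZC : Z ≤ Subgroup.center ↥S := Subgroup.zpowers_le.2 z.2
  obtain ⟨Y, hY, hYZ⟩ : ∃ Y : Subgroup ↥S, Nat.card Y = p ∧ Y ≠ Z := by
    by_cases hHZ : H = Z
    · exact ⟨K, hK, fun h => hne (hHZ.trans h.symm)⟩
    · exact ⟨H, hH, hHZ⟩
  haveI : IsCyclic Y := isCyclic_of_prime_card hY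
  have hYc : ∀ a ∈ Y, ∀ b ∈ Y, a * b = b * a := fun a ha b hb =>
    setLike_mul_comm (s := Y) ha hb
  have hA : IsMulCommutative ↥(Y ⊔ Z) := by
    have h1 : Y ⊔ Z ≤ Subgroup.centralizer ((Y ⊔ Z : Subgroup ↥S) : Set ↥S) := by
      refine sup_le (fun a ha => ?_) (fun a ha => Subgroup.mem_centralizer_iff.2 fun b _ =>
        Subgroup.mem_center_iff.1 (hZC ha) b)
      have h2 : Y ⊔ Z ≤ Subgroup.centralizer {a} := sup_le
        (fun b hb => Subgroup.mem_centralizer_singleton_iff.2 (hYc b hb a ha))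
        (fun b hb => Subgroup.mem_centralizer_singleton_iff.2
          (Subgroup.mem_center_iff.1 (hZC hb) a).symm)
      exact Subgroup.mem_centralizer_iff.2 fun b hb =>
        Subgroup.mem_centralizer_singleton_iff.1 (h2 hb)
    exact ⟨⟨fun x y => Subtype.ext (Subgroup.mem_centralizer_iff.1 (h1 y.2) (x : ↥S) x.2)⟩⟩
  refine ⟨(Y ⊔ Z).map S.subtype, Subgroup.map_subtype_le _, ?_, ?_, (hS.to_subgroup _).map _⟩
  · haveI := hA; infer_instance
  · intro hc
    haveI : IsCyclic ↥(Y ⊔ Z) :=
      ((Y ⊔ Z).equivMapOfInjective S.subtype S.subtype_injective).isCyclic.2 hc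
    have := uniqueP_of_cyclic (p := p) (Q := ↥(Y ⊔ Z)) (Y.subgroupOf _) (Z.subgroupOf _)
      (by rw [Nat.card_congr (Subgroup.subgroupOfEquivOfLe le_sup_left).toEquiv, hY])
      (by rw [Nat.card_congr (Subgroup.subgroupOfEquivOfLe le_sup_right).toEquiv, hZc])
    have h3 := congrArg (Subgroup.map (Y ⊔ Z).subtype) this
    rw [Subgroup.map_subgroupOf_eq_of_le le_sup_left, Subgroup.map_subgroupOf_eq_of_le le_sup_right] at h3
    exact hYZ h3

theorem result {G : Type*} [Group G] [Finite G]
    (p : ℕ) [Fact p.Prime] (hdiv : p ∣ Nat.card G) (hsol : Cfsg.IsPSolvable p G) (P : Sylow p G) :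
    ¬ Cfsg.IsSylowChainConnected p G ↔
      Cfsg.pCore p G = ⊥ ∧ (IsCyclic ↥P ∨ (p = 2 ∧ ∃ n : ℕ, Nonempty (↥P ≃* QuaternionGroup (2 ^ n)))) := by
  rw [LocalEvenD.not_chainConnected_iff]
  constructor
  · rintro ⟨H, hH, hpH, hSP⟩
    obtain ⟨S, hS⟩ := hSP.exists_sylow_le hpH
    have hO : pCore p G = ⊥ := by
      by_contra hO
      refine hH (top_le_iff.1 ?_)
      rw [← Subgroup.normalizer_eq_top (pCore p G)]
      exact hSP.normalizer_le Thompson.isPGroup_pCore hO ((Thompson.pCore_le_sylow S).trans hS)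
    refine ⟨hO, ?_⟩
    refine S0016.result p P.2 (uniqueP_congr (S.equiv P) ?_)
    by_contra hu
    obtain ⟨A, hAS, hAc, hAn, hAp⟩ := exists_noncyclic S.2 hu
    set K := pPrimeCore p G with hK
    have hKH : K ≤ H := by
      have hcop : (Nat.card A).Coprime (Nat.card K) := by
        obtain ⟨k, hk⟩ := IsPGroup.iff_card.1 hAp
        rw [hk]
        exact (Thompson.card_pPrimeCore_coprime.symm).pow_left k
      rw [← Coprime.iSup_centralizer_eq A K hAn
        (by rw [Subgroup.normalizer_eq_top K]; exact le_top) hcop]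
      refine iSup₂_le fun a ha => inf_le_right.trans ?_
      refine le_trans ?_ (hSP.normalizer_le (hAp.to_le (Subgroup.zpowers_le.2 ha.1))
        (fun h => ha.2 (Subgroup.zpowers_eq_bot.1 h)) ((Subgroup.zpowers_le.2 ha.1).trans (hAS.trans hS)))
      rw [← Subgroup.centralizer_closure, ← Subgroup.zpowers_eq_closure]
      exact Subgroup.centralizer_le_normalizer _
    set f := QuotientGroup.mk' K with hf
    set L := pPrimePCore p G with hL
    have hLH : L ≤ H := by
      intro x hx
      have h1 : f x ∈ ((S.mapSurjective (QuotientGroup.mk'_surjective K) : Sylow p (G ⧸ K)) :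
          Subgroup (G ⧸ K)) := by
        refine Thompson.pCore_le_sylow _ ?_
        rw [← Thompson.map_mk'_pPrimePCore]
        exact ⟨x, hx, rfl⟩
      rw [Sylow.coe_mapSurjective] at h1
      obtain ⟨s, hs, he⟩ := h1
      have h2 : s⁻¹ * x ∈ K := QuotientGroup.eq.1 he
      simpa using H.mul_mem (hS hs) (hKH h2)
    have hpL : p ∣ Nat.card L := by
      haveI : Nontrivial (G ⧸ K) := by
        rw [← not_subsingleton_iff_nontrivial]
        intro hs
        have : K = ⊤ := QuotientGroup.subgroup_eq_top_of_subsingleton K hs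
        rw [hK, Thompson.pPrimeCore_eq_top_iff] at this
        exact (Fact.out : p.Prime).one_lt.ne' (Nat.Coprime.eq_one_of_dvd this.symm hdiv)
      have hq := (Thompson.pCore_ne_bot_or_pPrimeCore_ne_bot
        (Thompson.isPSolvable_quotient K hsol)).resolve_right
          (fun h => h Thompson.pPrimeCore_quotient_pPrimeCore)
      rw [← Thompson.map_mk'_pPrimePCore] at hq
      haveI : Nontrivial ↥((pPrimePCore p G).map f) := (Subgroup.nontrivial_iff_ne_bot _).2 hq
      have hpp : IsPGroup p ↥((pPrimePCore p G).map f) :=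
        (Thompson.isPGroup_pCore (p := p) (G := G ⧸ pPrimeCore p G)).of_equiv
          (MulEquiv.subgroupCongr Thompson.map_mk'_pPrimePCore.symm)
      exact (hpp.card_eq_or_dvd.resolve_left fun h => (Finite.one_lt_card).ne h.symm).trans
        (Subgroup.card_map_dvd _ f)
    refine hH (top_le_iff.1 ?_)
    rw [← hSP.normal_sup_eq_top hpH L hpL]
    exact sup_le hLH le_rfl
  · rintro ⟨hO, hP⟩
    have hu : UniqueP p ↥P := by
      rcases hP with hc | ⟨rfl, n, ⟨e⟩⟩
      · exact uniqueP_of_cyclic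
      · exact uniqueP_congr e.symm (uniqueP_quaternion n)
    obtain ⟨x, hx⟩ := exists_prime_orderOf_dvd_card' (G := ↥P) p (P.dvd_card_of_dvd_card hdiv)
    set X := Subgroup.zpowers (x : G) with hX
    have hXc : Nat.card X = p := by rw [hX, Nat.card_zpowers, Subgroup.orderOf_coe, hx]
    have hXp : IsPGroup p X := IsPGroup.of_card (n := 1) (by rw [pow_one, hXc])
    have hXb : X ≠ ⊥ := fun h => by
      rw [h, Subgroup.card_bot] at hXc
      exact (Fact.out : p.Prime).one_lt.ne hXc
    refine ⟨Subgroup.normalizer (X : Set G), fun htop => hXb ?_,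
      hXc ▸ Subgroup.card_dvd_of_le Subgroup.le_normalizer, fun g hg hd => hg ?_⟩
    · haveI : X.Normal := Subgroup.normalizer_eq_top_iff.1 htop
      exact le_bot_iff.1 (hO ▸ Thompson.le_pCore ‹_› hXp)
    obtain ⟨y, hy⟩ := exists_prime_orderOf_dvd_card' (G := ↥(Subgroup.normalizer (X : Set G) ⊓
      (Subgroup.normalizer (X : Set G)).map (MulAut.conj g).toMonoidHom : Subgroup G)) p hd
    set Y := Subgroup.zpowers (y : G) with hY
    have hYc : Nat.card Y = p := by rw [hY, Nat.card_zpowers, Subgroup.orderOf_coe, hy]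
    have hYp : IsPGroup p Y := IsPGroup.of_card (n := 1) (by rw [pow_one, hYc])
    have key : ∀ X' : Subgroup G, Nat.card X' = p → Y ≤ Subgroup.normalizer (X' : Set G) → X' = Y := by
      intro X' hX' hn
      have hX'p : IsPGroup p X' := IsPGroup.of_card (n := 1) (by rw [pow_one, hX'])
      obtain ⟨T, hT⟩ := (hYp.to_sup_of_normal_right' hX'p hn).exists_le_sylow
      have h1 := uniqueP_congr (P.equiv T) hu (X'.subgroupOf T) (Y.subgroupOf T)
        (by rw [Nat.card_congr (Subgroup.subgroupOfEquivOfLe (le_sup_right.trans hT)).toEquiv, hX'])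
        (by rw [Nat.card_congr (Subgroup.subgroupOfEquivOfLe (le_sup_left.trans hT)).toEquiv, hYc])
      have h2 := congrArg (Subgroup.map (T : Subgroup G).subtype) h1
      rwa [Subgroup.map_subgroupOf_eq_of_le (le_sup_right.trans hT),
        Subgroup.map_subgroupOf_eq_of_le (le_sup_left.trans hT)] at h2
    set X' := X.map (MulAut.conj g).toMonoidHom with hX'
    have h1 : X = Y := key X hXc (Subgroup.zpowers_le.2 y.2.1)
    have h2 : X' = Y := key X' (by rw [hX', Subgroup.card_map_of_injective (MulAut.conj g).injective, hXc])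
      (Subgroup.zpowers_le.2 (Subgroup.le_normalizer_map _ y.2.2))
    exact Subgroup.mem_normalizer_iff_map_conj_eq.2 (h2.trans h1.symm)

end Cfsg.Agent.S3057
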