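import Cfsg.Statements.S3059
import Cfsg.Agent.LocalEvenD.SPEmb

set_option autoImplicit false
open Cfsg
open Cfsg.Agent.LocalEvenD

namespace Cfsg.Agent.S3059

theorem result {G : Type*} [Group G] [Finite G]
    (p : ℕ) [Fact p.Prime] (H : Subgroup G) (hH : H ≠ ⊤) (hpH : p ∣ Nat.card H)
    (hse : ∀ g : G, g ∉ H → ¬ p ∣ Nat.card ↥(H ⊓ H.map (MulAut.conj g).toMonoidHom))
    (N : Subgroup G) [N.Normal] (hN : p ∣ Nat.card N) :
    H ⊔ Subgroup.closure {g : G | g ∈ N ∧ (orderOf g).Coprime p} = ⊤ := by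
  have h : SPCond p H := hse
  set K := Subgroup.closure {g : G | g ∈ N ∧ (orderOf g).Coprime p} with hK
  obtain ⟨S, hS⟩ := h.exists_sylow_le hpH
  rw [eq_top_iff, ← h.normal_sup_eq_top hpH N hN]
  refine sup_le ?_ le_sup_left
  intro n hn
  -- split n into a p'-part and a p-part
  obtain ⟨e, m, hm, hem⟩ := Nat.exists_eq_pow_mul_and_not_dvd (orderOf_pos n).ne' p
    (Fact.out : p.Prime).ne_one
  have hcop : Nat.Coprime (p ^ e) m :=
    Nat.Coprime.pow_left _ ((Fact.out : p.Prime).coprime_iff_not_dvd.mpr hm)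
  have hm0 : m ≠ 0 := by rintro rfl; exact hm (dvd_zero p)
  have hu : n ^ (p ^ e) ∈ K := by
    refine Subgroup.subset_closure ⟨N.pow_mem hn _, ?_⟩
    refine Nat.Coprime.coprime_dvd_left (orderOf_dvd_of_pow_eq_one ?_)
      (((Fact.out : p.Prime).coprime_iff_not_dvd.mpr hm).symm)
    rw [← pow_mul, ← hem, pow_orderOf_eq_one]
  have hv : n ^ m ∈ H ⊔ K := by
    have hpg : IsPGroup p (Subgroup.zpowers (n ^ m)) := by
      rw [IsPGroup.iff_card]
      have h2 : Nat.card (Subgroup.zpowers (n ^ m)) ∣ p ^ e := by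
        rw [Nat.card_zpowers]
        exact orderOf_dvd_of_pow_eq_one (by rw [← pow_mul, mul_comm, ← hem, pow_orderOf_eq_one])
      obtain ⟨k, -, hk⟩ := (Nat.dvd_prime_pow Fact.out).mp h2
      exact ⟨k, hk⟩
    obtain ⟨T, hT⟩ := hpg.exists_le_sylow
    obtain ⟨g, hg⟩ := sylow_conj S T
    obtain ⟨y, hy, hyv⟩ := (hg ▸ hT (Subgroup.mem_zpowers _) :
      n ^ m ∈ (S : Subgroup G).map (MulAut.conj g).toMonoidHom)
    -- K is normal
    haveI : K.Normal := by
      rw [hK]
      refine ⟨fun x hx a => ?_⟩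
      have hle : (Subgroup.closure {g : G | g ∈ N ∧ (orderOf g).Coprime p}).map
          (MulAut.conj a).toMonoidHom ≤ Subgroup.closure {g : G | g ∈ N ∧ (orderOf g).Coprime p} := by
        rw [MonoidHom.map_closure, Subgroup.closure_le]
        rintro _ ⟨z, ⟨hz1, hz2⟩, rfl⟩
        exact Subgroup.subset_closure ⟨‹N.Normal›.conj_mem z hz1 a,
          by rw [show orderOf ((MulAut.conj a).toMonoidHom z) = orderOf z from (MulAut.conj a).orderOf_eq z]; exact hz2⟩
      exact hle ⟨x, hx, rfl⟩
    -- y lies in S ∩ N, so y, and hence its conjugates, lie in H ⊔ K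
    have hyN : y ∈ N := by
      have := ‹N.Normal›.conj_mem _ (N.pow_mem hn m) g⁻¹
      rw [← hyv] at this
      simpa [mul_assoc] using this
    have hg' : g ∈ N ⊔ Subgroup.normalizer (((S : Subgroup G) ⊓ N : Subgroup G) : Set G) := by
      rw [frattini_inf]; exact Subgroup.mem_top g
    obtain ⟨a, ha, b, hb, rfl⟩ := Subgroup.mem_sup_of_normal_left.mp hg'
    have hby : b * y * b⁻¹ ∈ (S : Subgroup G) ⊓ N := (Subgroup.mem_normalizer_iff.mp hb y).mp ⟨hy, hyN⟩
    -- the image of N in G/K is a p-group with Sylow subgroup the image of S ∩ N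
    have hNK : N ≤ ((S : Subgroup G) ⊓ N) ⊔ K := by
      have hidx : ∀ q : ℕ, q.Prime → q ∣ (((S : Subgroup G) ⊓ N) ⊔ K).relIndex N → False := by
        intro q hq hqd
        by_cases hqp : q = p
        · subst hqp
          have h1 : ¬ q ∣ ((S : Subgroup G) ⊓ N).relIndex N := by
            rw [Subgroup.inf_relIndex_right]
            have h2 : (S : Subgroup G).relIndex N = (S : Subgroup G).relIndex ((S : Subgroup G) ⊔ N) := by
              have e1 := Subgroup.relIndex_mul_relIndex ((S : Subgroup G) ⊓ N) N ((S : Subgroup G) ⊔ N) inf_le_right le_sup_right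
              have e2 := Subgroup.relIndex_mul_relIndex ((S : Subgroup G) ⊓ N) (S : Subgroup G) ((S : Subgroup G) ⊔ N) inf_le_left le_sup_left
              rw [Subgroup.inf_relIndex_right, Subgroup.relIndex_sup_right] at e1
              rw [Subgroup.inf_relIndex_left] at e2
              have := e1.trans e2.symm
              rw [mul_comm] at this
              exact Nat.eq_of_mul_eq_mul_left (Nat.pos_of_ne_zero (fun h0 => by simp [Subgroup.relIndex, Subgroup.index_ne_zero_of_finite] at h0)) this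
            rw [h2]
            exact fun hd => S.not_dvd_index (hd.trans (Subgroup.relIndex_dvd_index_of_le le_sup_left))
          exact h1 (hqd.trans (Subgroup.relIndex_dvd_of_le_left N le_sup_left))
        · haveI := Fact.mk hq
          obtain ⟨Q⟩ := (inferInstance : Nonempty (Sylow q N))
          have hQK : (Q : Subgroup N) ≤ (((S : Subgroup G) ⊓ N) ⊔ K).subgroupOf N := by
            intro z hz
            refine Subgroup.mem_sup_right (Subgroup.subset_closure ⟨z.2, ?_⟩)
            obtain ⟨k, hk⟩ := IsPGroup.iff_orderOf.mp Q.2 ⟨z, hz⟩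
            have he : orderOf (N.subtype z) = q ^ k := by
              rw [orderOf_injective _ N.subtype_injective, ← hk]
              exact Subgroup.orderOf_coe (⟨z, hz⟩ : (Q : Subgroup N))
            show (orderOf (N.subtype z)).Coprime p
            rw [he]
            exact Nat.Coprime.pow_left _ ((Nat.coprime_primes hq Fact.out).mpr hqp)
          exact Q.not_dvd_index (hqd.trans (Subgroup.index_dvd_of_le hQK))
      exact Subgroup.relIndex_eq_one.mp (Nat.eq_one_iff_not_exists_prime_dvd.mpr fun q hq hqd => hidx q hq hqd)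
    have haK : a ∈ H ⊔ K := sup_le (inf_le_left.trans (hS.trans le_sup_left)) le_sup_right (hNK ha)
    rw [← hyv]
    have heq : (MulAut.conj (a * b)).toMonoidHom y = a * (b * y * b⁻¹) * a⁻¹ := by
      simp [mul_assoc]
    rw [heq]
    exact mul_mem (mul_mem haK (Subgroup.mem_sup_left (hS hby.1))) (inv_mem haK)
  obtain ⟨r, s, hrs⟩ : ∃ r s : ℤ, (p ^ e : ℕ) * r + (m : ℕ) * s = 1 := by
    exact ⟨_, _, by rw [← Nat.gcd_eq_gcd_ab, hcop.gcd_eq_one]; rfl⟩
  have : n = (n ^ (p ^ e)) ^ r * (n ^ m) ^ s := by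
    rw [← zpow_natCast n (p ^ e), ← zpow_natCast n m, ← zpow_mul, ← zpow_mul, ← zpow_add, hrs, zpow_one]
  rw [this]
  exact mul_mem (zpow_mem (Subgroup.mem_sup_right hu) r) (zpow_mem hv s)

end Cfsg.Agent.S3059
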