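import Cfsg.Statements.S3060
import Cfsg.Agent.LocalEvenD.DStar
import Cfsg.Agent.PLocalB.ZJ

set_option autoImplicit false
set_option linter.style.haveILetI false

open scoped commutatorElement

namespace Cfsg.Agent.S3060

open Cfsg.Agent.LocalEvenD

theorem result.{u} {G : Type u} [Group G] [Finite G] {p : ℕ} [Fact p.Prime] (hp : p ≠ 2)
    (hc : Subgroup.centralizer (Cfsg.pCore p G : Set G) ≤ Cfsg.pCore p G)
    (hst : ∀ (P : Subgroup G) [P.Normal], IsPGroup p P → Cfsg.IsPStableOn p P) (S : Sylow p G) :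
    (Cfsg.dStarOf (S : Subgroup G)).Normal := by
  set T := (S : Subgroup G) with hT
  set D := Cfsg.dStarOf T with hDdef
  obtain ⟨hDc, hDx⟩ := dStar_mem (p := p) (S := T) S.2
  have hDT : D ≤ T := Subgroup.map_subtype_le _
  have hDc' : IsMulCommutative D := by
    haveI := hDc; rw [hDdef, Cfsg.dStarOf]; infer_instance
  have hDfam : ∀ x ∈ T, ⁅⁅D ⊔ Subgroup.zpowers x, D ⊔ Subgroup.zpowers x⁆,
      D ⊔ Subgroup.zpowers x⁆ = ⊥ → ∀ a ∈ D, a * x = x * a := by
    rintro x hx hcl _ ⟨a, ha, rfl⟩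
    have hmap : (Cfsg.dStar T ⊔ Subgroup.zpowers (⟨x, hx⟩ : T)).map T.subtype =
        D ⊔ Subgroup.zpowers x := by
      rw [Subgroup.map_sup, MonoidHom.map_zpowers]; rfl
    refine congrArg Subtype.val (hDx ⟨x, hx⟩ ?_ a ha)
    rw [← Subgroup.map_eq_bot_iff_of_injective _ T.subtype_injective, Subgroup.map_commutator,
      Subgroup.map_commutator, hmap]
    exact hcl
  have hTD : T ≤ Subgroup.normalizer (D : Set G) := by
    intro t ht
    refine PLocalB.mem_normalizer_of_conj_mem _ t ?_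
    rintro _ ⟨a, ha, rfl⟩
    refine ⟨⟨t, ht⟩ * a * ⟨t, ht⟩⁻¹, ?_, rfl⟩
    exact ((dStar_characteristic (S := T)).fixed (MulAut.conj ⟨t, ht⟩)).ge ha
  set Q := Cfsg.pCore p G with hQ
  have hQp : IsPGroup p Q := Thompson.isPGroup_pCore
  have hQT : Q ≤ T := Thompson.pCore_le_sylow S
  -- `D ≤ O_p(G)`
  have hDQ : D ≤ Q := by
    have hq : ⁅⁅Q, D⁆, D⁆ = ⊥ := by
      have h1 : ⁅Q, D⁆ ≤ D := Subgroup.le_normalizer_iff_commutator_le_right.mp (hQT.trans hTD)
      refine le_bot_iff.mp ((Subgroup.commutator_mono h1 le_rfl).trans ?_)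
      rw [le_bot_iff, Subgroup.commutator_eq_bot_iff_le_centralizer]
      exact Subgroup.le_centralizer_iff_isMulCommutative.mpr hDc'
    refine (PLocalB.mem_comap_pCore_of_quadratic (hst Q hQp) D hq).trans ?_
    refine Thompson.le_pCore inferInstance ?_
    refine IsPGroup.comap_of_ker_isPGroup Thompson.isPGroup_pCore _ ?_
    rw [QuotientGroup.ker_mk']
    exact hQp.to_le hc
  -- members of the family relative to `Q`
  have hconjQ : ∀ (g : G) {y : G}, y ∈ Q → g * y * g⁻¹ ∈ Q := fun g {y} hy =>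
    (inferInstance : (Cfsg.pCore p G).Normal).conj_mem y hy g
  have hconjfam : ∀ (g : G) (a : G), a ∈ D → ∀ x ∈ Q,
      ⁅⁅D.map (MulAut.conj g).toMonoidHom ⊔ Subgroup.zpowers x,
        D.map (MulAut.conj g).toMonoidHom ⊔ Subgroup.zpowers x⁆,
        D.map (MulAut.conj g).toMonoidHom ⊔ Subgroup.zpowers x⁆ = ⊥ →
      (g * a * g⁻¹) * x = x * (g * a * g⁻¹) := by
    intro g a ha x hx hcl
    set φ := (MulAut.conj g).toMonoidHom with hφ
    have hx' : g⁻¹ * x * g ∈ Q := by
      simpa using hconjQ g⁻¹ hx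
    have hφx : φ (g⁻¹ * x * g) = x := by simp [hφ, mul_assoc]
    have h2 : ⁅⁅D ⊔ Subgroup.zpowers (g⁻¹ * x * g), D ⊔ Subgroup.zpowers (g⁻¹ * x * g)⁆,
        D ⊔ Subgroup.zpowers (g⁻¹ * x * g)⁆ = ⊥ := by
      rw [← Subgroup.map_eq_bot_iff_of_injective _ (f := φ) (MulAut.conj g).injective,
        Subgroup.map_commutator, Subgroup.map_commutator, Subgroup.map_sup, MonoidHom.map_zpowers,
        hφx]
      exact hcl
    have h3 := congrArg φ (hDfam _ (hQT hx') h2 a ha)
    rwa [map_mul, map_mul φ _ a, hφx] at h3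
  -- the normal closure `E` is abelian
  let C : G → Subgroup Q := fun g => (D.map (MulAut.conj g).toMonoidHom).subgroupOf Q
  have hCmap : ∀ g, (C g).map Q.subtype = D.map (MulAut.conj g).toMonoidHom := fun g =>
    Subgroup.map_subgroupOf_eq_of_le (by rintro _ ⟨a, ha, rfl⟩; exact hconjQ g (hDQ ha))
  have hCfam : ∀ g, DFam (⊤ : Subgroup Q) (C g) := by
    intro g
    refine ⟨le_top, ?_, ?_⟩
    · haveI : IsMulCommutative ↥(D.map (MulAut.conj g).toMonoidHom) := by
        haveI := hDc'; infer_instance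
      exact inferInstanceAs (IsMulCommutative ↥((D.map (MulAut.conj g).toMonoidHom).subgroupOf Q))
    · intro x _ hcl a ha
      obtain ⟨b, hb, hab⟩ := (show (a : G) ∈ D.map (MulAut.conj g).toMonoidHom from ha)
      apply Subtype.ext
      simp only [Subgroup.coe_mul]
      rw [← hab]
      refine hconjfam g b hb x x.2 ?_
      rw [← hCmap, ← show (Subgroup.zpowers x).map Q.subtype = Subgroup.zpowers (x : G) from
        MonoidHom.map_zpowers _ _, ← Subgroup.map_sup, ← Subgroup.map_commutator,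
        ← Subgroup.map_commutator, hcl, Subgroup.map_bot]
  have hcomm : ∀ g k : G, ∀ u ∈ C g, ∀ v ∈ C k, u * v = v * u := fun g k =>
    dFam_commute hQp _ ⊤ (C g) (C k) le_rfl (hCfam g) (hCfam k)
  set E := Subgroup.normalClosure (D : Set G) with hE
  have hEc : IsMulCommutative E := by
    rw [hE, Subgroup.normalClosure]
    refine Subgroup.isMulCommutative_closure ?_
    intro u hu v hv
    obtain ⟨a, ha, hau⟩ := Group.mem_conjugatesOfSet_iff.mp hu
    obtain ⟨g, rfl⟩ := isConj_iff.mp hau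
    obtain ⟨b, hb, hbv⟩ := Group.mem_conjugatesOfSet_iff.mp hv
    obtain ⟨k, rfl⟩ := isConj_iff.mp hbv
    exact congrArg Subtype.val (hcomm g k ⟨_, hconjQ g (hDQ ha)⟩ ⟨a, ha, rfl⟩
      ⟨_, hconjQ k (hDQ hb)⟩ ⟨b, hb, rfl⟩)
  haveI : E.Normal := Subgroup.normalClosure_normal
  have hDE : D ≤ E := Subgroup.le_normalClosure
  have hEQ : E ≤ Q := Subgroup.normalClosure_le_normal hDQ
  have hEp : IsPGroup p E := hQp.to_le hEQ
  -- the preimage of `O_p(G / C(E))`
  set K := (Cfsg.pCore p (G ⧸ Subgroup.centralizer (E : Set G))).comap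
    (QuotientGroup.mk' (Subgroup.centralizer (E : Set G))) with hK
  have hfr : ∀ g : G, ∃ m ∈ Subgroup.normalizer ((T ⊓ K : Subgroup G) : Set G),
      ∃ c ∈ Subgroup.centralizer (E : Set G), g = m * c := by
    intro g
    obtain ⟨m, hm, d, hd, rfl⟩ := Subgroup.mem_sup_of_normal_right.mp
      ((PLocalB.normalizer_inf_sup_eq_top S K).symm ▸ Subgroup.mem_top g :
        g ∈ Subgroup.normalizer ((T ⊓ K : Subgroup G) : Set G) ⊔ K)
    have h1 : QuotientGroup.mk' (Subgroup.centralizer (E : Set G)) d ∈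
        T.map (QuotientGroup.mk' (Subgroup.centralizer (E : Set G))) := by
      rw [show T.map (QuotientGroup.mk' (Subgroup.centralizer (E : Set G))) =
        ((S.mapSurjective (QuotientGroup.mk'_surjective (Subgroup.centralizer (E : Set G))) :
          Sylow p _) : Subgroup _) from rfl]
      exact Thompson.pCore_le_sylow _ hd
    obtain ⟨s, hs, hsd⟩ := h1
    have hc1 : s⁻¹ * d ∈ Subgroup.centralizer (E : Set G) := QuotientGroup.eq.mp hsd
    have hsK : s ∈ K := by
      rw [hK, Subgroup.mem_comap, hsd]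
      exact hd
    exact ⟨m * s, mul_mem hm (Subgroup.le_normalizer ⟨hs, hsK⟩), s⁻¹ * d, hc1, by group⟩
  -- `E` is a member of the family of `S`
  have hEfam : E.subgroupOf T ∈ Cfsg.dStarFamily T := by
    refine ⟨?_, ?_⟩
    · haveI := hEc
      exact inferInstanceAs (IsMulCommutative ↥(E.subgroupOf T))
    intro x hcl a ha
    have hcl' : ⁅⁅E ⊔ Subgroup.zpowers (x : G), E ⊔ Subgroup.zpowers (x : G)⁆,
        E ⊔ Subgroup.zpowers (x : G)⁆ = ⊥ := by
      rw [← Subgroup.map_subgroupOf_eq_of_le (hEQ.trans hQT),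
        ← show (Subgroup.zpowers x).map T.subtype = Subgroup.zpowers (x : G) from
          MonoidHom.map_zpowers _ _, ← Subgroup.map_sup, ← Subgroup.map_commutator,
        ← Subgroup.map_commutator, hcl, Subgroup.map_bot]
    have hxK : (x : G) ∈ T ⊓ K := by
      refine ⟨x.2, PLocalB.mem_comap_pCore_of_quadratic (hst E hEp) (Subgroup.zpowers (x : G))
        (le_bot_iff.mp ?_) (Subgroup.mem_zpowers _)⟩
      rw [← hcl']
      exact Subgroup.commutator_mono (Subgroup.commutator_mono le_sup_left le_sup_right)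
        le_sup_right
    have key : E ≤ Subgroup.centralizer ({(x : G)} : Set G) := by
      rw [hE, Subgroup.normalClosure, Subgroup.closure_le]
      intro u hu
      obtain ⟨b, hb, hbu⟩ := Group.mem_conjugatesOfSet_iff.mp hu
      obtain ⟨g, rfl⟩ := isConj_iff.mp hbu
      obtain ⟨m, hm, c, hcE, rfl⟩ := hfr g
      have hcb : c * b * c⁻¹ = b := by
        rw [mul_inv_eq_iff_eq_mul]
        exact (Subgroup.mem_centralizer_iff.mp hcE b (hDE hb)).symm
      have hy : m⁻¹ * (x : G) * m ∈ T ⊓ K := by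
        simpa using (Subgroup.mem_normalizer_iff.mp (inv_mem hm) (x : G)).mp hxK
      set φ := (MulAut.conj m⁻¹).toMonoidHom with hφ
      have hEφ : E.map φ = E := Subgroup.Normal.map_conj_eq E m⁻¹
      have hcl2 : ⁅⁅D ⊔ Subgroup.zpowers (m⁻¹ * (x : G) * m), D ⊔ Subgroup.zpowers (m⁻¹ * (x : G) * m)⁆,
          D ⊔ Subgroup.zpowers (m⁻¹ * (x : G) * m)⁆ = ⊥ := by
        refine classTwo_mono ?_ (sup_le_sup_right hDE _)
        have hφx : φ (x : G) = m⁻¹ * (x : G) * m := by simp [hφ]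
        rw [← hEφ, ← hφx, ← MonoidHom.map_zpowers φ, ← Subgroup.map_sup, ← Subgroup.map_commutator,
          ← Subgroup.map_commutator, hcl', Subgroup.map_bot]
      have h3 := hDfam _ hy.1 hcl2 b hb
      refine Subgroup.mem_centralizer_singleton_iff.mpr ?_
      calc m * c * b * (m * c)⁻¹ * (x : G) = m * (c * b * c⁻¹) * m⁻¹ * x := by group
        _ = m * (b * (m⁻¹ * x * m)) * m⁻¹ := by rw [hcb]; group
        _ = m * ((m⁻¹ * x * m) * b) * m⁻¹ := by rw [h3]
        _ = (x : G) * (m * (c * b * c⁻¹) * m⁻¹) := by rw [hcb]; group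
        _ = (x : G) * (m * c * b * (m * c)⁻¹) := by group
    exact Subtype.ext (Subgroup.mem_centralizer_singleton_iff.mp (key ha))
  have hED : E ≤ D := by
    intro e he
    exact ⟨⟨e, hQT (hEQ he)⟩, (le_sSup hEfam : E.subgroupOf T ≤ Cfsg.dStar T) he, rfl⟩
  rw [le_antisymm hDE hED]
  infer_instance

end Cfsg.Agent.S3060
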