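import Cfsg.Statements.S3062
import Cfsg.Agent.LocalEvenD.DStar

set_option autoImplicit false
open Cfsg
open Cfsg.Agent.LocalEvenD
open scoped commutatorElement

namespace Cfsg.Agent.S3062

/-- An abelian subgroup normalizing, and normalized by, `D*` centralizes it. -/
lemma centralize {S : Type*} [Group S] [Finite S] {p : ℕ} [Fact p.Prime] (hS : IsPGroup p S)
    (A : Subgroup S) [IsMulCommutative A] (hA : Cfsg.dStar S ≤ Subgroup.normalizer (A : Set S)) :
    ∀ d ∈ Cfsg.dStar S, ∀ a ∈ A, d * a = a * d := by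
  set D := Cfsg.dStar S
  haveI := (dStar_mem hS).1
  intro d hd a ha
  refine (dStar_mem hS).2 a ?_ d hd
  refine classTwo_of_central (D ⊓ A) ?_ (inf_le_left.trans le_sup_left) ?_
  · intro h hh i hi
    have hle : D ⊔ Subgroup.zpowers a ≤ Subgroup.centralizer ({i} : Set S) :=
      sup_le (fun y hy => Subgroup.mem_centralizer_singleton_iff.mpr (setLike_mul_comm (s := D) hy hi.1))
        (Subgroup.zpowers_le.mpr (Subgroup.mem_centralizer_singleton_iff.mpr (setLike_mul_comm (s := A) ha hi.2)))
    exact Subgroup.mem_centralizer_singleton_iff.mp (hle hh)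
  · intro y hy
    rw [commutatorElement_def]
    refine ⟨?_, A.mul_mem ((Subgroup.mem_normalizer_iff.mp (hA hy) a).mp ha) (A.inv_mem ha)⟩
    have h1 : a * y⁻¹ * a⁻¹ ∈ D := (inferInstance : D.Normal).conj_mem _ (D.inv_mem hy) a
    have := D.mul_mem hy h1
    simpa [mul_assoc] using this

theorem result {S : Type*} [Group S] [Finite S] {p : ℕ} [Fact p.Prime]
    (hS : IsPGroup p S) :
    Subgroup.center S ≤ Cfsg.dStar S ∧
    Cfsg.dStar S ≤ Cfsg.thompsonSubgroupA S ⊓ Subgroup.centralizer (Cfsg.thompsonSubgroupA S : Set S) ∧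
    ∀ A : Subgroup S, A.Normal → IsMulCommutative A →
      (∀ B : Subgroup S, B.Normal → IsMulCommutative B → A ≤ B → B = A) → Cfsg.dStar S ≤ A := by
  set D := Cfsg.dStar S
  haveI := (dStar_mem hS).1
  have absorb : ∀ A : Subgroup S, IsMulCommutative A → (∀ d ∈ D, ∀ a ∈ A, d * a = a * d) →
      IsMulCommutative ↥(A ⊔ D) := by
    intro A hA h
    haveI := hA
    rw [Subgroup.sup_eq_closure]
    refine Subgroup.isMulCommutative_closure ?_
    rintro x (hx | hx) y (hy | hy)
    exacts [setLike_mul_comm (s := A) hx hy, (h y hy x hx).symm, h x hx y hy, setLike_mul_comm (s := D) hx hy]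
  refine ⟨center_le_dStar, ?_, ?_⟩
  · -- every abelian subgroup of largest order contains and centralizes D
    have key : ∀ n : ℕ, ∀ A ∈ Cfsg.maxAbelianSubgroups S, Nat.card D ≤ Nat.card ↥(A ⊓ D) + n →
        ∀ d ∈ D, ∀ a ∈ A, d * a = a * d := by
      intro n
      induction n with
      | zero =>
        intro A hA hc d hd a ha
        haveI := hA.1
        have : A ⊓ D = D := Subgroup.eq_of_le_of_card_ge inf_le_right (by simpa using hc)
        exact setLike_mul_comm (s := A) (inf_eq_right.mp this hd) ha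
      | succ n ih =>
        intro A hA hc
        haveI := hA.1
        by_cases hN : D ≤ Subgroup.normalizer (A : Set S)
        · exact centralize hS A hN
        exfalso
        obtain ⟨B, hB, hBc, hlt, hBN⟩ := exists_replacement hS A D hN
        have hBmax : B ∈ Cfsg.maxAbelianSubgroups S := ⟨hB, fun C hC => (hA.2 C hC).trans hBc⟩
        have hlt' : Nat.card ↥(A ⊓ D) < Nat.card ↥(B ⊓ D) :=
          lt_of_le_of_ne (Subgroup.card_le_of_le hlt.le) fun he => hlt.ne (Subgroup.eq_of_le_of_card_ge hlt.le he.ge)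
        have hcomm := ih B hBmax (by omega)
        have : B ⊔ D = B := (Subgroup.eq_of_le_of_card_ge le_sup_left (hBmax.2 _ (absorb B hB hcomm))).symm
        exact hN ((sup_eq_left.mp this).trans hBN)
    have hJ : ∀ A ∈ Cfsg.maxAbelianSubgroups S, ∀ d ∈ D, ∀ a ∈ A, d * a = a * d :=
      fun A hA => key (Nat.card D) A hA (Nat.le_add_left _ _)
    refine le_inf ?_ ?_
    · obtain ⟨A, hA⟩ : ∃ A, A ∈ Cfsg.maxAbelianSubgroups S := by
        haveI : Nonempty {A : Subgroup S // IsMulCommutative A} := ⟨⟨Subgroup.center S, inferInstance⟩⟩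
        obtain ⟨⟨A, hA⟩, hmax⟩ := Finite.exists_max (fun A : {A : Subgroup S // IsMulCommutative A} => Nat.card A.1)
        exact ⟨A, hA, fun B hB => hmax ⟨B, hB⟩⟩
      have : A ⊔ D = A := (Subgroup.eq_of_le_of_card_ge le_sup_left (hA.2 _ (absorb A hA.1 (hJ A hA)))).symm
      exact (sup_eq_left.mp this).trans (le_sSup hA)
    · rw [Subgroup.le_centralizer_iff]
      refine sSup_le fun A hA a ha d hd => hJ A hA d hd a ha
  · intro A hAn hA hmax
    haveI := hAn
    haveI := hA
    have hcomm := centralize hS A (by rw [Subgroup.normalizer_eq_top]; exact le_top)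
    have := hmax (A ⊔ D) inferInstance (absorb A hA hcomm) le_sup_left
    exact sup_eq_left.mp this

end Cfsg.Agent.S3062
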