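import Cfsg.Statements.S3063
import Cfsg.Agent.Lib.Thompson.Replacement

set_option autoImplicit false
open Cfsg

namespace Cfsg.Agent.S3063

open scoped commutatorElement

theorem card_mul_card_le {S : Type*} [Group S] [Finite S] (A B K : Subgroup S) (hA : A ≤ K)
    (hB : B ≤ K) : Nat.card A * Nat.card B ≤ Nat.card K * Nat.card ↥(A ⊓ B) := by
  have h1 : A.relIndex B ≤ A.relIndex K := Subgroup.relIndex_le_of_le_right hB (Subgroup.FiniteIndex.index_ne_zero (H := A.subgroupOf K))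
  have hcard : ∀ U V : Subgroup S, U ≤ V → Nat.card U * U.relIndex V = Nat.card V := fun U V h => by
    have := Subgroup.relIndex_mul_relIndex (⊥ : Subgroup S) U V bot_le h
    rwa [Subgroup.relIndex_bot_left, Subgroup.relIndex_bot_left] at this
  rw [← hcard _ _ hA, ← hcard _ _ (inf_le_right : A ⊓ B ≤ B), Subgroup.inf_relIndex_right]
  calc Nat.card A * (Nat.card ↥(A ⊓ B) * A.relIndex B)
      ≤ Nat.card A * (Nat.card ↥(A ⊓ B) * A.relIndex K) :=
        Nat.mul_le_mul_left _ (Nat.mul_le_mul_left _ h1)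
    _ = _ := by ring

theorem result {S : Type*} [Group S] [Finite S] {p : ℕ} [Fact p.Prime]
    (hS : IsPGroup p S) (hmeta : IsMulCommutative ↥(commutator S))
    (A : Subgroup S) (hA : A ∈ Cfsg.maxAbelianSubgroups S) :
    ∃ B ∈ Cfsg.maxAbelianSubgroups S, B.Normal ∧ B ≤ Subgroup.normalClosure (A : Set S) := by
  set D := commutator S with hD
  set N := Subgroup.normalClosure (A : Set S) with hN
  obtain ⟨A₁, ⟨hA₁, hA₁N⟩, hmax⟩ := Set.exists_max_image
    {B | B ∈ Cfsg.maxAbelianSubgroups S ∧ B ≤ N} (fun B => Nat.card ↥(B ⊓ D)) (Set.toFinite _)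
    ⟨A, hA, Subgroup.le_normalClosure⟩
  refine ⟨A₁, hA₁, Subgroup.normalizer_eq_top_iff.1 (top_le_iff.1 fun g _ => ?_), hA₁N⟩
  set A₂ := A₁.map (MulAut.conj g).toMonoidHom with hA₂
  have hA₂N : A₂ ≤ N := by
    rintro _ ⟨a, ha, rfl⟩
    exact (Subgroup.normalClosure_normal : N.Normal).conj_mem a (hA₁N ha) g
  have hA₁c : IsMulCommutative ↥A₁ := hA₁.1
  have hA₂c : IsMulCommutative ↥A₂ := by rw [hA₂]; infer_instance
  set K := A₁ ⊔ A₂ with hK
  set W := D ⊓ K with hW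
  have hWn : A₁ ≤ Subgroup.normalizer (W : Set S) := by
    intro a ha
    rw [Subgroup.mem_normalizer_iff]
    intro x
    have haK : a ∈ K := (le_sup_left : A₁ ≤ K) ha
    have hDn : D.Normal := inferInstance
    refine ⟨fun hx => ⟨hDn.conj_mem x hx.1 a, K.mul_mem (K.mul_mem haK hx.2) (K.inv_mem haK)⟩,
      fun hx => ?_⟩
    have := hDn.conj_mem _ hx.1 a⁻¹
    refine ⟨by simpa [mul_assoc] using this, ?_⟩
    simpa [mul_assoc] using K.mul_mem (K.mul_mem (K.inv_mem haK) hx.2) haK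
  have hKeq : W ⊔ A₁ = K := by
    refine le_antisymm (sup_le inf_le_right le_sup_left) (sup_le le_sup_right ?_)
    rintro _ ⟨a, ha, rfl⟩
    have h1 : g * a * g⁻¹ * a⁻¹ ∈ W := by
      refine ⟨Subgroup.commutator_mem_commutator (Subgroup.mem_top g) (Subgroup.mem_top a), ?_⟩
      exact K.mul_mem ((le_sup_right : A₂ ≤ K) ⟨a, ha, rfl⟩)
        (K.inv_mem ((le_sup_left : A₁ ≤ K) ha))
    have := Subgroup.mul_mem_sup h1 ha
    rwa [inv_mul_cancel_right] at this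
  set J := A₁ ⊓ A₂ with hJ
  have hJK : K ≤ Subgroup.centralizer (J : Set S) := sup_le
    (fun a ha => Subgroup.mem_centralizer_iff.2 fun j hj => setLike_mul_comm (s := A₁) hj.1 ha)
    (fun a ha => Subgroup.mem_centralizer_iff.2 fun j hj => setLike_mul_comm (s := A₂) hj.2 ha)
  set B := W ⊔ J with hB
  have hBc : IsMulCommutative ↥B := by
    have hWW : ∀ x ∈ W, ∀ y ∈ W, x * y = y * x := fun x hx y hy =>
      setLike_mul_comm (s := D) hx.1 hy.1
    have hJK' : ∀ x ∈ K, ∀ y ∈ J, x * y = y * x := fun x hx y hy =>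
      (Subgroup.mem_centralizer_iff.1 (hJK hx) y hy).symm
    have h1 : B ≤ Subgroup.centralizer ((B : Subgroup S) : Set S) := by
      refine sup_le ?_ ?_ <;> intro x hx <;> refine Subgroup.le_centralizer_iff.1
        (sup_le (fun y hy => ?_) (fun y hy => ?_)) (Subgroup.mem_zpowers x) <;>
        refine Subgroup.mem_centralizer_iff.2 fun z hz => ?_
      all_goals obtain ⟨i, rfl⟩ := Subgroup.mem_zpowers_iff.1 hz
      · exact hWW _ (W.zpow_mem hx i) _ hy
      · exact hJK' _ (K.zpow_mem hx.2 i) _ hy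
      · exact (hJK' _ hy.2 _ (J.zpow_mem hx i)).symm
      · exact setLike_mul_comm (s := A₁) (A₁.zpow_mem hx.1 i) hy.1
    exact ⟨⟨fun x y => Subtype.ext (Subgroup.mem_centralizer_iff.1 (h1 y.2) (x : S) x.2)⟩⟩
  have hJA : J ≤ A₁ := inf_le_left
  have c1 := Thompson.card_sup_mul_card_inf (H := W) (K := A₁) hWn
  rw [hKeq] at c1
  have c2 := Thompson.card_sup_mul_card_inf (H := W) (K := J) (hJA.trans hWn)
  rw [← hB] at c2
  have c3 := card_mul_card_le A₁ A₂ K le_sup_left le_sup_right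
  have hcA : Nat.card A₂ = Nat.card A₁ :=
    Subgroup.card_map_of_injective (MulAut.conj g).injective
  rw [hcA, ← hJ] at c3
  have c4 : Nat.card ↥(W ⊓ J) ≤ Nat.card ↥(W ⊓ A₁) :=
    Subgroup.card_le_of_le (inf_le_inf_left _ hJA)
  have hBA : Nat.card B ≤ Nat.card A₁ := hA₁.2 B hBc
  -- `|B| = |A₁|`
  have hBA' : Nat.card A₁ ≤ Nat.card B := by
    have hpos : 0 < Nat.card A₁ * Nat.card ↥(W ⊓ A₁) := Nat.mul_pos Nat.card_pos Nat.card_pos
    suffices h : Nat.card A₁ * (Nat.card A₁ * Nat.card ↥(W ⊓ A₁)) ≤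
        Nat.card B * (Nat.card A₁ * Nat.card ↥(W ⊓ A₁)) from Nat.le_of_mul_le_mul_right h hpos
    calc Nat.card A₁ * (Nat.card A₁ * Nat.card ↥(W ⊓ A₁))
        = Nat.card A₁ * Nat.card A₁ * Nat.card ↥(W ⊓ A₁) := by ring
      _ ≤ Nat.card K * Nat.card J * Nat.card ↥(W ⊓ A₁) := Nat.mul_le_mul_right _ c3
      _ = Nat.card W * Nat.card A₁ * Nat.card J := by rw [← c1]; ring
      _ = Nat.card B * Nat.card ↥(W ⊓ J) * Nat.card A₁ := by rw [c2]; ring
      _ ≤ Nat.card B * Nat.card ↥(W ⊓ A₁) * Nat.card A₁ :=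
          Nat.mul_le_mul_right _ (Nat.mul_le_mul_left _ c4)
      _ = _ := by ring
  have hBN : B ≤ N := sup_le (inf_le_right.trans (sup_le hA₁N hA₂N)) (hJA.trans hA₁N)
  have hBmax : B ∈ Cfsg.maxAbelianSubgroups S :=
    ⟨hBc, fun C hC => (hA₁.2 C hC).trans hBA'⟩
  have h5 : Nat.card ↥(B ⊓ D) ≤ Nat.card ↥(A₁ ⊓ D) := hmax B ⟨hBmax, hBN⟩
  have h6 : A₁ ⊓ D ≤ W := fun x hx => ⟨hx.2, (le_sup_left : A₁ ≤ K) hx.1⟩
  have h7 : W ≤ A₁ := by
    have h8 : W ≤ B ⊓ D := le_inf le_sup_left inf_le_left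
    have := Subgroup.eq_of_le_of_card_ge h6 ((Subgroup.card_le_of_le h8).trans h5)
    exact this.ge.trans inf_le_left
  have h9 : A₂ ≤ A₁ := (le_sup_right : A₂ ≤ K).trans (hKeq.ge.trans (sup_le h7 le_rfl))
  have h10 : A₂ = A₁ := Subgroup.eq_of_le_of_card_ge h9 hcA.ge
  rw [Subgroup.mem_normalizer_iff]
  intro x
  refine ⟨fun hx => h10 ▸ ⟨x, hx, rfl⟩, fun hx => ?_⟩
  obtain ⟨y, hy, he⟩ := h10.ge hx
  exact (MulAut.conj g).injective he ▸ hy

end Cfsg.Agent.S3063
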