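import Cfsg.Statements.S3064
import Cfsg.Agent.LAE65.Isolated
import Cfsg.Agent.Lib.Frobenius.Kernel
import Cfsg.Agent.Lib.Transfer.Residual

set_option autoImplicit false
set_option linter.style.haveILetI false

open scoped Pointwise

namespace Cfsg.Agent.S3064

open Cfsg.Agent.LAE65

theorem sub_le_centralizer {G : Type*} [Group G] [Finite G] {p : ℕ} [Fact p.Prime] {x : G}
    (hb : ∀ H : Subgroup G, (Nat.card H).Coprime p → (∀ h ∈ H, x * h * x⁻¹ ∈ H) →
      ∀ h ∈ H, x * h = h * x)
    (K : Subgroup G) [K.Normal]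
    (hK : ∀ T : Sylow p ↥K, (T : Subgroup ↥K) ≤ (Subgroup.center G).subgroupOf K) :
    K ≤ Subgroup.centralizer ({x} : Set G) := by
  haveI : Nonempty (Sylow p ↥K) := inferInstance
  obtain ⟨T⟩ := (inferInstance : Nonempty (Sylow p ↥K))
  have hTc : Subgroup.normalizer ((T : Subgroup ↥K) : Set ↥K) ≤
      Subgroup.centralizer ((T : Subgroup ↥K) : Set ↥K) := by
    intro g _
    rw [Subgroup.mem_centralizer_iff]
    intro t ht
    exact Subtype.ext (Subgroup.mem_center_iff.1 (hK T ht) (g : G)).symm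
  have hnc := hasNormalPComplement_of_normalizer_le_centralizer T hTc
  have hR : ¬ p ∣ Nat.card (Cfsg.pResidual p ↥K) :=
    Transfer.hasNormalPComplement_iff_not_dvd.1 hnc
  set R := (Cfsg.pResidual p ↥K).map K.subtype with hRdef
  have hRcard : (Nat.card R).Coprime p := by
    rw [hRdef, Subgroup.card_map_of_injective K.subtype_injective]
    exact Nat.Coprime.symm ((Fact.out : p.Prime).coprime_iff_not_dvd.2 hR)
  have hinv : ∀ h ∈ R, x * h * x⁻¹ ∈ R := by
    rintro h ⟨a, ha, rfl⟩
    refine ⟨(MulAut.conjNormal x : MulAut ↥K) a, ?_, by simp⟩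
    have hle : (Cfsg.pResidual p ↥K).map (MulAut.conjNormal x : MulAut ↥K).toMonoidHom
        ≤ Cfsg.pResidual p ↥K := Transfer.map_pResidual_le _
    exact hle ⟨a, ha, rfl⟩
  have hRM := hb R hRcard hinv
  have htop := Transfer.sylow_sup_pResidual_eq_top T
  have hle : (T : Subgroup ↥K) ⊔ Cfsg.pResidual p ↥K ≤
      (Subgroup.centralizer ({x} : Set G)).subgroupOf K := by
    refine sup_le ?_ ?_
    · intro t ht
      exact Subgroup.center_le_centralizer _ (hK T ht)
    · intro a ha
      exact mem_centralizer_singleton.2 (hRM a ⟨a, ha, rfl⟩).symm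
  intro k hk
  exact hle (htop.symm ▸ Subgroup.mem_top (⟨k, hk⟩ : K))

theorem aux {G : Type*} [Group G] [Finite G] {p : ℕ} [Fact p.Prime] {x : G}
    (hx : ∃ k : ℕ, orderOf x = p ^ k) (hiso : Cfsg.IsIsolated x)
    (hb : ∀ H : Subgroup G, (Nat.card H).Coprime p → (∀ h ∈ H, x * h * x⁻¹ ∈ H) →
      ∀ h ∈ H, x * h = h * x)
    (hprop : ∀ H : Subgroup G, H ≠ ⊤ → x ∈ H → H ≤ Subgroup.centralizer ({x} : Set G)) :
    x ∈ Subgroup.center G := by
  by_contra hxc
  set M := Subgroup.centralizer ({x} : Set G) with hMdef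
  set Z := Subgroup.center G with hZdef
  have hp : p.Prime := Fact.out
  have hxM : x ∈ M := mem_centralizer_singleton.2 rfl
  have hZM : Z ≤ M := Subgroup.center_le_centralizer _
  have key : ∀ g, g ∉ M → ∀ u ∈ M, g⁻¹ * u * g ∈ M → u ∈ Z := by
    intro g hg u hu hu'
    by_contra huZ
    set C := Subgroup.centralizer ({u} : Set G) with hCdef
    have hCtop : C ≠ ⊤ := by
      intro h
      refine huZ (Subgroup.mem_center_iff.2 fun a => ?_)
      have ha : a ∈ C := h ▸ Subgroup.mem_top a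
      exact mem_centralizer_singleton.1 ha
    have hxC : x ∈ C := mem_centralizer_singleton.2 (mem_centralizer_singleton.1 hu).symm
    have hCM := hprop C hCtop hxC
    have hyC : g * x * g⁻¹ ∈ C := by
      refine mem_centralizer_singleton.2 ?_
      have h1 := mem_centralizer_singleton.1 hu'
      calc g * x * g⁻¹ * u = g * (x * (g⁻¹ * u * g)) * g⁻¹ := by group
        _ = g * ((g⁻¹ * u * g) * x) * g⁻¹ := by rw [h1]
        _ = u * (g * x * g⁻¹) := by group
    have h2 : Commute x (g * x * g⁻¹) := (mem_centralizer_singleton.1 (hCM hyC)).symm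
    exact hg (mem_centralizer_singleton_conj.2 (hiso g h2))
  set π := QuotientGroup.mk' Z with hπ
  set H := M.map π with hHdef
  have hcomap : H.comap π = M := by
    rw [hHdef, Subgroup.comap_map_eq, hπ, QuotientGroup.ker_mk', sup_eq_left.2 hZM]
  have hMtop : M ≠ ⊤ := by
    intro h
    refine hxc (Subgroup.mem_center_iff.2 fun a => ?_)
    have ha : a ∈ M := h ▸ Subgroup.mem_top a
    exact mem_centralizer_singleton.1 ha
  have hxH : π x ∈ H := ⟨x, hxM, rfl⟩
  have hx1 : π x ≠ 1 := fun h => hxc ((QuotientGroup.eq_one_iff x).1 h)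
  have hFr : Cfsg.IsFrobeniusComplement H := by
    refine ⟨?_, ?_, ?_⟩
    · intro h
      rw [h] at hxH
      exact hx1 (Subgroup.mem_bot.1 hxH)
    · intro h
      rw [h, Subgroup.comap_top] at hcomap
      exact hMtop hcomap.symm
    · intro gb hgb
      obtain ⟨g, rfl⟩ := QuotientGroup.mk_surjective gb
      have hgM : g ∉ M := fun h => hgb ⟨g, h, rfl⟩
      rw [Subgroup.eq_bot_iff_forall]
      rintro ub ⟨hub, hub'⟩
      obtain ⟨u, hu, rfl⟩ := hub
      have h' : π (g⁻¹ * u * g) ∈ H := by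
        have := Frobenius.mem_conj_smul.1 hub'
        simpa [hπ] using this
      have hu' : g⁻¹ * u * g ∈ M := hcomap ▸ h'
      exact (QuotientGroup.eq_one_iff u).2 (key g hgM u hu hu')
  obtain ⟨N, -, hNn, hNc⟩ := Frobenius.exists_frobeniusKernel_subgroup hFr
  have hpH : p ∣ Nat.card H := by
    obtain ⟨k, hk⟩ := hx
    have h1 : orderOf (π x) ∣ p ^ k := hk ▸ orderOf_map_dvd π x
    obtain ⟨j, -, hj⟩ := (Nat.dvd_prime_pow hp).1 h1
    have hj0 : j ≠ 0 := by
      rintro rfl
      exact hx1 (orderOf_eq_one_iff.1 (by rw [hj, pow_zero]))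
    have h2 : orderOf (π x) ∣ Nat.card H :=
      Subgroup.orderOf_dvd_natCard H hxH
    exact dvd_trans (hj ▸ dvd_pow_self p hj0) h2
  have hpN : ¬ p ∣ Nat.card N := by
    intro h
    have hcard : Nat.card N = H.index := by
      have h3 := hNc.card_mul_card
      rw [← H.index_mul_card] at h3
      exact Nat.eq_of_mul_eq_mul_right Nat.card_pos h3
    have hco := Frobenius.coprime_card_index hFr
    exact hp.one_lt.ne' (Nat.dvd_one.1 (hco ▸ Nat.dvd_gcd hpH (hcard ▸ h)))
  haveI := hNn
  have hKM : N.comap π ≤ M := by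
    refine sub_le_centralizer hb (N.comap π) fun T t ht => ?_
    have ht1 : π (t : G) ∈ N := t.2
    obtain ⟨k, hk⟩ := IsPGroup.iff_orderOf.1 T.2 ⟨t, ht⟩
    rw [Subgroup.orderOf_mk] at hk
    have h1 : orderOf (π (t : G)) ∣ p ^ k := by
      rw [← hk, ← Subgroup.orderOf_coe t]
      exact orderOf_map_dvd π _
    have h2 : orderOf (π (t : G)) ∣ Nat.card N := Subgroup.orderOf_dvd_natCard N ht1
    have h3 : orderOf (π (t : G)) ∣ 1 := by
      rw [← Nat.Coprime.gcd_eq_one ((hp.coprime_iff_not_dvd.2 hpN).pow_left k)]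
      exact Nat.dvd_gcd h1 h2
    exact Subgroup.mem_subgroupOf.2 ((QuotientGroup.eq_one_iff _).1
      (orderOf_eq_one_iff.1 (Nat.dvd_one.1 h3)))
  have hNH : N ≤ H := by
    intro a ha
    obtain ⟨g, rfl⟩ := QuotientGroup.mk_surjective a
    exact ⟨g, hKM ha, rfl⟩
  have hsup := hNc.sup_eq_top
  rw [sup_eq_right.2 hNH] at hsup
  exact hFr.2.1 hsup

theorem result.{u} {G : Type u} [Group G] [Finite G] {p : ℕ} [Fact p.Prime]
    (S : Sylow p G) (x : G) (hx : x ∈ S)
    (hU : ∀ g : G, g⁻¹ * x * g ∈ S → g⁻¹ * x * g = x)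
    (hb : ∀ H : Subgroup G, (Nat.card H).Coprime p → (∀ h ∈ H, x * h * x⁻¹ ∈ H) → ∀ h ∈ H, x * h = h * x) :
    x ∈ Subgroup.center G := by
  have hxp : ∃ k : ℕ, orderOf x = p ^ k := by
    obtain ⟨k, hk⟩ := IsPGroup.iff_orderOf.1 S.2 ⟨x, hx⟩
    exact ⟨k, by rwa [Subgroup.orderOf_mk] at hk⟩
  have hiso : Cfsg.IsIsolated x := by
    intro g hc
    have hA : IsPGroup p (Subgroup.zpowers x) := isPGroup_zpowers hxp
    have hB : IsPGroup p (Subgroup.zpowers (g * x * g⁻¹)) := by
      obtain ⟨k, hk⟩ := hxp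
      exact isPGroup_zpowers ⟨k, by rw [← MulAut.conj_apply, MulEquiv.orderOf_eq, hk]⟩
    have hle : Subgroup.zpowers (g * x * g⁻¹) ≤
        Subgroup.normalizer ((Subgroup.zpowers x : Subgroup G) : Set G) := by
      refine Subgroup.zpowers_le.2 (Subgroup.mem_normalizer_iff_map_conj_eq.2 ?_)
      rw [MonoidHom.map_zpowers]
      congr 1
      show g * x * g⁻¹ * x * (g * x * g⁻¹)⁻¹ = x
      rw [← hc.eq]; group
    obtain ⟨T, hT⟩ := (hA.to_sup_of_normal_left' hB hle).exists_le_sylow
    obtain ⟨a, ha⟩ := MulAction.exists_smul_eq G T S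
    have hmem : ∀ {z : G}, z ∈ (T : Subgroup G) → a * z * a⁻¹ ∈ (S : Subgroup G) := by
      intro z hz
      rw [← ha, Sylow.coe_subgroup_smul]
      exact Frobenius.conj_mem_conj_smul hz
    have h1 := hmem (hT (Subgroup.mem_sup_left (Subgroup.mem_zpowers x)))
    have h2 := hmem (hT (Subgroup.mem_sup_right (Subgroup.mem_zpowers (g * x * g⁻¹))))
    have e1 : a * x * a⁻¹ = x := by simpa using hU a⁻¹ (by rw [inv_inv]; exact h1)
    have e2 : a * g * x * (a * g)⁻¹ = x := by
      have h2' : a * g * x * (a * g)⁻¹ ∈ (S : Subgroup G) := by simpa [mul_assoc] using h2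
      simpa [mul_assoc] using hU (a * g)⁻¹ (by rw [inv_inv]; exact h2')
    calc g * x * g⁻¹ = a⁻¹ * (a * g * x * (a * g)⁻¹) * a := by group
      _ = a⁻¹ * (a * x * a⁻¹) * a := by rw [e2, e1]
      _ = x := by group
  have key : ∀ (n : ℕ) (H : Subgroup G), Nat.card H = n → x ∈ H →
      H ≤ Subgroup.centralizer ({x} : Set G) := by
    intro n
    induction n using Nat.strong_induction_on with
    | _ n ih =>
      intro H hn hxH
      have hres : (⟨x, hxH⟩ : H) ∈ Subgroup.center ↥H := by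
        refine aux (p := p) ?_ ?_ ?_ ?_
        · obtain ⟨k, hk⟩ := hxp
          exact ⟨k, by rw [Subgroup.orderOf_mk, hk]⟩
        · intro g hg
          exact Subtype.ext (hiso g (congrArg Subtype.val hg))
        · intro K hK hinv h hh
          refine Subtype.ext (hb (K.map H.subtype) ?_ ?_ h ⟨h, hh, rfl⟩)
          · rwa [Subgroup.card_map_of_injective H.subtype_injective]
          · rintro _ ⟨a, ha, rfl⟩
            exact ⟨_, hinv a ha, rfl⟩
        · intro K hK hxK a ha
          have hlt : Nat.card (K.map H.subtype) < n := by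
            rw [Subgroup.card_map_of_injective H.subtype_injective, ← hn]
            exact lt_of_le_of_ne (Nat.le_of_dvd Nat.card_pos K.card_subgroup_dvd_card)
              fun h => hK (Subgroup.eq_top_of_card_eq K h)
          have := ih _ hlt _ rfl ⟨⟨x, hxH⟩, hxK, rfl⟩ ⟨a, ha, rfl⟩
          exact mem_centralizer_singleton.2 (Subtype.ext (mem_centralizer_singleton.1 this))
      intro a ha
      exact mem_centralizer_singleton.2
        (congrArg Subtype.val (Subgroup.mem_center_iff.1 hres ⟨a, ha⟩))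
  refine Subgroup.mem_center_iff.2 fun a => ?_
  exact mem_centralizer_singleton.1 (key _ ⊤ rfl (Subgroup.mem_top x) (Subgroup.mem_top a))

end Cfsg.Agent.S3064
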