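import Cfsg.Statements.S3070
import Cfsg.Agent.LocalEvenD.JSolvable.Reduced
import Cfsg.Agent.LocalEven61.ZJFunctor
import Cfsg.Agent.LocalEven62.GlaubWC.MaxAb

set_option autoImplicit false
set_option linter.style.haveILetI false
open Cfsg

namespace Cfsg.Agent.S3070

open ConjFunctor LocalEven62 PComplement

universe u

theorem isCharPFunctor_thompsonA (p : ℕ) [Fact p.Prime] :
    Cfsg.IsCharPFunctor.{u} p (fun Q _ => Cfsg.thompsonSubgroupA Q) := by
  refine ⟨fun Q _ _ hQ _ h => ?_, fun _ _ _ _ _ _ φ => LocalEven61.map_thompsonSubgroupA φ⟩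
  refine LocalEven61.zjA_ne_bot hQ (le_bot_iff.1 ?_)
  exact inf_le_left.trans h.le

variable {G : Type*} [Group G] [Finite G] {p : ℕ} [hp : Fact p.Prime]

/-- A normaliser in which the elements of order prime to `p` centralise `J(S)` has a complement. -/
theorem complement_normalizer (S : Sylow p G)
    (h : ∀ g ∈ Subgroup.normalizer (Cfsg.thompsonSubgroupAOf (S : Subgroup G) : Set G),
      (orderOf g).Coprime p → g ∈ Subgroup.centralizer (Cfsg.thompsonSubgroupAOf (S : Subgroup G) : Set G)) :
    HasNormalPComplement p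
      ↥(Subgroup.normalizer (Cfsg.thompsonSubgroupAOf (S : Subgroup G) : Set G)) := by
  set U := Cfsg.thompsonSubgroupAOf (S : Subgroup G) with hU
  set N := Subgroup.normalizer (U : Set G) with hN
  have hSN : (S : Subgroup G) ≤ N := Subgroup.le_normalizer.trans
    (normalizer_le_normalizer_jA (S : Subgroup G))
  set C := Subgroup.centralizer (U : Set G) with hC
  have hCN : C ≤ N := Subgroup.centralizer_le_normalizer _
  have hR : IsSylowIn p ((S : Subgroup G) ⊓ C) C := by
    refine isSylowIn_inf_of_normal (sylow_isSylowIn S hSN) hCN fun n hn =>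
      mem_nrm_of_forall fun c hc => Subgroup.mem_centralizer_iff.2 fun u hu => ?_
    have h1 := Subgroup.mem_centralizer_iff.1 hc (n⁻¹ * u * n)
      (by simpa using conj_mem_of_nrm (N.inv_mem hn) hu)
    calc u * (n * c * n⁻¹) = n * ((n⁻¹ * u * n) * c) * n⁻¹ := by group
      _ = n * (c * (n⁻¹ * u * n)) * n⁻¹ := by rw [h1]
      _ = _ := by group
  have hRU : (S : Subgroup G) ⊓ C ≤ U := by
    intro x hx
    obtain ⟨A, hA⟩ := exists_mAb (S : Subgroup G)
    exact hA.le_jA (hA.mem_of_commute hx.1 fun a ha =>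
      (show Commute a x from Subgroup.mem_centralizer_iff.1 hx.2 a (hA.le_jA ha)).symm)
  obtain ⟨R, hReq⟩ := hR.exists_sylow
  have hCc : HasNormalPComplement p ↥C := by
    refine Transfer.hasNormalPComplement_of_normalizer_centralizer R fun Q hQ _ g _ _ =>
      Subgroup.mem_centralizer_iff.2 fun q hq => Subtype.ext ?_
    exact Subgroup.mem_centralizer_iff.1 g.2 q (hRU (hReq ▸ Subgroup.mem_map_of_mem C.subtype (hQ hq)))
  have hle : pResidual p ↥N ≤ (pResidual p ↥C).map (Subgroup.inclusion hCN) := by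
    rw [Transfer.pResidual_le_iff]
    intro g hg
    have hgC : (g : G) ∈ C := h g g.2 (by rwa [Subgroup.orderOf_coe])
    exact ⟨⟨g, hgC⟩, Transfer.mem_pResidual_of_coprime (by rwa [Subgroup.orderOf_mk,
      Subgroup.orderOf_coe]), rfl⟩
  rw [Transfer.hasNormalPComplement_iff_not_dvd] at hCc ⊢
  intro hd
  refine hCc ((hd.trans (Subgroup.card_dvd_of_le hle)).trans (Subgroup.card_map_dvd _ _))

theorem result {G : Type*} [Group G] [Finite G] {p : ℕ} [Fact p.Prime]
    (hp : 5 ≤ p) (S : Sylow p G) :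
    Cfsg.HasNormalPComplement p G ↔
      ∀ g ∈ Subgroup.normalizer (Cfsg.thompsonSubgroupAOf (S : Subgroup G) : Set G), (orderOf g).Coprime p →
        g ∈ Subgroup.centralizer (Cfsg.thompsonSubgroupAOf (S : Subgroup G) : Set G) := by
  refine ⟨fun hG g hg hgc => Transfer.mem_centralizer_of_hasNormalPComplement hG
    (S.isPGroup'.to_le (jA_le _)) hg hgc, fun h => ?_⟩
  refine hasNormalPComplement_of_functor (isCharPFunctor_thompsonA p)
    (fun X _ _ P V K _ hred hNX => ?_) S (complement_normalizer S h)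
  refine not_normal_of_reduced hred hNX ?_
  haveI hVn : V.Normal := hred.eq_pCore ▸ inferInstance
  have hJ : jA (P : Subgroup X) ≤ V := by
    rw [jA_eq_sSup]
    exact sSup_le fun A hA => LocalEvenD.JSolvable.maxAbelian_le hred hp hA.1 hA.2.1 hA.2.2
  have he := jA_eq_of_le hred.le_sylow hJ
  rw [← Subgroup.normalizer_eq_top_iff, eq_top_iff, ← Subgroup.normalizer_eq_top V]
  exact (normalizer_le_normalizer_jA V).trans (by rw [he]; exact le_rfl)

end Cfsg.Agent.S3070
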