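import Cfsg.Statements.S3068
import Cfsg.Agent.S3070
import Cfsg.Agent.LAE65.JTransfer.Engel
import Cfsg.Agent.Lib.Transfer.Tate

set_option linter.style.haveILetI false

set_option autoImplicit false
open Cfsg

namespace Cfsg.Agent.S3068

open ConjFunctor

universe u

theorem controls {G : Type u} [Group G] [Finite G] {p : ℕ} [Fact p.Prime] (hp : 7 ≤ p) :
    ControlsTransferIn p (inducedFunctor (G := G) fun Q _ => Cfsg.thompsonSubgroupA Q) ⊤ := by
  refine controlsTransfer_of_engel (S3070.isCharPFunctor_thompsonA p) (G := G)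
    (fun H _ _ _ _ T hn => ?_) G (isSec_refl G)
  obtain ⟨g, hg, hgQ, he⟩ := LAE65.JTransfer.exists_engel_six T hn
  refine ⟨g, hg, hgQ, fun U V h hU => ?_⟩
  haveI := h.2.1
  exact (iterCommutator_antitone (by rw [nrm_eq_top]; exact le_top) (by omega)).trans (he U V h hU)

/-- A subgroup over a Sylow subgroup controlling transfer has the same largest `p`-quotient. -/
theorem iso_of_commutator {G : Type u} [Group G] [Finite G] {p : ℕ} [hp : Fact p.Prime]
    (S : Sylow p G) (M : Subgroup G) (hSM : (S : Subgroup G) ≤ M)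
    (h : (S : Subgroup G) ⊓ commutator G ≤ ⁅M, M⁆)
    [(Cfsg.pResidual p G).Normal] [(Cfsg.pResidual p ↥M).Normal] :
    Nonempty (G ⧸ Cfsg.pResidual p G ≃* ↥M ⧸ Cfsg.pResidual p ↥M) := by
  set N := Cfsg.pResidual p G with hN
  let f : ↥M →* G ⧸ N := (QuotientGroup.mk' N).comp M.subtype
  have hidx : ¬ p ∣ M.index := fun hd =>
    S.not_dvd_index (hd.trans (Subgroup.index_dvd_of_le hSM))
  have hsurj : Function.Surjective f := by
    intro y
    obtain ⟨g, rfl⟩ := QuotientGroup.mk'_surjective N y
    obtain ⟨m, hm, n, hn, rfl⟩ := Subgroup.mem_sup_of_normal_right.1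
      ((Transfer.sup_pResidual_eq_top (p := p) hidx).ge (Subgroup.mem_top g))
    refine ⟨⟨m, hm⟩, ?_⟩
    show QuotientGroup.mk' N m = QuotientGroup.mk' N (m * n)
    rw [map_mul, show QuotientGroup.mk' N n = 1 from (QuotientGroup.eq_one_iff n).2 hn, mul_one]
  have hker : f.ker = Cfsg.pResidual p ↥M := by
    have hle : Cfsg.pResidual p ↥M ≤ f.ker := fun x hx =>
      (QuotientGroup.eq_one_iff (x : G)).2
        (Transfer.map_pResidual_le M.subtype (Subgroup.mem_map_of_mem M.subtype hx))
    refine le_antisymm (fun x hx => ?_) hle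
    let SM : Sylow p ↥M := S.subtype hSM
    have htop : (SM : Subgroup ↥M) ⊔ Cfsg.pResidual p ↥M = ⊤ :=
      Transfer.sup_pResidual_eq_top SM.not_dvd_index
    obtain ⟨s, hs, r, hr, rfl⟩ := Subgroup.mem_sup_of_normal_right.1
      (htop.ge (Subgroup.mem_top x))
    have hsS : (s : G) ∈ (S : Subgroup G) := hs
    have hsf : f s = 1 := by
      have h1 : f (s * r) = 1 := hx
      rwa [map_mul, show f r = 1 from hle hr, mul_one] at h1
    have hsN : (s : G) ∈ N := (QuotientGroup.eq_one_iff (s : G)).1 hsf
    have h2 := (Transfer.sylow_inf_pResidual_eq_of_le_commutator S hSM h).le ⟨hsS, hsN⟩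
    obtain ⟨s', hs', he⟩ := h2.2
    exact (Cfsg.pResidual p ↥M).mul_mem (M.subtype_injective he ▸ hs') hr
  exact ⟨((QuotientGroup.quotientMulEquivOfEq hker.symm).trans
    (QuotientGroup.quotientKerEquivOfSurjective f hsurj)).symm⟩

/-- Let p ≥ 7 be a prime, S a Sylow p-subgroup of the finite group G, J(S) the subgroup generated by the abelian subgroups of S of largest order and M = N_G(J(S)). Then G/O^p(G) ≅ M/O^p(M): the largest p-factor group of G is that of M (here O^p(X) is the subgroup generated by the elements of X of order prime to p). -/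
theorem result {G : Type*} [Group G] [Finite G] {p : ℕ} [Fact p.Prime]
    (hp : 7 ≤ p) (S : Sylow p G)
    [hn : (Cfsg.pResidual p G).Normal]
    [hm : (Cfsg.pResidual p ↥(Subgroup.normalizer (Cfsg.thompsonSubgroupAOf (S : Subgroup G) : Set G))).Normal] :
    Nonempty (G ⧸ Cfsg.pResidual p G ≃*
      ↥(Subgroup.normalizer (Cfsg.thompsonSubgroupAOf (S : Subgroup G) : Set G)) ⧸
        Cfsg.pResidual p ↥(Subgroup.normalizer (Cfsg.thompsonSubgroupAOf (S : Subgroup G) : Set G))) := by
  have hW := S3070.isCharPFunctor_thompsonA.{u_1} p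
  have h := inf_commutator_eq_of_controls hW (controls (G := G) hp) S
  exact iso_of_commutator S _ (Subgroup.le_normalizer.trans
    (LocalEven62.normalizer_le_normalizer_jA (S : Subgroup G))) (h.le.trans inf_le_right)

end Cfsg.Agent.S3068
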