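import Cfsg.Statements.S3069
import Cfsg.Agent.ConjFunctor.TransferControl
import Cfsg.Agent.LocalEven62.Basic

set_option autoImplicit false
open Cfsg

namespace Cfsg.Agent.S3069

/-- Let p ≥ 7 be a prime and S a nontrivial Sylow p-subgroup of the finite group G. If N_G(S)/C_G(S) is a p-group (every element of N_G(S) of order prime to p centralizes S), then O^p(G) < G, i.e. G has a nontrivial p-factor group. -/
theorem result {G : Type*} [Group G] [Finite G] {p : ℕ} [Fact p.Prime]
    (hp : 7 ≤ p) (S : Sylow p G) (hS : (S : Subgroup G) ≠ ⊥)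
    (hN : ∀ g ∈ Subgroup.normalizer ((S : Subgroup G) : Set G), (orderOf g).Coprime p →
      g ∈ Subgroup.centralizer ((S : Subgroup G) : Set G)) :
    Cfsg.pResidual p G ≠ ⊤ := by
  obtain ⟨N, hNn, hNi⟩ := ConjFunctor.exists_index_prime S
    (ConjFunctor.not_le_commutator_of_controls (ConjFunctor.KInf.isCharPFunctor p).1 (G := G)
      (fun H _ _ _ => ConjFunctor.kInf_controlsTransfer (by omega) H) G (ConjFunctor.isSec_refl G) S hS hN)
  intro htop
  have hle : Cfsg.pResidual p G ≤ N := by
    rw [Cfsg.pResidual, Subgroup.closure_le]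
    intro g hg
    have h1 : orderOf (QuotientGroup.mk' N g) ∣ Nat.gcd (orderOf g) p := by
      refine Nat.dvd_gcd (orderOf_map_dvd _ _) ?_
      have := hNn
      rw [← hNi, Subgroup.index]
      exact orderOf_dvd_natCard _
    rw [Nat.Coprime.gcd_eq_one hg, Nat.dvd_one, orderOf_eq_one_iff, QuotientGroup.mk'_apply,
      QuotientGroup.eq_one_iff] at h1
    exact h1
  rw [htop, top_le_iff] at hle
  rw [hle, Subgroup.index_top] at hNi
  exact (Fact.out : p.Prime).one_lt.ne hNi

end Cfsg.Agent.S3069
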