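import Cfsg.Statements.S3071
import Cfsg.Agent.LocalEvenD.StrongCtlD
import Cfsg.Agent.LocalEven61.Involves
import Cfsg.Agent.PLocalB.QdStable

set_option autoImplicit false
set_option linter.style.haveILetI false
open Cfsg

namespace Cfsg.Agent.S3071

open Cfsg.Agent.ConjFunctor

universe u

variable {p : ℕ} [Fact p.Prime]

/-- No `SL(2, p)` section in the normalizers of the subgroups between `Z(S)` and `S`. -/
def Free (p : ℕ) [Fact p.Prime] (H : Type u) [Group H] : Prop :=
  ∀ (S : Sylow p H) (P : Subgroup H),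
    (S : Subgroup H) ⊓ Subgroup.centralizer ((S : Subgroup H) : Set H) ≤ P → P ≤ S →
      ¬ Cfsg.Involves (Matrix.SpecialLinearGroup (Fin 2) (ZMod p))
        ↥(Subgroup.normalizer (P : Set H))

variable {H : Type u} [Group H] [Finite H]

theorem involves_of_injective {A B : Type*} [Group A] [Group B] {X : Type*} [Group X] (j : A →* B)
    (hj : Function.Injective j) (h : Cfsg.Involves X A) : Cfsg.Involves X B :=
  LocalEven61.involves_trans h
    (LocalEven61.involves_of_hom (MonoidHom.id A) Function.surjective_id j hj)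

theorem free_of_one (S : Sylow p H)
    (h : ∀ P : Subgroup H,
      (S : Subgroup H) ⊓ Subgroup.centralizer ((S : Subgroup H) : Set H) ≤ P → P ≤ S →
        ¬ Cfsg.Involves (Matrix.SpecialLinearGroup (Fin 2) (ZMod p))
          ↥(Subgroup.normalizer (P : Set H))) : Free p H := by
  intro S' P hZP hPS hinv
  obtain ⟨g, hg, hgS⟩ := (isSylowIn_top S).exists_cnj_eq (isSylowIn_top S')
  -- `S = g S' g⁻¹`
  refine h (cnj g P) ?_ (by rw [← hgS]; exact cnj_le_cnj.2 hPS) ?_
  · intro z hz
    obtain ⟨w, hw, rfl⟩ : z ∈ cnj g (S' : Subgroup H) := by rw [hgS]; exact hz.1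
    refine ⟨w, hZP ⟨hw, Subgroup.mem_centralizer_iff.2 fun y hy => ?_⟩, rfl⟩
    have h1 := Subgroup.mem_centralizer_iff.1 hz.2 _ (hgS.le (conj_mem_cnj.2 hy))
    refine (MulAut.conj g).injective ?_
    rw [map_mul, map_mul]
    exact h1
  · show Cfsg.Involves _ ↥(nrm (cnj g P))
    rw [← cnj_nrm]
    exact involves_of_injective
      ((Subgroup.normalizer (P : Set H)).equivMapOfInjective _ (MulAut.conj g).injective).toMonoidHom
      (MulEquiv.injective _) hinv

theorem free_subgroup (hH : Free p H) (S : Sylow p H) (M : Subgroup H)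
    (hSM : IsSylowIn p ((S : Subgroup H) ⊓ M) M)
    (hZ : (S : Subgroup H) ⊓ Subgroup.centralizer ((S : Subgroup H) : Set H) ≤ M) :
    Free p ↥M := by
  obtain ⟨Q, hQ⟩ := hSM.exists_sylow
  refine free_of_one Q fun P hZP hPQ hinv => ?_
  refine hH S (P.map M.subtype) ?_ ?_ ?_
  · intro z hz
    obtain ⟨w, hw, rfl⟩ : z ∈ (Q : Subgroup ↥M).map M.subtype := by rw [hQ]; exact ⟨hz.1, hZ hz⟩
    refine ⟨w, hZP ⟨hw, Subgroup.mem_centralizer_iff.2 fun y hy => Subtype.ext ?_⟩, rfl⟩
    exact Subgroup.mem_centralizer_iff.1 hz.2 (y : H) (hQ.le ⟨y, hy, rfl⟩).1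
  · exact ((Subgroup.map_mono hPQ).trans hQ.le).trans inf_le_left
  · refine involves_of_injective
      ((M.subtype.comp (Subgroup.normalizer (P : Set ↥M)).subtype).codRestrict _
        fun y => Subgroup.le_normalizer_map M.subtype ⟨(y : ↥M), y.2, rfl⟩) ?_ hinv
    exact (MonoidHom.injective_codRestrict _ _ _).2
      (M.subtype_injective.comp (Subgroup.subtype_injective _))

theorem free_quotient (hH : Free p H) (N : Subgroup H) [N.Normal]
    (hN : ∀ (S : Sylow p H) (B : Subgroup (H ⧸ N)),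
      B ≤ (S : Subgroup H).map (QuotientGroup.mk' N) →
      Subgroup.normalizer (B : Set (H ⧸ N)) ≤ (Subgroup.normalizer
        (((S : Subgroup H) ⊓ B.comap (QuotientGroup.mk' N) : Subgroup H) : Set H)).map
          (QuotientGroup.mk' N)) :
    Free p (H ⧸ N) := by
  obtain ⟨S⟩ : Nonempty (Sylow p H) := inferInstance
  refine free_of_one (S.mapSurjective (QuotientGroup.mk'_surjective N)) fun B hZB hBS hinv => ?_
  rw [Sylow.coe_mapSurjective] at hZB hBS
  set f := QuotientGroup.mk' N with hf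
  set P := (S : Subgroup H) ⊓ B.comap f with hP
  refine hH S P (fun z hz => ⟨hz.1, hZB ⟨⟨z, hz.1, rfl⟩, Subgroup.mem_centralizer_iff.2 ?_⟩⟩)
    inf_le_left ?_
  · rintro _ ⟨y, hy, rfl⟩
    rw [← map_mul, Subgroup.mem_centralizer_iff.1 hz.2 y hy, map_mul]
  · have h1 := involves_of_injective (Subgroup.inclusion (hN S B hBS))
      (Subgroup.inclusion_injective _) hinv
    exact LocalEven61.involves_trans h1 (LocalEven61.involves_of_hom
      (f.subgroupMap (Subgroup.normalizer (P : Set H))) (MonoidHom.subgroupMap_surjective _ _)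
      (MonoidHom.id _) fun _ _ e => e)

theorem free_quotient_pCore (hH : Free p H) : Free p (H ⧸ pCore p H) := by
  refine free_quotient hH _ fun S B hBS => ?_
  set f := QuotientGroup.mk' (pCore p H) with hf
  have e : (S : Subgroup H) ⊓ B.comap f = B.comap f := by
    refine inf_eq_right.2 ((Subgroup.comap_mono hBS).trans ?_)
    rw [Subgroup.comap_map_eq, hf, QuotientGroup.ker_mk',
      sup_eq_left.2 (Thompson.pCore_le_sylow S)]
  rw [e]
  intro y hy
  obtain ⟨g, rfl⟩ := QuotientGroup.mk'_surjective (pCore p H) y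
  exact ⟨g, Subgroup.le_normalizer_comap f hy, rfl⟩

theorem free_quotient_pPrimeCore (hH : Free p H) : Free p (H ⧸ pPrimeCore p H) := by
  refine free_quotient hH _ fun S B hBS => ?_
  set f := QuotientGroup.mk' (pPrimeCore p H) with hf
  rw [PLocalB.map_normalizer_eq _ _ Thompson.card_pPrimeCore_coprime (S.2.to_le inf_le_left)]
  have e : ((S : Subgroup H) ⊓ B.comap f).map f = B := by
    refine le_antisymm (Subgroup.map_le_iff_le_comap.2 inf_le_right) fun b hb => ?_
    obtain ⟨y, hy, rfl⟩ := hBS hb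
    exact ⟨y, ⟨hy, hb⟩, rfl⟩
  rw [e]

theorem normal_of_constr (hp : p ≠ 2) (hH : Free p H) (hc : Constr p H) (S : Sylow p H)
    {D : Subgroup H} (hD : Cfsg.IsStronglyClosed D (S : Subgroup H)) :
    (Cfsg.centerThompsonAOf D).Normal := by
  rw [PLocalB.centerThompsonAOf_eq_core]
  refine LocalEvenD.core_normal_of_stronglyClosed (PLocalB.abelianFamily H) hp hc S
    (fun B _ hB a _ hq => ?_) hD.1 hD.2
  by_contra ha
  refine hH S (pCore p H) ?_ (Thompson.pCore_le_sylow S) ?_
  · intro z hz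
    refine hc (Subgroup.mem_centralizer_iff.2 fun y hy => ?_)
    exact Subgroup.mem_centralizer_iff.1 hz.2 y (Thompson.pCore_le_sylow S hy)
  · rw [Subgroup.normalizer_eq_top (pCore p H)]
    exact involves_of_injective (Subgroup.topEquiv (G := H)).symm.toMonoidHom (MulEquiv.injective _)
      (PLocalB.exists_sl_section_of_not_stable hp B hB a hq ha)

theorem strongCtlD_of_free (hp : p ≠ 2) : ∀ (n : ℕ) (K : Type u) [Group K] [Finite K],
    Nat.card K ≤ n → Free p K → LocalEvenD.StrongCtlD (LocalEvenD.centreA hp) K := by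
  intro n
  induction n using Nat.strong_induction_on with
  | _ n ih =>
    intro K _ _ hn hK
    have hlt : ∀ N : Subgroup K, ∀ [N.Normal], N ≠ ⊥ → Nat.card (K ⧸ N) < n := by
      intro N _ hN
      have h1 := Subgroup.card_eq_card_quotient_mul_card_subgroup N
      have h2 : 1 < Nat.card ↥N := (Subgroup.one_lt_card_iff_ne_bot N).2 hN
      calc Nat.card (K ⧸ N) < Nat.card (K ⧸ N) * Nat.card ↥N :=
            lt_mul_of_one_lt_right Nat.card_pos h2
        _ ≤ n := h1 ▸ hn
    refine (LocalEvenD.strongCtlD_step' _ (fun M hM S hS hZ => ?_)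
      (fun h => ih _ (hlt _ h) _ le_rfl (free_quotient_pPrimeCore hK))
      (fun h => ih _ (hlt _ h) _ le_rfl (free_quotient_pCore hK))).elim id
      fun hc S D hD A g _ _ => ⟨g, ?_, fun _ _ => rfl⟩
    · exact ih _ (((Subgroup.card_le_card_group M).lt_of_ne fun he =>
        hM (Subgroup.eq_top_of_card_eq M he)).trans_le hn) ↥M le_rfl (free_subgroup hK S M hS hZ)
    · exact (Subgroup.normalizer_eq_top_iff.2 (normal_of_constr hp hK hc S hD)).ge trivial

theorem result {G : Type*} [Group G] [Finite G] {p : ℕ} [Fact p.Prime]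
    (hp : p ≠ 2) (S : Sylow p G)
    (hfree : ∀ P : Subgroup G, (S : Subgroup G) ⊓ Subgroup.centralizer ((S : Subgroup G) : Set G) ≤ P → P ≤ S →
      ¬ ∃ (H K : Subgroup G) (hK : (K.subgroupOf H).Normal), H ≤ Subgroup.normalizer (P : Set G) ∧
        Nonempty ((H ⧸ K.subgroupOf H) ≃* Matrix.SpecialLinearGroup (Fin 2) (ZMod p))) :
    ∀ x ∈ S, ∀ y ∈ S, (∃ g : G, g * x * g⁻¹ = y) ↔
      ∃ n ∈ Subgroup.normalizer (Cfsg.centerThompsonAOf (S : Subgroup G) : Set G), n * x * n⁻¹ = y := by
  have hF : Free p G := free_of_one S fun P hZ hPS hinv => by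
    set N := Subgroup.normalizer (P : Set G) with hN
    obtain ⟨K, f, hf⟩ := LocalEven61.exists_surjective_of_involves hinv
    let e := K.equivMapOfInjective N.subtype N.subtype_injective
    let k := f.comp e.symm.toMonoidHom
    have hk : (k.ker.map (K.map N.subtype).subtype).subgroupOf (K.map N.subtype) = k.ker :=
      Subgroup.comap_map_eq_self_of_injective Subtype.val_injective _
    haveI hn : ((k.ker.map (K.map N.subtype).subtype).subgroupOf (K.map N.subtype)).Normal := by
      rw [hk]; infer_instance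
    exact hfree P hZ hPS ⟨K.map N.subtype, k.ker.map (K.map N.subtype).subtype, hn,
      Subgroup.map_subtype_le K, ⟨(QuotientGroup.quotientMulEquivOfEq hk).trans
        (QuotientGroup.quotientKerEquivOfSurjective k (hf.comp e.symm.surjective))⟩⟩
  intro x hx y hy
  refine ⟨?_, fun ⟨n, _, hn⟩ => ⟨n, hn⟩⟩
  rintro ⟨g, rfl⟩
  obtain ⟨n, hn, he⟩ := strongCtlD_of_free hp _ G le_rfl hF S (S : Subgroup G)
    ⟨le_rfl, fun _ _ _ h => h⟩ {x} g (Set.singleton_subset_iff.2 hx)
    (by rintro _ ⟨a, rfl, rfl⟩; exact hy)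
  exact ⟨n, hn, he x rfl⟩

end Cfsg.Agent.S3071
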