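import Cfsg.Statements.S3073
import Cfsg.Agent.LocalEvenD.GTStrong
import Cfsg.Agent.ConjFunctor.Basic
import Cfsg.Agent.Lib.Thompson.Basic
import Cfsg.Agent.Lib.Components.Balance

set_option autoImplicit false
set_option linter.style.haveILetI false
open Cfsg

namespace Cfsg.Agent.S3073

universe u

variable {p : ℕ} [hp : Fact p.Prime]

theorem eq_one_of_twist {G : Type*} [Group G] {g q z : G} (hz : Commute g z)
    (hgq : g * q * g⁻¹ = q * z) {k : ℕ} (hzp : z ^ p ^ k = 1) (hg : (orderOf g).Coprime p) :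
    z = 1 := by
  have hiter : ∀ n : ℕ, g ^ n * q * (g ^ n)⁻¹ = q * z ^ n := by
    intro n
    induction n with
    | zero => simp
    | succ n ih =>
      calc g ^ (n + 1) * q * (g ^ (n + 1))⁻¹ = g * (g ^ n * q * (g ^ n)⁻¹) * g⁻¹ := by
            rw [pow_succ']; group
        _ = (g * q * g⁻¹) * (g * z ^ n * g⁻¹) := by rw [ih]; group
        _ = q * z * z ^ n := by rw [hgq, (hz.pow_right n).eq, mul_inv_cancel_right]
        _ = q * z ^ (n + 1) := by rw [pow_succ', mul_assoc]
  have h1 : z ^ orderOf g = 1 := by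
    have := hiter (orderOf g)
    rwa [pow_orderOf_eq_one, one_mul, inv_one, mul_one, left_eq_mul] at this
  have h2 : orderOf z ∣ Nat.gcd (orderOf g) (p ^ k) :=
    Nat.dvd_gcd (orderOf_dvd_of_pow_eq_one h1) (orderOf_dvd_of_pow_eq_one hzp)
  rw [(hg.pow_right k).gcd_eq_one] at h2
  exact orderOf_eq_one_iff.1 (Nat.dvd_one.1 h2)

/-- Normal `p`-complements lift over central `p`-subgroups. -/
theorem lift_central {G : Type*} [Group G] [Finite G] {Z : Subgroup G} [Z.Normal]
    (hZc : ∀ g : G, ∀ z ∈ Z, Commute g z) (hZp : IsPGroup p Z)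
    (h : Cfsg.HasNormalPComplement p (G ⧸ Z)) : Cfsg.HasNormalPComplement p G := by
  obtain ⟨P⟩ : Nonempty (Sylow p G) := inferInstance
  refine Transfer.hasNormalPComplement_of_normalizer_centralizer P fun Q hQ _ g hg hgp => ?_
  refine Subgroup.mem_centralizer_iff.2 fun q hq => ?_
  set f := QuotientGroup.mk' Z
  have h1 := Transfer.mem_centralizer_of_hasNormalPComplement h (Q := Q.map f)
    ((P.2.to_le hQ).map f) (g := f g) (Subgroup.le_normalizer_map f ⟨g, hg, rfl⟩)
    (hgp.coprime_dvd_left (orderOf_map_dvd f g))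
  have h2 : f q * f g = f g * f q := Subgroup.mem_centralizer_iff.1 h1 _ ⟨q, hq, rfl⟩
  have h3 : q⁻¹ * (g * q * g⁻¹) ∈ Z := by
    refine QuotientGroup.eq.1 ?_
    show f q = f (g * q * g⁻¹)
    rw [map_mul, map_mul, map_inv, ← h2, mul_inv_cancel_right]
  obtain ⟨k, hk⟩ := hZp ⟨_, h3⟩
  have h4 := eq_one_of_twist (q := q) (hZc g _ h3) (mul_inv_cancel_left _ _).symm
    (by simpa using congrArg Subtype.val hk) hgp
  rw [inv_mul_eq_one] at h4
  exact (mul_inv_eq_iff_eq_mul.1 h4.symm).symm

/-- `N(K)` has a normal `p`-complement if its `p'`-elements centralize a self-centralizing `K`. -/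
theorem complement_of_centralize {G : Type*} [Group G] [Finite G] (P : Sylow p G) (K : Subgroup G)
    (hKP : K ≤ (P : Subgroup G)) (hPN : (P : Subgroup G) ≤ Subgroup.normalizer (K : Set G))
    (hC : (P : Subgroup G) ⊓ Subgroup.centralizer (K : Set G) ≤ K)
    (h : ∀ g ∈ Subgroup.normalizer (K : Set G), (orderOf g).Coprime p →
      g ∈ Subgroup.centralizer (K : Set G)) :
    Cfsg.HasNormalPComplement p ↥(Subgroup.normalizer (K : Set G)) := by
  refine Transfer.hasNormalPComplement_of_normalizer_centralizer (P.subtype hPN)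
    fun Q hQ _ g hg hgp => Subgroup.mem_centralizer_iff.2 fun q hq => ?_
  have hgC : (g : G) ∈ Subgroup.centralizer (K : Set G) :=
    h _ g.2 (by rwa [Subgroup.orderOf_coe])
  have hgK : ∀ x ∈ K, x * (g : G) = g * x := Subgroup.mem_centralizer_iff.1 hgC
  set z := q⁻¹ * (g * q * g⁻¹) with hz
  have hzQ : z ∈ Q := Q.mul_mem (Q.inv_mem hq) ((Subgroup.mem_normalizer_iff.1 hg q).1 hq)
  have hzK : (z : G) ∈ K := by
    refine hC ⟨hQ hzQ, Subgroup.mem_centralizer_iff.2 fun x hx => ?_⟩
    have hqx : (q : G) * x * (q : G)⁻¹ ∈ K := (Subgroup.mem_normalizer_iff.1 q.2 x).1 hx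
    have e1 := hgK _ hqx
    have e2 := hgK x hx
    show x * (((q : G))⁻¹ * (g * q * (g : G)⁻¹)) = ((q : G))⁻¹ * (g * q * (g : G)⁻¹) * x
    have e3 : (g : G)⁻¹ * x = x * (g : G)⁻¹ := by
      rw [eq_mul_inv_iff_mul_eq, mul_assoc, e2, inv_mul_cancel_left]
    calc x * (((q : G))⁻¹ * (g * q * (g : G)⁻¹))
        = (q : G)⁻¹ * (((q : G) * x * (q : G)⁻¹) * g) * q * (g : G)⁻¹ := by group
      _ = (q : G)⁻¹ * g * q * (x * (g : G)⁻¹) := by rw [e1]; group
      _ = (q : G)⁻¹ * g * q * ((g : G)⁻¹ * x) := by rw [e3]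
      _ = _ := by group
  obtain ⟨k, hk⟩ := (P.2.to_le hKP) ⟨_, hzK⟩
  have h4 : z = 1 := eq_one_of_twist (q := q) (Subtype.ext (hgK _ hzK).symm)
    (mul_inv_cancel_left _ _).symm
    (Subtype.ext (by simpa using congrArg Subtype.val hk)) hgp
  rw [hz, inv_mul_eq_one] at h4
  exact (mul_inv_eq_iff_eq_mul.1 h4.symm).symm

/-- The recursive choice of `K`. -/
theorem exists_K (hp2 : p ≠ 2) : ∀ (n : ℕ) (S : Type u) [Group S] [Finite S], Nat.card S ≤ n →
    IsPGroup p S → ∃ K : Subgroup S, K.Characteristic ∧ Subgroup.centralizer (K : Set S) ≤ K ∧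
      ∀ (G : Type u) [Group G] [Finite G] (P : Sylow p G) (j : S →* G), Function.Injective j →
        j.range = (P : Subgroup G) →
        Cfsg.HasNormalPComplement p ↥(Subgroup.normalizer ((K.map j : Subgroup G) : Set G)) →
          Cfsg.HasNormalPComplement p G := by
  intro n
  induction n using Nat.strong_induction_on with
  | _ n ih =>
    intro S _ _ hn hS
    by_cases hb : (⊤ : Subgroup S) = ⊥
    · refine ⟨⊥, inferInstance, le_trans le_top hb.le, fun G _ _ P j _ _ h => ?_⟩
      rw [Subgroup.map_bot, Subgroup.normalizer_eq_top (⊥ : Subgroup G)] at h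
      exact (Transfer.hasNormalPComplement_congr Subgroup.topEquiv).1 h
    set Z := Cfsg.centerThompsonAOf (⊤ : Subgroup S) with hZ
    have hZne : Z ≠ ⊥ := PLocalB.centerThompsonAOf_ne_bot (hS.to_subgroup ⊤) hb
    have hZab : ∀ x ∈ Z, ∀ y ∈ Z, x * y = y * x := fun x hx y hy =>
      Subgroup.mem_centralizer_iff.1 hy.2 x hx.1
    set C := Subgroup.centralizer (Z : Set S) with hC
    have hZC : Z ≤ C := fun x hx => Subgroup.mem_centralizer_iff.2 fun y hy => hZab y hy x hx
    set Zc := Z.subgroupOf C with hZc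
    haveI hZcn : Zc.Normal := ⟨fun x hx c => by
      have h1 : (x : S) * c = c * x := Subgroup.mem_centralizer_iff.1 c.2 _ hx
      show ((c : S) * x * (c : S)⁻¹) ∈ Z
      rwa [← h1, mul_inv_cancel_right]⟩
    have hlt : Nat.card (↥C ⧸ Zc) < n := by
      have h1 := Subgroup.card_eq_card_quotient_mul_card_subgroup Zc
      have h2 : 1 < Nat.card ↥Zc := by
        rw [Subgroup.one_lt_card_iff_ne_bot, hZc, Ne, Subgroup.subgroupOf_eq_bot, disjoint_iff,
          inf_eq_left.2 hZC]
        exact hZne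
      calc Nat.card (↥C ⧸ Zc) < Nat.card (↥C ⧸ Zc) * Nat.card ↥Zc :=
            lt_mul_of_one_lt_right Nat.card_pos h2
        _ = Nat.card ↥C := h1.symm
        _ ≤ n := (Subgroup.card_le_card_group C).trans hn
    obtain ⟨K', hK'c, hK'cc, hK'⟩ := ih _ hlt (↥C ⧸ Zc) le_rfl
      ((hS.to_subgroup C).to_quotient Zc)
    set L := K'.comap (QuotientGroup.mk' Zc) with hL
    have hZL : Zc ≤ L := fun x hx => by
      show QuotientGroup.mk' Zc x ∈ K'
      rw [show QuotientGroup.mk' Zc x = 1 from (QuotientGroup.eq_one_iff x).2 hx]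
      exact K'.one_mem
    have hLC : L.map C.subtype ≤ C := Subgroup.map_subtype_le L
    refine ⟨L.map C.subtype, ?_, ?_, ?_⟩
    · refine Subgroup.characteristic_iff_le_map.2 fun φ x hx => ?_
      obtain ⟨x, hx, rfl⟩ := hx
      have hφZ : Z.map φ.toMonoidHom = Z := by
        rw [hZ, PLocalB.centerThompsonAOf_map φ.toMonoidHom ⊤ φ.injective.injOn,
          Subgroup.map_top_of_surjective _ φ.surjective]
      have hmemZ : ∀ y, y ∈ Z ↔ φ y ∈ Z := fun y => by
        conv_rhs => rw [← hφZ]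
        exact ⟨fun h => ⟨y, h, rfl⟩, fun ⟨w, hw, he⟩ => φ.injective he ▸ hw⟩
      have hmemC : ∀ y, y ∈ C ↔ φ y ∈ C := fun y => by
        simp only [hC, Subgroup.mem_centralizer_iff, SetLike.mem_coe]
        refine ⟨fun h z hz => ?_, fun h z hz => φ.injective ?_⟩
        · obtain ⟨w, rfl⟩ := φ.surjective z
          rw [← map_mul, h w ((hmemZ w).2 hz), map_mul]
        · rw [map_mul, map_mul, h _ ((hmemZ z).1 hz)]
      have hCm : C.map φ.toMonoidHom = C := by
        ext y
        obtain ⟨w, rfl⟩ := φ.surjective y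
        exact ⟨fun ⟨v, hv, he⟩ => (hmemC w).1 (φ.injective he ▸ hv),
          fun h => ⟨w, (hmemC w).2 h, rfl⟩⟩
      let ψ : ↥C ≃* ↥C := (φ.subgroupMap C).trans (MulEquiv.subgroupCongr hCm)
      have hψ : ∀ y : ↥C, ((ψ y : ↥C) : S) = φ y := fun y => rfl
      have hψZ : Zc.map ψ.toMonoidHom = Zc := by
        ext y
        obtain ⟨w, rfl⟩ := ψ.surjective y
        exact ⟨fun ⟨v, hv, he⟩ => (ψ.injective he ▸ (hmemZ (v : S)).1 hv :),
          fun h => ⟨w, (hmemZ (w : S)).2 h, rfl⟩⟩
      let ψ' : (↥C ⧸ Zc) ≃* (↥C ⧸ Zc) := QuotientGroup.congr Zc Zc ψ hψZ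
      refine ⟨((ψ.symm x : ↥C) : S), ⟨ψ.symm x, ?_, rfl⟩, ?_⟩
      · show QuotientGroup.mk' Zc (ψ.symm x) ∈ K'
        have h1 : ψ' (QuotientGroup.mk' Zc (ψ.symm x)) ∈ K' := by
          show QuotientGroup.mk' Zc (ψ (ψ.symm x)) ∈ K'
          rw [MulEquiv.apply_symm_apply]; exact hx
        have h2 := Subgroup.characteristic_iff_comap_eq.1 hK'c ψ'
        rw [← h2]; exact h1
      · show φ ((ψ.symm x : ↥C) : S) = (x : S)
        rw [← hψ, MulEquiv.apply_symm_apply]
    · intro x hx
      have hxC : x ∈ C := Subgroup.mem_centralizer_iff.2 fun z hz =>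
        Subgroup.mem_centralizer_iff.1 hx z ⟨⟨z, hZC hz⟩, hZL hz, rfl⟩
      refine ⟨⟨x, hxC⟩, hK'cc (Subgroup.mem_centralizer_iff.2 fun y hy => ?_), rfl⟩
      obtain ⟨w, rfl⟩ := QuotientGroup.mk'_surjective Zc y
      show QuotientGroup.mk' Zc w * QuotientGroup.mk' Zc ⟨x, hxC⟩ = _
      rw [← map_mul]
      exact congrArg _ (Subtype.ext (Subgroup.mem_centralizer_iff.1 hx (w : S) ⟨w, hy, rfl⟩))
    · intro G _ _ P j hj hjr hN
      set ZG := Z.map j with hZG
      have hZGeq : ZG = Cfsg.centerThompsonAOf (P : Subgroup G) := by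
        rw [hZG, hZ, PLocalB.centerThompsonAOf_map j ⊤ hj.injOn, ← MonoidHom.range_eq_map, hjr]
      refine LocalEvenD.centreFunctor_criterion (LocalEvenD.centreA hp2) P (D := (P : Subgroup G))
        ⟨le_rfl, fun _ _ _ h => h⟩ ?_
      show Cfsg.HasNormalPComplement p
        ↥(Subgroup.normalizer (Cfsg.centerThompsonAOf (P : Subgroup G) : Set G))
      rw [← hZGeq]
      set M := Subgroup.normalizer (ZG : Set G) with hM
      set CC := Subgroup.centralizer (ZG : Set G) with hCC
      have hZGP : ZG ≤ (P : Subgroup G) := hjr ▸ Subgroup.map_le_range j Z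
      have hjC : ∀ c : S, c ∈ C ↔ j c ∈ CC := by
        intro c
        simp only [hC, hCC, Subgroup.mem_centralizer_iff]
        constructor
        · rintro h _ ⟨z, hz, rfl⟩
          rw [← map_mul, h z hz, map_mul]
        · intro h z hz
          exact hj (by rw [map_mul, map_mul]; exact h _ ⟨z, hz, rfl⟩)
      have hCCM : CC ≤ M := Subgroup.centralizer_le_normalizer _
      have hMn : M ≤ Subgroup.normalizer (CC : Set G) := Thompson.le_normalizer_centralizer le_rfl
      have hPM : (P : Subgroup G) ≤ M := by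
        rw [hM, hZGeq]
        exact Subgroup.le_normalizer.trans ((LocalEvenD.centreA hp2).normalizer_le G (P : Subgroup G))
      obtain ⟨PC, hPC⟩ := (ConjFunctor.isSylowIn_inf_of_normal
        (ConjFunctor.sylow_isSylowIn P hPM) hCCM hMn).exists_sylow
      have hPCeq : ((P : Subgroup G) ⊓ CC) = C.map j := by
        ext x
        constructor
        · rintro ⟨hxP, hxC⟩
          obtain ⟨c, rfl⟩ : x ∈ j.range := by rw [hjr]; exact hxP
          exact ⟨c, (hjC c).2 hxC, rfl⟩
        · rintro ⟨c, hc, rfl⟩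
          exact ⟨hjr ▸ ⟨c, rfl⟩, (hjC c).1 hc⟩
      have hZGCC : ZG ≤ CC := fun x ⟨z, hz, he⟩ => he ▸ (hjC z).1 (hZC hz)
      set Zq := ZG.subgroupOf CC with hZq
      have hZqc : ∀ g : ↥CC, ∀ z ∈ Zq, Commute g z := fun g z hz =>
        Subtype.ext (Subgroup.mem_centralizer_iff.1 g.2 (z : G) hz).symm
      haveI : Zq.Normal := ⟨fun z hz g => by rwa [(hZqc g z hz).eq, mul_inv_cancel_right]⟩
      let jC : ↥C →* ↥CC := (j.comp C.subtype).codRestrict CC fun c => (hjC c).1 c.2
      have hjCv : ∀ c : ↥C, ((jC c : ↥CC) : G) = j c := fun c => rfl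
      let g : (↥C ⧸ Zc) →* (↥CC ⧸ Zq) := QuotientGroup.map Zc Zq jC fun x hx => ⟨x, hx, rfl⟩
      have hg : Function.Injective g := by
        rw [injective_iff_map_eq_one]
        intro y hy
        obtain ⟨w, rfl⟩ := QuotientGroup.mk'_surjective Zc y
        have h1 : jC w ∈ Zq := (QuotientGroup.eq_one_iff _).1 hy
        obtain ⟨z, hz, he⟩ : (j (w : S)) ∈ Z.map j := h1
        exact (QuotientGroup.eq_one_iff _).2 (hj he ▸ hz : (w : S) ∈ Z)
      have hgr : g.range = ((PC.mapSurjective (QuotientGroup.mk'_surjective Zq) :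
          Sylow p (↥CC ⧸ Zq)) : Subgroup (↥CC ⧸ Zq)) := by
        rw [Sylow.coe_mapSurjective]
        ext y
        constructor
        · rintro ⟨a, rfl⟩
          obtain ⟨w, rfl⟩ := QuotientGroup.mk'_surjective Zc a
          refine ⟨jC w, ?_, rfl⟩
          obtain ⟨v, hv, he⟩ : j (w : S) ∈ (PC : Subgroup ↥CC).map CC.subtype := by
            rw [hPC, hPCeq]; exact ⟨w, w.2, rfl⟩
          rwa [show jC w = v from Subtype.ext he.symm]
        · rintro ⟨v, hv, rfl⟩
          obtain ⟨c, hc, he⟩ : (v : G) ∈ C.map j := by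
            rw [← hPCeq, ← hPC]; exact ⟨v, hv, rfl⟩
          exact ⟨QuotientGroup.mk' Zc ⟨c, hc⟩, congrArg (QuotientGroup.mk' Zq)
            (Subtype.ext he : jC ⟨c, hc⟩ = v)⟩
      -- the normalizer of the image of `K'`
      have hq : Cfsg.HasNormalPComplement p (↥CC ⧸ Zq) := by
        refine hK' _ _ g hg hgr ?_
        set f := QuotientGroup.mk' Zq with hf
        have hcomap : (K'.map g).comap f = L.map jC := by
          ext v
          constructor
          · rintro ⟨y, hy, he⟩
            obtain ⟨w, rfl⟩ := QuotientGroup.mk'_surjective Zc y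
            have h1 : (jC w)⁻¹ * v ∈ Zq := QuotientGroup.eq.1 he
            obtain ⟨z, hz, hze⟩ : ((((jC w)⁻¹ * v : ↥CC) : G)) ∈ Z.map j := h1
            refine ⟨w * ⟨z, hZC hz⟩, L.mul_mem hy (hZL hz), Subtype.ext ?_⟩
            show j (((w : ↥C) : S) * z) = (v : G)
            rw [map_mul, hze, Subgroup.coe_mul, InvMemClass.coe_inv, hjCv, mul_inv_cancel_left]
          · rintro ⟨w, hw, rfl⟩
            exact ⟨QuotientGroup.mk' Zc w, hw, rfl⟩
        have h1 : Subgroup.normalizer ((K'.map g : Subgroup _) : Set (↥CC ⧸ Zq)) ≤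
            (Subgroup.normalizer ((L.map jC : Subgroup _) : Set ↥CC)).map f := by
          intro y hy
          obtain ⟨c, rfl⟩ := QuotientGroup.mk'_surjective Zq y
          exact ⟨c, by rw [← hcomap]; exact Subgroup.le_normalizer_comap f hy, rfl⟩
        refine PComplement.hasNormalPComplement_of_le_map f h1
          (PComplement.hasNormalPComplement_of_map_le CC.subtype CC.subtype_injective ?_ hN)
        refine (Subgroup.le_normalizer_map CC.subtype).trans (le_of_eq ?_)
        rw [Subgroup.map_map, Subgroup.map_map]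
        rfl
      have hc : Cfsg.HasNormalPComplement p ↥CC :=
        lift_central hZqc ((P.2.to_le hZGP).comap_subtype) hq
      -- from `CC` to `M`
      set R := (Cfsg.pResidual p ↥CC).map CC.subtype with hR
      have hRcop : (Nat.card ↥R).Coprime p := by
        rw [hR, Subgroup.card_map_of_injective CC.subtype_injective]
        exact (hp.out.coprime_iff_not_dvd.2 (Transfer.hasNormalPComplement_iff_not_dvd.1 hc)).symm
      haveI hRn : (R.subgroupOf M).Normal := by
        refine (Subgroup.normal_subgroupOf_iff_le_normalizer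
          ((Subgroup.map_subtype_le _).trans hCCM)).2 (hMn.trans ?_)
        exact Components.normalizer_le_normalizer_map_characteristic CC _
      refine PComplement.hasNormalPComplement_of_quotient (N := R.subgroupOf M) ?_ ?_
      · rwa [Nat.card_congr (Subgroup.subgroupOfEquivOfLe
          ((Subgroup.map_subtype_le _).trans hCCM)).toEquiv]
      set fM := QuotientGroup.mk' (R.subgroupOf M)
      set T := (((P : Subgroup G) ⊓ CC).subgroupOf M)
      have hTN : Subgroup.normalizer (T : Set ↥M) ⊔ R.subgroupOf M = ⊤ := by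
        rw [eq_top_iff]
        intro m _
        obtain ⟨c, hc', n, hn, he⟩ := ConjFunctor.exists_mul_of_frattini
          (ConjFunctor.isSylowIn_inf_of_normal (ConjFunctor.sylow_isSylowIn P hPM) hCCM hMn)
          (g := (m : G)) (hMn m.2)
        obtain ⟨r, hr, t, ht, hrt⟩ : ∃ r ∈ Cfsg.pResidual p ↥CC, ∃ t ∈ (PC : Subgroup ↥CC),
            r * t = ⟨c, hc'⟩ := by
          have := Transfer.sylow_sup_pResidual_eq_top PC
          rw [sup_comm] at this
          exact Subgroup.mem_sup_of_normal_left.1 (this ▸ Subgroup.mem_top _)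
        have hrG : c = (r : G) * (t : G) := (congrArg Subtype.val hrt).symm
        have htT : (t : G) ∈ (P : Subgroup G) ⊓ CC := hPC ▸ ⟨t, ht, rfl⟩
        have hnM : n ∈ M := by
          have : n = c⁻¹ * (m : G) := by rw [he, inv_mul_cancel_left]
          rw [this]; exact M.mul_mem (M.inv_mem (hCCM hc')) m.2
        have e : m = ⟨(r : G), hCCM r.2⟩ * (⟨(t : G), hCCM t.2⟩ * ⟨n, hnM⟩) := by
          refine Subtype.ext ?_
          show (m : G) = (r : G) * ((t : G) * n)
          rw [he, hrG, mul_assoc]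
        rw [e, sup_comm]
        refine Subgroup.mul_mem_sup ⟨r, hr, rfl⟩ ((Subgroup.normalizer (T : Set ↥M)).mul_mem
          (Subgroup.le_normalizer (show (⟨(t : G), hCCM t.2⟩ : ↥M) ∈ T from htT)) ?_)
        exact ConjFunctor.mem_nrm_of_forall fun x hx => (ConjFunctor.conj_mem_of_nrm hn hx :)
      have htop : (Subgroup.normalizer (T : Set ↥M)).map fM = ⊤ := by
        have := congrArg (Subgroup.map fM) hTN
        rwa [Subgroup.map_sup, (Subgroup.map_eq_bot_iff _).2 (QuotientGroup.ker_mk' _).ge,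
          sup_bot_eq, Subgroup.map_top_of_surjective fM (QuotientGroup.mk'_surjective _)] at this
      refine (Transfer.hasNormalPComplement_congr Subgroup.topEquiv).1
        (PComplement.hasNormalPComplement_of_le_map fM (A := ⊤) htop.ge
          (PComplement.hasNormalPComplement_of_map_le M.subtype M.subtype_injective ?_ hN))
      rintro _ ⟨m, hm, rfl⟩
      have hmT : ∀ c : S, c ∈ C → ∃ d ∈ C, j d = (m : G) * j c * (m : G)⁻¹ := by
        intro c hc
        have h1 := ConjFunctor.conj_mem_of_nrm hm (x := (⟨j c, hCCM ((hjC c).1 hc)⟩ : ↥M))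
          (show j c ∈ (P : Subgroup G) ⊓ CC from hPCeq ▸ ⟨c, hc, rfl⟩)
        have h2 : (m : G) * j c * (m : G)⁻¹ ∈ C.map j := hPCeq ▸ (h1 :)
        exact h2
      choose d hdC hd using hmT
      let ψ : ↥C →* ↥C := MonoidHom.mk' (fun c => ⟨d c c.2, hdC c c.2⟩) fun a b =>
        Subtype.ext (hj (by
          show j (d _ _) = j (d _ _ * d _ _)
          rw [map_mul, hd, hd, hd, Subgroup.coe_mul, map_mul]
          group))
      have hψ : ∀ c : ↥C, j ((ψ c : ↥C) : S) = (m : G) * j c * (m : G)⁻¹ := fun c => hd _ c.2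
      have hψi : Function.Injective ψ := fun a b hab => Subtype.ext (hj (by
        have := congrArg (fun y : ↥C => j (y : S)) hab
        simp only [hψ] at this
        exact mul_left_cancel (mul_right_cancel this)))
      have hψZ : ∀ c, c ∈ Zc → ψ c ∈ Zc := by
        intro c hc
        obtain ⟨z, hz, he⟩ : (m : G) * j c * (m : G)⁻¹ ∈ Z.map j :=
          (Subgroup.mem_normalizer_iff.1 m.2 _).1 ⟨c, hc, rfl⟩
        show ((ψ c : ↥C) : S) ∈ Z
        rwa [show ((ψ c : ↥C) : S) = z from hj (by rw [hψ, he])]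
      let ψe : ↥C ≃* ↥C := MulEquiv.ofBijective ψ (Finite.injective_iff_bijective.1 hψi)
      have hψZ' : Zc.map ψe.toMonoidHom = Zc := by
        refine Subgroup.eq_of_le_of_card_ge ?_ (le_of_eq ?_)
        · rintro _ ⟨c, hc, rfl⟩; exact hψZ c hc
        · exact (Subgroup.card_map_of_injective ψe.injective).symm
      let ψ' : (↥C ⧸ Zc) ≃* (↥C ⧸ Zc) := QuotientGroup.congr Zc Zc ψe hψZ'
      refine ConjFunctor.mem_nrm_of_forall ?_
      rintro _ ⟨_, ⟨c, hc, rfl⟩, rfl⟩
      refine ⟨_, ⟨ψ c, ?_, rfl⟩, hψ c⟩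
      show ψ' (QuotientGroup.mk' Zc c) ∈ K'
      have h2 := Subgroup.characteristic_iff_comap_eq.1 hK'c ψ'
      have hc' : QuotientGroup.mk' Zc c ∈ K' := hc
      rw [← h2] at hc'
      exact hc'

theorem result.{v} (p : ℕ) [Fact p.Prime] (hp : p ≠ 2)
    (S : Type v) [Group S] [Finite S] (hS : IsPGroup p S) :
    ∃ K : Subgroup S, K.Characteristic ∧ Subgroup.centralizer (K : Set S) ≤ K ∧
      ∀ (G : Type v) [Group G] [Finite G] (P : Sylow p G) (e : ↥(P : Subgroup G) ≃* S),
        Cfsg.HasNormalPComplement p G ↔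
          ∀ g ∈ Subgroup.normalizer (((K.comap (e : ↥(P : Subgroup G) →* S)).map (P : Subgroup G).subtype : Subgroup G) : Set G),
            (orderOf g).Coprime p →
              g ∈ Subgroup.centralizer (((K.comap (e : ↥(P : Subgroup G) →* S)).map (P : Subgroup G).subtype : Subgroup G) : Set G) := by
  obtain ⟨K, hKc, hKcc, hK⟩ := exists_K hp _ S le_rfl hS
  refine ⟨K, hKc, hKcc, fun G _ _ P e => ?_⟩
  set KG := (K.comap (e : ↥(P : Subgroup G) →* S)).map (P : Subgroup G).subtype with hKG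
  have hKGP : KG ≤ (P : Subgroup G) := Subgroup.map_subtype_le _
  refine ⟨fun h g hg hgp => Transfer.mem_centralizer_of_hasNormalPComplement h
    (P.2.to_le hKGP) hg hgp, fun h => ?_⟩
  set j : S →* G := (P : Subgroup G).subtype.comp e.symm.toMonoidHom with hj
  have hje : K.map j = KG := by
    rw [hj, ← Subgroup.map_map, hKG]
    congr 1
    exact Subgroup.map_equiv_eq_comap_symm e.symm K
  refine hK G P j ((P : Subgroup G).subtype_injective.comp e.symm.injective) ?_ ?_
  · rw [hj, MonoidHom.range_comp, MonoidHom.range_eq_top_of_surjective _ e.symm.surjective,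
      ← MonoidHom.range_eq_map, Subgroup.range_subtype]
  rw [hje]
  refine complement_of_centralize P KG hKGP ?_ ?_ h
  · intro x hx
    refine ConjFunctor.mem_nrm_of_forall ?_
    rintro _ ⟨k, hk, rfl⟩
    refine ⟨⟨x, hx⟩ * k * ⟨x, hx⟩⁻¹, ?_, rfl⟩
    show e (_ * k * _) ∈ K
    rw [map_mul, map_mul, map_inv]
    exact (Subgroup.normal_of_characteristic K).conj_mem _ hk _
  · rintro x ⟨hxP, hxC⟩
    refine ⟨⟨x, hxP⟩, hKcc (Subgroup.mem_centralizer_iff.2 fun k hk => ?_), rfl⟩
    obtain ⟨y, rfl⟩ := e.surjective k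
    show e y * e ⟨x, hxP⟩ = e ⟨x, hxP⟩ * e y
    rw [← map_mul, ← map_mul]
    exact congrArg e (Subtype.ext (Subgroup.mem_centralizer_iff.1 hxC (y : G) ⟨y, hk, rfl⟩))

end Cfsg.Agent.S3073
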