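import Cfsg.Statements.S3074
import Cfsg.Agent.LocalEven61.Qd
import Cfsg.Agent.Fusion91.SmallEssential

set_option autoImplicit false
open Cfsg

namespace Cfsg.Agent.S3074

open Cfsg.Agent Cfsg.Agent.LocalEven61
open scoped MatrixGroups

variable {p : ℕ} [Fact p.Prime]

theorem pow_upper (v : Fin 2 → ZMod p) (a : ZMod p) (k : ℕ) :
    (qdAff v (PLocalB.upper a) : ↥(Cfsg.qdOver (ZMod p))) ^ k =
      qdAff ![(k : ZMod p) * v 0 + ((k.choose 2 : ℕ) : ZMod p) * a * v 1, (k : ZMod p) * v 1]
        (PLocalB.upper ((k : ZMod p) * a)) := by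
  induction k with
  | zero =>
    rw [pow_zero]
    conv_lhs => rw [← qdAff_zero_one]
    congr 1
    · funext i; fin_cases i <;> simp
    · ext i j; fin_cases i <;> fin_cases j <;> simp [PLocalB.upper]
  | succ k ih =>
    rw [pow_succ', ih, qdAff_mul]
    congr 1
    · funext i
      rw [Pi.add_apply, sl2_smul_apply]
      fin_cases i <;> simp [PLocalB.upper, Nat.choose_succ_succ, Nat.choose_one_right] <;> ring
    · ext i j
      rw [Matrix.SpecialLinearGroup.coe_mul]
      fin_cases i <;> fin_cases j <;>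
        simp [PLocalB.upper, Matrix.mul_apply, Fin.sum_univ_two] <;> ring

theorem pow_eq_one (hp : p ≠ 2) {x : ↥(Cfsg.qdOver (ZMod p))} (hx : ∃ k : ℕ, x ^ p ^ k = 1) :
    x ^ p = 1 := by
  obtain ⟨k, hk⟩ := hx
  have hz : IsPGroup p (Subgroup.zpowers (qdLin x)) := by
    rintro ⟨_, i, rfl⟩
    refine ⟨k, Subtype.ext ?_⟩
    show (qdLin x ^ i) ^ p ^ k = 1
    rw [← zpow_natCast, ← zpow_mul, mul_comm, zpow_mul, zpow_natCast, ← map_pow, hk, map_one, one_zpow]
  obtain ⟨Q, hQ⟩ := hz.exists_le_sylow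
  obtain ⟨g, hg⟩ := MulAction.exists_smul_eq SL(2, ZMod p) Q (upperSylow (F := ZMod p) (p := p))
  have hmem : g * qdLin x * g⁻¹ ∈ upperGroup (ZMod p) := by
    rw [← coe_upperSylow (F := ZMod p) (p := p), ← hg, Sylow.coe_subgroup_smul]
    exact ⟨qdLin x, hQ (Subgroup.mem_zpowers _), rfl⟩
  obtain ⟨a, ha⟩ := hmem
  set y := qdAff 0 g * x * (qdAff 0 g)⁻¹ with hy
  have hlin : qdLin y = PLocalB.upper a.toAdd := by
    rw [hy, map_mul, map_mul, map_inv, qdLin_qdAff]
    exact ha.symm
  have hyp : y ^ p = 1 := by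
    rw [← qdAff_eta y, hlin, pow_upper]
    have hc : (((p.choose 2 : ℕ)) : ZMod p) = 0 := by
      rw [ZMod.natCast_eq_zero_iff]
      have := (Fact.out : p.Prime).two_le
      exact (Fact.out : p.Prime).dvd_choose_self (by norm_num) (by omega)
    conv_rhs => rw [← qdAff_zero_one]
    congr 1
    · funext i; fin_cases i <;> simp [hc]
    · ext i j; fin_cases i <;> fin_cases j <;> simp [PLocalB.upper]
  rw [hy, conj_pow, mul_inv_eq_one] at hyp
  exact mul_left_cancel (hyp.trans (mul_one _).symm)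

theorem sylow_qdOver (hp : p ≠ 2) (P : Sylow p ↥(Cfsg.qdOver (ZMod p))) :
    Cfsg.IsExtraspecial p ↥P ∧ Nat.card P = p ^ 3 ∧ Monoid.exponent ↥P = p := by
  have hpp : p.Prime := Fact.out
  have hcard : Nat.card (P : Subgroup ↥(Cfsg.qdOver (ZMod p))) = p ^ 3 := by
    rw [P.card_eq_multiplicity, card_qdOver, Nat.factorization_mul (by simp [hpp.ne_zero]) Nat.card_pos.ne',
      Finsupp.add_apply, factorization_card_SL2 (F := ZMod p) (p := p), Nat.factorization_pow,
      Finsupp.smul_apply, Nat.card_zmod, hpp.factorization_self]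
    rfl
  have hna : ¬ IsMulCommutative ↥(P : Subgroup ↥(Cfsg.qdOver (ZMod p))) := by
    intro hc
    set K := (qdLin : ↥(Cfsg.qdOver (ZMod p)) →* SL(2, ZMod p)).ker
    have hK : K ≤ P := (isPGroup_ker_qdLin (p := p)).le_sylow_of_normal P
    have hPK : (P : Subgroup ↥(Cfsg.qdOver (ZMod p))) ≤ K := by
      intro x hx
      rw [MonoidHom.mem_ker]
      have hfix : ∀ w : Fin 2 → ZMod p,
          (qdLin x : Matrix (Fin 2) (Fin 2) (ZMod p)).mulVec w = w := by
        intro w
        have hw : qdAff w 1 ∈ K := by rw [MonoidHom.mem_ker, qdLin_qdAff]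
        have h := congrArg Subtype.val (hc.is_comm.comm ⟨x, hx⟩ ⟨_, hK hw⟩)
        have h2 := qd_conj_ker x w
        rw [show x * qdAff w 1 = qdAff w 1 * x from h, mul_inv_cancel_right] at h2
        simpa [qdTrans_qdAff] using (congrArg qdTrans h2).symm
      ext i j
      have h := congrFun (hfix (Pi.single j 1)) i
      rw [Matrix.mulVec_single_one] at h
      simpa [Matrix.one_apply, Pi.single_apply] using h
    have h1 := Subgroup.card_le_of_le hPK
    have h2 : Nat.card K * Nat.card SL(2, ZMod p) = Nat.card ↥(Cfsg.qdOver (ZMod p)) := by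
      have h := K.card_mul_index
      rwa [Subgroup.index_ker, MonoidHom.range_eq_top.mpr qdLin_surjective, Subgroup.card_top] at h
    rw [card_qdOver, Nat.card_zmod, mul_left_inj' Nat.card_pos.ne'] at h2
    rw [hcard, h2] at h1
    exact absurd h1 (not_le.mpr (Nat.pow_lt_pow_right hpp.one_lt (by norm_num)))
  refine ⟨Fusion91.extraspecial_of_card_cube hcard hna, hcard, ?_⟩
  rcases hpp.eq_one_or_self_of_dvd _ (Monoid.exponent_dvd_of_forall_pow_eq_one fun x :
      ↥(P : Subgroup ↥(Cfsg.qdOver (ZMod p))) => Subtype.ext (pow_eq_one hp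
        (by
          obtain ⟨k, hk⟩ := P.isPGroup' x
          exact ⟨k, by simpa using congrArg Subtype.val hk⟩))) with h | h
  · haveI := Monoid.exp_eq_one_iff.mp h
    exact absurd ⟨⟨fun a b => Subsingleton.elim _ _⟩⟩ hna
  · exact h

/-- Let p be an odd prime. A Sylow p-subgroup of Qd(p), the split extension of an elementary abelian group of order p² by SL₂(p) acting naturally, is extraspecial of order p³ and exponent p. -/
theorem result (p : ℕ) [Fact p.Prime] (hp : p ≠ 2) (P : Sylow p ↥(Cfsg.qd p)) :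
    Cfsg.IsExtraspecial p ↥P ∧ Nat.card P = p ^ 3 ∧ Monoid.exponent ↥P = p := by
  exact sylow_qdOver hp P

end Cfsg.Agent.S3074
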