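import Mathlib
import Cfsg.Statements.S3075

set_option autoImplicit false
open Cfsg
open scoped MatrixGroups

namespace Cfsg.Agent.S3075

variable {N : Type*} [Group N]

/-- A `p`-element modulo a centralizer acts trivially on a group of order `p`. -/
lemma fix_line {p : ℕ} [hp : Fact p.Prime] {A : Subgroup N} (W : Subgroup N) [W.Normal] (hW : Nat.card W = p)
    (hWA : W ≤ A) [IsMulCommutative A] (n : N) (hn : n ^ p ∈ A) {w : N} (hw : w ∈ W) :
    n * w * n⁻¹ = w := by
  by_cases hw1 : w = 1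
  · simp [hw1]
  have hgen : Subgroup.zpowers (⟨w, hw⟩ : W) = ⊤ :=
    zpowers_eq_top_of_prime_card hW (by simpa using hw1)
  obtain ⟨k, hk⟩ : ∃ k : ℤ, w ^ k = n * w * n⁻¹ := by
    have h : (⟨n * w * n⁻¹, ‹W.Normal›.conj_mem w hw n⟩ : W) ∈ Subgroup.zpowers (⟨w, hw⟩ : W) :=
      hgen ▸ Subgroup.mem_top _
    obtain ⟨k, hk⟩ := Subgroup.mem_zpowers_iff.mp h
    exact ⟨k, by simpa using congrArg Subtype.val hk⟩
  have hiter : ∀ j : ℕ, n ^ j * w * (n ^ j)⁻¹ = w ^ (k ^ j) := by
    intro j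
    induction j with
    | zero => simp
    | succ j ih =>
      calc n ^ (j + 1) * w * (n ^ (j + 1))⁻¹ = n * (n ^ j * w * (n ^ j)⁻¹) * n⁻¹ := by rw [pow_succ']; group
        _ = n * w ^ (k ^ j) * n⁻¹ := by rw [ih]
        _ = (n * w * n⁻¹) ^ (k ^ j) := (conj_zpow).symm
        _ = _ := by rw [← hk, ← zpow_mul, pow_succ']
  have h2 : w ^ (k ^ p) = w := by
    rw [← hiter]
    have := setLike_mul_comm (s := A) hn (hWA hw)
    rw [this]; group
  have h3 : ((k ^ p : ℤ) : ZMod p) = 1 := by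
    have hord : orderOf w = p := by
      have := orderOf_eq_card_of_forall_mem_zpowers (fun x => hgen ▸ Subgroup.mem_top x : ∀ x : W, x ∈ Subgroup.zpowers (⟨w, hw⟩ : W))
      rw [hW] at this
      rwa [← Subgroup.orderOf_coe] at this
    have h4 : w ^ (k ^ p - 1) = 1 := by rw [zpow_sub, h2]; simp
    have := orderOf_dvd_iff_zpow_eq_one.mpr h4
    rw [hord, ← ZMod.intCast_zmod_eq_zero_iff_dvd, Int.cast_sub, Int.cast_one, sub_eq_zero] at this
    exact this
  rw [Int.cast_pow, ZMod.pow_card] at h3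
  have hord : orderOf w ∣ p := by
    have := orderOf_dvd_natCard (⟨w, hw⟩ : W)
    rwa [hW, ← Subgroup.orderOf_coe] at this
  have h5 : (p : ℤ) ∣ k - 1 := by
    rw [← ZMod.intCast_zmod_eq_zero_iff_dvd, Int.cast_sub, h3]; simp
  have h6 : w ^ (k - 1) = 1 :=
    orderOf_dvd_iff_zpow_eq_one.mp ((Int.natCast_dvd_natCast.mpr hord).trans h5)
  rw [← hk, show k = (k - 1) + 1 by ring, zpow_add, h6]; simp

theorem result {N : Type*} [Group N] [Finite N] {p : ℕ} [Fact p.Prime] (hp : p ≠ 2)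
    (A : Subgroup N) [A.Normal] (hAcomm : IsMulCommutative A) (hAcard : Nat.card A = p ^ 2) (hAexp : Monoid.exponent ↥A = p)
    (hAself : Subgroup.centralizer (A : Set N) = A)
    {F : Type*} [Field F] [Fintype F] (hF : Fintype.card F = p) (e : N ⧸ A ≃* Matrix.SpecialLinearGroup (Fin 2) F) :
    ∃ U : Subgroup N, A ⊓ U = ⊥ ∧ A ⊔ U = ⊤ := by
  classical
  have hpF : (p : F) = 0 := hF ▸ Nat.cast_card_eq_zero F
  have h2F : (1 : F) ≠ -1 := by
    intro h
    have h2 : (2 : F) = 0 := by linear_combination h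
    obtain ⟨k, hk⟩ := (Nat.Prime.odd_of_ne_two Fact.out hp : Odd p)
    rw [hk] at hpF; push_cast at hpF
    rw [h2, zero_mul, zero_add] at hpF
    exact one_ne_zero hpF
  have hpow : ∀ a ∈ A, a ^ p = 1 := by
    intro a ha
    have := Monoid.pow_exponent_eq_one (⟨a, ha⟩ : A)
    rw [hAexp] at this
    exact congrArg Subtype.val this
  let π : N →* SL(2, F) := (e : N ⧸ A →* SL(2, F)).comp (QuotientGroup.mk' A)
  have hπ : Function.Surjective π := e.surjective.comp QuotientGroup.mk_surjective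
  have hker : ∀ x, π x = 1 ↔ x ∈ A := by
    intro x
    show e (QuotientGroup.mk x) = 1 ↔ x ∈ A
    rw [map_eq_one_iff e e.injective, QuotientGroup.eq_one_iff]
  -- an involution above -1
  obtain ⟨n₀, hn₀⟩ := hπ (-1)
  set t := n₀ ^ p with ht
  have hodd : Odd p := Nat.Prime.odd_of_ne_two Fact.out hp
  have hπt : π t = -1 := by rw [ht, map_pow, hn₀, hodd.neg_one_pow]
  have hneg : (-1 : SL(2, F)) ≠ 1 := by
    intro h
    have := congrArg (fun M : SL(2, F) => (M : Matrix (Fin 2) (Fin 2) F) 0 0) h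
    exact h2F (by simpa using this.symm)
  have htA : t ∉ A := fun h => hneg (hπt ▸ (hker t).mpr h)
  have htt : t * t = 1 := by
    have h2 : n₀ * n₀ ∈ A := (hker _).mp (by rw [map_mul, hn₀]; simp)
    rw [ht, ← pow_add, ← two_mul, mul_comm, ← hpow _ h2, ← pow_two, ← pow_mul, mul_comm p 2]
  have hinv : t⁻¹ = t := inv_eq_of_mul_eq_one_right htt
  have hconjt : ∀ g : N, ∃ a ∈ A, g * t * g⁻¹ = t * a := by
    intro g
    refine ⟨t⁻¹ * (g * t * g⁻¹), (hker _).mp ?_, by group⟩
    simp only [map_mul, map_inv, hπt]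
    rw [mul_neg, mul_one, neg_mul, mul_inv_cancel, inv_mul_cancel]
  set W := A ⊓ Subgroup.centralizer ({t} : Set N) with hW
  haveI hWn : W.Normal := by
    refine ⟨fun x hx g => ⟨‹A.Normal›.conj_mem x hx.1 g, ?_⟩⟩
    obtain ⟨a, ha, hga⟩ := hconjt g
    have hgx : g * x * g⁻¹ ∈ A := ‹A.Normal›.conj_mem x hx.1 g
    have h1 : (t * a) * (g * x * g⁻¹) = (g * x * g⁻¹) * (t * a) := by
      rw [← hga]
      have := Subgroup.mem_centralizer_singleton_iff.mp hx.2
      calc g * t * g⁻¹ * (g * x * g⁻¹) = g * (t * x) * g⁻¹ := by group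
        _ = g * (x * t) * g⁻¹ := by rw [this]
        _ = _ := by group
    refine Subgroup.mem_centralizer_singleton_iff.mpr ?_
    have h2 := setLike_mul_comm (s := A) ha hgx
    have h3 : t * (g * x * g⁻¹) * a = g * x * g⁻¹ * t * a := by
      rw [mul_assoc t, ← h2, ← mul_assoc, h1, ← mul_assoc]
    exact (mul_right_cancel h3).symm
  have hWbot : W = ⊥ := by
    by_contra hne
    obtain ⟨k, hk, hcard⟩ := (Nat.dvd_prime_pow Fact.out).mp (hAcard ▸ Subgroup.card_dvd_of_le (inf_le_left : W ≤ A))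
    interval_cases k
    · exact hne (Subgroup.card_eq_one.mp (hcard.trans (pow_zero p)))
    · rw [pow_one] at hcard
      -- the p-elements of N/A commute
      have key : ∀ n : N, n ^ p ∈ A → (∀ w ∈ W, n * w * n⁻¹ = w) ∧ ∀ a ∈ A, a⁻¹ * (n * a * n⁻¹) ∈ W := by
        intro n hn
        refine ⟨fun w hw => fix_line W hcard inf_le_left n hn hw, ?_⟩
        haveI hQc : IsMulCommutative ↥(A.map (QuotientGroup.mk' W)) := ⟨⟨by
          rintro ⟨_, a, ha, rfl⟩ ⟨_, b, hb, rfl⟩
          exact Subtype.ext (by rw [Subgroup.coe_mul, Subgroup.coe_mul, ← map_mul, ← map_mul, setLike_mul_comm (s := A) ha hb])⟩⟩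
        haveI : (A.map (QuotientGroup.mk' W)).Normal := ‹A.Normal›.map _ (QuotientGroup.mk'_surjective W)
        have hQcard : Nat.card (A.map (QuotientGroup.mk' W)) = p := by
          rw [← Subgroup.relIndex_bot_left]
          have h1 := Subgroup.relIndex_map_map (QuotientGroup.mk' W) W A
          rw [QuotientGroup.ker_mk', sup_idem, sup_of_le_left (inf_le_left : W ≤ A), QuotientGroup.map_mk'_self] at h1
          rw [h1]
          have h2 := Subgroup.relIndex_mul_relIndex (⊥ : Subgroup N) W A bot_le inf_le_left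
          simp only [Subgroup.relIndex_bot_left] at h2
          rw [hcard, hAcard, pow_two] at h2
          exact Nat.eq_of_mul_eq_mul_left (Fact.out : p.Prime).pos h2
        intro a ha
        have h := fix_line (A.map (QuotientGroup.mk' W)) hQcard le_rfl (QuotientGroup.mk' W n)
          (by rw [← map_pow]; exact Subgroup.mem_map_of_mem _ hn) (Subgroup.mem_map_of_mem _ ha)
        rw [← map_inv, ← map_mul, ← map_mul] at h
        exact QuotientGroup.eq.mp h.symm
      let u : SL(2, F) := ⟨!![1, 1; 0, 1], by simp [Matrix.det_fin_two]⟩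
      let v : SL(2, F) := ⟨!![1, 0; 1, 1], by simp [Matrix.det_fin_two]⟩
      have huv : u * v ≠ v * u := by
        intro h
        have h00 : ((!![1, 1; 0, 1] : Matrix (Fin 2) (Fin 2) F) * !![1, 0; 1, 1] : Matrix (Fin 2) (Fin 2) F) 0 0 =
            ((!![1, 0; 1, 1] : Matrix (Fin 2) (Fin 2) F) * !![1, 1; 0, 1] : Matrix (Fin 2) (Fin 2) F) 0 0 := by
          have := congrArg Subtype.val h
          exact congrFun (congrFun this 0) 0
        simp at h00
      have hup : ∀ j : ℕ, ((u ^ j : SL(2, F)) : Matrix (Fin 2) (Fin 2) F) = !![1, (j : F); 0, 1] := by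
        intro j
        induction j with
        | zero => simp [Matrix.one_fin_two]
        | succ j ih => rw [pow_succ, Matrix.SpecialLinearGroup.coe_mul, ih]; simp [u, add_comm]
      have hvp : ∀ j : ℕ, ((v ^ j : SL(2, F)) : Matrix (Fin 2) (Fin 2) F) = !![1, 0; (j : F), 1] := by
        intro j
        induction j with
        | zero => simp [Matrix.one_fin_two]
        | succ j ih => rw [pow_succ, Matrix.SpecialLinearGroup.coe_mul, ih]; simp [v, add_comm]
      obtain ⟨n₁, hn₁⟩ := hπ u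
      obtain ⟨n₂, hn₂⟩ := hπ v
      have h₁ : n₁ ^ p ∈ A := (hker _).mp (by
        rw [map_pow, hn₁]; apply Subtype.ext; rw [hup, hpF]; simp [Matrix.one_fin_two])
      have h₂ : n₂ ^ p ∈ A := (hker _).mp (by
        rw [map_pow, hn₂]; apply Subtype.ext; rw [hvp, hpF]; simp [Matrix.one_fin_two])
      obtain ⟨a1, b1⟩ := key _ h₁
      obtain ⟨a2, b2⟩ := key _ h₂
      have hcomm : (n₂ * n₁)⁻¹ * (n₁ * n₂) ∈ Subgroup.centralizer (A : Set N) := by
        intro a ha
        have e1 : n₁ * n₂ * a * (n₁ * n₂)⁻¹ = a * (a⁻¹ * (n₁ * a * n₁⁻¹)) * (a⁻¹ * (n₂ * a * n₂⁻¹)) := by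
          calc n₁ * n₂ * a * (n₁ * n₂)⁻¹ = (n₁ * a * n₁⁻¹) * (n₁ * (a⁻¹ * (n₂ * a * n₂⁻¹)) * n₁⁻¹) := by group
            _ = _ := by rw [a1 _ (b2 a ha)]; group
        have e2 : n₂ * n₁ * a * (n₂ * n₁)⁻¹ = a * (a⁻¹ * (n₂ * a * n₂⁻¹)) * (a⁻¹ * (n₁ * a * n₁⁻¹)) := by
          calc n₂ * n₁ * a * (n₂ * n₁)⁻¹ = (n₂ * a * n₂⁻¹) * (n₂ * (a⁻¹ * (n₁ * a * n₁⁻¹)) * n₂⁻¹) := by group
            _ = _ := by rw [a2 _ (b1 a ha)]; group
        have e3 : n₁ * n₂ * a * (n₁ * n₂)⁻¹ = n₂ * n₁ * a * (n₂ * n₁)⁻¹ := by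
          rw [e1, e2, mul_assoc, mul_assoc a,
            setLike_mul_comm (s := A) (b1 a ha).1 (b2 a ha).1]
        calc a * ((n₂ * n₁)⁻¹ * (n₁ * n₂)) = (n₂ * n₁)⁻¹ * (n₂ * n₁ * a * (n₂ * n₁)⁻¹) * (n₁ * n₂) := by group
          _ = (n₂ * n₁)⁻¹ * (n₁ * n₂ * a * (n₁ * n₂)⁻¹) * (n₁ * n₂) := by rw [e3]
          _ = _ := by group
      rw [hAself] at hcomm
      have := (hker _).mpr hcomm
      rw [map_mul, map_inv, map_mul, map_mul, hn₁, hn₂, inv_mul_eq_one] at this
      exact huv this.symm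
    · have hWA : W = A := Subgroup.eq_of_le_of_card_ge inf_le_left (by rw [hcard, hAcard])
      apply htA
      rw [← hAself]
      intro a ha
      rw [← hWA] at ha
      exact Subgroup.mem_centralizer_singleton_iff.mp ha.2
  refine ⟨Subgroup.centralizer ({t} : Set N), hWbot, ?_⟩
  rw [eq_top_iff]
  intro g _
  obtain ⟨a, ha, hga⟩ := hconjt g
  have hinvA : ∀ x ∈ A, t * x * t = x⁻¹ := by
    intro x hx
    have htx : t * x * t ∈ A := by
      have := ‹A.Normal›.conj_mem x hx t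
      rwa [hinv] at this
    have : x * (t * x * t) ∈ W := by
      refine ⟨A.mul_mem hx htx, ?_⟩
      refine Subgroup.mem_centralizer_singleton_iff.mpr ?_
      calc x * (t * x * t) * t = x * (t * x) * (t * t) := by group
        _ = x * (t * x) := by rw [htt, mul_one]
        _ = (t * t) * (x * (t * x)) := by rw [htt, one_mul]
        _ = t * ((t * x * t) * x) := by simp only [mul_assoc]
        _ = _ := by rw [setLike_mul_comm (s := A) htx hx]
    rw [hWbot, Subgroup.mem_bot] at this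
    exact eq_inv_of_mul_eq_one_right this
  obtain ⟨k, hk⟩ := hodd
  set b := (a ^ (k + 1))⁻¹ with hb
  have hbA : b ∈ A := A.inv_mem (A.pow_mem ha _)
  have hbt : b * t * b⁻¹ = g * t * g⁻¹ := by
    have h1 : b * t = t * b⁻¹ := by
      calc b * t = (t * t) * b * t := by rw [htt, one_mul]
        _ = t * (t * b * t) := by simp only [mul_assoc]
        _ = _ := by rw [hinvA b hbA]
    have h2 : a ^ (k + 1) * a ^ (k + 1) = a := by
      rw [← pow_add, show k + 1 + (k + 1) = p + 1 by omega, pow_succ, hpow a ha, one_mul]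
    rw [h1, hga, mul_assoc, hb, inv_inv, h2]
  have hC : b⁻¹ * g ∈ Subgroup.centralizer ({t} : Set N) := by
    rw [Subgroup.mem_centralizer_singleton_iff]
    calc b⁻¹ * g * t = b⁻¹ * (g * t * g⁻¹) * g := by group
      _ = b⁻¹ * (b * t * b⁻¹) * g := by rw [hbt]
      _ = _ := by group
  have hg' : g = b * (b⁻¹ * g) := by group
  rw [hg']
  exact Subgroup.mul_mem_sup hbA hC

end Cfsg.Agent.S3075
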