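import Cfsg.Statements.S3076
import Cfsg.Agent.ConjFunctor.Basic
import Cfsg.Agent.Lib.Thompson.Cores
import Cfsg.Agent.Lib.Transfer.Frobenius
import Cfsg.Agent.PLocalB.PConstrained

set_option autoImplicit false
set_option linter.style.haveILetI false
open Cfsg

namespace Cfsg.Agent.S3076

theorem core {M : Type*} [Group M] [Finite M] {p : ℕ} [Fact p.Prime] (S : Sylow p M) (h : Subgroup M)
    [h.Normal] (hp : IsPGroup p h) (C : Subgroup M) [C.Normal]
    (hC : C = Subgroup.centralizer (h : Set M)) :
    h ≤ (pCore p (M ⧸ C)).comap (QuotientGroup.mk' C) ∧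
    (¬ p ∣ h.relIndex ((pCore p (M ⧸ C)).comap (QuotientGroup.mk' C)) ↔
      ((S : Subgroup M) ⊓ C ≤ h ∧ pPrimePCore p M = h ⊔ C)) := by
  set f := QuotientGroup.mk' C with hf
  set N := (pCore p (M ⧸ C)).comap f with hN
  have hCN : C ≤ N := fun x hx => by
    show f x ∈ pCore p (M ⧸ C)
    rw [show f x = 1 from (QuotientGroup.eq_one_iff x).2 hx]
    exact one_mem _
  have hmem : ∀ {Q : Subgroup M}, Q.Normal → IsPGroup p (Q.map f) → Q ≤ N := fun hQn hQp =>
    Subgroup.map_le_iff_le_comap.1
      (Thompson.le_pCore (hQn.map f (QuotientGroup.mk'_surjective C)) hQp)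
  have hhN : h ≤ N := hmem inferInstance (hp.map f)
  refine ⟨hhN, ?_⟩
  have hNS : N = ((S : Subgroup M) ⊓ N) ⊔ C := by
    refine le_antisymm ?_ (sup_le inf_le_right hCN)
    intro x hx
    have h1 : f x ∈ ((S.mapSurjective (QuotientGroup.mk'_surjective C) : Sylow p (M ⧸ C)) :
        Subgroup (M ⧸ C)) := Thompson.pCore_le_sylow _ hx
    rw [Sylow.coe_mapSurjective] at h1
    obtain ⟨s, hs, he⟩ := h1
    have h2 : s⁻¹ * x ∈ C := QuotientGroup.eq.1 he
    have h3 : s ∈ N := by
      show f s ∈ pCore p (M ⧸ C)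
      rw [he]; exact hx
    have := Subgroup.mul_mem_sup (show s ∈ (S : Subgroup M) ⊓ N from ⟨hs, h3⟩) h2
    rwa [mul_inv_cancel_left] at this
  have hSh : h ≤ (S : Subgroup M) := (Thompson.le_pCore ‹h.Normal› hp).trans (Thompson.pCore_le_sylow S)
  have hCc : ∀ c ∈ C, ∀ x ∈ h, x * c = c * x := fun c hc => Subgroup.mem_centralizer_iff.1 (hC.le hc)
  constructor
  · intro hdvd
    have hsylN : ConjFunctor.IsSylowIn p h N := ⟨hhN, hp, hdvd⟩
    have hSN : (S : Subgroup M) ⊓ N = h :=
      hsylN.eq_of_le (S.2.to_inf_left) inf_le_right (le_inf hSh hhN)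
    have hSC : (S : Subgroup M) ⊓ C ≤ h := (inf_le_inf_left _ hCN).trans hSN.le
    refine ⟨hSC, le_antisymm ?_ ?_⟩
    · obtain ⟨T⟩ : Nonempty (Sylow p ↥(pPrimePCore p M)) := inferInstance
      have hsup := Thompson.sylow_pPrimePCore_sup T
      have hO : pPrimeCore p M ≤ C := by
        rw [hC]
        exact Thompson.pPrimeCore_le_centralizer_pCore.trans
          (Subgroup.centralizer_le (Thompson.le_pCore ‹h.Normal› hp))
      rw [← hSN, ← hNS]
      refine hmem inferInstance ?_
      rw [← hsup, Subgroup.map_sup, (Subgroup.map_eq_bot_iff _).2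
        (by rw [hf, QuotientGroup.ker_mk']; exact hO)]
      first
        | rw [sup_bot_eq]; exact (T.2.map _).map f
        | rw [bot_sup_eq]; exact (T.2.map _).map f
    · -- `C` is `p`-nilpotent with central Sylow `S ⊓ C`
      have hcp : Cfsg.HasNormalPComplement p ↥C := by
        obtain ⟨Q, hQ⟩ := (ConjFunctor.isSylowIn_inf_of_normal (ConjFunctor.isSylowIn_top S)
          (le_top (a := C)) (by rw [ConjFunctor.nrm_eq_top])).exists_sylow
        refine Transfer.hasNormalPComplement_of_normalizer_centralizer Q fun R hR _ g _ _ => ?_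
        refine Subgroup.mem_centralizer_iff.2 fun r hr => Subtype.ext ?_
        exact hCc _ g.2 (r : M) (hSC (hQ.le ⟨r, hR hr, rfl⟩))
      have h1 : (pResidual p ↥C).map C.subtype ≤ pPrimeCore p M := by
        refine Thompson.le_pPrimeCore (Thompson.map_subtype_normal_of_characteristic C _) ?_
        rw [Subgroup.card_map_of_injective C.subtype_injective]
        exact ((Fact.out : p.Prime).coprime_iff_not_dvd.2
          (Transfer.hasNormalPComplement_iff_not_dvd.1 hcp)).symm
      have hpp : ∀ {Q : Subgroup M}, Q.Normal →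
          IsPGroup p (Q.map (QuotientGroup.mk' (pPrimeCore p M))) → Q ≤ pPrimePCore p M := by
        intro Q hQn hQp
        have := Thompson.le_pCore (hQn.map (QuotientGroup.mk' (pPrimeCore p M))
          (QuotientGroup.mk'_surjective _)) hQp
        rw [← Thompson.map_mk'_pPrimePCore, Subgroup.map_le_iff_le_comap, Subgroup.comap_map_eq,
          QuotientGroup.ker_mk'] at this
        exact this.trans (sup_le le_rfl Thompson.pPrimeCore_le_pPrimePCore)
      refine sup_le (hpp inferInstance (hp.map _)) (hpp inferInstance ?_)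
      obtain ⟨Q, hQ⟩ := (ConjFunctor.isSylowIn_inf_of_normal (ConjFunctor.isSylowIn_top S)
        (le_top (a := C)) (by rw [ConjFunctor.nrm_eq_top])).exists_sylow
      have h2 : C = (Q : Subgroup ↥C).map C.subtype ⊔ (pResidual p ↥C).map C.subtype := by
        rw [← Subgroup.map_sup, Transfer.sylow_sup_pResidual_eq_top, ← MonoidHom.range_eq_map,
          Subgroup.range_subtype]
      rw [h2, Subgroup.map_sup, (Subgroup.map_eq_bot_iff
        ((pResidual p ↥C).map C.subtype)).2 (by rw [QuotientGroup.ker_mk']; exact h1), sup_bot_eq]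
      exact (Q.2.map _).map _
  · rintro ⟨hSC, hL⟩
    set g := QuotientGroup.mk' (pPrimeCore p M) with hg
    have hO : pPrimeCore p M ≤ C := by
      rw [hC]
      exact Thompson.pPrimeCore_le_centralizer_pCore.trans
        (Subgroup.centralizer_le (Thompson.le_pCore ‹h.Normal› hp))
    have hNle : N ≤ h ⊔ C := by
      rw [← hL]
      have hCp : IsPGroup p (C.map g) := by
        refine Thompson.isPGroup_pCore.to_le (H := C.map g) (K := pCore p (M ⧸ pPrimeCore p M)) ?_
        rw [← Thompson.map_mk'_pPrimePCore]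
        exact Subgroup.map_mono (hL ▸ le_sup_right)
      have hNp : IsPGroup p (N.map g) := by
        rw [hNS, Subgroup.map_sup]
        haveI : (C.map g).Normal := Subgroup.Normal.map ‹_› g (QuotientGroup.mk'_surjective _)
        exact (S.2.to_inf_left.map g).to_sup_of_normal_right hCp
      have := Thompson.le_pCore ((inferInstance : N.Normal).map g
        (QuotientGroup.mk'_surjective _)) hNp
      rw [← Thompson.map_mk'_pPrimePCore, Subgroup.map_le_iff_le_comap, Subgroup.comap_map_eq,
        QuotientGroup.ker_mk'] at this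
      exact this.trans (sup_le le_rfl Thompson.pPrimeCore_le_pPrimePCore)
    have hSN : (S : Subgroup M) ⊓ N ≤ h := by
      rintro x ⟨hxS, hxN⟩
      obtain ⟨a, ha, c, hc, rfl⟩ := Subgroup.mem_sup_of_normal_right.1 (hNle hxN)
      have hcS : c ∈ (S : Subgroup M) := by
        simpa using (S : Subgroup M).mul_mem ((S : Subgroup M).inv_mem (hSh ha)) hxS
      exact h.mul_mem ha (hSC ⟨hcS, hc⟩)
    have hsyl := ConjFunctor.isSylowIn_inf_of_normal (ConjFunctor.isSylowIn_top S) (le_top (a := N))
      (by rw [ConjFunctor.nrm_eq_top])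
    rw [le_antisymm hSN (le_inf hSh hhN)] at hsyl
    exact hsyl.2.2

theorem result {G : Type*} [Group G] [Finite G] {p : ℕ} [Fact p.Prime]
    (P : Sylow p G) (H : Subgroup G) (hHP : H ≤ (P : Subgroup G))
    (hSyl : ¬ p ∣ ((P : Subgroup G) ⊓ Subgroup.normalizer (H : Set G)).relIndex (Subgroup.normalizer (H : Set G)))
    [hC : ((Subgroup.centralizer (H : Set G)).subgroupOf (Subgroup.normalizer (H : Set G))).Normal] :
    (H ≤ ((Cfsg.pCore p (↥(Subgroup.normalizer (H : Set G)) ⧸
              (Subgroup.centralizer (H : Set G)).subgroupOf (Subgroup.normalizer (H : Set G)))).comap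
            (QuotientGroup.mk' _)).map (Subgroup.normalizer (H : Set G)).subtype ∧
      ¬ p ∣ H.relIndex (((Cfsg.pCore p (↥(Subgroup.normalizer (H : Set G)) ⧸
              (Subgroup.centralizer (H : Set G)).subgroupOf (Subgroup.normalizer (H : Set G)))).comap
            (QuotientGroup.mk' _)).map (Subgroup.normalizer (H : Set G)).subtype)) ↔
    ((P : Subgroup G) ⊓ Subgroup.centralizer (H : Set G) ≤ H ∧
      (Cfsg.pPrimePCore p ↥(Subgroup.normalizer (H : Set G))).map (Subgroup.normalizer (H : Set G)).subtype =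
        H ⊔ Subgroup.centralizer (H : Set G)) := by
  set M := Subgroup.normalizer (H : Set G) with hM
  obtain ⟨S, hS⟩ := (show ConjFunctor.IsSylowIn p ((P : Subgroup G) ⊓ M) M from
    ⟨inf_le_right, P.2.to_inf_left, hSyl⟩).exists_sylow
  have hHM : H ≤ M := Subgroup.le_normalizer
  have hCM : Subgroup.centralizer (H : Set G) ≤ M := Subgroup.centralizer_le_normalizer _
  set h := H.subgroupOf M with hh
  haveI : h.Normal := Subgroup.normal_in_normalizer
  have hhp : IsPGroup p h := (P.2.to_le hHP).comap_subtype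
  have hCeq : (Subgroup.centralizer (H : Set G)).subgroupOf M = Subgroup.centralizer (h : Set ↥M) := by
    ext x
    rw [Subgroup.mem_subgroupOf, Subgroup.mem_centralizer_iff, Subgroup.mem_centralizer_iff]
    exact ⟨fun e y hy => Subtype.ext (e (y : G) hy),
      fun e y hy => congrArg Subtype.val (e ⟨y, hHM hy⟩ hy)⟩
  obtain ⟨hle, hiff⟩ := core S h hhp _ hCeq
  have eH : h.map M.subtype = H := Subgroup.map_subgroupOf_eq_of_le hHM
  have eC : ((Subgroup.centralizer (H : Set G)).subgroupOf M).map M.subtype =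
      Subgroup.centralizer (H : Set G) := Subgroup.map_subgroupOf_eq_of_le hCM
  have eS : ((P : Subgroup G) ⊓ Subgroup.centralizer (H : Set G)) =
      ((S : Subgroup ↥M) ⊓ (Subgroup.centralizer (H : Set G)).subgroupOf M).map M.subtype := by
    rw [Subgroup.map_inf _ _ _ M.subtype_injective, hS, eC, inf_assoc, inf_eq_right.2 hCM]
  set N := (Cfsg.pCore p (↥M ⧸ (Subgroup.centralizer (H : Set G)).subgroupOf M)).comap
    (QuotientGroup.mk' _) with hN
  have eR : H.relIndex (N.map M.subtype) = h.relIndex N := by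
    conv_lhs => rw [← eH]
    exact Subgroup.relIndex_map_map_of_injective _ _ M.subtype_injective
  rw [eR, eS, iff_comm]
  constructor
  · rintro ⟨h1, h2⟩
    refine ⟨eH.ge.trans (Subgroup.map_mono hle), hiff.2 ⟨?_, ?_⟩⟩
    · rw [← Subgroup.map_le_map_iff_of_injective M.subtype_injective, eH]; exact h1
    · refine Subgroup.map_injective M.subtype_injective ?_
      rw [h2, Subgroup.map_sup, eH, eC]
  · rintro ⟨_, h2⟩
    obtain ⟨h3, h4⟩ := hiff.1 h2
    refine ⟨?_, ?_⟩
    · exact (Subgroup.map_mono h3).trans eH.le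
    · rw [h4, Subgroup.map_sup, eH, eC]

end Cfsg.Agent.S3076
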