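import Cfsg.Statements.S3078
import Cfsg.Agent.PLocalB.Replacement
import Cfsg.Agent.Lib.PGroup.Commutator

set_option autoImplicit false
set_option linter.style.haveILetI false

open scoped commutatorElement

namespace Cfsg.Agent.S3078

open Cfsg.Agent.PLocalB

/-- The replacement subgroup has at least as many elements of order dividing `p`. -/
theorem omega_card_repl {S : Type*} [Group S] [Finite S] {p : ℕ} [Fact p.Prime] (hp : p ≠ 2)
    (A : Subgroup S) (hA : IsMulCommutative A) (b : S)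
    (hbN : b ∈ Subgroup.normalizer ((Subgroup.normalizer (A : Set S)) : Set S))
    (hR : IsMulCommutative (repl A b)) :
    Nat.card (Cfsg.omegaOne p A) ≤ Nat.card (Cfsg.omegaOne p (repl A b)) := by
  classical
  set R := repl A b with hRdef
  set A₂ := A.map (MulAut.conj (b⁻¹)).toMonoidHom with hA₂
  have hmem : ∀ y, y ∈ A₂ ↔ b * y * b⁻¹ ∈ A := fun y => by
    rw [hA₂, Subgroup.mem_map_equiv]; simp
  have hgood : ∀ {H : Subgroup S}, IsMulCommutative H →
      ∀ x, x ∈ Cfsg.omegaOne p H ↔ x ∈ H ∧ x ^ p = 1 := by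
    intro H hH x
    refine ⟨fun hx => ?_, fun hx => Subgroup.subset_closure hx⟩
    induction hx using Subgroup.closure_induction with
    | mem y hy => exact hy
    | one => exact ⟨one_mem _, one_pow p⟩
    | mul y z _ _ hy hz =>
      refine ⟨mul_mem hy.1 hz.1, ?_⟩
      have hc : Commute y z := setLike_mul_comm (s := H) hy.1 hz.1
      rw [hc.mul_pow, hy.2, hz.2, one_mul]
    | inv y _ hy => exact ⟨inv_mem hy.1, by rw [inv_pow, hy.2, inv_one]⟩
  set I := A ⊓ A₂ with hI
  have hIR : I ≤ R := le_sup_left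
  let c : S → S := fun a => b⁻¹ * a * b * a⁻¹
  have hcR : ∀ a ∈ A, c a ∈ R := fun a ha => by
    rw [hRdef, repl, replClosure_eq]
    exact Subgroup.mem_sup_right (Subgroup.subset_closure ⟨a, ha, rfl⟩)
  have hA₂gen : ∀ a ∈ A, b⁻¹ * a * b ∈ A₂ := fun a ha => by
    rw [hmem]; simpa [mul_assoc] using ha
  have hcp : ∀ a ∈ A, a ^ p = 1 → c a ^ p = 1 := by
    intro a ha hap
    set y := b⁻¹ * a * b with hy
    have hyA₂ : y ∈ A₂ := hA₂gen a ha
    have hyN : y ∈ Subgroup.normalizer (A : Set S) :=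
      (Subgroup.mem_normalizer_iff.mp hbN y).mpr (Subgroup.le_normalizer ((hmem y).mp hyA₂))
    have hw : ⁅a⁻¹, y⁆ ∈ I := by
      constructor
      · rw [commutatorElement_def, inv_inv, mul_assoc a⁻¹ y a, mul_assoc a⁻¹]
        exact A.mul_mem (A.inv_mem ha) ((Subgroup.mem_normalizer_iff.mp hyN a).mp ha)
      · rw [commutatorElement_def, inv_inv]
        refine A₂.mul_mem ?_ (A₂.inv_mem hyA₂)
        rw [hmem]
        have ha' : b * a⁻¹ * b⁻¹ ∈ Subgroup.normalizer (A : Set S) :=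
          (Subgroup.mem_normalizer_iff.mp hbN a⁻¹).mp (Subgroup.le_normalizer (A.inv_mem ha))
        have := (Subgroup.mem_normalizer_iff.mp ha' (b * y * b⁻¹)).mp ((hmem y).mp hyA₂)
        simpa [mul_assoc] using this
    have hwa : Commute ⁅a⁻¹, y⁆ a⁻¹ := setLike_mul_comm (s := A) hw.1 (A.inv_mem ha)
    have hwy : Commute ⁅a⁻¹, y⁆ y := by
      haveI : IsMulCommutative A₂ := by rw [hA₂]; infer_instance
      exact setLike_mul_comm (s := A₂) hw.2 hyA₂
    have hyp : y ^ p = 1 := by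
      have e : y ^ p = b⁻¹ * a ^ p * b := by
        rw [hy]; simpa using (conj_pow (a := b⁻¹) (b := a) (i := p))
      rw [e, hap, mul_one, inv_mul_cancel]
    have hwp : ⁅a⁻¹, y⁆ ^ p = 1 := by
      rw [← PGroup.commutatorElement_pow_right hwy, hyp, commutatorElement_one_right]
    show (y * a⁻¹) ^ p = 1
    rw [PGroup.mul_pow_of_commute_commutator hwy hwa, hyp, inv_pow, hap, inv_one, one_mul, one_mul]
    obtain ⟨k, hk⟩ : p ∣ p.choose 2 := (Fact.out : p.Prime).dvd_choose_self (by norm_num)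
      (lt_of_le_of_ne (Fact.out : p.Prime).two_le (Ne.symm hp))
    rw [hk, pow_mul, hwp, one_pow]
  -- representatives of `Ω(A)` modulo `I`
  set ΩA := Cfsg.omegaOne p A
  set ΩR := Cfsg.omegaOne p R
  let J : Subgroup ΩA := I.subgroupOf ΩA
  let rep : ΩA → ΩA := fun a => (QuotientGroup.mk (s := J) a).out
  have hrep : ∀ a, (rep a)⁻¹ * a ∈ J := fun a =>
    QuotientGroup.eq.mp (QuotientGroup.out_eq' (QuotientGroup.mk (s := J) a))
  have hrepA : ∀ a, ((rep a : ΩA) : S) ∈ A ∧ ((rep a : ΩA) : S) ^ p = 1 := fun a =>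
    (hgood hA _).mp (rep a).2
  let f : ΩA → ΩR := fun a => ⟨((rep a)⁻¹ * a : ΩA) * c (rep a), by
    rw [hgood hR]
    have h1 : (((rep a)⁻¹ * a : ΩA) : S) ∈ R := hIR (hrep a)
    refine ⟨R.mul_mem h1 (hcR _ (hrepA a).1), ?_⟩
    have hc : Commute (((rep a)⁻¹ * a : ΩA) : S) (c (rep a)) :=
      setLike_mul_comm (s := R) h1 (hcR _ (hrepA a).1)
    rw [hc.mul_pow, hcp _ (hrepA a).1 (hrepA a).2, mul_one,
      ((hgood hA _).mp ((rep a)⁻¹ * a : ΩA).2).2]⟩
  refine Nat.card_le_card_of_injective f fun a a' h => ?_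
  have h1 : (((rep a)⁻¹ * a : ΩA) : S) * c (rep a) = (((rep a')⁻¹ * a' : ΩA) : S) * c (rep a') :=
    congrArg Subtype.val h
  set r := rep a with hr
  set r' := rep a' with hr'
  set u : S := (((r)⁻¹ * a : ΩA) : S)⁻¹ * (((r')⁻¹ * a' : ΩA) : S) with hu
  have huI : u ∈ I := I.mul_mem (I.inv_mem (hrep a)) (hrep a')
  have h2 : c r = u * c r' := by
    rw [hu, mul_assoc, ← h1, inv_mul_cancel_left]
  have hrA : (r : S) ∈ A := (hrepA a).1
  have hrA' : (r' : S) ∈ A := (hrepA a').1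
  have hkey : ((r : S))⁻¹ * r' ∈ I := by
    refine ⟨A.mul_mem (A.inv_mem hrA) hrA', ?_⟩
    haveI : IsMulCommutative A₂ := by rw [hA₂]; infer_instance
    have h3 : u * (b⁻¹ * (r' : S) * b) * ((r' : S))⁻¹ = b⁻¹ * (r : S) * b * ((r : S))⁻¹ := by
      have := h2.symm
      simp only [c] at this
      rw [← this]; group
    have h4 : (b⁻¹ * (r : S) * b)⁻¹ * (u * (b⁻¹ * (r' : S) * b)) = ((r : S))⁻¹ * r' := by
      have : u * (b⁻¹ * (r' : S) * b) = b⁻¹ * (r : S) * b * ((r : S))⁻¹ * r' := by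
        rw [← h3]; group
      rw [this]; group
    rw [← h4]
    exact A₂.mul_mem (A₂.inv_mem (hA₂gen _ hrA)) (A₂.mul_mem huI.2 (hA₂gen _ hrA'))
  have hJ : r⁻¹ * r' ∈ J := hkey
  have hclass : (QuotientGroup.mk (s := J) a) = QuotientGroup.mk (s := J) a' := by
    have e : ∀ x : ΩA, QuotientGroup.mk (s := J) (rep x) = QuotientGroup.mk x := fun x =>
      QuotientGroup.out_eq' _
    rw [← e a, ← e a']
    exact QuotientGroup.eq.mpr hJ
  have hrr : r = r' := by
    show (QuotientGroup.mk (s := J) a).out = (QuotientGroup.mk (s := J) a').out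
    rw [hclass]
  rw [hrr] at h1
  exact mul_left_cancel (Subtype.ext (mul_right_cancel h1) : r'⁻¹ * a = r'⁻¹ * a')

theorem result.{u} {G : Type u} [Group G] [Finite G] {p : ℕ} [Fact p.Prime] (hp : p ≠ 2) (hG : IsPGroup p G) (A B : Subgroup G) (hA : IsMulCommutative A) (hB2 : ⁅⁅B, B⁆, B⁆ = ⊥) (hBA : ⁅B, B⁆ ≤ A) (hAB : A ≤ Subgroup.normalizer (B : Set G)) (hBnA : ¬ B ≤ Subgroup.normalizer (A : Set G)) : ∃ Astar : Subgroup G, IsMulCommutative Astar ∧ Nat.card Astar = Nat.card A ∧ A ⊓ B < Astar ⊓ B ∧ Astar ≤ Subgroup.normalizer (A : Set G) ∧ Astar ≤ Subgroup.normalClosure (A : Set G) ∧ Monoid.exponent Astar ∣ Monoid.exponent A ∧ Nat.card (Cfsg.omegaOne p A) ≤ Nat.card (Cfsg.omegaOne p Astar) := by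
  set S := A ⊔ B with hS
  have hAS : A ≤ S := le_sup_left
  have hBS : B ≤ S := le_sup_right
  set A₁ := A.subgroupOf S with hA₁def
  set B₁ := B.subgroupOf S with hB₁def
  haveI : B₁.Normal := (Subgroup.normal_subgroupOf_iff_le_normalizer hBS).mpr
    (sup_le hAB Subgroup.le_normalizer)
  have hinj := Subgroup.subtype_injective S
  have eA : A₁.map S.subtype = A := Subgroup.map_subgroupOf_eq_of_le hAS
  have eB : B₁.map S.subtype = B := Subgroup.map_subgroupOf_eq_of_le hBS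
  have hA₁ : IsMulCommutative A₁ := by
    haveI := hA; exact inferInstanceAs (IsMulCommutative ↥(A.subgroupOf S))
  have hBA₁ : ⁅B₁, B₁⁆ ≤ A₁ := by
    rw [← Subgroup.map_le_map_iff_of_injective hinj, Subgroup.map_commutator, eA, eB]; exact hBA
  have hnot₁ : ¬ B₁ ≤ Subgroup.normalizer (A₁ : Set S) := by
    intro h
    apply hBnA
    rw [Subgroup.le_normalizer_iff_commutator_le_right, ← eA, ← eB, ← Subgroup.map_commutator]
    exact Subgroup.map_mono (Subgroup.le_normalizer_iff_commutator_le_right.mp h)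
  obtain ⟨b, hb, hbN, hbA⟩ := exists_normalizing_element (hG.to_subgroup S) B₁ A₁ hnot₁
  obtain ⟨h1, h2, -, h4, -, -, h7, -, -, h10⟩ := glauberman_replacement (hG.to_subgroup S) B₁
    (fun h => absurd h hp) A₁ hA₁ hBA₁ b hb hbN hbA
  refine ⟨(repl A₁ b).map S.subtype, ?_, ?_, ?_, ?_, ?_, ?_, ?_⟩
  · haveI := h2; infer_instance
  · rw [Subgroup.card_map_of_injective hinj, h1,
      ← Subgroup.card_map_of_injective (f := S.subtype) (K := A₁) hinj, eA]
  · rw [← eA, ← eB, ← Subgroup.map_inf _ _ _ hinj, ← Subgroup.map_inf _ _ _ hinj]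
    exact Subgroup.map_lt_map_iff_of_injective hinj |>.mpr h4
  · rw [← eA]
    exact (Subgroup.map_mono h7).trans (Subgroup.le_normalizer_map _)
  · rw [Subgroup.map_le_iff_le_comap, repl, replClosure_eq]
    refine sup_le (fun x hx => ?_) ?_
    · exact Subgroup.le_normalClosure (H := A) hx.1
    · rw [bA, Subgroup.closure_le]
      rintro _ ⟨a, ha, rfl⟩
      show ((b⁻¹ * a * b * a⁻¹ : S) : G) ∈ Subgroup.normalClosure (A : Set G)
      simp only [Subgroup.coe_mul, InvMemClass.coe_inv]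
      refine mul_mem ?_ (inv_mem (Subgroup.le_normalClosure ha))
      simpa using (Subgroup.normalClosure_normal (s := (A : Set G))).conj_mem (a : G)
        (Subgroup.le_normalClosure ha) (b : G)⁻¹
  · rw [← Monoid.exponent_eq_of_mulEquiv ((repl A₁ b).equivMapOfInjective _ hinj),
      ← Monoid.exponent_eq_of_mulEquiv (Subgroup.subgroupOfEquivOfLe hAS)]
    exact h10 hp
  · have hm : ∀ H : Subgroup S, (Cfsg.omegaOne p H).map S.subtype =
        Cfsg.omegaOne p (H.map S.subtype) := by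
      intro H
      rw [Cfsg.omegaOne, Cfsg.omegaOne, MonoidHom.map_closure]
      congr 1
      ext y
      constructor
      · rintro ⟨x, ⟨hx, hxp⟩, rfl⟩
        exact ⟨⟨x, hx, rfl⟩, by rw [← map_pow, hxp, map_one]⟩
      · rintro ⟨⟨x, hx, rfl⟩, hxp⟩
        exact ⟨x, ⟨hx, hinj (by rw [map_pow, hxp, map_one])⟩, rfl⟩
    have := omega_card_repl hp A₁ hA₁ b hbN h2
    rwa [← Subgroup.card_map_of_injective (f := S.subtype) hinj,
      ← Subgroup.card_map_of_injective (f := S.subtype) (K := Cfsg.omegaOne p (repl A₁ b)) hinj,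
      hm, hm, eA] at this

end Cfsg.Agent.S3078
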