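import Cfsg.Statements.S3079
import Cfsg.Agent.LocalEvenD.ZJStrong

set_option autoImplicit false

namespace Cfsg.Agent.S3079

theorem result.{u} {G : Type u} [Group G] [Finite G] {p : ℕ} [Fact p.Prime] (hp : p ≠ 2) (P : Sylow p G) (D : Subgroup G) (hD : Cfsg.IsStronglyClosed D (P : Subgroup G)) (hst : Cfsg.IsNormalizerPStable p G) (hc : Subgroup.centralizer ((Cfsg.pCore p G : Subgroup G) : Set G) ≤ Cfsg.pCore p G) : (Cfsg.centerThompsonAOf D).Normal ∧ (Cfsg.omegaOne p (Cfsg.centerThompsonOf p D)).Normal := by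
  have hst' : ∀ (B : Subgroup G) [B.Normal], IsPGroup p B → Cfsg.IsPStableOn p B :=
    fun B _ hB => LocalEvenD.isPStableOn_of_normalizerPStable hst B hB
  refine ⟨?_, ?_⟩
  · rw [PLocalB.centerThompsonAOf_eq_core]
    exact LocalEvenD.core_normal_of_stronglyClosed (PLocalB.abelianFamily G) hp hc P (fun B _ hB a _ ha => hst' B hB a ha) hD.1 hD.2
  · rw [Cfsg.centerThompsonOf, PLocalB.omega_center_eq_core]
    exact LocalEvenD.core_normal_of_stronglyClosed (PLocalB.elementaryFamily p G) hp hc P (fun B _ hB a _ ha => hst' B hB a ha) hD.1 hD.2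

end Cfsg.Agent.S3079
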