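import Cfsg.Statements.S3080
import Cfsg.Agent.LocalEvenD.StrongCtlD
import Cfsg.Agent.PLocalB.PConstrained

set_option autoImplicit false
set_option linter.style.haveILetI false
open Cfsg
open scoped commutatorElement

namespace Cfsg.Agent.S3080

open Cfsg.Agent.ConjFunctor

/-- Normalizer `p`-stability passes to `M / O_{p'}(M)` for normal `p`-subgroups. -/
theorem stable_local {G : Type*} [Group G] [Finite G] {p : ℕ} [Fact p.Prime]
    (hst : Cfsg.IsNormalizerPStable p G) (M : Subgroup G) (P : Sylow p ↥M)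
    (B : Subgroup (↥M ⧸ pPrimeCore p ↥M)) [B.Normal] (hB : IsPGroup p B)
    (a : ↥M ⧸ pPrimeCore p ↥M)
    (ha : a ∈ (P : Subgroup ↥M).map (QuotientGroup.mk' (pPrimeCore p ↥M)))
    (hq : ⁅⁅B, Subgroup.zpowers a⁆, Subgroup.zpowers a⁆ = ⊥) :
    (QuotientGroup.mk a : (↥M ⧸ pPrimeCore p ↥M) ⧸ Subgroup.centralizer (B : Set _)) ∈
      pCore p ((↥M ⧸ pPrimeCore p ↥M) ⧸ Subgroup.centralizer (B : Set _)) := by
  set K := pPrimeCore p ↥M with hK
  set f := QuotientGroup.mk' K with hf
  obtain ⟨x, hx, rfl⟩ := ha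
  set BS : Subgroup ↥M := (P : Subgroup ↥M) ⊓ B.comap f with hBS
  have hBSp : IsPGroup p BS := P.2.to_le inf_le_left
  have hBmap : BS.map f = B := by
    refine le_antisymm (Subgroup.map_le_iff_le_comap.2 inf_le_right) fun b hb => ?_
    have h1 : b ∈ ((P.mapSurjective (QuotientGroup.mk'_surjective K) : Sylow p (↥M ⧸ K)) :
        Subgroup (↥M ⧸ K)) := Thompson.pCore_le_sylow _ (Thompson.le_pCore ‹B.Normal› hB hb)
    rw [Sylow.coe_mapSurjective] at h1
    obtain ⟨y, hy, rfl⟩ := h1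
    exact ⟨y, ⟨hy, hb⟩, rfl⟩
  have hxN : x ∈ Subgroup.normalizer (BS : Set ↥M) := by
    refine mem_nrm_of_forall fun y hy => ⟨?_, ?_⟩
    · exact (P : Subgroup ↥M).mul_mem ((P : Subgroup ↥M).mul_mem hx hy.1)
        ((P : Subgroup ↥M).inv_mem hx)
    · exact (inferInstance : (B.comap f).Normal).conj_mem y hy.2 x
  set BG : Subgroup G := BS.map M.subtype with hBG
  have hle : (Subgroup.normalizer (BS : Set ↥M)).map M.subtype ≤ Subgroup.normalizer (BG : Set G) :=
    Subgroup.le_normalizer_map _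
  have hxG : (x : G) ∈ Subgroup.normalizer (BG : Set G) := hle ⟨x, hxN, rfl⟩
  have hquad : ⁅⁅BG, Subgroup.zpowers (x : G)⁆, Subgroup.zpowers (x : G)⁆ = ⊥ := by
    have hz : Subgroup.zpowers x ≤ (P : Subgroup ↥M) := Subgroup.zpowers_le.2 hx
    have h1 : ⁅⁅BS, Subgroup.zpowers x⁆, Subgroup.zpowers x⁆ ≤ (P : Subgroup ↥M) ⊓ K := by
      refine le_inf ((Subgroup.commutator_mono ((Subgroup.commutator_mono inf_le_left hz).trans
        (Subgroup.commutator_le_self _)) hz).trans (Subgroup.commutator_le_self _)) ?_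
      conv_rhs => rw [← QuotientGroup.ker_mk' K]
      rw [← Subgroup.map_eq_bot_iff, Subgroup.map_commutator, Subgroup.map_commutator,
        MonoidHom.map_zpowers, ← hf, hBmap]
      exact hq
    rw [Thompson.inf_eq_bot_of_isPGroup_of_coprime P.2 Thompson.card_pPrimeCore_coprime,
      le_bot_iff] at h1
    have h2 := congrArg (Subgroup.map M.subtype) h1
    rwa [Subgroup.map_commutator, Subgroup.map_commutator, MonoidHom.map_zpowers,
      Subgroup.map_bot] at h2
  have h := hst BG (hBSp.map _) (x : G) hxG hquad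
  let j : ↥(Subgroup.normalizer (BS : Set ↥M)) →* ↥(Subgroup.normalizer (BG : Set G)) :=
    (M.subtype.comp (Subgroup.normalizer (BS : Set ↥M)).subtype).codRestrict _
      fun y => hle ⟨(y : ↥M), y.2, rfl⟩
  let φ := (QuotientGroup.mk' ((Subgroup.centralizer (BG : Set G)).subgroupOf
    (Subgroup.normalizer (BG : Set G)))).comp j
  let ψ := (QuotientGroup.mk' (Subgroup.centralizer (B : Set (↥M ⧸ K)))).comp
    (f.comp (Subgroup.normalizer (BS : Set ↥M)).subtype)
  have hψ : Function.Surjective ψ := by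
    intro q
    obtain ⟨b, rfl⟩ := QuotientGroup.mk'_surjective _ q
    have h1 : b ∈ Subgroup.normalizer ((BS.map f : Subgroup _) : Set (↥M ⧸ K)) := by
      rw [hBmap, Subgroup.normalizer_eq_top B]; trivial
    rw [← PLocalB.map_normalizer_eq K BS Thompson.card_pPrimeCore_coprime hBSp] at h1
    obtain ⟨n, hn, rfl⟩ := h1
    exact ⟨⟨n, hn⟩, rfl⟩
  have hker : ∀ y, φ y = 1 → ψ y = 1 := by
    intro y hy
    have hy' : ((y : ↥M) : G) ∈ Subgroup.centralizer (BG : Set G) :=
      Subgroup.mem_subgroupOf.1 ((QuotientGroup.eq_one_iff (j y)).1 hy)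
    refine (QuotientGroup.eq_one_iff _).2 (Subgroup.mem_centralizer_iff.2 fun b hb => ?_)
    obtain ⟨z, hz, rfl⟩ : b ∈ BS.map f := by rw [hBmap]; exact hb
    have h1 : z * (y : ↥M) = (y : ↥M) * z :=
      Subtype.ext (Subgroup.mem_centralizer_iff.1 hy' (z : G) ⟨z, hz, rfl⟩)
    show f z * f (y : ↥M) = f (y : ↥M) * f z
    rw [← map_mul, h1, map_mul]
  set R := (pCore p _).comap φ with hR
  have hRp : IsPGroup p (R.map ψ) := by
    rintro ⟨_, r, hr, rfl⟩
    obtain ⟨k, hk⟩ := Thompson.isPGroup_pCore ⟨φ r, hr⟩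
    refine ⟨k, Subtype.ext ?_⟩
    have hk' : φ (r ^ p ^ k) = 1 := by rw [map_pow]; exact congrArg Subtype.val hk
    have := hker _ hk'
    rw [map_pow] at this
    exact this
  exact Thompson.le_pCore (Subgroup.Normal.map inferInstance ψ hψ) hRp ⟨⟨x, hxN⟩, h, rfl⟩

theorem result {G : Type*} [Group G] [Finite G] {p : ℕ} [Fact p.Prime] (hp : p ≠ 2) (P : Sylow p G) (D : Subgroup G) (hD : Cfsg.IsStronglyClosed D (P : Subgroup G)) (hst : Cfsg.IsNormalizerPStable p G) (hc : ∀ U : Subgroup G, U ≤ (P : Subgroup G) → U ≠ ⊥ → Cfsg.IsPConstrained p ↥(Subgroup.normalizer (U : Set G))) : (∀ A : Set G, A ⊆ (P : Subgroup G) → Cfsg.ControlsStrongFusionOf (Subgroup.normalizer ((Cfsg.centerThompsonAOf D) : Set G)) (P : Subgroup G) A) ∧ (∀ A : Set G, A ⊆ (P : Subgroup G) → Cfsg.ControlsStrongFusionOf (Subgroup.normalizer ((Cfsg.omegaOne p (Cfsg.centerThompsonOf p D)) : Set G)) (P : Subgroup G) A) := by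
  have key : ∀ F : LocalEvenD.CentreFunctor p,
      (∀ (X : Type _) [Group X] [Finite X],
        Subgroup.centralizer (pCore p X : Set X) ≤ pCore p X →
        ∀ (S : Sylow p X), (∀ (B : Subgroup X) [B.Normal], IsPGroup p B → ∀ a ∈ (S : Subgroup X),
          ⁅⁅B, Subgroup.zpowers a⁆, Subgroup.zpowers a⁆ = ⊥ →
            (QuotientGroup.mk a : X ⧸ Subgroup.centralizer (B : Set X)) ∈
              pCore p (X ⧸ Subgroup.centralizer (B : Set X))) →
          ∀ E : Subgroup X, Cfsg.IsStronglyClosed E (S : Subgroup X) → (F.X X E).Normal) →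
      LocalEvenD.CtlAt F P D := by
    intro F hF
    refine LocalEvenD.ctlAt_of_locals F P hD fun T hT hT0 hf Q hQ => ?_
    have hQeq : (Q : Subgroup ↥(nrm T)) = ((P : Subgroup G) ⊓ nrm T).subgroupOf (nrm T) := by
      rw [← hQ]; exact (Subgroup.comap_map_eq_self_of_injective (nrm T).subtype_injective _).symm
    have hE : Cfsg.IsStronglyClosed ((D ⊓ nrm T).subgroupOf (nrm T)) (Q : Subgroup ↥(nrm T)) := by
      rw [hQeq]
      exact ⟨fun y hy => ⟨hD.1 hy.1, hy.2⟩, fun y hy k hk => ⟨hD.2 (y : G) hy.1 k hk.1, hk.2⟩⟩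
    refine LocalEvenD.ctlAt_of_coprime_quotient F Q hE (pPrimeCore p ↥(nrm T))
      Thompson.card_pPrimeCore_coprime fun A g _ _ => ⟨g, ?_, fun _ _ => rfl⟩
    haveI := hF _ (PLocalB.isPConstrained_iff.1 (hc T hT hT0))
      (Q.mapSurjective (QuotientGroup.mk'_surjective (pPrimeCore p ↥(nrm T))))
      (fun B _ hB a ha hq => stable_local hst (nrm T) Q B hB a
        (by rw [Sylow.coe_mapSurjective] at ha; exact ha) hq)
      _ (LocalEvenD.stronglyClosed_map_of_coprime Q hE _)
    exact (Subgroup.normalizer_eq_top_iff.2 inferInstance).ge trivial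
  constructor
  · refine LocalEvenD.controls_of_ctlAt (LocalEvenD.centreA hp)
      (key _ fun X _ _ hcon S hs E hE => ?_)
    show (Cfsg.centerThompsonAOf E).Normal
    rw [PLocalB.centerThompsonAOf_eq_core]
    exact LocalEvenD.core_normal_of_stronglyClosed (PLocalB.abelianFamily X) hp hcon S hs hE.1 hE.2
  · refine LocalEvenD.controls_of_ctlAt (LocalEvenD.centreE hp)
      (key _ fun X _ _ hcon S hs E hE => ?_)
    show (Cfsg.omegaOne p (Cfsg.centerThompsonOf p E)).Normal
    rw [Cfsg.centerThompsonOf, PLocalB.omega_center_eq_core]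
    exact LocalEvenD.core_normal_of_stronglyClosed (PLocalB.elementaryFamily p X) hp hcon S hs
      hE.1 hE.2

end Cfsg.Agent.S3080
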