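import Cfsg.Statements.S3081
import Cfsg.Agent.LocalEvenD.StrongCtlD
import Cfsg.Agent.LocalEven61.ZJQd
import Cfsg.Agent.PLocalB.QdStable

set_option autoImplicit false
open Cfsg

namespace Cfsg.Agent.S3081

theorem stable_of_qd_free {G : Type*} [Group G] [Finite G] {p : ℕ} [Fact p.Prime] (hp : p ≠ 2)
    (hqd : ¬ Cfsg.Involves ↥(Cfsg.qd p) G) {X : Type*} [Group X] [Finite X]
    (K R : Subgroup G) (hR : (R.subgroupOf K).Normal)
    (e : (↥K ⧸ R.subgroupOf K) ≃* X) (B : Subgroup X) [B.Normal] (hB : IsPGroup p B) (a : X)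
    (hq : ⁅⁅B, Subgroup.zpowers a⁆, Subgroup.zpowers a⁆ = ⊥) :
    (QuotientGroup.mk a : X ⧸ Subgroup.centralizer (B : Set X)) ∈
      pCore p (X ⧸ Subgroup.centralizer (B : Set X)) := by
  by_contra ha
  exact hqd (LocalEven61.involves_trans (PLocalB.exists_qd_section_of_not_stable hp B hB a hq ha)
    (LocalEven61.involves_congr e ⟨K, R, hR, ⟨MulEquiv.refl _⟩⟩))

theorem result {G : Type*} [Group G] [Finite G] {p : ℕ} [Fact p.Prime] (hp : p ≠ 2) (P : Sylow p G) (D : Subgroup G) (hD : Cfsg.IsStronglyClosed D (P : Subgroup G)) (hqd : ¬ Cfsg.Involves ↥(Cfsg.qd p) G) : (∀ A : Set G, A ⊆ (P : Subgroup G) → Cfsg.ControlsStrongFusionOf (Subgroup.normalizer ((Cfsg.centerThompsonAOf D) : Set G)) (P : Subgroup G) A) ∧ (∀ A : Set G, A ⊆ (P : Subgroup G) → Cfsg.ControlsStrongFusionOf (Subgroup.normalizer ((Cfsg.omegaOne p (Cfsg.centerThompsonOf p D)) : Set G)) (P : Subgroup G) A) := by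
  constructor
  · refine LocalEvenD.controls_of_ctlAt (LocalEvenD.centreA hp)
      (LocalEvenD.strongCtlD_of_constrained _ (G := G) (fun X _ _ hsec hcon S E hE => ?_) G
        (ConjFunctor.isSec_refl G) P D hD)
    show (Cfsg.centerThompsonAOf E).Normal
    obtain ⟨K, R, hR, ⟨e⟩⟩ := hsec.exists_section
    rw [PLocalB.centerThompsonAOf_eq_core]
    exact LocalEvenD.core_normal_of_stronglyClosed (PLocalB.abelianFamily X) hp hcon S
      (fun B _ hB a _ hq => stable_of_qd_free hp hqd K R hR e B hB a hq) hE.1 hE.2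
  · refine LocalEvenD.controls_of_ctlAt (LocalEvenD.centreE hp)
      (LocalEvenD.strongCtlD_of_constrained _ (G := G) (fun X _ _ hsec hcon S E hE => ?_) G
        (ConjFunctor.isSec_refl G) P D hD)
    show (Cfsg.omegaOne p (Cfsg.centerThompsonOf p E)).Normal
    obtain ⟨K, R, hR, ⟨e⟩⟩ := hsec.exists_section
    rw [Cfsg.centerThompsonOf, PLocalB.omega_center_eq_core]
    exact LocalEvenD.core_normal_of_stronglyClosed (PLocalB.elementaryFamily p X) hp hcon S
      (fun B _ hB a _ hq => stable_of_qd_free hp hqd K R hR e B hB a hq) hE.1 hE.2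

end Cfsg.Agent.S3081
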