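import Cfsg.Statements.S3082
import Cfsg.Agent.LocalEvenD.GTStrong

set_option autoImplicit false

namespace Cfsg.Agent.S3082

theorem result.{u} {G : Type u} [Group G] [Finite G] {p : ℕ} [Fact p.Prime] (hp : p ≠ 2) (P : Sylow p G) (D : Subgroup G) (hD : Cfsg.IsStronglyClosed D (P : Subgroup G)) (h : Cfsg.HasNormalPComplement p ↥(Subgroup.normalizer ((Cfsg.centerThompsonAOf D) : Set G)) ∨ Cfsg.HasNormalPComplement p ↥(Subgroup.normalizer ((Cfsg.omegaOne p (Cfsg.centerThompsonOf p D)) : Set G))) : Cfsg.HasNormalPComplement p G := by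
  rcases h with h | h
  · exact LocalEvenD.centreFunctor_criterion (LocalEvenD.centreA.{u} hp) P hD h
  · exact LocalEvenD.centreFunctor_criterion (LocalEvenD.centreE.{u} hp) P hD h

end Cfsg.Agent.S3082
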