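import Cfsg.Statements.S3084
import Cfsg.Agent.Lib.PGroup.Basic
import Mathlib.LinearAlgebra.QuadraticForm.Basis

set_option autoImplicit false
set_option linter.style.haveILetI false
open Cfsg

namespace Cfsg.Agent.S3084

/-- The sign of a residue. -/
def sgn (t : ZMod 2) : ZMod 3 := if t = 0 then 1 else -1

theorem sgn_add : ∀ s t : ZMod 2, sgn (s + t) = sgn s * sgn t := by decide
theorem sgn_zero : sgn 0 = 1 := by decide
theorem sgn_sq : ∀ t : ZMod 2, sgn t * sgn t = 1 := by decide
theorem sgn_inj : ∀ s t : ZMod 2, sgn s = sgn t → s = t := by decide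
theorem eq_sgn : ∀ x : ZMod 3, x ≠ 0 → ∃ s, x = sgn s := by decide
theorem eq_zero_of_eq_neg : ∀ x : ZMod 3, x = -x → x = 0 := by decide
theorem sgn4 : ∀ s t : ZMod 2, sgn s * sgn t * sgn s * sgn t = 1 := by decide
theorem sgn4' : ∀ s t : ZMod 2, sgn s * (sgn s * sgn t) * sgn t = 1 := by decide
theorem sgn_ne : ∀ t : ZMod 2, sgn t ≠ 0 := by decide

variable {V : Type} [AddCommGroup V] [Module (ZMod 2) V] [Finite V]
variable (β : V →ₗ[ZMod 2] V →ₗ[ZMod 2] ZMod 2)

/-- The endomorphisms of the regular module. -/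
abbrev EndV (V : Type) : Type := Module.End (ZMod 3) (V → ZMod 3)

/-- The twisted translations. -/
def X (u : V) : EndV V where
  toFun f := fun w => sgn (β u (w - u)) * f (w - u)
  map_add' f g := funext fun w => mul_add _ _ _
  map_smul' c f := funext fun w => mul_left_comm _ _ _

/-- The twisted group algebra. -/
def Alg : Submodule (ZMod 3) (EndV V) := Submodule.span (ZMod 3) (Set.range (X β))

/-- The polar form. -/
def Pol (u v : V) : ZMod 2 := β u v + β v u

theorem add_self' (u : V) : u + u = 0 := by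
  have : (1 + 1 : ZMod 2) • u = 0 := by rw [show (1 + 1 : ZMod 2) = 0 from rfl, zero_smul]
  rwa [add_smul, one_smul] at this

theorem X_zero : X β 0 = 1 := by
  refine LinearMap.ext fun f => funext fun w => ?_
  show sgn (β 0 (w - 0)) * f (w - 0) = f w
  rw [map_zero, LinearMap.zero_apply, sgn_zero, one_mul, sub_zero]

theorem X_mul (u v : V) : X β u * X β v = sgn (β u v) • X β (u + v) := by
  refine LinearMap.ext fun f => funext fun w => ?_
  show sgn (β u (w - u)) * (sgn (β v (w - u - v)) * f (w - u - v))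
    = sgn (β u v) * (sgn (β (u + v) (w - (u + v))) * f (w - (u + v)))
  rw [sub_sub, show w - u = w - (u + v) + v by abel, ← mul_assoc, ← mul_assoc, ← sgn_add,
    ← sgn_add, map_add (β u), map_add β, LinearMap.add_apply]
  congr 2
  abel

theorem X_sq (u : V) : X β u * X β u = sgn (β u u) • (1 : EndV V) := by
  rw [X_mul, add_self', X_zero]

theorem X_comm (u v : V) : X β u * X β v = sgn (Pol β u v) • (X β v * X β u) := by
  rw [X_mul, X_mul, smul_smul, ← sgn_add, add_comm v u]
  congr 2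
  show β u v = β u v + β v u + β v u
  rw [add_assoc, CharTwo.add_self_eq_zero, add_zero]

theorem X_mem (u : V) : X β u ∈ Alg β := Submodule.subset_span ⟨u, rfl⟩

theorem one_mem_alg : (1 : EndV V) ∈ Alg β := X_zero β ▸ X_mem β 0

theorem mul_mem_alg {a b : EndV V} (ha : a ∈ Alg β) (hb : b ∈ Alg β) : a * b ∈ Alg β := by
  have hle : Alg β * Alg β ≤ Alg β := by
    rw [Alg, Submodule.span_mul_span]
    refine Submodule.span_le.2 ?_
    rintro _ ⟨_, ⟨u, rfl⟩, _, ⟨v, rfl⟩, rfl⟩
    show X β u * X β v ∈ _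
    rw [X_mul]
    exact Submodule.smul_mem _ _ (X_mem β _)
  exact hle (Submodule.mul_mem_mul ha hb)

theorem XXX (v u : V) : X β v * X β u * X β v = (sgn (Pol β v u) * sgn (β v v)) • X β u := by
  rw [X_comm β v u, smul_mul_assoc, mul_assoc, X_sq, mul_smul_comm, mul_one, smul_smul]

theorem exists_coeff [Fintype V] {a : EndV V} (ha : a ∈ Alg β) :
    ∃ c : V → ZMod 3, ∑ u, c u • X β u = a :=
  (Submodule.mem_span_range_iff_exists_fun (ZMod 3)).1 ha

theorem coeff_eq [Fintype V] [DecidableEq V] (c : V → ZMod 3) (w : V) :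
    (∑ u, c u • X β u) (Pi.single 0 1) w = c w := by
  rw [LinearMap.sum_apply, Finset.sum_apply, Finset.sum_eq_single w]
  · show c w * (sgn (β w (w - w)) * (Pi.single (0 : V) (1 : ZMod 3) : V → ZMod 3) (w - w)) = c w
    rw [sub_self, map_zero, sgn_zero, Pi.single_eq_same, mul_one, mul_one]
  · intro b _ hb
    show c b * (sgn (β b (w - b)) * (Pi.single (0 : V) (1 : ZMod 3) : V → ZMod 3) (w - b)) = 0
    rw [Pi.single_eq_of_ne (sub_ne_zero.2 (Ne.symm hb)), mul_zero, mul_zero]
  · simp

theorem coeff_unique [Fintype V] {c c' : V → ZMod 3}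
    (h : ∑ u, c u • X β u = ∑ u, c' u • X β u) : c = c' := by
  classical
  funext w
  rw [← coeff_eq β c w, h, coeff_eq]

theorem X_eq_smul {u v : V} {t : ZMod 3} (h : X β u = t • X β v) : u = v := by
  classical
  haveI := Fintype.ofFinite V
  have h' : ∑ w, (if w = u then (1 : ZMod 3) else 0) • X β w =
      ∑ w, (if w = v then t else 0) • X β w := by
    simpa [ite_smul] using h
  have h2 := congrFun (coeff_unique β h') u
  by_contra huv
  rw [if_pos rfl, if_neg huv] at h2
  exact one_ne_zero h2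

variable (hB : ∀ u, (∀ v, Pol β v u = 0) → u = 0)
include hB

theorem char_sum [Fintype V] [DecidableEq V] (hN : (Fintype.card V : ZMod 3) = 1) (u : V) :
    ∑ v, sgn (Pol β v u) = if u = 0 then 1 else 0 := by
  split_ifs with h
  · subst h
    simp [Pol, sgn_zero, hN]
  · obtain ⟨v₀, hv₀⟩ : ∃ v, Pol β v u ≠ 0 := by
      by_contra hh
      push Not at hh
      exact h (hB u hh)
    have h1 : sgn (Pol β v₀ u) = -1 := if_neg hv₀
    refine eq_zero_of_eq_neg _ ?_
    conv_lhs => rw [← Equiv.sum_comp (Equiv.addRight v₀)]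
    rw [← Finset.sum_neg_distrib]
    refine Finset.sum_congr rfl fun v _ => ?_
    show sgn (Pol β (v + v₀) u) = _
    have : Pol β (v + v₀) u = Pol β v u + Pol β v₀ u := by
      simp only [Pol, map_add, LinearMap.add_apply]; abel
    rw [this, sgn_add, h1, mul_neg_one]

theorem extract [Fintype V] (hN : (Fintype.card V : ZMod 3) = 1) (c : V → ZMod 3) (w : V) :
    ∑ v, sgn (Pol β v w + β v v) • (X β v * (∑ u, c u • X β u) * X β v) = c w • X β w := by
  classical
  simp only [Finset.mul_sum, Finset.sum_mul, mul_smul_comm, smul_mul_assoc, XXX, Finset.smul_sum,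
    smul_smul]
  rw [Finset.sum_comm, Finset.sum_eq_single w]
  · rw [← Finset.sum_smul]
    congr 1
    have : ∀ v, sgn (Pol β v w + β v v) * (c w * (sgn (Pol β v w) * sgn (β v v))) = c w := by
      intro v
      rw [sgn_add]
      calc sgn (Pol β v w) * sgn (β v v) * (c w * (sgn (Pol β v w) * sgn (β v v)))
          = c w * (sgn (Pol β v w) * sgn (Pol β v w)) * (sgn (β v v) * sgn (β v v)) := by ring
        _ = c w := by rw [sgn_sq, sgn_sq, mul_one, mul_one]
    simp [this, hN]
  · intro u _ hu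
    rw [← Finset.sum_smul]
    have : ∀ v, sgn (Pol β v w + β v v) * (c u * (sgn (Pol β v u) * sgn (β v v))) =
        c u * sgn (Pol β v (w + u)) := by
      intro v
      have e : Pol β v (w + u) = Pol β v w + Pol β v u := by
        simp only [Pol, map_add, LinearMap.add_apply]; abel
      rw [e, sgn_add, sgn_add]
      calc sgn (Pol β v w) * sgn (β v v) * (c u * (sgn (Pol β v u) * sgn (β v v)))
          = c u * (sgn (Pol β v w) * sgn (Pol β v u)) * (sgn (β v v) * sgn (β v v)) := by ring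
        _ = _ := by rw [sgn_sq, mul_one]
    rw [Finset.sum_congr rfl fun v _ => this v, ← Finset.mul_sum, char_sum β hB hN, if_neg ?_,
      mul_zero, zero_smul]
    intro h
    exact hu ((eq_neg_of_add_eq_zero_right h).trans (neg_eq_of_add_eq_zero_right (add_self' w)))
  · simp

/-- Every isometry is induced by conjugation with a unit of the algebra. -/
theorem exists_conj (hN : (Nat.card V : ZMod 3) = 1) (σ : V ≃ₗ[ZMod 2] V)
    (hσ : ∀ u, β (σ u) (σ u) = β u u) :
    ∃ g : (EndV V)ˣ, (g : EndV V) ∈ Alg β ∧ ((g⁻¹ : (EndV V)ˣ) : EndV V) ∈ Alg β ∧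
      ∀ u, ∃ s, (g : EndV V) * X β u = sgn s • (X β (σ u) * (g : EndV V)) := by
  classical
  haveI := Fintype.ofFinite V
  rw [Nat.card_eq_fintype_card] at hN
  haveI : Finite (EndV V) := Finite.of_injective _ DFunLike.coe_injective
  haveI : Module.Finite (ZMod 2) V := Module.Finite.of_finite
  let d : V →ₗ[ZMod 2] V →ₗ[ZMod 2] ZMod 2 := β.compl₁₂ σ.toLinearMap σ.toLinearMap + β
  have hd : ∀ u v, d u v = β (σ u) (σ v) + β u v := fun u v => rfl
  have hdd : ∀ u, d u u = 0 := fun u => by rw [hd, hσ, CharTwo.add_self_eq_zero]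
  let dq : QuadraticForm (ZMod 2) V := LinearMap.BilinMap.toQuadraticMap d
  have hsymm : ∀ u v, d u v = d v u := by
    intro u v
    have h := hdd (u + v)
    simp only [map_add, LinearMap.add_apply, hdd, zero_add, add_zero] at h
    exact (CharTwo.add_eq_zero.1 h).symm
  let b := Module.finBasis (ZMod 2) V
  let D : V →ₗ[ZMod 2] V →ₗ[ZMod 2] ZMod 2 :=
    b.constr (ZMod 2) fun i => b.constr (ZMod 2) fun j => if i < j then d (b i) (b j) else 0
  have hD : ∀ u v, D u v + D v u = d u v := by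
    have : D + D.flip = d := by
      refine b.ext fun i => b.ext fun j => ?_
      show D (b i) (b j) + D (b j) (b i) = d (b i) (b j)
      simp only [D, Module.Basis.constr_basis]
      rcases lt_trichotomy i j with h | h | h
      · rw [if_pos h, if_neg (not_lt.2 h.le), add_zero]
      · subst h; rw [if_neg (lt_irrefl _), add_zero, hdd]
      · rw [if_neg (not_lt.2 h.le), if_pos h, zero_add, hsymm]
    intro u v
    rw [← this]; rfl
  set c : V → ZMod 2 := fun u => D u u with hc
  have hcadd : ∀ u v, c (u + v) = c u + c v + d u v := fun u v => by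
    simp only [hc, map_add, LinearMap.add_apply, ← hD u v]; abel
  let φ : V → EndV V := fun u => sgn (c u) • X β (σ u)
  have hφmul : ∀ u v, φ u * φ v = sgn (β u v) • φ (u + v) := by
    intro u v
    show (sgn (c u) • X β (σ u)) * (sgn (c v) • X β (σ v)) = sgn (β u v) • sgn (c (u + v)) • X β (σ (u + v))
    rw [smul_mul_assoc, mul_smul_comm, X_mul, smul_smul, smul_smul, smul_smul, ← sgn_add,
      ← sgn_add, ← sgn_add, map_add σ]
    congr 2
    rw [hcadd, hd]
    generalize c u = p
    generalize c v = q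
    generalize β u v = r
    generalize β (σ u) (σ v) = t
    revert p q r t
    decide
  let T : EndV V → EndV V := fun a => ∑ u, sgn (β u u) • (φ u * a * X β u)
  have hφA : ∀ u, φ u ∈ Alg β := fun u => Submodule.smul_mem _ _ (X_mem β _)
  have hTA : ∀ {a}, a ∈ Alg β → T a ∈ Alg β := fun {a} ha => Submodule.sum_mem _ fun u _ =>
    Submodule.smul_mem _ _ (mul_mem_alg β (mul_mem_alg β (hφA u) ha) (X_mem β u))
  have hT : ∀ a v, φ v * T a = T a * X β v := by
    intro a v
    simp only [T, Finset.mul_sum, Finset.sum_mul, mul_smul_comm, smul_mul_assoc]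
    conv_rhs => rw [← Equiv.sum_comp (Equiv.addLeft v)]
    refine Finset.sum_congr rfl fun u _ => ?_
    show sgn (β u u) • (φ v * (φ u * a * X β u)) =
      sgn (β (v + u) (v + u)) • (φ (v + u) * a * X β (v + u) * X β v)
    rw [← mul_assoc, ← mul_assoc, hφmul, smul_mul_assoc, smul_mul_assoc, smul_smul, mul_assoc _ (X β (v + u)) (X β v),
      X_mul, mul_smul_comm, smul_smul, ← sgn_add, ← sgn_add,
      show v + u + v = u by rw [add_comm v u, add_assoc, add_self', add_zero]]
    congr 2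
    simp only [map_add, LinearMap.add_apply]
    generalize β u u = p
    generalize β v v = q
    generalize β u v = r
    generalize β v u = t
    revert p q r t
    decide
  have hsum : ∑ w, sgn (β w w) • (T (X β w) * X β w) = 1 := by
    simp only [T, Finset.sum_mul, smul_mul_assoc, Finset.smul_sum, smul_smul]
    rw [Finset.sum_comm]
    have e : ∀ u w, (sgn (β w w) * sgn (β u u)) • (φ u * X β w * X β u * X β w) =
        (sgn (β u u) * sgn (Pol β w u)) • (φ u * X β u) := by
      intro u w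
      rw [show φ u * X β w * X β u * X β w = φ u * (X β w * X β u * X β w) by simp only [mul_assoc],
        XXX, mul_smul_comm, smul_smul]
      congr 1
      calc sgn (β w w) * sgn (β u u) * (sgn (Pol β w u) * sgn (β w w))
          = sgn (β u u) * sgn (Pol β w u) * (sgn (β w w) * sgn (β w w)) := by ring
        _ = _ := by rw [sgn_sq, mul_one]
    simp only [e, ← Finset.sum_smul, ← Finset.mul_sum, char_sum β hB hN]
    rw [Finset.sum_eq_single (0 : V) (fun u _ hu => by rw [if_neg hu, mul_zero, zero_smul])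
      (by simp)]
    have hc0 : c 0 = 0 := by simp [hc]
    show (sgn (β 0 0) * if (0 : V) = 0 then (1 : ZMod 3) else 0) • ((sgn (c 0) • X β (σ 0)) * X β 0) = 1
    simp [hc0, sgn_zero, X_zero]
  obtain ⟨w, hw⟩ : ∃ w, T (X β w) ≠ 0 := by
    by_contra hh
    push Not at hh
    simp only [hh, zero_mul, smul_zero, Finset.sum_const_zero] at hsum
    exact zero_ne_one hsum
  set h := T (X β w) with hh
  have hhA : h ∈ Alg β := hTA (X_mem β w)
  let I : Submodule (ZMod 3) (EndV V) := (Alg β).map (LinearMap.mulLeft (ZMod 3) h)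
  have hIr : ∀ a ∈ I, ∀ v, a * X β v ∈ I := by
    rintro _ ⟨b, hb, rfl⟩ v
    exact ⟨b * X β v, mul_mem_alg β hb (X_mem β v), (mul_assoc h b _).symm⟩
  have hIl : ∀ a ∈ I, ∀ v, X β v * a ∈ I := by
    rintro _ ⟨b, hb, rfl⟩ v
    have e : X β v = sgn (c (σ.symm v)) • φ (σ.symm v) := by
      show _ = sgn _ • sgn _ • X β (σ (σ.symm v))
      rw [smul_smul, sgn_sq, one_smul, LinearEquiv.apply_symm_apply]
    refine ⟨sgn (c (σ.symm v)) • (X β (σ.symm v) * b), Submodule.smul_mem _ _
      (mul_mem_alg β (X_mem β _) hb), ?_⟩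
    show h * (sgn (c (σ.symm v)) • (X β (σ.symm v) * b)) = X β v * (h * b)
    calc h * (sgn (c (σ.symm v)) • (X β (σ.symm v) * b))
        = sgn (c (σ.symm v)) • ((h * X β (σ.symm v)) * b) := by rw [mul_smul_comm, mul_assoc]
      _ = sgn (c (σ.symm v)) • ((φ (σ.symm v) * h) * b) := by rw [hh, hT]
      _ = X β v * (h * b) := by rw [e]; simp only [φ, smul_mul_assoc, mul_assoc]
  obtain ⟨cf, hcf⟩ := exists_coeff β hhA
  obtain ⟨v₀, hv₀⟩ : ∃ v, cf v ≠ 0 := by
    by_contra hh'
    push Not at hh'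
    exact hw (by rw [← hcf]; simp [hh'])
  have hhI : h ∈ I := ⟨1, one_mem_alg β, mul_one h⟩
  have h1 : cf v₀ • X β v₀ ∈ I := by
    rw [← extract β hB hN cf v₀, hcf]
    exact Submodule.sum_mem _ fun v _ => Submodule.smul_mem _ _ (hIr _ (hIl _ hhI v) v)
  obtain ⟨s, hs⟩ := eq_sgn _ hv₀
  have h2 : (1 : EndV V) ∈ I := by
    have := Submodule.smul_mem I (sgn s * sgn (β v₀ v₀)) (hIr _ h1 v₀)
    rwa [smul_mul_assoc, X_sq, smul_smul, smul_smul, hs, sgn4, one_smul] at this
  obtain ⟨b, hb, hhb⟩ := h2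
  have hbh : b * h = 1 := mul_eq_one_comm.1 hhb
  refine ⟨⟨h, b, hhb, hbh⟩, hhA, hb, fun u => ⟨c u, ?_⟩⟩
  show h * X β u = sgn (c u) • (X β (σ u) * h)
  rw [← hT]
  exact smul_mul_assoc _ _ _

variable {K : Type*} [Group K] (σ : K → V ≃ₗ[ZMod 2] V)

omit hB in
/-- Units of the algebra inducing an element of `K`. -/
def RGroup (hσ : ∀ k l u, σ (k * l) u = σ k (σ l u)) (hσ1 : ∀ u, σ 1 u = u) :
    Subgroup (EndV V)ˣ where
  carrier := {g | (g : EndV V) ∈ Alg β ∧ ((g⁻¹ : (EndV V)ˣ) : EndV V) ∈ Alg β ∧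
    ∃ k, ∀ u, ∃ s, (g : EndV V) * X β u = sgn s • (X β (σ k u) * (g : EndV V))}
  one_mem' := ⟨one_mem_alg β, by simpa using one_mem_alg β, 1, fun u => ⟨0, by
    rw [hσ1, sgn_zero, one_smul, Units.val_one, one_mul, mul_one]⟩⟩
  mul_mem' := by
    rintro g h ⟨hg, hg', k, hk⟩ ⟨hh, hh', l, hl⟩
    refine ⟨mul_mem_alg β hg hh, ?_, k * l, fun u => ?_⟩
    · rw [mul_inv_rev, Units.val_mul]; exact mul_mem_alg β hh' hg'
    obtain ⟨t, ht⟩ := hl u
    obtain ⟨s, hs⟩ := hk (σ l u)
    refine ⟨t + s, ?_⟩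
    rw [Units.val_mul, mul_assoc, ht, mul_smul_comm, ← mul_assoc, hs, smul_mul_assoc, smul_smul,
      ← sgn_add, hσ, mul_assoc]
  inv_mem' := by
    rintro g ⟨hg, hg', k, hk⟩
    refine ⟨hg', by simpa using hg, k⁻¹, fun v => ?_⟩
    have e : σ k (σ k⁻¹ v) = v := by rw [← hσ, mul_inv_cancel, hσ1]
    obtain ⟨s, hs⟩ := hk (σ k⁻¹ v)
    rw [e] at hs
    refine ⟨s, ?_⟩
    have h1 : sgn s • ((g : EndV V) * X β (σ k⁻¹ v)) = X β v * g := by
      rw [hs, smul_smul, sgn_sq, one_smul]
    calc ((g⁻¹ : (EndV V)ˣ) : EndV V) * X β v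
        = ((g⁻¹ : (EndV V)ˣ) : EndV V) * (X β v * g) * ((g⁻¹ : (EndV V)ˣ) : EndV V) := by
          rw [mul_assoc _ _ ((g⁻¹ : (EndV V)ˣ) : EndV V), mul_assoc (X β v), Units.mul_inv, mul_one]
      _ = _ := by
          rw [← h1, mul_smul_comm, smul_mul_assoc, ← mul_assoc _ (g : EndV V), Units.inv_mul, one_mul]

theorem main {n : ℕ} (hcard : Nat.card V = 2 ^ (2 * n)) (hn1 : 1 ≤ n)
    (hσ : ∀ k l u, σ (k * l) u = σ k (σ l u)) (hσ1 : ∀ u, σ 1 u = u)
    (hinj : ∀ k l, (∀ u, σ k u = σ l u) → k = l) (hinv : ∀ k u, β (σ k u) (σ k u) = β u u) :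
    ∃ (R : Type) (_ : Group R) (_ : Finite R) (Q : Subgroup R) (hN : Q.Normal) (e : R ⧸ Q ≃* K)
      (χ : ↥Q →* Multiplicative V), Cfsg.IsExtraspecial 2 ↥Q ∧
      Nat.card ↥Q = 2 ^ (2 * n + 1) ∧ Function.Surjective χ ∧ χ.ker = Subgroup.center ↥Q ∧
      (∀ (r : R) (a : ↥Q), χ ⟨r * a * r⁻¹, hN.conj_mem (a : R) a.2 r⟩ =
        Multiplicative.ofAdd (σ (e (r : R ⧸ Q)) (Multiplicative.toAdd (χ a)))) ∧
      ∀ a : ↥Q, a * a = 1 ↔ β (Multiplicative.toAdd (χ a)) (Multiplicative.toAdd (χ a)) = 0 := by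
  classical
  haveI := Fintype.ofFinite V
  haveI : Finite (EndV V) := Finite.of_injective _ DFunLike.coe_injective
  haveI : Finite (EndV V)ˣ := Finite.of_injective _ Units.val_injective
  have hN : (Nat.card V : ZMod 3) = 1 := by
    rw [hcard, pow_mul, Nat.cast_pow, show (((2 : ℕ) ^ 2 : ℕ) : ZMod 3) = 1 from by decide, one_pow]
  have hN' : (Fintype.card V : ZMod 3) = 1 := by rwa [Nat.card_eq_fintype_card] at hN
  set R := RGroup β σ hσ hσ1 with hR
  have huniq : ∀ (g : (EndV V)ˣ) (a b : V) (s t : ZMod 2),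
      sgn s • (X β a * (g : EndV V)) = sgn t • (X β b * (g : EndV V)) → a = b := by
    intro g a b s t h
    rw [← smul_mul_assoc, ← smul_mul_assoc, Units.mul_left_inj] at h
    refine X_eq_smul β (t := sgn s * sgn t) ?_
    rw [← smul_smul, ← h, smul_smul, sgn_sq, one_smul]
  choose kf hkf using fun g : ↥R => g.2.2.2
  have hkuniq : ∀ (g : ↥R) (k : K),
      (∀ u, ∃ s, ((g : (EndV V)ˣ) : EndV V) * X β u = sgn s • (X β (σ k u) * ((g : (EndV V)ˣ) : EndV V))) →
      kf g = k := by
    intro g k hk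
    refine hinj _ _ fun u => ?_
    obtain ⟨s, hs⟩ := hkf g u
    obtain ⟨t, ht⟩ := hk u
    exact huniq _ _ _ s t (hs.symm.trans ht)
  let π : ↥R →* K := MonoidHom.mk' kf fun g h => by
    refine hkuniq _ _ fun u => ?_
    obtain ⟨t, ht⟩ := hkf h u
    obtain ⟨s, hs⟩ := hkf g (σ (kf h) u)
    refine ⟨t + s, ?_⟩
    rw [Subgroup.coe_mul, Units.val_mul, mul_assoc, ht, mul_smul_comm, ← mul_assoc, hs,
      smul_mul_assoc, smul_smul, ← sgn_add, hσ, mul_assoc]
  have hπ : Function.Surjective π := by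
    intro k
    obtain ⟨g, hg, hg', hgk⟩ := exists_conj β hB hN (σ k) (hinv k)
    exact ⟨⟨g, hg, hg', k, hgk⟩, hkuniq _ k hgk⟩
  let el : ZMod 2 → V → (EndV V)ˣ := fun s v =>
    { val := sgn s • X β v
      inv := (sgn s * sgn (β v v)) • X β v
      val_inv := by
        rw [smul_mul_assoc, mul_smul_comm, X_sq, smul_smul, smul_smul,
          sgn4', one_smul]
      inv_val := by
        rw [smul_mul_assoc, mul_smul_comm, X_sq, smul_smul, smul_smul,
          sgn4, one_smul] }
  have helk : ∀ s v u, ∃ t, ((el s v : (EndV V)ˣ) : EndV V) * X β u =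
      sgn t • (X β (σ 1 u) * ((el s v : (EndV V)ˣ) : EndV V)) := fun s v u => ⟨Pol β v u, by
    show (sgn s • X β v) * X β u = sgn _ • (X β (σ 1 u) * (sgn s • X β v))
    rw [hσ1, smul_mul_assoc, mul_smul_comm, X_comm β v u, smul_smul, smul_smul, mul_comm]⟩
  have helR : ∀ s v, el s v ∈ R := fun s v =>
    ⟨Submodule.smul_mem _ _ (X_mem β v), Submodule.smul_mem _ _ (X_mem β v), 1, helk s v⟩
  set Q := π.ker with hQ
  have hmemQ : ∀ s v, (⟨el s v, helR s v⟩ : ↥R) ∈ Q := fun s v => hkuniq _ 1 (helk s v)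
  have hform : ∀ g : ↥Q, ∃ s v, (((g : ↥R) : (EndV V)ˣ) : EndV V) = sgn s • X β v := by
    intro g
    have hg1 : kf (g : ↥R) = 1 := g.2
    obtain ⟨c, hc⟩ := exists_coeff β (g : ↥R).2.1
    set G := (((g : ↥R) : (EndV V)ˣ) : EndV V) with hG
    have hG0 : G ≠ 0 := fun h0 => by
      have := ((g : ↥R) : (EndV V)ˣ).mul_inv
      rw [← hG, h0, zero_mul] at this
      exact zero_ne_one this
    obtain ⟨w, hw⟩ : ∃ w, c w ≠ 0 := by
      by_contra hh
      push Not at hh
      exact hG0 (by rw [← hc]; simp [hh])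
    obtain ⟨s, hs⟩ := eq_sgn _ hw
    refine ⟨s, w, ?_⟩
    rw [← hc, Finset.sum_eq_single w (fun w' _ hne => ?_) (by simp), hs]
    by_cases hw' : c w' = 0
    · rw [hw', zero_smul]
    exfalso
    refine hne ?_
    have key : ∀ u, Pol β u w' = Pol β u w := by
      intro u
      obtain ⟨t, ht⟩ := hkf (g : ↥R) u
      rw [hg1, hσ1, ← hG] at ht
      have h1 : X β u * G * X β u = (sgn t * sgn (β u u)) • G := by
        rw [mul_assoc, ht, mul_smul_comm, ← mul_assoc, X_sq, smul_mul_assoc, one_mul, smul_smul]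
      have h2 : ∑ v, (sgn (Pol β u v) * sgn (β u u) * c v) • X β v
          = ∑ v, (sgn t * sgn (β u u) * c v) • X β v := by
        calc ∑ v, (sgn (Pol β u v) * sgn (β u u) * c v) • X β v
            = X β u * G * X β u := by
              rw [← hc, Finset.mul_sum, Finset.sum_mul]
              refine Finset.sum_congr rfl fun v _ => ?_
              rw [mul_smul_comm, smul_mul_assoc, XXX, smul_smul, mul_comm (c v)]
          _ = _ := by
              rw [h1, ← hc, Finset.smul_sum]
              exact Finset.sum_congr rfl fun v _ => smul_smul _ _ _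
      have h3 := coeff_unique β h2
      have e1 := congrFun h3 w'
      have e2 := congrFun h3 w
      rw [mul_assoc, mul_assoc] at e1 e2
      have f1 := mul_right_cancel₀ (mul_ne_zero (sgn_ne _) hw') e1
      have f2 := mul_right_cancel₀ (mul_ne_zero (sgn_ne _) hw) e2
      exact sgn_inj _ _ (f1.trans f2.symm)
    have h4 := hB (w' + w) fun u => by
      have := key u
      simp only [Pol, map_add, LinearMap.add_apply] at this ⊢
      calc β u w' + β u w + (β w' u + β w u) = (β u w' + β w' u) + (β u w + β w u) := by abel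
        _ = 0 := by rw [this, CharTwo.add_self_eq_zero]
    exact (eq_neg_of_add_eq_zero_left h4).trans (neg_eq_of_add_eq_zero_right (add_self' w))
  choose sf vf hsv using hform
  have hvuniq : ∀ (g : ↥Q) (t : ZMod 3) (v : V),
      (((g : ↥R) : (EndV V)ˣ) : EndV V) = t • X β v → vf g = v := fun g t v h => by
    rw [hsv g] at h
    refine X_eq_smul β (t := sgn (sf g) * t) ?_
    rw [← smul_smul, ← h, smul_smul, sgn_sq, one_smul]
  let χ : ↥Q →* Multiplicative V := MonoidHom.mk' (fun g => Multiplicative.ofAdd (vf g)) fun g h => by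
    rw [← ofAdd_add]
    refine congrArg _ (hvuniq _ (sgn (sf g) * (sgn (sf h) * sgn (β (vf g) (vf h)))) _ ?_)
    rw [Subgroup.coe_mul, Subgroup.coe_mul, Units.val_mul, hsv g, hsv h, smul_mul_assoc,
      mul_smul_comm, X_mul, smul_smul, smul_smul, mul_assoc]
  have hχsurj : Function.Surjective χ := fun v =>
    ⟨⟨_, hmemQ 0 (Multiplicative.toAdd v)⟩, congrArg Multiplicative.ofAdd (hvuniq _ (sgn 0) _ rfl)⟩
  have hker : χ.ker = Subgroup.center ↥Q := by
    ext g
    rw [MonoidHom.mem_ker, Subgroup.mem_center_iff]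
    constructor
    · intro hg h
      have hv : vf g = 0 := congrArg Multiplicative.toAdd hg
      refine Subtype.ext (Subtype.ext (Units.ext ?_))
      simp only [Subgroup.coe_mul, Units.val_mul, hsv g, hv, X_zero, mul_smul_comm, smul_mul_assoc,
        mul_one, one_mul]
    · intro hg
      refine congrArg Multiplicative.ofAdd (hB _ fun u => ?_)
      have h := congrArg (fun a : ↥Q => (((a : ↥R) : (EndV V)ˣ) : EndV V)) (hg ⟨_, hmemQ 0 u⟩)
      simp only [Subgroup.coe_mul, Units.val_mul, hsv g] at h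
      have h' : sgn 0 • X β u * (sgn (sf g) • X β (vf g)) =
          sgn (sf g) • X β (vf g) * (sgn 0 • X β u) := h
      rw [smul_mul_smul_comm, smul_mul_smul_comm, sgn_zero, one_mul, mul_one, X_mul, X_mul,
        smul_smul, smul_smul, add_comm u] at h'
      have h2 : sgn (β u (vf g)) • X β (vf g + u) = sgn (β (vf g) u) • X β (vf g + u) := by
        have := congrArg (fun a : EndV V => sgn (sf g) • a) h'
        simpa [smul_smul, ← mul_assoc, sgn_sq] using this
      have h3 : ∑ w, (if w = vf g + u then sgn (β u (vf g)) else 0) • X β w =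
          ∑ w, (if w = vf g + u then sgn (β (vf g) u) else 0) • X β w := by
        simpa [ite_smul] using h2
      have h4 := congrFun (coeff_unique β h3) (vf g + u)
      rw [if_pos rfl, if_pos rfl] at h4
      show β u (vf g) + β (vf g) u = 0
      rw [sgn_inj _ _ h4, CharTwo.add_self_eq_zero]
  have hQcard : Nat.card ↥Q = 2 ^ (2 * n + 1) := by
    let f : ZMod 2 × V → ↥Q := fun z => ⟨_, hmemQ z.1 z.2⟩
    have hf : Function.Bijective f := by
      refine ⟨fun z z' h => ?_, fun g => ⟨(sf g, vf g), Subtype.ext (Subtype.ext (Units.ext (hsv g).symm))⟩⟩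
      have h' : sgn z.1 • X β z.2 = sgn z'.1 • X β z'.2 :=
        congrArg (fun a : ↥Q => (((a : ↥R) : (EndV V)ˣ) : EndV V)) h
      have hv : z.2 = z'.2 := by
        refine X_eq_smul β (t := sgn z.1 * sgn z'.1) ?_
        rw [← smul_smul, ← h', smul_smul, sgn_sq, one_smul]
      have h3 : ∑ w, (if w = z.2 then sgn z.1 else 0) • X β w =
          ∑ w, (if w = z.2 then sgn z'.1 else 0) • X β w := by
        simpa [ite_smul, hv] using h'
      have h4 := congrFun (coeff_unique β h3) z.2
      rw [if_pos rfl, if_pos rfl] at h4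
      exact Prod.ext (sgn_inj _ _ h4) hv
    rw [← Nat.card_eq_of_bijective f hf, Nat.card_prod, Nat.card_zmod, hcard, pow_succ']
  refine ⟨↥R, inferInstance, inferInstance, Q, inferInstance,
    QuotientGroup.quotientKerEquivOfSurjective π hπ, χ, ?_, hQcard, hχsurj, hker, ?_, ?_⟩
  · haveI : Fact (Nat.Prime 2) := ⟨Nat.prime_two⟩
    have hQp : IsPGroup 2 ↥Q := IsPGroup.of_card hQcard
    have hc2 : Nat.card (Subgroup.center ↥Q) = 2 := by
      rw [← hker]
      have h1 := Subgroup.card_eq_card_quotient_mul_card_subgroup χ.ker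
      have h2 : Nat.card (↥Q ⧸ χ.ker) = 2 ^ (2 * n) := by
        rw [Nat.card_congr (QuotientGroup.quotientKerEquivOfSurjective χ hχsurj).toEquiv,
          Nat.card_congr Multiplicative.toAdd, hcard]
      rw [hQcard, h2, pow_succ] at h1
      exact (Nat.eq_of_mul_eq_mul_left (pow_pos two_pos _) h1).symm
    have hcomm : commutator ↥Q ≤ Subgroup.center ↥Q :=
      hker ▸ Abelianization.commutator_subset_ker χ
    have hcomm' : commutator ↥Q = Subgroup.center ↥Q := by
      refine Subgroup.eq_of_le_of_card_ge hcomm ?_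
      rw [hc2]
      refine Nat.succ_le_of_lt ((Subgroup.one_lt_card_iff_ne_bot _).2 fun hb => ?_)
      have htop : Subgroup.center ↥Q = ⊤ := top_le_iff.1 fun a _ =>
        Subgroup.mem_center_iff.2 fun b => commutatorElement_eq_one_iff_mul_comm.1
          (Subgroup.mem_bot.1 (hb ▸ Subgroup.commutator_mem_commutator (Subgroup.mem_top b) (Subgroup.mem_top a)))
      rw [htop, Subgroup.card_top, hQcard] at hc2
      have : 2 ^ 1 < 2 ^ (2 * n + 1) := Nat.pow_lt_pow_right one_lt_two (by omega)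
      omega
    refine ⟨⟨hQp, le_antisymm ?_ ?_, hcomm'⟩, hc2⟩
    · refine PGroup.frattini_le_of_quotient (p := 2) hcomm fun a => ?_
      rw [← hker, MonoidHom.mem_ker, map_pow]
      exact Multiplicative.toAdd.injective (by rw [toAdd_pow, two_nsmul, add_self', toAdd_one])
    · exact hcomm'.ge.trans (PGroup.commutator_le_frattini hQp)
  · intro r a
    have hk : QuotientGroup.quotientKerEquivOfSurjective π hπ (r : ↥R ⧸ Q) = kf r := rfl
    rw [hk]
    obtain ⟨t, ht⟩ := hkf r (vf a)
    refine congrArg Multiplicative.ofAdd (hvuniq _ (sgn (sf a) * sgn t) _ ?_)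
    show (((r * (a : ↥R) * r⁻¹ : ↥R) : (EndV V)ˣ) : EndV V) = _
    rw [Subgroup.coe_mul, Subgroup.coe_mul, Subgroup.coe_inv, Units.val_mul, Units.val_mul, hsv a,
      mul_smul_comm, ht, smul_smul, smul_mul_assoc, mul_assoc, Units.mul_inv, mul_one]
    rfl
  · intro a
    have e : (((a * a : ↥Q) : ↥R) : (EndV V)ˣ) = ((a : ↥R) : (EndV V)ˣ) * ((a : ↥R) : (EndV V)ˣ) := rfl
    have h1 : ((((a * a : ↥Q) : ↥R) : (EndV V)ˣ) : EndV V) = sgn (β (vf a) (vf a)) • (1 : EndV V) := by
      rw [e, Units.val_mul, hsv a, smul_mul_smul_comm, X_sq, smul_smul, sgn_sq, one_mul]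
    show a * a = 1 ↔ β (vf a) (vf a) = 0
    constructor
    · intro h
      rw [h] at h1
      have h3 : ∑ w, (if w = (0 : V) then (1 : ZMod 3) else 0) • X β w =
          ∑ w, (if w = (0 : V) then sgn (β (vf a) (vf a)) else 0) • X β w := by
        simpa [ite_smul, X_zero] using h1
      have h4 := congrFun (coeff_unique β h3) 0
      rw [if_pos rfl, if_pos rfl, ← sgn_zero] at h4
      exact (sgn_inj _ _ h4).symm
    · intro h
      rw [h, sgn_zero, one_smul] at h1
      exact Subtype.ext (Subtype.ext (Units.ext h1))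

omit hB in
theorem result {K : Type*} [Group K] {U : Type*} [AddCommGroup U] [Module (ZMod 2) U] [Module.Finite (ZMod 2) U] (n : ℕ) (hn1 : 1 ≤ n) (hn : Module.finrank (ZMod 2) U = 2 * n) (ρ : Representation (ZMod 2) K U) (hρ : Function.Injective ρ) (q : QuadraticForm (ZMod 2) U) (hq : ∀ (k : K) (u : U), q (ρ k u) = q u) (hnd : (QuadraticMap.polarBilin q).Nondegenerate) (hplus : ∃ W : Submodule (ZMod 2) U, Module.finrank (ZMod 2) ↥W = n ∧ ∀ w ∈ W, q w = 0) : ∃ (R : Type) (_ : Group R) (_ : Finite R) (Q : Subgroup R) (hN : Q.Normal) (e : R ⧸ Q ≃* K) (χ : ↥Q →* Multiplicative U), Cfsg.IsExtraspecial 2 ↥Q ∧ Nat.card ↥Q = 2 ^ (2 * n + 1) ∧ Function.Surjective χ ∧ χ.ker = Subgroup.center ↥Q ∧ (∀ (r : R) (a : ↥Q), χ ⟨r * a * r⁻¹, hN.conj_mem (a : R) a.2 r⟩ = Multiplicative.ofAdd (ρ (e (r : R ⧸ Q)) (Multiplicative.toAdd (χ a)))) ∧ ∀ a : ↥Q, a * a = 1 ↔ q (Multiplicative.toAdd (χ a)) = 0 := by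
  let b := Module.finBasisOfFinrankEq (ZMod 2) U hn
  let e : U ≃ₗ[ZMod 2] (Fin (2 * n) → ZMod 2) := b.equivFun
  let qV : QuadraticForm (ZMod 2) (Fin (2 * n) → ZMod 2) := q.comp e.symm.toLinearMap
  let β := qV.toBilin (Pi.basisFun (ZMod 2) (Fin (2 * n)))
  have hβ : ∀ v, β v v = q (e.symm v) := fun v => by
    have := congrArg (fun Q : QuadraticForm (ZMod 2) (Fin (2 * n) → ZMod 2) => Q v)
      (QuadraticMap.toQuadraticMap_toBilin qV (Pi.basisFun (ZMod 2) (Fin (2 * n))))
    exact this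
  have hB : ∀ u, (∀ v, Pol β v u = 0) → u = 0 := by
    intro u hu
    have h := hnd.2 (e.symm u) fun x => by
      have h2 := hu (e x)
      rw [QuadraticMap.polarBilin_apply_apply, QuadraticMap.polar]
      have e1 : q (x + e.symm u) = β (e x + u) (e x + u) := by
        rw [hβ (e x + u), LinearEquiv.map_add e.symm, e.symm_apply_apply]
      have e2 : q x = β (e x) (e x) := by rw [hβ, e.symm_apply_apply]
      rw [e1, e2, ← hβ u]
      simp only [map_add, LinearMap.add_apply]
      calc β (e x) (e x) + β u (e x) + (β (e x) u + β u u) - β (e x) (e x) - β u u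
          = β (e x) u + β u (e x) := by abel
        _ = 0 := h2
    simpa using congrArg e h
  let σ : K → (Fin (2 * n) → ZMod 2) ≃ₗ[ZMod 2] (Fin (2 * n) → ZMod 2) := fun k =>
    e.symm.trans (({ (ρ k : U →ₗ[ZMod 2] U) with
      invFun := fun x => ρ k⁻¹ x
      left_inv := fun x => show ρ k⁻¹ (ρ k x) = x by
        rw [← Module.End.mul_apply, ← map_mul, inv_mul_cancel, map_one, Module.End.one_apply]
      right_inv := fun x => show ρ k (ρ k⁻¹ x) = x by
        rw [← Module.End.mul_apply, ← map_mul, mul_inv_cancel, map_one, Module.End.one_apply] }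
      : U ≃ₗ[ZMod 2] U).trans e)
  have hσe : ∀ k v, σ k v = e (ρ k (e.symm v)) := fun k v => rfl
  obtain ⟨R, hG, hfin, Q, hN, f, χ, h1, h2, h3, h4, h5, h6⟩ := main β hB σ (n := n)
    (by simp [Nat.card_eq_fintype_card]) hn1
    (fun k l u => by
      rw [hσe, hσe, hσe, map_mul, Module.End.mul_apply, e.symm_apply_apply])
    (fun u => by rw [hσe, map_one, Module.End.one_apply, e.apply_symm_apply])
    (fun k l h => hρ (LinearMap.ext fun x => by
      simpa [hσe] using congrArg e.symm (h (e x))))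
    (fun k u => by rw [hβ, hβ, hσe, e.symm_apply_apply, hq])
  let τ : Multiplicative (Fin (2 * n) → ZMod 2) ≃* Multiplicative U :=
    AddEquiv.toMultiplicative e.symm.toAddEquiv
  refine ⟨R, hG, hfin, Q, hN, f, τ.toMonoidHom.comp χ, h1, h2, τ.surjective.comp h3, ?_, ?_, ?_⟩
  · rw [← h4]
    ext a
    exact ⟨fun h => τ.injective (h.trans τ.map_one.symm), fun h => (congrArg τ h).trans τ.map_one⟩
  · intro r a
    show τ (χ _) = _
    rw [h5, hσe]
    exact congrArg Multiplicative.ofAdd (e.symm_apply_apply _)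
  · intro a
    rw [h6, hβ]
    rfl

end Cfsg.Agent.S3084
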