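import Cfsg.Statements.S3085
import Cfsg.Agent.Lib.PGroup.Basic

/-!
The inner automorphism group of `2^(1+2n)_+` (`n ≥ 3`) has no complement: four commuting transvection lifts
generate a four-group in the outer group that cannot be lifted.
-/

set_option autoImplicit false
open Cfsg

namespace Cfsg.Agent.S3085

open scoped Classical

variable {Q : Type*} [Group Q]

/-- `z` is a central involution and every commutator lies in `⟨z⟩`. -/
structure Ctx (Q : Type*) [Group Q] where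
  z : Q
  z_ne : z ≠ 1
  z_sq : z * z = 1
  z_cen : ∀ g : Q, z * g = g * z
  comm : ∀ g h : Q, ¬ g * h = h * g → g * h = h * g * z

namespace Ctx

variable (C : Ctx Q)

/-- The commutator pairing with values in `ZMod 2`. -/
noncomputable def pr (g h : Q) : ZMod 2 := if g * h = h * g then 0 else 1

/-- The homomorphism `ZMod 2 → ⟨z⟩`. -/
noncomputable def zp (k : ZMod 2) : Q := if k = 0 then 1 else C.z

lemma zp_zero : C.zp 0 = 1 := by simp [zp]

lemma zp_one : C.zp 1 = C.z := by simp [zp]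

lemma zp_add (a b : ZMod 2) : C.zp (a + b) = C.zp a * C.zp b := by
  obtain rfl | rfl : a = 0 ∨ a = 1 := by revert a; decide
  all_goals obtain rfl | rfl : b = 0 ∨ b = 1 := by revert b; decide
  all_goals simp [zp, C.z_sq, show (1 : ZMod 2) + 1 = 0 from rfl]

lemma zp_cen (k : ZMod 2) (g : Q) : C.zp k * g = g * C.zp k := by
  unfold zp; split_ifs
  · simp
  · exact C.z_cen g

lemma zp_inj {a b : ZMod 2} (h : C.zp a = C.zp b) : a = b := by
  fin_cases a <;> fin_cases b <;> first | rfl | (simp [zp] at h; first | exact absurd h C.z_ne | exact absurd h.symm C.z_ne)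

lemma mul_eq (g h : Q) : g * h = h * g * C.zp (pr g h) := by
  unfold pr; split_ifs with hc
  · simp [zp, hc]
  · rw [C.zp_one]; exact C.comm g h hc

lemma pr_eq {g h : Q} {k : ZMod 2} (e : g * h = h * g * C.zp k) : pr g h = k :=
  C.zp_inj (mul_left_cancel ((C.mul_eq g h).symm.trans e))

include C in
lemma pr_mul (c g h : Q) : pr c (g * h) = pr c g + pr c h := by
  refine C.pr_eq ?_
  calc c * (g * h) = (c * g) * h := (mul_assoc _ _ _).symm
    _ = (g * c * C.zp (pr c g)) * h := by rw [← C.mul_eq]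
    _ = g * (c * h) * C.zp (pr c g) := by rw [mul_assoc (g * c), C.zp_cen]; group
    _ = g * (h * c * C.zp (pr c h)) * C.zp (pr c g) := by rw [← C.mul_eq]
    _ = _ := by rw [add_comm, C.zp_add]; group

lemma pr_z (c : Q) : pr c C.z = 0 := by
  simp [pr, (C.z_cen c).symm]

lemma conj_eq (c g : Q) : c * g * c⁻¹ = g * C.zp (pr c g) := by
  rw [C.mul_eq c g, mul_assoc (g * c), C.zp_cen]; group

/-- The lift of a transvection. -/
noncomputable def tv (s g : Q) : Q := if s * g = g * s then g else g * s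

lemma tv_eq (s g : Q) : tv s g = g * (if pr s g = 0 then 1 else s) := by
  unfold tv pr; split_ifs with h <;> simp_all

lemma tv_mul {s : Q} (hs : s * s = C.z) (g h : Q) : tv s (g * h) = tv s g * tv s h := by
  rw [tv_eq, tv_eq, tv_eq, C.pr_mul]
  have h1 := C.mul_eq s h
  generalize hb : pr s h = b at h1 ⊢
  generalize pr s g = a
  have key : ∀ x : ZMod 2, x = 0 ∨ x = 1 := by decide
  obtain rfl | rfl := key a
  all_goals obtain rfl | rfl := key b
  all_goals simp [zp, show (1 : ZMod 2) + 1 = 0 from rfl] at h1 ⊢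
  · group
  · calc g * h * s = g * (h * s) := mul_assoc _ _ _
      _ = g * (s * h) := by rw [h1]
      _ = _ := by group
  · calc g * h = g * h * (C.z * C.z) := by rw [C.z_sq, mul_one]
      _ = g * h * (C.z * (s * s)) := by rw [hs]
      _ = g * (h * (s * C.z)) * s := by rw [← C.z_cen s]; group
      _ = g * (s * h) * s := by rw [h1]; group
      _ = _ := by group

/-- Transvection lift as an endomorphism. -/
noncomputable def tvHom {s : Q} (hs : s * s = C.z) : Q →* Q := MonoidHom.mk' (tv s) (C.tv_mul hs)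

lemma tv_tv {s : Q} (hs : s * s = C.z) (g : Q) : tv s (tv s g) = g * C.zp (pr s g) := by
  unfold tv pr
  by_cases h : s * g = g * s
  · simp [h, zp]
  · simp only [h, if_false]
    rw [if_neg, C.zp_one, mul_assoc, hs]
    intro h2
    exact h (mul_right_cancel (show s * g * s = g * s * s by rw [← h2]; group))

/-- Transvection lift as an automorphism. -/
noncomputable def tvAut {s : Q} (hs : s * s = C.z) : MulAut Q :=
  MulEquiv.mk' ⟨tv s, fun g => tv s g * C.zp (pr s g),
    fun g => by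
      show tv s (tv s g) * C.zp (pr s (tv s g)) = g
      have : pr s (tv s g) = pr s g := by
        unfold tv; split_ifs with h
        · rfl
        · rw [C.pr_mul]; simp [pr]
      rw [this, C.tv_tv hs, mul_assoc, ← C.zp_add, CharTwo.add_self_eq_zero, C.zp_zero, mul_one],
    fun g => by
      show tv s (tv s g * C.zp (pr s g)) = g
      have hz : ∀ k, tv s (C.zp k) = C.zp k := fun k => by
        unfold tv; rw [if_pos (C.zp_cen k s).symm]
      rw [C.tv_mul hs, C.tv_tv hs, hz, mul_assoc, ← C.zp_add, CharTwo.add_self_eq_zero, C.zp_zero, mul_one]⟩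
    (C.tv_mul hs)

lemma tvAut_apply {s : Q} (hs : s * s = C.z) (g : Q) : C.tvAut hs g = tv s g := rfl

lemma tvAut_sq {s : Q} (hs : s * s = C.z) : C.tvAut hs * C.tvAut hs = MulAut.conj s := by
  ext g
  rw [MulAut.mul_apply, tvAut_apply, tvAut_apply, C.tv_tv hs, MulAut.conj_apply, C.conj_eq]

lemma tv_fix {s g : Q} (h : s * g = g * s) : tv s g = g := if_pos h

lemma tv_move {s g : Q} (h : pr s g = 1) : tv s g = g * s := by
  rw [tv_eq, h, if_neg one_ne_zero]

lemma tvAut_comm {s t : Q} (hs : s * s = C.z) (ht : t * t = C.z) (hst : s * t = t * s) :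
    C.tvAut hs * C.tvAut ht = C.tvAut ht * C.tvAut hs := by
  ext g
  simp only [MulAut.mul_apply, tvAut_apply]
  have key : ∀ (a b : Q), a * a = C.z → a * b = b * a → tv a (g * b) = tv a g * b :=
    fun a b ha hab => by rw [C.tv_mul ha, tv_fix hab]
  by_cases h1 : t * g = g * t
  · rw [tv_fix h1]
    by_cases h2 : s * g = g * s
    · rw [tv_fix h2, tv_fix h1]
    · rw [show tv s g = g * s from if_neg h2, key t s ht hst.symm, tv_fix h1]
  · rw [show tv t g = g * t from if_neg h1, key s t hs hst]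
    by_cases h2 : s * g = g * s
    · rw [tv_fix h2, show tv t g = g * t from if_neg h1]
    · rw [show tv s g = g * s from if_neg h2, key t s ht hst.symm, show tv t g = g * t from if_neg h1]
      simp only [mul_assoc, hst]

lemma pr_comm (g h : Q) : pr g h = pr h g := by simp only [pr, eq_comm]

lemma pr_self (g : Q) : pr g g = 0 := by simp [pr]

lemma pr_eq_zero {g h : Q} : pr g h = 0 ↔ g * h = h * g := by
  unfold pr; split_ifs with hc <;> simp [hc]

include C in
/-- The pairing with the second argument on the left. -/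
lemma pr_mul' (c g h : Q) : pr (g * h) c = pr g c + pr h c := by
  rw [pr_comm, C.pr_mul, pr_comm c, pr_comm c]

include C in
/-- Six hyperbolic involutions rule out a complement to the inner automorphism group. -/
theorem no_complement (x1 y1 x2 y2 x3 y3 : Q)
    (hx1 : x1 * x1 = 1) (hx2 : x2 * x2 = 1) (hy2 : y2 * y2 = 1) (hx3 : x3 * x3 = 1) (hy3 : y3 * y3 = 1)
    (e11 : pr x1 y1 = 1) (e12 : pr x1 x2 = 0) (e12' : pr x1 y2 = 0) (e13 : pr x1 x3 = 0) (e13' : pr x1 y3 = 0)
    (f2 : pr y1 x2 = 0) (f2' : pr y1 y2 = 0) (f3 : pr y1 x3 = 0) (f3' : pr y1 y3 = 0)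
    (e22 : pr x2 y2 = 1) (e23 : pr x2 x3 = 0) (e23' : pr x2 y3 = 0)
    (g23 : pr y2 x3 = 0) (g23' : pr y2 y3 = 0) (e33 : pr x3 y3 = 1)
    (L : Subgroup (MulAut Q)) (hL : (Cfsg.Inn Q).IsComplement' L) : False := by
  have c12 := pr_eq_zero.mp e12
  have c12' := pr_eq_zero.mp e12'
  have c13 := pr_eq_zero.mp e13
  have c13' := pr_eq_zero.mp e13'
  have sw2 : y2 * x2 = x2 * y2 * C.z := by
    rw [C.mul_eq y2 x2, pr_comm, e22, C.zp_one]
  have sw3 : y3 * x3 = x3 * y3 * C.z := by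
    rw [C.mul_eq y3 x3, pr_comm, e33, C.zp_one]
  obtain ⟨p, hpd⟩ : ∃ p, p = x3 * y3 := ⟨_, rfl⟩
  obtain ⟨r, hrd⟩ : ∃ r, r = x2 * y2 := ⟨_, rfl⟩
  obtain ⟨u, hud⟩ : ∃ u, u = x1 * (x3 * y3) := ⟨_, rfl⟩
  obtain ⟨v, hvd⟩ : ∃ v, v = x1 * (x2 * y2) := ⟨_, rfl⟩
  have hp : p * p = C.z := by
    calc p * p = x3 * (y3 * x3) * y3 := by rw [hpd]; group
      _ = (x3 * x3) * y3 * (C.z * y3) := by rw [sw3]; group
      _ = (x3 * x3) * (y3 * y3) * C.z := by rw [C.z_cen]; group
      _ = _ := by rw [hx3, hy3]; group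
  have hr : r * r = C.z := by
    calc r * r = x2 * (y2 * x2) * y2 := by rw [hrd]; group
      _ = (x2 * x2) * y2 * (C.z * y2) := by rw [sw2]; group
      _ = (x2 * x2) * (y2 * y2) * C.z := by rw [C.z_cen]; group
      _ = _ := by rw [hx2, hy2]; group
  have p1 : pr p x1 = 0 := by rw [hpd, C.pr_mul', pr_comm x3, pr_comm y3, e13, e13']; rfl
  have r1 : pr r x1 = 0 := by rw [hrd, C.pr_mul', pr_comm x2, pr_comm y2, e12, e12']; rfl
  have hu : u * u = C.z := by
    have hc : p * x1 = x1 * p := pr_eq_zero.mp p1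
    calc u * u = x1 * (p * x1) * p := by rw [hud, ← hpd]; group
      _ = (x1 * x1) * (p * p) := by rw [hc]; group
      _ = _ := by rw [hx1, hp, one_mul]
  have hv : v * v = C.z := by
    have hc : r * x1 = x1 * r := pr_eq_zero.mp r1
    calc v * v = x1 * (r * x1) * r := by rw [hvd, ← hrd]; group
      _ = (x1 * x1) * (r * r) := by rw [hc]; group
      _ = _ := by rw [hx1, hr, one_mul]
  -- the pairing of the four vectors with the generators
  have e21 : pr x2 x1 = 0 := pr_comm x2 x1 ▸ e12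
  have e21' : pr y2 x1 = 0 := pr_comm y2 x1 ▸ e12'
  have e31 : pr x3 x1 = 0 := pr_comm x3 x1 ▸ e13
  have e31' : pr y3 x1 = 0 := pr_comm y3 x1 ▸ e13'
  have h32 : pr x3 x2 = 0 := pr_comm x3 x2 ▸ e23
  have h32' : pr y3 x2 = 0 := pr_comm y3 x2 ▸ e23'
  have h3y2 : pr x3 y2 = 0 := pr_comm x3 y2 ▸ g23
  have h3y2' : pr y3 y2 = 0 := pr_comm y3 y2 ▸ g23'
  have f2r : pr x2 y1 = 0 := pr_comm x2 y1 ▸ f2
  have f2r' : pr y2 y1 = 0 := pr_comm y2 y1 ▸ f2'
  have f3r : pr x3 y1 = 0 := pr_comm x3 y1 ▸ f3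
  have f3r' : pr y3 y1 = 0 := pr_comm y3 y1 ▸ f3'
  have e22r : pr y2 x2 = 1 := pr_comm y2 x2 ▸ e22
  have e33r : pr y3 x3 = 1 := pr_comm y3 x3 ▸ e33
  have two : ∀ {s g : Q}, pr s g = 0 → s * g = g * s := fun h => pr_eq_zero.mp h
  have expand : ∀ g : Q, pr p g = pr x3 g + pr y3 g ∧ pr r g = pr x2 g + pr y2 g ∧
      pr u g = pr x1 g + (pr x3 g + pr y3 g) ∧ pr v g = pr x1 g + (pr x2 g + pr y2 g) :=
    fun g => ⟨by rw [hpd, C.pr_mul'], by rw [hrd, C.pr_mul'],
      by rw [hud, C.pr_mul', C.pr_mul'], by rw [hvd, C.pr_mul', C.pr_mul']⟩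
  have self3 : pr x3 x3 = 0 ∧ pr y3 y3 = 0 ∧ pr x2 x2 = 0 ∧ pr y2 y2 = 0 ∧ pr x1 x1 = 0 :=
    ⟨pr_self _, pr_self _, pr_self _, pr_self _, pr_self _⟩
  obtain ⟨s33, s33', s22, s22', s11⟩ := self3
  have prs : pr p r = 0 := by
    rw [hrd, C.pr_mul, (expand x2).1, (expand y2).1, h32, h32', h3y2, h3y2']; rfl
  have pru : pr p u = 0 := by rw [hud, C.pr_mul, p1, ← hpd, pr_self]; rfl
  have prv : pr p v = 0 := by rw [hvd, C.pr_mul, p1, ← hrd, prs]; rfl
  have rru : pr r u = 0 := by rw [hud, C.pr_mul, r1, ← hpd, pr_comm r p, prs]; rfl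
  have rrv : pr r v = 0 := by rw [hvd, C.pr_mul, r1, ← hrd, pr_self]; rfl
  have ruv : pr u v = 0 := by
    rw [hud, C.pr_mul', pr_comm x1 v, hvd, C.pr_mul', s11, ← hrd, r1, pr_comm (x3*y3), C.pr_mul', ← hpd,
      pr_comm x1 p, p1, pr_comm r p, prs]; rfl
  set Tp := C.tvAut hp
  set Tr := C.tvAut hr
  set Tu := C.tvAut hu
  set Tv := C.tvAut hv
  set a : MulAut Q := Tp * Tr with had
  set b : MulAut Q := Tu * Tv * Tr with hbd
  have hpr : Commute Tp Tr := C.tvAut_comm hp hr (two prs)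
  have hpu : Commute Tp Tu := C.tvAut_comm hp hu (two pru)
  have hpv : Commute Tp Tv := C.tvAut_comm hp hv (two prv)
  have hru : Commute Tr Tu := C.tvAut_comm hr hu (two rru)
  have hrv : Commute Tr Tv := C.tvAut_comm hr hv (two rrv)
  have huv : Commute Tu Tv := C.tvAut_comm hu hv (two ruv)
  have hab : a * b = b * a := by
    have h1 : Commute a Tu := hpu.mul_left hru
    have h2 : Commute a Tv := hpv.mul_left hrv
    have h3 : Commute a Tr := hpr.mul_left (Commute.refl Tr)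
    exact (h1.mul_right h2).mul_right h3
  have hsqInn : ∀ {s : Q} (hs : s * s = C.z), C.tvAut hs * C.tvAut hs ∈ Cfsg.Inn Q :=
    fun hs => ⟨_, (C.tvAut_sq hs).symm⟩
  have haa : a * a ∈ Cfsg.Inn Q := by
    rw [had, hpr.symm.mul_mul_mul_comm]; exact mul_mem (hsqInn hp) (hsqInn hr)
  have hbb : b * b ∈ Cfsg.Inn Q := by
    have h1 : Commute (Tu * Tv) Tr := (hru.symm.mul_left hrv.symm)
    rw [hbd, h1.symm.mul_mul_mul_comm, huv.symm.mul_mul_mul_comm]
    exact mul_mem (mul_mem (hsqInn hu) (hsqInn hv)) (hsqInn hr)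
  -- lifts in L
  have hdec : ∀ φ : MulAut Q, ∃ c : Q, MulAut.conj c * φ ∈ L := by
    intro φ
    obtain ⟨⟨⟨i, c, hc⟩, l⟩, hil⟩ := hL.2 φ
    refine ⟨c⁻¹, ?_⟩
    have : MulAut.conj c⁻¹ * φ = l := by
      rw [map_inv, hc, ← hil]; exact inv_mul_cancel_left _ _
    rw [this]; exact l.2
  have hone : ∀ φ : MulAut Q, φ ∈ Cfsg.Inn Q → φ ∈ L → φ = 1 := fun φ h1 h2 =>
    Subgroup.disjoint_def.mp hL.disjoint h1 h2
  obtain ⟨c, hcA⟩ := hdec a
  obtain ⟨d, hdB⟩ := hdec b
  set A := MulAut.conj c * a with hA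
  set B := MulAut.conj d * b with hB
  have hq : ∀ e : Q, (QuotientGroup.mk (MulAut.conj e) : MulAut Q ⧸ Cfsg.Inn Q) = 1 :=
    fun e => (QuotientGroup.eq_one_iff (MulAut.conj e)).mpr (MonoidHom.mem_range.mpr ⟨e, rfl⟩)
  have hA2 : A * A = 1 := by
    refine hone _ ((QuotientGroup.eq_one_iff _).mp ?_) (mul_mem hcA hcA)
    simp only [hA, QuotientGroup.mk_mul, hq, one_mul]
    rw [← QuotientGroup.mk_mul]
    exact (QuotientGroup.eq_one_iff _).mpr haa
  have hB2 : B * B = 1 := by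
    refine hone _ ((QuotientGroup.eq_one_iff _).mp ?_) (mul_mem hdB hdB)
    simp only [hB, QuotientGroup.mk_mul, hq, one_mul]
    rw [← QuotientGroup.mk_mul]
    exact (QuotientGroup.eq_one_iff _).mpr hbb
  have hAB : A * B = B * A := by
    have h1 : (A * B) * (B * A)⁻¹ = 1 := by
      refine hone _ ((QuotientGroup.eq_one_iff _).mp ?_) (mul_mem (mul_mem hcA hdB) (inv_mem (mul_mem hdB hcA)))
      simp only [hA, hB, QuotientGroup.mk_mul, QuotientGroup.mk_inv, hq, one_mul]
      rw [mul_inv_eq_one, ← QuotientGroup.mk_mul, ← QuotientGroup.mk_mul, hab]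
    exact mul_inv_eq_one.mp h1
  -- values
  have mv : ∀ {s g : Q}, pr s g = 1 → tv s g = g * s := fun h => tv_move h
  have fx : ∀ {s g : Q}, pr s g = 0 → tv s g = g := fun h => tv_fix (two h)
  have ha_app : ∀ g, a g = tv p (tv r g) := fun g => rfl
  have hb_app : ∀ g, b g = tv u (tv v (tv r g)) := fun g => rfl
  have prR : pr r x1 = 0 ∧ pr r y1 = 0 ∧ pr r x2 = 1 ∧ pr r y2 = 1 ∧ pr r x3 = 0 ∧ pr r y3 = 0 := by
    refine ⟨?_, ?_, ?_, ?_, ?_, ?_⟩ <;> rw [(expand _).2.1] <;>
      simp [e21, e21', f2r, f2r', s22, e22r, e22, s22', e23, g23, e23', g23'] <;> rfl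
  have prP : pr p x1 = 0 ∧ pr p y1 = 0 ∧ pr p x2 = 0 ∧ pr p y2 = 0 ∧ pr p x3 = 1 ∧ pr p y3 = 1 := by
    refine ⟨?_, ?_, ?_, ?_, ?_, ?_⟩ <;> rw [(expand _).1] <;>
      simp [e31, e31', f3r, f3r', h32, h32', h3y2, h3y2', s33, e33r, e33, s33'] <;> rfl
  have prU : pr u x1 = 0 ∧ pr u y1 = 1 ∧ pr u x2 = 0 ∧ pr u y2 = 0 ∧ pr u x3 = 1 ∧ pr u y3 = 1 := by
    refine ⟨?_, ?_, ?_, ?_, ?_, ?_⟩ <;> rw [(expand _).2.2.1] <;>
      simp [s11, e31, e31', e11, f3r, f3r', e12, h32, h32', e12', h3y2, h3y2', e13, e13', s33, e33r, e33, s33'] <;> rfl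
  have prV : pr v x1 = 0 ∧ pr v y1 = 1 ∧ pr v x2 = 1 ∧ pr v y2 = 1 ∧ pr v x3 = 0 ∧ pr v y3 = 0 := by
    refine ⟨?_, ?_, ?_, ?_, ?_, ?_⟩ <;> rw [(expand _).2.2.2] <;>
      simp [s11, e21, e21', e11, f2r, f2r', e12, e12', s22, e22r, e22, s22', e13, e13', e23, g23, e23', g23'] <;> rfl
  obtain ⟨rx1, ry1, rx2, ry2, rx3, ry3⟩ := prR
  obtain ⟨px1, -, px2, py2, px3, py3⟩ := prP
  obtain ⟨ux1, uy1, ux2, uy2, ux3, uy3⟩ := prU
  obtain ⟨vx1, vy1, vx2, vy2, vx3, vy3⟩ := prV
  have x2r : x2 * r = y2 := by rw [hrd, ← mul_assoc, hx2, one_mul]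
  have x3p : x3 * p = y3 := by rw [hpd, ← mul_assoc, hx3, one_mul]
  have y2r : y2 * r = x2 * C.z := by
    calc y2 * r = (y2 * x2) * y2 := by rw [hrd]; group
      _ = x2 * y2 * (C.z * y2) := by rw [sw2]; group
      _ = x2 * (y2 * y2) * C.z := by rw [C.z_cen]; group
      _ = _ := by rw [hy2, mul_one]
  have y3p : y3 * p = x3 * C.z := by
    calc y3 * p = (y3 * x3) * y3 := by rw [hpd]; group
      _ = x3 * y3 * (C.z * y3) := by rw [sw3]; group
      _ = x3 * (y3 * y3) * C.z := by rw [C.z_cen]; group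
      _ = _ := by rw [hy3, mul_one]
  have ax1 : a x1 = x1 := by rw [ha_app, fx rx1, fx px1]
  have ax3 : a x3 = y3 := by rw [ha_app, fx rx3, mv px3, x3p]
  have ay3 : a y3 = x3 * C.z := by rw [ha_app, fx ry3, mv py3, y3p]
  have ax2 : a x2 = y2 := by rw [ha_app, mv rx2, x2r, fx py2]
  have ay2 : a y2 = x2 * C.z := by
    rw [ha_app, mv ry2, y2r, C.tv_mul hp, fx px2, fx (C.pr_z p)]
  have az : a C.z = C.z := by rw [ha_app, fx (C.pr_z r), fx (C.pr_z p)]
  have bz : b C.z = C.z := by rw [hb_app, fx (C.pr_z r), fx (C.pr_z v), fx (C.pr_z u)]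
  have bx1 : b x1 = x1 := by rw [hb_app, fx rx1, fx vx1, fx ux1]
  have by1 : b y1 = y1 * u * v := by
    rw [hb_app, fx ry1, mv vy1, C.tv_mul hu, mv uy1, fx ruv]
  have bu : b u = u := by rw [hb_app, fx rru, fx ((pr_comm v u).trans ruv), fx (pr_self u)]
  have bv : b v = v := by rw [hb_app, fx rrv, fx (pr_self v), fx ruv]
  have bx2 : b x2 = x1 * x2 * C.z := by
    rw [hb_app, mv rx2, x2r, mv vy2, C.tv_mul hu, fx uy2, fx ruv, hvd, ← hrd, ← mul_assoc, ← c12', mul_assoc, y2r, mul_assoc]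
  have by2 : b y2 = x1 * y2 * C.z := by
    rw [hb_app, mv ry2, y2r, C.tv_mul hv, mv vx2, fx (C.pr_z v), C.tv_mul hu, C.tv_mul hu, fx ux2, fx ruv,
      fx (C.pr_z u), hvd, ← hrd, ← mul_assoc x2, ← c12, mul_assoc x1, x2r]
  have bx3 : b x3 = x1 * y3 := by
    rw [hb_app, fx rx3, fx vx3, mv ux3, hud, ← hpd, ← mul_assoc, ← c13, mul_assoc, x3p]
  have by3 : b y3 = x1 * x3 * C.z := by
    rw [hb_app, fx ry3, fx vy3, mv uy3, hud, ← hpd, ← mul_assoc, ← c13', mul_assoc, y3p, mul_assoc]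
  -- the lifts on the generators
  set lam := pr c with hlam
  set mu := pr d with hmu
  have Aapp : ∀ g, A g = a g * C.zp (lam (a g)) := fun g => by
    rw [hA, MulAut.mul_apply, MulAut.conj_apply, C.conj_eq]
  have Bapp : ∀ g, B g = b g * C.zp (mu (b g)) := fun g => by
    rw [hB, MulAut.mul_apply, MulAut.conj_apply, C.conj_eq]
  have azp : ∀ k, a (C.zp k) = C.zp k := fun k => by
    unfold zp; split_ifs
    · exact map_one _
    · exact az
  have bzp : ∀ k, b (C.zp k) = C.zp k := fun k => by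
    unfold zp; split_ifs
    · exact map_one _
    · exact bz
  have prz : ∀ (e : Q) k, pr e (C.zp k) = 0 := fun e k =>
    pr_eq_zero.mpr (C.zp_cen k e).symm
  -- E1: A² fixes x3
  have E1 : lam x3 + lam y3 = 1 := by
    have h := congrArg (fun φ : MulAut Q => φ x3) hA2
    simp only [MulAut.mul_apply, MulAut.one_apply, Aapp, ax3, map_mul, ay3, azp] at h
    rw [hlam, C.pr_mul, C.pr_mul, prz, C.pr_z, add_zero, add_zero, mul_assoc, mul_assoc] at h
    have h' : C.zp (1 + (pr c y3 + pr c x3)) = C.zp 0 := by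
      rw [C.zp_add, C.zp_add, C.zp_one, C.zp_zero]
      exact mul_eq_left.mp h
    have := C.zp_inj h'
    rw [hlam]
    generalize pr c x3 = s at this ⊢
    generalize pr c y3 = t at this ⊢
    revert this; revert s t; decide
  -- E2: B² fixes y1
  have E2 : mu u + mu v = 0 := by
    have h := congrArg (fun φ : MulAut Q => φ y1) hB2
    simp only [MulAut.mul_apply, MulAut.one_apply, Bapp, by1, map_mul, bu, bv, bzp] at h
    have huv' : y1 * u * v * u * v = y1 := by
      calc y1 * u * v * u * v = y1 * u * (v * u) * v := by group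
        _ = y1 * (u * u) * (v * v) := by rw [← two ruv]; group
        _ = y1 * (C.z * C.z) := by rw [hu, hv]; group
        _ = _ := by rw [C.z_sq, mul_one]
    rw [hmu] at h
    simp only [C.pr_mul, prz, add_zero] at h
    rw [huv', mul_assoc, ← C.zp_add] at h
    have h' : pr d y1 + pr d u + pr d v + (pr d y1 + pr d u + pr d v + pr d u + pr d v) = 0 :=
      C.zp_inj ((mul_eq_left.mp h).trans C.zp_zero.symm)
    rw [hmu]
    generalize pr d y1 = r' at h'
    generalize pr d u = s at h' ⊢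
    generalize pr d v = t at h' ⊢
    revert h'; revert r' s t; decide
  -- E3, E4: commutation
  have hcm : ∀ g, A (B g) = B (A g) := fun g => congrArg (fun φ : MulAut Q => φ g) hAB
  have E3 : mu x2 + mu y2 + lam x1 = 0 := by
    have h := hcm x2
    simp only [Aapp, Bapp, bx2, ax2, ax1, map_mul, az, bz, by2, azp, bzp] at h
    rw [hlam, hmu] at h
    simp only [C.pr_mul, prz, C.pr_z, add_zero] at h
    have e : x1 * y2 * C.z * C.zp (pr d x1 + pr d x2) * C.zp (pr c x1 + pr c y2)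
        = x1 * y2 * C.z * C.zp (pr c y2) * C.zp (pr d x1 + pr d y2) := h
    rw [mul_assoc _ (C.zp _), mul_assoc (x1 * y2 * C.z) (C.zp (pr c y2)), mul_right_inj, ← C.zp_add, ← C.zp_add] at e
    have h' := C.zp_inj e
    rw [hlam, hmu]
    generalize pr d x1 = r' at h'
    generalize pr c y2 = r'' at h'
    generalize pr d x2 = s at h' ⊢
    generalize pr d y2 = t at h' ⊢
    generalize pr c x1 = w at h' ⊢
    revert h'; revert r' r'' s t w; decide
  have E4 : mu x3 + mu y3 + lam x1 + lam x3 + lam y3 = 0 := by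
    have h := hcm x3
    simp only [Aapp, Bapp, bx3, ax3, ay3, ax1, map_mul, by3, az, bz, azp, bzp] at h
    rw [hlam, hmu] at h
    simp only [C.pr_mul, prz, C.pr_z, add_zero] at h
    rw [← mul_assoc x1 x3 C.z] at h
    rw [mul_assoc _ (C.zp _), mul_assoc (x1 * x3 * C.z) (C.zp (pr c y3)), mul_right_inj, ← C.zp_add, ← C.zp_add] at h
    have h' := C.zp_inj h
    rw [hlam, hmu]
    generalize pr d x1 = r' at h'
    generalize pr d x3 = s at h' ⊢
    generalize pr d y3 = t at h' ⊢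
    generalize pr c x1 = w at h' ⊢
    generalize pr c x3 = i at h' ⊢
    generalize pr c y3 = j at h' ⊢
    revert h'; revert r' s t w i j; decide
  rw [hmu, hud, hvd, C.pr_mul, C.pr_mul, C.pr_mul, C.pr_mul] at E2
  rw [hlam] at E1
  rw [hlam, hmu] at E3 E4
  generalize pr d x1 = a1 at E2 E3 E4
  generalize pr d x2 = a2 at E2 E3 E4
  generalize pr d y2 = b2 at E2 E3 E4
  generalize pr d x3 = a3 at E2 E3 E4
  generalize pr d y3 = b3 at E2 E3 E4
  generalize pr c x1 = w at E1 E3 E4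
  generalize pr c x3 = i at E1 E3 E4
  generalize pr c y3 = j at E1 E3 E4
  revert E1 E2 E3 E4; revert a1 a2 b2 a3 b3 w i j; decide

end Ctx

open Ctx in
theorem result {Q : Type*} [Group Q] [Finite Q] (n : ℕ) (hn : 3 ≤ n) (hQ : Cfsg.IsExtraspecial 2 Q) (hcard : Nat.card Q = 2 ^ (2 * n + 1)) (hplus : ∃ E : Subgroup Q, Cfsg.IsElementaryAbelian 2 E ∧ Nat.card ↥E = 2 ^ (n + 1)) (L : Subgroup (MulAut Q)) : ¬ (Cfsg.Inn Q).IsComplement' L := by
  intro hL
  classical
  obtain ⟨z, hzc, hz1⟩ : ∃ z ∈ Subgroup.center Q, z ≠ 1 := by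
    apply (Subgroup.ne_bot_iff_exists_ne_one (H := Subgroup.center Q)).mp (by
      intro h; have := hQ.2; rw [h, Subgroup.card_bot] at this; omega) |>.elim
    exact fun a ha => ⟨a, a.2, fun h => ha (Subtype.ext h)⟩
  have hZ : ∀ c ∈ Subgroup.center Q, c = 1 ∨ c = z := by
    intro c hc
    by_contra hne
    push Not at hne
    have h3 : ({1, z, c} : Set Q).ncard ≤ (Subgroup.center Q : Set Q).ncard :=
      Set.ncard_le_ncard (by
        rintro x (rfl | rfl | rfl)
        exacts [one_mem _, hzc, hc]) (Set.toFinite _)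
    rw [Set.ncard_insert_of_notMem (by simp [Ne.symm hz1, Ne.symm hne.1]),
      Set.ncard_pair (Ne.symm hne.2), ← Nat.card_coe_set_eq, SetLike.coe_sort_coe, hQ.2] at h3
    omega
  let C : Ctx Q :=
    { z := z
      z_ne := hz1
      z_sq := by
        rcases hZ _ (mul_mem hzc hzc) with h | h
        · exact h
        · exact absurd (mul_eq_left.mp h) hz1
      z_cen := fun g => (Subgroup.mem_center_iff.mp hzc g).symm
      comm := by
        intro g h hne
        have hm : (h * g)⁻¹ * (g * h) ∈ Subgroup.center Q := by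
          rw [← hQ.1.2.2]
          have := Subgroup.commutator_mem_commutator (Subgroup.mem_top g⁻¹) (Subgroup.mem_top h⁻¹)
          simpa [commutatorElement_def, mul_assoc, _root_.commutator_def] using this
        rcases hZ _ hm with e | e
        · exact absurd (inv_mul_eq_one.mp e).symm hne
        · rw [← e]; group }
  obtain ⟨E, hE, hEc⟩ := hplus
  have hsq : ∀ e ∈ E, e * e = 1 := fun e he => by rw [← pow_two]; exact hE.2 e he
  have hEcomm : ∀ e ∈ E, ∀ f ∈ E, pr e f = 0 := by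
    intro e he f hf
    haveI := hE.1
    exact pr_eq_zero.mpr (setLike_mul_comm (s := E) he hf)
  have hpz : ∀ e ∈ Subgroup.center Q, ∀ g : Q, pr g e = 0 := fun e he g =>
    pr_eq_zero.mpr (Subgroup.mem_center_iff.mp he g)
  -- a noncentral element of E commuting with given y's
  have pick : ∀ (ys : List Q), 2 * 2 ^ ys.length < 2 ^ (n + 1) →
      ∃ e ∈ E, e ∉ Subgroup.center Q ∧ ∀ y ∈ ys, pr y e = 0 := by
    intro ys
    have key : ∀ (ys : List Q), ∃ F : Subgroup Q, F ≤ E ∧ Nat.card E ≤ 2 ^ ys.length * Nat.card F ∧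
        ∀ f ∈ F, ∀ y ∈ ys, pr y f = 0 := by
      intro ys
      induction ys with
      | nil => exact ⟨E, le_rfl, by simp, by simp⟩
      | cons y ys ih =>
        obtain ⟨F, hFE, hFc, hF⟩ := ih
        let φ : Q →* Multiplicative (ZMod 2) :=
          MonoidHom.mk' (fun g => Multiplicative.ofAdd (pr y g)) (fun g h => by
            show Multiplicative.ofAdd (pr y (g * h)) = _
            rw [C.pr_mul]; rfl)
        refine ⟨F ⊓ φ.ker, inf_le_left.trans hFE, ?_, ?_⟩
        · have h2 : φ.ker.relIndex F ≤ 2 := by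
            have h1 : φ.ker.relIndex F ≤ φ.ker.relIndex ⊤ :=
              Subgroup.relIndex_le_of_le_right le_top (by rw [Subgroup.relIndex_top_right]; exact Subgroup.index_ne_zero_of_finite)
            rw [Subgroup.relIndex_top_right, Subgroup.index_ker] at h1
            refine h1.trans ((Subgroup.card_le_card_group _).trans (le_of_eq ?_))
            rw [Nat.card_congr Multiplicative.toAdd, Nat.card_zmod]
          have h3 : Nat.card ↥(F ⊓ φ.ker) * φ.ker.relIndex F = Nat.card F := by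
            have := Subgroup.relIndex_mul_relIndex (⊥ : Subgroup Q) (F ⊓ φ.ker) F bot_le inf_le_left
            simpa [Subgroup.relIndex_bot_left, inf_comm F, Subgroup.inf_relIndex_right] using this
          calc Nat.card E ≤ 2 ^ ys.length * Nat.card F := hFc
            _ ≤ 2 ^ ys.length * (Nat.card ↥(F ⊓ φ.ker) * 2) := by rw [← h3]; gcongr
            _ = _ := by rw [List.length_cons, pow_succ]; ring
        · intro f hf w hw
          rcases List.mem_cons.mp hw with rfl | hw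
          · have := MonoidHom.mem_ker.mp hf.2
            exact Multiplicative.ofAdd.injective this
          · exact hF f hf.1 w hw
    intro hlt
    obtain ⟨F, hFE, hFc, hF⟩ := key ys
    by_contra hno
    push Not at hno
    have hFle : F ≤ Subgroup.center Q := by
      intro f hf
      by_contra hc
      obtain ⟨y, hy, hy'⟩ := hno f (hFE hf) hc
      exact hy' (hF f hf y hy)
    have h4 := (Subgroup.card_le_of_le hFle).trans hQ.2.le
    rw [hEc] at hFc
    have := hFc.trans (Nat.mul_le_mul_left _ h4)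
    omega
  -- a partner
  have noncen : ∀ e : Q, e ∉ Subgroup.center Q → ∃ y, pr e y = 1 := by
    intro e he
    by_contra hno
    push Not at hno
    refine he (Subgroup.mem_center_iff.mpr fun g => ?_)
    have h0 : pr e g = 0 := by
      have := hno g
      generalize pr e g = k at this ⊢
      revert this; revert k; decide
    exact (pr_eq_zero.mp h0).symm
  have fixsq : ∀ x y : Q, x * x = 1 → pr x y = 1 → ∃ y', y' * y' = 1 ∧ (∀ w, pr w x = 0 → pr w y' = pr w y) ∧ pr x y' = 1 := by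
    intro x y hx hxy
    have hy2 : y * y ∈ Subgroup.center Q := by
      rw [← hQ.1.2.1, ← pow_two]
      exact Cfsg.Agent.PGroup.pow_mem_frattini hQ.1.1 y
    rcases hZ _ hy2 with h | h
    · exact ⟨y, h, fun w _ => rfl, hxy⟩
    · refine ⟨y * x, ?_, fun w hw => by rw [C.pr_mul, hw, add_zero], by rw [C.pr_mul, hxy, pr_self, add_zero]⟩
      calc y * x * (y * x) = y * (x * y) * x := by group
        _ = y * (y * x * C.z) * x := by rw [C.mul_eq x y, hxy, C.zp_one]
        _ = (y * y) * (x * x) * C.z := by simp only [mul_assoc, C.z_cen]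
        _ = 1 := by rw [h, hx, mul_one]; exact C.z_sq
  have two' : ∀ m : ℕ, m ≤ 2 → 2 * 2 ^ m < 2 ^ (n + 1) := by
    intro m hm
    calc 2 * 2 ^ m = 2 ^ (m + 1) := by ring
      _ < _ := Nat.pow_lt_pow_right (by norm_num) (by omega)
  obtain ⟨x1, hx1E, hx1c, -⟩ := pick [] (two' 0 (by norm_num))
  obtain ⟨y1', hy1'⟩ := noncen x1 hx1c
  obtain ⟨y1, hy1s, -, e11⟩ := fixsq x1 y1' (hsq _ hx1E) hy1'
  obtain ⟨x2, hx2E, hx2c, hx2p⟩ := pick [y1] (two' 1 (by norm_num))
  have f2 : pr y1 x2 = 0 := hx2p y1 (by simp)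
  -- push an element into the centralizer of a hyperbolic pair
  have proj : ∀ x y w : Q, pr x y = 1 → ∃ w', pr x w' = 0 ∧ pr y w' = 0 ∧
      ∀ t, pr t x = 0 → pr t y = 0 → pr t w' = pr t w := by
    intro x y w hxy
    refine ⟨w * (if pr y w = 0 then 1 else x) * (if pr x w = 0 then 1 else y), ?_, ?_, ?_⟩
    · rw [C.pr_mul, C.pr_mul]
      generalize hk : pr y w = k
      generalize hl : pr x w = l
      have h1 : pr x (1 : Q) = 0 := by simp [pr]
      have key : ∀ t : ZMod 2, t = 0 ∨ t = 1 := by decide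
      rcases key k with rfl | rfl <;> rcases key l with rfl | rfl <;>
        simp [h1, pr_self, hxy] <;> rfl
    · rw [C.pr_mul, C.pr_mul]
      generalize hk : pr y w = k
      generalize hl : pr x w = l
      have h1 : pr y (1 : Q) = 0 := by simp [pr]
      have hyx : pr y x = 1 := by rw [pr_comm]; exact hxy
      have key : ∀ t : ZMod 2, t = 0 ∨ t = 1 := by decide
      rcases key k with rfl | rfl <;> rcases key l with rfl | rfl <;>
        simp [h1, pr_self, hyx] <;> rfl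
    · intro t htx hty
      have h1 : pr t (1 : Q) = 0 := by simp [pr]
      rw [C.pr_mul, C.pr_mul]
      split_ifs <;> simp [h1, htx, hty]
  obtain ⟨y2a, hy2a⟩ := noncen x2 hx2c
  obtain ⟨y2b, b1, b2, b3⟩ := proj x1 y1 y2a e11
  have e12 : pr x1 x2 = 0 := hEcomm _ hx1E _ hx2E
  obtain ⟨y2, hy2s, hy2p, e22⟩ := fixsq x2 y2b (hsq _ hx2E)
    (by rw [b3 x2 (by rw [pr_comm]; exact e12) (by rw [pr_comm]; exact f2), hy2a])
  have e12' : pr x1 y2 = 0 := by rw [hy2p x1 e12]; exact b1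
  have f2' : pr y1 y2 = 0 := by rw [hy2p y1 f2]; exact b2
  obtain ⟨x3, hx3E, hx3c, hx3p⟩ := pick [y1, y2] (two' 2 le_rfl)
  have f3 : pr y1 x3 = 0 := hx3p y1 (by simp)
  have g23 : pr y2 x3 = 0 := hx3p y2 (by simp)
  have e13 : pr x1 x3 = 0 := hEcomm _ hx1E _ hx3E
  have e23 : pr x2 x3 = 0 := hEcomm _ hx2E _ hx3E
  obtain ⟨y3a, hy3a⟩ := noncen x3 hx3c
  obtain ⟨y3b, d1, d2, d3⟩ := proj x1 y1 y3a e11
  obtain ⟨y3c, k1, k2, k3⟩ := proj x2 y2 y3b e22
  have hx3y : pr x3 y3c = 1 := by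
    rw [k3 x3 (by rw [pr_comm]; exact e23) (by rw [pr_comm]; exact g23),
      d3 x3 (by rw [pr_comm]; exact e13) (by rw [pr_comm]; exact f3), hy3a]
  obtain ⟨y3, hy3s, hy3p, e33⟩ := fixsq x3 y3c (hsq _ hx3E) hx3y
  have e13' : pr x1 y3 = 0 := by rw [hy3p x1 e13, k3 x1 e12 e12']; exact d1
  have f3' : pr y1 y3 = 0 := by rw [hy3p y1 f3, k3 y1 f2 f2']; exact d2
  have e23' : pr x2 y3 = 0 := by rw [hy3p x2 e23]; exact k1
  have g23' : pr y2 y3 = 0 := by rw [hy3p y2 g23]; exact k2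
  exact C.no_complement x1 y1 x2 y2 x3 y3 (hsq _ hx1E) (hsq _ hx2E) hy2s (hsq _ hx3E) hy3s
    e11 e12 e12' e13 e13' f2 f2' f3 f3' e22 e23 e23' g23 g23' e33 L hL

end Cfsg.Agent.S3085
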