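import Cfsg.Statements.S3086
import Cfsg.Agent.Lib.Thompson.PGV.Final
-- import your own Cfsg.Agent.* helpers here

set_option autoImplicit false
open Cfsg

namespace Cfsg.Agent.S3086

open Thompson.PGV in
/-- Transfer to `K ⊔ A`. -/
theorem normalizes_component {G : Type*} [Group G] [Finite G] {V : Type*} [AddCommGroup V]
    [Finite V] {p : ℕ} [Fact p.Prime] (ρ : G →* AddMonoid.End V) (hρ : Function.Injective ρ)
    (hV : ∀ v : V, p • v = 0) {A : Subgroup G} (hAel : Cfsg.IsElementaryAbelian p A)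
    (hP : ∀ B, B ≤ A → meas ρ B ≤ meas ρ A) {K : Subgroup G} (hK : Cfsg.IsComponent K) :
    A ≤ Subgroup.normalizer (K : Set G) := by
  set H := K ⊔ A with hH
  have hKH : K ≤ H := le_sup_left
  have hAH : A ≤ H := le_sup_right
  set K' := K.subgroupOf H with hK'
  set A' := A.subgroupOf H with hA'
  have hA : ∀ x ∈ A', ∀ y ∈ A', x * y = y * x := fun x hx y hy =>
    Subtype.ext (Thompson.elemAb_comm hAel.1 hx hy)
  have hAp : ∀ x ∈ A', x ^ p = 1 := fun x hx => Subtype.ext (by
    rw [Subgroup.coe_pow]; exact hAel.2 x hx)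
  have hS : Splits K' A' := by
    intro x hx y hy hn k hk l hl
    apply Subtype.ext
    show (((x : G) * k * (x : G)⁻¹) * ((y : G) * l * (y : G)⁻¹)) =
      ((y : G) * l * (y : G)⁻¹) * ((x : G) * k * (x : G)⁻¹)
    set z : G := (x : G)⁻¹ * y with hz
    have hzN : z ∉ Subgroup.normalizer (K : Set G) := fun h => hn (by
      rw [Subgroup.mem_normalizer_iff] at h ⊢
      exact fun w => h (w : G))
    have hne : K ≠ K.map (MulAut.conj z).toMonoidHom := fun e =>
      hzN (Components.map_conj_eq_iff_mem_normalizer.mp e.symm)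
    have hc := Components.component_le_centralizer hK (Components.component_map_conj z hK) hne
    have h1 := Subgroup.mem_centralizer_iff.mp (hc (show (k : G) ∈ K from hk))
      (z * l * z⁻¹) ⟨(l : G), hl, rfl⟩
    calc (x : G) * k * (x : G)⁻¹ * ((y : G) * l * (y : G)⁻¹)
        = (x : G) * ((k : G) * (z * l * z⁻¹)) * (x : G)⁻¹ := by rw [hz]; group
      _ = (x : G) * ((z * l * z⁻¹) * (k : G)) * (x : G)⁻¹ := by rw [← h1]
      _ = _ := by rw [hz]; group
  have hL : Cfsg.IsQuasisimple K' :=
    (Components.isQuasisimple_congr (Subgroup.subgroupOfEquivOfLe hKH)).mpr hK.2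
  have htop : K' ⊔ A' = ⊤ := by
    rw [hK', hA', ← Subgroup.subgroupOf_sup hKH hAH, ← hH, Subgroup.subgroupOf_self]
  let σ : H →* AddMonoid.End V := ρ.comp H.subtype
  have hfix : ∀ C : Subgroup G, C ≤ H → fix σ (C.subgroupOf H) = fix ρ C := fun C hC =>
    AddSubgroup.ext fun v => ⟨fun h b hb => h ⟨b, hC hb⟩ hb, fun h b hb => h (b : G) hb⟩
  have hmeas : ∀ C : Subgroup G, C ≤ H → meas σ (C.subgroupOf H) = meas ρ C := fun C hC => by
    rw [meas, meas, hfix C hC, Nat.card_congr (Subgroup.subgroupOfEquivOfLe hC).toEquiv]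
  have hmax : ∀ B, B ≤ A' → meas σ B ≤ meas σ A' := fun B hB => by
    have hBA : B.map H.subtype ≤ A := by
      rintro _ ⟨b, hb, rfl⟩
      exact hB hb
    have e : B = (B.map H.subtype).subgroupOf H :=
      (Subgroup.comap_map_eq_self_of_injective H.subtype_injective B).symm
    rw [e, hA', hmeas _ (hBA.trans hAH), hmeas _ hAH]
    exact hP _ hBA
  have hnt : ∃ k ∈ K', σ k ≠ 1 := by
    by_contra hcon
    push Not at hcon
    exact Components.component_ne_bot hK ((Subgroup.eq_bot_iff_forall _).mpr fun k hk =>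
      hρ ((hcon ⟨k, hKH hk⟩ hk).trans (map_one ρ).symm))
  have key := normalizes hS hL hA htop hAp _ V σ rfl hV hnt hmax
  intro a ha
  have h := key (show (⟨a, hAH ha⟩ : H) ∈ A' from ha)
  rw [Subgroup.mem_normalizer_iff]
  intro k
  constructor
  · intro hk
    exact (Subgroup.mem_normalizer_iff.mp h ⟨k, hKH hk⟩).mp hk
  · intro hk
    have h' : (a⁻¹ * (a * k * a⁻¹) * a⁻¹⁻¹ : G) ∈ K :=
      (Subgroup.mem_normalizer_iff.mp (inv_mem h) ⟨a * k * a⁻¹, hKH hk⟩).mp hk
    simpa [mul_assoc] using h'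

/-- The P(G,V)-theorem. Let p be a prime, G a finite group acting faithfully and linearly on a finite vector space V over the field with p elements, and A a nontrivial elementary abelian p-subgroup of G such that |A|·|C_V(A)| ≥ |B|·|C_V(B)| for every subgroup B of A. Then A normalizes every component (subnormal quasisimple subgroup) of G. -/
theorem result {G V : Type*} [Group G] [Finite G] [AddCommGroup V] [Finite V] (p : ℕ) [Fact p.Prime] [Module (ZMod p) V]
    (ρ : Representation (ZMod p) G V) (hρ : Function.Injective ρ)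
    (A : Subgroup G) (hA : A ≠ ⊥) (hAel : Cfsg.IsElementaryAbelian p A)
    (hP : ∀ B : Subgroup G, B ≤ A →
      Nat.card ↥B * Nat.card {v : V // ∀ b ∈ B, ρ b v = v} ≤ Nat.card ↥A * Nat.card {v : V // ∀ a ∈ A, ρ a v = v}) :
    ∀ K : Subgroup G, Cfsg.IsComponent K → A ≤ Subgroup.normalizer (K : Set G) := by
  intro K hK
  let f : (V →ₗ[ZMod p] V) →* AddMonoid.End V :=
    { toFun := fun g => g.toAddMonoidHom
      map_one' := rfl
      map_mul' := fun g h => rfl }
  refine normalizes_component (f.comp ρ) ?_ ?_ hAel (fun B hB => ?_) hK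
  · intro x y h
    exact hρ (LinearMap.ext fun v => DFunLike.congr_fun h v)
  · intro v
    rw [← Nat.cast_smul_eq_nsmul (ZMod p), ZMod.natCast_self, zero_smul]
  · exact hP B hB

end Cfsg.Agent.S3086
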