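import Mathlib
import Cfsg.Statements.S3087

set_option autoImplicit false
open Cfsg

namespace Cfsg.Agent.S3087

theorem result {G V : Type*} [Group G] [Finite G] [AddCommGroup V] [Finite V] (p : ℕ) [Fact p.Prime] [Module (ZMod p) V]
    (ρ : Representation (ZMod p) G V) (W : Submodule (ZMod p) V) (hW : ∀ g : G, ∀ w ∈ W, ρ g w ∈ W)
    (A : Subgroup G)
    (hP : ∀ B : Subgroup G, B ≤ A →
      Nat.card ↥B * Nat.card {v : V // ∀ b ∈ B, ρ b v = v} ≤ Nat.card ↥A * Nat.card {v : V // ∀ a ∈ A, ρ a v = v})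
    (B : Subgroup G) (hBA : B ≤ A) (hCB : ∀ a ∈ A, (∀ w ∈ W, ρ a w = w) → a ∈ B) :
    Nat.card ↥B * Nat.card {w : W // ∀ b ∈ B, ρ b w = w} ≤ Nat.card ↥A * Nat.card {w : W // ∀ a ∈ A, ρ a w = w} := by
  classical
  set a := Nat.card {v : V // ∀ a ∈ A, ρ a v = v}
  set b := Nat.card {v : V // ∀ x ∈ B, ρ x v = v}
  set a' := Nat.card {w : W // ∀ a ∈ A, ρ a w = w}
  set b' := Nat.card {w : W // ∀ x ∈ B, ρ x w = w}
  have key : b' * a ≤ b * a' := by
    let Q := {w : W // ∀ x ∈ B, ρ x w = w} × {v : V // ∀ a ∈ A, ρ a v = v}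
    let S := {v : V // ∀ x ∈ B, ρ x v = v}
    let f : Q → S := fun q => ⟨(q.1.1 : V) + q.2.1, fun x hx => by
      rw [map_add, q.1.2 x hx, q.2.2 x (hBA hx)]⟩
    rw [← Nat.card_prod, ← Nat.card_prod]
    let sec : S → Q := fun s => if h : ∃ q, f q = s then h.choose else
      (⟨0, fun x _ => by simp⟩, ⟨0, fun x _ => by simp⟩)
    have hsec : ∀ q, f (sec (f q)) = f q := by
      intro q
      have h : ∃ q', f q' = f q := ⟨q, rfl⟩
      simp only [sec, dif_pos h]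
      exact h.choose_spec
    have hmem : ∀ q : Q, ∀ x ∈ A, ρ x ((q.1.1 - (sec (f q)).1.1 : W) : V) = ((q.1.1 - (sec (f q)).1.1 : W) : V) := by
      intro q x hx
      have e : ((sec (f q)).1.1 : V) + (sec (f q)).2.1 = (q.1.1 : V) + q.2.1 := congrArg Subtype.val (hsec q)
      have e2 : ((q.1.1 - (sec (f q)).1.1 : W) : V) = (sec (f q)).2.1 - q.2.1 := by
        push_cast; linear_combination (norm := abel) -e
      rw [e2, map_sub, (sec (f q)).2.2 x hx, q.2.2 x hx]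
    refine Nat.card_le_card_of_injective (fun q : Q => (f q, (⟨q.1.1 - (sec (f q)).1.1, hmem q⟩ : {w : W // ∀ a ∈ A, ρ a w = w}))) ?_
    intro q r h
    simp only [Prod.mk.injEq, Subtype.mk.injEq] at h
    obtain ⟨h1, h2⟩ := h
    rw [h1, sub_left_inj] at h2
    have h3 : (q.1.1 : V) + q.2.1 = (r.1.1 : V) + r.2.1 := congrArg Subtype.val h1
    rw [h2] at h3
    exact Prod.ext (Subtype.ext h2) (Subtype.ext (add_left_cancel h3))
  have hpos : 0 < a := Nat.card_pos_iff.mpr ⟨⟨⟨0, fun x _ => by simp⟩⟩, inferInstance⟩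
  refine Nat.le_of_mul_le_mul_right ?_ hpos
  calc Nat.card ↥B * b' * a = Nat.card ↥B * (b' * a) := mul_assoc ..
    _ ≤ Nat.card ↥B * (b * a') := Nat.mul_le_mul_left _ key
    _ = (Nat.card ↥B * b) * a' := by ring
    _ ≤ (Nat.card ↥A * a) * a' := Nat.mul_le_mul_right _ (hP B hBA)
    _ = _ := by ring

end Cfsg.Agent.S3087
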