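import Cfsg.Statements.S3104
import Cfsg.Agent.S3103
import Cfsg.Agent.InvChar.EightRadical
import Cfsg.Agent.InvChar.SixRank

set_option autoImplicit false
open Cfsg

namespace Cfsg.Agent.S3104

/-- Let X be a finite nonsolvable 2-constrained group with no nontrivial normal subgroup of odd order such that O₂(X) has sectional 2-rank at most 4, and write Q for X/O₂(X). Then Q is isomorphic to the projective special linear group of dimension 3 over the field with 2 elements, to an alternating group of degree n with 5 ≤ n ≤ 8, to a symmetric group of degree n with 5 ≤ n ≤ 7, or else O₃(Q) has order 3 and Q/O₃(Q) is isomorphic to the alternating or the symmetric group of degree 5 (so Q is the direct product of a group of order 3 with the alternating group of degree 5, or an extension of that direct product by a group of order 2). If moreover X itself has sectional 2-rank at most 4, then Q is not isomorphic to the symmetric group of degree 6 or 7 nor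 to the alternating group of degree 8. -/
theorem result {X : Type*} [Group X] [Finite X] (hns : ¬ Group.IsSolvable X) (hc : Cfsg.IsPConstrained 2 X) (hO : Cfsg.oddCore X = ⊥)
    (h4 : Cfsg.SectionalPRankLE 2 4 ↥(Cfsg.pCore 2 X)) :
    ((∃ (F : Type) (_ : Field F) (_ : Fintype F), Fintype.card F = 2 ∧
          Nonempty (X ⧸ Cfsg.pCore 2 X ≃* Matrix.ProjectiveSpecialLinearGroup (Fin 3) F)) ∨
        (∃ n : ℕ, 5 ≤ n ∧ n ≤ 8 ∧ Nonempty (X ⧸ Cfsg.pCore 2 X ≃* ↥(alternatingGroup (Fin n)))) ∨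
        (∃ n : ℕ, 5 ≤ n ∧ n ≤ 7 ∧ Nonempty (X ⧸ Cfsg.pCore 2 X ≃* Equiv.Perm (Fin n))) ∨
        (Nat.card ↥(Cfsg.pCore 3 (X ⧸ Cfsg.pCore 2 X)) = 3 ∧
          (Nonempty ((X ⧸ Cfsg.pCore 2 X) ⧸ Cfsg.pCore 3 (X ⧸ Cfsg.pCore 2 X) ≃* ↥(alternatingGroup (Fin 5))) ∨
            Nonempty ((X ⧸ Cfsg.pCore 2 X) ⧸ Cfsg.pCore 3 (X ⧸ Cfsg.pCore 2 X) ≃* Equiv.Perm (Fin 5))))) ∧
      (Cfsg.SectionalPRankLE 2 4 X →
        ¬ (Nonempty (X ⧸ Cfsg.pCore 2 X ≃* Equiv.Perm (Fin 6)) ∨ Nonempty (X ⧸ Cfsg.pCore 2 X ≃* Equiv.Perm (Fin 7)) ∨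
            Nonempty (X ⧸ Cfsg.pCore 2 X ≃* ↥(alternatingGroup (Fin 8))))) := by
  haveI := Fact.mk Nat.prime_two
  haveI : (Cfsg.pCore 2 X).Normal := Agent.Thompson.instPCoreNormal
  obtain ⟨ι, hι⟩ := S3103.main hc hO h4
  have hns' : ¬ Group.IsSolvable (X ⧸ Cfsg.pCore 2 X) := fun h => hns (by
    haveI := h
    haveI := (Agent.Thompson.isPGroup_pCore : IsPGroup 2 ↥(Cfsg.pCore 2 X)).isNilpotent
    exact InvChar.EightRadical.solvable_extension (Cfsg.pCore 2 X))
  refine ⟨?_, ?_⟩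
  · rcases InvChar.EightRadical.classify ι hι hns' Agent.Thompson.pCore_quotient_pCore with h | ⟨⟨a⟩⟩ | ⟨⟨a⟩⟩ | ⟨⟨a⟩⟩ | h
    · exact Or.inr (Or.inl h)
    · exact Or.inr (Or.inr (Or.inl ⟨5, le_rfl, by norm_num, ⟨a⟩⟩))
    · exact Or.inr (Or.inr (Or.inl ⟨6, by norm_num, by norm_num, ⟨a⟩⟩))
    · obtain ⟨ε⟩ := S2553.sl_equiv_gl 3
      refine Or.inl ⟨ZMod 2, inferInstance, ZMod.fintype 2, ZMod.card 2, ⟨(a.trans ε.symm).trans ?_⟩⟩
      exact Agent.LinearGroup.slEquivPSL (by rw [Nat.card_zmod]; rfl)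
    · exact Or.inr (Or.inr (Or.inr h))
  · intro h4X h
    have hno := InvChar.SixRank.not_six hc hO rfl h4 h4X
    rcases h with ⟨⟨a⟩⟩ | ⟨⟨a⟩⟩ | ⟨⟨a⟩⟩
    · exact hno a.symm.toMonoidHom a.symm.injective
    · have hcard : Nat.card ι.range = 5040 := by
        rw [← Nat.card_congr (MonoidHom.ofInjective hι).toEquiv, Nat.card_congr a.toEquiv, Nat.card_perm, Nat.card_fin]
        rfl
      have hm := ι.range.card_mul_index
      rw [hcard, KnownSimple58.A8Sub.card_A] at hm
      rw [KnownSimple58.A8Sub.index_eq_one ι.range (by omega), Subgroup.card_top, KnownSimple58.A8Sub.card_A] at hcard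
      norm_num at hcard
    · obtain ⟨ε⟩ := Agent.LinearGroup.PSL42.equiv
      exact hno (a.symm.toMonoidHom.comp (ε.toMonoidHom.comp InvChar.SixModule.hom))
        (a.symm.injective.comp (ε.injective.comp InvChar.SixModule.hom_injective))

end Cfsg.Agent.S3104
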