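import Cfsg.Statements.S3113
import Cfsg.Agent.ProdFus42.DD.CaseA
import Cfsg.Agent.ProdFus42.DD.CaseB

set_option autoImplicit false
set_option linter.style.haveILetI false
open Cfsg

namespace Cfsg.Agent.S3113

open ProdFus42 in
/-- Product fusion from two dihedral factors with the first nonabelian. -/
theorem exists_fusion {G : Type*} [Group G] [Finite G]
    (h2 : ∀ N : Subgroup G, N.Normal → N.index ≠ 2) (D : DD G) (h₁ : 4 ∣ Nat.card D.C₁) :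
    ∃ H : Hyp G, H.P = D.P ∧ (∃ n, 3 ≤ n ∧ Nonempty (H.S₁ ≃* DihedralGroup (2 ^ (n - 1)))) ∧
      ∃ m, 2 ≤ m ∧ Nonempty (H.S₂ ≃* DihedralGroup m) := by
  haveI := Fact.mk Nat.prime_two
  obtain ⟨k, hk⟩ := IsPGroup.iff_card.mp (D.P.isPGroup'.to_le (D.dih₁.le.trans D.le₁))
  have hk2 : 2 ≤ k := by
    by_contra! h
    interval_cases k <;> norm_num [hk] at h₁
  by_cases hC₂ : Nat.card D.C₂ = 2
  · obtain ⟨H, hP, e₁, e₂⟩ := DD.exists_hyp_two h₁ hC₂ h2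
    exact ⟨H, hP, ⟨k + 1, by omega, by rw [Nat.add_sub_cancel, ← hk]; exact e₁⟩, 2, le_rfl, e₂⟩
  · have h₂ : 4 ∣ Nat.card D.C₂ := DD.four_dvd_of_card (D := D.swap) hC₂
    obtain ⟨H, hP, e₁, e₂⟩ := DD.exists_hyp h₁ h₂ h2
    exact ⟨H, hP, ⟨k + 1, by omega, by rw [Nat.add_sub_cancel, ← hk]; exact e₁⟩, _,
      (by norm_num : 2 ≤ 4).trans (Nat.le_of_dvd Nat.card_pos h₂), e₂⟩

/-- Let G be a finite group with no nontrivial normal subgroup of odd order, no proper normal subgroup of odd index and no normal subgroup of index 2, whose Sylow 2-subgroup S is non-abelian and is the internal direct product of two dihedral subgroups (each of order at least 4). Then G is the internal direct product of two normal subgroups G₁ and G₂, and for a suitable such factorization of S into dihedral subgroups S₁ × S₂ the factor Sᵢ is a Sylow 2-subgroup of Gᵢ for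 i = 1, 2. -/
theorem result {G : Type*} [Group G] [Finite G] (hO : Cfsg.oddCore G = ⊥) (hidx : ∀ N : Subgroup G, N.Normal → Odd N.index → N = ⊤)
    (h2 : ∀ N : Subgroup G, N.Normal → N.index ≠ 2)
    (S : Sylow 2 G) (hS : ¬ IsMulCommutative ↥(S : Subgroup G))
    (D₁ D₂ : Subgroup G) (hD : Cfsg.IsInternalDirectProduct D₁ D₂ (S : Subgroup G))
    (hD₁ : ∃ m : ℕ, 2 ≤ m ∧ Nonempty (↥D₁ ≃* DihedralGroup m)) (hD₂ : ∃ m : ℕ, 2 ≤ m ∧ Nonempty (↥D₂ ≃* DihedralGroup m)) :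
    ∃ G₁ G₂ : Subgroup G, G₁.Normal ∧ G₂.Normal ∧ Cfsg.IsInternalDirectProduct G₁ G₂ ⊤ ∧
      ∃ S₁ S₂ : Subgroup G, Cfsg.IsInternalDirectProduct S₁ S₂ (S : Subgroup G) ∧
        (∃ m : ℕ, 2 ≤ m ∧ Nonempty (↥S₁ ≃* DihedralGroup m)) ∧ (∃ m : ℕ, 2 ≤ m ∧ Nonempty (↥S₂ ≃* DihedralGroup m)) ∧
        S₁ ≤ G₁ ∧ S₂ ≤ G₂ ∧ ¬ (2 ∣ (S₁.subgroupOf G₁).index) ∧ ¬ (2 ∣ (S₂.subgroupOf G₂).index) := by
  haveI := Fact.mk Nat.prime_two
  obtain ⟨h₁, h₂, hc, hd, hs⟩ := hD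
  obtain ⟨m₁, hm₁, ⟨e₁⟩⟩ := hD₁
  obtain ⟨m₂, hm₂, ⟨e₂⟩⟩ := hD₂
  obtain ⟨-, -, -, C₁, hC₁⟩ := ProdFus42.exists_dihLike (S.isPGroup'.to_le h₁) hm₁ e₁
  obtain ⟨-, -, -, C₂, hC₂⟩ := ProdFus42.exists_dihLike (S.isPGroup'.to_le h₂) hm₂ e₂
  let D : ProdFus42.DD G := ⟨S, D₁, D₂, C₁, C₂, hC₁, hC₂, h₁, h₂, hc, hd, hs⟩
  obtain ⟨D', hP', h4⟩ : ∃ D' : ProdFus42.DD G, D'.P = S ∧ 4 ∣ Nat.card D'.C₁ := by
    by_cases k₁ : Nat.card C₁ = 2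
    · by_cases k₂ : Nat.card C₂ = 2
      · refine absurd ⟨⟨fun x y => Subtype.ext ?_⟩⟩ hS
        exact (ProdFus42.DD.commute_iff (D := D) x.2 y.2).mpr
          ⟨hC₁.comm_of_two k₁ (ProdFus42.DD.fst_mem (D := D) x.2) (ProdFus42.DD.fst_mem (D := D) y.2),
            hC₂.comm_of_two k₂ (ProdFus42.DD.snd_mem (D := D) x.2) (ProdFus42.DD.snd_mem (D := D) y.2)⟩
      · exact ⟨D.swap, rfl, ProdFus42.DD.four_dvd_of_card (D := D.swap) k₂⟩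
    · exact ⟨D, rfl, ProdFus42.DD.four_dvd_of_card (D := D) k₁⟩
  obtain ⟨H, hP, ⟨n, hn, eH₁⟩, eH₂⟩ := exists_fusion h2 D' h4
  obtain ⟨G₁, G₂, n₁, n₂, hG, l₁, l₂, o₁, o₂⟩ :=
    ProdFus42.exists_factorisation (D := H) hO hidx (Or.inl ⟨n, hn, eH₁⟩)
  refine ⟨G₁, G₂, n₁, n₂, hG, H.S₁, H.S₂, ?_,
    ⟨_, (Nat.one_lt_two_pow (by omega) : 1 < 2 ^ (n - 1)), eH₁⟩, eH₂, l₁, l₂,
    Nat.two_dvd_ne_zero.mpr (Nat.odd_iff.mp o₁), Nat.two_dvd_ne_zero.mpr (Nat.odd_iff.mp o₂)⟩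
  rw [← hP', ← hP]
  exact ⟨H.le₁, H.le₂, H.comm, H.disj, H.sup⟩

end Cfsg.Agent.S3113
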