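import Cfsg.Statements.S3116
import Mathlib.Tactic

set_option autoImplicit false
open Cfsg

namespace Cfsg.Agent.S3116
lemma aut_two_group {X : Type*} [Group X] [Finite X] (k : ℕ) (r : X) (hr : orderOf r = 2 ^ (k + 1))
    (hi : (Subgroup.zpowers r).index = 2) (hout : ∀ z : X, z ∉ Subgroup.zpowers r → z ^ 2 ^ k = 1) :
    IsPGroup 2 (MulAut X) := by
  have hnotin : ∀ φ : MulAut X, φ r ∈ Subgroup.zpowers r := by
    intro φ
    by_contra h
    have h1 : φ (r ^ 2 ^ k) = 1 := by rw [map_pow]; exact hout _ h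
    rw [MulEquiv.map_eq_one_iff] at h1
    have := orderOf_dvd_of_pow_eq_one h1
    rw [hr, Nat.pow_dvd_pow_iff_le_right one_lt_two] at this
    omega
  have hlt : (Subgroup.zpowers r) < ⊤ := by
    refine lt_top_iff_ne_top.2 fun h => ?_
    rw [h, Subgroup.index_top] at hi
    exact absurd hi (by norm_num)
  obtain ⟨s, -, hs⟩ := SetLike.exists_of_lt hlt
  intro φ
  obtain ⟨a, ha⟩ : ∃ a : ℕ, φ r = r ^ a := by
    obtain ⟨a, ha⟩ := (isOfFinOrder_of_finite r).mem_powers_iff_mem_zpowers.2 (hnotin φ)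
    exact ⟨a, ha.symm⟩
  have hpow : ∀ j, (φ ^ j) r = r ^ a ^ j := by
    intro j
    induction j with
    | zero => simp
    | succ j ih =>
      rw [pow_succ', MulAut.mul_apply, ih, map_pow, ha, ← pow_mul, ← pow_succ']
  -- `a` is odd
  have haodd : Nat.Coprime a (orderOf r) := by
    rw [hr]
    refine Nat.Coprime.pow_right _ ?_
    rw [Nat.coprime_two_right]
    rcases Nat.even_or_odd a with ⟨b, hb⟩ | h
    · exfalso
      have h1 : φ (r ^ 2 ^ k) = 1 := by
        rw [map_pow, ha, ← pow_mul, hb, ← two_mul, mul_assoc, mul_comm b, ← mul_assoc, ← pow_succ', pow_mul, ← hr,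
          pow_orderOf_eq_one, one_pow]
      rw [MulEquiv.map_eq_one_iff] at h1
      have := orderOf_dvd_of_pow_eq_one h1
      rw [hr, Nat.pow_dvd_pow_iff_le_right one_lt_two] at this
      omega
    · exact h
  set ψ := φ ^ 2 ^ k with hψ
  have hψr : ψ r = r := by
    rw [hψ, hpow]
    have h1 : a ^ 2 ^ k ≡ 1 [MOD orderOf r] := by
      have := Nat.ModEq.pow_totient haodd
      rwa [hr, Nat.totient_prime_pow_succ Nat.prime_two, show (2 - 1 : ℕ) = 1 from rfl, mul_one, ← hr] at this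
    calc r ^ a ^ 2 ^ k = r ^ (1 : ℕ) := pow_eq_pow_iff_modEq.2 h1
      _ = r := pow_one r
  have hψR : ∀ z ∈ Subgroup.zpowers r, ψ z = z := by
    rintro _ ⟨i, rfl⟩
    show ψ (r ^ i) = r ^ i
    rw [map_zpow, hψr]
  have hc : ψ s * s⁻¹ ∈ Subgroup.zpowers r := by
    rw [Subgroup.mul_mem_iff_of_index_two hi]
    have h2 : ψ s ∉ Subgroup.zpowers r := fun h => hs (by
      have := hψR _ h
      exact (ψ.injective this) ▸ h)
    simp [h2, hs]
  obtain ⟨c, hc1, hc2⟩ : ∃ c, c ∈ Subgroup.zpowers r ∧ ψ s = c * s := ⟨_, hc, by group⟩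
  have hj : ∀ j, (ψ ^ j) s = c ^ j * s := by
    intro j
    induction j with
    | zero => simp
    | succ j ih =>
      rw [pow_succ', MulAut.mul_apply, ih, map_mul, map_pow, hψR c hc1, hc2, pow_succ, mul_assoc]
  have hfin : ψ ^ 2 ^ (k + 1) = 1 := by
    have hjR : ∀ j, ∀ z ∈ Subgroup.zpowers r, (ψ ^ j) z = z := by
      intro j
      induction j with
      | zero => simp
      | succ j ih => intro z hz; rw [pow_succ', MulAut.mul_apply, ih z hz, hψR z hz]
    have hcord : c ^ 2 ^ (k + 1) = 1 := by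
      obtain ⟨i, rfl⟩ := hc1
      show (r ^ i) ^ 2 ^ (k + 1) = 1
      rw [← zpow_natCast, zpow_comm, zpow_natCast, ← hr, pow_orderOf_eq_one, one_zpow]
    ext z
    show (ψ ^ 2 ^ (k + 1)) z = z
    by_cases hz : z ∈ Subgroup.zpowers r
    · exact hjR _ z hz
    · have h2 : z * s⁻¹ ∈ Subgroup.zpowers r := by
        rw [Subgroup.mul_mem_iff_of_index_two hi]; simp [hz, hs]
      conv_lhs => rw [show z = z * s⁻¹ * s by group, map_mul, hjR _ _ h2, hj, hcord, one_mul]
      group
  exact ⟨k + (k + 1), by rw [pow_add, pow_mul, ← hψ]; exact hfin⟩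


/-- The automorphism group of a dihedral 2-group of order at least 8, or of a quasi-dihedral (semidihedral) 2-group of order at least 16, is a 2-group. -/
theorem result {X : Type*} [Group X] [Finite X] (h2 : IsPGroup 2 X)
    (h : (∃ n : ℕ, 4 ≤ n ∧ Nonempty (X ≃* DihedralGroup n)) ∨ Cfsg.IsQuasiDihedral X) : IsPGroup 2 (MulAut X) := by
  rcases h with ⟨n, hn, ⟨e⟩⟩ | hq
  · haveI : NeZero n := ⟨by omega⟩
    have hord : orderOf (e.symm (DihedralGroup.r (1 : ZMod n))) = n := by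
      rw [MulEquiv.orderOf_eq, DihedralGroup.orderOf_r_one]
    obtain ⟨m, hm⟩ := IsPGroup.iff_card.1 h2
    obtain ⟨k, hk, hkn⟩ := (Nat.dvd_prime_pow Nat.prime_two).1 (hm ▸ hord ▸ orderOf_dvd_natCard _)
    obtain ⟨k', rfl⟩ : ∃ k', k = k' + 2 := ⟨k - 2, by
      rcases k with _ | _ | k <;> norm_num at hkn <;> omega⟩
    have hmem : ∀ z : DihedralGroup n, (∀ i, z ≠ DihedralGroup.sr i) →
        e.symm z ∈ Subgroup.zpowers (e.symm (DihedralGroup.r (1 : ZMod n))) := by
      rintro (i | i) hz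
      · refine ⟨(i.val : ℤ), ?_⟩
        show e.symm (DihedralGroup.r (1 : ZMod n)) ^ (i.val : ℤ) = _
        rw [zpow_natCast, ← map_pow, DihedralGroup.r_one_pow, ZMod.natCast_zmod_val]
      · exact absurd rfl (hz i)
    refine aut_two_group (k' + 1) _ (hord.trans hkn) ?_ ?_
    · have h1 := (Subgroup.zpowers (e.symm (DihedralGroup.r (1 : ZMod n)))).card_mul_index
      rw [Nat.card_zpowers, hord, Nat.card_congr e.toEquiv, DihedralGroup.nat_card] at h1
      exact Nat.eq_of_mul_eq_mul_left (by omega : 0 < n) (by linarith)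
    · intro z hz
      by_cases hex : ∃ i, e z = DihedralGroup.sr i
      · obtain ⟨i, hi⟩ := hex
        have h1 : z ^ 2 = 1 := e.injective (by rw [map_pow, hi, map_one, pow_two, DihedralGroup.sr_mul_self])
        rw [pow_succ', pow_mul, h1, one_pow]
      · push Not at hex
        exact absurd (by simpa using hmem (e z) hex) hz
  · obtain ⟨n, hn, hcard, x, y, hx, hy, hrel⟩ := hq
    obtain ⟨k, rfl⟩ : ∃ k, n = k + 3 := ⟨n - 3, by omega⟩
    have hx' : orderOf x = 2 ^ ((k + 2) + 1) := hx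
    have hi : (Subgroup.zpowers x).index = 2 := by
      have h1 := (Subgroup.zpowers x).card_mul_index
      rw [Nat.card_zpowers, hx, hcard, pow_succ 2 (k + 3)] at h1
      exact Nat.eq_of_mul_eq_mul_left (by positivity) h1
    refine aut_two_group (k + 2) x hx' hi ?_
    have hpos : 2 ≤ 2 ^ (k + 3 - 1) := Nat.le_self_pow (by omega) 2
    obtain ⟨a, ha⟩ : ∃ a, 2 ^ (k + 3 - 1) = a + 1 := ⟨2 ^ (k + 3 - 1) - 1, by omega⟩
    rw [ha, Nat.add_sub_cancel] at hrel
    have hynot : y ∉ Subgroup.zpowers x := by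
      intro hy'
      obtain ⟨i, rfl⟩ := hy'
      have hc : Commute (x ^ i) x := (Commute.refl x).zpow_left i
      simp only at hrel
      rw [hc.eq, mul_inv_cancel_right] at hrel
      have h1 : x ^ 1 = x ^ a := by rw [pow_one]; exact hrel
      have hlt : a < orderOf x := by
        rw [hx]
        have : 2 ^ (k + 3 - 1) ≤ 2 ^ (k + 3) := Nat.pow_le_pow_right (by norm_num) (by omega)
        omega
      have := pow_injOn_Iio_orderOf (Set.mem_Iio.2 (show 1 < orderOf x by rw [hx]; exact Nat.one_lt_two_pow (by omega))) (Set.mem_Iio.2 hlt) h1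
      subst this
      have : 4 ≤ 2 ^ (k + 3 - 1) := by
        calc 4 = 2 ^ 2 := rfl
          _ ≤ _ := Nat.pow_le_pow_right (by norm_num) (by omega)
      omega
    intro z hz
    obtain ⟨i, hi'⟩ : z * y⁻¹ ∈ Subgroup.zpowers x := by
      rw [Subgroup.mul_mem_iff_of_index_two hi]; simp [hz, hynot]
    have hi'' : x ^ i = z * y⁻¹ := hi'
    have hz2 : z ^ 2 = x ^ (((a + 1 : ℕ) : ℤ) * i) := by
      have hy2 : y ^ 2 = 1 := by rw [← hy]; exact pow_orderOf_eq_one y
      rw [show z = x ^ i * y by rw [hi'']; group]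
      have h3 : y * x ^ i * y⁻¹ = x ^ ((a : ℤ) * i) := by
        have := (MulAut.conj y).toMonoidHom.map_zpow x i
        simp only [MulEquiv.coe_toMonoidHom, MulAut.conj_apply] at this
        rw [this, hrel, ← zpow_natCast, ← zpow_mul]
      calc (x ^ i * y) ^ 2 = x ^ i * (y * x ^ i * y⁻¹) * y ^ 2 := by rw [pow_two, pow_two]; group
        _ = x ^ (((a + 1 : ℕ) : ℤ) * i) := by
          rw [h3, hy2, mul_one, ← zpow_add]; congr 1; push_cast; ring
    have h4 : z ^ 4 = 1 := by
      rw [show (4 : ℕ) = 2 * 2 from rfl, pow_mul, hz2, ← zpow_natCast, ← zpow_mul]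
      have he : ((a + 1 : ℕ) : ℤ) * i * ((2 : ℕ) : ℤ) = ((2 ^ (k + 3) : ℕ) : ℤ) * i := by
        rw [← ha, show k + 3 - 1 = k + 2 from rfl]; push_cast; ring
      rw [he, zpow_mul, zpow_natCast, ← hx, pow_orderOf_eq_one, one_zpow]
    rw [show 2 ^ (k + 2) = 4 * 2 ^ k by ring, pow_mul, h4, one_pow]

end Cfsg.Agent.S3116
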