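import Cfsg.Statements.S3125
import Cfsg.Agent.S2015
import Cfsg.Agent.S0144

set_option autoImplicit false
open Cfsg

namespace Cfsg.Agent.S3125
universe u
open scoped commutatorElement

theorem not_le_commutator {p : ℕ} [Fact p.Prime] (hp : 5 ≤ p) : ∀ (n : ℕ) (G : Type u) [Group G] [Finite G],
    Nat.card G = n → ∀ P : Sylow p G, Subgroup.normalizer ((P : Subgroup G) : Set G) = P → (P : Subgroup G) ≠ ⊥ →
      ¬ (P : Subgroup G) ≤ commutator G := by
  intro n
  induction n using Nat.strong_induction_on with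
  | _ n ih =>
  intro G _ _ hn P hN hP hle
  have hPp : IsPGroup p (P : Subgroup G) := P.2
  haveI : Nontrivial (P : Subgroup G) := (Subgroup.nontrivial_iff_ne_bot _).mpr hP
  obtain ⟨K, hKc, hKZ, hK⟩ := S2015.result p hp ↥(P : Subgroup G) hPp
  have h := hK G (P : Subgroup G).subtype (P : Subgroup G).subtype_injective ⟨P, (Subgroup.range_subtype _).symm⟩
  rw [Subgroup.range_subtype, inf_eq_left.mpr hle] at h
  obtain ⟨M, hM⟩ : ∃ M, Subgroup.normalizer ((K.map (P : Subgroup G).subtype : Subgroup G) : Set G) = M := ⟨_, rfl⟩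
  rw [hM] at h
  have hPM' : (P : Subgroup G) ≤ (commutator M).map M.subtype := h.le.trans inf_le_right
  have hPM : (P : Subgroup G) ≤ M := hPM'.trans (Subgroup.map_subtype_le _)
  let PM : Sylow p M := P.subtype hPM
  have hPMc : (PM : Subgroup M) ≤ commutator M := by
    intro x hx
    obtain ⟨y, hy, hyx⟩ := hPM' (show (x : G) ∈ (P : Subgroup G) from hx)
    exact (show y = x from Subtype.ext hyx) ▸ hy
  haveI hKn : ((K.map (P : Subgroup G).subtype).subgroupOf M).Normal := by
    subst hM; exact Subgroup.normal_in_normalizer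
  obtain ⟨N, hNdef⟩ : ∃ N, (K.map (P : Subgroup G).subtype).subgroupOf M = N := ⟨_, rfl⟩
  rw [hNdef] at hKn
  have hNP : N ≤ (PM : Subgroup M) := by
    rw [← hNdef]; intro x hx
    exact Subgroup.map_subtype_le K hx
  have hKne : K ≠ ⊥ := fun h0 => by
    have := hPp.bot_lt_center
    rw [h0, le_bot_iff] at hKZ
    exact this.ne' hKZ
  have hNne : N ≠ ⊥ := by
    intro h0
    obtain ⟨k, hk, hk1⟩ := K.bot_or_exists_ne_one.resolve_left hKne
    have hkM : (k : G) ∈ M := hPM k.2
    have : (⟨(k : G), hkM⟩ : M) ∈ N := hNdef ▸ Subgroup.mem_map_of_mem _ hk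
    rw [h0, Subgroup.mem_bot] at this
    exact hk1 (Subtype.ext (show (k : G) = 1 from congrArg (fun z : M => (z : G)) this))
  have hselfM : Subgroup.normalizer ((PM : Subgroup M) : Set M) = PM := by
    refine le_antisymm (fun x hx => ?_) Subgroup.le_normalizer
    have hxG : (x : G) ∈ Subgroup.normalizer ((P : Subgroup G) : Set G) := by
      rw [Subgroup.mem_normalizer_iff]
      intro g
      constructor
      · intro hg
        exact (Subgroup.mem_normalizer_iff.mp hx ⟨g, hPM hg⟩).mp hg
      · intro hg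
        have hgM : g ∈ M := by
          have h1 := M.mul_mem (M.mul_mem (M.inv_mem x.2) (hPM hg)) x.2
          simpa [mul_assoc] using h1
        exact (Subgroup.mem_normalizer_iff.mp hx ⟨g, hgM⟩).mpr hg
    rw [hN] at hxG
    exact hxG
  let Q : Sylow p (M ⧸ N) := PM.mapSurjective (QuotientGroup.mk'_surjective N)
  have hQ : (Q : Subgroup (M ⧸ N)) = (PM : Subgroup M).map (QuotientGroup.mk' N) := rfl
  have hpre : ((PM : Subgroup M).map (QuotientGroup.mk' N)).comap (QuotientGroup.mk' N) = PM := by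
    rw [Subgroup.comap_map_eq, QuotientGroup.ker_mk', sup_eq_left.mpr hNP]
  have hQN : Subgroup.normalizer ((Q : Subgroup (M ⧸ N)) : Set (M ⧸ N)) = Q := by
    rw [hQ]
    apply Subgroup.comap_injective (QuotientGroup.mk'_surjective N)
    rw [Subgroup.comap_normalizer_eq_of_surjective _ (QuotientGroup.mk'_surjective N), hpre, hselfM]
  by_cases hQ1 : (Q : Subgroup (M ⧸ N)) = ⊥
  · -- `K = P`
    have hPK : (PM : Subgroup M) = N := by
      rw [← hpre, ← hQ, hQ1, MonoidHom.comap_bot, QuotientGroup.ker_mk']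
    have hMP : ∀ x : M, x ∈ (PM : Subgroup M) := by
      intro x
      rw [← hselfM, hPK]
      haveI := hKn
      rw [Subgroup.normalizer_eq_top]
      exact Subgroup.mem_top x
    have htop : (PM : Subgroup M) = ⊤ := eq_top_iff.mpr fun x _ => hMP x
    have hMp : IsPGroup p M := fun x => by
      obtain ⟨k, hk⟩ := PM.2 ⟨x, hMP x⟩
      exact ⟨k, congrArg Subtype.val hk⟩
    haveI : Group.IsNilpotent M := hMp.isNilpotent
    haveI : Nontrivial M := by
      obtain ⟨y, hy1⟩ := exists_ne (1 : (P : Subgroup G))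
      exact ⟨⟨⟨(y : G), hPM y.2⟩, 1, fun e => hy1 (Subtype.ext (congrArg (fun z : M => (z : G)) e))⟩⟩
    exact (Group.IsSolvable.commutator_lt_top_of_nontrivial M).ne (top_le_iff.mp (htop ▸ hPMc))
  · have hlt : Nat.card (M ⧸ N) < n := by
      have h1 := Subgroup.card_eq_card_quotient_mul_card_subgroup N
      haveI : Nontrivial N := (Subgroup.nontrivial_iff_ne_bot N).mpr hNne
      have h2 : 1 < Nat.card N := Finite.one_lt_card
      have h3 : Nat.card M ≤ n := hn ▸ M.card_le_card_group
      have h4 : Nat.card (M ⧸ N) < Nat.card (M ⧸ N) * Nat.card N := lt_mul_of_one_lt_right Nat.card_pos h2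
      omega
    refine ih _ hlt (M ⧸ N) rfl Q hQN hQ1 ?_
    rw [hQ]
    refine (Subgroup.map_mono hPMc).trans ?_
    rw [commutator_def, Subgroup.map_commutator]
    exact Subgroup.commutator_mono le_top le_top

theorem main {G : Type u} [Group G] [Finite G]
    (h : ∀ p : ℕ, p.Prime → p ∣ Nat.card G → ∀ P : Sylow p G, Subgroup.normalizer ((P : Subgroup G) : Set G) = P) :
    ¬ (IsSimpleGroup G ∧ ¬ IsMulCommutative G) := by
  rintro ⟨hs, hG⟩
  have hnsol : ¬ Group.IsSolvable G := fun hsol => hG ⟨⟨IsSimpleGroup.comm_iff_isSolvable.mpr hsol⟩⟩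
  obtain ⟨p, hp, hpd, hp5⟩ : ∃ p, p.Prime ∧ p ∣ Nat.card G ∧ 5 ≤ p := by
    by_contra hc; push Not at hc
    apply hnsol
    obtain ⟨a, m, hm, hcard⟩ := Nat.exists_eq_two_pow_mul_odd (n := Nat.card G) Nat.card_pos.ne'
    have hm3 : m = 3 ^ m.primeFactorsList.length := Nat.eq_prime_pow_of_unique_prime_dvd hm.pos.ne' (fun {q} hq hqd => by
      have := hc q hq (hcard ▸ hqd.mul_left _)
      have h2 : q ≠ 2 := fun e => by subst e; exact absurd (even_iff_two_dvd.mpr hqd) (Nat.not_even_iff_odd.mpr hm)
      have := hq.two_le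
      interval_cases q <;> simp_all (config := {decide := true}))
    exact S0144.result 2 3 a _ Nat.prime_two Nat.prime_three (hcard.trans (by rw [← hm3]))
  haveI := Fact.mk hp
  obtain ⟨P⟩ := (inferInstance : Nonempty (Sylow p G))
  have hcomm : commutator G = ⊤ := by
    refine (hs.eq_bot_or_eq_top_of_normal (commutator G) inferInstance).resolve_left fun h0 => hG ⟨⟨fun a b => ?_⟩⟩
    have : ⁅a, b⁆ ∈ commutator G := Subgroup.commutator_mem_commutator (Subgroup.mem_top a) (Subgroup.mem_top b)
    rw [h0, Subgroup.mem_bot] at this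
    exact commutatorElement_eq_one_iff_mul_comm.mp this
  exact not_le_commutator hp5 _ G rfl P (h p hp hpd P) (P.ne_bot_of_dvd_card hpd) (hcomm ▸ le_top)

/-- Let G be a finite group such that, for every prime p dividing the order of G, every Sylow p-subgroup of G is its own normalizer. Then G is not a non-abelian simple group. -/
theorem result {G : Type*} [Group G] [Finite G]
    (h : ∀ p : ℕ, p.Prime → p ∣ Nat.card G → ∀ P : Sylow p G, Subgroup.normalizer ((P : Subgroup G) : Set G) = P) :
    ¬ (IsSimpleGroup G ∧ ¬ IsMulCommutative G) := by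
  exact main h

end Cfsg.Agent.S3125
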