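import Cfsg.Statements.S3144
import Cfsg.Agent.O8Standard47.Main
import Cfsg.Agent.O8Standard47.Locals

set_option autoImplicit false
open Cfsg

namespace Cfsg.Agent.S3144

/-- Let G be a finite group with no nontrivial normal subgroup of odd order and L a standard subgroup of G which is a double cover of the simple orthogonal group PΩ⁺ of dimension 8 over the field with 2 elements (the centre of L has order 2 and L modulo its centre is isomorphic to that group), and suppose the centralizer of L in G has cyclic Sylow 2-subgroups. Then L is normal in G. -/
theorem result {G : Type*} [Group G] [Finite G] (hO : Cfsg.oddCore G = ⊥) (L : Subgroup G) (hL : Cfsg.IsStandardSubgroup L)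
    {F : Type*} [Field F] [Fintype F] (hF : Fintype.card F = 2)
    (hZ : Nat.card ↥(Subgroup.center ↥L) = 2) (hLX : Nonempty ((↥L ⧸ Subgroup.center ↥L) ≃* Cfsg.POmega F (Cfsg.quadFormPlus 4 F)))
    (hR : ∀ R : Sylow 2 ↥(Subgroup.centralizer (L : Set G)), IsCyclic ↥(R : Subgroup ↥(Subgroup.centralizer (L : Set G)))) :
    L.Normal := by
  obtain ⟨e⟩ := O8Standard47.nonempty_equiv_I hL.1.1 hF hZ hLX
  let ι : O8Standard47.I →* G := L.subtype.comp e.symm.toMonoidHom
  have hrange : ι.range = L := by
    rw [MonoidHom.range_comp, MonoidHom.range_eq_top.2 e.symm.surjective, ← MonoidHom.range_eq_map,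
      Subgroup.range_subtype]
  have hS : O8Standard47.Setting ι :=
    { inj := L.subtype_injective.comp e.symm.injective
      std := by rw [hrange]; exact hL
      cyc := by rw [hrange]; exact hR
      facts := O8Standard47.facts }
  rw [← hrange]
  exact hS.normal
    { inv_W := fun u hu h => O8Standard47.inv_W hu h
      sq_neg_W := fun u hu h => O8Standard47.sq_neg_W hu h
      two_card_I := fun P hP h => O8Standard47.two_card_I hP h
      syl_le := O8Standard47.Syl_le_W
      elem_W := fun P hP h hc => O8Standard47.elem_W hP h hc
      elem_I := fun P hP h hc => O8Standard47.elem_I hP h hc } hO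

end Cfsg.Agent.S3144
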