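import Cfsg.Statements.S3147
import Cfsg.Agent.X4S75.BetaR
import Cfsg.Agent.X4S75.BetaExotic

set_option autoImplicit false
open Cfsg

namespace Cfsg.Agent.S3147

open X4S75

theorem exists_data {G : Type*} [Group G] (t : G) (ht : orderOf t = 2)
    (e : ↥(Subgroup.centralizer ({t} : Set G)) ≃* Multiplicative (ZMod 2) × Equiv.Perm (Fin 7)) :
    ∃ D : Data G, D.t = t := by
  have h2 : t * t = 1 := by rw [← pow_two, ← ht, pow_orderOf_eq_one]
  have hne : t ≠ 1 := fun h => by rw [h, orderOf_one] at ht; exact absurd ht (by decide)
  let t' : Subgroup.centralizer ({t} : Set G) := ⟨t, Subgroup.mem_centralizer_singleton_iff.2 rfl⟩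
  have hc : t' ∈ Subgroup.center (Subgroup.centralizer ({t} : Set G)) :=
    Subgroup.mem_center_iff.2 fun x => Subtype.ext (Subgroup.mem_centralizer_singleton_iff.1 x.2)
  have hk : (e t').2 = 1 := by
    have hcomm : ∀ k : K, k * (e t').2 = (e t').2 * k := fun k => by
      have h := congrArg (fun u => (e u).2) (Subgroup.mem_center_iff.1 hc (e.symm (1, k)))
      simpa [map_mul] using h
    have := forall_perm (fun f => CommF f pA → CommF f pS → CommF f pG → CommF f pR2 → CommF f pD →
      ∀ i, f i = (1 : K) i) (by decide +kernel) (e t').2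
      (commF_of_commute (hcomm _).symm) (commF_of_commute (hcomm _).symm)
      (commF_of_commute (hcomm _).symm) (commF_of_commute (hcomm _).symm)
      (commF_of_commute (hcomm _).symm)
    exact perm_ext this
  have he : e t' = (Multiplicative.ofAdd 1, 1) := by
    refine Prod.ext ?_ hk
    have : ∀ x : Multiplicative (ZMod 2), x = 1 ∨ x = Multiplicative.ofAdd 1 := by decide +kernel
    rcases this (e t').1 with h | h
    · exfalso
      have : t' = 1 := e.injective (by rw [map_one]; exact Prod.ext h hk)
      exact hne (congrArg Subtype.val this)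
    · exact h
  let κ : K →* G := (Subgroup.subtype _).comp (e.symm.toMonoidHom.comp (MonoidHom.inr _ _))
  refine ⟨⟨t, κ, ?_, h2, fun k => ?_, fun c hc' => ?_, fun k hkt => ?_⟩, rfl⟩
  · intro a b h
    have h1 : e.symm (1, a) = e.symm (1, b) := Subtype.ext h
    exact (Prod.mk.inj (e.symm.injective h1)).2
  · exact (Subgroup.mem_centralizer_singleton_iff.1 (e.symm (1, k)).2).symm
  · set c' : Subgroup.centralizer ({t} : Set G) := ⟨c, Subgroup.mem_centralizer_singleton_iff.2 hc'⟩
    refine ⟨(e c').2, ?_⟩
    have : ∀ x : Multiplicative (ZMod 2), x = 1 ∨ x = Multiplicative.ofAdd 1 := by decide +kernel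
    rcases this (e c').1 with h | h
    · left
      have : e.symm (1, (e c').2) = c' := by rw [← h]; exact e.symm_apply_apply c'
      exact (congrArg Subtype.val this).symm
    · right
      have : e.symm (1, (e c').2) * t' = c' := e.injective (by
        rw [map_mul, e.apply_symm_apply, he]
        exact Prod.ext (by simp [h]) (by simp))
      exact (congrArg Subtype.val this).symm
  · have h1 : e.symm (1, k) = t' := Subtype.ext hkt
    have := congrArg e h1
    rw [e.apply_symm_apply, he] at this
    exact absurd (Prod.mk.inj this).1 (by decide +kernel)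

theorem of_beta {G : Type*} [Group G] [Finite G] (D : Data G) (hF : D.HasFlags Fβ) :
    ∃ H : Subgroup G, H.index = 2 := by
  obtain ⟨R, Q, hθ, h2, hd, hθq, hq2, μ, hμ', hμ⟩ := D.beta_data hF
  rcases D.index_two_exotic_or hF R hθ h2 hd with h | h
  · exact h
  · exact D.index_two_R hF R Q hθ h2 hθq hq2 hμ' hμ h

/-- Let G be a finite group of even order with an involution t whose centralizer is isomorphic to the direct product of a group of order 2 and the symmetric group of degree 7. Then G has a subgroup of index 2. -/
theorem result {G : Type*} [Group G] [Finite G] (hG : Even (Nat.card G)) (t : G) (ht : orderOf t = 2)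
    (hC : Nonempty (↥(Subgroup.centralizer ({t} : Set G)) ≃* Multiplicative (ZMod 2) × Equiv.Perm (Fin 7))) :
    ∃ H : Subgroup G, H.index = 2 := by
  obtain ⟨e⟩ := hC
  obtain ⟨D, -⟩ := exists_data t ht e
  obtain ⟨F, hF⟩ := D.exists_flags
  rcases D.reduce hF with h | h | h | h
  · exact h
  · exact D.index_two_α h
  · exact of_beta D h
  · exact of_beta D.twist h

end Cfsg.Agent.S3147
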