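import Cfsg.Statements.S3149
import Cfsg.Agent.RuStandard47.Main
-- import your own Cfsg.Agent.* helpers here

set_option autoImplicit false
open Cfsg

namespace Cfsg.Agent.S3149

/-- Let G be a finite group with no nontrivial normal subgroup of odd order and A a standard subgroup of G which is a double cover of the Rudvalis group (the centre of A has order 2 and A modulo its centre is isomorphic to the Rudvalis group). If the centralizer of A in G has cyclic Sylow 2-subgroups, then A is normal in G. -/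
theorem result {G : Type*} [Group G] [Finite G] (hO : Cfsg.oddCore G = ⊥) (A : Subgroup G) (hA : Cfsg.IsStandardSubgroup A)
    (hZ : Nat.card ↥(Subgroup.center ↥A) = 2) (hAX : Cfsg.Spor.IsoRu (↥A ⧸ Subgroup.center ↥A))
    (hR : ∀ R : Sylow 2 ↥(Subgroup.centralizer (A : Set G)), IsCyclic ↥(R : Subgroup ↥(Subgroup.centralizer (A : Set G)))) : A.Normal := by
  haveI : Finite ↥A := inferInstance
  obtain ⟨A', gA', fA', ⟨φ⟩⟩ := Finite.exists_type_univ_nonempty_mulEquiv ↥A
  haveI : Finite A' := Finite.of_equiv _ φ.toEquiv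
  haveI := hA.1.1
  have hperf : Group.IsPerfect A' := Group.IsPerfect.ofSurjective (f := φ.toMonoidHom) φ.surjective
  obtain ⟨ρ⟩ := hAX
  obtain ⟨η⟩ := Cfsg.Agent.RuLattice.nonempty_ruEquiv
  let σ : A' →* RuMult82.H :=
    (η.toMonoidHom.comp (ρ.toMonoidHom.comp (QuotientGroup.mk' (Subgroup.center ↥A)))).comp
      φ.symm.toMonoidHom
  have hσk : ∀ x, σ x = 1 ↔ φ.symm x ∈ Subgroup.center ↥A := fun x => by
    show η (ρ (QuotientGroup.mk' (Subgroup.center ↥A) (φ.symm x))) = 1 ↔ _
    rw [MulEquiv.map_eq_one_iff, MulEquiv.map_eq_one_iff]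
    exact QuotientGroup.eq_one_iff _
  obtain ⟨⟨z0, hz0⟩, hz0'⟩ : ∃ z : ↥(Subgroup.center ↥A), z ≠ 1 := by
    by_contra hne
    simp only [not_exists, not_not] at hne
    haveI : Subsingleton ↥(Subgroup.center ↥A) := ⟨fun a b => (hne a).trans (hne b).symm⟩
    rw [Nat.card_of_subsingleton (1 : ↥(Subgroup.center ↥A))] at hZ
    norm_num at hZ
  have hz1 : z0 ≠ 1 := fun h => hz0' (Subtype.ext h)
  have htwo : ∀ z ∈ Subgroup.center ↥A, z = 1 ∨ z = z0 := by
    intro z hz
    by_contra hne
    rw [not_or] at hne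
    haveI : Finite ↥(Subgroup.center ↥A) := inferInstance
    have h3 : ({⟨1, one_mem _⟩, ⟨z, hz⟩, ⟨z0, hz0⟩} : Set ↥(Subgroup.center ↥A)).ncard = 3 := by
      rw [Set.ncard_eq_three]
      exact ⟨_, _, _, fun h => hne.1 (congrArg Subtype.val h).symm,
        fun h => hz1 (congrArg Subtype.val h).symm, fun h => hne.2 (congrArg Subtype.val h), rfl⟩
    have := Set.ncard_le_card ({⟨1, one_mem _⟩, ⟨z, hz⟩, ⟨z0, hz0⟩} : Set ↥(Subgroup.center ↥A))
    omega
  have hsq : φ z0 * φ z0 = 1 := by
    rw [← map_mul]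
    rcases htwo _ (mul_mem hz0 hz0) with h | h
    · rw [h, map_one]
    · exact absurd (mul_eq_left.mp h) hz1
  have hcov : RuStandard47.Cover A' σ (φ z0) :=
    { surj := (η.surjective.comp (ρ.surjective.comp (QuotientGroup.mk'_surjective _))).comp
        φ.symm.surjective
      e_ne := fun h => hz1 (φ.injective (h.trans (map_one φ).symm))
      e_sq := hsq
      e_comm := fun x => by
        obtain ⟨a, rfl⟩ := φ.surjective x
        rw [← map_mul, ← map_mul, Subgroup.mem_center_iff.1 hz0 a]
      e_map := (hσk _).2 (by rw [φ.symm_apply_apply]; exact hz0)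
      ker := fun k hk => by
        rcases htwo _ ((hσk k).1 hk) with h | h
        · exact Or.inl (by rw [← φ.apply_symm_apply k, h, map_one])
        · exact Or.inr (by rw [← φ.apply_symm_apply k, h])
      e_comm' := by rw [hperf.commutator_eq_top]; exact Subgroup.mem_top _ }
  let ι : A' →* G := A.subtype.comp φ.symm.toMonoidHom
  have hr : ι.range = A := by
    ext x
    exact ⟨fun ⟨y, hy⟩ => hy ▸ (φ.symm y).2, fun hx => ⟨φ ⟨x, hx⟩, by simp [ι]⟩⟩
  have hS : RuStandard47.Setting ι (φ z0) :=
    ⟨RuStandard47.props hcov hperf, Subtype.val_injective.comp φ.symm.injective,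
      by rw [hr]; exact hA, by rw [hr]; exact hR⟩
  have := hS.normal hO
  rwa [hr] at this

end Cfsg.Agent.S3149
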