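import Cfsg.Statements.S3150
import Cfsg.Agent.Co0Standard47.Main
-- import your own Cfsg.Agent.* helpers here

set_option autoImplicit false
open Cfsg

namespace Cfsg.Agent.S3150

/-- Let G be a finite group with no nontrivial normal subgroup of odd order and A a standard subgroup of G isomorphic to the automorphism group of the Leech lattice (the double cover of the first Conway group). If the centralizer of A in G has cyclic Sylow 2-subgroups, then A is normal in G. -/
theorem result {G : Type*} [Group G] [Finite G] (hO : Cfsg.oddCore G = ⊥) (A : Subgroup G) (hA : Cfsg.IsStandardSubgroup A)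
    (hAX : Nonempty (↥A ≃* ↥Cfsg.Co0)) (hR : ∀ R : Sylow 2 ↥(Subgroup.centralizer (A : Set G)), IsCyclic ↥(R : Subgroup ↥(Subgroup.centralizer (A : Set G)))) : A.Normal := by
  obtain ⟨φ⟩ := hAX
  let ι : Cfsg.Co0 →* G := A.subtype.comp φ.symm.toMonoidHom
  have hr : ι.range = A := by
    ext x
    exact ⟨fun ⟨y, hy⟩ => hy ▸ (φ.symm y).2, fun hx => ⟨φ ⟨x, hx⟩, by simp [ι]⟩⟩
  have hperf : Group.IsPerfect ↥Cfsg.Co0 := by
    haveI := hA.1.1
    exact Group.IsPerfect.ofSurjective (f := φ.toMonoidHom) φ.surjective
  have hS : Co0Standard47.Setting ι Leech.negOne (Co0Standard47.sgn Co0Standard47.oN)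
      (Co0Standard47.sgn Co0Standard47.ocN) (Co0Standard47.sgn Co0Standard47.dN) :=
    ⟨Co0Standard47.props hperf, Subtype.val_injective.comp φ.symm.injective, by rw [hr]; exact hA,
      by rw [hr]; exact hR⟩
  have := hS.normal hO
  rwa [hr] at this

end Cfsg.Agent.S3150
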