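import Cfsg.Statements.S3153
import Cfsg.Agent.InvChar.Standard

set_option autoImplicit false
open Cfsg

namespace Cfsg.Agent.S3153
open scoped Pointwise commutatorElement
open Cfsg.Agent.InvChar in
theorem part_one {X : Type*} [Group X] [Finite X] (P : Subgroup X) (hP : Cfsg.IsStandardSubgroup P)
    (hr : Cfsg.PRankLE 2 1 ↥(Subgroup.centralizer (P : Set X))) (hZ : Odd (Nat.card ↥(Subgroup.center ↥P)))
    (N : Subgroup X) (hNdef : N = Subgroup.normalizer (P : Set X))
    (S : Sylow 2 ↥N) (T : Subgroup X) (hT : T = (S : Subgroup ↥N).map N.subtype)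
    (t : X) (ht : orderOf t = 2) (htS : t ∈ T)
    (htP : t ∈ Subgroup.centralizer (P : Set X))
    (g : X) (hgN : ∀ s ∈ T, g * s * g⁻¹ ∈ T) (hgS : g ∉ T) (hg2 : g ^ 2 ∈ T)
    (hgt : g * t * g⁻¹ ∈ P ⊔ Subgroup.centralizer (P : Set X)) :
    ¬ P ≤ Cfsg.oddCore X ∧ ⁅P, Cfsg.oddCore X⁆ = ⊥ := by
  haveI : Fact (Nat.Prime 2) := ⟨Nat.prime_two⟩
  set C := Subgroup.centralizer (P : Set X) with hCdef
  have hT2 : IsPGroup 2 ↥T := hT ▸ S.isPGroup'.map _
  have hTN : T ≤ N := hT ▸ Subgroup.map_subtype_le _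
  have ht2 := orderOf_eq_two_mul_self ht
  have ht1 : t ≠ 1 := fun h => by simp [h] at ht
  have hCN : C ≤ N := fun c hc => by
    rw [hNdef, Subgroup.mem_normalizer_iff]
    intro x
    constructor
    · intro hx
      rw [← hc x hx, mul_inv_cancel_right]
      exact hx
    · intro hx
      have h1 := hc _ hx
      have : x = c * x * c⁻¹ := by
        have h2 := congrArg (fun w => c⁻¹ * w) h1
        simpa [mul_assoc] using h2
      rw [this]; exact hx
  -- `t` is central in `T`
  have htc : ∀ s ∈ T, s * t = t * s := by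
    haveI : (C.subgroupOf T).Normal := ⟨fun z hz s => by
      have hz' : (z : X) ∈ C := hz
      have hs : (s : X) ∈ Subgroup.normalizer (C : Set X) := hP.2.2.2 ▸ hNdef ▸ hTN s.2
      exact (Subgroup.mem_normalizer_iff.mp hs _).mp hz'⟩
    have hne : C.subgroupOf T ≠ ⊥ := fun h => ht1 (by
      have : (⟨t, htS⟩ : ↥T) ∈ C.subgroupOf T := htP
      rw [h, Subgroup.mem_bot] at this
      exact congrArg Subtype.val this)
    obtain ⟨u, hu, hu1, hu2⟩ := Cfsg.Agent.PGroup.exists_mem_pow_eq_one hT2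
      (Cfsg.Agent.PGroup.inf_center_ne_bot hT2 hne)
    have hut : (u : X) = t := by
      refine involution_eq_of_rank_one hr (Subgroup.mem_subgroupOf.mp hu.1) htP ?_ ?_ ht2 ht1 ?_
      · rw [← pow_two]; exact_mod_cast congrArg Subtype.val hu2
      · exact fun h => hu1 (Subtype.ext h)
      · exact congrArg Subtype.val (Subgroup.mem_center_iff.mp hu.2 ⟨t, htS⟩) |>.symm
    intro s hs
    rw [← hut]
    exact congrArg Subtype.val (Subgroup.mem_center_iff.mp hu.2 ⟨s, hs⟩)
  have hgn : g ∉ N := by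
    intro hgN'
    have hgen : Subgroup.zpowers g ≤ Subgroup.normalizer (T : Set X) := by
      rw [Subgroup.zpowers_le, Subgroup.mem_normalizer_iff]
      intro s
      refine ⟨hgN s, fun hs => ?_⟩
      have h3 := mul_mem (mul_mem (inv_mem hg2) (hgN _ hs)) hg2
      have h4 : (g ^ 2)⁻¹ * (g * (g * s * g⁻¹) * g⁻¹) * g ^ 2 = s := by
        group
      rw [h4] at h3
      exact h3
    have hgp : IsPGroup 2 ↥(Subgroup.zpowers g) := by
      obtain ⟨k, hk⟩ := hT2 ⟨g ^ 2, hg2⟩
      have hk' : g ^ (2 ^ (k + 1)) = 1 := by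
        rw [pow_succ', pow_mul]; simpa using congrArg Subtype.val hk
      obtain ⟨j, -, hj⟩ := (Nat.dvd_prime_pow Nat.prime_two).mp (orderOf_dvd_of_pow_eq_one hk')
      exact IsPGroup.of_card (n := j) (by rw [Nat.card_zpowers, hj])
    have hsup := hgp.to_sup_of_normal_right' hT2 hgen
    have hsN : Subgroup.zpowers g ⊔ T ≤ N := sup_le (Subgroup.zpowers_le.mpr hgN') hTN
    have hSle : (S : Subgroup ↥N) ≤ (Subgroup.zpowers g ⊔ T).subgroupOf N := fun s hs =>
      Subgroup.mem_subgroupOf.mpr (Subgroup.mem_sup_right (hT ▸ ⟨s, hs, rfl⟩))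
    have heq := S.is_maximal' (hsup.of_equiv (Subgroup.subgroupOfEquivOfLe hsN).symm) hSle
    apply hgS
    have : (⟨g, hgN'⟩ : ↥N) ∈ (S : Subgroup ↥N) := heq ▸ Subgroup.mem_subgroupOf.mpr (Subgroup.mem_sup_left (Subgroup.mem_zpowers g))
    rw [hT]
    exact ⟨_, this, rfl⟩
  obtain ⟨t', ht'def⟩ : ∃ t', g * t * g⁻¹ = t' := ⟨_, rfl⟩
  rw [ht'def] at hgt
  have ht'T : t' ∈ T := ht'def ▸ hgN t htS
  have htt' : t * t' = t' * t := (htc t' ht'T).symm
  have ht'2 : t' * t' = 1 := by
    rw [← ht'def, show g * t * g⁻¹ * (g * t * g⁻¹) = g * (t * t) * g⁻¹ by group, ht2, mul_one, mul_inv_cancel]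
  have ht'1 : t' ≠ 1 := fun h => ht1 (by
    rw [← ht'def, mul_inv_eq_one] at h
    exact mul_left_cancel (h.trans (mul_one g).symm))
  have hne : t ≠ t' := fun h => hgn (hNdef ▸ centralizer_involution_le hP ht htP (fun z hz => by
    rw [Set.mem_singleton_iff.mp hz]
    have := congrArg (fun w => w * g) (h.trans ht'def.symm)
    simpa [mul_assoc] using this))
  have ht'C : t' ∉ C := fun h => hne (involution_eq_of_rank_one hr htP h ht2 ht1 ht'2 ht'1 htt')
  -- `t'` acts on `P` as an involution `p` of `P`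
  obtain ⟨p₀, hp₀, c₀, hc₀, hpc⟩ : ∃ p₀ ∈ P, ∃ c₀ ∈ C, p₀ * c₀ = t' := by
    have h1 : (t' : X) ∈ ((P : Set X) * (C : Set X)) := by
      rw [← Subgroup.coe_mul_of_left_le_normalizer_right]
      · exact hgt
      · intro x hx
        rw [Subgroup.mem_normalizer_iff]
        intro c
        constructor
        · intro hc
          rw [hc x hx, mul_inv_cancel_right]; exact hc
        · intro hc
          have h2 := hc x hx
          have : c = x * c * x⁻¹ := by
            have h3 := congrArg (fun w => x⁻¹ * w * x) h2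
            simp [mul_assoc] at h3
            rw [eq_mul_inv_iff_mul_eq]
            exact h3.symm
          rw [this]; exact hc
    exact h1
  have hcomm : p₀ * c₀ = c₀ * p₀ := hc₀ p₀ hp₀
  have hpp : p₀ * p₀ ∈ C := by
    have h1 : p₀ * p₀ * (c₀ * c₀) = 1 := by
      rw [← ht'2, ← hpc, show p₀ * c₀ * (p₀ * c₀) = p₀ * (c₀ * p₀) * c₀ by group, ← hcomm]
      group
    rw [eq_inv_of_mul_eq_one_left h1]
    exact inv_mem (mul_mem hc₀ hc₀)
  obtain ⟨z, hz⟩ : ∃ z : Subgroup.center ↥P, ((z : ↥P) : X) = p₀ * p₀ :=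
    ⟨⟨⟨p₀ * p₀, mul_mem hp₀ hp₀⟩, Subgroup.mem_center_iff.mpr fun x => Subtype.ext (hpp x x.2)⟩, rfl⟩
  obtain ⟨j, hj⟩ := hZ
  obtain ⟨p, hpdef⟩ : ∃ p, p₀ * (p₀ * p₀) ^ j = p := ⟨_, rfl⟩
  have hpow : (p₀ * p₀) ^ (2 * j + 1) = 1 := by
    have := pow_card_eq_one' (x := z)
    rw [hj] at this
    rw [← hz]
    exact_mod_cast congrArg (fun w : Subgroup.center ↥P => ((w : ↥P) : X)) this
  have hp : p ∈ P := hpdef ▸ mul_mem hp₀ (pow_mem (mul_mem hp₀ hp₀) j)
  have hp2 : p * p = 1 := by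
    rw [← hpdef, ← hpow]
    simp only [← pow_two, ← pow_mul, ← pow_succ']
    ring_nf
  have hpC : p ∉ C := fun h => ht'C (by
    rw [← hpc]
    refine mul_mem ?_ hc₀
    have h1 : p₀ = p * ((p₀ * p₀) ^ j)⁻¹ := by rw [← hpdef]; group
    rw [h1]
    exact mul_mem h (inv_mem (pow_mem hpp j)))
  have hp1 : p ≠ 1 := fun h => hpC (h ▸ one_mem C)
  obtain ⟨c, hcdef⟩ : ∃ c, p * t' = c := ⟨_, rfl⟩
  have hc : c ∈ C := by
    rw [← hcdef, ← hpdef, ← hpc]
    have : p₀ * (p₀ * p₀) ^ j * (p₀ * c₀) = (p₀ * p₀) ^ (j + 1) * c₀ := by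
      simp only [← pow_two, ← pow_mul, ← pow_succ', ← mul_assoc, ← pow_succ]
      ring_nf
    rw [this]
    exact mul_mem (pow_mem hpp _) hc₀
  have hpt : t * p = p * t := (htP p hp).symm
  have hpt' : p * t' = t' * p := by
    rw [← hpdef, ← hpc]
    have h1 : Commute p₀ (p₀ * c₀) := (Commute.refl p₀).mul_right hcomm
    exact (h1.mul_left ((h1.mul_left h1).pow_left j)).eq
  have hc2 : c * c = 1 := by
    rw [← hcdef, show p * t' * (p * t') = p * (t' * p) * t' by group, ← hpt',
      show p * (p * t') * t' = (p * p) * (t' * t') by group, hp2, ht'2, mul_one]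
  have hc_cases : c = 1 ∨ c = t := by
    by_cases h1 : c = 1
    · exact Or.inl h1
    · refine Or.inr (involution_eq_of_rank_one hr hc htP hc2 h1 ht2 ht1 ?_)
      rw [← hcdef, mul_assoc, ← htt', ← mul_assoc, ← hpt, mul_assoc]
  have ht'eq : t' = p * c := by rw [← hcdef, ← mul_assoc, hp2, one_mul]
  -- the action on `O(X)`
  have hW : Odd (Nat.card ↥(Cfsg.oddCore X)) :=
    Nat.coprime_two_right.mp Cfsg.Agent.Thompson.card_pPrimeCore_coprime
  haveI : (Cfsg.oddCore X).Normal := inferInstanceAs (Cfsg.pPrimeCore 2 X).Normal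
  have hPW : ¬ P ≤ Cfsg.oddCore X := fun hle => hp1 (by
    have h1 : (⟨p, hle hp⟩ : ↥(Cfsg.oddCore X)) ^ 2 = 1 := Subtype.ext (by simp [pow_two, hp2])
    obtain ⟨i, hi⟩ := hW
    have h2 := pow_card_eq_one' (x := (⟨p, hle hp⟩ : ↥(Cfsg.oddCore X)))
    rw [hi, pow_succ, pow_mul, h1, one_pow, one_mul] at h2
    exact congrArg Subtype.val h2)
  have hfixC : Cfsg.oddCore X ⊓ Subgroup.centralizer ({t} : Set X) ≤ C := fun y hy =>
    mem_centralizer_of_normal hP.1 hPW (centralizer_involution_le hP ht htP hy.2) hy.1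
  have hfix : Cfsg.oddCore X ⊓ Subgroup.centralizer ({t} : Set X) ≤ Subgroup.centralizer ({t'} : Set X) := by
    intro y hy z hz
    rw [Set.mem_singleton_iff.mp hz]
    have hyp : p * y = y * p := hfixC hy p hp
    have hyt : t * y = y * t := hy.2 t rfl
    rcases hc_cases with h0 | h0 <;> rw [h0] at ht'eq
    · rw [ht'eq, mul_one]; exact hyp
    · rw [ht'eq, mul_assoc, hyt, ← mul_assoc, hyp, mul_assoc]
  have hcent := le_centralizer_of_conj_involution hW ht2 ht1 htt' hne ht'def hfix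
  -- a noncentral element of `P` centralizes `O(X)`
  set K := Subgroup.centralizer (Cfsg.oddCore X : Set X)
  have he : t * t' ∈ K := fun y hy => ((hcent hy) (t * t') rfl).symm
  have hKmem : ∀ x ∈ P, x * p * x⁻¹ * p⁻¹ ∈ K := by
    intro x hx
    have hKn : K.Normal := inferInstance
    have h1 := mul_mem (hKn.conj_mem _ he x) (inv_mem he)
    have hxt : x * t = t * x := htP x hx
    rcases hc_cases with h0 | h0 <;> rw [h0] at ht'eq
    · rw [ht'eq, mul_one] at h1
      have e : x * (t * p) * x⁻¹ * (t * p)⁻¹ = t * (x * p * x⁻¹ * p⁻¹) * t⁻¹ := by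
        rw [show x * (t * p) * x⁻¹ = (x * t) * p * x⁻¹ by group, hxt, mul_inv_rev]
        group
      rw [e] at h1
      have h2 := hKn.conj_mem _ h1 t⁻¹
      simpa [mul_assoc] using h2
    · have e : t * t' = p := by rw [ht'eq, ← mul_assoc, hpt, mul_assoc, ht2, mul_one]
      rwa [e] at h1
  refine ⟨hPW, ?_⟩
  rw [Subgroup.commutator_eq_bot_iff_le_centralizer]
  by_cases hpK : ∃ x ∈ P, x * p * x⁻¹ * p⁻¹ ∉ C
  · obtain ⟨x, hx, hxC⟩ := hpK
    exact le_of_noncentral_mem hP.1 (by rw [Subgroup.normalizer_eq_top]; exact le_top)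
      (mul_mem (mul_mem (mul_mem hx hp) (inv_mem hx)) (inv_mem hp)) (hKmem x hx) hxC
  · push Not at hpK
    refine absurd ?_ hpC
    refine Cfsg.Agent.Components.mem_centralizer_of_commutator_mem_centralizer
      (Subgroup.isPerfect_iff.mp hP.1.1) (Subgroup.le_normalizer hp) fun l hl => ?_
    have := inv_mem (hpK l hl)
    simpa [mul_assoc, mul_inv_rev] using this


/-- Let X be a finite group and P a standard subgroup of X whose centralizer has 2-rank at most 1 and whose centre has odd order. Let S be a Sylow 2-subgroup of N_X(P) and t an involution of S centralizing P. Suppose some element g of X normalizes S, does not lie in S, has its square in S, and conjugates t into P·C_X(P). Then P commutes elementwise with the largest normal odd-order subgroup O(X) of X; consequently every t-invariant 2-component of X containing P is quasisimple. -/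
theorem result {X : Type*} [Group X] [Finite X] (P : Subgroup X) (hP : Cfsg.IsStandardSubgroup P)
    (hr : Cfsg.PRankLE 2 1 ↥(Subgroup.centralizer (P : Set X))) (hZ : Odd (Nat.card ↥(Subgroup.center ↥P)))
    (S : Sylow 2 ↥(Subgroup.normalizer (P : Set X))) (t : X) (ht : orderOf t = 2) (htS : t ∈ (S : Subgroup ↥(Subgroup.normalizer (P : Set X))).map (Subgroup.normalizer (P : Set X)).subtype)
    (htP : t ∈ Subgroup.centralizer (P : Set X))
    (g : X) (hgN : ∀ s ∈ (S : Subgroup ↥(Subgroup.normalizer (P : Set X))).map (Subgroup.normalizer (P : Set X)).subtype, g * s * g⁻¹ ∈ (S : Subgroup ↥(Subgroup.normalizer (P : Set X))).map (Subgroup.normalizer (P : Set X)).subtype)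
    (hgS : g ∉ (S : Subgroup ↥(Subgroup.normalizer (P : Set X))).map (Subgroup.normalizer (P : Set X)).subtype) (hg2 : g ^ 2 ∈ (S : Subgroup ↥(Subgroup.normalizer (P : Set X))).map (Subgroup.normalizer (P : Set X)).subtype)
    (hgt : g * t * g⁻¹ ∈ P ⊔ Subgroup.centralizer (P : Set X)) :
    ⁅P, Cfsg.oddCore X⁆ = ⊥ ∧
      ∀ L : Subgroup X, Cfsg.IsPComponent 2 L → P ≤ L → (∀ l ∈ L, t * l * t⁻¹ ∈ L) → Cfsg.IsQuasisimple ↥L := by
  obtain ⟨hPW, h1⟩ := part_one P hP hr hZ _ rfl S _ rfl t ht htS htP g hgN hgS hg2 hgt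
  refine ⟨h1, fun L hL hPL _ => ?_⟩
  obtain ⟨hsn, hcomp, hmin⟩ := hL
  haveI : (Cfsg.oddCore X).Normal := inferInstanceAs (Cfsg.pPrimeCore 2 X).Normal
  set K := Subgroup.centralizer (Cfsg.oddCore X : Set X) with hK
  set q := QuotientGroup.mk' (Cfsg.pPrimeCore 2 X)
  have hPK : P ≤ K := (Subgroup.commutator_eq_bot_iff_le_centralizer).mp h1
  haveI hKLn : ((L ⊓ K).subgroupOf L).Normal := by
    refine ⟨fun n hn g => Subgroup.mem_subgroupOf.mpr ⟨(g * n * g⁻¹).2, ?_⟩⟩
    have hKn : K.Normal := inferInstance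
    exact hKn.conj_mem _ (Subgroup.mem_subgroupOf.mp hn).2 g
  have hLK : L ≤ K := by
    have hsn' : (L ⊓ K).IsSubnormal := Subgroup.IsSubnormal.step _ L inf_le_left hsn hKLn
    refine inf_eq_left.mp (hmin _ hsn' inf_le_left ?_)
    refine le_antisymm (Subgroup.map_mono inf_le_left) ?_
    have hLn : ∀ l ∈ L, ∀ y ∈ L ⊓ K, l * y * l⁻¹ ∈ L ⊓ K := by
      intro l hl y hy
      have hKn : K.Normal := inferInstance
      exact ⟨L.mul_mem (L.mul_mem hl hy.1) (L.inv_mem hl), hKn.conj_mem _ hy.2 l⟩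
    haveI hn : (((L ⊓ K).map q).subgroupOf (L.map q)).Normal := by
      refine ⟨fun n hn g => ?_⟩
      obtain ⟨y, hy, hyn⟩ := Subgroup.mem_subgroupOf.mp hn
      obtain ⟨l, hl, hlg⟩ := g.2
      refine Subgroup.mem_subgroupOf.mpr ⟨l * y * l⁻¹, hLn l hl y hy, ?_⟩
      simp [map_mul, hlg, hyn]
    rcases Cfsg.Agent.Components.normal_eq_top_or_le_center hcomp.2 (((L ⊓ K).map q).subgroupOf (L.map q)) with h | h
    · exact Subgroup.subgroupOf_eq_top.mp h
    · exfalso
      apply hPW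
      intro x hx
      have hP' : ⁅P, P⁆ = P := Subgroup.isPerfect_iff.mp hP.1.1
      rw [← hP'] at hx
      refine (show ⁅P, P⁆ ≤ Cfsg.oddCore X from Subgroup.commutator_le.mpr fun a ha b hb => ?_) hx
      have hqa := h (show (⟨q a, Subgroup.mem_map_of_mem q (hPL ha)⟩ : ↥(L.map q)) ∈ ((L ⊓ K).map q).subgroupOf (L.map q) from
        Subgroup.mem_map_of_mem q (show a ∈ L ⊓ K from ⟨hPL ha, hPK ha⟩))
      have h5 : q b * q a = q a * q b :=
        congrArg Subtype.val (Subgroup.mem_center_iff.mp hqa ⟨q b, Subgroup.mem_map_of_mem q (hPL hb)⟩)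
      apply (QuotientGroup.eq_one_iff _).mp
      show q ⁅a, b⁆ = 1
      rw [map_commutatorElement, commutatorElement_eq_one_iff_mul_comm]
      exact h5.symm
  -- `L` is perfect
  have hperf : ⁅L, L⁆ = L := by
    have hle : ⁅L, L⁆ ≤ L := Subgroup.commutator_le_self L
    haveI hn : (⁅L, L⁆.subgroupOf L).Normal :=
      (Subgroup.normal_subgroupOf_iff_le_normalizer hle).mpr (Cfsg.Agent.Coprime.le_normalizer_commutator_left L L)
    refine hmin _ (Subgroup.IsSubnormal.step _ L hle hsn hn) hle ?_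
    rw [Subgroup.map_commutator]
    exact Subgroup.isPerfect_iff.mp hcomp.2.1
  haveI : Group.IsPerfect ↥L := Subgroup.isPerfect_iff.mpr hperf
  haveI : Nontrivial ↥L := by
    rw [Subgroup.nontrivial_iff_ne_bot]
    intro h
    exact Cfsg.Agent.Components.component_ne_bot hcomp (by rw [h, Subgroup.map_bot])
  refine Cfsg.Agent.Components.isQuasisimple_of_forall_normal fun M hM => ?_
  set M' := M.map L.subtype with hM'
  haveI hn : ((M'.map q).subgroupOf (L.map q)).Normal := by
    refine ⟨fun n hn g => ?_⟩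
    obtain ⟨_, ⟨m, hm, rfl⟩, hyn⟩ := Subgroup.mem_subgroupOf.mp hn
    obtain ⟨l, hl, hlg⟩ := g.2
    refine Subgroup.mem_subgroupOf.mpr ⟨l * m * l⁻¹, ⟨⟨l, hl⟩ * m * ⟨l, hl⟩⁻¹, hM.conj_mem m hm _, rfl⟩, ?_⟩
    simp only [Subgroup.coe_subtype] at hyn
    simp [map_mul, hlg, hyn]
  rcases Cfsg.Agent.Components.normal_eq_top_or_le_center hcomp.2 ((M'.map q).subgroupOf (L.map q)) with h | h
  · left
    have hsn' : M'.IsSubnormal := Subgroup.IsSubnormal.step _ L (Subgroup.map_subtype_le M) hsn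
      (by rw [hM', Subgroup.subgroupOf, Subgroup.comap_map_eq_self_of_injective L.subtype_injective]; exact hM)
    have h6 := hmin M' hsn' (Subgroup.map_subtype_le M)
      (le_antisymm (Subgroup.map_mono (Subgroup.map_subtype_le M)) (Subgroup.subgroupOf_eq_top.mp h))
    apply Subgroup.map_injective L.subtype_injective
    rw [← hM', h6, ← MonoidHom.range_eq_map, Subgroup.range_subtype]
  · right
    intro m hm
    have hqm := h (show (⟨q (m : X), Subgroup.mem_map_of_mem q m.2⟩ : ↥(L.map q)) ∈ (M'.map q).subgroupOf (L.map q) from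
      Subgroup.mem_map_of_mem q ⟨m, hm, rfl⟩)
    have hcent : (m : X) ∈ Subgroup.centralizer (L : Set X) := by
      refine Cfsg.Agent.Components.mem_centralizer_of_commutator_mem_centralizer hperf (Subgroup.le_normalizer m.2) fun l hl => ?_
      have hmem : (m : X) * l * (m : X)⁻¹ * l⁻¹ ∈ Cfsg.oddCore X := by
        apply (QuotientGroup.eq_one_iff _).mp
        show q _ = 1
        have h5 : q l * q (m : X) = q (m : X) * q l :=
          congrArg Subtype.val (Subgroup.mem_center_iff.mp hqm ⟨q l, Subgroup.mem_map_of_mem q hl⟩)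
        simp only [map_mul, map_inv]
        rw [← h5, mul_inv_cancel_right, mul_inv_cancel]
      intro y hy
      exact (hLK hy _ hmem).symm
    exact Subgroup.mem_center_iff.mpr fun y => Subtype.ext (hcent y y.2)

end Cfsg.Agent.S3153
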