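import Cfsg.Statements.S3154
import Cfsg.Agent.InvChar.PSLFourCover

set_option autoImplicit false
open Cfsg

namespace Cfsg.Agent.S3154
open Cfsg.Agent.InvChar.PSLFour in
lemma classify {F : Type*} [Field F] [Fintype F] [CharP F 2] (hF : Fintype.card F = 4)
    (A : Subgroup (Matrix.ProjectiveSpecialLinearGroup (Fin 3) F))
    (hA : A ≤ T) (hsq : ∀ a ∈ A, a * a = 1) (h16 : Nat.card A = 16) : A = Ur ∨ A = Uc := by
  haveI : Finite (Matrix.ProjectiveSpecialLinearGroup (Fin 3) F) :=
    Nat.finite_of_card_ne_zero (by rw [card_PSL hF]; norm_num)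
  have h : A ≤ Ur ∨ A ≤ Uc := by
    by_contra! hne
    obtain ⟨a, ha, ha'⟩ := SetLike.not_le_iff_exists.1 hne.1
    obtain ⟨b, hb, hb'⟩ := SetLike.not_le_iff_exists.1 hne.2
    have hac := (mem_or_mem_of_sq (hA ha) (hsq a ha)).resolve_left ha'
    have hbr := (mem_or_mem_of_sq (hA hb) (hsq b hb)).resolve_right hb'
    rcases mem_or_mem_of_sq (hA (mul_mem ha hb)) (hsq _ (mul_mem ha hb)) with h | h
    · exact ha' ((Subgroup.mul_mem_cancel_right _ hbr).1 h)
    · exact hb' ((Subgroup.mul_mem_cancel_left _ hac).1 h)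
  rcases h with h | h
  · exact Or.inl (Subgroup.eq_of_le_of_card_ge h (by rw [h16, card_Ur hF]))
  · exact Or.inr (Subgroup.eq_of_le_of_card_ge h (by rw [h16, card_Uc hF]))


/-- Let X be a finite quasisimple group whose centre is an elementary abelian 2-group and whose central quotient is isomorphic to the projective special linear group of dimension 3 over the field with 4 elements. Let T be a Sylow 2-subgroup of X and H ≠ K subgroups of T containing the centre Z(X) whose images in X/Z(X) are elementary abelian of order 16 (the two such subgroups of a Sylow 2-subgroup of the quotient). Then H and K are elementary abelian, H ∩ K is the centre of the subgroup they generate, and each of N_X(H), N_X(K) is a split extension of H, respectively K, by the projective special linear group of dimension 2 over the field with 4 elements (there is a complement isomorphic to that group). -/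
theorem result {X : Type*} [Group X] [Finite X] (hq : Cfsg.IsQuasisimple X) (hZ : Cfsg.IsElementaryAbelian 2 (Subgroup.center X))
    {F : Type*} [Field F] [Fintype F] (hF : Fintype.card F = 4) (hXL : Nonempty ((X ⧸ Subgroup.center X) ≃* Matrix.ProjectiveSpecialLinearGroup (Fin 3) F))
    (T : Sylow 2 X) (H K : Subgroup X) (hHK : H ≠ K) (hHT : H ≤ T) (hKT : K ≤ T) (hZH : Subgroup.center X ≤ H) (hZK : Subgroup.center X ≤ K)
    (hH : Cfsg.IsElementaryAbelian 2 (H.map (QuotientGroup.mk' (Subgroup.center X))) ∧ Nat.card ↥(H.map (QuotientGroup.mk' (Subgroup.center X))) = 16)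
    (hK : Cfsg.IsElementaryAbelian 2 (K.map (QuotientGroup.mk' (Subgroup.center X))) ∧ Nat.card ↥(K.map (QuotientGroup.mk' (Subgroup.center X))) = 16) :
    Cfsg.IsElementaryAbelian 2 H ∧ Cfsg.IsElementaryAbelian 2 K ∧
      H ⊓ K = (Subgroup.center ↥(H ⊔ K)).map (H ⊔ K).subtype ∧
      (∃ C : Subgroup X, C ≤ Subgroup.normalizer (H : Set X) ∧ C ⊓ H = ⊥ ∧ H ⊔ C = Subgroup.normalizer (H : Set X) ∧
        Nonempty (↥C ≃* Matrix.ProjectiveSpecialLinearGroup (Fin 2) F)) ∧
      (∃ C : Subgroup X, C ≤ Subgroup.normalizer (K : Set X) ∧ C ⊓ K = ⊥ ∧ K ⊔ C = Subgroup.normalizer (K : Set X) ∧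
        Nonempty (↥C ≃* Matrix.ProjectiveSpecialLinearGroup (Fin 2) F)) := by
  classical
  haveI := Cfsg.Agent.InvChar.PSLFour.charTwo hF
  obtain ⟨e⟩ := hXL
  let π := QuotientGroup.mk' (Subgroup.center X)
  let f₀ : X →* Matrix.ProjectiveSpecialLinearGroup (Fin 3) F := e.toMonoidHom.comp π
  have hsurj : Function.Surjective f₀ := e.surjective.comp (QuotientGroup.mk'_surjective _)
  have hker₀ : ∀ x, f₀ x = 1 ↔ x ∈ Subgroup.center X := fun x => by
    show e (π x) = 1 ↔ _
    rw [map_eq_one_iff _ e.injective]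
    exact QuotientGroup.eq_one_iff x
  -- conjugate the given Sylow subgroup into the standard one
  obtain ⟨g, hg⟩ := Cfsg.Agent.InvChar.PSLFour.exists_conj_le_T hF ((T : Subgroup X).map f₀)
    (T.isPGroup'.map f₀)
  let f : X →* Matrix.ProjectiveSpecialLinearGroup (Fin 3) F := (MulAut.conj g).toMonoidHom.comp f₀
  have hfs : Function.Surjective f := (MulAut.conj g).surjective.comp hsurj
  have hf1 : ∀ x, f x = 1 ↔ x ∈ Subgroup.center X := fun x => by
    rw [← hker₀]
    exact map_eq_one_iff _ (MulAut.conj g).injective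
  have hker : ∀ z ∈ f.ker, ∀ x, x * z = z * x := fun z hz x =>
    Subgroup.mem_center_iff.1 ((hf1 z).1 hz) x
  have hsqZ : ∀ z ∈ f.ker, z * z = 1 := fun z hz => by
    rw [← pow_two]; exact hZ.2 z ((hf1 z).1 hz)
  have hkey : ∀ A : Subgroup X, A ≤ T → Subgroup.center X ≤ A →
      Cfsg.IsElementaryAbelian 2 (A.map π) ∧ Nat.card ↥(A.map π) = 16 →
      (A.map f = Cfsg.Agent.InvChar.PSLFour.Ur ∨ A.map f = Cfsg.Agent.InvChar.PSLFour.Uc) ∧
      Cfsg.IsElementaryAbelian 2 A ∧ A = (A.map f).comap f := by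
    intro A hAT hZA hA
    have hsq : ∀ h ∈ A, f h * f h = 1 := fun h hh => by
      rw [← map_mul, hf1, ← hker₀]
      show e (π (h * h)) = 1
      rw [map_mul, ← pow_two, hA.1.2 _ ⟨h, hh, rfl⟩, map_one]
    refine ⟨classify hF _ ?_ ?_ ?_,
      Cfsg.Agent.InvChar.PSLFour.isElementaryAbelian_of_map f hker hsqZ hfs hF A hsq, ?_⟩
    · rintro _ ⟨x, hx, rfl⟩
      exact hg _ ⟨x, hAT hx, rfl⟩
    · rintro _ ⟨x, hx, rfl⟩
      exact hsq x hx
    · have e1 : A.map f = ((A.map π).map e.toMonoidHom).map (MulAut.conj g).toMonoidHom := by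
        rw [Subgroup.map_map, Subgroup.map_map]; rfl
      rw [e1, Subgroup.card_map_of_injective (MulAut.conj g).injective,
        Subgroup.card_map_of_injective e.injective]
      exact hA.2
    · rw [Subgroup.comap_map_eq, sup_eq_left.2 fun z hz => hZA ((hf1 z).1 hz)]
  obtain ⟨hH1, hH2, hH3⟩ := hkey H hHT hZH hH
  obtain ⟨hK1, hK2, hK3⟩ := hkey K hKT hZK hK
  have hne : H.map f ≠ K.map f := fun h => hHK (by rw [hH3, hK3, h])
  have hsup : H.map f ⊔ K.map f = Cfsg.Agent.InvChar.PSLFour.T ∧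
      H.map f ⊓ K.map f =
        Cfsg.Agent.InvChar.PSLFour.Ur ⊓ Cfsg.Agent.InvChar.PSLFour.Uc := by
    rcases hH1 with h | h <;> rcases hK1 with h' | h'
    · exact absurd (h.trans h'.symm) hne
    · rw [h, h']; exact ⟨Cfsg.Agent.InvChar.PSLFour.sup_eq_T, rfl⟩
    · rw [h, h', sup_comm, inf_comm]; exact ⟨Cfsg.Agent.InvChar.PSLFour.sup_eq_T, rfl⟩
    · exact absurd (h.trans h'.symm) hne
  refine ⟨hH2, hK2, ?_, ?_, ?_⟩
  · ext x
    constructor
    · rintro ⟨hxH, hxK⟩
      refine ⟨⟨x, Subgroup.mem_sup_left hxH⟩, Subgroup.mem_center_iff.2 fun y => Subtype.ext ?_, rfl⟩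
      have : (y : X) ∈ Subgroup.centralizer ({x} : Set X) := by
        refine (sup_le ?_ ?_ : H ⊔ K ≤ _) y.2
        · intro h hh
          rw [Subgroup.mem_centralizer_iff]
          intro a ha
          rw [Set.mem_singleton_iff.1 ha]
          exact congrArg Subtype.val (hH2.1.is_comm.comm (⟨x, hxH⟩ : H) ⟨h, hh⟩)
        · intro h hh
          rw [Subgroup.mem_centralizer_iff]
          intro a ha
          rw [Set.mem_singleton_iff.1 ha]
          exact congrArg Subtype.val (hK2.1.is_comm.comm (⟨x, hxK⟩ : K) ⟨h, hh⟩)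
      exact (Subgroup.mem_centralizer_iff.1 this x rfl).symm
    · rintro ⟨⟨x, hx⟩, hxc, rfl⟩
      have hfx : f x ∈ H.map f ⊓ K.map f := by
        rw [hsup.2]
        refine Cfsg.Agent.InvChar.PSLFour.mem_inf_of_commute ?_ fun y hy => ?_
        · rw [← hsup.1, ← Subgroup.map_sup]; exact ⟨x, hx, rfl⟩
        · rw [← hsup.1, ← Subgroup.map_sup] at hy
          obtain ⟨z, hz, rfl⟩ := hy
          rw [← map_mul, ← map_mul]
          exact congrArg f (congrArg Subtype.val (Subgroup.mem_center_iff.1 hxc ⟨z, hz⟩)).symm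
      have h1 : x ∈ (H.map f).comap f := hfx.1
      have h2 : x ∈ (K.map f).comap f := hfx.2
      rw [← hH3] at h1
      rw [← hK3] at h2
      exact ⟨h1, h2⟩
  · rw [hH3]
    rcases hH1 with h | h <;> rw [h]
    · exact Cfsg.Agent.InvChar.PSLFour.exists_complement f hker hsqZ hfs hF _
        Cfsg.Agent.InvChar.PSLFour.Lr_injective _ Cfsg.Agent.InvChar.PSLFour.Lr_normalizes
        Cfsg.Agent.InvChar.PSLFour.Lr_inf (Cfsg.Agent.InvChar.PSLFour.normalizer_Ur_le hF)
    · exact Cfsg.Agent.InvChar.PSLFour.exists_complement f hker hsqZ hfs hF _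
        Cfsg.Agent.InvChar.PSLFour.Lc_injective _ Cfsg.Agent.InvChar.PSLFour.Lc_normalizes
        Cfsg.Agent.InvChar.PSLFour.Lc_inf (Cfsg.Agent.InvChar.PSLFour.normalizer_Uc_le hF)
  · rw [hK3]
    rcases hK1 with h | h <;> rw [h]
    · exact Cfsg.Agent.InvChar.PSLFour.exists_complement f hker hsqZ hfs hF _
        Cfsg.Agent.InvChar.PSLFour.Lr_injective _ Cfsg.Agent.InvChar.PSLFour.Lr_normalizes
        Cfsg.Agent.InvChar.PSLFour.Lr_inf (Cfsg.Agent.InvChar.PSLFour.normalizer_Ur_le hF)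
    · exact Cfsg.Agent.InvChar.PSLFour.exists_complement f hker hsqZ hfs hF _
        Cfsg.Agent.InvChar.PSLFour.Lc_injective _ Cfsg.Agent.InvChar.PSLFour.Lc_normalizes
        Cfsg.Agent.InvChar.PSLFour.Lc_inf (Cfsg.Agent.InvChar.PSLFour.normalizer_Uc_le hF)

end Cfsg.Agent.S3154
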