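import Cfsg.Statements.S3155
import Mathlib.LinearAlgebra.FreeModule.StrongRankCondition
import Mathlib.Algebra.Module.ZMod
import Mathlib.LinearAlgebra.Determinant
import Mathlib.LinearAlgebra.FreeModule.Finite.Basic
import Mathlib.LinearAlgebra.Dimension.Constructions
import Mathlib.Tactic

set_option autoImplicit false
open Cfsg

namespace Cfsg.Agent.S3155

/-- Let B be the direct product of three cyclic groups of order 4. Then the automorphism of B inverting every element is not the square of any automorphism of B. -/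
theorem result {B : Type*} [CommGroup B] [Finite B] (hB : Nonempty (B ≃* Multiplicative (ZMod 4 × ZMod 4 × ZMod 4)))
    (τ : B ≃* B) : τ.trans τ ≠ MulEquiv.inv B := by
  intro h
  haveI : Fact (1 < 4) := ⟨by norm_num⟩
  obtain ⟨e⟩ := hB
  let V := Fin 3 → ZMod 4
  let ι : (ZMod 4 × ZMod 4 × ZMod 4) ≃+ V :=
    { toFun := fun p => ![p.1, p.2.1, p.2.2]
      invFun := fun v => (v 0, v 1, v 2)
      left_inv := fun p => by simp
      right_inv := fun v => by ext i; fin_cases i <;> rfl
      map_add' := fun p q => by ext i; fin_cases i <;> rfl }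
  let e' : Additive B ≃+ V := (MulEquiv.toAdditive e).trans ((AddEquiv.additiveMultiplicative _).trans ι)
  let f : V →+ V := (e'.symm.trans ((MulEquiv.toAdditive τ).trans e')).toAddMonoidHom
  have hf : ∀ v, f (f v) = -v := by
    intro v
    have hh : ∀ b : B, τ (τ b) = b⁻¹ := fun b => congrFun (congrArg DFunLike.coe h) b
    show e' (Additive.ofMul (τ (Additive.toMul (e'.symm (e' (Additive.ofMul (τ (Additive.toMul (e'.symm v))))))))) = -v
    rw [AddEquiv.symm_apply_apply, toMul_ofMul, hh, ofMul_inv, map_neg, ofMul_toMul, AddEquiv.apply_symm_apply]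
  have hl : (f.toZModLinearMap 4) ∘ₗ (f.toZModLinearMap 4) = -LinearMap.id :=
    LinearMap.ext fun v => hf v
  have hd := congrArg LinearMap.det hl
  rw [LinearMap.det_comp, ← neg_one_smul (ZMod 4) (LinearMap.id : V →ₗ[ZMod 4] V), LinearMap.det_smul, LinearMap.det_id,
    Module.finrank_fin_fun, mul_one] at hd
  have key : ∀ a : ZMod 4, a * a ≠ (-1) ^ 3 := by decide
  exact key _ hd

end Cfsg.Agent.S3155
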