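import Cfsg.Statements.S3156
import Cfsg.Agent.TwoFusionB.U34NoS3
-- import your own Cfsg.Agent.* helpers here

set_option autoImplicit false
open Cfsg

namespace Cfsg.Agent.S3156

/-- If a finite group T is isomorphic to a Sylow 2-subgroup of the projective special unitary group of dimension 3 with parameter 4 (realised over the field with 16 elements), then no subgroup of the automorphism group of T is isomorphic to the symmetric group of degree 3. -/
theorem result {T : Type*} [Group T] [Finite T] (hT : (∃ (F : Type) (_ : Field F) (_ : Fintype F), Fintype.card F = 16 ∧ ∃ S : Sylow 2 (Cfsg.PSU 3 F 4), Nonempty (T ≃* ↥(S : Subgroup (Cfsg.PSU 3 F 4))))) (H : Subgroup (MulAut T)) : ¬ Nonempty (↥H ≃* Equiv.Perm (Fin 3)) := by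
  rintro ⟨e⟩
  obtain ⟨F, _, _, hF, S, ⟨ε⟩⟩ := hT
  haveI : Finite T := Finite.of_equiv _ ε.toEquiv.symm
  have hs := (Cfsg.Agent.TwoFusionB.isU34Shape_sylow (by rw [hF]; norm_num) S).of_equiv ε.symm
  let ρ : MulAut T := (e.symm (finRotate 3) : H)
  let σ : MulAut T := (e.symm (Equiv.swap 0 1) : H)
  have h3 : ρ * (ρ * ρ) = 1 := by
    simp only [ρ, ← Subgroup.coe_mul, ← map_mul]
    rw [show finRotate 3 * (finRotate 3 * finRotate 3) = (1 : Equiv.Perm (Fin 3)) from by decide,
      map_one, Subgroup.coe_one]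
  have h2 : σ * σ = 1 := by
    simp only [σ, ← Subgroup.coe_mul, ← map_mul]
    rw [Equiv.swap_mul_self, map_one, Subgroup.coe_one]
  have hrel : σ * ρ = ρ * (ρ * σ) := by
    simp only [ρ, σ, ← Subgroup.coe_mul, ← map_mul]
    rw [show (Equiv.swap 0 1 : Equiv.Perm (Fin 3)) * finRotate 3
      = finRotate 3 * (finRotate 3 * Equiv.swap 0 1) from by decide]
  have hne : ∃ x, ρ x ≠ x := by
    by_contra! hall
    have h1 : ρ = 1 := MulEquiv.ext hall
    have h4 : e.symm (finRotate 3) = 1 := Subtype.ext h1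
    rw [EmbeddingLike.map_eq_one_iff] at h4
    exact absurd h4 (by decide)
  exact hs.no_symm_three ρ σ (fun x => DFunLike.congr_fun h3 x) hne
    (fun x => DFunLike.congr_fun h2 x) (fun x => DFunLike.congr_fun hrel x)

end Cfsg.Agent.S3156
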