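import Cfsg.Statements.S3157
import Cfsg.Agent.InvChar.SixtyFourFixed

set_option autoImplicit false
open Cfsg

namespace Cfsg.Agent.S3157

/-- Let T be a non-abelian group of order 64 admitting automorphisms ρ of order 3 and x of order 2 with x ρ x⁻¹ = ρ⁻¹ (so they generate a symmetric group of degree 3), where ρ fixes only the identity. Then T is isomorphic to a Sylow 2-subgroup of the projective special linear group of dimension 3 over the field with 4 elements, and the subgroup of fixed points of x is dihedral of order 8 or quaternion of order 8. -/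
theorem result {T : Type*} [Group T] [Finite T] (hT : Nat.card T = 64) (hna : ¬ IsMulCommutative T) (ρ x : MulAut T) (hρ : orderOf ρ = 3) (hx : orderOf x = 2)
    (hxr : x * ρ * x⁻¹ = ρ⁻¹) (hfp : ∀ y : T, ρ y = y → y = 1) (C : Subgroup T) (hC : ∀ y : T, y ∈ C ↔ x y = y) :
    (∃ (F : Type) (_ : Field F) (_ : Fintype F), Fintype.card F = 4 ∧
        ∃ S : Sylow 2 (Matrix.ProjectiveSpecialLinearGroup (Fin 3) F), Nonempty (T ≃* ↥(S : Subgroup (Matrix.ProjectiveSpecialLinearGroup (Fin 3) F)))) ∧
      (Nonempty (↥C ≃* DihedralGroup 4) ∨ Nonempty (↥C ≃* QuaternionGroup 2)) := by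
  have hρ3 : ρ * (ρ * ρ) = 1 := by
    have := pow_orderOf_eq_one ρ
    rwa [hρ, pow_succ, pow_two, mul_assoc] at this
  have hx2 : x * x = 1 := by
    have := pow_orderOf_eq_one x
    rwa [hx, pow_two] at this
  have hrel : x * ρ = ρ * ρ * x := by
    rw [mul_inv_eq_iff_eq_mul] at hxr
    rw [hxr, inv_eq_of_mul_eq_one_right hρ3]
  refine InvChar.SixtyFour.Hyp.main ⟨hT, fun hall => hna ⟨⟨fun a b => (hall a b).eq⟩⟩,
    fun t => DFunLike.congr_fun hρ3 t, fun t => DFunLike.congr_fun hx2 t,
    fun t => DFunLike.congr_fun hrel t, hfp⟩ C hC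

end Cfsg.Agent.S3157
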