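import Cfsg.Statements.S3158
import Cfsg.Agent.Lib.PGroup.Basic
import Mathlib.FieldTheory.Perfect
import Mathlib.RingTheory.IntegralDomain
import Mathlib.Tactic

set_option autoImplicit false
open Cfsg

namespace Cfsg.Agent.S3158
/-- An equivariant biadditive symmetric form with `B x x = 0` over a finite field of characteristic 2 vanishes. -/
lemma form_zero {K : Type*} [Field K] [Finite K] (h2 : (2 : K) = 0) (B : K → K → K)
    (hadd : ∀ x y z, B (x + y) z = B x z + B y z) (hadd' : ∀ x y z, B x (y + z) = B x y + B x z)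
    (hself : ∀ x, B x x = 0) (hsc : ∀ c x y, B (c * x) (c * y) = c * B x y) : ∀ x y, B x y = 0 := by
  obtain ⟨f, hf⟩ : ∃ f : K → K, f = fun u => B 1 u := ⟨_, rfl⟩
  have h0 : ∀ z, B 0 z = 0 := fun z => by have := hadd 0 0 z; simpa using this
  have hneg : ∀ a : K, -a = a := fun a => by
    rw [neg_eq_iff_add_eq_zero, ← two_mul, h2, zero_mul]
  have hsym : ∀ x y, B x y = B y x := fun x y => by
    have := hself (x + y)
    rw [hadd, hadd', hadd', hself, hself] at this
    simp only [zero_add, add_zero] at this
    rw [add_eq_zero_iff_eq_neg.1 this, hneg]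
  have finv : ∀ u : K, u ≠ 0 → f u = u * f u⁻¹ := fun u hu => by
    simp only [hf]
    rw [hsym, ← hsc u, mul_one, mul_inv_cancel₀ hu]
  have f1 : f 1 = 0 := by simp only [hf]; exact hself 1
  have fadd : ∀ a b, f (a + b) = f a + f b := fun a b => by simp only [hf]; exact hadd' _ _ _
  have hbij : Function.Surjective (fun x : K => x * x) := by
    apply Finite.surjective_of_injective
    intro a b hab
    have : (a - b) * (a - b) = 0 := by
      have e : (a - b) * (a - b) = (a * a - b * b) + 2 * (b * b - a * b) := by ring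
      rw [e, show a * a = b * b from hab, h2]; ring
    exact sub_eq_zero.1 (mul_self_eq_zero.1 this)
  have fz : ∀ u, f u = 0 := by
    intro u
    obtain ⟨a, rfl⟩ := hbij u
    show f (a * a) = 0
    rcases eq_or_ne a 0 with rfl | ha
    · rw [zero_mul]; simp only [hf]; rw [hsym]; exact h0 1
    rcases eq_or_ne (a + 1) 0 with h | h
    · rw [eq_neg_of_add_eq_zero_left h, hneg, one_mul]; exact f1
    have hab : a + a * a ≠ 0 := by rw [show a + a * a = a * (a + 1) by ring]; exact mul_ne_zero ha h
    have h5 : f (a + a * a) = f a := by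
      have e2 : (a + a * a)⁻¹ = a⁻¹ + (a + 1)⁻¹ := by
        have : a⁻¹ + (a + 1)⁻¹ = (2 * a + 1) / (a * (a + 1)) := by field_simp; ring
        rw [this, h2, zero_mul, zero_add, one_div, show a * (a + 1) = a + a * a by ring]
      have eA : f a⁻¹ = a⁻¹ * f a := by
        rw [finv a ha, ← mul_assoc, inv_mul_cancel₀ ha, one_mul]
      have eB : f (a + 1)⁻¹ = (a + 1)⁻¹ * f a := by
        have h6 : f (a + 1) = f a := by rw [fadd, f1, add_zero]
        rw [← h6, finv (a + 1) h, ← mul_assoc, inv_mul_cancel₀ h, one_mul]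
      rw [finv _ hab, e2, fadd, eA, eB, ← add_mul, ← mul_assoc, ← e2, mul_inv_cancel₀ hab, one_mul]
    rw [fadd] at h5
    simpa using h5
  intro x y
  rcases eq_or_ne x 0 with rfl | hx
  · exact h0 y
  · have := hsc x 1 (x⁻¹ * y)
    rw [mul_one, ← mul_assoc, mul_inv_cancel₀ hx, one_mul] at this
    rw [this, show B 1 (x⁻¹ * y) = f (x⁻¹ * y) from hf ▸ rfl, fz, mul_zero]

lemma form_zero_of_domain {K : Type*} [CommRing K] [IsDomain K] [Finite K] (h2 : (2 : K) = 0) (B : K → K → K)
    (hadd : ∀ x y z, B (x + y) z = B x z + B y z) (hadd' : ∀ x y z, B x (y + z) = B x y + B x z)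
    (hself : ∀ x, B x x = 0) (hsc : ∀ c x y, B (c * x) (c * y) = c * B x y) : ∀ x y, B x y = 0 := by
  letI : Field K := (Finite.isField_of_domain K).toField
  exact form_zero h2 B hadd hadd' hself hsc


lemma core {M : Type*} [AddCommGroup M] [Finite M] (T : AddMonoid.End M) (m : ℕ) (hcard : Nat.card M = m + 1)
    (h2 : ∀ v : M, v + v = 0) (hinj : ∀ v : M, T v = 0 → v = 0)
    (hfree : ∀ k, 0 < k → k < m → ∀ v : M, (T ^ k : AddMonoid.End M) v = v → v = 0)
    (β : M → M → M) (hadd : ∀ x y z, β (x + y) z = β x z + β y z) (hadd' : ∀ x y z, β x (y + z) = β x y + β x z)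
    (hself : ∀ x, β x x = 0) (hT : ∀ x y, β (T x) (T y) = T (β x y)) : ∀ x y, β x y = 0 := by
  intro x₁ y₁
  have h00 : ∀ z, β 0 z = 0 := fun z => by have := hadd 0 0 z; simpa using this
  rcases eq_or_ne x₁ 0 with rfl | hx₁
  · exact h00 y₁
  have hTinj : ∀ (k : ℕ) (v : M), (T ^ k : AddMonoid.End M) v = 0 → v = 0 := by
    intro k
    induction k with
    | zero => exact fun v h => h
    | succ k ih => intro v h; rw [pow_succ'] at h; exact ih v (hinj _ h)
  have hcov : ∀ v : M, v ≠ 0 → ∀ w : M, w = 0 ∨ ∃ k : ℕ, (T ^ k : AddMonoid.End M) v = w := by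
    intro v hv w
    have hbij : Function.Bijective
        (fun o : Option (Fin m) => o.elim (0 : M) (fun k => (T ^ (k : ℕ) : AddMonoid.End M) v)) := by
      rw [Nat.bijective_iff_injective_and_card]
      refine ⟨?_, by rw [Finite.card_option, Nat.card_fin, hcard]⟩
      intro o o' h
      cases o with
      | none =>
        cases o' with
        | none => rfl
        | some j => exact absurd (hTinj _ v h.symm) hv
      | some i =>
        cases o' with
        | none => exact absurd (hTinj _ v h) hv
        | some j =>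
          simp only [Option.elim_some] at h
          congr 1
          apply Fin.ext
          wlog hle : (i : ℕ) ≤ j generalizing i j
          · exact (this j i h.symm (le_of_not_ge hle)).symm
          by_contra hne
          have h1 : (T ^ ((j : ℕ) - i) : AddMonoid.End M) ((T ^ (i : ℕ) : AddMonoid.End M) v) =
              (T ^ (i : ℕ) : AddMonoid.End M) v := by
            show (T ^ ((j : ℕ) - i) * T ^ (i : ℕ) : AddMonoid.End M) v = _
            rw [← pow_add, Nat.sub_add_cancel hle, h]
          exact hv (hTinj _ v (hfree _ (by omega) (by omega) _ h1))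
    obtain ⟨o, ho⟩ := hbij.2 w
    cases o with
    | none => exact Or.inl ho.symm
    | some k => exact Or.inr ⟨k, ho⟩
  obtain ⟨R, hR⟩ : ∃ R : Subring (AddMonoid.End M), R = Subring.closure {T} := ⟨_, rfl⟩
  have hTR : ∀ k : ℕ, T ^ k ∈ R := fun k => hR ▸ pow_mem (Subring.subset_closure (Set.mem_singleton T)) k
  have hcomm : ∀ r ∈ R, r * T = T * r := by
    intro r hr
    rw [hR] at hr
    induction hr using Subring.closure_induction with
    | mem x hx => rw [Set.mem_singleton_iff.1 hx]
    | zero => simp
    | one => simp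
    | add x z _ _ hx hz => rw [add_mul, mul_add, hx, hz]
    | neg x _ hx => rw [neg_mul, mul_neg, hx]
    | mul x z _ _ hx hz => rw [mul_assoc, hz, ← mul_assoc, hx, mul_assoc]
  have hcommR : ∀ r ∈ R, ∀ s ∈ R, r * s = s * r := by
    intro r hr s hs
    rw [hR] at hs
    induction hs using Subring.closure_induction with
    | mem x hx => rw [Set.mem_singleton_iff.1 hx]; exact hcomm r hr
    | zero => simp
    | one => simp
    | add x z _ _ hx hz => rw [add_mul, mul_add, hx, hz]
    | neg x _ hx => rw [neg_mul, mul_neg, hx]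
    | mul x z _ _ hx hz => rw [← mul_assoc, hx, mul_assoc, hz, ← mul_assoc]
  have hsurj : ∀ v : M, v ≠ 0 → ∀ w : M, ∃ r : R, (r : AddMonoid.End M) v = w := by
    intro v hv w
    rcases hcov v hv w with rfl | ⟨k, hk⟩
    · exact ⟨0, AddMonoidHom.zero_apply v⟩
    · exact ⟨⟨T ^ k, hTR k⟩, hk⟩
  have hinjR : ∀ v : M, v ≠ 0 → ∀ r : R, (r : AddMonoid.End M) v = 0 → r = 0 := by
    intro v hv r hr
    apply Subtype.ext
    apply AddMonoidHom.ext
    intro w
    obtain ⟨s, rfl⟩ := hsurj v hv w
    show ((r : AddMonoid.End M) * (s : AddMonoid.End M)) v = 0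
    rw [hcommR _ r.2 _ s.2]
    show (s : AddMonoid.End M) ((r : AddMonoid.End M) v) = 0
    rw [hr, map_zero]
  haveI : Finite (AddMonoid.End M) :=
    Finite.of_injective (fun f : AddMonoid.End M => (f : M → M)) DFunLike.coe_injective
  letI : CommRing R := { (inferInstance : Ring R) with mul_comm := fun r s => Subtype.ext (hcommR _ r.2 _ s.2) }
  have h10 : (1 : R) ≠ 0 := fun h => hx₁ (congrArg (fun r : R => (r : AddMonoid.End M) x₁) h)
  have hdom : IsDomain R := by
    haveI : Nontrivial R := ⟨⟨1, 0, h10⟩⟩
    haveI : NoZeroDivisors R := ⟨fun {r s} h => by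
      by_contra hc
      push Not at hc
      have hs : (s : AddMonoid.End M) x₁ ≠ 0 := fun h' => hc.2 (hinjR x₁ hx₁ s h')
      exact hc.1 (hinjR _ hs r (congrArg (fun r : R => (r : AddMonoid.End M) x₁) h))⟩
    exact NoZeroDivisors.to_isDomain R
  let ev : R → M := fun r => (r : AddMonoid.End M) x₁
  have evinj : Function.Injective ev := fun r s h =>
    sub_eq_zero.1 (hinjR x₁ hx₁ _ (sub_eq_zero.2 h))
  have evadd : ∀ r s, ev (r + s) = ev r + ev s := fun r s => rfl
  have h2R : (2 : R) = 0 := by
    rw [← one_add_one_eq_two]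
    exact evinj (h2 x₁)
  choose back hback using hsurj x₁ hx₁
  let B : R → R → R := fun r s => back (β (ev r) (ev s))
  have evB : ∀ r s, ev (B r s) = β (ev r) (ev s) := fun r s => hback _
  have hTk : ∀ (k : ℕ) v w, β ((T ^ k : AddMonoid.End M) v) ((T ^ k : AddMonoid.End M) w) =
      (T ^ k : AddMonoid.End M) (β v w) := by
    intro k
    induction k with
    | zero => intro v w; rfl
    | succ k ih =>
      intro v w
      rw [pow_succ']
      show β (T _) (T _) = T _
      rw [hT]
      exact congrArg T (ih v w)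
  have hz : ∀ r s, B r s = 0 := form_zero_of_domain h2R B
    (fun r s t => evinj (by rw [evadd, evB, evB, evB, evadd, hadd]))
    (fun r s t => evinj (by rw [evadd, evB, evB, evB, evadd, hadd']))
    (fun r => evinj (by rw [evB, hself]; rfl)) (fun c r s => by
      apply evinj
      rw [evB]
      show β ((c : AddMonoid.End M) (ev r)) ((c : AddMonoid.End M) (ev s)) = (c : AddMonoid.End M) (ev (B r s))
      rw [evB]
      rcases hcov x₁ hx₁ (ev c) with h | ⟨k, hk⟩
      · have hc : c = 0 := hinjR x₁ hx₁ c h
        subst hc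
        exact hself 0
      · have hc : (⟨T ^ k, hTR k⟩ : R) = c := evinj hk
        subst hc
        exact hTk k _ _)
  have := evB (back x₁) (back y₁)
  rw [hz] at this
  simp only [ev, hback] at this
  exact this.symm


/-- Let U be a group of order q² with q = 2^n ≥ 2, and y an automorphism of U of order q − 1 all of whose nontrivial powers fix only the identity. Let V be a proper normal y-invariant subgroup of U such that V and U/V are elementary abelian 2-groups and there is an isomorphism from V to U/V commuting with the actions of y. Then U is abelian. -/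
theorem result {U : Type*} [Group U] [Finite U] (n : ℕ) (hn : 1 ≤ n) (hU : Nat.card U = (2 ^ n) ^ 2)
    (y : MulAut U) (hy : orderOf y = 2 ^ n - 1) (hfp : ∀ k : ℕ, y ^ k ≠ 1 → ∀ u : U, (y ^ k) u = u → u = 1)
    (V : Subgroup U) [V.Normal] (hV : V ≠ ⊤) (hyV : ∀ v ∈ V, y v ∈ V)
    (hVe : ∀ v ∈ V, v ^ 2 = 1) (hQe : ∀ u : U, u ^ 2 ∈ V) (hQc : ∀ u w : U, u * w * u⁻¹ * w⁻¹ ∈ V)
    (φ : ↥V ≃* U ⧸ V) (hφ : ∀ (v : ↥V) (u : U), (QuotientGroup.mk u : U ⧸ V) = φ v → φ ⟨y v, hyV v v.2⟩ = QuotientGroup.mk (y u)) :
    IsMulCommutative U := by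
  haveI : IsMulCommutative ↥V := ⟨⟨fun a b => Subtype.ext (by
    have ha := hVe a a.2; have hb := hVe b b.2; have hab := hVe _ (mul_mem a.2 b.2)
    rw [pow_two] at ha hb hab
    show (a : U) * b = b * a
    rw [eq_inv_of_mul_eq_one_left hab, mul_inv_rev, inv_eq_of_mul_eq_one_left ha, inv_eq_of_mul_eq_one_left hb])⟩⟩
  have hq : Nat.card ↥V = 2 ^ n := by
    have h1 := V.card_mul_index
    rw [Subgroup.index_eq_card, ← Nat.card_congr φ.toEquiv, hU, ← pow_two] at h1
    exact Nat.pow_left_injective (by norm_num) h1
  -- `V` is central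
  have hVcentral : ∀ g : U, ∀ v ∈ V, g * v * g⁻¹ = v := by
    intro g
    by_contra! hcon
    obtain ⟨v, hv, hne⟩ := hcon
    -- a two-group moves its normal subgroup into a fixed point
    have hUp : IsPGroup 2 U := IsPGroup.of_card (n := n * 2) (by rw [hU, ← pow_mul])
    have hVne : V ≠ ⊥ := fun h => hne (by
      rw [h, Subgroup.mem_bot] at hv; rw [hv]; group)
    haveI : Fact (Nat.Prime 2) := ⟨Nat.prime_two⟩
    have hz := Cfsg.Agent.PGroup.inf_center_ne_bot hUp (N := V) hVne
    obtain ⟨z, hz, hz1⟩ := (Subgroup.bot_or_exists_ne_one _).resolve_left hz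
    -- `y` moves the nontrivial elements of `V` transitively
    have hall : ∀ w ∈ V, w ≠ 1 → ∃ k : ℕ, (y ^ k) z = w := by
      intro w hw hw1
      by_contra! hk
      have hinj : Function.Injective (fun k : Fin (2 ^ n - 1) => (y ^ (k : ℕ)) z) := by
        intro i j hij
        simp only at hij
        apply Fin.ext
        wlog hle : (i : ℕ) ≤ j generalizing i j
        · exact (this hij.symm (le_of_not_ge hle)).symm
        have h1 : (y ^ ((j : ℕ) - i)) ((y ^ (i : ℕ)) z) = (y ^ (i : ℕ)) z := by
          rw [← MulAut.mul_apply, ← pow_add, Nat.sub_add_cancel hle, hij]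
        by_contra hne'
        have h2 : y ^ ((j : ℕ) - i) ≠ 1 := by
          intro h
          have := orderOf_dvd_of_pow_eq_one h
          rw [hy] at this
          have h3 := Nat.le_of_dvd (by omega) this
          omega
        exact hz1 ((MulEquiv.map_eq_one_iff _).1 (hfp _ h2 _ h1))
      have hmem : ∀ k : ℕ, (y ^ k) z ∈ V := by
        intro k
        induction k with
        | zero => simpa using hz.1
        | succ k ih => rw [pow_succ', MulAut.mul_apply]; exact hyV _ ih
      let g' : Fin (2 ^ n - 1) ⊕ Bool → ↥V := Sum.elim (fun k => ⟨(y ^ (k : ℕ)) z, hmem k⟩)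
        (fun b => if b then ⟨w, hw⟩ else 1)
      have hg : Function.Injective g' := by
        refine Function.Injective.sumElim (fun i j h => hinj (congrArg Subtype.val h)) ?_ ?_
        · intro a b h
          have h' := congrArg Subtype.val h
          cases a <;> cases b
          · rfl
          · exact absurd h'.symm hw1
          · exact absurd h' hw1
          · rfl
        · intro k b h
          cases b
          · exact hz1 ((MulEquiv.map_eq_one_iff _).1 (congrArg Subtype.val h))
          · exact hk k (congrArg Subtype.val h)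
      have := Nat.card_le_card_of_injective g' hg
      rw [hq, Nat.card_sum] at this
      simp only [Nat.card_eq_fintype_card, Fintype.card_fin, Fintype.card_bool] at this
      omega
    have hcen : ∀ k : ℕ, (y ^ k) z ∈ Subgroup.center U := by
      intro k
      rw [Subgroup.mem_center_iff]
      intro u
      obtain ⟨u', rfl⟩ := (y ^ k).surjective u
      rw [← map_mul, ← map_mul, Subgroup.mem_center_iff.1 hz.2 u']
    have hv1 : v ≠ 1 := fun h => hne (by rw [h]; group)
    obtain ⟨k, rfl⟩ := hall v hv hv1
    exact hne (by rw [Subgroup.mem_center_iff.1 (hcen k) g, mul_inv_cancel_right])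
  -- the commutator as a form on `V` (via `φ`)
  let lift : ↥V → U := fun v => (φ v).out
  have hlift : ∀ v, (QuotientGroup.mk (lift v) : U ⧸ V) = φ v := fun v => Quotient.out_eq _
  let com : U → U → U := fun u w => u * w * u⁻¹ * w⁻¹
  have com1 : ∀ u u' w, com (u * u') w = com u w * com u' w := by
    intro u u' w
    have h := hVcentral u _ (hQc u' w)
    have e : com (u * u') w = (u * com u' w * u⁻¹) * com u w := by simp only [com]; group
    rw [e]
    simp only [com] at h ⊢
    rw [h]
    exact congrArg Subtype.val (mul_comm' (⟨_, hQc u' w⟩ : ↥V) ⟨_, hQc u w⟩)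
  have com2 : ∀ u w w', com u (w * w') = com u w * com u w' := by
    intro u w w'
    have e : com u (w * w') = com u w * (w * com u w' * w⁻¹) := by simp only [com]; group
    rw [e]
    simp only [com]
    rw [hVcentral w _ (hQc u w')]
  have comV : ∀ u w v, v ∈ V → com (u * v) w = com u w ∧ com u (w * v) = com u w := by
    intro u w v hv
    have h1 : com v w = 1 := by
      simp only [com]; rw [show v * w * v⁻¹ * w⁻¹ = v * (w * v⁻¹ * w⁻¹) by group, hVcentral w _ (inv_mem hv), mul_inv_cancel]
    have h2 : com u v = 1 := by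
      simp only [com]; rw [hVcentral u v hv, mul_inv_cancel]
    rw [com1, com2, h1, h2, mul_one]
    exact ⟨rfl, rfl⟩
  have comwd : ∀ u u' w w' : U, (QuotientGroup.mk u : U ⧸ V) = QuotientGroup.mk u' →
      (QuotientGroup.mk w : U ⧸ V) = QuotientGroup.mk w' → com u w = com u' w' := by
    intro u u' w w' hu hw
    have hu' := QuotientGroup.eq.1 hu
    have hw' := QuotientGroup.eq.1 hw
    rw [show u' = u * (u⁻¹ * u') by group, show w' = w * (w⁻¹ * w') by group,
      (comV _ _ _ hu').1, (comV _ _ _ hw').2]
  let b : ↥V → ↥V → ↥V := fun v w => ⟨com (lift v) (lift w), hQc _ _⟩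
  have b1 : ∀ v v' w, b (v * v') w = b v w * b v' w := fun v v' w => Subtype.ext (by
    show com _ _ = com _ _ * com _ _
    rw [← com1]
    exact comwd _ _ _ _ (by rw [QuotientGroup.mk_mul, hlift, hlift, hlift, map_mul]) rfl)
  have b2 : ∀ v w w', b v (w * w') = b v w * b v w' := fun v w w' => Subtype.ext (by
    show com _ _ = com _ _ * com _ _
    rw [← com2]
    exact comwd _ _ _ _ rfl (by rw [QuotientGroup.mk_mul, hlift, hlift, hlift, map_mul]))
  let σ : ↥V → ↥V := fun v => ⟨y v, hyV v v.2⟩
  have bσ : ∀ v w, b (σ v) (σ w) = σ (b v w) := fun v w => Subtype.ext (by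
    show com _ _ = y (com _ _)
    rw [show y (com (lift v) (lift w)) = com (y (lift v)) (y (lift w)) by simp [com]]
    exact comwd _ _ _ _ (by rw [hlift]; exact hφ v _ (hlift v)) (by rw [hlift]; exact hφ w _ (hlift w)))
  -- the transfer to additive notation
  letI : CommGroup ↥V := { (inferInstance : Group ↥V) with mul_comm := fun a c => mul_comm' a c }
  let T : AddMonoid.End (Additive ↥V) :=
    { toFun := fun v => Additive.ofMul (σ (Additive.toMul v))
      map_zero' := congrArg Additive.ofMul (Subtype.ext (map_one y))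
      map_add' := fun v w => congrArg Additive.ofMul (Subtype.ext (map_mul y _ _)) }
  have hTk : ∀ (k : ℕ) (v : Additive ↥V), ((Additive.toMul ((T ^ k : AddMonoid.End (Additive ↥V)) v) : ↥V) : U) =
      (y ^ k) ((Additive.toMul v : ↥V) : U) := by
    intro k
    induction k with
    | zero => intro v; rfl
    | succ k ih =>
      intro v
      rw [pow_succ', pow_succ']
      exact congrArg y (ih v)
  have hb0 : ∀ v w : Additive ↥V, Additive.ofMul (b (Additive.toMul v) (Additive.toMul w)) = 0 := by
    refine core T (2 ^ n - 1) ?_ ?_ ?_ ?_ _ (fun v v' w => congrArg Additive.ofMul (b1 _ _ _))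
      (fun v w w' => congrArg Additive.ofMul (b2 _ _ _)) ?_ (fun v w => congrArg Additive.ofMul (bσ _ _))
    · show Nat.card ↥V = _
      rw [hq]
      have := Nat.one_le_two_pow (n := n)
      omega
    · intro v
      refine congrArg Additive.ofMul (Subtype.ext ?_)
      have := hVe _ (Additive.toMul v : ↥V).2
      rwa [pow_two] at this
    · intro v hv
      have := congrArg (fun v : Additive ↥V => ((Additive.toMul v : ↥V) : U)) hv
      exact congrArg Additive.ofMul (Subtype.ext ((MulEquiv.map_eq_one_iff y).1 this))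
    · intro k hk0 hk v hv
      have := congrArg (fun v : Additive ↥V => ((Additive.toMul v : ↥V) : U)) hv
      rw [hTk] at this
      refine congrArg Additive.ofMul (Subtype.ext (hfp k ?_ _ this))
      intro h
      have h' := orderOf_dvd_of_pow_eq_one h
      rw [hy] at h'
      exact absurd (Nat.le_of_dvd hk0 h') (by omega)
    · intro v
      exact congrArg Additive.ofMul (Subtype.ext (by simp [b, com]))
  refine ⟨⟨fun u w => ?_⟩⟩
  obtain ⟨v, hv⟩ := φ.surjective (QuotientGroup.mk u)
  obtain ⟨v', hv'⟩ := φ.surjective (QuotientGroup.mk w)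
  have := congrArg Subtype.val (congrArg Additive.toMul (hb0 (Additive.ofMul v) (Additive.ofMul v')))
  have h3 : com u w = 1 := by
    rw [comwd u (lift v) w (lift v') (by rw [hlift, hv]) (by rw [hlift, hv'])]
    exact this
  exact mul_inv_eq_one.1 (by simpa [com, mul_inv_rev, mul_assoc] using h3)

end Cfsg.Agent.S3158
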