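import Cfsg.Statements.S3161
import Cfsg.Agent.InvChar.FixedTransitiveForm
import Cfsg.Agent.InvChar.FormModelsUnitary

set_option autoImplicit false
open Cfsg

namespace Cfsg.Agent.S3161

/-- Let Q be a non-abelian finite 2-group admitting commuting automorphisms α of order 2 and ρ of order 2^n − 1, where n ≥ 2, such that the fixed points of α form an elementary abelian subgroup of order 2^n on whose nonidentity elements the group generated by ρ acts transitively. Then Q is isomorphic to a Sylow 2-subgroup of the projective special unitary group of dimension 3 with parameter 2^n (realised over the field with 4^n elements) or of the projective special linear group of dimension 3 over the field with 2^n elements. -/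
theorem result {Q : Type*} [Group Q] [Finite Q] (hQ : IsPGroup 2 Q) (hna : ¬ IsMulCommutative Q) (n : ℕ) (hn : 2 ≤ n)
    (α ρ : MulAut Q) (hα : orderOf α = 2) (hρ : orderOf ρ = 2 ^ n - 1) (hc : Commute α ρ)
    (C : Subgroup Q) (hC : ∀ x : Q, x ∈ C ↔ α x = x) (hCE : Cfsg.IsElementaryAbelian 2 C ∧ Nat.card ↥C = 2 ^ n)
    (htr : ∀ x y : Q, x ∈ C → y ∈ C → x ≠ 1 → y ≠ 1 → ∃ k : ℕ, (ρ ^ k) x = y) :
    (∃ (F : Type) (_ : Field F) (_ : Fintype F), Fintype.card F = 4 ^ n ∧
        ∃ S : Sylow 2 (Cfsg.PSU 3 F (2 ^ n)), Nonempty (Q ≃* ↥(S : Subgroup (Cfsg.PSU 3 F (2 ^ n))))) ∨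
      (∃ (F : Type) (_ : Field F) (_ : Fintype F), Fintype.card F = 2 ^ n ∧
        ∃ S : Sylow 2 (Matrix.ProjectiveSpecialLinearGroup (Fin 3) F), Nonempty (Q ≃* ↥(S : Subgroup (Matrix.ProjectiveSpecialLinearGroup (Fin 3) F)))) := by
  classical
  have hcard := hCE.2
  have hsq : ∀ x ∈ C, x * x = 1 := fun x hx => by rw [← pow_two]; exact hCE.1.2 x hx
  let D : Cfsg.Agent.InvChar.FixedDatum Q n :=
    { α := α
      ρ := ρ
      C := C
      αα := fun x => by
        have h : α ^ 2 = 1 := hα ▸ pow_orderOf_eq_one α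
        rw [← MulAut.mul_apply, ← pow_two, h, MulAut.one_apply]
      comm := fun x => DFunLike.congr_fun hc.eq x
      memC := hC
      sqC := hsq
      cardC := hcard
      trans := htr
      period := hρ ▸ pow_orderOf_eq_one ρ }
  have hnc : ∃ x y : Q, x * y ≠ y * x := by
    by_contra! h
    exact hna ⟨⟨h⟩⟩
  obtain ⟨u, v, emb, k, ε, h1, h2, h3, h4, h5, h6, h7, h8, h9⟩ := D.exists_form hn hQ hnc
  haveI : Fintype (GaloisField 2 n) := Fintype.ofFinite _
  have hS : Cfsg.Agent.InvChar.SquareForm u v emb k ε := ⟨h1, h2, h3, h4, h5, h6, h7, h8, h9⟩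
  have hF : Fintype.card (GaloisField 2 n) = 2 ^ n := by
    rw [← Nat.card_eq_fintype_card, GaloisField.card 2 n (by omega)]
  by_cases h : ∃ r : GaloisField 2 n, r * r + r = ε
  · obtain ⟨r, hr⟩ := h
    exact Or.inr ⟨GaloisField 2 n, inferInstance, inferInstance, hF, hS.psl r hr⟩
  · push Not at h
    exact Or.inl (hS.psu (by omega) hF h)

end Cfsg.Agent.S3161
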