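import Cfsg.Statements.S3162
import Cfsg.Agent.InvChar.UnitaryTwoAut

set_option autoImplicit false
open Cfsg

namespace Cfsg.Agent.S3162

/-- Let S be a Sylow 2-subgroup of the special unitary group of dimension 3 with parameter q = 2^n (n ≥ 2; realised over the field with q² elements). Then the largest normal 2-subgroup of the automorphism group of S is elementary abelian of order 2^(2n²), and the automorphism group has order 2^(2n²) · 2n(q² − 1). -/
theorem result {S : Type*} [Group S] [Finite S] (n : ℕ) (hn : 2 ≤ n) {F : Type*} [Field F] [Fintype F] (hF : Fintype.card F = 4 ^ n)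
    (P : Sylow 2 ↥(Cfsg.SU 3 F (2 ^ n))) (hS : Nonempty (S ≃* ↥(P : Subgroup ↥(Cfsg.SU 3 F (2 ^ n))))) :
    Cfsg.IsElementaryAbelian 2 (Cfsg.pCore 2 (MulAut S)) ∧ Nat.card ↥(Cfsg.pCore 2 (MulAut S)) = 2 ^ (2 * n ^ 2) ∧
      Nat.card (MulAut S) = 2 ^ (2 * n ^ 2) * (2 * n * ((2 ^ n) ^ 2 - 1)) := by
  classical
  have hq : Fintype.card F = (2 ^ n) ^ 2 := by rw [hF, ← pow_mul, mul_comm, pow_mul]; norm_num
  obtain ⟨P₀, φ, ι, ν, hM, hchar⟩ := Cfsg.Agent.TwoFusionB.exists_hModel hq (by omega : 1 ≤ n) rfl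
  haveI := hchar
  haveI : Fact (Nat.Prime 2) := ⟨Nat.prime_two⟩
  obtain ⟨e₀⟩ := hS
  let e := e₀.trans (P.equiv P₀)
  have hM' : Cfsg.Agent.TwoFusionB.HModel S F (2 ^ n) (φ ∘ e) (e.symm ∘ ι) ν := by
    refine ⟨fun a b => ?_, hM.φ_surj.comp e.surjective, fun a => ?_, fun a b ha hb => ?_,
      fun a b ha hb h => hM.ι_inj a b ha hb (e.symm.injective h), fun c hc => ?_, fun a => ?_,
      fun a b => ?_, hM.ν_fix, hM.ν_ne⟩
    · simp only [Function.comp_apply, map_mul, hM.φ_mul]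
    · simp only [Function.comp_apply, hM.φ_zero, MulEquiv.eq_symm_apply]
    · simp only [Function.comp_apply, hM.ι_mul a b ha hb, map_mul]
    · refine Subgroup.mem_center_iff.2 fun g => e.injective ?_
      simp only [Function.comp_apply, map_mul, MulEquiv.apply_symm_apply]
      exact Subgroup.mem_center_iff.1 (hM.ι_cent c hc) _
    · simp only [Function.comp_apply, MulEquiv.eq_symm_apply, map_mul, hM.sq]
    · simp only [Function.comp_apply, MulEquiv.eq_symm_apply, map_mul, map_inv, hM.comm]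
  refine ⟨?_, ?_, Cfsg.Agent.InvChar.card_mulAut hq hM' rfl⟩
  · rw [Cfsg.Agent.InvChar.pCore_mulAut hq hM' (by omega : 1 ≤ n) rfl]
    exact Cfsg.Agent.InvChar.ker_isElementaryAbelian hq hM'
  · rw [Cfsg.Agent.InvChar.pCore_mulAut hq hM' (by omega : 1 ≤ n) rfl]
    exact Cfsg.Agent.InvChar.ker_card hq hM' rfl

end Cfsg.Agent.S3162
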