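import Cfsg.Statements.S3163

set_option autoImplicit false
open Cfsg

namespace Cfsg.Agent.S3163
lemma commute_of {S : Type*} [Group S] {B : Subgroup S} (hB : IsMulCommutative ↥B) {a b : S}
    (ha : a ∈ B) (hb : b ∈ B) : a * b = b * a :=
  congrArg Subtype.val (hB.is_comm.comm (⟨a, ha⟩ : B) ⟨b, hb⟩)

lemma mem_cent {S : Type*} [Group S] {a x : S} :
    x ∈ Subgroup.centralizer ({a} : Set S) ↔ a * x = x * a := by
  simp [Subgroup.mem_centralizer_iff]

lemma card_le_of_inf {S : Type*} [Group S] [Finite S] (A B C : Subgroup S)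
    (hAB : ∀ s : S, ∃ a ∈ A, ∃ b ∈ B, s = a * b) (h : C ⊓ B ≤ A ⊓ B) :
    Nat.card ↥C ≤ Nat.card ↥A := by
  classical
  choose fa hfa fb hfb heq using hAB
  set Z := A ⊓ B with hZ
  -- send a coset of `C ∩ B` in `C` to the coset of `A ∩ B` in `A` with the same image in `S / B`
  let f : (↥C ⧸ B.subgroupOf C) → (↥A ⧸ B.subgroupOf A) := fun q =>
    QuotientGroup.mk (⟨fa (q.out : S), hfa _⟩ : ↥A)
  have hf : Function.Injective f := by
    intro q r hqr
    rw [← q.out_eq, ← r.out_eq]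
    apply QuotientGroup.eq.2
    rw [Subgroup.mem_subgroupOf]
    have h1 := Subgroup.mem_subgroupOf.1 (QuotientGroup.eq.1 hqr)
    simp only [Subgroup.coe_mul, Subgroup.coe_inv] at h1 ⊢
    rw [heq (q.out : S), heq (r.out : S), mul_inv_rev, mul_assoc, ← mul_assoc _ _ (fb _)]
    exact mul_mem (inv_mem (hfb _)) (mul_mem h1 (hfb _))
  have h1 : Nat.card ↥(B.subgroupOf C) ≤ Nat.card ↥(B.subgroupOf A) := by
    have e : ∀ K : Subgroup S, Nat.card ↥(B.subgroupOf K) = Nat.card ↥(K ⊓ B) := by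
      intro K
      rw [← Subgroup.card_map_of_injective K.subtype_injective, Subgroup.subgroupOf_map_subtype, inf_comm]
    rw [e, e]
    exact Subgroup.card_le_of_le (le_trans (le_inf (le_trans h inf_le_left) inf_le_right) le_rfl)
  rw [(B.subgroupOf C).card_eq_card_quotient_mul_card_subgroup,
    (B.subgroupOf A).card_eq_card_quotient_mul_card_subgroup]
  exact Nat.mul_le_mul (Nat.card_le_card_of_injective f hf) h1


/-- Let S be a non-abelian finite 2-group which is the product S = AB of two elementary abelian subgroups A and B, and suppose that the centralizer in S of every element of A outside B is exactly A. Then the centralizer of every element of B outside A is exactly B; A and B are maximal elementary abelian subgroups of S and the only ones; the centre of S is A ∩ B; and every element of S outside A ∪ B has centralizer of order at most min(|A|, |B|). -/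
theorem result {S : Type*} [Group S] [Finite S] (hS : IsPGroup 2 S) (hna : ¬ IsMulCommutative S) (A B : Subgroup S)
    (hA : Cfsg.IsElementaryAbelian 2 A) (hB : Cfsg.IsElementaryAbelian 2 B) (hAB : ∀ s : S, ∃ a ∈ A, ∃ b ∈ B, s = a * b)
    (hC : ∀ a ∈ A, a ∉ B → Subgroup.centralizer ({a} : Set S) = A) :
    (∀ b ∈ B, b ∉ A → Subgroup.centralizer ({b} : Set S) = B) ∧
      (∀ E : Subgroup S, Cfsg.IsElementaryAbelian 2 E → (∀ E' : Subgroup S, Cfsg.IsElementaryAbelian 2 E' → E ≤ E' → E' = E) → E = A ∨ E = B) ∧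
      (∀ E' : Subgroup S, Cfsg.IsElementaryAbelian 2 E' → A ≤ E' → E' = A) ∧ (∀ E' : Subgroup S, Cfsg.IsElementaryAbelian 2 E' → B ≤ E' → E' = B) ∧
      Subgroup.center S = A ⊓ B ∧
      (∀ x : S, x ∉ A → x ∉ B → Nat.card ↥(Subgroup.centralizer ({x} : Set S)) ≤ min (Nat.card ↥A) (Nat.card ↥B)) := by
  have cB := fun {a b : S} (ha : a ∈ B) (hb : b ∈ B) => commute_of hB.1 ha hb
  have cA := fun {a b : S} (ha : a ∈ A) (hb : b ∈ A) => commute_of hA.1 ha hb
  have hCA : ∀ {a y : S}, a ∈ A → a ∉ B → a * y = y * a → y ∈ A := fun {a y} ha haB h =>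
    hC a ha haB ▸ mem_cent.2 h
  have hnAB : ¬ A ≤ B := by
    intro hle
    refine hna ⟨⟨fun x y => ?_⟩⟩
    obtain ⟨a, ha, b, hb, rfl⟩ := hAB x
    obtain ⟨a', ha', b', hb', rfl⟩ := hAB y
    exact cB (mul_mem (hle ha) hb) (mul_mem (hle ha') hb')
  obtain ⟨a₀, ha₀, ha₀B⟩ := SetLike.not_le_iff_exists.1 hnAB
  have hnBA : ¬ B ≤ A := by
    intro hle
    refine hna ⟨⟨fun x y => ?_⟩⟩
    obtain ⟨a, ha, b, hb, rfl⟩ := hAB x
    obtain ⟨a', ha', b', hb', rfl⟩ := hAB y
    exact cA (mul_mem ha (hle hb)) (mul_mem ha' (hle hb'))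
  obtain ⟨b₀, hb₀, hb₀A⟩ := SetLike.not_le_iff_exists.1 hnBA
  have hCB : ∀ {b y : S}, b ∈ B → b ∉ A → b * y = y * b → y ∈ B := by
    intro b y hb hbA h
    obtain ⟨a, ha, b', hb', rfl⟩ := hAB y
    by_cases haB : a ∈ B
    · exact mul_mem haB hb'
    · refine absurd (hCA ha haB ?_) hbA
      have h2 : b' * b = b * b' := cB hb' hb
      have : b * a * b' = a * b * b' := by rw [mul_assoc, h, mul_assoc, h2, ← mul_assoc]
      exact (mul_right_cancel this).symm
  have hAmax : ∀ E' : Subgroup S, Cfsg.IsElementaryAbelian 2 E' → A ≤ E' → E' = A := fun E' hE hle =>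
    le_antisymm (fun y hy => hCA ha₀ ha₀B (commute_of hE.1 (hle ha₀) hy)) hle
  have hBmax : ∀ E' : Subgroup S, Cfsg.IsElementaryAbelian 2 E' → B ≤ E' → E' = B := fun E' hE hle =>
    le_antisymm (fun y hy => hCB hb₀ hb₀A (commute_of hE.1 (hle hb₀) hy)) hle
  refine ⟨fun b hb hbA => ?_, fun E hE hmax => ?_, hAmax, hBmax, ?_, fun x hxA hxB => ?_⟩
  · ext y
    exact ⟨fun h => hCB hb hbA (mem_cent.1 h), fun h => mem_cent.2 (cB hb h)⟩
  · by_cases h1 : ∃ a ∈ E, a ∈ A ∧ a ∉ B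
    · obtain ⟨a, haE, haA, haB⟩ := h1
      exact Or.inl (hmax A hA fun y hy => hCA haA haB (commute_of hE.1 haE hy)).symm
    by_cases h2 : ∃ b ∈ E, b ∈ B ∧ b ∉ A
    · obtain ⟨b, hbE, hbB, hbA⟩ := h2
      exact Or.inr (hmax B hB fun y hy => hCB hbB hbA (commute_of hE.1 hbE hy)).symm
    push Not at h1 h2
    refine Or.inl (hmax A hA fun e he => ?_).symm
    by_contra heA
    obtain ⟨a, ha, b, hb, rfl⟩ := hAB e
    have haB : a ∉ B := fun haB => heA (h2 _ he (mul_mem haB hb))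
    have h3 := hE.2 _ he
    have a2 := hA.2 a ha
    have b2 := hB.2 b hb
    rw [pow_two] at h3 a2 b2
    have hab : a * b = b * a := by
      have : a * b = (a * b)⁻¹ := eq_inv_of_mul_eq_one_left h3
      rwa [mul_inv_rev, inv_eq_of_mul_eq_one_left a2, inv_eq_of_mul_eq_one_left b2] at this
    exact heA (mul_mem ha (hCA ha haB hab))
  · ext z
    rw [Subgroup.mem_center_iff, Subgroup.mem_inf]
    constructor
    · exact fun h => ⟨hCA ha₀ ha₀B (h a₀), hCB hb₀ hb₀A (h b₀)⟩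
    · rintro ⟨hzA, hzB⟩ g
      obtain ⟨a, ha, b, hb, rfl⟩ := hAB g
      rw [mul_assoc, cB hb hzB, ← mul_assoc, cA ha hzA, mul_assoc]
  · have hAB' : ∀ s : S, ∃ b ∈ B, ∃ a ∈ A, s = b * a := fun s => by
      obtain ⟨a, ha, b, hb, h⟩ := hAB s⁻¹
      exact ⟨b⁻¹, inv_mem hb, a⁻¹, inv_mem ha, by rw [← mul_inv_rev, ← h, inv_inv]⟩
    have hiA : Subgroup.centralizer ({x} : Set S) ⊓ B ≤ A ⊓ B := by
      rintro y ⟨hy, hyB⟩
      refine ⟨?_, hyB⟩
      by_contra hyA
      exact hxB (hCB hyB hyA (mem_cent.1 hy).symm)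
    have hiB : Subgroup.centralizer ({x} : Set S) ⊓ A ≤ B ⊓ A := by
      rintro y ⟨hy, hyA⟩
      refine ⟨?_, hyA⟩
      by_contra hyB
      exact hxA (hCA hyA hyB (mem_cent.1 hy).symm)
    exact le_min (card_le_of_inf A B _ hAB hiA) (card_le_of_inf B A _ hAB' hiB)

end Cfsg.Agent.S3163
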