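import Cfsg.Statements.S3166
import Mathlib.Algebra.BigOperators.Ring.Nat
import Mathlib.Tactic
import Mathlib.Algebra.Ring.GeomSum

set_option autoImplicit false
open Cfsg

namespace Cfsg.Agent.S3166
private lemma aux (q p k : ℕ) (hq : 2 ≤ q) (hp : p = k * q + 1) (hk : 1 ≤ k)
    (h : q ^ 4 + q ^ 2 + 1 = p ^ 3 + q ^ 3 + q) : q ≤ 8 := by
  subst hp
  have h1 : k ^ 3 < q := by
    by_contra hc
    have : q * q ^ 3 ≤ k ^ 3 * q ^ 3 := Nat.mul_le_mul_right _ (not_lt.1 hc)
    nlinarith [Nat.mul_le_mul (le_refl (q^2)) hq, mul_pos (Nat.pos_of_ne_zero (by omega : k ≠ 0)) (by omega : 0 < q), Nat.zero_le (k^2*q^2)]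
  have h2 : q ∣ 3 * k + 1 := by
    have h2' : 3 * k + 1 + q * (q + 3 * k ^ 2 + k ^ 3 * q) = q * (1 + q ^ 2) := by
      have : q * (3 * k + 1 + q * (q + 3 * k ^ 2 + k ^ 3 * q)) = q * (q * (1 + q ^ 2)) := by linear_combination -h
      exact Nat.eq_of_mul_eq_mul_left (by omega) this
    exact (Nat.dvd_add_left (dvd_mul_right q _)).1 (h2' ▸ dvd_mul_right q _)
  have h3 : q ≤ 3 * k + 1 := Nat.le_of_dvd (by omega) h2
  rcases Nat.lt_or_ge k 3 with hk3 | hk3
  · omega
  · nlinarith [Nat.mul_le_mul (Nat.mul_le_mul hk3 hk3) (le_refl k)]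

private lemma no_small (p : ℕ) : p ^ 3 ≠ 11 ∧ p ^ 3 ≠ 205 ∧ p ^ 3 ≠ 3641 := by
  rcases Nat.lt_or_ge p 16 with hp | hp
  · interval_cases p <;> norm_num
  · have := Nat.pow_le_pow_left hp 3
    norm_num at this
    omega


/-- Let q = 2^n with n ≥ 1. If q⁴ − q³ + q² − q + 1 is a power p^m of a prime p, then m = 1: the value is never a prime power with exponent greater than 1. -/
theorem result (n p m : ℕ) (hn : 1 ≤ n) (hp : p.Prime) (h : (2 ^ n) ^ 4 - (2 ^ n) ^ 3 + (2 ^ n) ^ 2 - 2 ^ n + 1 = p ^ m) : m = 1 := by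
  obtain ⟨q, hq⟩ : ∃ q, q = 2 ^ n := ⟨_, rfl⟩
  rw [← hq] at h
  have hq2 : 2 ≤ q := hq ▸ (Nat.le_self_pow (by omega) 2)
  have b1 : q ^ 3 ≤ q ^ 4 := Nat.pow_le_pow_right (by omega) (by norm_num)
  have b2 : q ≤ q ^ 2 := Nat.le_self_pow (by norm_num) q
  have hN : q ^ 4 + q ^ 2 + 1 = p ^ m + q ^ 3 + q := by omega
  rcases Nat.even_or_odd m with ⟨j, hj⟩ | ⟨j, hj⟩
  · exfalso
    obtain ⟨y, hy⟩ : ∃ y, p ^ m = y * y := ⟨p ^ j, by rw [hj, pow_add]⟩
    obtain ⟨r, rfl⟩ : ∃ r, q = 2 * r := ⟨2 ^ (n - 1), by rw [hq, ← pow_succ']; congr 1; omega⟩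
    rw [hy] at hN
    have hy' : ∀ t : ℕ, 4 * r ^ 2 = r + t → (y ≤ t ∨ t + 1 ≤ y) := fun t _ => by omega
    obtain ⟨t, ht⟩ : ∃ t, 4 * r ^ 2 = r + t := ⟨4 * r ^ 2 - r, by
      have : r ≤ 4 * r ^ 2 := le_trans (Nat.le_self_pow (by norm_num) r) (Nat.le_mul_of_pos_left _ (by norm_num))
      omega⟩
    rcases hy' t ht with hle | hle
    · nlinarith [Nat.mul_le_mul hle hle]
    · nlinarith [Nat.mul_le_mul hle hle]
  · rcases j with _ | j
    · omega
    exfalso
    have hf : p ^ m - 1 = q * ((q - 1) * (q ^ 2 + 1)) := by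
      obtain ⟨r, rfl⟩ : ∃ r, q = r + 1 := ⟨q - 1, by omega⟩
      have : p ^ m = (r + 1) * (r * ((r + 1) ^ 2 + 1)) + 1 := by linear_combination -hN
      rw [Nat.add_sub_cancel, this, Nat.add_sub_cancel]
    have hp1 : 1 ≤ p := hp.one_lt.le
    have hpodd : Odd p := by
      rcases Nat.even_or_odd p with he | ho
      · exfalso
        have he' : Even (p ^ m) := he.pow_of_ne_zero (by omega)
        have hqe : Even q := hq ▸ (Nat.even_pow.2 ⟨even_two, by omega⟩)
        have : Even (q ^ 4 + q ^ 2 + 1) := hN ▸ ((he'.add (hqe.pow_of_ne_zero (by norm_num))).add hqe)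
        rw [Nat.even_add_one] at this
        exact this ((hqe.pow_of_ne_zero (by norm_num)).add (hqe.pow_of_ne_zero (by norm_num)))
      · exact ho
    have hsum : (p - 1) * (∑ i ∈ Finset.range m, p ^ i) = p ^ m - 1 := by
      rw [mul_comm, geom_sum_mul_of_one_le hp1]
    have hoddsum : Odd (∑ i ∈ Finset.range m, p ^ i) := by
      rw [Finset.odd_sum_iff_odd_card_odd, Finset.filter_true_of_mem fun i _ => hpodd.pow, Finset.card_range]
      exact ⟨j + 1, hj⟩
    have hdvd : q ∣ p - 1 := by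
      have h1 : q ∣ (p - 1) * (∑ i ∈ Finset.range m, p ^ i) := by rw [hsum, hf]; exact dvd_mul_right _ _
      refine (Nat.Coprime.dvd_of_dvd_mul_right ?_ h1)
      rw [hq]
      exact (Nat.coprime_two_left.2 hoddsum).pow_left n
    obtain ⟨k, hk⟩ := hdvd
    have hp' : p = k * q + 1 := by rw [mul_comm] at hk; omega
    have hk1 : 1 ≤ k := by
      rcases Nat.eq_zero_or_pos k with rfl | h'
      · have := hp.one_lt; omega
      · exact h'
    rcases j with _ | j
    · have hm3 : m = 3 := by omega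
      subst hm3
      have h8 := aux q p k hq2 hp' hk1 hN
      have hq' : q = 2 ∨ q = 4 ∨ q = 8 := by
        have : n < 4 := by
          by_contra hc
          have := Nat.pow_le_pow_right (n := 2) (by norm_num) (not_lt.1 hc)
          omega
        interval_cases n <;> omega
      obtain ⟨a, b, c⟩ := no_small p
      rcases hq' with rfl | rfl | rfl <;> norm_num at hN <;> omega
    · have hge : q + 1 ≤ p := by
        have : q ≤ k * q := Nat.le_mul_of_pos_left q hk1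
        omega
      have : (q + 1) ^ 5 ≤ p ^ m := le_trans (Nat.pow_le_pow_left hge 5) (Nat.pow_le_pow_right (by omega) (by omega))
      nlinarith [Nat.pow_le_pow_left hq2 4, Nat.zero_le (q^5), Nat.zero_le (q^3)]

end Cfsg.Agent.S3166
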