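import Cfsg.Statements.S3169
import Cfsg.Agent.M24Type41.Step
import Cfsg.Agent.M24Type41.XGroup

set_option autoImplicit false
open Cfsg

namespace Cfsg.Agent.S3169

/-- Let P be a Sylow 2-subgroup of the Mathieu group of degree 24 and let G be a finite group with no nontrivial normal subgroup of odd order whose Sylow 2-subgroup S is isomorphic to the quotient of P by its centre. If A is an abelian subgroup of S of order 64 and is the only abelian subgroup of S of that order, then A is normal in G. -/
theorem result {G : Type*} [Group G] [Finite G]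
    (hO : Cfsg.oddCore G = ⊥) (S : Sylow 2 G) (P : Sylow 2 ↥Cfsg.M24)
    (hS : Nonempty (↥(S : Subgroup G) ≃* (↥(P : Subgroup ↥Cfsg.M24) ⧸ Subgroup.center ↥(P : Subgroup ↥Cfsg.M24))))
    (A : Subgroup G) (hA : A ≤ (S : Subgroup G)) (hAc : IsMulCommutative ↥A) (hA64 : Nat.card ↥A = 64)
    (huniq : ∀ B : Subgroup G, B ≤ (S : Subgroup G) → IsMulCommutative ↥B → Nat.card ↥B = 64 → B = A) :
    A.Normal := by
  haveI := Fact.mk Nat.prime_two
  obtain ⟨φ⟩ := hS
  obtain ⟨e⟩ := InvChar.M24Syl.exists_equiv P
  let f : ↥InvChar.M24Syl.PP →* G := (S : Subgroup G).subtype.comp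
    (φ.symm.toMonoidHom.comp ((QuotientGroup.mk' _).comp e.toMonoidHom))
  have hf : f.range = (S : Subgroup G) := by
    rw [MonoidHom.range_comp, MonoidHom.range_eq_top.mpr (φ.symm.surjective.comp
      ((QuotientGroup.mk'_surjective _).comp e.surjective)), ← MonoidHom.range_eq_map,
      Subgroup.range_subtype]
  have hk : f.ker = Subgroup.center ↥InvChar.M24Syl.PP := by
    ext x
    rw [MonoidHom.mem_ker, MonoidHom.comp_apply, Subgroup.coe_subtype, OneMemClass.coe_eq_one,
      MonoidHom.comp_apply, MulEquiv.coe_toMonoidHom, MulEquiv.map_eq_one_iff, MonoidHom.comp_apply,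
      QuotientGroup.mk'_apply, QuotientGroup.eq_one_iff, MulEquiv.coe_toMonoidHom,
      Subgroup.mem_center_iff, Subgroup.mem_center_iff]
    exact ⟨fun hx y => e.injective (by rw [map_mul, map_mul]; exact hx (e y)), fun hx y => by
      obtain ⟨y, rfl⟩ := e.surjective y
      rw [← map_mul, ← map_mul, hx y]⟩
  obtain ⟨hc⟩ := M24Type41.exists_coord (S : Subgroup G) A f hf hk huniq
  have h := hc.normal_sup hc.xhyp.card_fix_le hc.xhyp.card_dvd
  have h' : (A ⊔ (⊥ : Subgroup G)).Normal := hO ▸ h
  rwa [sup_bot_eq] at h'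

end Cfsg.Agent.S3169
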