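import Cfsg.Statements.S3170
import Cfsg.Agent.M24Type41.Step
import Cfsg.Agent.M24Type41.XGroup

set_option autoImplicit false
open Cfsg
open scoped commutatorElement

namespace Cfsg.Agent.S3170

/-- Let H be a finite group with no nontrivial normal subgroup of odd order whose Sylow 2-subgroup T is isomorphic to a Sylow 2-subgroup of the Mathieu group of degree 24, and suppose that the centre of T lies in the centre of H. If E is a subgroup of T that is normal in T and extraspecial of order 2^7, and E is the only such subgroup of T, then E is normal in H. -/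
theorem result {H : Type*} [Group H] [Finite H]
    (hO : Cfsg.oddCore H = ⊥) (T : Sylow 2 H) (P : Sylow 2 ↥Cfsg.M24)
    (hT : Nonempty (↥(T : Subgroup H) ≃* ↥(P : Subgroup ↥Cfsg.M24)))
    (hZ : ∀ z ∈ (T : Subgroup H), (∀ t ∈ (T : Subgroup H), z * t = t * z) → z ∈ Subgroup.center H)
    (E : Subgroup H) (hE : E ≤ (T : Subgroup H)) (hEn : (E.subgroupOf (T : Subgroup H)).Normal)
    (hEx : Cfsg.IsExtraspecial 2 ↥E) (hE7 : Nat.card ↥E = 2 ^ 7)
    (huniq : ∀ E' : Subgroup H, E' ≤ (T : Subgroup H) → (E'.subgroupOf (T : Subgroup H)).Normal →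
      Cfsg.IsExtraspecial 2 ↥E' → Nat.card ↥E' = 2 ^ 7 → E' = E) :
    E.Normal := by
  haveI := Fact.mk Nat.prime_two
  obtain ⟨φ⟩ := hT
  obtain ⟨e⟩ := InvChar.M24Syl.exists_equiv P
  let i : ↥InvChar.M24Syl.PP ≃* ↥(T : Subgroup H) := e.trans φ.symm
  set Z : Subgroup H := (Subgroup.center ↥(T : Subgroup H)).map (T : Subgroup H).subtype with hZdef
  have hZmem : ∀ x : ↥(T : Subgroup H), (x : H) ∈ Z ↔ x ∈ Subgroup.center ↥(T : Subgroup H) :=
    fun x => Subgroup.mem_map_iff_mem (T : Subgroup H).subtype_injective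
  have hicen : ∀ y, i y ∈ Subgroup.center ↥(T : Subgroup H) ↔
      y ∈ Subgroup.center ↥InvChar.M24Syl.PP := fun y => by
    rw [Subgroup.mem_center_iff, Subgroup.mem_center_iff]
    exact ⟨fun h g => i.injective (by rw [map_mul, map_mul]; exact h (i g)), fun h g => by
      obtain ⟨g, rfl⟩ := i.surjective g
      rw [← map_mul, ← map_mul, h g]⟩
  have hZc : Z ≤ Subgroup.center H := by
    rintro _ ⟨z, hz, rfl⟩
    exact hZ z z.2 fun t ht => (congrArg Subtype.val (Subgroup.mem_center_iff.mp hz ⟨t, ht⟩)).symm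
  haveI hZn : Z.Normal := ⟨fun z hz g => by
    rw [Subgroup.mem_center_iff.mp (hZc hz) g, mul_inv_cancel_right]; exact hz⟩
  -- the centres of `E` and `T` coincide
  obtain ⟨u, hu, -⟩ : ∃ u : ↥InvChar.M24Syl.PP, (u : ↥Cfsg.M24) = InvChar.M24Syl.gen 0 ∧ True :=
    ⟨⟨InvChar.M24Syl.gen 0, Subgroup.subset_closure ⟨0, by norm_num, rfl⟩⟩, rfl, trivial⟩
  have hZ2 : Nat.card ↥Z ≤ 2 := by
    refine le_trans (Nat.card_le_card_of_surjective (fun b : Bool =>
      (⟨(i (if b then u else 1) : H), (hZmem _).mpr ((hicen _).mpr (by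
        rw [InvChar.M24Syl.mem_center_iff']
        cases b <;> simp [hu]))⟩ : Z)) ?_) (by simp)
    rintro ⟨_, z, hz, rfl⟩
    obtain ⟨y, rfl⟩ := i.surjective z
    rcases InvChar.M24Syl.mem_center_iff'.mp ((hicen y).mp hz) with h | h
    · obtain rfl : y = 1 := Subtype.ext h
      exact ⟨false, rfl⟩
    · obtain rfl : y = u := Subtype.ext (h.trans hu.symm)
      exact ⟨true, rfl⟩
  set ZE : Subgroup H := (Subgroup.center ↥E).map E.subtype with hZEdef
  have hZE2 : Nat.card ↥ZE = 2 := by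
    rw [hZEdef, Subgroup.card_map_of_injective E.subtype_injective, hEx.2]
  have hZE : ZE ≤ Z := by
    rintro _ ⟨z, hz, rfl⟩
    refine (hZmem ⟨z, hE z.2⟩).mpr (Subgroup.mem_center_iff.mpr fun t => ?_)
    have hconj : ∀ y : ↥E, (t : H) * y * (t : H)⁻¹ ∈ E := fun y => hEn.conj_mem ⟨y, hE y.2⟩
      (Subgroup.mem_subgroupOf.mpr y.2) t
    have hinv : ∀ y : ↥E, (t : H)⁻¹ * y * (t : H) ∈ E := fun y => by
      have := hEn.conj_mem ⟨y, hE y.2⟩ (Subgroup.mem_subgroupOf.mpr y.2) t⁻¹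
      simpa [Subgroup.mem_subgroupOf] using this
    have hc : (⟨_, hconj z⟩ : ↥E) ∈ Subgroup.center ↥E := by
      refine Subgroup.mem_center_iff.mpr fun y => Subtype.ext ?_
      have h := congrArg Subtype.val (Subgroup.mem_center_iff.mp hz ⟨_, hinv y⟩)
      simp only [Subgroup.coe_mul] at h ⊢
      calc (y : H) * ((t : H) * z * (t : H)⁻¹) = t * ((t : H)⁻¹ * y * t * z) * (t : H)⁻¹ := by group
        _ = t * (z * ((t : H)⁻¹ * y * t)) * (t : H)⁻¹ := by rw [h]
        _ = (t : H) * z * (t : H)⁻¹ * y := by group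
    obtain ⟨a, b, hab, huniv⟩ := Nat.card_eq_two_iff.mp hEx.2
    refine Subtype.ext ?_
    show (t : H) * z = z * t
    by_cases hz1 : z = 1
    · subst hz1; simp
    have hne : (⟨_, hconj z⟩ : ↥E) ≠ 1 := fun h => hz1 (Subtype.ext
      (conj_eq_one_iff.mp (congrArg Subtype.val h)))
    have htwo : ∀ c d : ↥(Subgroup.center ↥E), c ≠ 1 → d ≠ 1 → c = d := by
      intro c d hc hd
      have hc' : c = a ∨ c = b := by simpa using (huniv.symm ▸ Set.mem_univ c : c ∈ ({a, b} : Set _))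
      have hd' : d = a ∨ d = b := by simpa using (huniv.symm ▸ Set.mem_univ d : d ∈ ({a, b} : Set _))
      have h1 : (1 : ↥(Subgroup.center ↥E)) = a ∨ (1 : ↥(Subgroup.center ↥E)) = b := by
        simpa using (huniv.symm ▸ Set.mem_univ _ : (1 : ↥(Subgroup.center ↥E)) ∈ ({a, b} : Set _))
      grind
    have h := congrArg (fun w : ↥(Subgroup.center ↥E) => ((w : ↥E) : H))
      (htwo ⟨_, hc⟩ ⟨z, hz⟩ (fun h => hne (congrArg Subtype.val h))
        (fun h => hz1 (congrArg Subtype.val h)))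
    exact mul_inv_eq_iff_eq_mul.mp h
  have hZeq : ZE = Z := Subgroup.eq_of_le_of_card_ge hZE (hZE2.symm ▸ hZ2)
  have hZlE : Z ≤ E := hZeq ▸ Subgroup.map_subtype_le _
  -- the quotient
  set π : H →* H ⧸ Z := QuotientGroup.mk' Z with hπ
  have hπs : Function.Surjective π := QuotientGroup.mk'_surjective Z
  let T' : Sylow 2 (H ⧸ Z) := T.mapSurjective hπs
  let f : ↥InvChar.M24Syl.PP →* H ⧸ Z := π.comp ((T : Subgroup H).subtype.comp i.toMonoidHom)
  have hf : f.range = (T' : Subgroup (H ⧸ Z)) := by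
    rw [MonoidHom.range_comp, MonoidHom.range_comp, MonoidHom.range_eq_top.mpr i.surjective,
      ← MonoidHom.range_eq_map, Subgroup.range_subtype]
    rfl
  have hk : f.ker = Subgroup.center ↥InvChar.M24Syl.PP := by
    ext y
    rw [MonoidHom.mem_ker, MonoidHom.comp_apply, hπ, QuotientGroup.mk'_apply,
      QuotientGroup.eq_one_iff, ← hicen y]
    exact hZmem _
  obtain ⟨A₀, hA₀⟩ := InvChar.M24Syl.exists_shape f.rangeRestrict f.rangeRestrict_surjective
    (by rw [MonoidHom.ker_rangeRestrict, hk])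
  set Eb : Subgroup (H ⧸ Z) := E.map π with hEb
  have hEbT : Eb ≤ (T' : Subgroup (H ⧸ Z)) := Subgroup.map_mono hE
  have hEbc : IsMulCommutative ↥Eb := by
    refine ⟨⟨?_⟩⟩
    rintro ⟨_, x, hx, rfl⟩ ⟨_, y, hy, rfl⟩
    refine Subtype.ext ?_
    show π x * π y = π y * π x
    rw [← commutatorElement_eq_one_iff_mul_comm, ← map_commutatorElement, hπ,
      QuotientGroup.mk'_apply, QuotientGroup.eq_one_iff, ← hZeq]
    refine ⟨⁅(⟨x, hx⟩ : ↥E), ⟨y, hy⟩⁆, ?_, rfl⟩
    rw [← hEx.1.2.2]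
    exact Subgroup.commutator_mem_commutator (Subgroup.mem_top _) (Subgroup.mem_top _)
  have hEb64 : Nat.card ↥Eb = 64 := by
    have h := (π.comp E.subtype).ker.card_mul_index
    rw [Subgroup.index_ker, MonoidHom.range_comp, Subgroup.range_subtype, hE7, ← hEb] at h
    have hk2 : Nat.card ↥(π.comp E.subtype).ker = 2 := by
      rw [← hZE2, hZeq]
      exact Nat.card_congr ((Subgroup.subgroupOfEquivOfLe hZlE).toEquiv.symm.trans
        (Equiv.subtypeEquivRight fun x => by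
          rw [MonoidHom.mem_ker, MonoidHom.comp_apply, hπ, QuotientGroup.mk'_apply,
            QuotientGroup.eq_one_iff, Subgroup.mem_subgroupOf, Subgroup.coe_subtype])).symm
    rw [hk2] at h
    omega
  have hpre : ∀ B : Subgroup (H ⧸ Z), B ≤ f.range → IsMulCommutative ↥B → Nat.card ↥B = 64 →
      B.subgroupOf f.range = A₀ := by
    intro B hB hBc hB64
    refine hA₀.eq_of_abelian ⟨⟨fun x y => Subtype.ext (Subtype.ext ?_)⟩⟩ ?_
    · show ((x : ↥f.range) : H ⧸ Z) * ((y : ↥f.range) : H ⧸ Z) =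
        ((y : ↥f.range) : H ⧸ Z) * ((x : ↥f.range) : H ⧸ Z)
      exact congrArg Subtype.val
        (hBc.is_comm.comm (⟨_, x.2⟩ : ↥B) ⟨_, y.2⟩)
    · rw [Nat.card_congr (Subgroup.subgroupOfEquivOfLe hB).toEquiv, hB64]
  have huniq' : ∀ B : Subgroup (H ⧸ Z), B ≤ (T' : Subgroup (H ⧸ Z)) → IsMulCommutative ↥B →
      Nat.card ↥B = 64 → B = Eb := by
    intro B hB hBc hB64
    have h := (hpre B (hf ▸ hB) hBc hB64).trans (hpre Eb (hf ▸ hEbT) hEbc hEb64).symm
    rw [← Subgroup.map_subgroupOf_eq_of_le (hf ▸ hB : B ≤ f.range), h,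
      Subgroup.map_subgroupOf_eq_of_le (hf ▸ hEbT : Eb ≤ f.range)]
  have hO' : Cfsg.pPrimeCore 2 (H ⧸ Z) = ⊥ := by
    rw [Subgroup.eq_bot_iff_forall]
    intro q hq
    obtain ⟨y, rfl⟩ := hπs q
    haveI : (Cfsg.pPrimeCore 2 (H ⧸ Z)).Normal := Thompson.sSup_normal fun N hN => hN.1
    obtain ⟨o, ho, z, hz, rfl⟩ := M24Type41.exists_core_mul_of_quotient Z hZc
      (Cfsg.pPrimeCore 2 (H ⧸ Z))
      (Nat.coprime_two_right.mp Thompson.card_pPrimeCore_coprime) hq
    rw [show Cfsg.pPrimeCore 2 H = ⊥ from hO, Subgroup.mem_bot] at ho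
    rw [ho, one_mul, hπ, QuotientGroup.mk'_apply, QuotientGroup.eq_one_iff]
    exact hz
  obtain ⟨hc⟩ := M24Type41.exists_coord (T' : Subgroup (H ⧸ Z)) Eb f hf hk huniq'
  have h : (Eb ⊔ (⊥ : Subgroup (H ⧸ Z))).Normal :=
    hO' ▸ hc.normal_sup hc.xhyp.card_fix_le hc.xhyp.card_dvd
  rw [sup_bot_eq] at h
  have hback : Eb.comap π = E := by
    rw [hEb, Subgroup.comap_map_eq, QuotientGroup.ker_mk', sup_eq_left]
    exact hZlE
  exact hback ▸ h.comap π

end Cfsg.Agent.S3170
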