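import Cfsg.Statements.S3178
import Cfsg.Agent.T51.SmallElements

set_option autoImplicit false
open Cfsg

namespace Cfsg.Agent.S3178
/-- A `p`-subgroup is conjugate into a given Sylow subgroup, elementwise. -/
theorem exists_conj_mem_sylow {G : Type*} [Group G] [Finite G] {p : ℕ} [Fact p.Prime] (S : Sylow p G)
    {H : Subgroup G} (hH : IsPGroup p H) : ∃ g : G, ∀ x ∈ H, g * x * g⁻¹ ∈ (S : Subgroup G) := by
  obtain ⟨Q, hQ⟩ := hH.exists_le_sylow
  obtain ⟨g, hg⟩ := MulAction.exists_smul_eq G Q S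
  refine ⟨g, fun x hx => ?_⟩
  rw [← hg, Sylow.smul_def]
  exact Subgroup.smul_mem_pointwise_smul x (MulAut.conj g) (Q : Subgroup G) (hQ hx)

theorem main {G : Type*} [Group G] [Finite G]
    (S : Sylow 2 G) (n : ℕ) (hn : 3 ≤ n) (hS : Nat.card ↥(S : Subgroup G) = 2 ^ (n + 1))
    (a b : G) (ha : a ∈ (S : Subgroup G)) (hb : b ∈ (S : Subgroup G))
    (hao : orderOf a = 2 ^ n) (hbo : orderOf b = 2) (hrel : b * a * b⁻¹ = a ^ (2 ^ (n - 1) + 1)) :
    Cfsg.HasNormalPComplement 2 G := by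
  obtain ⟨m, rfl⟩ : ∃ m, n = m + 3 := ⟨n - 3, by omega⟩
  have hb2 : b * b = 1 := by rw [← pow_two, ← hbo, pow_orderOf_eq_one]
  have hb1 : b ≠ 1 := by intro h; rw [h, orderOf_one] at hbo; omega
  have hz_def : ∃ z, a ^ (2 ^ (m + 2)) = z := ⟨_, rfl⟩
  obtain ⟨z, hz⟩ := hz_def
  have hz1 : z ≠ 1 := by
    intro h
    rw [← hz] at h
    have := Nat.le_of_dvd (by positivity) (hao ▸ orderOf_dvd_of_pow_eq_one h)
    rw [pow_succ] at this
    have : 0 < 2 ^ (m + 2) := by positivity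
    omega
  have hz2 : z * z = 1 := by
    rw [← hz, ← pow_add, show 2 ^ (m + 2) + 2 ^ (m + 2) = 2 ^ (m + 3) by ring, ← hao, pow_orderOf_eq_one]
  have hzz : ∀ d : ℤ, z ^ d * z ^ d = 1 := by
    intro d; rw [← (Commute.refl z).mul_zpow, hz2, one_zpow]
  have hdvd : ∀ k : ℤ, a ^ k = 1 ↔ (2 : ℤ) ^ (m + 3) ∣ k := by
    intro k
    rw [← orderOf_dvd_iff_zpow_eq_one, hao]; norm_num
  -- the only involution in `⟨a⟩`
  have hsq1 : ∀ k : ℤ, a ^ k * a ^ k = 1 → a ^ k = 1 ∨ a ^ k = z := by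
    intro k hk
    rw [← zpow_add, hdvd] at hk
    obtain ⟨c, hc⟩ := hk
    have hk' : k = 2 ^ (m + 2) * c := by rw [pow_succ] at hc; linarith
    have : a ^ k = z ^ c := by rw [hk', zpow_mul, ← hz, ← zpow_natCast a]; norm_num
    rw [this]
    rcases Int.even_or_odd c with ⟨d, hd⟩ | ⟨d, hd⟩
    · left; rw [hd, zpow_add, hzz d]
    · right; rw [hd, zpow_add, zpow_one, two_mul, zpow_add, hzz d, one_mul]
  have hbinv : b⁻¹ = b := inv_eq_of_mul_eq_one_right hb2
  have hrel' : b * a * b⁻¹ = a * z := by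
    rw [hrel, ← hz, ← pow_succ']; rfl
  have haz : Commute a z := hz ▸ (Commute.refl a).pow_right _
  have hba : ∀ k : ℤ, b * a ^ k * b⁻¹ = a ^ k * z ^ k := by
    intro k; rw [← conj_zpow, hrel', haz.mul_zpow]
  have hbz : Commute b z := by
    have h := hba ((2 : ℤ) ^ (m + 2))
    have e : a ^ ((2 : ℤ) ^ (m + 2)) = z := by rw [← hz, ← zpow_natCast a]; norm_num
    have e' : z ^ ((2 : ℤ) ^ (m + 2)) = 1 := by
      rw [show (2 : ℤ) ^ (m + 2) = 2 ^ (m + 1) + 2 ^ (m + 1) by ring, zpow_add, hzz]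
    rw [e, e', mul_one] at h
    exact mul_inv_eq_iff_eq_mul.mp h
  have hbnot : ∀ k : ℤ, a ^ k ≠ b := by
    intro k hk
    have h : b * a * b⁻¹ = a := by
      rw [← hk, (((Commute.refl a).zpow_left k)).eq, mul_inv_cancel_right]
    rw [hrel'] at h
    exact hz1 (mul_eq_left.mp h)
  -- the elements of `S`
  have hmemS : ∀ w ∈ (S : Subgroup G), ∃ k : ℤ, w = a ^ k ∨ w = a ^ k * b := by
    intro w hw
    have hidx : ((Subgroup.zpowers a).subgroupOf (S : Subgroup G)).index = 2 := by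
      have h1 := Subgroup.card_mul_index ((Subgroup.zpowers a).subgroupOf (S : Subgroup G))
      have h2 : Nat.card ((Subgroup.zpowers a).subgroupOf (S : Subgroup G)) = 2 ^ (m + 3) := by
        rw [Nat.card_congr (Subgroup.subgroupOfEquivOfLe (Subgroup.zpowers_le.mpr ha)).toEquiv, Nat.card_zpowers, hao]
      rw [h2, hS, pow_succ 2 (m + 3)] at h1
      exact Nat.eq_of_mul_eq_mul_left (by positivity) h1
    by_cases hwa : w ∈ Subgroup.zpowers a
    · obtain ⟨k, rfl⟩ := hwa; exact ⟨k, Or.inl rfl⟩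
    · have := (Subgroup.mul_mem_iff_of_index_two hidx (a := (⟨w, hw⟩ : ↥(S : Subgroup G))) (b := ⟨b, hb⟩))
      have hb' : b ∉ Subgroup.zpowers a := fun ⟨k, hk⟩ => hbnot k hk
      have h3 : w * b ∈ Subgroup.zpowers a := by
        simpa [Subgroup.mem_subgroupOf] using this.mpr (by simp [Subgroup.mem_subgroupOf, hwa, hb'])
      obtain ⟨k, hk⟩ := h3
      refine ⟨k, Or.inr ?_⟩
      have hk' : a ^ k = w * b := hk
      rw [hk', mul_assoc, hb2, mul_one]
  have hsqb : ∀ k : ℤ, (a ^ k * b) * (a ^ k * b) = a ^ k * a ^ k * z ^ k := by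
    intro k
    calc (a ^ k * b) * (a ^ k * b) = a ^ k * (b * a ^ k * b⁻¹) * (b * b) := by group
      _ = a ^ k * a ^ k * z ^ k := by rw [hba, hb2, mul_one, ← mul_assoc]
  have hzeven : ∀ i : ℤ, z ^ (2 * i) = 1 := by
    intro i; rw [two_mul, zpow_add, hzz i]
  have hzodd : ∀ i : ℤ, z ^ (2 * i + 1) = z := by
    intro i; rw [zpow_add, hzeven, one_mul, zpow_one]
  -- `T`
  let inT : G → Prop := fun w => ∃ i : ℤ, w = a ^ (2 * i) ∨ w = a ^ (2 * i) * b
  have hbcomm : ∀ i : ℤ, Commute b (a ^ (2 * i)) := by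
    intro i
    have := hba (2 * i)
    rw [hzeven, mul_one] at this
    exact mul_inv_eq_iff_eq_mul.mp this
  have hTcomm : ∀ u v, inT u → inT v → Commute u v := by
    rintro u v ⟨i, rfl | rfl⟩ ⟨j, rfl | rfl⟩
    · exact Commute.zpow_zpow_self a _ _
    · exact (Commute.zpow_zpow_self a _ _).mul_right (hbcomm i).symm
    · exact (Commute.zpow_zpow_self a _ _).mul_left (hbcomm j)
    · exact ((Commute.zpow_zpow_self a _ _).mul_right (hbcomm i).symm).mul_left
        ((hbcomm j).mul_right (Commute.refl b))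
  have hTsq : ∀ u, inT u → ∃ i : ℤ, u * u = a ^ (2 * i) * a ^ (2 * i) := by
    rintro u ⟨i, rfl | rfl⟩
    · exact ⟨i, rfl⟩
    · exact ⟨i, by rw [hsqb, hzeven, mul_one]⟩
  have hbT : ∀ w ∈ (S : Subgroup G), Commute b w → inT w := by
    intro w hw hc
    obtain ⟨k, hk⟩ := hmemS w hw
    rcases Int.even_or_odd' k with ⟨i, rfl | rfl⟩
    · exact ⟨i, hk⟩
    · exfalso
      have h1 : b * a ^ (2 * i + 1) * b⁻¹ = a ^ (2 * i + 1) := by
        rcases hk with rfl | rfl
        · rw [hc.eq, mul_inv_cancel_right]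
        · have : Commute b (a ^ (2 * i + 1)) := by
            have := hc.mul_right ((Commute.refl b).inv_right)
            rwa [mul_inv_cancel_right] at this
          rw [this.eq, mul_inv_cancel_right]
      rw [hba, hzodd] at h1
      exact hz1 (mul_eq_left.mp h1)
  have hsmallT : ∀ w ∈ (S : Subgroup G), (w * w) * (w * w) = 1 → inT w := by
    intro w hw h4
    obtain ⟨k, hk⟩ := hmemS w hw
    rcases Int.even_or_odd' k with ⟨i, rfl | rfl⟩
    · exact ⟨i, hk⟩
    · exfalso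
      have h : ∃ j : ℤ, Odd j ∧ (2 : ℤ) ^ (m + 3) ∣ 4 * j := by
        rcases hk with rfl | rfl
        · refine ⟨2 * i + 1, ⟨i, rfl⟩, ?_⟩
          rw [← hdvd, ← h4, ← zpow_add, ← zpow_add]; congr 1; ring
        · refine ⟨2 * i + 1 + 2 ^ (m + 1), ⟨i + 2 ^ m, by ring⟩, ?_⟩
          rw [hsqb, hzodd, ← hz, ← zpow_natCast a, ← zpow_add, ← zpow_add, ← zpow_add, hdvd] at h4
          convert h4 using 1
          push_cast; ring
      obtain ⟨j, hj, c, hc⟩ := h
      obtain ⟨d, hd⟩ := hj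
      have : (2 : ℤ) * d + 1 = 2 * (2 ^ m * c) := by
        rw [pow_add] at hc; norm_num at hc; subst hd; linarith
      omega
  -- the involutions of `S`
  have hinv : ∀ w ∈ (S : Subgroup G), w * w = 1 → w = 1 ∨ w = z ∨ w = b ∨ w = z * b := by
    intro w hw h2
    obtain ⟨i, hi | hi⟩ := hsmallT w hw (by rw [h2, one_mul])
    · subst hi
      rcases hsq1 _ h2 with h | h
      · exact Or.inl h
      · exact Or.inr (Or.inl h)
    · subst hi
      rw [hsqb, hzeven, mul_one] at h2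
      rcases hsq1 _ h2 with h | h
      · exact Or.inr (Or.inr (Or.inl (by rw [h, one_mul])))
      · exact Or.inr (Or.inr (Or.inr (by rw [h])))
  have hTsq2 : ∀ u, inT u → (u * u) * (u * u) = 1 → u * u = 1 ∨ u * u = z := by
    intro u hu h4
    obtain ⟨i, hi⟩ := hTsq u hu
    rw [hi, ← zpow_add] at h4 ⊢
    exact hsq1 _ h4
  have hzcen : ∀ w ∈ (S : Subgroup G), Commute z w := by
    intro w hw
    obtain ⟨k, rfl | rfl⟩ := hmemS w hw
    · exact haz.symm.zpow_right k
    · exact (haz.symm.zpow_right k).mul_right hbz.symm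
  have hq_def : ∃ q, a ^ (2 ^ (m + 1)) = q := ⟨_, rfl⟩
  obtain ⟨q, hq⟩ := hq_def
  have hqq : q * q = z := by rw [← hq, ← hz, ← pow_add]; congr 1; ring
  have hqT : inT q := ⟨2 ^ m, Or.inl (by rw [← hq, ← zpow_natCast a]; congr 1; push_cast; ring)⟩
  have hqS : q ∈ (S : Subgroup G) := hq ▸ pow_mem ha _
  have hzS : z ∈ (S : Subgroup G) := hz ▸ pow_mem ha _
  -- `C(⟨z, b⟩)`
  let C := Subgroup.centralizer ({z, b} : Set G)
  have memC : ∀ u, u ∈ C ↔ Commute z u ∧ Commute b u := by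
    intro u
    simp [C, Subgroup.mem_centralizer_iff, Commute, SemiconjBy]
  let T : Subgroup G := (S : Subgroup G) ⊓ C
  obtain ⟨R, hR⟩ := (IsPGroup.comap_subtype (K := C) (S.2.to_le (inf_le_left : T ≤ S))).exists_le_sylow
  have hRcard : Nat.card (R : Subgroup C) ≤ Nat.card T := by
    obtain ⟨g, hg⟩ := exists_conj_mem_sylow S (R.2.map C.subtype)
    have hin : ∀ v ∈ T, g * v * g⁻¹ ∈ (S : Subgroup G) := fun v hv =>
      hg v ⟨⟨v, hv.2⟩, hR hv, rfl⟩
    have hbT' : b ∈ T := ⟨hb, (memC b).mpr ⟨hbz.symm, Commute.refl b⟩⟩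
    have hzT' : z ∈ T := ⟨hzS, (memC z).mpr ⟨Commute.refl z, hbz⟩⟩
    have hsq : ∀ v : G, v * v = 1 → (g * v * g⁻¹) * (g * v * g⁻¹) = 1 := by
      intro v hv
      calc (g * v * g⁻¹) * (g * v * g⁻¹) = g * (v * v) * g⁻¹ := by group
        _ = 1 := by rw [hv]; group
    have hmap : ∀ r : (R : Subgroup C), g * (r.1 : G) * g⁻¹ ∈ T := by
      intro r
      have hrS := hg (r.1 : G) ⟨r.1, r.2, rfl⟩
      refine ⟨hrS, (memC _).mpr ⟨hzcen _ hrS, ?_⟩⟩
      obtain ⟨h1, h2⟩ := (memC _).mp r.1.2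
      have hc : ∀ v : G, Commute v (r.1 : G) → Commute (g * v * g⁻¹) (g * (r.1 : G) * g⁻¹) := fun v hv =>
        by simpa using hv.map (MulAut.conj g).toMonoidHom
      have key : ∀ v : G, v ∈ T → v * v = 1 → v ≠ 1 → Commute v (r.1 : G) → g * v * g⁻¹ ≠ z →
          Commute b (g * (r.1 : G) * g⁻¹) := by
        intro v hv hv2 hv1 hvr hne
        rcases hinv _ (hin v hv) (hsq v hv2) with h | h | h | h
        · exact absurd (conj_eq_one_iff.mp h) hv1
        · exact absurd h hne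
        · exact h ▸ hc v hvr
        · have h3 : Commute (z * b) (g * (r.1 : G) * g⁻¹) := h ▸ hc v hvr
          have h4 := (hzcen _ hrS).mul_left h3
          rwa [← mul_assoc, hz2, one_mul] at h4
      by_cases hgb : g * b * g⁻¹ = z
      · refine key z hzT' hz2 hz1 h1 fun h => ?_
        have e : z = b := mul_left_cancel (mul_right_cancel (h.trans hgb.symm))
        exact hbnot ((2 : ℤ) ^ (m + 2)) (by rw [← e, ← hz, ← zpow_natCast a]; norm_num)
      · exact key b hbT' hb2 hb1 h2 hgb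
    refine Nat.card_le_card_of_injective (fun r => (⟨_, hmap r⟩ : T)) fun r r' h => ?_
    have := congrArg Subtype.val h
    simp only [mul_left_inj, mul_right_inj] at this
    exact Subtype.ext (Subtype.ext this)
  have hReq : (R : Subgroup C) = T.comap C.subtype := by
    refine (Subgroup.eq_of_le_of_card_ge hR (hRcard.trans (le_of_eq ?_))).symm
    exact (Nat.card_congr (Subgroup.subgroupOfEquivOfLe (inf_le_right : T ≤ C)).toEquiv).symm
  -- elements normalising `⟨z, b⟩` fix `z`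
  have hfix : ∀ y : G, (y * z * y⁻¹ = b ∨ y * z * y⁻¹ = z * b) →
      (∀ u, u ∈ C → y * u * y⁻¹ ∈ C) → False := by
    intro y hy hyC
    have hqC : q ∈ C := (memC q).mpr ⟨hzcen q hqS, by
      obtain ⟨i, hi | hi⟩ := hqT
      · exact hi ▸ hbcomm i
      · exact hi ▸ (hbcomm i).mul_right (Commute.refl b)⟩
    let u : C := ⟨y * q * y⁻¹, hyC q hqC⟩
    have hu : IsPGroup 2 (Subgroup.zpowers u) := by
      have : u ^ (2 ^ 2) = 1 := Subtype.ext (by
        show (y * q * y⁻¹) ^ 4 = 1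
        rw [conj_pow, show (4 : ℕ) = 2 * 2 from rfl, pow_mul, pow_two q, hqq, pow_two, hz2, mul_one, mul_inv_cancel])
      obtain ⟨k, -, hk⟩ := (Nat.dvd_prime_pow Nat.prime_two).mp (orderOf_dvd_of_pow_eq_one this)
      exact IsPGroup.of_card (by rw [Nat.card_zpowers, hk])
    obtain ⟨c, hc⟩ := exists_conj_mem_sylow R hu
    have hcu := hc u (Subgroup.mem_zpowers u)
    rw [hReq] at hcu
    obtain ⟨hwS, hwC⟩ := hcu
    obtain ⟨w, hw⟩ : ∃ w, (((c * u * c⁻¹ : C)) : G) = w := ⟨_, rfl⟩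
    replace hwS : w ∈ (S : Subgroup G) := hw ▸ hwS
    have hwT : inT w := hbT w hwS (((memC _).mp (hw ▸ (c * u * c⁻¹ : C).2)).2)
    obtain ⟨hcz, hcb⟩ := (memC _).mp c.2
    have hww : w * w = y * z * y⁻¹ := by
      have e : Commute (c : G) (y * z * y⁻¹) := by
        rcases hy with h | h <;> rw [h]
        · exact hcb.symm
        · exact hcz.symm.mul_right hcb.symm
      rw [← hw]
      calc ((c : G) * (y * q * y⁻¹) * (c : G)⁻¹) * ((c : G) * (y * q * y⁻¹) * (c : G)⁻¹)
          = (c : G) * (y * (q * q) * y⁻¹) * (c : G)⁻¹ := by group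
        _ = y * z * y⁻¹ := by rw [hqq, e.eq, mul_inv_cancel_right]
    obtain ⟨i, hi⟩ := hTsq w hwT
    rw [hww, ← zpow_add] at hi
    rcases hy with h | h
    · exact hbnot _ (hi.symm.trans h)
    · refine hbnot ((2 : ℤ) ^ (m + 2) + (2 * i + 2 * i)) ?_
      rw [zpow_add, ← hi, h, ← mul_assoc]
      rw [show a ^ ((2 : ℤ) ^ (m + 2)) = z by rw [← hz, ← zpow_natCast a]; norm_num, hz2, one_mul]
  refine Transfer.hasNormalPComplement_of_normalizer_centralizer S fun Q hQ _ y hy hyp => ?_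
  have hQp : IsPGroup 2 Q := S.2.to_le hQ
  have hconj : ∀ w ∈ Q, y * w * y⁻¹ ∈ Q := fun w hw => (Subgroup.mem_normalizer_iff.mp hy w).mp hw
  have hsqc : ∀ w : G, (y * w * y⁻¹) * (y * w * y⁻¹) = y * (w * w) * y⁻¹ := fun w => by group
  -- `y` fixes `z` as soon as `z ∈ Q`
  have hyz : z ∈ Q → y * z * y⁻¹ = z := by
    intro hzQ
    rcases hinv _ (hQ (hconj z hzQ)) (by rw [hsqc, hz2, mul_one, mul_inv_cancel]) with h | h | h | h
    · exact absurd (conj_eq_one_iff.mp h) hz1
    · exact h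
    all_goals
      exfalso
      have hbQ : b ∈ Q := by
        first
          | exact h ▸ hconj z hzQ
          | (have := Q.mul_mem hzQ (h ▸ hconj z hzQ : z * b ∈ Q); rwa [← mul_assoc, hz2, one_mul] at this)
      refine hfix y (by first | exact Or.inl h | exact Or.inr h) fun u hu => (memC _).mpr ?_
      obtain ⟨hu1, hu2⟩ := (memC u).mp hu
      have hcy : ∀ v ∈ Q, v * v = 1 → Commute v (y * u * y⁻¹) := by
        intro v hv hv2
        have hv' : y⁻¹ * v * y ∈ Q := (Subgroup.mem_normalizer_iff.mp hy _).mpr (by simpa [mul_assoc] using hv)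
        have hv'2 : (y⁻¹ * v * y) * (y⁻¹ * v * y) = 1 := by
          calc (y⁻¹ * v * y) * (y⁻¹ * v * y) = y⁻¹ * (v * v) * y := by group
            _ = 1 := by rw [hv2]; group
        have hc : Commute (y⁻¹ * v * y) u := by
          rcases hinv _ (hQ hv') hv'2 with e | e | e | e <;> rw [e]
          · exact Commute.one_left u
          · exact hu1
          · exact hu2
          · exact hu1.mul_left hu2
        have := hc.map (MulAut.conj y).toMonoidHom
        simpa [mul_assoc] using this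
      exact ⟨hcy z hzQ hz2, hcy b hbQ hb2⟩
  have hyc : ∀ c : G, c ∈ Q → c * c = 1 → y * c * y⁻¹ = c := by
    intro c hcQ hc2
    obtain ⟨d, hd, hdQ, hd'⟩ : ∃ d : G, (d = 1 ∨ d = z) ∧ (d ∈ Q) ∧ y * c * y⁻¹ = c * d := by
      refine ⟨c⁻¹ * (y * c * y⁻¹), ?_, Q.mul_mem (Q.inv_mem hcQ) (hconj c hcQ), by group⟩
      have h1 := hinv _ (hQ hcQ) hc2
      have h2 := hinv _ (hQ (hconj c hcQ)) (by rw [hsqc, hc2, mul_one, mul_inv_cancel])
      rcases h1 with h1 | h1 | h1
      · exact Or.inl (by subst h1; simp)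
      · exact Or.inl (by subst h1; rw [hyz hcQ, inv_mul_cancel])
      have hc1 : c ≠ 1 := by
        rintro rfl
        rcases h1 with e | e
        · exact hb1 e.symm
        · exact hbnot ((2 : ℤ) ^ (m + 2)) (by
            rw [show a ^ ((2 : ℤ) ^ (m + 2)) = z by rw [← hz, ← zpow_natCast a]; norm_num]
            exact (eq_inv_of_mul_eq_one_left e.symm).trans hbinv)
      have hcz : c ≠ z := by
        rintro rfl
        rcases h1 with e | e
        · exact hbnot ((2 : ℤ) ^ (m + 2)) (by rw [← e, ← hz, ← zpow_natCast a]; norm_num)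
        · exact hb1 (left_eq_mul.mp e)
      rcases h2 with h | h | h
      · exact absurd (conj_eq_one_iff.mp h) hc1
      · exact absurd (mul_left_cancel (mul_right_cancel (h.trans (hyz (h ▸ hconj c hcQ)).symm))) hcz
      rcases h1 with e1 | e1 <;> rcases h with e2 | e2 <;> rw [e1] at e2 ⊢ <;> rw [e2]
      · exact Or.inl (inv_mul_cancel b)
      · exact Or.inr (by rw [← hbz.eq, inv_mul_cancel_left])
      · exact Or.inr (by rw [mul_inv_rev, inv_eq_of_mul_eq_one_right hz2, hbinv, mul_assoc, ← hbz.eq, ← mul_assoc, hb2, one_mul])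
      · exact Or.inl (inv_mul_cancel _)
    have hdfix : y * d * y⁻¹ = d := by
      rcases hd with rfl | rfl
      · simp
      · exact hyz hdQ
    have := T51.eq_one_of_fixed hQp hyp hdQ hd' hdfix
    rw [hd', this, mul_one]
  refine T51.mem_centralizer_of_small y hyp Q hQp hy fun w hw hs => ?_
  have h4 : (w * w) * (w * w) = 1 := by
    rcases hs with h | ⟨-, h⟩
    · rw [← pow_two w, h, one_mul]
    · rw [← pow_two w, ← pow_two, ← pow_mul]; exact h
  refine mul_inv_eq_iff_eq_mul.mp ?_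
  by_cases hw2 : w * w = 1
  · exact hyc w hw hw2
  have h4' : ((y * w * y⁻¹) * (y * w * y⁻¹)) * ((y * w * y⁻¹) * (y * w * y⁻¹)) = 1 := by
    calc _ = y * ((w * w) * (w * w)) * y⁻¹ := by group
      _ = 1 := by rw [h4]; group
  have hwT := hsmallT w (hQ hw) h4
  have hwT' := hsmallT _ (hQ (hconj w hw)) h4'
  have hwz : w * w = z := (hTsq2 w hwT h4).resolve_left hw2
  obtain ⟨c, hc⟩ : ∃ c, w⁻¹ * (y * w * y⁻¹) = c := ⟨_, rfl⟩
  have hcQ : c ∈ Q := hc ▸ Q.mul_mem (Q.inv_mem hw) (hconj w hw)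
  have hc2 : c * c = 1 := by
    have hcm := (hTcomm _ _ hwT hwT').inv_left
    rw [← hc]
    calc w⁻¹ * (y * w * y⁻¹) * (w⁻¹ * (y * w * y⁻¹))
        = w⁻¹ * ((y * w * y⁻¹) * w⁻¹) * (y * w * y⁻¹) := by group
      _ = (w * w)⁻¹ * ((y * w * y⁻¹) * (y * w * y⁻¹)) := by rw [← hcm.eq]; group
      _ = 1 := by rw [hsqc, hwz, hyz (hwz ▸ Q.mul_mem hw hw)]; group
  have hwc : y * w * y⁻¹ = w * c := by rw [← hc]; group
  have := T51.eq_one_of_fixed hQp hyp hcQ hwc (hyc c hcQ hc2)
  rw [hwc, this, mul_one]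

/-- Groups with a modular Sylow 2-subgroup have a normal 2-complement. Let S, of order 2^(n+1) with n ≥ 3, be a Sylow 2-subgroup of a finite group G, and suppose S contains an element a of order 2^n and an involution b with b a b⁻¹ = a^(2^(n-1) + 1); so S is the non-abelian 2-group with a cyclic subgroup of index 2 that is neither dihedral, semidihedral nor generalized quaternion. Then G has a normal 2-complement. -/
theorem result {G : Type*} [Group G] [Finite G]
    (S : Sylow 2 G) (n : ℕ) (hn : 3 ≤ n) (hS : Nat.card ↥(S : Subgroup G) = 2 ^ (n + 1))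
    (a b : G) (ha : a ∈ (S : Subgroup G)) (hb : b ∈ (S : Subgroup G))
    (hao : orderOf a = 2 ^ n) (hbo : orderOf b = 2) (hrel : b * a * b⁻¹ = a ^ (2 ^ (n - 1) + 1)) :
    Cfsg.HasNormalPComplement 2 G := by
  exact main S n hn hS a b ha hb hao hbo hrel

end Cfsg.Agent.S3178
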