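import Cfsg.Statements.S3179
import Cfsg.Agent.Lib.LinearGroup.Card
import Cfsg.Agent.Lib.Unitary.Center
import Cfsg.Agent.Lib.RankOne.SzBridge

set_option autoImplicit false
open Cfsg

namespace Cfsg.Agent.S3179
open Matrix

theorem nine_dvd_card {X : Type*} [Finite X] (σ : Equiv.Perm X) (h9 : σ ^ 9 = 1)
    (h3 : ∀ x, (σ ^ 3) x ≠ x) : 9 ∣ Nat.card X := by
  rcases isEmpty_or_nonempty X with hX | ⟨⟨x₀⟩⟩
  · simp
  classical
  have := Fintype.ofFinite X
  have hord : orderOf σ = 9 := by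
    haveI := Fact.mk Nat.prime_three
    refine orderOf_eq_prime_pow (p := 3) (n := 1) ?_ (by norm_num [h9])
    intro h
    rw [pow_one] at h
    exact h3 x₀ (by rw [h]; rfl)
  have hfree : ∀ x : X, MulAction.stabilizer (Subgroup.zpowers σ) x = ⊥ := by
    intro x
    rw [eq_bot_iff]
    rintro ⟨s, hs⟩ hsx
    rw [Subgroup.mem_bot]
    refine Subtype.ext ?_
    obtain ⟨k, hk⟩ := (isOfFinOrder_of_finite σ).mem_powers_iff_mem_zpowers.mpr hs
    change σ ^ k = s at hk
    show s = 1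
    by_contra hne
    have hsx' : s x = x := hsx
    rw [← hk, ← pow_mod_orderOf, hord] at hne hsx'
    obtain ⟨m, hm⟩ : ∃ m, (k % 9) * m % 9 = 3 := by
      have hall : ∀ r < 9, r ≠ 0 → ∃ m < 9, r * m % 9 = 3 ∨ r = 0 := by decide
      obtain ⟨m, -, hm⟩ := hall (k % 9) (Nat.mod_lt _ (by norm_num)) (fun h => hne (by rw [h, pow_zero]))
      exact ⟨m, hm.resolve_right fun h => hne (by rw [h, pow_zero])⟩
    refine h3 x ?_
    have e : (σ ^ (k % 9)) ^ m = σ ^ 3 := by rw [← pow_mul, ← pow_mod_orderOf, hord, hm]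
    rw [← e]
    clear e hm hne
    induction m with
    | zero => rfl
    | succ m ih => rw [pow_succ, Equiv.Perm.mul_apply, hsx', ih]
  rw [Nat.card_congr (MulAction.selfEquivSigmaOrbitsQuotientStabilizer (Subgroup.zpowers σ) X), Nat.card_sigma]
  refine Finset.dvd_sum fun ω _ => ?_
  show 9 ∣ (MulAction.stabilizer (Subgroup.zpowers σ) ω.out).index
  rw [hfree, Subgroup.index_bot, Nat.card_zpowers, hord]

/-- `GL(5,2)` has no element of order nine. -/
theorem pow_three_eq_one (M : GL (Fin 5) (ZMod 2)) (h9 : M ^ 9 = 1) : M ^ 3 = 1 := by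
  classical
  by_contra hne
  have app : ∀ (A B : GL (Fin 5) (ZMod 2)) (v : Fin 5 → ZMod 2),
      (A * B).val *ᵥ v = A.val *ᵥ (B.val *ᵥ v) := fun A B v => by
    rw [Units.val_mul, Matrix.mulVec_mulVec]
  let W : AddSubgroup (Fin 5 → ZMod 2) :=
    { carrier := {w | ∃ v, (M ^ 3).val *ᵥ v - v = w}
      zero_mem' := ⟨0, by simp⟩
      add_mem' := by rintro _ _ ⟨a, rfl⟩ ⟨b, rfl⟩; exact ⟨a + b, by rw [Matrix.mulVec_add]; abel⟩
      neg_mem' := by rintro _ ⟨a, rfl⟩; exact ⟨-a, by rw [Matrix.mulVec_neg]; abel⟩ }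
  have hinv : ∀ (A : GL (Fin 5) (ZMod 2)), Commute A M → ∀ w ∈ W, A.val *ᵥ w ∈ W := by
    rintro A hA _ ⟨v, rfl⟩
    exact ⟨A.val *ᵥ v, by rw [Matrix.mulVec_sub, ← app, ← app, (hA.pow_right 3).eq]⟩
  have hfix : ∀ w ∈ W, (M ^ 3).val *ᵥ w = w → w = 0 := by
    rintro _ ⟨v, rfl⟩ hw
    obtain ⟨a, ha⟩ : ∃ a, (M ^ 3).val *ᵥ v = a := ⟨_, rfl⟩
    obtain ⟨b, hb⟩ : ∃ b, (M ^ 3).val *ᵥ a = b := ⟨_, rfl⟩
    have hc : (M ^ 3).val *ᵥ b = v := by
      rw [← hb, ← ha, ← app, ← app, ← pow_add, ← pow_add, show 3 + 3 + 3 = 9 from rfl, h9, Units.val_one, Matrix.one_mulVec]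
    rw [ha] at hw ⊢
    have h1 : b - a = a - v := by rw [← hw, Matrix.mulVec_sub, hb, ha]
    have h2 : (M ^ 3).val *ᵥ (b - a) = b - a := by rw [h1]; exact hw
    rw [Matrix.mulVec_sub, hc, hb] at h2
    have h3 : (a - v) + (a - v) + (a - v) = 0 := by
      have : (v - b) + (b - a) + (a - v) = 0 := by abel
      rwa [h2, h1] at this
    have h4 : (a - v) + (a - v) = 0 := by
      ext i; exact CharTwo.add_self_eq_zero ((a - v) i)
    rwa [h4, zero_add] at h3
  let X := {w : W // w ≠ 0}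
  let mapM : GL (Fin 5) (ZMod 2) → (Fin 5 → ZMod 2) → (Fin 5 → ZMod 2) := fun A w => A.val *ᵥ w
  have hne0 : ∀ (A : GL (Fin 5) (ZMod 2)) (w : Fin 5 → ZMod 2), w ≠ 0 → A.val *ᵥ w ≠ 0 := by
    intro A w hw h
    apply hw
    have := congrArg ((A⁻¹).val *ᵥ ·) h
    simpa [← app] using this
  let σ : Equiv.Perm X :=
    { toFun := fun w => ⟨⟨M.val *ᵥ w.1.1, hinv M (Commute.refl M) _ w.1.2⟩,
        fun h => hne0 M _ (fun e => w.2 (Subtype.ext e)) (congrArg Subtype.val h)⟩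
      invFun := fun w => ⟨⟨(M⁻¹).val *ᵥ w.1.1, hinv M⁻¹ (Commute.refl M).inv_left _ w.1.2⟩,
        fun h => hne0 M⁻¹ _ (fun e => w.2 (Subtype.ext e)) (congrArg Subtype.val h)⟩
      left_inv := fun w => Subtype.ext (Subtype.ext (by simp [← app]))
      right_inv := fun w => Subtype.ext (Subtype.ext (by simp [← app])) }
  have hσ : ∀ (k : ℕ) (w : X), ((σ ^ k) w).1.1 = (M ^ k).val *ᵥ w.1.1 := by
    intro k
    induction k with
    | zero => intro w; simp
    | succ k ih =>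
      intro w
      rw [pow_succ', Equiv.Perm.mul_apply, pow_succ', app, ← ih]
      rfl
  have hdiv : 9 ∣ Nat.card X := nine_dvd_card σ
    (Equiv.ext fun w => Subtype.ext (Subtype.ext (by rw [hσ, h9]; simp)))
    (fun w h => w.2 (Subtype.ext (hfix _ w.1.2 (by rw [← hσ, h]))))
  have hX : Nat.card X + 1 = Nat.card W := by
    haveI := Fintype.ofFinite W
    rw [Nat.card_eq_fintype_card, Nat.card_eq_fintype_card, Fintype.card_subtype_compl, Fintype.card_subtype_eq]
    have := Fintype.card_pos (α := W)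
    omega
  have hW : Nat.card W ∣ 32 := by
    have := AddSubgroup.card_addSubgroup_dvd_card W
    simpa using this
  have hXpos : 0 < Nat.card X := by
    obtain ⟨v, hv⟩ : ∃ v, (M ^ 3).val *ᵥ v ≠ v := by
      by_contra hall; push Not at hall
      apply hne
      apply Units.ext
      exact Matrix.ext_of_mulVec_single fun i => by rw [hall, Units.val_one, Matrix.one_mulVec]
    haveI : Nonempty X := ⟨⟨⟨_, v, rfl⟩, fun h => hv (sub_eq_zero.mp (congrArg Subtype.val h))⟩⟩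
    exact Nat.card_pos
  have hle := Nat.le_of_dvd (by norm_num) hW
  obtain ⟨c, hc⟩ := hdiv
  have : c < 4 := by omega
  interval_cases c <;> rw [hc] at hX <;> rw [← hX] at hW <;> norm_num at hW
  omega

theorem exists_nine {F : Type*} [Field F] [Fintype F] (hF : Fintype.card F = 8) :
    ∃ g : Matrix.ProjectiveSpecialLinearGroup (Fin 2) F, g ^ 9 = 1 ∧ g ^ 3 ≠ 1 := by
  classical
  haveI : CharP F 2 := charP_of_card_eq_prime_pow (f := 3) (hp := ⟨Nat.prime_two⟩) (by rw [hF]; norm_num)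
  have h2 : (2 : F) = 0 := CharTwo.two_eq_zero
  obtain ⟨a, ha⟩ : ∃ a : F, a ^ 3 = a + 1 := by
    obtain ⟨a, ha⟩ : ∃ a : F, a ∉ ({0, 1} : Finset F) := by
      by_contra h; push Not at h
      have := Finset.card_le_card (fun a (_ : a ∈ Finset.univ) => h a)
      rw [Finset.card_univ, hF] at this
      have h' := Finset.card_le_two (a := (0 : F)) (b := 1)
      omega
    simp only [Finset.mem_insert, Finset.mem_singleton, not_or] at ha
    have h7 : a ^ 7 = 1 := by
      have := FiniteField.pow_card_sub_one_eq_one a ha.1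
      rwa [hF] at this
    have hz : (a - 1) * ((a ^ 3 + a + 1) * (a ^ 3 + a ^ 2 + 1)) = 0 := by
      linear_combination h7 + (a ^ 4 - a ^ 3) * h2
    rcases mul_eq_zero.mp hz with h | h
    · exact absurd (sub_eq_zero.mp h) ha.2
    rcases mul_eq_zero.mp h with h | h
    · exact ⟨a, by linear_combination h - (a + 1) * h2⟩
    · refine ⟨a⁻¹, ?_⟩
      field_simp [ha.1]
      linear_combination (-1) * h + 1 * h2
  let A : Matrix.SpecialLinearGroup (Fin 2) F :=
    ⟨!![0, 1; 1, a], by rw [Matrix.det_fin_two_of]; linear_combination -h2 * (1 : F) + 0 * h2⟩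
  have h3 : ((A ^ 3 : Matrix.SpecialLinearGroup (Fin 2) F) : Matrix (Fin 2) (Fin 2) F)
      = !![a, a ^ 2 + 1; a ^ 2 + 1, a + 1] := by
    rw [Matrix.SpecialLinearGroup.coe_pow, pow_succ, pow_two]
    ext i j
    fin_cases i <;> fin_cases j <;> simp [A, Matrix.mul_apply, Fin.sum_univ_two]
    all_goals first | (linear_combination ha + a * h2) | (linear_combination 0 * h2) | ring
  refine ⟨QuotientGroup.mk' _ A, ?_, ?_⟩
  · rw [← map_pow]
    convert map_one (QuotientGroup.mk' (Subgroup.center (Matrix.SpecialLinearGroup (Fin 2) F)))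
    apply Subtype.ext
    rw [show (9 : ℕ) = 3 * 3 from rfl, pow_mul, Matrix.SpecialLinearGroup.coe_pow, h3, Matrix.SpecialLinearGroup.coe_one, pow_succ, pow_two]
    ext i j
    fin_cases i <;> fin_cases j <;> simp [Matrix.mul_apply, Fin.sum_univ_two]
    · linear_combination (3 * a ^ 2 + a + 10) * ha + (3 * a ^ 2 + 7 * a + 5) * h2
    · linear_combination (a ^ 3 + 7 * a + 4) * ha + (7 * a ^ 2 + 7 * a + 3) * h2
    · linear_combination (a ^ 3 + 7 * a + 4) * ha + (7 * a ^ 2 + 7 * a + 3) * h2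
    · linear_combination (3 * a ^ 2 + 2 * a + 10) * ha + (6 * a ^ 2 + 9 * a + 6) * h2
  · intro h
    rw [← map_pow] at h
    have hc := Subgroup.mem_center_iff.mp ((QuotientGroup.eq_one_iff _).mp h)
      (⟨!![1, 1; 0, 1], by rw [Matrix.det_fin_two_of]; ring⟩ : Matrix.SpecialLinearGroup (Fin 2) F)
    have hc' := congrArg (fun g : Matrix.SpecialLinearGroup (Fin 2) F => (g : Matrix (Fin 2) (Fin 2) F) 0 0) hc
    replace hc' : ((!![1, 1; 0, 1] : Matrix (Fin 2) (Fin 2) F) * ((A ^ 3 : Matrix.SpecialLinearGroup (Fin 2) F) : Matrix (Fin 2) (Fin 2) F)) 0 0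
        = ((((A ^ 3 : Matrix.SpecialLinearGroup (Fin 2) F) : Matrix (Fin 2) (Fin 2) F) * (!![1, 1; 0, 1] : Matrix (Fin 2) (Fin 2) F) : Matrix (Fin 2) (Fin 2) F)) 0 0 := hc'
    rw [h3] at hc'
    simp [Matrix.mul_apply, Fin.sum_univ_two] at hc'
    have hsq : (a + 1) * (a + 1) = 0 := by linear_combination hc' + a * h2
    have ha1 : a + 1 = 0 := mul_self_eq_zero.mp hsq
    have h31 := ha
    rw [show a = -1 by linear_combination ha1] at h31
    exact one_ne_zero (α := F) (by linear_combination (-1) * h31)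

theorem main {H : Subgroup (GL (Fin 5) (ZMod 2))}
    {K : Subgroup ↥H} [K.Normal]
    (hX : (∃ (n : ℕ) (F : Type) (_ : Field F) (_ : Fintype F), 2 ≤ n ∧ Fintype.card F = 2 ^ n ∧
        Nonempty (↥H ⧸ K ≃* Matrix.ProjectiveSpecialLinearGroup (Fin 2) F)) ∨
      (∃ (m : ℕ) (F : Type) (_ : Field F) (_ : Fintype F), 1 ≤ m ∧ Fintype.card F = 2 ^ (2 * m + 1) ∧
        Nonempty (↥H ⧸ K ≃* ↥(Cfsg.Lie.Sz F (2 ^ (m + 1))))) ∨
      (∃ (n : ℕ) (F : Type) (_ : Field F) (_ : Fintype F), 2 ≤ n ∧ Fintype.card F = 4 ^ n ∧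
        Nonempty (↥H ⧸ K ≃* Cfsg.PSU 3 F (2 ^ n)))) :
    ∃ (F : Type) (_ : Field F) (_ : Fintype F), Fintype.card F = 4 ∧
      Nonempty (↥H ⧸ K ≃* Matrix.ProjectiveSpecialLinearGroup (Fin 2) F) := by
  have hd : Nat.card (↥H ⧸ K) ∣ 9999360 := by
    have h1 : Nat.card (↥H ⧸ K) ∣ Nat.card H := Subgroup.card_quotient_dvd_card K
    have h2 : Nat.card H ∣ Nat.card (GL (Fin 5) (ZMod 2)) := H.card_subgroup_dvd_card
    rw [Cfsg.Agent.LinearGroup.card_GL_eq_pow_mul_prod, Nat.card_zmod] at h2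
    exact h1.trans (h2.trans (dvd_of_eq (by decide)))
  have h2pow : ∀ k, 2 ^ k ∣ 9999360 → k ≤ 10 := by
    intro k hk
    by_contra hlt
    exact absurd ((pow_dvd_pow 2 (by omega : 11 ≤ k)).trans hk) (by norm_num)
  rcases hX with ⟨n, F, i1, i2, hn, hF, ⟨e⟩⟩ | ⟨m, F, i1, i2, hm, hF, ⟨e⟩⟩ | ⟨n, F, i1, i2, hn, hF, ⟨e⟩⟩
  · have hq : Nat.card F = 2 ^ n := by rw [Nat.card_eq_fintype_card, hF]
    have hc := Cfsg.Agent.LinearGroup.gcd_mul_card_PSL_two (F := F)
    have hg : Nat.gcd 2 (Nat.card F - 1) = 1 := by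
      refine (Nat.prime_two.coprime_iff_not_dvd).mpr ?_
      have : 2 ∣ 2 ^ n := dvd_pow_self 2 (by omega)
      have := Nat.one_le_two_pow (n := n)
      rw [hq]; omega
    rw [hg, one_mul, hq, ← Nat.card_congr e.toEquiv] at hc
    have hn10 : n ≤ 10 := h2pow n ((Dvd.intro _ hc.symm).trans hd)
    rw [hc] at hd
    interval_cases n <;> norm_num at hd
    · exact ⟨F, i1, i2, by rw [hF]; norm_num, ⟨e⟩⟩
    · exfalso
      obtain ⟨g, hg9, hg3⟩ := exists_nine (F := F) (by rw [hF]; norm_num)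
      obtain ⟨x, hx⟩ := e.surjective g
      obtain ⟨y, rfl⟩ := QuotientGroup.mk_surjective x
      obtain ⟨j, r, hr, hjr⟩ := Nat.exists_eq_pow_mul_and_not_dvd (orderOf_pos (y : GL (Fin 5) (ZMod 2))).ne' 3 (by norm_num)
      obtain ⟨M, hMdef⟩ : ∃ M, (y : GL (Fin 5) (ZMod 2)) ^ r = M := ⟨_, rfl⟩
      have hMj : M ^ (3 ^ j) = 1 := by
        rw [← hMdef, ← pow_mul, mul_comm r, ← hjr, pow_orderOf_eq_one]
      have hstep : ∀ k, M ^ (3 ^ k) = 1 → M ^ 3 = 1 := by
        intro k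
        induction k with
        | zero => intro h; rw [pow_zero, pow_one] at h; rw [h, one_pow]
        | succ k ih =>
          intro h
          rcases Nat.eq_zero_or_pos k with rfl | hk
          · simpa using h
          obtain ⟨k', rfl⟩ := Nat.exists_eq_succ_of_ne_zero hk.ne'
          refine ih ?_
          have h9 : (M ^ (3 ^ k')) ^ 9 = 1 := by
            rw [← pow_mul, ← h]; congr 1; simp [pow_succ, mul_assoc]
          have := pow_three_eq_one _ h9
          rwa [← pow_mul, ← pow_succ] at this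
      have hM3 := hstep j hMj
      have hg_pow : g ^ (3 * r) = 1 := by
        rw [← hx, ← map_pow, ← QuotientGroup.mk_pow]
        have : y ^ (3 * r) = 1 := Subtype.ext (by
          rw [SubmonoidClass.coe_pow, mul_comm, pow_mul, hMdef, hM3]; rfl)
        rw [this, QuotientGroup.mk_one, map_one]
      apply hg3
      have : orderOf g ∣ Nat.gcd (3 * r) 9 := Nat.dvd_gcd (orderOf_dvd_of_pow_eq_one hg_pow) (orderOf_dvd_of_pow_eq_one hg9)
      rw [show (9 : ℕ) = 3 * 3 from rfl, Nat.gcd_mul_left,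
        Nat.coprime_iff_gcd_eq_one.mp ((Nat.prime_three.coprime_iff_not_dvd.mpr hr).symm), mul_one] at this
      exact orderOf_dvd_iff_pow_eq_one.mp this
  · exfalso
    have hc := Cfsg.Agent.Suzuki.card_Sz hF hm
    rw [Nat.card_congr (Cfsg.Agent.RankOne.SzBridge.szEquiv hF hm).toEquiv, ← Nat.card_congr e.toEquiv] at hc
    have hm2 : (2 * m + 1) * 2 ≤ 10 := h2pow _ (by
      rw [pow_mul]; exact ((Dvd.intro _ rfl).trans (dvd_of_eq (by rw [mul_assoc] at hc; exact hc.symm))).trans hd)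
    rw [hc] at hd
    have : m ≤ 2 := by omega
    interval_cases m <;> norm_num at hd
  · exfalso
    have hF' : Fintype.card F = (2 ^ n) ^ 2 := by rw [hF, ← pow_mul, mul_comm, pow_mul]; norm_num
    have hc := Cfsg.Agent.Unitary.card_PSU hF' (n := 3) (by norm_num)
    obtain ⟨N, hN⟩ : ∃ N, Nat.card (Cfsg.PSU 3 F (2 ^ n)) = N := ⟨_, rfl⟩
    have hN' : Nat.card (Cfsg.SU 3 F (2 ^ n) ⧸ Subgroup.center (Cfsg.SU 3 F (2 ^ n))) = N := hN
    rw [hN'] at hc
    have hdN : N ∣ 9999360 := by rw [← hN, ← Nat.card_congr e.toEquiv]; exact hd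
    simp only [Finset.prod_range_succ, Finset.prod_range_zero] at hc
    norm_num at hc
    have hn3 : n * 3 ≤ 10 := h2pow _ (by
      rw [pow_mul]
      refine Dvd.dvd.trans ?_ hdN
      have hco : Nat.Coprime ((2 ^ n) ^ 3) (Nat.gcd 3 (2 ^ n + 1) * (2 ^ n + 1)) := by
        rw [← pow_mul]
        refine Nat.Coprime.pow_left _ ((Nat.prime_two.coprime_iff_not_dvd).mpr fun h => ?_)
        rcases Nat.prime_two.dvd_mul.mp h with h | h
        · exact absurd (h.trans (Nat.gcd_dvd_left _ _)) (by norm_num)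
        · have : 2 ∣ 2 ^ n := dvd_pow_self 2 (by omega)
          omega
      refine hco.dvd_of_dvd_mul_left ?_
      rw [mul_assoc]
      exact Dvd.intro _ hc.symm)
    have hn' : n ≤ 3 := by omega
    interval_cases n <;> norm_num at hc
    · obtain rfl : N = 62400 := by omega
      norm_num at hdN
    · obtain rfl : N = 5515776 := by omega
      norm_num at hdN

/-- Let X be a section of the general linear group GL(5, 2), that is, a quotient of a subgroup of it. If X is isomorphic to PSL(2, 2^n) for some n ≥ 2, to a Suzuki group over the field with 2^(2m+1) elements for some m ≥ 1, or to PSU(3, 2^n) for some n ≥ 2, then X is isomorphic to PSL(2, 4). -/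
theorem result {H : Subgroup (GL (Fin 5) (ZMod 2))}
    {K : Subgroup ↥H} [K.Normal]
    (hX : (∃ (n : ℕ) (F : Type) (_ : Field F) (_ : Fintype F), 2 ≤ n ∧ Fintype.card F = 2 ^ n ∧
        Nonempty (↥H ⧸ K ≃* Matrix.ProjectiveSpecialLinearGroup (Fin 2) F)) ∨
      (∃ (m : ℕ) (F : Type) (_ : Field F) (_ : Fintype F), 1 ≤ m ∧ Fintype.card F = 2 ^ (2 * m + 1) ∧
        Nonempty (↥H ⧸ K ≃* ↥(Cfsg.Lie.Sz F (2 ^ (m + 1))))) ∨
      (∃ (n : ℕ) (F : Type) (_ : Field F) (_ : Fintype F), 2 ≤ n ∧ Fintype.card F = 4 ^ n ∧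
        Nonempty (↥H ⧸ K ≃* Cfsg.PSU 3 F (2 ^ n)))) :
    ∃ (F : Type) (_ : Field F) (_ : Fintype F), Fintype.card F = 4 ∧
      Nonempty (↥H ⧸ K ≃* Matrix.ProjectiveSpecialLinearGroup (Fin 2) F) := by
  exact main hX

end Cfsg.Agent.S3179
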