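import Cfsg.Statements.S3180

set_option autoImplicit false
open Cfsg

namespace Cfsg.Agent.S3180

/-- Let P be a Sylow p-subgroup of a finite group J and P₁ a subgroup of P that is weakly closed in P with respect to J. If J acts on a set and two points, each fixed by every element of P₁, lie in one J-orbit, then they lie in one orbit of the normalizer of P₁ in J. -/
theorem result {J : Type*} [Group J] [Finite J]
    {p : ℕ} [Fact p.Prime] (P : Sylow p J) (P₁ : Subgroup J) (hW : Cfsg.IsWeaklyClosed P₁ (P : Subgroup J))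
    {Ω : Type*} [MulAction J Ω] (x y : Ω) (hx : ∀ g ∈ P₁, g • x = x) (hy : ∀ g ∈ P₁, g • y = y)
    (hc : ∃ g : J, g • x = y) :
    ∃ g ∈ Subgroup.normalizer (P₁ : Set J), g • x = y := by
  obtain ⟨g, hg⟩ := hc
  let Jy := MulAction.stabilizer J y
  have h1 : P₁ ≤ Jy := fun a ha => hy a ha
  have h2 : P₁.map (MulAut.conj g).toMonoidHom ≤ Jy := by
    rintro _ ⟨a, ha, rfl⟩
    show (g * a * g⁻¹) • y = y
    rw [← hg, mul_smul, mul_smul, inv_smul_smul, hx a ha]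
  have hp : IsPGroup p P₁ := IsPGroup.to_le P.isPGroup' hW.1
  obtain ⟨Q, hQ⟩ := (hp.of_equiv (Subgroup.subgroupOfEquivOfLe h1).symm).exists_le_sylow
  have hp2 : IsPGroup p (P₁.map (MulAut.conj g).toMonoidHom) := hp.map _
  obtain ⟨Q', hQ'⟩ := (hp2.of_equiv (Subgroup.subgroupOfEquivOfLe h2).symm).exists_le_sylow
  obtain ⟨h, hh⟩ := MulAction.exists_smul_eq Jy Q' Q
  let R : Subgroup J := (Q : Subgroup Jy).map Jy.subtype
  have hR : IsPGroup p R := Q.isPGroup'.map _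
  obtain ⟨T, hT⟩ := hR.exists_le_sylow
  obtain ⟨k, hk⟩ := MulAction.exists_smul_eq J T P
  have hkP : ∀ a ∈ (T : Subgroup J), k * a * k⁻¹ ∈ (P : Subgroup J) := by
    intro a ha
    rw [← hk]
    exact ⟨a, ha, rfl⟩
  have A1 : ∀ a ∈ P₁, k * a * k⁻¹ ∈ (P : Subgroup J) := fun a ha =>
    hkP a (hT ⟨⟨a, h1 ha⟩, hQ (Subgroup.mem_subgroupOf.2 ha), rfl⟩)
  have A2 : ∀ a ∈ P₁, (k * h * g) * a * (k * h * g)⁻¹ ∈ (P : Subgroup J) := by
    intro a ha
    have hm : (h : J) * (g * a * g⁻¹) * (h : J)⁻¹ ∈ R := by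
      have hq : (⟨g * a * g⁻¹, h2 ⟨a, ha, rfl⟩⟩ : Jy) ∈ (Q' : Subgroup Jy) :=
        hQ' (Subgroup.mem_subgroupOf.2 ⟨a, ha, rfl⟩)
      refine ⟨h * ⟨g * a * g⁻¹, h2 ⟨a, ha, rfl⟩⟩ * h⁻¹, ?_, rfl⟩
      rw [← hh]
      exact ⟨_, hq, rfl⟩
    have := hkP _ (hT hm)
    simpa only [mul_inv_rev, mul_assoc] using this
  have N : ∀ m : J, (∀ a ∈ P₁, m * a * m⁻¹ ∈ (P : Subgroup J)) → m ∈ Subgroup.normalizer (P₁ : Set J) := by
    intro m hm
    have e := hW.2 m (by rintro _ ⟨a, ha, rfl⟩; exact hm a ha)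
    rw [Subgroup.mem_normalizer_iff]
    intro a
    constructor
    · intro ha
      have : m * a * m⁻¹ ∈ P₁.map (MulAut.conj m).toMonoidHom := ⟨a, ha, rfl⟩
      rwa [e] at this
    · intro ha
      rw [← e] at ha
      obtain ⟨b, hb, hb'⟩ := ha
      have : b = a := (MulAut.conj m).injective hb'
      exact this ▸ hb
  refine ⟨k⁻¹ * (k * h * g), mul_mem (inv_mem (N k A1)) (N _ A2), ?_⟩
  rw [mul_assoc k, inv_mul_cancel_left, mul_smul, hg]
  exact h.2

end Cfsg.Agent.S3180
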