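import Cfsg.Statements.S3190
import Cfsg.Agent.Lib.PGroup.Basic

set_option autoImplicit false
open Cfsg

namespace Cfsg.Agent.S3190

/-- Let p be an odd prime and, inside a finite group, let P be a p-subgroup normalized by a Klein four-group T. Let R be a subgroup of P, normal in P and normalized by T, such that P is the product of R with the centralizer of T in P. If T centralizes the centre of P, then T centralizes the centre of R. -/
theorem result {X : Type*} [Group X] [Finite X]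
    {p : ℕ} (hp : p.Prime) (hodd : Odd p) (P T R : Subgroup X) (hP : IsPGroup p ↥P) (hT : IsKleinFour ↥T)
    (hTP : T ≤ Subgroup.normalizer (P : Set X)) (hRP : R ≤ P) (hRn : (R.subgroupOf P).Normal)
    (hTR : T ≤ Subgroup.normalizer (R : Set X)) (hfac : R ⊔ (P ⊓ Subgroup.centralizer (T : Set X)) = P)
    (hZ : T ≤ Subgroup.centralizer (((Subgroup.center ↥P).map P.subtype : Subgroup X) : Set X)) :
    T ≤ Subgroup.centralizer (((Subgroup.center ↥R).map R.subtype : Subgroup X) : Set X) := by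
  intro t ht
  by_contra hne
  haveI : Fact p.Prime := ⟨hp⟩
  obtain ⟨ZR, hZR⟩ : ∃ H : Subgroup X, H = (Subgroup.center ↥R).map R.subtype := ⟨_, rfl⟩
  rw [← hZR] at hne
  have mem_ZR : ∀ z : X, z ∈ ZR ↔ z ∈ R ∧ ∀ r ∈ R, r * z = z * r := by
    intro z
    rw [hZR, Subgroup.mem_map]
    constructor
    · rintro ⟨⟨y, hy⟩, hc, rfl⟩
      exact ⟨hy, fun r hr => congrArg Subtype.val (Subgroup.mem_center_iff.1 hc ⟨r, hr⟩)⟩
    · rintro ⟨hzR, hc⟩
      exact ⟨⟨z, hzR⟩, Subgroup.mem_center_iff.2 fun r => Subtype.ext (hc r r.2), rfl⟩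
  have ht2 : t * t = 1 := by
    have h : (⟨t, ht⟩ : T) * ⟨t, ht⟩ = 1 := IsKleinFour.mul_self _
    simpa using congrArg Subtype.val h
  have ti : t⁻¹ = t := inv_eq_of_mul_eq_one_left ht2
  have nR : ∀ g : X, (∀ r, r ∈ R ↔ g * r * g⁻¹ ∈ R) → ∀ z ∈ ZR, g * z * g⁻¹ ∈ ZR := by
    intro g hg z hz
    rw [mem_ZR] at hz ⊢
    refine ⟨(hg z).1 hz.1, fun r hr => ?_⟩
    have h1 : g⁻¹ * r * g ∈ R := by rw [hg]; simpa [mul_assoc] using hr
    have := congrArg (fun w => g * w * g⁻¹) (hz.2 _ h1)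
    simpa [mul_assoc] using this
  have tR := Subgroup.mem_normalizer_iff.1 (hTR ht)
  obtain ⟨z₀, hz₀, hz₀t⟩ : ∃ z ∈ ZR, t * z * t⁻¹ ≠ z := by
    by_contra! hall
    exact hne fun z hz => (mul_inv_eq_iff_eq_mul.1 (hall z hz)).symm
  have comm : ∀ a ∈ ZR, ∀ b ∈ ZR, a * b = b * a := fun a ha b hb =>
    ((mem_ZR b).1 hb).2 a ((mem_ZR a).1 ha).1
  let M : Subgroup X :=
    { carrier := {z | z ∈ ZR ∧ t * z * t⁻¹ = z⁻¹}
      one_mem' := ⟨one_mem _, by simp⟩
      mul_mem' := by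
        rintro a b ⟨ha, ha'⟩ ⟨hb, hb'⟩
        refine ⟨mul_mem ha hb, ?_⟩
        calc t * (a * b) * t⁻¹ = (t * a * t⁻¹) * (t * b * t⁻¹) := by group
          _ = a⁻¹ * b⁻¹ := by rw [ha', hb']
          _ = b⁻¹ * a⁻¹ := comm _ (inv_mem ha) _ (inv_mem hb)
          _ = (a * b)⁻¹ := (mul_inv_rev a b).symm
      inv_mem' := by
        rintro a ⟨ha, ha'⟩
        refine ⟨inv_mem ha, ?_⟩
        calc t * a⁻¹ * t⁻¹ = (t * a * t⁻¹)⁻¹ := by group
          _ = a⁻¹⁻¹ := by rw [ha'] }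
  have memM : ∀ {z}, z ∈ M ↔ z ∈ ZR ∧ t * z * t⁻¹ = z⁻¹ := Iff.rfl
  have hw : t * z₀ * t⁻¹ * z₀⁻¹ ∈ M := by
    have h1 : t * z₀ * t⁻¹ ∈ ZR := nR t tR z₀ hz₀
    refine memM.2 ⟨mul_mem h1 (inv_mem hz₀), ?_⟩
    have h2 : t * (t * z₀ * t⁻¹ * z₀⁻¹) * t⁻¹ = (t * t) * z₀ * (t⁻¹ * t⁻¹) * (t * z₀ * t⁻¹)⁻¹ := by group
    rw [h2, ht2, show t⁻¹ * t⁻¹ = (1 : X) by rw [← mul_inv_rev, ht2, inv_one], one_mul, mul_one]
    group
  have hMP : ∀ g ∈ P, ∀ z ∈ M, g * z * g⁻¹ ∈ M := by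
    have hle : R ⊔ (P ⊓ Subgroup.centralizer (T : Set X)) ≤ Subgroup.normalizer (M : Set X) := by
      apply sup_le
      · intro r hr
        rw [Subgroup.mem_normalizer_iff]
        intro z
        constructor
        · intro hz
          rw [((mem_ZR z).1 hz.1).2 r hr, mul_inv_cancel_right]
          exact hz
        · intro hz
          have h3 := ((mem_ZR _).1 hz.1).2 r⁻¹ (inv_mem hr)
          have : z = r * z * r⁻¹ := by
            have := congrArg (fun w => w * r) h3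
            simpa [mul_assoc] using this
          exact this ▸ hz
      · intro c hc
        obtain ⟨hcP, hcT⟩ := Subgroup.mem_inf.1 hc
        have key : ∀ d : X, d ∈ P → t * d = d * t → ∀ z ∈ M, d * z * d⁻¹ ∈ M := by
          intro d hd htd z hz
          refine memM.2 ⟨nR d ?_ z hz.1, ?_⟩
          · intro r
            constructor
            · intro hr
              exact Subgroup.mem_subgroupOf.1 (hRn.conj_mem ⟨r, hRP hr⟩ (Subgroup.mem_subgroupOf.2 hr) ⟨d, hd⟩)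
            · intro hr
              have := Subgroup.mem_subgroupOf.1 (hRn.conj_mem ⟨d * r * d⁻¹, hRP hr⟩ (Subgroup.mem_subgroupOf.2 hr) (⟨d, hd⟩⁻¹ : ↥P))
              simpa [mul_assoc] using this
          · have hti : d⁻¹ * t⁻¹ = t⁻¹ * d⁻¹ := by rw [← mul_inv_rev, ← mul_inv_rev, htd]
            calc t * (d * z * d⁻¹) * t⁻¹ = (t * d) * z * (d⁻¹ * t⁻¹) := by group
              _ = d * (t * z * t⁻¹) * d⁻¹ := by rw [htd, hti]; group
              _ = (d * z * d⁻¹)⁻¹ := by rw [hz.2]; group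
        have hcomm : t * c = c * t := hcT t ht
        rw [Subgroup.mem_normalizer_iff]
        intro z
        refine ⟨key c hcP hcomm z, fun h => ?_⟩
        have hci : t * c⁻¹ = c⁻¹ * t := (Commute.inv_right hcomm : _)
        simpa [mul_assoc] using key c⁻¹ (inv_mem hcP) hci _ h
    intro g hg z hz
    exact (Subgroup.mem_normalizer_iff.1 (hle (hfac.symm ▸ hg)) z).1 hz
  have hM' : M ≤ P := fun z hz => hRP ((mem_ZR z).1 hz.1).1
  let N : Subgroup P := M.subgroupOf P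
  haveI : N.Normal := ⟨fun n hn g => Subgroup.mem_subgroupOf.2 (by
    simpa using hMP g g.2 _ (Subgroup.mem_subgroupOf.1 hn))⟩
  have hN : Nontrivial N := by
    rw [Subgroup.nontrivial_iff_exists_ne_one]
    refine ⟨⟨_, hM' hw⟩, Subgroup.mem_subgroupOf.2 hw, fun h => hz₀t ?_⟩
    have := congrArg Subtype.val h
    exact mul_inv_eq_one.1 this
  have := Cfsg.Agent.PGroup.inf_center_ne_bot hP (N := N) ((Subgroup.nontrivial_iff_ne_bot N).1 hN)
  apply this
  rw [eq_bot_iff]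
  rintro ⟨m, hm⟩ ⟨hmN, hmZ⟩
  have hmM : m ∈ M := Subgroup.mem_subgroupOf.1 hmN
  have hfix : t * m * t⁻¹ = m :=
    mul_inv_eq_iff_eq_mul.2 ((hZ ht) m ⟨⟨m, hm⟩, hmZ, rfl⟩).symm
  have h2 : m ^ 2 = 1 := by
    rw [pow_two]
    nth_rw 1 [← hfix]
    rw [hmM.2, inv_mul_cancel]
  obtain ⟨k, hk⟩ := hP ⟨m, hm⟩
  have hk' : m ^ p ^ k = 1 := by simpa using congrArg Subtype.val hk
  obtain ⟨j, hj⟩ := (hodd.pow (n := k))
  have : m = 1 := by rw [hj, pow_succ, pow_mul, h2, one_pow, one_mul] at hk'; exact hk'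
  exact Subgroup.mem_bot.2 (Subtype.ext this)

end Cfsg.Agent.S3190
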