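import Cfsg.Statements.S3192
import Cfsg.Agent.Ito7.Finish

set_option autoImplicit false
open Cfsg

namespace Cfsg.Agent.S3192

/-- Simple groups of conjugate type rank three. For a finite group G consider the set of indices of the centralizers of the non-central elements of G. Then G is a non-abelian simple group for which this set has exactly three members if and only if G is isomorphic to PSL(2, 2^m) for some m ≥ 2. -/
theorem result (G : Type*) [Group G] [Finite G] :
    (IsSimpleGroup G ∧ ¬ IsMulCommutative G ∧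
        Set.ncard {m : ℕ | ∃ x : G, x ∉ Subgroup.center G ∧ m = (Subgroup.centralizer ({x} : Set G)).index} = 3) ↔
      ∃ (m : ℕ) (F : Type) (_ : Field F) (_ : Fintype F), 2 ≤ m ∧ Fintype.card F = 2 ^ m ∧
        Nonempty (G ≃* Matrix.ProjectiveSpecialLinearGroup (Fin 2) F) := by
  constructor
  · rintro ⟨hs, hnc, h3⟩
    haveI := hs
    rcases Agent.CharDeep.CA.good_of_abInv
      (Agent.Ito7.abInv_of_antichain (Agent.Ito7.antichain_of_three hnc h3)) with
      hc | hc | ⟨F, iF, iFF, f, A, iA, iAf, hf2, hf, -, ⟨e⟩⟩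
    · exfalso
      obtain ⟨P⟩ := (inferInstance : Nonempty (Sylow 2 G))
      exact Agent.Ito7.false_of_cyclic_sylow hnc P (hc P) (Agent.Ito7.two_dvd_card hs hnc)
    · exfalso
      haveI := Fact.mk Nat.prime_two
      obtain ⟨P⟩ := (inferInstance : Nonempty (Sylow 2 G))
      exact Agent.Ito7.false_of_normal_sylow hnc P (hc P) (Agent.Ito7.two_dvd_card hs hnc)
    · refine ⟨f, F, iF, iFF, hf2, hf, ?_⟩
      obtain ⟨ψ⟩ := Agent.CharDeep.OrderP.nonempty_psl_equiv_sl hf
      haveI : Nontrivial (Matrix.SpecialLinearGroup (Fin 2) F) := by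
        haveI := Agent.Classification.isSimpleGroup_psl_two F (by
          rw [hf]; exact le_trans (by norm_num) (Nat.pow_le_pow_right (by norm_num) hf2))
        exact ψ.symm.toEquiv.nontrivial
      obtain ⟨e'⟩ := Agent.Ito7.fst_equiv e
      exact ⟨e'.trans ψ.symm⟩
  · rintro ⟨m, F, iF, iFF, hm, hF, ⟨e⟩⟩
    have h4 : 4 ≤ Fintype.card F := by
      rw [hF]; exact le_trans (by norm_num) (Nat.pow_le_pow_right (by norm_num) hm)
    haveI := Agent.CharDeep.OrderP.charP_two_of_card hF
    haveI := Agent.Classification.isSimpleGroup_psl_two F h4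
    obtain ⟨ψ⟩ := Agent.CharDeep.OrderP.nonempty_psl_equiv_sl hF
    haveI : Nontrivial G := e.toEquiv.nontrivial
    have hs : IsSimpleGroup G :=
      IsSimpleGroup.isSimpleGroup_of_surjective e.symm.toMonoidHom e.symm.surjective
    have h3 := Agent.Ito7.sizes_SL2 hF h4
    rw [← Agent.Ito7.sizes_congr (e.trans ψ)] at h3
    refine ⟨hs, fun hc => ?_, h3⟩
    obtain ⟨k, x, hx, -⟩ := Set.nonempty_of_ncard_ne_zero (h3.symm ▸ three_ne_zero)
    exact hx (Subgroup.mem_center_iff.2 fun g => hc.is_comm.comm g x)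

end Cfsg.Agent.S3192
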