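import Cfsg.Statements.S3195
import Cfsg.Agent.Lib.Involution.BaerSuzuki
import Cfsg.Agent.Lib.Involution.Dihedral
import Cfsg.Agent.InvChar.Standard

set_option autoImplicit false
open Cfsg

namespace Cfsg.Agent.S3195
lemma conj_pow' {G : Type*} [Group G] {a : G} (ha : a * a = 1) (u : G) (n : ℕ) :
    a * u ^ n * a = (a * u * a) ^ n := by
  induction n with
  | zero => simp [ha]
  | succ n ih =>
    rw [pow_succ, pow_succ, ← ih, show a * u ^ n * a * (a * u * a) = a * u ^ n * (a * a) * u * a by group, ha, mul_one]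
    group

lemma conj_of_inverted {G : Type*} [Group G] {a x : G} (ha : a * a = 1) (hinv : a * x * a = x⁻¹)
    {m : ℕ} (hm : x ^ (2 * m + 1) = 1) : ∃ g : G, g * a * g⁻¹ = a * x := by
  refine ⟨x ^ m, ?_⟩
  have h1 : a * x ^ m * a = (x⁻¹) ^ m := by rw [conj_pow' ha, hinv]
  have h2 : x ^ m * a = a * (x ^ m)⁻¹ := by
    have := congrArg (fun w => a * w) h1
    simp only [← mul_assoc, ha, one_mul, inv_pow] at this
    exact this
  have h3 : (x ^ m)⁻¹ * (x ^ m)⁻¹ = x := by
    rw [← mul_inv_rev, ← pow_add]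
    refine (eq_inv_of_mul_eq_one_left ?_).symm
    rw [← pow_succ', show m + m + 1 = 2 * m + 1 by omega]
    exact hm
  rw [h2, mul_assoc, h3]

lemma exists_inverted {G : Type*} [Group G] [Finite G] {a : G} (ha : a * a = 1) (ha1 : a ≠ 1)
    (hnot : a ∉ Cfsg.pCore 2 G) :
    ∃ x : G, x ≠ 1 ∧ a * x * a = x⁻¹ ∧ ∃ m : ℕ, x ^ (2 * m + 1) = 1 := by
  by_contra! hcon
  haveI : Fact (Nat.Prime 2) := ⟨Nat.prime_two⟩
  obtain ⟨N, hN, hNp, haN⟩ := Cfsg.Agent.Involution.baerSuzuki (p := 2) a fun g => by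
    obtain ⟨d, hd⟩ : ∃ d, g * a * g⁻¹ = d := ⟨_, rfl⟩
    have hd2 : d * d = 1 := by
      rw [← hd, show g * a * g⁻¹ * (g * a * g⁻¹) = g * (a * a) * g⁻¹ by group, ha, mul_one, mul_inv_cancel]
    rw [hd]
    have hu : a * (a * d) * a = (a * d)⁻¹ := by
      rw [← mul_assoc, ha, one_mul, mul_inv_rev, inv_eq_of_mul_eq_one_left ha, inv_eq_of_mul_eq_one_left hd2]
    obtain ⟨k, m, hm, hord⟩ := Nat.exists_eq_two_pow_mul_odd (orderOf_pos (a * d)).ne'
    obtain ⟨j, hj⟩ := hm
    have hk : (a * d) ^ 2 ^ k = 1 := by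
      by_contra hne
      refine hcon ((a * d) ^ 2 ^ k) hne ?_ j ?_
      · rw [conj_pow' ha, hu, inv_pow]
      · rw [← pow_mul, ← hj, ← hord, pow_orderOf_eq_one]
    intro z
    obtain ⟨i, hi | hi⟩ := (Cfsg.Agent.Involution.mem_closure_pair_involutions ha hd2).mp z.2
    · refine ⟨k, Subtype.ext ?_⟩
      rw [SubmonoidClass.coe_pow, hi, ← zpow_natCast, ← zpow_mul, mul_comm, zpow_mul, zpow_natCast, hk, one_zpow,
        Subgroup.coe_one]
    · refine ⟨1, Subtype.ext ?_⟩
      rw [SubmonoidClass.coe_pow, hi, pow_one, Subgroup.coe_one]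
      rw [pow_two]
      exact Cfsg.Agent.Involution.left_mul_zpow_sq ha hd2 i
  exact hnot (Cfsg.Agent.Thompson.le_pCore hN hNp haN)

lemma ne_inv_of_odd {G : Type*} [Group G] {x : G} (hx : x ≠ 1) {m : ℕ} (hm : x ^ (2 * m + 1) = 1) : x ≠ x⁻¹ := by
  intro h
  apply hx
  have h2 : x ^ 2 = 1 := by rw [pow_two]; exact mul_eq_one_iff_eq_inv.mpr h
  rwa [pow_succ, pow_mul, h2, one_pow, one_mul] at hm

lemma not_commute {G : Type*} [Group G] {a z : G} (ha : a * a = 1) (hinv : a * z * a = z⁻¹) (hne : z ≠ z⁻¹) :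
    a * z ≠ z * a := by
  intro h
  apply hne
  rw [← hinv, h, mul_assoc, ha, mul_one]


/-- Let A be a Klein four-subgroup of a finite group G. If every G-conjugate of every involution of A commutes with some involution of A (its centralizer meets A nontrivially), then A meets the largest normal 2-subgroup O₂(G) nontrivially. -/
theorem result {G : Type*} [Group G] [Finite G]
    (A : Subgroup G) (hA : IsKleinFour ↥A)
    (h : ∀ a ∈ A, a ≠ 1 → ∀ g : G, A ⊓ Subgroup.centralizer ({g * a * g⁻¹} : Set G) ≠ ⊥) :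
    A ⊓ Cfsg.pCore 2 G ≠ ⊥ := by
  by_contra hAO
  have hAsq : ∀ a ∈ A, a * a = 1 := fun a ha => by
    have h1 : (⟨a, ha⟩ : A) * ⟨a, ha⟩ = 1 := IsKleinFour.mul_self _
    simpa using congrArg Subtype.val h1
  have hcomm : ∀ a ∈ A, ∀ b ∈ A, a * b = b * a := fun a ha b hb => by
    rw [eq_inv_of_mul_eq_one_left (hAsq _ (A.mul_mem ha hb)), mul_inv_rev,
      inv_eq_of_mul_eq_one_left (hAsq a ha), inv_eq_of_mul_eq_one_left (hAsq b hb)]
  have hnot : ∀ a ∈ A, a ≠ 1 → a ∉ Cfsg.pCore 2 G := fun a ha ha1 haO => ha1 (by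
    have : a ∈ A ⊓ Cfsg.pCore 2 G := ⟨ha, haO⟩
    rwa [hAO, Subgroup.mem_bot] at this)
  have hcard : Nat.card A = 4 := IsKleinFour.card_four
  -- an element centralizing a prescribed conjugate
  have pick : ∀ a ∈ A, a ≠ 1 → ∀ g : G, ∃ e ∈ A, e ≠ 1 ∧ (g * a * g⁻¹) * e = e * (g * a * g⁻¹) := by
    intro a ha ha1 g
    obtain ⟨e, ⟨heA, hec⟩, he1⟩ := (Subgroup.bot_or_exists_ne_one _).resolve_left (h a ha ha1 g)
    exact ⟨e, heA, he1, hec (g * a * g⁻¹) rfl⟩
  -- `a` inverts `x`, some `b` centralizes `x`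
  have pick2 : ∀ a ∈ A, a ≠ 1 → ∃ x b : G, x ≠ 1 ∧ a * x * a = x⁻¹ ∧ (∃ m : ℕ, x ^ (2 * m + 1) = 1) ∧
      b ∈ A ∧ b ≠ 1 ∧ b ≠ a ∧ b * x = x * b := by
    intro a ha ha1
    obtain ⟨x, hx1, hxi, m, hm⟩ := exists_inverted (hAsq a ha) ha1 (hnot a ha ha1)
    obtain ⟨g, hg⟩ := conj_of_inverted (hAsq a ha) hxi hm
    obtain ⟨b, hb, hb1, hbc⟩ := pick a ha ha1 g
    rw [hg] at hbc
    refine ⟨x, b, hx1, hxi, ⟨m, hm⟩, hb, hb1, ?_, ?_⟩
    · rintro rfl
      apply not_commute (hAsq b ha) hxi (ne_inv_of_odd hx1 hm)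
      rw [← mul_assoc, hAsq b ha, one_mul] at hbc
      calc b * x = b * x * (b * b) := by rw [hAsq b ha, mul_one]
        _ = b * x * b * b := by group
        _ = x * b := by rw [hbc]
    · rw [← mul_assoc, ← hcomm a ha b hb, mul_assoc, mul_assoc] at hbc
      exact (mul_left_cancel hbc).symm
  obtain ⟨a₀, ha₀, ha₀1⟩ : ∃ a ∈ A, a ≠ 1 := by
    refine (Subgroup.bot_or_exists_ne_one A).resolve_left ?_
    intro h0
    rw [h0, Subgroup.card_bot] at hcard
    omega
  obtain ⟨x, b, hx1, hax, ⟨m, hm⟩, hb, hb1, hba₀, hbx⟩ := pick2 a₀ ha₀ ha₀1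
  obtain ⟨y, e, hy1, hby, ⟨n, hn⟩, he, he1, heb, hey⟩ := pick2 b hb hb1
  -- `e` is one of the two elements of `A` inverting `x`
  have helist : ∀ z ∈ A, z ≠ 1 → z = b ∨ z = a₀ ∨ z = a₀ * b := by
    intro z hz hz1
    by_contra! hcon
    classical
    let f : Fin 5 → A := ![1, ⟨a₀, ha₀⟩, ⟨b, hb⟩, ⟨a₀ * b, A.mul_mem ha₀ hb⟩, ⟨z, hz⟩]
    have hab1 : a₀ * b ≠ 1 := fun h1 => hba₀ (by
      have := congrArg (fun w => a₀ * w) h1
      simpa [← mul_assoc, hAsq a₀ ha₀] using this)
    have hf : Function.Injective f := by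
      intro i j hij
      have h' := congrArg Subtype.val hij
      fin_cases i <;> fin_cases j <;> first
        | rfl
        | exact absurd h' ha₀1 | exact absurd h'.symm ha₀1
        | exact absurd h' hb1 | exact absurd h'.symm hb1
        | exact absurd h' hz1 | exact absurd h'.symm hz1
        | exact absurd h' hba₀ | exact absurd h'.symm hba₀
        | exact absurd h' hab1 | exact absurd h'.symm hab1
        | exact absurd h' hcon.1 | exact absurd h'.symm hcon.1
        | exact absurd h' hcon.2.1 | exact absurd h'.symm hcon.2.1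
        | exact absurd h' hcon.2.2 | exact absurd h'.symm hcon.2.2
        | exact absurd (mul_eq_left.mp h') hb1 | exact absurd (mul_eq_left.mp h'.symm) hb1
        | exact absurd (mul_eq_right.mp h') ha₀1 | exact absurd (mul_eq_right.mp h'.symm) ha₀1
    have := Nat.card_le_card_of_injective f hf
    rw [hcard, Nat.card_fin] at this
    omega
  have hex : e * x * e = x⁻¹ := by
    rcases helist e he he1 with h0 | h0 | h0
    · exact absurd h0 heb
    · rw [h0]; exact hax
    · rw [h0]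
      calc a₀ * b * x * (a₀ * b) = a₀ * (b * x) * (b * a₀) := by rw [show a₀ * b * x * (a₀ * b) = a₀ * (b * x) * (a₀ * b) by group, hcomm a₀ ha₀ b hb]
        _ = a₀ * x * (b * b) * a₀ := by rw [hbx]; group
        _ = x⁻¹ := by rw [hAsq b hb, mul_one, hax]
  clear hax hba₀
  obtain ⟨c, hcdef⟩ : ∃ c, e * b = c := ⟨_, rfl⟩
  have hc : c ∈ A := hcdef ▸ A.mul_mem he hb
  have hcx : c * x * c = x⁻¹ := by
    rw [← hcdef, show e * b * x * (e * b) = e * (b * x) * (e * b) by group, hbx, ← hcomm b hb e he,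
      show e * (x * b) * (b * e) = e * x * (b * b) * e by group, hAsq b hb, mul_one, hex]
  have hcy : c * y * c = y⁻¹ := by
    rw [← hcdef, show e * b * y * (e * b) = e * b * y * (e * b) from rfl, hcomm e he b hb,
      show b * e * y * (b * e) = b * (e * y) * (b * e) by group, hey, hcomm b hb e he,
      show b * (y * e) * (e * b) = b * y * (e * e) * b by group, hAsq e he, mul_one, hby]
  have hcases : ∀ z ∈ A, z ≠ 1 → z = b ∨ z = e ∨ z = c := by
    intro z hz hz1
    rcases helist z hz hz1 with h1 | h1 | h1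
    · exact Or.inl h1
    all_goals
      rcases helist e he he1 with h2 | h2 | h2
      · exact absurd h2 heb
      · rw [← hcdef, h2]; tauto
      · rw [← hcdef, h2, mul_assoc, hAsq b hb, mul_one]; tauto
  -- `x` and `y` commute
  have hxy : x * y = y * x := by
    obtain ⟨g, hg⟩ := conj_of_inverted (hAsq b hb) hby hn
    obtain ⟨z, hz, hz1, hzc⟩ := pick b hb hb1 (x⁻¹ * g)
    have hd : x⁻¹ * g * b * (x⁻¹ * g)⁻¹ = x⁻¹ * (b * y) * x := by rw [← hg]; group
    rw [hd] at hzc
    have hbx' : x⁻¹ * b = b * x⁻¹ := by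
      have h0 : Commute b x := hbx
      exact h0.inv_right.eq.symm
    rcases hcases z hz hz1 with rfl | rfl | rfl
    · exfalso
      apply not_commute (hAsq z hb) hby (ne_inv_of_odd hy1 hn)
      have h1 : x⁻¹ * (z * y) * x * z = z * (x⁻¹ * (z * y) * x) := hzc
      have h2 : x⁻¹ * (z * y) * x * z = x⁻¹ * (z * y * z) * x := by
        rw [mul_assoc _ x z, ← hbx]; group
      have h3 : z * (x⁻¹ * (z * y) * x) = x⁻¹ * y * x := by
        rw [show z * (x⁻¹ * (z * y) * x) = (z * x⁻¹) * z * y * x by group, ← hbx',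
          show x⁻¹ * z * z * y * x = x⁻¹ * (z * z) * y * x by group, hAsq z hb, mul_one]
      rw [h2, h3] at h1
      have h4 : z * y * z = y := by
        have := congrArg (fun w => x * w * x⁻¹) h1
        simpa [mul_assoc] using this
      calc z * y = z * y * (z * z) := by rw [hAsq z hb, mul_one]
        _ = z * y * z * z := by group
        _ = y * z := by rw [h4]
    · -- `x ^ 2` centralizes `y`
      have h1 : z * (x⁻¹ * (b * y) * x) * z = x * (b * y) * x⁻¹ := by
        have e1 : z * x⁻¹ * z = x := by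
          have := congrArg (fun w => w⁻¹) hex
          simpa [mul_inv_rev, inv_eq_of_mul_eq_one_left (hAsq z hz), mul_assoc] using this
        calc z * (x⁻¹ * (b * y) * x) * z = (z * x⁻¹ * z) * (z * b * z) * (z * y * z) * (z * x * z) := by
              simp only [mul_assoc]
              simp [← mul_assoc z z, hAsq z hz]
          _ = x * (b * y) * x⁻¹ := by
              rw [e1, hex, hcomm z hz b hb, mul_assoc b z z, hAsq z hz, mul_one, hey, mul_assoc y z z, hAsq z hz, mul_one]
              group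
      rw [← hzc, mul_assoc, hAsq z hz, mul_one] at h1
      have h2 : x * x * (b * y) = b * y * (x * x) := by
        have := congrArg (fun w => x * w * x) h1
        simpa [mul_assoc] using this.symm
      have h3 : Commute ((x * x) ^ (m + 1)) (b * y) := Commute.pow_left h2 _
      rw [← pow_two, ← pow_mul, show 2 * (m + 1) = (2 * m + 1) + 1 by ring, pow_succ x (2 * m + 1), hm, one_mul] at h3
      have h4 := h3.eq
      rw [← mul_assoc, ← hbx, mul_assoc, mul_assoc] at h4
      exact mul_left_cancel h4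
    · exfalso
      have e1 : z * x⁻¹ * z = x := by
        have := congrArg (fun w => w⁻¹) hcx
        simpa [mul_inv_rev, inv_eq_of_mul_eq_one_left (hAsq z hz), mul_assoc] using this
      have h1 : z * (x⁻¹ * (b * y) * x) * z = x * (b * y⁻¹) * x⁻¹ := by
        calc z * (x⁻¹ * (b * y) * x) * z = (z * x⁻¹ * z) * (z * b * z) * (z * y * z) * (z * x * z) := by
              simp only [mul_assoc]
              simp [← mul_assoc z z, hAsq z hz]
          _ = x * (b * y⁻¹) * x⁻¹ := by
              rw [e1, hcx, hcy, hcomm z hz b hb, mul_assoc b z z, hAsq z hz, mul_one]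
              group
      rw [← hzc, mul_assoc, hAsq z hz, mul_one] at h1
      have h2 : x * x * (b * y⁻¹) * (x * x)⁻¹ = b * y := by
        have := congrArg (fun w => x * w * x⁻¹) h1
        simpa [mul_assoc] using this.symm
      have hbxx : b * (x * x) = (x * x) * b := ((show Commute b x from hbx).mul_right hbx).eq
      rw [show x * x * (b * y⁻¹) = (x * x * b) * y⁻¹ by group, ← hbxx,
        show b * (x * x) * y⁻¹ * (x * x)⁻¹ = b * ((x * x) * y⁻¹ * (x * x)⁻¹) by group] at h2
      have h5 : (x * x) * y⁻¹ * (x * x)⁻¹ = y := mul_left_cancel h2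
      obtain ⟨u, hu⟩ : ∃ u, x * x = u := ⟨_, rfl⟩
      rw [hu] at h5
      have hodd : ∀ k : ℕ, u ^ (2 * k + 1) * y⁻¹ * (u ^ (2 * k + 1))⁻¹ = y := by
        intro k
        induction k with
        | zero => simpa using h5
        | succ k ih =>
          have h6 : u * y * u⁻¹ = y⁻¹ := by
            have := congrArg (fun w => w⁻¹) h5
            simpa [mul_inv_rev, mul_assoc] using this
          rw [show 2 * (k + 1) + 1 = 2 + (2 * k + 1) by ring, pow_add, mul_inv_rev]
          calc u ^ 2 * u ^ (2 * k + 1) * y⁻¹ * ((u ^ (2 * k + 1))⁻¹ * (u ^ 2)⁻¹)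
              = u * (u * (u ^ (2 * k + 1) * y⁻¹ * (u ^ (2 * k + 1))⁻¹) * u⁻¹) * u⁻¹ := by group
            _ = y := by rw [ih, h6, h5]
      have := hodd m
      rw [← hu, show (x * x) ^ (2 * m + 1) = 1 by rw [← pow_two, ← pow_mul, mul_comm, pow_mul, hm, one_pow]] at this
      simp only [one_mul, inv_one, mul_one] at this
      exact ne_inv_of_odd hy1 hn this.symm
  -- `c` inverts `x * y`, whose conjugate commutes with nothing in `A`
  have hxyi : c * (x * y) * c = (x * y)⁻¹ := by
    rw [show c * (x * y) * c = c * x * (1 * y) * c by group, ← hAsq c hc,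
      show c * x * (c * c * y) * c = (c * x * c) * (c * y * c) by group, hcx, hcy, hxy, mul_inv_rev]
  obtain ⟨j, hj⟩ : ∃ j : ℕ, (x * y) ^ (2 * j + 1) = 1 := by
    refine ⟨2 * m * n + m + n, ?_⟩
    rw [show 2 * (2 * m * n + m + n) + 1 = (2 * m + 1) * (2 * n + 1) by ring, (show Commute x y from hxy).mul_pow,
      pow_mul, hm, one_pow, one_mul, mul_comm, pow_mul, hn, one_pow]
  obtain ⟨g, hg⟩ := conj_of_inverted (hAsq c hc) hxyi hj
  have hc1 : c ≠ 1 := fun h1 => heb (by
    have := congrArg (fun w => w * b) (hcdef.trans h1)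
    simpa [mul_assoc, hAsq b hb] using this)
  obtain ⟨z, hz, hz1, hzc⟩ := pick c hc hc1 g
  rw [hg] at hzc
  have hzxy : z * (x * y) = x * y * z := by
    rw [mul_assoc, ← mul_assoc z c, hcomm z hz c hc, mul_assoc c z] at hzc
    exact (mul_left_cancel hzc).symm
  rcases hcases z hz hz1 with rfl | rfl | rfl
  · apply not_commute (hAsq z hb) hby (ne_inv_of_odd hy1 hn)
    rw [← mul_assoc, hbx, mul_assoc, mul_assoc] at hzxy
    exact mul_left_cancel hzxy
  · apply not_commute (hAsq z hz) hex (ne_inv_of_odd hx1 hm)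
    rw [mul_assoc x, ← hey, ← mul_assoc, ← mul_assoc] at hzxy
    exact mul_right_cancel hzxy
  · refine not_commute (hAsq z hz) hxyi (ne_inv_of_odd ?_ hj) hzxy
    intro h1
    have hxe : x = y⁻¹ := eq_inv_of_mul_eq_one_left h1
    apply not_commute (hAsq b hb) hby (ne_inv_of_odd hy1 hn)
    have h2 := (show Commute b x from hbx).inv_right.eq
    rwa [hxe, inv_inv] at h2

end Cfsg.Agent.S3195
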