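import Cfsg.Statements.S3196
import Cfsg.Agent.Lib.Involution.BaerSuzuki
import Cfsg.Agent.Lib.Thompson.Cores
import Mathlib.GroupTheory.Nilpotent
import Mathlib.Tactic

set_option autoImplicit false
open Cfsg

namespace Cfsg.Agent.S3196
open scoped commutatorElement

section Abstract

variable {G : Type*} [Group G] {p : ℕ} [Fact p.Prime] {Q : Set G}

/-- In a group, if `x y x⁻¹ = c y` with `c` commuting with `x` and `y`, powers of `y` behave linearly. -/
lemma conj_pow_of_central {x y c : G} (h : x * y * x⁻¹ = c * y) (hcy : Commute c y) (k : ℕ) :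
    x * y ^ k * x⁻¹ = c ^ k * y ^ k := by
  rw [← hcy.mul_pow, ← h]
  exact map_pow (MulAut.conj x) y k

lemma exists_inverse_exp {q : G} (hq : orderOf q = p) {i : ℕ} (hi : q ^ i ≠ 1) : ∃ k : ℕ, (q ^ i) ^ k = q := by
  have hndvd : ¬ p ∣ i := fun h => hi (orderOf_dvd_iff_pow_eq_one.mp (hq ▸ h))
  have hc : Nat.Coprime i (orderOf q) := by
    rw [hq]; exact ((Fact.out : p.Prime).coprime_iff_not_dvd.mpr hndvd).symm
  exact exists_pow_eq_self_of_coprime hc

variable (hord : ∀ x ∈ Q, orderOf x = p) (hconj : ∀ x ∈ Q, ∀ g : G, g * x * g⁻¹ ∈ Q)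
  (hpow : ∀ x ∈ Q, ∀ i : ℕ, x ^ i ≠ 1 → x ^ i ∈ Q)
  (hline : ∀ x ∈ Q, ∀ y ∈ Q, Commute x y → ∀ i j : ℕ, x ^ i * y ^ j ≠ 1 → x ^ i * y ^ j ∈ Q)
  (hb : ∀ x ∈ Q, ∀ y ∈ Q, Commute x y → y ∉ Subgroup.zpowers x → ∀ w ∈ Q,
    ∃ i j : ℕ, x ^ i * y ^ j ≠ 1 ∧ Commute (x ^ i * y ^ j) w)

include hord hconj hpow hline hb in
/-- Noncommuting members with two noncommuting common neighbours: the commutator is a member. -/
lemma config {p' q y t : G} (hp : p' ∈ Q) (hq : q ∈ Q) (hy : y ∈ Q) (ht : t ∈ Q)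
    (h1 : Commute p' y) (h2 : Commute p' t) (h3 : Commute q y) (h4 : Commute q t)
    (hpq : ¬ Commute p' q) (hyt : ¬ Commute y t) :
    ∃ c ∈ Q, Commute c p' ∧ Commute c q ∧ p' * q * p'⁻¹ = c * q := by
  have hpy : p' * y ∈ Q := by
    have := hline p' hp y hy h1 1 1
    rw [pow_one, pow_one] at this
    refine this fun h => hpq ?_
    rw [eq_inv_of_mul_eq_one_left h]
    exact h3.symm.inv_left
  have htq : t ∉ Subgroup.zpowers q := by
    rintro ⟨k, rfl⟩
    exact hyt (h3.symm.zpow_right k)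
  obtain ⟨i, j, hne, hc⟩ := hb q hq t ht h4 htq _ hpy
  obtain ⟨qi, hqi⟩ : ∃ qi, q ^ i = qi := ⟨_, rfl⟩
  obtain ⟨tj, htj⟩ : ∃ tj, t ^ j = tj := ⟨_, rfl⟩
  rw [hqi, htj] at hne hc
  have hpt : Commute p' tj := htj ▸ h2.pow_right j
  have hqt : Commute qi tj := hqi ▸ htj ▸ h4.pow_pow i j
  have hqy : Commute qi y := hqi ▸ h3.pow_left i
  obtain ⟨d, hd⟩ : ∃ d, tj * y * tj⁻¹ * y⁻¹ = d := ⟨_, rfl⟩
  have hdp : Commute d p' := hd ▸ (((hpt.symm.mul_left h1.symm).mul_left hpt.symm.inv_left).mul_left h1.symm.inv_left)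
  have hdq : Commute d qi := hd ▸ (((hqt.symm.mul_left hqy.symm).mul_left hqt.symm.inv_left).mul_left hqy.symm.inv_left)
  have hkey : p' * qi * p'⁻¹ = d * qi := by
    have e : p' * qi * (y * tj) = qi * p' * (tj * y) := by
      calc p' * qi * (y * tj) = p' * (qi * y) * tj := by group
        _ = p' * (y * qi) * tj := by rw [hqy.eq]
        _ = (p' * y) * (qi * tj) := by group
        _ = (qi * tj) * (p' * y) := hc.eq.symm
        _ = qi * (tj * p') * y := by group
        _ = qi * (p' * tj) * y := by rw [hpt.eq]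
        _ = qi * p' * (tj * y) := by group
    have e2 : p' * qi = qi * p' * ((tj * y) * (y * tj)⁻¹) := by
      rw [← mul_assoc, ← e]
      group
    have e3 : (tj * y) * (y * tj)⁻¹ = d := by rw [← hd]; group
    rw [e2, e3, mul_assoc qi, ← hdp.eq, ← mul_assoc, ← hdq.eq]
    group
  have hqi1 : qi ≠ 1 := by
    intro h
    rw [h, one_mul] at hc hne
    obtain ⟨k, hk⟩ := exists_inverse_exp (hord t ht) (show t ^ j ≠ 1 by rw [htj]; exact hne)
    rw [htj] at hk
    have hty : Commute tj y := by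
      have := hc.mul_right (hpt.symm.inv_right)
      rwa [h1.eq, mul_inv_cancel_right] at this
    exact hyt (hk ▸ hty.pow_left k).symm
  obtain ⟨k, hk⟩ := exists_inverse_exp (hord q hq) (show q ^ i ≠ 1 by rw [hqi]; exact hqi1)
  rw [hqi] at hk
  refine ⟨d ^ k, ?_, hdp.pow_left k, hk ▸ hdq.pow_pow k k, ?_⟩
  · have hq' : p' * q * p'⁻¹ ∈ Q := hconj q hq p'
    have hcomm : Commute (d ^ k) q := hk ▸ hdq.pow_pow k k
    have he : p' * q * p'⁻¹ = d ^ k * q := by rw [← hk]; exact conj_pow_of_central hkey hdq k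
    have hcq : Commute (p' * q * p'⁻¹) q := by rw [he]; exact hcomm.mul_left (Commute.refl q)
    have := hline _ hq' _ hq hcq 1 (p - 1)
    have hqinv : q ^ (p - 1) = q⁻¹ := by
      refine eq_inv_of_mul_eq_one_left ?_
      rw [← pow_succ, Nat.sub_add_cancel (Fact.out : p.Prime).one_le, ← hord q hq, pow_orderOf_eq_one]
    rw [pow_one, hqinv, he, mul_inv_cancel_right] at this
    refine this fun h => hpq ?_
    rw [h, one_mul] at he
    exact mul_inv_eq_iff_eq_mul.mp he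
  · rw [← hk]; exact conj_pow_of_central hkey hdq k

include hord hconj hpow hline hb in
/-- If no member is central, the commutator of noncommuting members is a member commuting with both. -/
lemma commutator_mem (hnd : ∀ y ∈ Q, ∃ t ∈ Q, ¬ Commute y t)
    (hpair : ∀ x ∈ Q, ∃ y ∈ Q, Commute x y ∧ y ∉ Subgroup.zpowers x)
    {x w : G} (hx : x ∈ Q) (hw : w ∈ Q) (hxw : ¬ Commute x w) :
    ⁅x, w⁆ ∈ Q ∧ Commute ⁅x, w⁆ x ∧ Commute ⁅x, w⁆ w := by
  obtain ⟨y₀, hy₀, hxy₀, hy₀x⟩ := hpair x hx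
  obtain ⟨i₀, j₀, hne₀, hyw⟩ := hb x hx y₀ hy₀ hxy₀ hy₀x w hw
  obtain ⟨y, hy⟩ : ∃ y, x ^ i₀ * y₀ ^ j₀ = y := ⟨_, rfl⟩
  rw [hy] at hyw hne₀
  have hyQ : y ∈ Q := by
    have := hline x hx y₀ hy₀ hxy₀ i₀ j₀
    rw [hy] at this
    exact this hne₀
  have hxy : Commute x y := hy ▸ (Commute.self_pow x i₀).mul_right (hxy₀.pow_right j₀)
  obtain ⟨t, ht, hyt⟩ := hnd y hyQ
  have hnotx : y ∉ Subgroup.zpowers x := by
    rintro ⟨k, rfl⟩
    apply hxw
    obtain ⟨l, hl⟩ := ((isOfFinOrder_iff_pow_eq_one.mpr ⟨p, (Fact.out : p.Prime).pos, by rw [← hord x hx, pow_orderOf_eq_one]⟩ : IsOfFinOrder x).mem_powers_iff_mem_zpowers (y := x ^ k)).mpr ⟨k, rfl⟩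
    simp only at hl hne₀ hyw
    rw [← hl] at hne₀ hyw
    obtain ⟨e, he⟩ := exists_inverse_exp (hord x hx) hne₀
    exact he ▸ hyw.pow_left e
  have hnotw : y ∉ Subgroup.zpowers w := by
    rintro ⟨k, rfl⟩
    apply hxw
    obtain ⟨l, hl⟩ := ((isOfFinOrder_iff_pow_eq_one.mpr ⟨p, (Fact.out : p.Prime).pos, by rw [← hord w hw, pow_orderOf_eq_one]⟩ : IsOfFinOrder w).mem_powers_iff_mem_zpowers (y := w ^ k)).mpr ⟨k, rfl⟩
    simp only at hl hne₀ hxy
    rw [← hl] at hne₀ hxy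
    obtain ⟨e, he⟩ := exists_inverse_exp (hord w hw) hne₀
    exact he ▸ hxy.pow_right e
  -- points of the two lines commuting with `t`
  obtain ⟨a, b, hne, hpt⟩ := hb x hx y hyQ hxy hnotx t ht
  obtain ⟨a', b', hne', hqt⟩ := hb w hw y hyQ hyw.symm hnotw t ht
  have hyne : ∀ k : ℕ, y ^ k ≠ 1 → ¬ Commute (y ^ k) t := by
    intro k hk h
    obtain ⟨e, he⟩ := exists_inverse_exp (hord y hyQ) hk
    exact hyt (he ▸ h.pow_left e)
  have hxa : x ^ a ≠ 1 := fun h => by
    rw [h, one_mul] at hne hpt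
    exact hyne b hne hpt
  have hwa : w ^ a' ≠ 1 := fun h => by
    rw [h, one_mul] at hne' hqt
    exact hyne b' hne' hqt
  have hp := hline x hx y hyQ hxy a b hne
  have hq := hline w hw y hyQ hyw.symm a' b' hne'
  obtain ⟨e, he⟩ := exists_inverse_exp (hord x hx) hxa
  obtain ⟨e', he'⟩ := exists_inverse_exp (hord w hw) hwa
  have hpy : Commute (x ^ a * y ^ b) y := (hxy.pow_left a).mul_left ((Commute.refl y).pow_left b)
  have hqy : Commute (w ^ a' * y ^ b') y := (hyw.symm.pow_left a').mul_left ((Commute.refl y).pow_left b')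
  have hpq : ¬ Commute (x ^ a * y ^ b) (w ^ a' * y ^ b') := fun h => by
    have h1 : Commute (x ^ a * y ^ b) (w ^ a') := by
      have := h.mul_right (hpy.pow_right b').inv_right
      rwa [mul_inv_cancel_right] at this
    have h2 : Commute (x ^ a) (w ^ a') := by
      have := h1.mul_left ((hyw.pow_pow b a').inv_left)
      rwa [mul_inv_cancel_right] at this
    exact hxw (he ▸ he' ▸ h2.pow_pow e e')
  obtain ⟨c, hcQ, hcp, hcq, hconjc⟩ := config hord hconj hpow hline hb hp hq hyQ ht hpy hpt hqy hqt hpq hyt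
  have hc : c = (x ^ a) * (w ^ a') * (x ^ a)⁻¹ * (w ^ a')⁻¹ := by
    have h1 : Commute (y ^ b) (w ^ a') := hyw.pow_pow b a'
    rw [eq_comm, ← eq_mul_inv_iff_mul_eq] at hconjc
    rw [hconjc, mul_inv_rev, mul_inv_rev,
      show x ^ a * y ^ b * (w ^ a' * y ^ b') * ((y ^ b)⁻¹ * (x ^ a)⁻¹) * ((y ^ b')⁻¹ * (w ^ a')⁻¹) =
        x ^ a * (y ^ b * w ^ a') * (y ^ b' * (y ^ b)⁻¹) * (x ^ a)⁻¹ * ((y ^ b')⁻¹ * (w ^ a')⁻¹) by group,
      h1.eq, ((Commute.refl y).pow_pow b' b).inv_right.eq,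
      show x ^ a * (w ^ a' * y ^ b) * ((y ^ b)⁻¹ * y ^ b') * (x ^ a)⁻¹ * ((y ^ b')⁻¹ * (w ^ a')⁻¹) =
        x ^ a * w ^ a' * (y ^ b' * (x ^ a)⁻¹) * ((y ^ b')⁻¹ * (w ^ a')⁻¹) by group,
      (hxy.symm.pow_pow b' a).inv_right.eq]
    group
  have hcy : Commute c y := by
    rw [hc]
    exact ((((hxy.pow_left a).mul_left (hyw.symm.pow_left a')).mul_left (hxy.pow_left a).inv_left).mul_left
      (hyw.symm.pow_left a').inv_left)
  have hcxa : Commute c (x ^ a) := by
    have := hcp.mul_right (hcy.pow_right b).inv_right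
    rwa [mul_inv_cancel_right] at this
  have hcwa : Commute c (w ^ a') := by
    have := hcq.mul_right (hcy.pow_right b').inv_right
    rwa [mul_inv_cancel_right] at this
  have hcx : Commute c x := he ▸ hcxa.pow_right e
  have hcw : Commute c w := he' ▸ hcwa.pow_right e'
  have h1 : x ^ a * w ^ a' * (x ^ a)⁻¹ = c * w ^ a' := by rw [hc]; group
  have h2 : x ^ a * w * (x ^ a)⁻¹ = c ^ e' * w := by
    have := conj_pow_of_central h1 hcwa e'
    rwa [he'] at this
  have h3 : w⁻¹ * x ^ a * w = c ^ e' * x ^ a := by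
    have e1 : w⁻¹ * (x ^ a * w * (x ^ a)⁻¹) = c ^ e' := by
      rw [h2, (hcw.pow_left e').eq, inv_mul_cancel_left]
    rw [← e1]; group
  have h4 : w⁻¹ * x * w = (c ^ e') ^ e * x := by
    have := conj_pow_of_central (x := w⁻¹) (y := x ^ a) (c := c ^ e') (by rw [inv_inv]; exact h3) (hcxa.pow_left e') e
    rwa [he, inv_inv] at this
  obtain ⟨c', hc'⟩ : ∃ c', (c ^ e') ^ e = c' := ⟨_, rfl⟩
  rw [hc'] at h4
  have hc'x : Commute c' x := hc' ▸ (hcx.pow_left e').pow_left e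
  have hc'w : Commute c' w := hc' ▸ (hcw.pow_left e').pow_left e
  have hcom : ⁅x, w⁆ = c' := by
    have hxw' : x * w = w * c' * x := by
      have := congrArg (fun v => w * v) h4
      simpa [mul_assoc] using this
    rw [commutatorElement_def, hxw', ← hc'w.eq]
    group
  have hc'1 : c' ≠ 1 := fun h => hxw (by
    show x * w = w * x
    have := congrArg (fun v => w * v) h4
    simpa [h, mul_assoc] using this)
  rw [hcom]
  refine ⟨?_, hc'x, hc'w⟩
  rw [← hc', ← pow_mul] at hc'1 ⊢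
  exact hpow c hcQ _ hc'1

include hord hconj hpow hline hb in
lemma exists_central [Finite G] (hne : Q.Nonempty)
    (hpair : ∀ x ∈ Q, ∃ y ∈ Q, Commute x y ∧ y ∉ Subgroup.zpowers x) :
    ∃ v ∈ Q, ∀ w ∈ Q, Commute v w := by
  by_contra hcon
  push Not at hcon
  have hcm := fun {x w : G} => commutator_mem hord hconj hpow hline hb hcon hpair (x := x) (w := w)
  have hP : IsPGroup p (Subgroup.closure Q) := by
    refine Cfsg.Agent.Involution.baerSuzuki_set Q (fun g x hx => hconj x hx g) fun x hx w hw => ?_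
    have hpz : ∀ z ∈ Q, IsPGroup p (Subgroup.zpowers z) := fun z hz =>
      IsPGroup.of_card (n := 1) (by rw [Nat.card_zpowers, hord z hz, pow_one])
    by_cases h : Commute x w
    · refine ((hpz x hx).to_sup_of_normal_right' (hpz w hw) ?_).to_le ?_
      · rw [Subgroup.zpowers_le]
        refine Subgroup.centralizer_le_normalizer _ (fun z hz => ?_)
        obtain ⟨k, rfl⟩ := hz
        exact (h.symm.zpow_left k).eq
      · rw [Subgroup.closure_le]
        rintro z (rfl | rfl)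
        · exact Subgroup.mem_sup_left (Subgroup.mem_zpowers z)
        · exact Subgroup.mem_sup_right (Subgroup.mem_zpowers z)
    · obtain ⟨hc, hcx, hcw⟩ := hcm hx hw h
      obtain ⟨c, hcdef⟩ : ∃ c, ⁅x, w⁆ = c := ⟨_, rfl⟩
      rw [hcdef] at hc hcx hcw
      have hB : IsPGroup p (Subgroup.zpowers x ⊔ Subgroup.zpowers c : Subgroup G) := by
        refine (hpz x hx).to_sup_of_normal_right' (hpz c hc) ?_
        rw [Subgroup.zpowers_le]
        refine Subgroup.centralizer_le_normalizer _ (fun z hz => ?_)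
        obtain ⟨k, rfl⟩ := hz
        exact (hcx.zpow_left k).eq
      refine ((hpz w hw).to_sup_of_normal_right' hB ?_).to_le ?_
      · rw [Subgroup.zpowers_le, Subgroup.mem_normalizer_iff]
        have hwx : w * x * w⁻¹ ∈ Subgroup.zpowers x ⊔ Subgroup.zpowers c := by
          have e : w * x * w⁻¹ = c⁻¹ * x := by rw [← hcdef, commutatorElement_def]; group
          rw [e]
          exact mul_mem (inv_mem (Subgroup.mem_sup_right (Subgroup.mem_zpowers c))) (Subgroup.mem_sup_left (Subgroup.mem_zpowers x))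
        have hle : (Subgroup.zpowers x ⊔ Subgroup.zpowers c).map (MulAut.conj w).toMonoidHom ≤ Subgroup.zpowers x ⊔ Subgroup.zpowers c := by
          rw [Subgroup.map_sup, MonoidHom.map_zpowers, MonoidHom.map_zpowers, sup_le_iff, Subgroup.zpowers_le, Subgroup.zpowers_le]
          refine ⟨hwx, ?_⟩
          show w * c * w⁻¹ ∈ _
          rw [← hcw.eq, mul_inv_cancel_right]
          exact Subgroup.mem_sup_right (Subgroup.mem_zpowers c)
        have heq := Subgroup.eq_of_le_of_card_ge hle (le_of_eq (Subgroup.card_map_of_injective (MulAut.conj w).injective).symm)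
        intro v
        conv_rhs => rw [← heq]
        exact (Subgroup.mem_map_iff_mem (MulAut.conj w).injective).symm
      · rw [Subgroup.closure_le]
        rintro z (rfl | rfl)
        · exact Subgroup.mem_sup_right (Subgroup.mem_sup_left (Subgroup.mem_zpowers z))
        · exact Subgroup.mem_sup_left (Subgroup.mem_zpowers z)
  obtain ⟨n, hn⟩ := Subgroup.nilpotent_iff_lowerCentralSeries.mp hP.isNilpotent
  have hdescent : ∀ k : ℕ, ∃ v ∈ Q, ∃ hv : v ∈ Subgroup.closure Q,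
      (⟨v, hv⟩ : Subgroup.closure Q) ∈ Subgroup.lowerCentralSeries (⊤ : Subgroup (Subgroup.closure Q)) k := by
    intro k
    induction k with
    | zero =>
      obtain ⟨v, hv⟩ := hne
      exact ⟨v, hv, Subgroup.subset_closure hv, by simp⟩
    | succ k ih =>
      obtain ⟨v, hv, hvc, hvk⟩ := ih
      obtain ⟨w, hw, hvw⟩ := hcon v hv
      obtain ⟨hc, -, -⟩ := hcm hv hw hvw
      refine ⟨_, hc, Subgroup.subset_closure hc, ?_⟩
      rw [Subgroup.lowerCentralSeries_succ]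
      have := Subgroup.commutator_mem_commutator hvk (Subgroup.mem_top (⟨w, Subgroup.subset_closure hw⟩ : Subgroup.closure Q))
      exact this
  obtain ⟨v, hv, hvc, hvn⟩ := hdescent n
  rw [hn, Subgroup.mem_bot] at hvn
  have := hord v hv
  rw [show v = 1 from congrArg Subtype.val hvn, orderOf_one] at this
  exact (Fact.out : p.Prime).one_lt.ne this

end Abstract

lemma card_prime_zpowers {G : Type*} [Group G] [Finite G] {p : ℕ} (hp : p.Prime) {X : Subgroup G} (hX : Nat.card X = p)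
    {x : G} (hx : x ∈ X) (hx1 : x ≠ 1) : Subgroup.zpowers x = X ∧ orderOf x = p := by
  have h1 : orderOf x ∣ p := by
    rw [← hX, ← Nat.card_zpowers]
    exact Subgroup.card_dvd_of_le (Subgroup.zpowers_le.mpr hx)
  rcases hp.eq_one_or_self_of_dvd _ h1 with h | h
  · exact absurd (orderOf_eq_one_iff.mp h) hx1
  · refine ⟨Subgroup.eq_of_le_of_card_ge (Subgroup.zpowers_le.mpr hx) ?_, h⟩
    rw [Nat.card_zpowers, h, hX]


/-- Let p be a prime and K a set of subgroups of order p of a finite group G, closed under conjugation, such that at least two distinct members of K commute elementwise, and whenever two distinct members X, Y of K commute: every subgroup of order p of the group XY they generate belongs to K, and every member W of K has centralizer meeting XY nontrivially. Then some member V of K commutes elementwise with every member of K and lies in O_p(G); in particular G is not simple. -/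
theorem result {G : Type*} [Group G] [Finite G]
    {p : ℕ} (hp : p.Prime) (K : Set (Subgroup G)) (hK : ∀ X ∈ K, Nat.card ↥X = p)
    (hKc : ∀ X ∈ K, ∀ g : G, X.map (MulAut.conj g).toMonoidHom ∈ K)
    (hex : ∃ X ∈ K, ∃ Y ∈ K, X ≠ Y ∧ ∀ x ∈ X, ∀ y ∈ Y, x * y = y * x)
    (ha : ∀ X ∈ K, ∀ Y ∈ K, X ≠ Y → (∀ x ∈ X, ∀ y ∈ Y, x * y = y * x) →
      ∀ Z : Subgroup G, Z ≤ X ⊔ Y → Nat.card ↥Z = p → Z ∈ K)
    (hb : ∀ X ∈ K, ∀ Y ∈ K, X ≠ Y → (∀ x ∈ X, ∀ y ∈ Y, x * y = y * x) →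
      ∀ W ∈ K, (X ⊔ Y) ⊓ Subgroup.centralizer (W : Set G) ≠ ⊥) :
    (∃ V ∈ K, (∀ W ∈ K, ∀ v ∈ V, ∀ w ∈ W, v * w = w * v) ∧ V ≤ Cfsg.pCore p G) ∧ ¬ IsSimpleGroup G := by
  haveI : Fact p.Prime := ⟨hp⟩
  obtain ⟨Q, hQ⟩ : ∃ Q : Set G, Q = {x | x ≠ 1 ∧ ∃ X ∈ K, x ∈ X} := ⟨_, rfl⟩
  have memQ : ∀ x, x ∈ Q ↔ x ≠ 1 ∧ ∃ X ∈ K, x ∈ X := fun x => by rw [hQ]; rfl
  have hzp : ∀ x ∈ Q, Subgroup.zpowers x ∈ K ∧ orderOf x = p := by
    intro x hx
    obtain ⟨hx1, X, hX, hxX⟩ := (memQ x).mp hx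
    obtain ⟨h1, h2⟩ := card_prime_zpowers hp (hK X hX) hxX hx1
    exact ⟨h1 ▸ hX, h2⟩
  have hord : ∀ x ∈ Q, orderOf x = p := fun x hx => (hzp x hx).2
  have hconj : ∀ x ∈ Q, ∀ g : G, g * x * g⁻¹ ∈ Q := by
    intro x hx g
    obtain ⟨hx1, X, hX, hxX⟩ := (memQ x).mp hx
    exact (memQ _).mpr ⟨fun h => hx1 (conj_eq_one_iff.mp h), _, hKc X hX g, Subgroup.mem_map_of_mem (MulAut.conj g).toMonoidHom hxX⟩
  have hpow : ∀ x ∈ Q, ∀ i : ℕ, x ^ i ≠ 1 → x ^ i ∈ Q := fun x hx i hi =>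
    (memQ _).mpr ⟨hi, _, (hzp x hx).1, pow_mem (Subgroup.mem_zpowers x) i⟩
  have comm_of : ∀ {x y : G}, Commute x y → ∀ a ∈ Subgroup.zpowers x, ∀ b ∈ Subgroup.zpowers y, a * b = b * a := by
    rintro x y h a ⟨i, rfl⟩ b ⟨j, rfl⟩
    exact (h.zpow_zpow i j).eq
  have hline : ∀ x ∈ Q, ∀ y ∈ Q, Commute x y → ∀ i j : ℕ, x ^ i * y ^ j ≠ 1 → x ^ i * y ^ j ∈ Q := by
    intro x hx y hy hxy i j hne
    by_cases h : Subgroup.zpowers x = Subgroup.zpowers y
    · refine (memQ _).mpr ⟨hne, _, (hzp x hx).1, mul_mem (pow_mem (Subgroup.mem_zpowers x) i) (pow_mem ?_ j)⟩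
      rw [h]; exact Subgroup.mem_zpowers y
    · refine (memQ _).mpr ⟨hne, Subgroup.zpowers (x ^ i * y ^ j), ha _ (hzp x hx).1 _ (hzp y hy).1 h (comm_of hxy) _ ?_ ?_, Subgroup.mem_zpowers _⟩
      · rw [Subgroup.zpowers_le]
        exact mul_mem (Subgroup.mem_sup_left (pow_mem (Subgroup.mem_zpowers x) i)) (Subgroup.mem_sup_right (pow_mem (Subgroup.mem_zpowers y) j))
      · rw [Nat.card_zpowers]
        refine orderOf_eq_prime ?_ hne
        rw [(hxy.pow_pow i j).mul_pow, ← pow_mul, ← pow_mul, mul_comm i, mul_comm j, pow_mul, pow_mul,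
          ← (hzp x hx).2, pow_orderOf_eq_one, (hzp x hx).2, ← (hzp y hy).2, pow_orderOf_eq_one, one_pow, one_pow, one_mul]
  have hbQ : ∀ x ∈ Q, ∀ y ∈ Q, Commute x y → y ∉ Subgroup.zpowers x → ∀ w ∈ Q,
      ∃ i j : ℕ, x ^ i * y ^ j ≠ 1 ∧ Commute (x ^ i * y ^ j) w := by
    intro x hx y hy hxy hyx w hw
    have hne : Subgroup.zpowers x ≠ Subgroup.zpowers y := fun h => hyx (h ▸ Subgroup.mem_zpowers y)
    obtain ⟨z, ⟨hz, hzc⟩, hz1⟩ := (Subgroup.bot_or_exists_ne_one _).resolve_left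
      (hb _ (hzp x hx).1 _ (hzp y hy).1 hne (comm_of hxy) _ (hzp w hw).1)
    have hle : Subgroup.zpowers x ≤ Subgroup.normalizer (Subgroup.zpowers y : Set G) := by
      rw [Subgroup.zpowers_le]
      refine Subgroup.centralizer_le_normalizer _ fun b hb' => ?_
      exact (comm_of hxy x (Subgroup.mem_zpowers x) b hb').symm
    have hz' : z ∈ ((Subgroup.zpowers x ⊔ Subgroup.zpowers y : Subgroup G) : Set G) := hz
    rw [Subgroup.coe_mul_of_left_le_normalizer_right _ _ hle] at hz'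
    obtain ⟨a, ha', b, hb', rfl⟩ := hz'
    obtain ⟨i, hi⟩ := (isOfFinOrder_of_finite x).mem_powers_iff_mem_zpowers.mpr ha'
    obtain ⟨j, hj⟩ := (isOfFinOrder_of_finite y).mem_powers_iff_mem_zpowers.mpr hb'
    simp only at hi hj hzc hz1
    rw [← hi, ← hj] at hzc hz1
    exact ⟨i, j, hz1, (hzc w (Subgroup.mem_zpowers w)).symm⟩
  obtain ⟨X₀, hX₀, Y₀, hY₀, hXY, hXYc⟩ := hex
  have pick : ∀ X ∈ K, ∃ x ∈ Q, Subgroup.zpowers x = X := by
    intro X hX
    obtain ⟨x, hx, hx1⟩ := (Subgroup.bot_or_exists_ne_one X).resolve_left (fun h => by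
      have := hK X hX; rw [h, Subgroup.card_bot] at this; exact hp.one_lt.ne this)
    exact ⟨x, (memQ x).mpr ⟨hx1, X, hX, hx⟩, (card_prime_zpowers hp (hK X hX) hx hx1).1⟩
  obtain ⟨a₀, ha₀, hza⟩ := pick X₀ hX₀
  obtain ⟨b₀, hb₀, hzb⟩ := pick Y₀ hY₀
  have hab : Commute a₀ b₀ := hXYc a₀ (hza ▸ Subgroup.mem_zpowers a₀) b₀ (hzb ▸ Subgroup.mem_zpowers b₀)
  have hba : b₀ ∉ Subgroup.zpowers a₀ := fun h => hXY (by
    rw [← hza, ← hzb]
    exact ((card_prime_zpowers hp (hK _ (hzp a₀ ha₀).1) h ((memQ b₀).mp hb₀).1).1).symm)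
  have hpair : ∀ x ∈ Q, ∃ y ∈ Q, Commute x y ∧ y ∉ Subgroup.zpowers x := by
    intro x hx
    obtain ⟨i, j, hne, hc⟩ := hbQ a₀ ha₀ b₀ hb₀ hab hba x hx
    by_cases hin : a₀ ^ i * b₀ ^ j ∈ Subgroup.zpowers x
    · have hle : Subgroup.zpowers x = Subgroup.zpowers (a₀ ^ i * b₀ ^ j) :=
        ((card_prime_zpowers hp (hK _ (hzp x hx).1) hin hne).1).symm
      have hxC : x ∈ Subgroup.centralizer ({a₀} : Set G) ⊓ Subgroup.centralizer ({b₀} : Set G) := by
        have hm : a₀ ^ i * b₀ ^ j ∈ Subgroup.centralizer ({a₀} : Set G) ⊓ Subgroup.centralizer ({b₀} : Set G) := by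
          constructor <;> intro v hv <;> rw [Set.mem_singleton_iff.mp hv]
          · exact ((Commute.self_pow a₀ i).mul_right (hab.pow_right j)).eq
          · exact ((hab.symm.pow_right i).mul_right (Commute.self_pow b₀ j)).eq
        exact (Subgroup.zpowers_le.mpr hm) (hle ▸ Subgroup.mem_zpowers x)
      by_cases hax : a₀ ∈ Subgroup.zpowers x
      · refine ⟨b₀, hb₀, (show Commute b₀ x from hxC.2 b₀ rfl).symm, fun h => hba ?_⟩
        rw [(card_prime_zpowers hp (hK _ (hzp x hx).1) hax ((memQ a₀).mp ha₀).1).1]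
        exact h
      · exact ⟨a₀, ha₀, (show Commute a₀ x from hxC.1 a₀ rfl).symm, hax⟩
    · exact ⟨_, hline a₀ ha₀ b₀ hb₀ hab i j hne, hc.symm, hin⟩
  obtain ⟨v, hv, hvc⟩ := exists_central hord hconj hpow hline hbQ ⟨a₀, ha₀⟩ hpair
  have hO : Subgroup.zpowers v ≤ Cfsg.pCore p G := by
    have hpz : ∀ z ∈ Q, IsPGroup p (Subgroup.zpowers z) := fun z hz =>
      IsPGroup.of_card (n := 1) (by rw [Nat.card_zpowers, hord z hz, pow_one])
    obtain ⟨N, hN, hNp, hvN⟩ := Cfsg.Agent.Involution.baerSuzuki (p := p) v fun g => by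
      refine ((hpz v hv).to_sup_of_normal_right' (hpz _ (hconj v hv g)) ?_).to_le ?_
      · rw [Subgroup.zpowers_le]
        refine Subgroup.centralizer_le_normalizer _ fun z hz => ?_
        obtain ⟨k, rfl⟩ := hz
        exact ((hvc _ (hconj v hv g)).symm.zpow_left k).eq
      · rw [Subgroup.closure_le]
        rintro z (rfl | rfl)
        · exact Subgroup.mem_sup_left (Subgroup.mem_zpowers z)
        · exact Subgroup.mem_sup_right (Subgroup.mem_zpowers _)
    exact (Subgroup.zpowers_le.mpr hvN).trans (Cfsg.Agent.Thompson.le_pCore hN hNp)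
  refine ⟨⟨Subgroup.zpowers v, (hzp v hv).1, ?_, hO⟩, fun hs => ?_⟩
  · intro W hW v' hv' w hw
    obtain ⟨x, hx, hzx⟩ := pick W hW
    exact comm_of (hvc x hx) v' hv' w (hzx ▸ hw)
  · haveI : (Cfsg.pCore p G).Normal := Cfsg.Agent.Thompson.instPCoreNormal
    rcases hs.eq_bot_or_eq_top_of_normal (Cfsg.pCore p G) inferInstance with h | h
    · rw [h, Subgroup.zpowers_le, Subgroup.mem_bot] at hO
      exact ((memQ v).mp hv).1 hO
    · have hG : IsPGroup p G := fun g => by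
        obtain ⟨k, hk⟩ := Cfsg.Agent.Thompson.isPGroup_pCore (p := p) (G := G) ⟨g, h ▸ Subgroup.mem_top g⟩
        exact ⟨k, congrArg Subtype.val hk⟩
      have := hs
      haveI : Nontrivial G := hs.toNontrivial
      have hne := hG.bot_lt_center.ne'
      have htop := (hs.eq_bot_or_eq_top_of_normal (Subgroup.center G) inferInstance).resolve_left hne
      have hXn : X₀.Normal := ⟨fun n hn g => by
        have : n ∈ Subgroup.center G := htop ▸ Subgroup.mem_top n
        rw [Subgroup.mem_center_iff.mp this g, mul_inv_cancel_right]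
        exact hn⟩
      have hYn : Y₀.Normal := ⟨fun n hn g => by
        have : n ∈ Subgroup.center G := htop ▸ Subgroup.mem_top n
        rw [Subgroup.mem_center_iff.mp this g, mul_inv_cancel_right]
        exact hn⟩
      have bot_ne : ∀ X ∈ K, X ≠ ⊥ := fun X hX h => by
        have := hK X hX; rw [h, Subgroup.card_bot] at this; exact hp.one_lt.ne this
      exact hXY (((hs.eq_bot_or_eq_top_of_normal X₀ hXn).resolve_left (bot_ne _ hX₀)).trans
        ((hs.eq_bot_or_eq_top_of_normal Y₀ hYn).resolve_left (bot_ne _ hY₀)).symm)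

end Cfsg.Agent.S3196
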