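import Cfsg.Statements.S3197
import Cfsg.Agent.StrClosed41.Second

set_option autoImplicit false
open Cfsg

namespace Cfsg.Agent.S3197

/-- Let G be a finite group whose Sylow 2-subgroups are isomorphic to those of the alternating group of degree 8, with exactly three conjugacy classes of involutions, and containing an elementary abelian subgroup A of order 16 whose normalizer N satisfies: A·O(N) is normal in N with quotient N/(A·O(N)) isomorphic to the alternating group of degree 5, O(N) being the largest normal subgroup of odd order of N. Then A·O(G) is a normal subgroup of G. -/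
theorem result {G : Type*} [Group G] [Finite G]
    (S : Sylow 2 G) (P : Sylow 2 ↥(alternatingGroup (Fin 8)))
    (hS : Nonempty (↥(S : Subgroup G) ≃* ↥(P : Subgroup ↥(alternatingGroup (Fin 8)))))
    (h3 : Nat.card {c : ConjClasses G // ∃ x ∈ c.carrier, orderOf x = 2} = 3)
    (A : Subgroup G) (hA : Cfsg.IsElementaryAbelian 2 A) (hA16 : Nat.card ↥A = 16)
    (N : Subgroup G) (hN : N = Subgroup.normalizer (A : Set G))
    (hNA : ∃ (_ : (A.subgroupOf N ⊔ Cfsg.oddCore ↥N).Normal),
      Nonempty (↥N ⧸ (A.subgroupOf N ⊔ Cfsg.oddCore ↥N) ≃* ↥(alternatingGroup (Fin 5)))) :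
    (A ⊔ Cfsg.oddCore G).Normal := by
  subst hN
  classical
  haveI : Fact (Nat.Prime 2) := ⟨Nat.prime_two⟩
  obtain ⟨hMn, ⟨e⟩⟩ := hNA
  obtain ⟨φ⟩ := hS
  set NA := Subgroup.normalizer (A : Set G) with hNd
  set M := A.subgroupOf NA ⊔ Cfsg.oddCore ↥NA with hM
  let q : ↥NA →* ↥(alternatingGroup (Fin 5)) := e.toMonoidHom.comp (QuotientGroup.mk' M)
  have hqs : Function.Surjective q := e.surjective.comp (QuotientGroup.mk'_surjective M)
  have hqk : ∀ n, q n = 1 ↔ n ∈ M := fun n =>
    (map_eq_one_iff e e.injective).trans (QuotientGroup.eq_one_iff n)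
  haveI hAn : (A.subgroupOf NA).Normal := Subgroup.normal_in_normalizer
  have hA2 : IsPGroup 2 A := IsPGroup.of_card (n := 4) hA16
  have hodd : Odd (Nat.card (Cfsg.oddCore ↥NA)) :=
    Nat.coprime_two_right.mp Thompson.card_pPrimeCore_coprime
  -- `A` and the odd core of `N(A)` commute
  have hcomm : ∀ a o : ↥NA, (a : G) ∈ A → o ∈ Cfsg.oddCore ↥NA → (a : G) * o = o * a := by
    intro a o ha ho
    refine congrArg Subtype.val (Subgroup.commute_of_normal_of_disjoint _ _ hAn inferInstance
      (Subgroup.disjoint_def.mpr fun {y} hy hy' => ?_) a o ha ho).eq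
    exact StrClosed41.eq_one_of_mem_two_odd (hA2.comap_subtype : IsPGroup 2 (A.subgroupOf NA))
      hodd hy hy'
  have hMdec : ∀ n ∈ M, ∃ a ∈ A, ∃ o ∈ StrClosed41.oddOf NA,
      (n : G) = a * o ∧ a * o = o * a := by
    intro n hn
    have hn' : n ∈ ((A.subgroupOf NA ⊔ Cfsg.oddCore ↥NA : Subgroup ↥NA) : Set ↥NA) := hn
    rw [Subgroup.normal_mul] at hn'
    obtain ⟨a, ha, o, ho, rfl⟩ := hn'
    exact ⟨(a : G), ha, (o : G), ⟨o, ho, rfl⟩, rfl, hcomm a o ha ho⟩
  have hMZ : ∀ n ∈ M, (n : G) ∈ Subgroup.centralizer (A : Set G) := by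
    intro n hn
    suffices M ≤ (Subgroup.centralizer (A : Set G)).subgroupOf NA from this hn
    refine sup_le (fun a ha => Subgroup.mem_subgroupOf.mpr
      (Subgroup.mem_centralizer_iff.mpr fun v hv => ?_)) (fun o ho => Subgroup.mem_subgroupOf.mpr
      (Subgroup.mem_centralizer_iff.mpr fun v hv => ?_))
    · exact congrArg Subtype.val (hA.1.is_comm.comm ⟨v, hv⟩ ⟨_, ha⟩)
    · exact hcomm ⟨v, Subgroup.le_normalizer hv⟩ o hv ho
  -- a Sylow subgroup inside `N(A)`
  have hcP : Nat.card (P : Subgroup ↥(alternatingGroup (Fin 8))) = 64 := by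
    rw [P.card_eq_multiplicity, nat_card_alternatingGroup, Nat.card_fin,
      show (Nat.factorial 8) / 2 = 2 ^ 6 * 315 by rfl,
      SylTwoSix.factorization_two 6 315 (by norm_num)]
    rfl
  have hcS : Nat.card (S : Subgroup G) = 64 := (Nat.card_congr φ.toEquiv).trans hcP
  have h64 : 64 ∣ Nat.card ↥NA := by
    have h1 := Subgroup.card_eq_card_quotient_mul_card_subgroup M
    rw [Nat.card_congr e.toEquiv, StrClosed41.a5_card] at h1
    have h2 : 16 ∣ Nat.card M := by
      have := Subgroup.card_dvd_of_le (le_sup_left : A.subgroupOf NA ≤ M)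
      rwa [Nat.card_congr (Subgroup.subgroupOfEquivOfLe Subgroup.le_normalizer).toEquiv, hA16]
        at this
    obtain ⟨k, hk⟩ := h2
    exact ⟨15 * k, by rw [h1, hk]; ring⟩
  obtain ⟨T, hT⟩ := (hA2.comap_subtype : IsPGroup 2 (A.subgroupOf NA)).exists_le_sylow
  set R0 := (T : Subgroup ↥NA).map NA.subtype with hR0
  have hAR0 : A ≤ R0 := fun a ha =>
    ⟨⟨a, Subgroup.le_normalizer ha⟩, hT (Subgroup.mem_subgroupOf.mpr ha), rfl⟩
  obtain ⟨R, hR⟩ := (T.isPGroup'.map NA.subtype).exists_le_sylow
  have hcR : Nat.card (R : Subgroup G) = 64 := (Nat.card_congr (R.equiv S).toEquiv).trans hcS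
  have hR0eq : R0 = (R : Subgroup G) := by
    refine Subgroup.eq_of_le_of_card_ge hR ?_
    rw [hcR, hR0, Subgroup.card_map_of_injective NA.subtype_injective]
    exact Nat.le_of_dvd Nat.card_pos
      (T.pow_dvd_card_of_pow_dvd_card (n := 6) (show 2 ^ 6 ∣ Nat.card ↥NA from h64))
  have hAR : A ≤ (R : Subgroup G) := hR0eq ▸ hAR0
  have hRN : (R : Subgroup G) ≤ NA := hR0eq ▸ Subgroup.map_subtype_le _
  -- the kernel of the action is `A O(N)`
  have hker : ∀ n : ↥NA, q n = 1 ↔ (n : G) ∈ Subgroup.centralizer (A : Set G) := by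
    set Z' := (Subgroup.centralizer (A : Set G)).subgroupOf NA with hZ'
    have hZn : (Z'.map q).Normal :=
      Subgroup.Normal.map (inferInstance : Z'.Normal) q hqs
    haveI : IsSimpleGroup ↥(alternatingGroup (Fin 5)) := alternatingGroup.isSimpleGroup_five
    rcases hZn.eq_bot_or_eq_top with hbot | htop
    · refine fun n => ⟨fun h => hMZ n ((hqk n).mp h), fun h => ?_⟩
      have : q n ∈ Z'.map q := ⟨n, h, rfl⟩
      rwa [hbot, Subgroup.mem_bot] at this
    · exfalso
      have hall : ∀ n : ↥NA, (n : G) ∈ Subgroup.centralizer (A : Set G) := by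
        intro n
        obtain ⟨m, hm, hme⟩ : q n ∈ Z'.map q := by rw [htop]; exact Subgroup.mem_top _
        have h1 := hMZ (m⁻¹ * n) ((hqk _).mp (by rw [map_mul, map_inv, hme, inv_mul_cancel]))
        have h2 := mul_mem (show (m : G) ∈ Subgroup.centralizer (A : Set G) from hm) h1
        simpa using h2
      have hle : A.subgroupOf (R : Subgroup G) ≤ Subgroup.center ↥(R : Subgroup G) := by
        intro a ha
        refine Subgroup.mem_center_iff.mpr fun r => Subtype.ext ?_
        exact (Subgroup.mem_centralizer_iff.mp (hall ⟨r, hRN r.2⟩) _ ha).symm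
      have h1 := Subgroup.card_le_of_le hle
      rw [Nat.card_congr (Subgroup.subgroupOfEquivOfLe hAR).toEquiv, hA16,
        Nat.card_congr (Subgroup.centerCongr ((R.equiv S).trans φ)).toEquiv] at h1
      exact absurd h1 (not_le.mpr (StrClosed41.card_center_sylow_A8 P))
  have hs : StrClosed41.Sixteen A q R :=
    { elem := hA
      card_A := hA16
      surj := hqs
      ker := hker
      dec := fun n hn => hMdec n ((hqk n).mp hn)
      card_R := hcR
      AR := hAR
      RN := hRN }
  have hcl : ∀ u v : G, ∃ g : G, orderOf g = 2 ∧ ¬ IsConj g u ∧ ¬ IsConj g v := by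
    intro u v
    by_contra hno
    push Not at hno
    have hsub : {c : ConjClasses G | ∃ x ∈ c.carrier, orderOf x = 2} ⊆
        {ConjClasses.mk u, ConjClasses.mk v} := by
      rintro c ⟨g, hg, ho⟩
      rw [ConjClasses.mem_carrier_iff_mk_eq] at hg
      subst hg
      by_cases h : IsConj g u
      · exact Or.inl (ConjClasses.mk_eq_mk_iff_isConj.mpr h)
      · exact Or.inr (ConjClasses.mk_eq_mk_iff_isConj.mpr (hno g ho h))
    have h4 := Set.ncard_le_ncard hsub
    rw [← Nat.card_coe_set_eq] at h4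
    have h5 : ({ConjClasses.mk u, ConjClasses.mk v} : Set (ConjClasses G)).ncard ≤ 2 :=
      (Set.ncard_insert_le _ _).trans (by rw [Set.ncard_singleton])
    have h6 : Nat.card {c : ConjClasses G | ∃ x ∈ c.carrier, orderOf x = 2} = 3 := h3
    omega
  obtain ⟨z, hz, hz1, hzfix⟩ := hs.exists_fixed
  exact StrClosed41.Pointed.normal_sup (z := z) ⟨hs, hcl, hz, hz1, hzfix⟩

end Cfsg.Agent.S3197
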