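import Cfsg.Statements.S3200
import Cfsg.Agent.Lib.CharClifford.Burnside
import Cfsg.Agent.Lib.Solvable.Hall

set_option autoImplicit false
open Cfsg

namespace Cfsg.Agent.S3200
universe u

/-- An abelian subgroup of odd order and two-power index. -/
def Good (H : Type u) [Group H] : Prop :=
  ∃ C : Subgroup H, IsMulCommutative C ∧ Odd (Nat.card C) ∧ ∃ k, C.index = 2 ^ k

theorem Good.complement {H : Type u} [Group H] [Finite H] (h : Good H) :
    ∃ (P : Sylow 2 H) (D : Subgroup H), IsMulCommutative D ∧ Subgroup.IsComplement' (P : Subgroup H) D := by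
  obtain ⟨C, hC, hodd, k, hk⟩ := h
  obtain ⟨P⟩ := (inferInstance : Nonempty (Sylow 2 H))
  refine ⟨P, C, hC, ?_⟩
  obtain ⟨v, hv⟩ := P.2.exists_card_eq
  have h1 : Nat.card C * 2 ^ k = Nat.card (P : Subgroup H) * (P : Subgroup H).index := by
    rw [Subgroup.card_mul_index, ← hk, Subgroup.card_mul_index]
  have h2 : ¬ 2 ∣ (P : Subgroup H).index := P.not_dvd_index
  have hkv : k = v := by
    rw [hv] at h1
    have hcC : Nat.Coprime (Nat.card C) 2 := Nat.coprime_two_right.mpr hodd
    have hci : Nat.Coprime (P : Subgroup H).index 2 :=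
      ((Nat.Prime.coprime_iff_not_dvd Nat.prime_two).mpr h2).symm
    apply le_antisymm
    · exact (Nat.pow_dvd_pow_iff_le_right (le_refl 2)).mp
        ((hci.symm.pow_left k).dvd_of_dvd_mul_right ⟨Nat.card C, by rw [← h1, mul_comm]⟩)
    · exact (Nat.pow_dvd_pow_iff_le_right (le_refl 2)).mp
        ((hcC.symm.pow_left v).dvd_of_dvd_mul_left ⟨(P : Subgroup H).index, h1⟩)
  refine Subgroup.isComplement'_of_coprime ?_ ?_
  · rw [hv, ← hkv, mul_comm, ← hk, Subgroup.card_mul_index]
  · rw [hv]; exact ((Nat.coprime_two_left).mpr hodd).pow_left v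

theorem Good.quotient {H : Type u} [Group H] [Finite H] (h : Good H) (N : Subgroup H) [N.Normal] :
    Good (H ⧸ N) := by
  obtain ⟨C, hC, hodd, k, hk⟩ := h
  refine ⟨C.map (QuotientGroup.mk' N), ?_, hodd.of_dvd_nat (Subgroup.card_map_dvd _ _), ?_⟩
  · constructor; constructor
    rintro ⟨_, a, ha, rfl⟩ ⟨_, b, hb, rfl⟩
    exact Subtype.ext (by
      simp only [Subgroup.coe_mul, ← map_mul]
      rw [Subgroup.mul_comm_of_mem_isMulCommutative C ha hb])
  · have h1 := Subgroup.index_map_dvd (H := C) (f := QuotientGroup.mk' N) (QuotientGroup.mk'_surjective N)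
    rw [hk] at h1
    obtain ⟨j, -, hj⟩ := (Nat.dvd_prime_pow Nat.prime_two).mp h1
    exact ⟨j, hj⟩

theorem Good.normal {H : Type u} [Group H] [Finite H] (h : Good H) (N : Subgroup H) [N.Normal] :
    Good N := by
  obtain ⟨C, hC, hodd, k, hk⟩ := h
  refine ⟨C.subgroupOf N, ?_, ?_, ?_⟩
  · constructor; constructor
    rintro ⟨a, ha⟩ ⟨b, hb⟩
    exact Subtype.ext (Subtype.ext (Subgroup.mul_comm_of_mem_isMulCommutative C ha hb))
  · refine hodd.of_dvd_nat ?_
    rw [← Subgroup.card_map_of_injective N.subtype_injective]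
    exact Subgroup.card_dvd_of_le (by rintro _ ⟨a, ha, rfl⟩; exact ha)
  · have e1 : (C ⊓ N).index = N.relIndex C * C.index := by
      rw [← Subgroup.relIndex_mul_index (inf_le_left : C ⊓ N ≤ C), Subgroup.inf_relIndex_left]
    have e2 : (C ⊓ N).index = C.relIndex N * N.index := by
      rw [← Subgroup.relIndex_mul_index (inf_le_right : C ⊓ N ≤ N), Subgroup.inf_relIndex_right]
    have e3 : N.index = N.relIndex C * (C ⊔ N).index := by
      rw [← Subgroup.relIndex_sup_right C N, Subgroup.relIndex_mul_index le_sup_right]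
    have hpos : 0 < N.relIndex C :=
      Nat.pos_of_ne_zero fun h0 => N.index_ne_zero_of_finite (by rw [e3, h0, zero_mul])
    have : C.relIndex N ∣ 2 ^ k := by
      refine ⟨(C ⊔ N).index, Nat.eq_of_mul_eq_mul_left hpos ?_⟩
      rw [← hk, ← e1, e2, e3]; ring
    obtain ⟨j, -, hj⟩ := (Nat.dvd_prime_pow Nat.prime_two).mp this
    exact ⟨j, hj⟩

theorem solvable_of_good : ∀ (n : ℕ) (H : Type u) [Group H] [Finite H], Nat.card H = n → Good H → Group.IsSolvable H := by
  intro n
  induction n using Nat.strong_induction_on with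
  | _ n ih =>
  intro H _ _ hn h
  rcases subsingleton_or_nontrivial H with hs | hs
  · infer_instance
  by_cases hsimple : IsSimpleGroup H
  · by_cases hab : ∀ a b : H, a * b = b * a
    · exact Group.isSolvable_of_comm hab
    obtain ⟨C, hC, hodd, k, hk⟩ := h
    by_cases hC1 : C = ⊥
    · subst hC1
      rw [Subgroup.index_bot] at hk
      haveI : Group.IsNilpotent H := (IsPGroup.of_card hk).isNilpotent
      infer_instance
    exfalso
    obtain ⟨x, hx, hx1⟩ := C.bot_or_exists_ne_one.resolve_left hC1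
    have hle : C.map (ConjAct.toConjAct (G := H)).toMonoidHom ≤ MulAction.stabilizer (ConjAct H) x := by
      rintro _ ⟨c, hc, rfl⟩
      show ConjAct.toConjAct c • x = x
      rw [ConjAct.smul_def, ConjAct.ofConjAct_toConjAct, Subgroup.mul_comm_of_mem_isMulCommutative C hc hx,
        mul_inv_cancel_right]
    have hd := Subgroup.index_dvd_of_le hle
    rw [MulAction.index_stabilizer, ConjAct.orbit_eq_carrier_conjClasses] at hd
    have hd' := hd.trans (Subgroup.index_map_dvd (H := C) (f := (ConjAct.toConjAct (G := H)).toMonoidHom)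
      (ConjAct.toConjAct (G := H)).surjective)
    rw [hk] at hd'
    obtain ⟨j, -, hj⟩ := (Nat.dvd_prime_pow Nat.prime_two).mp hd'
    exact CharClifford.card_carrier_ne_prime_pow hab hx1 2 j Nat.prime_two ((Nat.card_coe_set_eq _).trans hj)
  · obtain ⟨N, hN, hN1, hN2⟩ : ∃ N : Subgroup H, N.Normal ∧ N ≠ ⊥ ∧ N ≠ ⊤ := by
      by_contra hc
      exact hsimple ⟨fun N hN => by
        by_contra hh
        rw [not_or] at hh
        exact hc ⟨N, hN, hh.1, hh.2⟩⟩
    haveI : Nontrivial ↥N := (Subgroup.nontrivial_iff_ne_bot N).mpr hN1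
    have hNlt : Nat.card N < n := hn ▸ lt_of_le_of_ne N.card_le_card_group
      fun e => hN2 (Subgroup.eq_top_of_card_eq N e)
    have hQlt : Nat.card (H ⧸ N) < n := by
      rw [← hn, Subgroup.card_eq_card_quotient_mul_card_subgroup N]
      exact lt_mul_of_one_lt_right Nat.card_pos Finite.one_lt_card
    haveI := ih _ hNlt N rfl (h.normal N)
    haveI := ih _ hQlt (H ⧸ N) rfl (h.quotient N)
    exact Group.isSolvable_of_ker_le_range N.subtype (QuotientGroup.mk' N)
      (by rw [QuotientGroup.ker_mk', Subgroup.range_subtype])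

theorem good_subgroup {H : Type u} [Group H] [Finite H] [Group.IsSolvable H] (h : Good H) (L : Subgroup H) :
    Good L := by
  obtain ⟨C, hC, hodd, k, hk⟩ := h
  obtain ⟨j, m, hm, hLcard⟩ := Nat.exists_eq_two_pow_mul_odd (n := Nat.card L) Nat.card_pos.ne'
  have hmj : m.Coprime (2 ^ j) := (Nat.coprime_two_right.mpr hm).pow_right j
  obtain ⟨D, hD⟩ := Solvable.exists_hall (G := L) (hLcard.trans (mul_comm _ _)) hmj
  have hcard : Nat.card H = Nat.card C * 2 ^ k := by rw [← hk, Subgroup.card_mul_index]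
  obtain ⟨g, hg⟩ := Solvable.le_conj_hall (G := H) hcard ((Nat.coprime_two_right.mpr hodd).pow_right k)
    C (D.map L.subtype) rfl
    (by rw [Subgroup.card_map_of_injective L.subtype_injective, hD]; exact (Nat.coprime_two_right.mpr hm).pow_right k)
  refine ⟨D, ?_, by rw [hD]; exact hm, j, ?_⟩
  · constructor; constructor
    intro a b
    obtain ⟨c, hc, hca⟩ := hg ⟨a, a.2, rfl⟩
    obtain ⟨d, hd, hdb⟩ := hg ⟨b, b.2, rfl⟩
    apply Subtype.ext
    apply L.subtype_injective
    simp only [Subgroup.coe_mul, map_mul, ← hca, ← hdb]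
    show g * c * g⁻¹ * (g * d * g⁻¹) = g * d * g⁻¹ * (g * c * g⁻¹)
    rw [conj_mul, conj_mul, Subgroup.mul_comm_of_mem_isMulCommutative C hc hd]
  · have := Subgroup.card_mul_index D
    rw [hD, hLcard, mul_comm (2 ^ j)] at this
    exact Nat.eq_of_mul_eq_mul_left (Odd.pos hm) this

/-- Let H be a finite group in which a Sylow 2-subgroup has an abelian complement (an abelian subgroup meeting it trivially whose product with it is all of H). Then H is solvable, and every subgroup and every quotient group of H again has a Sylow 2-subgroup with an abelian complement. -/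
theorem result {H : Type*} [Group H] [Finite H]
    (S : Sylow 2 H) (C : Subgroup H) (hC : IsMulCommutative ↥C) (hSC : Subgroup.IsComplement' (S : Subgroup H) C) :
    Group.IsSolvable H ∧
    (∀ L : Subgroup H, ∃ (P : Sylow 2 ↥L) (D : Subgroup ↥L), IsMulCommutative ↥D ∧ Subgroup.IsComplement' (P : Subgroup ↥L) D) ∧
    (∀ (N : Subgroup H) [N.Normal], ∃ (P : Sylow 2 (H ⧸ N)) (D : Subgroup (H ⧸ N)),
      IsMulCommutative ↥D ∧ Subgroup.IsComplement' (P : Subgroup (H ⧸ N)) D) := by
  have hgood : Good H := ⟨C, hC, by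
    rw [← hSC.symm.index_eq_card, Nat.odd_iff]
    have := S.not_dvd_index
    omega, by
    obtain ⟨v, hv⟩ := S.2.exists_card_eq
    exact ⟨v, hSC.index_eq_card.trans hv⟩⟩
  have hsol := solvable_of_good _ H rfl hgood
  exact ⟨hsol, fun L => (good_subgroup hgood L).complement, fun N _ => (hgood.quotient N).complement⟩

end Cfsg.Agent.S3200
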