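import Cfsg.Statements.S3201
import Cfsg.Agent.InvChar.QuatQuot

set_option autoImplicit false
open Cfsg

namespace Cfsg.Agent.S3201
open InvChar in
theorem main {S : Type*} [Group S] [Finite S]
    (hS : IsPGroup 2 S) (n : ℕ) (hn : 2 ≤ n) (C : Fin n → Subgroup ↥(Subgroup.center S))
    (hCmax : ∀ i, IsCoatom (C i)) (hCint : ⨅ i, C i = ⊥)
    (hCq : ∀ i, ∃ (_ : ((C i).map (Subgroup.center S).subtype).Normal),
      ¬ IsMulCommutative (S ⧸ (C i).map (Subgroup.center S).subtype) ∧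
      ∃! x : S ⧸ (C i).map (Subgroup.center S).subtype, orderOf x = 2) :
    ∃ E Q : Subgroup S, Cfsg.IsInternalDirectProduct E Q ⊤ ∧ Cfsg.IsElementaryAbelian 2 E ∧
      ¬ IsMulCommutative ↥Q ∧ ∃! x : ↥Q, orderOf x = 2 := by
  classical
  have hfin : Nonempty (Fin n) := ⟨⟨0, by omega⟩⟩
  have hall : ∀ z : S, (∀ i, z ∈ (C i).map (Subgroup.center S).subtype) → z = 1 := by
    intro z hz
    obtain ⟨v, -, rfl⟩ := hz (Classical.arbitrary (Fin n))
    have : v ∈ ⨅ i, C i := by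
      rw [Subgroup.mem_iInf]
      intro i
      obtain ⟨u, hu, he⟩ := hz i
      exact (show u = v from Subtype.ext he) ▸ hu
    rw [hCint, Subgroup.mem_bot] at this
    rw [this]; rfl
  obtain ⟨i₀⟩ := hfin
  obtain ⟨hMn, hnab, hu⟩ := hCq i₀
  obtain ⟨hMZ, -, -, -⟩ := QuatQuot.coatom_facts hS (hCmax i₀)
  obtain ⟨M, hM⟩ : ∃ M, (C i₀).map (Subgroup.center S).subtype = M := ⟨_, rfl⟩
  subst hM
  obtain ⟨x, y, hx2, hy, hout, hgen⟩ := QuatQuot.exists_generators hS hnab hu
  have hexp : ∀ z ∈ Subgroup.center S, z * z = 1 := fun z hz =>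
    hall _ fun i => (QuatQuot.coatom_facts hS (hCmax i)).2.1 z hz
  have hpre : ∀ i, ∀ w : S, w * w ∈ (C i).map (Subgroup.center S).subtype → w ∈ Subgroup.center S := by
    intro i w hw
    obtain ⟨hn', -, hui⟩ := hCq i
    obtain ⟨h1, h2, ⟨z, hz, hzM⟩, -⟩ := QuatQuot.coatom_facts hS (hCmax i)
    exact QuatQuot.mem_center_of_sq hui h1 hz hzM (h2 z hz) hw
  have hncen : ∀ w : S, (w : S ⧸ (C i₀).map (Subgroup.center S).subtype) ∉ Subgroup.zpowers
      (x : S ⧸ (C i₀).map (Subgroup.center S).subtype) → w ∉ Subgroup.center S :=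
    fun w hw => QuatQuot.not_mem_center_of_outside hx2 (hout w hw).2
  have hwsq : ∀ w : S, w ∉ Subgroup.center S → ∀ i, w * w ∉ (C i).map (Subgroup.center S).subtype :=
    fun w hw i h => hw (hpre i w h)
  have hy2 : y * y ∈ Subgroup.center S := hpre i₀ _ (hout y hy).1
  obtain ⟨t, ht⟩ : ∃ t, y * y = t := ⟨_, rfl⟩
  have htZ : t ∈ Subgroup.center S := ht ▸ hy2
  have ht_out : ∀ i, t ∉ (C i).map (Subgroup.center S).subtype := ht ▸ hwsq y (hncen y hy)
  have htt : t * t = 1 := hexp t htZ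
  have hsqt : ∀ w : S, w ∉ Subgroup.center S → w * w ∈ Subgroup.center S → w * w = t := by
    intro w hw hw2
    have := hall (w * w * t) fun i =>
      (QuatQuot.coatom_facts hS (hCmax i)).2.2.2 _ hw2 t htZ (hwsq w hw i) (ht_out i)
    exact (eq_inv_of_mul_eq_one_left this).trans (inv_eq_of_mul_eq_one_right htt)
  have htc : ∀ w : S, Commute t w := fun w => (Subgroup.mem_center_iff.mp htZ w).symm
  have hyinv : y⁻¹ = y * t := inv_eq_of_mul_eq_one_right (by rw [← mul_assoc, ht, htt])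
  have hinv : y * x * y⁻¹ * x = 1 := by
    have hyxo : ((y * x : S) : S ⧸ (C i₀).map (Subgroup.center S).subtype) ∉ Subgroup.zpowers
        (x : S ⧸ (C i₀).map (Subgroup.center S).subtype) := by
      rw [QuotientGroup.mk_mul]
      exact fun h => hy ((Subgroup.mul_mem_cancel_right _ (Subgroup.mem_zpowers _)).mp h)
    have h := hsqt (y * x) (hncen _ hyxo) (hpre i₀ _ (hout _ hyxo).1)
    calc y * x * y⁻¹ * x = y * x * (y * (t * x)) := by rw [hyinv]; group
      _ = (y * x) * (y * x) * t := by rw [(htc x).eq]; group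
      _ = 1 := by rw [h, htt]
  have hxy : ∀ j : ℤ, y * x ^ j = x ^ (-j) * y := by
    intro j
    have h1 : y * x * y⁻¹ = x⁻¹ := eq_inv_of_mul_eq_one_left hinv
    have h2 := conj_zpow (a := y) (b := x) (i := j)
    rw [h1, inv_zpow, ← zpow_neg] at h2
    rw [h2, inv_mul_cancel_right]
  obtain ⟨s, hs⟩ : ∃ s, orderOf (x : S ⧸ (C i₀).map (Subgroup.center S).subtype) = 2 ^ (s + 2) := by
    obtain ⟨k, hk⟩ := (IsPGroup.iff_orderOf.mp (hS.to_quotient ((C i₀).map (Subgroup.center S).subtype)))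
      (x : S ⧸ (C i₀).map (Subgroup.center S).subtype)
    have : 2 ≤ k := by
      by_contra hlt
      refine hx2 ?_
      rw [← pow_two]
      refine orderOf_dvd_iff_pow_eq_one.mp (hk ▸ ?_)
      interval_cases k <;> norm_num
    exact ⟨k - 2, by rw [hk, Nat.sub_add_cancel this]⟩
  have hmkpow : ∀ k : ℕ, (x ^ k) ∈ (C i₀).map (Subgroup.center S).subtype ↔ 2 ^ (s + 2) ∣ k := fun k => by
    rw [← hs, orderOf_dvd_iff_pow_eq_one, ← QuotientGroup.mk_pow, QuotientGroup.eq_one_iff]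
  have hxt : x ^ (2 ^ (s + 1)) = t := by
    have hv : x ^ (2 ^ s) ∉ Subgroup.center S := fun h => by
      have h1 := hexp _ h
      rw [← pow_add] at h1
      have := Nat.le_of_dvd (by positivity) ((hmkpow _).mp (h1 ▸ one_mem _))
      rw [pow_succ, pow_succ] at this
      have : 0 < 2 ^ s := by positivity
      omega
    have e : x ^ (2 ^ s) * x ^ (2 ^ s) = x ^ (2 ^ (s + 1)) := by rw [← pow_add, pow_succ, mul_two]
    rw [← e]
    refine hsqt _ hv (hpre i₀ _ ?_)
    rw [e, ← pow_add, hmkpow, pow_succ 2 (s + 1), mul_two]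
  have hxord : ∀ j : ℤ, x ^ j ∈ (C i₀).map (Subgroup.center S).subtype → x ^ j = 1 := by
    intro j hj
    rw [← QuotientGroup.eq_one_iff, QuotientGroup.mk_zpow, ← orderOf_dvd_iff_zpow_eq_one, hs] at hj
    obtain ⟨c, rfl⟩ := hj
    rw [zpow_mul, zpow_natCast, pow_succ 2 (s + 1), pow_mul, hxt, pow_two, htt, one_zpow]
  let Q : Subgroup S :=
    { carrier := {w | ∃ j : ℤ, w = x ^ j ∨ w = x ^ j * y}
      one_mem' := ⟨0, Or.inl (zpow_zero x).symm⟩
      mul_mem' := by
        rintro u v ⟨i, rfl | rfl⟩ ⟨j, rfl | rfl⟩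
        · exact ⟨i + j, Or.inl (zpow_add x i j).symm⟩
        · exact ⟨i + j, Or.inr (by rw [zpow_add, mul_assoc])⟩
        · exact ⟨i + -j, Or.inr (by rw [mul_assoc, hxy, ← mul_assoc, zpow_add])⟩
        · refine ⟨i + -j + (2 ^ (s + 1) : ℕ), Or.inl ?_⟩
          rw [zpow_add, zpow_add, zpow_natCast, hxt, ← ht]
          calc x ^ i * y * (x ^ j * y) = x ^ i * (y * x ^ j) * y := by group
            _ = x ^ i * x ^ (-j) * (y * y) := by rw [hxy]; group
      inv_mem' := by
        rintro u ⟨i, rfl | rfl⟩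
        · exact ⟨-i, Or.inl (zpow_neg x i).symm⟩
        · refine ⟨i + (2 ^ (s + 1) : ℕ), Or.inr ?_⟩
          rw [zpow_add, zpow_natCast, hxt, mul_inv_rev, hyinv, mul_assoc, (htc _).eq, ← mul_assoc, ← zpow_neg, hxy, neg_neg]
          rw [mul_assoc, mul_assoc, (htc y).eq] }
  have hxQ : x ∈ Q := ⟨1, Or.inl (zpow_one x).symm⟩
  have hyQ : y ∈ Q := ⟨0, Or.inr (by rw [zpow_zero, one_mul])⟩
  have hQM : ∀ w ∈ Q, w ∈ (C i₀).map (Subgroup.center S).subtype → w = 1 := by
    rintro w ⟨j, rfl | rfl⟩ hw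
    · exact hxord j hw
    · exfalso
      apply hy
      refine ⟨-j, ?_⟩
      show (x : S ⧸ (C i₀).map (Subgroup.center S).subtype) ^ (-j) = _
      rw [← QuotientGroup.eq_one_iff, QuotientGroup.mk_mul, QuotientGroup.mk_zpow] at hw
      rw [zpow_neg, ← eq_inv_of_mul_eq_one_right hw]
  have hbij : Function.Bijective ((QuotientGroup.mk' ((C i₀).map (Subgroup.center S).subtype)).comp Q.subtype) := by
    refine ⟨(injective_iff_map_eq_one _).mpr fun w hw =>
      Subtype.ext (hQM w w.2 ((QuotientGroup.eq_one_iff _).mp hw)), fun v => ?_⟩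
    obtain ⟨v, rfl⟩ := QuotientGroup.mk_surjective v
    obtain ⟨k, m, hm, h | h⟩ := hgen v
    · refine ⟨⟨x ^ k, k, Or.inl rfl⟩, ?_⟩
      show ((x ^ k : S) : S ⧸ (C i₀).map (Subgroup.center S).subtype) = v
      rw [h, QuotientGroup.mk_mul, (QuotientGroup.eq_one_iff m).mpr hm, mul_one]
    · refine ⟨⟨x ^ k * y, k, Or.inr rfl⟩, ?_⟩
      show ((x ^ k * y : S) : S ⧸ (C i₀).map (Subgroup.center S).subtype) = v
      rw [h, QuotientGroup.mk_mul _ (x ^ k * y) m, (QuotientGroup.eq_one_iff m).mpr hm, mul_one]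
  let e := MulEquiv.ofBijective _ hbij
  refine ⟨(C i₀).map (Subgroup.center S).subtype, Q, ⟨le_top, le_top, ?_, ?_, ?_⟩, ⟨?_, ?_⟩, ?_, ?_⟩
  · exact fun a ha b _ => (Subgroup.mem_center_iff.mp (hMZ ha) b).symm
  · rw [eq_bot_iff]
    exact fun w hw => Subgroup.mem_bot.mpr (hQM w hw.2 hw.1)
  · refine eq_top_iff.mpr fun w _ => ?_
    obtain ⟨k, m, hm, rfl | rfl⟩ := hgen w
    · exact mul_mem (Subgroup.mem_sup_right ⟨k, Or.inl rfl⟩) (Subgroup.mem_sup_left hm)
    · exact mul_mem (Subgroup.mem_sup_right ⟨k, Or.inr rfl⟩) (Subgroup.mem_sup_left hm)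
  · exact ⟨⟨fun a b => Subtype.ext (Subgroup.mem_center_iff.mp (hMZ b.2) a)⟩⟩
  · intro a ha
    rw [pow_two]; exact hexp a (hMZ ha)
  · intro hQ
    refine hnab ⟨⟨fun a b => ?_⟩⟩
    apply e.symm.injective
    rw [map_mul, map_mul]
    exact hQ.is_comm.comm _ _
  · obtain ⟨u, hu1, hu2⟩ := hu
    have hu1' : orderOf u = 2 := hu1
    refine ⟨e.symm u, by simpa using hu1', fun v hv => ?_⟩
    have : e v = u := hu2 _ (by simpa using hv)
    rw [← this, MulEquiv.symm_apply_apply]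

/-- Let S be a finite 2-group whose centre Z(S) has n ≥ 2 distinct maximal subgroups C₁, …, Cₙ with trivial intersection such that each quotient S/Cᵢ is a non-abelian group with exactly one involution (a generalized quaternion group). Then S is the internal direct product of an elementary abelian subgroup and a non-abelian subgroup with exactly one involution. -/
theorem result {S : Type*} [Group S] [Finite S]
    (hS : IsPGroup 2 S) (n : ℕ) (hn : 2 ≤ n) (C : Fin n → Subgroup ↥(Subgroup.center S))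
    (hCmax : ∀ i, IsCoatom (C i)) (hCinj : Function.Injective C) (hCint : ⨅ i, C i = ⊥)
    (hCq : ∀ i, ∃ (_ : ((C i).map (Subgroup.center S).subtype).Normal),
      ¬ IsMulCommutative (S ⧸ (C i).map (Subgroup.center S).subtype) ∧
      ∃! x : S ⧸ (C i).map (Subgroup.center S).subtype, orderOf x = 2) :
    ∃ E Q : Subgroup S, Cfsg.IsInternalDirectProduct E Q ⊤ ∧ Cfsg.IsElementaryAbelian 2 E ∧
      ¬ IsMulCommutative ↥Q ∧ ∃! x : ↥Q, orderOf x = 2 := by
  exact main hS n hn C hCmax hCint hCq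

end Cfsg.Agent.S3201
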