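import Cfsg.Statements.S3202
import Cfsg.Agent.InvChar.QuatQuot

set_option autoImplicit false
open Cfsg

namespace Cfsg.Agent.S3202
open InvChar commutatorElement in
theorem main {S : Type*} [Group S] [Finite S] (hS : IsPGroup 2 S)
    (D : Subgroup ↥(Subgroup.center S)) (hD : IsCoatom D)
    (hq : ∃ (_ : (D.map (Subgroup.center S).subtype).Normal),
      ¬ IsMulCommutative (S ⧸ D.map (Subgroup.center S).subtype) ∧
      ∃! x : S ⧸ D.map (Subgroup.center S).subtype, orderOf x = 2) :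
    ∃ C : Subgroup S, C ≠ ⊥ ∧ IsCyclic ↥C ∧ C.Characteristic := by
  obtain ⟨_, hnab, hu⟩ := hq
  obtain ⟨hMZ, -, -, -⟩ := QuatQuot.coatom_facts hS hD
  obtain ⟨x, y, -, hy, hout, hgen⟩ := QuatQuot.exists_generators hS hnab hu
  obtain ⟨d, hd⟩ : ∃ d, y * x * y⁻¹ * x = d := ⟨_, rfl⟩
  have hdc : ∀ w : S, Commute d w := fun w =>
    (Subgroup.mem_center_iff.mp (hMZ (hd ▸ (hout y hy).2)) w).symm
  obtain ⟨c, hc⟩ : ∃ c, y * x * y⁻¹ * x⁻¹ = c := ⟨_, rfl⟩
  have hyx : y * x * y⁻¹ = d * x⁻¹ := eq_mul_inv_of_mul_eq hd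
  have hc' : c = d * (x⁻¹ * x⁻¹) := by rw [← hc, hyx, mul_assoc]
  have hcx : Commute x c := hc' ▸ (hdc x).symm.mul_right
    (((Commute.refl x).inv_right).mul_right (Commute.refl x).inv_right)
  have hcy : y * c * y⁻¹ = c⁻¹ := by
    have e : y * x⁻¹ * y⁻¹ = x * d⁻¹ := by
      rw [show y * x⁻¹ * y⁻¹ = (y * x * y⁻¹)⁻¹ by group, hyx, mul_inv_rev, inv_inv]
    calc y * c * y⁻¹ = (y * d * y⁻¹) * ((y * x⁻¹ * y⁻¹) * (y * x⁻¹ * y⁻¹)) := by rw [hc']; group
      _ = d * (x * d⁻¹ * (x * d⁻¹)) := by rw [e, ← (hdc y).eq, mul_inv_cancel_right]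
      _ = c⁻¹ := by
        rw [hc', mul_inv_rev, mul_inv_rev, inv_inv]
        calc d * (x * d⁻¹ * (x * d⁻¹)) = (d * x) * d⁻¹ * x * d⁻¹ := by group
          _ = (x * d) * d⁻¹ * x * d⁻¹ := by rw [(hdc x).eq]
          _ = x * x * d⁻¹ := by group
  have htop : ∀ K : Subgroup S, x ∈ K → y ∈ K → Subgroup.center S ≤ K → K = ⊤ := by
    intro K hx hy hZ
    refine eq_top_iff.mpr fun w _ => ?_
    obtain ⟨k, m, hm, rfl | rfl⟩ := hgen w
    · exact K.mul_mem (K.zpow_mem hx k) (hZ (hMZ hm))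
    · exact K.mul_mem (K.mul_mem (K.zpow_mem hx k) hy) (hZ (hMZ hm))
  have hN : (Subgroup.zpowers c).Normal := by
    refine Subgroup.normalizer_eq_top_iff.mp (htop _ ?_ ?_ ?_)
    · rw [Subgroup.mem_normalizer_iff_map_conj_eq, MonoidHom.map_zpowers]
      congr 1
      show x * c * x⁻¹ = c
      rw [hcx.eq, mul_inv_cancel_right]
    · rw [Subgroup.mem_normalizer_iff_map_conj_eq, MonoidHom.map_zpowers]
      show Subgroup.zpowers (y * c * y⁻¹) = _
      rw [hcy, Subgroup.zpowers_inv]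
    · intro z hz
      rw [Subgroup.mem_normalizer_iff_map_conj_eq, MonoidHom.map_zpowers]
      congr 1
      show z * c * z⁻¹ = c
      rw [← Subgroup.mem_center_iff.mp hz c, mul_inv_cancel_right]
  haveI := hN
  have hZq : ∀ z ∈ Subgroup.center S, (z : S ⧸ Subgroup.zpowers c) ∈ Subgroup.center _ := by
    intro z hz
    rw [Subgroup.mem_center_iff]
    intro w
    obtain ⟨w, rfl⟩ := QuotientGroup.mk_surjective w
    rw [← QuotientGroup.mk_mul, Subgroup.mem_center_iff.mp hz, QuotientGroup.mk_mul]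
  have hxy : (y : S ⧸ Subgroup.zpowers c) * x = x * y := by
    have h0 : ((y * x * y⁻¹ * x⁻¹ : S) : S ⧸ Subgroup.zpowers c) = 1 :=
      (QuotientGroup.eq_one_iff _).mpr (hc ▸ Subgroup.mem_zpowers c)
    rw [QuotientGroup.mk_mul, QuotientGroup.mk_mul, QuotientGroup.mk_mul, QuotientGroup.mk_inv, QuotientGroup.mk_inv,
      mul_inv_eq_one, mul_inv_eq_iff_eq_mul] at h0
    exact h0
  have hcenq : ∀ v : S, (v = x ∨ v = y) → (v : S ⧸ Subgroup.zpowers c) ∈ Subgroup.center _ := by
    intro v hv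
    have h := htop ((Subgroup.centralizer {(v : S ⧸ Subgroup.zpowers c)}).comap (QuotientGroup.mk' _)) ?_ ?_ ?_
    · rw [Subgroup.mem_center_iff]
      intro w
      obtain ⟨w, rfl⟩ := QuotientGroup.mk_surjective w
      exact (Subgroup.mem_centralizer_singleton_iff.mp (Subgroup.mem_comap.mp (h ▸ Subgroup.mem_top w : w ∈ _)))
    · rw [Subgroup.mem_comap, Subgroup.mem_centralizer_singleton_iff]
      rcases hv with rfl | rfl
      · rfl
      · exact hxy.symm
    · rw [Subgroup.mem_comap, Subgroup.mem_centralizer_singleton_iff]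
      rcases hv with rfl | rfl
      · exact hxy
      · rfl
    · intro z hz
      rw [Subgroup.mem_comap, Subgroup.mem_centralizer_singleton_iff]
      exact (Subgroup.mem_center_iff.mp (hZq z hz) _).symm
  have hcomm : commutator S ≤ Subgroup.zpowers c := by
    refine Subgroup.Normal.quotient_commutative_iff_commutator_le.mp ⟨⟨fun a b => ?_⟩⟩
    have h := htop ((Subgroup.center (S ⧸ Subgroup.zpowers c)).comap (QuotientGroup.mk' _))
      (hcenq x (Or.inl rfl)) (hcenq y (Or.inr rfl)) hZq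
    obtain ⟨a, rfl⟩ := QuotientGroup.mk_surjective a
    exact (Subgroup.mem_center_iff.mp (Subgroup.mem_comap.mp (h ▸ Subgroup.mem_top a : a ∈ _)) b).symm
  refine ⟨commutator S, fun h => hnab ⟨⟨fun a b => ?_⟩⟩, Subgroup.isCyclic_of_le hcomm, inferInstance⟩
  obtain ⟨a, rfl⟩ := QuotientGroup.mk_surjective a
  obtain ⟨b, rfl⟩ := QuotientGroup.mk_surjective b
  have hab : a * b = b * a := by
    have : ⁅a, b⁆ ∈ commutator S := Subgroup.commutator_mem_commutator (Subgroup.mem_top a) (Subgroup.mem_top b)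
    rw [h, Subgroup.mem_bot] at this
    exact commutatorElement_eq_one_iff_mul_comm.mp this
  rw [← QuotientGroup.mk_mul, hab, QuotientGroup.mk_mul]

/-- Let S be a finite 2-group of 2-rank exactly 2 and D a maximal subgroup of the centre of S such that S/D is a non-abelian group with exactly one involution (a generalized quaternion group). Then S has a nontrivial cyclic characteristic subgroup. -/
theorem result {S : Type*} [Group S]
    [Finite S] (hS : IsPGroup 2 S) (hr2 : Cfsg.PRankLE 2 2 S) (hr1 : ¬ Cfsg.PRankLE 2 1 S)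
    (D : Subgroup ↥(Subgroup.center S)) (hD : IsCoatom D)
    (hq : ∃ (_ : (D.map (Subgroup.center S).subtype).Normal),
      ¬ IsMulCommutative (S ⧸ D.map (Subgroup.center S).subtype) ∧
      ∃! x : S ⧸ D.map (Subgroup.center S).subtype, orderOf x = 2) :
    ∃ C : Subgroup S, C ≠ ⊥ ∧ IsCyclic ↥C ∧ C.Characteristic := by
  exact main hS D hD hq

end Cfsg.Agent.S3202
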