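import Cfsg.Statements.S3203

set_option autoImplicit false
open Cfsg

namespace Cfsg.Agent.S3203
open scoped Pointwise in
lemma exists_conj {G : Type*} [Group G] [Finite G] {p : ℕ} [Fact p.Prime] (N : Subgroup G) (S : Sylow p G)
    (hS : (S : Subgroup G) ≤ N) {P : Subgroup G} (hP : IsPGroup p ↥P) (hPN : P ≤ N) :
    ∃ h ∈ N, ∀ x ∈ P, h * x * h⁻¹ ∈ (S : Subgroup G) := by
  obtain ⟨Q, hQ⟩ := (hP.of_equiv (Subgroup.subgroupOfEquivOfLe hPN).symm).exists_le_sylow
  obtain ⟨h, hh⟩ := MulAction.exists_smul_eq ↥N Q (S.subtype hS)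
  refine ⟨h, h.2, fun x hx => ?_⟩
  have h1 : h * (⟨x, hPN hx⟩ : ↥N) * h⁻¹ ∈ ((h • Q : Sylow p ↥N) : Subgroup ↥N) :=
    ⟨_, hQ (Subgroup.mem_subgroupOf.2 hx), rfl⟩
  rw [hh, Sylow.coe_subtype, Subgroup.mem_subgroupOf] at h1
  exact h1

lemma fix_of_dichotomy {G : Type*} [Group G] [Finite G] (S : Sylow 2 G) (A B : Subgroup G) (hAB : A ≠ B)
    (hA : (S : Subgroup G) ≤ Subgroup.normalizer (A : Set G))
    (hdic : ∀ n ∈ Subgroup.normalizer ((S : Subgroup G) : Set G),
      (A.map (MulAut.conj n).toMonoidHom = A ∧ B.map (MulAut.conj n).toMonoidHom = B) ∨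
      (A.map (MulAut.conj n).toMonoidHom = B ∧ B.map (MulAut.conj n).toMonoidHom = A)) :
    ∀ n ∈ Subgroup.normalizer ((S : Subgroup G) : Set G), A.map (MulAut.conj n).toMonoidHom = A := by
  have hm : ∀ n : G, A.map (MulAut.conj n).toMonoidHom = A ↔ n ∈ Subgroup.normalizer (A : Set G) := by
    intro n
    rw [Subgroup.mem_normalizer_iff]
    constructor
    · intro h a
      constructor
      · intro ha
        exact h ▸ Subgroup.mem_map_of_mem (MulAut.conj n).toMonoidHom ha
      · intro ha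
        rw [← h] at ha
        obtain ⟨b, hb, hb'⟩ := ha
        exact (MulAut.conj n).injective hb' ▸ hb
    · intro h
      ext a
      constructor
      · rintro ⟨b, hb, rfl⟩
        exact (h b).1 hb
      · intro ha
        refine ⟨n⁻¹ * a * n, (h _).2 (by simpa [mul_assoc] using ha), ?_⟩
        simp [mul_assoc]
  intro n hn
  rw [hm]
  set N := Subgroup.normalizer ((S : Subgroup G) : Set G)
  set NA := Subgroup.normalizer (A : Set G)
  have hsq : ∀ k ∈ N, k * k ∈ NA := by
    intro k hk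
    rw [← hm]
    have e : A.map (MulAut.conj (k * k)).toMonoidHom =
        (A.map (MulAut.conj k).toMonoidHom).map (MulAut.conj k).toMonoidHom := by
      rw [Subgroup.map_map]
      congr 1
      ext x
      simp [mul_assoc]
    rw [e]
    rcases hdic k hk with ⟨h1, h2⟩ | ⟨h1, h2⟩
    · rw [h1, h1]
    · rw [h1, h2]
  obtain ⟨a, m, hm2, hord⟩ := Nat.exists_eq_two_pow_mul_odd (orderOf_pos n).ne'
  obtain ⟨j, rfl⟩ := hm2
  have hnS : n ^ (2 * j + 1) ∈ (S : Subgroup G) := by
    have hp : IsPGroup 2 ↥(Subgroup.zpowers (n ^ (2 * j + 1))) := by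
      refine IsPGroup.of_card (n := a) ?_
      rw [Nat.card_zpowers, orderOf_pow' _ (by omega), hord, Nat.gcd_eq_right (dvd_mul_left _ _),
        Nat.mul_div_cancel _ (by omega)]
    have hle : Subgroup.zpowers (n ^ (2 * j + 1)) ≤ N := Subgroup.zpowers_le.2 (pow_mem hn _)
    have hsup := hp.to_sup_of_normal_right' S.isPGroup' hle
    exact S.is_maximal' hsup le_sup_right ▸ Subgroup.mem_sup_left (Subgroup.mem_zpowers _)
  have h2 : n = n ^ (2 * j + 1) * ((n * n) ^ j)⁻¹ := by
    rw [← pow_two, ← pow_mul, pow_succ' , mul_inv_cancel_right]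
  rw [h2]
  exact mul_mem (hA hnS) (inv_mem (pow_mem (hsq n hn) _))


/-- Let S be a Sylow 2-subgroup of a finite group G having exactly two subgroups A ≠ B that are maximal among its elementary abelian subgroups, with S = AB. Then A and B are each weakly closed in S with respect to G, and the normalizer of S normalizes both A and B. -/
theorem result {G : Type*} [Group G] [Finite G] (S : Sylow 2 G)
    (A B : Subgroup ↥(S : Subgroup G)) (hAB : A ≠ B)
    (hA : Cfsg.IsElementaryAbelian 2 A ∧ ∀ C : Subgroup ↥(S : Subgroup G), Cfsg.IsElementaryAbelian 2 C → A ≤ C → C = A)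
    (hB : Cfsg.IsElementaryAbelian 2 B ∧ ∀ C : Subgroup ↥(S : Subgroup G), Cfsg.IsElementaryAbelian 2 C → B ≤ C → C = B)
    (honly : ∀ C : Subgroup ↥(S : Subgroup G), Cfsg.IsElementaryAbelian 2 C →
      (∀ D : Subgroup ↥(S : Subgroup G), Cfsg.IsElementaryAbelian 2 D → C ≤ D → D = C) → C = A ∨ C = B)
    (hprod : ∀ s : ↥(S : Subgroup G), ∃ a ∈ A, ∃ b ∈ B, a * b = s)
    (A' B' : Subgroup G) (hA' : A' = A.map (S : Subgroup G).subtype) (hB' : B' = B.map (S : Subgroup G).subtype) :
    Cfsg.IsWeaklyClosed A' (S : Subgroup G) ∧ Cfsg.IsWeaklyClosed B' (S : Subgroup G) ∧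
      Subgroup.normalizer ((S : Subgroup G) : Set G) ≤ Subgroup.normalizer (A' : Set G) ⊓ Subgroup.normalizer (B' : Set G) := by
  obtain ⟨hAe, hAmax⟩ := hA
  obtain ⟨hBe, hBmax⟩ := hB
  -- `A` and `B` are normal in `S`
  have conjEA : ∀ (s : ↥(S : Subgroup G)) (C : Subgroup ↥(S : Subgroup G)),
      Cfsg.IsElementaryAbelian 2 C → Cfsg.IsElementaryAbelian 2 (C.map (MulAut.conj s).toMonoidHom) := by
    rintro s C ⟨hc1, hc2⟩
    refine ⟨⟨⟨?_⟩⟩, ?_⟩
    · rintro ⟨_, x, hx, rfl⟩ ⟨_, y, hy, rfl⟩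
      exact Subtype.ext (by
        simp only [Subgroup.coe_mul, ← map_mul]
        exact congrArg _ (congrArg Subtype.val (hc1.is_comm.comm (⟨x, hx⟩ : C) ⟨y, hy⟩)))
    · rintro _ ⟨x, hx, rfl⟩
      rw [← map_pow, hc2 x hx, map_one]
  have hcomp : ∀ (s t : ↥(S : Subgroup G)) (C : Subgroup ↥(S : Subgroup G)),
      (C.map (MulAut.conj t).toMonoidHom).map (MulAut.conj s).toMonoidHom = C.map (MulAut.conj (s * t)).toMonoidHom := by
    intro s t C
    rw [Subgroup.map_map]
    congr 1
    ext x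
    simp [mul_assoc]
  have hone : ∀ C : Subgroup ↥(S : Subgroup G), C.map (MulAut.conj (1 : ↥(S : Subgroup G))).toMonoidHom = C := by
    intro C; ext x; simp
  have conjMax : ∀ (s : ↥(S : Subgroup G)) (C : Subgroup ↥(S : Subgroup G)),
      Cfsg.IsElementaryAbelian 2 C → (∀ D, Cfsg.IsElementaryAbelian 2 D → C ≤ D → D = C) →
      C.map (MulAut.conj s).toMonoidHom = A ∨ C.map (MulAut.conj s).toMonoidHom = B := by
    intro s C hC hmax
    refine honly _ (conjEA s C hC) fun D hD hle => ?_
    have h1 := Subgroup.map_mono (f := (MulAut.conj s⁻¹).toMonoidHom) hle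
    rw [hcomp, inv_mul_cancel, hone] at h1
    have h2 := congrArg (Subgroup.map (MulAut.conj s).toMonoidHom) (hmax _ (conjEA s⁻¹ D hD) h1)
    rwa [hcomp, mul_inv_cancel, hone] at h2
  have selfConj : ∀ (C : Subgroup ↥(S : Subgroup G)) (c : ↥(S : Subgroup G)), c ∈ C →
      C.map (MulAut.conj c).toMonoidHom = C := by
    intro C c hc
    ext x
    constructor
    · rintro ⟨y, hy, rfl⟩
      exact mul_mem (mul_mem hc hy) (inv_mem hc)
    · intro hx
      exact ⟨c⁻¹ * x * c, mul_mem (mul_mem (inv_mem hc) hx) hc, by simp [mul_assoc]⟩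
  have fixA : ∀ s, A.map (MulAut.conj s).toMonoidHom = A := by
    intro s
    obtain ⟨a, ha, b, hb, rfl⟩ := hprod s
    have hbA : A.map (MulAut.conj b).toMonoidHom = A := (conjMax b A hAe hAmax).resolve_right fun h => hAB (by
      have := congrArg (Subgroup.map (MulAut.conj b⁻¹).toMonoidHom) h
      rw [hcomp, inv_mul_cancel, hone, selfConj B b⁻¹ (inv_mem hb)] at this
      exact this)
    rw [← hcomp, hbA, selfConj A a ha]
  have fixB : ∀ s, B.map (MulAut.conj s).toMonoidHom = B := by
    intro s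
    refine (conjMax s B hBe hBmax).resolve_left fun h => hAB ?_
    have := congrArg (Subgroup.map (MulAut.conj s⁻¹).toMonoidHom) h
    rw [hcomp, inv_mul_cancel, hone, fixA] at this
    exact this.symm
  have hnorm : ∀ (C : Subgroup ↥(S : Subgroup G)) (C' : Subgroup G), C' = C.map (S : Subgroup G).subtype →
      (∀ s, C.map (MulAut.conj s).toMonoidHom = C) → (S : Subgroup G) ≤ Subgroup.normalizer (C' : Set G) := by
    intro C C' hC' hfix
    have key : ∀ s : ↥(S : Subgroup G), ∀ x ∈ C', (s : G) * x * (s : G)⁻¹ ∈ C' := by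
      rintro s x hx
      rw [hC'] at hx ⊢
      obtain ⟨y, hy, rfl⟩ := hx
      exact ⟨s * y * s⁻¹, hfix s ▸ Subgroup.mem_map_of_mem (MulAut.conj s).toMonoidHom hy, rfl⟩
    intro s hs
    rw [Subgroup.mem_normalizer_iff]
    exact fun x => ⟨key ⟨s, hs⟩ x, fun h => by simpa [mul_assoc] using key ⟨s, hs⟩⁻¹ _ h⟩
  have nA := hnorm A A' hA' fixA
  have nB := hnorm B B' hB' fixB
  -- a conjugate of `A'` or `B'` lying in `S` is `A'` or `B'`
  have key : ∀ (C : Subgroup ↥(S : Subgroup G)) (C' : Subgroup G), C' = C.map (S : Subgroup G).subtype →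
      Cfsg.IsElementaryAbelian 2 C → (∀ D, Cfsg.IsElementaryAbelian 2 D → C ≤ D → D = C) →
      (S : Subgroup G) ≤ Subgroup.normalizer (C' : Set G) →
      ∀ g : G, C'.map (MulAut.conj g).toMonoidHom ≤ S →
        C'.map (MulAut.conj g).toMonoidHom = A' ∨ C'.map (MulAut.conj g).toMonoidHom = B' := by
    intro C C' hC' hCe hCmax nC g hg
    set K := C'.map (MulAut.conj g).toMonoidHom with hK
    set D := K.subgroupOf (S : Subgroup G) with hD
    have hKD : K = D.map (S : Subgroup G).subtype := (Subgroup.map_subgroupOf_eq_of_le hg).symm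
    have eK : ∀ x ∈ K, ∀ y ∈ K, x * y = y * x ∧ x ^ 2 = 1 := by
      rintro _ ⟨x, hx, rfl⟩ _ ⟨y, hy, rfl⟩
      rw [hC'] at hx hy
      obtain ⟨x', hx', rfl⟩ := hx
      obtain ⟨y', hy', rfl⟩ := hy
      refine ⟨?_, ?_⟩
      · rw [← map_mul, ← map_mul, ← map_mul, ← map_mul]
        exact congrArg _ (congrArg _ (congrArg Subtype.val (hCe.1.is_comm.comm (⟨x', hx'⟩ : C) ⟨y', hy'⟩)))
      · rw [← map_pow, ← map_pow, hCe.2 x' hx', map_one, map_one]
    have hDe : Cfsg.IsElementaryAbelian 2 D :=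
      ⟨⟨⟨fun x y => Subtype.ext (Subtype.ext (eK _ x.2 _ y.2).1)⟩⟩, fun x hx => Subtype.ext (eK _ hx _ hx).2⟩
    have hDmax : ∀ E, Cfsg.IsElementaryAbelian 2 E → D ≤ E → E = D := by
      intro E hE hle
      set P := (E.map (S : Subgroup G).subtype).map (MulAut.conj g⁻¹).toMonoidHom with hP
      have hP2 : IsPGroup 2 ↥P := ((S.isPGroup'.to_le (Subgroup.map_subtype_le E)).map _)
      have hCP : C' ≤ P := by
        intro x hx
        refine ⟨g * x * g⁻¹, ?_, by simp [mul_assoc]⟩
        have : (MulAut.conj g).toMonoidHom x ∈ K := ⟨x, hx, rfl⟩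
        rw [hKD] at this
        exact Subgroup.map_mono hle this
      have hcomm : ∀ x ∈ P, ∀ y ∈ P, x * y = y * x ∧ x ^ 2 = 1 := by
        rintro _ ⟨_, ⟨x, hx, rfl⟩, rfl⟩ _ ⟨_, ⟨y, hy, rfl⟩, rfl⟩
        refine ⟨?_, ?_⟩
        · rw [← map_mul, ← map_mul, ← map_mul, ← map_mul]
          exact congrArg _ (congrArg _ (congrArg Subtype.val (hE.1.is_comm.comm (⟨x, hx⟩ : E) ⟨y, hy⟩)))
        · rw [← map_pow, ← map_pow, hE.2 x hx, map_one, map_one]
      have hPN : P ≤ Subgroup.normalizer (C' : Set G) := by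
        intro p hp
        rw [Subgroup.mem_normalizer_iff]
        intro x
        constructor
        · intro hx
          rw [(hcomm p hp x (hCP hx)).1, mul_inv_cancel_right]
          exact hx
        · intro hx
          have := (hcomm p hp _ (hCP hx)).1
          have e : p * x * p⁻¹ = x := by
            have h1 : x = p⁻¹ * (p * x * p⁻¹) * p := by group
            rw [mul_assoc, ← this, inv_mul_cancel_left] at h1
            exact h1.symm
          exact e ▸ hx
      obtain ⟨h, hh, hhP⟩ := exists_conj (Subgroup.normalizer (C' : Set G)) S nC hP2 hPN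
      set E₁ := (P.map (MulAut.conj h).toMonoidHom).subgroupOf (S : Subgroup G) with hE₁
      have hPS : P.map (MulAut.conj h).toMonoidHom ≤ S := by rintro _ ⟨x, hx, rfl⟩; exact hhP x hx
      have hE₁e : Cfsg.IsElementaryAbelian 2 E₁ := by
        refine ⟨⟨⟨fun x y => Subtype.ext (Subtype.ext ?_)⟩⟩, fun x hx => Subtype.ext ?_⟩
        · obtain ⟨u, hu, hux⟩ := Subgroup.mem_subgroupOf.1 x.2
          obtain ⟨v, hv, hvy⟩ := Subgroup.mem_subgroupOf.1 y.2
          show ((x : ↥(S : Subgroup G)) : G) * _ = _ * _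
          rw [← hux, ← hvy, ← map_mul, ← map_mul, (hcomm u hu v hv).1]
        · obtain ⟨u, hu, hux⟩ := Subgroup.mem_subgroupOf.1 hx
          show ((x : ↥(S : Subgroup G)) : G) ^ 2 = 1
          rw [← hux, ← map_pow, (hcomm u hu u hu).2, map_one]
      have hCE : C ≤ E₁ := fun c hc => Subgroup.mem_subgroupOf.2 (by
        have hc' : (c : G) ∈ C' := hC' ▸ Subgroup.mem_map_of_mem _ hc
        refine ⟨h⁻¹ * (c : G) * h, hCP ?_, by simp [mul_assoc]⟩
        have := (Subgroup.mem_normalizer_iff.1 (inv_mem hh) _).1 hc'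
        simpa using this)
      have hcard := congrArg (fun F : Subgroup ↥(S : Subgroup G) => Nat.card ↥F) (hCmax E₁ hE₁e hCE)
      simp only [hE₁] at hcard
      rw [Nat.card_congr (Subgroup.subgroupOfEquivOfLe hPS).toEquiv, Subgroup.card_map_of_injective (MulAut.conj h).injective,
        hP, Subgroup.card_map_of_injective (MulAut.conj g⁻¹).injective,
        Subgroup.card_map_of_injective (S : Subgroup G).subtype_injective] at hcard
      refine (Subgroup.eq_of_le_of_card_ge hle ?_).symm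
      rw [hcard, hD, Nat.card_congr (Subgroup.subgroupOfEquivOfLe hg).toEquiv, hK,
        Subgroup.card_map_of_injective (MulAut.conj g).injective, hC', Subgroup.card_map_of_injective (S : Subgroup G).subtype_injective]
    rcases honly D hDe hDmax with h | h
    · exact Or.inl (by rw [hKD, h, hA'])
    · exact Or.inr (by rw [hKD, h, hB'])
  have hABne : A' ≠ B' := fun h => hAB (Subgroup.map_injective (S : Subgroup G).subtype_injective (hA' ▸ hB' ▸ h))
  have mapS : ∀ n ∈ Subgroup.normalizer ((S : Subgroup G) : Set G), ∀ C' : Subgroup G, C' ≤ S →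
      C'.map (MulAut.conj n).toMonoidHom ≤ S := by
    rintro n hn C' hC' _ ⟨x, hx, rfl⟩
    exact (Subgroup.mem_normalizer_iff.1 hn x).1 (hC' hx)
  have leA : A' ≤ S := hA' ▸ Subgroup.map_subtype_le A
  have leB : B' ≤ S := hB' ▸ Subgroup.map_subtype_le B
  have hdic : ∀ n ∈ Subgroup.normalizer ((S : Subgroup G) : Set G),
      (A'.map (MulAut.conj n).toMonoidHom = A' ∧ B'.map (MulAut.conj n).toMonoidHom = B') ∨
      (A'.map (MulAut.conj n).toMonoidHom = B' ∧ B'.map (MulAut.conj n).toMonoidHom = A') := by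
    intro n hn
    have hinj := Subgroup.map_injective (f := (MulAut.conj n).toMonoidHom) (MulAut.conj n).injective
    rcases key A A' hA' hAe hAmax nA n (mapS n hn A' leA) with h | h <;>
      rcases key B B' hB' hBe hBmax nB n (mapS n hn B' leB) with h' | h'
    · exact absurd (hinj (h.trans h'.symm)) hABne
    · exact Or.inl ⟨h, h'⟩
    · exact Or.inr ⟨h, h'⟩
    · exact absurd (hinj (h.trans h'.symm)) hABne
  have fA := fix_of_dichotomy S A' B' hABne nA hdic
  have fB := fix_of_dichotomy S B' A' hABne.symm nB (fun n hn =>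
    (hdic n hn).imp (fun h => ⟨h.2, h.1⟩) (fun h => ⟨h.2, h.1⟩))
  have notconj : ∀ g : G, A'.map (MulAut.conj g).toMonoidHom ≠ B' := by
    intro g hg
    set P := (S : Subgroup G).map (MulAut.conj g).toMonoidHom with hP
    have hPN : P ≤ Subgroup.normalizer (B' : Set G) := by
      rintro _ ⟨s, hs, rfl⟩
      rw [Subgroup.mem_normalizer_iff, ← hg]
      intro x
      obtain ⟨y, rfl⟩ := (MulAut.conj g).surjective x
      change (MulAut.conj g).toMonoidHom y ∈ _ ↔ _
      rw [show (MulAut.conj g).toMonoidHom s * (MulAut.conj g) y * ((MulAut.conj g).toMonoidHom s)⁻¹ =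
        (MulAut.conj g).toMonoidHom (s * y * s⁻¹) by simp [mul_assoc]]
      rw [Subgroup.mem_map_iff_mem (MulAut.conj g).injective, Subgroup.mem_map_iff_mem (MulAut.conj g).injective]
      exact Subgroup.mem_normalizer_iff.1 (nA hs) y
    obtain ⟨k, hk, hkP⟩ := exists_conj _ S nB (S.isPGroup'.map _) hPN
    have hn : k * g ∈ Subgroup.normalizer ((S : Subgroup G) : Set G) := by
      have hle : (S : Subgroup G).map (MulAut.conj (k * g)).toMonoidHom ≤ S := by
        rintro _ ⟨x, hx, rfl⟩
        have := hkP _ (Subgroup.mem_map_of_mem (MulAut.conj g).toMonoidHom hx)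
        simpa [mul_assoc] using this
      have heq := Subgroup.eq_of_le_of_card_ge hle (le_of_eq (Subgroup.card_map_of_injective (MulAut.conj (k * g)).injective).symm)
      rw [Subgroup.mem_normalizer_iff]
      intro x
      constructor
      · intro hx
        exact heq.le (Subgroup.mem_map_of_mem (MulAut.conj (k * g)).toMonoidHom hx)
      · intro hx
        rw [← heq] at hx
        obtain ⟨y, hy, hy'⟩ := hx
        exact (MulAut.conj (k * g)).injective hy' ▸ hy
    apply hABne
    refine (fA _ hn).symm.trans ?_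
    ext x
    constructor
    · rintro ⟨y, hy, rfl⟩
      have h1 : g * y * g⁻¹ ∈ B' := hg ▸ Subgroup.mem_map_of_mem (MulAut.conj g).toMonoidHom hy
      have h2 := (Subgroup.mem_normalizer_iff.1 hk _).1 h1
      simpa [mul_assoc] using h2
    · intro hx
      have h1 := (Subgroup.mem_normalizer_iff.1 (inv_mem hk) _).1 hx
      rw [← hg] at h1
      obtain ⟨y, hy, hy'⟩ := h1
      refine ⟨y, hy, ?_⟩
      simp only [MulEquiv.coe_toMonoidHom, MulAut.conj_apply, inv_inv] at hy' ⊢
      have h3 : k * g * y * (k * g)⁻¹ = k * (g * y * g⁻¹) * k⁻¹ := by group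
      rw [h3, hy']
      group
  have notconj' : ∀ g : G, B'.map (MulAut.conj g).toMonoidHom ≠ A' := by
    intro g hg
    apply notconj g⁻¹
    rw [← hg, Subgroup.map_map]
    ext x
    simp [mul_assoc]
  refine ⟨⟨leA, fun g hg => (key A A' hA' hAe hAmax nA g hg).resolve_right (notconj g)⟩,
    ⟨leB, fun g hg => (key B B' hB' hBe hBmax nB g hg).resolve_left (notconj' g)⟩, le_inf ?_ ?_⟩
  · intro n hn
    rw [Subgroup.mem_normalizer_iff]
    intro x
    rw [← Subgroup.mem_map_iff_mem (f := (MulAut.conj n).toMonoidHom) (MulAut.conj n).injective (K := A') (x := x), fA n hn]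
    rfl
  · intro n hn
    rw [Subgroup.mem_normalizer_iff]
    intro x
    rw [← Subgroup.mem_map_iff_mem (f := (MulAut.conj n).toMonoidHom) (MulAut.conj n).injective (K := B') (x := x), fB n hn]
    rfl

end Cfsg.Agent.S3203
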