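import Cfsg.Statements.S3206
import Cfsg.Agent.S4593
import Cfsg.Agent.S1244
import Cfsg.Agent.S0276
import Cfsg.Agent.Lib.LinearGroup.Simple
import Cfsg.Agent.T51.SmallElements

set_option autoImplicit false
open Cfsg

namespace Cfsg.Agent.S3206
open scoped commutatorElement

theorem cyclic_of_simple_comm {N : Type*} [Group N] [IsSimpleGroup N] (h : ∀ x y : N, x * y = y * x) : IsCyclic N := by
  obtain ⟨u, hu⟩ := exists_ne (1 : N)
  have hn : (Subgroup.zpowers u).Normal := ⟨fun a ha g => by rwa [h g a, mul_inv_cancel_right]⟩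
  rcases (‹IsSimpleGroup N›).eq_bot_or_eq_top_of_normal _ hn with e | e
  · exact absurd (Subgroup.zpowers_eq_bot.mp e) hu
  · exact isCyclic_iff_exists_zpowers_eq_top.mpr ⟨u, e⟩

/-- An abelian Sylow 2-subgroup of `PSL₂(q)`, `q` odd, is a four-group. -/
theorem klein_of_abelian {F : Type*} [Field F] [Fintype F] (hFo : Odd (Fintype.card F))
    (P : Sylow 2 (Matrix.ProjectiveSpecialLinearGroup (Fin 2) F))
    (hP : IsMulCommutative (P : Subgroup (Matrix.ProjectiveSpecialLinearGroup (Fin 2) F))) :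
    IsKleinFour (P : Subgroup (Matrix.ProjectiveSpecialLinearGroup (Fin 2) F)) := by
  haveI := Fact.mk Nat.prime_two
  by_cases hq : Fintype.card F % 8 = 3 ∨ Fintype.card F % 8 = 5
  · exact Classical10.isKleinFour_sylow_PSL rfl hq P
  exfalso
  have hq' : Fintype.card F % 8 = 1 ∨ Fintype.card F % 8 = 7 := by
    have := Nat.odd_iff.mp hFo; omega
  have hodd : Odd (Nat.card F) := by rwa [Nat.card_eq_fintype_card]
  obtain ⟨R, hR⟩ := Sylow.mapSurjective_surjective
    (QuotientGroup.mk'_surjective (Subgroup.center (Matrix.SpecialLinearGroup (Fin 2) F))) 2 P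
  obtain ⟨k, hk, ⟨e⟩⟩ := LinearGroup.quaternion_sylow_SL_two hodd R
  obtain ⟨n, hn⟩ : ∃ n, 2 ^ k = n := ⟨_, rfl⟩
  rw [hn] at e
  have hn0 : 0 < n := hn ▸ Nat.two_pow_pos k
  haveI : NeZero n := ⟨hn0.ne'⟩
  have h16 : 16 ∣ 4 * n := by
    have hd : 16 ∣ Nat.card (Matrix.SpecialLinearGroup (Fin 2) F) := by
      rw [LinearGroup.card_SL_two, Nat.card_eq_fintype_card]
      refine Dvd.dvd.mul_left ?_ _
      obtain ⟨r, hr⟩ : ∃ r, Fintype.card F = 8 * r + 1 ∨ Fintype.card F = 8 * r + 7 :=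
        ⟨Fintype.card F / 8, by omega⟩
      rcases hr with h | h <;> rw [h]
      · exact ⟨4 * r * r + r, by rw [show (8 * r + 1) ^ 2 = 16 * (4 * r * r + r) + 1 by ring]; omega⟩
      · exact ⟨4 * r * r + 7 * r + 3, by rw [show (8 * r + 7) ^ 2 = 16 * (4 * r * r + 7 * r + 3) + 1 by ring]; omega⟩
    have hd' : 2 ^ 4 ∣ Nat.card (Matrix.SpecialLinearGroup (Fin 2) F) := by norm_num; exact hd
    have h2 : 2 ^ 4 ∣ Nat.card R := Sylow.pow_dvd_card_of_pow_dvd_card R hd'
    rw [Nat.card_congr e.toEquiv, Nat.card_eq_fintype_card, QuaternionGroup.card] at h2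
    norm_num at h2
    exact h2
  have hn4 : 4 ≤ n := by
    have := Nat.le_of_dvd (by omega) h16
    omega
  obtain ⟨x, hx⟩ := e.surjective (QuaternionGroup.a 1)
  obtain ⟨y, hy⟩ := e.surjective (QuaternionGroup.xa 0)
  obtain ⟨c, hc⟩ : ∃ c, x * y * x⁻¹ * y⁻¹ = c := ⟨_, rfl⟩
  have hec : e c = QuaternionGroup.a 2 := by
    rw [← hc, map_mul, map_mul, map_mul, map_inv, map_inv, hx, hy]
    show QuaternionGroup.a 1 * QuaternionGroup.xa 0 * QuaternionGroup.a (-1) * QuaternionGroup.xa ((n : ZMod (2 * n)) + 0) = _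
    rw [QuaternionGroup.a_mul_xa, QuaternionGroup.xa_mul_a, QuaternionGroup.xa_mul_xa]
    congr 1
    have h0 : ((2 * n : ℕ) : ZMod (2 * n)) = 0 := ZMod.natCast_self _
    push_cast at h0
    linear_combination h0
  have hcZ : ((c : R) : Matrix.SpecialLinearGroup (Fin 2) F) ∈ Subgroup.center _ := by
    have hmem : ∀ z : R, QuotientGroup.mk' _ (z : Matrix.SpecialLinearGroup (Fin 2) F) ∈
        (P : Subgroup (Matrix.ProjectiveSpecialLinearGroup (Fin 2) F)) := fun z => by
      rw [← hR]; exact ⟨z, z.2, rfl⟩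
    have hcomm := hP.is_comm.comm ⟨_, hmem x⟩ ⟨_, hmem y⟩
    refine (QuotientGroup.eq_one_iff _).mp ?_
    rw [← hc]
    have h' := congrArg Subtype.val hcomm
    simp only [Subgroup.coe_mul] at h'
    simp only [Subgroup.coe_mul, Subgroup.coe_inv, QuotientGroup.mk_mul, QuotientGroup.mk_inv]
    simp only [QuotientGroup.mk'_apply] at h'
    rw [h', mul_inv_cancel_right, mul_inv_cancel]
  have hc2 : c * c = 1 := by
    obtain ⟨r, hr, hr'⟩ := Matrix.SpecialLinearGroup.mem_center_iff.mp hcZ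
    rw [Fintype.card_fin] at hr
    refine Subtype.ext (Subtype.ext ?_)
    rw [Subgroup.coe_mul, Matrix.SpecialLinearGroup.coe_mul, ← hr', ← map_mul, ← pow_two, hr]
    simp
  have h4 : (QuaternionGroup.a (2 + 2) : QuaternionGroup n) = QuaternionGroup.a 0 := by
    rw [← QuaternionGroup.a_mul_a, ← hec, ← map_mul, hc2, map_one]; rfl
  have h5 : ((4 : ℕ) : ZMod (2 * n)) = 0 := by
    have := QuaternionGroup.a.inj h4
    push_cast; rw [← this]; norm_num
  have := Nat.le_of_dvd (by norm_num) ((ZMod.natCast_eq_zero_iff 4 (2 * n)).mp h5)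
  omega

theorem nonabelian_facts {G : Type*} [Group G] [Finite G] [IsSimpleGroup G] (hG : ¬ IsMulCommutative G) :
    Subgroup.center G = ⊥ ∧ commutator G = ⊤ := by
  refine ⟨((‹IsSimpleGroup G›).eq_bot_or_eq_top_of_normal _ inferInstance).resolve_right fun h => hG ⟨⟨fun a b =>
      (Subgroup.mem_center_iff.mp (h ▸ Subgroup.mem_top a) b).symm⟩⟩,
    ((‹IsSimpleGroup G›).eq_bot_or_eq_top_of_normal (commutator G) inferInstance).resolve_left fun h0 => hG ⟨⟨fun a b => ?_⟩⟩⟩
  have : ⁅a, b⁆ ∈ commutator G := Subgroup.commutator_mem_commutator (Subgroup.mem_top a) (Subgroup.mem_top b)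
  rw [h0, Subgroup.mem_bot] at this
  exact commutatorElement_eq_one_iff_mul_comm.mp this

theorem pPrimeCore_eq_bot {G : Type*} [Group G] [Finite G] [IsSimpleGroup G] {t : G} (ht : orderOf t = 2) :
    Cfsg.pPrimeCore 2 G = ⊥ := by
  refine sSup_eq_bot.mpr fun N hN => ?_
  obtain ⟨hNn, hco⟩ := hN
  rcases (‹IsSimpleGroup G›).eq_bot_or_eq_top_of_normal N hNn with h | h
  · exact h
  · exfalso
    rw [h, Subgroup.card_top] at hco
    have h2 : 2 ∣ Nat.card G := ht ▸ orderOf_dvd_natCard t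
    exact (Nat.prime_two.coprime_iff_not_dvd.mp hco.symm) h2

/-- The data extracted from the centralizer of `t`. -/
theorem sylow_data {G : Type*} [Group G] [Finite G]
    (hab : ∀ S : Sylow 2 G, IsMulCommutative ↥(S : Subgroup G))
    (t : G) (ht : orderOf t = 2)
    (E : Subgroup G) (hE : Cfsg.IsInternalDirectProduct (Subgroup.zpowers t) E (Subgroup.centralizer ({t} : Set G)))
    {F : Type*} [Field F] [Fintype F] (hFo : Odd (Fintype.card F)) (hF3 : 3 < Fintype.card F)
    (N : Subgroup ↥E) [N.Normal] (hN : Nonempty (↥N ≃* Matrix.ProjectiveSpecialLinearGroup (Fin 2) F))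
    (hNc : Subgroup.centralizer (N : Set ↥E) = ⊥) :
    ∃ (S : Sylow 2 G) (V : Subgroup G) (w : G), t ∈ (S : Subgroup G) ∧ V ≤ (S : Subgroup G) ∧
      Nat.card V = 4 ∧ (∀ v ∈ V, v * v = 1) ∧ (∀ s ∈ (S : Subgroup G), s ∈ V ∨ t * s ∈ V) ∧ t ∉ V ∧
      Commute w t ∧ (∀ v ∈ V, w * v * w⁻¹ ∈ V) ∧ (∀ v ∈ V, v ≠ 1 → w * v * w⁻¹ ≠ v) := by
  haveI := Fact.mk Nat.prime_two
  obtain ⟨eN⟩ := hN
  have hsimple : IsSimpleGroup N := by
    haveI := LinearGroup.isSimpleGroup_PSL' (ι := Fin 2) (F := F) (fun _ => by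
      classical
      have hlt : ({0, 1, -1} : Finset F).card < (Finset.univ : Finset F).card := by
        rw [Finset.card_univ]; exact lt_of_le_of_lt Finset.card_le_three hF3
      obtain ⟨a, -, ha⟩ := Finset.exists_mem_notMem_of_card_lt_card hlt
      simp only [Finset.mem_insert, Finset.mem_singleton, not_or] at ha
      exact ⟨a, ha.1, fun h => (sq_eq_one_iff.mp h).elim ha.2.1 ha.2.2⟩)
    exact eN.isSimpleGroup
  obtain ⟨hE1, hE2, hcomm, hdisj, hsup⟩ := hE
  have htE : ∀ e ∈ E, Commute t e := fun e he => hcomm t (Subgroup.mem_zpowers t) e he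
  obtain ⟨W⟩ := (inferInstance : Nonempty (Sylow 2 N))
  let ι : N →* G := E.subtype.comp N.subtype
  have hι : Function.Injective ι := E.subtype_injective.comp N.subtype_injective
  obtain ⟨V, hV⟩ : ∃ V, (W : Subgroup N).map ι = V := ⟨_, rfl⟩
  have hVE : V ≤ E := by rw [← hV]; rintro _ ⟨a, -, rfl⟩; exact (a : E).2
  have hVp : IsPGroup 2 V := hV ▸ W.2.map ι
  obtain ⟨P, hP⟩ := hVp.exists_le_sylow
  have hWab : IsMulCommutative (W : Subgroup N) := ⟨⟨fun a b => Subtype.ext (hι (by
    have := (hab P).is_comm.comm ⟨ι a, hP (hV ▸ Subgroup.mem_map_of_mem ι a.2)⟩ ⟨ι b, hP (hV ▸ Subgroup.mem_map_of_mem ι b.2)⟩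
    have := congrArg Subtype.val this
    simpa using this))⟩⟩
  have hK : IsKleinFour (W : Subgroup N) := by
    let Q : Sylow 2 (Matrix.ProjectiveSpecialLinearGroup (Fin 2) F) := W.mapSurjective (f := eN.toMonoidHom) eN.surjective
    let eW := (W : Subgroup N).equivMapOfInjective eN.toMonoidHom eN.injective
    have hQ := klein_of_abelian hFo Q ⟨⟨fun a b => eW.symm.injective
      ((MulEquiv.map_mul eW.symm a b).trans ((hWab.is_comm.comm _ _).trans (MulEquiv.map_mul eW.symm b a).symm))⟩⟩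
    exact ⟨by rw [Nat.card_congr eW.toEquiv]; exact hQ.card_four,
      (Monoid.exponent_eq_of_mulEquiv eW).trans hQ.exponent_two⟩
  have hVcard : Nat.card V = 4 := by
    rw [← hV, Subgroup.card_map_of_injective hι]; exact hK.card_four
  have hV2 : ∀ v ∈ V, v * v = 1 := by
    rw [← hV]; rintro _ ⟨a, ha, rfl⟩
    have := Monoid.pow_exponent_eq_one (⟨a, ha⟩ : (W : Subgroup N))
    rw [hK.exponent_two, pow_two] at this
    rw [← map_mul]
    exact (congrArg ι (congrArg Subtype.val this)).trans (map_one ι)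
  have htV : t ∉ V := fun h => by
    have h1 : t ∈ (⊥ : Subgroup G) := hdisj ▸ Subgroup.mem_inf.mpr ⟨Subgroup.mem_zpowers t, hVE h⟩
    rw [Subgroup.mem_bot] at h1; rw [h1, orderOf_one] at ht; omega
  have htt : t * t = 1 := by rw [← pow_two, ← ht, pow_orderOf_eq_one]
  have hTVp : IsPGroup 2 (Subgroup.zpowers t ⊔ V : Subgroup G) :=
    (IsPGroup.of_card (n := 1) (by rw [Nat.card_zpowers, ht, pow_one]) : IsPGroup 2 (Subgroup.zpowers t)).to_sup_of_normal_right' hVp (by
      rw [Subgroup.zpowers_le]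
      rw [Subgroup.mem_normalizer_iff]
      intro v
      constructor
      · intro hv; rwa [(htE v (hVE hv)).eq, mul_inv_cancel_right]
      · intro hv
        have h1 := (htE _ (hVE hv)).eq
        have : v = t * v * t⁻¹ := by
          have h2 := congrArg (fun z => t⁻¹ * z) h1
          simp only [inv_mul_cancel_left, mul_assoc, inv_mul_cancel, mul_one] at h2
          rw [mul_assoc]; exact h2.symm
        rwa [this])
  obtain ⟨S, hS⟩ := hTVp.exists_le_sylow
  have htS : t ∈ (S : Subgroup G) := hS (Subgroup.mem_sup_left (Subgroup.mem_zpowers t))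
  have hVS : V ≤ (S : Subgroup G) := le_sup_right.trans hS
  have hSdec : ∀ s ∈ (S : Subgroup G), s ∈ V ∨ t * s ∈ V := by
    intro s hs
    have hst : Commute t s := Subtype.ext_iff.mp ((hab S).is_comm.comm ⟨t, htS⟩ ⟨s, hs⟩)
    have hsC : s ∈ Subgroup.zpowers t ⊔ E := hsup ▸ Subgroup.mem_centralizer_singleton_iff.mpr hst.eq.symm
    obtain ⟨i, e, he, hse⟩ : ∃ i : ℤ, ∃ e ∈ E, t ^ i * e = s := by
      rw [← SetLike.mem_coe, Subgroup.coe_mul_of_left_le_normalizer_right] at hsC
      · obtain ⟨_, ⟨i, rfl⟩, e, he, h⟩ := hsC; exact ⟨i, e, he, h⟩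
      · rw [Subgroup.zpowers_le, Subgroup.mem_normalizer_iff]
        intro v
        constructor
        · intro hv; rwa [(htE v hv).eq, mul_inv_cancel_right]
        · intro hv
          have h1 := (htE _ hv).eq
          have : v = t * v * t⁻¹ := by
            have h2 := congrArg (fun z => t⁻¹ * z) h1
            simp only [inv_mul_cancel_left, mul_assoc, inv_mul_cancel, mul_one] at h2
            rw [mul_assoc]; exact h2.symm
          rwa [this]
    have heS : e ∈ (S : Subgroup G) := by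
      have := (S : Subgroup G).mul_mem ((S : Subgroup G).zpow_mem htS (-i)) hs
      rwa [← hse, ← mul_assoc, ← zpow_add, neg_add_cancel, zpow_zero, one_mul] at this
    have heV : ∀ v ∈ V, Commute e v := fun v hv =>
      Subtype.ext_iff.mp ((hab S).is_comm.comm ⟨e, heS⟩ ⟨v, hVS hv⟩)
    obtain ⟨k, hk⟩ := S.2 ⟨e, heS⟩
    have hek : e ^ (2 ^ k) = 1 := congrArg Subtype.val hk
    let α : MulAut N := MulAut.conjNormal (⟨e, he⟩ : E)
    have hfix : ∀ x ∈ (W : Subgroup N), α x = x := fun x hx => hι (by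
      show e * ι x * e⁻¹ = ι x
      rw [(heV _ (hV ▸ Subgroup.mem_map_of_mem ι hx)).eq, mul_inv_cancel_right])
    haveI := hsimple
    have hNnab : ¬ IsMulCommutative N := fun h => by
      have hc4 : Nat.card (W : Subgroup N) = 4 := hK.card_four
      haveI := cyclic_of_simple_comm (N := N) h.is_comm.comm
      have : IsCyclic (W : Subgroup N) := inferInstance
      exact hK.not_isCyclic this
    obtain ⟨u, hu⟩ : ∃ u : N, orderOf u = 2 := exists_prime_orderOf_dvd_card' 2
      ((hK.card_four ▸ (by norm_num : 2 ∣ 4)).trans (W : Subgroup N).card_subgroup_dvd_card)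
    obtain ⟨g, hg⟩ := S4593.result (nonabelian_facts hNnab).1 (pPrimeCore_eq_bot hu) W hWab α
      (by
        have h1 : α ^ (2 ^ k) = 1 := by
          show (MulAut.conjNormal (⟨e, he⟩ : E)) ^ (2 ^ k) = 1
          rw [← map_pow, show (⟨e, he⟩ : E) ^ (2 ^ k) = 1 from Subtype.ext hek, map_one]
        obtain ⟨j, -, hj⟩ := (Nat.dvd_prime_pow Nat.prime_two).mp (orderOf_dvd_of_pow_eq_one h1)
        exact ⟨j, hj⟩) hfix
    have hge : (g : E)⁻¹ * ⟨e, he⟩ ∈ Subgroup.centralizer (N : Set E) := by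
      rw [Subgroup.mem_centralizer_iff]
      intro x hx
      have h := congrArg Subtype.val (hg ⟨x, hx⟩)
      simp only [α, MulAut.conjNormal_apply, Subgroup.coe_mul, Subgroup.coe_inv] at h
      have hx1 : x = (g : E)⁻¹ * ((g : E) * x * (g : E)⁻¹) * g := by group
      rw [← h] at hx1
      calc x * ((g : E)⁻¹ * ⟨e, he⟩) = (g : E)⁻¹ * (⟨e, he⟩ * x * (⟨e, he⟩ : E)⁻¹) * g * ((g : E)⁻¹ * ⟨e, he⟩) := by rw [← hx1]
        _ = (g : E)⁻¹ * ⟨e, he⟩ * x := by group
    rw [hNc, Subgroup.mem_bot, inv_mul_eq_one] at hge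
    have hιg : ι g = e := congrArg Subtype.val hge
    have hgW : g ∈ (W : Subgroup N) := by
      have hp : IsPGroup 2 (Subgroup.zpowers g) := by
        have h1 : g ^ (2 ^ k) = 1 := hι (by rw [map_pow, hιg, hek, map_one])
        obtain ⟨j, -, hj⟩ := (Nat.dvd_prime_pow Nat.prime_two).mp (orderOf_dvd_of_pow_eq_one h1)
        exact IsPGroup.of_card (n := j) (by rw [Nat.card_zpowers, hj])
      have hnorm : Subgroup.zpowers g ≤ Subgroup.normalizer ((W : Subgroup N) : Set N) := by
        rw [Subgroup.zpowers_le]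
        apply Subgroup.centralizer_le_normalizer
        rw [Subgroup.mem_centralizer_iff]
        intro x hx
        exact hι (by rw [map_mul, map_mul, hιg]; exact (heV _ (hV ▸ Subgroup.mem_map_of_mem ι hx)).eq.symm)
      have := W.3 (hp.to_sup_of_normal_right' W.2 hnorm) le_sup_right
      exact this ▸ Subgroup.mem_sup_left (Subgroup.mem_zpowers g)
    have hev : e ∈ V := hιg ▸ hV ▸ Subgroup.mem_map_of_mem ι hgW
    rcases Int.even_or_odd' i with ⟨j, rfl | rfl⟩
    · left; rw [← hse, zpow_mul, zpow_ofNat, pow_two, htt, one_zpow, one_mul]; exact hev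
    · right; rw [← hse, zpow_add, zpow_mul, zpow_ofNat, pow_two, htt, one_zpow, one_mul, zpow_one, ← mul_assoc, htt, one_mul]
      exact hev
  -- an element of odd order moving `V`
  obtain ⟨a, ha, hac⟩ : ∃ a ∈ Subgroup.normalizer ((W : Subgroup N) : Set N), a ∉ Subgroup.centralizer ((W : Subgroup N) : Set N) := by
    by_contra hh
    have hle : Subgroup.normalizer ((W : Subgroup N) : Set N) ≤ Subgroup.centralizer ((W : Subgroup N) : Set N) := fun x hx => by
      by_contra hx'; exact hh ⟨x, hx, hx'⟩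
    haveI := hsimple
    have hcompl := MonoidHom.ker_transferSylow_isComplement' W hle
    rcases hsimple.eq_bot_or_eq_top_of_normal (MonoidHom.transferSylow W hle).ker inferInstance with h | h
    · rw [h] at hcompl
      have htop : (W : Subgroup N) = ⊤ := Subgroup.isComplement'_bot_left.mp hcompl
      haveI := cyclic_of_simple_comm (N := N)
        (fun x y => Subtype.ext_iff.mp (hWab.is_comm.comm ⟨x, htop ▸ Subgroup.mem_top x⟩ ⟨y, htop ▸ Subgroup.mem_top y⟩))
      exact hK.not_isCyclic inferInstance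
    · rw [h] at hcompl
      have hbot : (W : Subgroup N) = ⊥ := Subgroup.isComplement'_top_left.mp hcompl
      have := hK.card_four
      rw [hbot, Subgroup.card_bot] at this; omega
  obtain ⟨r, m, hm, ham⟩ := Nat.exists_eq_two_pow_mul_odd (n := orderOf a) (orderOf_pos a).ne'
  have ha2 : a ^ (2 ^ r) ∉ Subgroup.centralizer ((W : Subgroup N) : Set N) := fun h => by
    apply hac
    have hmW : a ^ m ∈ (W : Subgroup N) := by
      have hp : IsPGroup 2 (Subgroup.zpowers (a ^ m)) := IsPGroup.of_card (n := r) (by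
        rw [Nat.card_zpowers, orderOf_pow_of_dvd hm.pos.ne' ⟨2 ^ r, by rw [ham, mul_comm]⟩, ham,
          Nat.mul_div_cancel _ hm.pos])
      have := W.3 (hp.to_sup_of_normal_right' W.2 (Subgroup.zpowers_le.mpr (pow_mem ha m))) le_sup_right
      exact this ▸ Subgroup.mem_sup_left (Subgroup.mem_zpowers _)
    have hmC : a ^ m ∈ Subgroup.centralizer ((W : Subgroup N) : Set N) := Subgroup.mem_centralizer_iff.mpr fun x hx =>
      Subtype.ext_iff.mp (hWab.is_comm.comm ⟨x, hx⟩ ⟨_, hmW⟩)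
    have hco : IsCoprime ((2 : ℤ) ^ r) (m : ℤ) := by
      have := Nat.isCoprime_iff_coprime.mpr ((Nat.coprime_two_left.mpr hm).pow_left r)
      simpa using this
    obtain ⟨x, y, hxy⟩ := hco
    have : a = (a ^ (2 ^ r)) ^ x * (a ^ m) ^ y := by
      rw [← zpow_natCast a (2 ^ r), ← zpow_natCast a m, ← zpow_mul, ← zpow_mul, ← zpow_add]
      push_cast
      rw [mul_comm _ x, mul_comm _ y, hxy, zpow_one]
    rw [this]
    exact mul_mem (zpow_mem h _) (zpow_mem hmC _)
  obtain ⟨b, hb⟩ : ∃ b, a ^ (2 ^ r) = b := ⟨_, rfl⟩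
  rw [hb] at ha2
  have hbn : b ∈ Subgroup.normalizer ((W : Subgroup N) : Set N) := hb ▸ pow_mem ha _
  have hbo : Nat.Coprime (orderOf (ι b)) 2 := by
    rw [orderOf_injective ι hι, ← hb, orderOf_pow_of_dvd (by positivity) ⟨m, ham⟩, ham, Nat.mul_div_cancel_left _ (by positivity)]
    exact Nat.coprime_two_right.mpr hm
  have hconjV : ∀ v ∈ V, ι b * v * (ι b)⁻¹ ∈ V := by
    rw [← hV]; rintro _ ⟨x, hx, rfl⟩
    exact ⟨b * x * b⁻¹, (Subgroup.mem_normalizer_iff.mp hbn x).mp hx, by simp⟩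
  refine ⟨S, V, ι b, htS, hVS, hVcard, hV2, hSdec, htV, (htE _ ((b : N) : E).2).symm, hconjV, ?_⟩
  intro v hv hv1 hfix
  apply ha2
  rw [Subgroup.mem_centralizer_iff]
  intro x hx
  apply hι
  rw [map_mul, map_mul]
  obtain ⟨y, hy⟩ : ∃ y, ι x = y := ⟨_, rfl⟩
  have hyV : y ∈ V := hy ▸ hV ▸ Subgroup.mem_map_of_mem ι hx
  rw [hy]
  suffices ι b * y * (ι b)⁻¹ = y from (mul_inv_eq_iff_eq_mul.mp this).symm
  have key : ∀ z ∈ V, z = 1 ∨ z = v ∨ z = y ∨ z = v * y ∨ y = 1 ∨ y = v := by
    intro z hz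
    by_contra hn
    simp only [not_or] at hn
    obtain ⟨z1, z2, z3, z4, y1, y2⟩ := hn
    classical
    haveI := Fintype.ofFinite V
    have h5 : ({1, ⟨v, hv⟩, ⟨y, hyV⟩, ⟨v * y, mul_mem hv hyV⟩, ⟨z, hz⟩} : Finset V).card = 5 := by
      have n1 : v * y ≠ 1 := fun h => y2 ((eq_inv_of_mul_eq_one_right h).trans (inv_eq_of_mul_eq_one_right (hV2 v hv)))
      have n2 : v * y ≠ v := fun h => y1 (mul_eq_left.mp h)
      have n3 : v * y ≠ y := fun h => hv1 (mul_eq_right.mp h)
      rw [Finset.card_insert_of_notMem, Finset.card_insert_of_notMem, Finset.card_insert_of_notMem,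
        Finset.card_insert_of_notMem, Finset.card_singleton] <;>
        simp [Subtype.ext_iff, Ne.symm z2, Ne.symm z3, Ne.symm z4, Ne.symm z1, Ne.symm y1, Ne.symm y2, Ne.symm n1, Ne.symm n2, Ne.symm n3, Ne.symm hv1]
    have h6 := Finset.card_le_univ ({1, ⟨v, hv⟩, ⟨y, hyV⟩, ⟨v * y, mul_mem hv hyV⟩, ⟨z, hz⟩} : Finset V)
    rw [h5, ← Nat.card_eq_fintype_card, hVcard] at h6
    omega
  have himg := key _ (hconjV y hyV)
  have triv1 : y = 1 → ι b * y * (ι b)⁻¹ = y := fun h => by rw [h, mul_one, mul_inv_cancel]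
  have triv2 : y = v → ι b * y * (ι b)⁻¹ = y := fun h => by rw [h]; exact hfix
  rcases himg with h | h | h | h | h | h
  · exact triv1 (conj_eq_one_iff.mp h)
  · exact triv2 (mul_left_cancel (mul_right_cancel (h.trans hfix.symm)))
  · exact h
  · have hq : ι b * y * (ι b)⁻¹ = y * v := h.trans (Subtype.ext_iff.mp ((hab S).is_comm.comm ⟨v, hVS hv⟩ ⟨y, hVS hyV⟩))
    have := T51.eq_one_of_fixed (Q := V) hVp hbo hv hq hfix
    exact absurd this hv1
  · exact triv1 h
  · exact triv2 h

/-- No perfect 2-cover. -/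
theorem multiplier {G : Type*} [Group G] [Finite G] [IsSimpleGroup G] (hG : ¬ IsMulCommutative G)
    (S : Sylow 2 G) (hS : IsMulCommutative (S : Subgroup G)) (t : G) (ht : orderOf t = 2) (htS : t ∈ (S : Subgroup G))
    (V : Subgroup G) (hVS : V ≤ (S : Subgroup G)) (hVcard : Nat.card V = 4) (hV2 : ∀ v ∈ V, v * v = 1)
    (hdec : ∀ s ∈ (S : Subgroup G), s ∈ V ∨ t * s ∈ V) (htV : t ∉ V)
    (w : G) (hwt : Commute w t) (hwV : ∀ v ∈ V, w * v * w⁻¹ ∈ V) (hwf : ∀ v ∈ V, v ≠ 1 → w * v * w⁻¹ ≠ v)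
    {L : Type*} [Group L] [Finite L] (Z : Subgroup L) [Z.Normal] (hL : commutator L = ⊤) (hZ : Z ≤ Subgroup.center L)
    (hZp : IsPGroup 2 Z) (e : L ⧸ Z ≃* G) : Z = ⊥ := by
  classical
  haveI := Fact.mk Nat.prime_two
  have htt : t * t = 1 := by rw [← pow_two, ← ht, pow_orderOf_eq_one]
  have hS2 : ∀ s ∈ (S : Subgroup G), s * s = 1 := by
    intro s hs
    rcases hdec s hs with h | h
    · exact hV2 s h
    · have hc : Commute t s := Subtype.ext_iff.mp (hS.is_comm.comm ⟨t, htS⟩ ⟨s, hs⟩)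
      have := hV2 _ h
      rw [show t * s * (t * s) = (t * t) * (s * s) by rw [mul_assoc, ← mul_assoc s t, ← hc.eq]; group, htt, one_mul] at this
      exact this
  have hindex : ∀ H : Subgroup G, H.index ≠ 2 := fun H hH => by
    haveI := Subgroup.normal_of_index_eq_two hH
    rcases (‹IsSimpleGroup G›).eq_bot_or_eq_top_of_normal H inferInstance with h | h
    · rw [h, Subgroup.index_bot] at hH
      haveI : IsCyclic G := isCyclic_of_prime_card hH
      exact hG (IsCyclic.isMulCommutative (α := G))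
    · rw [h, Subgroup.index_top] at hH; omega
  -- `t` is conjugate into `V`
  obtain ⟨n, hn, hnt⟩ : ∃ n ∈ Subgroup.normalizer ((S : Subgroup G) : Set G), n * t * n⁻¹ ∈ V := by
    have hVel : ∀ A : Subgroup G, A ≤ (S : Subgroup G) → ¬ Cfsg.PRankLE 2 1 A ∨ Nat.card A ≤ 2 := by
      intro A hA
      by_cases h : Nat.card A ≤ 2
      · exact Or.inr h
      · refine Or.inl fun hr => h ?_
        have hcm : ∀ a b : (⊤ : Subgroup A), a * b = b * a := by
          intro a b
          have h1 := congrArg Subtype.val (hS.is_comm.comm ⟨(a : A).1, hA (a : A).2⟩ ⟨(b : A).1, hA (b : A).2⟩)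
          simp only [Subgroup.coe_mul] at h1
          exact Subtype.ext (Subtype.ext (by simpa using h1))
        have := hr ⊤ ⟨⟨hcm⟩⟩
          (fun a _ => Subtype.ext (by rw [pow_two]; exact hS2 _ (hA a.2)))
        simpa using this
    have hScard : Nat.card (S : Subgroup G) ≤ 8 ∧ 4 < Nat.card (S : Subgroup G) := by
      have hle : (V : Set G) ∪ (fun v => t * v) '' (V : Set G) = ((S : Subgroup G) : Set G) := by
        ext s
        constructor
        · rintro (h | ⟨v, hv, rfl⟩)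
          · exact hVS h
          · exact mul_mem htS (hVS hv)
        · intro hs
          rcases hdec s hs with h | h
          · exact Or.inl h
          · exact Or.inr ⟨t * s, h, by show t * (t * s) = s; rw [← mul_assoc, htt, one_mul]⟩
      have hd : Disjoint (V : Set G) ((fun v => t * v) '' (V : Set G)) := by
        rw [Set.disjoint_left]
        rintro x hx ⟨v, hv, rfl⟩
        exact htV ((Subgroup.mul_mem_cancel_right V hv).mp hx)
      have h1 : Nat.card (S : Subgroup G) = ((S : Subgroup G) : Set G).ncard := Nat.card_coe_set_eq _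
      have h2 : Nat.card V = (V : Set G).ncard := Nat.card_coe_set_eq _
      rw [h1, ← hle, Set.ncard_union_eq hd, Set.ncard_image_of_injective _ (fun _ _ h => mul_left_cancel h), ← h2, hVcard]
      omega
    refine S1244.result hindex S hS 3 (by norm_num) ⟨fun A _ _ => ?_, fun hr => ?_⟩ V hVS ⟨fun A _ _ => ?_, Or.inr fun hr => ?_⟩ t ht htS
    · exact (Subgroup.card_le_card_group A).trans (hScard.1.trans (by norm_num))
    · have := hr ⊤ ⟨⟨fun a b => Subtype.ext (hS.is_comm.comm _ _)⟩⟩ (fun a _ => Subtype.ext (by rw [pow_two]; exact hS2 _ a.2))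
      rw [Subgroup.card_top] at this
      have := hScard.2
      norm_num at *
      omega
    · exact (Subgroup.card_le_card_group A).trans (hVcard.trans (by norm_num)).le
    · rcases hVel V hVS with h | h
      · exact h hr
      · omega
  -- lift to `L`
  let π : L →* G := e.toMonoidHom.comp (QuotientGroup.mk' Z)
  have hπs : Function.Surjective π := e.surjective.comp (QuotientGroup.mk'_surjective Z)
  have hπk : ∀ l, π l = 1 → l ∈ Z := fun l hl => (QuotientGroup.eq_one_iff l).mp (e.map_eq_one_iff.mp hl)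
  have hker : π.ker = Z := by
    ext l
    exact ⟨hπk l, fun h => by show e _ = 1; rw [QuotientGroup.mk'_apply, (QuotientGroup.eq_one_iff l).mpr h, map_one]⟩
  have hcen : ∀ a b : L, π a = π b → ∀ x, Commute b x → Commute a x := by
    intro a b hab x hx
    have hz : a * b⁻¹ ∈ Z := hπk _ (by rw [map_mul, map_inv, hab, mul_inv_cancel])
    have hzc : Commute (a * b⁻¹) x := (Subgroup.mem_center_iff.mp (hZ hz) x).symm
    have := hzc.mul_left hx
    rwa [inv_mul_cancel_right] at this
  obtain ⟨tl, htl⟩ := hπs t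
  obtain ⟨wl, hwl⟩ := hπs w
  obtain ⟨nl, hnl⟩ := hπs n
  -- `tl` centralizes the preimage of `V`
  have hkey : ∀ c : L, π c ∈ V → Commute tl (c⁻¹ * (wl * c * wl⁻¹)) := by
    intro c hc
    obtain ⟨k, hk⟩ : ∃ k, tl * c * tl⁻¹ * c⁻¹ = k := ⟨_, rfl⟩
    have hkZ : k ∈ Z := hπk _ (by
      rw [← hk, map_mul, map_mul, map_mul, map_inv, map_inv, htl,
        show t * π c = π c * t from Subtype.ext_iff.mp (hS.is_comm.comm ⟨t, htS⟩ ⟨_, hVS hc⟩),
        mul_inv_cancel_right, mul_inv_cancel])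
    obtain ⟨z, hz, hzw⟩ : ∃ z ∈ Z, wl⁻¹ * tl * wl = tl * z :=
      ⟨tl⁻¹ * (wl⁻¹ * tl * wl), hπk _ (by
        rw [map_mul, map_inv, map_mul, map_mul, map_inv, hwl, htl, mul_assoc w⁻¹, ← hwt.eq, inv_mul_cancel_left, inv_mul_cancel]), by group⟩
    have hzc := Subgroup.mem_center_iff.mp (hZ hz)
    have hkc := Subgroup.mem_center_iff.mp (hZ hkZ)
    have h1 : tl * c = k * c * tl := by rw [← hk]; group
    have h2 : tl * (wl * c * wl⁻¹) = k * (wl * c * wl⁻¹) * tl := by
      calc tl * (wl * c * wl⁻¹) = wl * ((wl⁻¹ * tl * wl) * c) * wl⁻¹ := by group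
        _ = wl * ((tl * c) * z) * wl⁻¹ := by rw [hzw, mul_assoc tl z, ← hzc c, ← mul_assoc tl]
        _ = wl * k * (c * (tl * z)) * wl⁻¹ := by rw [h1]; group
        _ = wl * k * (c * (wl⁻¹ * tl * wl)) * wl⁻¹ := by rw [← hzw]
        _ = k * wl * (c * (wl⁻¹ * tl * wl)) * wl⁻¹ := by rw [hkc wl]
        _ = k * (wl * c * wl⁻¹) * tl := by group
    have h3 : tl * c⁻¹ = c⁻¹ * k⁻¹ * tl := by
      calc tl * c⁻¹ = c⁻¹ * k⁻¹ * (k * c * tl) * c⁻¹ := by group
        _ = c⁻¹ * k⁻¹ * (tl * c) * c⁻¹ := by rw [h1]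
        _ = c⁻¹ * k⁻¹ * tl := by group
    show tl * (c⁻¹ * (wl * c * wl⁻¹)) = c⁻¹ * (wl * c * wl⁻¹) * tl
    calc tl * (c⁻¹ * (wl * c * wl⁻¹)) = (tl * c⁻¹) * (wl * c * wl⁻¹) := (mul_assoc _ _ _).symm
      _ = c⁻¹ * k⁻¹ * (tl * (wl * c * wl⁻¹)) := by rw [h3]; group
      _ = c⁻¹ * (wl * c * wl⁻¹) * tl := by rw [h2]; group
  have htVc : ∀ b : L, π b ∈ V → Commute tl b := by
    intro b hb
    let φ : V → V := fun v => ⟨v.1⁻¹ * (w * v.1 * w⁻¹), mul_mem (inv_mem v.2) (hwV _ v.2)⟩
    have hφ : Function.Injective φ := by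
      intro u v huv
      have h : u.1⁻¹ * (w * u.1 * w⁻¹) = v.1⁻¹ * (w * v.1 * w⁻¹) := congrArg Subtype.val huv
      apply Subtype.ext
      by_contra hne
      have hne' : v.1 * u.1⁻¹ ≠ 1 := fun h' => hne (mul_inv_eq_one.mp h').symm
      refine hwf _ (mul_mem v.2 (inv_mem u.2)) hne' ?_
      calc w * (v.1 * u.1⁻¹) * w⁻¹ = (w * v.1 * w⁻¹) * (w * u.1 * w⁻¹)⁻¹ := by group
        _ = v.1 * (v.1⁻¹ * (w * v.1 * w⁻¹)) * (w * u.1 * w⁻¹)⁻¹ := by rw [mul_inv_cancel_left]
        _ = v.1 * (u.1⁻¹ * (w * u.1 * w⁻¹)) * (w * u.1 * w⁻¹)⁻¹ := by rw [h]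
        _ = v.1 * u.1⁻¹ := by group
    obtain ⟨v, hv⟩ := (Finite.injective_iff_surjective.mp hφ) ⟨π b, hb⟩
    obtain ⟨c, hc⟩ := hπs v
    refine (hcen b (c⁻¹ * (wl * c * wl⁻¹)) ?_ tl (hkey c (hc ▸ v.2)).symm).symm
    rw [map_mul, map_inv, map_mul, map_mul, map_inv, hc, hwl]
    exact (congrArg Subtype.val hv).symm
  obtain ⟨T, hT⟩ : ∃ T, (S : Subgroup G).comap π = T := ⟨_, rfl⟩
  have hmemT : ∀ b, b ∈ T ↔ π b ∈ (S : Subgroup G) := fun b => by rw [← hT]; exact Iff.rfl
  have htT : ∀ b ∈ T, Commute tl b := by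
    intro b hb
    rcases hdec _ ((hmemT b).mp hb) with h | h
    · exact htVc b h
    · have h1 := htVc (tl * b) (by rw [map_mul, htl]; exact h)
      have h2 := (Commute.refl tl).inv_right.mul_right h1
      rwa [inv_mul_cancel_left] at h2
  have hconj : ∀ g : L, π g ∈ Subgroup.normalizer ((S : Subgroup G) : Set G) →
      ∀ x : L, (∀ b ∈ T, Commute x b) → ∀ b ∈ T, Commute (g * x * g⁻¹) b := by
    intro g hg x hx b hb
    have hb' : g⁻¹ * b * g ∈ T := by
      rw [hmemT, map_mul, map_mul, map_inv]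
      refine (Subgroup.mem_normalizer_iff.mp hg _).mpr ?_
      simpa [mul_assoc] using (hmemT b).mp hb
    have := (hx _ hb').map (MulAut.conj g).toMonoidHom
    simpa [mul_assoc] using this
  have hwS : π wl ∈ Subgroup.normalizer ((S : Subgroup G) : Set G) := by
    rw [hwl]
    have hfwd : ∀ s ∈ (S : Subgroup G), w * s * w⁻¹ ∈ (S : Subgroup G) := by
      intro s hs
      rcases hdec s hs with h | h
      · exact hVS (hwV s h)
      · have := (S : Subgroup G).mul_mem htS (hVS (hwV _ h))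
        rwa [show t * (w * (t * s) * w⁻¹) = (t * w) * (t * s) * w⁻¹ by group, ← hwt.eq,
          show w * t * (t * s) * w⁻¹ = w * ((t * t) * s) * w⁻¹ by group, htt, one_mul] at this
    rw [Subgroup.mem_normalizer_iff]
    intro s
    refine ⟨hfwd s, fun hs => ?_⟩
    have hmap : (S : Subgroup G).map (MulAut.conj w).toMonoidHom = (S : Subgroup G) :=
      Subgroup.eq_of_le_of_card_ge (by rintro _ ⟨x, hx, rfl⟩; exact hfwd x hx)
        (by rw [Subgroup.card_map_of_injective (MulAut.conj w).injective])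
    rw [← hmap] at hs
    obtain ⟨x, hx, hxe⟩ := hs
    exact ((MulAut.conj w).injective hxe : x = s) ▸ hx
  let R : Subgroup L := Subgroup.centralizer (T : Set L)
  have memR : ∀ x, x ∈ R ↔ ∀ b ∈ T, Commute x b := fun x =>
    ⟨fun h b hb => (Subgroup.mem_centralizer_iff.mp h b hb).symm,
      fun h => Subgroup.mem_centralizer_iff.mpr fun b hb => ((h b hb).eq).symm⟩
  have htR : tl ∈ R := (memR tl).mpr htT
  have hvR : nl * tl * nl⁻¹ ∈ R := (memR _).mpr (hconj nl (hnl ▸ hn) tl htT)
  have hwR : wl * (nl * tl * nl⁻¹) * wl⁻¹ ∈ R := (memR _).mpr (hconj wl hwS _ ((memR _).mp hvR))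
  have hTR : T ≤ R := by
    intro b hb
    have hmap : (S : Subgroup G) ≤ R.map π := by
      obtain ⟨v, hv⟩ : ∃ v, n * t * n⁻¹ = v := ⟨_, rfl⟩
      have hvm : v ∈ R.map π := ⟨_, hvR, by rw [map_mul, map_mul, map_inv, hnl, htl, hv]⟩
      have hwm : w * v * w⁻¹ ∈ R.map π := ⟨_, hwR, by rw [map_mul, map_mul, map_inv, map_mul, map_mul, map_inv, hnl, htl, hwl, hv]⟩
      have htm : t ∈ R.map π := ⟨_, htR, htl⟩
      rw [hv] at hnt
      have hv1 : v ≠ 1 := fun h => by
        rw [← hv, conj_eq_one_iff] at h; rw [h, orderOf_one] at ht; omega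
      have hVle : V ≤ R.map π := by
        have h3 : V ⊓ R.map π = V := by
          refine Subgroup.eq_of_le_of_card_ge inf_le_left ?_
          have hd := Subgroup.card_dvd_of_le (inf_le_left : V ⊓ R.map π ≤ V)
          have h3' : 3 ≤ Nat.card (V ⊓ R.map π : Subgroup G) := by
            have hs : ({1, v, w * v * w⁻¹} : Finset G).card = 3 := by
              rw [Finset.card_insert_of_notMem, Finset.card_insert_of_notMem, Finset.card_singleton]
              · simpa using (hwf v hnt hv1).symm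
              · have hne2 : w * v * w⁻¹ ≠ 1 := fun h => hv1 (conj_eq_one_iff.mp h)
                simp [Ne.symm hv1, Ne.symm hne2]
            rw [show Nat.card (V ⊓ R.map π : Subgroup G) = ((V ⊓ R.map π : Subgroup G) : Set G).ncard from Nat.card_coe_set_eq _,
              ← hs, ← Set.ncard_coe_finset]
            refine Set.ncard_le_ncard ?_ (Set.toFinite _)
            intro x hx
            simp only [Finset.coe_insert, Finset.coe_singleton, Set.mem_insert_iff, Set.mem_singleton_iff] at hx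
            rcases hx with rfl | rfl | rfl
            · exact one_mem _
            · exact ⟨hnt, hvm⟩
            · exact ⟨hwV _ hnt, hwm⟩
          rw [hVcard] at hd ⊢
          obtain ⟨d, hd'⟩ := hd
          rcases d with _ | _ | d
          · omega
          · omega
          · have : Nat.card (V ⊓ R.map π : Subgroup G) * 2 ≤ 4 := by rw [hd']; exact Nat.mul_le_mul_left _ (by omega)
            omega
        exact h3 ▸ inf_le_right
      intro s hs
      rcases hdec s hs with h | h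
      · exact hVle h
      · have := mul_mem htm (hVle h); rwa [← mul_assoc, htt, one_mul] at this
    obtain ⟨x, hx, hxb⟩ := hmap ((hmemT b).mp hb)
    exact (memR b).mpr fun y hy => hcen b x hxb.symm y ((memR x).mp hx y hy)
  have hTab : ∀ a b : T, a * b = b * a := fun a b => Subtype.ext (((memR _).mp (hTR a.2)) b b.2).eq
  letI : CommGroup T := { (inferInstance : Group T) with mul_comm := hTab }
  have hTind : ¬ 2 ∣ T.index := by
    rw [← hT, Subgroup.index_comap_of_surjective _ hπs]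
    exact S.not_dvd_index
  refine Subgroup.eq_bot_iff_forall _ |>.mpr fun z hz => ?_
  have hzT : z ∈ T := by rw [hmemT, show π z = 1 by rw [← MonoidHom.mem_ker, hker]; exact hz]; exact one_mem _
  have h1 := MonoidHom.transfer_eq_pow (MonoidHom.id T) z (fun k g _ => by
    rw [mul_assoc, ← (Subgroup.mem_center_iff.mp (Subgroup.pow_mem _ (hZ hz) k) g), inv_mul_cancel_left])
  have h2 : MonoidHom.transfer (MonoidHom.id T) z = 1 := by
    have hle : commutator L ≤ (MonoidHom.transfer (MonoidHom.id T)).ker := Abelianization.commutator_subset_ker _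
    exact hle (hL ▸ Subgroup.mem_top z)
  rw [h2] at h1
  have h3 : z ^ T.index = 1 := (congrArg Subtype.val h1).symm
  obtain ⟨k, hk⟩ := hZp ⟨z, hz⟩
  have h4 : z ^ (2 ^ k) = 1 := congrArg Subtype.val hk
  have hco : Nat.Coprime T.index (2 ^ k) := ((Nat.prime_two.coprime_iff_not_dvd).mpr hTind).symm.pow_right k
  have h5 : z ^ Nat.gcd T.index (2 ^ k) = 1 := pow_gcd_eq_one.mpr ⟨h3, h4⟩
  rwa [hco.gcd_eq_one, pow_one] at h5

/-- Let G be a non-abelian finite simple group with abelian Sylow 2-subgroups, and let t be an involution of G whose centralizer is a maximal subgroup of G and is the direct product of the subgroup generated by t with a subgroup E having a normal subgroup isomorphic to PSL(2, q), q odd and greater than 3, with trivial centralizer in E. Then every finite perfect group having a central 2-subgroup with quotient isomorphic to G has that central subgroup trivial (G has no nontrivial perfect central extension by a 2-group), and every automorphism of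 G of 2-power order that fixes every element of some Sylow 2-subgroup of G is inner. -/
theorem result {G : Type*} [Group G] [Finite G] [IsSimpleGroup G]
    (hG : ¬ IsMulCommutative G) (hab : ∀ S : Sylow 2 G, IsMulCommutative ↥(S : Subgroup G))
    (t : G) (ht : orderOf t = 2) (hmax : IsCoatom (Subgroup.centralizer ({t} : Set G)))
    (E : Subgroup G) (hE : Cfsg.IsInternalDirectProduct (Subgroup.zpowers t) E (Subgroup.centralizer ({t} : Set G)))
    {F : Type*} [Field F] [Fintype F] (hFo : Odd (Fintype.card F)) (hF3 : 3 < Fintype.card F)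
    (N : Subgroup ↥E) [N.Normal] (hN : Nonempty (↥N ≃* Matrix.ProjectiveSpecialLinearGroup (Fin 2) F))
    (hNc : Subgroup.centralizer (N : Set ↥E) = ⊥) :
    (∀ (L : Type) (_ : Group L) (_ : Finite L) (Z : Subgroup L) (_ : Z.Normal), commutator L = ⊤ → Z ≤ Subgroup.center L →
        IsPGroup 2 ↥Z → Nonempty (L ⧸ Z ≃* G) → Z = ⊥) ∧
    (∀ (φ : G ≃* G) (k : ℕ), φ ^ (2 ^ k) = 1 → (∃ S : Sylow 2 G, ∀ s ∈ (S : Subgroup G), φ s = s) →
        ∃ g : G, ∀ x : G, φ x = g * x * g⁻¹) := by
  refine ⟨?_, ?_⟩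
  · intro L _ _ Z _ hL hZ hZp he
    obtain ⟨e⟩ := he
    obtain ⟨S, V, w, htS, hVS, hVcard, hV2, hdec, htV, hwt, hwV, hwf⟩ := sylow_data hab t ht E hE hFo hF3 N hN hNc
    exact multiplier hG S (hab S) t ht htS V hVS hVcard hV2 hdec htV w hwt hwV hwf Z hL hZ hZp e
  · intro φ k hk hS
    obtain ⟨S, hS⟩ := hS
    haveI := Fact.mk Nat.prime_two
    refine S4593.result (nonabelian_facts hG).1 (pPrimeCore_eq_bot ht) S (hab S) φ ?_ hS
    obtain ⟨j, -, hj⟩ := (Nat.dvd_prime_pow Nat.prime_two).mp (orderOf_dvd_of_pow_eq_one hk)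
    exact ⟨j, hj⟩

end Cfsg.Agent.S3206
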