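import Cfsg.Statements.S3208
import Cfsg.Agent.LAE65.Basic
import Mathlib.GroupTheory.Nilpotent

set_option autoImplicit false
open Cfsg

namespace Cfsg.Agent.S3208

/-- Let j be an involution of a finite group G, H a subgroup of G, and T a Sylow 2-subgroup of H ∩ C_G(j) containing j such that ⟨j⟩ is a characteristic subgroup of T. Then T is a Sylow 2-subgroup of H. -/
theorem result {G : Type*} [Group G] [Finite G]
    (j : G) (hj : orderOf j = 2) (H T : Subgroup G) (hT : T ≤ H ⊓ Subgroup.centralizer ({j} : Set G)) (h2 : IsPGroup 2 ↥T)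
    (hSyl : ¬ 2 ∣ T.relIndex (H ⊓ Subgroup.centralizer ({j} : Set G))) (hjT : j ∈ T)
    (hchar : ((Subgroup.zpowers j).subgroupOf T).Characteristic) :
    ¬ 2 ∣ T.relIndex H := by
  classical
  have : Fact (Nat.Prime 2) := ⟨Nat.prime_two⟩
  set C := Subgroup.centralizer ({j} : Set G) with hCdef
  have hTH : T ≤ H := hT.trans inf_le_left
  obtain ⟨Q, hTQ, hQH, hQ, hQi⟩ := LAE65.exists_sylow_in hTH h2
  suffices hh : Q ≤ T by
    rwa [le_antisymm hTQ hh]
  by_contra hne
  have hlt : T.subgroupOf Q < ⊤ := by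
    rw [lt_top_iff_ne_top, Ne, Subgroup.subgroupOf_eq_top]; exact hne
  have := hQ.isNilpotent
  obtain ⟨g, hg, hgT⟩ := SetLike.exists_of_lt
    ((Group.normalizerCondition_of_isNilpotent (G := Q)) _ hlt)
  have hgN : (g : G) ∈ Subgroup.normalizer (T : Set G) :=
    ((Subgroup.subgroupOf_normalizer_eq hTQ).ge hg)
  have hconj : (g : G) * j * (g : G)⁻¹ = j := by
    set φ : MulAut T := MulEquiv.mk
      { toFun := fun a => ⟨(g : G) * a * (g : G)⁻¹, (Subgroup.mem_normalizer_iff.mp hgN _).mp a.2⟩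
        invFun := fun a => ⟨(g : G)⁻¹ * a * (g : G), (Subgroup.mem_normalizer_iff.mp hgN _).mpr
          (by simpa [mul_assoc] using a.2)⟩
        left_inv := fun a => by ext; simp [mul_assoc]
        right_inv := fun a => by ext; simp [mul_assoc] }
      (fun a b => by ext; simp [mul_assoc]) with hφ
    have hmem : (⟨j, hjT⟩ : T) ∈ (Subgroup.zpowers j).subgroupOf T := Subgroup.mem_zpowers j
    rw [← hchar.fixed φ, Subgroup.mem_comap] at hmem
    have hmem' : (g : G) * j * (g : G)⁻¹ ∈ Subgroup.zpowers j := hmem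
    obtain ⟨k, hk⟩ := Subgroup.mem_zpowers_iff.mp hmem'
    rw [← zpow_mod_orderOf, hj] at hk
    rcases Int.emod_two_eq_zero_or_one k with h | h <;>
      simp only [Nat.cast_ofNat, h, zpow_zero, zpow_one] at hk
    · have h1 : j = 1 := by simpa using hk.symm
      simp [h1] at hj
    · exact hk.symm
  have hgC : (g : G) ∈ C := by
    rw [hCdef, Subgroup.mem_centralizer_iff]
    rintro y rfl
    exact (mul_inv_eq_iff_eq_mul.mp hconj).symm
  set U := T ⊔ Subgroup.zpowers (g : G)
  have hgH : (g : G) ∈ H ⊓ C := ⟨hQH g.2, hgC⟩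
  have hU : U ≤ H ⊓ C := sup_le hT (Subgroup.zpowers_le.mpr hgH)
  have hUQ : U ≤ Q := sup_le hTQ (Subgroup.zpowers_le.mpr g.2)
  obtain ⟨k, hk⟩ := (hQ.to_le hUQ).index (T.subgroupOf U)
  have hd : T.relIndex U ∣ T.relIndex (H ⊓ C) :=
    Subgroup.relIndex_mul_relIndex T U (H ⊓ C) le_sup_left hU ▸ dvd_mul_right _ _
  have hk0 : k = 0 := by
    by_contra h
    exact hSyl ((show 2 ∣ T.relIndex U by rw [Subgroup.relIndex, hk]; exact dvd_pow_self 2 h).trans hd)
  have h1 : T.relIndex U = 1 := by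
    rw [Subgroup.relIndex, hk, hk0, pow_zero]
  exact hgT (Subgroup.relIndex_eq_one.mp h1
    ((le_sup_right : Subgroup.zpowers (g : G) ≤ U) (Subgroup.mem_zpowers (g : G))))

end Cfsg.Agent.S3208
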