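import Cfsg.Statements.S3209
import Cfsg.Agent.InvChar68.SL2Order4

set_option autoImplicit false
open Cfsg
open scoped Pointwise

namespace Cfsg.Agent.S3209

open InvChar68 in
/-- A copy of `SL(2, q)` with unique involution `j`. -/
theorem sl2_facts {G : Type*} [Group G] {F : Type*} [Field F] [Fintype F]
    (hF : Odd (Fintype.card F)) (L : Subgroup G) (e : ↥L ≃* Matrix.SpecialLinearGroup (Fin 2) F)
    {j : G} (hj : orderOf j = 2) (hjL : j ∈ L) :
    (∀ a ∈ L, a * a = 1 → a = 1 ∨ a = j) ∧ (∃ a ∈ L, a * a = j) ∧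
      (∀ a ∈ L, ∀ b ∈ L, a * a = j → b * b = j → ∃ g ∈ L, g * a * g⁻¹ = b) := by
  have h2 := SL2.two_ne_zero_of_odd hF
  have hjj : j * j = 1 := by rw [← pow_two, ← hj]; exact pow_orderOf_eq_one j
  have hej : (e ⟨j, hjL⟩).1 = -1 := by
    refine LinearGroup.eq_neg_one_of_sq_eq_one h2 _ (by rw [← map_mul, ← map_one e]; congr 1; exact Subtype.ext hjj) fun h => ?_
    have : j = 1 := congrArg Subtype.val (e.map_eq_one_iff.mp h)
    rw [this, orderOf_one] at hj
    omega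
  have hsq : ∀ a : L, (a : G) * a = j → (e a * e a).1 = -1 := by
    intro a ha
    rw [← map_mul, show a * a = ⟨j, hjL⟩ from Subtype.ext ha, hej]
  refine ⟨fun a ha haa => ?_, ?_, fun a ha b hb haj hbj => ?_⟩
  · by_cases h : a = 1
    · exact Or.inl h
    · right
      have h' := LinearGroup.eq_neg_one_of_sq_eq_one h2 (e ⟨a, ha⟩)
        (by rw [← map_mul, ← map_one e]; congr 1; exact Subtype.ext haa)
        (fun h' => h (congrArg Subtype.val (e.map_eq_one_iff.mp h')))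
      exact congrArg Subtype.val (e.injective (Subtype.ext (h'.trans hej.symm)))
  · refine ⟨((e.symm SL2.rot : L) : G), SetLike.coe_mem _, ?_⟩
    have : e.symm SL2.rot * e.symm SL2.rot = ⟨j, hjL⟩ := by
      apply e.injective
      rw [map_mul, e.apply_symm_apply]
      exact Subtype.ext (SL2.rot_mul_rot.trans hej.symm)
    exact congrArg Subtype.val this
  · obtain ⟨g, hg⟩ := isConj_iff.mp (SL2.isConj_of_sq hF (hsq ⟨a, ha⟩ haj) (hsq ⟨b, hb⟩ hbj))
    refine ⟨((e.symm g : L) : G), SetLike.coe_mem _, ?_⟩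
    have : e.symm g * ⟨a, ha⟩ * (e.symm g)⁻¹ = ⟨b, hb⟩ := by
      apply e.injective
      rw [map_mul, map_mul, map_inv, e.apply_symm_apply, hg]
    exact congrArg Subtype.val this

/-- Let L₁ ≅ SL₂(q₁) and L₂ ≅ SL₂(q₂), q₁ and q₂ odd, be elementwise-commuting subgroups of a finite group meeting in ⟨j⟩ for an involution j. Then L₁L₂ has exactly two conjugacy classes of involutions: the central involution j, and one further class (there is an involution x ≠ j in L₁L₂, and every involution of L₁L₂ other than j is conjugate to x by an element of L₁L₂). -/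
theorem result {G : Type*} [Group G] [Finite G]
    {F₁ : Type*} [Field F₁] [Fintype F₁] {F₂ : Type*} [Field F₂] [Fintype F₂]
    (hF₁ : Odd (Fintype.card F₁)) (hF₂ : Odd (Fintype.card F₂)) (L₁ L₂ : Subgroup G)
    (e₁ : ↥L₁ ≃* Matrix.SpecialLinearGroup (Fin 2) F₁) (e₂ : ↥L₂ ≃* Matrix.SpecialLinearGroup (Fin 2) F₂)
    (hc : ∀ x ∈ L₁, ∀ y ∈ L₂, x * y = y * x) (j : G) (hj : orderOf j = 2) (hm : L₁ ⊓ L₂ = Subgroup.zpowers j) :
    ∃ x ∈ L₁ ⊔ L₂, orderOf x = 2 ∧ x ≠ j ∧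
      ∀ y ∈ L₁ ⊔ L₂, orderOf y = 2 → y = j ∨ ∃ g ∈ L₁ ⊔ L₂, g * x * g⁻¹ = y := by
  have hj1 : j ∈ L₁ ⊓ L₂ := hm ▸ Subgroup.mem_zpowers j
  obtain ⟨u1, ⟨a0, ha0, ha0j⟩, c1⟩ := sl2_facts hF₁ L₁ e₁ hj hj1.1
  obtain ⟨u2, ⟨b0, hb0, hb0j⟩, c2⟩ := sl2_facts hF₂ L₂ e₂ hj hj1.2
  have hjj : j * j = 1 := by rw [← pow_two, ← hj]; exact pow_orderOf_eq_one j
  have hjne : j ≠ 1 := fun h => by rw [h, orderOf_one] at hj; omega
  have hz : ∀ w, w ∈ Subgroup.zpowers j → w = 1 ∨ w = j := fun w hw => by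
    obtain ⟨k, rfl⟩ := Subgroup.mem_zpowers_iff.mp hw
    rw [← zpow_mod_orderOf, hj]
    rcases Int.emod_two_eq_zero_or_one k with h | h
    · left; simp [h]
    · right; simp [h]
  have hjcomm : ∀ w ∈ L₁, j * w = w * j := fun w hw => (hc w hw j hj1.2).symm
  have hx2 : (a0 * b0) * (a0 * b0) = 1 := by
    calc (a0 * b0) * (a0 * b0) = a0 * (b0 * a0) * b0 := by group
      _ = (a0 * a0) * (b0 * b0) := by rw [← hc a0 ha0 b0 hb0]; group
      _ = 1 := by rw [ha0j, hb0j, hjj]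
  have hxj : a0 * b0 ≠ j := by
    intro h
    have hmem : a0 ∈ L₁ ⊓ L₂ := Subgroup.mem_inf.mpr ⟨ha0, by
      rw [eq_mul_inv_of_mul_eq h]; exact mul_mem hj1.2 (inv_mem hb0)⟩
    rw [hm] at hmem
    rcases hz a0 hmem with h' | h' <;> rw [h'] at ha0j
    · exact hjne (by rw [← ha0j, one_mul])
    · exact hjne (ha0j.symm.trans hjj)
  have hx1 : a0 * b0 ≠ 1 := by
    intro h
    have hmem : a0 ∈ L₁ ⊓ L₂ := Subgroup.mem_inf.mpr ⟨ha0, by
      rw [eq_inv_of_mul_eq_one_left h]; exact inv_mem hb0⟩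
    rw [hm] at hmem
    rcases hz a0 hmem with h' | h' <;> rw [h'] at ha0j
    · exact hjne (by rw [← ha0j, one_mul])
    · exact hjne (ha0j.symm.trans hjj)
  refine ⟨a0 * b0, Subgroup.mul_mem_sup ha0 hb0, orderOf_eq_prime (by rw [pow_two, hx2]) hx1, hxj,
    fun y hy hyo => ?_⟩
  have hy' : y ∈ (L₁ : Set G) * (L₂ : Set G) := by
    rw [← Subgroup.coe_mul_of_left_le_normalizer_right L₁ L₂ (fun w hw => by
      rw [Subgroup.mem_normalizer_iff]
      intro v
      constructor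
      · intro hv; rw [hc w hw v hv, mul_inv_cancel_right]; exact hv
      · intro hv
        have h := hc w hw _ hv
        have h' : v = w * v * w⁻¹ := by
          have := congrArg (fun u => w⁻¹ * u) h
          simpa [mul_assoc] using this.symm
        rwa [h'])]
    exact hy
  obtain ⟨a, ha, b, hb, rfl⟩ := Set.mem_mul.mp hy'
  have hyy : (a * b) * (a * b) = 1 := by rw [← pow_two, ← hyo]; exact pow_orderOf_eq_one _
  have hab : (a * a) * (b * b) = 1 := by
    rw [← hyy]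
    calc (a * a) * (b * b) = a * (a * b) * b := by group
      _ = a * (b * a) * b := by rw [hc a ha b hb]
      _ = (a * b) * (a * b) := by group
  have hmem : a * a ∈ L₁ ⊓ L₂ := Subgroup.mem_inf.mpr ⟨mul_mem ha ha, by
    rw [eq_inv_of_mul_eq_one_left hab]; exact inv_mem (mul_mem hb hb)⟩
  rw [hm] at hmem
  rcases hz _ hmem with h | h
  · left
    rw [h, one_mul] at hab
    rcases u1 a ha h with rfl | rfl <;> rcases u2 b hb hab with rfl | rfl
    · simp at hyo
    · simp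
    · simp
    · rw [hjj] at hyo; simp at hyo
  · right
    have hbj : b * b = j := by
      rw [h] at hab
      rw [eq_inv_of_mul_eq_one_right hab, inv_eq_of_mul_eq_one_right hjj]
    obtain ⟨g1, hg1, e1⟩ := c1 a0 ha0 a ha ha0j h
    obtain ⟨g2, hg2, e2⟩ := c2 b0 hb0 b hb hb0j hbj
    refine ⟨g1 * g2, Subgroup.mul_mem_sup hg1 hg2, ?_⟩
    have q1 : g2 * a0 * g2⁻¹ = a0 := by rw [← hc a0 ha0 g2 hg2, mul_inv_cancel_right]
    have q2 : g1 * b * g1⁻¹ = b := by rw [hc g1 hg1 b hb, mul_inv_cancel_right]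
    calc g1 * g2 * (a0 * b0) * (g1 * g2)⁻¹ = g1 * (g2 * a0 * g2⁻¹ * (g2 * b0 * g2⁻¹)) * g1⁻¹ := by group
      _ = (g1 * a0 * g1⁻¹) * (g1 * b * g1⁻¹) := by rw [q1, e2]; group
      _ = a * b := by rw [e1, q2]

end Cfsg.Agent.S3209
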