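import Cfsg.Statements.S3210
import Cfsg.Agent.InvChar68.SL2Indecomposable

set_option autoImplicit false
open Cfsg
open scoped commutatorElement Pointwise

namespace Cfsg.Agent.S3210

section

variable {G : Type*} [Group G] [Finite G]

theorem eq_one_or_of_mem_zpowers {j : G} (hj : orderOf j = 2) {w : G}
    (hw : w ∈ Subgroup.zpowers j) : w = 1 ∨ w = j := by
  obtain ⟨k, rfl⟩ := Subgroup.mem_zpowers_iff.mp hw
  rw [← zpow_mod_orderOf, hj]
  rcases Int.emod_two_eq_zero_or_one k with h | h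
  · left; simp [h]
  · right; simp [h]

/-- If `L₁ L₂ = M M'` is a second central decomposition then `M` or `M'` lies in `L₂`. -/
theorem le_or_le {F : Type*} [Field F] [Fintype F] (hF : Odd (Fintype.card F))
    (L₁ L₂ M M' : Subgroup G) (e : ↥L₁ ≃* Matrix.SpecialLinearGroup (Fin 2) F)
    (hc : ∀ x ∈ L₁, ∀ y ∈ L₂, x * y = y * x) {j : G} (hj : orderOf j = 2)
    (hm : L₁ ⊓ L₂ = Subgroup.zpowers j) (hM : M ≤ L₁ ⊔ L₂) (hM' : M' ≤ L₁ ⊔ L₂)
    (hsup : L₁ ⊔ L₂ ≤ M ⊔ M') (hMM : ∀ x ∈ M, ∀ y ∈ M', x * y = y * x) (hjM : j ∈ M) :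
    M ≤ L₂ ∨ M' ≤ L₂ := by
  have h2 := InvChar68.SL2.two_ne_zero_of_odd hF
  have hj1 : j ∈ L₁ ⊓ L₂ := hm ▸ Subgroup.mem_zpowers j
  have hjc : ∀ w ∈ L₁, Commute w j := fun w hw => hc w hw j hj1.2
  have hnorm : L₁ ≤ Subgroup.normalizer (L₂ : Set G) := by
    intro w hw
    rw [Subgroup.mem_normalizer_iff]
    intro v
    constructor
    · intro hv; rw [hc w hw v hv, mul_inv_cancel_right]; exact hv
    · intro hv
      have h := hc w hw _ hv
      have h' : v = w * v * w⁻¹ := by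
        have := congrArg (fun u => w⁻¹ * u) h
        simpa [mul_assoc] using this.symm
      rwa [h']
  have hprod : ∀ y ∈ L₁ ⊔ L₂, ∃ a ∈ L₁, ∃ b ∈ L₂, a * b = y := by
    intro y hy
    have hy' : y ∈ (L₁ : Set G) * (L₂ : Set G) := by
      rw [← Subgroup.coe_mul_of_left_le_normalizer_right L₁ L₂ hnorm]; exact hy
    exact Set.mem_mul.mp hy'
  -- the projections of `M` and `M'` to `L₁`
  let A : Subgroup L₁ := (M ⊔ L₂).subgroupOf L₁
  let B : Subgroup L₁ := (M' ⊔ L₂).subgroupOf L₁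
  have hproj : ∀ (P : Subgroup G), P ≤ L₁ ⊔ L₂ → ∀ a ∈ L₁, a ∈ P ⊔ L₂ → ∃ b ∈ L₂, a * b ∈ P := by
    intro P hP a _ haP
    have hPn : P ≤ Subgroup.normalizer (L₂ : Set G) :=
      hP.trans (sup_le hnorm Subgroup.le_normalizer)
    have h' : a ∈ (P : Set G) * (L₂ : Set G) := by
      rw [← Subgroup.coe_mul_of_left_le_normalizer_right P L₂ hPn]; exact haP
    obtain ⟨m, hm', b, hb, rfl⟩ := Set.mem_mul.mp h'
    exact ⟨b⁻¹, inv_mem hb, by simpa [mul_assoc] using hm'⟩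
  have hz : ∀ w : L₁, (w : G) ∈ Subgroup.zpowers j →
      e w ∈ Subgroup.center (Matrix.SpecialLinearGroup (Fin 2) F) := by
    intro w hw
    rw [Subgroup.mem_center_iff]
    intro g
    obtain ⟨v, rfl⟩ := e.surjective g
    rw [← map_mul, ← map_mul]
    congr 1
    apply Subtype.ext
    rcases eq_one_or_of_mem_zpowers hj hw with h | h
    · simp [h]
    · show (v : G) * w = w * v
      rw [h]; exact (hjc v v.2).eq
  have hcomm : ∀ a ∈ A, ∀ b ∈ B, ⁅e a, e b⁆ ∈ Subgroup.center (Matrix.SpecialLinearGroup (Fin 2) F) := by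
    intro a ha b hb
    rw [← map_commutatorElement]
    apply hz
    obtain ⟨x, hx, hax⟩ := hproj M hM a a.2 ha
    obtain ⟨y, hy, hby⟩ := hproj M' hM' b b.2 hb
    rw [← hm]
    refine Subgroup.mem_inf.mpr ⟨SetLike.coe_mem _, ?_⟩
    have hcom : Commute ((a : G) * x) (b * y) := hMM _ hax _ hby
    have ha' : ∀ w ∈ L₂, Commute (a : G) w := fun w hw => hc a a.2 w hw
    have hb' : ∀ w ∈ L₂, Commute (b : G) w := fun w hw => hc b b.2 w hw
    have h1 : ((⁅a, b⁆ : L₁) : G) * ⁅x, y⁆ = ⁅(a : G) * x, (b : G) * y⁆ := by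
      rw [show ((⁅a, b⁆ : L₁) : G) = (a : G) * b * (a : G)⁻¹ * (b : G)⁻¹ from rfl,
        commutatorElement_def, commutatorElement_def]
      calc (a : G) * b * (a : G)⁻¹ * (b : G)⁻¹ * (x * y * x⁻¹ * y⁻¹)
          = (a : G) * b * (a : G)⁻¹ * ((b : G)⁻¹ * (x * y * x⁻¹)) * y⁻¹ := by group
        _ = (a : G) * b * ((a : G)⁻¹ * (x * y * x⁻¹)) * (b : G)⁻¹ * y⁻¹ := by
            rw [((hb' _ (mul_mem (mul_mem hx hy) (inv_mem hx))).inv_left).eq]; group
        _ = (a : G) * (b * (x * y * x⁻¹)) * (a : G)⁻¹ * (b : G)⁻¹ * y⁻¹ := by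
            rw [((ha' _ (mul_mem (mul_mem hx hy) (inv_mem hx))).inv_left).eq]; group
        _ = (a : G) * (x * ((b : G) * y)) * (x⁻¹ * (a : G)⁻¹) * ((b : G)⁻¹ * y⁻¹) := by
            rw [show (b : G) * (x * y * x⁻¹) = (b * x) * y * x⁻¹ by group, (hb' x hx).eq]; group
        _ = (a : G) * x * ((b : G) * y) * ((a : G) * x)⁻¹ * ((b : G) * y)⁻¹ := by
            rw [mul_inv_rev (b : G) y, ((hb' y hy).inv_inv).eq]; group
    rw [commutatorElement_eq_one_iff_commute.mpr hcom] at h1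
    rw [eq_inv_of_mul_eq_one_left h1]
    exact inv_mem (by rw [commutatorElement_def]; exact mul_mem (mul_mem (mul_mem hx hy) (inv_mem hx)) (inv_mem hy))
  have hjA : ∀ w : L₁, (w : G) ∈ Subgroup.zpowers j → w ∈ A := by
    intro w hw
    show (w : G) ∈ M ⊔ L₂
    rcases eq_one_or_of_mem_zpowers hj hw with h | h <;> rw [h]
    · exact one_mem _
    · exact Subgroup.mem_sup_left hjM
  have htop : A ⊔ B = ⊤ := by
    rw [eq_top_iff]
    intro a _
    have hmem : (a : G) ∈ M ⊔ M' := hsup (Subgroup.mem_sup_left a.2)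
    have hnM : M ≤ Subgroup.normalizer (M' : Set G) := by
      intro w hw
      rw [Subgroup.mem_normalizer_iff]
      intro v
      constructor
      · intro hv; rw [hMM w hw v hv, mul_inv_cancel_right]; exact hv
      · intro hv
        have h := hMM w hw _ hv
        have h' : v = w * v * w⁻¹ := by
          have := congrArg (fun u => w⁻¹ * u) h
          simpa [mul_assoc] using this.symm
        rwa [h']
    have hmem' : (a : G) ∈ (M : Set G) * (M' : Set G) := by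
      rw [← Subgroup.coe_mul_of_left_le_normalizer_right M M' hnM]; exact hmem
    obtain ⟨m, hmM, m', hmM', he⟩ := Set.mem_mul.mp hmem'
    obtain ⟨a₁, ha₁, b₁, hb₁, rfl⟩ := hprod m (hM hmM)
    obtain ⟨a₂, ha₂, b₂, hb₂, rfl⟩ := hprod m' (hM' hmM')
    have hA : (⟨a₁, ha₁⟩ : L₁) ∈ A := by
      show a₁ ∈ M ⊔ L₂
      have := mul_mem (Subgroup.mem_sup_left (T := L₂) hmM) (Subgroup.mem_sup_right (S := M) (inv_mem hb₁))
      simpa using this
    have hB : (⟨a₂, ha₂⟩ : L₁) ∈ B := by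
      show a₂ ∈ M' ⊔ L₂
      have := mul_mem (Subgroup.mem_sup_left (T := L₂) hmM') (Subgroup.mem_sup_right (S := M') (inv_mem hb₂))
      simpa using this
    set w : L₁ := (⟨a₁, ha₁⟩ * ⟨a₂, ha₂⟩)⁻¹ * a
    have hw : (w : G) ∈ Subgroup.zpowers j := by
      rw [← hm]
      refine Subgroup.mem_inf.mpr ⟨w.2, ?_⟩
      have : (w : G) = b₁ * b₂ := by
        show (a₁ * a₂)⁻¹ * (a : G) = b₁ * b₂
        rw [← he]
        calc (a₁ * a₂)⁻¹ * (a₁ * b₁ * (a₂ * b₂)) = a₂⁻¹ * (b₁ * a₂) * b₂ := by group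
          _ = b₁ * b₂ := by rw [← hc a₂ ha₂ b₁ hb₁]; group
      rw [this]; exact mul_mem hb₁ hb₂
    have hwm : w ∈ A ⊔ B := Subgroup.mem_sup_left (hjA w hw)
    have h3 := mul_mem (Subgroup.mul_mem_sup hA hB) hwm
    simpa [w] using h3
  have hcenter : ∀ a : L₁, e a ∈ Subgroup.center (Matrix.SpecialLinearGroup (Fin 2) F) →
      (a : G) ∈ L₂ := by
    intro a ha
    have hsq : a * a = 1 := by
      apply e.injective
      obtain ⟨r, hr, hrc⟩ := Matrix.SpecialLinearGroup.mem_center_iff.mp ha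
      apply Subtype.ext
      rw [map_mul, map_one, Matrix.SpecialLinearGroup.coe_mul, ← hrc]
      simp [Fintype.card_fin] at hr
      rcases hr with rfl | rfl <;> simp [Matrix.scalar_apply, Matrix.diagonal_mul_diagonal]
    by_cases h1 : a = 1
    · rw [h1]; exact one_mem _
    · have hej : (e ⟨j, hj1.1⟩).1 = -1 := by
        refine LinearGroup.eq_neg_one_of_sq_eq_one h2 _ (by
          rw [← map_mul, ← map_one e]; congr 1; apply Subtype.ext
          show j * j = 1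
          rw [← pow_two, ← hj]; exact pow_orderOf_eq_one j) fun h => ?_
        have : j = 1 := congrArg Subtype.val (e.map_eq_one_iff.mp h)
        rw [this, orderOf_one] at hj
        omega
      have hea : (e a).1 = -1 := LinearGroup.eq_neg_one_of_sq_eq_one h2 _
        (by rw [← map_mul, hsq, map_one]) (fun h => h1 (e.map_eq_one_iff.mp h))
      rw [e.injective (Subtype.ext (hea.trans hej.symm))]
      exact hj1.2
  have key := InvChar68.SL2.le_center_or h2 (A.map e.toMonoidHom) (B.map e.toMonoidHom)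
    (by rw [← Subgroup.map_sup, htop, Subgroup.map_top_of_surjective _ e.surjective]) (by
      rintro _ ⟨a, ha, rfl⟩ _ ⟨b, hb, rfl⟩
      exact hcomm a ha b hb)
  have fin : ∀ P : Subgroup G, P ≤ L₁ ⊔ L₂ →
      ((P ⊔ L₂).subgroupOf L₁).map e.toMonoidHom ≤ Subgroup.center _ → P ≤ L₂ := by
    intro P hP h m hmP
    obtain ⟨a, ha, b, hb, rfl⟩ := hprod m (hP hmP)
    have haA : (⟨a, ha⟩ : L₁) ∈ (P ⊔ L₂).subgroupOf L₁ := by
      show a ∈ P ⊔ L₂
      have := mul_mem (Subgroup.mem_sup_left (T := L₂) hmP) (Subgroup.mem_sup_right (S := P) (inv_mem hb))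
      simpa using this
    exact mul_mem (hcenter ⟨a, ha⟩ (h (Subgroup.mem_map_of_mem _ haA))) hb
  rcases key with h | h
  · exact Or.inl (fin M hM h)
  · exact Or.inr (fin M' hM' h)

theorem not_card_le_two (L : Subgroup G) {F : Type*} [Field F] [Fintype F]
    (e : ↥L ≃* Matrix.SpecialLinearGroup (Fin 2) F) : ¬ Nat.card L ≤ 2 := by
  intro h
  rw [Nat.card_congr e.toEquiv, LinearGroup.card_SL_two] at h
  have h1 : 1 < Nat.card F := LinearGroup.one_lt_natCard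
  have h2 := Nat.pow_le_pow_left (show 2 ≤ Nat.card F by omega) 2
  have h3 := Nat.mul_le_mul (show 2 ≤ Nat.card F by omega) (show 3 ≤ Nat.card F ^ 2 - 1 by omega)
  omega

theorem card_inj {F₁ : Type*} [Field F₁] [Fintype F₁] {F₂ : Type*} [Field F₂] [Fintype F₂]
    (h : Nat.card (Matrix.SpecialLinearGroup (Fin 2) F₁) =
      Nat.card (Matrix.SpecialLinearGroup (Fin 2) F₂)) : Fintype.card F₁ = Fintype.card F₂ := by
  rw [LinearGroup.card_SL_two, LinearGroup.card_SL_two, Nat.card_eq_fintype_card,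
    Nat.card_eq_fintype_card] at h
  have h1 : 1 < Fintype.card F₁ := Fintype.one_lt_card
  have h2 : 1 < Fintype.card F₂ := Fintype.one_lt_card
  rcases lt_trichotomy (Fintype.card F₁) (Fintype.card F₂) with hl | hl | hl
  · have : Fintype.card F₁ ^ 2 - 1 ≤ Fintype.card F₂ ^ 2 - 1 :=
      Nat.sub_le_sub_right (Nat.pow_le_pow_left hl.le 2) 1
    have h3 : 0 < Fintype.card F₂ ^ 2 - 1 := by
      have := Nat.pow_le_pow_left (show 2 ≤ Fintype.card F₂ by omega) 2
      omega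
    have h4 := Nat.mul_le_mul_left (Fintype.card F₁) this
    have h5 := Nat.mul_lt_mul_of_pos_right hl h3
    omega
  · exact hl
  · have : Fintype.card F₂ ^ 2 - 1 ≤ Fintype.card F₁ ^ 2 - 1 :=
      Nat.sub_le_sub_right (Nat.pow_le_pow_left hl.le 2) 1
    have h3 : 0 < Fintype.card F₁ ^ 2 - 1 := by
      have := Nat.pow_le_pow_left (show 2 ≤ Fintype.card F₁ by omega) 2
      omega
    have h4 := Nat.mul_le_mul_left (Fintype.card F₂) this
    have h5 := Nat.mul_lt_mul_of_pos_right hl h3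
    omega

end

/-- Let G be a finite group with subgroups L₁ ≅ SL₂(q₁) and L₂ ≅ SL₂(q₂), q₁ and q₂ odd prime powers, which commute elementwise and meet in ⟨j⟩ for an involution j, and suppose L₁L₂ has index 2 in C_G(j). Then every element n of C_G(j) outside L₁L₂ either normalizes both L₁ and L₂, or conjugates L₁ onto L₂; in the second case q₁ = q₂ and there is an element n′ of C_G(j) outside L₁L₂ conjugating L₁ onto L₂ with n′² ∈ ⟨j⟩. -/
theorem result {G : Type*} [Group G] [Finite G]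
    {F₁ : Type*} [Field F₁] [Fintype F₁] {F₂ : Type*} [Field F₂] [Fintype F₂]
    (hF₁ : Odd (Fintype.card F₁)) (hF₂ : Odd (Fintype.card F₂)) (L₁ L₂ : Subgroup G)
    (e₁ : ↥L₁ ≃* Matrix.SpecialLinearGroup (Fin 2) F₁) (e₂ : ↥L₂ ≃* Matrix.SpecialLinearGroup (Fin 2) F₂)
    (hc : ∀ x ∈ L₁, ∀ y ∈ L₂, x * y = y * x) (j : G) (hj : orderOf j = 2) (hm : L₁ ⊓ L₂ = Subgroup.zpowers j)
    (hle : L₁ ⊔ L₂ ≤ Subgroup.centralizer ({j} : Set G)) (hi : (L₁ ⊔ L₂).relIndex (Subgroup.centralizer ({j} : Set G)) = 2) (n : G) (hn : n ∈ Subgroup.centralizer ({j} : Set G)) (hn' : n ∉ L₁ ⊔ L₂) :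
    (L₁.map (MulAut.conj n).toMonoidHom = L₁ ∧ L₂.map (MulAut.conj n).toMonoidHom = L₂) ∨
      (L₁.map (MulAut.conj n).toMonoidHom = L₂ ∧ Fintype.card F₁ = Fintype.card F₂ ∧
        ∃ n' ∈ Subgroup.centralizer ({j} : Set G), n' ∉ L₁ ⊔ L₂ ∧ L₁.map (MulAut.conj n').toMonoidHom = L₂ ∧ n' ^ 2 ∈ Subgroup.zpowers j) := by
  set C := Subgroup.centralizer ({j} : Set G)
  set f := (MulAut.conj n).toMonoidHom
  have hf : Function.Injective f := (MulAut.conj n).injective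
  have hKn : ((L₁ ⊔ L₂).subgroupOf C).Normal := Subgroup.normal_of_index_eq_two hi
  have hconj : ∀ g ∈ C, (L₁ ⊔ L₂).map (MulAut.conj g).toMonoidHom ≤ L₁ ⊔ L₂ := by
    rintro g hg _ ⟨w, hw, rfl⟩
    exact hKn.conj_mem ⟨w, hle hw⟩ hw ⟨g, hg⟩
  have hK : L₁.map f ⊔ L₂.map f = L₁ ⊔ L₂ := by
    rw [← Subgroup.map_sup]
    exact Subgroup.eq_of_le_of_card_ge (hconj n hn) (by rw [Subgroup.card_map_of_injective hf])
  have hM1 : L₁.map f ≤ L₁ ⊔ L₂ := hK ▸ le_sup_left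
  have hM2 : L₂.map f ≤ L₁ ⊔ L₂ := hK ▸ le_sup_right
  have hj1 : j ∈ L₁ ⊓ L₂ := hm ▸ Subgroup.mem_zpowers j
  have hfj : f j = j := by
    show n * j * n⁻¹ = j
    rw [mul_inv_eq_iff_eq_mul]
    exact Subgroup.mem_centralizer_singleton_iff.mp hn
  have hMM : ∀ x ∈ L₁.map f, ∀ y ∈ L₂.map f, x * y = y * x := by
    rintro _ ⟨x, hx, rfl⟩ _ ⟨y, hy, rfl⟩
    rw [← map_mul, hc x hx y hy, map_mul]
  have hjM1 : j ∈ L₁.map f := ⟨j, hj1.1, hfj⟩
  have r1 := le_or_le hF₁ L₁ L₂ (L₁.map f) (L₂.map f) e₁ hc hj hm hM1 hM2 hK.ge hMM hjM1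
  have r2 := le_or_le hF₂ L₂ L₁ (L₁.map f) (L₂.map f) e₂ (fun x hx y hy => (hc y hy x hx).symm) hj
    (by rw [inf_comm, hm]) (by rw [sup_comm]; exact hM1) (by rw [sup_comm]; exact hM2)
    (by rw [sup_comm]; exact hK.ge) hMM hjM1
  have c1 : Nat.card (L₁.map f) = Nat.card L₁ := Subgroup.card_map_of_injective hf
  have c2 : Nat.card (L₂.map f) = Nat.card L₂ := Subgroup.card_map_of_injective hf
  have hbig1 : ¬ Nat.card L₁ ≤ 2 := not_card_le_two L₁ e₁
  have hbig2 : ¬ Nat.card L₂ ≤ 2 := not_card_le_two L₂ e₂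
  have hnotboth : ∀ M : Subgroup G, M ≤ L₂ → M ≤ L₁ → Nat.card M ≤ 2 := by
    intro M h1 h2
    have h := Subgroup.card_le_of_le (hm ▸ le_inf h2 h1 : M ≤ Subgroup.zpowers j)
    rwa [Nat.card_zpowers, hj] at h
  rcases r1 with h1 | h1 <;> rcases r2 with h2 | h2
  · exact absurd (c1 ▸ hnotboth _ h1 h2) hbig1
  · right
    have hcard : Nat.card L₁ = Nat.card L₂ :=
      le_antisymm (c1 ▸ Subgroup.card_le_of_le h1) (c2 ▸ Subgroup.card_le_of_le h2)
    have he1 : L₁.map f = L₂ := Subgroup.eq_of_le_of_card_ge h1 (by omega)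
    have he2 : L₂.map f = L₁ := Subgroup.eq_of_le_of_card_ge h2 (by omega)
    refine ⟨he1, card_inj ?_, ?_⟩
    · rw [← Nat.card_congr e₁.toEquiv, ← Nat.card_congr e₂.toEquiv, hcard]
    have hsq : (⟨n, hn⟩ : C) ^ 2 ∈ (L₁ ⊔ L₂).subgroupOf C := Subgroup.sq_mem_of_index_two hi _
    have hsq' : n ^ 2 ∈ (L₁ : Set G) * (L₂ : Set G) := by
      rw [← Subgroup.coe_mul_of_left_le_normalizer_right L₁ L₂ (fun w hw => by
        rw [Subgroup.mem_normalizer_iff]
        intro v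
        constructor
        · intro hv; rw [hc w hw v hv, mul_inv_cancel_right]; exact hv
        · intro hv
          have h := hc w hw _ hv
          have h' : v = w * v * w⁻¹ := by
            have := congrArg (fun u => w⁻¹ * u) h
            simpa [mul_assoc] using this.symm
          rwa [h'])]
      exact hsq
    obtain ⟨a, ha, b, hb, hab⟩ := Set.mem_mul.mp hsq'
    have haC : a ∈ C := hle (Subgroup.mem_sup_left ha)
    have hn2 : n * a⁻¹ ∈ C := mul_mem hn (inv_mem haC)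
    have hn2' : n * a⁻¹ ∉ L₁ ⊔ L₂ := fun h => hn' (by
      simpa using mul_mem h (Subgroup.mem_sup_left ha))
    have hmap : L₁.map (MulAut.conj (n * a⁻¹)).toMonoidHom = L₂ := by
      refine Subgroup.eq_of_le_of_card_ge ?_ (by
        rw [Subgroup.card_map_of_injective (MulAut.conj (n * a⁻¹)).injective, hcard])
      rintro _ ⟨w, hw, rfl⟩
      rw [← he1]
      exact ⟨a⁻¹ * w * a, mul_mem (mul_mem (inv_mem ha) hw) ha, by simp [f, mul_assoc]⟩
    refine ⟨n * a⁻¹, hn2, hn2', hmap, ?_⟩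
    obtain ⟨v, hv, hva⟩ : a⁻¹ ∈ L₂.map f := he2.symm ▸ inv_mem ha
    have hv' : n⁻¹ * a⁻¹ * n = v := by rw [← hva]; simp [f, mul_assoc]
    have hin2 : (n * a⁻¹) ^ 2 ∈ L₂ := by
      have : (n * a⁻¹) ^ 2 = b * v := by
        calc (n * a⁻¹) ^ 2 = n ^ 2 * (n⁻¹ * a⁻¹ * n) * a⁻¹ := by rw [pow_two, pow_two]; group
          _ = a * (b * v) * a⁻¹ := by rw [hv', ← hab]; group
          _ = b * v := by rw [hc a ha _ (mul_mem hb hv), mul_inv_cancel_right]
      rw [this]; exact mul_mem hb hv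
    have hin1 : (n * a⁻¹) ^ 2 ∈ L₁ := by
      rw [← hmap] at hin2
      obtain ⟨w, hw, hwe⟩ := hin2
      have : w = (n * a⁻¹) ^ 2 := by
        have h := congrArg (fun u => (n * a⁻¹)⁻¹ * u * (n * a⁻¹)) hwe
        simp only [MulEquiv.coe_toMonoidHom, MulAut.conj_apply] at h
        calc w = (n * a⁻¹)⁻¹ * (n * a⁻¹ * w * (n * a⁻¹)⁻¹) * (n * a⁻¹) := by group
          _ = (n * a⁻¹)⁻¹ * (n * a⁻¹) ^ 2 * (n * a⁻¹) := h
          _ = (n * a⁻¹) ^ 2 := by rw [pow_two]; group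
      exact this ▸ hw
    exact hm ▸ Subgroup.mem_inf.mpr ⟨hin1, hin2⟩
  · left
    exact ⟨Subgroup.eq_of_le_of_card_ge h2 (by omega), Subgroup.eq_of_le_of_card_ge h1 (by omega)⟩
  · exact absurd (c2 ▸ hnotboth _ h1 h2) hbig2

end Cfsg.Agent.S3210
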