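import Cfsg.Statements.S3221
import Cfsg.Agent.PSp43Rec57.Graph
import Cfsg.Agent.Lib.Symplectic.Perfect

set_option autoImplicit false
open Cfsg

namespace Cfsg.Agent.S3221

/-- Let F be the field with 3 elements and t₀ an involution of PSp₄(3) = PSp₄(F) lying in the centre of a Sylow 2-subgroup. If G is a finite group of even order that has no subgroup of index 2 and contains an involution t whose centralizer C_G(t) is isomorphic to C_{PSp₄(3)}(t₀), then G ≅ PSp₄(3). -/
theorem result {G : Type*} [Group G] [Finite G] (hev : Even (Nat.card G))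
    (hG : ∀ H : Subgroup G, H.index ≠ 2) {F : Type*} [Field F] [Fintype F] (hF : Fintype.card F = 3)
    (U : Sylow 2 (Cfsg.PSp 2 F)) (t₀ : Cfsg.PSp 2 F) (ht₀ : orderOf t₀ = 2) (ht₀U : t₀ ∈ (U : Subgroup (Cfsg.PSp 2 F)))
    (ht₀c : ∀ u ∈ (U : Subgroup (Cfsg.PSp 2 F)), u * t₀ = t₀ * u) (t : G) (ht : orderOf t = 2)
    (e : ↥(Subgroup.centralizer ({t} : Set G)) ≃* ↥(Subgroup.centralizer ({t₀} : Set (Cfsg.PSp 2 F)))) :
    Nonempty (G ≃* Cfsg.PSp 2 F) := by
  obtain ⟨ψ, hmul, hinj, h12, hrange⟩ :=
    PSp43Rec57.exists_coord hF U t₀ ht₀ ht₀U ht₀c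
  have hsimple : IsSimpleGroup (Cfsg.PSp 2 F) := Symplectic.isSimpleGroup_PSp le_rfl
    (Symplectic.commutator_eq_top (Or.inr (Or.inl ⟨rfl, by omega⟩)))
  have : Finite (Cfsg.PSp 2 F) := Quotient.finite _
  have hcardP : 2 < Nat.card (Cfsg.PSp 2 F) := by
    by_contra hle
    have h1 : Nat.card ↥(Subgroup.centralizer ({t₀} : Set (Cfsg.PSp 2 F))) ≤ 2 :=
      (Subgroup.card_le_card_group _).trans (by omega)
    let f : Fin 3 → ↥(Subgroup.centralizer ({t₀} : Set (Cfsg.PSp 2 F))) := fun x =>
      ⟨ψ x, Subgroup.mem_centralizer_singleton_iff.mpr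
        ((hrange _).mpr ⟨x, by omega, rfl⟩)⟩
    have h3 : Nat.card (Fin 3) ≤ _ := Nat.card_le_card_of_injective f fun a b h =>
      Fin.ext (hinj a (by omega) b (by omega) (congrArg Subtype.val h))
    rw [Nat.card_fin] at h3
    omega
  let T : PSp43Rec57.Setup (Cfsg.PSp 2 F) :=
    { φ := ψ, map_mul := hmul, inj := hinj
      range := fun g => by rw [h12]; exact hrange g
      noTwo := fun K hK => by
        have := Subgroup.normal_of_index_eq_two hK
        rcases hsimple.eq_bot_or_eq_top_of_normal K this with e | e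
        · rw [e, Subgroup.index_bot] at hK; omega
        · rw [e, Subgroup.index_top] at hK; omega }
  have hmem : ∀ x < 576, ψ x ∈ Subgroup.centralizer ({t₀} : Set (Cfsg.PSp 2 F)) := fun x hx =>
    Subgroup.mem_centralizer_singleton_iff.mpr ((hrange _).mpr ⟨x, hx, rfl⟩)
  let φ : ℕ → G := fun x => if h : x < 576 then (e.symm ⟨ψ x, hmem x h⟩ : G) else 1
  have hφ : ∀ x (h : x < 576), φ x = (e.symm ⟨ψ x, hmem x h⟩ : G) := fun x h => dif_pos h
  -- the given involution has code `12`
  have h12t : φ 12 = t := by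
    let s : ↥(Subgroup.centralizer ({t} : Set G)) :=
      ⟨t, Subgroup.mem_centralizer_singleton_iff.mpr rfl⟩
    obtain ⟨z, hz, hze⟩ := (hrange _).mp (Subgroup.mem_centralizer_singleton_iff.mp (e s).2)
    have hcen : ∀ y < 576, PSp43Rec57.cm z y = true := by
      intro y hy
      refine (T.φ_comm hz hy).mp ?_
      show ψ z * ψ y = ψ y * ψ z
      have hs : ∀ w, s * w = w * s := fun w =>
        Subtype.ext (Subgroup.mem_centralizer_singleton_iff.mp w.2).symm
      have := congrArg (fun w => ((e w : ↥(Subgroup.centralizer ({t₀} : Set (Cfsg.PSp 2 F)))) :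
        Cfsg.PSp 2 F)) (hs (e.symm ⟨ψ y, hmem y hy⟩))
      simpa [hze] using this
    have hz12 : z = 12 := by
      have := List.all_eq_true.mp PSp43Rec57.cent_sl z (List.mem_range.mpr hz)
      simp only [Bool.or_eq_true, beq_iff_eq, List.any_eq_true, Bool.not_eq_true'] at this
      rcases this with (h | h) | ⟨y, hy, hc⟩
      · exfalso
        subst h
        have h1 : e s = 1 := Subtype.ext (hze.symm.trans T.φ_zero)
        have h2 : t = 1 := congrArg Subtype.val ((map_eq_one_iff e e.injective).mp h1)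
        rw [h2, orderOf_one] at ht
        omega
      · exact h
      · rw [hcen y (PSp43Rec57.sl_lt y hy)] at hc
        exact Bool.noConfusion hc
    subst hz12
    rw [hφ 12 hz]
    have : (⟨ψ 12, hmem 12 hz⟩ : ↥(Subgroup.centralizer ({t₀} : Set (Cfsg.PSp 2 F)))) = e s :=
      Subtype.ext hze
    rw [this, e.symm_apply_apply]
  let S : PSp43Rec57.Setup G :=
    { φ := φ
      map_mul := fun x hx y hy => by
        rw [hφ x hx, hφ y hy, hφ _ (PSp43Rec57.mul_lt x y), ← Subgroup.coe_mul, ← map_mul]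
        exact congrArg (fun w => (e.symm w : G)) (Subtype.ext (hmul x hx y hy))
      inj := fun x hx y hy h => by
        rw [hφ x hx, hφ y hy] at h
        exact hinj x hx y hy (congrArg Subtype.val (e.symm.injective (Subtype.ext h)))
      range := fun g => by
        rw [h12t]
        constructor
        · intro h
          let g' : ↥(Subgroup.centralizer ({t} : Set G)) :=
            ⟨g, Subgroup.mem_centralizer_singleton_iff.mpr h⟩
          obtain ⟨x, hx, hxe⟩ := (hrange _).mp (Subgroup.mem_centralizer_singleton_iff.mp (e g').2)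
          refine ⟨x, hx, ?_⟩
          rw [hφ x hx, show (⟨ψ x, hmem x hx⟩ :
            ↥(Subgroup.centralizer ({t₀} : Set (Cfsg.PSp 2 F)))) = e g' from Subtype.ext hxe,
            e.symm_apply_apply]
        · rintro ⟨x, hx, rfl⟩
          rw [hφ x hx]
          exact Subgroup.mem_centralizer_singleton_iff.mp (e.symm ⟨ψ x, hmem x hx⟩).2
      noTwo := hG }
  exact T.iso S

end Cfsg.Agent.S3221
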