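import Cfsg.Statements.S3252
import Cfsg.Agent.CycZProd.Final
import Cfsg.Agent.S0732

set_option autoImplicit false
open Cfsg

namespace Cfsg.Agent.S3252

/-- Let G be a finite non-solvable group that is the product G = AB of a cyclic subgroup A and a subgroup B all of whose Sylow subgroups are cyclic. Then the quotient of G by its largest solvable normal subgroup is isomorphic to PGL₂(p) for some prime p > 3. -/
theorem result {G : Type*} [Group G] [Finite G] (hG : ¬ Group.IsSolvable G)
    (A B : Subgroup G) (hA : IsCyclic A) (hB : ∀ (q : ℕ) [Fact q.Prime] (Q : Sylow q ↥B), IsCyclic ↥(Q : Subgroup ↥B))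
    (hAB : ∀ g : G, ∃ a ∈ A, ∃ b ∈ B, g = a * b)
    (R : Subgroup G) [hR : R.Normal] (hRs : Group.IsSolvable ↥R) (hRmax : ∀ N : Subgroup G, N.Normal → Group.IsSolvable ↥N → N ≤ R) :
    ∃ (F : Type) (_ : Field F) (_ : Fintype F) (p : ℕ), p.Prime ∧ 3 < p ∧ Fintype.card F = p ∧
      Nonempty ((G ⧸ R) ≃* (GL (Fin 2) F ⧸ Subgroup.center (GL (Fin 2) F))) := by
  classical
  haveI := hA
  haveI hZ : IsZGroup B := ⟨fun q hq Q => by haveI := Fact.mk hq; exact hB q Q⟩
  let π := QuotientGroup.mk' R
  have hns : ¬ Group.IsSolvable (G ⧸ R) := fun h => by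
    haveI := h
    haveI := hRs
    exact hG (Group.isSolvable_of_ker_le_range R.subtype π
      (by rw [QuotientGroup.ker_mk', Subgroup.range_subtype]))
  have hrad : CycZProd.RadTrivial (G ⧸ R) := by
    intro N hN hNs
    haveI := hN
    haveI := hNs
    haveI := hRs
    set K := N.comap π with hK
    have hle : R ≤ K := by
      intro x hx
      rw [hK, Subgroup.mem_comap, show π x = 1 from (QuotientGroup.eq_one_iff x).mpr hx]
      exact one_mem N
    have hKs : Group.IsSolvable K :=
      Group.isSolvable_of_ker_le_range (Subgroup.inclusion hle)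
        (MonoidHom.codRestrict (π.comp K.subtype) N fun x => x.2) (fun x hx =>
          ⟨⟨x, (QuotientGroup.eq_one_iff _).mp (congrArg Subtype.val (MonoidHom.mem_ker.mp hx))⟩,
            Subtype.ext rfl⟩)
    rw [eq_bot_iff]
    intro x hx
    obtain ⟨g, rfl⟩ := QuotientGroup.mk'_surjective R x
    exact Subgroup.mem_bot.mpr ((QuotientGroup.eq_one_iff g).mpr
      (hRmax K inferInstance hKs hx))
  obtain ⟨p, hp, hp3, -, hBc, hidx, hcore, h2, -⟩ :=
    CycZProd.good_all _ (G ⧸ R) rfl hns hrad (A.map π) (B.map π)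
      (isCyclic_of_surjective _ (π.subgroupMap_surjective A))
      (IsZGroup.of_surjective (π.subgroupMap_surjective B)) (fun q => by
        obtain ⟨g, rfl⟩ := QuotientGroup.mk'_surjective R q
        obtain ⟨a, ha, b, hb, rfl⟩ := hAB g
        exact ⟨π a, Subgroup.mem_map_of_mem _ ha, π b, Subgroup.mem_map_of_mem _ hb,
          map_mul π a b⟩)
  set Bb := B.map π with hBb
  haveI := CycZProd.faithful_of_core hcore
  haveI := Fintype.ofFinite ((G ⧸ R) ⧸ Bb)
  haveI : Fact p.Prime := ⟨hp⟩
  let e : (G ⧸ R) →* Equiv.Perm ((G ⧸ R) ⧸ Bb) := MulAction.toPermHom _ _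
  have he : Function.Injective e := MulAction.toPerm_injective
  haveI : MulAction.IsPretransitive e.range ((G ⧸ R) ⧸ Bb) := ⟨fun a b => by
    obtain ⟨g, hg⟩ := MulAction.exists_smul_eq (G ⧸ R) a b
    exact ⟨⟨e g, g, rfl⟩, hg⟩⟩
  have hα : Fintype.card ((G ⧸ R) ⧸ Bb) = p + 1 := by
    rw [← Nat.card_eq_fintype_card]
    exact hidx
  have hcard : Nat.card e.range = (p + 1) * p * (p - 1) := by
    rw [← Nat.card_congr (MonoidHom.ofInjective he).toEquiv, ← Subgroup.index_mul_card Bb, hidx,
      hBc, mul_assoc]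
  rcases S0732.result hp hα e.range hcard (by omega) with ⟨-, ⟨iso⟩⟩ | ⟨h, -⟩ | ⟨q, hq, hpq, hd, -⟩
  · exact ⟨ZMod p, inferInstance, inferInstance, p, hp, hp3, ZMod.card p,
      ⟨(MonoidHom.ofInjective he).trans iso⟩⟩
  · omega
  · exfalso
    rcases hd with hd | hd
    · omega
    · have hq2 : q + 2 = 2 ^ q := by omega
      rcases Nat.lt_or_ge q 3 with h | h
      · interval_cases q <;> omega
      · have : q + 2 < 2 ^ q := by
          clear * - h
          induction q, h using Nat.le_induction with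
          | base => norm_num
          | succ m _ ih => rw [pow_succ]; omega
        omega

end Cfsg.Agent.S3252
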