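import Cfsg.Statements.S3265
import Mathlib
import Cfsg.Agent.Fus2.OddProdSn

set_option autoImplicit false
open Cfsg

namespace Cfsg.Agent.S3265

open Cfsg.Agent.OddProdSn Equiv Finset
open scoped Classical

noncomputable section

variable {n : ℕ}

lemma invol_of_order {x : Perm (Fin n)} (h : orderOf x = 2) : Function.Involutive x := fun u => by
  have := pow_orderOf_eq_one x
  rw [h, pow_two] at this
  exact congrArg (fun f : Perm (Fin n) => f u) this

lemma order_of_conj {t x : Perm (Fin n)} (h : IsConj t x) : orderOf x = orderOf t := by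
  obtain ⟨g, rfl⟩ := isConj_iff.1 h
  exact (MulAut.conj g).orderOf_eq t

lemma card_fix (x : Perm (Fin n)) [DecidablePred fun u : Fin n => x u = u] :
    (Finset.univ.filter fun u => x u = u).card = n - x.support.card := by
  have : (Finset.univ.filter fun u => x u = u) = x.supportᶜ := by
    ext u; simp
  rw [this, card_compl, Fintype.card_fin]

lemma odd_order (f : Perm (Fin n)) (h : ∀ v, OP (⇑f) v) : Odd (orderOf f) := by
  choose N hN he using h
  have h1 : Odd (∏ v, N v) := by
    rw [Nat.odd_iff, Finset.prod_nat_mod, Finset.prod_congr rfl fun v _ => Nat.odd_iff.1 (hN v)]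
    simp
  refine h1.of_dvd_nat (orderOf_dvd_of_pow_eq_one (Equiv.ext fun v => ?_))
  obtain ⟨c, hc⟩ := Finset.dvd_prod_of_mem N (Finset.mem_univ v)
  rw [hc, pow_mul, ← Perm.iterate_eq_pow, Perm.one_apply, ← Perm.iterate_eq_pow]
  exact Function.iterate_fixed (he v) c

/-- common neighbour in the class -/
lemma middle {t x y : Perm (Fin n)} (hn : 5 ≤ n) (ht : orderOf t = 2) (hx : IsConj t x)
    (hy : IsConj t y) :
    ∃ z, IsConj t z ∧ Odd (orderOf (x * z)) ∧ Odd (orderOf (y * z)) := by
  have hxi := invol_of_order ((order_of_conj hx).trans ht)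
  have hyi := invol_of_order ((order_of_conj hy).trans ht)
  have hs : ∀ {a}, IsConj t a → a.support.card = t.support.card := fun h => by
    rw [← Perm.sum_cycleType, ← Perm.sum_cycleType, (Perm.isConj_iff_cycleType_eq.1 h)]
  have hb : Bal (⇑x) (⇑y) (Finset.univ : Finset (Fin n)) :=
    ⟨fun u _ => ⟨mem_univ _, mem_univ _⟩, by rw [card_fix, card_fix, hs hx, hs hy]⟩
  rcases exists_sol hxi hyi _ hb with ⟨z, hz⟩ | ⟨v, -, hv⟩
  · let zp : Perm (Fin n) := Function.Involutive.toPerm z fun u => hz.inv u (mem_univ u)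
    have hzs : zp.support.card = t.support.card := by
      have h := hz.card
      rw [card_fix, hs hx] at h
      have e : n - t.support.card = n - zp.support.card := by
        rw [← card_fix zp, ← h]
        congr 1
        ext u
        simp only [mem_filter]
        rfl
      have h1 := t.support.card_le_univ
      have h2 := zp.support.card_le_univ
      simp only [Fintype.card_fin] at h1 h2
      omega
    have htp : 0 < t.support.card := by
      rw [Finset.card_pos, Finset.nonempty_iff_ne_empty]
      intro e; rw [Perm.support_eq_empty_iff] at e; rw [e, orderOf_one] at ht; omega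
    have hz2 : orderOf zp = 2 := by
      refine orderOf_eq_prime ?_ ?_
      · refine Equiv.ext fun u => ?_
        rw [pow_two]; exact hz.inv u (mem_univ u)
      · intro e; rw [e, Perm.support_one, card_empty] at hzs; omega
    have hrep : ∀ {a : Perm (Fin n)}, orderOf a = 2 →
        a.cycleType = Multiset.replicate (a.support.card / 2) 2 := by
      intro a ha
      obtain ⟨k, hk⟩ := Perm.cycleType_prime_order (ha.symm ▸ Nat.prime_two)
      rw [ha] at hk
      have := a.sum_cycleType
      rw [hk, Multiset.sum_replicate, smul_eq_mul] at this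
      rw [hk, ← this]; congr 1; omega
    refine ⟨zp, Perm.isConj_iff_cycleType_eq.2 (by rw [hrep ht, hrep hz2, hzs]), ?_, ?_⟩
    · exact odd_order _ fun u => by rw [Perm.coe_mul]; exact hz.opx u (mem_univ u)
    · exact odd_order _ fun u => by rw [Perm.coe_mul]; exact hz.opy u (mem_univ u)
  · exfalso
    have h := congrArg Finset.card hv
    rw [card_univ, Fintype.card_fin] at h
    have := T4_card_le (x := ⇑x) (y := ⇑y) v
    omega

/-- two commuting members of the class -/
lemma commuting_pair {t : Perm (Fin n)} (hn : 5 ≤ n) (ht : orderOf t = 2) :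
    ∃ s, IsConj t s ∧ s ≠ t ∧ Commute t s := by
  have hti := invol_of_order ht
  have ht1 : t ≠ 1 := fun e => by simp [e] at ht
  obtain ⟨a, ha⟩ : t.support.Nonempty := by
    rw [Finset.nonempty_iff_ne_empty]; simpa [Perm.support_eq_empty_iff] using ht1
  rw [Perm.mem_support] at ha
  by_cases hc : ∃ c, t c ≠ c ∧ c ≠ a ∧ c ≠ t a
  · obtain ⟨c, hcc, hca, hcb⟩ := hc
    have hdb : t c ≠ t a := fun e => hca (t.injective e)
    have hdc : t c ≠ c := hcc
    have hda : t c ≠ a := fun e => hcb (by rw [← e, hti c])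
    set g : Perm (Fin n) := swap (t a) c with hg
    refine ⟨g * t * g⁻¹, isConj_iff.2 ⟨g, rfl⟩, ?_, ?_⟩
    · intro e
      have := congrArg (fun f : Perm (Fin n) => f a) e
      simp [hg, swap_apply_of_ne_of_ne (Ne.symm ha) hca.symm] at this
      exact hcb this
    · refine Equiv.ext fun u => ?_
      simp only [hg, swap_inv, Perm.mul_apply]
      by_cases u1 : u = a
      · subst u1; simp [swap_apply_of_ne_of_ne (Ne.symm ha) hca.symm, swap_apply_of_ne_of_ne hdb hdc]
      by_cases u2 : u = t a
      · subst u2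
        simp [hti a, hti c, swap_apply_of_ne_of_ne (Ne.symm ha) hca.symm, swap_apply_of_ne_of_ne hdb hdc]
      by_cases u3 : u = c
      · subst u3
        simp [hti a, hti u, swap_apply_of_ne_of_ne (Ne.symm ha) hca.symm, swap_apply_of_ne_of_ne hdb hdc]
      by_cases u4 : u = t c
      · subst u4
        simp [hti a, hti c, swap_apply_of_ne_of_ne (Ne.symm ha) hca.symm, swap_apply_of_ne_of_ne hdb hdc]
      have v1 : t u ≠ t a := fun e => u1 (t.injective e)
      have v2 : t u ≠ c := fun e => u4 (by rw [← e, hti u])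
      simp [swap_apply_of_ne_of_ne u2 u3, swap_apply_of_ne_of_ne v1 v2, hti u]
  · push Not at hc
    have hfix : ∀ u, u ≠ a → u ≠ t a → t u = u := fun u h1 h2 => by
      by_contra h; exact h2 (hc u h h1)
    have hts : t = swap a (t a) := by
      refine Equiv.ext fun u => ?_
      by_cases u1 : u = a
      · subst u1; simp
      by_cases u2 : u = t a
      · subst u2; simp [hti a]
      rw [hfix u u1 u2, swap_apply_of_ne_of_ne u1 u2]
    obtain ⟨c, hc', d, hd', hcd⟩ : ∃ c ∈ ({a, t a} : Finset (Fin n))ᶜ, ∃ d ∈ ({a, t a} : Finset (Fin n))ᶜ, c ≠ d := by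
      refine Finset.one_lt_card.1 ?_
      rw [card_compl, Fintype.card_fin, card_pair (Ne.symm ha)]
      omega
    simp only [mem_compl, Finset.mem_insert, Finset.mem_singleton, not_or] at hc' hd'
    set g : Perm (Fin n) := swap a c * swap (t a) d with hg
    refine ⟨g * t * g⁻¹, isConj_iff.2 ⟨g, rfl⟩, ?_⟩
    have hga : g a = c := by simp [hg, swap_apply_of_ne_of_ne (Ne.symm ha) (Ne.symm hd'.1)]
    have hgb : g (t a) = d := by simp [hg, swap_apply_of_ne_of_ne hd'.1 hcd.symm]
    have hs : g * t * g⁻¹ = swap c d := by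
      conv_lhs => rw [hts]
      rw [← Equiv.swap_apply_apply, hga, hgb]
    rw [hs]
    refine ⟨?_, ?_⟩
    · intro e
      have := congrArg (fun f : Perm (Fin n) => f a) e
      simp [swap_apply_of_ne_of_ne (Ne.symm hc'.1) (Ne.symm hd'.1)] at this
      exact ha this.symm
    · refine Perm.Disjoint.commute fun u => ?_
      by_cases h1 : u = c
      · exact Or.inl (hfix u (h1 ▸ hc'.1) (h1 ▸ hc'.2))
      by_cases h2 : u = d
      · exact Or.inl (hfix u (h2 ▸ hd'.1) (h2 ▸ hd'.2))
      exact Or.inr (swap_apply_of_ne_of_ne h1 h2)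

end

/-- Let n ≥ 5 and let X be a conjugacy class of involutions of the symmetric group of degree n. The graph on X joining two distinct involutions whose product has odd order is connected and has diameter exactly 2. -/
theorem result (n : ℕ) (hn : 5 ≤ n) (t : Equiv.Perm (Fin n)) (ht : orderOf t = 2) :
    (SimpleGraph.fromRel fun x y : {x : Equiv.Perm (Fin n) // IsConj t x} =>
        Odd (orderOf (x.1 * y.1))).Connected ∧
      (SimpleGraph.fromRel fun x y : {x : Equiv.Perm (Fin n) // IsConj t x} =>
        Odd (orderOf (x.1 * y.1))).diam = 2 := by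
  classical
  set V := {x : Equiv.Perm (Fin n) // IsConj t x}
  set G := SimpleGraph.fromRel fun x y : V => Odd (orderOf (x.1 * y.1)) with hG
  have hwalk : ∀ u v : V, ∃ p : G.Walk u v, p.length ≤ 2 := by
    intro u v
    obtain ⟨z, hz, h1, h2⟩ := middle hn ht u.2 v.2
    by_cases e1 : u = ⟨z, hz⟩
    · by_cases e2 : v = ⟨z, hz⟩
      · subst e1; subst e2; exact ⟨.nil, by simp⟩
      · subst e1
        have ha : G.Adj ⟨z, hz⟩ v := ⟨Ne.symm e2, Or.inr h2⟩
        exact ⟨ha.toWalk, by simp⟩
    · by_cases e2 : v = ⟨z, hz⟩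
      · subst e2
        have ha : G.Adj u ⟨z, hz⟩ := ⟨e1, Or.inl h1⟩
        exact ⟨ha.toWalk, by simp⟩
      · have ha : G.Adj u ⟨z, hz⟩ := ⟨e1, Or.inl h1⟩
        have hb : G.Adj ⟨z, hz⟩ v := ⟨Ne.symm e2, Or.inr h2⟩
        exact ⟨.cons ha hb.toWalk, by simp⟩
  haveI : Nonempty V := ⟨⟨t, IsConj.refl t⟩⟩
  refine ⟨⟨fun u v => (hwalk u v).choose.reachable⟩, ?_⟩
  have hle : G.ediam ≤ 2 := SimpleGraph.ediam_le_iff.2 fun u v => by
    obtain ⟨p, hp⟩ := hwalk u v
    exact (SimpleGraph.edist_le p).trans (by exact_mod_cast hp)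
  obtain ⟨s, hs, hne, hcomm⟩ := commuting_pair hn ht
  have hlow : 2 ≤ G.ediam := by
    refine le_trans ?_ (SimpleGraph.edist_le_ediam (u := (⟨t, IsConj.refl t⟩ : V)) (v := ⟨s, hs⟩))
    have hts : t * s ≠ 1 := fun e => hne (by
      rw [eq_comm]
      calc t = t * s * s⁻¹ := by group
        _ = s⁻¹ := by rw [e, one_mul]
        _ = s := inv_eq_of_mul_eq_one_right (by
              have := pow_orderOf_eq_one s
              rwa [(order_of_conj hs).trans ht, pow_two] at this))
    have hsq : (t * s) ^ 2 = 1 := by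
      rw [hcomm.mul_pow]
      have a := pow_orderOf_eq_one t
      have b := pow_orderOf_eq_one s
      rw [ht] at a
      rw [(order_of_conj hs).trans ht] at b
      rw [a, b, one_mul]
    have hnadj : ¬ G.Adj ⟨t, IsConj.refl t⟩ ⟨s, hs⟩ := by
      rintro ⟨-, h | h⟩
      · rw [show orderOf (t * s) = 2 from orderOf_eq_prime hsq hts] at h; exact absurd h (by decide)
      · change Odd (orderOf (s * t)) at h
        rw [← hcomm.eq, show orderOf (t * s) = 2 from orderOf_eq_prime hsq hts] at h
        exact absurd h (by decide)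
    have h0 : G.edist ⟨t, IsConj.refl t⟩ ⟨s, hs⟩ ≠ 0 := by
      rw [Ne, SimpleGraph.edist_eq_zero_iff]
      exact fun e => hne (congrArg Subtype.val e).symm
    have h1 : G.edist ⟨t, IsConj.refl t⟩ ⟨s, hs⟩ ≠ 1 := fun e => hnadj (SimpleGraph.edist_eq_one_iff_adj.1 e)
    generalize G.edist ⟨t, IsConj.refl t⟩ ⟨s, hs⟩ = d at h0 h1
    cases d with
    | top => exact le_top
    | coe d => norm_cast at h0 h1 ⊢; omega
  rw [SimpleGraph.diam, le_antisymm hle hlow]
  rfl

end Cfsg.Agent.S3265
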