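import Cfsg.Statements.S3269
import Cfsg.Agent.H40.SimpleFusion
import Mathlib.GroupTheory.SpecificGroups.Quaternion

set_option autoImplicit false
open Cfsg

namespace Cfsg.Agent.S3269

open Subgroup

/-- The image of the distinguished involution of the first factor of `Q × R` under an
automorphism is that involution or lies in the second factor. -/
theorem image_involution {Q R : Type*} [Group Q] [Finite Q] [Group R] (ψ : (Q × R) ≃* (Q × R))
    (z : Q) (hinv : ∀ q : Q, q ≠ 1 → ∃ k : ℕ, q ^ k = z) (hz2 : z * z = 1)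
    (hsq : ∀ q : Q, q * q = 1 → q = 1 ∨ q = z)
    (hcen : ∀ q : Q, (∀ y : Q, Commute q y) → q = 1 ∨ q = z) (hQ : 2 < Nat.card Q) :
    ψ (z, 1) = (z, 1) ∨ (ψ (z, 1)).1 = 1 := by
  classical
  by_contra hne
  push Not at hne
  obtain ⟨h0, h1⟩ := hne
  have ha : (ψ (z, 1)).1 = z := by
    refine (hsq _ ?_).resolve_left h1
    rw [← Prod.fst_mul, ← map_mul, show ((z, 1) : Q × R) * (z, 1) = 1 from
      Prod.ext hz2 (one_mul 1), map_one, Prod.fst_one]
  have hr : (ψ (z, 1)).2 ≠ 1 := fun h => h0 (Prod.ext ha h)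
  let P : Q →* Q := (MonoidHom.fst Q R).comp (ψ.toMonoidHom.comp (MonoidHom.inl Q R))
  let P' : Q →* R := (MonoidHom.snd Q R).comp (ψ.toMonoidHom.comp (MonoidHom.inl Q R))
  have hz1 : z ≠ 1 := fun h => h1 (by rw [h, show ((1, 1) : Q × R) = 1 from rfl, map_one]; rfl)
  have injP : Function.Injective P := by
    rw [injective_iff_map_eq_one]
    intro q hq
    by_contra hq1
    obtain ⟨k, hk⟩ := hinv q hq1
    apply hz1
    rw [← ha]
    show P z = 1
    rw [← hk, map_pow, hq, one_pow]
  have injP' : Function.Injective P' := by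
    rw [injective_iff_map_eq_one]
    intro q hq
    by_contra hq1
    obtain ⟨k, hk⟩ := hinv q hq1
    apply hr
    show P' z = 1
    rw [← hk, map_pow, hq, one_pow]
  have surP : Function.Surjective P := Finite.injective_iff_surjective.mp injP
  -- every element of `Q` is `1` or `z`
  have hall : ∀ y : Q, y = 1 ∨ y = z := by
    intro y
    obtain ⟨⟨q, x⟩, hqx⟩ := ψ.surjective (y, 1)
    have hsplit : ψ (q, x) = ψ (q, 1) * ψ (1, x) := by
      rw [← map_mul]; simp
    have hcomm : ∀ q' : Q, Commute (ψ (q', 1)) (ψ (1, x)) := fun q' =>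
      (show Commute ((q', 1) : Q × R) (1, x) by
        show _ * _ = _ * _
        simp).map ψ.toMonoidHom
    have hy1 : y = P q * (ψ (1, x)).1 := by
      rw [show y = (ψ (q, x)).1 by rw [hqx], hsplit, Prod.fst_mul]; rfl
    have hy2 : 1 = P' q * (ψ (1, x)).2 := by
      rw [show (1 : R) = (ψ (q, x)).2 by rw [hqx], hsplit, Prod.snd_mul]; rfl
    have hqc : q = 1 ∨ q = z := by
      apply hcen
      intro q'
      apply injP'
      rw [map_mul, map_mul]
      have h3 : P' q = ((ψ (1, x)).2)⁻¹ := eq_inv_of_mul_eq_one_left hy2.symm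
      rw [h3]
      exact ((hcomm q').map (MonoidHom.snd Q R)).symm.inv_left.eq
    have hxc : (ψ (1, x)).1 = 1 ∨ (ψ (1, x)).1 = z := by
      apply hcen
      intro y'
      obtain ⟨q', rfl⟩ := surP y'
      exact ((hcomm q').map (MonoidHom.fst Q R)).symm
    have hPz : P z = z := ha
    rcases hqc with rfl | rfl <;> rcases hxc with h | h <;>
      simp only [hy1, h, map_one, hPz, one_mul, mul_one, hz2, true_or, or_true]
  have hle : Nat.card Q ≤ Nat.card ({1, z} : Finset Q) := Nat.card_le_card_of_injective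
    (fun y => ⟨y, by simpa using hall y⟩) (fun a b h => congrArg Subtype.val h)
  rw [Nat.card_eq_finsetCard] at hle
  have := Finset.card_le_two (a := (1 : Q)) (b := z)
  omega

theorem quaternion_facts (m : ℕ) (hm : 2 ≤ m) :
    (∀ q : QuaternionGroup m, q * q = 1 → q = 1 ∨ q = QuaternionGroup.a m) ∧
      (∀ q : QuaternionGroup m, (∀ y, Commute q y) → q = 1 ∨ q = QuaternionGroup.a m) ∧
      QuaternionGroup.a (m : ZMod (2 * m)) * QuaternionGroup.a (m : ZMod (2 * m)) = 1 ∧
      QuaternionGroup.a (m : ZMod (2 * m)) ≠ 1 := by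
  haveI : NeZero (2 * m) := ⟨by omega⟩
  have hmne : (m : ZMod (2 * m)) ≠ 0 := by
    rw [Ne, ZMod.natCast_eq_zero_iff]
    exact fun h => by have := Nat.le_of_dvd (by omega) h; omega
  have hmm : (m : ZMod (2 * m)) + m = 0 := by
    rw [← Nat.cast_add, ← two_mul, ZMod.natCast_self]
  have htwo : ∀ i : ZMod (2 * m), i + i = 0 → i = 0 ∨ i = m := by
    intro i hi
    rw [← ZMod.natCast_zmod_val i, ← Nat.cast_add, ZMod.natCast_eq_zero_iff] at hi
    have hlt := ZMod.val_lt i
    obtain ⟨c, hc⟩ := hi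
    have hc2 : c < 2 := by nlinarith
    interval_cases c
    · left; rw [← ZMod.natCast_zmod_val i, show i.val = 0 by omega, Nat.cast_zero]
    · right; rw [← ZMod.natCast_zmod_val i, show i.val = m by omega]
  refine ⟨?_, ?_, ?_, ?_⟩
  · rintro (i | i) hq
    · rw [QuaternionGroup.a_mul_a, QuaternionGroup.one_def] at hq
      injection hq with h
      rcases htwo i h with rfl | rfl
      · exact Or.inl QuaternionGroup.a_zero
      · exact Or.inr rfl
    · rw [QuaternionGroup.xa_mul_xa, QuaternionGroup.one_def] at hq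
      injection hq with h
      exact absurd (by simpa using h) hmne
  · rintro (i | i) hq
    · have h := hq (QuaternionGroup.xa 0)
      unfold Commute SemiconjBy at h
      rw [QuaternionGroup.a_mul_xa, QuaternionGroup.xa_mul_a] at h
      injection h with h
      rcases htwo i (by linear_combination -h) with rfl | rfl
      · exact Or.inl QuaternionGroup.a_zero
      · exact Or.inr rfl
    · exfalso
      have h := hq (QuaternionGroup.a 1)
      unfold Commute SemiconjBy at h
      rw [QuaternionGroup.a_mul_xa, QuaternionGroup.xa_mul_a] at h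
      injection h with h
      have h2 : ((2 : ℕ) : ZMod (2 * m)) = 0 := by push_cast; linear_combination h
      rw [ZMod.natCast_eq_zero_iff] at h2
      have := Nat.le_of_dvd (by omega) h2
      omega
  · rw [QuaternionGroup.a_mul_a, hmm, QuaternionGroup.a_zero]
  · rw [QuaternionGroup.one_def]
    intro h
    injection h with h
    exact hmne h

/-- Let G be a finite group whose Sylow 2-subgroup S is an internal direct product Q × R with Q generalized quaternion (of order at least 8) and R a subgroup all of whose involutions are central in R. Then G is not simple. In particular no finite simple group has a Sylow 2-subgroup that is a direct product of one or more generalized quaternion groups. -/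
theorem result {G : Type*} [Group G] [Finite G]
    (S : Sylow 2 G) (Q R : Subgroup G) (hQR : Cfsg.IsInternalDirectProduct Q R (S : Subgroup G))
    (n : ℕ) (hn : 1 ≤ n) (eQ : ↥Q ≃* QuaternionGroup (2 ^ n))
    (hR : ∀ r ∈ R, orderOf r = 2 → ∀ s ∈ R, r * s = s * r) :
    ¬ IsSimpleGroup G := by
  intro hsimple
  haveI := hsimple
  classical
  haveI : Fact (Nat.Prime 2) := ⟨Nat.prime_two⟩
  obtain ⟨hQS, hRS, hcomm, hinf, hsup⟩ := hQR
  obtain ⟨hsqM, hcenM, hz2M, hz1M⟩ := quaternion_facts (2 ^ n)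
    (by calc 2 = 2 ^ 1 := rfl
          _ ≤ 2 ^ n := Nat.pow_le_pow_right (by norm_num) hn)
  set z : ↥Q := eQ.symm (QuaternionGroup.a ((2 ^ n : ℕ) : ZMod (2 * 2 ^ n))) with hz
  have hsq : ∀ q : ↥Q, q * q = 1 → q = 1 ∨ q = z := fun q hq => by
    rcases hsqM (eQ q) (by rw [← map_mul, hq, map_one]) with h | h
    · exact Or.inl (eQ.injective (h.trans (map_one eQ).symm))
    · exact Or.inr (by rw [hz, ← h, eQ.symm_apply_apply])
  have hcen : ∀ q : ↥Q, (∀ y, Commute q y) → q = 1 ∨ q = z := fun q hq => by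
    rcases hcenM (eQ q) (fun y => by
      rw [← eQ.apply_symm_apply y]; exact (hq _).map eQ.toMonoidHom) with h | h
    · exact Or.inl (eQ.injective (h.trans (map_one eQ).symm))
    · exact Or.inr (by rw [hz, ← h, eQ.symm_apply_apply])
  have hz2 : z * z = 1 := by rw [hz, ← map_mul, hz2M, map_one]
  have hz1 : z ≠ 1 := fun h => hz1M (eQ.symm.injective (h.trans (map_one eQ.symm).symm))
  have hzG1 : (z : G) ≠ 1 := fun h => hz1 (Subtype.ext h)
  have hinv : ∀ q : ↥Q, q ≠ 1 → ∃ k : ℕ, q ^ k = z := by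
    intro q hq
    have hqS : IsPGroup 2 ↥Q := S.isPGroup'.to_le hQS
    obtain ⟨k, hk⟩ := IsPGroup.iff_orderOf.mp hqS q
    cases k with
    | zero => exact absurd (orderOf_eq_one_iff.mp (by simpa using hk)) hq
    | succ j =>
      refine ⟨2 ^ j, (hsq _ ?_).resolve_left ?_⟩
      · rw [← pow_add, ← two_mul, ← pow_succ', ← hk, pow_orderOf_eq_one]
      · intro h
        have := Nat.le_of_dvd (Nat.two_pow_pos j) (orderOf_dvd_of_pow_eq_one h)
        rw [hk, pow_succ] at this
        have := Nat.two_pow_pos j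
        omega
  have hQ : 2 < Nat.card ↥Q := by
    rw [Nat.card_congr eQ.toEquiv, Nat.card_eq_fintype_card, QuaternionGroup.card]
    have := Nat.two_pow_pos n
    omega
  -- the product map
  let f : ↥Q × ↥R →* G := MonoidHom.mk' (fun p => (p.1 : G) * (p.2 : G)) (by
    intro a b
    simp only [Prod.fst_mul, Prod.snd_mul, Subgroup.coe_mul]
    rw [mul_assoc, mul_assoc, ← mul_assoc (b.1 : G), hcomm b.1 b.1.2 a.2 a.2.2, mul_assoc])
  have hfinj : Function.Injective f := by
    rw [injective_iff_map_eq_one]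
    rintro ⟨q, r⟩ h
    have h1 : (q : G) = (r : G)⁻¹ := eq_inv_of_mul_eq_one_left h
    have h2 : (q : G) ∈ Q ⊓ R := Subgroup.mem_inf.mpr ⟨q.2, h1 ▸ inv_mem r.2⟩
    rw [hinf, mem_bot] at h2
    refine Prod.ext (Subtype.ext h2) (Subtype.ext ?_)
    rw [h2, eq_comm, inv_eq_one] at h1
    exact h1
  have hfrange : f.range = (S : Subgroup G) := by
    refine le_antisymm ?_ ?_
    · rintro _ ⟨p, rfl⟩
      exact mul_mem (hQS p.1.2) (hRS p.2.2)
    · rw [← hsup]
      exact sup_le (fun q hq => ⟨(⟨q, hq⟩, 1), by simp [f]⟩) (fun r hr => ⟨(1, ⟨r, hr⟩), by simp [f]⟩)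
  have hSmem : ∀ p, f p ∈ S := fun p => by
    have : f p ∈ (S : Subgroup G) := hfrange ▸ ⟨p, rfl⟩
    exact this
  have hG : ¬ IsMulCommutative G := fun h => by
    rcases hcen ⟨(z : G), z.2⟩ (fun _ => Subtype.ext (h.is_comm.comm _ _)) with h' | h'
    · exact hz1 h'
    · have hall : ∀ q : ↥Q, q = 1 ∨ q = z := fun q => hcen q fun _ => Subtype.ext (h.is_comm.comm _ _)
      have hle : Nat.card ↥Q ≤ Nat.card ({1, z} : Finset ↥Q) := Nat.card_le_card_of_injective
        (fun y => ⟨y, by simpa using hall y⟩) (fun a b h => congrArg Subtype.val h)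
      rw [Nat.card_eq_finsetCard] at hle
      have := Finset.card_le_two (a := (1 : ↥Q)) (b := z)
      omega
  -- involutions of `S` are central in `S`
  have hcentral : ∀ v ∈ S, v * v = 1 → ∀ s ∈ S, Commute v s := by
    intro v hv hvv s hs
    obtain ⟨⟨q, r⟩, rfl⟩ : v ∈ f.range := hfrange ▸ hv
    obtain ⟨⟨q', r'⟩, rfl⟩ : s ∈ f.range := hfrange ▸ hs
    have h2 : (q, r) * (q, r) = 1 := hfinj (by rw [map_mul, hvv, map_one])
    refine Commute.map ?_ f
    have hq : q * q = 1 := congrArg Prod.fst h2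
    have hr : r * r = 1 := congrArg Prod.snd h2
    refine Prod.ext ?_ ?_
    · show q * q' = q' * q
      rcases hsq q hq with rfl | rfl
      · simp
      · by_cases hq' : q' = 1
        · simp [hq']
        · obtain ⟨k, hk⟩ := hinv q' hq'
          exact hk ▸ (Commute.pow_self q' k).eq
    · show r * r' = r' * r
      by_cases hr1 : r = 1
      · simp [hr1]
      · have ho : orderOf (r : G) = 2 := by
          rw [Subgroup.orderOf_coe]
          exact Involution.orderOf_eq_two_iff'.mpr ⟨hr, hr1⟩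
        exact Subtype.ext (hR r r.2 ho r' r'.2)
  have hzS : (z : G) ∈ S := hQS z.2
  have hzG2 : (z : G) * (z : G) = 1 := congrArg Subtype.val hz2
  -- conjugates of `z` under the normalizer
  have horbit : ∀ k ∈ normalizer ((S : Subgroup G) : Set G),
      k * (z : G) * k⁻¹ = (z : G) ∨ k * (z : G) * k⁻¹ ∈ R := by
    intro k hk
    let c : ↥Q × ↥R →* ↥(f.range) := (((MulAut.conj k).toMonoidHom).comp f).codRestrict f.range
      fun p => by
        rw [hfrange]
        exact ((mem_normalizer_iff.mp hk) (f p)).mp (hSmem p)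
    let ψ₀ : ↥Q × ↥R →* ↥Q × ↥R := (MonoidHom.ofInjective hfinj).symm.toMonoidHom.comp c
    have hψ₀ : ∀ p, f (ψ₀ p) = k * f p * k⁻¹ := fun p =>
      MonoidHom.apply_ofInjective_symm hfinj (c p)
    have hψinj : Function.Injective ψ₀ := fun a b h => hfinj (by
      have h' := congrArg f h
      rw [hψ₀, hψ₀] at h'
      exact mul_left_cancel (mul_right_cancel h'))
    let ψ : (↥Q × ↥R) ≃* (↥Q × ↥R) :=
      MulEquiv.ofBijective ψ₀ ⟨hψinj, Finite.injective_iff_surjective.mp hψinj⟩
    have hfz : f (z, 1) = (z : G) := by simp [f]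
    have hψz : f (ψ (z, 1)) = k * (z : G) * k⁻¹ := by
      rw [show ψ (z, 1) = ψ₀ (z, 1) from rfl, hψ₀, hfz]
    rcases image_involution ψ z hinv hz2 hsq hcen hQ with h | h
    · left; rw [← hψz, h, hfz]
    · right
      rw [← hψz]
      show ((ψ (z, 1)).1 : G) * ((ψ (z, 1)).2 : G) ∈ R
      rw [h]
      simp
  -- the product of the orbit
  set N := normalizer ((S : Subgroup G) : Set G) with hN
  let V : Subgroup G := (S : Subgroup G) ⊓ centralizer ((S : Subgroup G) : Set G)
  letI : CommGroup ↥V :=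
    { (inferInstance : Group ↥V) with
      mul_comm := fun a b => Subtype.ext (mem_centralizer_iff.mp b.2.2 a.1 a.2.1) }
  haveI := Fintype.ofFinite G
  haveI := Fintype.ofFinite ↥V
  have hzV : ∀ k ∈ N, k * (z : G) * k⁻¹ ∈ V := by
    intro k hk
    have h1 : k * (z : G) * k⁻¹ ∈ S := ((mem_normalizer_iff.mp hk) (z : G)).mp hzS
    refine ⟨h1, mem_centralizer_iff.mpr fun s hs => (hcentral _ h1 ?_ s hs).eq.symm⟩
    calc k * (z : G) * k⁻¹ * (k * (z : G) * k⁻¹) = k * ((z : G) * (z : G)) * k⁻¹ := by group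
      _ = 1 := by rw [hzG2]; group
  let O : Finset ↥V := Finset.univ.filter fun v => ∃ k ∈ N, k * (z : G) * k⁻¹ = (v : G)
  let zV : ↥V := ⟨(z : G), by simpa using hzV 1 (one_mem N)⟩
  have hzO : zV ∈ O := Finset.mem_filter.mpr ⟨Finset.mem_univ _, 1, one_mem N, by simp [zV]⟩
  set w : ↥V := ∏ v ∈ O, v with hw
  have hrest : ((∏ v ∈ O.erase zV, v : ↥V) : G) ∈ R := by
    have : (∏ v ∈ O.erase zV, v : ↥V) ∈ R.subgroupOf V := by
      refine Subgroup.prod_mem _ fun v hv => ?_
      obtain ⟨hne, hv'⟩ := Finset.mem_erase.mp hv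
      obtain ⟨-, k, hk, hkv⟩ := Finset.mem_filter.mp hv'
      rw [mem_subgroupOf]
      rcases horbit k hk with h | h
      · exact absurd (Subtype.ext (hkv.symm.trans h)) hne
      · exact hkv ▸ h
    exact this
  have hwprod : (w : G) = (z : G) * ((∏ v ∈ O.erase zV, v : ↥V) : G) := by
    rw [hw, ← Finset.mul_prod_erase O (fun v => v) hzO]
    rfl
  have hw1 : w ≠ 1 := by
    intro h
    rw [h, OneMemClass.coe_one] at hwprod
    have h1 := eq_inv_of_mul_eq_one_left hwprod.symm
    have h2 : (z : G) ∈ Q ⊓ R := Subgroup.mem_inf.mpr ⟨z.2, h1 ▸ inv_mem hrest⟩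
    rw [hinf, mem_bot] at h2
    exact hzG1 h2
  have hwfix : ∀ k ∈ N, k * (w : G) * k⁻¹ = (w : G) := by
    intro k hk
    let φ : ↥V →* ↥V := (((MulAut.conj k).toMonoidHom).comp V.subtype).codRestrict V fun v => by
      have h1 : k * (v : G) * k⁻¹ ∈ (S : Subgroup G) := ((mem_normalizer_iff.mp hk) (v : G)).mp v.2.1
      refine ⟨h1, mem_centralizer_iff.mpr fun s hs => ?_⟩
      have hs' : k⁻¹ * s * k⁻¹⁻¹ ∈ (S : Subgroup G) := ((mem_normalizer_iff.mp (inv_mem hk)) s).mp hs
      have h2 := mem_centralizer_iff.mp v.2.2 _ hs'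
      calc s * (k * (v : G) * k⁻¹) = k * (k⁻¹ * s * k⁻¹⁻¹ * (v : G)) * k⁻¹ := by group
        _ = k * ((v : G) * (k⁻¹ * s * k⁻¹⁻¹)) * k⁻¹ := by rw [h2]
        _ = k * (v : G) * k⁻¹ * s := by group
    have hφinj : Function.Injective φ := fun a b h => Subtype.ext
      (mul_left_cancel (mul_right_cancel (congrArg Subtype.val h :)))
    have himg : O.image φ = O := by
      refine Finset.eq_of_subset_of_card_le ?_ (by rw [Finset.card_image_of_injective _ hφinj])
      intro v hv
      obtain ⟨u, hu, rfl⟩ := Finset.mem_image.mp hv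
      obtain ⟨-, k', hk', hku⟩ := Finset.mem_filter.mp hu
      refine Finset.mem_filter.mpr ⟨Finset.mem_univ _, k * k', mul_mem hk hk', ?_⟩
      show _ = k * (u : G) * k⁻¹
      rw [← hku]; group
    have : φ w = w := by
      rw [hw, map_prod]
      conv_rhs => rw [← himg]
      rw [Finset.prod_image (fun a _ b _ h => hφinj h)]
    exact congrArg Subtype.val this
  have hww : (w : G) * (w : G) = 1 := by
    have : w * w = 1 := by
      rw [hw, ← Finset.prod_mul_distrib]
      refine Finset.prod_eq_one fun v hv => Subtype.ext ?_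
      obtain ⟨-, k, hk, hkv⟩ := Finset.mem_filter.mp hv
      show (v : G) * (v : G) = 1
      rw [← hkv]
      calc k * (z : G) * k⁻¹ * (k * (z : G) * k⁻¹) = k * ((z : G) * (z : G)) * k⁻¹ := by group
        _ = 1 := by rw [hzG2]; group
    exact congrArg Subtype.val this
  have hwo : orderOf (w : G) = 2 :=
    Involution.orderOf_eq_two_iff'.mpr ⟨hww, fun h => hw1 (Subtype.ext h)⟩
  obtain ⟨g, hgS, hgne⟩ := H40.exists_fusion hG S hwo w.2.1
  have hg2 : g * (w : G) * g⁻¹ * (g * (w : G) * g⁻¹) = 1 := by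
    calc g * (w : G) * g⁻¹ * (g * (w : G) * g⁻¹) = g * ((w : G) * (w : G)) * g⁻¹ := by group
      _ = 1 := by rw [hww]; group
  obtain ⟨k, hk, hkeq⟩ := S.conj_eq_normalizer_conj_of_mem_centralizer (w : G) g⁻¹ w.2.2
    (mem_centralizer_iff.mpr fun s hs => by rw [inv_inv]; exact (hcentral _ hgS hg2 s hs).eq.symm)
  rw [inv_inv] at hkeq
  apply hgne
  rw [hkeq]
  have := hwfix k⁻¹ (inv_mem hk)
  rwa [inv_inv] at this

end Cfsg.Agent.S3269
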