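import Cfsg.Statements.S3276
import Cfsg.Agent.Lib.Involution.Dihedral

set_option autoImplicit false
open Cfsg

namespace Cfsg.Agent.S3276

/-- Let x and y be commuting, non-conjugate involutions of a finite group G, and suppose that for every involution u commuting with x, each conjugate of y that commutes with u also commutes with y. Then the normal closure of y is a proper, normal, elementary abelian 2-subgroup of G; and if y is the only involution of that normal closure commuting with x, it has order at most 4. -/
theorem result {G : Type*} [Group G] [Finite G] (x y : G) (hx : orderOf x = 2) (hy : orderOf y = 2)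
    (hxy : Commute x y) (hnc : ¬ IsConj x y)
    (hstar : ∀ u : G, orderOf u = 2 → Commute u x → ∀ g : G, Commute (g * y * g⁻¹) u → Commute (g * y * g⁻¹) y) :
    Subgroup.normalClosure ({y} : Set G) ≠ ⊤ ∧ Cfsg.IsElementaryAbelian 2 (Subgroup.normalClosure ({y} : Set G)) ∧
      ((∀ u ∈ Subgroup.normalClosure ({y} : Set G), orderOf u = 2 → Commute u x → u = y) →
        Nat.card ↥(Subgroup.normalClosure ({y} : Set G)) ≤ 4) := by
  classical
  set V := Subgroup.normalClosure ({y} : Set G) with hV
  have hxx : x * x = 1 := Involution.mul_self_of_orderOf hx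
  have hyy : y * y = 1 := Involution.mul_self_of_orderOf hy
  have hxi : x⁻¹ = x := Involution.inv_of_orderOf hx
  have hycomm : ∀ g : G, Commute (g * y * g⁻¹) y := by
    intro g
    have hgy : orderOf (g * y * g⁻¹) = 2 := by
      have := MulEquiv.orderOf_eq (MulAut.conj g) y
      simpa [hy] using this
    have hnc' : ¬ IsConj x (g * y * g⁻¹) := fun h =>
      hnc (h.trans (isConj_iff.mpr ⟨g, rfl⟩).symm)
    obtain ⟨u, hu, hux, huy, -⟩ := Involution.exists_commuting_involution hx hgy hnc'
    exact hstar u hu hux g huy.symm
  have hcc : ∀ g h : G, Commute (g * y * g⁻¹) (h * y * h⁻¹) := by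
    intro g h
    have := (hycomm (h⁻¹ * g)).map (MulAut.conj h)
    simp only [MulAut.conj_apply] at this
    rwa [show h * (h⁻¹ * g * y * (h⁻¹ * g)⁻¹) * h⁻¹ = g * y * g⁻¹ by group] at this
  have hmemc : ∀ s ∈ Group.conjugatesOfSet ({y} : Set G), ∃ g : G, g * y * g⁻¹ = s := by
    intro s hs
    obtain ⟨a, ha, hc⟩ := Group.mem_conjugatesOfSet_iff.mp hs
    rw [Set.mem_singleton_iff] at ha
    subst ha
    exact isConj_iff.mp hc
  have hE : Cfsg.IsElementaryAbelian 2 V := by
    have hc : ∀ a ∈ V, ∀ b ∈ V, a * b = b * a := by
      intro a ha b hb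
      have h2 : ∀ s ∈ Group.conjugatesOfSet ({y} : Set G), Commute a s := by
        intro s hs
        obtain ⟨h, rfl⟩ := hmemc s hs
        induction ha using Subgroup.closure_induction with
        | mem t ht => obtain ⟨g, rfl⟩ := hmemc t ht; exact hcc g h
        | one => exact Commute.one_left _
        | mul _ _ _ _ h1 h2 => exact h1.mul_left h2
        | inv _ _ h1 => exact h1.inv_left
      induction hb using Subgroup.closure_induction with
      | mem t ht => exact h2 t ht
      | one => simp
      | mul _ _ _ _ h1 h2 => exact Commute.mul_right h1 h2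
      | inv _ _ h1 => exact Commute.inv_right h1
    refine ⟨⟨⟨fun a b => Subtype.ext (hc a a.2 b b.2)⟩⟩, ?_⟩
    intro a ha
    induction ha using Subgroup.closure_induction with
    | mem t ht =>
      obtain ⟨g, rfl⟩ := hmemc t ht
      rw [pow_two, show g * y * g⁻¹ * (g * y * g⁻¹) = g * (y * y) * g⁻¹ by group, hyy]; group
    | one => simp
    | mul a b ha hb h1 h2 => rw [(show Commute a b from hc a ha b hb).mul_pow, h1, h2, one_mul]
    | inv _ _ h1 => rw [inv_pow, h1, inv_one]
  have hc : ∀ a ∈ V, ∀ b ∈ V, a * b = b * a := fun a ha b hb => by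
    exact congrArg Subtype.val (hE.1.is_comm.comm (⟨a, ha⟩ : V) ⟨b, hb⟩)
  have hyV : y ∈ V := Subgroup.subset_normalClosure rfl
  refine ⟨?_, hE, ?_⟩
  · intro htop
    have hall : ∀ a b : G, a * b = b * a := fun a b =>
      hc a (htop ▸ Subgroup.mem_top a) b (htop ▸ Subgroup.mem_top b)
    have hx' : x ∈ Subgroup.zpowers y := by
      have hle : V ≤ Subgroup.zpowers y := by
        refine (Subgroup.closure_le _).mpr fun s hs => ?_
        obtain ⟨g, rfl⟩ := hmemc s hs
        rw [hall g y, mul_inv_cancel_right]
        exact Subgroup.mem_zpowers y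
      exact hle (htop ▸ Subgroup.mem_top x)
    obtain ⟨k, hk⟩ := Subgroup.mem_zpowers_iff.mp hx'
    rw [← zpow_mod_orderOf, hy] at hk
    rcases Int.emod_two_eq_zero_or_one k with h | h <;>
      simp only [Nat.cast_ofNat, h, zpow_zero, zpow_one] at hk
    · exact Involution.ne_one_of_orderOf hx hk.symm
    · exact hnc (hk ▸ IsConj.refl _)
  · intro hfix
    have hx2 : ∀ v ∈ V, x * v * x ∈ V := fun v hv => by
      have := (inferInstance : V.Normal).conj_mem v hv x
      rwa [hxi] at this
    have hv2 : ∀ v ∈ V, v * v = 1 := fun v hv => by rw [← pow_two]; exact hE.2 v hv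
    have hsmall : ∀ v ∈ V, x * v * x = v → v = 1 ∨ v = y := by
      intro v hv hv'
      by_cases h1 : v = 1
      · exact Or.inl h1
      refine Or.inr (hfix v hv ?_ ?_)
      · exact Involution.orderOf_eq_two_iff'.mpr ⟨hv2 v hv, h1⟩
      · show v * x = x * v
        calc v * x = x * v * x * x := by rw [hv']
          _ = x * v := by rw [mul_assoc, hxx, mul_one]
    let φ : V →* V := MonoidHom.mk' (fun v => ⟨(v : G) * (x * v * x), mul_mem v.2 (hx2 v v.2)⟩) (by
      intro a b
      apply Subtype.ext
      simp only [Subgroup.coe_mul]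
      have e : x * ((a : G) * b) * x = x * (a : G) * x * (x * b * x) := by
        simp only [mul_assoc]; rw [← mul_assoc x x, hxx, one_mul]
      rw [e, mul_assoc (a : G) b, ← mul_assoc (b : G), hc b b.2 _ (hx2 a a.2)]
      simp only [mul_assoc])
    have hker : Nat.card φ.ker ≤ 2 := by
      have hsub : ((φ.ker : Set V)) ⊆ ({1, ⟨y, hyV⟩} : Set V) := by
        intro v hv
        have h0 : (v : G) * (x * v * x) = 1 := congrArg Subtype.val (hv : φ v = 1)
        have h1 : x * (v : G) * x = v := by
          rw [eq_inv_of_mul_eq_one_right h0]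
          exact inv_eq_of_mul_eq_one_right (hv2 v v.2)
        rcases hsmall v v.2 h1 with h | h
        · exact Or.inl (Subtype.ext h)
        · exact Or.inr (Subtype.ext h)
      refine le_trans (Nat.card_mono (Set.toFinite _) hsub) ?_
      rw [Nat.card_eq_fintype_card, ← Set.toFinset_card]
      simp only [Set.toFinset_insert, Set.toFinset_singleton]
      exact Finset.card_le_two
    have hrange : Nat.card φ.range ≤ 2 := by
      have hsub : ((φ.range : Set V)) ⊆ ({1, ⟨y, hyV⟩} : Set V) := by
        rintro w ⟨v, rfl⟩
        have h1 : x * ((v : G) * (x * v * x)) * x = (v : G) * (x * v * x) := by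
          rw [hc v v.2 _ (hx2 v v.2)]
          calc x * (x * (v:G) * x * v) * x = (x * x) * v * (x * v * x) := by simp [mul_assoc]
            _ = (v:G) * (x * v * x) := by rw [hxx, one_mul]
            _ = x * (v:G) * x * v := hc v v.2 _ (hx2 v v.2)
        rcases hsmall _ (φ v).2 h1 with h | h
        · exact Or.inl (Subtype.ext h)
        · exact Or.inr (Subtype.ext h)
      refine le_trans (Nat.card_mono (Set.toFinite _) hsub) ?_
      rw [Nat.card_eq_fintype_card, ← Set.toFinset_card]
      simp only [Set.toFinset_insert, Set.toFinset_singleton]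
      exact Finset.card_le_two
    calc Nat.card V = φ.ker.index * Nat.card φ.ker := (φ.ker.index_mul_card).symm
      _ = Nat.card φ.range * Nat.card φ.ker := by rw [Subgroup.index_ker]
      _ ≤ 2 * 2 := Nat.mul_le_mul hrange hker

end Cfsg.Agent.S3276
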