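import Cfsg.Statements.S3279
import Cfsg.Agent.H40.SimpleFusion
import Cfsg.Agent.H40.NormalFourInvolution
import Cfsg.Agent.InvChar68.MaximalClass

set_option autoImplicit false
open Cfsg

namespace Cfsg.Agent.S3279

open Subgroup

variable {G : Type*} [Group G]

/-- At most the three involutions `y, a, ya` commute with `y`. -/
def Three (y : G) : Prop :=
  ∀ a b : G, orderOf a = 2 → orderOf b = 2 → Commute a y → Commute b y → a ≠ y → b ≠ y →
    b = a ∨ b = y * a

theorem three_of_card [Finite G] {x : G} (hx : orderOf x = 2)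
    (h3 : Nat.card {u : ↥(centralizer ({x} : Set G)) // orderOf u = 2} ≤ 3) : Three x := by
  classical
  intro a b ha hb hax hbx hane hbne
  by_contra hne
  push Not at hne
  have hxx := Involution.mul_self_of_orderOf hx
  have hxa : x * a ≠ 1 := fun h => hane (by
    rw [eq_inv_of_mul_eq_one_right h, Involution.inv_of_orderOf hx])
  have hxao : orderOf (x * a) = 2 := Involution.orderOf_eq_two_iff'.mpr ⟨by
    rw [hax.mul_mul_mul_comm, hxx, Involution.mul_self_of_orderOf ha, one_mul], hxa⟩
  let s : Finset G := {x, a, x * a, b}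
  have hs : s.card = 4 := by
    have h1 : x * a ≠ x := fun h => Involution.ne_one_of_orderOf ha (by simpa using h)
    have h2 : x * a ≠ a := fun h => Involution.ne_one_of_orderOf hx (by simpa using h)
    simp [s, Ne.symm hane, Ne.symm h1, Ne.symm h2, Ne.symm hbne, Ne.symm hne.1, Ne.symm hne.2]
  have hmem : ∀ w ∈ s, orderOf w = 2 ∧ w ∈ centralizer ({x} : Set G) := by
    intro w hw
    simp only [s, Finset.mem_insert, Finset.mem_singleton] at hw
    rw [mem_centralizer_singleton_iff]
    rcases hw with rfl | rfl | rfl | rfl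
    · exact ⟨hx, rfl⟩
    · exact ⟨ha, hax.eq⟩
    · exact ⟨hxao, ((Commute.refl x).mul_left hax).eq⟩
    · exact ⟨hb, hbx.eq⟩
  have hle : Nat.card ↥s ≤ Nat.card {u : ↥(centralizer ({x} : Set G)) // orderOf u = 2} :=
    Nat.card_le_card_of_injective
      (fun w => ⟨⟨w.1, (hmem w.1 w.2).2⟩, by rw [Subgroup.orderOf_mk]; exact (hmem w.1 w.2).1⟩)
      (fun v w h => Subtype.ext (congrArg (fun u => ((u.1 : ↥(centralizer ({x} : Set G))) : G)) h))
  rw [Nat.card_eq_finsetCard, hs] at hle
  omega

theorem three_conj {x : G} (h : Three x) (g : G) : Three (g * x * g⁻¹) := by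
  intro a b ha hb hax hbx hane hbne
  have hc : ∀ w : G, Commute w (g * x * g⁻¹) → Commute (g⁻¹ * w * g) x := fun w hw => by
    show g⁻¹ * w * g * x = x * (g⁻¹ * w * g)
    calc g⁻¹ * w * g * x = g⁻¹ * (w * (g * x * g⁻¹)) * g := by group
      _ = g⁻¹ * ((g * x * g⁻¹) * w) * g := by rw [hw.eq]
      _ = x * (g⁻¹ * w * g) := by group
  have ho : ∀ w : G, orderOf (g⁻¹ * w * g) = orderOf w := fun w => by
    conv_lhs => rw [show g⁻¹ * w * g = MulAut.conj g⁻¹ w by simp]
    exact MulEquiv.orderOf_eq _ _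
  have hne : ∀ w : G, w ≠ g * x * g⁻¹ → g⁻¹ * w * g ≠ x := fun w hw he => hw (by rw [← he]; group)
  rcases h _ _ ((ho a).trans ha) ((ho b).trans hb) (hc a hax) (hc b hbx) (hne a hane) (hne b hbne)
    with h1 | h1
  · exact Or.inl (mul_left_cancel (mul_right_cancel h1))
  · right
    calc b = g * (g⁻¹ * b * g) * g⁻¹ := by group
      _ = g * x * g⁻¹ * a := by rw [h1]; group

variable [Finite G] [IsSimpleGroup G]

theorem centralized_by_sylow (hG : ¬ IsMulCommutative G) {x : G} (hx : orderOf x = 2)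
    (h3 : Three x) : ∃ S : Sylow 2 G, (S : Subgroup G) ≤ centralizer ({x} : Set G) := by
  by_contra hno
  haveI : Fact (Nat.Prime 2) := ⟨Nat.prime_two⟩
  obtain ⟨T, hxT⟩ : ∃ T : Sylow 2 G, x ∈ T := by
    have hp : IsPGroup 2 (zpowers x) :=
      IsPGroup.of_card (n := 1) (by rw [Nat.card_zpowers, hx]; norm_num)
    obtain ⟨P, hP⟩ := hp.exists_le_sylow
    exact ⟨P, hP (mem_zpowers x)⟩
  -- no conjugate of `x` is centralized by a Sylow 2-subgroup
  have hnc : ∀ g : G, ∀ S : Sylow 2 G, ¬ ∀ s ∈ S, Commute s (g * x * g⁻¹) := by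
    intro g S hS
    refine hno ⟨g⁻¹ • S, fun s hs => ?_⟩
    rw [mem_centralizer_singleton_iff]
    rw [Sylow.coe_subgroup_smul, mem_pointwise_smul_iff_inv_smul_mem] at hs
    have h := hS (g * s * g⁻¹) (by
      simp only [← map_inv, inv_inv, MulAut.smul_def, MulAut.conj_apply] at hs
      exact hs)
    calc s * x = g⁻¹ * (g * s * g⁻¹ * (g * x * g⁻¹)) * g := by group
      _ = g⁻¹ * (g * x * g⁻¹ * (g * s * g⁻¹)) * g := by rw [h.eq]
      _ = x * s := by group
  set T' := (T : Subgroup G) with hT'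
  have hTp : IsPGroup 2 T' := T.isPGroup'
  have hcent : ∀ g : G, ∀ h : g * x * g⁻¹ ∈ T', (⟨_, h⟩ : T') ∉ center T' := fun g h hc =>
    hnc g T fun s hs => congrArg Subtype.val (mem_center_iff.mp hc ⟨s, hs⟩)
  have hxc : (⟨x, hxT⟩ : T') ∉ center T' := fun hc =>
    hnc 1 T fun s hs => by
      have h : s * x = x * s := congrArg Subtype.val (mem_center_iff.mp hc ⟨s, hs⟩)
      rw [one_mul, inv_one, mul_one]; exact h
  rcases H40.exists_four_or_index_two hTp (x := ⟨x, hxT⟩) (by rw [Subgroup.orderOf_mk]; exact hx) hxc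
    with ⟨U, hUn, hU4, hU2⟩ | ⟨B, hB, -, hBc⟩
  swap
  · obtain ⟨g, hg, hgB⟩ := H40.exists_conj_mem hG T B hB hx
    exact hcent g hg (hBc _ hgB (by rw [Subgroup.orderOf_mk, ← MulAut.conj_apply,
      MulEquiv.orderOf_eq, hx]))
  -- `z` central in `T`, `U = {1, z, u, zu}`
  obtain ⟨z, hzU, hzc, hz⟩ := Involution.exists_central_mem_normal (p := 2) hTp U (fun h => by
    rw [h, card_bot] at hU4; omega)
  obtain ⟨u, huU, hu1, huz⟩ : ∃ u ∈ U, u ≠ 1 ∧ u ≠ z := by
    by_contra h
    push Not at h
    classical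
    have hle : Nat.card U ≤ Nat.card ({1, z} : Finset T') := Nat.card_le_card_of_injective
      (fun w => ⟨(w : T'), by
        simp only [Finset.mem_insert, Finset.mem_singleton]
        exact or_iff_not_imp_left.mpr (h _ w.2)⟩)
      (fun a b hab => Subtype.ext (congrArg (fun q : ({1, z} : Finset T') => (q : T')) hab))
    rw [Nat.card_eq_finsetCard, hU4] at hle
    have := Finset.card_le_two (a := (1 : T')) (b := z)
    omega
  have hUmem : ∀ w ∈ U, w = 1 ∨ w = z ∨ w = u ∨ w = z * u := by
    classical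
    intro w hw
    by_contra h
    push Not at h
    have hz1 : z ≠ 1 := Involution.ne_one_of_orderOf hz
    have hzu1 : z * u ≠ 1 := fun he => huz (by
      rw [eq_inv_of_mul_eq_one_right he, Involution.inv_of_orderOf hz])
    have hzu2 : z * u ≠ z := fun he => hu1 (by simpa using he)
    have hzu3 : z * u ≠ u := fun he => hz1 (by simpa using he)
    let s : Finset T' := {1, z, u, z * u, w}
    have hs : s.card = 5 := by
      simp [s, Ne.symm hz1, Ne.symm hu1, Ne.symm hzu1, Ne.symm huz, Ne.symm hzu2, Ne.symm hzu3,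
        Ne.symm h.1, Ne.symm h.2.1, Ne.symm h.2.2.1, Ne.symm h.2.2.2]
    have hle : Nat.card ↥s ≤ Nat.card U := Nat.card_le_card_of_injective
      (fun v => ⟨v.1, by
        have := v.2
        simp only [s, Finset.mem_insert, Finset.mem_singleton] at this
        rcases this with e | e | e | e | e <;> rw [e]
        exacts [one_mem _, hzU, huU, mul_mem hzU huU, hw]⟩)
      (fun a b hab => Subtype.ext (congrArg (fun q : U => (q : T')) hab))
    rw [Nat.card_eq_finsetCard, hs, hU4] at hle
    omega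
  have huo : orderOf u = 2 := Involution.orderOf_eq_two_iff'.mpr ⟨hU2 u huU, hu1⟩
  have hzcomm : ∀ w : T', Commute w z := fun w => mem_center_iff.mp hzc w
  have hzG : orderOf (z : G) = 2 := by rw [Subgroup.orderOf_coe]; exact hz
  -- conjugates of `z` are centralized by Sylow 2-subgroups, those of `x` are not
  have hzxc : ∀ a g : G, a * (z : G) * a⁻¹ ≠ g * x * g⁻¹ := by
    intro a g e
    apply hnc g (a • T)
    intro s hs
    have hs0 : s ∈ ((a • T : Sylow 2 G) : Subgroup G) := hs
    rw [Sylow.coe_subgroup_smul, mem_pointwise_smul_iff_inv_smul_mem] at hs0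
    simp only [← map_inv, inv_inv, MulAut.smul_def, MulAut.conj_apply] at hs0
    have h5 : a⁻¹ * s * a * (z : G) = (z : G) * (a⁻¹ * s * a) :=
      congrArg Subtype.val (hzcomm ⟨_, hs0⟩).eq
    rw [← e]
    show s * (a * (z : G) * a⁻¹) = a * (z : G) * a⁻¹ * s
    calc s * (a * (z : G) * a⁻¹) = a * (a⁻¹ * s * a * (z : G)) * a⁻¹ := by group
      _ = a * ((z : G) * (a⁻¹ * s * a)) * a⁻¹ := by rw [h5]
      _ = a * (z : G) * a⁻¹ * s := by group
  have hzx : ∀ g : G, g * x * g⁻¹ ≠ (z : G) := fun g h => hzxc 1 g (by simpa using h.symm)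
  have hconjo : ∀ g : G, orderOf (g * x * g⁻¹) = 2 := fun g => by
    rw [← MulAut.conj_apply, MulEquiv.orderOf_eq]; exact hx
  -- the centralizer of a conjugate of `x` in `T`
  have hinv : ∀ g : G, ∀ h : g * x * g⁻¹ ∈ T', ∀ w : T', orderOf w = 2 →
      Commute w ⟨_, h⟩ → w = ⟨_, h⟩ ∨ w = z ∨ w = ⟨_, h⟩ * z := by
    intro g h w hw hwy
    by_cases he : w = ⟨_, h⟩
    · exact Or.inl he
    rcases three_conj h3 g (z : G) (w : G) hzG (by rw [Subgroup.orderOf_coe]; exact hw)
        ((hzcomm ⟨_, h⟩).symm.map T'.subtype) (hwy.map T'.subtype) (fun e => hzx g e.symm)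
        (fun e => he (Subtype.ext e)) with h1 | h1
    · exact Or.inr (Or.inl (Subtype.ext h1))
    · exact Or.inr (Or.inr (Subtype.ext h1))
  -- replace `u` by a conjugate of `x`
  obtain ⟨g₀, hg₀, hgU⟩ : ∃ g : G, ∃ h : g * x * g⁻¹ ∈ T', (⟨_, h⟩ : T') ∈ U := by
    have hxT' : (1 : G) * x * (1 : G)⁻¹ ∈ T' := by rw [one_mul, inv_one, mul_one]; exact hxT
    have key : ∀ g : G, ∀ h : g * x * g⁻¹ ∈ T', Commute (⟨_, h⟩ : T') u → (⟨_, h⟩ : T') ∈ U := by
      intro g h hyu
      rcases hinv g h u huo hyu.symm with e | e | e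
      · exact e ▸ huU
      · exact absurd e huz
      · have : (⟨_, h⟩ : T') = u * z := by
          conv_rhs => rw [e, mul_assoc, Involution.mul_self_of_orderOf hz, mul_one]
        exact this ▸ mul_mem huU hzU
    by_cases hux : Commute (⟨_, hxT'⟩ : T') u
    · exact ⟨1, hxT', key 1 hxT' hux⟩
    have hM : (centralizer ({u} : Set T')).index = 2 := by
      rw [index_eq_two_iff']
      refine ⟨⟨_, hxT'⟩, fun g => ?_⟩
      have hconj : ∀ g : T', g * u * g⁻¹ = u ∨ g * u * g⁻¹ = z * u := by
        intro g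
        rcases hUmem _ (hUn.conj_mem u huU g) with e | e | e | e
        · exact absurd (conj_eq_one_iff.mp e) hu1
        · exfalso
          refine huz ?_
          calc u = g⁻¹ * (g * u * g⁻¹) * g := by group
            _ = z := by rw [e, (hzcomm g⁻¹).eq]; group
        · exact Or.inl e
        · exact Or.inr e
      set y : T' := ⟨_, hxT'⟩
      have hy : y * u * y⁻¹ = z * u := (hconj y).resolve_left fun e =>
        hux (mul_inv_eq_iff_eq_mul.mp e)
      have hne : z * u ≠ u := fun he => Involution.ne_one_of_orderOf hz (by simpa using he)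
      rw [mem_centralizer_singleton_iff, mem_centralizer_singleton_iff, ← mul_inv_eq_iff_eq_mul,
        ← mul_inv_eq_iff_eq_mul,
        show y * g * u * (y * g)⁻¹ = y * (g * u * g⁻¹) * y⁻¹ by group]
      rcases hconj g with e | e <;> rw [e]
      · exact Or.inr ⟨rfl, by rw [hy]; exact hne⟩
      · refine Or.inl ⟨?_, hne⟩
        rw [← mul_assoc y z, (hzcomm y).eq, mul_assoc, mul_assoc, ← mul_assoc y u, hy, ← mul_assoc,
          Involution.mul_self_of_orderOf hz, one_mul]
    obtain ⟨g, hg, hgC⟩ := H40.exists_conj_mem hG T _ hM hx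
    exact ⟨g, hg, key g hg (mem_centralizer_singleton_iff.mp hgC)⟩
  set y : T' := ⟨_, hg₀⟩ with hy
  have hyo : orderOf y = 2 := by rw [hy, Subgroup.orderOf_mk]; exact hconjo g₀
  have hyc : y ∉ center T' := hcent g₀ hg₀
  have hyz : y ≠ z := fun h => hzx g₀ (congrArg Subtype.val h)
  have hy1 : y ≠ 1 := Involution.ne_one_of_orderOf hyo
  have hUy : ∀ w ∈ U, w = 1 ∨ w = z ∨ w = y ∨ w = y * z := by
    intro w hw
    rcases hUmem y hgU with e | e | e | e
    · exact absurd e hy1
    · exact absurd e hyz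
    · rw [e]
      rcases hUmem w hw with f | f | f | f
      exacts [Or.inl f, Or.inr (Or.inl f), Or.inr (Or.inr (Or.inl f)),
        Or.inr (Or.inr (Or.inr (f.trans (hzcomm u).eq.symm)))]
    · have hu' : u = y * z := by
        rw [e, (hzcomm u).eq.symm, mul_assoc, Involution.mul_self_of_orderOf hz, mul_one]
      rcases hUmem w hw with f | f | f | f
      exacts [Or.inl f, Or.inr (Or.inl f), Or.inr (Or.inr (Or.inr (f.trans hu'))),
        Or.inr (Or.inr (Or.inl (f.trans e.symm)))]
  have hconjy : ∀ s : T', s * y * s⁻¹ = y ∨ s * y * s⁻¹ = y * z := by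
    intro s
    rcases hUy _ (hUn.conj_mem y hgU s) with e | e | e | e
    · exact absurd (conj_eq_one_iff.mp e) hy1
    · exfalso
      refine hyz ?_
      calc y = s⁻¹ * (s * y * s⁻¹) * s := by group
        _ = z := by rw [e, (hzcomm s⁻¹).eq]; group
    · exact Or.inl e
    · exact Or.inr e
  obtain ⟨s₀, hs₀⟩ : ∃ s : T', ¬ Commute s y := by
    by_contra hall
    push Not at hall
    exact hyc (mem_center_iff.mpr fun s => (hall s).eq)
  have hs₀y : s₀ * y * s₀⁻¹ = y * z :=
    (hconjy s₀).resolve_left fun e => hs₀ (mul_inv_eq_iff_eq_mul.mp e)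
  set M := centralizer ({y} : Set T') with hM
  have hMi : M.index = 2 := by
    rw [index_eq_two_iff']
    refine ⟨s₀, fun g => ?_⟩
    have hne : y * z ≠ y := fun he => Involution.ne_one_of_orderOf hz (by simpa using he)
    rw [mem_centralizer_singleton_iff, mem_centralizer_singleton_iff, ← mul_inv_eq_iff_eq_mul,
      ← mul_inv_eq_iff_eq_mul,
      show s₀ * g * y * (s₀ * g)⁻¹ = s₀ * (g * y * g⁻¹) * s₀⁻¹ by group]
    rcases hconjy g with e | e <;> rw [e]
    · exact Or.inr ⟨rfl, by rw [hs₀y]; exact hne⟩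
    · refine Or.inl ⟨?_, hne⟩
      rw [show s₀ * (y * z) * s₀⁻¹ = (s₀ * y * s₀⁻¹) * (s₀ * z * s₀⁻¹) by group, hs₀y,
        (hzcomm s₀).eq, mul_inv_cancel_right, mul_assoc, Involution.mul_self_of_orderOf hz, mul_one]
  -- conjugates of `z` in `M`
  have hzM : ∀ a : G, ∀ h : a * (z : G) * a⁻¹ ∈ T', (⟨_, h⟩ : T') ∈ M → (⟨_, h⟩ : T') = z := by
    intro a h hm
    have ho : orderOf (⟨_, h⟩ : T') = 2 := by
      rw [Subgroup.orderOf_mk, ← MulAut.conj_apply, MulEquiv.orderOf_eq, hzG]
    rcases hinv g₀ hg₀ _ ho (mem_centralizer_singleton_iff.mp hm) with e | e | e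
    · exact absurd (congrArg Subtype.val e) (hzxc a g₀)
    · exact e
    · refine absurd (congrArg Subtype.val (e.trans hs₀y.symm)) ?_
      intro e'
      apply hzxc a ((s₀ : G) * g₀)
      rw [show a * (z : G) * a⁻¹ = (s₀ : G) * (g₀ * x * g₀⁻¹) * (s₀ : G)⁻¹ from e']
      group
  -- `z` is fused to an involution `t` outside `M`
  obtain ⟨g, hgT, hgne⟩ := H40.exists_fusion hG T hzG z.2
  set t : T' := ⟨_, hgT⟩ with ht
  have hto : orderOf t = 2 := by
    rw [ht, Subgroup.orderOf_mk, ← MulAut.conj_apply, MulEquiv.orderOf_eq]; exact hzG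
  have htM : t ∉ M := fun h => hgne (congrArg Subtype.val (hzM g hgT h))
  -- move `C_T(t)` into `T` by `k` with `k t k⁻¹ = z`
  obtain ⟨k, hkt, hkC⟩ : ∃ k : G, k * (t : G) * k⁻¹ = (z : G) ∧
      ∀ w : T', Commute w t → k * (w : G) * k⁻¹ ∈ T' := by
    set Cz := centralizer ({(z : G)} : Set G) with hCz
    have hTC : T' ≤ Cz := fun s hs => by
      rw [hCz, mem_centralizer_singleton_iff]
      exact congrArg Subtype.val (hzcomm ⟨s, hs⟩).eq
    let φ : ↥(centralizer ({t} : Set T')) →* ↥Cz :=
      ((MulAut.conj g⁻¹).toMonoidHom.comp (T'.subtype.comp (Subgroup.subtype _))).codRestrict Cz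
        fun w => by
          rw [hCz, mem_centralizer_singleton_iff]
          have h1 : (w.1 : G) * (g * (z : G) * g⁻¹) = g * (z : G) * g⁻¹ * (w.1 : G) :=
            congrArg Subtype.val (mem_centralizer_singleton_iff.mp w.2)
          show g⁻¹ * (w.1 : G) * g⁻¹⁻¹ * (z : G) = (z : G) * (g⁻¹ * (w.1 : G) * g⁻¹⁻¹)
          calc g⁻¹ * (w.1 : G) * g⁻¹⁻¹ * (z : G)
              = g⁻¹ * ((w.1 : G) * (g * (z : G) * g⁻¹)) * g⁻¹⁻¹ := by group
            _ = g⁻¹ * (g * (z : G) * g⁻¹ * (w.1 : G)) * g⁻¹⁻¹ := by rw [h1]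
            _ = (z : G) * (g⁻¹ * (w.1 : G) * g⁻¹⁻¹) := by group
    have hφ : IsPGroup 2 φ.range :=
      (hTp.to_subgroup _).of_surjective φ.rangeRestrict φ.rangeRestrict_surjective
    obtain ⟨R, hR⟩ := hφ.exists_le_sylow
    obtain ⟨c, hc⟩ := MulAction.exists_smul_eq ↥Cz R (T.subtype hTC)
    refine ⟨(c : G) * g⁻¹, ?_, fun w hw => ?_⟩
    · have h1 := mem_centralizer_singleton_iff.mp c.2
      rw [show (t : G) = g * (z : G) * g⁻¹ from rfl]
      calc (c : G) * g⁻¹ * (g * (z : G) * g⁻¹) * ((c : G) * g⁻¹)⁻¹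
          = (c : G) * (z : G) * (c : G)⁻¹ := by group
        _ = (z : G) := by rw [h1, mul_inv_cancel_right]
    · have h1 : MulAut.conj c • φ ⟨w, mem_centralizer_singleton_iff.mpr hw.eq⟩ ∈
          ((T.subtype hTC : Sylow 2 Cz) : Subgroup Cz) := by
        rw [← hc, Sylow.coe_subgroup_smul]
        exact smul_mem_pointwise_smul _ _ _ (hR ⟨_, rfl⟩)
      rw [Sylow.coe_subtype, mem_subgroupOf] at h1
      simp only [MulAut.smul_def, MulAut.conj_apply, Subgroup.coe_mul, Subgroup.coe_inv] at h1
      convert h1 using 1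
      show _ = (c : G) * (g⁻¹ * (w : G) * g⁻¹⁻¹) * (c : G)⁻¹
      group
  -- the centralizer of `t` in `M` has exponent two
  have hzt : Commute z t := (hzcomm t).symm
  have hMinv : ∀ e ∈ M, orderOf e = 2 → Commute e t → e = z := by
    intro e he heo het
    rcases hinv g₀ hg₀ e heo (mem_centralizer_singleton_iff.mp he) with f | f | f
    · exact absurd (mem_centralizer_singleton_iff.mpr ((show Commute y t by rw [← show e = y from f]; exact het).symm.eq)) htM
    · exact f
    · refine absurd (mem_centralizer_singleton_iff.mpr (?_ : t * y = y * t)) htM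
      have h2 : Commute (e * z) t := het.mul_left hzt
      rw [f, mul_assoc, Involution.mul_self_of_orderOf hz, mul_one] at h2
      exact h2.symm.eq
  have hMexp : ∀ e ∈ M, Commute e t → e = 1 ∨ e = z := by
    intro e he het
    obtain ⟨j, hj⟩ := IsPGroup.iff_orderOf.mp hTp e
    match j, hj with
    | 0, hj => exact Or.inl (orderOf_eq_one_iff.mp (by simpa using hj))
    | 1, hj => exact Or.inr (hMinv e he (by simpa using hj) het)
    | j + 2, hj =>
      exfalso
      set w := e ^ 2 ^ j with hw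
      have hwo : orderOf w = 4 := by
        rw [hw, orderOf_pow' _ (pow_ne_zero _ two_ne_zero), hj,
          Nat.gcd_eq_right (pow_dvd_pow 2 (by omega)), pow_add,
          Nat.mul_div_cancel_left _ (Nat.two_pow_pos _)]
        norm_num
      have hwM : w ∈ M := pow_mem he _
      have hwt : Commute w t := het.pow_left _
      have hww : w * w = z := hMinv _ (mul_mem hwM hwM) (by
        rw [← sq, orderOf_pow, hwo]; norm_num) (hwt.mul_left hwt)
      have hk1 := hkC w hwt
      have hkz : k * (z : G) * k⁻¹ = k * (w : G) * k⁻¹ * (k * (w : G) * k⁻¹) := by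
        rw [← hww, Subgroup.coe_mul]; group
      have hz' : k * (z : G) * k⁻¹ ∈ T' := hkz ▸ mul_mem hk1 hk1
      have hmem : (⟨_, hz'⟩ : T') ∈ M := by
        rw [show (⟨_, hz'⟩ : T') = (⟨_, hk1⟩ : T') * ⟨_, hk1⟩ from Subtype.ext hkz]
        exact mul_self_mem_of_index_two hMi _
      have h6 : k * (z : G) * k⁻¹ = k * (t : G) * k⁻¹ := by
        rw [hkt]; exact congrArg Subtype.val (hzM k hz' hmem)
      exact hgne (mul_left_cancel (mul_right_cancel h6)).symm
  have hCt : Nat.card (centralizer ({t} : Set T')) = 4 := by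
    classical
    have htt := Involution.mul_self_of_orderOf hto
    have hset : (centralizer ({t} : Set T') : Set T') = {1, z, t, z * t} := by
      ext e
      rw [SetLike.mem_coe, mem_centralizer_singleton_iff]
      constructor
      · intro he
        by_cases heM : e ∈ M
        · rcases hMexp e heM he with f | f
          · exact Or.inl f
          · exact Or.inr (Or.inl f)
        · have h1 : e * t ∈ M := by
            rw [mul_mem_iff_of_index_two hMi]; exact iff_of_false heM htM
          have he' : e = e * t * t := by rw [mul_assoc, htt, mul_one]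
          rcases hMexp _ h1 ((show Commute e t from he).mul_left (Commute.refl t)) with f | f
          · rw [f, one_mul] at he'; exact Or.inr (Or.inr (Or.inl he'))
          · rw [f] at he'; exact Or.inr (Or.inr (Or.inr he'))
      · rintro (rfl | rfl | rfl | rfl)
        · simp
        · exact hzt.eq
        · rfl
        · exact (hzt.mul_left (Commute.refl t)).eq
    have hzM' : z ∈ M := mem_centralizer_singleton_iff.mpr (hzcomm y).symm.eq
    have h1t : t ≠ 1 := Involution.ne_one_of_orderOf hto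
    have h1z : z ≠ 1 := Involution.ne_one_of_orderOf hz
    have hzt' : z ≠ t := fun h => htM (h ▸ hzM')
    have h2 : z * t ≠ 1 := fun h => hzt' (by
      rw [eq_inv_of_mul_eq_one_left h, Involution.inv_of_orderOf hto])
    have h3' : z * t ≠ z := fun h => h1t (by simpa using h)
    have h4 : z * t ≠ t := fun h => h1z (by simpa using h)
    rw [show Nat.card (centralizer ({t} : Set T')) =
      Nat.card ↥(centralizer ({t} : Set T') : Set T') from rfl, hset, Nat.card_coe_set_eq]
    rw [Set.ncard_insert_of_notMem (by simp [Ne.symm h1t, Ne.symm h1z, Ne.symm h2]),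
      Set.ncard_insert_of_notMem (by simp [hzt', Ne.symm h3']),
      Set.ncard_pair (Ne.symm h4)]
  have h8 : 4 < Nat.card T' := by
    classical
    have h1 := M.card_mul_index
    rw [hMi] at h1
    have h2 : Nat.card ({1, z, y} : Finset T') ≤ Nat.card M := Nat.card_le_card_of_injective
      (fun w => ⟨(w : T'), by
        have h3 := w.2
        simp only [Finset.mem_insert, Finset.mem_singleton] at h3
        rw [hM, mem_centralizer_singleton_iff]
        rcases h3 with e | e | e <;> rw [e]
        · simp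
        · exact (hzcomm y).symm.eq⟩)
      (fun a b hab => Subtype.ext (congrArg (fun q : M => (q : T')) hab))
    have h3 : ({1, z, y} : Finset T').card = 3 := by
      simp [Ne.symm (Involution.ne_one_of_orderOf hz), Ne.symm hy1, Ne.symm hyz]
    rw [Nat.card_eq_finsetCard, h3] at h2
    omega
  obtain ⟨r, hr, -⟩ := InvChar68.exists_cyclic_index_two (Nat.card T') le_rfl hTp hto hCt h8
  obtain ⟨a, haT, har⟩ := H40.exists_conj_mem hG T (zpowers r) hr hx
  refine hcent a haT (mem_center_iff.mpr fun s => ?_)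
  haveI : (zpowers r).Normal := normal_of_index_eq_two hr
  set v : T' := ⟨_, haT⟩
  have hvo : orderOf v = 2 := by
    rw [Subgroup.orderOf_mk]; exact hconjo a
  by_contra hsv
  have hv' : orderOf (s * v * s⁻¹) = 2 := by
    rw [← MulAut.conj_apply, MulEquiv.orderOf_eq, hvo]
  have hne : s * v * s⁻¹ ≠ v := fun h => hsv (mul_inv_eq_iff_eq_mul.mp h)
  classical
  haveI := Fintype.ofFinite ↥(zpowers r)
  have h2 := IsCyclic.card_pow_eq_one_le (α := ↥(zpowers r)) (n := 2) two_pos
  have h3 : ({1, ⟨v, har⟩, ⟨_, Normal.conj_mem inferInstance v har s⟩} : Finset ↥(zpowers r)) ⊆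
      Finset.univ.filter fun q : ↥(zpowers r) => q ^ 2 = 1 := by
    intro q hq
    simp only [Finset.mem_insert, Finset.mem_singleton] at hq
    rw [Finset.mem_filter]
    refine ⟨Finset.mem_univ _, Subtype.ext ?_⟩
    rcases hq with rfl | rfl | rfl
    · simp
    · simpa [sq] using Involution.mul_self_of_orderOf hvo
    · simpa [sq] using Involution.mul_self_of_orderOf hv'
  have h4 := (Finset.card_le_card h3).trans h2
  have h5 : ({1, ⟨v, har⟩, ⟨_, Normal.conj_mem inferInstance v har s⟩} :
      Finset ↥(zpowers r)).card = 3 := by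
    simp [Subtype.ext_iff, Ne.symm (Involution.ne_one_of_orderOf hvo),
      Ne.symm (Involution.ne_one_of_orderOf hv'), Ne.symm hne]
  omega

theorem one_class (hG : ¬ IsMulCommutative G) {x : G} (hx : orderOf x = 2) (h3 : Three x)
    {S : Sylow 2 G} (hS : (S : Subgroup G) ≤ centralizer ({x} : Set G)) (u : G)
    (hu : orderOf u = 2) : IsConj x u := by
  haveI : Fact (Nat.Prime 2) := ⟨Nat.prime_two⟩
  have hSc : ∀ s ∈ S, Commute s x := fun s hs => mem_centralizer_singleton_iff.mp (hS hs)
  obtain ⟨c, hc⟩ := ZStar.isPGroup_two_of_le_sylow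
    (IsPGroup.of_card (n := 1) (by rw [Nat.card_zpowers, hu]; norm_num) : IsPGroup 2 (zpowers u)) S
  have hcu := hc u (mem_zpowers u)
  refine IsConj.trans ?_ (isConj_iff.mpr ⟨c, rfl⟩).symm
  set v := c * u * c⁻¹ with hv
  have hvo : orderOf v = 2 := by rw [hv, ← MulAut.conj_apply, MulEquiv.orderOf_eq, hu]
  by_cases hvx : v = x
  · rw [hvx]
  have hxS : x ∈ S := by
    have hp : IsPGroup 2 (zpowers x) :=
      IsPGroup.of_card (n := 1) (by rw [Nat.card_zpowers, hx]; norm_num)
    have hsup : IsPGroup 2 ↥((S : Subgroup G) ⊔ zpowers x) :=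
      S.isPGroup'.to_sup_of_normal_left' hp (fun w hw => by
        obtain ⟨i, rfl⟩ := hw
        rw [mem_normalizer_iff]
        intro q
        constructor
        · intro hq
          rwa [← ((hSc q hq).zpow_right i).eq, mul_inv_cancel_right]
        · intro hq
          have h1 := ((hSc _ hq).zpow_right i).eq
          rw [show x ^ i * q * (x ^ i)⁻¹ * x ^ i = x ^ i * q by group] at h1
          have h2 := mul_left_cancel h1
          rwa [← h2] at hq)
    have hm : x ∈ (S : Subgroup G) ⊔ zpowers x := mem_sup_right (mem_zpowers x)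
    rw [S.is_maximal' hsup le_sup_left] at hm
    exact hm
  obtain ⟨g, hgS, hgne⟩ := H40.exists_fusion hG S hx hxS
  set a := g * x * g⁻¹ with ha
  have hao : orderOf a = 2 := by rw [ha, ← MulAut.conj_apply, MulEquiv.orderOf_eq, hx]
  rcases h3 a v hao hvo (hSc a hgS) (hSc v hcu) hgne hvx with e | e
  · exact e ▸ isConj_iff.mpr ⟨g, rfl⟩
  obtain ⟨f, hfS, hfne⟩ := H40.exists_fusion hG S hvo hcu
  set b := f * v * f⁻¹ with hb
  have hbo : orderOf b = 2 := by rw [hb, ← MulAut.conj_apply, MulEquiv.orderOf_eq, hvo]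
  by_cases hbx : b = x
  · exact (isConj_iff.mpr ⟨f, hb.symm.trans hbx⟩).symm
  rcases h3 a b hao hbo (hSc a hgS) (hSc b hfS) hgne hbx with e' | e'
  · exact (isConj_iff.mpr ⟨g, e'.symm⟩).trans (isConj_iff.mpr ⟨f, rfl⟩).symm
  · exact absurd (e'.trans e.symm) hfne

/-- Let G be a finite simple group and x an involution of G whose centralizer contains at most three involutions. Then C_G(x) contains a Sylow 2-subgroup of G, and all involutions of G are conjugate. -/
theorem result {G : Type*} [Group G] [Finite G] [IsSimpleGroup G] (x : G) (hx : orderOf x = 2)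
    (h3 : Nat.card {u : ↥(Subgroup.centralizer ({x} : Set G)) // orderOf u = 2} ≤ 3) :
    (∃ S : Sylow 2 G, (S : Subgroup G) ≤ Subgroup.centralizer ({x} : Set G)) ∧
      ∀ u v : G, orderOf u = 2 → orderOf v = 2 → IsConj u v := by
  by_cases hG : IsMulCommutative G
  · have hcomm : ∀ a b : G, a * b = b * a := hG.is_comm.comm
    obtain ⟨S⟩ := (inferInstance : Nonempty (Sylow 2 G))
    refine ⟨⟨S, fun s _ => mem_centralizer_singleton_iff.mpr (hcomm s x)⟩, ?_⟩
    haveI : (zpowers x).Normal := ⟨fun a ha g => by rwa [hcomm g a, mul_inv_cancel_right]⟩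
    have hbt := IsSimpleGroup.eq_bot_or_eq_top_of_normal (zpowers x) inferInstance
    have htop : zpowers x = ⊤ := hbt.resolve_left fun h => by
      rw [zpowers_eq_bot] at h
      exact Involution.ne_one_of_orderOf hx h
    have hall : ∀ u : G, orderOf u = 2 → u = x := by
      intro u hu
      obtain ⟨i, rfl⟩ := mem_zpowers_iff.mp (htop ▸ mem_top u : u ∈ zpowers x)
      rcases Int.even_or_odd i with ⟨j, rfl⟩ | ⟨j, rfl⟩
      · rw [← two_mul, zpow_mul, zpow_two, Involution.mul_self_of_orderOf hx, one_zpow,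
          orderOf_one] at hu
        omega
      · rw [zpow_add, zpow_mul, zpow_two, Involution.mul_self_of_orderOf hx, one_zpow, zpow_one,
          one_mul]
    intro u v hu hv
    rw [hall u hu, hall v hv]
  · have h := three_of_card hx h3
    obtain ⟨S, hS⟩ := centralized_by_sylow hG hx h
    exact ⟨⟨S, hS⟩, fun u v hu hv =>
      (one_class hG hx h hS u hu).symm.trans (one_class hG hx h hS v hv)⟩

end Cfsg.Agent.S3279
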