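import Cfsg.Statements.S4477
import Cfsg.Agent.S0158
import Cfsg.Agent.S0159
import Cfsg.Agent.Lib.CharCore.Linear
import Cfsg.Agent.Lib.CharClifford.Central
import Mathlib.GroupTheory.Nilpotent
import Mathlib.GroupTheory.SpecificGroups.Cyclic

set_option autoImplicit false
open Cfsg

namespace Cfsg.Agent.S4477

open scoped ComplexConjugate
open Cfsg.Agent.CharCore

theorem isCyclic_of_isCyclic_abelianization {G : Type*} [Group G] [Finite G] {p : ℕ}
    [Fact p.Prime] (hG : IsPGroup p G) (h : IsCyclic (Abelianization G)) : IsCyclic G := by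
  haveI := hG.isNilpotent
  obtain ⟨a, ha⟩ := h.exists_generator
  obtain ⟨g, rfl⟩ := QuotientGroup.mk_surjective a
  refine ⟨g, ?_⟩
  by_contra hne
  have hne' : Subgroup.zpowers g ≠ ⊤ := fun h => hne fun x => (by rw [h]; exact Subgroup.mem_top x : x ∈ Subgroup.zpowers g)
  obtain ⟨M, hM, hgM⟩ := (eq_top_or_exists_le_coatom (Subgroup.zpowers g)).resolve_left hne'
  haveI := Subgroup.NormalizerCondition.normal_of_coatom _ (Group.normalizerCondition_of_isNilpotent (G := G)) hM
  obtain ⟨x, -, hx⟩ := SetLike.exists_of_lt (lt_top_iff_ne_top.mpr hM.1)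
  have hsup : M ⊔ Subgroup.zpowers x = ⊤ :=
    hM.2 _ (left_lt_sup.mpr fun h => hx (h (Subgroup.mem_zpowers x)))
  have hcomm : commutator G ≤ M := by
    haveI : IsCyclic (G ⧸ M) := by
      refine ⟨(x : G ⧸ M), fun q => ?_⟩
      obtain ⟨y, rfl⟩ := QuotientGroup.mk_surjective q
      obtain ⟨m, hm, z, hz, rfl⟩ := Subgroup.mem_sup_of_normal_left.mp
        (hsup ▸ Subgroup.mem_top y)
      obtain ⟨i, rfl⟩ := Subgroup.mem_zpowers_iff.mp hz
      exact ⟨i, by simp [QuotientGroup.eq_one_iff m |>.mpr hm]⟩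
    exact Subgroup.Normal.quotient_commutative_iff_commutator_le.mp ⟨⟨mul_comm'⟩⟩
  apply hM.1
  rw [eq_top_iff]
  intro y _
  obtain ⟨i, hi⟩ := Subgroup.mem_zpowers_iff.mp (ha (Abelianization.of y))
  have : (g ^ i)⁻¹ * y ∈ commutator G := QuotientGroup.eq.mp hi
  rw [← mul_inv_cancel_left (g ^ i) y]
  exact mul_mem (hgM (Subgroup.zpow_mem_zpowers g i)) (hcomm this)

theorem four_dvd_of_not_isCyclic {A : Type*} [CommGroup A] [Finite A] (k : ℕ)
    (hA : Nat.card A = 2 ^ k) (h : ¬ IsCyclic A) :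
    4 ∣ Nat.card A ∧ 4 ∣ Nat.card {a : A // a ^ 2 = 1} := by
  classical
  haveI := Fintype.ofFinite A
  let K : ℕ → Subgroup A := fun j => (powMonoidHom (2 ^ j) : A →* A).ker
  have hmem : ∀ j a, a ∈ K j ↔ a ^ 2 ^ j = 1 := fun _ _ => Iff.rfl
  have hK2 : ¬ Nat.card (K 1) ≤ 2 := by
    intro hle
    apply h
    have hKj : ∀ j, Nat.card (K j) ≤ 2 ^ j := by
      intro j
      induction j with
      | zero =>
        rw [show K 0 = ⊥ from (Subgroup.eq_bot_iff_forall _).mpr fun a ha => by
          simpa [hmem] using ha]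
        simp
      | succ j ih =>
        let f : K (j + 1) →* K j := ((powMonoidHom 2 : A →* A).comp (K (j + 1)).subtype).codRestrict
          (K j) fun x => by
            rw [hmem]
            show ((x : A) ^ 2) ^ 2 ^ j = 1
            rw [← pow_mul, ← pow_succ']
            exact x.2
        have hker : Nat.card f.ker ≤ Nat.card (K 1) :=
          Nat.card_le_card_of_injective (fun x => ⟨((x : K (j + 1)) : A), by
            rw [hmem, pow_one]
            exact congrArg Subtype.val (MonoidHom.mem_ker.mp x.2)⟩)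
            fun a b hab => Subtype.ext (Subtype.ext (congrArg Subtype.val hab :))
        calc Nat.card (K (j + 1)) = f.ker.index * Nat.card f.ker :=
              (Subgroup.index_mul_card _).symm
          _ ≤ 2 ^ j * 2 := Nat.mul_le_mul (by
              rw [Subgroup.index_ker]
              exact (Subgroup.card_le_card_group _).trans ih) (hker.trans hle)
          _ = 2 ^ (j + 1) := (pow_succ _ _).symm
    refine isCyclic_of_card_pow_eq_one_le fun n hn => ?_
    obtain ⟨j, -, hj⟩ := (Nat.dvd_prime_pow Nat.prime_two).mp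
      (Nat.gcd_dvd_right n (2 ^ k))
    refine le_trans (le_trans ?_ (hKj j))
      (hj ▸ Nat.le_of_dvd hn (Nat.gcd_dvd_left _ _))
    rw [Nat.card_eq_fintype_card, ← Fintype.card_subtype]
    refine le_of_eq (Fintype.card_congr (Equiv.subtypeEquivRight fun a => ?_))
    rw [hmem, ← hj, pow_gcd_eq_one]
    exact ⟨fun ha => ⟨ha, hA ▸ pow_card_eq_one'⟩, fun ha => ha.1⟩
  obtain ⟨j, hjk, hj⟩ := (Nat.dvd_prime_pow Nat.prime_two).mp (hA ▸ (K 1).card_subgroup_dvd_card)
  have h2j : 2 ≤ j := by
    by_contra hlt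
    apply hK2
    rw [hj]
    interval_cases j <;> norm_num
  have he : Nat.card {a : A // a ^ 2 = 1} = Nat.card (K 1) :=
    Nat.card_congr (Equiv.subtypeEquivRight fun a => by rw [hmem, pow_one])
  exact ⟨hA ▸ pow_dvd_pow 2 (h2j.trans hjk : 2 ≤ k), he ▸ hj ▸ pow_dvd_pow 2 h2j⟩

/-- Let G be a finite 2-group whose number of involutions is congruent to 1 modulo 4. Then G is cyclic or its commutator subgroup has index 4. -/
theorem result {G : Type*} [Group G] [Finite G] (hG : IsPGroup 2 G) (ht : Nat.card {x : G // orderOf x = 2} % 4 = 1) : IsCyclic G ∨ (commutator G).index = 4 := by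
  classical
  haveI := Fintype.ofFinite G
  haveI : Fact (Nat.Prime 2) := ⟨Nat.prime_two⟩
  obtain ⟨N, hN⟩ := IsPGroup.iff_card.mp hG
  set I := (commutator G).index with hI
  obtain ⟨k, -, hk⟩ := (Nat.dvd_prime_pow Nat.prime_two).mp (hN ▸ (commutator G).index_dvd_card)
  by_cases hcyc : IsCyclic G
  · exact Or.inl hcyc
  refine Or.inr ?_
  -- the abelianisation is not cyclic
  have hA : ¬ IsCyclic (Abelianization G) := fun h => hcyc (isCyclic_of_isCyclic_abelianization hG h)
  haveI : Finite (Abelianization G) :=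
    Finite.of_surjective _ (QuotientGroup.mk_surjective (s := commutator G))
  haveI : NeZero ((Monoid.exponent (Abelianization G) : ℕ) : ℂ) :=
    ⟨by exact_mod_cast Monoid.exponent_ne_zero_of_finite⟩
  have hAcard : Nat.card (Abelianization G) = 2 ^ k := hk
  obtain ⟨hA4, hAtor⟩ := four_dvd_of_not_isCyclic k hAcard hA
  rw [show I = 2 ^ k from hk]
  -- suppose the index is at least 8
  rcases Nat.lt_or_ge k 3 with hk3 | hk3
  · rcases (Nat.dvd_prime_pow Nat.prime_two).mp (hAcard ▸ hA4 : 4 ∣ 2 ^ k) with ⟨j, hj, hj4⟩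
    have : j = 2 := Nat.pow_right_injective (le_refl 2) (show 2 ^ j = 2 ^ 2 by rw [← hj4])
    rw [show k = 2 by omega]
    norm_num
  exfalso
  choose d hd0 hddvd hd using fun χ : IrrCharacter G => CharClifford.exists_degree_dvd_card χ.2
  have hd2 : ∀ χ, d χ = 1 ∨ d χ = 2 ∨ 4 ∣ d χ := fun χ => by
    obtain ⟨j, -, hj⟩ := (Nat.dvd_prime_pow Nat.prime_two).mp (hN ▸ hddvd χ)
    rw [hj]
    match j with
    | 0 => exact Or.inl rfl
    | 1 => exact Or.inr (Or.inl rfl)
    | j + 2 => exact Or.inr (Or.inr ⟨2 ^ j, by ring⟩)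
  have hlin : (Finset.univ.filter fun χ => d χ = 1).card = 2 ^ k := by
    rw [← hk, ← card_linearCharacters, Nat.card_eq_fintype_card, Fintype.card_subtype]
    congr 1
    ext χ
    simp [hd χ]
  -- the number of characters of degree two is even
  have ha2 : (2 : ZMod 4) * ((Finset.univ.filter fun χ => d χ = 2).card : ZMod 4) = 0 := by
    have hsq : ((∑ χ, d χ ^ 2 : ℕ) : ℂ) = (2 ^ N : ℕ) := by
      rw [← hN, ← sum_degree_sq, Nat.cast_sum]
      exact Finset.sum_congr rfl fun χ _ => by rw [hd χ]; push_cast; rfl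
    have h8 : ((2 ^ N : ℕ) : ZMod 8) = 0 ∧ ((2 ^ k : ℕ) : ZMod 8) = 0 := by
      constructor <;> rw [ZMod.natCast_eq_zero_iff]
      · exact (pow_dvd_pow 2 hk3).trans (hN ▸ hk ▸ (commutator G).index_dvd_card)
      · exact pow_dvd_pow 2 hk3
    have hterm : ∀ χ, ((d χ ^ 2 : ℕ) : ZMod 8) =
        (if d χ = 1 then 1 else 0) + (if d χ = 2 then 4 else 0) := by
      intro χ
      rcases hd2 χ with h | h | ⟨t, ht⟩
      · simp [h]
      · simp [h]
      · rw [if_neg (by omega), if_neg (by omega), add_zero, ht,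
          ZMod.natCast_eq_zero_iff]
        exact ⟨2 * t ^ 2, by ring⟩
    have h := congrArg (fun m : ℕ => (m : ZMod 8)) (Nat.cast_injective hsq)
    simp only [Nat.cast_sum, hterm, Finset.sum_add_distrib, h8.1] at h
    rw [Finset.sum_boole, hlin, h8.2, zero_add, ← Finset.sum_filter, Finset.sum_const,
      nsmul_eq_mul] at h
    set a := (Finset.univ.filter fun χ => d χ = 2).card
    have h' : ((a * 4 : ℕ) : ZMod 8) = 0 := by push_cast; exact h
    rw [ZMod.natCast_eq_zero_iff] at h'
    have h2a : ((2 * a : ℕ) : ZMod 4) = 0 := by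
      rw [ZMod.natCast_eq_zero_iff]; omega
    push_cast at h2a
    exact h2a
  -- the indicators
  let ν : IrrCharacter G → ℂ := fun χ => (Nat.card G : ℂ)⁻¹ * ∑ s : G, (χ : G → ℂ) (s * s)
  let R : IrrCharacter G → Prop := fun χ => ∀ g, conj ((χ : G → ℂ) g) = (χ : G → ℂ) g
  have hν : ∀ χ, (ν χ = 0 ∨ ν χ = 1 ∨ ν χ = -1) ∧ (ν χ = 0 ↔ ¬ R χ) := by
    rintro ⟨χ, n, ρ, hρ, rfl⟩
    haveI := hρ
    refine ⟨(Cfsg.Agent.S0158.result ρ).1, (Cfsg.Agent.S0158.result ρ).2.trans ?_⟩
    simp only [R, not_forall, Complex.conj_eq_iff_im]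
  have hνlin : ∀ χ, d χ = 1 → R χ → ν χ = 1 := by
    intro χ h1 hR
    obtain ⟨f, hf⟩ := IsCharacter.exists_hom_of_degree_one (irr_isCharacter χ)
      (by rw [hd χ, h1, Nat.cast_one])
    have hsq : ∀ s, (χ : G → ℂ) (s * s) = 1 := fun s => by
      simp only [hf]
      have hn := norm_hom_apply f s
      have hr : conj (f s : ℂ) = (f s : ℂ) := by simpa [hf] using hR s
      rw [map_mul, Units.val_mul]
      calc (f s : ℂ) * (f s : ℂ) = (f s : ℂ) * conj (f s : ℂ) := by rw [hr]
        _ = 1 := by rw [Complex.mul_conj, Complex.normSq_eq_norm_sq, hn]; simp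
    show (Nat.card G : ℂ)⁻¹ * _ = 1
    simp only [hsq, Finset.sum_const, Finset.card_univ, nsmul_eq_mul, mul_one]
    rw [Fintype.card_eq_nat_card, inv_mul_cancel₀ (Nat.cast_ne_zero.2 Nat.card_pos.ne')]
  let ε : IrrCharacter G → ℤ := fun χ => if ν χ = 1 then 1 else if ν χ = -1 then -1 else 0
  have hε : ∀ χ, ν χ = (ε χ : ℂ) := fun χ => by
    rcases (hν χ).1 with h | h | h <;> simp [ε, h]
  have hεd : ∀ χ, ((ε χ * (d χ : ℤ) : ℤ) : ZMod 4) =
      (if d χ = 1 ∧ R χ then 1 else 0) + (if d χ = 2 then 2 else 0) +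
        (if d χ = 2 ∧ ¬ R χ then 2 else 0) := by
    intro χ
    rcases hd2 χ with h | h | ⟨t, ht⟩
    · by_cases hR : R χ
      · simp [ε, h, hR, hνlin χ h hR]
      · simp [ε, h, hR, (hν χ).2.2 hR]
    · by_cases hR : R χ
      · rcases (hν χ).1 with h0 | h0 | h0
        · exact absurd hR ((hν χ).2.1 h0)
        · simp [ε, h, hR, h0]
        · simp [ε, h, hR, h0, show (-1 : ℂ) ≠ 1 by norm_num]; decide
      · simp [ε, h, hR, (hν χ).2.2 hR]; decide
    · rw [ht]
      simp only [show 4 * t ≠ 1 by omega, show 4 * t ≠ 2 by omega, false_and, if_false, add_zero]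
      push_cast
      rw [show (4 : ZMod 4) = 0 from rfl]
      ring
  have hpairs : ∑ χ : IrrCharacter G, (if d χ = 2 ∧ ¬ R χ then (2 : ZMod 4) else 0) = 0 := by
    let c : IrrCharacter G → IrrCharacter G := fun χ =>
      ⟨fun g => conj ((χ : G → ℂ) g), isIrrCharacter_star χ.2⟩
    have hcc : ∀ χ, c (c χ) = χ := fun χ => Subtype.ext (funext fun g => Complex.conj_conj _)
    have hdc : ∀ χ, d (c χ) = d χ := fun χ => by
      have h1 := hd (c χ)
      simp only [c] at h1
      rw [hd χ, Complex.conj_natCast] at h1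
      exact_mod_cast h1.symm
    have hRc : ∀ χ, R (c χ) ↔ R χ := fun χ =>
      ⟨fun h g => by simpa [c] using (h g).symm, fun h g => by simp [c, h g]⟩
    refine Finset.sum_involution (fun χ _ => c χ) (fun χ _ => ?_) (fun χ _ h he => ?_)
      (fun χ _ => Finset.mem_univ _) (fun χ _ => hcc χ)
    · simp only [hdc, hRc]
      split_ifs
      · decide
      · simp
    · by_cases hc : d χ = 2 ∧ ¬ R χ
      · exact hc.2 fun g => congrFun (congrArg Subtype.val he) g
      · exact h (if_neg hc)
  -- the real linear characters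
  have hlinR : ((Finset.univ.filter fun χ => d χ = 1 ∧ R χ).card : ZMod 4) = 0 := by
    rw [ZMod.natCast_eq_zero_iff]
    let L : (G →* ℂˣ) ≃* Abelianization G :=
      ({ Abelianization.lift with
          map_mul' := fun f f' => MonoidHom.ext fun a => by
            induction a using QuotientGroup.induction_on with
            | H g => rfl } : (G →* ℂˣ) ≃* (Abelianization G →* ℂˣ)).trans
        (CommGroup.monoidHom_mulEquiv_of_hasEnoughRootsOfUnity (Abelianization G) ℂ).some
    refine dvd_trans hAtor (dvd_of_eq ?_)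
    rw [← Fintype.card_subtype, ← Nat.card_eq_fintype_card]
    refine Nat.card_congr ?_
    refine (L.toEquiv.symm.subtypeEquiv (q := fun f : G →* ℂˣ => f ^ 2 = 1) fun a => ?_).trans
      ((linearEquivHom.subtypeEquiv (q := fun χ => R χ.1) fun f => ?_).trans
        ((Equiv.subtypeSubtypeEquivSubtypeInter _ R).trans (Equiv.subtypeEquivRight fun χ => ?_)))
    · exact (by rw [← map_pow, map_eq_one_iff _ L.symm.injective] :
        a ^ 2 = 1 ↔ (L.symm a) ^ 2 = 1)
    · constructor
      · intro hf g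
        have h := congrArg (fun t : ℂˣ => (t : ℂ)) (DFunLike.congr_fun hf g)
        simp only [MonoidHom.pow_apply, Units.val_pow_eq_pow_val, MonoidHom.one_apply,
          Units.val_one, sq_eq_one_iff] at h
        show conj (f g : ℂ) = (f g : ℂ)
        rcases h with h | h <;> simp [h]
      · intro hR
        refine MonoidHom.ext fun g => Units.ext ?_
        have hr : conj (f g : ℂ) = (f g : ℂ) := hR g
        rw [MonoidHom.pow_apply, Units.val_pow_eq_pow_val, MonoidHom.one_apply, Units.val_one]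
        calc (f g : ℂ) ^ 2 = (f g : ℂ) * conj (f g : ℂ) := by rw [hr, sq]
          _ = 1 := by rw [Complex.mul_conj, Complex.normSq_eq_norm_sq, norm_hom_apply]; simp
    · simp [hd χ]
  -- count the square roots of one
  have hcount := Cfsg.Agent.S0159.result (G := G)
  rw [finsum_irr] at hcount
  have hcZ : (Nat.card {s : G // s * s = 1} : ℤ) = ∑ χ, ε χ * (d χ : ℤ) := by
    apply Int.cast_injective (α := ℂ)
    push_cast
    rw [hcount]
    exact Finset.sum_congr rfl fun χ _ => by rw [← hε χ, hd χ]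
  have h4 := congrArg (fun m : ℤ => (m : ZMod 4)) hcZ
  simp only [Int.cast_sum, hεd, Finset.sum_add_distrib, Int.cast_natCast, hpairs, add_zero] at h4
  rw [Finset.sum_boole, hlinR, zero_add, ← Finset.sum_filter, Finset.sum_const, nsmul_eq_mul,
    mul_comm, ha2] at h4
  have hs : Nat.card {s : G // s * s = 1} = Nat.card {x : G // orderOf x = 2} + 1 := by
    rw [Nat.card_eq_fintype_card, Nat.card_eq_fintype_card, Fintype.card_subtype,
      Fintype.card_subtype, show (Finset.univ.filter fun s : G => s * s = 1) =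
        insert 1 (Finset.univ.filter fun s : G => orderOf s = 2) from ?_,
      Finset.card_insert_of_notMem (by simp)]
    ext s
    simp only [Finset.mem_filter, Finset.mem_univ, true_and, Finset.mem_insert,
      orderOf_eq_prime_iff, sq]
    constructor
    · intro h; by_cases h1 : s = 1
      · exact Or.inl h1
      · exact Or.inr ⟨h, h1⟩
    · rintro (rfl | h)
      · simp
      · exact h.1
  rw [hs, ZMod.natCast_eq_zero_iff] at h4
  omega

end Cfsg.Agent.S4477
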