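import Cfsg.Statements.S3285
import Cfsg.Agent.Blocks88.TwoByAlt.General
import Cfsg.Agent.Blocks88.TwoByAlt.FourIso
import Cfsg.Agent.Blocks88.TwoByAlt.Five
import Cfsg.Agent.S1644

set_option autoImplicit false
open Cfsg

namespace Cfsg.Agent.S3285

open Cfsg.Agent.Blocks88.TwoByAlt

/-- Let G be a finite non-solvable group with no normal subgroup of index 2, and J an involution lying in the centre of a Sylow 2-subgroup of G whose centralizer is the internal direct product of ⟨J⟩ with a subgroup isomorphic to the alternating group of degree m. Then either m = 4 and G is isomorphic to the automorphism group PΓL(2, 8) of PSL(2, 8), or m = 5 and G is isomorphic to the first Janko group. -/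
theorem result {G : Type*} [Group G] [Finite G] (hns : ¬ Group.IsSolvable G) (h2 : ∀ N : Subgroup G, N.Normal → N.index ≠ 2)
    (J : G) (hJ : Cfsg.IsTwoCentralInvolution J) (m : ℕ) (T : Subgroup G)
    (hT : Nonempty (↥T ≃* ↥(alternatingGroup (Fin m))))
    (hd : Cfsg.IsInternalDirectProduct (Subgroup.zpowers J) T (Subgroup.centralizer ({J} : Set G))) :
    (m = 4 ∧ ∃ (F : Type) (_ : Field F) (_ : Fintype F), Fintype.card F = 8 ∧
        Nonempty (G ≃* MulAut (Matrix.ProjectiveSpecialLinearGroup (Fin 2) F))) ∨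
      (m = 5 ∧ Cfsg.Spor.IsoJ1 G) := by
  classical
  obtain ⟨hJ2, S, hJS, hcS⟩ := hJ
  obtain ⟨e⟩ := hT
  have hm : m = 4 ∨ m = 5 :=
    Base.degree ⟨J, T, S, hJ2, hJS, hcS, hd, h2⟩ m e
  have hexp : ∀ (hc : ∀ a : alternatingGroup (Fin m), a * a = 1 → a ≠ 1 → ∀ y, y * a = a * y → y * y = 1),
      ∀ a ∈ T, a * a = 1 → a ≠ 1 → ∀ y ∈ T, y * a = a * y → y * y = 1 := fun hc a ha ha2 ha1 y hy hya => by
    have h := hc (e ⟨a, ha⟩) (by rw [← map_mul, ← map_one e]; exact congrArg e (Subtype.ext ha2))
      (fun h => ha1 (congrArg Subtype.val (e.injective (h.trans (map_one e).symm))))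
      (e ⟨y, hy⟩) (by rw [← map_mul, ← map_mul]; exact congrArg e (Subtype.ext hya))
    rw [← map_mul, ← map_one e] at h
    exact congrArg Subtype.val (e.injective h)
  have hconjT : ∀ (hc : ∀ a : alternatingGroup (Fin m), a * a = 1 → a ≠ 1 →
        ∀ b : alternatingGroup (Fin m), b * b = 1 → b ≠ 1 → ∃ y, y * a * y⁻¹ = b),
      ∀ a ∈ T, a * a = 1 → a ≠ 1 → ∀ b ∈ T, b * b = 1 → b ≠ 1 → ∃ y ∈ T, y * a * y⁻¹ = b :=
    fun hc a ha ha2 ha1 b hb hb2 hb1 => by
    obtain ⟨y, hy⟩ := hc (e ⟨a, ha⟩) (by rw [← map_mul, ← map_one e]; exact congrArg e (Subtype.ext ha2))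
      (fun h => ha1 (congrArg Subtype.val (e.injective (h.trans (map_one e).symm))))
      (e ⟨b, hb⟩) (by rw [← map_mul, ← map_one e]; exact congrArg e (Subtype.ext hb2))
      (fun h => hb1 (congrArg Subtype.val (e.injective (h.trans (map_one e).symm))))
    refine ⟨(e.symm y : T), (e.symm y).2, ?_⟩
    have h := congrArg e.symm hy
    rw [map_mul, map_mul, map_inv, e.symm_apply_apply, e.symm_apply_apply] at h
    exact congrArg Subtype.val h
  rcases hm with rfl | rfl
  · left
    have hcard : Nat.card T = 12 := (Nat.card_congr e.toEquiv).trans ((alt_card 4).1 rfl)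
    set D₀ : Setup G := ⟨J, T, S, hJ2, hJS, hcS, hd, h2, hexp alt4_centralizer_invol,
      hconjT alt4_invol_conj, Or.inl hcard⟩
    refine ⟨rfl, Four.iso ⟨D₀, hcard, ?_, ?_, ?_⟩⟩
    · intro a ha ha2 b hb hb2
      have h := alt4_invol_comm (e ⟨a, ha⟩)
        (by rw [← map_mul, ← map_one e]; exact congrArg e (Subtype.ext ha2)) (e ⟨b, hb⟩)
        (by rw [← map_mul, ← map_one e]; exact congrArg e (Subtype.ext hb2))
      rw [← map_mul, ← map_mul] at h
      exact congrArg Subtype.val (e.injective h)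
    · intro u hu hu3 hu1 y hy
      obtain ⟨h1, h1'⟩ := alt4_three (e ⟨u, hu⟩)
        (by rw [← map_mul, ← map_mul, ← map_one e]; exact congrArg e (Subtype.ext hu3))
        (fun h => hu1 (congrArg Subtype.val (e.injective (h.trans (map_one e).symm)))) (e ⟨y, hy⟩)
      refine ⟨fun h => h1 ?_, fun hc hy2 => ?_⟩
      · rw [← map_inv, ← map_inv, ← map_mul, ← map_mul]
        exact congrArg e (Subtype.ext h)
      · have := h1' (by rw [← map_mul, ← map_mul]; exact congrArg e (Subtype.ext hc))
          (by rw [← map_mul, ← map_one e]; exact congrArg e (Subtype.ext hy2))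
        exact congrArg Subtype.val (e.injective (this.trans (map_one e).symm))
    · exact hns
  · right
    have hcard : Nat.card T = 60 := (Nat.card_congr e.toEquiv).trans ((alt_card 5).2 rfl)
    set D₀ : Setup G := ⟨J, T, S, hJ2, hJS, hcS, hd, h2, hexp alt5_centralizer_invol,
      hconjT alt5_invol_conj, Or.inr hcard⟩
    have : IsSimpleGroup (alternatingGroup (Fin 5)) := alternatingGroup.isSimpleGroup_five
    have : Nontrivial T := e.toEquiv.nontrivial
    let D : Five G := ⟨D₀, hcard, IsSimpleGroup.isSimpleGroup_of_surjective e.symm.toMonoidHom e.symm.surjective⟩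
    have := D.isSimpleGroup
    obtain ⟨e'⟩ := D.centEquiv e
    exact ⟨rfl, Cfsg.Agent.S1644.result S D₀.isMulCommutative_S D₀.card_S J hJ2 e'⟩

end Cfsg.Agent.S3285
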