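import Cfsg.Statements.S3294
import Cfsg.Agent.InvChar68.QuaternionSolvable
import Cfsg.Agent.BGUniq.PLocalBasic

set_option autoImplicit false
open Cfsg

namespace Cfsg.Agent.S3294

/-- A finite solvable group whose Sylow 2-subgroups are generalized quaternion of order at least 32 has a normal 2-complement. -/
theorem result {G : Type*} [Group G] [Finite G] (hsol : Group.IsSolvable G) (T : Sylow 2 G) (n : ℕ) (hn : 3 ≤ n) (hT : Nonempty ((T : Subgroup G) ≃* QuaternionGroup (2 ^ n))) : Cfsg.HasNormalPComplement 2 G := by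
  have : Fact (Nat.Prime 2) := ⟨Nat.prime_two⟩
  obtain ⟨e⟩ := hT
  set O := Cfsg.pPrimeCore 2 G with hO
  have hOn : O.Normal := Thompson.sSup_normal fun N hN => hN.1
  have hcop := Thompson.card_pPrimeCore_coprime (p := 2) (G := G)
  rw [← hO] at hcop
  obtain ⟨r, hr⟩ := IsPGroup.iff_card.mp T.2
  have hdisj : O ⊓ (T : Subgroup G) = ⊥ := by
    rw [inf_comm]
    exact Subgroup.inf_eq_bot_of_coprime (by rw [hr]; exact hcop.symm.pow_left r)
  let π := QuotientGroup.mk' O
  have hπ : Function.Surjective π := QuotientGroup.mk'_surjective O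
  let T' : Sylow 2 (G ⧸ O) := T.mapSurjective hπ
  have hT' : (T' : Subgroup (G ⧸ O)) = (T : Subgroup G).map π := rfl
  have hinj : Function.Injective (π.subgroupMap (T : Subgroup G)) := by
    intro a b hab
    have h : (π a : G ⧸ O) = π b := congrArg Subtype.val hab
    have h' : (a : G)⁻¹ * b ∈ O ⊓ (T : Subgroup G) :=
      Subgroup.mem_inf.mpr ⟨QuotientGroup.eq.mp h, mul_mem (inv_mem a.2) b.2⟩
    rw [hdisj, Subgroup.mem_bot] at h'
    exact Subtype.ext (inv_mul_eq_one.mp h')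
  let eT : (T : Subgroup G) ≃* ((T : Subgroup G).map π : Subgroup (G ⧸ O)) :=
    MulEquiv.ofBijective _ ⟨hinj, MonoidHom.subgroupMap_surjective π _⟩
  have hOb : Cfsg.pPrimeCore 2 (G ⧸ O) = ⊥ := Thompson.pPrimeCore_quotient_pPrimeCore
  have hsolQ : Group.IsSolvable (G ⧸ O) := solvable_of_surjective hπ
  have hC := Thompson.centralizer_pCore_le (BGUniq.isPSolvable_of_isSolvable' 2 (G ⧸ O)) hOb
  set Q := Cfsg.pCore 2 (G ⧸ O) with hQ
  have hQn : Q.Normal := Thompson.sSup_normal fun N hN => hN.1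
  have hQT : Q ≤ (T : Subgroup G).map π := hT' ▸ Thompson.pCore_le_sylow T'
  have hall : ∀ g : G ⧸ O, g ∈ Subgroup.normalizer (Q : Set (G ⧸ O)) := fun g => by
    rw [Subgroup.normalizer_eq_top]; trivial
  have hodd : ∀ g : G ⧸ O, Odd (orderOf g) → g = 1 := by
    intro g hg
    have hcom := InvChar68.commute_of_normal_in_quaternion hn _ (eT.symm.trans e) hQT
      (fun t _ => hall t) (hall g) hg
    have hgQ : g ∈ Q := hC (Subgroup.mem_centralizer_iff.mpr fun q hq => (hcom q hq).eq.symm)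
    obtain ⟨i, hi⟩ := IsPGroup.iff_orderOf.mp (Thompson.isPGroup_pCore (p := 2) (G := G ⧸ O)) ⟨g, hgQ⟩
    rw [Subgroup.orderOf_mk] at hi
    rcases Nat.eq_zero_or_pos i with rfl | h
    · exact orderOf_eq_one_iff.mp (by simpa using hi)
    · rw [hi] at hg
      exact absurd (Nat.even_pow.mpr ⟨even_two, h.ne'⟩) (Nat.not_even_iff_odd.mpr hg)
  have h2 : IsPGroup 2 (G ⧸ O) := by
    rw [IsPGroup.iff_orderOf]
    intro g
    obtain ⟨k, m, hm, hk⟩ := Nat.exists_eq_two_pow_mul_odd (orderOf_pos g).ne'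
    refine ⟨k, ?_⟩
    have hord : orderOf (g ^ 2 ^ k) = m := by
      rw [orderOf_pow' _ (by positivity), hk, Nat.gcd_eq_right (Dvd.intro _ rfl),
        Nat.mul_div_cancel_left _ (by positivity)]
    have h1 := hodd _ (by rw [hord]; exact hm)
    rw [h1, orderOf_one] at hord
    rw [hk, ← hord, mul_one]
  refine ⟨T, O, hOn, ?_⟩
  refine Subgroup.isComplement'_of_card_mul_and_disjoint ?_ (disjoint_iff.mpr hdisj)
  obtain ⟨s, hs⟩ := IsPGroup.iff_card.mp h2
  have hTop : (T' : Subgroup (G ⧸ O)) = ⊤ :=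
    T'.is_maximal' (fun g => by
      obtain ⟨i, hi⟩ := h2 (g : G ⧸ O)
      exact ⟨i, Subtype.ext hi⟩) le_top |>.symm
  have hcard : Nat.card (T : Subgroup G) = Nat.card (G ⧸ O) := by
    rw [Nat.card_congr eT.toEquiv, ← hT', hTop, Subgroup.card_top]
  rw [hcard, Nat.mul_comm]
  exact (Subgroup.card_eq_card_quotient_mul_card_subgroup O).symm

end Cfsg.Agent.S3294
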