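import Cfsg.Statements.S3299
import Cfsg.Agent.ExtraTransfer.Main

set_option autoImplicit false
open Cfsg

namespace Cfsg.Agent.S3299

/-- Let G be a finite group with no nontrivial 2-group quotient (O^2(G) = G), z an involution of G with H = C_G(z), and suppose E = O_2(H) is extraspecial with C_G(E) ≤ E and of order 2^(2n+1) with n ≥ 2. Then E is contained in every normal subgroup of H of index 2. -/
theorem result {G : Type*} [Group G] [Finite G] (hres : Cfsg.pResidual 2 G = ⊤) (z : G) (hz : orderOf z = 2)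
    (E : Subgroup G) (hE : E = (Cfsg.pCore 2 ↥(Subgroup.centralizer ({z} : Set G))).map (Subgroup.centralizer ({z} : Set G)).subtype)
    (hext : Cfsg.IsExtraspecial 2 ↥E) (hcent : Subgroup.centralizer (E : Set G) ≤ E) (n : ℕ) (hn : 2 ≤ n) (hcard : Nat.card ↥E = 2 ^ (2 * n + 1))
    (K : Subgroup G) (hKH : K ≤ Subgroup.centralizer ({z} : Set G))
    (hKn : ∀ h ∈ Subgroup.centralizer ({z} : Set G), K.map (MulAut.conj h).toMonoidHom = K)
    (hKi : K.relIndex (Subgroup.centralizer ({z} : Set G)) = 2) : E ≤ K := by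
  have s := ExtraTransfer.setup_of hz hE hext hcent hn hcard
  set H := Subgroup.centralizer ({z} : Set G)
  have hnorm : (K.subgroupOf H).Normal := by
    refine ⟨fun k hk h => ?_⟩
    have h1 : (h : G) * k * (h : G)⁻¹ ∈ K.map (MulAut.conj (h : G)).toMonoidHom := ⟨k, hk, rfl⟩
    rw [hKn h h.2] at h1
    exact h1
  have hcard2 : Nat.card (↥H ⧸ K.subgroupOf H) = 2 := hKi
  haveI : IsCyclic (↥H ⧸ K.subgroupOf H) := by
    haveI : Fact (Nat.Prime 2) := ⟨Nat.prime_two⟩
    exact isCyclic_of_prime_card hcard2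
  letI := IsCyclic.commGroup (α := ↥H ⧸ K.subgroupOf H)
  have h := ExtraTransfer.le_ker s (QuotientGroup.mk' (K.subgroupOf H))
    (IsPGroup.of_card (n := 1) (by rw [hcard2, pow_one])) hres
  rw [QuotientGroup.ker_mk', Subgroup.subgroupOf_map_subtype] at h
  exact h.trans inf_le_left

end Cfsg.Agent.S3299
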