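import Cfsg.Statements.S3300
import Cfsg.Agent.ExtraTransfer.Vanish
-- import your own Cfsg.Agent.* helpers here

set_option autoImplicit false
set_option linter.style.haveILetI false
open Cfsg

namespace Cfsg.Agent.S3300

/-- Let G be a finite group with no nontrivial 2-group quotient (O^2(G) = G), z an involution of G with H = C_G(z), and suppose E = O_2(H) is extraspecial with C_G(E) ≤ E and of order 2^(2n+1) with n ≥ 3. If H has a normal subgroup of index 2, then z is conjugate in G to an element of E other than z. -/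
theorem result {G : Type*} [Group G] [Finite G] (hres : Cfsg.pResidual 2 G = ⊤) (z : G) (hz : orderOf z = 2)
    (E : Subgroup G) (hE : E = (Cfsg.pCore 2 ↥(Subgroup.centralizer ({z} : Set G))).map (Subgroup.centralizer ({z} : Set G)).subtype)
    (hext : Cfsg.IsExtraspecial 2 ↥E) (hcent : Subgroup.centralizer (E : Set G) ≤ E) (n : ℕ) (hn : 3 ≤ n) (hcard : Nat.card ↥E = 2 ^ (2 * n + 1))
    (K : Subgroup G) (hKH : K ≤ Subgroup.centralizer ({z} : Set G))
    (hKn : ∀ h ∈ Subgroup.centralizer ({z} : Set G), K.map (MulAut.conj h).toMonoidHom = K)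
    (hKi : K.relIndex (Subgroup.centralizer ({z} : Set G)) = 2) :
    ∃ g : G, g * z * g⁻¹ ∈ E ∧ g * z * g⁻¹ ≠ z := by
  classical
  have hn' : 2 ≤ n := by omega
  have s := ExtraTransfer.setup_of hz hE hext hcent hn' hcard
  by_contra hcon
  push Not at hcon
  set H := Subgroup.centralizer ({z} : Set G)
  have hnorm : (K.subgroupOf H).Normal := by
    refine ⟨fun k hk h => ?_⟩
    have h1 : (h : G) * k * (h : G)⁻¹ ∈ K.map (MulAut.conj (h : G)).toMonoidHom := ⟨k, hk, rfl⟩
    rw [hKn h h.2] at h1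
    exact h1
  have hcard2 : Nat.card (↥H ⧸ K.subgroupOf H) = 2 := hKi
  haveI : Fact (Nat.Prime 2) := ⟨Nat.prime_two⟩
  haveI : IsCyclic (↥H ⧸ K.subgroupOf H) := isCyclic_of_prime_card hcard2
  let e := mulEquivOfPrimeCardEq (G' := Multiplicative (ZMod 2)) hcard2
    (by simp [Nat.card_eq_fintype_card])
  have hμ := ExtraTransfer.eq_one_of_index_two s hres
    (e.toMonoidHom.comp (QuotientGroup.mk' (K.subgroupOf H)))
    (Or.inr (by
      rw [hcard]
      calc 32 < 2 ^ 7 := by norm_num
        _ ≤ _ := Nat.pow_le_pow_right (by norm_num) (by omega)))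
    (fun g y hy hyE hyz => (hyz (hy ▸ hcon g (hy ▸ hyE))).elim)
  obtain ⟨q, hq⟩ : ∃ q : ↥H ⧸ K.subgroupOf H, q ≠ 1 := by
    haveI : Nontrivial (↥H ⧸ K.subgroupOf H) := Finite.one_lt_card_iff_nontrivial.1 (by omega)
    exact exists_ne 1
  obtain ⟨h, rfl⟩ := QuotientGroup.mk_surjective q
  exact hq (e.injective ((DFunLike.congr_fun hμ h).trans (map_one e).symm))

end Cfsg.Agent.S3300
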