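import Cfsg.Statements.S3301
import Cfsg.Agent.ExtraTransfer.Vanish
import Cfsg.Agent.ExtraTransfer.Small
-- import your own Cfsg.Agent.* helpers here

set_option autoImplicit false
set_option linter.style.haveILetI false
open Cfsg
open scoped commutatorElement

namespace Cfsg.Agent.S3301

/-- Let G be a finite group with no nontrivial 2-group quotient (O^2(G) = G), z an involution of G with H = C_G(z), and suppose E = O_2(H) is extraspecial with C_G(E) ≤ E. Then the Sylow 2-subgroups of H/[H, H] are elementary abelian: every element of 2-power order of the abelianization of H has order at most 2. -/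
theorem result {G : Type*} [Group G] [Finite G] (hres : Cfsg.pResidual 2 G = ⊤) (z : G) (hz : orderOf z = 2)
    (E : Subgroup G) (hE : E = (Cfsg.pCore 2 ↥(Subgroup.centralizer ({z} : Set G))).map (Subgroup.centralizer ({z} : Set G)).subtype)
    (hext : Cfsg.IsExtraspecial 2 ↥E) (hcent : Subgroup.centralizer (E : Set G) ≤ E) :
    ∀ q : Abelianization ↥(Subgroup.centralizer ({z} : Set G)), (∃ k : ℕ, orderOf q = 2 ^ k) → q ^ 2 = 1 := by
  classical
  haveI : Fact (Nat.Prime 2) := ⟨Nat.prime_two⟩
  let H := Subgroup.centralizer ({z} : Set G)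
  intro q hq
  obtain ⟨h₀, rfl⟩ := QuotientGroup.mk_surjective q
  change ∃ k : ℕ, orderOf (Abelianization.of h₀) = 2 ^ k at hq
  change Abelianization.of h₀ ^ 2 = 1
  by_cases hbig : 8 < Nat.card ↥E
  · have s := ExtraTransfer.setup_of_card hz hE hext hcent hbig
    by_contra hne
    let Aq := Abelianization ↥H
    set sqA : Aq →* ↥(powMonoidHom 2 : Aq →* Aq).range := (powMonoidHom 2 : Aq →* Aq).rangeRestrict with hsqA
    let R := ↥(powMonoidHom 2 : Aq →* Aq).range
    let R2 : Subgroup R := (powMonoidHom 2 : R →* R).range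
    have hRne : R2 ≠ ⊤ := by
      intro htop
      have hsurj : Function.Surjective (powMonoidHom 2 : R →* R) :=
        MonoidHom.range_eq_top.1 htop
      have hinj := Finite.injective_iff_surjective.2 hsurj
      obtain ⟨k, hk⟩ := hq
      have hk2 : 2 ≤ k := by
        by_contra hlt
        refine hne (orderOf_dvd_iff_pow_eq_one.1 ?_)
        rw [hk]
        calc 2 ^ k ∣ 2 ^ 1 := Nat.pow_dvd_pow 2 (by omega)
          _ = 2 := pow_one 2
      let r : R := ⟨Abelianization.of h₀ ^ (2 ^ (k - 1)), Abelianization.of h₀ ^ (2 ^ (k - 2)), by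
        show (Abelianization.of h₀ ^ (2 ^ (k - 2))) ^ 2 = _
        rw [← pow_mul, ← pow_succ, show k - 2 + 1 = k - 1 by omega]⟩
      have hr : (powMonoidHom 2 : R →* R) r = powMonoidHom 2 1 := by
        rw [map_one]
        refine Subtype.ext ?_
        show (Abelianization.of h₀ ^ (2 ^ (k - 1))) ^ 2 = 1
        rw [← pow_mul, ← pow_succ, show k - 1 + 1 = k by omega, ← hk, pow_orderOf_eq_one]
      have h1 : Abelianization.of h₀ ^ (2 ^ (k - 1)) = 1 := congrArg Subtype.val (hinj hr)
      have h2 := orderOf_dvd_of_pow_eq_one h1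
      rw [hk] at h2
      have := Nat.le_of_dvd (by positivity) h2
      have : 2 ^ (k - 1) < 2 ^ k := Nat.pow_lt_pow_right (by norm_num) (by omega)
      omega
    have hpB : IsPGroup 2 (R ⧸ R2) := by
      intro b
      refine ⟨1, ?_⟩
      obtain ⟨b, rfl⟩ := QuotientGroup.mk_surjective b
      rw [← QuotientGroup.mk_pow, QuotientGroup.eq_one_iff]
      exact ⟨b, by simp⟩
    obtain ⟨j, hj⟩ := IsPGroup.iff_card.1 hpB
    have hj0 : j ≠ 0 := by
      intro h0
      rw [h0, pow_zero] at hj
      exact hRne (Subgroup.index_eq_one.1 hj)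
    obtain ⟨M, hM⟩ := Sylow.exists_subgroup_card_pow_prime (G := R ⧸ R2) 2 (n := j - 1)
      (by rw [hj]; exact Nat.pow_dvd_pow 2 (by omega))
    have hM2 : Nat.card ((R ⧸ R2) ⧸ M) = 2 := by
      have := Subgroup.card_eq_card_quotient_mul_card_subgroup M
      rw [hM, hj, show j = j - 1 + 1 by omega, pow_succ, Nat.add_sub_cancel, mul_comm] at this
      exact (mul_right_cancel₀ (by positivity) this).symm
    let e := mulEquivOfPrimeCardEq (G' := Multiplicative (ZMod 2)) hM2
      (by simp [Nat.card_eq_fintype_card])
    let χ : Aq →* Multiplicative (ZMod 2) :=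
      ((e.toMonoidHom.comp (QuotientGroup.mk' M)).comp (QuotientGroup.mk' R2)).comp sqA
    have hχ : ∀ x : Aq, x * x = 1 → χ x = 1 := by
      intro x hx
      have : sqA x = 1 := Subtype.ext (by rw [← pow_two] at hx; exact hx)
      show e (QuotientGroup.mk (QuotientGroup.mk (sqA x))) = 1
      rw [this]
      exact map_one e
    have hμ := ExtraTransfer.eq_one_of_index_two s hres (χ.comp Abelianization.of)
      (Or.inl fun g hm => hχ _ (by
        rw [← map_mul]
        convert map_one (Abelianization.of (G := ↥H))
        refine Subtype.ext ?_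
        change g⁻¹ * z * g * (g⁻¹ * z * g) = 1
        rw [show g⁻¹ * z * g * (g⁻¹ * z * g) = g⁻¹ * (z * z) * g by group, s.z_sq]
        group))
      (by
        intro g y hy hyE hyz hz' k hk hky hm
        refine hχ _ ?_
        have hy1 : y ≠ 1 := fun h => s.z_ne (conj_eq_one_iff.1 (hy.symm.trans h))
        obtain ⟨a, ha, b, hb, hay, hby, hab⟩ := s.exists_comm_eq hyE hy1 hyz
        have hmem : ∀ c : G, c * y = y * c → g⁻¹ * c * g ∈ H := fun c hc =>
          Subgroup.mem_centralizer_singleton_iff.2 (by
            calc g⁻¹ * c * g * z = g⁻¹ * (c * y) * g := by rw [hy]; group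
              _ = g⁻¹ * (y * c) * g := by rw [hc]
              _ = z * (g⁻¹ * c * g) := by rw [hy]; group)
        have hzy : z * y = y * z := s.z_comm hyE
        have hz1 : Abelianization.of (⟨_, hmem z hzy⟩ : H) = 1 := by
          have e1 : (⟨_, hmem z hzy⟩ : H) =
              ⁅(⟨_, hmem a hay⟩ : H), (⟨_, hmem b hby⟩ : H)⁆ := Subtype.ext (by
            change g⁻¹ * z * g = ⁅g⁻¹ * a * g, g⁻¹ * b * g⁆
            rw [← hab, commutatorElement_def, commutatorElement_def]
            group)
          rw [e1, map_commutatorElement, commutatorElement_eq_one_iff_mul_comm, mul_comm]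
        rw [← map_mul]
        rcases s.sq k hk with h | h
        · convert map_one (Abelianization.of (G := ↥H))
          refine Subtype.ext ?_
          change g⁻¹ * k * g * (g⁻¹ * k * g) = 1
          rw [show g⁻¹ * k * g * (g⁻¹ * k * g) = g⁻¹ * (k * k) * g by group, h]
          group
        · convert hz1 using 2
          refine Subtype.ext ?_
          change g⁻¹ * k * g * (g⁻¹ * k * g) = g⁻¹ * z * g
          rw [show g⁻¹ * k * g * (g⁻¹ * k * g) = g⁻¹ * (k * k) * g by group, h])
    have hsurj : Function.Surjective (χ.comp (Abelianization.of (G := ↥H))) := by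
      have hof : Function.Surjective (Abelianization.of (G := ↥H)) := QuotientGroup.mk_surjective
      exact (((e.surjective.comp (QuotientGroup.mk'_surjective M)).comp
        (QuotientGroup.mk'_surjective R2)).comp (MonoidHom.rangeRestrict_surjective _)).comp hof
    obtain ⟨h, hh⟩ := hsurj (Multiplicative.ofAdd 1)
    rw [hμ, MonoidHom.one_apply] at hh
    exact absurd (congrArg Multiplicative.toAdd hh) (by
      rw [toAdd_one, toAdd_ofAdd]
      exact zero_ne_one)
  · -- the core has order eight
    obtain ⟨⟨hp, -, hcomm⟩, hZ⟩ := hext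
    set C := Cfsg.pCore 2 ↥H with hC
    haveI hCn : C.Normal := inferInstance
    let eC : ↥C ≃* ↥E := (Subgroup.equivMapOfInjective C H.subtype (Subgroup.subtype_injective H)).trans
      (MulEquiv.subgroupCongr hE.symm)
    have hnab : ¬ ∀ a b : E, a * b = b * a := by
      intro hab
      have h1 : Subgroup.center ↥E = ⊤ :=
        eq_top_iff.2 fun a _ => Subgroup.mem_center_iff.2 fun b => hab b a
      have h2 : commutator ↥E = ⊥ := by
        rw [commutator_def, Subgroup.commutator_eq_bot_iff_le_centralizer]
        intro a _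
        exact Subgroup.mem_centralizer_iff.2 fun b _ => hab b a
      rw [← hcomm, h2, Subgroup.card_bot] at hZ
      omega
    obtain ⟨k, hk⟩ := IsPGroup.iff_card.1 hp
    have hk3 : k = 3 := by
      rw [hk] at hbig
      have h3 : k ≤ 3 := by
        by_contra hlt
        exact hbig (lt_of_lt_of_le (show 8 < 2 ^ 4 by norm_num)
          (Nat.pow_le_pow_right (by norm_num) (by omega)))
      by_contra hne
      refine hnab fun a b => ?_
      rcases (by omega : k ≤ 1 ∨ k = 2) with h | rfl
      · haveI : IsCyclic ↥E := by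
          interval_cases k
          · rw [pow_zero] at hk
            haveI := (Nat.card_eq_one_iff_unique.1 hk).1
            exact isCyclic_of_subsingleton
          · exact isCyclic_of_prime_card (p := 2) hk
        letI := IsCyclic.commGroup (α := ↥E)
        exact mul_comm a b
      · letI := IsPGroup.commGroupOfCardEqPrimeSq (p := 2) hk
        exact mul_comm a b
    have hCE : Subgroup.centralizer (C : Set ↥H) ≤ C := by
      intro x hx
      have hxE : (x : G) ∈ E := hcent (Subgroup.mem_centralizer_iff.2 fun a ha => by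
        rw [hE] at ha
        obtain ⟨a, ha, rfl⟩ := ha
        exact congrArg Subtype.val (Subgroup.mem_centralizer_iff.1 hx a ha))
      rw [hE] at hxE
      obtain ⟨a, ha, hax⟩ := hxE
      rwa [← Subtype.ext hax]
    have hcenter : Subgroup.center ↥C = (Subgroup.center ↥E).comap eC.toMonoidHom := by
      ext x
      simp only [Subgroup.mem_center_iff, Subgroup.mem_comap, MulEquiv.coe_toMonoidHom]
      constructor
      · intro hx y
        obtain ⟨y, rfl⟩ := eC.surjective y
        rw [← map_mul, ← map_mul, hx]
      · intro hx y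
        exact eC.injective (by rw [map_mul, map_mul, hx])
    have hcommC : commutator ↥C = Subgroup.center ↥C := by
      refine Subgroup.map_injective eC.injective (f := eC.toMonoidHom) ?_
      rw [hcenter, Subgroup.map_comap_eq_self_of_surjective eC.surjective, ← hcomm, commutator_def,
        commutator_def, Subgroup.map_commutator, ← MonoidHom.range_eq_map,
        MonoidHom.range_eq_top.2 eC.surjective]
    have hcardZ : Nat.card (Subgroup.center ↥C) = 2 := by
      rw [← hZ]
      refine Nat.card_congr ⟨fun x => ⟨eC x, ?_⟩, fun x => ⟨eC.symm x, ?_⟩,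
        fun x => Subtype.ext (eC.symm_apply_apply _), fun x => Subtype.ext (eC.apply_symm_apply _)⟩
      · have := x.2
        simp only [hcenter, Subgroup.mem_comap] at this
        exact this
      · simp only [hcenter, Subgroup.mem_comap, MulEquiv.coe_toMonoidHom, MulEquiv.apply_symm_apply]
        exact x.2
    -- replace `h₀` by its 2-part
    obtain ⟨k', hk'⟩ := hq
    obtain ⟨a, m, hm, hn⟩ := Nat.exists_eq_pow_mul_and_not_dvd (orderOf_pos h₀).ne' 2 (by norm_num)
    rcases Nat.eq_zero_or_pos k' with rfl | hk0
    · rw [pow_zero, orderOf_eq_one_iff] at hk'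
      rw [hk', one_pow]
    have hlt : 1 < 2 ^ k' := Nat.one_lt_two_pow (by omega)
    obtain ⟨i, -, hi⟩ := Nat.exists_mul_mod_eq_one_of_coprime
      (Nat.Coprime.pow_right k' (Nat.prime_two.coprime_iff_not_dvd.2 hm).symm) hlt
    set h₁ := h₀ ^ (m * i) with hh₁
    have hof : Abelianization.of h₁ = Abelianization.of h₀ := by
      rw [hh₁, map_pow]
      conv_rhs => rw [← pow_one (Abelianization.of h₀)]
      rw [pow_eq_pow_iff_modEq, hk']
      exact hi.trans (Nat.mod_eq_of_lt hlt).symm
    have h2el : ∃ b : ℕ, orderOf h₁ = 2 ^ b := by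
      have : h₁ ^ (2 ^ a) = 1 := by
        rw [hh₁, ← pow_mul, show m * i * 2 ^ a = 2 ^ a * m * i by ring, ← hn, pow_mul,
          pow_orderOf_eq_one, one_pow]
      obtain ⟨b, -, hb⟩ := (Nat.dvd_prime_pow Nat.prime_two).1 (orderOf_dvd_of_pow_eq_one this)
      exact ⟨b, hb⟩
    rw [← hof]
    exact ExtraTransfer.map_sq_eq_one_of_card_eight Abelianization.of C rfl
      ((Nat.card_congr eC.toEquiv).trans (by rw [hk, hk3]; norm_num)) hcardZ hcommC hCE h₁ h2el

end Cfsg.Agent.S3301
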