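import Cfsg.Statements.S3304
import Cfsg.Agent.GL23Rec.Basic
import Cfsg.Agent.FPFStructure.SolvStruct
import Cfsg.Agent.S0016
import Mathlib.LinearAlgebra.Matrix.GeneralLinearGroup.Card

set_option autoImplicit false
open Cfsg

namespace Cfsg.Agent.S3304

open Subgroup

/-- Commuting involutions in a group of 2-rank at most one are equal. -/
lemma eq_of_rank {M : Type*} [Group M] [Finite M] (h : Cfsg.PRankLE 2 1 M) {a b : M}
    (ha : a * a = 1) (hb : b * b = 1) (ha1 : a ≠ 1) (hb1 : b ≠ 1) (hab : a * b = b * a) : a = b := by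
  classical
  by_contra hne
  set A := closure ({a, b} : Set M) with hA
  have hgen : ∀ x ∈ ({a, b} : Set M), ∀ y ∈ ({a, b} : Set M), x * y = y * x := by
    rintro x (rfl | rfl) y (rfl | rfl) <;> first | rfl | exact hab | exact hab.symm
  haveI hAc : IsMulCommutative ↥A := Subgroup.isMulCommutative_closure hgen
  have hsq : ∀ x ∈ A, x ^ 2 = 1 := by
    intro x hx
    induction hx using Subgroup.closure_induction with
    | mem y hy => rcases hy with rfl | rfl <;> rw [pow_two] <;> assumption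
    | one => simp
    | mul y y' hy hy' ih ih' =>
      have hc : Commute y y' := congrArg Subtype.val (mul_comm' (⟨y, hy⟩ : A) ⟨y', hy'⟩)
      rw [hc.mul_pow, ih, ih', one_mul]
    | inv y _ ih => rw [inv_pow, ih, inv_one]
  have h2 := h A hAc hsq
  haveI : Fintype ↥A := Fintype.ofFinite _
  have h3 : ({1, ⟨a, subset_closure (by simp)⟩, ⟨b, subset_closure (by simp)⟩} : Finset ↥A).card = 3 :=
    Finset.card_eq_three.2 ⟨_, _, _, fun e => ha1 (congrArg Subtype.val e).symm,
      fun e => hb1 (congrArg Subtype.val e).symm, fun e => hne (congrArg Subtype.val e), rfl⟩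
  have h4 := Finset.card_le_univ ({1, ⟨a, subset_closure (by simp)⟩, ⟨b, subset_closure (by simp)⟩} : Finset ↥A)
  rw [h3, ← Nat.card_eq_fintype_card] at h4
  omega

/-- A 2-group in which commuting involutions coincide is cyclic or quaternion. -/
lemma cyclic_or_quaternion {M : Type*} [Group M] [Finite M] (hM : IsPGroup 2 M)
    (h : ∀ a b : M, a * a = 1 → b * b = 1 → a ≠ 1 → b ≠ 1 → a * b = b * a → a = b) :
    IsCyclic M ∨ ∃ n : ℕ, Nonempty (M ≃* QuaternionGroup (2 ^ n)) := by
  haveI : Fact (Nat.Prime 2) := ⟨Nat.prime_two⟩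
  suffices huniq : ∀ H K : Subgroup M, Nat.card H = 2 → Nat.card K = 2 → H = K by
    rcases S0016.result 2 hM huniq with hc | ⟨-, hn⟩
    · exact Or.inl hc
    · exact Or.inr hn
  intro H K hH hK
  haveI : Nontrivial M := by
    obtain ⟨x, hx⟩ := exists_prime_orderOf_dvd_card' (G := H) 2 (by rw [hH])
    refine ⟨(x : M), 1, fun e => ?_⟩
    rw [show x = 1 from Subtype.ext e, orderOf_one] at hx
    norm_num at hx
  haveI := hM.center_nontrivial
  obtain ⟨k, hk0, hk⟩ := (hM.to_subgroup (center M)).nontrivial_iff_card.1 inferInstance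
  obtain ⟨z, hz⟩ := exists_prime_orderOf_dvd_card' (G := center M) 2 (by
    rw [hk]; exact dvd_pow_self 2 hk0.ne')
  have hz1 : (z : M) ≠ 1 := by
    intro e
    rw [show z = 1 from Subtype.ext e, orderOf_one] at hz
    norm_num at hz
  have hz2 : (z : M) * z = 1 := by
    rw [← pow_two, ← SubmonoidClass.coe_pow, ← hz, pow_orderOf_eq_one, Subgroup.coe_one]
  have key : ∀ L : Subgroup M, Nat.card L = 2 → L = zpowers (z : M) := by
    intro L hL
    obtain ⟨x, hx⟩ := exists_prime_orderOf_dvd_card' (G := L) 2 (by rw [hL])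
    have hx1 : (x : M) ≠ 1 := by
      intro e
      rw [show x = 1 from Subtype.ext e, orderOf_one] at hx
      norm_num at hx
    have hx2 : (x : M) * x = 1 := by
      rw [← pow_two, ← SubmonoidClass.coe_pow, ← hx, pow_orderOf_eq_one, Subgroup.coe_one]
    have hxz : (x : M) = z := h _ _ hx2 hz2 hx1 hz1 ((Subgroup.mem_center_iff.1 z.2) x)
    symm
    refine eq_of_le_of_card_ge (zpowers_le.2 (hxz ▸ x.2)) ?_
    rw [hL, Nat.card_zpowers, Subgroup.orderOf_coe, hz]
  rw [key H hH, key K hK]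

/-- In the hypothesis, the 2-core modulo the odd core is cyclic or quaternion. -/
lemma pCore_shape {G : Type*} [Group G] [Finite G] (O : Subgroup G) [O.Normal]
    (hO : (Nat.card O).Coprime 2)
    (hI : ∀ S T : Sylow 2 G, S ≠ T → Cfsg.PRankLE 2 1 ↥((S : Subgroup G) ⊓ (T : Subgroup G)))
    (hnn : ∀ S : Sylow 2 (G ⧸ O), ¬ (S : Subgroup (G ⧸ O)).Normal) :
    IsCyclic ↥(Cfsg.pCore 2 (G ⧸ O)) ∨
      ∃ n : ℕ, Nonempty (↥(Cfsg.pCore 2 (G ⧸ O)) ≃* QuaternionGroup (2 ^ n)) := by
  classical
  haveI : Fact (Nat.Prime 2) := ⟨Nat.prime_two⟩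
  set π := QuotientGroup.mk' O
  have hπ : Function.Surjective π := QuotientGroup.mk'_surjective O
  set P := Cfsg.pCore 2 (G ⧸ O)
  set N := P.comap π with hN
  haveI : N.Normal := Normal.comap inferInstance π
  obtain ⟨R⟩ := (inferInstance : Nonempty (Sylow 2 N))
  set Q0 := (R : Subgroup N).map N.subtype with hQ0
  have hQ02 : IsPGroup 2 ↥Q0 := R.2.map _
  obtain ⟨S, hS⟩ := hQ02.exists_le_sylow
  set Sb := S.mapSurjective hπ with hSb
  -- a second Sylow subgroup containing `Q0`
  obtain ⟨g, hg, hgS⟩ : ∃ g ∈ normalizer (Q0 : Set G),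
      π g ∉ normalizer ((Sb : Subgroup (G ⧸ O)) : Set (G ⧸ O)) := by
    by_contra hcon
    push Not at hcon
    refine hnn Sb (Subgroup.normalizer_eq_top_iff.1 (eq_top_iff.2 ?_))
    intro y _
    obtain ⟨x, rfl⟩ := hπ y
    have hx : x ∈ normalizer (Q0 : Set G) ⊔ N := by
      rw [hQ0, Sylow.normalizer_sup_eq_top R]; exact mem_top x
    obtain ⟨a, ha, b, hb, rfl⟩ :=
      LargeSub.exists_mul_of_mem_sup (B := N) (le_top.trans (Subgroup.normalizer_eq_top_iff.2 (inferInstance : N.Normal)).ge) hx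
    rw [map_mul]
    exact mul_mem (hcon a ha)
      (Subgroup.le_normalizer (Thompson.pCore_le_sylow Sb hb))
  set T := g • S with hT
  have hne : S ≠ T := by
    intro h
    apply hgS
    have h1 : g ∈ normalizer ((S : Subgroup G) : Set G) := Sylow.smul_eq_iff_mem_normalizer.1 h.symm
    rw [Sylow.coe_mapSurjective]
    exact Subgroup.le_normalizer_map π ⟨g, h1, rfl⟩
  have hQT : Q0 ≤ (T : Subgroup G) := by
    intro x hx
    rw [hT, Sylow.coe_subgroup_smul, Subgroup.mem_pointwise_smul_iff_inv_smul_mem]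
    refine hS ?_
    show (MulAut.conj g)⁻¹ x ∈ Q0
    rw [MulAut.conj_inv_apply]
    simpa using (Subgroup.mem_normalizer_iff.1 (inv_mem hg) x).1 hx
  have hrank := hI S T hne
  -- `Q0` is isomorphic to `P`
  let f : ↥Q0 →* ↥P := (π.comp Q0.subtype).codRestrict P (fun x => by
    obtain ⟨y, _, hy⟩ := x.2
    show π (x : G) ∈ P
    rw [← hy]
    exact y.2)
  have hfi : Function.Injective f := by
    refine (injective_iff_map_eq_one f).2 fun x hx => ?_
    have h1 : (x : G) ∈ O := (QuotientGroup.eq_one_iff _).1 (congrArg Subtype.val hx)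
    obtain ⟨k, hk⟩ := hQ02 x
    have h2 : orderOf (x : G) ∣ 2 ^ k :=
      orderOf_dvd_of_pow_eq_one (congrArg Subtype.val hk)
    exact Subtype.ext (orderOf_eq_one_iff.1 (Nat.eq_one_of_dvd_coprimes (hO.symm.pow_left k) h2
      (Subgroup.orderOf_dvd_natCard O h1)))
  have hfs : Function.Surjective f := by
    let ρ : ↥N →* ↥P := π.subgroupComap P
    have hρ : Function.Surjective ρ := π.subgroupComap_surjective_of_surjective P hπ
    have htop : ((R.mapSurjective hρ : Sylow 2 P) : Subgroup P) = ⊤ :=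
      ((R.mapSurjective hρ).3 (IsPGroup.iff_card.2 (by
        obtain ⟨k, hk⟩ := IsPGroup.iff_card.1 (Thompson.isPGroup_pCore (p := 2) (G := G ⧸ O))
        exact ⟨k, by rw [Subgroup.card_top]; exact hk⟩)) le_top).symm
    intro y
    have hy : y ∈ ((R.mapSurjective hρ : Sylow 2 P) : Subgroup P) := htop ▸ mem_top y
    rw [Sylow.coe_mapSurjective] at hy
    obtain ⟨x, hx, rfl⟩ := hy
    exact ⟨⟨(x : G), x, hx, rfl⟩, rfl⟩
  let eQ : ↥Q0 ≃* ↥P := MulEquiv.ofBijective f ⟨hfi, hfs⟩
  refine cyclic_or_quaternion Thompson.isPGroup_pCore fun a b ha hb ha1 hb1 hab => ?_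
  apply eQ.symm.injective
  let ι : ↥Q0 →* ↥((S : Subgroup G) ⊓ (T : Subgroup G)) := Subgroup.inclusion (le_inf hS hQT)
  have hι : Function.Injective ι := Subgroup.inclusion_injective _
  have hj : ∀ x : ↥P, x ≠ 1 → ι (eQ.symm x) ≠ 1 := fun x hx e => hx (by
    apply eQ.symm.injective
    rw [map_one]
    exact hι (e.trans (map_one ι).symm))
  refine hι (eq_of_rank hrank ?_ ?_ (hj a ha1) (hj b hb1) ?_)
  · rw [← map_mul, ← map_mul, ha, map_one, map_one]
  · rw [← map_mul, ← map_mul, hb, map_one, map_one]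
  · rw [← map_mul, ← map_mul, hab, map_mul, map_mul]

lemma perm_four_invert : ∀ τ : Equiv.Perm (Fin 4), τ * τ = 1 →
    (∃ σ : Equiv.Perm (Fin 4), σ * σ * σ = 1 ∧ σ ≠ 1 ∧ τ * σ * τ = σ * σ) ∨
      (∀ r s : Equiv.Perm (Fin 4), (r * τ * r⁻¹) * (s * τ * s⁻¹) = (s * τ * s⁻¹) * (r * τ * r⁻¹)) := by
  decide +kernel

def gI : GL (Fin 2) (ZMod 3) := ⟨!![0, 1; 2, 0], !![0, 2; 1, 0], by decide, by decide⟩
def gC : GL (Fin 2) (ZMod 3) := ⟨!![0, 1; 2, 2], !![2, 2; 1, 0], by decide, by decide⟩
def gT : GL (Fin 2) (ZMod 3) := ⟨!![0, 1; 1, 0], !![0, 1; 1, 0], by decide, by decide⟩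

lemma gl_rel : GL23Rec.Rel gI gC gT :=
  ⟨Units.ext (by decide), Units.ext (by decide), Units.ext (by decide), Units.ext (by decide),
    Units.ext (by decide), Units.ext (by decide), Units.ext (by decide), Units.ext (by decide)⟩

lemma gl_word : ∀ p q : Fin 4 × Fin 2 × Fin 3 × Fin 2,
    ((gI ^ (p.1 : ℕ) * (gC * gI * gC⁻¹) ^ (p.2.1 : ℕ) * gC ^ (p.2.2.1 : ℕ) * gT ^ (p.2.2.2 : ℕ) : GL (Fin 2) (ZMod 3)) : Matrix (Fin 2) (Fin 2) (ZMod 3)) =
      ((gI ^ (q.1 : ℕ) * (gC * gI * gC⁻¹) ^ (q.2.1 : ℕ) * gC ^ (q.2.2.1 : ℕ) * gT ^ (q.2.2.2 : ℕ) : GL (Fin 2) (ZMod 3)) : Matrix (Fin 2) (Fin 2) (ZMod 3)) → p = q := by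
  decide +kernel

lemma card_gl : Nat.card (GL (Fin 2) (ZMod 3)) = 48 := by
  rw [Matrix.card_GL_field]
  simp [Fin.prod_univ_two]

lemma gl_gen : Subgroup.closure ({gI, gC, gT} : Set (GL (Fin 2) (ZMod 3))) = ⊤ := by
  set D := Subgroup.closure ({gI, gC, gT} : Set (GL (Fin 2) (ZMod 3)))
  have hI : gI ∈ D := Subgroup.subset_closure (by simp)
  have hC : gC ∈ D := Subgroup.subset_closure (by simp)
  have hT : gT ∈ D := Subgroup.subset_closure (by simp)
  refine eq_of_le_of_card_ge le_top ?_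
  rw [Subgroup.card_top, card_gl]
  have h := Nat.card_le_card_of_injective
    (fun p : Fin 4 × Fin 2 × Fin 3 × Fin 2 =>
      (⟨gI ^ (p.1 : ℕ) * (gC * gI * gC⁻¹) ^ (p.2.1 : ℕ) * gC ^ (p.2.2.1 : ℕ) * gT ^ (p.2.2.2 : ℕ),
        mul_mem (mul_mem (mul_mem (pow_mem hI _) (pow_mem (mul_mem (mul_mem hC hI) (inv_mem hC)) _))
          (pow_mem hC _)) (pow_mem hT _)⟩ : ↥D))
    (fun p q h => gl_word p q (congrArg (fun x : ↥D => ((x : GL (Fin 2) (ZMod 3)) : Matrix (Fin 2) (Fin 2) (ZMod 3))) h))
  simpa using h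


/-- Let G be a finite solvable group in which the intersection of any two distinct Sylow 2-subgroups has 2-rank at most 1 (contains no Klein four-group). Write Q = G/O(G), O(G) the largest normal subgroup of odd order. Then Q has a normal Sylow 2-subgroup; or Q is isomorphic to GL(2,3); or Q has order 48, centre of order 2 with central quotient isomorphic to the symmetric group of degree 4, and generalized quaternion Sylow 2-subgroups of order 16 (the binary octahedral group). The last two are the two representation groups of the symmetric group of degree 4. -/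
theorem result {G : Type*} [Group G] [Finite G] (hs : Group.IsSolvable G)
    (hI : ∀ S T : Sylow 2 G, S ≠ T → Cfsg.PRankLE 2 1 ↥((S : Subgroup G) ⊓ (T : Subgroup G))) :
    (∃ P : Sylow 2 (G ⧸ Cfsg.oddCore G), (P : Subgroup (G ⧸ Cfsg.oddCore G)).Normal) ∨
    Nonempty ((G ⧸ Cfsg.oddCore G) ≃* GL (Fin 2) (ZMod 3)) ∨
    (Nat.card (G ⧸ Cfsg.oddCore G) = 48 ∧ Nat.card ↥(Subgroup.center (G ⧸ Cfsg.oddCore G)) = 2 ∧
      Nonempty ((G ⧸ Cfsg.oddCore G) ⧸ Subgroup.center (G ⧸ Cfsg.oddCore G) ≃* Equiv.Perm (Fin 4)) ∧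
      ∀ P : Sylow 2 (G ⧸ Cfsg.oddCore G), Nonempty (↥(P : Subgroup (G ⧸ Cfsg.oddCore G)) ≃* QuaternionGroup 4)) := by
  classical
  haveI := Fact.mk Nat.prime_two
  haveI := hs
  haveI : (Cfsg.oddCore G).Normal := inferInstance
  by_cases hnn : ∃ P : Sylow 2 (G ⧸ Cfsg.oddCore G), (P : Subgroup (G ⧸ Cfsg.oddCore G)).Normal
  · exact Or.inl hnn
  right
  push Not at hnn
  have hshape := pCore_shape (Cfsg.oddCore G) Thompson.card_pPrimeCore_coprime hI hnn
  haveI : Group.IsSolvable (G ⧸ Cfsg.oddCore G) := inferInstance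
  have hO : Cfsg.pPrimeCore 2 (G ⧸ Cfsg.oddCore G) = ⊥ := Thompson.pPrimeCore_quotient_pPrimeCore
  set P := Cfsg.pCore 2 (G ⧸ Cfsg.oddCore G) with hP
  have hP2 : IsPGroup 2 ↥P := Thompson.isPGroup_pCore
  have hcent : centralizer (P : Set (G ⧸ Cfsg.oddCore G)) ≤ P :=
    Thompson.centralizer_pCore_le OddLocal44.isPSolvable_of_isSolvable hO
  have hnot2 : ¬ IsPGroup 2 (G ⧸ Cfsg.oddCore G) := by
    intro h2
    obtain ⟨S⟩ := (inferInstance : Nonempty (Sylow 2 (G ⧸ Cfsg.oddCore G)))
    refine hnn S ?_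
    rw [← S.3 (h2.to_subgroup ⊤) le_top]
    infer_instance
  have key : ∃ g : G ⧸ Cfsg.oddCore G, Odd (orderOf g) ∧ (MulAut.conjNormal g : MulAut P) ≠ 1 := by
    by_contra hcon
    push Not at hcon
    have hodd : ∀ g : G ⧸ Cfsg.oddCore G, Odd (orderOf g) → g = 1 := fun g hg => by
      have hgc : g ∈ centralizer (P : Set (G ⧸ Cfsg.oddCore G)) := by
        rw [Subgroup.mem_centralizer_iff]
        intro x hx
        have := congrArg (fun φ : MulAut P => ((φ ⟨x, hx⟩ : P) : G ⧸ Cfsg.oddCore G)) (hcon g hg)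
        simp only [MulAut.conjNormal_apply, MulAut.one_apply] at this
        exact (mul_inv_eq_iff_eq_mul.1 this).symm
      obtain ⟨j, hj⟩ := hP2 ⟨g, hcent hgc⟩
      have h1 : orderOf g ∣ 2 ^ j := orderOf_dvd_of_pow_eq_one (congrArg Subtype.val hj)
      exact orderOf_eq_one_iff.1
        (Nat.eq_one_of_dvd_coprimes ((Nat.coprime_two_left.2 hg).pow_left j) h1 dvd_rfl)
    refine hnot2 fun g => ?_
    obtain ⟨a, m, hm, he⟩ := Nat.exists_eq_two_pow_mul_odd (orderOf_pos g).ne'
    refine ⟨a, hodd _ ?_⟩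
    rw [orderOf_pow' _ (pow_ne_zero _ two_ne_zero), he,
      Nat.gcd_eq_right (dvd_mul_right (2 ^ a) m), Nat.mul_div_cancel_left _ (Nat.two_pow_pos a)]
    exact hm
  obtain ⟨g₀, hg₀, hg₀1⟩ := key
  rcases hshape with hcyc | ⟨k, ⟨e⟩⟩
  · exfalso
    haveI := hcyc
    apply hg₀1
    obtain ⟨j, hj⟩ := hP2.exists_card_eq
    have hd2 : orderOf (MulAut.conjNormal g₀ : MulAut P) ∣ 2 ^ j := by
      refine (_root_.orderOf_dvd_natCard _).trans ?_
      rw [IsCyclic.card_mulAut P, hj]
      rcases j with _ | j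
      · simp
      · rw [Nat.totient_prime_pow_succ Nat.prime_two, show (2 : ℕ) - 1 = 1 from rfl, mul_one]
        exact pow_dvd_pow 2 (Nat.le_succ j)
    exact orderOf_eq_one_iff.1 (Nat.eq_one_of_dvd_coprimes ((Nat.coprime_two_left.2 hg₀).pow_left j)
      hd2 (orderOf_map_dvd _ g₀))
  have hk1 : k = 1 := by
    by_contra hk
    apply hg₀1
    have h1 : (MulAut.congr e) (MulAut.conjNormal g₀ : MulAut P) = 1 :=
      FPFStructure.quat_aut_trivial hk _ (by
        rw [MulEquiv.orderOf_eq]; exact hg₀.of_dvd_nat (orderOf_map_dvd _ g₀))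
    rwa [MulEquiv.map_eq_one_iff] at h1
  subst hk1
  obtain ⟨ι, hι⟩ := FPFStructure.exists_aut_quat_hom
  let θ : (G ⧸ Cfsg.oddCore G) →* MulAut (QuaternionGroup 2) :=
    (MulAut.congr e).toMonoidHom.comp MulAut.conjNormal
  let φ : (G ⧸ Cfsg.oddCore G) →* Equiv.Perm (Fin 4) := ι.comp θ
  let ψ : QuaternionGroup 2 →* (G ⧸ Cfsg.oddCore G) := P.subtype.comp e.symm.toMonoidHom
  have hψi : Function.Injective ψ := P.subtype_injective.comp e.symm.injective
  have hψP : ∀ x, ψ x ∈ P := fun x => (e.symm x).2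
  have hψθ : ∀ g x, ψ (θ g x) = g * ψ x * g⁻¹ := by
    intro g x
    show ((e.symm (e (MulAut.conjNormal g (e.symm x))) : P) : G ⧸ Cfsg.oddCore G) = _
    rw [e.symm_apply_apply, MulAut.conjNormal_apply]
    rfl
  set z := ψ (QuaternionGroup.a 2) with hz
  have hz1 : z ≠ 1 := fun h => FPFStructure.q8_z.2 (hψi (h.trans (map_one ψ).symm))
  have hz2 : z * z = 1 := (map_mul ψ _ _).symm.trans ((congrArg ψ FPFStructure.q8_z.1).trans (map_one ψ))
  -- the kernel
  have hker : φ.ker = zpowers z := by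
    have hθ1 : ∀ x, φ x = 1 ↔ ∀ q, x * ψ q = ψ q * x := by
      intro x
      constructor
      · intro h q
        have h1 : θ x = 1 := hι (h.trans (map_one ι).symm)
        have h2 := hψθ x q
        rw [h1] at h2
        exact mul_inv_eq_iff_eq_mul.1 h2.symm
      · intro h
        show ι (θ x) = 1
        rw [show θ x = 1 from MulEquiv.ext fun q => hψi (by
          rw [hψθ, h q, mul_inv_cancel_right]; rfl), map_one]
    refine le_antisymm (fun x hx => ?_) (zpowers_le.2 ?_)
    · have hx' := (hθ1 x).1 hx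
      have hxP : x ∈ P := hcent (mem_centralizer_iff.2 fun y hy => by
        have := hx' (e ⟨y, hy⟩)
        rw [show ψ (e ⟨y, hy⟩) = y by
          show ((e.symm (e ⟨y, hy⟩) : P) : G ⧸ Cfsg.oddCore G) = y
          rw [e.symm_apply_apply]] at this
        exact this.symm)
      have hψx : ψ (e ⟨x, hxP⟩) = x := by
        show ((e.symm (e ⟨x, hxP⟩) : P) : G ⧸ Cfsg.oddCore G) = x
        rw [e.symm_apply_apply]
      rcases FPFStructure.q8_center (e ⟨x, hxP⟩) (fun y => hψi (by
        rw [map_mul, map_mul, hψx]; exact (hx' y).symm)) with h | h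
      · rw [h, map_one] at hψx
        rw [← hψx]; exact one_mem _
      · rw [h] at hψx
        rw [hz]
        exact hψx ▸ mem_zpowers _
    · refine MonoidHom.mem_ker.2 ((hθ1 z).2 fun q => ?_)
      have hc : ∀ y : QuaternionGroup 2, (QuaternionGroup.a 2 : QuaternionGroup 2) * y = y * QuaternionGroup.a 2 := by
        decide +kernel
      exact (map_mul ψ _ _).symm.trans ((congrArg ψ (hc q)).trans (map_mul ψ _ _))
  have hkcard : Nat.card φ.ker = 2 := by
    rw [hker, Nat.card_zpowers, orderOf_eq_prime (by rw [pow_two]; exact hz2) hz1]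
  have hPcard : Nat.card P = 8 := by
    rw [Nat.card_congr e.toEquiv, Nat.card_eq_fintype_card, QuaternionGroup.card]; norm_num
  have hHcard : Nat.card (G ⧸ Cfsg.oddCore G) = 2 * Nat.card φ.range := by
    rw [← φ.ker.card_mul_index, hkcard, Subgroup.index_ker]
  have hr24 : Nat.card φ.range ∣ 24 := by
    have := φ.range.card_subgroup_dvd_card
    rwa [Nat.card_perm, Nat.card_fin, show Nat.factorial 4 = 24 from rfl] at this
  have h8 : 8 ∣ Nat.card (G ⧸ Cfsg.oddCore G) := hPcard ▸ P.card_subgroup_dvd_card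
  have hsurj : Function.Surjective φ := by
    rw [← MonoidHom.range_eq_top]
    by_contra hne
    have hlt : Nat.card φ.range ≠ 24 := fun h => hne (eq_top_of_card_eq _ (by
      rw [h, Nat.card_perm, Nat.card_fin]; rfl))
    have h4 : 4 ∣ Nat.card φ.range := by omega
    have hcases : Nat.card φ.range = 4 ∨ Nat.card φ.range = 8 ∨ Nat.card φ.range = 12 := by
      have := Nat.le_of_dvd (by norm_num) hr24
      obtain ⟨q, hq⟩ := h4
      have hq0 : 0 < q := by
        have := Nat.card_pos (α := φ.range)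
        omega
      have hq6 : q ≤ 6 := by omega
      interval_cases q <;> simp_all <;> norm_num at hr24
    rcases hcases with h | h | h
    · exact hnot2 (IsPGroup.of_card (n := 3) (by rw [hHcard, h]; norm_num))
    · exact hnot2 (IsPGroup.of_card (n := 4) (by rw [hHcard, h]; norm_num))
    · obtain ⟨S⟩ := (inferInstance : Nonempty (Sylow 2 (G ⧸ Cfsg.oddCore G)))
      refine hnn S ?_
      have hSc : Nat.card (S : Subgroup (G ⧸ Cfsg.oddCore G)) = 8 := by
        rw [S.card_eq_multiplicity, hHcard, h, show 2 * 12 = 2 ^ 3 * 3 by norm_num,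
          Nat.factorization_mul (by norm_num) (by norm_num), Nat.prime_two.factorization_pow,
          Finsupp.add_apply, Finsupp.single_eq_same,
          Nat.factorization_eq_zero_of_not_dvd (by norm_num : ¬ 2 ∣ 3)]; norm_num
      rw [← eq_of_le_of_card_ge (Thompson.pCore_le_sylow S) (by rw [hSc, hPcard])]
      infer_instance
  have h48 : Nat.card (G ⧸ Cfsg.oddCore G) = 48 := by
    rw [hHcard, MonoidHom.range_eq_top.2 hsurj, Subgroup.card_top, Nat.card_perm, Nat.card_fin]; rfl
  have hzcen : z ∈ center (G ⧸ Cfsg.oddCore G) := by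
    rw [mem_center_iff]
    intro g
    have hm : g * z * g⁻¹ ∈ zpowers z := hker ▸ (inferInstance : φ.ker.Normal).conj_mem z
      (hker.symm ▸ mem_zpowers z) g
    obtain ⟨n, hn⟩ := mem_zpowers_iff.1 hm
    rcases Int.even_or_odd n with ⟨m, rfl⟩ | ⟨m, rfl⟩
    · exfalso
      rw [← two_mul, zpow_mul, zpow_two, hz2, one_zpow] at hn
      exact hz1 (conj_eq_one_iff.1 hn.symm)
    · rw [zpow_add, zpow_mul, zpow_two, hz2, one_zpow, one_mul, zpow_one] at hn
      exact mul_inv_eq_iff_eq_mul.1 hn.symm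
  by_cases hinv : ∃ t : G ⧸ Cfsg.oddCore G, t * t = 1 ∧ t ∉ P
  · -- `GL(2,3)`
    left
    obtain ⟨t, ht2, htP⟩ := hinv
    rcases perm_four_invert (φ t) (by rw [← map_mul, ht2, map_one]) with
      ⟨σ, hσ3, hσ1, hτσ⟩ | hcomm
    swap
    · exfalso
      apply htP
      set K := Subgroup.normalClosure ({φ t} : Set (Equiv.Perm (Fin 4))) with hK
      have hKc : K = closure (Group.conjugatesOfSet ({φ t} : Set (Equiv.Perm (Fin 4)))) := rfl
      have hel : ∀ x ∈ Group.conjugatesOfSet ({φ t} : Set (Equiv.Perm (Fin 4))),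
          ∃ r, r * φ t * r⁻¹ = x := by
        intro x hx
        obtain ⟨y, hy, hyx⟩ := Group.mem_conjugatesOfSet_iff.1 hx
        rw [Set.mem_singleton_iff] at hy
        subst hy
        exact isConj_iff.1 hyx
      haveI hKcomm : IsMulCommutative ↥K := by
        rw [hKc]
        refine Subgroup.isMulCommutative_closure fun x hx y hy => ?_
        obtain ⟨r, rfl⟩ := hel x hx
        obtain ⟨s, rfl⟩ := hel y hy
        exact hcomm r s
      have hsq : ∀ x ∈ K, x ^ 2 = 1 := by
        intro x hx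
        rw [hKc] at hx
        induction hx using Subgroup.closure_induction with
        | mem y hy =>
          obtain ⟨r, rfl⟩ := hel y hy
          rw [← MulAut.conj_apply, ← map_pow, pow_two, ← map_mul φ, ht2, map_one, map_one]
        | one => simp
        | mul y y' hy hy' ih ih' =>
          rw [← hKc] at hy hy'
          have hc : Commute y y' := congrArg Subtype.val (mul_comm' (⟨y, hy⟩ : K) ⟨y', hy'⟩)
          rw [hc.mul_pow, ih, ih', one_mul]
        | inv y _ ih => rw [inv_pow, ih, inv_one]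
      have hK2 : IsPGroup 2 ↥K := fun x => ⟨1, Subtype.ext (by simpa using hsq x x.2)⟩
      have hk2 : IsPGroup 2 ↥φ.ker := IsPGroup.of_card (n := 1) (by rw [hkcard, pow_one])
      have hle : K.comap φ ≤ P :=
        Thompson.le_pCore (Normal.comap Subgroup.normalClosure_normal φ)
          (hK2.comap_of_ker_isPGroup φ hk2)
      exact hle (Subgroup.subset_normalClosure (Set.mem_singleton (φ t)) : φ t ∈ K)
    obtain ⟨y, hy⟩ := hsurj σ
    have hy3 : y ^ 3 ∈ zpowers z := by
      rw [← hker, MonoidHom.mem_ker, map_pow, hy, pow_succ, pow_two]; exact hσ3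
    have hzsq : ∀ w ∈ zpowers z, w * w = 1 := by
      intro w hw
      obtain ⟨n, rfl⟩ := mem_zpowers_iff.1 hw
      rw [← (Commute.refl z).mul_zpow, hz2, one_zpow]
    set c := y ^ 4 with hc
    have hφc : φ c = σ := by
      rw [hc, map_pow, hy, pow_succ, pow_succ, pow_two, hσ3, one_mul]
    have hc3 : c ^ 3 = 1 := by
      rw [hc, ← pow_mul, show 4 * 3 = 3 * 4 from rfl, pow_mul, show (4 : ℕ) = 2 * 2 from rfl,
        pow_mul, pow_two (y ^ 3), hzsq _ hy3, one_pow]
    have hti : t⁻¹ = t := inv_eq_of_mul_eq_one_right ht2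
    have htc : t * c * t = c⁻¹ := by
      set w := t * c * t * c with hw
      have hwm : w ∈ zpowers z := by
        rw [← hker, MonoidHom.mem_ker, hw, map_mul, map_mul, map_mul, hφc, hτσ]; exact hσ3
      have hwc : ∀ g, g * w = w * g := fun g => by
        obtain ⟨n, hn⟩ := mem_zpowers_iff.1 hwm
        rw [← hn]; exact mem_center_iff.1 (zpow_mem hzcen n) g
      have h1 : t * c * t = w * c⁻¹ := by rw [hw, mul_inv_cancel_right]
      have h2 : (t * c * t) ^ 3 = 1 := by
        have := congrArg (MulAut.conj t) hc3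
        rw [map_pow, map_one, MulAut.conj_apply, hti] at this
        exact this
      rw [h1, (show Commute w c⁻¹ from (hwc c⁻¹).symm).mul_pow, inv_pow, hc3, inv_one, mul_one,
        pow_succ, pow_two, hzsq w hwm, one_mul] at h2
      rw [h1, h2, one_mul]
    -- the automorphisms
    set F := θ c with hF
    set T := θ t with hT
    have hw := FPFStructure.aut_eq_word
    have hF1 : F ≠ 1 := fun h => hσ1 (by
      rw [← hφc]; show ι (θ c) = 1; rw [← hF, h, map_one])
    have hgenF : F (QuaternionGroup.a 1) ≠ QuaternionGroup.a 1 ∨ F (QuaternionGroup.xa 0) ≠ QuaternionGroup.xa 0 := by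
      by_contra hcon
      push Not at hcon
      exact hF1 (MulEquiv.toMonoidHom_injective
        (FPFStructure.quat_ext (φ := F.toMonoidHom) (χ := (1 : MulAut (QuaternionGroup 2)).toMonoidHom) hcon.1 hcon.2))
    have hne : ∀ A : MulAut (QuaternionGroup 2),
        A (QuaternionGroup.a 1) * A (QuaternionGroup.xa 0) ≠ A (QuaternionGroup.xa 0) * A (QuaternionGroup.a 1) := by
      intro A h
      rw [← map_mul, ← map_mul] at h
      exact absurd (A.injective h) (by decide)
    have hF3 : F * F * F = 1 := by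
      rw [hF, ← map_mul, ← map_mul, ← pow_three', hc3, map_one]
    have hT2 : T * T = 1 := by rw [hT, ← map_mul, ht2, map_one]
    have hTF : T * F * T = F * F := by
      rw [hT, hF, ← map_mul, ← map_mul, ← map_mul, htc]
      refine congrArg θ (inv_eq_of_mul_eq_one_right ?_)
      rw [← mul_assoc, ← pow_three', hc3]
    obtain ⟨x, hx4, hxne, hxsq, hxconj, hxF, hxT⟩ := GL23Rec.quat_basis _ _ (hne F) _ _ (hne T)
      (by rw [← hw, ← hw, ← hw]; exact congrArg (fun A : MulAut _ => A (QuaternionGroup.a 1)) hF3)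
      (by rw [← hw, ← hw, ← hw]; exact congrArg (fun A : MulAut _ => A (QuaternionGroup.xa 0)) hF3)
      hgenF
      (by rw [← hw, ← hw]; exact congrArg (fun A : MulAut _ => A (QuaternionGroup.a 1)) hT2)
      (by rw [← hw, ← hw]; exact congrArg (fun A : MulAut _ => A (QuaternionGroup.xa 0)) hT2)
      (by simp only [← hw]; exact congrArg (fun A : MulAut _ => A (QuaternionGroup.a 1)) hTF)
      (by simp only [← hw]; exact congrArg (fun A : MulAut _ => A (QuaternionGroup.xa 0)) hTF)
    simp only [← hw] at hxne hxsq hxconj hxF hxT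
    set i := ψ x with hi
    have hj : ψ (F x) = c * i * c⁻¹ := hψθ c x
    have r : GL23Rec.Rel i c t := by
      refine ⟨?_, ?_, ?_, ?_, hc3, ht2, htc, ?_⟩
      · rw [hi, ← map_pow, hx4, map_one]
      · rw [← hj, hi, ← map_mul ψ, hxsq, map_mul]
      · rw [← hj, hi, ← map_inv ψ, ← map_mul ψ, ← map_mul ψ, hxconj, map_inv]
      · rw [← hj, hi, ← hψθ c (F x), ← map_mul ψ]
        exact congrArg ψ hxF
      · have h := hψθ t x
        rw [hti] at h
        rw [hi, ← h, ← map_inv]
        exact congrArg ψ hxT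
    set L := closure ({i, c, t} : Set (G ⧸ Cfsg.oddCore G)) with hL
    have hgen : L = ⊤ := by
      have hiL : i ∈ L := subset_closure (by simp)
      have hcL : c ∈ L := subset_closure (by simp)
      have htL : t ∈ L := subset_closure (by simp)
      have hjL : ψ (F x) ∈ L := by rw [hj]; exact mul_mem (mul_mem hcL hiL) (inv_mem hcL)
      have hPL : P ≤ L := by
        intro p hp
        obtain ⟨k, l, hkl⟩ := GL23Rec.quat_gen (F x) x hxne (e ⟨p, hp⟩)
        have h : p = ψ (F x) ^ (k : ℕ) * i ^ (l : ℕ) := by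
          rw [hi, ← map_pow ψ, ← map_pow ψ, ← map_mul ψ, ← hkl]
          show p = ((e.symm (e ⟨p, hp⟩) : P) : G ⧸ Cfsg.oddCore G)
          rw [e.symm_apply_apply]
        rw [h]
        exact mul_mem (pow_mem hjL _) (pow_mem hiL _)
      set q := QuotientGroup.mk' P
      have hqcard : Nat.card ((G ⧸ Cfsg.oddCore G) ⧸ P) = 6 := by
        have := P.card_eq_card_quotient_mul_card_subgroup
        rw [h48, hPcard] at this
        omega
      have hqc : orderOf (q c) = 3 := by
        haveI := Fact.mk Nat.prime_three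
        refine orderOf_eq_prime (by rw [← map_pow, hc3, map_one]) fun h => hσ1 ?_
        have hcP : c ∈ P := (QuotientGroup.eq_one_iff _).1 h
        obtain ⟨j, hj2⟩ := hP2 ⟨c, hcP⟩
        have h1 : orderOf c ∣ 2 ^ j := orderOf_dvd_of_pow_eq_one (congrArg Subtype.val hj2)
        have h3 : orderOf c ∣ 3 := orderOf_dvd_of_pow_eq_one hc3
        rw [← hφc, orderOf_eq_one_iff.1 (Nat.eq_one_of_dvd_coprimes
          ((show Nat.Coprime 2 3 by norm_num).pow_left j) h1 h3), map_one]
      have hqt : orderOf (q t) = 2 :=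
        orderOf_eq_prime (by rw [pow_two, ← map_mul, ht2, map_one])
          fun h => htP ((QuotientGroup.eq_one_iff _).1 h)
      have h6 : 6 ∣ Nat.card ↥(L.map q) :=
        (show Nat.Coprime 3 2 by norm_num).mul_dvd_of_dvd_of_dvd
          (hqc.symm.dvd.trans (Subgroup.orderOf_dvd_natCard _ (mem_map_of_mem q hcL)))
          (hqt.symm.dvd.trans (Subgroup.orderOf_dvd_natCard _ (mem_map_of_mem q htL)))
      have hmap : L.map q = ⊤ := eq_top_of_le_card _ (by
        rw [hqcard]; exact Nat.le_of_dvd Nat.card_pos h6)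
      have := congrArg (Subgroup.comap q) hmap
      rw [comap_map_eq_self (by rw [QuotientGroup.ker_mk']; exact hPL), comap_top] at this
      exact this
    exact GL23Rec.nonempty_mulEquiv r gl_rel h48 card_gl hgen gl_gen
  · -- the binary octahedral group
    push Not at hinv
    right
    have hcenker : center (G ⧸ Cfsg.oddCore G) = φ.ker := by
      refine le_antisymm (fun x hx => MonoidHom.mem_ker.2 ?_) (hker ▸ zpowers_le.2 hzcen)
      refine FPFStructure.perm_four_center _ fun σ => ?_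
      obtain ⟨y, rfl⟩ := hsurj σ
      rw [← map_mul, ← map_mul, mem_center_iff.1 hx y]
    refine ⟨h48, by rw [hcenker, hkcard], ?_, fun S => ?_⟩
    · exact ⟨(QuotientGroup.quotientMulEquivOfEq hcenker).trans
        (QuotientGroup.quotientKerEquivOfSurjective φ hsurj)⟩
    · have hS16 : Nat.card (S : Subgroup (G ⧸ Cfsg.oddCore G)) = 16 := by
        rw [S.card_eq_multiplicity, h48, show 48 = 2 ^ 4 * 3 by norm_num,
          Nat.factorization_mul (by norm_num) (by norm_num), Nat.prime_two.factorization_pow,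
          Finsupp.add_apply, Finsupp.single_eq_same,
          Nat.factorization_eq_zero_of_not_dvd (by norm_num : ¬ 2 ∣ 3)]; norm_num
      have hPS : P ≤ (S : Subgroup (G ⧸ Cfsg.oddCore G)) := Thompson.pCore_le_sylow S
      have huni : ∀ a : G ⧸ Cfsg.oddCore G, a * a = 1 → a ≠ 1 → a = z := by
        intro a ha ha1
        have haP := hinv a ha
        have hψa : ψ (e ⟨a, haP⟩) = a := by
          show ((e.symm (e ⟨a, haP⟩) : P) : G ⧸ Cfsg.oddCore G) = a
          rw [e.symm_apply_apply]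
        rcases FPFStructure.q8_invol (e ⟨a, haP⟩) (hψi (by rw [map_mul, map_one, hψa, ha])) with h | h
        · exact absurd (by rw [← hψa, h, map_one]) ha1
        · exact hψa.symm.trans (congrArg ψ h)
      rcases cyclic_or_quaternion S.2 (fun a b ha hb ha1 hb1 _ => Subtype.ext
        ((huni _ (congrArg Subtype.val ha) (fun h => ha1 (Subtype.ext h))).trans
          (huni _ (congrArg Subtype.val hb) (fun h => hb1 (Subtype.ext h))).symm)) with hc | ⟨n, ⟨e'⟩⟩
      · exfalso
        haveI := hc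
        have h : ∀ u v : QuaternionGroup 2, u * v = v * u := fun u v => hψi (by
          rw [map_mul, map_mul]
          exact congrArg Subtype.val
            (mul_comm' (⟨ψ u, hPS (hψP u)⟩ : (S : Subgroup (G ⧸ Cfsg.oddCore G))) ⟨ψ v, hPS (hψP v)⟩))
        exact absurd (h (QuaternionGroup.a 1) (QuaternionGroup.xa 0)) (by decide)
      · have h := Nat.card_congr e'.toEquiv
        rw [hS16, Nat.card_eq_fintype_card, QuaternionGroup.card] at h
        have hn : n = 2 := Nat.pow_right_injective le_rfl (show 2 ^ n = 2 ^ 2 by norm_num; omega)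
        subst hn
        exact ⟨e'⟩

end Cfsg.Agent.S3304
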