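import Cfsg.Statements.S3309
import Cfsg.Agent.Lib.Involution.IndexTwo
import Cfsg.Agent.S0215

set_option autoImplicit false
open Cfsg

namespace Cfsg.Agent.S3309

open Cfsg.Agent.Involution in
/-- The homomorphism of `C₂ × D₈` onto `C₂` with prescribed values on the generators. -/
def chi (ε ρ : ZMod 2) : Multiplicative (ZMod 2) × DihedralGroup 4 → Multiplicative (ZMod 2) :=
  fun q => match q.2 with
    | .r i => q.1 * Multiplicative.ofAdd (ρ * (i.val : ZMod 2))
    | .sr i => q.1 * Multiplicative.ofAdd (ε + ρ * (i.val : ZMod 2))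

theorem chi_mul : ∀ ε ρ : ZMod 2, ∀ p q, chi ε ρ (p * q) = chi ε ρ p * chi ε ρ q := by
  unfold chi; decide

theorem chi_top : ∀ ε ρ : ZMod 2, chi ε ρ (Multiplicative.ofAdd 1, 1) = Multiplicative.ofAdd 1 := by
  unfold chi; decide

theorem involution_cases : ∀ q : Multiplicative (ZMod 2) × DihedralGroup 4, q * q = 1 → q ≠ 1 →
    q = (Multiplicative.ofAdd 1, 1) ∨ q = (1, .r 2) ∨ q = (Multiplicative.ofAdd 1, .r 2) ∨
    ∃ p, p * q * p⁻¹ = (1, .sr 0) ∨ p * q * p⁻¹ = (1, .sr 1) ∨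
      p * q * p⁻¹ = (Multiplicative.ofAdd 1, .sr 0) ∨
      p * q * p⁻¹ = (Multiplicative.ofAdd 1, .sr 1) := by
  intro q h1 h2
  have key : ∀ q : Multiplicative (ZMod 2) × DihedralGroup 4, q * q = 1 → q ≠ 1 →
      q = (Multiplicative.ofAdd 1, 1) ∨ q = (1, .r 2) ∨ q = (Multiplicative.ofAdd 1, .r 2) ∨
      q = (1, .sr 0) ∨ ((1, .r 1) : Multiplicative (ZMod 2) × DihedralGroup 4) * q * ((1, .r 1) : Multiplicative (ZMod 2) × DihedralGroup 4)⁻¹ = (1, .sr 0) ∨
      q = (1, .sr 1) ∨ ((1, .r 1) : Multiplicative (ZMod 2) × DihedralGroup 4) * q * ((1, .r 1) : Multiplicative (ZMod 2) × DihedralGroup 4)⁻¹ = (1, .sr 1) ∨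
      q = (Multiplicative.ofAdd 1, .sr 0) ∨ ((1, .r 1) : Multiplicative (ZMod 2) × DihedralGroup 4) * q * ((1, .r 1) : Multiplicative (ZMod 2) × DihedralGroup 4)⁻¹ = (Multiplicative.ofAdd 1, .sr 0) ∨
      q = (Multiplicative.ofAdd 1, .sr 1) ∨ ((1, .r 1) : Multiplicative (ZMod 2) × DihedralGroup 4) * q * ((1, .r 1) : Multiplicative (ZMod 2) × DihedralGroup 4)⁻¹ = (Multiplicative.ofAdd 1, .sr 1) := by decide
  rcases key q h1 h2 with h | h | h | h | h | h | h | h | h | h | h
  · exact Or.inl h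
  · exact Or.inr (Or.inl h)
  · exact Or.inr (Or.inr (Or.inl h))
  · exact Or.inr (Or.inr (Or.inr ⟨1, Or.inl (by rw [h]; group)⟩))
  · exact Or.inr (Or.inr (Or.inr ⟨(1, .r 1), Or.inl h⟩))
  · exact Or.inr (Or.inr (Or.inr ⟨1, Or.inr (Or.inl (by rw [h]; group))⟩))
  · exact Or.inr (Or.inr (Or.inr ⟨(1, .r 1), Or.inr (Or.inl h)⟩))
  · exact Or.inr (Or.inr (Or.inr ⟨1, Or.inr (Or.inr (Or.inl (by rw [h]; group)))⟩))
  · exact Or.inr (Or.inr (Or.inr ⟨(1, .r 1), Or.inr (Or.inr (Or.inl h))⟩))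
  · exact Or.inr (Or.inr (Or.inr ⟨1, Or.inr (Or.inr (Or.inr (by rw [h]; group)))⟩))
  · exact Or.inr (Or.inr (Or.inr ⟨(1, .r 1), Or.inr (Or.inr (Or.inr h))⟩))


theorem center_facts : ∀ p : Multiplicative (ZMod 2) × DihedralGroup 4,
    Commute p (Multiplicative.ofAdd 1, 1) ∧ Commute p (1, .r 2) ∧
    Commute p (Multiplicative.ofAdd 1, .r 2) ∧ (p * p = 1 ∨ p * p = (1, .r 2)) := by
  unfold Commute SemiconjBy; decide

theorem center_mem : ∀ p : Multiplicative (ZMod 2) × DihedralGroup 4,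
    (∀ q, q * p = p * q) → p = 1 ∨ p = (Multiplicative.ofAdd 1, 1) ∨ p = (1, .r 2) ∨
      p = (Multiplicative.ofAdd 1, .r 2) := by
  decide

theorem combinatorics {A B : Fin 4 → Prop} (hx : ∀ i, ¬ (A i ∧ B i))
    (a1 : A 0 ∨ A 1) (a2 : A 2 ∨ A 3) (a3 : A 0 ∨ A 3) (a4 : A 2 ∨ A 1)
    (b1 : B 0 ∨ B 1) (b2 : B 2 ∨ B 3) (b3 : B 0 ∨ B 3) (b4 : B 2 ∨ B 1) :
    (A 0 ∨ B 0) ∧ (A 1 ∨ B 1) ∧ (A 2 ∨ B 2) ∧ (A 3 ∨ B 3) := by
  have := hx 0; have := hx 1; have := hx 2; have := hx 3
  grind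

/-- A finite group whose Sylow 2-subgroups are isomorphic to the direct product of a group of order 2 and the dihedral group of order 8 is not a non-abelian simple group. -/
theorem result {G : Type*} [Group G] [Finite G] (S : Sylow 2 G) (hS : Nonempty (↥(S : Subgroup G) ≃* Multiplicative (ZMod 2) × DihedralGroup 4))
    [IsSimpleGroup G] (hG : ¬ IsMulCommutative G) : False := by
  obtain ⟨e⟩ := hS
  set ι : Multiplicative (ZMod 2) × DihedralGroup 4 →* G := (S : Subgroup G).subtype.comp e.symm.toMonoidHom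
    with hι
  have hιinj : Function.Injective ι := Subtype.val_injective.comp e.symm.injective
  have hιS : ∀ p, ι p ∈ (S : Subgroup G) := fun p => (e.symm p).2
  have hιsurj : ∀ v ∈ (S : Subgroup G), ∃ p, ι p = v := fun v hv => ⟨e ⟨v, hv⟩, by simp [hι]⟩
  set a : Multiplicative (ZMod 2) × DihedralGroup 4 := (Multiplicative.ofAdd 1, 1) with ha
  set c : Multiplicative (ZMod 2) × DihedralGroup 4 := (1, .r 2) with hc
  set d : Multiplicative (ZMod 2) × DihedralGroup 4 := (Multiplicative.ofAdd 1, .r 2) with hd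
  have hnontriv : ∀ M : Subgroup G, M.Normal → M.index = 2 → False := by
    intro M hM hi
    rcases hM.eq_bot_or_eq_top with h | h <;> subst h
    · rw [Subgroup.index_bot] at hi
      haveI : Fact (Nat.Prime 2) := ⟨Nat.prime_two⟩
      haveI := isCyclic_of_prime_card (α := G) hi
      exact hG ⟨⟨fun x y => IsCyclic.commGroup.mul_comm x y⟩⟩
    · rw [Subgroup.index_top] at hi; omega
  -- central elements of `S` are conjugate only inside the normaliser
  have hburn : ∀ p q, (∀ r, Commute r p) → (∀ r, Commute r q) → IsConj (ι p) (ι q) →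
      ∃ n, n ∈ Subgroup.normalizer ((S : Subgroup G) : Set G) ∧ n * ι p * n⁻¹ = ι q := by
    intro p q hp hq h
    obtain ⟨g, hg⟩ := isConj_iff.mp h
    have hcen : ∀ r, (∀ s, Commute s r) → ι r ∈ Subgroup.centralizer ((S : Subgroup G) : Set G) := by
      intro r hr
      rw [Subgroup.mem_centralizer_iff]
      intro v hv
      obtain ⟨s, rfl⟩ := hιsurj v hv
      rw [← map_mul, ← map_mul, (hr s).eq]
    obtain ⟨n, hn, hn'⟩ := Sylow.conj_eq_normalizer_conj_of_mem_centralizer S (ι p) g⁻¹ (hcen p hp)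
      (by rw [inv_inv, hg]; exact hcen q hq)
    exact ⟨n⁻¹, inv_mem hn, by rw [inv_inv, ← hn', inv_inv, hg]⟩
  have hac' : ∀ p q, (∀ r, Commute r p) → (∀ r, Commute r q) → p ≠ q → p * p = 1 → q * q = 1 →
      p ≠ 1 → q ≠ 1 → ¬ IsConj (ι p) (ι q) := by
    intro p q hp hq hne hp2 hq2 hp1 hq1 h
    obtain ⟨n, hn, hnpq⟩ := hburn p q hp hq h
    have hmem : ∀ r, n * ι r * n⁻¹ ∈ (S : Subgroup G) := fun r =>
      (Subgroup.mem_normalizer_iff.mp hn _).mp (hιS r)
    -- `n` fixes `c`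
    have hfix : n * ι c * n⁻¹ = ι c := by
      obtain ⟨s, hs⟩ := hιsurj _ (hmem (1, .r 1))
      have h1 : c = ((1, .r 1) : Multiplicative (ZMod 2) × DihedralGroup 4) * (1, .r 1) := by decide
      have h2 : n * ι c * n⁻¹ = ι (s * s) := by
        rw [h1, map_mul, map_mul, hs]; group
      rcases (center_facts s).2.2.2 with h3 | h3
      · rw [h3, map_one, conj_eq_one_iff, ← map_one ι] at h2
        exact absurd (hιinj h2) (by decide)
      · rw [h2, h3]
    -- `n` permutes the central involutions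
    have hperm : ∀ u, (∀ r, Commute r u) → ∃ v, (∀ r, Commute r v) ∧ n * ι u * n⁻¹ = ι v := by
      intro u hu
      obtain ⟨v, hv⟩ := hιsurj _ (hmem u)
      refine ⟨v, fun r => hιinj ?_, hv.symm⟩
      obtain ⟨w, hw⟩ := hιsurj _ ((Subgroup.mem_normalizer_iff.mp (inv_mem hn) _).mp (hιS r))
      have hr : ι r = n * ι w * n⁻¹ := by rw [hw]; group
      rw [map_mul, map_mul, hv, hr]
      calc n * ι w * n⁻¹ * (n * ι u * n⁻¹) = n * ι (w * u) * n⁻¹ := by rw [map_mul]; group
        _ = n * ι (u * w) * n⁻¹ := by rw [(hu w).eq]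
        _ = _ := by rw [map_mul]; group
    have hcases : ∀ u, (∀ r, Commute r u) → u ≠ 1 → u = a ∨ u = c ∨ u = d := fun u hu hu1 =>
      (center_mem u fun r => (hu r).eq).resolve_left hu1
    -- so some element of `N(S)` exchanges `a` and `d`
    have hswap : n * ι a * n⁻¹ = ι d := by
      have hd' : n * ι a * n⁻¹ = ι a ∨ n * ι a * n⁻¹ = ι d := by
        obtain ⟨v, hv, hvn⟩ := hperm a fun r => (center_facts r).1
        rcases hcases v hv (fun h1 => by
          rw [h1, map_one, conj_eq_one_iff, ← map_one ι] at hvn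
          exact absurd (hιinj hvn) (by decide)) with h1 | h1 | h1
        · exact Or.inl (h1 ▸ hvn)
        · rw [h1, ← hfix] at hvn
          exact absurd (hιinj (mul_left_cancel (mul_right_cancel hvn))) (by decide)
        · exact Or.inr (h1 ▸ hvn)
      refine hd'.resolve_left fun hA => hne ?_
      have hD : n * ι d * n⁻¹ = ι d := by
        rw [show d = a * c by decide, map_mul]
        rw [show n * (ι a * ι c) * n⁻¹ = n * ι a * n⁻¹ * (n * ι c * n⁻¹) by group, hA, hfix]
      rcases hcases p hp hp1 with rfl | rfl | rfl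
      · exact hιinj (hA.symm.trans hnpq)
      · exact hιinj (hfix.symm.trans hnpq)
      · exact hιinj (hD.symm.trans hnpq)
    have hswap' : n * ι d * n⁻¹ = ι a := by
      rw [show d = a * c by decide, map_mul]
      rw [show n * (ι a * ι c) * n⁻¹ = n * ι a * n⁻¹ * (n * ι c * n⁻¹) by group, hswap, hfix, ← map_mul]
      exact congrArg ι (by decide)
    have hsq : n ^ 2 * ι a * (n ^ 2)⁻¹ = ι a := by
      rw [show n ^ 2 * ι a * (n ^ 2)⁻¹ = n * (n * ι a * n⁻¹) * n⁻¹ by rw [sq]; group, hswap, hswap']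
    -- the 2-part of `n` lies in `S`, so centralises `a`
    obtain ⟨i, m, hm, hmn⟩ := Nat.exists_eq_two_pow_mul_odd (orderOf_pos n).ne'
    have hnm : n ^ m ∈ (S : Subgroup G) := by
      have hp2 : IsPGroup 2 (Subgroup.zpowers (n ^ m)) := by
        have h1 : orderOf (n ^ m) ∣ 2 ^ i := orderOf_dvd_of_pow_eq_one (by
          rw [← pow_mul, mul_comm, ← hmn, pow_orderOf_eq_one])
        obtain ⟨j, -, hj⟩ := (Nat.dvd_prime_pow Nat.prime_two).mp h1
        exact IsPGroup.of_card (n := j) (by rw [Nat.card_zpowers, hj])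
      have hle : Subgroup.zpowers (n ^ m) ≤ Subgroup.normalizer ((S : Subgroup G) : Set G) :=
        Subgroup.zpowers_le.mpr (pow_mem hn m)
      have := S.3 (hp2.to_sup_of_normal_right' S.2 hle) le_sup_right
      exact this ▸ Subgroup.mem_sup_left (Subgroup.mem_zpowers _)
    obtain ⟨k, rfl⟩ := hm
    have hev : ∀ j : ℕ, n ^ (2 * j) * ι a * (n ^ (2 * j))⁻¹ = ι a := by
      intro j
      induction j with
      | zero => simp
      | succ j ih =>
        rw [show 2 * (j + 1) = 2 * j + 2 by ring, pow_add,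
          show n ^ (2 * j) * n ^ 2 * ι a * (n ^ (2 * j) * n ^ 2)⁻¹ =
            n ^ (2 * j) * (n ^ 2 * ι a * (n ^ 2)⁻¹) * (n ^ (2 * j))⁻¹ by group, hsq, ih]
    obtain ⟨w, hw⟩ := hιsurj _ hnm
    have hc1 : n ^ (2 * k + 1) * ι a * (n ^ (2 * k + 1))⁻¹ = ι a := by
      rw [← hw, ← map_mul, ← map_inv, ← map_mul]
      exact congrArg ι (by rw [((center_facts w).1).eq, mul_inv_cancel_right])
    rw [pow_succ', show n * n ^ (2 * k) * ι a * (n * n ^ (2 * k))⁻¹ =
      n * (n ^ (2 * k) * ι a * (n ^ (2 * k))⁻¹) * n⁻¹ by group, hev k, hswap] at hc1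
    exact absurd (hιinj hc1) (by decide)
  have haC : ∀ r, Commute r a := fun r => (center_facts r).1
  have hcC : ∀ r, Commute r c := fun r => (center_facts r).2.1
  have hdC : ∀ r, Commute r d := fun r => (center_facts r).2.2.1
  have nAC : ¬ IsConj (ι a) (ι c) :=
    hac' a c haC hcC (by decide) (by decide) (by decide) (by decide) (by decide)
  have nAD : ¬ IsConj (ι a) (ι d) :=
    hac' a d haC hdC (by decide) (by decide) (by decide) (by decide) (by decide)
  have nDC : ¬ IsConj (ι d) (ι c) :=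
    hac' d c hdC hcC (by decide) (by decide) (by decide) (by decide) (by decide)
  -- Thompson transfer
  have hhit : ∀ t, t = a ∨ t = d → ∀ ε ρ : ZMod 2,
      ∃ q, chi ε ρ q = 1 ∧ q ≠ 1 ∧ q * q = 1 ∧ IsConj (ι t) (ι q) := by
    intro t ht ε ρ
    let χ := MonoidHom.mk' (chi ε ρ) (chi_mul ε ρ)
    by_contra hno
    push Not at hno
    have hindex : χ.ker.index = 2 := by
      rw [Subgroup.index_ker, MonoidHom.range_eq_top.mpr]
      · rw [Subgroup.card_top, Nat.card_congr Multiplicative.toAdd, Nat.card_zmod]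
      · have htwo : ∀ y : Multiplicative (ZMod 2), y = 1 ∨ y = Multiplicative.ofAdd 1 := by decide
        intro y
        rcases htwo y with rfl | rfl
        · exact ⟨1, map_one χ⟩
        · exact ⟨a, chi_top ε ρ⟩
    obtain ⟨M, hM, hMi, -⟩ := Cfsg.Agent.Involution.thompson_transfer S (χ.ker.map ι)
      (by rintro _ ⟨q, -, rfl⟩; exact hιS q) (by
        have h1 : (S : Subgroup G) = (⊤ : Subgroup (Multiplicative (ZMod 2) × DihedralGroup 4)).map ι := by
          ext v
          exact ⟨fun hv => (hιsurj v hv).imp fun p hp => ⟨trivial, hp⟩, by rintro ⟨q, -, rfl⟩; exact hιS q⟩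
        rw [h1, Subgroup.relIndex_map_map_of_injective _ _ hιinj, Subgroup.relIndex_top_right, hindex])
      (u := ι t) (by
        rw [← map_mul]
        rcases ht with rfl | rfl <;> exact (congrArg ι (by decide)).trans (map_one ι)) (by
        rintro g ⟨q, hq, hgq⟩
        have hconj : IsConj (ι t) (ι q) := isConj_iff.mpr ⟨g, hgq.symm⟩
        have ht2 : t * t = 1 ∧ t ≠ 1 := by rcases ht with rfl | rfl <;> decide
        have hq1 : q ≠ 1 := by
          rintro rfl
          rw [map_one] at hgq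
          exact ht2.2 (hιinj ((conj_eq_one_iff.mp hgq.symm).trans (map_one ι).symm))
        have hq2 : q * q = 1 := hιinj (by
          rw [map_mul, hgq, show g * ι t * g⁻¹ * (g * ι t * g⁻¹) = g * (ι t * ι t) * g⁻¹ by group,
            ← map_mul, ht2.1, map_one]
          group)
        exact hno q hq hq1 hq2 hconj)
    exact hnontriv M hM hMi
  let rep : Fin 4 → Multiplicative (ZMod 2) × DihedralGroup 4 :=
    ![(1, .sr 0), (1, .sr 1), (Multiplicative.ofAdd 1, .sr 0), (Multiplicative.ofAdd 1, .sr 1)]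
  have hreps : ∀ t, t = a ∨ t = d → ∀ ε ρ : ZMod 2,
      ∃ i, chi ε ρ (rep i) = 1 ∧ IsConj (ι t) (ι (rep i)) := by
    intro t ht ε ρ
    obtain ⟨q, hq, hq1, hq2, hconj⟩ := hhit t ht ε ρ
    have hconjchi : ∀ p, chi ε ρ (p * q * p⁻¹) = 1 := fun p => by
      show MonoidHom.mk' (chi ε ρ) (chi_mul ε ρ) (p * q * p⁻¹) = 1
      rw [map_mul, map_mul, show MonoidHom.mk' (chi ε ρ) (chi_mul ε ρ) q = 1 from hq, mul_one,
        ← map_mul, mul_inv_cancel, map_one]
    have hcj : ∀ p, IsConj (ι t) (ι (p * q * p⁻¹)) := fun p =>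
      hconj.trans (isConj_iff.mpr ⟨ι p, by rw [map_mul, map_mul, map_inv]⟩)
    rcases involution_cases q hq2 hq1 with h | h | h | ⟨p, h | h | h | h⟩
    · subst h
      rcases ht with rfl | rfl
      · exact absurd ((chi_top ε ρ).symm.trans hq) (by decide)
      · exact absurd hconj.symm nAD
    · subst h
      rcases ht with rfl | rfl
      · exact absurd hconj nAC
      · exact absurd hconj nDC
    · subst h
      rcases ht with rfl | rfl
      · exact absurd hconj nAD
      · have : ∀ ε ρ : ZMod 2, chi ε ρ (Multiplicative.ofAdd 1, .r 2) ≠ 1 := by unfold chi; decide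
        exact absurd hq (this ε ρ)
    · refine ⟨0, ?_, ?_⟩
      · exact (congrArg (chi ε ρ) h).symm.trans (hconjchi p)
      · show IsConj (ι t) (ι (1, .sr 0))
        rw [← h]; exact hcj p
    · refine ⟨1, ?_, ?_⟩
      · exact (congrArg (chi ε ρ) h).symm.trans (hconjchi p)
      · show IsConj (ι t) (ι (1, .sr 1))
        rw [← h]; exact hcj p
    · refine ⟨2, ?_, ?_⟩
      · exact (congrArg (chi ε ρ) h).symm.trans (hconjchi p)
      · show IsConj (ι t) (ι (Multiplicative.ofAdd 1, .sr 0))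
        rw [← h]; exact hcj p
    · refine ⟨3, ?_, ?_⟩
      · exact (congrArg (chi ε ρ) h).symm.trans (hconjchi p)
      · show IsConj (ι t) (ι (Multiplicative.ofAdd 1, .sr 1))
        rw [← h]; exact hcj p
  have clause : ∀ t, t = a ∨ t = d →
      (IsConj (ι t) (ι (rep 0)) ∨ IsConj (ι t) (ι (rep 1))) ∧
      (IsConj (ι t) (ι (rep 2)) ∨ IsConj (ι t) (ι (rep 3))) ∧
      (IsConj (ι t) (ι (rep 0)) ∨ IsConj (ι t) (ι (rep 3))) ∧
      (IsConj (ι t) (ι (rep 2)) ∨ IsConj (ι t) (ι (rep 1))) := by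
    intro t ht
    have k1 : ∀ i, chi 0 0 (rep i) = 1 → i = 0 ∨ i = 1 := by unfold chi; decide
    have k2 : ∀ i, chi 1 0 (rep i) = 1 → i = 2 ∨ i = 3 := by unfold chi; decide
    have k3 : ∀ i, chi 0 1 (rep i) = 1 → i = 0 ∨ i = 3 := by unfold chi; decide
    have k4 : ∀ i, chi 1 1 (rep i) = 1 → i = 2 ∨ i = 1 := by unfold chi; decide
    refine ⟨?_, ?_, ?_, ?_⟩
    · obtain ⟨i, hi, h⟩ := hreps t ht 0 0
      rcases k1 i hi with rfl | rfl
      exacts [Or.inl h, Or.inr h]
    · obtain ⟨i, hi, h⟩ := hreps t ht 1 0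
      rcases k2 i hi with rfl | rfl
      exacts [Or.inl h, Or.inr h]
    · obtain ⟨i, hi, h⟩ := hreps t ht 0 1
      rcases k3 i hi with rfl | rfl
      exacts [Or.inl h, Or.inr h]
    · obtain ⟨i, hi, h⟩ := hreps t ht 1 1
      rcases k4 i hi with rfl | rfl
      exacts [Or.inl h, Or.inr h]
  obtain ⟨a1, a2, a3, a4⟩ := clause a (Or.inl rfl)
  obtain ⟨b1, b2, b3, b4⟩ := clause d (Or.inr rfl)
  obtain ⟨c0, c1, c2, c3⟩ := combinatorics (A := fun i => IsConj (ι a) (ι (rep i)))
    (B := fun i => IsConj (ι d) (ι (rep i))) (fun i h => nAD (h.1.trans h.2.symm))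
    a1 a2 a3 a4 b1 b2 b3 b4
  -- so `c` is isolated
  have hrep : ∀ i, ¬ IsConj (ι c) (ι (rep i)) := by
    intro i h
    have hi : IsConj (ι a) (ι (rep i)) ∨ IsConj (ι d) (ι (rep i)) := by
      fin_cases i
      exacts [c0, c1, c2, c3]
    exact hi.elim (fun h' => nAC (h'.trans h.symm)) (fun h' => nDC (h'.trans h.symm))
  have hord : orderOf (ι c) = 2 := by
    refine orderOf_eq_prime ?_ fun h => absurd (hιinj (h.trans (map_one ι).symm)) (by decide)
    rw [sq, ← map_mul]; exact (congrArg ι (by decide)).trans (map_one ι)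
  obtain ⟨N, hN, hodd, hcomm⟩ := Cfsg.Agent.S0215.result S (ι c) hord (hιS c) (fun g hg => by
    obtain ⟨q, hq⟩ := hιsurj _ hg
    have hconj : IsConj (ι c) (ι q) := isConj_iff.mpr ⟨g, hq.symm⟩
    have ho : orderOf (ι q) = 2 := hq ▸ ((MulAut.conj g).orderOf_eq _).trans hord
    have hq1 : q ≠ 1 := fun h => by rw [h, map_one, orderOf_one] at ho; omega
    have hq2 : q * q = 1 := hιinj (by
      rw [map_mul, map_one, ← sq]
      exact orderOf_dvd_iff_pow_eq_one.mp ho.dvd)
    rcases involution_cases q hq2 hq1 with h | h | h | ⟨p, hp⟩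
    · exact absurd (h ▸ hconj).symm nAC
    · rw [← hq, h]
    · exact absurd (h ▸ hconj).symm nDC
    · exfalso
      have hcj : IsConj (ι c) (ι (p * q * p⁻¹)) :=
        hconj.trans (isConj_iff.mpr ⟨ι p, by rw [map_mul, map_mul, map_inv]⟩)
      rcases hp with h | h | h | h <;> rw [h] at hcj
      exacts [hrep 0 hcj, hrep 1 hcj, hrep 2 hcj, hrep 3 hcj])
  have hN1 : N = ⊥ := hN.eq_bot_or_eq_top.resolve_right fun h => by
    subst h
    rw [Subgroup.card_top] at hodd
    have h2 : 2 ∣ Nat.card G := hord ▸ orderOf_dvd_natCard (ι c)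
    exact Nat.not_even_iff_odd.mpr hodd (even_iff_two_dvd.mpr h2)
  have hcen : ι c ∈ Subgroup.center G := Subgroup.mem_center_iff.mpr fun g => by
    have := hcomm g
    rw [hN1, Subgroup.mem_bot, mul_inv_eq_one, mul_inv_eq_iff_eq_mul] at this
    exact this.symm
  rcases (inferInstance : (Subgroup.center G).Normal).eq_bot_or_eq_top with h | h
  · rw [h, Subgroup.mem_bot] at hcen
    rw [hcen, orderOf_one] at hord
    omega
  · exact hG ⟨⟨fun x y => Subgroup.mem_center_iff.mp (h ▸ Subgroup.mem_top y) x⟩⟩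

end Cfsg.Agent.S3309
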