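import Cfsg.Statements.S3312
import Cfsg.Agent.H40.WeakClosure.Apply
import Cfsg.Agent.H40.SimpleFusion

set_option autoImplicit false
open Cfsg

namespace Cfsg.Agent.S3312

/-- A non-simplicity criterion by weak closure. Let T be a Sylow 2-subgroup of a finite group G, W a nontrivial subgroup of the centre of T that is weakly closed in T with respect to G, and t an involution of T outside W. Suppose that for every involution x in the coset Wt, W lies in O_{2',2}(C_G(x)), the preimage of O₂ of C_G(x)/O_{2'}(C_G(x)). Then G is not simple. -/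
theorem result {G : Type*} [Group G] [Finite G]
    (T : Sylow 2 G) (W : Subgroup G) (hW1 : W ≠ ⊥) (hWZ : W ≤ (T : Subgroup G) ⊓ Subgroup.centralizer ((T : Subgroup G) : Set G))
    (hwc : Cfsg.IsWeaklyClosed W (T : Subgroup G)) (t : G) (ht : orderOf t = 2) (htT : t ∈ (T : Subgroup G)) (htW : t ∉ W)
    (hcos : ∀ w ∈ W, orderOf (w * t) = 2 →
      W.subgroupOf (Subgroup.centralizer ({w * t} : Set G)) ≤ Cfsg.pPrimePCore 2 ↥(Subgroup.centralizer ({w * t} : Set G))) :
    ¬ IsSimpleGroup G := by
  intro hsimple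
  have hWT : W ≤ (T : Subgroup G) := le_trans hWZ inf_le_left
  have hWc : ∀ s ∈ T, ∀ w ∈ W, Commute s w := fun s hs w hw =>
    Subgroup.mem_centralizer_iff.mp (hWZ hw).2 s hs
  have h := H40.WeakClosure.data_of_cosets T W hWT hWc hwc ht htT htW hcos
  have hgood := H40.WeakClosure.good G T _ t h
  -- the core and the centre are trivial
  have hO : pPrimeCore 2 G = ⊥ := by
    rcases IsSimpleGroup.eq_bot_or_eq_top_of_normal (pPrimeCore 2 G) inferInstance with h1 | h1
    · exact h1
    · have h2 : 2 ∣ Nat.card G := ht ▸ orderOf_dvd_natCard t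
      exact absurd (Nat.coprime_two_right.mp (Thompson.pPrimeCore_eq_top_iff.mp h1))
        (Nat.not_odd_iff_even.mpr (even_iff_two_dvd.mpr h2))
  have hcomm : ¬ IsMulCommutative G := fun hG => by
    haveI : W.Normal := ⟨fun w hw g => by
      rw [hG.1.1 g w, mul_inv_cancel_right]; exact hw⟩
    rcases IsSimpleGroup.eq_bot_or_eq_top_of_normal W inferInstance with h1 | h1
    · exact hW1 h1
    · exact htW (h1 ▸ Subgroup.mem_top t)
  -- an involution of `W`
  obtain ⟨z, hz, hz2⟩ : ∃ z ∈ W, orderOf z = 2 := by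
    obtain ⟨n, hn⟩ := IsPGroup.iff_card.mp (T.isPGroup'.to_le hWT)
    have hn0 : n ≠ 0 := fun h0 => hW1 (by
      rw [h0, pow_zero] at hn
      exact Subgroup.card_eq_one.mp hn)
    obtain ⟨z, hz, hz2⟩ := Involution.exists_involution_of_even (H := W)
      (by rw [hn]; exact (Nat.even_pow' hn0).mpr even_two)
    exact ⟨z, hz, hz2⟩
  have hzc : Subgroup.normalClosure ({t} : Set G) ≤ Subgroup.centralizer ({z} : Set G) := by
    rw [Subgroup.normalClosure, Subgroup.closure_le]
    intro x hx
    obtain ⟨y, hy, hc⟩ := Group.mem_conjugatesOfSet_iff.mp hx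
    rw [Set.mem_singleton_iff] at hy
    subst hy
    obtain ⟨g, rfl⟩ := isConj_iff.mp hc
    refine Subgroup.mem_centralizer_singleton_iff.mpr ?_
    have h1 := hgood g z ⟨hz, Involution.mul_self_of_orderOf hz2⟩
    rw [hO, Subgroup.mem_bot, mul_inv_eq_one, mul_inv_eq_iff_eq_mul] at h1
    exact h1
  rcases IsSimpleGroup.eq_bot_or_eq_top_of_normal (Subgroup.normalClosure ({t} : Set G))
    inferInstance with h1 | h1
  · exact Involution.ne_one_of_orderOf ht
      (Subgroup.mem_bot.mp (h1 ▸ Subgroup.subset_normalClosure (Set.mem_singleton t)))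
  · have hzmem : z ∈ Subgroup.center G := Subgroup.mem_center_iff.mpr fun g =>
      Subgroup.mem_centralizer_singleton_iff.mp (hzc (h1 ▸ Subgroup.mem_top g))
    rw [H40.center_eq_bot_of_simple hcomm, Subgroup.mem_bot] at hzmem
    exact Involution.ne_one_of_orderOf hz2 hzmem

end Cfsg.Agent.S3312
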