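import Cfsg.Statements.S3313
import Cfsg.Agent.J2Order38.Order
import Cfsg.Agent.Lib.LargeExtraspecial.Sections
import Cfsg.Agent.Lib.LargeExtraspecial.Pullback
import Cfsg.Agent.Class49.CharTwo

set_option autoImplicit false
open Cfsg

namespace Cfsg.Agent.S3313

/-- The order of a simple group with the involution pattern of the Hall–Janko group. Let G be a non-abelian finite simple group with exactly two conjugacy classes of involutions, represented by z and t, such that: F*(C_G(z)) is an extraspecial 2-group; Q = O₂(C_G(z)) has order 32 and C_G(z) is the semidirect product of Q by a subgroup isomorphic to A₅; every involution of Q is conjugate to z and every other involution of C_G(z) is conjugate to t; C_G(t) is an internal direct product V × B with V a four-group containing t and B ≅ A₅; every involution of B is conjugate to z and every other involution of C_G(t) is conjugate to t. Then |G| = 604800. -/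
theorem result {G : Type*} [Group G] [Finite G]
    [IsSimpleGroup G] (hna : ¬ IsMulCommutative G) (z t : G) (hz : orderOf z = 2) (ht : orderOf t = 2)
    (hzt : ¬ IsConj z t) (hcl : ∀ x : G, orderOf x = 2 → IsConj x z ∨ IsConj x t)
    (hex : Cfsg.IsExtraspecial 2 ↥(Cfsg.generalizedFittingSubgroup ↥(Subgroup.centralizer ({z} : Set G))))
    (hQ : Nat.card ↥(Cfsg.pCore 2 ↥(Subgroup.centralizer ({z} : Set G))) = 32)
    (K : Subgroup G) (hK : Nonempty (↥K ≃* alternatingGroup (Fin 5)))
    (hKC : K ⊔ (Cfsg.pCore 2 ↥(Subgroup.centralizer ({z} : Set G))).map (Subgroup.centralizer ({z} : Set G)).subtype = Subgroup.centralizer ({z} : Set G))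
    (hKQ : K ⊓ (Cfsg.pCore 2 ↥(Subgroup.centralizer ({z} : Set G))).map (Subgroup.centralizer ({z} : Set G)).subtype = ⊥)
    (hQz : ∀ x ∈ (Cfsg.pCore 2 ↥(Subgroup.centralizer ({z} : Set G))).map (Subgroup.centralizer ({z} : Set G)).subtype, orderOf x = 2 → IsConj x z)
    (hCz : ∀ x ∈ Subgroup.centralizer ({z} : Set G), orderOf x = 2 →
      x ∉ (Cfsg.pCore 2 ↥(Subgroup.centralizer ({z} : Set G))).map (Subgroup.centralizer ({z} : Set G)).subtype → IsConj x t)
    (V B : Subgroup G) (hVB : Cfsg.IsInternalDirectProduct V B (Subgroup.centralizer ({t} : Set G)))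
    (hV : Nat.card ↥V = 4) (hV2 : ∀ v ∈ V, v ^ 2 = 1) (htV : t ∈ V) (hB : Nonempty (↥B ≃* alternatingGroup (Fin 5)))
    (hBz : ∀ x ∈ B, orderOf x = 2 → IsConj x z)
    (hCt : ∀ x ∈ Subgroup.centralizer ({t} : Set G), orderOf x = 2 → x ∉ B → IsConj x t) :
    Nat.card G = 604800 := by
  classical
  haveI : Fact (Nat.Prime 2) := ⟨Nat.prime_two⟩
  set C := Subgroup.centralizer ({z} : Set G) with hC
  set P := Cfsg.pCore 2 ↥C with hP
  have hF : Cfsg.generalizedFittingSubgroup ↥C = P := by
    refine le_antisymm ?_ (Class49.pCore_le_fStar (p := 2))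
    exact Thompson.le_pCore inferInstance hex.1.1
  rw [hF] at hex
  set Q := P.map C.subtype with hQdef
  have hle : Q ≤ C := Subgroup.map_subtype_le P
  have hE : Cfsg.IsExtraspecial 2 ↥Q :=
    LargeExtraspecial.isExtraspecial_equiv (P.equivMapOfInjective _ C.subtype_injective) hex
  have hS : LargeExtraspecial.Setup Q z :=
    LargeExtraspecial.setup_of_centralizer hz hle (by rw [← hC, hF]) hE
  have hmem : ∀ h : C, (h : G) ∈ Q ↔ h ∈ P := fun h =>
    Subgroup.mem_map_iff_mem C.subtype_injective
  haveI hPn : P.Normal := by rw [hP]; infer_instance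
  have hKle : K ≤ C := hKC ▸ le_sup_left
  set K' : Subgroup C := K.subgroupOf C with hK'
  have hmapK : K'.map C.subtype = K := by
    rw [hK', Subgroup.map_subgroupOf_eq_of_le hKle]
  have htop : K' ⊔ P = ⊤ := by
    apply Subgroup.map_injective C.subtype_injective
    rw [Subgroup.map_sup, hmapK, ← MonoidHom.range_eq_map, Subgroup.range_subtype]
    exact hKC
  have hdis : K' ⊓ P = ⊥ := by
    apply Subgroup.map_injective C.subtype_injective
    rw [Subgroup.map_inf _ _ _ C.subtype_injective, hmapK, Subgroup.map_bot]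
    exact hKQ
  have hcompl : Subgroup.IsComplement' K' P := by
    refine Subgroup.isComplement'_of_disjoint_and_mul_eq_univ (disjoint_iff.mpr hdis) ?_
    rw [← Subgroup.mul_normal, htop, Subgroup.coe_top]
  obtain ⟨φ⟩ := hK
  have ψ : ↥C ⧸ P ≃* alternatingGroup (Fin 5) :=
    (Subgroup.IsComplement'.QuotientMulEquiv hcompl).trans
      ((Subgroup.subgroupOfEquivOfLe hKle).trans φ)
  obtain ⟨x, hxQ, hx2, hxz⟩ : ∃ x ∈ Q, orderOf x = 2 ∧ x ≠ z := by
    by_contra hcon
    push Not at hcon
    have h8 := (PGroup.xs_two_card_of_no_involution hex fun a ha => ?_).1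
    · rw [hQ] at h8; omega
    by_cases ha1 : a = 1
    · exact ha1 ▸ one_mem _
    have ho : orderOf ((a : C) : G) = 2 := by
      rw [Subgroup.orderOf_coe, Subgroup.orderOf_coe]
      exact orderOf_eq_prime ha ha1
    have hzz : ((a : C) : G) = z := hcon _ ((hmem _).mpr a.2) ho
    refine Subgroup.mem_center_iff.mpr fun b => Subtype.ext (Subtype.ext ?_)
    show ((b : C) : G) * (a : C) = (a : C) * (b : C)
    rw [hzz]
    exact Subgroup.mem_centralizer_singleton_iff.mp (b : C).2
  refine J2Order38.HJ.card_eq (z := z) (Q := Q) ⟨hS, ?_, ?_, ?_⟩ ⟨z, t, hz, ht, hzt⟩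
  · rw [hQdef, Subgroup.card_map_of_injective C.subtype_injective, hQ]
  · refine ⟨ψ.toMonoidHom.comp (QuotientGroup.mk' P),
      ψ.surjective.comp (QuotientGroup.mk'_surjective P), fun h => ?_⟩
    rw [MonoidHom.comp_apply, MulEquiv.coe_toMonoidHom, MulEquiv.map_eq_one_iff,
      QuotientGroup.mk'_apply, QuotientGroup.eq_one_iff, hmem]
  · exact ⟨x, hxQ, hxz, (hQz x hxQ hx2).symm⟩

end Cfsg.Agent.S3313
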