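import Cfsg.Statements.S3315
import Cfsg.Agent.TwoFusionB.SU3Ext
-- import your own Cfsg.Agent.* helpers here

set_option autoImplicit false
open Cfsg

namespace Cfsg.Agent.S3315

/-- Let S be a Sylow 2-subgroup of SU₃(2ⁿ), n ≥ 2 (realised over the field with 4ⁿ elements). If a finite 2-group R contains a subgroup S' of index 2 isomorphic to S, then the centre of S' is contained in the centre of R. -/
theorem result {R : Type*} [Group R] [Finite R]
    (hR : IsPGroup 2 R) (n : ℕ) (hn : 2 ≤ n) {F : Type*} [Field F] [Fintype F] (hF : Fintype.card F = 4 ^ n)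
    (P : Sylow 2 ↥(Cfsg.SU 3 F (2 ^ n))) (S' : Subgroup R) (hS : Nonempty (↥S' ≃* ↥(P : Subgroup ↥(Cfsg.SU 3 F (2 ^ n)))))
    (hidx : S'.index = 2) :
    (Subgroup.center ↥S').map S'.subtype ≤ Subgroup.center R := by
  obtain ⟨e₀⟩ := hS
  haveI : Fact (Nat.Prime 2) := ⟨Nat.prime_two⟩
  have hF' : Fintype.card F = (2 ^ n) ^ 2 := by
    rw [hF, ← pow_mul, mul_comm, pow_mul]; norm_num
  obtain ⟨Q, φ, ι, ν, hM, hchar⟩ :=
    Cfsg.Agent.TwoFusionB.exists_hModel hF' (n := n) (by omega) rfl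
  let e : ↥S' ≃* ↥(Q : Subgroup ↥(Cfsg.SU 3 F (2 ^ n))) := e₀.trans (Sylow.equiv P Q)
  haveI : S'.Normal := Subgroup.normal_of_index_eq_two hidx
  rintro _ ⟨z, hz, rfl⟩
  rw [Subgroup.mem_center_iff]
  intro g
  have hzS : ∀ s ∈ S', s * (z : R) = z * s := fun s hs =>
    congrArg Subtype.val (Subgroup.mem_center_iff.mp hz ⟨s, hs⟩)
  by_cases hg : g ∈ S'
  · exact hzS g hg
  have hg2 : g * g ∈ S' := (Subgroup.mul_mem_iff_of_index_two hidx).mpr Iff.rfl
  let β : MulAut ↥S' := MulAut.conjNormal g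
  let α : MulAut ↥(Q : Subgroup ↥(Cfsg.SU 3 F (2 ^ n))) := (e.symm.trans β).trans e
  have hfix := hM.fix_center hF' α (e ⟨g * g, hg2⟩) (fun x => by
    obtain ⟨x, rfl⟩ := e.surjective x
    simp only [α, MulEquiv.trans_apply, MulEquiv.symm_apply_apply]
    rw [← map_inv, ← map_mul, ← map_mul]
    congr 1
    apply Subtype.ext
    simp [β, mul_assoc]) (e z) (by
    rw [Subgroup.mem_center_iff]
    intro y
    obtain ⟨y, rfl⟩ := e.surjective y
    rw [← map_mul, ← map_mul, Subgroup.mem_center_iff.mp hz y])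
  simp only [α, MulEquiv.trans_apply, MulEquiv.symm_apply_apply, EmbeddingLike.apply_eq_iff_eq] at hfix
  have h3 : g * (z : R) * g⁻¹ = z := congrArg Subtype.val hfix
  exact mul_inv_eq_iff_eq_mul.mp h3

end Cfsg.Agent.S3315
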