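import Cfsg.Statements.S3347
import Mathlib
import Cfsg.Agent.InertTwo.Count
import Cfsg.Agent.PLocalB.PConstrained
import Cfsg.Agent.Lib.Transfer.Focal
import Cfsg.Agent.Lib.Thompson.Cores
import Mathlib.GroupTheory.FiniteAbelian.Basic

set_option autoImplicit false
open Cfsg

namespace Cfsg.Agent.S3347

open Cfsg.Agent.InertTwo
open scoped commutatorElement

universe u

variable {p : ℕ} [hp : Fact p.Prime] {G : Type u} [Group G] [Finite G]

/-- A noncyclic abelian `p`-group has two independent forms. -/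
theorem exists_twoForms {P : Subgroup G} (hP : IsPGroup p P) (hab : IsMulCommutative P)
    (hnc : ¬ IsCyclic P) : Nonempty (TwoForms p P) := by
  classical
  letI : CommGroup P := { (inferInstance : Group P) with mul_comm := hab.is_comm.comm }
  obtain ⟨ι, _, n, hn, ⟨e⟩⟩ := CommGroup.equiv_prod_multiplicative_zmod_of_finite P
  have hdvd : ∀ i, p ∣ n i := fun i => by
    obtain ⟨k, hk⟩ := IsPGroup.iff_card.mp hP
    have h : n i ∣ p ^ k := by
      rw [← hk, Nat.card_congr e.toEquiv, Nat.card_pi]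
      refine dvd_trans (dvd_of_eq ?_) (Finset.dvd_prod_of_mem _ (Finset.mem_univ i))
      exact (Nat.card_congr (Multiplicative.toAdd (α := ZMod (n i))) |>.trans (Nat.card_zmod _)).symm
    obtain ⟨j, -, hj⟩ := (Nat.dvd_prime_pow hp.out).mp h
    rw [hj]
    refine dvd_pow_self p fun h0 => ?_
    have := hn i
    rw [hj, h0, pow_zero] at this
    exact lt_irrefl 1 this
  obtain ⟨i, j, hij⟩ : ∃ i j : ι, i ≠ j := by
    by_contra hcon
    push Not at hcon
    have : Subsingleton ι := ⟨hcon⟩
    rcases isEmpty_or_nonempty ι with hι | ⟨⟨i₀⟩⟩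
    · exact hnc (@isCyclic_of_subsingleton _ _ e.toEquiv.subsingleton)
    · haveI : IsCyclic (Multiplicative (ZMod (n i₀))) := inferInstance
      let q : P →* Multiplicative (ZMod (n i₀)) := (Pi.evalMonoidHom _ i₀).comp e.toMonoidHom
      exact hnc (isCyclic_of_injective q fun x y h => e.injective (funext fun k => by
        rw [Subsingleton.elim k i₀]; exact h))
  let c : ∀ k : ι, P → ZMod p := fun k x =>
    ZMod.castHom (hdvd k) (ZMod p) (Multiplicative.toAdd (e x k))
  have hc : ∀ k x y, c k (x * y) = c k x + c k y := fun k x y => by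
    simp only [c, map_mul, Pi.mul_apply, toAdd_mul, map_add]
  let g : ι → P := fun k => e.symm (Pi.mulSingle k (Multiplicative.ofAdd 1))
  have hcg : ∀ k l, c k (g l) = if k = l then 1 else 0 := fun k l => by
    simp only [c, g, MulEquiv.apply_symm_apply]
    split_ifs with h
    · subst h; rw [Pi.mulSingle_eq_same, toAdd_ofAdd, map_one]
    · rw [Pi.mulSingle_eq_of_ne h, toAdd_one, map_zero]
  exact ⟨{
    a := c i, b := c j, a_mul := hc i, b_mul := hc j, u := g i, v := g j
    au := by rw [hcg, if_pos rfl]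
    bu := by rw [hcg, if_neg hij.symm]
    av := by rw [hcg, if_neg hij]
    bv := by rw [hcg, if_pos rfl] }⟩

/-- When `O^p(G) = G` the normalizer induces the inversion. -/
theorem exists_hyp (h2 : p ≠ 2) (P : Sylow p G) (hab : IsMulCommutative (P : Subgroup G))
    (hidx : ((Subgroup.centralizer ((P : Subgroup G) : Set G)).subgroupOf
      (Subgroup.normalizer ((P : Subgroup G) : Set G))).index = 2)
    (hres : pResidual p G = ⊤) : ∃ t, Hyp P t := by
  set N := Subgroup.normalizer ((P : Subgroup G) : Set G)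
  set C := Subgroup.centralizer ((P : Subgroup G) : Set G)
  obtain ⟨a, ha⟩ := Subgroup.index_eq_two_iff.mp hidx
  have hcomm : ∀ x ∈ (P : Subgroup G), ∀ y ∈ (P : Subgroup G), x * y = y * x := fun x hx y hy =>
    congrArg Subtype.val (hab.is_comm.comm (⟨x, hx⟩ : ↥(P : Subgroup G)) ⟨y, hy⟩)
  have hN : ∀ n : N, (∀ x ∈ (P : Subgroup G), (n : G) * x * (n : G)⁻¹ = x) ∨
      (n * a ∈ C.subgroupOf N) := fun n => by
    rcases ha n with ⟨h, -⟩ | ⟨h, -⟩
    · exact Or.inr h
    · refine Or.inl fun x hx => ?_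
      rw [← Subgroup.mem_centralizer_iff.mp (Subgroup.mem_subgroupOf.mp h) x hx, mul_inv_cancel_right]
  set t : G := ((a⁻¹ : N) : G) with ht
  have hmemN : ∀ n ∈ N, ∀ x ∈ (P : Subgroup G), n * x * n⁻¹ ∈ (P : Subgroup G) := fun n hn x hx =>
    (Subgroup.mem_normalizer_iff.mp hn x).mp hx
  have hor : ∀ n ∈ N, (∀ x ∈ (P : Subgroup G), n * x * n⁻¹ = x) ∨
      (∀ x ∈ (P : Subgroup G), n * x * n⁻¹ = t * x * t⁻¹) := fun n hn => by
    refine (hN ⟨n, hn⟩).imp id fun h x hx => ?_
    have h1 : t * x * t⁻¹ ∈ (P : Subgroup G) := hmemN t (a⁻¹).2 x hx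
    have h3 := Subgroup.mem_centralizer_iff.mp (Subgroup.mem_subgroupOf.mp h) _ h1
    rw [Subgroup.coe_mul] at h3
    simp only [ht, InvMemClass.coe_inv] at h3 ⊢
    calc n * x * n⁻¹
        = (n * (a : G)) * ((a : G)⁻¹ * x * ((a : G)⁻¹)⁻¹) * (n * (a : G))⁻¹ := by group
      _ = _ := by rw [← h3, mul_inv_cancel_right]
  have htt : ∀ x ∈ (P : Subgroup G), t * (t * x * t⁻¹) * t⁻¹ = x := fun x hx => by
    have hC : (a⁻¹ * a⁻¹ : N) ∈ C.subgroupOf N := Subgroup.mul_self_mem_of_index_two hidx _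
    have h := Subgroup.mem_centralizer_iff.mp (Subgroup.mem_subgroupOf.mp hC) x hx
    rw [Subgroup.coe_mul, ← ht] at h
    calc t * (t * x * t⁻¹) * t⁻¹ = (t * t) * x * (t * t)⁻¹ := by group
      _ = x := by rw [← h, mul_inv_cancel_right]
  let θ : ↥(P : Subgroup G) →* ↥(P : Subgroup G) :=
    MonoidHom.mk' (fun x => x * (⟨_, hmemN t (a⁻¹).2 x x.2⟩ : ↥(P : Subgroup G))⁻¹) fun x y => by
      refine Subtype.ext ?_
      simp only [Subgroup.coe_mul, InvMemClass.coe_inv]
      have hx : (t * (x : G) * t⁻¹)⁻¹ ∈ (P : Subgroup G) := inv_mem (hmemN t (a⁻¹).2 x x.2)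
      calc (x : G) * y * (t * ((x : G) * y) * t⁻¹)⁻¹
          = (x : G) * (y * (t * y * t⁻¹)⁻¹) * (t * x * t⁻¹)⁻¹ := by group
        _ = _ := by
            rw [mul_assoc, hcomm _ (mul_mem y.2 (inv_mem (hmemN t (a⁻¹).2 y y.2))) _ hx]
            group
  have hsurj : Function.Surjective θ := by
    rw [← MonoidHom.range_eq_top]
    refine top_le_iff.mp fun x _ => ?_
    have hx : (x : G) ∈ ⁅(P : Subgroup G), N⁆ := by
      rw [← Transfer.focalSubgroup_eq_commutator_normalizer_of_abelian P hab]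
      exact Transfer.sylow_le_focalSubgroup_of_pResidual_eq_top P hres x.2
    have hle : ⁅(P : Subgroup G), N⁆ ≤ θ.range.map (P : Subgroup G).subtype := by
      rw [Subgroup.commutator_le]
      intro y hy n hn
      rcases hor n hn with h | h
      · have : ⁅y, n⁆ = 1 := by
          rw [commutatorElement_def, show y * n * y⁻¹ * n⁻¹ = y * (n * y⁻¹ * n⁻¹) by group,
            h _ (inv_mem hy), mul_inv_cancel]
        rw [this]; exact one_mem _
      · refine ⟨θ ⟨y, hy⟩, ⟨_, rfl⟩, ?_⟩
        rw [commutatorElement_def, show y * n * y⁻¹ * n⁻¹ = y * (n * y⁻¹ * n⁻¹) by group,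
          h _ (inv_mem hy)]
        show y * (t * y * t⁻¹)⁻¹ = _
        group
    obtain ⟨z, hz, hzx⟩ := hle hx
    rwa [← Subtype.ext (a1 := z) (a2 := x) hzx]
  have hinj : Function.Injective θ := Finite.injective_iff_surjective.mpr hsurj
  have hinv : ∀ x ∈ (P : Subgroup G), t * x * t⁻¹ = x⁻¹ := fun x hx => by
    let y : ↥(P : Subgroup G) := ⟨x, hx⟩ * ⟨_, hmemN t (a⁻¹).2 x hx⟩
    have h : θ y = θ 1 := by
      rw [map_one]
      refine Subtype.ext ?_
      show x * (t * x * t⁻¹) * (t * (x * (t * x * t⁻¹)) * t⁻¹)⁻¹ = 1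
      rw [show t * (x * (t * x * t⁻¹)) * t⁻¹ = t * x * t⁻¹ * (t * (t * x * t⁻¹) * t⁻¹) by group,
        htt x hx, hcomm _ (hmemN t (a⁻¹).2 x hx) x hx, mul_inv_cancel]
    exact eq_inv_of_mul_eq_one_right (congrArg Subtype.val (hinj h))
  exact ⟨t, h2, hcomm, hinv, fun n hn => (hor n hn).imp id fun h x hx => (h x hx).trans (hinv x hx)⟩

/-- Modulo `O_{p'}` the Sylow subgroup is normal. -/
theorem normal_of_pPrimeCore_eq_bot {P : Sylow p G} {t : G} (H : Hyp P t)
    (F : TwoForms p (P : Subgroup G)) (hcore : pPrimeCore p G = ⊥) : (P : Subgroup G).Normal := by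
  classical
  have := Fintype.ofFinite G
  have := Fintype.ofFinite ↥(P : Subgroup G)
  obtain ⟨φ, hφ, h0, hsing, hcase⟩ := exists_constituent F H
  obtain ⟨ε, χ, hε, hφχ⟩ := OddChar.signed_exists_sign hφ
  obtain ⟨d, hd0, -, hd⟩ := CharClifford.exists_degree_dvd_card χ.2
  have hval : ∀ g, (χ : G → ℂ) g = (ε : ℂ) * φ g := fun g => by
    rw [hφχ, Pi.smul_apply, smul_eq_mul, ← mul_assoc]
    rcases hε with rfl | rfl <;> simp
  have hu1 : (F.u : G) ≠ 1 := fun h => by
    have := F.au
    rw [show F.u = 1 from Subtype.ext h, F.a_one] at this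
    exact zero_ne_one this
  have hordP : ∀ x ∈ (P : Subgroup G), x ≠ 1 → p ∣ orderOf x := fun x hx hx1 => by
    obtain ⟨k, hk⟩ := IsPGroup.iff_orderOf.mp P.2 ⟨x, hx⟩
    rw [Subgroup.orderOf_mk] at hk
    rcases Nat.eq_zero_or_pos k with rfl | hk0
    · exact absurd (orderOf_eq_one_iff.mp hk) hx1
    · exact hk ▸ dvd_pow_self p hk0.ne'
  by_cases hD : φ 1 = 1
  swap
  · exfalso
    have hinvol := hcase.resolve_left hD
    obtain ⟨s, hs, hs1⟩ : ∃ s : G, s * s = 1 ∧ s ≠ 1 := by
      have heven : 2 ∣ orderOf t := by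
        by_contra hodd
        obtain ⟨k, hk⟩ := Nat.not_even_iff_odd.mp fun h => hodd (even_iff_two_dvd.mp h)
        have hx := F.u.2
        have hx' : t * (F.u : G) * t⁻¹ = (F.u : G)⁻¹ := H.inv _ hx
        have hpow : ∀ j : ℕ, t ^ (2 * j) * (F.u : G) * (t ^ (2 * j))⁻¹ = (F.u : G) := fun j => by
          induction j with
          | zero => simp
          | succ j ih =>
            rw [show 2 * (j + 1) = 1 + 1 + 2 * j by ring, pow_add, pow_add, pow_one]
            calc t * t * t ^ (2 * j) * (F.u : G) * (t * t * t ^ (2 * j))⁻¹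
                = t * (t * (t ^ (2 * j) * (F.u : G) * (t ^ (2 * j))⁻¹) * t⁻¹) * t⁻¹ := by group
              _ = _ := by
                have := H.inv _ (inv_mem hx)
                rw [inv_inv] at this
                rw [ih, hx', this]
        have h1 : t ^ (2 * k) = t⁻¹ :=
          eq_inv_of_mul_eq_one_left (by rw [← pow_succ, ← hk, pow_orderOf_eq_one])
        have h3 := hpow k
        rw [h1, inv_inv] at h3
        have h4 : (F.u : G) = t * (F.u : G) * t⁻¹ := by nth_rw 2 [← h3]; group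
        exact H.sq_ne_one hx hu1 (hx'.symm.trans h4.symm)
      obtain ⟨m, hm⟩ := heven
      have hm0 : 0 < m := by have := orderOf_pos t; omega
      exact ⟨t ^ m, by rw [← pow_add, ← two_mul, ← hm, pow_orderOf_eq_one],
        pow_ne_one_of_lt_orderOf hm0.ne' (by omega)⟩
    let N := CharCore.charKernel (CharCore.irr_isCharacter χ)
    have hsN : s ∈ N := (CharCore.mem_charKernel _ s).mpr (by rw [hval, hval, hinvol s hs])
    have hN : N ≤ pPrimeCore p G := by
      refine Thompson.le_pPrimeCore inferInstance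
        (Nat.coprime_comm.mpr (hp.out.coprime_iff_not_dvd.mpr fun hdvd => ?_))
      obtain ⟨g, hg⟩ := exists_prime_orderOf_dvd_card' p hdvd
      have hgN := (CharCore.mem_charKernel _ (g : G)).mp g.2
      rw [hval, hval, hsing _ (by rw [Subgroup.orderOf_coe, hg])] at hgN
      refine hD (mul_left_cancel₀ ?_ hgN.symm)
      rcases hε with rfl | rfl <;> norm_num
    exact hs1 (Subgroup.mem_bot.mp (hcore ▸ hN hsN))
  -- the linear case
  have hε1 : ε = 1 := by
    rcases hε with h | h
    · exact h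
    · exfalso
      have h1 := hval 1
      rw [hd, hD, h, mul_one] at h1
      have h' : (d : ℤ) = -1 := by exact_mod_cast h1
      omega
  have hφfun : (χ : G → ℂ) = φ := funext fun g => by rw [hval, hε1, Int.cast_one, one_mul]
  obtain ⟨f, hf⟩ := CharCore.IsCharacter.exists_hom_of_degree_one (CharCore.irr_isCharacter χ)
    (by rw [hφfun]; exact hD)
  have hfφ : ∀ g, φ g = (f g : ℂ) := fun g => by rw [← hφfun, hf]
  have hfP : ∀ x ∈ (P : Subgroup G), f x = 1 := fun x hx => by
    by_cases hx1 : x = 1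
    · rw [hx1, map_one]
    · exact Units.ext (by rw [← hfφ, hsing x (hordP x hx hx1)]; rfl)
  have hfC : ∀ c ∈ Subgroup.centralizer ((P : Subgroup G) : Set G), f c = 1 := fun c hc => by
    refine Units.ext ?_
    rw [Units.val_one]
    by_cases hpc : p ∣ orderOf c
    · rw [← hfφ, hsing c hpc]
    · have hcop : (orderOf (F.u : G)).Coprime (orderOf c) := by
        obtain ⟨k, hk⟩ := IsPGroup.iff_orderOf.mp P.2 F.u
        rw [Subgroup.orderOf_coe, hk]
        exact Nat.Coprime.pow_left _ (hp.out.coprime_iff_not_dvd.mpr hpc)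
      have hcm : Commute (F.u : G) c := Subgroup.mem_centralizer_iff.mp hc _ F.u.2
      have h := hsing ((F.u : G) * c) (by
        rw [hcm.orderOf_mul_eq_mul_orderOf_of_coprime hcop]
        exact dvd_mul_of_dvd_left (hordP _ F.u.2 hu1) _)
      rwa [hfφ, map_mul, hfP _ F.u.2, one_mul] at h
  set M := f.ker with hM
  have hPM : (P : Subgroup G) ≤ M := fun x hx => MonoidHom.mem_ker.mpr (hfP x hx)
  let Q : Sylow p M := P.subtype hPM
  have hNM : Subgroup.normalizer (Q : Set M) ≤ Subgroup.centralizer (Q : Set M) := by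
    intro n hn
    have hnN : (n : G) ∈ Subgroup.normalizer ((P : Subgroup G) : Set G) := by
      rw [Subgroup.mem_normalizer_iff]
      intro y
      constructor
      · intro hy
        exact (Subgroup.mem_normalizer_iff.mp hn ⟨y, hPM hy⟩).mp hy
      · intro hy
        have hyC : y ∈ M := by
          have h : (n : G) * y * (n : G)⁻¹ ∈ M := hPM hy
          simpa [mul_assoc] using mul_mem (mul_mem (inv_mem n.2) h) n.2
        exact (Subgroup.mem_normalizer_iff.mp hn ⟨y, hyC⟩).mpr hy
    have hnc : ∀ y ∈ (P : Subgroup G), (n : G) * y * (n : G)⁻¹ = y := by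
      by_contra hcon
      have hni := (H.cent _ hnN).resolve_left hcon
      -- then `f` is trivial
      have hfN : ∀ m ∈ Subgroup.normalizer ((P : Subgroup G) : Set G), f m = 1 := fun m hm => by
        rcases H.cent m hm with h | h
        · exact hfC m (Subgroup.mem_centralizer_iff.mpr fun y hy =>
            (mul_inv_eq_iff_eq_mul.mp (h y hy)).symm)
        · have hc : m * (n : G) ∈ Subgroup.centralizer ((P : Subgroup G) : Set G) :=
            Subgroup.mem_centralizer_iff.mpr fun y hy => (mul_inv_eq_iff_eq_mul.mp (by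
              rw [show m * (n : G) * y * (m * (n : G))⁻¹ = m * ((n : G) * y * (n : G)⁻¹) * m⁻¹ by group,
                hni y hy, h _ (inv_mem hy), inv_inv])).symm
          have h1 := hfC _ hc
          rwa [map_mul, MonoidHom.mem_ker.mp n.2, mul_one] at h1
      have htop : f.ker = ⊤ := by
        rw [← top_le_iff, ← Sylow.normalizer_sup_eq_top Q, sup_le_iff]
        refine ⟨fun m hm => MonoidHom.mem_ker.mpr (hfN m ?_), le_rfl⟩
        have hmap : ((Q : Subgroup M).map M.subtype) = (P : Subgroup G) := by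
          rw [Sylow.coe_subtype, Subgroup.subgroupOf_map_subtype, inf_eq_left.mpr hPM]
        rwa [hmap] at hm
      have hone : φ = 1 := funext fun g => by
        rw [hfφ, MonoidHom.mem_ker.mp (htop ▸ Subgroup.mem_top g : g ∈ f.ker)]; rfl
      rw [hone, (CharCore.isIrrCharacter_iff.mp CharCore.isIrrCharacter_one).2] at h0
      exact one_ne_zero h0
    refine Subgroup.mem_centralizer_iff.mpr fun y hy => Subtype.ext ?_
    exact (mul_inv_eq_iff_eq_mul.mp (hnc _ hy)).symm
  have hcomp := MonoidHom.ker_transferSylow_isComplement' Q hNM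
  set K := (MonoidHom.transferSylow Q hNM).ker
  have hK : K = ⊥ := by
    have h1 : (Nat.card K).Coprime p := by
      rw [← hcomp.index_eq_card]
      exact Nat.coprime_comm.mpr (hp.out.coprime_iff_not_dvd.mpr Q.not_dvd_index)
    have h2 := (Subgroup.map_mono (f := M.subtype) (Thompson.le_pPrimeCore inferInstance h1)).trans
      (Thompson.map_pPrimeCore_normal_le (p := p) M)
    rw [hcore, le_bot_iff, Subgroup.map_eq_bot_iff_of_injective _ M.subtype_injective] at h2
    exact h2
  rw [hK, Subgroup.isComplement'_bot_left, Sylow.coe_subtype, Subgroup.subgroupOf_eq_top] at hcomp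
  rw [le_antisymm hPM hcomp]
  exact f.normal_ker

/-- Let G be a finite group, p an odd prime, and P an abelian, non-cyclic Sylow p-subgroup of G with [N_G(P) : C_G(P)] = 2. Then either O^p(G) is a proper subgroup of G, or G has p-length 1 (G = O_{p',p,p'}(G)). -/
theorem result {G : Type*} [Group G] [Finite G]
    (p : ℕ) [Fact p.Prime] (hp : p ≠ 2) (P : Sylow p G) (hab : IsMulCommutative (P : Subgroup G)) (hnc : ¬ IsCyclic (P : Subgroup G))
    (hidx : ((Subgroup.centralizer ((P : Subgroup G) : Set G)).subgroupOf (Subgroup.normalizer ((P : Subgroup G) : Set G))).index = 2) :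
    Cfsg.pResidual p G ≠ ⊤ ∨ Cfsg.PLengthLE p 1 G := by
  classical
  refine or_iff_not_imp_left.mpr fun hres => ?_
  rw [not_not] at hres
  obtain ⟨t, H⟩ := exists_hyp hp P hab hidx hres
  obtain ⟨F⟩ := exists_twoForms P.2 hab hnc
  set M := pPrimeCore p G with hMdef
  let π := QuotientGroup.mk' M
  have hπ : Function.Surjective π := QuotientGroup.mk'_surjective M
  let Pb : Sylow p (G ⧸ M) := P.mapSurjective hπ
  have hPb : (Pb : Subgroup (G ⧸ M)) = (P : Subgroup G).map π := rfl
  have hbot : (P : Subgroup G) ⊓ M = ⊥ :=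
    Thompson.inf_eq_bot_of_isPGroup_of_coprime P.2 Thompson.card_pPrimeCore_coprime
  have Hb : InertTwo.Hyp Pb (π t) := by
    refine ⟨hp, ?_, ?_, ?_⟩
    · rintro _ ⟨x, hx, rfl⟩ _ ⟨y, hy, rfl⟩
      rw [← map_mul, ← map_mul, H.comm x hx y hy]
    · rintro _ ⟨x, hx, rfl⟩
      rw [← map_inv, ← map_mul, ← map_mul, H.inv x hx, map_inv]
    · intro n hn
      rw [hPb, ← PLocalB.map_normalizer_eq M (P : Subgroup G) Thompson.card_pPrimeCore_coprime P.2] at hn
      obtain ⟨m, hm, rfl⟩ := hn
      refine (H.cent m hm).imp (fun h => ?_) fun h => ?_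
      · rintro _ ⟨x, hx, rfl⟩
        rw [← map_inv, ← map_mul, ← map_mul, h x hx]
      · rintro _ ⟨x, hx, rfl⟩
        rw [← map_inv, ← map_mul, ← map_mul, h x hx, map_inv]
  have hex : ∀ y : ↥(Pb : Subgroup (G ⧸ M)), ∃ x : ↥(P : Subgroup G), π x = y := fun y => by
    obtain ⟨x, hx, hxy⟩ := y.2
    exact ⟨⟨x, hx⟩, hxy⟩
  choose r hr using hex
  have huniq : ∀ (y : ↥(Pb : Subgroup (G ⧸ M))) (x : ↥(P : Subgroup G)), π x = y → r y = x := by
    intro y x hx
    have hmem : (r y : G)⁻¹ * (x : G) ∈ (P : Subgroup G) ⊓ M :=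
      Subgroup.mem_inf.mpr ⟨mul_mem (inv_mem (r y).2) x.2, by
        rw [← QuotientGroup.eq_one_iff]
        show π ((r y : G)⁻¹ * x) = 1
        rw [map_mul, map_inv, hr, hx, inv_mul_cancel]⟩
    rw [hbot, Subgroup.mem_bot, inv_mul_eq_one] at hmem
    exact Subtype.ext hmem
  have hrmul : ∀ y z, r (y * z) = r y * r z := fun y z => huniq _ _ (by
    rw [Subgroup.coe_mul, map_mul, hr, hr, Subgroup.coe_mul])
  let Fb : InertTwo.TwoForms p (Pb : Subgroup (G ⧸ M)) := {
    a := fun y => F.a (r y)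
    b := fun y => F.b (r y)
    a_mul := fun y z => by rw [hrmul, F.a_mul]
    b_mul := fun y z => by rw [hrmul, F.b_mul]
    u := ⟨π F.u, ⟨_, F.u.2, rfl⟩⟩
    v := ⟨π F.v, ⟨_, F.v.2, rfl⟩⟩
    au := by rw [huniq _ F.u rfl, F.au]
    bu := by rw [huniq _ F.u rfl, F.bu]
    av := by rw [huniq _ F.v rfl, F.av]
    bv := by rw [huniq _ F.v rfl, F.bv] }
  have hnorm : ((P : Subgroup G).map π).Normal :=
    normal_of_pPrimeCore_eq_bot Hb Fb Thompson.pPrimeCore_quotient_pPrimeCore
  have hL : ((P : Subgroup G) ⊔ M).Normal := by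
    have h := hnorm.comap π
    rwa [Subgroup.comap_map_eq, QuotientGroup.ker_mk'] at h
  show (upperPSeries p G 3).1 = ⊤
  have e1 : (upperPSeries p G 1).1 =
      (pPrimeCore p (G ⧸ (upperPSeries p G 0).1)).comap (QuotientGroup.mk' _) := by
    simp [upperPSeries]
  have hM1 : M ≤ (upperPSeries p G 1).1 := by
    rw [e1, ← Subgroup.map_le_iff_le_comap]
    exact Thompson.map_pPrimeCore_le_of_surjective _ (QuotientGroup.mk'_surjective _)
  have e2 : (upperPSeries p G 2).1 =
      (pCore p (G ⧸ (upperPSeries p G 1).1)).comap (QuotientGroup.mk' _) := by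
    simp [upperPSeries]
  have hP2 : (P : Subgroup G) ≤ (upperPSeries p G 2).1 := by
    rw [e2, ← Subgroup.map_le_iff_le_comap]
    refine Thompson.le_pCore ?_ (P.2.map _)
    have h := hL.map (QuotientGroup.mk' (upperPSeries p G 1).1) (QuotientGroup.mk'_surjective _)
    rwa [Subgroup.map_sup, show M.map (QuotientGroup.mk' (upperPSeries p G 1).1) = ⊥ from
      (Subgroup.map_eq_bot_iff _).mpr (by rw [QuotientGroup.ker_mk']; exact hM1),
      sup_bot_eq] at h
  have e3 : (upperPSeries p G 3).1 =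
      (pPrimeCore p (G ⧸ (upperPSeries p G 2).1)).comap (QuotientGroup.mk' _) := by
    simp [upperPSeries]
  rw [e3, Thompson.pPrimeCore_eq_top_iff.mpr ?_, Subgroup.comap_top]
  rw [← Subgroup.index_eq_card]
  exact Nat.coprime_comm.mpr ((Fact.out : p.Prime).coprime_iff_not_dvd.mpr fun h =>
    P.not_dvd_index (h.trans (Subgroup.index_dvd_of_le hP2)))

end Cfsg.Agent.S3347
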