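import Cfsg.Statements.S3349
-- import your own Cfsg.Agent.* helpers here

set_option autoImplicit false
open Cfsg

namespace Cfsg.Agent.S3349

/-- Let Q be a finite extraspecial p-group and α an automorphism of Q fixing every element of some maximal abelian subgroup of Q. Then the order of α is a power of p. -/
theorem result {Q : Type*} [Group Q] [Finite Q]
    (p : ℕ) [Fact p.Prime] (hQ : Cfsg.IsExtraspecial p Q) (α : MulAut Q)
    (A : Subgroup Q) (hA : IsMulCommutative A) (hmax : ∀ B : Subgroup Q, A ≤ B → IsMulCommutative B → B = A)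
    (hfix : ∀ a ∈ A, α a = a) :
    ∃ k : ℕ, orderOf α = p ^ k := by
  have hQ' := hQ
  obtain ⟨⟨hQp, -, -⟩, -⟩ := hQ
  have hself : ∀ x : Q, (∀ a ∈ A, x * a = a * x) → x ∈ A := by
    intro x hx
    have hcomm : IsMulCommutative (Subgroup.closure ((A : Set Q) ∪ {x})) := by
      apply Subgroup.isMulCommutative_closure
      rintro a (ha | rfl) b (hb | rfl)
      · exact congrArg Subtype.val (mul_comm' (⟨a, ha⟩ : A) ⟨b, hb⟩)
      · exact (hx a ha).symm
      · exact hx b hb
      · rfl
    rw [← hmax _ (fun a ha => Subgroup.subset_closure (Or.inl ha)) hcomm]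
    exact Subgroup.subset_closure (Or.inr rfl)
  have hnorm : ∀ (x a : Q), a ∈ A → x * a * x⁻¹ ∈ A := by
    intro x a ha
    obtain ⟨⟨-, -, hder⟩, -⟩ := hQ'
    have hc : x * a * x⁻¹ * a⁻¹ ∈ Subgroup.center Q := by
      rw [← hder]
      exact Subgroup.commutator_mem_commutator (Subgroup.mem_top x) (Subgroup.mem_top a)
    have hz : x * a * x⁻¹ * a⁻¹ ∈ A :=
      hself _ fun b _ => (Subgroup.mem_center_iff.1 hc b).symm
    simpa using A.mul_mem hz ha
  -- the commutator of `α` with any element lies in `A`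
  have hd : ∀ x : Q, x⁻¹ * α x ∈ A := by
    intro x
    apply hself
    intro a ha
    -- `A` is normal in the group, as it contains the derived subgroup
    have hAn : x * a * x⁻¹ ∈ A := hnorm x a ha
    have h := hfix _ hAn
    rw [map_mul, map_mul, map_inv, hfix a ha] at h
    calc x⁻¹ * α x * a = x⁻¹ * (α x * a * (α x)⁻¹) * α x := by group
      _ = x⁻¹ * (x * a * x⁻¹) * α x := by rw [h]
      _ = a * (x⁻¹ * α x) := by group
  have hpow : ∀ (x : Q) (k : ℕ), (α ^ k) x = x * (x⁻¹ * α x) ^ k := by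
    intro x k
    induction k with
    | zero => simp
    | succ k ih =>
      rw [pow_succ', MulAut.mul_apply, ih, map_mul, map_pow, hfix _ (hd x)]
      calc α x * (x⁻¹ * α x) ^ k = x * ((x⁻¹ * α x) * (x⁻¹ * α x) ^ k) := by
            generalize (x⁻¹ * α x) ^ k = r; group
        _ = x * (x⁻¹ * α x) ^ (k + 1) := by rw [← pow_succ']
  obtain ⟨e, he⟩ := (hQp.to_subgroup A).exists_card_eq
  have h1 : α ^ (p ^ e) = 1 := by
    ext x
    rw [hpow, MulAut.one_apply, ← he]
    have := congrArg Subtype.val (pow_card_eq_one' (x := (⟨_, hd x⟩ : A)))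
    rw [show (x⁻¹ * α x) ^ Nat.card A = 1 from this, mul_one]
  obtain ⟨k, -, hk⟩ := (Nat.dvd_prime_pow Fact.out).1 (orderOf_dvd_of_pow_eq_one h1)
  exact ⟨k, hk⟩

end Cfsg.Agent.S3349
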