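import Cfsg.Statements.S3356
import Mathlib.GroupTheory.GroupAction.Quotient
import Mathlib.GroupTheory.Perm.Cycle.Type

set_option autoImplicit false
open Cfsg

namespace Cfsg.Agent.S3356

section

variable {G : Type*} [Group G] [Finite G]

/-- If all point stabilizers have the same order `t`, the group order divides `|X| * t`. -/
lemma card_dvd_of_stab {L X : Type*} [Group L] [Finite L] [Finite X] [MulAction L X] (t : ℕ)
    (h : ∀ y : X, Nat.card (MulAction.stabilizer L y) = t) :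
    Nat.card L ∣ Nat.card X * t := by
  classical
  have : Fintype X := Fintype.ofFinite X
  have e1 : (Σ l : L, MulAction.fixedBy X l) ≃ (Σ y : X, MulAction.stabilizer L y) :=
    { toFun := fun p => ⟨p.2.1, p.1, p.2.2⟩
      invFun := fun p => ⟨p.2.1, p.1, p.2.2⟩
      left_inv := fun p => rfl
      right_inv := fun p => rfl }
  have e2 := MulAction.sigmaFixedByEquivOrbitsProdGroup L X
  have h3 := Nat.card_congr (e2.symm.trans e1)
  rw [Nat.card_prod, Nat.card_sigma] at h3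
  simp only [h, Finset.sum_const, Finset.card_univ, smul_eq_mul, ← Nat.card_eq_fintype_card] at h3
  exact Dvd.intro_left _ h3

/-- The elements of `H` commuting with `x`. -/
def cs (H : Subgroup G) (x : G) : Subgroup G := H ⊓ Subgroup.centralizer {x}

omit [Finite G] in
lemma mem_cs {H : Subgroup G} {x h : G} : h ∈ cs H x ↔ h ∈ H ∧ h * x * h⁻¹ = x := by
  simp [cs, Subgroup.mem_centralizer_singleton_iff, mul_inv_eq_iff_eq_mul]

omit [Finite G] in
lemma cs_mul {H : Subgroup G} {x y h : G} (h1 : h ∈ cs H x) (h2 : h ∈ cs H y) :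
    h ∈ cs H (x * y) := by
  rw [mem_cs] at *
  refine ⟨h1.1, ?_⟩
  rw [← conj_mul, h1.2, h2.2]

omit [Finite G] in
lemma cs_inv {H : Subgroup G} {x h : G} (h1 : h ∈ cs H x) : h ∈ cs H x⁻¹ := by
  rw [mem_cs] at *
  refine ⟨h1.1, ?_⟩
  rw [← conj_inv, h1.2]

omit [Finite G] in
lemma cs_pow {H : Subgroup G} {x h : G} (h1 : h ∈ cs H x) (k : ℕ) : h ∈ cs H (x ^ k) := by
  induction k with
  | zero => simp [mem_cs, (mem_cs.1 h1).1]
  | succ k ih => rw [pow_succ]; exact cs_mul ih h1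

/-- Elements of a set stable under their stabilisers, of size prime to `|H|/t`, share stabilisers. -/
lemma cs_eq_of_set (H : Subgroup G) (K : Set G) (t n : ℕ) (hn : 1 ≤ n)
    (ht : ∀ y ∈ K, Nat.card (cs H y) = t) (hH : Nat.card H ∣ (n - 1) * t) (hK : K.ncard ∣ n)
    (hst : ∀ y ∈ K, ∀ h ∈ cs H y, ∀ z ∈ K, h * z * h⁻¹ ∈ K) :
    ∀ x ∈ K, ∀ y ∈ K, cs H x = cs H y := by
  classical
  let L : Subgroup G := H ⊓ Subgroup.normalizer K
  have hle : ∀ y ∈ K, cs H y ≤ L := by
    intro y hy h hh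
    refine ⟨(mem_cs.1 hh).1, ?_⟩
    show ∀ z : G, z ∈ K ↔ h * z * h⁻¹ ∈ K
    intro z
    refine ⟨hst y hy h hh z, fun hz => ?_⟩
    have := hst y hy h⁻¹ (inv_mem hh) _ hz
    simpa [mul_assoc] using this
  let act : MulAction L K :=
    { smul := fun l z => ⟨(l : G) * z * (l : G)⁻¹,
        ((l.2.2 : ∀ w : G, w ∈ K ↔ (l : G) * w * (l : G)⁻¹ ∈ K) z).1 z.2⟩
      one_smul := fun z => Subtype.ext (show (1 : G) * z * (1 : G)⁻¹ = z by group)
      mul_smul := fun l l' z => Subtype.ext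
        (show ((l : G) * l') * z * ((l : G) * l')⁻¹ = (l : G) * ((l' : G) * z * (l' : G)⁻¹) * (l : G)⁻¹
          by group) }
  have hstab : ∀ y : K, Nat.card (MulAction.stabilizer L y) = t := by
    intro y
    rw [← ht y y.2]
    refine Nat.card_congr
      { toFun := fun l => ⟨(l.1 : G), mem_cs.2 ⟨l.1.2.1, congrArg Subtype.val l.2⟩⟩
        invFun := fun h => ⟨⟨h.1, hle y y.2 h.2⟩, Subtype.ext (mem_cs.1 h.2).2⟩
        left_inv := fun _ => rfl
        right_inv := fun _ => rfl }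
  have d1 : Nat.card L ∣ K.ncard * t := by
    have := card_dvd_of_stab (L := L) (X := K) t hstab
    rwa [Nat.card_coe_set_eq] at this
  have d2 : Nat.card L ∣ (n - 1) * t := (Subgroup.card_dvd_of_le inf_le_left).trans hH
  have hcop : Nat.gcd K.ncard (n - 1) = 1 :=
    Nat.Coprime.coprime_dvd_left hK ((Nat.coprime_self_sub_right hn).2 (Nat.coprime_one_right n))
  have d3 : Nat.card L ∣ t := by
    have := Nat.dvd_gcd d1 d2
    rwa [Nat.gcd_mul_right, hcop, one_mul] at this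
  have heq : ∀ y ∈ K, cs H y = L := fun y hy => Subgroup.eq_of_le_of_card_ge (hle y hy) (by
    rw [ht y hy]
    exact Nat.le_of_dvd (ht y hy ▸ Nat.card_pos) d3)
  intro x hx y hy
  rw [heq x hx, heq y hy]

/-- The group theoretic core. -/
theorem core (H N : Subgroup G) [N.Normal] (t : ℕ)
    (ht : ∀ y ∈ N, y ≠ 1 → Nat.card (cs H y) = t) (ht1 : t ≠ 1) (hN : N ≠ ⊥)
    (hH : Nat.card H ∣ (Nat.card N - 1) * t)
    (hfaith : ∀ h ∈ H, (∀ y ∈ N, h * y * h⁻¹ = y) → h = 1) :
    (∃ p : ℕ, p.Prime ∧ IsMulCommutative N ∧ ∀ x ∈ N, x ^ p = 1) ∧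
      (∀ M : Subgroup G, M.Normal → M ≤ N → M ≠ ⊥ → M = N) := by
  classical
  have hn : 1 ≤ Nat.card N := Nat.card_pos
  -- a stabiliser contained in the one of a nontrivial element equals it
  have hsub : ∀ x ∈ N, ∀ y ∈ N, x ≠ 1 → y ≠ 1 → cs H x ≤ cs H y → cs H x = cs H y :=
    fun x hx y hy hx1 hy1 hle => Subgroup.eq_of_le_of_card_ge hle (by rw [ht x hx hx1, ht y hy hy1])
  -- two elements with different stabilisers exist
  have hdiff : ∀ x ∈ N, x ≠ 1 → ∃ z ∈ N, z ≠ 1 ∧ cs H z ≠ cs H x := by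
    intro x hx hx1
    by_contra hcon
    push Not at hcon
    have hbot : cs H x = ⊥ := by
      rw [eq_bot_iff]
      intro h hh
      rw [Subgroup.mem_bot]
      refine hfaith h (mem_cs.1 hh).1 fun y hy => ?_
      rcases eq_or_ne y 1 with rfl | hy1
      · simp
      · exact (mem_cs.1 ((hcon y hy hy1).symm ▸ hh)).2
    exact ht1 (by rw [← ht x hx hx1, hbot]; exact Subgroup.card_bot)
  -- conjugation inside `N` preserves stabilisers
  have hclass : ∀ x ∈ N, x ≠ 1 → ∀ u ∈ N, cs H (u * x * u⁻¹) = cs H x := by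
    intro x hx hx1 u hu
    let K : Set G := MulAction.orbit ↥(N.map (ConjAct.toConjAct (G := G)).toMonoidHom) x
    have hmem : ∀ z, z ∈ K ↔ ∃ v ∈ N, v * x * v⁻¹ = z := by
      intro z
      constructor
      · rintro ⟨⟨c, v, hv, rfl⟩, rfl⟩
        exact ⟨v, hv, (ConjAct.toConjAct_smul v x).symm⟩
      · rintro ⟨v, hv, rfl⟩
        exact ⟨⟨_, v, hv, rfl⟩, ConjAct.toConjAct_smul v x⟩
    have hKN : ∀ z ∈ K, z ∈ N ∧ z ≠ 1 := by
      intro z hz
      obtain ⟨v, hv, rfl⟩ := (hmem z).1 hz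
      exact ⟨mul_mem (mul_mem hv hx) (inv_mem hv), by simpa using hx1⟩
    have hcard : K.ncard ∣ Nat.card N := by
      simp only [K]
      rw [← MulAction.index_stabilizer]
      exact (Subgroup.index_dvd_card _).trans
        (Subgroup.card_map_of_injective (ConjAct.toConjAct (G := G)).injective).dvd
    refine cs_eq_of_set H K t _ hn (fun y hy => ht y (hKN y hy).1 (hKN y hy).2) hH hcard ?_
      _ ((hmem _).2 ⟨u, hu, rfl⟩) _ ((hmem _).2 ⟨1, one_mem _, by simp⟩)
    intro y hy h hh z hz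
    obtain ⟨u₀, hu₀, rfl⟩ := (hmem y).1 hy
    obtain ⟨v, hv, rfl⟩ := (hmem z).1 hz
    have hy' := (mem_cs.1 hh).2
    refine (hmem _).2 ⟨h * (v * u₀⁻¹) * h⁻¹ * u₀, mul_mem
      (‹N.Normal›.conj_mem _ (mul_mem hv (inv_mem hu₀)) h) hu₀, ?_⟩
    conv_rhs => rw [show h * (v * x * v⁻¹) * h⁻¹ =
      (h * (v * u₀⁻¹) * h⁻¹) * (h * (u₀ * x * u₀⁻¹) * h⁻¹) * (h * (v * u₀⁻¹) * h⁻¹)⁻¹ by group, hy']
    group
  -- elements with different stabilisers commute
  have hcomm1 : ∀ x ∈ N, ∀ y ∈ N, x ≠ 1 → y ≠ 1 → cs H x ≠ cs H y → x * y = y * x := by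
    intro x hx y hy hx1 hy1 hne
    by_contra hc
    have hc1 : x * y * x⁻¹ * y⁻¹ ≠ 1 := fun h => hc (by
      rwa [mul_inv_eq_one, mul_inv_eq_iff_eq_mul] at h)
    have hcN : x * y * x⁻¹ * y⁻¹ ∈ N :=
      mul_mem (mul_mem (mul_mem hx hy) (inv_mem hx)) (inv_mem hy)
    have l1 : cs H x ≤ cs H (x * y * x⁻¹ * y⁻¹) := by
      intro h hh
      have h2 : h ∈ cs H (y * x⁻¹ * y⁻¹) := by
        rw [hclass x⁻¹ (inv_mem hx) (inv_ne_one.2 hx1) y hy]
        exact cs_inv hh
      have := cs_mul hh h2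
      rwa [← mul_assoc, ← mul_assoc] at this
    have l2 : cs H y ≤ cs H (x * y * x⁻¹ * y⁻¹) := by
      intro h hh
      have h2 : h ∈ cs H (x * y * x⁻¹) := by rwa [hclass y hy hy1 x hx]
      exact cs_mul h2 (cs_inv hh)
    exact hne ((hsub x hx _ hcN hx1 hc1 l1).trans (hsub y hy _ hcN hy1 hc1 l2).symm)
  have hcomm : ∀ x ∈ N, ∀ y ∈ N, x * y = y * x := by
    intro x hx y hy
    rcases eq_or_ne x 1 with rfl | hx1
    · simp
    rcases eq_or_ne y 1 with rfl | hy1
    · simp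
    rcases ne_or_eq (cs H x) (cs H y) with hne | heq
    · exact hcomm1 x hx y hy hx1 hy1 hne
    obtain ⟨z, hz, hz1, hzne⟩ := hdiff x hx hx1
    have hyz1 : y * z ≠ 1 := by
      intro h
      rw [mul_eq_one_iff_inv_eq] at h
      refine hzne ?_
      rw [heq, ← h]
      exact (hsub y hy _ (inv_mem hy) hy1 (inv_ne_one.2 hy1) (fun _ => cs_inv)).symm
    have hne : cs H x ≠ cs H (y * z) := by
      intro h
      refine hzne (hsub x hx z hz hx1 hz1 (fun g hg => ?_)).symm
      have := cs_mul (cs_inv (heq ▸ hg)) (h ▸ hg)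
      rwa [inv_mul_cancel_left] at this
    have e1 := hcomm1 x hx _ (mul_mem hy hz) hx1 hyz1 hne
    have e2 := hcomm1 x hx z hz hx1 hz1 hzne.symm
    refine mul_right_cancel (b := z) ?_
    rw [mul_assoc x, e1, mul_assoc y z x, ← e2, mul_assoc y x z]
  -- exponent
  obtain ⟨p, hp, hpn⟩ := Nat.exists_prime_and_dvd
    (fun h => hN (Subgroup.eq_bot_of_card_eq N h) : Nat.card N ≠ 1)
  obtain ⟨w, hw⟩ := @exists_prime_orderOf_dvd_card' ↥N _ _ p ⟨hp⟩ hpn
  have hw' : orderOf (w : G) = p := by rw [Subgroup.orderOf_coe, hw]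
  have hwp : (w : G) ^ p = 1 := hw' ▸ pow_orderOf_eq_one _
  have hw1 : (w : G) ≠ 1 := fun h => hp.ne_one (by rw [← hw', h, orderOf_one])
  have hexp : ∀ x ∈ N, x ^ p = 1 := by
    intro z hz
    by_contra hzp
    have hz1 : z ≠ 1 := fun h => hzp (by simp [h])
    -- every element killed by `p` has the same stabiliser as `z`
    have key : ∀ v ∈ N, v ≠ 1 → v ^ p = 1 → ∀ u ∈ N, u ^ p ≠ 1 → cs H v = cs H u := by
      intro v hv hv1 hvp u hu hup
      have hu1 : u ≠ 1 := fun h => hup (by simp [h])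
      by_contra hne
      have hpow : (u * v) ^ p = u ^ p := by
        rw [Commute.mul_pow (hcomm u hu v hv), hvp, mul_one]
      have huv1 : u * v ≠ 1 := fun h => hup (by rw [← hpow, h, one_pow])
      have a1 := hsub u hu _ (pow_mem hu p) hu1 hup (fun _ hg => cs_pow hg p)
      have a2 := hsub _ (mul_mem hu hv) _ (pow_mem hu p) huv1 hup
        (fun _ hg => hpow ▸ cs_pow hg p)
      refine hne (hsub u hu v hv hu1 hv1 (fun g hg => ?_)).symm
      have := cs_mul (cs_inv hg) (show g ∈ cs H (u * v) by rw [a2, ← a1]; exact hg)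
      rwa [inv_mul_cancel_left] at this
    obtain ⟨v, hv, hv1, hvne⟩ := hdiff z hz hz1
    by_cases hvp : v ^ p = 1
    · exact hvne (key v hv hv1 hvp z hz hzp)
    · exact hvne ((key w w.2 hw1 hwp v hv hvp).symm.trans (key w w.2 hw1 hwp z hz hzp))
  refine ⟨⟨p, hp, ⟨⟨fun a b => Subtype.ext (hcomm a a.2 b b.2)⟩⟩, hexp⟩, ?_⟩
  intro M hM hMN hM1
  by_contra hne
  obtain ⟨m, hm, hm1⟩ := M.bot_or_exists_ne_one.resolve_left hM1
  obtain ⟨x, hx, hxM⟩ := SetLike.exists_of_lt (lt_of_le_of_ne hMN hne)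
  -- elements outside `M` have the stabiliser of any nontrivial element of `M`
  have key : ∀ x ∈ N, x ∉ M → ∀ y ∈ M, y ≠ 1 → cs H x = cs H y := by
    intro x hx hxM y hy hy1
    have hx1 : x ≠ 1 := fun h => hxM (h ▸ one_mem M)
    let K : Set G := (fun v => x * v) '' (M : Set G)
    have hKN : ∀ z ∈ K, z ∈ N ∧ z ≠ 1 := by
      rintro z ⟨v, hv, rfl⟩
      exact ⟨mul_mem hx (hMN hv), fun h => hxM (mul_eq_one_iff_eq_inv.1 h ▸ inv_mem hv)⟩
    have hcard : K.ncard ∣ Nat.card N := by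
      rw [Set.ncard_image_of_injective _ (mul_right_injective x), ← Nat.card_coe_set_eq]
      exact Subgroup.card_dvd_of_le hMN
    have e := cs_eq_of_set H K t _ hn (fun y hy => ht y (hKN y hy).1 (hKN y hy).2) hH hcard (by
      rintro _ ⟨v₀, hv₀, rfl⟩ h hh _ ⟨v, hv, rfl⟩
      have hh' := (mem_cs.1 hh).2
      refine ⟨v₀ * (h * (v₀⁻¹ * v) * h⁻¹), mul_mem hv₀ (hM.conj_mem _ (mul_mem (inv_mem hv₀) hv) h), ?_⟩
      show x * (v₀ * (h * (v₀⁻¹ * v) * h⁻¹)) = h * (x * v) * h⁻¹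
      rw [← mul_assoc]
      simp only at hh'
      nth_rewrite 1 [← hh']
      group) x ⟨1, one_mem M, mul_one x⟩ (x * y) ⟨y, hy, rfl⟩
    refine hsub x hx y (hMN hy) hx1 hy1 (fun g hg => ?_)
    have := cs_mul (cs_inv hg) (e ▸ hg)
    rwa [inv_mul_cancel_left] at this
  obtain ⟨z, hz, hz1, hzne⟩ := hdiff m (hMN hm) hm1
  by_cases hzM : z ∈ M
  · exact hzne ((key x hx hxM z hzM hz1).symm.trans (key x hx hxM m hm hm1))
  · exact hzne (key z hz hzM m hm hm1)

end

/-- Let G be a finite 3/2-transitive permutation group: G acts faithfully and transitively on a finite set, the point stabilizers are non-trivial, and for each point a all orbits of G_a on the remaining points have the same size. Suppose G has a regular normal subgroup N and G is not a Frobenius group (some two-point stabilizer is non-trivial). Then N is an elementary abelian p-group for some prime p, and every non-trivial normal subgroup of G contains N (so N is the unique minimal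 normal subgroup). -/
theorem result {G Ω : Type*} [Group G] [Finite G]
    [MulAction G Ω] [FaithfulSMul G Ω] [Finite Ω] (htrans : MulAction.IsPretransitive G Ω)
    (hne : ∀ a : Ω, MulAction.stabilizer G a ≠ ⊥)
    (hhalf : ∀ a b c : Ω, b ≠ a → c ≠ a →
      Nat.card (MulAction.orbit (MulAction.stabilizer G a) b) = Nat.card (MulAction.orbit (MulAction.stabilizer G a) c))
    (N : Subgroup G) [hN : N.Normal] (hNt : MulAction.IsPretransitive N Ω) (hNr : ∀ a : Ω, MulAction.stabilizer N a = ⊥)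
    (hnotF : ∃ a b : Ω, a ≠ b ∧ MulAction.stabilizer G a ⊓ MulAction.stabilizer G b ≠ ⊥) :
    (∃ p : ℕ, p.Prime ∧ IsMulCommutative N ∧ ∀ x ∈ N, x ^ p = 1) ∧
    (∀ M : Subgroup G, M.Normal → M ≠ ⊥ → N ≤ M) := by
  classical
  obtain ⟨a, b, hab, hbne⟩ := hnotF
  set H : Subgroup G := MulAction.stabilizer G a with hHdef
  have hinj : ∀ x ∈ N, ∀ y ∈ N, x • a = y • a → x = y := by
    intro x hx y hy h
    have h1 : (⟨y⁻¹ * x, mul_mem (inv_mem hy) hx⟩ : N) ∈ MulAction.stabilizer N a := by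
      show (y⁻¹ * x) • a = a
      rw [mul_smul, h, inv_smul_smul]
    rw [hNr a, Subgroup.mem_bot] at h1
    exact (inv_mul_eq_one.1 (congrArg Subtype.val h1)).symm
  have hsur : ∀ c : Ω, ∃ x ∈ N, x • a = c := by
    intro c
    obtain ⟨x, hx⟩ := hNt.exists_smul_eq a c
    exact ⟨x, x.2, hx⟩
  have hHa : ∀ h ∈ H, h • a = a := fun h hh => hh
  have hfix : ∀ h ∈ H, ∀ x ∈ N, (h * x * h⁻¹ = x ↔ h • (x • a) = x • a) := by
    intro h hh x hx
    have h1 : (h * x * h⁻¹) • a = h • (x • a) := by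
      rw [mul_smul, mul_smul, inv_smul_eq_iff.2 (hHa h hh).symm]
    rw [← h1]
    exact ⟨fun e => by rw [e], fun e => hinj _ (hN.conj_mem x hx h) x hx e⟩
  have hcs : ∀ x ∈ N, cs H x = H ⊓ MulAction.stabilizer G (x • a) := by
    intro x hx
    ext h
    rw [mem_cs, Subgroup.mem_inf, MulAction.mem_stabilizer_iff]
    exact and_congr_right fun hh => hfix h hh x hx
  obtain ⟨xb, hxb, hxba⟩ := hsur b
  have hxb1 : xb ≠ 1 := fun h => hab (by rw [← hxba, h, one_smul])
  set t : ℕ := Nat.card (cs H xb)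
  have hcard : ∀ c : Ω, Nat.card (MulAction.orbit H c) * Nat.card ↥(H ⊓ MulAction.stabilizer G c) =
      Nat.card H := by
    intro c
    rw [Nat.card_coe_set_eq, ← MulAction.index_stabilizer,
      ← Subgroup.index_mul_card (MulAction.stabilizer H c)]
    congr 1
    exact Nat.card_congr
      { toFun := fun h => ⟨⟨h.1, h.2.1⟩, h.2.2⟩
        invFun := fun h => ⟨h.1.1, h.1.2, h.2⟩
        left_inv := fun _ => rfl
        right_inv := fun _ => rfl }
  have hmov : ∀ y ∈ N, y ≠ 1 → y • a ≠ a := fun y hy hy1 h =>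
    hy1 (hinj y hy 1 (one_mem N) (by rw [h, one_smul]))
  have ht : ∀ y ∈ N, y ≠ 1 → Nat.card (cs H y) = t := by
    intro y hy hy1
    show _ = Nat.card (cs H xb)
    rw [hcs y hy, hcs xb hxb]
    have h1 := hcard (y • a)
    have h2 := hcard (xb • a)
    rw [hhalf a (y • a) (xb • a) (hmov y hy hy1) (hmov xb hxb hxb1), ← h2] at h1
    have : Nonempty (MulAction.orbit H (xb • a)) := ⟨⟨_, MulAction.mem_orbit_self _⟩⟩
    exact Nat.eq_of_mul_eq_mul_left Nat.card_pos h1
  have ht1 : t ≠ 1 := by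
    show Nat.card (cs H xb) ≠ 1
    rw [hcs xb hxb, hxba]
    exact fun h => hbne (Subgroup.eq_bot_of_card_eq _ h)
  have hNne : N ≠ ⊥ := fun h => hxb1 (by rw [h, Subgroup.mem_bot] at hxb; exact hxb)
  have hH : Nat.card H ∣ (Nat.card N - 1) * t := by
    let act : MulAction H {y : N // y ≠ 1} :=
      { smul := fun h y => ⟨⟨(h : G) * (y.1 : G) * (h : G)⁻¹, hN.conj_mem _ y.1.2 h⟩, fun e =>
          y.2 (Subtype.ext (conj_eq_one_iff.1 (congrArg Subtype.val e)))⟩
        one_smul := fun y => Subtype.ext (Subtype.ext (show (1 : G) * (y.1 : G) * (1 : G)⁻¹ = y.1 by group))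
        mul_smul := fun h h' y => Subtype.ext (Subtype.ext (show ((h : G) * h') * (y.1 : G) * ((h : G) * h')⁻¹ =
          (h : G) * ((h' : G) * (y.1 : G) * (h' : G)⁻¹) * (h : G)⁻¹ by group)) }
    have hstab : ∀ y : {y : N // y ≠ 1}, Nat.card (MulAction.stabilizer H y) = t := by
      intro y
      rw [← ht y.1 y.1.2 (fun e => y.2 (Subtype.ext e))]
      exact Nat.card_congr
        { toFun := fun h => ⟨(h.1 : G), mem_cs.2
            ⟨h.1.2, congrArg (fun z : {y : N // y ≠ 1} => (z.1 : G)) h.2⟩⟩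
          invFun := fun h => ⟨⟨h.1, (mem_cs.1 h.2).1⟩, Subtype.ext (Subtype.ext (mem_cs.1 h.2).2)⟩
          left_inv := fun _ => rfl
          right_inv := fun _ => rfl }
    have := card_dvd_of_stab t hstab
    have hc : Nat.card {y : N // y ≠ 1} = Nat.card N - 1 := by
      have : Fintype N := Fintype.ofFinite N
      simp [Nat.card_eq_fintype_card]
    rwa [hc] at this
  have hfaith : ∀ h ∈ H, (∀ y ∈ N, h * y * h⁻¹ = y) → h = 1 := by
    intro h hh hall
    refine FaithfulSMul.eq_of_smul_eq_smul (α := Ω) fun c => ?_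
    obtain ⟨y, hy, rfl⟩ := hsur c
    rw [one_smul]
    exact (hfix h hh y hy).1 (hall y hy)
  obtain ⟨h1, h2⟩ := core H N t ht ht1 hNne hH hfaith
  refine ⟨h1, ?_⟩
  intro M hM hM1
  have hNc : ∀ x ∈ N, ∀ y ∈ N, x * y = y * x := by
    obtain ⟨p, _, hc, _⟩ := h1
    exact fun x hx y hy => congrArg Subtype.val (hc.1.1 ⟨x, hx⟩ ⟨y, hy⟩)
  have hMN : M ⊓ N ≠ ⊥ := by
    intro hbot
    refine hM1 ?_
    have hle : M ≤ N := by
      intro c hc
      obtain ⟨u, hu, hua⟩ := hsur (c • a)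
      have hcc : ∀ y ∈ N, c * y = y * c := fun y hy =>
        (Subgroup.commute_of_normal_of_disjoint M N hM hN (disjoint_iff.2 hbot) c y hc hy).eq
      have hh : u⁻¹ * c ∈ H := by
        show (u⁻¹ * c) • a = a
        rw [mul_smul, ← hua, inv_smul_smul]
      have : u⁻¹ * c = 1 := by
        refine hfaith _ hh fun y hy => ?_
        rw [show u⁻¹ * c * y * (u⁻¹ * c)⁻¹ = u⁻¹ * (c * y * c⁻¹) * u by group, hcc y hy,
          mul_inv_cancel_right, hNc u⁻¹ (inv_mem hu) y hy, inv_mul_cancel_right]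
      rw [← inv_mul_eq_one.1 this]
      exact hu
    rwa [inf_eq_left.2 hle] at hbot
  exact inf_eq_right.1 (h2 (M ⊓ N) inferInstance inf_le_right hMN)

end Cfsg.Agent.S3356
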