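import Cfsg.Statements.S4292
import Cfsg.Agent.Lib.Frobenius.CharChange
import Cfsg.Agent.Lib.Frobenius.Kernel
import Cfsg.Agent.Lib.Frobenius.FixedPointFree
import Mathlib.GroupTheory.OrderOfElement

set_option autoImplicit false
open Cfsg

namespace Cfsg.Agent.S4292

open Cfsg.Agent.Frobenius in
/-- The kernel of a Frobenius group as a fixed-point-free module. -/
theorem exists_kernel_action {L : Type} [Group L] [Finite L] {H : Subgroup L}
    (hH : Cfsg.IsFrobeniusComplement H) :
    ∃ (K : Subgroup L) (α : H →* MulAut K), Nontrivial K ∧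
      ∀ h : H, h ≠ 1 → ∀ k : K, α h k = k → k = 1 := by
  obtain ⟨K, hKeq, hKn, hc⟩ := exists_frobeniusKernel_subgroup hH
  haveI := hKn
  refine ⟨K, (MulAut.conjNormal).comp H.subtype, ?_, fun h hh k hk => ?_⟩
  · rw [Subgroup.nontrivial_iff_ne_bot]
    intro h
    have h1 := two_le_index hH
    rw [hc.index_eq_card, h, Subgroup.card_bot] at h1
    omega
  · have h1 : (h : L) * k * (h : L)⁻¹ = k := congrArg Subtype.val hk
    have h2 := fixedPointFree_of_isFrobeniusComplement hc hH h h.2 (fun e => hh (Subtype.ext e))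
    have h3 : (k : L) ∈ K ⊓ Subgroup.centralizer {(h : L)} :=
      ⟨k.2, Subgroup.mem_centralizer_singleton_iff.mpr (mul_inv_eq_iff_eq_mul.mp h1).symm⟩
    rw [h2, Subgroup.mem_bot] at h3
    exact Subtype.ext h3

open Cfsg.Agent.Frobenius in
/-- A nontrivial group embedded in a Frobenius complement is a Frobenius complement. -/
theorem exists_complement_of_injective {L : Type} [Group L] [Finite L] {H : Subgroup L}
    (hH : Cfsg.IsFrobeniusComplement H) {A : Type*} [Group A] [Nontrivial A] (ι : A →* H)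
    (hι : Function.Injective ι) :
    ∃ (L : Type) (_ : Group L) (_ : Finite L) (H : Subgroup L),
      Cfsg.IsFrobeniusComplement H ∧ Nonempty (A ≃* H) := by
  obtain ⟨K, α, hK, hα⟩ := exists_kernel_action hH
  haveI : Nontrivial ι.range := (MonoidHom.ofInjective hι).symm.toEquiv.nontrivial
  obtain ⟨M, i1, i2, H', hH', ⟨e⟩⟩ := exists_frobenius_of_fixedPointFree_hom
    (K := K) (A := ι.range) (α.comp ι.range.subtype)
    (fun a ha k hk => hα a (fun e => ha (Subtype.ext e)) k hk)
  exact ⟨M, i1, i2, H', hH', ⟨(MonoidHom.ofInjective hι).trans e⟩⟩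

open Cfsg.Agent.Frobenius.CharChange in
/-- A product of two complements of coprime orders is a complement. -/
theorem exists_complement_prod {L M : Type} [Group L] [Finite L] [Group M] [Finite M]
    {HA : Subgroup L} {HB : Subgroup M} (hA : Cfsg.IsFrobeniusComplement HA)
    (hB : Cfsg.IsFrobeniusComplement HB) (hco : (Nat.card HA).Coprime (Nat.card HB)) :
    ∃ (L : Type) (_ : Group L) (_ : Finite L) (H : Subgroup L),
      Cfsg.IsFrobeniusComplement H ∧ Nonempty ((HA × HB) ≃* H) := by
  classical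
  haveI : Nontrivial HA := (Subgroup.nontrivial_iff_ne_bot _).mpr hA.1
  haveI : Nontrivial HB := (Subgroup.nontrivial_iff_ne_bot _).mpr hB.1
  obtain ⟨KA, αA, hKA, hαA⟩ := exists_kernel_action hA
  obtain ⟨KB, αB, hKB, hαB⟩ := exists_kernel_action hB
  obtain ⟨fA, hfA, hpA⟩ := exists_int_sol αA hαA
  obtain ⟨fB, hfB, hpB⟩ := exists_int_sol αB hαB
  obtain ⟨r, hr, hrp⟩ := Nat.exists_infinite_primes (Nat.card (HA × HB) + 1)
  haveI := Fact.mk hrp
  haveI : NeZero r := ⟨hrp.ne_zero⟩
  obtain ⟨a, ha⟩ := hpA r hrp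
  obtain ⟨b, hb⟩ := hpB r hrp
  refine exists_frobenius_of_sol (ZMod r) ?_ ?_
  · intro h
    have h1 := Nat.le_of_dvd Nat.card_pos ((ZMod.natCast_eq_zero_iff _ _).mp h)
    omega
  · rw [Submodule.ne_bot_iff]
    refine ⟨fun x => (fA x.1 : ZMod r) * (fB x.2 : ZMod r), ?_, ?_⟩
    · intro x hx c
      have ho := hx
      rw [Prod.orderOf] at ho
      have hcop : (orderOf x.1).Coprime (orderOf x.2) :=
        Nat.Coprime.coprime_dvd_left (orderOf_dvd_natCard _)
          (hco.coprime_dvd_right (orderOf_dvd_natCard _))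
      rw [hcop.lcm_eq_mul, Nat.prime_mul_iff] at ho
      rw [Prod.orderOf, hcop.lcm_eq_mul]
      rcases ho with ⟨hp, h1⟩ | ⟨hp, h1⟩
      · rw [h1, mul_one]
        have h2 : ∀ i : ℕ, x ^ i * c = (x.1 ^ i * c.1, c.2) := fun i =>
          Prod.ext (by simp) (by simp [orderOf_eq_one_iff.mp h1])
        simp only [h2, ← Finset.sum_mul]
        rw [← Int.cast_sum, hfA x.1 hp c.1, Int.cast_zero, zero_mul]
      · rw [h1, one_mul]
        have h2 : ∀ i : ℕ, x ^ i * c = (c.1, x.2 ^ i * c.2) := fun i =>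
          Prod.ext (by simp [orderOf_eq_one_iff.mp h1]) (by simp)
        simp only [h2, ← Finset.mul_sum]
        rw [← Int.cast_sum, hfB x.2 hp c.2, Int.cast_zero, mul_zero]
    · intro h
      have h1 := congrFun h (a, b)
      simp only [Pi.zero_apply, mul_eq_zero, ZMod.intCast_zmod_eq_zero_iff_dvd] at h1
      exact h1.elim ha hb

/-- Let A and B be nontrivial finite groups. Then the direct product A × B occurs as a Frobenius complement if and only if A and B both occur as Frobenius complements and the orders of A and B are coprime. -/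
theorem result {A B : Type*} [Group A] [Finite A] [Nontrivial A] [Group B] [Finite B] [Nontrivial B] :
    (∃ (L : Type) (_ : Group L) (_ : Finite L) (H : Subgroup L), Cfsg.IsFrobeniusComplement H ∧ Nonempty ((A × B) ≃* H)) ↔
    ((∃ (L : Type) (_ : Group L) (_ : Finite L) (H : Subgroup L), Cfsg.IsFrobeniusComplement H ∧ Nonempty (A ≃* H)) ∧
     (∃ (L : Type) (_ : Group L) (_ : Finite L) (H : Subgroup L), Cfsg.IsFrobeniusComplement H ∧ Nonempty (B ≃* H)) ∧
     (Nat.card A).Coprime (Nat.card B)) := by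
  constructor
  · rintro ⟨L, i1, i2, H, hH, ⟨e⟩⟩
    refine ⟨exists_complement_of_injective hH (e.toMonoidHom.comp (MonoidHom.inl A B))
        (e.injective.comp fun a a' h => congrArg Prod.fst h),
      exists_complement_of_injective hH (e.toMonoidHom.comp (MonoidHom.inr A B))
        (e.injective.comp fun b b' h => congrArg Prod.snd h), ?_⟩
    refine Nat.coprime_of_dvd fun p hp hpA hpB => ?_
    haveI := Fact.mk hp
    obtain ⟨a, ha⟩ := exists_prime_orderOf_dvd_card' p hpA
    obtain ⟨b, hb⟩ := exists_prime_orderOf_dvd_card' p hpB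
    obtain ⟨K, hKeq, hKn, hc⟩ := Cfsg.Agent.Frobenius.exists_frobeniusKernel_subgroup hH
    haveI := hKn
    have hfpf : Cfsg.Agent.Frobenius.IsFPF H K := Cfsg.Agent.Frobenius.isFPF_of_normal
      (Cfsg.Agent.Frobenius.fixedPointFree_of_isFrobeniusComplement hc hH)
    have hKb : K ≠ ⊥ := by
      intro h
      have h1 := Cfsg.Agent.Frobenius.two_le_index hH
      rw [hc.index_eq_card, h, Subgroup.card_bot] at h1
      omega
    set a' : L := ((e (a, 1) : H) : L) with ha'
    set b' : L := ((e (1, b) : H) : L) with hb'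
    have hao : orderOf a' = p := by
      rw [ha', Subgroup.orderOf_coe, MulEquiv.orderOf_eq, Prod.orderOf, orderOf_one,
        Nat.lcm_one_right, ha]
    have hbp : b' ^ p = 1 := by
      rw [hb', ← Subgroup.coe_pow, ← map_pow, Prod.pow_mk, one_pow, ← hb, pow_orderOf_eq_one]
      simp
    have hcomm : Commute a' b' := by
      show a' * b' = b' * a'
      rw [ha', hb', ← Subgroup.coe_mul, ← Subgroup.coe_mul, ← map_mul, ← map_mul]
      simp
    obtain ⟨i, hi⟩ := Subgroup.mem_zpowers_iff.mp
      (hfpf.mem_zpowers_of_commute hKb (SetLike.coe_mem _) (SetLike.coe_mem _) hao hbp hcomm)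
    rw [← Subgroup.coe_zpow, ← map_zpow, Subtype.coe_inj, e.apply_eq_iff_eq] at hi
    have h2 := congrArg Prod.snd hi
    simp at h2
    rw [← h2, orderOf_one] at hb
    exact hp.one_lt.ne hb
  · rintro ⟨⟨L, i1, i2, HA, hA, ⟨eA⟩⟩, ⟨M, j1, j2, HB, hB, ⟨eB⟩⟩, hco⟩
    obtain ⟨N, k1, k2, H, hH, ⟨e⟩⟩ := exists_complement_prod hA hB
      (by rw [← Nat.card_congr eA.toEquiv, ← Nat.card_congr eB.toEquiv]; exact hco)
    exact ⟨N, k1, k2, H, hH, ⟨(eA.prodCongr eB).trans e⟩⟩

end Cfsg.Agent.S4292
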