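import Cfsg.Statements.S3357
import Cfsg.Agent.Lib.Frobenius.CharChange
import Cfsg.Agent.S4292
import Mathlib.FieldTheory.IsAlgClosed.AlgebraicClosure
import Mathlib.LinearAlgebra.Matrix.ToLin
import Mathlib.LinearAlgebra.FiniteDimensional.Basic
import Mathlib.LinearAlgebra.Basis.VectorSpace

set_option autoImplicit false
open Cfsg

namespace Cfsg.Agent.S3357

/-- Let G be a finite group that occurs as a Frobenius complement. Then G has a faithful irreducible representation over an algebraic closure of the rationals in which no non-identity element of G has 1 as an eigenvalue: there are n ≥ 1 and an injective homomorphism ρ from G to GL(n) over that field, with no invariant subspace other than 0 and the whole space, such that for g ≠ 1 the only vector fixed by ρ(g) is 0. -/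
theorem result {G : Type*} [Group G] [Finite G]
    (hFC : ∃ (L : Type) (_ : Group L) (_ : Finite L) (H : Subgroup L), Cfsg.IsFrobeniusComplement H ∧ Nonempty (G ≃* H)) :
    ∃ (n : ℕ) (ρ : G →* GL (Fin n) (AlgebraicClosure ℚ)), 0 < n ∧ Function.Injective ρ ∧
      (∀ W : Submodule (AlgebraicClosure ℚ) (Fin n → AlgebraicClosure ℚ),
        (∀ g : G, ∀ w ∈ W, ((ρ g : GL (Fin n) (AlgebraicClosure ℚ)) : Matrix (Fin n) (Fin n) (AlgebraicClosure ℚ)).mulVec w ∈ W) → W = ⊥ ∨ W = ⊤) ∧
      ∀ g : G, g ≠ 1 → ∀ v : Fin n → AlgebraicClosure ℚ,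
        ((ρ g : GL (Fin n) (AlgebraicClosure ℚ)) : Matrix (Fin n) (Fin n) (AlgebraicClosure ℚ)).mulVec v = v → v = 0 := by
  classical
  obtain ⟨L, i1, i2, H, hH, ⟨e⟩⟩ := hFC
  obtain ⟨V, α, hV, hα⟩ := Cfsg.Agent.S4292.exists_kernel_action hH
  haveI : Nontrivial H := (Subgroup.nontrivial_iff_ne_bot _).mpr hH.1
  haveI : Nontrivial G := e.toEquiv.nontrivial
  obtain ⟨f, hf, hprim⟩ := Cfsg.Agent.Frobenius.CharChange.exists_int_sol (α.comp e.toMonoidHom)
    (fun g hg w hw => hα (e g) (fun h => hg (e.injective (h.trans (map_one e).symm))) w hw)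
  set K := AlgebraicClosure ℚ
  set M := Cfsg.Agent.Frobenius.CharChange.sol G K
  have hMb : M ≠ ⊥ := Cfsg.Agent.Frobenius.CharChange.sol_ne_bot_of_int_sol hf hprim K
  obtain ⟨σ, hσ⟩ := Cfsg.Agent.Frobenius.CharChange.exists_action (A := G) K
    (by exact_mod_cast Nat.card_pos.ne')
  haveI : Nontrivial M := Submodule.nontrivial_iff_ne_bot.mpr hMb
  -- a minimal invariant subspace
  obtain ⟨W, ⟨hWb, hWinv⟩, hWmin⟩ := exists_minimal_of_wellFoundedLT
    (fun W : Submodule K M => W ≠ ⊥ ∧ ∀ g, ∀ w ∈ W, σ g w ∈ W) ⟨⊤, top_ne_bot, fun _ _ _ => trivial⟩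
  let τ : G →* Module.End K W :=
    { toFun := fun g => (σ g).restrict (hWinv g)
      map_one' := LinearMap.ext fun w => Subtype.ext (LinearMap.congr_fun (map_one σ) (w : M))
      map_mul' := fun g h => LinearMap.ext fun w =>
        Subtype.ext (LinearMap.congr_fun (map_mul σ g h) (w : M)) }
  haveI : Module.Free K W := Module.Free.of_divisionRing K W
  let b := Module.finBasis K W
  let m : G →* Matrix (Fin (Module.finrank K W)) (Fin (Module.finrank K W)) K :=
    (LinearMap.toMatrixAlgEquiv b).toRingEquiv.toMonoidHom.comp τ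
  have hmul : ∀ g v, (m g).mulVec v = ⇑(b.repr (τ g (b.equivFun.symm v))) := by
    intro g v
    conv_lhs => rw [← b.equivFun.apply_symm_apply v]
    exact LinearMap.toMatrix_mulVec_repr b b (τ g) (b.equivFun.symm v)
  have hfix : ∀ g, g ≠ 1 → ∀ v, (m g).mulVec v = v → v = 0 := by
    intro g hg v hv
    rw [hmul] at hv
    have h1 : τ g (b.equivFun.symm v) = b.equivFun.symm v :=
      b.equivFun.injective (hv.trans (b.equivFun.apply_symm_apply v).symm)
    have h2 : b.equivFun.symm v = 0 := Subtype.ext (hσ g hg _ (congrArg Subtype.val h1))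
    exact b.equivFun.symm.injective (h2.trans (map_zero _).symm)
  have hpos : 0 < Module.finrank K W := by
    haveI : Nontrivial W := Submodule.nontrivial_iff_ne_bot.mpr hWb
    exact Module.finrank_pos (R := K) (M := W)
  refine ⟨_, m.toHomUnits, hpos, ?_, ?_, hfix⟩
  · intro g h hgh
    by_contra hne
    have h1 : m g = m h := congrArg Units.val hgh
    let v : Fin (Module.finrank K W) → K := fun _ => 1
    have h2 := hfix (h⁻¹ * g) (fun h3 => hne (inv_mul_eq_one.mp h3).symm) v (by
      rw [map_mul, h1, ← map_mul, inv_mul_cancel, map_one, Matrix.one_mulVec])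
    exact one_ne_zero (congrFun h2 ⟨0, hpos⟩)
  · intro U hU
    let U' : Submodule K W := U.comap b.equivFun.toLinearMap
    rcases eq_or_ne U' ⊥ with h | h
    · left
      rw [eq_bot_iff]
      intro u hu
      have h1 : b.equivFun.symm u ∈ U' := by
        show b.equivFun (b.equivFun.symm u) ∈ U
        rw [b.equivFun.apply_symm_apply]; exact hu
      rw [h, Submodule.mem_bot] at h1
      exact (Submodule.mem_bot K).mpr (b.equivFun.symm.injective (h1.trans (map_zero _).symm))
    · right
      have hinv : ∀ g, ∀ w ∈ U'.map W.subtype, σ g w ∈ U'.map W.subtype := by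
        rintro g _ ⟨w, hw, rfl⟩
        refine ⟨τ g w, ?_, rfl⟩
        have h1 := hU g _ hw
        change (m g).mulVec (b.equivFun w) ∈ U at h1
        rw [hmul, b.equivFun.symm_apply_apply] at h1
        exact h1
      have hne : U'.map W.subtype ≠ ⊥ := fun h0 => h (Submodule.map_injective_of_injective
        W.injective_subtype (h0.trans (Submodule.map_bot _).symm))
      have hle := hWmin ⟨hne, hinv⟩ (Submodule.map_subtype_le W U')
      rw [eq_top_iff]
      intro u _
      obtain ⟨w, hw, hwe⟩ := hle (b.equivFun.symm u).2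
      obtain rfl : w = b.equivFun.symm u := Subtype.ext hwe
      have h1 : b.equivFun (b.equivFun.symm u) ∈ U := hw
      rwa [b.equivFun.apply_symm_apply] at h1

end Cfsg.Agent.S3357
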