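import Cfsg.Statements.S3358
import Cfsg.Agent.FPFStructure.MetaCyclic
import Cfsg.Agent.FPFStructure.ZassenhausMain

set_option autoImplicit false
open Cfsg

namespace Cfsg.Agent.S3358

/-- Structure of solvable Frobenius complements. Let G be a finite solvable group that occurs as a Frobenius complement. Then G has a normal subgroup G₀ such that G/G₀ is isomorphic to a subgroup of Sym(4) (G₀ is the kernel of a homomorphism to Sym(4)), all Sylow subgroups of G₀ are cyclic, and G₀ has a presentation ⟨x, y | x^n = 1, y^m = 1, x⁻¹ y x = y^r⟩ with n, m ≥ 1, gcd(r − 1, m) = gcd(n, m) = 1 and r^(n/n′) ≡ 1 (mod m), where n′ is the product of the distinct primes dividing n. -/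
theorem result {G : Type*} [Group G] [Finite G] (hsol : Group.IsSolvable G)
    (hFC : ∃ (L : Type) (_ : Group L) (_ : Finite L) (H : Subgroup L), Cfsg.IsFrobeniusComplement H ∧ Nonempty (G ≃* H)) :
    ∃ G₀ : Subgroup G, G₀.Normal ∧
      (∃ f : G →* Equiv.Perm (Fin 4), f.ker = G₀) ∧
      (∀ (p : ℕ) [Fact p.Prime] (P : Sylow p G₀), IsCyclic P) ∧
      ∃ n m r : ℕ, 0 < n ∧ 0 < m ∧ Nat.Coprime (r - 1) m ∧ Nat.Coprime n m ∧ 1 ≤ r ∧
        r ^ (n / ∏ p ∈ n.primeFactors, p) % m = 1 % m ∧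
        Nonempty (G₀ ≃* PresentedGroup
          ({FreeGroup.of (0 : Fin 2) ^ n, FreeGroup.of (1 : Fin 2) ^ m,
            (FreeGroup.of (0 : Fin 2))⁻¹ * FreeGroup.of 1 * FreeGroup.of 0 * (FreeGroup.of (1 : Fin 2) ^ r)⁻¹} :
            Set (FreeGroup (Fin 2)))) := by
  have key : ∀ G₀ : Subgroup G, G₀.Normal → IsZGroup G₀ →
      (∃ f : G →* Equiv.Perm (Fin 4), f.ker = G₀) → ∃ G₀ : Subgroup G, G₀.Normal ∧
      (∃ f : G →* Equiv.Perm (Fin 4), f.ker = G₀) ∧
      (∀ (p : ℕ) [Fact p.Prime] (P : Sylow p G₀), IsCyclic P) ∧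
      ∃ n m r : ℕ, 0 < n ∧ 0 < m ∧ Nat.Coprime (r - 1) m ∧ Nat.Coprime n m ∧ 1 ≤ r ∧
        r ^ (n / ∏ p ∈ n.primeFactors, p) % m = 1 % m ∧
        Nonempty (G₀ ≃* PresentedGroup
          ({FreeGroup.of (0 : Fin 2) ^ n, FreeGroup.of (1 : Fin 2) ^ m,
            (FreeGroup.of (0 : Fin 2))⁻¹ * FreeGroup.of 1 * FreeGroup.of 0 * (FreeGroup.of (1 : Fin 2) ^ r)⁻¹} :
            Set (FreeGroup (Fin 2)))) := by
    intro G₀ hn hZ hf
    haveI := hZ
    obtain ⟨x, y, r, hgen, hr, hc1, hc2, h1, -, hcard⟩ := FPFStructure.exists_gens (G := G₀)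
    refine ⟨G₀, hn, hf, fun p _ P => inferInstance, orderOf x, orderOf y, r, orderOf_pos x,
      orderOf_pos y, hc1, hc2, h1, ?_, FPFStructure.equiv_presented hgen hr hcard⟩
    have hpc := (FPFStructure.primeComm_of_fc hFC).comap G₀
    have hcomm := FPFStructure.pow_radical_central hpc (orderOf_pos y).ne' hc2 hr (orderOf_pos x).ne'
    have hiter : ∀ j : ℕ, (x ^ j)⁻¹ * y * x ^ j = y ^ r ^ j := by
      intro j
      induction j with
      | zero => simp
      | succ j ih =>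
        calc (x ^ (j + 1))⁻¹ * y * x ^ (j + 1) = x⁻¹ * ((x ^ j)⁻¹ * y * x ^ j) * (x⁻¹)⁻¹ := by
              rw [pow_succ]; group
          _ = (x⁻¹ * y * (x⁻¹)⁻¹) ^ r ^ j := by rw [ih, conj_pow]
          _ = _ := by rw [inv_inv, hr, ← pow_mul, pow_succ']
    have h := hiter (orderOf x / ∏ p ∈ (orderOf x).primeFactors, p)
    rw [mul_assoc, hcomm.eq, inv_mul_cancel_left] at h
    exact pow_eq_pow_iff_modEq.1 (h.symm.trans (pow_one y).symm)
  rcases FPFStructure.exists_quotient hFC with hZ | ⟨-, N, hn, hNZ, hsm, -⟩ | ⟨hns, -⟩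
  · haveI := hZ
    exact key ⊤ inferInstance inferInstance ⟨1, MonoidHom.ker_one⟩
  · refine key N hn hNZ ?_
    rcases hsm with ⟨f, -, rfl⟩ | ⟨f, -, rfl⟩ | ⟨f, -, rfl⟩
    · let e : DihedralGroup 2 ≃ Fin 4 := Finite.equivFinOfCardEq DihedralGroup.nat_card
      refine ⟨(e.permCongrHom.toMonoidHom.comp
        (MulAction.toPermHom (DihedralGroup 2) (DihedralGroup 2))).comp f, ?_⟩
      ext x
      simp only [MonoidHom.mem_ker, MonoidHom.comp_apply, MulEquiv.coe_toMonoidHom,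
        MulEquiv.map_eq_one_iff]
      refine ⟨fun h => ?_, fun h => by rw [h, map_one]⟩
      have h' := Equiv.ext_iff.1 h 1
      simpa using h'
    · refine ⟨(alternatingGroup (Fin 4)).subtype.comp f, ?_⟩
      ext x; simp [MonoidHom.mem_ker]
    · exact ⟨f, rfl⟩
  · exact absurd hsol hns

end Cfsg.Agent.S3358
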