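import Cfsg.Statements.S3361
import Cfsg.Agent.Huppert69.RegularSL

set_option autoImplicit false
open Cfsg

namespace Cfsg.Agent.S3361

/-- Let q be a prime and V a non-trivial finite vector space over the field with q elements, and let G be a finite solvable group acting faithfully and linearly on V and regularly on the non-zero vectors (transitively, with only the identity fixing a non-zero vector). Then either V can be identified with the additive group of a finite field F so that every element of G acts as x ↦ a·σ(x) (a ∈ F, σ a field automorphism), or V has 5^2, 7^2, 11^2 or 23^2 elements. Moreover, if q ≠ 2 then G has a normal subgroup of index 2, except that when V has 25 elements G may be isomorphic to SL(2,3) and when V has 121 elements G may be isomorphic to SL(2,3) × C₅. -/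
theorem result
    (q : ℕ) [Fact q.Prime] {V : Type*} [AddCommGroup V] [Module (ZMod q) V] [Finite V] [Nontrivial V]
    {G : Type*} [Group G] [Finite G] (hsol : Group.IsSolvable G)
    (ρ : G →* (V ≃ₗ[ZMod q] V)) (hρ : Function.Injective ρ)
    (htrans : ∀ v w : V, v ≠ 0 → w ≠ 0 → ∃ g : G, ρ g v = w)
    (hreg : ∀ v : V, v ≠ 0 → ∀ g : G, ρ g v = v → g = 1) :
    ((∃ (F : Type) (_ : Field F) (_ : Fintype F) (e : V ≃+ F),
        ∀ g : G, ∃ (a : F) (σ : F ≃+* F), ∀ v : V, e (ρ g v) = a * σ (e v)) ∨
      Nat.card V ∈ ({25, 49, 121, 529} : Set ℕ)) ∧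
    (q ≠ 2 → (∃ N : Subgroup G, N.Normal ∧ N.index = 2) ∨
      (Nat.card V = 25 ∧ Nonempty (G ≃* Matrix.SpecialLinearGroup (Fin 2) (ZMod 3))) ∨
      (Nat.card V = 121 ∧ Nonempty (G ≃* Matrix.SpecialLinearGroup (Fin 2) (ZMod 3) × Multiplicative (ZMod 5)))) := by
  classical
  have hq := (Fact.out (p := q.Prime))
  have hG := Huppert69.card_of_regular (ρ := ρ) htrans hreg
  rcases Huppert69.semilinear_or_exceptional hsol hρ htrans with hF | ⟨⟨A, B, s, h⟩, hcase⟩
  · refine ⟨Or.inl hF, fun hq2 => Or.inl ?_⟩
    obtain ⟨F, _, _, e, he⟩ := hF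
    refine Huppert69.exists_index_two_of_semilinear hρ e he ?_
    obtain ⟨n, hn⟩ : ∃ n, Nat.card V = q ^ n :=
      ⟨_, by rw [Module.natCard_eq_pow_finrank (K := ZMod q), Nat.card_zmod]⟩
    have hodd : Odd (Nat.card V) := hn ▸ (hq.odd_of_ne_two hq2).pow
    obtain ⟨k, hk⟩ := hodd
    rw [hG, hk]
    exact ⟨k, by omega⟩
  · have := h.normal
    have := h.normalB
    have := h.isMulCommutative_A
    have := h.isMulCommutative_sec
    have := h.isMulCommutative_alg
    rcases hcase with h81 | ⟨hV, hq5⟩
    · exact (h.false_of_81 hρ hreg h81).elim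
    obtain ⟨d, m, b, hN, hE, hmE⟩ := h.exists_nums
    have hn : d * m = 2 := Nat.pow_right_injective hq.two_le (hN.hV.symm.trans hV)
    obtain ⟨hd, hm, hs, -, hW⟩ := h.two_dim hN hn
    have hC := h.centralizer_eq_top hd hE
    have hcard := h.card_G hC (by rw [hW, hmE, hm]; norm_num)
    rw [hG, hV, hW] at hcard
    have hA : Nat.card A ∣ q - 1 := by simpa [hd] using hN.hA
    have hA2 : 2 ∣ Nat.card A := hs ▸ hN.hs
    have hpos : 0 < Nat.card A := Nat.card_pos
    have hu := h.range_cases hN hE hn
    have hne3 : q ≠ 3 := by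
      rintro rfl
      have := Nat.le_of_dvd hpos hA2
      rcases hu with e | e <;> rw [e] at hcard <;> norm_num at hcard <;> omega
    refine ⟨Or.inr ?_, fun _ => ?_⟩
    · rcases hq5 with rfl | rfl | rfl | rfl | rfl <;> first
        | exact absurd rfl hne3
        | (rw [hV]; norm_num)
    rcases hu with e | e
    · rw [e] at hcard
      right
      have h4 : (q = 5 ∧ Nat.card A = 2) ∨ (q = 11 ∧ Nat.card A = 10) := by
        rcases hq5 with rfl | rfl | rfl | rfl | rfl
        · exact absurd rfl hne3
        · left; norm_num at hcard; omega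
        · exfalso
          have : Nat.card A = 4 := by norm_num at hcard; omega
          rw [this] at hA
          norm_num at hA
        · right; norm_num at hcard; omega
        · exfalso
          have : Nat.card A = 44 := by norm_num at hcard; omega
          rw [this] at hA
          norm_num at hA
      rcases h4 with ⟨rfl, ha⟩ | ⟨rfl, ha⟩
      · left
        obtain ⟨a, b', y, hr⟩ := h.exists_rotation hρ hreg hC hs (by rw [ha]; norm_num) hW e
        exact ⟨by rw [hV]; norm_num, Huppert69.equiv_sl23 (by rw [hG, hV]; norm_num) hr⟩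
      · right
        obtain ⟨a, b', y, hr⟩ := h.exists_rotation hρ hreg hC hs (by rw [ha]; norm_num) hW e
        refine ⟨by rw [hV]; norm_num, Huppert69.equiv_sl23_prod (by rw [hG, hV]; norm_num) hr ha ?_⟩
        intro z hz
        rw [Subgroup.mem_center_iff]
        intro g
        exact (Subgroup.mem_centralizer_iff.1 (hC ▸ Subgroup.mem_top g) z hz).symm
    · exact Or.inl (h.index_two_of_six e hN)

end Cfsg.Agent.S3361
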