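import Cfsg.Statements.S3362
-- import your own Cfsg.Agent.* helpers here

set_option autoImplicit false
open Cfsg

namespace Cfsg.Agent.S3362

set_option maxRecDepth 4000

/-- A level of a chain: a base point and its transversal with inverses, indexed by image. -/
abbrev Lev := ℕ × List (List ℕ × List ℕ)

/-- Certificate data. -/
def gens8 : List (List ℕ) := [
  [0, 1, 2, 4, 5, 3, 7, 8, 6, 10, 11, 9],
  [0, 1, 2, 6, 7, 8, 9, 10, 11, 3, 4, 5],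
  [0, 1, 2, 3, 6, 9, 5, 8, 11, 4, 7, 10],
  [0, 1, 2, 3, 7, 11, 10, 5, 6, 8, 9, 4],
  [0, 1, 2, 3, 10, 8, 11, 6, 4, 7, 5, 9],
  [3, 1, 2, 0, 4, 5, 7, 6, 10, 11, 8, 9],
  [1, 0, 2, 3, 4, 5, 9, 10, 11, 6, 7, 8],
  [0, 2, 1, 3, 4, 5, 11, 9, 10, 7, 8, 6]]

/-- Certificate data. -/
def prog12 : List (ℕ × ℕ) := [(7, 8), (6, 9), (1, 10), (1, 11), (2, 10), (2, 11), (2, 12), (2, 13), (5, 11), (5, 13)]

/-- Certificate data. -/
def prog11 : List (ℕ × ℕ) := [(1, 6), (1, 8), (2, 6), (2, 8), (2, 9), (2, 10), (5, 8), (5, 10), (7, 6), (6, 16), (1, 17), (1, 18), (2, 17), (2, 18), (6, 7), (2, 22), (5, 23), (7, 24), (7, 23), (5, 18), (5, 20), (1, 1), (2, 1), (2, 29), (2, 2), (5, 1), (5, 2), (3, 3), (3, 4), (4, 5), (5, 3)]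

/-- Certificate data. -/
def level0 : Lev := (2, [
    ([1, 2, 0, 3, 4, 5, 8, 6, 7, 10, 11, 9], [2, 0, 1, 3, 4, 5, 7, 8, 6, 11, 9, 10]),
    ([0, 2, 1, 3, 4, 5, 11, 9, 10, 7, 8, 6], [0, 2, 1, 3, 4, 5, 11, 9, 10, 7, 8, 6]),
    ([0, 1, 2, 3, 4, 5, 6, 7, 8, 9, 10, 11], [0, 1, 2, 3, 4, 5, 6, 7, 8, 9, 10, 11]),
    ([1, 2, 3, 0, 4, 5, 10, 7, 6, 8, 9, 11], [3, 0, 1, 2, 4, 5, 8, 7, 9, 10, 6, 11]),
    ([1, 2, 4, 0, 5, 3, 11, 8, 7, 6, 10, 9], [3, 0, 1, 5, 2, 4, 9, 8, 7, 11, 10, 6]),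
    ([1, 2, 5, 0, 3, 4, 9, 6, 8, 7, 11, 10], [3, 0, 1, 4, 5, 2, 7, 9, 8, 6, 11, 10]),
    ([1, 2, 6, 0, 7, 8, 4, 10, 9, 11, 3, 5], [3, 0, 1, 10, 6, 11, 2, 4, 5, 8, 7, 9]),
    ([1, 2, 7, 0, 8, 6, 5, 11, 10, 9, 4, 3], [3, 0, 1, 11, 10, 6, 5, 2, 4, 9, 8, 7]),
    ([1, 2, 8, 0, 6, 7, 3, 9, 11, 10, 5, 4], [3, 0, 1, 6, 11, 10, 4, 5, 2, 7, 9, 8]),
    ([1, 2, 9, 0, 10, 11, 7, 4, 3, 5, 6, 8], [3, 0, 1, 8, 7, 9, 10, 6, 11, 2, 4, 5]),
    ([1, 2, 10, 0, 8, 3, 9, 4, 6, 11, 5, 7], [3, 0, 1, 5, 7, 10, 8, 11, 4, 6, 2, 9]),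
    ([1, 2, 11, 0, 6, 4, 10, 5, 7, 9, 3, 8], [3, 0, 1, 10, 5, 7, 4, 8, 11, 9, 6, 2])])

/-- Certificate data. -/
def levels : List Lev := [
  (0, [
    ([0, 1, 2, 3, 4, 5, 6, 7, 8, 9, 10, 11], [0, 1, 2, 3, 4, 5, 6, 7, 8, 9, 10, 11]),
    ([1, 0, 2, 3, 4, 5, 9, 10, 11, 6, 7, 8], [1, 0, 2, 3, 4, 5, 9, 10, 11, 6, 7, 8]),
    ([0, 1, 2, 3, 4, 5, 6, 7, 8, 9, 10, 11], [0, 1, 2, 3, 4, 5, 6, 7, 8, 9, 10, 11]),
    ([3, 1, 2, 0, 4, 5, 7, 6, 10, 11, 8, 9], [3, 1, 2, 0, 4, 5, 7, 6, 10, 11, 8, 9]),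
    ([4, 1, 2, 0, 5, 3, 8, 7, 11, 9, 6, 10], [3, 1, 2, 5, 0, 4, 10, 7, 6, 9, 11, 8]),
    ([5, 1, 2, 0, 3, 4, 6, 8, 9, 10, 7, 11], [3, 1, 2, 4, 5, 0, 6, 10, 7, 8, 9, 11]),
    ([6, 1, 2, 0, 7, 8, 10, 9, 4, 5, 11, 3], [3, 1, 2, 11, 8, 9, 0, 4, 5, 7, 6, 10]),
    ([7, 1, 2, 0, 8, 6, 11, 10, 5, 3, 9, 4], [3, 1, 2, 9, 11, 8, 5, 0, 4, 10, 7, 6]),
    ([8, 1, 2, 0, 6, 7, 9, 11, 3, 4, 10, 5], [3, 1, 2, 8, 9, 11, 4, 5, 0, 6, 10, 7]),
    ([9, 1, 2, 0, 10, 11, 4, 3, 7, 8, 5, 6], [3, 1, 2, 7, 6, 10, 11, 8, 9, 0, 4, 5]),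
    ([10, 1, 2, 0, 8, 3, 4, 6, 9, 7, 11, 5], [3, 1, 2, 5, 6, 11, 7, 9, 4, 8, 0, 10]),
    ([11, 1, 2, 0, 6, 4, 5, 7, 10, 8, 9, 3], [3, 1, 2, 11, 5, 6, 4, 7, 9, 10, 8, 0])]),
  (1, [
    ([0, 1, 2, 3, 4, 5, 6, 7, 8, 9, 10, 11], [0, 1, 2, 3, 4, 5, 6, 7, 8, 9, 10, 11]),
    ([0, 1, 2, 3, 4, 5, 6, 7, 8, 9, 10, 11], [0, 1, 2, 3, 4, 5, 6, 7, 8, 9, 10, 11]),
    ([0, 1, 2, 3, 4, 5, 6, 7, 8, 9, 10, 11], [0, 1, 2, 3, 4, 5, 6, 7, 8, 9, 10, 11]),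
    ([0, 3, 2, 1, 4, 5, 8, 11, 6, 10, 9, 7], [0, 3, 2, 1, 4, 5, 8, 11, 6, 10, 9, 7]),
    ([0, 4, 2, 1, 5, 3, 6, 9, 7, 11, 10, 8], [0, 3, 2, 5, 1, 4, 6, 8, 11, 7, 10, 9]),
    ([0, 5, 2, 1, 3, 4, 7, 10, 8, 9, 11, 6], [0, 3, 2, 4, 5, 1, 11, 6, 8, 9, 7, 10]),
    ([0, 6, 2, 1, 7, 8, 11, 5, 9, 4, 3, 10], [0, 3, 2, 10, 9, 7, 1, 4, 5, 8, 11, 6]),
    ([0, 7, 2, 1, 8, 6, 9, 3, 10, 5, 4, 11], [0, 3, 2, 7, 10, 9, 5, 1, 4, 6, 8, 11]),
    ([0, 8, 2, 1, 9, 4, 11, 6, 3, 5, 10, 7], [0, 3, 2, 8, 5, 9, 7, 11, 1, 4, 10, 6]),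
    ([0, 9, 2, 1, 10, 11, 5, 8, 3, 7, 6, 4], [0, 3, 2, 8, 11, 6, 10, 9, 7, 1, 4, 5]),
    ([0, 10, 2, 1, 8, 3, 11, 7, 6, 9, 5, 4], [0, 3, 2, 5, 11, 10, 8, 7, 4, 9, 1, 6]),
    ([0, 11, 2, 1, 6, 4, 9, 8, 7, 10, 3, 5], [0, 3, 2, 10, 5, 11, 4, 8, 7, 6, 9, 1])]),
  (3, [
    ([0, 1, 2, 3, 4, 5, 6, 7, 8, 9, 10, 11], [0, 1, 2, 3, 4, 5, 6, 7, 8, 9, 10, 11]),
    ([0, 1, 2, 3, 4, 5, 6, 7, 8, 9, 10, 11], [0, 1, 2, 3, 4, 5, 6, 7, 8, 9, 10, 11]),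
    ([0, 1, 2, 3, 4, 5, 6, 7, 8, 9, 10, 11], [0, 1, 2, 3, 4, 5, 6, 7, 8, 9, 10, 11]),
    ([0, 1, 2, 3, 4, 5, 6, 7, 8, 9, 10, 11], [0, 1, 2, 3, 4, 5, 6, 7, 8, 9, 10, 11]),
    ([0, 1, 2, 4, 5, 3, 7, 8, 6, 10, 11, 9], [0, 1, 2, 5, 3, 4, 8, 6, 7, 11, 9, 10]),
    ([0, 1, 2, 5, 3, 4, 8, 6, 7, 11, 9, 10], [0, 1, 2, 4, 5, 3, 7, 8, 6, 10, 11, 9]),
    ([0, 1, 2, 6, 7, 8, 9, 10, 11, 3, 4, 5], [0, 1, 2, 9, 10, 11, 3, 4, 5, 6, 7, 8]),
    ([0, 1, 2, 7, 8, 6, 10, 11, 9, 4, 5, 3], [0, 1, 2, 11, 9, 10, 5, 3, 4, 8, 6, 7]),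
    ([0, 1, 2, 8, 6, 7, 11, 9, 10, 5, 3, 4], [0, 1, 2, 10, 11, 9, 4, 5, 3, 7, 8, 6]),
    ([0, 1, 2, 9, 10, 11, 3, 4, 5, 6, 7, 8], [0, 1, 2, 6, 7, 8, 9, 10, 11, 3, 4, 5]),
    ([0, 1, 2, 10, 8, 3, 6, 4, 11, 5, 9, 7], [0, 1, 2, 5, 7, 9, 6, 11, 4, 10, 3, 8]),
    ([0, 1, 2, 11, 6, 4, 7, 5, 9, 3, 10, 8], [0, 1, 2, 9, 5, 7, 4, 6, 11, 8, 10, 3])]),
  (4, [
    ([0, 1, 2, 3, 4, 5, 6, 7, 8, 9, 10, 11], [0, 1, 2, 3, 4, 5, 6, 7, 8, 9, 10, 11]),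
    ([0, 1, 2, 3, 4, 5, 6, 7, 8, 9, 10, 11], [0, 1, 2, 3, 4, 5, 6, 7, 8, 9, 10, 11]),
    ([0, 1, 2, 3, 4, 5, 6, 7, 8, 9, 10, 11], [0, 1, 2, 3, 4, 5, 6, 7, 8, 9, 10, 11]),
    ([0, 1, 2, 3, 4, 5, 6, 7, 8, 9, 10, 11], [0, 1, 2, 3, 4, 5, 6, 7, 8, 9, 10, 11]),
    ([0, 1, 2, 3, 4, 5, 6, 7, 8, 9, 10, 11], [0, 1, 2, 3, 4, 5, 6, 7, 8, 9, 10, 11]),
    ([0, 1, 2, 3, 5, 4, 9, 11, 10, 6, 8, 7], [0, 1, 2, 3, 5, 4, 9, 11, 10, 6, 8, 7]),
    ([0, 1, 2, 3, 6, 9, 5, 8, 11, 4, 7, 10], [0, 1, 2, 3, 9, 6, 4, 10, 7, 5, 11, 8]),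
    ([0, 1, 2, 3, 7, 11, 10, 5, 6, 8, 9, 4], [0, 1, 2, 3, 11, 7, 8, 4, 9, 10, 6, 5]),
    ([0, 1, 2, 3, 8, 10, 7, 9, 5, 11, 4, 6], [0, 1, 2, 3, 10, 8, 11, 6, 4, 7, 5, 9]),
    ([0, 1, 2, 3, 9, 6, 4, 10, 7, 5, 11, 8], [0, 1, 2, 3, 6, 9, 5, 8, 11, 4, 7, 10]),
    ([0, 1, 2, 3, 10, 8, 11, 6, 4, 7, 5, 9], [0, 1, 2, 3, 8, 10, 7, 9, 5, 11, 4, 6]),
    ([0, 1, 2, 3, 11, 7, 8, 4, 9, 10, 6, 5], [0, 1, 2, 3, 7, 11, 10, 5, 6, 8, 9, 4])])]

/-- A table of a permutation. -/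
def Tab (g : Equiv.Perm (Fin 12)) (l : List ℕ) : Prop := ∀ x : Fin 12, (g x : ℕ) = l.getD x 0

/-- The identity table. -/
def idL : List ℕ := List.range 12

/-- Composition of tables. -/
def compL (a b : List ℕ) : List ℕ := (List.range 12).map fun x => a.getD (b.getD x 0) 0

theorem compL_getD (a b : List ℕ) (x : Fin 12) : (compL a b).getD x 0 = a.getD (b.getD x 0) 0 := by
  rw [compL, List.getD_eq_getElem _ _ (by simp)]
  simp

theorem tab_one : Tab 1 idL := fun x => by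
  rw [idL, List.getD_eq_getElem _ _ (by simp)]
  simp

theorem Tab.mul {g h : Equiv.Perm (Fin 12)} {a b : List ℕ} (hg : Tab g a) (hh : Tab h b) :
    Tab (g * h) (compL a b) := fun x => by
  rw [compL_getD, ← hh x, ← hg]; rfl

theorem Tab.unique {g h : Equiv.Perm (Fin 12)} {a : List ℕ} (hg : Tab g a) (hh : Tab h a) : g = h :=
  Equiv.ext fun x => Fin.ext ((hg x).trans (hh x).symm)

theorem Tab.inv {g : Equiv.Perm (Fin 12)} {a b : List ℕ} (hg : Tab g a) (h : compL b a = idL) :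
    Tab g⁻¹ b := fun y => by
  have h1 := compL_getD b a (g⁻¹ y)
  rw [h, ← tab_one, ← hg, Equiv.Perm.one_apply, Equiv.Perm.inv_def, Equiv.apply_symm_apply] at h1
  exact h1

/-- Products along a program. -/
def evalProg (gens : List (List ℕ)) (prog : List (ℕ × ℕ)) : List (List ℕ) :=
  prog.foldl (fun acc p => acc ++ [compL (acc.getD p.1 idL) (acc.getD p.2 idL)]) (idL :: gens)

theorem evalProg_mem (H : Subgroup (Equiv.Perm (Fin 12))) (gens : List (List ℕ))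
    (hgens : ∀ l ∈ gens, ∃ g ∈ H, Tab g l) (prog : List (ℕ × ℕ)) :
    ∀ l ∈ evalProg gens prog, ∃ g ∈ H, Tab g l := by
  have key : ∀ (prog : List (ℕ × ℕ)) (acc : List (List ℕ)), (∀ l ∈ acc, ∃ g ∈ H, Tab g l) →
      ∀ l ∈ prog.foldl (fun acc p => acc ++ [compL (acc.getD p.1 idL) (acc.getD p.2 idL)]) acc,
        ∃ g ∈ H, Tab g l := by
    intro prog
    induction prog with
    | nil => exact fun acc h => h
    | cons p ps ih =>
      intro acc h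
      refine ih _ fun l hl => ?_
      rcases List.mem_append.mp hl with hl | hl
      · exact h l hl
      rw [List.mem_singleton] at hl
      have hget : ∀ i, ∃ g ∈ H, Tab g (acc.getD i idL) := fun i => by
        by_cases hi : i < acc.length
        · rw [List.getD_eq_getElem _ _ hi]; exact h _ (List.getElem_mem hi)
        · rw [List.getD_eq_default _ _ (not_lt.mp hi)]; exact ⟨1, one_mem _, tab_one⟩
      obtain ⟨g, hg, tg⟩ := hget p.1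
      obtain ⟨k, hk, tk⟩ := hget p.2
      exact ⟨g * k, mul_mem hg hk, hl ▸ tg.mul tk⟩
  refine key prog _ fun l hl => ?_
  rcases List.mem_cons.mp hl with rfl | hl
  · exact ⟨1, one_mem _, tab_one⟩
  · exact hgens l hl

/-- Products of one member of each transversal. -/
def U : List Lev → Set (Equiv.Perm (Fin 12))
  | [] => {1}
  | L :: Ls => {g | ∃ t ∈ L.2, ∃ a, Tab a t.1 ∧ ∃ u ∈ U Ls, g = a * u}

/-- Sifting. -/
def sift : List Lev → List ℕ → Bool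
  | [], f => f == idL
  | L :: Ls, f => match L.2[f.getD L.1 0]? with
    | none => false
    | some t => sift Ls (compL t.2 f)

/-- The members of the transversals. -/
def ents (Ls : List Lev) : List (List ℕ × List ℕ) := Ls.flatMap Prod.snd

/-- The chain checks: closure, fixing and uniqueness. -/
def chainOK : List Lev → Bool
  | [] => true
  | L :: Ls => sift (L :: Ls) idL &&
      (L.2.all fun a => (ents (L :: Ls)).all fun c => sift (L :: Ls) (compL c.1 a.1)) &&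
      ((ents Ls).all fun c => c.1.getD L.1 0 == L.1) &&
      (L.2.all fun a => a.1.getD L.1 0 != L.1 || a.1 == idL) && decide (L.1 < 12) && chainOK Ls

/-- The transitivity check. -/
def surjOK : List ℕ → List Lev → Bool
  | _, [] => true
  | pre, L :: Ls => decide (L.1 < 12) && ((List.range 12).all fun x => pre.contains x ||
      match L.2[x]? with
      | none => false
      | some t => t.1.getD L.1 0 == x && pre.all fun j => t.1.getD j 0 == j) &&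
      !pre.contains L.1 && surjOK (pre ++ [L.1]) Ls

/-- The validity of the entries against a program. -/
def entsOK (vals : List (List ℕ)) (Ls : List Lev) : Bool :=
  (ents Ls).all fun t => vals.contains t.1 && compL t.2 t.1 == idL

/-- Every entry is the table of a member of `H`. -/
def Valid (H : Subgroup (Equiv.Perm (Fin 12))) (Ls : List Lev) : Prop :=
  ∀ t ∈ ents Ls, ∃ a ∈ H, Tab a t.1 ∧ Tab a⁻¹ t.2

variable {H : Subgroup (Equiv.Perm (Fin 12))}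

theorem valid_of {gens : List (List ℕ)} {prog : List (ℕ × ℕ)} {Ls : List Lev}
    (hgens : ∀ l ∈ gens, ∃ g ∈ H, Tab g l) (h : entsOK (evalProg gens prog) Ls = true) : Valid H Ls := by
  intro t ht
  simp only [entsOK, List.all_eq_true, Bool.and_eq_true, List.contains_iff_mem, beq_iff_eq] at h
  obtain ⟨h1, h2⟩ := h t ht
  obtain ⟨a, ha, ta⟩ := evalProg_mem H gens hgens prog _ h1
  exact ⟨a, ha, ta, ta.inv h2⟩

theorem Valid.head {L : Lev} {Ls : List Lev} (hv : Valid H (L :: Ls)) {t : List ℕ × List ℕ}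
    (ht : t ∈ L.2) : ∃ a ∈ H, Tab a t.1 ∧ Tab a⁻¹ t.2 :=
  hv t (by simp [ents, ht])

theorem Valid.tail {L : Lev} {Ls : List Lev} (hv : Valid H (L :: Ls)) : Valid H Ls :=
  fun t ht => hv t (by simp only [ents, List.flatMap_cons, List.mem_append]; exact Or.inr ht)

theorem sift_sound : ∀ (Ls : List Lev), Valid H Ls → ∀ (g : Equiv.Perm (Fin 12)) (f : List ℕ),
    Tab g f → sift Ls f = true → g ∈ U Ls
  | [], _, g, f, hg, h => by
    rw [sift, beq_iff_eq] at h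
    exact (h ▸ hg).unique tab_one
  | L :: Ls, hv, g, f, hg, h => by
    rw [sift] at h
    split at h
    · exact absurd h (by simp)
    · rename_i t ht
      obtain ⟨a, -, ta, ta'⟩ := hv.head (List.mem_of_getElem? ht)
      exact ⟨t, List.mem_of_getElem? ht, a, ta, a⁻¹ * g,
        sift_sound Ls hv.tail _ _ (ta'.mul hg) h, by group⟩

theorem U_subset : ∀ (Ls : List Lev), Valid H Ls → ∀ g ∈ U Ls, g ∈ H
  | [], _, g, hg => by rw [show g = 1 from hg]; exact one_mem _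
  | L :: Ls, hv, g, ⟨t, ht, a, ta, u, hu, e⟩ => by
    obtain ⟨a', ha', ta', -⟩ := hv.head ht
    rw [e, ta.unique ta']
    exact mul_mem ha' (U_subset Ls hv.tail u hu)

theorem U_induct : ∀ (Ls : List Lev) (X : Set (Equiv.Perm (Fin 12))), (1 ∈ X) →
    (∀ u ∈ X, ∀ v ∈ X, u * v ∈ X) → (∀ t ∈ ents Ls, ∀ a, Tab a t.1 → a ∈ X) → ∀ g ∈ U Ls, g ∈ X
  | [], X, h1, _, _, g, hg => by rwa [show g = 1 from hg]
  | L :: Ls, X, h1, hm, he, g, ⟨t, ht, a, ta, u, hu, e⟩ => by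
    rw [e]
    exact hm _ (he t (by simp [ents, ht]) a ta) _ (U_induct Ls X h1 hm
      (fun t' ht' => he t' (by simp only [ents, List.flatMap_cons, List.mem_append]; exact Or.inr ht')) u hu)

theorem U_closed : ∀ (Ls : List Lev), Valid H Ls → chainOK Ls = true →
    (1 : Equiv.Perm (Fin 12)) ∈ U Ls ∧ ∀ g ∈ U Ls, ∀ h ∈ U Ls, g * h ∈ U Ls
  | [], _, _ => ⟨rfl, fun g hg h hh => by rw [show g = 1 from hg, one_mul]; exact hh⟩
  | L :: Ls, hv, hc => by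
    simp only [chainOK, Bool.and_eq_true, List.all_eq_true] at hc
    obtain ⟨⟨⟨⟨⟨hid, hcl⟩, -⟩, -⟩, -⟩, hrest⟩ := hc
    obtain ⟨hone, hmul⟩ := U_closed Ls hv.tail hrest
    have hca : ∀ t ∈ L.2, ∀ a, Tab a t.1 → ∀ s ∈ ents (L :: Ls), ∀ c, Tab c s.1 → c * a ∈ U (L :: Ls) :=
      fun t ht a ta s hs c tc => sift_sound _ hv _ _ (tc.mul ta) (hcl t ht s hs)
    have hX : ∀ u ∈ U Ls, ∀ t ∈ L.2, ∀ a, Tab a t.1 → u * a ∈ U (L :: Ls) := by
      refine U_induct Ls {u | ∀ t ∈ L.2, ∀ a, Tab a t.1 → u * a ∈ U (L :: Ls)} ?_ ?_ ?_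
      · intro t ht a ta
        exact ⟨t, ht, a, ta, 1, hone, by group⟩
      · intro u hu v hv' t ht a ta
        obtain ⟨t1, ht1, a1, ta1, w1, hw1, e1⟩ := hv' t ht a ta
        obtain ⟨t2, ht2, a2, ta2, w2, hw2, e2⟩ := hu t1 ht1 a1 ta1
        exact ⟨t2, ht2, a2, ta2, w2 * w1, hmul _ hw2 _ hw1, by
          rw [mul_assoc, e1, ← mul_assoc, e2, mul_assoc]⟩
      · intro s hs c tc t ht a ta
        exact hca t ht a ta s (by simp only [ents, List.flatMap_cons, List.mem_append]; exact Or.inr hs) c tc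
    refine ⟨sift_sound _ hv _ _ tab_one hid, ?_⟩
    rintro g ⟨t, ht, a, ta, u, hu, rfl⟩ h ⟨t', ht', a', ta', u', hu', rfl⟩
    obtain ⟨t1, ht1, a1, ta1, w1, hw1, e1⟩ := hX u hu t' ht' a' ta'
    obtain ⟨t2, ht2, a2, ta2, w2, hw2, e2⟩ := hca t1 ht1 a1 ta1 t (by simp [ents, ht]) a ta
    refine ⟨t2, ht2, a2, ta2, w2 * (w1 * u'), hmul _ hw2 _ (hmul _ hw1 _ hu'), ?_⟩
    calc a * u * (a' * u') = a * (u * a') * u' := by group
      _ = (a * a1) * w1 * u' := by rw [e1]; group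
      _ = a2 * (w2 * (w1 * u')) := by rw [e2]; group

theorem eq_one_of_fix : ∀ (Ls : List Lev), chainOK Ls = true → ∀ g ∈ U Ls,
    (∀ L ∈ Ls, ∀ x : Fin 12, (x : ℕ) = L.1 → g x = x) → g = 1
  | [], _, g, hg, _ => hg
  | L :: Ls, hc, g, ⟨t, ht, a, ta, u, hu, e⟩, hfix => by
    simp only [chainOK, Bool.and_eq_true, List.all_eq_true, decide_eq_true_eq] at hc
    obtain ⟨⟨⟨⟨⟨-, -⟩, hf⟩, huni⟩, hb⟩, hrest⟩ := hc
    have hub : u ⟨L.1, hb⟩ = ⟨L.1, hb⟩ := by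
      refine U_induct Ls {u | u ⟨L.1, hb⟩ = ⟨L.1, hb⟩} rfl (fun v hv w hw => ?_) (fun s hs c tc => ?_) u hu
      · show v (w ⟨L.1, hb⟩) = _
        rw [show w ⟨L.1, hb⟩ = _ from hw]; exact hv
      · exact Fin.ext ((tc _).trans (beq_iff_eq.mp (hf s hs)))
    have hab := hfix L List.mem_cons_self ⟨L.1, hb⟩ rfl
    rw [e, Equiv.Perm.mul_apply, hub] at hab
    have h1 : t.1.getD L.1 0 = L.1 := by rw [← ta ⟨L.1, hb⟩, hab]
    have h2 := huni t ht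
    rw [Bool.or_eq_true, bne_iff_ne, beq_iff_eq] at h2
    have ha : a = 1 := (h2.resolve_left (not_not.mpr h1) ▸ ta).unique tab_one
    rw [e, ha, one_mul] at hfix ⊢
    exact eq_one_of_fix Ls hrest u hu fun L' hL' => hfix L' (List.mem_cons_of_mem _ hL')

theorem exists_agree : ∀ (Ls : List Lev) (pre : List ℕ), Valid H Ls → surjOK pre Ls = true →
    ∀ π : Equiv.Perm (Fin 12), (∀ x : Fin 12, (x : ℕ) ∈ pre → π x = x) →
    ∃ g ∈ U Ls, (∀ x : Fin 12, (x : ℕ) ∈ pre → g x = x) ∧ ∀ L ∈ Ls, ∀ x : Fin 12, (x : ℕ) = L.1 → g x = π x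
  | [], pre, _, _, π, _ => ⟨1, rfl, fun _ _ => rfl, fun L hL => absurd hL (by simp)⟩
  | L :: Ls, pre, hv, hs, π, hπ => by
    simp only [surjOK, Bool.and_eq_true, decide_eq_true_eq, List.all_eq_true, Bool.or_eq_true,
      List.contains_iff_mem] at hs
    obtain ⟨⟨⟨hb, hsur⟩, hnot⟩, hrest⟩ := hs
    have hnot' : L.1 ∉ pre := fun h => by simp [h] at hnot
    obtain ⟨t, ht, ht1, ht2⟩ : ∃ t ∈ L.2, t.1.getD L.1 0 = (π ⟨L.1, hb⟩ : ℕ) ∧ ∀ j ∈ pre, t.1.getD j 0 = j := by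
      rcases hsur (π ⟨L.1, hb⟩ : ℕ) (List.mem_range.mpr (Fin.is_lt _)) with h | h
      · have h1 : π ⟨L.1, hb⟩ = ⟨L.1, hb⟩ := π.injective (hπ _ h)
        rw [h1] at h
        exact absurd h hnot'
      · split at h
        · exact absurd h (by simp)
        · rename_i t ht
          simp only [Bool.and_eq_true, beq_iff_eq, List.all_eq_true] at h
          exact ⟨t, List.mem_of_getElem? ht, h.1, h.2⟩
    obtain ⟨a, -, ta, -⟩ := hv.head ht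
    have hapre : ∀ x : Fin 12, (x : ℕ) ∈ pre → a x = x := fun x hx => by
      exact Fin.ext ((ta x).trans (ht2 _ hx))
    have hab : a ⟨L.1, hb⟩ = π ⟨L.1, hb⟩ := Fin.ext ((ta _).trans ht1)
    obtain ⟨g, hg, hg1, hg2⟩ := exists_agree Ls (pre ++ [L.1]) hv.tail hrest (a⁻¹ * π) fun x hx => by
      rw [Equiv.Perm.mul_apply, Equiv.Perm.inv_def, Equiv.symm_apply_eq]
      rcases List.mem_append.mp hx with hx | hx
      · rw [hπ x hx, hapre x hx]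
      · rw [List.mem_singleton] at hx
        rw [show x = ⟨L.1, hb⟩ from Fin.ext hx, hab]
    refine ⟨a * g, ⟨t, ht, a, ta, g, hg, rfl⟩, fun x hx => ?_, fun L' hL' x hx => ?_⟩
    · rw [Equiv.Perm.mul_apply, hg1 x (List.mem_append_left _ hx), hapre x hx]
    · rcases List.mem_cons.mp hL' with rfl | hL'
      · rw [Equiv.Perm.mul_apply, hg1 x (List.mem_append_right _ (by simp [hx])),
          show x = ⟨L'.1, hb⟩ from Fin.ext hx, hab]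
      · rw [Equiv.Perm.mul_apply, hg2 L' hL' x hx, ← Equiv.Perm.mul_apply, mul_inv_cancel_left]

/-- A chain is a subgroup. -/
def chainGroup (Ls : List Lev) (hv : Valid H Ls) (hc : chainOK Ls = true) : Subgroup (Equiv.Perm (Fin 12)) where
  carrier := U Ls
  one_mem' := (U_closed Ls hv hc).1
  mul_mem' := fun hg hh => (U_closed Ls hv hc).2 _ hg _ hh
  inv_mem' := fun {g} hg => by
    have hpow : ∀ n : ℕ, g ^ n ∈ U Ls := fun n => by
      induction n with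
      | zero => rw [pow_zero]; exact (U_closed Ls hv hc).1
      | succ n ih => rw [pow_succ]; exact (U_closed Ls hv hc).2 _ ih _ hg
    rw [show g⁻¹ = g ^ (orderOf g - 1) from inv_eq_of_mul_eq_one_right (by
      rw [← pow_succ', Nat.sub_add_cancel (orderOf_pos g), pow_orderOf_eq_one])]
    exact hpow _

theorem chain_checks : chainOK (level0 :: levels) = true ∧ surjOK [] (level0 :: levels) = true ∧
    entsOK (evalProg gens8 prog12) [level0] = true ∧ entsOK (evalProg (gens8.take 7) prog11) levels = true ∧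
    (gens8.all fun l => sift (level0 :: levels) l) = true ∧
    ((gens8.take 7).all fun l => l.getD 2 0 == 2) = true := by
  decide +kernel

/-- An explicit construction of the Mathieu groups of degrees 11 and 12. On the points 0, …, 11 let s = (3 4 5)(6 7 8)(9 10 11), t = (3 6 9)(4 7 10)(5 8 11), u = (4 6 5 9)(7 8 11 10), v = (4 7 5 11)(6 10 9 8), w = (4 10 5 8)(6 11 9 7), x₁ = (0 3)(6 7)(8 10)(9 11), x₂ = (0 1)(6 9)(7 10)(8 11), x₃ = (1 2)(6 11)(7 9)(8 10) (each written as a product of transpositions). Then the group M₁₂ generated by all eight permutations is sharply 5-transitive on the 12 points and has order 95040, and the group M₁₁ generated by the first seven has order 7920 and is the stabilizer of the point 2 in M₁₂. -/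
theorem result
    (s t u v w x₁ x₂ x₃ : Equiv.Perm (Fin 12))
    (hs : s = Equiv.swap (3 : Fin 12) 5 * Equiv.swap (3 : Fin 12) 4 * Equiv.swap (6 : Fin 12) 8 * Equiv.swap (6 : Fin 12) 7 * Equiv.swap (9 : Fin 12) 11 * Equiv.swap (9 : Fin 12) 10) (ht : t = Equiv.swap (3 : Fin 12) 9 * Equiv.swap (3 : Fin 12) 6 * Equiv.swap (4 : Fin 12) 10 * Equiv.swap (4 : Fin 12) 7 * Equiv.swap (5 : Fin 12) 11 * Equiv.swap (5 : Fin 12) 8)
    (hu : u = Equiv.swap (4 : Fin 12) 9 * Equiv.swap (4 : Fin 12) 5 * Equiv.swap (4 : Fin 12) 6 * Equiv.swap (7 : Fin 12) 10 * Equiv.swap (7 : Fin 12) 11 * Equiv.swap (7 : Fin 12) 8) (hv : v = Equiv.swap (4 : Fin 12) 11 * Equiv.swap (4 : Fin 12) 5 * Equiv.swap (4 : Fin 12) 7 * Equiv.swap (6 : Fin 12) 8 * Equiv.swap (6 : Fin 12) 9 * Equiv.swap (6 : Fin 12) 10) (hw : w = Equiv.swap (4 : Fin 12) 8 * Equiv.swap (4 : Fin 12) 5 * Equiv.swap (4 : Fin 12)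 10 * Equiv.swap (6 : Fin 12) 7 * Equiv.swap (6 : Fin 12) 9 * Equiv.swap (6 : Fin 12) 11)
    (hx₁ : x₁ = Equiv.swap (0 : Fin 12) 3 * Equiv.swap (6 : Fin 12) 7 * Equiv.swap (8 : Fin 12) 10 * Equiv.swap (9 : Fin 12) 11) (hx₂ : x₂ = Equiv.swap (0 : Fin 12) 1 * Equiv.swap (6 : Fin 12) 9 * Equiv.swap (7 : Fin 12) 10 * Equiv.swap (8 : Fin 12) 11)
    (hx₃ : x₃ = Equiv.swap (1 : Fin 12) 2 * Equiv.swap (6 : Fin 12) 11 * Equiv.swap (7 : Fin 12) 9 * Equiv.swap (8 : Fin 12) 10)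
    (M₁₂ M₁₁ : Subgroup (Equiv.Perm (Fin 12))) (hM₁₂ : M₁₂ = Subgroup.closure {s, t, u, v, w, x₁, x₂, x₃})
    (hM₁₁ : M₁₁ = Subgroup.closure {s, t, u, v, w, x₁, x₂}) :
    MulAction.IsMultiplyPretransitive M₁₂ (Fin 12) 5 ∧ (∀ y : Fin 5 ↪ Fin 12, MulAction.stabilizer M₁₂ y = ⊥) ∧
    Nat.card M₁₂ = 95040 ∧ Nat.card M₁₁ = 7920 ∧
    M₁₁ = M₁₂ ⊓ MulAction.stabilizer (Equiv.Perm (Fin 12)) (2 : Fin 12) := by
  obtain ⟨hchain, hsurj, he12, he11, hgs, hfix2⟩ := chain_checks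
  have htab : ([s, t, u, v, w, x₁, x₂, x₃] : List _).map (fun g : Equiv.Perm (Fin 12) =>
      (List.finRange 12).map fun x => (g x : ℕ)) = gens8 := by
    subst hs ht hu hv hw hx₁ hx₂ hx₃
    decide +kernel
  have htab' : ∀ g : Equiv.Perm (Fin 12), Tab g ((List.finRange 12).map fun x => (g x : ℕ)) := fun g x => by
    rw [List.getD_eq_getElem _ _ (by simp)]
    simp
  have h12 : ∀ l ∈ gens8, ∃ g ∈ M₁₂, Tab g l := fun l hl => by
    rw [← htab] at hl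
    obtain ⟨g, hg, rfl⟩ := List.mem_map.mp hl
    refine ⟨g, ?_, htab' g⟩
    rw [hM₁₂]
    refine Subgroup.subset_closure ?_
    simpa using hg
  have h11 : ∀ l ∈ gens8.take 7, ∃ g ∈ M₁₁, Tab g l := fun l hl => by
    rw [← htab, ← List.map_take] at hl
    obtain ⟨g, hg, rfl⟩ := List.mem_map.mp hl
    refine ⟨g, ?_, htab' g⟩
    rw [hM₁₁]
    refine Subgroup.subset_closure ?_
    simpa using hg
  have hsub : M₁₁ ≤ M₁₂ := by
    rw [hM₁₁, hM₁₂]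
    exact Subgroup.closure_mono fun g => by simp; tauto
  have v11 : Valid M₁₁ levels := valid_of h11 he11
  have v12 : Valid M₁₂ (level0 :: levels) := fun q hq => by
    rcases List.mem_append.mp (show q ∈ level0.2 ++ ents levels by simpa [ents] using hq) with hq | hq
    · exact valid_of h12 he12 q (by simpa [ents] using hq)
    · obtain ⟨a, ha, h⟩ := v11 q hq
      exact ⟨a, hsub ha, h⟩
  have hM : ∀ g, g ∈ M₁₂ ↔ g ∈ U (level0 :: levels) := fun g => by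
    refine ⟨fun hg => ?_, U_subset _ v12 g⟩
    rw [hM₁₂] at hg
    refine (Subgroup.closure_le (chainGroup _ v12 hchain)).mpr (fun a ha => ?_) hg
    have hmem : ((List.finRange 12).map fun x => (a x : ℕ)) ∈ gens8 := by
      rw [← htab]
      refine List.mem_map.mpr ⟨a, ?_, rfl⟩
      simpa using ha
    exact sift_sound _ v12 a _ (htab' a) (List.all_eq_true.mp hgs _ hmem)
  have hdrop : M₁₁ = M₁₂ ⊓ MulAction.stabilizer (Equiv.Perm (Fin 12)) (2 : Fin 12) := by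
    refine le_antisymm (le_inf hsub ?_) fun g hg => ?_
    · rw [hM₁₁, Subgroup.closure_le]
      intro a ha
      have hmem : ((List.finRange 12).map fun x => (a x : ℕ)) ∈ gens8.take 7 := by
        rw [← htab, ← List.map_take]
        refine List.mem_map.mpr ⟨a, ?_, rfl⟩
        simpa using ha
      exact Fin.ext ((htab' a 2).trans (beq_iff_eq.mp (List.all_eq_true.mp hfix2 _ hmem)))
    · obtain ⟨hg1, hg2 : g 2 = 2⟩ := hg
      obtain ⟨q, hq, a, ta, k, hk, rfl⟩ := (hM g).mp hg1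
      have hc := hchain
      simp only [chainOK, Bool.and_eq_true, List.all_eq_true] at hc
      obtain ⟨⟨⟨⟨-, hf⟩, huni⟩, -⟩, -⟩ := hc
      have hk2 : k 2 = 2 := U_induct levels {k | k 2 = 2} rfl (fun a ha b hb => by
          show a (b 2) = 2
          rw [show b 2 = 2 from hb]; exact ha)
        (fun r hr c tc => Fin.ext ((tc 2).trans (beq_iff_eq.mp (hf r hr)))) k hk
      rw [Equiv.Perm.mul_apply, hk2] at hg2
      have h1 : q.1.getD 2 0 = 2 := by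
        have := ta 2
        rw [hg2] at this
        exact this.symm
      have h2 := huni q hq
      rw [Bool.or_eq_true, bne_iff_ne, beq_iff_eq] at h2
      have hidq : q.1 = idL := h2.resolve_left (not_not.mpr h1)
      rw [hidq] at ta
      rw [ta.unique tab_one, one_mul]
      exact U_subset levels v11 k hk
  let e0 : Fin 5 ↪ Fin 12 := ⟨![2, 0, 1, 3, 4], by decide⟩
  have hbase : ∀ L ∈ level0 :: levels, ∃ i : Fin 5, (e0 i : ℕ) = L.1 := by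
    decide +kernel
  have hbase' : ∀ i : Fin 5, ∃ L ∈ level0 :: levels, (e0 i : ℕ) = L.1 := by
    decide +kernel
  have hfree : ∀ g ∈ M₁₂, (∀ i, g (e0 i) = e0 i) → g = 1 := fun g hg h =>
    eq_one_of_fix _ hchain g ((hM g).mp hg) fun L hL x hx => by
      obtain ⟨i, hi⟩ := hbase L hL
      rw [show x = e0 i from Fin.ext (hx.trans hi.symm)]
      exact h i
  have htrans : ∀ y : Fin 5 ↪ Fin 12, ∃ g : M₁₂, g • e0 = y := fun y => by
    obtain ⟨π, hπ⟩ := (Equiv.Perm.isMultiplyPretransitive (Fin 12) 5).exists_smul_eq e0 y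
    obtain ⟨g, hg, -, hg2⟩ := exists_agree (H := M₁₂) _ [] v12 hsurj π (fun x hx => by simp at hx)
    refine ⟨⟨g, (hM g).mpr hg⟩, Function.Embedding.ext fun i => ?_⟩
    obtain ⟨L, hL, hi⟩ := hbase' i
    rw [← hπ]
    exact hg2 L hL (e0 i) hi
  have hsharp : ∀ y : Fin 5 ↪ Fin 12, MulAction.stabilizer M₁₂ y = ⊥ := fun y => by
    obtain ⟨k, hk⟩ := htrans y
    refine eq_bot_iff.mpr fun g hg => ?_
    have hgi : ∀ i, (g : Equiv.Perm (Fin 12)) (k.1 (e0 i)) = k.1 (e0 i) := fun i => by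
      have h := congrArg (fun e : Fin 5 ↪ Fin 12 => e i) (MulAction.mem_stabilizer_iff.mp hg)
      rw [← hk] at h
      exact h
    have h1 : k⁻¹ * (g * k) = 1 := Subtype.ext (hfree _ (k⁻¹ * (g * k)).2 fun i => by
      show (k.1⁻¹ * (g.1 * k.1)) (e0 i) = e0 i
      rw [Equiv.Perm.mul_apply, Equiv.Perm.mul_apply, hgi, Equiv.Perm.inv_def, Equiv.symm_apply_apply])
    rw [inv_mul_eq_one] at h1
    rw [Subgroup.mem_bot]
    exact mul_eq_right.mp h1.symm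
  have hpre : MulAction.IsMultiplyPretransitive M₁₂ (Fin 12) 5 := ⟨fun y z => by
    obtain ⟨a, ha⟩ := htrans y
    obtain ⟨b, hb⟩ := htrans z
    refine ⟨b * a⁻¹, Function.Embedding.ext fun i => ?_⟩
    rw [← ha, ← hb]
    show (b.1 * a.1⁻¹) (a.1 (e0 i)) = b.1 (e0 i)
    rw [Equiv.Perm.mul_apply, Equiv.Perm.inv_def, Equiv.symm_apply_apply]⟩
  have hcard : Nat.card M₁₂ = 95040 := by
    have hbij : Function.Bijective fun g : M₁₂ => g • e0 := by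
      refine ⟨fun g k h => ?_, htrans⟩
      have h1 : k⁻¹ * g ∈ MulAction.stabilizer M₁₂ e0 := by
        rw [MulAction.mem_stabilizer_iff, mul_smul, inv_smul_eq_iff]
        exact h
      rw [hsharp, Subgroup.mem_bot, inv_mul_eq_one] at h1
      exact h1.symm
    rw [Nat.card_eq_of_bijective _ hbij, Nat.card_eq_fintype_card, Fintype.card_embedding_eq,
      Fintype.card_fin, Fintype.card_fin]
    rfl
  refine ⟨hpre, hsharp, hcard, ?_, hdrop⟩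
  haveI : MulAction.IsPretransitive M₁₂ (Fin 12) := ⟨fun a b => by
    obtain ⟨π, hπ⟩ : ∃ π : Equiv.Perm (Fin 12), π a = b := ⟨Equiv.swap a b, Equiv.swap_apply_left a b⟩
    obtain ⟨y, hy⟩ : ∃ y : Fin 5 ↪ Fin 12, y 0 = a :=
      ⟨e0.trans (Equiv.swap (e0 0) a).toEmbedding, Equiv.swap_apply_left (e0 0) a⟩
    obtain ⟨g, hg⟩ := hpre.exists_smul_eq y (y.trans π.toEmbedding)
    refine ⟨g, ?_⟩
    have := congrArg (fun e : Fin 5 ↪ Fin 12 => e 0) hg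
    simpa [hy, hπ] using this⟩
  have hiff : ∀ g, g ∈ M₁₁ ↔ g ∈ M₁₂ ∧ g (2 : Fin 12) = 2 := fun g => by
    rw [hdrop]
    exact Iff.rfl
  have e : M₁₁ ≃ MulAction.stabilizer M₁₂ (2 : Fin 12) :=
    { toFun := fun g => ⟨⟨g.1, ((hiff g.1).mp g.2).1⟩, ((hiff g.1).mp g.2).2⟩
      invFun := fun g => ⟨g.1.1, (hiff g.1.1).mpr ⟨g.1.2, g.2⟩⟩
      left_inv := fun g => rfl
      right_inv := fun g => rfl }
  have h := (MulAction.stabilizer M₁₂ (2 : Fin 12)).card_mul_index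
  rw [MulAction.index_stabilizer_of_transitive, Nat.card_fin, hcard] at h
  rw [Nat.card_congr e]
  omega

end Cfsg.Agent.S3362
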