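import Cfsg.Statements.S3366
import Cfsg.Agent.TwoFusionB.Sp4Stab


set_option autoImplicit false
open Cfsg

namespace Cfsg.Agent.S3366

open Cfsg.Agent.Symplectic Cfsg.Agent.TwoFusionB
open scoped commutatorElement Pointwise

local notation "M2" => Matrix (Fin 2) (Fin 2) (ZMod 3)
local notation "SL23" => Matrix.SpecialLinearGroup (Fin 2) (ZMod 3)

theorem exists_matrix_form (M : M2) :
    ∃ a b c d : ZMod 3, M = !![a, b; c, d] :=
  ⟨M 0 0, M 0 1, M 1 0, M 1 1, Matrix.eta_fin_two M⟩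

theorem central_involution_fact : ∀ a b c d p q r s : ZMod 3,
    !![a, b; c, d] * !![a, b; c, d] = (1 : M2) → !![a, b; c, d] * !![p, q; r, s] = !![p, q; r, s] * !![a, b; c, d] →
    !![a, b; c, d] ≠ (1 : M2) → !![a, b; c, d] ≠ -1 → p * s - q * r ≠ 0 →
    !![p, q; r, s] * !![p, q; r, s] = (1 : M2) := by
  decide +kernel

theorem sl_order_four : ∃ g : SL23, (g * g : SL23) = -1 := by decide +kernel

theorem sl_commutator_fact : ∀ g : SL23, g ≠ 1 → ∃ h : SL23,
    ⁅g, h⁆ = -1 ∨ ⁅g, h⁆ * ⁅g, h⁆ = -1 ∨ g = -1 := by decide +kernel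

theorem sl_cube_fact : ∀ g : SL23, ∃ a b : SL23, a * a * a = 1 ∧ b * b * b = 1 ∧
    ((a * b)⁻¹ * g) * ((a * b)⁻¹ * g) * ((a * b)⁻¹ * g) = 1 := by decide +kernel

theorem zmod3_cube : ∀ d : ZMod 3, d * d * d = 1 → d = 1 := by decide

theorem zmod3_neg : ∀ d : ZMod 3, d = -d → d = 0 := by decide

theorem sl_eight : ∀ g : SL23,
    (g * g * g * g) * (g * g * g * g) = 1 → g * g * g * g = 1 := by decide +kernel

theorem sl_two_three : ∀ g : SL23, g * g * g * g = 1 → g * g * g = 1 → g = 1 := by decide +kernel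

theorem zmod3_double : ∀ d : ZMod 3, -d + -d = d := by decide

theorem zmod3_two : ∀ d : ZMod 3, d * 2 = -d := by decide

theorem zmod3_units : ∀ b : ZMod 3, b = 0 ∨ b = 1 ∨ b = -1 := by decide

theorem four_mul_eq {M : Type*} [Monoid M] (y : M) : y * y * y * y = y ^ 4 := by
  rw [pow_succ, pow_succ, pow_two]

theorem m2_neg_ne_one : (-1 : M2) ≠ 1 := by decide

theorem sl_four_torsion : (Finset.univ.filter fun g : SL23 => g * g * g * g = 1).card = 8 := by
  decide +kernel

theorem sl_card : Fintype.card SL23 = 24 := by decide +kernel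

section

variable {X : Type*} [Group X] [Finite X]

/-- The exponent of an element of `⟨z⟩` of order three. -/
noncomputable def ep (z x : X) : ZMod 3 := by
  classical
  exact if x = 1 then 0 else if x = z then 1 else 2

theorem ep_pow {z : X} (hz : orderOf z = 3) (k : ℕ) : ep z (z ^ k) = (k : ZMod 3) := by
  have h3 : k % 3 < 3 := Nat.mod_lt _ (by norm_num)
  rw [← pow_mod_orderOf, hz, ← ZMod.natCast_mod k 3]
  have hz1 : z ≠ 1 := fun h => by rw [h, orderOf_one] at hz; norm_num at hz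
  have hz21 : z ^ 2 ≠ 1 := fun h => by
    have := orderOf_dvd_of_pow_eq_one h
    rw [hz] at this; norm_num at this
  have hz2z : z ^ 2 ≠ z := fun h => hz1 (by rwa [pow_two, mul_eq_left] at h)
  unfold ep
  interval_cases k % 3
  · simp
  · simp [hz1]
  · rw [if_neg hz21, if_neg hz2z]; norm_num

theorem ep_mul {z x y : X} (hz : orderOf z = 3) (hx : x ∈ Subgroup.zpowers z)
    (hy : y ∈ Subgroup.zpowers z) : ep z (x * y) = ep z x + ep z y := by
  obtain ⟨i, rfl⟩ := (mem_powers_iff_mem_zpowers.mpr hx : x ∈ Submonoid.powers z)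
  obtain ⟨j, rfl⟩ := (mem_powers_iff_mem_zpowers.mpr hy : y ∈ Submonoid.powers z)
  simp only []
  rw [← pow_add, ep_pow hz, ep_pow hz, ep_pow hz, Nat.cast_add]

theorem ep_inj {z x : X} (hz : orderOf z = 3) (hx : x ∈ Subgroup.zpowers z) (h : ep z x = 0) :
    x = 1 := by
  obtain ⟨i, rfl⟩ := (mem_powers_iff_mem_zpowers.mpr hx : x ∈ Submonoid.powers z)
  simp only [] at h ⊢
  rw [ep_pow hz, ZMod.natCast_eq_zero_iff] at h
  obtain ⟨l, rfl⟩ := h
  rw [pow_mul, ← hz, pow_orderOf_eq_one, one_pow]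

/-- The abstract group embeds in the stabiliser of a vector of `Sp₄(3)`. -/
theorem exists_embedding (hR : Cfsg.IsExtraspecial 3 (Cfsg.pCore 3 X))
    (hRcard : Nat.card (Cfsg.pCore 3 X) = 27)
    (hRexp : ∀ r ∈ Cfsg.pCore 3 X, r ^ 3 = 1)
    (e : X ⧸ Cfsg.pCore 3 X ≃* SL23)
    (hO2 : Cfsg.pCore 2 X = ⊥)
    (hE : ∃ E : Subgroup X, IsMulCommutative E ∧ (∀ a ∈ E, a ^ 3 = 1) ∧ Nat.card E = 27)
    (F : Type*) [Field F] (ι : ZMod 3 →+* F) :
    ∃ f : X →* Sp 2 F, Function.Injective f ∧ ∀ x, f x • (eI 0 : Vec 2 F) = eI 0 := by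
  classical
  have : Fact (Nat.Prime 3) := ⟨Nat.prime_three⟩
  have : Fact (Nat.Prime 2) := ⟨Nat.prime_two⟩
  set R := Cfsg.pCore 3 X with hRdef
  have hcenter := hR.2
  have hcomm' : commutator ↥R = Subgroup.center ↥R := hR.1.2.2
  set Z := (Subgroup.center ↥R).map R.subtype with hZdef
  have hZcard : Nat.card ↥Z = 3 := by
    rw [hZdef, Subgroup.card_map_of_injective R.subtype_injective, hcenter]
  have hZle : Z ≤ R := Subgroup.map_subtype_le _
  have hZmem : ∀ {x}, x ∈ Z ↔ x ∈ R ∧ ∀ r ∈ R, r * x = x * r := by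
    intro x
    constructor
    · rintro ⟨⟨y, hy⟩, hyc, rfl⟩
      exact ⟨hy, fun r hr => congrArg Subtype.val (Subgroup.mem_center_iff.mp hyc ⟨r, hr⟩)⟩
    · rintro ⟨hx, hc⟩
      exact ⟨⟨x, hx⟩, Subgroup.mem_center_iff.mpr fun r => Subtype.ext (hc r r.2), rfl⟩
  have hcm : ∀ {r s}, r ∈ R → s ∈ R → ⁅r, s⁆ ∈ Z := by
    intro r s hr hs
    refine ⟨⁅(⟨r, hr⟩ : ↥R), ⟨s, hs⟩⁆, ?_, rfl⟩
    rw [← hcomm']
    exact Subgroup.commutator_mem_commutator (Subgroup.mem_top _) (Subgroup.mem_top _)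
  obtain ⟨u, hu, v, hv, huv⟩ : ∃ u ∈ R, ∃ v ∈ R, u * v ≠ v * u := by
    by_contra hall
    push_neg at hall
    have h : Subgroup.center ↥R = ⊤ := eq_top_iff.mpr fun a _ =>
      Subgroup.mem_center_iff.mpr fun b => Subtype.ext (hall _ b.2 _ a.2)
    rw [h, Subgroup.card_top, hRcard] at hcenter
    norm_num at hcenter
  set z := ⁅u, v⁆ with hzdef
  have hzZ : z ∈ Z := hcm hu hv
  have hz1 : z ≠ 1 := fun h => huv (commutatorElement_eq_one_iff_mul_comm.mp h)
  have hzo : orderOf z = 3 := orderOf_eq_prime (hRexp _ (hZle hzZ)) hz1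
  have hZeq : Z = Subgroup.zpowers z :=
    (Subgroup.eq_of_le_of_card_ge (Subgroup.zpowers_le.mpr hzZ)
      (by rw [hZcard, Nat.card_zpowers, hzo])).symm
  have hZc : ∀ {x r}, x ∈ Z → r ∈ R → r * x = x * r := fun hx hr => (hZmem.mp hx).2 _ hr
  let b : X → X → ZMod 3 := fun r s => ep z ⁅r, s⁆
  have hb_mul_left : ∀ {r s q}, r ∈ R → s ∈ R → q ∈ R → b (r * s) q = b r q + b s q := by
    intro r s q hr hs hq
    have h1 : ⁅r * s, q⁆ = r * ⁅s, q⁆ * r⁻¹ * ⁅r, q⁆ := by
      simp only [commutatorElement_def]; group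
    rw [hZc (hcm hs hq) hr, mul_inv_cancel_right] at h1
    show ep z ⁅r * s, q⁆ = _
    rw [h1, ep_mul hzo (hZeq ▸ hcm hs hq) (hZeq ▸ hcm hr hq), add_comm]
  have hb_swap : ∀ {r s}, r ∈ R → s ∈ R → b s r = -b r s := by
    intro r s hr hs
    refine eq_neg_of_add_eq_zero_left ?_
    show ep z ⁅s, r⁆ + ep z ⁅r, s⁆ = 0
    rw [← ep_mul hzo (hZeq ▸ hcm hs hr) (hZeq ▸ hcm hr hs), ← commutatorElement_inv r s,
      inv_mul_cancel, ← pow_zero z, ep_pow hzo, Nat.cast_zero]
  have hb_mul_right : ∀ {r s q}, r ∈ R → s ∈ R → q ∈ R → b q (r * s) = b q r + b q s := by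
    intro r s q hr hs hq
    rw [hb_swap (mul_mem hr hs) hq, hb_mul_left hr hs hq, hb_swap hq hr, hb_swap hq hs]
    ring
  have hb_Z : ∀ {r x}, r ∈ R → x ∈ Z → b r x = 0 ∧ b x r = 0 := by
    intro r x hr hx
    have h : ⁅r, x⁆ = 1 := commutatorElement_eq_one_iff_mul_comm.mpr (hZc hx hr)
    have h0 : b r x = 0 := by
      show ep z ⁅r, x⁆ = 0
      rw [h, ← pow_zero z, ep_pow hzo, Nat.cast_zero]
    exact ⟨h0, by rw [hb_swap hr (hZle hx), h0, neg_zero]⟩
  have hb_self : ∀ r, b r r = 0 := fun r => by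
    show ep z ⁅r, r⁆ = 0
    rw [commutatorElement_self, ← pow_zero z, ep_pow hzo, Nat.cast_zero]
  have hbuv : b u v = 1 := by
    show ep z z = 1
    conv_lhs => arg 2; rw [← pow_one z]
    rw [ep_pow hzo, Nat.cast_one]
  let co : X → (Fin 2 → ZMod 3) := fun r => ![b r v, b u r]
  have hco_mul : ∀ {r s}, r ∈ R → s ∈ R → co (r * s) = co r + co s := by
    intro r s hr hs
    funext i; fin_cases i
    · exact hb_mul_left hr hs hv
    · exact hb_mul_right hr hs hu
  have hco_u : co u = ![1, 0] := by simp [co, hbuv, hb_self]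
  have hco_v : co v = ![0, 1] := by simp [co, hbuv, hb_self]
  let coHom : ↥R →* Multiplicative (Fin 2 → ZMod 3) :=
    MonoidHom.mk' (fun r => Multiplicative.ofAdd (co r.1))
      (fun r s => congrArg Multiplicative.ofAdd (hco_mul r.2 s.2))
  have hco_one : co 1 = 0 := by
    have := coHom.map_one
    exact Multiplicative.ofAdd.injective this
  have hco_surj : Function.Surjective coHom := by
    intro w
    have e1 : ∀ (n : ℕ) {r}, r ∈ R → co (r ^ n) = n • co r := by
      intro n r hr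
      induction n with
      | zero => simpa using hco_one
      | succ k ih => rw [pow_succ, hco_mul (pow_mem hr k) hr, ih, succ_nsmul]
    refine ⟨⟨u ^ (w.toAdd 0).val * v ^ (w.toAdd 1).val, mul_mem (pow_mem hu _) (pow_mem hv _)⟩, ?_⟩
    apply Multiplicative.toAdd.injective
    show co _ = w.toAdd
    rw [hco_mul (pow_mem hu _) (pow_mem hv _), e1 _ hu, e1 _ hv, hco_u, hco_v]
    funext i; fin_cases i <;> simp
  have hco_ker : ∀ {r}, r ∈ R → co r = 0 → r ∈ Z := by
    have hker : Subgroup.center ↥R ≤ coHom.ker := fun r hr => by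
      have hrZ : r.1 ∈ Z := ⟨r, hr, rfl⟩
      show Multiplicative.ofAdd (co r.1) = 1
      have : co r.1 = 0 := by
        funext i; fin_cases i
        · exact (hb_Z hv hrZ).2
        · exact (hb_Z hu hrZ).1
      rw [this]; rfl
    have hcard : Nat.card ↥coHom.ker = 3 := by
      have h := coHom.ker.card_mul_index
      rw [Subgroup.index_ker, MonoidHom.range_eq_top.mpr hco_surj, Subgroup.card_top, hRcard] at h
      have h9 : Nat.card (Multiplicative (Fin 2 → ZMod 3)) = 9 := by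
        rw [Nat.card_congr Multiplicative.toAdd, Nat.card_fun, Nat.card_zmod, Nat.card_fin]; rfl
      rw [h9] at h
      omega
    have heq := Subgroup.eq_of_le_of_card_ge hker (by rw [hcard, hcenter])
    intro r hr h0
    refine ⟨⟨r, hr⟩, ?_, rfl⟩
    rw [heq]
    show Multiplicative.ofAdd (co r) = 1
    rw [h0]; rfl
  have hdecomp : ∀ {r}, r ∈ R → ∃ i j : ℕ, ∃ ζ ∈ Z, r = u ^ i * v ^ j * ζ := by
    intro r hr
    set i := (co r 0).val
    set j := (co r 1).val
    have hm : u ^ i * v ^ j ∈ R := mul_mem (pow_mem hu _) (pow_mem hv _)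
    refine ⟨i, j, (u ^ i * v ^ j)⁻¹ * r, hco_ker (mul_mem (inv_mem hm) hr) ?_, (mul_inv_cancel_left _ _).symm⟩
    have e1 : ∀ (n : ℕ) {r}, r ∈ R → co (r ^ n) = n • co r := by
      intro n r hr
      induction n with
      | zero => simpa using hco_one
      | succ k ih => rw [pow_succ, hco_mul (pow_mem hr k) hr, ih, succ_nsmul]
    have h := hco_mul hm (mul_mem (inv_mem hm) hr)
    rw [mul_inv_cancel_left, hco_mul (pow_mem hu _) (pow_mem hv _), e1 _ hu, e1 _ hv, hco_u,
      hco_v] at h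
    have hij : i • ![(1 : ZMod 3), 0] + j • ![0, 1] = co r := by
      funext k; fin_cases k <;> simp [i, j]
    rw [hij] at h
    exact left_eq_add.mp h
  have hb_co : ∀ {r s}, r ∈ R → s ∈ R → b r s = Sp4Stab.dt (co r) (co s) := by
    intro r s hr hs
    obtain ⟨i, j, ζ, hζ, rfl⟩ := hdecomp hs
    have e1 : ∀ (n : ℕ) {q}, q ∈ R → b r (q ^ n) = n • b r q ∧ co (q ^ n) = n • co q := by
      intro n q hq
      induction n with
      | zero =>
        refine ⟨?_, by simpa using hco_one⟩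
        simpa using (hb_Z hr (one_mem Z)).1
      | succ k ih =>
        rw [pow_succ, hb_mul_right (pow_mem hq k) hq hr, hco_mul (pow_mem hq k) hq, ih.1, ih.2,
          succ_nsmul, succ_nsmul]
        exact ⟨rfl, rfl⟩
    have hζco : co ζ = 0 := by
      funext k; fin_cases k
      · exact (hb_Z hv hζ).2
      · exact (hb_Z hu hζ).1
    rw [hb_mul_right (mul_mem (pow_mem hu _) (pow_mem hv _)) (hZle hζ) hr, (hb_Z hr hζ).1,
      hb_mul_right (pow_mem hu _) (pow_mem hv _) hr, (e1 i hu).1, (e1 j hv).1,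
      hco_mul (mul_mem (pow_mem hu _) (pow_mem hv _)) (hZle hζ), hζco,
      hco_mul (pow_mem hu _) (pow_mem hv _), (e1 i hu).2, (e1 j hv).2, hco_u, hco_v,
      hb_swap hu hr]
    simp [Sp4Stab.dt, co]
    ring
  -- the action on `R/Z`
  have hRn : R.Normal := by rw [hRdef]; infer_instance
  have hconjR : ∀ (x : X) {r}, r ∈ R → x * r * x⁻¹ ∈ R := fun x r hr => hRn.conj_mem r hr x
  have hconjZ : ∀ (x : X) {r}, r ∈ Z → x * r * x⁻¹ ∈ Z := by
    intro x r hr
    refine hZmem.mpr ⟨hconjR x (hZle hr), fun s hs => ?_⟩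
    have := hZc hr (show x⁻¹ * s * x ∈ R by simpa using hconjR x⁻¹ hs)
    calc s * (x * r * x⁻¹) = x * ((x⁻¹ * s * x) * r) * x⁻¹ := by group
      _ = x * (r * (x⁻¹ * s * x)) * x⁻¹ := by rw [this]
      _ = x * r * x⁻¹ * s := by group
  let ψ : X → M2 := fun x => !![co (x * u * x⁻¹) 0, co (x * v * x⁻¹) 0;
    co (x * u * x⁻¹) 1, co (x * v * x⁻¹) 1]
  have hcoZ : ∀ {ζ}, ζ ∈ Z → co ζ = 0 := by
    intro ζ hζ; funext k; fin_cases k
    · exact (hb_Z hv hζ).2
    · exact (hb_Z hu hζ).1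
  have hψ : ∀ x {r}, r ∈ R → co (x * r * x⁻¹) = (ψ x).mulVec (co r) := by
    intro x r hr
    obtain ⟨i, j, ζ, hζ, rfl⟩ := hdecomp hr
    have e1 : ∀ (n : ℕ) {q}, q ∈ R → co (q ^ n) = n • co q := by
      intro n q hq
      induction n with
      | zero => simpa using hco_one
      | succ k ih => rw [pow_succ, hco_mul (pow_mem hq k) hq, ih, succ_nsmul]
    have e2 : x * (u ^ i * v ^ j * ζ) * x⁻¹
        = (x * u * x⁻¹) ^ i * (x * v * x⁻¹) ^ j * (x * ζ * x⁻¹) := by
      rw [conj_pow, conj_pow]; group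
    rw [e2, hco_mul (mul_mem (pow_mem (hconjR x hu) _) (pow_mem (hconjR x hv) _))
        (hconjR x (hZle hζ)), hco_mul (pow_mem (hconjR x hu) _) (pow_mem (hconjR x hv) _),
      e1 _ (hconjR x hu), e1 _ (hconjR x hv), hcoZ (hconjZ x hζ),
      hco_mul (mul_mem (pow_mem hu _) (pow_mem hv _)) (hZle hζ), hcoZ hζ,
      hco_mul (pow_mem hu _) (pow_mem hv _), e1 _ hu, e1 _ hv, hco_u, hco_v]
    funext k
    fin_cases k <;> simp [ψ, Matrix.mulVec, dotProduct, Fin.sum_univ_two] <;> ring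
  have hψext : ∀ {M N : M2}, M.mulVec ![1, 0] = N.mulVec ![1, 0] →
      M.mulVec ![0, 1] = N.mulVec ![0, 1] → M = N := by
    intro M N h1 h2
    ext k l
    fin_cases l
    · simpa [Matrix.mulVec, dotProduct, Fin.sum_univ_two] using congrFun h1 k
    · simpa [Matrix.mulVec, dotProduct, Fin.sum_univ_two] using congrFun h2 k
  have hψmul : ∀ x y, ψ (x * y) = ψ x * ψ y := by
    intro x y
    have key : ∀ {r}, r ∈ R → (ψ (x * y)).mulVec (co r) = (ψ x * ψ y).mulVec (co r) := by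
      intro r hr
      rw [← hψ _ hr, ← Matrix.mulVec_mulVec, ← hψ _ hr, ← hψ _ (hconjR y hr)]
      congr 1; group
    exact hψext (hco_u ▸ key hu) (hco_v ▸ key hv)
  have hψR : ∀ {r}, r ∈ R → ψ r = 1 := by
    intro r hr
    have key : ∀ {s}, s ∈ R → (ψ r).mulVec (co s) = (1 : M2).mulVec (co s) := by
      intro s hs
      rw [← hψ _ hs, Matrix.one_mulVec, show r * s * r⁻¹ = ⁅r, s⁆ * s by
        rw [commutatorElement_def]; group, hco_mul (hZle (hcm hr hs)) hs, hcoZ (hcm hr hs),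
        zero_add]
    exact hψext (hco_u ▸ key hu) (hco_v ▸ key hv)
  let ψH : X →* M2 := { toFun := ψ, map_one' := hψR (one_mem R), map_mul' := hψmul }
  have hψunit : ∀ x, (ψ x).det ≠ 0 := by
    intro x h
    have h1 : ψ x * ψ x⁻¹ = 1 := by rw [← hψmul, mul_inv_cancel, hψR (one_mem R)]
    have h2 := congrArg Matrix.det h1
    rw [Matrix.det_mul, h, zero_mul, Matrix.det_one] at h2
    exact zero_ne_one h2
  let π : X →* SL23 := e.toMonoidHom.comp (QuotientGroup.mk' R)
  have hπker : ∀ {x}, π x = 1 ↔ x ∈ R := by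
    intro x
    show e (QuotientGroup.mk' R x) = 1 ↔ _
    rw [MulEquiv.map_eq_one_iff, QuotientGroup.mk'_apply, QuotientGroup.eq_one_iff]
  have hπs : Function.Surjective π := e.surjective.comp (QuotientGroup.mk'_surjective R)
  have hψπ : ∀ {x y}, π x = π y → ψ x = ψ y := by
    intro x y h
    have h1 : π (y⁻¹ * x) = 1 := by rw [map_mul, map_inv, h, inv_mul_cancel]
    rw [show x = y * (y⁻¹ * x) by group, hψmul, hψR (hπker.mp h1), mul_one]
  have hdet : ∀ x, (ψ x).det = 1 := by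
    have hcube : ∀ x, π x * π x * π x = 1 → (ψ x).det = 1 := by
      intro x h
      have h1 : π (x * x * x) = 1 := by rw [map_mul, map_mul, h]
      have h2 := congrArg Matrix.det (hψR (hπker.mp h1))
      rw [hψmul, hψmul, Matrix.det_mul, Matrix.det_mul, Matrix.det_one] at h2
      exact zmod3_cube _ h2
    intro x
    obtain ⟨a, b', ha, hb', hc⟩ := sl_cube_fact (π x)
    obtain ⟨a₀, rfl⟩ := hπs a
    obtain ⟨b₀, rfl⟩ := hπs b'
    have h1 := hcube _ ha
    have h2 := hcube _ hb'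
    have h3 := hcube ((a₀ * b₀)⁻¹ * x) (by rw [map_mul, map_inv, map_mul]; exact hc)
    rw [show x = a₀ * b₀ * ((a₀ * b₀)⁻¹ * x) by group, hψmul, hψmul, Matrix.det_mul,
      Matrix.det_mul, h1, h2, h3, mul_one, mul_one]
  have hepconj : ∀ x {ζ}, ζ ∈ Z → ep z (x * ζ * x⁻¹) = ep z ζ := by
    intro x ζ hζ
    have hxz : x * z * x⁻¹ = z := by
      have h := hb_co (hconjR x hu) (hconjR x hv)
      rw [hψ x hu, hψ x hv, Sp4Stab.dt_mulVec, hdet, one_mul, ← hb_co hu hv, hbuv] at h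
      have hmem : ⁅x * u * x⁻¹, x * v * x⁻¹⁆ * z⁻¹ ∈ Subgroup.zpowers z :=
        mul_mem (hZeq ▸ hcm (hconjR x hu) (hconjR x hv)) (inv_mem (Subgroup.mem_zpowers z))
      have h0 := ep_inj hzo hmem (by
        rw [ep_mul hzo (hZeq ▸ hcm (hconjR x hu) (hconjR x hv)) (inv_mem (Subgroup.mem_zpowers z)),
          show ep z ⁅x * u * x⁻¹, x * v * x⁻¹⁆ = 1 from h, show z⁻¹ = z ^ 2 from
          inv_eq_of_mul_eq_one_right (by
            rw [← pow_succ']
            exact (congrArg (z ^ ·) hzo.symm).trans (pow_orderOf_eq_one z)),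
          ep_pow hzo]
        rfl)
      rw [mul_inv_eq_one, ← conjugate_commutatorElement] at h0
      exact h0
    rw [hZeq] at hζ
    obtain ⟨i, rfl⟩ := (mem_powers_iff_mem_zpowers.mpr hζ : ζ ∈ Submonoid.powers z)
    simp only []
    rw [← conj_pow, hxz]
  have hxzc : ∀ x {ζ}, ζ ∈ Z → x * ζ = ζ * x := by
    intro x ζ hζ
    have h1 : x * ζ * x⁻¹ * ζ⁻¹ ∈ Subgroup.zpowers z :=
      hZeq ▸ mul_mem (hconjZ x hζ) (inv_mem hζ)
    have h0 := ep_inj hzo h1 (by
      have h2 := ep_mul hzo h1 (hZeq ▸ hζ)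
      rw [inv_mul_cancel_right, hepconj x hζ] at h2
      exact right_eq_add.mp h2)
    rwa [mul_inv_eq_one, mul_inv_eq_iff_eq_mul] at h0
  -- an involution inverting `R/Z`
  obtain ⟨t, ht2, htπ⟩ : ∃ t : X, t * t = 1 ∧ π t = -1 := by
    obtain ⟨t₀, ht₀⟩ := hπs (-1)
    have hsq : t₀ * t₀ ∈ R := hπker.mp (by rw [map_mul, ht₀]; decide +kernel)
    refine ⟨t₀ ^ 27, ?_, ?_⟩
    · rw [← pow_add, show 27 + 27 = 2 * 27 by norm_num, pow_mul, pow_two,
        show (27 : ℕ) = 3 * 9 by norm_num, pow_mul, hRexp _ hsq, one_pow]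
    · rw [map_pow, ht₀]; decide +kernel
  have htinv : t⁻¹ = t := inv_eq_of_mul_eq_one_left ht2
  have htcomm : ∀ x, ψ t * ψ x = ψ x * ψ t := by
    intro x
    rw [← hψmul, ← hψmul]
    exact hψπ (by rw [map_mul, map_mul, htπ]; exact (by decide +kernel : ∀ g : SL23, -1 * g = g * -1) _)
  have htsq : ψ t * ψ t = 1 := by rw [← hψmul, ht2, hψR (one_mem R)]
  have htne : ψ t ≠ 1 := by
    intro h
    have hfix : ∀ r ∈ R, t * r = r * t := by
      intro r hr
      have h1 := hψ t hr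
      rw [h, Matrix.one_mulVec] at h1
      set ζ := r⁻¹ * (t * r * t⁻¹) with hζ
      have hζR : ζ ∈ R := mul_mem (inv_mem hr) (hconjR t hr)
      have hζZ : ζ ∈ Z := hco_ker hζR (by
        have h2 := hco_mul hr hζR
        rw [hζ, mul_inv_cancel_left, h1] at h2
        exact left_eq_add.mp h2)
      have e1 : t * r = r * ζ * t := by rw [hζ]; group
      have e2 : r = r * (ζ * ζ) := by
        calc r = t * (t * r) := by rw [← mul_assoc, ht2, one_mul]
          _ = t * (r * ζ * t) := by rw [e1]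
          _ = (t * r) * (ζ * t) := by simp only [mul_assoc]
          _ = r * ζ * (t * (ζ * t)) := by rw [e1]; simp only [mul_assoc]
          _ = r * (ζ * ζ) := by
            rw [← hxzc t hζZ, ← mul_assoc t t, ht2, one_mul, mul_assoc]
      have e3 : ζ = 1 := by
        have h4 : ζ * ζ = 1 := (left_eq_mul.mp e2)
        have h5 := hRexp ζ hζR
        rw [pow_succ, pow_two, h4, one_mul] at h5
        exact h5
      rw [e1, e3, mul_one]
    have htcentral : ∀ x, x * t * x⁻¹ = t := by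
      intro x
      set r := t⁻¹ * (x * t * x⁻¹) with hr
      have hrR : r ∈ R := hπker.mp (by
        rw [hr, map_mul, map_mul, map_mul, map_inv, map_inv, htπ]
        exact (by decide +kernel : ∀ g : SL23, (-1 : SL23)⁻¹ * (g * -1 * g⁻¹) = 1) _)
      have hxt : x * t * x⁻¹ = t * r := by rw [hr]; group
      have h2 : t * r * (t * r) = 1 := by
        rw [← hxt, show x * t * x⁻¹ * (x * t * x⁻¹) = x * (t * t) * x⁻¹ by group, ht2]; group
      rw [mul_assoc, ← mul_assoc r, ← hfix r hrR, mul_assoc t r, ← mul_assoc t t, ht2,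
        one_mul] at h2
      have h3 := hRexp r hrR
      rw [pow_succ, pow_two, h2, one_mul] at h3
      rw [hxt, h3, mul_one]
    have hnorm : (Subgroup.zpowers t).Normal := ⟨fun a ha x => by
      obtain ⟨i, rfl⟩ := ha
      simp only []
      rw [← conj_zpow, htcentral]
      exact ⟨i, rfl⟩⟩
    have hto : orderOf t = 2 := orderOf_eq_prime (by rw [pow_two, ht2])
      (fun h => by rw [h, map_one] at htπ; exact absurd htπ (by decide +kernel))
    have hle : Subgroup.zpowers t ≤ Cfsg.pCore 2 X := le_sSup ⟨hnorm,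
      IsPGroup.of_card (n := 1) (by rw [Nat.card_zpowers, hto, pow_one])⟩
    rw [hO2, Subgroup.zpowers_le, Subgroup.mem_bot] at hle
    rw [hle, orderOf_one] at hto
    norm_num at hto
  have htneg : ψ t = -1 := by
    by_contra hne
    obtain ⟨s', hs'⟩ := sl_order_four
    obtain ⟨s, rfl⟩ := hπs s'
    have hst : ψ t = ψ s * ψ s := by
      rw [← hψmul]; exact hψπ (by rw [htπ, map_mul, hs'])
    obtain ⟨a, b', c, d, hM⟩ := exists_matrix_form (ψ t)
    obtain ⟨p, q, r, w, hN⟩ := exists_matrix_form (ψ s)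
    have h := central_involution_fact a b' c d p q r w (hM ▸ htsq)
      (by rw [← hM, ← hN]; exact htcomm s) (hM ▸ htne) (hM ▸ hne)
      (by have := hψunit s; rwa [hN, Matrix.det_fin_two_of] at this)
    rw [← hN, ← hst] at h
    exact htne h
  have hψker : ∀ {x}, ψ x = 1 → x ∈ R := by
    intro x hx
    by_contra hxR
    obtain ⟨h', hh⟩ := sl_commutator_fact (π x) (fun h => hxR (hπker.mp h))
    obtain ⟨y, rfl⟩ := hπs h'
    have hc : ψ ⁅x, y⁆ = 1 := by
      have hxi : ψ x⁻¹ = 1 := by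
        have := hψmul x x⁻¹
        rw [mul_inv_cancel, hψR (one_mem R), hx, one_mul] at this
        exact this.symm
      rw [commutatorElement_def, hψmul, hψmul, hψmul, hx, hxi, one_mul, mul_one, ← hψmul,
        mul_inv_cancel, hψR (one_mem R)]
    have hm1 : (-1 : M2) ≠ 1 := m2_neg_ne_one
    rcases hh with h | h | h
    · rw [← map_commutatorElement, ← htπ] at h
      exact hm1 (by rw [← htneg, ← hψπ h, hc])
    · rw [← map_commutatorElement, ← map_mul, ← htπ] at h
      exact hm1 (by rw [← htneg, ← hψπ h, hψmul, hc, one_mul])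
    · rw [← htπ] at h
      exact hm1 (by rw [← htneg, ← hψπ h, hx])
  let Ψ : X →* SL23 :=
    { toFun := fun x => ⟨ψ x, hdet x⟩
      map_one' := Subtype.ext (hψR (one_mem R))
      map_mul' := fun x y => Subtype.ext (hψmul x y) }
  have hΨker : ∀ {x}, Ψ x = 1 ↔ x ∈ R := fun {x} =>
    ⟨fun h => hψker (congrArg Subtype.val h), fun h => Subtype.ext (hψR h)⟩
  -- the centraliser of `t`
  set C := Subgroup.centralizer ({t} : Set X) with hCdef
  have hCmem : ∀ {x}, x ∈ C ↔ x * t = t * x := fun {x} => Subgroup.mem_centralizer_singleton_iff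
  have hCR : ∀ {r}, r ∈ R → r ∈ C → r ∈ Z := by
    intro r hr hrC
    refine hco_ker hr ?_
    have h1 := hψ t hr
    rw [htneg, ← hCmem.mp hrC, mul_inv_cancel_right, Matrix.neg_mulVec, Matrix.one_mulVec] at h1
    funext k
    have := congrFun h1 k
    exact zmod3_neg _ this
  have hZC : ∀ {ζ}, ζ ∈ Z → ζ ∈ C := fun hζ => hCmem.mpr (hxzc t hζ).symm
  have hsplit : ∀ x, ∃ m ∈ R, m⁻¹ * x ∈ C := by
    intro x
    set m := t * (x * t * x⁻¹) with hm
    have hmR : m ∈ R := hπker.mp (by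
      rw [hm, map_mul, map_mul, map_mul, map_inv, htπ]
      exact (by decide +kernel : ∀ g : SL23, -1 * (g * -1 * g⁻¹) = 1) _)
    refine ⟨m, hmR, hCmem.mpr ?_⟩
    have hxt : (x * t * x⁻¹)⁻¹ = x * t * x⁻¹ := by
      rw [show (x * t * x⁻¹)⁻¹ = x * t⁻¹ * x⁻¹ by group, htinv]
    have htm : m⁻¹ * t = t * m := by
      rw [hm, mul_inv_rev, hxt, htinv, mul_assoc, ht2, mul_one, ← mul_assoc, ht2, one_mul]
    have hxm : x * t * x⁻¹ = t * m := by rw [hm, ← mul_assoc, ht2, one_mul]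
    have h3 : m * m * m = 1 := by
      have := hRexp m hmR
      rwa [pow_succ, pow_two] at this
    calc m⁻¹ * x * t = m⁻¹ * (x * t * x⁻¹) * x := by group
      _ = m⁻¹ * t * m * x := by rw [hxm]; group
      _ = t * (m * m * m) * (m⁻¹ * x) := by rw [htm]; group
      _ = t * (m⁻¹ * x) := by rw [h3, mul_one]
  have hπΨ : ∀ {x y}, Ψ x = Ψ y → π x = π y := by
    intro x y h
    have h1 : Ψ (y⁻¹ * x) = 1 := by rw [map_mul, map_inv, h, inv_mul_cancel]
    have h2 := hπker.mpr (hΨker.mp h1)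
    rw [map_mul, map_inv] at h2
    exact (inv_mul_eq_one.mp h2).symm
  have hΨsurj : Function.Surjective Ψ := by
    choose σ hσ using hπs
    have hinj : Function.Injective (fun g : SL23 => Ψ (σ g)) := fun g g' h => by
      have := hπΨ h
      rwa [hσ, hσ] at this
    intro g
    obtain ⟨g', hg'⟩ := (Finite.injective_iff_surjective.mp hinj) g
    exact ⟨_, hg'⟩
  have hΨC : ∀ g, ∃ c ∈ C, Ψ c = g := by
    intro g
    obtain ⟨x, rfl⟩ := hΨsurj g
    obtain ⟨m, hm, hc⟩ := hsplit x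
    exact ⟨_, hc, by rw [map_mul, map_inv, hΨker.mpr hm, inv_one, one_mul]⟩
  have hCcard : Nat.card ↥C = 72 := by
    let g := Ψ.comp C.subtype
    have hgs : Function.Surjective g := fun y => by
      obtain ⟨c, hc, h⟩ := hΨC y; exact ⟨⟨c, hc⟩, h⟩
    have hk : g.ker = Z.subgroupOf C := by
      ext c
      exact ⟨fun h => hCR (hΨker.mp h) c.2, fun h => hΨker.mpr (hZle h)⟩
    have h := g.ker.card_mul_index
    rw [Subgroup.index_ker, MonoidHom.range_eq_top.mpr hgs, Subgroup.card_top, hk,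
      Nat.card_congr (Subgroup.subgroupOfEquivOfLe (fun _ hζ => hZC hζ)).toEquiv, hZcard,
      Nat.card_eq_fintype_card (α := SL23), sl_card] at h
    omega
  obtain ⟨P₀⟩ : Nonempty (Sylow 2 ↥C) := inferInstance
  set P := (P₀ : Subgroup ↥C).map C.subtype with hPdef
  have hPcard : Nat.card ↥P = 8 := by
    rw [hPdef, Subgroup.card_map_of_injective C.subtype_injective, P₀.card_eq_multiplicity, hCcard]
    have h : (72 : ℕ).factorization 2 = 3 := by
      rw [show (72 : ℕ) = 2 ^ 3 * 9 from rfl, Nat.factorization_mul (by norm_num) (by norm_num),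
        Finsupp.add_apply, Nat.prime_two.factorization_pow,
        Nat.factorization_eq_zero_of_not_dvd (by norm_num : ¬ 2 ∣ 9)]
      simp
    rw [h]; norm_num
  have hPC : P ≤ C := Subgroup.map_subtype_le _
  have hP8 : ∀ {y}, y ∈ P → y ^ 8 = 1 := fun {y} hy => by
    have := Subgroup.orderOf_dvd_natCard P hy
    rw [hPcard] at this
    exact orderOf_dvd_iff_pow_eq_one.mp this
  have hP1 : ∀ {y}, y ∈ P → y ∈ R → y = 1 := fun {y} hy hyR => by
    refine orderOf_eq_one_iff.mp (Nat.eq_one_of_dvd_coprimes (by norm_num : Nat.Coprime 8 3)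
      (orderOf_dvd_of_pow_eq_one (hP8 hy)) (orderOf_dvd_of_pow_eq_one (hRexp y hyR)))
  have hfour : ∀ {y}, y ∈ P → Ψ y * Ψ y * Ψ y * Ψ y = 1 ∧ y ^ 4 = 1 := fun {y} hy => by
    have h := sl_eight (Ψ y) (by
      rw [← map_mul, ← map_mul, ← map_mul, ← map_mul,
        four_mul_eq, ← pow_add, hP8 hy, map_one])
    refine ⟨h, hP1 (pow_mem hy 4) (hΨker.mp ?_)⟩
    rw [← four_mul_eq, map_mul, map_mul, map_mul, h]
  have hΨP : ∀ {g : SL23}, g * g * g * g = 1 → ∃ y ∈ P, Ψ y = g := by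
    intro g hg
    let φ : ↥P → {g : SL23 // g * g * g * g = 1} := fun y => ⟨Ψ y, (hfour y.2).1⟩
    have hinj : Function.Injective φ := fun y y' h => by
      have h1 : Ψ (y'.1⁻¹ * y.1) = 1 := by
        rw [map_mul, map_inv, show Ψ y.1 = Ψ y'.1 from congrArg Subtype.val h, inv_mul_cancel]
      exact Subtype.ext (inv_mul_eq_one.mp (hP1 (mul_mem (inv_mem y'.2) y.2) (hΨker.mp h1))).symm
    have hb : Function.Bijective φ := (Nat.bijective_iff_injective_and_card φ).mpr ⟨hinj, by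
      rw [hPcard, Nat.card_eq_fintype_card, Fintype.card_subtype, sl_four_torsion]⟩
    obtain ⟨y, hy⟩ := hb.2 ⟨g, hg⟩
    exact ⟨y, y.2, congrArg Subtype.val hy⟩
  have hK : ∀ {x}, x ∈ C → x ^ 4 = 1 → x ∈ P := by
    intro x hx h4
    obtain ⟨y, hy, hyx⟩ := hΨP (g := Ψ x) (by
      rw [← map_mul, ← map_mul, ← map_mul, four_mul_eq, h4, map_one])
    have hζ : y⁻¹ * x ∈ Z := hCR (hΨker.mp (by rw [map_mul, map_inv, hyx, inv_mul_cancel]))
      (mul_mem (inv_mem (hPC hy)) hx)
    have hcy : Commute y (y⁻¹ * x) := hxzc y hζ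
    have h4' : (y⁻¹ * x) ^ 4 = 1 := by
      have := hcy.mul_pow 4
      rw [mul_inv_cancel_left, h4, (hfour hy).2, one_mul] at this
      exact this.symm
    have h3 := hRexp _ (hZle hζ)
    rw [pow_succ, h3, one_mul, inv_mul_eq_one] at h4'
    exact h4' ▸ hy
  -- the elementary abelian subgroup
  obtain ⟨E, hEc, hEexp, hEcard⟩ := hE
  have hEcomm : ∀ {x y}, x ∈ E → y ∈ E → x * y = y * x := fun {x y} hx hy =>
    congrArg Subtype.val (hEc.is_comm.comm ⟨x, hx⟩ ⟨y, hy⟩)
  have hA : 9 ≤ Nat.card ↥(E ⊓ R) := by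
    let g := Ψ.comp E.subtype
    have hk : g.ker = R.subgroupOf E := by
      ext c; exact hΨker
    have h := g.ker.card_mul_index
    rw [hEcard, hk] at h
    have hi : (R.subgroupOf E).index ∣ 24 := by
      rw [← hk, Subgroup.index_ker, ← sl_card, ← Nat.card_eq_fintype_card]
      exact Subgroup.card_subgroup_dvd_card _
    have hi2 : (R.subgroupOf E).index ∣ 27 := Dvd.intro_left _ h
    have hi3 := Nat.le_of_dvd (by norm_num) (Nat.dvd_gcd hi hi2)
    norm_num at hi3
    have e : Nat.card ↥(R.subgroupOf E) = Nat.card ↥(E ⊓ R) :=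
      Nat.card_congr
        { toFun := fun k => ⟨k.1.1, k.1.2, k.2⟩
          invFun := fun k => ⟨⟨k.1, k.2.1⟩, k.2.2⟩
          left_inv := fun _ => rfl
          right_inv := fun _ => rfl }
    rw [e] at h
    nlinarith
  obtain ⟨a, ha, haR⟩ : ∃ a ∈ E, a ∉ R := by
    by_contra hall
    push_neg at hall
    have hER : E = R := Subgroup.eq_of_le_of_card_ge hall (hRcard.le.trans hEcard.ge)
    exact huv (hEcomm (hER ▸ hu) (hER ▸ hv))
  obtain ⟨w, hwA, hwZ⟩ : ∃ w ∈ E ⊓ R, w ∉ Z := by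
    by_contra hall
    push_neg at hall
    have := Subgroup.card_le_of_le hall
    omega
  set S := R ⊓ Subgroup.centralizer ({w} : Set X) with hSdef
  have hSA : E ⊓ R = S := by
    have hle : E ⊓ R ≤ S := fun r hr =>
      ⟨hr.2, Subgroup.mem_centralizer_singleton_iff.mpr (hEcomm hr.1 hwA.1)⟩
    refine Subgroup.eq_of_le_of_card_ge hle ?_
    have hdvd : Nat.card ↥S ∣ 3 ^ 3 := by
      rw [show 3 ^ 3 = 27 from rfl, ← hRcard]; exact Subgroup.card_dvd_of_le inf_le_left
    obtain ⟨i, hi, hSi⟩ := (Nat.dvd_prime_pow Nat.prime_three).mp hdvd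
    have hne : i ≠ 3 := fun h3 => hwZ (hZmem.mpr ⟨hwA.2, fun r hr => by
      have hSR : S = R := Subgroup.eq_of_le_of_card_ge inf_le_left
        (by rw [hSi, h3, hRcard]; norm_num)
      exact Subgroup.mem_centralizer_singleton_iff.mp (hSR.symm ▸ hr : r ∈ S).2⟩)
    have := Nat.pow_le_pow_right (show 0 < 3 by norm_num) (show i ≤ 2 by omega)
    omega
  have hScard : Nat.card ↥S = 9 := by
    have h1 : 9 ≤ Nat.card ↥S := hSA ▸ hA
    have hdvd : Nat.card ↥S ∣ 3 ^ 3 := by
      rw [show 3 ^ 3 = 27 from rfl, ← hRcard]; exact Subgroup.card_dvd_of_le inf_le_left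
    obtain ⟨i, hi, hSi⟩ := (Nat.dvd_prime_pow Nat.prime_three).mp hdvd
    have hne : i ≠ 3 := fun h3 => hwZ (hZmem.mpr ⟨hwA.2, fun r hr => by
      have hSR : S = R := Subgroup.eq_of_le_of_card_ge inf_le_left
        (by rw [hSi, h3, hRcard]; norm_num)
      exact Subgroup.mem_centralizer_singleton_iff.mp (hSR.symm ▸ hr : r ∈ S).2⟩)
    interval_cases i <;> omega
  have htwz : t * w * t * w ∈ Z := by
    have h1 : t * w * t ∈ R := by simpa [htinv] using hconjR t hwA.2
    refine hco_ker (mul_mem h1 hwA.2) ?_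
    rw [hco_mul h1 hwA.2, show t * w * t = t * w * t⁻¹ by rw [htinv], hψ t hwA.2, htneg,
      Matrix.neg_mulVec, Matrix.one_mulVec, neg_add_cancel]
  have hflip : ∀ {r}, r ∈ S → a⁻¹ * (t * (a * r) * t) ∈ S := by
    intro r hr
    have hrA : r ∈ E ⊓ R := hSA ▸ hr
    refine ⟨hπker.mp ?_, Subgroup.mem_centralizer_singleton_iff.mpr ?_⟩
    · rw [map_mul, map_mul, map_mul, map_mul, map_inv, hπker.mpr hrA.2, mul_one, htπ]
      exact (by decide +kernel : ∀ g : SL23, g⁻¹ * (-1 * g * -1) = 1) _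
    · have haw : a * w = w * a := hEcomm ha hwA.1
      have hgw : t * (a * r) * t * w = w * (t * (a * r) * t) := by
        set ζ := t * w * t * w with hζ
        have h1 : t * (a * r) * t * (t * w * t) = t * w * t * (t * (a * r) * t) := by
          rw [show t * (a * r) * t * (t * w * t) = t * (a * r) * (t * t) * (w * t) by group,
            show t * w * t * (t * (a * r) * t) = t * w * (t * t) * (a * r * t) by group, ht2,
            mul_one, mul_one, show t * (a * r) * (w * t) = t * (a * r * w) * t by group,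
            hEcomm (mul_mem ha hrA.1) hwA.1]
          group
        have hw' : w = (t * w * t)⁻¹ * ζ := by rw [hζ]; group
        have hcz : Commute (t * (a * r) * t) ζ := hxzc _ htwz
        have hc1 : Commute (t * (a * r) * t) (t * w * t) := h1
        have := hc1.inv_right.mul_right hcz
        rw [← hw'] at this
        exact this.eq
      have hia : a⁻¹ * w = w * a⁻¹ := by
        rw [inv_mul_eq_iff_eq_mul, ← mul_assoc, haw, mul_inv_cancel_right]
      rw [mul_assoc, hgw, ← mul_assoc, hia, mul_assoc]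
  let σ : ↥S → ↥S := fun r => ⟨_, hflip r.2⟩
  have hσ : Function.Involutive σ := fun r => Subtype.ext (by
    show a⁻¹ * (t * (a * (a⁻¹ * (t * (a * r.1) * t))) * t) = r.1
    rw [mul_inv_cancel_left, show t * (t * (a * r.1) * t) * t = (t * t) * (a * r.1) * (t * t) by group,
      ht2, one_mul, mul_one, inv_mul_cancel_left])
  have : Fintype ↥S := Fintype.ofFinite _
  obtain ⟨r₀, hr₀⟩ := Equiv.Perm.exists_fixed_point_of_prime (p := 2) (n := 1)
    (σ := hσ.toPerm σ) (by rw [← Nat.card_eq_fintype_card, hScard]; norm_num)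
    (Equiv.ext fun r => hσ r)
  set a' := a * r₀.1 with ha'
  have ha't : a' ∈ C := hCmem.mpr (by
    have h : a⁻¹ * (t * (a * r₀.1) * t) = r₀.1 := congrArg Subtype.val hr₀
    rw [inv_mul_eq_iff_eq_mul] at h
    conv_lhs => rw [ha', ← h]
    rw [mul_assoc, ht2, mul_one, ha'])
  have hr₀A : r₀.1 ∈ E ⊓ R := by rw [hSA]; exact r₀.2
  have ha'R : a' ∉ R := fun h => haR (by
    have := mul_mem h (inv_mem hr₀A.2); rwa [ha', mul_inv_cancel_right] at this)
  have ha'3 : a' ^ 3 = 1 := hEexp _ (mul_mem ha hr₀A.1)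
  have ha'o : orderOf a' = 3 := orderOf_eq_prime ha'3 fun h => ha'R (h ▸ one_mem R)
  -- the complement
  set H := Subgroup.zpowers a' ⊔ P with hHdef
  have hnorm : Subgroup.zpowers a' ≤ Subgroup.normalizer (P : Set X) := by
    rw [Subgroup.zpowers_le, Subgroup.mem_normalizer_iff]
    intro y
    refine ⟨fun hy => hK (mul_mem (mul_mem ha't (hPC hy)) (inv_mem ha't)) ?_, fun hy => ?_⟩
    · rw [conj_pow, (hfour hy).2, mul_one, mul_inv_cancel]
    · have h2 : y = a'⁻¹ * (a' * y * a'⁻¹) * a'⁻¹⁻¹ := by group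
      rw [h2]
      refine hK (mul_mem (mul_mem (inv_mem ha't) (hPC hy)) (inv_mem (inv_mem ha't))) ?_
      rw [conj_pow, (hfour hy).2, mul_one, mul_inv_cancel]
  have hHle : H ≤ C := sup_le (Subgroup.zpowers_le.mpr ha't) hPC
  have hHR : ∀ {h}, h ∈ H → h ∈ R → h = 1 := by
    intro h hh hhR
    have hh' : h ∈ (Subgroup.zpowers a' : Set X) * (P : Set X) := by
      rw [← Subgroup.coe_mul_of_left_le_normalizer_right _ _ hnorm]; exact hh
    obtain ⟨g, hg, y, hy, rfl⟩ := Set.mem_mul.mp hh'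
    obtain ⟨i, rfl⟩ := (mem_powers_iff_mem_zpowers.mpr hg : g ∈ Submonoid.powers a')
    simp only [] at hhR ⊢
    have h1 : Ψ (a' ^ i) * Ψ y = 1 := by rw [← map_mul]; exact hΨker.mpr hhR
    have h3 : Ψ y * Ψ y * Ψ y = 1 := by
      rw [← inv_eq_of_mul_eq_one_right h1, ← map_inv, ← map_mul, ← map_mul,
        show (a' ^ i)⁻¹ * (a' ^ i)⁻¹ * (a' ^ i)⁻¹ = ((a' ^ 3) ^ i)⁻¹ by
          rw [← pow_mul, mul_comm, pow_mul]; group,
        ha'3, one_pow, inv_one, map_one]
    have hy1 : y = 1 := hP1 hy (hΨker.mp (sl_two_three _ (hfour hy).1 h3))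
    rw [hy1, mul_one] at hhR ⊢
    by_contra hne
    have hi : ¬ 3 ∣ i := fun hd => hne (orderOf_dvd_iff_pow_eq_one.mp (ha'o.symm ▸ hd))
    obtain ⟨m, hm⟩ := exists_pow_eq_self_of_coprime (x := a')
      (ha'o.symm ▸ ((Nat.prime_three.coprime_iff_not_dvd.mpr hi).symm : i.Coprime 3))
    exact ha'R (hm ▸ pow_mem hhR m)
  have hΨH : Function.Bijective (Ψ.comp H.subtype) := by
    have hinj : Function.Injective (Ψ.comp H.subtype) := by
      rw [← MonoidHom.ker_eq_bot_iff, eq_bot_iff]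
      intro h hh
      exact Subgroup.mem_bot.mpr (Subtype.ext (hHR h.2 (hΨker.mp hh)))
    refine (Nat.bijective_iff_injective_and_card _).mpr ⟨hinj, ?_⟩
    refine le_antisymm (Nat.card_le_card_of_injective _ hinj) ?_
    rw [Nat.card_eq_fintype_card (α := SL23), sl_card]
    refine Nat.le_of_dvd Nat.card_pos ?_
    have h1 : Nat.card ↥P ∣ Nat.card ↥H := Subgroup.card_dvd_of_le le_sup_right
    have h2 : Nat.card ↥(Subgroup.zpowers a') ∣ Nat.card ↥H :=
      Subgroup.card_dvd_of_le le_sup_left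
    rw [hPcard] at h1
    rw [Nat.card_zpowers, ha'o] at h2
    exact Nat.Coprime.mul_dvd_of_dvd_of_dvd (by norm_num : Nat.Coprime 8 3) h1 h2
  choose sec hsec using fun x => hΨH.2 (Ψ x)
  have hsecmul : ∀ x y, sec (x * y) = sec x * sec y := fun x y => hΨH.1 (by
    rw [hsec, map_mul, map_mul, hsec, hsec])
  have hrem : ∀ x, x * (sec x).1⁻¹ ∈ R := fun x => hΨker.mp (by
    rw [map_mul, map_inv, show Ψ (sec x).1 = Ψ x from hsec x, mul_inv_cancel])
  -- inverted representatives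
  let sr : X → X := fun r => t * r * t * r⁻¹
  let k : X → ZMod 3 := fun r => ep z ((sr r)⁻¹ * r)
  have hsrR : ∀ {r}, r ∈ R → sr r ∈ R := fun {r} hr =>
    mul_mem (by simpa [htinv] using hconjR t hr) (inv_mem hr)
  have hsrco : ∀ {r}, r ∈ R → co (sr r) = co r := by
    intro r hr
    have h0 : co r⁻¹ = -co r := by
      have h := hco_mul hr (inv_mem hr)
      rw [mul_inv_cancel, hco_one] at h
      exact (neg_eq_of_add_eq_zero_right h.symm).symm
    have h1 : t * r * t ∈ R := by simpa [htinv] using hconjR t hr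
    show co (t * r * t * r⁻¹) = co r
    rw [hco_mul h1 (inv_mem hr), show t * r * t = t * r * t⁻¹ by rw [htinv], hψ t hr, htneg,
      Matrix.neg_mulVec, Matrix.one_mulVec, h0]
    funext i
    exact zmod3_double _
  have hsrZ : ∀ {r}, r ∈ R → (sr r)⁻¹ * r ∈ Z := by
    intro r hr
    refine hco_ker (mul_mem (inv_mem (hsrR hr)) hr) ?_
    have h := hco_mul (hsrR hr) (mul_mem (inv_mem (hsrR hr)) hr)
    rw [mul_inv_cancel_left, hsrco hr] at h
    exact left_eq_add.mp h
  have hsrinv : ∀ r, t * sr r * t = (sr r)⁻¹ := fun r => by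
    show t * (t * r * t * r⁻¹) * t = (t * r * t * r⁻¹)⁻¹
    rw [show (t * r * t * r⁻¹)⁻¹ = r * t⁻¹ * r⁻¹ * t⁻¹ by group, htinv,
      show t * (t * r * t * r⁻¹) * t = (t * t) * r * t * r⁻¹ * t by group, ht2, one_mul]
  have hsrZeq : ∀ {r ζ}, ζ ∈ Z → sr (r * ζ) = sr r := fun {r ζ} hζ => by
    show t * (r * ζ) * t * (r * ζ)⁻¹ = t * r * t * r⁻¹
    rw [show t * (r * ζ) * t * (r * ζ)⁻¹ = t * r * (ζ * t) * (ζ⁻¹ * r⁻¹) by group, ← hxzc t hζ]
    group
  have hepZ : ∀ {x y}, x ∈ Z → y ∈ Z → ep z (x * y) = ep z x + ep z y := fun hx hy =>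
    ep_mul hzo (hZeq ▸ hx) (hZeq ▸ hy)
  have hepinv : ∀ {x}, x ∈ Z → ep z x⁻¹ = -ep z x := fun {x} hx => by
    refine eq_neg_of_add_eq_zero_left ?_
    rw [← hepZ (inv_mem hx) hx, inv_mul_cancel, ← pow_zero z, ep_pow hzo, Nat.cast_zero]
  have hkmul : ∀ {r s}, r ∈ R → s ∈ R →
      k (r * s) = k r + k s - Sp4Stab.dt (co r) (co s) := by
    intro r s hr hs
    obtain ⟨α, hα⟩ : ∃ α, α = sr r := ⟨_, rfl⟩
    obtain ⟨β, hβ⟩ : ∃ β, β = sr s := ⟨_, rfl⟩
    have hαR : α ∈ R := hα ▸ hsrR hr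
    have hβR : β ∈ R := hβ ▸ hsrR hs
    obtain ⟨ζ, hζ⟩ : ∃ ζ, ζ = α⁻¹ * r := ⟨_, rfl⟩
    obtain ⟨η, hη⟩ : ∃ η, η = β⁻¹ * s := ⟨_, rfl⟩
    have hζZ : ζ ∈ Z := by rw [hζ, hα]; exact hsrZ hr
    have hηZ : η ∈ Z := by rw [hη, hβ]; exact hsrZ hs
    have e0 : r * s = α * β * (ζ * η) := by
      calc r * s = α * ζ * (β * η) := by rw [hζ, hη]; group
        _ = α * (ζ * β) * η := by group
        _ = α * β * (ζ * η) := by rw [← hxzc β hζZ]; group
    have hsq : ∀ {y}, y ∈ R → y⁻¹ * y⁻¹ = y := fun {y} hy => by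
      have h3 := hRexp y hy
      rw [pow_succ, pow_two] at h3
      rw [← mul_inv_rev]
      exact inv_eq_of_mul_eq_one_right h3
    obtain ⟨δ, hδ⟩ : ∃ δ, δ = ⁅α⁻¹, β⁆ * ⁅β, α⁆ := ⟨_, rfl⟩
    have hδZ : δ ∈ Z := hδ ▸ mul_mem (hcm (inv_mem hαR) hβR) (hcm hβR hαR)
    have hsr : sr (r * s) = δ * (α * β) := by
      rw [e0, hsrZeq (mul_mem hζZ hηZ)]
      show t * (α * β) * t * (α * β)⁻¹ = _
      rw [show t * (α * β) * t = (t * α * t) * (t⁻¹ * t⁻¹) * (t * β * t) * (t * t)⁻¹ * (t * t) by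
        group, htinv, ht2, show t * α * t = α⁻¹ by rw [hα, hsrinv], show t * β * t = β⁻¹ by rw [hβ, hsrinv], inv_one, mul_one, mul_one, mul_one]
      have e1 : α⁻¹ * β⁻¹ * (α * β)⁻¹ = α⁻¹ * (β⁻¹ * β⁻¹) * α⁻¹ := by group
      rw [e1, hsq hβR, show α⁻¹ * β * α⁻¹ = ⁅α⁻¹, β⁆ * β * (α⁻¹ * α⁻¹) by
        rw [commutatorElement_def]; group, hsq hαR, hδ, mul_assoc, mul_assoc]
      congr 1
      rw [commutatorElement_def]; group
    have e2 : (sr (r * s))⁻¹ * (r * s) = δ⁻¹ * (ζ * η) := by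
      rw [hsr, e0, mul_inv_rev, mul_assoc _ δ⁻¹, ← mul_assoc δ⁻¹,
        ← hxzc (α * β) (inv_mem hδZ)]
      group
    show ep z ((sr (r * s))⁻¹ * (r * s)) = _
    rw [e2, hepZ (inv_mem hδZ) (mul_mem hζZ hηZ), hepZ hζZ hηZ, hepinv hδZ, hδ,
      hepZ (hcm (inv_mem hαR) hβR) (hcm hβR hαR)]
    have b1 : ep z ⁅α⁻¹, β⁆ = Sp4Stab.dt (co α⁻¹) (co β) := hb_co (inv_mem hαR) hβR
    have b2 : ep z ⁅β, α⁆ = Sp4Stab.dt (co β) (co α) := hb_co hβR hαR
    have hco' : co α⁻¹ = -co α := by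
      have h := hco_mul hαR (inv_mem hαR)
      rw [mul_inv_cancel, hco_one] at h
      exact (neg_eq_of_add_eq_zero_right h.symm).symm
    rw [b1, b2, hco', hα, hβ, hsrco hr, hsrco hs, show k r = ep z ζ by rw [hζ, hα],
      show k s = ep z η by rw [hη, hβ]]
    simp only [Sp4Stab.dt, Pi.neg_apply]
    ring_nf
    simp only [zmod3_two]
    ring
  have hkconj : ∀ {c r}, c ∈ C → r ∈ R → k (c * r * c⁻¹) = k r := by
    intro c r hc hr
    have hct : c * t = t * c := hCmem.mp hc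
    have hct' : t * c⁻¹ = c⁻¹ * t := by
      rw [eq_inv_mul_iff_mul_eq, ← mul_assoc, hct, mul_inv_cancel_right]
    show ep z ((sr (c * r * c⁻¹))⁻¹ * (c * r * c⁻¹)) = ep z ((sr r)⁻¹ * r)
    have e : sr (c * r * c⁻¹) = c * sr r * c⁻¹ := by
      show t * (c * r * c⁻¹) * t * (c * r * c⁻¹)⁻¹ = c * (t * r * t * r⁻¹) * c⁻¹
      calc t * (c * r * c⁻¹) * t * (c * r * c⁻¹)⁻¹
          = (t * c) * r * (c⁻¹ * t) * (c * r⁻¹ * c⁻¹) := by group
        _ = (c * t) * r * (t * c⁻¹) * (c * r⁻¹ * c⁻¹) := by rw [hct, hct']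
        _ = _ := by group
    rw [e, show (c * sr r * c⁻¹)⁻¹ * (c * r * c⁻¹) = c * ((sr r)⁻¹ * r) * c⁻¹ by group,
      hepconj c (hsrZ hr)]
  -- the embedding
  have hdetF : ∀ x, (ι.mapMatrix (ψ x)).det = 1 := fun x => by
    rw [← RingHom.map_det, hdet, map_one]
  let par : X → Sp 2 F := fun x =>
    Sp4Stab.T (ι.mapMatrix (ψ x)) (hdetF x) (fun i => ι (co (x * (sec x).1⁻¹) i))
      (ι (-k (x * (sec x).1⁻¹)))
  have hmul : ∀ x y, par (x * y) = par x * par y := by
    intro x y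
    set r := x * (sec x).1⁻¹ with hr
    set s := y * (sec y).1⁻¹ with hs
    set h := (sec x).1 with hh
    have hrR : r ∈ R := hrem x
    have hsR : s ∈ R := hrem y
    have hhC : h ∈ C := hHle (sec x).2
    have e : x * y * (sec (x * y)).1⁻¹ = r * (h * s * h⁻¹) := by
      rw [hsecmul, Subgroup.coe_mul, hr, hs, hh]; group
    have hψh : ψ h = ψ x := congrArg Subtype.val (hsec x)
    have hdt : ∀ v w : Fin 2 → ZMod 3,
        ι (Sp4Stab.dt v w) = Sp4Stab.dt (fun i => ι (v i)) (fun i => ι (w i)) := fun v w => by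
      simp [Sp4Stab.dt]
    have hmv : (fun i => ι (((ψ x).mulVec (co s)) i))
        = (ι.mapMatrix (ψ x)).mulVec (fun i => ι (co s i)) := by
      funext i
      simp [Matrix.mulVec, dotProduct, Fin.sum_univ_two]
    show Sp4Stab.T _ _ _ _ = Sp4Stab.T _ _ _ _ * Sp4Stab.T _ _ _ _
    rw [Sp4Stab.T_mul (hdetF x) (hdetF y) (by rw [← map_mul, ← hψmul]; exact hdetF _)]
    congr 1
    · rw [hψmul, map_mul]
    · funext i
      rw [e, hco_mul hrR (hconjR h hsR), hψ h hsR, hψh, Pi.add_apply, Pi.add_apply, map_add, ← hmv]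
    · rw [e, hkmul hrR (hconjR h hsR), hkconj hhC hsR, hψ h hsR, hψh, ← hmv, ← hdt, map_neg,
        map_sub, map_add, map_neg, map_neg]
      ring
  have hone : par 1 = 1 := by
    have h := hmul 1 1
    rw [mul_one] at h
    exact left_eq_mul.mp h
  let f : X →* Sp 2 F := { toFun := par, map_one' := hone, map_mul' := hmul }
  refine ⟨f, ?_, fun x => Sp4Stab.T_fix (hdetF x) _ _⟩
  rw [← MonoidHom.ker_eq_bot_iff, eq_bot_iff]
  intro x hx
  rw [Subgroup.mem_bot]
  have h1 : par x = par 1 := (show par x = 1 from hx).trans hone.symm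
  obtain ⟨hA', hv', hz'⟩ := Sp4Stab.T_inj _ _ h1
  have hψx : ψ x = ψ 1 := Matrix.map_injective ι.injective hA'
  have hsec1 : sec x = 1 := hΨH.1 (by
    rw [hsec, map_one]; exact Subtype.ext (hψx.trans (hψR (one_mem R))))
  have hs1 : sec 1 = 1 := hΨH.1 (by rw [hsec, map_one, map_one])
  rw [hsec1, hs1] at hv' hz'
  simp only [Subgroup.coe_one, inv_one, mul_one] at hv' hz'
  have hxR : x ∈ R := hψker (hψx.trans (hψR (one_mem R)))
  have hcx : co x = 0 := by
    funext i
    have := ι.injective (congrFun hv' i)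
    rw [this, hco_one]
  have hxZ := hco_ker hxR hcx
  have hsx : sr x = 1 := by
    have := hsrZeq (r := 1) hxZ
    rw [one_mul] at this
    rw [this]
    show t * 1 * t * 1⁻¹ = 1
    rw [mul_one, ht2, inv_one, mul_one]
  have hk0 : k x = k 1 := neg_injective (ι.injective hz')
  refine ep_inj hzo (hZeq ▸ hxZ) ?_
  have hk1 : k 1 = 0 := by
    show ep z ((t * 1 * t * 1⁻¹)⁻¹ * 1) = 0
    rw [mul_one t, mul_one, ht2, inv_one, mul_one, inv_one, ← pow_zero z, ep_pow hzo, Nat.cast_zero]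
  have : k x = ep z x := by show ep z ((sr x)⁻¹ * x) = _; rw [hsx, inv_one, one_mul]
  rw [← this, hk0, hk1]

end

/-- Let X be a finite group with O₃(X) extraspecial of order 27 and exponent 3, X/O₃(X) isomorphic to SL(2,3), O₂(X) = 1, and a Sylow 3-subgroup of X containing an elementary abelian subgroup of order 27. Then X is isomorphic to the centralizer in PSp(4,3) of a 3-central element of order 3 (an element of order 3 in the centre of a Sylow 3-subgroup). -/
theorem result {X : Type*} [Group X] [Finite X]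
    (hR : Cfsg.IsExtraspecial 3 (Cfsg.pCore 3 X)) (hRcard : Nat.card (Cfsg.pCore 3 X) = 27)
    (hRexp : ∀ r ∈ Cfsg.pCore 3 X, r ^ 3 = 1)
    (e : X ⧸ Cfsg.pCore 3 X ≃* Matrix.SpecialLinearGroup (Fin 2) (ZMod 3))
    (hO2 : Cfsg.pCore 2 X = ⊥)
    (hE : ∃ E : Subgroup X, IsMulCommutative E ∧ (∀ a ∈ E, a ^ 3 = 1) ∧ Nat.card E = 27)
    (F : Type*) [Field F] [Fintype F] (hF : Fintype.card F = 3) :
    ∃ (c : Cfsg.PSp 2 F) (S : Sylow 3 (Cfsg.PSp 2 F)), orderOf c = 3 ∧ c ∈ (S : Subgroup (Cfsg.PSp 2 F)) ∧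
      c ∈ Subgroup.centralizer ((S : Subgroup (Cfsg.PSp 2 F)) : Set (Cfsg.PSp 2 F)) ∧
      Nonempty (X ≃* Subgroup.centralizer ({c} : Set (Cfsg.PSp 2 F))) := by
  classical
  obtain ⟨ι₀⟩ : Nonempty (ZMod 3 ≃+* F) := by
    have : Fact (Nat.Prime 3) := ⟨Nat.prime_three⟩
    exact ⟨ZMod.ringEquivOfPrime F Nat.prime_three hF⟩
  obtain ⟨f, hf, hfix⟩ := exists_embedding hR hRcard hRexp e hO2 hE F ι₀.toRingHom
  have h2F : (2 : F) ≠ 0 := by
    rw [show (2 : F) = ι₀ (2 : ZMod 3) by rw [map_ofNat], ι₀.map_ne_zero_iff]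
    decide
  have hneg : (-1 : F) ≠ 1 := fun h => h2F (by linear_combination -h)
  have hcardX : Nat.card X = 648 := by
    rw [Subgroup.card_eq_card_quotient_mul_card_subgroup (Cfsg.pCore 3 X),
      Nat.card_congr e.toEquiv, hRcard, Nat.card_eq_fintype_card, sl_card]
  set ee : Vec 2 F := eI 0 with hee
  have hstab : Nat.card ↥(MulAction.stabilizer (Sp 2 F) ee) = 648 := by
    have h := MulAction.index_stabilizer (Sp 2 F) ee
    have ho : MulAction.orbit (Sp 2 F) ee = {0}ᶜ := by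
      ext y
      constructor
      · rintro ⟨g, rfl⟩; exact smul_ne_zero_of_ne_zero g (eI_ne_zero 0)
      · intro hy; exact exists_smul_eq_of_ne_zero (eI_ne_zero 0) hy
    rw [ho, Set.ncard_compl, Set.ncard_singleton, Nat.card_fun, Nat.card_sum, Nat.card_fin,
      Nat.card_eq_fintype_card, hF] at h
    have h2 := (MulAction.stabilizer (Sp 2 F) ee).index_mul_card
    rw [h, card_Sp hF 2] at h2
    generalize Nat.card ↥(MulAction.stabilizer (Sp 2 F) ee) = N at h2 ⊢
    norm_num [Finset.prod_range_succ] at h2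
    omega
  have hfs : f.range = MulAction.stabilizer (Sp 2 F) ee := by
    refine Subgroup.eq_of_le_of_card_ge ?_ ?_
    · rintro _ ⟨x, rfl⟩; exact hfix x
    · rw [hstab, ← Nat.card_congr (MonoidHom.ofInjective hf).toEquiv, hcardX]
  set q := QuotientGroup.mk' (Subgroup.center (Sp 2 F)) with hq
  set c := q (tv ee 1) with hc
  have htv : tv ee (1 : F) ≠ 1 := by
    intro h
    have h1 := congrArg (fun g : Sp 2 F => g • (fI 0 : Vec 2 F)) h
    simp only [tv_smul, one_smul, hee, sympForm_fI_eI, mul_one, add_eq_left] at h1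
    exact eI_ne_zero 0 h1
  have hnegtv : ∀ w : Vec 2 F, tv ee (1 : F) ≠ negOne * tv w 1 := by
    intro w h
    have h1 := congrArg (fun g : Sp 2 F => g • ee) h
    simp only [mul_smul, tv_smul, negOne_smul, sympForm_self, mul_zero, zero_smul, add_zero,
      one_mul] at h1
    by_cases h0 : sympForm 2 F ee w = 0
    · rw [h0, zero_smul, add_zero] at h1
      refine eI_ne_zero (0 : Fin 2) ((smul_eq_zero.mp (?_ : (2 : F) • ee = 0)).resolve_left h2F)
      rw [two_smul]
      nth_rw 2 [h1]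
      exact add_neg_cancel _
    · have h2 := congrArg (fun y => sympForm 2 F ee y) h1
      simp only [sympForm_self, ← neg_one_smul F (ee + _), sympForm_smul_right, sympForm_add_right,
        zero_add] at h2
      exact h0 (by
        rcases mul_eq_zero.mp h2.symm with h | h
        · exact absurd h (neg_ne_zero.mpr one_ne_zero)
        · exact (mul_eq_zero.mp h).elim id id)
  have hqmem : ∀ {g}, q g = 1 ↔ g = 1 ∨ g = negOne := fun {g} => by
    rw [hq, QuotientGroup.mk'_apply, QuotientGroup.eq_one_iff, mem_center_iff]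
  have hc3 : orderOf c = 3 := by
    have : Fact (Nat.Prime 3) := ⟨Nat.prime_three⟩
    refine orderOf_eq_prime ?_ fun h => ?_
    · rw [hc, ← map_pow, show tv ee (1 : F) ^ 3 = 1 from ?_, map_one]
      rw [pow_succ, pow_two, tv_mul_tv, tv_mul_tv, show (1 : F) + 1 + 1 = ι₀ 3 by
        rw [map_ofNat]; norm_num, show (3 : ZMod 3) = 0 from rfl, map_zero]
      exact eq_of_smul_eq fun x => by simp [tv_smul]
    · rcases hqmem.mp h with h | h
      · exact htv h
      · refine hnegtv 0 (h.trans ?_)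
        have : tv (0 : Vec 2 F) (1 : F) = 1 := eq_of_smul_eq fun x => by simp [tv_smul]
        rw [this, mul_one]
  have hstabC : ∀ g ∈ MulAction.stabilizer (Sp 2 F) ee,
      q g ∈ Subgroup.centralizer ({c} : Set (Cfsg.PSp 2 F)) := by
    intro g hg
    rw [Subgroup.mem_centralizer_singleton_iff, hc, ← map_mul, ← map_mul]
    congr 1
    rw [← mul_inv_eq_iff_eq_mul, conj_tv, show g • ee = ee from hg]
  let Φ : X →* ↥(Subgroup.centralizer ({c} : Set (Cfsg.PSp 2 F))) :=
    (q.comp f).codRestrict _ fun x => hstabC _ (hfix x)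
  have hΦ : Function.Bijective Φ := by
    constructor
    · rw [← MonoidHom.ker_eq_bot_iff, eq_bot_iff]
      intro x hx
      rw [Subgroup.mem_bot]
      apply hf
      rw [map_one]
      rcases hqmem.mp (show q (f x) = 1 from congrArg Subtype.val hx) with h | h
      · exact h
      · exfalso
        have h1 := hfix x
        rw [h, negOne_smul] at h1
        refine eI_ne_zero (0 : Fin 2) ((smul_eq_zero.mp (?_ : (2 : F) • ee = 0)).resolve_left h2F)
        rw [two_smul]
        nth_rw 1 [← h1]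
        exact neg_add_cancel _
    · rintro ⟨y, hy⟩
      obtain ⟨g, rfl⟩ := QuotientGroup.mk'_surjective (Subgroup.center (Sp 2 F)) y
      rw [Subgroup.mem_centralizer_singleton_iff, hc, ← map_mul, ← map_mul,
        ← inv_mul_eq_one, ← map_inv, ← map_mul, hqmem, inv_mul_eq_iff_eq_mul, mul_one,
        inv_mul_eq_iff_eq_mul] at hy
      have hgv : tv (g • ee) (1 : F) = tv ee 1 := by
        rw [← conj_tv]
        rcases hy with hy | hy
        · rw [← hy, mul_inv_cancel_right]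
        · exfalso
          refine hnegtv (g • ee) ?_
          have hcomm : ∀ k : Sp 2 F, k * negOne = negOne * k := fun k =>
            Subgroup.mem_center_iff.mp (mem_center_iff.mpr (Or.inr rfl)) k
          rw [← conj_tv]
          calc tv ee (1 : F) = tv ee 1 * g * g⁻¹ := by group
            _ = g * tv ee 1 * negOne * g⁻¹ := by rw [hy]
            _ = negOne * (g * tv ee 1 * g⁻¹) := by rw [hcomm (g * tv ee 1)]; group
      have h1 := congrArg (fun h : Sp 2 F => h • (fI 0 : Vec 2 F)) hgv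
      simp only [tv_smul, add_right_inj, one_mul] at h1
      rw [hee, sympForm_fI_eI, one_smul] at h1
      obtain ⟨a, ha⟩ : ∃ a : F, g • ee = a • ee ∧ a ≠ 0 := by
        refine ⟨(sympForm 2 F (fI 0) (g • ee))⁻¹, ?_, ?_⟩
        · rw [← hee] at h1
          rw [eq_inv_smul_iff₀, h1]
          intro h0
          rw [h0, zero_smul] at h1
          exact eI_ne_zero 0 h1.symm
        · intro h0
          rw [inv_eq_zero] at h0
          rw [← hee] at h1
          rw [h0, zero_smul] at h1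
          exact eI_ne_zero 0 h1.symm
      have hone : a = 1 ∨ a = -1 := by
        obtain ⟨b, rfl⟩ := ι₀.surjective a
        have hb : b ≠ 0 := fun h => ha.2 (by rw [h, map_zero])
        rcases zmod3_units b with rfl | rfl | rfl
        · exact absurd rfl hb
        · exact Or.inl (map_one _)
        · exact Or.inr (by rw [map_neg, map_one])
      obtain ⟨g', hg', hgg⟩ : ∃ g' ∈ MulAction.stabilizer (Sp 2 F) ee, q g' = q g := by
        rcases hone with rfl | rfl
        · exact ⟨g, (ha.1.trans (one_smul _ _) : g • ee = ee), rfl⟩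
        · refine ⟨negOne * g, ?_, ?_⟩
          · rw [MulAction.mem_stabilizer_iff, mul_smul, ha.1, negOne_smul, neg_one_smul, neg_neg]
          · rw [map_mul, hqmem.mpr (Or.inr rfl), one_mul]
      rw [← hfs] at hg'
      obtain ⟨x, rfl⟩ := hg'
      exact ⟨x, Subtype.ext hgg⟩
  have eC := MulEquiv.ofBijective Φ hΦ
  have : Fact (Nat.Prime 3) := ⟨Nat.prime_three⟩
  set C := Subgroup.centralizer ({c} : Set (Cfsg.PSp 2 F)) with hCdef
  have hCcard : Nat.card ↥C = 648 := by rw [← Nat.card_congr eC.toEquiv, hcardX]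
  have hPcard : Nat.card (Cfsg.PSp 2 F) = 25920 := by
    have h := card_PSp (m := 2) hF (by norm_num)
    change Nat.gcd 2 (3 - 1) * Nat.card (Cfsg.PSp 2 F) = _ at h
    generalize Nat.card (Cfsg.PSp 2 F) = N at h ⊢
    norm_num [Finset.prod_range_succ] at h
    omega
  have hcC : c ∈ C := Subgroup.mem_centralizer_singleton_iff.mpr rfl
  obtain ⟨S₀, hcS⟩ : ∃ S₀ : Sylow 3 ↥C, (⟨c, hcC⟩ : ↥C) ∈ (S₀ : Subgroup ↥C) := by
    obtain ⟨S₀, hS₀⟩ := (IsPGroup.of_card (p := 3) (n := 1) (G := ↥(Subgroup.zpowers (⟨c, hcC⟩ : ↥C)))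
      (by rw [Nat.card_zpowers, ← Subgroup.orderOf_coe, pow_one]; exact hc3)).exists_le_sylow
    exact ⟨S₀, hS₀ (Subgroup.mem_zpowers _)⟩
  have h81 : Nat.card ↥((S₀ : Subgroup ↥C).map C.subtype) = 81 := by
    rw [Subgroup.card_map_of_injective C.subtype_injective, S₀.card_eq_multiplicity, hCcard]
    have h : (648 : ℕ).factorization 3 = 4 := by
      rw [show (648 : ℕ) = 3 ^ 4 * 8 from rfl, Nat.factorization_mul (by norm_num) (by norm_num),
        Finsupp.add_apply, Nat.prime_three.factorization_pow,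
        Nat.factorization_eq_zero_of_not_dvd (by norm_num : ¬ 3 ∣ 8)]
      simp
    rw [h]; norm_num
  let S : Sylow 3 (Cfsg.PSp 2 F) := Sylow.ofCard ((S₀ : Subgroup ↥C).map C.subtype) (by
    rw [h81, hPcard]
    have h : (25920 : ℕ).factorization 3 = 4 := by
      rw [show (25920 : ℕ) = 3 ^ 4 * 320 from rfl, Nat.factorization_mul (by norm_num) (by norm_num),
        Finsupp.add_apply, Nat.prime_three.factorization_pow,
        Nat.factorization_eq_zero_of_not_dvd (by norm_num : ¬ 3 ∣ 320)]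
      simp
    rw [h]; norm_num)
  refine ⟨c, S, hc3, ⟨⟨c, hcC⟩, hcS, rfl⟩, ?_, ⟨eC⟩⟩
  rw [Subgroup.mem_centralizer_iff]
  rintro y ⟨y', -, rfl⟩
  exact Subgroup.mem_centralizer_singleton_iff.mp y'.2

end Cfsg.Agent.S3366
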