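import Cfsg.Statements.S3370
import Mathlib

set_option autoImplicit false
open Cfsg

namespace Cfsg.Agent.S3370

open Subgroup in
lemma two_pow_eq (p a d : ℕ) (hp : p.Prime) (hodd : Odd p) (ha : a ≠ 0)
    (h : p ^ a + 1 = 2 ^ d) : a = 1 := by
  have hp3 : 3 ≤ p := by
    have := hp.two_le
    obtain ⟨k, hk⟩ := hodd
    omega
  have haodd : Odd a := by
    rcases Nat.even_or_odd a with ⟨b, hb⟩ | h'
    · exfalso
      have h4 : (p ^ a + 1) % 4 = 2 := by
        have e : p ^ a = (p * p) ^ b := by rw [hb, pow_add, mul_pow]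
        have h1 : (p * p) % 4 = 1 := by
          obtain ⟨k, hk⟩ := hodd
          rw [hk, show (2 * k + 1) * (2 * k + 1) = 1 + 4 * (k * k + k) by ring,
            Nat.add_mul_mod_self_left]
        rw [Nat.add_mod, e, Nat.pow_mod, h1, one_pow]
        norm_num
      have hd : 2 ≤ d := by
        by_contra hd
        have : 2 ^ d ≤ 2 := by
          calc 2 ^ d ≤ 2 ^ 1 := Nat.pow_le_pow_right (by norm_num) (by omega)
            _ = 2 := by norm_num
        have : 1 ≤ p ^ a := Nat.one_le_pow _ _ hp.pos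
        have hpa : 3 ≤ p ^ a := hp3.trans (Nat.le_self_pow ha p)
        omega
      have : 4 ∣ 2 ^ d := (pow_dvd_pow 2 hd : 2 ^ 2 ∣ 2 ^ d)
      omega
    · exact h'
  have hgeom := geom_sum_mul_neg (-(p : ℤ)) a
  rw [haodd.neg_pow, sub_neg_eq_add, sub_neg_eq_add] at hgeom
  set T : ℤ := ∑ i ∈ Finset.range a, (-(p : ℤ)) ^ i with hT
  have hTodd : (T : ZMod 2) = 1 := by
    have hp2 : ((p : ℕ) : ZMod 2) = 1 := ZMod.natCast_eq_one_iff_odd.2 hodd
    have ha2 : ((a : ℕ) : ZMod 2) = 1 := ZMod.natCast_eq_one_iff_odd.2 haodd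
    rw [hT]
    push_cast
    rw [hp2, show (-1 : ZMod 2) = 1 by decide]
    simp [ha2]
  have habs : T.natAbs * (p + 1) = 2 ^ d := by
    have := congrArg Int.natAbs hgeom
    rw [Int.natAbs_mul] at this
    rw [← h, show ((p : ℕ) + 1) = (1 + (p : ℤ)).natAbs by omega, this]
    rw [show (1 : ℤ) + (p : ℤ) ^ a = ((p ^ a + 1 : ℕ) : ℤ) by push_cast; ring]
    exact Int.natAbs_natCast _
  obtain ⟨j, hj, hTj⟩ := (Nat.dvd_prime_pow Nat.prime_two).1
    (⟨p + 1, habs.symm⟩ : T.natAbs ∣ 2 ^ d)
  have hj0 : j = 0 := by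
    by_contra hj0
    have h2 : (2 : ℤ) ∣ T := by
      rw [Int.dvd_natAbs.symm, hTj]
      exact_mod_cast dvd_pow_self 2 hj0
    rw [(ZMod.intCast_zmod_eq_zero_iff_dvd T 2).2 (by exact_mod_cast h2)] at hTodd
    exact zero_ne_one hTodd
  rw [hTj, hj0, pow_zero, one_mul] at habs
  exact (Nat.pow_eq_self_iff hp.one_lt).1 (by omega)

lemma odd_prime_pow_eq (q d a : ℕ) (hq : q.Prime) (hodd : Odd q) (hd : d ≠ 0)
    (h : q ^ d = 2 ^ a + 1) : d = 1 ∨ (q = 3 ∧ d = 2) := by
  have hq3 : 3 ≤ q := by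
    have := hq.two_le
    obtain ⟨k, hk⟩ := hodd
    omega
  rcases Nat.even_or_odd d with ⟨c, hc⟩ | hdodd
  · right
    subst hc
    set u := q ^ c with hu
    have hu3 : 3 ≤ u := hq3.trans (Nat.le_self_pow (by omega) q)
    have hmul : (u - 1) * (u + 1) = 2 ^ a := by
      have : u * u = 2 ^ a + 1 := by rw [hu, ← pow_add, h]
      obtain ⟨w, hw⟩ : ∃ w, u = w + 1 := ⟨u - 1, by omega⟩
      rw [hw] at this ⊢
      rw [Nat.add_sub_cancel]
      nlinarith
    obtain ⟨i, _, hi⟩ := (Nat.dvd_prime_pow Nat.prime_two).1 (Dvd.intro _ hmul : u - 1 ∣ 2 ^ a)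
    obtain ⟨j, _, hj⟩ := (Nat.dvd_prime_pow Nat.prime_two).1
      (Dvd.intro_left _ hmul : u + 1 ∣ 2 ^ a)
    have hij : 2 ^ j = 2 ^ i + 2 := by omega
    have hi1 : i = 1 := by
      rcases Nat.lt_or_ge i 2 with hi2 | hi2
      · interval_cases i
        · simp at hi; omega
        · rfl
      · exfalso
        have h4i : 4 ∣ 2 ^ i := (pow_dvd_pow 2 hi2 : 2 ^ 2 ∣ 2 ^ i)
        have hj2 : 2 ≤ j := by
          by_contra hj2
          have : 2 ^ j ≤ 2 ^ 1 := Nat.pow_le_pow_right (by norm_num) (by omega)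
          omega
        have h4j : 4 ∣ 2 ^ j := (pow_dvd_pow 2 hj2 : 2 ^ 2 ∣ 2 ^ j)
        omega
    subst hi1
    have hu' : q ^ c = 3 := by omega
    have hq' : q = 3 := by
      have hdvd : q ∣ 3 := hu' ▸ dvd_pow_self q (by omega)
      exact (Nat.prime_dvd_prime_iff_eq hq Nat.prime_three).1 hdvd
    refine ⟨hq', ?_⟩
    rw [hq'] at hu'
    have hc1 := (Nat.pow_eq_self_iff (by norm_num : (1:ℕ) < 3)).1 hu'
    omega
  · left
    have hgeom := geom_sum_mul_add (q - 1) d
    rw [show q - 1 + 1 = q by omega, h] at hgeom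
    set T := ∑ i ∈ Finset.range d, q ^ i
    have hT2 : (T : ZMod 2) = 1 := by
      have hq2 : ((q : ℕ) : ZMod 2) = 1 := ZMod.natCast_eq_one_iff_odd.2 hodd
      have hd2 : ((d : ℕ) : ZMod 2) = 1 := ZMod.natCast_eq_one_iff_odd.2 hdodd
      simp [T, hq2, hd2]
    obtain ⟨j, _, hj⟩ := (Nat.dvd_prime_pow Nat.prime_two).1
      (Dvd.intro _ (by omega : T * (q - 1) = 2 ^ a) : T ∣ 2 ^ a)
    rcases Nat.eq_zero_or_pos j with rfl | hj0
    · rw [hj, pow_zero, one_mul] at hgeom
      exact (Nat.pow_eq_self_iff (by omega : 1 < q)).1 (by omega)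
    · exfalso
      rw [hj] at hT2
      push_cast at hT2
      rw [show (2 : ZMod 2) = 0 by decide, zero_pow (by omega)] at hT2
      exact zero_ne_one hT2

lemma factorial_bound {p b : ℕ} (hp : p.Prime) (h : p ^ b ∣ p.factorial) : b ≤ 1 := by
  by_contra hb
  have h2 : p * p ∣ p * (p - 1).factorial := by
    have hpp : p ^ 2 ∣ p.factorial := (pow_dvd_pow p (by omega)).trans h
    obtain ⟨k, rfl⟩ : ∃ k, p = k + 1 := ⟨p - 1, by have := hp.pos; omega⟩
    simpa [pow_two, Nat.factorial_succ] using hpp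
  have := (hp.dvd_factorial).1 (Nat.dvd_of_mul_dvd_mul_left hp.pos h2)
  have := hp.two_le
  omega

lemma order_two_line (q : ℕ) [Fact q.Prime] {V : Type*} [AddCommGroup V] [Module (ZMod q) V]
    {G : Type*} [Group G] [Finite G] (ρ : G →* (V ≃ₗ[ZMod q] V)) (hρ : Function.Injective ρ)
    (v : V) (hv : v ≠ 0) (hspan : ∀ w : V, ∃ c : ZMod q, w = c • v) :
    IsCyclic G ∧ ∀ g h : G, ρ g v = ρ h v → g = h := by
  have hinj : ∀ g h : G, ρ g v = ρ h v → g = h := fun g h hgh => hρ <| LinearEquiv.ext fun w => by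
    obtain ⟨c, rfl⟩ := hspan w
    rw [map_smul, map_smul, hgh]
  choose sc hsc using fun g : G => hspan (ρ g v)
  have huniq : ∀ c c' : ZMod q, c • v = c' • v → c = c' := fun c c' hcc =>
    smul_left_injective (ZMod q) hv hcc
  let f : G →* ZMod q :=
    { toFun := sc
      map_one' := huniq _ _ (by rw [← hsc, map_one, one_smul]; rfl)
      map_mul' := fun g h => huniq _ _ (by
        rw [← hsc, map_mul, LinearEquiv.mul_apply, hsc h, map_smul, hsc g, smul_smul, mul_comm]) }
  have hf : Function.Injective f := fun g h hgh => hinj g h (by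
    rw [hsc g, hsc h, show sc g = sc h from hgh])
  exact ⟨isCyclic_of_injective_ringHom f hf, hinj⟩

lemma exists_quaternion {M : Type*} [Group M] [Finite M] (hcard : Nat.card M = 8)
    (hinv : ∀ x y : M, x ^ 2 = 1 → y ^ 2 = 1 → x ≠ 1 → y ≠ 1 → x = y)
    (hnc : ¬ IsCyclic M) : Nonempty (M ≃* QuaternionGroup 2) := by
  have hord : ∀ m : M, orderOf m ∣ 4 := fun m => by
    obtain ⟨k, hk, hm⟩ := (Nat.dvd_prime_pow Nat.prime_two).1
      (show orderOf m ∣ 2 ^ 3 by simpa [hcard] using orderOf_dvd_natCard m)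
    rcases Nat.lt_or_ge k 3 with h | h
    · rw [hm]; exact (pow_dvd_pow 2 (by omega) : 2 ^ k ∣ 2 ^ 2)
    · exact absurd (isCyclic_of_orderOf_eq_card m (by
        rw [hm, hcard, show k = 3 by omega]; norm_num)) hnc
  have h4 : ∀ m : M, m ^ 4 = 1 := fun m => orderOf_dvd_iff_pow_eq_one.1 (hord m)
  obtain ⟨z, hz⟩ := exists_prime_orderOf_dvd_card' (G := M) 2 (by rw [hcard]; norm_num)
  have hz1 : z ≠ 1 := fun h => by simp [h] at hz
  have hz2 : z ^ 2 = 1 := hz ▸ pow_orderOf_eq_one z
  have hsq : ∀ m : M, m ≠ 1 → m ≠ z → m ^ 2 = z := fun m hm1 hmz => by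
    apply hinv _ _ (by rw [← pow_mul]; exact h4 m) hz2 ?_ hz1
    exact fun h => hmz (hinv m z h hz2 hm1 hz1)
  classical
  cases nonempty_fintype M
  obtain ⟨x, hx⟩ := Finset.exists_mem_notMem_of_card_lt_card
    (s := ({1, z} : Finset M)) (t := Finset.univ) (by
      have := Finset.card_le_two (a := (1 : M)) (b := z)
      rw [Finset.card_univ, ← Nat.card_eq_fintype_card, hcard]; omega)
  obtain ⟨y, hy⟩ := Finset.exists_mem_notMem_of_card_lt_card
    (s := ({1, z, x, x⁻¹} : Finset M)) (t := Finset.univ) (by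
      have := Finset.card_le_four (a := (1 : M)) (b := z) (c := x) (d := x⁻¹)
      rw [Finset.card_univ, ← Nat.card_eq_fintype_card, hcard]; omega)
  simp only [Finset.mem_univ, Finset.mem_insert, Finset.mem_singleton, true_and, not_or] at hx hy
  have hxz := hsq x hx.1 hx.2
  have hyz := hsq y hy.1 hy.2.1
  have hxy1 : x * y ≠ 1 := fun h => hy.2.2.2 (eq_inv_of_mul_eq_one_right h)
  have hxyz : x * y ≠ z := fun h => hy.2.2.1 (by
    rw [← hxz, pow_two] at h; exact mul_left_cancel h)
  have hxy2 := hsq (x * y) hxy1 hxyz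
  have h3 : x * y * x = y := by
    have e : x * y * (x * y) = y * y := by rw [← pow_two, ← pow_two, hxy2, hyz]
    have e2 : (x * y * x) * y = y * y := by rw [← e]; group
    exact mul_right_cancel e2
  let f : QuaternionGroup 2 → M := fun g => match g with
    | .a i => x ^ i.val
    | .xa i => y * x ^ i.val
  have hx4 : x ^ 4 = 1 := h4 x
  have hpow : ∀ i j : ZMod (2 * 2), x ^ (i + j).val = x ^ i.val * x ^ j.val := by
    intro i j
    rw [← pow_add, ZMod.val_add]
    exact (pow_eq_pow_mod _ hx4).symm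
  have hneg : ∀ i : ZMod (2 * 2), x ^ (-i).val = (x ^ i.val)⁻¹ := fun i =>
    eq_inv_of_mul_eq_one_left (by rw [← hpow, neg_add_cancel, ZMod.val_zero, pow_zero])
  have hflip : ∀ n : ℕ, x ^ n * y = y * (x ^ n)⁻¹ := by
    intro n
    have : x * y = y * x⁻¹ := eq_mul_inv_of_mul_eq h3
    induction n with
    | zero => simp
    | succ n ih =>
      calc x ^ (n + 1) * y = x ^ n * (x * y) := by rw [pow_succ, mul_assoc]
        _ = (x ^ n * y) * x⁻¹ := by rw [this, mul_assoc]
        _ = y * (x ^ (n + 1))⁻¹ := by rw [ih]; group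
  have hhom : ∀ g h, f (g * h) = f g * f h := by
    rintro (i | i) (j | j)
    · exact hpow i j
    · show y * x ^ (j - i).val = x ^ i.val * (y * x ^ j.val)
      rw [sub_eq_add_neg, add_comm, hpow, hneg, ← mul_assoc, ← mul_assoc, hflip]
    · show y * x ^ (i + j).val = y * x ^ i.val * x ^ j.val
      rw [hpow, mul_assoc]
    · show x ^ ((2 : ℕ) + j - i : ZMod (2 * 2)).val = y * x ^ i.val * (y * x ^ j.val)
      rw [show y * x ^ i.val * (y * x ^ j.val) = y * (x ^ i.val * y) * x ^ j.val by group, hflip,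
        ← mul_assoc y y, ← pow_two y, hyz, ← hneg, mul_assoc z, ← hpow]
      rw [show (2 : ℕ) + j - i = ((2 : ℕ) : ZMod (2 * 2)) + (-i + j) by ring, hpow]
      congr 1
  let φ : QuaternionGroup 2 →* M := MonoidHom.mk' f hhom
  have hker : ∀ g, φ g = 1 → g = 1 := by
    intro g hg
    by_contra hne
    have : g = .a 2 ∨ g * g = .a 2 :=
      (by decide : ∀ g : QuaternionGroup 2, g ≠ 1 → g = .a 2 ∨ g * g = .a 2) g hne
    have hza : φ (.a 2) = z := by
      show x ^ (2 : ZMod (2 * 2)).val = z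
      exact hxz
    rcases this with h | h
    · exact hz1 (by rw [← hza, ← h, hg])
    · exact hz1 (by rw [← hza, ← h, map_mul, hg, one_mul])
  have hbij : Function.Bijective φ := by
    rw [Nat.bijective_iff_injective_and_card]
    refine ⟨(injective_iff_map_eq_one φ).2 hker, ?_⟩
    rw [hcard, Nat.card_eq_fintype_card, QuaternionGroup.card]
  exact ⟨(MulEquiv.ofBijective φ hbij).symm⟩

/-- The generators of a Sylow 2-subgroup of the general linear group of degree 2 over three elements. -/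
def genX : GL (Fin 2) (ZMod 3) := ⟨!![1, 1; 1, 0], !![0, 1; 1, 2], by decide, by decide⟩

/-- The involution inverting the generator up to the semidihedral twist. -/
def genY : GL (Fin 2) (ZMod 3) := ⟨!![1, 0; 2, 2], !![1, 0; 2, 2], by decide, by decide⟩

lemma gen_rel : genX ^ 8 = 1 ∧ genX ^ 4 ≠ 1 ∧ genY ^ 2 = 1 ∧ genY ≠ 1 ∧
    genY * genX * genY⁻¹ = genX ^ 3 := by
  decide +kernel

/-- The explicit Sylow 2-subgroup. -/
def sylowSub : Subgroup (GL (Fin 2) (ZMod 3)) where
  carrier := {g | ∃ i : Fin 8, ∃ j : Fin 2, g = genX ^ (i : ℕ) * genY ^ (j : ℕ)}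
  one_mem' := ⟨0, 0, by decide +kernel⟩
  mul_mem' := by
    rintro _ _ ⟨i, j, rfl⟩ ⟨k, l, rfl⟩
    revert i j k l
    decide +kernel
  inv_mem' := by
    rintro _ ⟨i, j, rfl⟩
    revert i j
    decide +kernel

lemma card_sylowSub : Nat.card sylowSub = 16 := by
  let f : Fin 8 × Fin 2 → sylowSub := fun x => ⟨genX ^ (x.1 : ℕ) * genY ^ (x.2 : ℕ), x.1, x.2, rfl⟩
  have hinj : ∀ x y : Fin 8 × Fin 2,
      genX ^ (x.1 : ℕ) * genY ^ (x.2 : ℕ) = genX ^ (y.1 : ℕ) * genY ^ (y.2 : ℕ) → x = y := by
    decide +kernel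
  have hf : Function.Bijective f := ⟨fun x y h => hinj x y (congrArg Subtype.val h),
    fun ⟨g, i, j, hg⟩ => ⟨(i, j), Subtype.ext hg.symm⟩⟩
  rw [← Nat.card_eq_of_bijective f hf]
  simp

lemma card_gl : Nat.card (GL (Fin 2) (ZMod 3)) = 48 := by
  rw [Matrix.card_GL_field]
  simp [Fin.prod_univ_two]

lemma isQuasiDihedral_sixteen (H : Subgroup (GL (Fin 2) (ZMod 3))) (hH : Nat.card H = 16) :
    Cfsg.IsQuasiDihedral H := by
  have hf : (Nat.card (GL (Fin 2) (ZMod 3))).factorization 2 = 4 := by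
    rw [card_gl, Nat.factorization_def _ Nat.prime_two]
    rw [show (48 : ℕ) = 2 ^ 4 * 3 by norm_num, padicValNat.mul (by norm_num) (by norm_num),
      padicValNat.prime_pow, padicValNat.eq_zero_of_not_dvd (by norm_num)]
  let S₁ : Sylow 2 (GL (Fin 2) (ZMod 3)) := Sylow.ofCard H (by rw [hH, hf]; norm_num)
  let S₂ : Sylow 2 (GL (Fin 2) (ZMod 3)) :=
    Sylow.ofCard sylowSub (by rw [card_sylowSub, hf]; norm_num)
  obtain ⟨g, hg⟩ := MulAction.exists_smul_eq (GL (Fin 2) (ZMod 3)) S₂ S₁
  have hHg : H = sylowSub.map (MulAut.conj g).toMonoidHom := by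
    have := congrArg (fun S : Sylow 2 (GL (Fin 2) (ZMod 3)) =>
      (S : Subgroup (GL (Fin 2) (ZMod 3)))) hg
    exact this.symm
  have hX : genX ∈ sylowSub := ⟨1, 0, by simp⟩
  have hY : genY ∈ sylowSub := ⟨0, 1, by simp⟩
  have hxH : MulAut.conj g genX ∈ H := by rw [hHg]; exact Subgroup.mem_map_of_mem _ hX
  have hyH : MulAut.conj g genY ∈ H := by rw [hHg]; exact Subgroup.mem_map_of_mem _ hY
  obtain ⟨r1, r2, r3, r4, r5⟩ := gen_rel
  refine ⟨3, le_rfl, by rw [hH]; norm_num, ⟨_, hxH⟩, ⟨_, hyH⟩, ?_, ?_, ?_⟩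
  · rw [Subgroup.orderOf_mk, MulEquiv.orderOf_eq]
    exact orderOf_eq_prime_pow (p := 2) (n := 2) (by simpa using r2) (by simpa using r1)
  · rw [Subgroup.orderOf_mk, MulEquiv.orderOf_eq]
    exact orderOf_eq_prime r3 r4
  · apply Subtype.ext
    simp only [Subgroup.coe_mul, InvMemClass.coe_inv, SubmonoidClass.coe_pow]
    rw [← map_inv, ← map_mul, ← map_mul, ← map_pow, r5]
    norm_num


/-- Let q be a prime, V a non-trivial finite vector space over the field with q elements, and G a non-trivial finite p-group (p prime) acting faithfully and linearly on V and transitively on the non-zero vectors. Then either q = 2 and G has prime order p = |V| − 1; or p = 2, V has q elements with q = 2^m + 1 and G is cyclic of order 2^m; or p = 2, q = 3, V has 9 elements and G is cyclic of order 8, quaternion of order 8, or semidihedral of order 16. -/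
theorem result (q : ℕ) [Fact q.Prime] {V : Type*} [AddCommGroup V] [Module (ZMod q) V] [Finite V] [Nontrivial V]
    {G : Type*} [Group G] [Finite G] [Nontrivial G] (p : ℕ) [Fact p.Prime] (hG : IsPGroup p G)
    (ρ : G →* (V ≃ₗ[ZMod q] V)) (hρ : Function.Injective ρ)
    (htrans : ∀ v w : V, v ≠ 0 → w ≠ 0 → ∃ g : G, ρ g v = w) :
    (q = 2 ∧ p = Nat.card V - 1 ∧ Nat.card G = p) ∨
    (p = 2 ∧ Nat.card V = q ∧ (∃ m : ℕ, q = 2 ^ m + 1 ∧ Nat.card G = 2 ^ m) ∧ IsCyclic G) ∨
    (p = 2 ∧ q = 3 ∧ Nat.card V = 9 ∧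
      ((IsCyclic G ∧ Nat.card G = 8) ∨ Nonempty (G ≃* QuaternionGroup 2) ∨ (Cfsg.IsQuasiDihedral G ∧ Nat.card G = 16))) := by
  classical
  have : Fintype V := Fintype.ofFinite V
  obtain ⟨v₀, hv₀⟩ := exists_ne (0 : V)
  obtain ⟨d, hd⟩ : ∃ d, Nat.card V = q ^ d :=
    ⟨Module.finrank (ZMod q) V, by rw [Module.natCard_eq_pow_finrank (K := ZMod q), Nat.card_zmod]⟩
  have hq : q.Prime := Fact.out
  have hp : p.Prime := Fact.out
  obtain ⟨b, hb⟩ := (IsPGroup.iff_card).1 hG
  have hd0 : d ≠ 0 := by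
    rintro rfl
    rw [pow_zero] at hd
    exact (Finite.one_lt_card (α := V)).ne' hd
  letI : MulAction G V :=
    { smul := fun g v => ρ g v
      one_smul := fun v => by show ρ 1 v = v; rw [map_one]; rfl
      mul_smul := fun g h v => by show ρ (g * h) v = _; rw [map_mul]; rfl }
  have horbit : MulAction.orbit G v₀ = {w : V | w ≠ 0} := by
    ext w
    constructor
    · rintro ⟨g, rfl⟩
      exact fun h => hv₀ ((ρ g).injective (h.trans (map_zero _).symm))
    · exact fun hw => htrans v₀ w hv₀ hw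
  have hidx : (MulAction.stabilizer G v₀).index = Nat.card V - 1 := by
    rw [MulAction.index_stabilizer, horbit, show {w : V | w ≠ 0} = {(0 : V)}ᶜ from rfl,
      Set.ncard_compl, Set.ncard_singleton]
  have hdvd : Nat.card V - 1 ∣ p ^ b := by
    rw [← hidx, ← hb]; exact Subgroup.index_dvd_card _
  obtain ⟨a, hab, ha⟩ := (Nat.dvd_prime_pow hp).1 hdvd
  rw [hd] at ha
  have hqd : q ^ d = p ^ a + 1 := by
    have := Nat.one_le_pow d q hq.pos
    omega
  have hbne : b ≠ 0 := fun h => by
    rw [h, pow_zero] at hb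
    exact (Finite.one_lt_card (α := G)).ne' hb
  rcases hq.eq_two_or_odd' with rfl | hqo
  · -- two elements in the field
    left
    refine ⟨rfl, ?_⟩
    have ha0 : a ≠ 0 := by
      rintro rfl
      rw [pow_zero] at hqd
      have hc : Nat.card {w : V // w ≠ 0} = 1 := by
        rw [Nat.card_eq_fintype_card, Fintype.card_subtype_compl, Fintype.card_subtype_eq,
          ← Nat.card_eq_fintype_card, hd, hqd, Nat.add_sub_cancel]
      have hsub := (Nat.card_eq_one_iff_unique.1 hc).1
      obtain ⟨g, hg⟩ := exists_ne (1 : G)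
      refine hg (hρ (LinearEquiv.ext fun w => ?_))
      rw [map_one]
      by_cases hw : w = 0
      · subst hw; simp
      · exact congrArg Subtype.val (hsub.elim (⟨ρ g w, by simpa using hw⟩ : {w : V // w ≠ 0}) ⟨w, hw⟩)
    have hpodd : Odd p := by
      rcases hp.eq_two_or_odd' with rfl | h
      · exfalso
        have h1 : 2 ∣ 2 ^ a := dvd_pow_self 2 ha0
        have h2 : 2 ∣ 2 ^ d := dvd_pow_self 2 hd0
        omega
      · exact h
    obtain rfl := two_pow_eq p a d hp hpodd ha0 hqd.symm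
    rw [pow_one] at hqd
    refine ⟨by omega, ?_⟩
    let π : G →* Equiv.Perm {w : V // w ≠ 0} :=
      { toFun := fun g => Equiv.Perm.subtypePerm (ρ g).toEquiv (fun w => by simp)
        map_one' := by ext w; simp
        map_mul' := fun g h => by ext w; simp }
    have hπ : Function.Injective π := fun g h hgh => hρ <| LinearEquiv.ext fun w => by
      by_cases hw : w = 0
      · subst hw; simp
      · exact congrArg Subtype.val (Equiv.ext_iff.1 hgh ⟨w, hw⟩)
    have h1 : Nat.card G ∣ p.factorial := by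
      have := Subgroup.card_dvd_of_injective π hπ
      rwa [Nat.card_perm, Nat.card_eq_fintype_card (α := {w : V // w ≠ 0}),
        Fintype.card_subtype_compl, Fintype.card_subtype_eq, ← Nat.card_eq_fintype_card, hd, hqd,
        Nat.add_sub_cancel] at this
    rw [hb] at h1 ⊢
    have hb1 : b = 1 := by have := factorial_bound hp h1; omega
    rw [hb1, pow_one]
  · -- odd characteristic
    have hpodd2 : p = 2 := by
      rcases hp.eq_two_or_odd' with h | h
      · exact h
      · exfalso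
        have h1 : Odd (q ^ d) := hqo.pow
        have h2 : Odd (p ^ a) := h.pow
        rw [Nat.odd_iff] at h1 h2
        omega
    subst hpodd2
    rcases odd_prime_pow_eq q d a hq hqo hd0 hqd with rfl | ⟨rfl, rfl⟩
    · right; left
      rw [pow_one] at hd hqd
      have hfin : Module.finrank (ZMod q) V = 1 := by
        have := Module.natCard_eq_pow_finrank (K := ZMod q) (V := V)
        rw [hd, Nat.card_zmod] at this
        exact ((Nat.pow_eq_self_iff hq.one_lt).1 this.symm)
      have hspan : ∀ w : V, ∃ c : ZMod q, w = c • v₀ := fun w => by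
        obtain ⟨c, hc⟩ := exists_smul_eq_of_finrank_eq_one hfin hv₀ w
        exact ⟨c, hc.symm⟩
      obtain ⟨hcyc, hinj⟩ := order_two_line q ρ hρ v₀ hv₀ hspan
      refine ⟨rfl, hd, ⟨a, hqd, ?_⟩, hcyc⟩
      have hstab : MulAction.stabilizer G v₀ = ⊥ := by
        rw [eq_bot_iff]
        intro g hg
        exact Subgroup.mem_bot.2 (hinj g 1 (by rw [map_one]; exact hg))
      have := hidx
      rw [hstab, Subgroup.index_bot, hd] at this
      omega
    · right; right
      rw [show (3 : ℕ) ^ 2 = 9 from rfl] at hd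
      refine ⟨rfl, rfl, hd, ?_⟩
      have ha3 : a = 3 := Nat.pow_right_injective le_rfl (by norm_num at hqd ⊢; omega)
      subst ha3
      have hfin : Module.finrank (ZMod 3) V = 2 := by
        have := Module.natCard_eq_pow_finrank (K := ZMod 3) (V := V)
        rw [hd, Nat.card_zmod] at this
        exact Nat.pow_right_injective (by norm_num : 2 ≤ 3) (this.symm.trans (by norm_num))
      let e : V ≃ₗ[ZMod 3] (Fin 2 → ZMod 3) :=
        (Module.finBasisOfFinrankEq (ZMod 3) V hfin).equivFun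
      let ι : G →* GL (Fin 2) (ZMod 3) :=
        Matrix.GeneralLinearGroup.toLin.symm.toMonoidHom.comp
          ((LinearMap.GeneralLinearGroup.generalLinearEquiv (ZMod 3) (Fin 2 → ZMod 3)).symm.toMonoidHom.comp
            { toFun := fun g => (e.symm.trans ((ρ g).trans e))
              map_one' := by ext w; simp
              map_mul' := fun g h => by ext w; simp })
      have hι : Function.Injective ι := by
        refine fun g h hgh => hρ (LinearEquiv.ext fun w => ?_)
        have h1 : (e.symm.trans ((ρ g).trans e)) = e.symm.trans ((ρ h).trans e) := by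
          have := Matrix.GeneralLinearGroup.toLin.symm.injective hgh
          exact (LinearMap.GeneralLinearGroup.generalLinearEquiv (ZMod 3) (Fin 2 → ZMod 3)).symm.injective this
        have := congrArg (fun f : (Fin 2 → ZMod 3) ≃ₗ[ZMod 3] (Fin 2 → ZMod 3) => f (e w)) h1
        simpa using this
      have h48 : Nat.card G ∣ 48 := card_gl ▸ Subgroup.card_dvd_of_injective ι hι
      have h8 : 8 ∣ Nat.card G := by
        rw [hb]; exact (pow_dvd_pow 2 hab : 2 ^ 3 ∣ 2 ^ b)
      have hcases : Nat.card G = 8 ∨ Nat.card G = 16 := by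
        rw [hb] at h48 ⊢
        have hb4 : b ≤ 4 := by
          by_contra hcon
          have := (pow_dvd_pow 2 (show 5 ≤ b by omega)).trans h48
          omega
        interval_cases b <;> simp_all
      rcases hcases with h8' | h16
      · have hstab : MulAction.stabilizer G v₀ = ⊥ := by
          apply Subgroup.eq_bot_of_card_eq
          have := Subgroup.card_mul_index (MulAction.stabilizer G v₀)
          rw [hidx, hd, h8'] at this
          omega
        have hfree : ∀ g : G, ∀ v : V, v ≠ 0 → ρ g v = v → g = 1 := by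
          intro g v hv hgv
          obtain ⟨h, hh⟩ := htrans v₀ v hv₀ hv
          have : h⁻¹ * g * h ∈ MulAction.stabilizer G v₀ := by
            show ρ (h⁻¹ * g * h) v₀ = v₀
            rw [map_mul, map_mul, LinearEquiv.mul_apply, LinearEquiv.mul_apply, hh, hgv, ← hh]
            show (ρ h⁻¹ * ρ h) v₀ = v₀
            rw [← map_mul, inv_mul_cancel, map_one]; rfl
          rw [hstab, Subgroup.mem_bot] at this
          calc g = h * (h⁻¹ * g * h) * h⁻¹ := by group
            _ = 1 := by rw [this]; group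
        have hneg : ∀ g : G, g ^ 2 = 1 → g ≠ 1 → ∀ v : V, ρ g v = -v := by
          intro g hg2 hg1 v
          by_contra hne
          refine hg1 (hfree g (v + ρ g v) (fun h => hne (eq_neg_of_add_eq_zero_right h)) ?_)
          rw [map_add, ← LinearEquiv.mul_apply, ← map_mul, ← pow_two, hg2, map_one]
          exact add_comm _ _
        by_cases hcyc : IsCyclic G
        · exact Or.inl ⟨hcyc, h8'⟩
        · refine Or.inr (Or.inl (exists_quaternion h8' ?_ hcyc))
          exact fun x y hx hy hx1 hy1 =>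
            hρ (LinearEquiv.ext fun v => (hneg x hx hx1 v).trans (hneg y hy hy1 v).symm)
      · refine Or.inr (Or.inr ⟨?_, h16⟩)
        have hH : Nat.card ι.range = 16 := by
          rw [← h16]; exact (Nat.card_congr (MonoidHom.ofInjective hι).toEquiv).symm
        obtain ⟨n, hn, hc, x, y, hx, hy, hxy⟩ := isQuasiDihedral_sixteen ι.range hH
        refine ⟨n, hn, by rw [h16, ← hH, hc], (MonoidHom.ofInjective hι).symm x,
          (MonoidHom.ofInjective hι).symm y, by rw [MulEquiv.orderOf_eq, hx],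
          by rw [MulEquiv.orderOf_eq, hy], ?_⟩
        rw [← map_inv, ← map_mul, ← map_mul, hxy, map_pow]

end Cfsg.Agent.S3370
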