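import Cfsg.Statements.S3371
import Cfsg.Agent.TwoFusionB.HalfTransitive
import Cfsg.Agent.TwoFusionB.NormalPair


set_option autoImplicit false
open Cfsg

namespace Cfsg.Agent.S3371

open TwoFusionB TwoFusionB.HalfTrans

section

variable {q : ℕ} [Fact q.Prime] {V : Type*} [AddCommGroup V] [Module (ZMod q) V] [Finite V]
variable {G : Type*} [Group G] [Finite G] (ρ : G →* (V ≃ₗ[ZMod q] V)) {p : ℕ} [Fact p.Prime]

/-- If all elements of order `p` are central the action is semiregular. -/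
theorem semiregular (hG : IsPGroup p G) (hρ : Function.Injective ρ) (hpq : p ≠ q)
    (hk : ∀ v w : V, v ≠ 0 → w ≠ 0 → Nat.card ↥(stab ρ v) = Nat.card ↥(stab ρ w))
    (hc : ∀ x : G, orderOf x = p → x ∈ Subgroup.center G) :
    ∀ v : V, v ≠ 0 → ∀ g : G, ρ g v = v → g = 1 := by
  intro v hv g hg
  by_contra hg1
  obtain ⟨j, hj⟩ := (IsPGroup.iff_card (p := p)).mp (hG.to_subgroup (Subgroup.zpowers g))
  have hj0 : j ≠ 0 := fun h => hg1 (by
    rw [h, pow_zero, Nat.card_zpowers, orderOf_eq_one_iff] at hj; exact hj)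
  obtain ⟨x, hx⟩ := exists_prime_orderOf_dvd_card' (G := ↥(Subgroup.zpowers g)) p
    (by rw [hj]; exact dvd_pow_self p hj0)
  rw [← Subgroup.orderOf_coe] at hx
  exact hv (central_free ρ hk hpq hρ (hc _ hx) hx v
    ((mem_stab ρ).mp (Subgroup.zpowers_le.mpr ((mem_stab ρ).mpr hg) x.2)))

variable [Nontrivial V]

/-- A normal subgroup of type `(p, p)` gives the monomial group or the order `81` exception. -/
theorem pair_conclusion (hG : IsPGroup p G) (hρ : Function.Injective ρ) (hpq : p ≠ q)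
    (hk : ∀ v w : V, v ≠ 0 → w ≠ 0 → Nat.card ↥(stab ρ v) = Nat.card ↥(stab ρ w))
    (hpair : HasNormalPair p G) :
    (Nat.card V = q ^ 2 ∧ (∃ m : ℕ, q = 2 ^ m + 1) ∧
      ∃ e : V ≃ₗ[ZMod q] (Fin 2 → ZMod q), ∀ f : (Fin 2 → ZMod q) ≃ₗ[ZMod q] (Fin 2 → ZMod q),
        (∃ g : G, f = e.symm.trans ((ρ g).trans e)) ↔
        ∃ a s : ZMod q, a ≠ 0 ∧ (s = 1 ∨ s = -1) ∧
          ((∀ v, f v = ![a * v 0, s * a⁻¹ * v 1]) ∨ (∀ v, f v = ![s * a⁻¹ * v 1, a * v 0]))) ∨
    (Nat.card V = 81 ∧ q = 3 ∧ p = 2) := by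
  classical
  obtain ⟨z, e₀, hz, hzc, he₀, hne, hcomm⟩ := hpair
  obtain ⟨hp2, e, hee, ⟨u₀, hu₀0, hu₀⟩, ⟨w₀, hw₀0, hw₀⟩, hfixU, hcases, hneg, hswap⟩ :=
    pair_case ρ hk hpq hρ hz hzc he₀ hne hcomm
  subst hp2
  have hq2 : q ≠ 2 := fun h => hpq h.symm
  have h2 : (2 : ZMod q) ≠ 0 := fun h => by
    have : ((2 : ℕ) : ZMod q) = 0 := by exact_mod_cast h
    rw [ZMod.natCast_eq_zero_iff] at this
    exact hq2 ((Nat.prime_dvd_prime_iff_eq Fact.out Nat.prime_two).mp this)
  have hhalf : ∀ {a : V}, a = -a → a = 0 := fun {a} h =>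
    (smul_eq_zero.mp (show (2 : ZMod q) • a = 0 by
      rw [two_smul]; nth_rw 2 [h]; exact add_neg_cancel a)).resolve_left h2
  have hsep : ∀ {a b a' b' : V}, ρ e a = a → ρ e b = -b → ρ e a' = a' → ρ e b' = -b' →
      a + b = a' + b' → a = a' ∧ b = b' := by
    intro a b a' b' ha hb ha' hb' h
    have h2 := congrArg (ρ e) h
    rw [map_add, map_add, ha, hb, ha', hb'] at h2
    have hd : a + a = a' + a' := by
      calc a + a = (a + b) + (a + -b) := by abel
        _ = (a' + b') + (a' + -b') := by rw [h, h2]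
        _ = a' + a' := by abel
    have h0 : a - a' = 0 := hhalf (by rw [neg_sub, sub_eq_sub_iff_add_eq_add]; exact hd)
    have haa : a = a' := sub_eq_zero.mp h0
    subst haa
    exact ⟨rfl, add_left_cancel h⟩
  -- the swaps
  have hswap' : ∀ {u w : V}, u ≠ 0 → w ≠ 0 → ρ e u = u → ρ e w = -w →
      ∃ h : G, ρ h u = w ∧ ρ h w = u ∧ h * e = e * z * h := by
    intro u w hu hw heu hew
    obtain ⟨h, h1, h2⟩ := hswap u w hu hw heu hew
    refine ⟨h, h1, h2, (hcases h).resolve_left fun hc => hw (hhalf ?_)⟩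
    have := congrArg (fun g => ρ g u) hc
    simp only [mul_app, heu, h1, hew] at this
    exact this
  let U : Submodule (ZMod q) V := LinearMap.ker ((ρ e).toLinearMap - LinearMap.id)
  let W : Submodule (ZMod q) V := LinearMap.ker ((ρ e).toLinearMap + LinearMap.id)
  have hUm : ∀ {v}, v ∈ U ↔ ρ e v = v := fun {v} => by simp [U, sub_eq_zero]
  have hWm : ∀ {v}, v ∈ W ↔ ρ e v = -v := fun {v} => by simp [W, add_eq_zero_iff_eq_neg]
  obtain ⟨h₀, h₀u, h₀w, h₀e⟩ := hswap' hu₀0 hw₀0 hu₀ hw₀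
  have hWU : Nat.card ↥W = Nat.card ↥U := by
    refine Nat.card_congr ((ρ h₀).toEquiv.subtypeEquiv fun a => ?_)
    show a ∈ W ↔ ρ h₀ a ∈ U
    rw [hWm, hUm]
    constructor
    · intro ha
      have h : ρ (e * z) (ρ h₀ a) = -ρ h₀ a := by rw [← mul_app, ← h₀e, mul_app, ha, map_neg]
      rw [mul_app, hneg, map_neg] at h
      exact neg_injective h
    · intro ha
      apply (ρ h₀).injective
      rw [← mul_app, h₀e, mul_app, mul_app, hneg, map_neg, ha, map_neg]
  have hV : Nat.card V = Nat.card ↥U * Nat.card ↥U := by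
    let f : ↥U × ↥W → V := fun x => x.1.1 + x.2.1
    have hfb : Function.Bijective f := by
      constructor
      · rintro ⟨⟨a, ha⟩, ⟨b, hb⟩⟩ ⟨⟨a', ha'⟩, ⟨b', hb'⟩⟩ h
        obtain ⟨rfl, rfl⟩ := hsep (hUm.mp ha) (hWm.mp hb) (hUm.mp ha') (hWm.mp hb') h
        rfl
      · intro v
        have hee' : ρ e (ρ e v) = v := by rw [← mul_app, hee, one_app]
        refine ⟨(⟨(2 : ZMod q)⁻¹ • (v + ρ e v), hUm.mpr ?_⟩,
          ⟨(2 : ZMod q)⁻¹ • (v - ρ e v), hWm.mpr ?_⟩), ?_⟩
        · rw [map_smul, map_add, hee', add_comm]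
        · rw [map_smul, map_sub, hee', ← smul_neg, neg_sub]
        · show (2 : ZMod q)⁻¹ • (v + ρ e v) + (2 : ZMod q)⁻¹ • (v - ρ e v) = v
          rw [← smul_add, show v + ρ e v + (v - ρ e v) = (2 : ZMod q) • v by rw [two_smul]; abel,
            smul_smul, inv_mul_cancel₀ h2, one_smul]
    rw [← Nat.card_congr (Equiv.ofBijective f hfb), Nat.card_prod, hWU]
  -- the fixed space minus zero is one orbit
  obtain ⟨b, hb⟩ : ∃ b, Nat.card ↥U = 2 ^ b + 1 := by
    have horb : {x : V | ∃ g : ↥(Subgroup.centralizer ({e} : Set G)),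
        (ρ.comp (Subgroup.centralizer ({e} : Set G)).subtype) g u₀ = x} = (U : Set V) \ {0} := by
      ext x
      constructor
      · rintro ⟨g, rfl⟩
        refine ⟨hUm.mpr ?_, fun h => hu₀0 ((ρ (g : G)).map_eq_zero_iff.mp h)⟩
        show ρ e (ρ g u₀) = ρ g u₀
        rw [← mul_app, ← Subgroup.mem_centralizer_singleton_iff.mp g.2, mul_app, hu₀]
      · rintro ⟨hx, hx0⟩
        obtain ⟨h, hh1, hh2, he'⟩ := hswap' hx0 hw₀0 (hUm.mp hx) hw₀
        refine ⟨⟨h * h₀, Subgroup.mem_centralizer_singleton_iff.mpr ?_⟩, ?_⟩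
        · calc h * h₀ * e = h * (e * z * h₀) := by rw [mul_assoc, h₀e]
            _ = h * e * z * h₀ := by simp only [mul_assoc]
            _ = e * (z * (h * z)) * h₀ := by rw [he']; simp only [mul_assoc]
            _ = e * (h * h₀) := by
              rw [Subgroup.mem_center_iff.mp hzc h, ← mul_assoc z z, ← pow_two, ← hz,
                pow_orderOf_eq_one, one_mul, mul_assoc]
        · show ρ (h * h₀) u₀ = x
          rw [mul_app, h₀u, hh2]
    have hdvd := Dvd.intro _ (orbit_mul_stab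
      (ρ.comp (Subgroup.centralizer ({e} : Set G)).subtype) u₀)
    obtain ⟨k, hk⟩ := (IsPGroup.iff_card (p := 2)).mp hG
    have hd2 := hdvd.trans (hk ▸ Subgroup.card_subgroup_dvd_card _)
    obtain ⟨b, -, hb⟩ := (Nat.dvd_prime_pow Nat.prime_two).mp hd2
    refine ⟨b, ?_⟩
    rw [← hb, Nat.card_coe_set_eq, horb, Set.ncard_diff_singleton_of_mem U.zero_mem,
      ← Nat.card_coe_set_eq]
    exact (Nat.succ_pred_eq_of_pos Nat.card_pos).symm
  obtain ⟨a, ha⟩ : ∃ a, Nat.card ↥U = q ^ a :=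
    ⟨_, by rw [Module.natCard_eq_pow_finrank (K := ZMod q), Nat.card_zmod]⟩
  have ha1 : 1 ≤ a := by
    rcases Nat.eq_zero_or_pos a with rfl | h
    · rw [pow_zero, hb] at ha
      have := Nat.two_pow_pos b
      omega
    · exact h
  rcases pow_sub_one_two_pow Fact.out hq2 ha1 (ha.symm.trans hb) with rfl | ⟨rfl, rfl⟩
  swap
  · exact Or.inr ⟨by rw [hV, ha]; norm_num, rfl, rfl⟩
  rw [pow_one] at ha
  have hVq : Nat.card V = q ^ 2 := by rw [hV, ha, pow_two]
  left
  refine ⟨hVq, ⟨b, ha.symm.trans hb⟩, ?_⟩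
  -- coordinates
  let L : (Fin 2 → ZMod q) →ₗ[ZMod q] V :=
    (LinearMap.proj 0).smulRight u₀ + (LinearMap.proj 1).smulRight w₀
  have hL : ∀ x, L x = x 0 • u₀ + x 1 • w₀ := fun x => rfl
  have hLinj : Function.Injective L := by
    intro x y h
    rw [hL, hL] at h
    obtain ⟨h0, h1⟩ := hsep (by rw [map_smul, hu₀]) (by rw [map_smul, hw₀, smul_neg])
      (by rw [map_smul, hu₀]) (by rw [map_smul, hw₀, smul_neg]) h
    funext i
    fin_cases i
    · exact smul_left_injective _ hu₀0 h0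
    · exact smul_left_injective _ hw₀0 h1
  have hLbij : Function.Bijective L := (Nat.bijective_iff_injective_and_card L).mpr
    ⟨hLinj, by rw [hVq, Nat.card_fun, Nat.card_zmod, Nat.card_fin]⟩
  let E := LinearEquiv.ofBijective L hLbij
  have hE : ∀ x, E x = x 0 • u₀ + x 1 • w₀ := hL
  have hEs : ∀ c d : ZMod q, E.symm (c • u₀ + d • w₀) = ![c, d] := fun c d => by
    rw [LinearEquiv.symm_apply_eq, hE]; simp
  have hline : ∀ {v}, ρ e v = v → ∃ c : ZMod q, v = c • u₀ := by
    intro v hv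
    obtain ⟨x, rfl⟩ := hLbij.2 v
    rw [hL] at hv ⊢
    obtain ⟨h0, h1⟩ := hsep (a := x 0 • u₀) (b := x 1 • w₀) (b' := 0) (a' := x 0 • u₀ + x 1 • w₀)
      (by rw [map_smul, hu₀]) (by rw [map_smul, hw₀, smul_neg]) hv
      (by simp) (by rw [add_zero])
    exact ⟨x 0, h0.symm⟩
  have hlineW : ∀ {v}, ρ e v = -v → ∃ c : ZMod q, v = c • w₀ := by
    intro v hv
    obtain ⟨x, rfl⟩ := hLbij.2 v
    rw [hL] at hv ⊢
    obtain ⟨h0, h1⟩ := hsep (a := x 0 • u₀) (b := x 1 • w₀) (a' := 0) (b' := x 0 • u₀ + x 1 • w₀)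
      (by rw [map_smul, hu₀]) (by rw [map_smul, hw₀, smul_neg]) (map_zero _) hv
      (by rw [zero_add])
    exact ⟨x 1, h1.symm⟩
  have hdiagform : ∀ g : G, g * e = e * g →
      ∃ c d : ZMod q, c ≠ 0 ∧ d ≠ 0 ∧ ρ g u₀ = c • u₀ ∧ ρ g w₀ = d • w₀ := by
    intro g hg
    obtain ⟨c, hc⟩ := hline (v := ρ g u₀) (by rw [← mul_app, ← hg, mul_app, hu₀])
    obtain ⟨d, hd⟩ := hlineW (v := ρ g w₀) (by rw [← mul_app, ← hg, mul_app, hw₀, map_neg])
    refine ⟨c, d, fun h => ?_, fun h => ?_, hc, hd⟩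
    · rw [h, zero_smul] at hc; exact hu₀0 ((ρ g).map_eq_zero_iff.mp hc)
    · rw [h, zero_smul] at hd; exact hw₀0 ((ρ g).map_eq_zero_iff.mp hd)
  have hbasis : ∀ g : G, ρ g u₀ = u₀ → ρ g w₀ = w₀ → g = 1 := fun g h1 h2 =>
    ext_app ρ hρ fun v => by
      obtain ⟨x, rfl⟩ := hLbij.2 v
      rw [hL, map_add, map_smul, map_smul, h1, h2, one_app]
  have he1 : e ≠ 1 := fun h => hw₀0 (hhalf (by
    have := hw₀
    rwa [h, one_app] at this))
  -- the stabiliser of `u₀`
  have hK : ∀ g : G, ρ g u₀ = u₀ → g = 1 ∨ g = e := by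
    have hsum0 : u₀ + w₀ ≠ 0 := fun h => hu₀0
      (hsep (a' := 0) (b' := 0) hu₀ hw₀ (map_zero _) (by simp) (by rw [h, add_zero])).1
    have hle2 : Nat.card ↥(stab ρ (u₀ + w₀)) ≤ 2 := by
      have key : ∀ g ∈ stab ρ (u₀ + w₀), g = 1 ∨ (ρ g u₀ = w₀ ∧ ρ g w₀ = u₀) := by
        intro g hg
        have hs : ρ g u₀ + ρ g w₀ = u₀ + w₀ := by rw [← map_add]; exact (mem_stab ρ).mp hg
        rcases hcases g with hg' | hg'
        · obtain ⟨c, d, -, -, hc, hd⟩ := hdiagform g hg'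
          rw [hc, hd] at hs
          obtain ⟨h1, h2⟩ := hsep (by rw [map_smul, hu₀]) (by rw [map_smul, hw₀, smul_neg])
            hu₀ hw₀ hs
          exact Or.inl (hbasis g (hc.trans h1) (hd.trans h2))
        · right
          have h1 : ρ e (ρ g w₀) = ρ g w₀ := by
            have h : ρ (e * z) (ρ g w₀) = -ρ g w₀ := by
              rw [← mul_app, ← hg', mul_app, hw₀, map_neg]
            rw [mul_app, hneg, map_neg] at h
            exact neg_injective h
          have h2 : ρ e (ρ g u₀) = -ρ g u₀ := by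
            have h : ρ (e * z) (ρ g u₀) = ρ g u₀ := by rw [← mul_app, ← hg', mul_app, hu₀]
            rw [mul_app, hneg, map_neg] at h
            exact neg_eq_iff_eq_neg.mp h
          obtain ⟨r1, r2⟩ := hsep h1 h2 hu₀ hw₀ ((add_comm _ _).trans hs)
          exact ⟨r2, r1⟩
      let φ : ↥(stab ρ (u₀ + w₀)) → Fin 2 := fun g => if g.1 = 1 then 0 else 1
      have hφ : Function.Injective φ := by
        intro g1 g2 h
        by_cases e1 : g1.1 = 1 <;> by_cases e2 : g2.1 = 1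
        · exact Subtype.ext (e1.trans e2.symm)
        · simp only [φ] at h
          rw [if_pos e1, if_neg e2] at h
          exact absurd h (by decide)
        · simp only [φ] at h
          rw [if_neg e1, if_pos e2] at h
          exact absurd h (by decide)
        · obtain ⟨a1, b1⟩ := (key _ g1.2).resolve_left e1
          obtain ⟨a2, b2⟩ := (key _ g2.2).resolve_left e2
          refine Subtype.ext (inv_mul_eq_one.mp (hbasis _ ?_ ?_))
          · rw [mul_app, a2]; exact inv_app ρ a1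
          · rw [mul_app, b2]; exact inv_app ρ b1
      simpa using Nat.card_le_card_of_injective φ hφ
    rw [hk _ _ hsum0 hu₀0] at hle2
    intro g hg
    by_contra hne
    push_neg at hne
    have : Fintype ↥(stab ρ u₀) := Fintype.ofFinite _
    have h3 : 3 ≤ Nat.card ↥(stab ρ u₀) := by
      let s : Finset ↥(stab ρ u₀) := {⟨1, one_mem _⟩, ⟨e, hu₀⟩, ⟨g, hg⟩}
      have hs : s.card = 3 := Finset.card_eq_three.mpr ⟨_, _, _,
        fun h => he1 (congrArg Subtype.val h).symm, fun h => hne.1 (congrArg Subtype.val h).symm,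
        fun h => hne.2 (congrArg Subtype.val h).symm, rfl⟩
      rw [Nat.card_eq_fintype_card, ← hs]
      exact s.card_le_univ
    omega
  have hD : ∀ c : ZMod q, c ≠ 0 →
      ∃ g : G, ρ g u₀ = c • u₀ ∧ ρ g w₀ = c⁻¹ • w₀ ∧ g * e = e * g := by
    intro c hc
    obtain ⟨h, hh1, hh2, he'⟩ := hswap' hu₀0 (w := c • w₀) (smul_ne_zero hc hw₀0) hu₀
      (by rw [map_smul, hw₀, smul_neg])
    rw [map_smul] at hh2
    refine ⟨h₀ * h, ?_, ?_, ?_⟩
    · rw [mul_app, hh1, map_smul, h₀w]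
    · have : ρ h w₀ = c⁻¹ • u₀ := by
        rw [← hh2, smul_smul, inv_mul_cancel₀ hc, one_smul]
      rw [mul_app, this, map_smul, h₀u]
    · calc h₀ * h * e = h₀ * (e * z * h) := by rw [mul_assoc, he']
        _ = h₀ * e * z * h := by simp only [mul_assoc]
        _ = e * (z * (h₀ * z)) * h := by rw [h₀e]; simp only [mul_assoc]
        _ = e * (h₀ * h) := by
          rw [Subgroup.mem_center_iff.mp hzc h₀, ← mul_assoc z z, ← pow_two, ← hz,
            pow_orderOf_eq_one, one_mul, mul_assoc]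
  have hprod : ∀ g : G, ∀ c d : ZMod q, c ≠ 0 → ρ g u₀ = c • u₀ → ρ g w₀ = d • w₀ →
      c * d = 1 ∨ c * d = -1 := by
    intro g c d hc hgu hgw
    obtain ⟨k, hku, hkw, -⟩ := hD c⁻¹ (inv_ne_zero hc)
    rw [inv_inv] at hkw
    have h1 : ρ (k * g) u₀ = u₀ := by
      rw [mul_app, hgu, map_smul, hku, smul_smul, mul_inv_cancel₀ hc, one_smul]
    have h2 : ρ (k * g) w₀ = (c * d) • w₀ := by
      rw [mul_app, hgw, map_smul, hkw, smul_smul, mul_comm]
    rcases hK _ h1 with h | h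
    · rw [h, one_app] at h2
      exact Or.inl (smul_left_injective (ZMod q) hw₀0 (h2.symm.trans (one_smul _ _).symm))
    · rw [h, hw₀] at h2
      exact Or.inr (smul_left_injective (ZMod q) hw₀0
        (h2.symm.trans (neg_one_smul _ _).symm))
  have hdiag : ∀ c s : ZMod q, c ≠ 0 → (s = 1 ∨ s = -1) →
      ∃ g : G, ρ g u₀ = c • u₀ ∧ ρ g w₀ = (s * c⁻¹) • w₀ := by
    intro c s hc hs
    obtain ⟨k, hku, hkw, -⟩ := hD c hc
    rcases hs with rfl | rfl
    · exact ⟨k, hku, by rw [hkw, one_mul]⟩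
    · refine ⟨e * k, ?_, ?_⟩
      · rw [mul_app, hku, map_smul, hu₀]
      · rw [mul_app, hkw, map_smul, hw₀, neg_one_mul, neg_smul, smul_neg]
  refine ⟨E.symm, fun f => ⟨?_, ?_⟩⟩
  · rintro ⟨g, rfl⟩
    have hf : ∀ v, (E.symm.symm.trans ((ρ g).trans E.symm)) v
        = E.symm (v 0 • ρ g u₀ + v 1 • ρ g w₀) := fun v => by
      show E.symm (ρ g (E v)) = _
      rw [hE, map_add, map_smul, map_smul]
    rcases hcases g with hg | hg
    · obtain ⟨c, d, hc0, hd0, hc, hd⟩ := hdiagform g hg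
      refine ⟨c, c * d, hc0, hprod g c d hc0 hc hd, Or.inl fun v => ?_⟩
      rw [hf, hc, hd, smul_smul, smul_smul, hEs]
      rw [show c * d * c⁻¹ = d by field_simp]
      rw [mul_comm (v 0), mul_comm (v 1)]
    · have hgh : (g * h₀) * e = e * (g * h₀) := by
        calc g * h₀ * e = g * (e * z * h₀) := by rw [mul_assoc, h₀e]
          _ = g * e * z * h₀ := by simp only [mul_assoc]
          _ = e * (z * (g * z)) * h₀ := by rw [hg]; simp only [mul_assoc]
          _ = e * (g * h₀) := by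
            rw [Subgroup.mem_center_iff.mp hzc g, ← mul_assoc z z, ← pow_two, ← hz,
              pow_orderOf_eq_one, one_mul, mul_assoc]
      obtain ⟨c, d, hc0, hd0, hc, hd⟩ := hdiagform _ hgh
      have hp' := hprod _ c d hc0 hc hd
      rw [mul_app, h₀u] at hc
      rw [mul_app, h₀w] at hd
      refine ⟨d, c * d, hd0, hp', Or.inr fun v => ?_⟩
      rw [hf, hc, hd, smul_smul, smul_smul, add_comm, hEs]
      rw [show c * d * d⁻¹ = c by field_simp]
      rw [mul_comm (v 0), mul_comm (v 1)]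
  · rintro ⟨c, s, hc, hs, h⟩
    have hs2 : s * s = 1 := by rcases hs with rfl | rfl <;> ring
    have hs0 : s ≠ 0 := fun h => by rw [h, zero_mul] at hs2; exact zero_ne_one hs2
    rcases h with h | h
    · obtain ⟨g, hgu, hgw⟩ := hdiag c s hc hs
      refine ⟨g, LinearEquiv.ext fun v => ?_⟩
      show f v = E.symm (ρ g (E v))
      rw [h, hE, map_add, map_smul, map_smul, hgu, hgw, smul_smul, smul_smul, hEs,
        mul_comm (v 0), mul_comm (v 1)]
    · obtain ⟨g, hgu, hgw⟩ := hdiag (s * c⁻¹) s (mul_ne_zero hs0 (inv_ne_zero hc)) hs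
      have hsc : s * (s * c⁻¹)⁻¹ = c := by field_simp
      rw [hsc] at hgw
      refine ⟨g * h₀, LinearEquiv.ext fun v => ?_⟩
      show f v = E.symm (ρ (g * h₀) (E v))
      rw [h, hE, map_add, map_smul, map_smul, mul_app, mul_app, h₀u, h₀w, hgu, hgw, smul_smul,
        smul_smul, add_comm, hEs, mul_comm (v 0), mul_comm (v 1)]

/-- The dihedral case. -/
theorem dihedral_conclusion (hG : IsPGroup 2 G) (hρ : Function.Injective ρ) (hq2 : q ≠ 2)
    (hk : ∀ v w : V, v ≠ 0 → w ≠ 0 → Nat.card ↥(stab ρ v) = Nat.card ↥(stab ρ w))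
    {n : ℕ} (hn : 3 ≤ n) (e : G ≃* DihedralGroup n) :
    Nat.card V = q ^ 2 ∧ ∃ m : ℕ, q = 2 ^ m - 1 ∧ Nonempty (G ≃* DihedralGroup (2 ^ m)) := by
  classical
  obtain ⟨k, hcard⟩ := (IsPGroup.iff_card (p := 2)).mp hG
  rw [Nat.card_congr e.toEquiv, DihedralGroup.nat_card] at hcard
  obtain ⟨m, hm, rfl⟩ : ∃ m, 2 ≤ m ∧ n = 2 ^ m := by
    have hk3 : 3 ≤ k := by
      by_contra h
      have := Nat.pow_le_pow_right (show 0 < 2 by norm_num) (show k ≤ 2 by omega)
      omega
    refine ⟨k - 1, by omega, ?_⟩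
    have : 2 ^ k = 2 * 2 ^ (k - 1) := by rw [← pow_succ', Nat.sub_add_cancel (by omega)]
    omega
  obtain ⟨l, hl⟩ : ∃ l, 2 ^ m = 4 * l := ⟨2 ^ (m - 2), by
    rw [show (4 : ℕ) = 2 ^ 2 from rfl, ← pow_add]; congr 1; omega⟩
  have : NeZero (2 ^ m) := ⟨by positivity⟩
  let R : Subgroup G := (Subgroup.zpowers (DihedralGroup.r (1 : ZMod (2 ^ m)))).comap e.toMonoidHom
  have hRm : ∀ {g}, g ∈ R ↔ ∃ i, e g = DihedralGroup.r i := fun {g} => by
    rw [Subgroup.mem_comap, Subgroup.mem_zpowers_iff]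
    constructor
    · rintro ⟨i, hi⟩; exact ⟨(i : ZMod (2 ^ m)), by rw [← DihedralGroup.r_one_zpow]; exact hi.symm⟩
    · rintro ⟨i, hi⟩
      exact ⟨(i.val : ℤ), by
        rw [DihedralGroup.r_one_zpow, Int.cast_natCast, ZMod.natCast_zmod_val]; exact hi.symm⟩
  have hnR : ∀ {g}, g ∉ R → ∃ i, e g = DihedralGroup.sr i := fun {g} h => by
    rcases hh : e g with i | i
    · exact absurd (hRm.mpr ⟨i, hh⟩) h
    · exact ⟨i, rfl⟩
  have hnR' : ∀ i, e.symm (DihedralGroup.sr i) ∉ R := fun i h => by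
    obtain ⟨j, hj⟩ := hRm.mp h
    rw [MulEquiv.apply_symm_apply] at hj
    exact absurd hj (by simp)
  set hz := ((2 * l : ℕ) : ZMod (2 ^ m)) with hzdef
  have hhz : hz + hz = 0 := by
    rw [hzdef, ← Nat.cast_add, show 2 * l + 2 * l = 4 * l by ring, ← hl, ZMod.natCast_self]
  have hhz0 : hz ≠ 0 := fun h => by
    rw [hzdef, ZMod.natCast_eq_zero_iff] at h
    have := Nat.le_of_dvd (by omega) h
    omega
  set z := e.symm (DihedralGroup.r hz) with hzd
  have hzR : z ∈ R := hRm.mpr ⟨hz, by rw [hzd, MulEquiv.apply_symm_apply]⟩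
  have hneg : -hz = hz := (eq_neg_of_add_eq_zero_left hhz).symm
  have hzc : z ∈ Subgroup.center G := Subgroup.mem_center_iff.mpr fun g => e.injective (by
    rw [hzd, map_mul, map_mul, MulEquiv.apply_symm_apply]
    rcases e g with i | i
    · rw [DihedralGroup.r_mul_r, DihedralGroup.r_mul_r, add_comm]
    · rw [DihedralGroup.sr_mul_r, DihedralGroup.r_mul_sr, sub_eq_add_neg, hneg])
  have hzo : orderOf z = 2 := orderOf_eq_prime
    (by rw [pow_two, hzd, ← map_mul, DihedralGroup.r_mul_r, hhz, ← DihedralGroup.one_def, map_one])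
    (fun h => hhz0 (by
      have h' := congrArg e h
      rw [hzd, MulEquiv.apply_symm_apply, map_one, DihedralGroup.one_def] at h'
      injection h'))
  have htwo : ∀ i : ZMod (2 ^ m), i + i = 0 → i = 0 ∨ i = hz := by
    intro i hi
    have hv : ((i.val + i.val : ℕ) : ZMod (2 ^ m)) = 0 := by
      rw [Nat.cast_add, ZMod.natCast_zmod_val, hi]
    rw [ZMod.natCast_eq_zero_iff] at hv
    obtain ⟨c, hc⟩ := hv
    have := i.val_lt
    replace hc : i.val + i.val = 4 * l * c := hl ▸ hc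
    have hc2 : c < 2 := by nlinarith
    interval_cases c
    · left; rw [← ZMod.natCast_zmod_val i, show i.val = 0 by omega, Nat.cast_zero]
    · right; rw [← ZMod.natCast_zmod_val i, show i.val = 2 * l by omega]
  obtain ⟨a, ha1, haV, haI⟩ := involution_case ρ hk hq2 hρ R hzR hzc hzo
    (fun x hx hxx => by
      obtain ⟨i, hi⟩ := hRm.mp hx
      have h := congrArg e hxx
      rw [map_mul, hi, map_one, DihedralGroup.r_mul_r, DihedralGroup.one_def] at h
      rcases htwo i (by injection h) with rfl | rfl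
      · left; apply e.injective; rw [hi, map_one, DihedralGroup.one_def]
      · right; rw [hzd, ← hi, MulEquiv.symm_apply_apply])
    hG
    (fun x y hx hy => by
      obtain ⟨i, hi⟩ := hnR hx
      obtain ⟨j, hj⟩ := hnR hy
      exact hRm.mpr ⟨j - i, by rw [map_mul, hi, hj, DihedralGroup.sr_mul_sr]⟩)
    ⟨e.symm (DihedralGroup.sr 0), hnR' 0, by rw [← map_mul, DihedralGroup.sr_mul_self, map_one]⟩
    (fun t ht _ => by
      obtain ⟨i, hi⟩ := hnR ht
      refine ⟨e.symm (DihedralGroup.r (l : ZMod (2 ^ m))), e.injective ?_⟩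
      rw [map_mul, map_mul, map_mul, map_inv, MulEquiv.apply_symm_apply, hi, hzd,
        MulEquiv.apply_symm_apply, DihedralGroup.inv_r, DihedralGroup.r_mul_sr,
        DihedralGroup.sr_mul_r, DihedralGroup.r_mul_sr, hzdef]
      push_cast
      ring_nf)
  have hI : Nat.card {t : G // t ∉ R ∧ t * t = 1} = 2 ^ m := by
    rw [← Nat.card_zmod (2 ^ m)]
    refine (Nat.card_congr (Equiv.ofBijective
      (fun i => ⟨e.symm (DihedralGroup.sr i), hnR' i,
        by rw [← map_mul, DihedralGroup.sr_mul_self, map_one]⟩) ⟨fun i j h => ?_, ?_⟩)).symm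
    · simpa using e.symm.injective (congrArg Subtype.val h)
    · rintro ⟨t, ht, -⟩
      obtain ⟨i, hi⟩ := hnR ht
      refine ⟨i, Subtype.ext ?_⟩
      show e.symm _ = t
      rw [← hi, MulEquiv.symm_apply_apply]
  rw [hI] at haI
  obtain rfl := pow_add_one_two_pow Fact.out hq2 ha1 hm haI.symm
  refine ⟨haV, m, ?_, ⟨e⟩⟩
  rw [pow_one] at haI
  omega

/-- The semidihedral case. -/
theorem quasidihedral_conclusion (hG : IsPGroup 2 G) (hρ : Function.Injective ρ) (hq2 : q ≠ 2)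
    (hk : ∀ v w : V, v ≠ 0 → w ≠ 0 → Nat.card ↥(stab ρ v) = Nat.card ↥(stab ρ w))
    (h : Cfsg.IsQuasiDihedral G) :
    Nat.card V = q ^ 2 ∧ ∃ m : ℕ, q = 2 ^ m - 1 ∧ Nat.card G = 2 ^ (m + 2) := by
  classical
  obtain ⟨n, hn, hcard, x, y, hx, hy, hyx⟩ := h
  obtain ⟨j, hj⟩ : ∃ j, 2 ^ (n - 3) = j := ⟨_, rfl⟩
  have hj1 : 1 ≤ j := hj ▸ Nat.two_pow_pos _
  have hn1 : 2 ^ (n - 1) = 4 * j := by
    rw [← hj, show (4 : ℕ) = 2 ^ 2 from rfl, ← pow_add]; congr 1; omega
  have hn0 : 2 ^ n = 8 * j := by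
    rw [← hj, show (8 : ℕ) = 2 ^ 3 from rfl, ← pow_add]; congr 1; omega
  rw [hn0] at hx
  rw [hn1] at hyx
  have hxo : x ^ (8 * j) = 1 := by rw [← hx, pow_orderOf_eq_one]
  set R := Subgroup.zpowers x with hR
  have hidx : R.index = 2 := by
    have := R.card_mul_index
    rw [hcard, hR, Nat.card_zpowers, hx, pow_succ, hn0] at this
    exact Nat.eq_of_mul_eq_mul_left (by omega) this
  have hyy : y * y = 1 := by rw [← pow_two, ← hy, pow_orderOf_eq_one]
  have hyinv : y⁻¹ = y := inv_eq_of_mul_eq_one_left hyy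
  have hmove : ∀ i : ℕ, x ^ i * y = y * x ^ ((4 * j - 1) * i) := by
    intro i
    have := conj_pow (a := y) (b := x) (i := i)
    rw [hyx, ← pow_mul, hyinv] at this
    calc x ^ i * y = y * (y * x ^ i * y) := by simp only [← mul_assoc, hyy, one_mul]
      _ = y * x ^ ((4 * j - 1) * i) := by rw [this]
  have hyR : y ∉ R := by
    intro hyR
    obtain ⟨i, hi⟩ := hyR
    have hc : Commute y x := by rw [← hi]; exact (Commute.refl x).zpow_left i
    rw [hc.eq, mul_inv_cancel_right] at hyx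
    have h2 : x ^ (4 * j - 2) = 1 := by
      apply mul_left_cancel (a := x)
      rw [mul_one, ← pow_succ', show 4 * j - 2 + 1 = 4 * j - 1 by omega]
      exact hyx.symm
    have := orderOf_dvd_of_pow_eq_one h2
    rw [hx] at this
    exact absurd (Nat.le_of_dvd (by omega) this) (by omega)
  have hpowR : ∀ g ∈ R, ∃ i < 8 * j, g = x ^ i := by
    intro g hg
    obtain ⟨i, hi⟩ := (mem_powers_iff_mem_zpowers.mpr hg : g ∈ Submonoid.powers x)
    exact ⟨i % (8 * j), Nat.mod_lt _ (by omega), by rw [← hx, pow_mod_orderOf]; exact hi.symm⟩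
  have hcos : ∀ g, g ∉ R → ∃ i < 8 * j, g = y * x ^ i := by
    intro g hg
    obtain ⟨i, hi, he⟩ := hpowR (y * g)
      ((Subgroup.mul_mem_iff_of_index_two hidx).mpr (by simp [hyR, hg]))
    exact ⟨i, hi, by rw [← he, ← mul_assoc, hyy, one_mul]⟩
  have hmod : ∀ {i i'}, i % (8 * j) = i' % (8 * j) → x ^ i = x ^ i' := fun {i i'} h => by
    rw [← pow_mod_orderOf, hx, h, ← hx, pow_mod_orderOf]
  have hsq : ∀ i, y * x ^ i * (y * x ^ i) = x ^ (4 * j * i) := by
    intro i
    rw [mul_assoc, ← mul_assoc (x ^ i), hmove, mul_assoc y, ← mul_assoc, hyy, one_mul, ← pow_add]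
    congr 1
    calc (4 * j - 1) * i + i = ((4 * j - 1) + 1) * i := by ring
      _ = 4 * j * i := by rw [show 4 * j - 1 + 1 = 4 * j by omega]
  have hinv2 : ∀ i, (y * x ^ i) * (y * x ^ i) = 1 ↔ Even i := by
    intro i
    rw [hsq, ← orderOf_dvd_iff_pow_eq_one, hx, show 8 * j = 4 * j * 2 by ring,
      Nat.mul_dvd_mul_iff_left (by omega), even_iff_two_dvd]
  set z := x ^ (4 * j) with hzd
  have hzR : z ∈ R := pow_mem (Subgroup.mem_zpowers x) _
  have hzy : z * y = y * z := by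
    rw [hzd, hmove]
    congr 1
    refine hmod ?_
    rw [show (4 * j - 1) * (4 * j) = 8 * j * (2 * j - 1) + 4 * j by
      obtain ⟨i, rfl⟩ : ∃ i, j = i + 1 := ⟨j - 1, by omega⟩
      rw [show 4 * (i + 1) - 1 = 4 * i + 3 by omega, show 2 * (i + 1) - 1 = 2 * i + 1 by omega]
      ring, Nat.mul_add_mod]
  have hzc : z ∈ Subgroup.center G := Subgroup.mem_center_iff.mpr fun g => by
    by_cases hg : g ∈ R
    · obtain ⟨i, -, rfl⟩ := hpowR g hg
      exact ((Commute.refl x).pow_pow i _).eq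
    · obtain ⟨i, -, rfl⟩ := hcos g hg
      rw [mul_assoc, ((Commute.refl x).pow_pow i (4 * j)).eq, ← mul_assoc, ← hzy, mul_assoc]
  have hzo : orderOf z = 2 := orderOf_eq_prime
    (by rw [hzd, ← pow_mul, show 4 * j * 2 = 8 * j by ring, hxo])
    (fun h => by
      have := orderOf_dvd_of_pow_eq_one (hzd ▸ h : x ^ (4 * j) = 1)
      rw [hx] at this
      exact absurd (Nat.le_of_dvd (by omega) this) (by omega))
  obtain ⟨a, ha1, haV, haI⟩ := involution_case ρ hk hq2 hρ R hzR hzc hzo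
    (fun g hg hgg => by
      obtain ⟨i, hi, rfl⟩ := hpowR g hg
      rw [← pow_add, ← orderOf_dvd_iff_pow_eq_one, hx] at hgg
      obtain ⟨c, hc⟩ := hgg
      have hc2 : c < 2 := by nlinarith
      interval_cases c
      · left; rw [show i = 0 by omega, pow_zero]
      · right; rw [hzd, show i = 4 * j by omega])
    hG (fun g g' hg hg' => (Subgroup.mul_mem_iff_of_index_two hidx).mpr (by simp [hg, hg']))
    ⟨y, hyR, hyy⟩
    (fun t ht _ => by
      obtain ⟨i, -, rfl⟩ := hcos t ht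
      refine ⟨x ^ (2 * j), mul_inv_eq_iff_eq_mul.mpr ?_⟩
      rw [hzd, ← mul_assoc, hmove]
      simp only [← mul_assoc]
      rw [hmove]
      simp only [mul_assoc, ← pow_add]
      congr 1
      refine hmod ?_
      obtain ⟨l, rfl⟩ : ∃ l, j = l + 1 := ⟨j - 1, by omega⟩
      rw [show 4 * (l + 1) - 1 = 4 * l + 3 by omega,
        show (4 * l + 3) * (4 * (l + 1)) + i + 2 * (l + 1)
          = 8 * (l + 1) * (l + 1) + ((4 * l + 3) * (2 * (l + 1)) + i) by ring,
        Nat.mul_add_mod])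
  have hI : Nat.card {t : G // t ∉ R ∧ t * t = 1} = 4 * j := by
    rw [← Nat.card_fin (4 * j)]
    refine (Nat.card_congr (Equiv.ofBijective
      (fun i : Fin (4 * j) => ⟨y * x ^ (2 * i.1), fun h => hyR (by
          have := mul_mem h (inv_mem (pow_mem (Subgroup.mem_zpowers x) (2 * i.1)))
          rwa [mul_inv_cancel_right] at this),
        (hinv2 _).mpr (even_two_mul _)⟩) ⟨fun i i' h => ?_, ?_⟩)).symm
    · have h' := mul_left_cancel (congrArg Subtype.val h)
      rw [pow_inj_mod, hx, Nat.mod_eq_of_lt (by omega), Nat.mod_eq_of_lt (by omega)] at h'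
      exact Fin.ext (by omega)
    · rintro ⟨t, ht, htt⟩
      obtain ⟨i, hi, rfl⟩ := hcos t ht
      obtain ⟨c, rfl⟩ := (hinv2 i).mp htt
      exact ⟨⟨c, by omega⟩, Subtype.ext (by simp only [two_mul])⟩
  rw [hI, ← hn1] at haI
  obtain rfl := pow_add_one_two_pow Fact.out hq2 ha1 (by omega : 2 ≤ n - 1) haI.symm
  refine ⟨haV, n - 1, ?_, by rw [hcard]; congr 1; omega⟩
  rw [pow_one] at haI
  omega

end

/-- Let q be a prime, V a non-trivial finite vector space over the field with q elements, and G a finite p-group (p prime) acting faithfully and linearly on V such that all G-orbits on the non-zero vectors have the same size. Then one of the following holds: G is cyclic or generalized quaternion and acts semiregularly on the non-zero vectors; or V has q² elements with q = 2^m − 1 and G is dihedral of order 2^(m+1) or semidihedral of order 2^(m+2); or V has q² elements with q = 2^m + 1 and, in suitable coordinates V = F_q², G is exactly the group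 of maps (x, y) ↦ (a x, ± a⁻¹ y) and (x, y) ↦ (± a⁻¹ y, a x) with a ≠ 0; or V has 81 elements (q = 3) and G is a 2-group. -/
theorem result (q : ℕ) [Fact q.Prime] {V : Type*} [AddCommGroup V] [Module (ZMod q) V] [Finite V] [Nontrivial V]
    {G : Type*} [Group G] [Finite G] (p : ℕ) [Fact p.Prime] (hG : IsPGroup p G)
    (ρ : G →* (V ≃ₗ[ZMod q] V)) (hρ : Function.Injective ρ)
    (hhalf : ∀ v w : V, v ≠ 0 → w ≠ 0 → Nat.card {u : V | ∃ g : G, ρ g v = u} = Nat.card {u : V | ∃ g : G, ρ g w = u}) :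
    ((IsCyclic G ∨ ∃ n : ℕ, Nonempty (G ≃* QuaternionGroup n)) ∧ ∀ v : V, v ≠ 0 → ∀ g : G, ρ g v = v → g = 1) ∨
    (Nat.card V = q ^ 2 ∧ ∃ m : ℕ, q = 2 ^ m - 1 ∧
      (Nonempty (G ≃* DihedralGroup (2 ^ m)) ∨ (Cfsg.IsQuasiDihedral G ∧ Nat.card G = 2 ^ (m + 2)))) ∨
    (Nat.card V = q ^ 2 ∧ (∃ m : ℕ, q = 2 ^ m + 1) ∧
      ∃ e : V ≃ₗ[ZMod q] (Fin 2 → ZMod q), ∀ f : (Fin 2 → ZMod q) ≃ₗ[ZMod q] (Fin 2 → ZMod q),
        (∃ g : G, f = e.symm.trans ((ρ g).trans e)) ↔
        ∃ a s : ZMod q, a ≠ 0 ∧ (s = 1 ∨ s = -1) ∧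
          ((∀ v, f v = ![a * v 0, s * a⁻¹ * v 1]) ∨ (∀ v, f v = ![s * a⁻¹ * v 1, a * v 0]))) ∨
    (Nat.card V = 81 ∧ q = 3 ∧ p = 2) := by
  classical
  by_cases htriv : ∀ g : G, g = 1
  · left
    refine ⟨Or.inl ?_, fun v _ g _ => htriv g⟩
    exact ⟨⟨1, fun g => ⟨0, by simp [htriv g]⟩⟩⟩
  have hk : ∀ v w : V, v ≠ 0 → w ≠ 0 → Nat.card ↥(stab ρ v) = Nat.card ↥(stab ρ w) := by
    intro v w hv hw
    have h1 := orbit_mul_stab ρ v
    have h2 := orbit_mul_stab ρ w
    rw [hhalf v w hv hw, ← h2] at h1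
    have : Nonempty {u : V | ∃ g : G, ρ g w = u} := ⟨⟨w, 1, one_app ρ w⟩⟩
    exact Nat.eq_of_mul_eq_mul_left Nat.card_pos h1
  have hpq : p ≠ q := by
    intro hpq
    subst hpq
    letI act : MulAction G V := MulAction.compHom V ρ
    obtain ⟨v, hv⟩ := exists_ne (0 : V)
    have hdvd : p ∣ Nat.card V := by
      obtain ⟨k, hk'⟩ : ∃ k, Nat.card V = p ^ k :=
        ⟨_, by rw [Module.natCard_eq_pow_finrank (K := ZMod p), Nat.card_zmod]⟩
      rw [hk']
      refine dvd_pow_self p fun h0 => ?_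
      rw [h0, pow_zero] at hk'
      exact absurd (Finite.one_lt_card (α := V)) (by omega)
    obtain ⟨u, hu, hu0⟩ := hG.exists_fixed_point_of_prime_dvd_card_of_fixed_point V hdvd
      (show (0 : V) ∈ MulAction.fixedPoints G V from fun g => map_zero (ρ g))
    refine htriv fun g => ext_app ρ hρ fun w => ?_
    rw [one_app]
    by_cases hw : w = 0
    · rw [hw, map_zero]
    have hfull : stab ρ u = ⊤ := eq_top_iff.mpr fun g _ => hu g
    have := hk w u hw (Ne.symm hu0)
    rw [hfull] at this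
    exact (mem_stab ρ).mp ((Subgroup.eq_top_of_card_eq _ (this.trans Subgroup.card_top)) ▸
      Subgroup.mem_top g)
  have hq2 : p = 2 → q ≠ 2 := fun h h' => hpq (h.trans h'.symm)
  rcases cases_normalPair (p := p) hG with hc | ⟨n, ⟨e⟩⟩ | ⟨n, ⟨e⟩⟩ | hqd | hpair
  · left
    refine ⟨Or.inl hc, semiregular ρ hG hρ hpq hk fun x _ => Subgroup.mem_center_iff.mpr fun g => ?_⟩
    obtain ⟨a, ha⟩ := IsCyclic.exists_generator (α := G)
    obtain ⟨i, hi⟩ := ha g
    obtain ⟨i', hi'⟩ := ha x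
    rw [← hi, ← hi']
    exact ((Commute.refl a).zpow_zpow i i').eq
  · left
    refine ⟨Or.inr ⟨n, ⟨e⟩⟩, semiregular ρ hG hρ hpq hk fun x hx => ?_⟩
    rcases Nat.eq_zero_or_pos n with rfl | hn
    · have : Finite (QuaternionGroup 0) := Finite.of_equiv G e.toEquiv
      have : Finite ℤ := Finite.of_injective (α := ℤ)
        (fun i => QuaternionGroup.a (n := 0) i) (fun i j h => by injection h)
      exact absurd this (fun h => @not_finite ℤ _ h)
    have : NeZero n := ⟨by omega⟩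
    obtain ⟨k, hk'⟩ := (IsPGroup.iff_card (p := p)).mp hG
    rw [Nat.card_congr e.toEquiv, Nat.card_eq_fintype_card, QuaternionGroup.card] at hk'
    have hp2 : p = 2 := ((Nat.prime_dvd_prime_iff_eq Nat.prime_two Fact.out).mp
      (Nat.prime_two.dvd_of_dvd_pow (n := k) (by rw [← hk']; exact ⟨2 * n, by ring⟩))).symm
    have hxx : e x * e x = 1 := by
      rw [← map_mul, ← pow_two, ← hp2, ← hx, pow_orderOf_eq_one, map_one]
    refine Subgroup.mem_center_iff.mpr fun g => e.injective ?_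
    rw [map_mul, map_mul]
    rcases hx' : e x with i | i <;> rw [hx'] at hxx
    · rw [QuaternionGroup.a_mul_a, QuaternionGroup.one_def] at hxx
      have hi : -i = i := (eq_neg_of_add_eq_zero_left (by injection hxx)).symm
      rcases e g with l | l
      · rw [QuaternionGroup.a_mul_a, QuaternionGroup.a_mul_a, add_comm]
      · rw [QuaternionGroup.xa_mul_a, QuaternionGroup.a_mul_xa, sub_eq_add_neg, hi]
    · rw [QuaternionGroup.xa_mul_xa, QuaternionGroup.one_def] at hxx
      exfalso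
      have h0 : ((n : ℕ) : ZMod (2 * n)) = 0 := by
        injection hxx with h1
        simpa using h1
      rw [ZMod.natCast_eq_zero_iff] at h0
      have := Nat.le_of_dvd hn h0
      omega
  · rcases Nat.eq_zero_or_pos n with rfl | hn
    · have : Finite (DihedralGroup 0) := Finite.of_equiv G e.toEquiv
      have : Finite ℤ := Finite.of_injective (α := ℤ)
        (fun i => DihedralGroup.r (n := 0) i) (fun i j h => by injection h)
      exact absurd this (fun h => @not_finite ℤ _ h)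
    obtain ⟨k, hk'⟩ := (IsPGroup.iff_card (p := p)).mp hG
    rw [Nat.card_congr e.toEquiv, DihedralGroup.nat_card] at hk'
    have hp2 : p = 2 := ((Nat.prime_dvd_prime_iff_eq Nat.prime_two Fact.out).mp
      (Nat.prime_two.dvd_of_dvd_pow (n := k) (by rw [← hk']; exact ⟨n, rfl⟩))).symm
    subst hp2
    by_cases hn3 : 3 ≤ n
    · obtain ⟨h1, m, h2, h3⟩ := dihedral_conclusion ρ hG hρ (hq2 rfl) hk hn3 e
      exact Or.inr (Or.inl ⟨h1, m, h2, Or.inl h3⟩)
    rcases (show n = 1 ∨ n = 2 by omega) with rfl | rfl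
    · have hc : IsCyclic G := isCyclic_of_prime_card (p := 2)
        (by rw [Nat.card_congr e.toEquiv, DihedralGroup.nat_card])
      left
      refine ⟨Or.inl hc, semiregular ρ hG hρ hpq hk fun x _ =>
        Subgroup.mem_center_iff.mpr fun g => e.injective ?_⟩
      rw [map_mul, map_mul]
      exact (by decide : ∀ a b : DihedralGroup 1, a * b = b * a) _ _
    · have hab : ∀ a b : G, a * b = b * a := fun a b => e.injective (by
        rw [map_mul, map_mul]
        exact (by decide : ∀ a b : DihedralGroup 2, a * b = b * a) _ _)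
      refine Or.inr (Or.inr ?_)
      refine pair_conclusion ρ hG hρ hpq hk ⟨e.symm (DihedralGroup.r 1), e.symm (DihedralGroup.sr 0),
        ?_, Subgroup.mem_center_iff.mpr fun g => hab _ _, ?_, ?_, fun g => ?_⟩
      · rw [MulEquiv.orderOf_eq, DihedralGroup.orderOf_r_one]
      · rw [pow_two, ← map_mul, DihedralGroup.sr_mul_self, map_one]
      · rw [Subgroup.mem_zpowers_iff]
        rintro ⟨i, hi⟩
        rw [← map_zpow] at hi
        have h := e.symm.injective hi
        rw [DihedralGroup.r_one_zpow] at h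
        exact absurd h (by simp)
      · rw [commutatorElement_eq_one_iff_mul_comm.mpr (hab _ _)]
        exact one_mem _
  · obtain ⟨n, hn, hcard, -⟩ := id hqd
    obtain ⟨k, hk'⟩ := (IsPGroup.iff_card (p := p)).mp hG
    have hp2 : p = 2 := ((Nat.prime_dvd_prime_iff_eq Nat.prime_two Fact.out).mp
      (Nat.prime_two.dvd_of_dvd_pow
        (hk' ▸ hcard.symm ▸ dvd_pow_self 2 (Nat.succ_ne_zero n)))).symm
    subst hp2
    obtain ⟨h1, m, h2, h3⟩ := quasidihedral_conclusion ρ hG hρ (hq2 rfl) hk hqd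
    exact Or.inr (Or.inl ⟨h1, m, h2, Or.inr ⟨hqd, h3⟩⟩)
  · exact Or.inr (Or.inr (pair_conclusion ρ hG hρ hpq hk hpair))

end Cfsg.Agent.S3371
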