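import Cfsg.Statements.S3374
-- import your own Cfsg.Agent.* helpers here

set_option autoImplicit false
open Cfsg

namespace Cfsg.Agent.S3374

open Matrix

abbrev M5 := Matrix.SpecialLinearGroup (Fin 2) (ZMod 5)
abbrev Mat11 := Matrix (Fin 2) (Fin 2) (ZMod 11)

/-- Image of the diagonal matrix with entries `t, t⁻¹`. -/
def diagImg (t : ZMod 5) : Mat11 :=
  if t = 1 then 1 else if t = 2 then !![1, 10; 2, 10] else if t = 3 then !![10, 1; 9, 1]
  else !![10, 0; 0, 10]

/-- Image of the unipotent matrix with entry `i`. -/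
def unipImg (i : ZMod 5) : Mat11 := !![0, 1; 10, 3] ^ i.val

/-- Inverse in `ZMod 5`, in a form convenient for evaluation. -/
def inv5 (t : ZMod 5) : ZMod 5 := t ^ 3

/-- An injective homomorphism from `SL(2,5)` to `GL(2,11)`, via the Bruhat decomposition. -/
def img (x : M5) : Mat11 :=
  if x.1 1 0 = 0 then diagImg (x.1 0 0) * unipImg (x.1 0 1 * inv5 (x.1 0 0))
  else unipImg (x.1 0 0 * inv5 (x.1 1 0)) * !![2, 1; 6, 9] * diagImg (-(x.1 1 0)) *
    unipImg (x.1 1 1 * inv5 (x.1 1 0))

/-- The unipotent generator of `SL(2,5)`. -/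
def genU : M5 := ⟨!![1, 1; 0, 1], by decide⟩

/-- The monomial generator of `SL(2,5)`. -/
def genW : M5 := ⟨!![0, 1; -1, 0], by decide⟩

set_option maxRecDepth 100000 in
lemma img_check : ∀ x : M5, img (x * genU) = img x * img genU ∧ img (x * genW) = img x * img genW ∧
    (img x = 1 → x = 1) ∧
    ((img x) 0 0 + (img x) 1 1 = 2 → x = 1) ∧ (img x).det = 1 := by
  decide +kernel

/-- Bruhat word of an element. -/
def word (x : M5) : M5 :=
  if x.1 1 0 = 0 then
    (genU ^ (x.1 0 0).val * genW * genU ^ (inv5 (x.1 0 0)).val * genW * genU ^ (x.1 0 0).val * genW) *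
      genU ^ (x.1 0 1 * inv5 (x.1 0 0)).val
  else
    genU ^ (x.1 0 0 * inv5 (x.1 1 0)).val * genW *
      (genU ^ (-(x.1 1 0)).val * genW * genU ^ (inv5 (-(x.1 1 0))).val * genW *
        genU ^ (-(x.1 1 0)).val * genW) *
      genU ^ (x.1 1 1 * inv5 (x.1 1 0)).val

set_option maxRecDepth 100000 in
lemma word_check : ∀ x : M5, word x = x ∨ word x * (genW * genW) = x := by
  decide +kernel

/-- Multiplicativity set of `img`. -/
def mulSet : Submonoid M5 where
  carrier := {y | ∀ x, img (x * y) = img x * img y}
  one_mem' := fun x => by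
    rw [mul_one, show img 1 = 1 by decide +kernel, mul_one]
  mul_mem' {y z} hy hz x := by
    rw [← mul_assoc, hz, hy, hz y, mul_assoc]

lemma img_mul (x y : M5) : img (x * y) = img x * img y := by
  have hU : genU ∈ mulSet := fun x => (img_check x).1
  have hW : genW ∈ mulSet := fun x => (img_check x).2.1
  have hw : word y ∈ mulSet := by
    unfold word
    split_ifs <;> repeat' first | apply Submonoid.mul_mem | apply Submonoid.pow_mem | exact hU | exact hW
  have hy : y ∈ mulSet := by
    rcases word_check y with e | e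
    · exact e ▸ hw
    · exact e ▸ mulSet.mul_mem hw (mulSet.mul_mem hW hW)
  exact hy x

/-- The representation on the plane over `ZMod 11`. -/
def rho : M5 →* MulAut (Multiplicative (Fin 2 → ZMod 11)) where
  toFun x :=
    { toFun := fun v => Multiplicative.ofAdd (img x *ᵥ v.toAdd)
      invFun := fun v => Multiplicative.ofAdd (img x⁻¹ *ᵥ v.toAdd)
      left_inv := fun v => by
        simp only [toAdd_ofAdd, Matrix.mulVec_mulVec, ← img_mul, inv_mul_cancel,
          show img 1 = 1 by decide +kernel, Matrix.one_mulVec, ofAdd_toAdd]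
      right_inv := fun v => by
        simp only [toAdd_ofAdd, Matrix.mulVec_mulVec, ← img_mul, mul_inv_cancel,
          show img 1 = 1 by decide +kernel, Matrix.one_mulVec, ofAdd_toAdd]
      map_mul' := fun v w => by
        rw [toAdd_mul, Matrix.mulVec_add, ofAdd_add] }
  map_one' := by
    apply MulEquiv.ext
    intro v
    show Multiplicative.ofAdd (img 1 *ᵥ v.toAdd) = v
    simp only [show img 1 = 1 by decide +kernel, Matrix.one_mulVec, ofAdd_toAdd]
  map_mul' x y := by
    apply MulEquiv.ext
    intro v
    show Multiplicative.ofAdd (img (x * y) *ᵥ v.toAdd) =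
      Multiplicative.ofAdd (img x *ᵥ (img y *ᵥ v.toAdd))
    rw [img_mul, Matrix.mulVec_mulVec]

lemma rho_fixed {x : M5} {v : Multiplicative (Fin 2 → ZMod 11)} (h : rho x v = v) :
    x = 1 ∨ v = 1 := by
  by_contra hc
  push Not at hc
  obtain ⟨hx, hv⟩ := hc
  have hv' : v.toAdd ≠ 0 := fun e => hv (by simpa using congrArg Multiplicative.ofAdd e)
  have h1 : img x *ᵥ v.toAdd = v.toAdd := congrArg Multiplicative.toAdd h
  have h2 : (img x - 1) *ᵥ v.toAdd = 0 := by rw [Matrix.sub_mulVec, h1, Matrix.one_mulVec, sub_self]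
  have : Fact (Nat.Prime 11) := ⟨by norm_num⟩
  have h3 : (img x - 1).det = 0 := by
    rw [← Matrix.exists_mulVec_eq_zero_iff]
    exact ⟨_, hv', h2⟩
  obtain ⟨-, -, -, htr, hdet⟩ := img_check x
  apply hx
  apply htr
  rw [Matrix.det_fin_two] at h3 hdet
  simp only [Matrix.sub_apply, Matrix.one_apply] at h3
  norm_num at h3
  linear_combination -h3 + hdet


/-- SL(2,5) occurs as a Frobenius complement: there is a finite group L with a subgroup H isomorphic to SL(2,5) which is a non-trivial proper subgroup meeting each conjugate gHg⁻¹ with g outside H trivially. -/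
theorem result :
    ∃ (L : Type) (_ : Group L) (_ : Finite L) (H : Subgroup L),
      Cfsg.IsFrobeniusComplement H ∧ Nonempty (H ≃* Matrix.SpecialLinearGroup (Fin 2) (ZMod 5)) := by
  let L := Multiplicative (Fin 2 → ZMod 11) ⋊[rho] M5
  let H : Subgroup L := (SemidirectProduct.inr : M5 →* L).range
  have : Finite L := Finite.of_equiv _ SemidirectProduct.equivProd.symm
  refine ⟨L, inferInstance, inferInstance, H, ⟨?_, ?_, ?_⟩, ⟨?_⟩⟩
  · rw [Ne, MonoidHom.range_eq_bot_iff]
    intro e
    have := congrArg (fun f : M5 →* L => (f genU).right) e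
    exact absurd (show genU = 1 from this) (by decide)
  · intro e
    have : (SemidirectProduct.inl (Multiplicative.ofAdd ![1, 0]) : L) ∈ H := e ▸ Subgroup.mem_top _
    obtain ⟨m, hm⟩ := this
    have := congrArg SemidirectProduct.left hm
    simp only [SemidirectProduct.left_inr, SemidirectProduct.left_inl] at this
    exact absurd (congrArg (fun v => v.toAdd 0) this) (by decide)
  · intro g hg
    rw [Subgroup.eq_bot_iff_forall]
    rintro y ⟨⟨m, rfl⟩, hy⟩
    obtain ⟨_, ⟨n, rfl⟩, hn⟩ := hy
    -- `y` centralises the translation part of `g`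
    have hn' : g * SemidirectProduct.inr n * g⁻¹ = SemidirectProduct.inr m := hn
    have hn2 : g * SemidirectProduct.inr n = SemidirectProduct.inr m * g := by
      rw [← hn', inv_mul_cancel_right]
    have hl := congrArg SemidirectProduct.left hn2
    have hr := congrArg SemidirectProduct.right hn2
    rw [SemidirectProduct.mul_left, SemidirectProduct.mul_left, SemidirectProduct.left_inr,
      SemidirectProduct.right_inr, SemidirectProduct.left_inr, map_one, mul_one, one_mul] at hl
    rcases rho_fixed hl.symm with h | h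
    · rw [h]; exact map_one _
    · exact absurd ⟨g.right, SemidirectProduct.ext (by simp [h]) (by simp)⟩ hg
  · exact (MonoidHom.ofInjective SemidirectProduct.inr_injective).symm

end Cfsg.Agent.S3374
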