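import Cfsg.Statements.S3375
-- import your own Cfsg.Agent.* helpers here

set_option autoImplicit false
open Cfsg

namespace Cfsg.Agent.S3375

/-- An automorphism of order two maps some subgroup of index two to itself if there is any. -/
lemma exists_invariant_index_two {H : Type*} [Group H] [Finite H] (γ : MulAut H)
    (hinv : ∀ h, γ (γ h) = h) {M : Subgroup H} (hM : M.index = 2) :
    ∃ N : Subgroup H, N.index = 2 ∧ ∀ h, γ h ∈ N ↔ h ∈ N := by
  set M' := M.comap γ.toMonoidHom with hM'
  have hM'2 : M'.index = 2 := by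
    rw [hM', Subgroup.index_comap_of_surjective _ γ.surjective, hM]
  by_cases heq : ∀ h, γ h ∈ M ↔ h ∈ M
  · exact ⟨M, hM, heq⟩
  have hmul : ∀ {K : Subgroup H}, K.index = 2 → ∀ a b : H, a * b ∈ K ↔ (a ∈ K ↔ b ∈ K) :=
    fun hK a b => Subgroup.mul_mem_iff_of_index_two hK
  let N : Subgroup H :=
    { carrier := {h | h ∈ M ↔ γ h ∈ M}
      one_mem' := by simp
      mul_mem' := fun {a b} ha hb => by
        simp only [Set.mem_setOf_eq] at *
        rw [hmul hM, map_mul, hmul hM, ha, hb]
      inv_mem' := fun {a} ha => by simpa using ha }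
  have hmem : ∀ h, h ∈ N ↔ (h ∈ M ↔ γ h ∈ M) := fun h => Iff.rfl
  refine ⟨N, ?_, fun h => by rw [hmem, hmem, hinv]; exact iff_comm⟩
  push Not at heq
  obtain ⟨u, hu⟩ := heq
  rw [Subgroup.index_eq_two_iff]
  refine ⟨u, fun b => ?_⟩
  rw [hmem, hmem, hmul hM, map_mul, hmul hM]
  by_cases hb : b ∈ M <;> by_cases hb' : γ b ∈ M <;> by_cases hu1 : u ∈ M <;>
    by_cases hu2 : γ u ∈ M <;> simp_all [xor_def]


/-- Let γ be an automorphism of order 2 of a finite group H. (i) If γ fixes only the identity, then H is abelian and γ inverts every element. (ii) If γ has exactly two fixed points and H has a subgroup of index 2, then H has a γ-invariant abelian subgroup of index 2 on which γ acts by inversion. -/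
theorem result {H : Type*} [Group H] [Finite H] (γ : MulAut H) (hγ : orderOf γ = 2) :
    ((∀ h : H, γ h = h → h = 1) → (∀ a b : H, a * b = b * a) ∧ ∀ h : H, γ h = h⁻¹) ∧
    ((Nat.card {h : H // γ h = h} = 2 ∧ ∃ M : Subgroup H, M.index = 2) →
      ∃ A : Subgroup H, A.index = 2 ∧ IsMulCommutative A ∧ (∀ a ∈ A, γ a ∈ A) ∧ ∀ a ∈ A, γ a = a⁻¹) := by
  have hinv : ∀ h, γ (γ h) = h := by
    intro h
    have := congrArg (fun f : MulAut H => f h) (hγ ▸ pow_orderOf_eq_one γ : γ ^ 2 = 1)
    simpa [pow_two] using this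
  refine ⟨fun h => ?_, ?_⟩
  · have hf : MonoidHom.FixedPointFree γ.toMonoidHom := h
    exact ⟨hf.commute_all_of_involutive hinv,
      fun x => congrFun (hf.coe_eq_inv_of_involutive hinv) x⟩
  rintro ⟨hfix, M₀, hM₀⟩
  obtain ⟨N, hN, hNinv⟩ := exists_invariant_index_two γ hinv hM₀
  have hinvert : ∀ M : Subgroup H, M.index = 2 → (∀ h, γ h ∈ M ↔ h ∈ M) →
      (∀ a ∈ M, γ a = a⁻¹) → ∃ A : Subgroup H, A.index = 2 ∧ IsMulCommutative A ∧
        (∀ a ∈ A, γ a ∈ A) ∧ ∀ a ∈ A, γ a = a⁻¹ := by
    intro M hM hMinv hinvM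
    refine ⟨M, hM, ⟨⟨fun a b => Subtype.ext ?_⟩⟩, fun a ha => (hMinv a).2 ha, hinvM⟩
    have := map_mul γ (a : H) (b : H)
    rw [hinvM _ (mul_mem a.2 b.2), hinvM _ a.2, hinvM _ b.2, ← mul_inv_rev, inv_inj] at this
    exact this
  apply hinvert N hN hNinv
  by_cases hc : ∀ a ∈ N, γ a = a → a = 1
  · -- fixed point free on `N`
    let γN : N →* N :=
      { toFun := fun a => ⟨γ a, (hNinv a).2 a.2⟩
        map_one' := Subtype.ext (map_one γ)
        map_mul' := fun a b => Subtype.ext (map_mul γ _ _) }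
    have hf : MonoidHom.FixedPointFree γN :=
      fun a ha => Subtype.ext (hc a a.2 (congrArg Subtype.val ha))
    intro a ha
    exact congrArg Subtype.val
      (congrFun (hf.coe_eq_inv_of_involutive fun b => Subtype.ext (hinv b)) ⟨a, ha⟩)
  · -- both fixed points lie in `N`: the map `h ↦ h⁻¹ γ h` covers `N`
    push Not at hc
    obtain ⟨c, hcN, hcfix, hc1⟩ := hc
    have hfixcases : ∀ h, γ h = h → h = 1 ∨ h = c := by
      intro h hh
      obtain ⟨x, y, hxy, huniv⟩ := Nat.card_eq_two_iff.1 hfix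
      have hall : ∀ z : {h : H // γ h = h}, z = x ∨ z = y := fun z => by
        have : z ∈ ({x, y} : Set _) := huniv ▸ Set.mem_univ z
        simpa using this
      have ne1 : (⟨1, map_one γ⟩ : {h : H // γ h = h}) ≠ ⟨c, hcfix⟩ :=
        fun e => hc1 (congrArg Subtype.val e).symm
      rcases hall ⟨h, hh⟩ with e | e <;> rcases hall ⟨1, map_one γ⟩ with e1 | e1 <;>
        rcases hall ⟨c, hcfix⟩ with e2 | e2 <;>
        first
          | exact absurd (e1.trans e2.symm) ne1
          | exact Or.inl (congrArg Subtype.val (e.trans e1.symm))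
          | exact Or.inr (congrArg Subtype.val (e.trans e2.symm))
    classical
    letI := Fintype.ofFinite H
    letI := Fintype.ofFinite N
    let F : H → N := fun x => ⟨x⁻¹ * γ x, by
      rw [Subgroup.mul_mem_iff_of_index_two hN, inv_mem_iff, hNinv]⟩
    have hfib : ∀ x y : H, F x = F y → y = x ∨ y = c * x := by
      intro x y hxy
      have h1 : x⁻¹ * γ x = y⁻¹ * γ y := congrArg Subtype.val hxy
      have h2 : γ (y * x⁻¹) = y * x⁻¹ := by
        rw [map_mul, map_inv, show γ x = x * (y⁻¹ * γ y) by rw [← h1]; group]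
        group
      rcases hfixcases _ h2 with e | e
      · exact Or.inl (mul_inv_eq_one.1 e)
      · exact Or.inr (mul_inv_eq_iff_eq_mul.1 e)
    have hcard : Fintype.card H ≤ 2 * (Finset.univ.image F).card := by
      rw [← Finset.card_univ]
      refine Finset.card_le_mul_card_image (Finset.univ : Finset H) 2 fun v hv => ?_
      obtain ⟨x, -, rfl⟩ := Finset.mem_image.1 hv
      refine le_trans (Finset.card_le_card (t := {x, c * x}) fun y hy => ?_) Finset.card_le_two
      simp only [Finset.mem_filter] at hy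
      simpa using hfib x y hy.2.symm
    have hsurj : Function.Surjective F := by
      intro v
      have h2 := Subgroup.card_mul_index N
      rw [hN, Nat.card_eq_fintype_card, Nat.card_eq_fintype_card] at h2
      have h3 : Finset.univ.image F = Finset.univ :=
        Finset.eq_univ_of_card _ (le_antisymm (Finset.card_le_univ _) (by omega))
      obtain ⟨x, -, hx⟩ := Finset.mem_image.1 (h3 ▸ Finset.mem_univ v)
      exact ⟨x, hx⟩
    intro n hn
    obtain ⟨x, hx⟩ := hsurj ⟨n, hn⟩
    have : x⁻¹ * γ x = n := congrArg Subtype.val hx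
    rw [← this, map_mul, map_inv, hinv]
    group

end Cfsg.Agent.S3375
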