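import Cfsg.Statements.S3376
import Cfsg.Agent.Lib.Fitting.Minimal

set_option autoImplicit false
open Cfsg

namespace Cfsg.Agent.S3376

/-- Let G be a group of order 162 = 3⁴·2 with Sylow 3-subgroup S and Sylow 2-subgroup T, having an elementary abelian normal subgroup J of order 27, such that Z = Z(S) has order 3, Z centralizes T, and C_S(T) ≠ S. Then G is isomorphic to the centralizer in Sym(9) of a product of three disjoint 3-cycles. -/
theorem result {G : Type*} [Group G] [Finite G] (hG : Nat.card G = 162)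
    (S : Sylow 3 G) (T : Sylow 2 G) (J : Subgroup G) [hJn : J.Normal] (hJcomm : IsMulCommutative J)
    (hJexp : ∀ a ∈ J, a ^ 3 = 1) (hJcard : Nat.card J = 27)
    (Z : Subgroup G) (hZ : Z = (S : Subgroup G) ⊓ Subgroup.centralizer ((S : Subgroup G) : Set G)) (hZcard : Nat.card Z = 3)
    (hZT : Z ≤ Subgroup.centralizer ((T : Subgroup G) : Set G))
    (hST : (S : Subgroup G) ⊓ Subgroup.centralizer ((T : Subgroup G) : Set G) ≠ S) :
    Nonempty (G ≃* Subgroup.centralizer ({Equiv.swap (0 : Fin 9) 1 * Equiv.swap 1 2 * Equiv.swap 3 4 * Equiv.swap 4 5 * Equiv.swap 6 7 * Equiv.swap 7 8} : Set (Equiv.Perm (Fin 9)))) := by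
  classical
  have h3 : Fact (Nat.Prime 3) := ⟨Nat.prime_three⟩
  have h2 : Fact (Nat.Prime 2) := ⟨Nat.prime_two⟩
  have hfS : (Nat.card G).factorization 3 = 4 := by
    rw [hG, Nat.factorization_def _ Nat.prime_three, show (162 : ℕ) = 3 ^ 4 * 2 by norm_num,
      padicValNat.mul (by norm_num) (by norm_num), padicValNat.prime_pow,
      padicValNat.eq_zero_of_not_dvd (by norm_num)]
  have hfT : (Nat.card G).factorization 2 = 1 := by
    rw [hG, Nat.factorization_def _ Nat.prime_two, show (162 : ℕ) = 2 ^ 1 * 81 by norm_num,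
      padicValNat.mul (by norm_num) (by norm_num), padicValNat.prime_pow,
      padicValNat.eq_zero_of_not_dvd (by norm_num)]
  have hScard : Nat.card S = 81 := by rw [S.card_eq_multiplicity, hfS]; norm_num
  have hTcard : Nat.card T = 2 := by rw [T.card_eq_multiplicity, hfT]; norm_num
  obtain ⟨t, ht⟩ := exists_prime_orderOf_dvd_card' (G := (T : Subgroup G)) 2 (by rw [hTcard])
  have htord : orderOf (t : G) = 2 := by rw [Subgroup.orderOf_coe]; exact ht
  have hTt : ∀ y ∈ (T : Subgroup G), y = 1 ∨ y = (t : G) := by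
    intro y hy
    have htt : (⊤ : Subgroup (T : Subgroup G)) = Subgroup.zpowers t := by
      refine (Subgroup.eq_top_of_card_eq _ ?_).symm
      rw [Nat.card_zpowers, ht, hTcard]
    obtain ⟨i, hi⟩ := (htt ▸ Subgroup.mem_top (⟨y, hy⟩ : (T : Subgroup G)) :
      (⟨y, hy⟩ : (T : Subgroup G)) ∈ Subgroup.zpowers t)
    have hi' : (t : G) ^ i = y := congrArg Subtype.val hi
    rw [← hi', ← zpow_mod_orderOf, htord]
    rcases Int.emod_two_eq_zero_or_one i with h | h <;> simp [h]
  have ht2 : (t : G) ^ 2 = 1 := by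
    have h := pow_orderOf_eq_one (t : G)
    rwa [htord] at h
  -- the center
  have hZS : Z ≤ (S : Subgroup G) := hZ ▸ inf_le_left
  have hZcS : ∀ z ∈ Z, ∀ s ∈ (S : Subgroup G), s * z = z * s := fun z hz s hs => by
    rw [hZ] at hz; exact Subgroup.mem_centralizer_iff.1 hz.2 s hs
  have hST' : (S : Subgroup G) ⊔ (T : Subgroup G) = ⊤ := by
    refine Subgroup.eq_top_of_card_eq _ (Nat.dvd_antisymm (Subgroup.card_subgroup_dvd_card _) ?_)
    rw [hG]
    exact Nat.Coprime.mul_dvd_of_dvd_of_dvd (by norm_num : Nat.Coprime 81 2)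
      (by rw [← hScard]; exact Subgroup.card_dvd_of_le le_sup_left)
      (hTcard.symm.dvd.trans (Subgroup.card_dvd_of_le le_sup_right))
  have hZc : ∀ z ∈ Z, z ∈ Subgroup.center G := by
    intro z hz
    have hle : (⊤ : Subgroup G) ≤ Subgroup.centralizer ({z} : Set G) := by
      rw [← hST']
      refine sup_le (fun s hs => Subgroup.mem_centralizer_singleton_iff.2 (hZcS z hz s hs))
        (fun s hs => Subgroup.mem_centralizer_singleton_iff.2 ?_)
      exact Subgroup.mem_centralizer_iff.1 (hZT hz) s hs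
    exact Subgroup.mem_center_iff.2 fun g =>
      Subgroup.mem_centralizer_singleton_iff.1 (hle (Subgroup.mem_top g))
  have hJS : J ≤ (S : Subgroup G) := by
    have hJp : IsPGroup 3 J := IsPGroup.of_card (n := 3) (by rw [hJcard]; norm_num)
    obtain ⟨S', hS'⟩ := hJp.exists_le_sylow
    obtain ⟨g, hg⟩ := MulAction.exists_smul_eq G S' S
    rw [← hg]
    intro j hj
    refine ⟨g⁻¹ * j * g, hS' (by simpa using hJn.conj_mem j hj g⁻¹), ?_⟩
    simp [MulAut.conj_apply, mul_assoc]
  obtain ⟨w, hw⟩ := exists_prime_orderOf_dvd_card' (G := Z) 3 (by rw [hZcard])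
  have hword : orderOf (w : G) = 3 := by rw [Subgroup.orderOf_coe]; exact hw
  have hwZ : Subgroup.zpowers (w : G) = Z := by
    refine Subgroup.eq_of_le_of_card_ge (Subgroup.zpowers_le.2 w.2) ?_
    rw [Nat.card_zpowers, hword, hZcard]
  have hZJ : Z ≤ J := by
    by_contra hcon
    have hwJ : (w : G) ∉ J := fun h => hcon (by rw [← hwZ]; exact Subgroup.zpowers_le.2 h)
    -- otherwise the abelian group `J ⊔ Z` is the whole of `S`
    have hcomm' : IsMulCommutative ↥(J ⊔ Z) := by
      refine ⟨⟨fun x y => Subtype.ext ?_⟩⟩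
      have hle : J ⊔ Z ≤ Subgroup.centralizer ((J ⊔ Z : Subgroup G) : Set G) := by
        rw [Subgroup.le_centralizer_iff]
        refine sup_le ?_ fun z hz => Subgroup.mem_centralizer_iff.2 fun a _ =>
          Subgroup.mem_center_iff.1 (hZc z hz) a
        rw [Subgroup.le_centralizer_iff]
        refine sup_le (Subgroup.le_centralizer J) fun z hz => Subgroup.mem_centralizer_iff.2 fun a _ =>
          Subgroup.mem_center_iff.1 (hZc z hz) a
      exact Subgroup.mem_centralizer_iff.1 (hle y.2) x x.2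
    have hJZ : J ⊔ Z = (S : Subgroup G) := by
      refine Subgroup.eq_of_le_of_card_ge (sup_le hJS hZS) ?_
      have hd1 : 27 ∣ Nat.card ↥(J ⊔ Z) := hJcard ▸ Subgroup.card_dvd_of_le le_sup_left
      have hd2 : Nat.card ↥(J ⊔ Z) ∣ 81 := hScard ▸ Subgroup.card_dvd_of_le (sup_le hJS hZS)
      have hne : Nat.card ↥(J ⊔ Z) ≠ 27 := fun h => hcon <| by
        have he := Subgroup.eq_of_le_of_card_ge (le_sup_left : J ≤ J ⊔ Z) (by rw [h, hJcard])
        exact he ▸ le_sup_right
      rw [hScard]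
      have hpos := Nat.le_of_dvd (by norm_num) hd2
      obtain ⟨k, hk⟩ := hd1
      obtain ⟨l, hl⟩ := hd2
      rw [hk] at hne hl hpos ⊢
      have hk3 : k ≤ 3 := by omega
      interval_cases k <;> omega
    have hSZ : (S : Subgroup G) ≤ Z := by
      rw [hZ]
      refine le_inf le_rfl ?_
      rw [← hJZ]
      exact Subgroup.le_centralizer _
    have := Subgroup.card_le_of_le hSZ
    rw [hScard, hZcard] at this
    omega
  -- a complement to the center in `J`, invariant under `t`
  obtain ⟨K, ⟨hKJ, hKt, hKZ⟩, hKmax⟩ : ∃ K : Subgroup G, (K ≤ J ∧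
      (∀ x ∈ K, (t : G) * x * (t : G)⁻¹ ∈ K) ∧ K ⊓ Z = ⊥) ∧
      ∀ K' : Subgroup G, K' ≤ J → (∀ x ∈ K', (t : G) * x * (t : G)⁻¹ ∈ K') → K' ⊓ Z = ⊥ →
        K ≤ K' → K' = K := by
    obtain ⟨K, -, hK⟩ := exists_maximal_ge_of_wellFoundedGT
      (fun K : Subgroup G => K ≤ J ∧ (∀ x ∈ K, (t : G) * x * (t : G)⁻¹ ∈ K) ∧ K ⊓ Z = ⊥) ⊥
      ⟨bot_le, fun x hx => by rw [Subgroup.mem_bot] at hx; subst hx; simp, bot_inf_eq Z⟩
    exact ⟨K, hK.1, fun K' h1 h2 h3 hle => le_antisymm (hK.2 ⟨h1, h2, h3⟩ hle) hle⟩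
  have htinv : (t : G)⁻¹ = (t : G) := by
    rw [inv_eq_iff_mul_eq_one, ← pow_two, ht2]
  have hJKZ : J ≤ K ⊔ Z := by
    by_contra hcon
    obtain ⟨j, hj, hjn⟩ := SetLike.not_le_iff_exists.1 hcon
    set j' := (t : G) * j * (t : G)⁻¹ with hj'
    have hj'J : j' ∈ J := hJn.conj_mem j hj _
    have htj' : (t : G) * j' * (t : G)⁻¹ = j := by
      rw [hj', htinv]
      have htt : (t : G) * t = 1 := by rw [← pow_two, ht2]
      rw [show (t : G) * (t * j * t) * t = (t * t) * j * (t * t) by group, htt, one_mul, mul_one]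
    have hcm : j * j' = j' * j := setLike_mul_comm hj hj'J
    -- one of the two parts lies outside
    have hcase : j * j' ∉ K ⊔ Z ∨ j * j'⁻¹ ∉ K ⊔ Z := by
      by_contra h
      push Not at h
      have hm := mul_mem h.1 h.2
      have e : j * j' * (j * j'⁻¹) = j⁻¹ := by
        rw [show j * j' * (j * j'⁻¹) = j * (j' * j) * j'⁻¹ by group, ← hcm,
          show j * (j * j') * j'⁻¹ = j * j by group]
        refine eq_inv_of_mul_eq_one_left ?_
        rw [← pow_three', hJexp j hj]
      rw [e] at hm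
      exact hjn (inv_mem_iff.1 hm)
    obtain ⟨x, hxJ, hxn, hxt⟩ : ∃ x ∈ J, x ∉ K ⊔ Z ∧
        ((t : G) * x * (t : G)⁻¹ = x ∨ (t : G) * x * (t : G)⁻¹ = x⁻¹) := by
      rcases hcase with h | h
      · exact ⟨_, mul_mem hj hj'J, h, Or.inl (by rw [← conj_mul, htj', ← hj', hcm])⟩
      · exact ⟨_, mul_mem hj (inv_mem hj'J), h, Or.inr (by
          rw [← conj_mul, ← conj_inv, htj', ← hj', mul_inv_rev, inv_inv])⟩
    have hxK : ∀ y ∈ K ⊔ Subgroup.zpowers x, ∃ k ∈ K, ∃ i : ℤ, k * x ^ i = y := by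
      intro y hy
      have hn : Subgroup.zpowers x ≤ Subgroup.normalizer (K : Set G) := by
        rw [Subgroup.zpowers_le, Subgroup.mem_normalizer_iff]
        intro k
        constructor
        · intro hk
          rwa [setLike_mul_comm hxJ (hKJ hk), mul_inv_cancel_right]
        · intro hk
          have hkJ : k ∈ J := by
            have := hJn.conj_mem _ (hKJ hk) x⁻¹
            rwa [inv_inv, show x⁻¹ * (x * k * x⁻¹) * x = k by group] at this
          rwa [setLike_mul_comm hxJ hkJ, mul_inv_cancel_right] at hk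
      rw [← SetLike.mem_coe, Subgroup.coe_mul_of_right_le_normalizer_left _ _ hn] at hy
      obtain ⟨k, hk, a, ⟨i, rfl⟩, he⟩ := Set.mem_mul.1 hy
      exact ⟨k, hk, i, he⟩
    have hxK' : x ∉ K := fun h => hxn (Subgroup.mem_sup_left h)
    have hle : K ⊔ Subgroup.zpowers x ≤ J := sup_le hKJ (Subgroup.zpowers_le.2 hxJ)
    refine hxK' ((hKmax _ hle ?_ ?_ le_sup_left) ▸
      Subgroup.mem_sup_right (Subgroup.mem_zpowers x))
    · intro y hy
      obtain ⟨k, hk, i, rfl⟩ := hxK y hy
      rw [← conj_mul, ← conj_zpow]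
      refine mul_mem (Subgroup.mem_sup_left (hKt k hk)) ?_
      rcases hxt with h | h <;> rw [h]
      · exact Subgroup.mem_sup_right (zpow_mem (Subgroup.mem_zpowers x) i)
      · exact Subgroup.mem_sup_right (zpow_mem (inv_mem (Subgroup.mem_zpowers x)) i)
    · rw [eq_bot_iff]
      rintro y ⟨hy, hyZ⟩
      obtain ⟨k, hk, i, rfl⟩ := hxK y hy
      have hxi : x ^ i ∈ K ⊔ Z := by
        have : x ^ i = k⁻¹ * (k * x ^ i) := by group
        rw [this]
        exact mul_mem (inv_mem (Subgroup.mem_sup_left hk)) (Subgroup.mem_sup_right hyZ)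
      have hx3 : orderOf x = 3 := orderOf_eq_prime (hJexp x hxJ) fun h => hxn (h ▸ one_mem _)
      rw [← zpow_mod_orderOf, hx3] at hxi hyZ ⊢
      have hx3' : x ^ (3 : ℤ) = 1 := by rw [← hJexp x hxJ]; norm_cast
      obtain h | h | h : i % (3 : ℕ) = 0 ∨ i % (3 : ℕ) = 1 ∨ i % (3 : ℕ) = 2 := by omega
      · rw [h, zpow_zero, mul_one] at hyZ ⊢
        exact hKZ ▸ ⟨hk, hyZ⟩
      · rw [h, zpow_one] at hxi; exact absurd hxi hxn
      · rw [h] at hxi
        refine absurd (?_ : x ∈ K ⊔ Z) hxn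
        have hinv := inv_mem hxi
        rwa [show (x ^ (2 : ℤ))⁻¹ = x from inv_eq_of_mul_eq_one_right (by
          rw [← zpow_add_one]; exact hx3')] at hinv
  have hKcard : Nat.card K = 9 := by
    have h1 : Nat.card ↥(K ⊔ Z) = Nat.card K * Nat.card Z := by
      have hn : Z ≤ Subgroup.normalizer (K : Set G) := fun z hz => by
        rw [Subgroup.mem_normalizer_iff]
        intro k
        rw [← Subgroup.mem_center_iff.1 (hZc z hz) k, mul_inv_cancel_right]
      have hcm : Disjoint K Z := disjoint_iff.2 hKZ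
      refine (Nat.card_congr ?_).symm.trans (Nat.card_prod K Z)
      refine Equiv.ofBijective (fun p => ⟨(p.1 : G) * p.2,
        mul_mem (Subgroup.mem_sup_left p.1.2) (Subgroup.mem_sup_right p.2.2)⟩) ⟨?_, ?_⟩
      · exact fun p q hpq => Subgroup.mul_injective_of_disjoint hcm (congrArg Subtype.val hpq)
      · rintro ⟨y, hy⟩
        rw [← SetLike.mem_coe, Subgroup.coe_mul_of_right_le_normalizer_left _ _ hn] at hy
        obtain ⟨k, hk, z, hz, he⟩ := Set.mem_mul.1 hy
        exact ⟨(⟨k, hk⟩, ⟨z, hz⟩), Subtype.ext he⟩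
    rw [show K ⊔ Z = J from le_antisymm (sup_le hKJ hZJ) hJKZ, hJcard, hZcard] at h1
    omega
  set U := K ⊔ (T : Subgroup G) with hU
  have hTK : (T : Subgroup G) ≤ Subgroup.normalizer (K : Set G) := by
    intro y hy
    rcases hTt y hy with rfl | rfl
    · exact one_mem _
    · rw [Subgroup.mem_normalizer_iff]
      intro k
      refine ⟨hKt k, fun hk => ?_⟩
      have h' := hKt _ hk
      rw [htinv] at h'
      have htt : (t : G) * t = 1 := by rw [← pow_two, ht2]
      rw [show (t : G) * (t * k * t) * t = (t * t) * k * (t * t) by group, htt, one_mul, mul_one] at h'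
      exact h'
  have hUmem : ∀ u ∈ U, ∃ k ∈ K, ∃ y ∈ (T : Subgroup G), k * y = u := fun u hu => by
    rw [hU, ← SetLike.mem_coe, Subgroup.coe_mul_of_right_le_normalizer_left _ _ hTK] at hu
    exact Set.mem_mul.1 hu
  have hSTdisj : Disjoint (S : Subgroup G) (T : Subgroup G) := disjoint_iff.2
    (Subgroup.eq_bot_of_card_eq _ (Nat.eq_one_of_dvd_coprimes
      (by rw [hScard, hTcard]; norm_num : (Nat.card S).Coprime (Nat.card T))
      (Subgroup.card_dvd_of_le inf_le_left) (Subgroup.card_dvd_of_le inf_le_right)))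
  have hUS : ∀ u ∈ U, u ∈ (S : Subgroup G) → u ∈ K := fun u hu huS => by
    obtain ⟨k, hk, y, hy, rfl⟩ := hUmem u hu
    have hyS : y ∈ (S : Subgroup G) := by
      rw [show y = k⁻¹ * (k * y) by group]
      exact mul_mem (inv_mem (hJS (hKJ hk))) huS
    have hy1 : y = 1 := Subgroup.disjoint_def.1 hSTdisj hyS hy
    rw [hy1, mul_one]; exact hk
  have hUcard : Nat.card U = 18 := by
    have hdisj : Disjoint K (T : Subgroup G) := hSTdisj.mono_left (hKJ.trans hJS)
    have he : Nat.card (K × (T : Subgroup G)) = Nat.card U := by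
      refine Nat.card_congr (Equiv.ofBijective (fun p => ⟨(p.1 : G) * p.2,
        mul_mem (Subgroup.mem_sup_left p.1.2) (Subgroup.mem_sup_right p.2.2)⟩) ⟨?_, ?_⟩)
      · exact fun p q hpq => Subgroup.mul_injective_of_disjoint hdisj (congrArg Subtype.val hpq)
      · rintro ⟨y, hy⟩
        obtain ⟨k, hk, z, hz, he⟩ := hUmem y hy
        exact ⟨(⟨k, hk⟩, ⟨z, hz⟩), Subtype.ext he⟩
    rw [← he, Nat.card_prod, hKcard, hTcard]
  have hidx : Nat.card (G ⧸ U) = 9 := by
    have := Subgroup.card_eq_card_quotient_mul_card_subgroup U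
    rw [hG, hUcard] at this
    omega
  have : Finite (G ⧸ U) := inferInstance
  have e₀ : G ⧸ U ≃ Fin 9 := Finite.equivFinOfCardEq hidx
  let φ : G →* Equiv.Perm (Fin 9) :=
    (e₀.permCongrHom.toMonoidHom).comp (MulAction.toPermHom G (G ⧸ U))
  have hkerle : φ.ker ≤ U := by
    intro g hg
    rw [MonoidHom.mem_ker] at hg
    have h' := congrArg (fun f : Equiv.Perm (Fin 9) => e₀.symm (f (e₀ (1 : G)))) hg
    simp [φ, MulAction.toPermHom_apply] at h'
    have h'' := QuotientGroup.eq.1 h'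
    rw [mul_one] at h''
    exact inv_mem_iff.1 h''
  have hinj : Function.Injective φ := by
    rw [← MonoidHom.ker_eq_bot_iff]
    set N := φ.ker
    have hNS : N ⊓ (S : Subgroup G) = ⊥ := by
      by_contra hne
      have : Group.IsNilpotent (S : Subgroup G) := S.isPGroup'.isNilpotent
      have hn : ((N ⊓ (S : Subgroup G)).subgroupOf (S : Subgroup G)).Normal := by
        refine ⟨fun a ha b => ?_⟩
        rw [Subgroup.mem_subgroupOf] at ha ⊢
        exact ⟨(inferInstance : N.Normal).conj_mem _ ha.1 _, (b * a * b⁻¹).2⟩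
      have hne' : (N ⊓ (S : Subgroup G)).subgroupOf (S : Subgroup G) ≠ ⊥ := by
        intro h
        rw [Subgroup.subgroupOf_eq_bot, disjoint_iff, inf_assoc, inf_idem] at h
        exact hne h
      have h := Cfsg.Agent.Fitting.inf_center_ne_bot hne'
      refine h (eq_bot_iff.2 fun a ha => ?_)
      rw [Subgroup.mem_bot]
      apply Subtype.ext
      have haN : (a : G) ∈ N ⊓ (S : Subgroup G) := Subgroup.mem_subgroupOf.1 ha.1
      have haZ : (a : G) ∈ Z := by
        rw [hZ]
        exact ⟨a.2, Subgroup.mem_centralizer_iff.2 fun s hs =>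
          congrArg Subtype.val (Subgroup.mem_center_iff.1 ha.2 ⟨s, hs⟩)⟩
      exact Subgroup.mem_bot.1 (hKZ ▸ ⟨hUS _ (hkerle haN.1) haN.2, haZ⟩)
    -- what is left would be central of order two
    by_contra hN
    apply hST
    rw [inf_eq_left, Subgroup.le_centralizer_iff]
    intro y hy
    rw [Subgroup.mem_centralizer_iff]
    intro s hs
    have hSn : (S : Subgroup G).Normal := by
      have h := Subgroup.card_eq_card_quotient_mul_card_subgroup (S : Subgroup G)
      rw [hG, hScard] at h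
      exact Subgroup.normal_of_index_eq_two (by rw [Subgroup.index]; omega)
    obtain ⟨m, hm, hm1⟩ : ∃ m ∈ N, m ≠ 1 := by
      by_contra hcon
      push Not at hcon
      exact hN (eq_bot_iff.2 fun m hm => Subgroup.mem_bot.2 (hcon m hm))
    have hmc : ∀ s ∈ (S : Subgroup G), s * m = m * s := by
      intro s hs
      have h : s * m * s⁻¹ * m⁻¹ ∈ N ⊓ (S : Subgroup G) := by
        refine ⟨N.mul_mem ((inferInstance : N.Normal).conj_mem m hm s) (N.inv_mem hm), ?_⟩
        rw [show s * m * s⁻¹ * m⁻¹ = s * (m * s⁻¹ * m⁻¹) by group]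
        exact (S : Subgroup G).mul_mem hs (hSn.conj_mem _ (inv_mem hs) m)
      rw [hNS, Subgroup.mem_bot, mul_inv_eq_one, mul_inv_eq_iff_eq_mul] at h
      exact h
    obtain ⟨k, hk, v, hv, hkv⟩ := hUmem m (hkerle hm)
    have hkS : k ∈ (S : Subgroup G) := hJS (hKJ hk)
    rcases hTt v hv with hv1 | hvt
    · exfalso
      have hmS : m ∈ N ⊓ (S : Subgroup G) := ⟨hm, by rw [← hkv, hv1, mul_one]; exact hkS⟩
      exact hm1 (Subgroup.mem_bot.1 (hNS ▸ hmS))
    · -- the involution is the cube of `m`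
      have hm3 : m ^ 3 = (t : G) := by
        have hvm : v = k⁻¹ * m := by rw [← hkv]; group
        have hc : Commute k⁻¹ m := (hmc k⁻¹ (inv_mem hkS))
        have hv3 : v ^ 3 = v := by
          rw [hvt, pow_succ, ht2, one_mul]
        rw [← hvt, ← hv3, hvm, hc.mul_pow, inv_pow, hJexp k (hKJ hk), inv_one, one_mul]
      rcases hTt y hy with rfl | rfl
      · simp
      · rw [← hm3]
        exact ((show Commute s m from hmc s hs).pow_right 3).eq
  set σ := φ (w : G) with hσ
  set τ : Equiv.Perm (Fin 9) := Equiv.swap (0 : Fin 9) 1 * Equiv.swap 1 2 * Equiv.swap 3 4 *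
    Equiv.swap 4 5 * Equiv.swap 6 7 * Equiv.swap 7 8
  have hσord : orderOf σ = 3 := by rw [hσ, orderOf_injective φ hinj, hword]
  have hfree : σ.support = Finset.univ := by
    rw [Finset.eq_univ_iff_forall]
    intro a
    rw [Equiv.Perm.mem_support]
    intro ha
    obtain ⟨g, hg⟩ := QuotientGroup.mk_surjective (e₀.symm a)
    have h' : (((w : G) * g : G) : G ⧸ U) = (g : G ⧸ U) := by
      have := congrArg e₀.symm ha
      simpa [σ, φ, ← hg] using this
    rw [eq_comm, QuotientGroup.eq, ← Subgroup.mem_center_iff.1 (hZc _ w.2) g,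
      inv_mul_cancel_left] at h'
    have := hUS _ h' (hZS w.2)
    have hw1 : (w : G) = 1 := Subgroup.mem_bot.1 (hKZ ▸ ⟨this, w.2⟩)
    rw [hw1, orderOf_one] at hword
    norm_num at hword
  have hσct : σ.cycleType = Multiset.replicate 3 3 := by
    obtain ⟨n, hn⟩ := Equiv.Perm.cycleType_prime_order (by rw [hσord]; exact Nat.prime_three)
    have hs := σ.sum_cycleType
    rw [hfree, hn, hσord, Multiset.sum_replicate, Finset.card_univ, Fintype.card_fin, smul_eq_mul] at hs
    rw [hn, hσord, show n + 1 = 3 by omega]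
  have hτct : τ.cycleType = Multiset.replicate 3 3 := by
    decide +kernel
  obtain ⟨g, hg⟩ := isConj_iff.1 (Equiv.Perm.isConj_iff_cycleType_eq.2 (hσct.trans hτct.symm))
  let ψ : G →* Equiv.Perm (Fin 9) := (MulAut.conj g).toMonoidHom.comp φ
  have hψ : Function.Injective ψ := (MulAut.conj g).injective.comp hinj
  have hrange : ψ.range = Subgroup.centralizer ({τ} : Set (Equiv.Perm (Fin 9))) := by
    refine Subgroup.eq_of_le_of_card_ge ?_ ?_
    · rintro _ ⟨y, rfl⟩
      rw [Subgroup.mem_centralizer_singleton_iff]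
      have hτ : τ = ψ (w : G) := hg.symm
      rw [hτ, ← map_mul, ← map_mul, Subgroup.mem_center_iff.1 (hZc _ w.2) y]
    · rw [← Nat.card_congr (MonoidHom.ofInjective hψ).toEquiv, hG, Equiv.Perm.nat_card_centralizer,
        hτct, Fintype.card_fin]
      rfl
  exact ⟨(MonoidHom.ofInjective hψ).trans (MulEquiv.subgroupCongr hrange)⟩

end Cfsg.Agent.S3376
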