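import Cfsg.Statements.S3377
import Cfsg.Agent.FPFStructure.Iso

set_option autoImplicit false
open Cfsg

namespace Cfsg.Agent.S3377

/-- The alternating group of degree 5 has the presentation ⟨x, y | x³ = 1, y⁵ = 1, (xy)² = 1⟩: the group so presented is isomorphic to Alt(5). -/
theorem result :
    Nonempty (PresentedGroup ({FreeGroup.of (0 : Fin 2) ^ 3, FreeGroup.of (1 : Fin 2) ^ 5,
        (FreeGroup.of (0 : Fin 2) * FreeGroup.of 1) ^ 2} : Set (FreeGroup (Fin 2))) ≃* alternatingGroup (Fin 5)) := by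
  let rels : Set (FreeGroup (Fin 2)) := {FreeGroup.of (0 : Fin 2) ^ 3, FreeGroup.of (1 : Fin 2) ^ 5,
    (FreeGroup.of (0 : Fin 2) * FreeGroup.of 1) ^ 2}
  let f : Fin 2 → alternatingGroup (Fin 5) := ![FPFStructure.Pres.x5, FPFStructure.Pres.y5]
  have h5 := FPFStructure.Pres.rels5
  have hrel : ∀ r ∈ rels, FreeGroup.lift f r = 1 := by
    rintro r (rfl | rfl | rfl) <;>
      simp only [map_mul, map_pow, FreeGroup.lift_apply_of, f, Matrix.cons_val]
    · simpa [pow_succ] using h5.cube
    · simpa [pow_succ] using h5.five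
    · simpa [pow_succ] using h5.sq
  let φ : PresentedGroup rels →* alternatingGroup (Fin 5) := PresentedGroup.toGroup hrel
  let a : Fin 2 → PresentedGroup rels := PresentedGroup.of
  have hr : ∀ r ∈ rels, PresentedGroup.mk rels r = 1 := fun r hr =>
    PresentedGroup.one_of_mem hr
  have h1 := hr _ (Or.inl rfl)
  have h2 := hr _ (Or.inr (Or.inl rfl))
  have h3 := hr _ (Or.inr (Or.inr rfl))
  simp only [map_mul, map_pow] at h1 h2 h3
  have hR : FPFStructure.Pres.Rels (a 0) (a 1) 1 1 := by
    refine ⟨?_, ?_, by simp, by simp, ?_, by simp⟩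
    · rw [mul_assoc, ← pow_three]; exact h1
    · have e : a 1 ^ 5 = 1 := h2
      simpa [pow_succ] using e
    · rw [← pow_two]; exact h3
  have hgen : Subgroup.closure ({a 0, a 1} : Set (PresentedGroup rels)) = ⊤ := by
    refine top_unique ((PresentedGroup.closure_range_of rels).ge.trans
      ((Subgroup.closure_le _).2 ?_))
    rintro _ ⟨i, rfl⟩
    fin_cases i
    · exact Subgroup.subset_closure (Or.inl rfl)
    · exact Subgroup.subset_closure (Or.inr rfl)
  have hsurj : Function.Surjective φ := by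
    rw [← MonoidHom.range_eq_top]
    refine top_unique (FPFStructure.Pres.gen5.ge.trans ((Subgroup.closure_le _).2 ?_))
    rintro w (rfl | rfl)
    · exact ⟨a 0, PresentedGroup.toGroup.of hrel⟩
    · exact ⟨a 1, PresentedGroup.toGroup.of hrel⟩
  exact ⟨MulEquiv.ofBijective φ (FPFStructure.Pres.bijective one_pos hR hgen φ hsurj
    (by rw [FPFStructure.Pres.card_alt5]; norm_num))⟩

end Cfsg.Agent.S3377
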