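import Cfsg.Statements.S3380
import Cfsg.Agent.TwoFusionB.NormalPair
-- import your own Cfsg.Agent.* helpers here

set_option autoImplicit false
open Cfsg

namespace Cfsg.Agent.S3380

open Subgroup Cfsg.Agent.TwoFusionB
open scoped commutatorElement

/-- A `p`-subgroup acting in characteristic `p` fixes a nonzero vector; with irreducibility it
acts trivially. -/
theorem eq_one_of_char {p : ℕ} [Fact p.Prime] {V : Type*} [AddCommGroup V] [Module (ZMod p) V]
    [Finite V] [Nontrivial V] {G : Type*} [Group G] [Finite G] (hG : IsPGroup p G)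
    (ρ : G →* (V ≃ₗ[ZMod p] V)) (hρ : Function.Injective ρ)
    (hirr : ∀ W : Submodule (ZMod p) V, (∀ g : G, ∀ w ∈ W, ρ g w ∈ W) → W = ⊥ ∨ W = ⊤) (g : G) :
    g = 1 := by
  classical
  letI : MulAction G V :=
    { smul := fun g v => ρ g v
      one_smul := fun v => by show ρ 1 v = v; rw [map_one]; rfl
      mul_smul := fun a b v => by show ρ (a * b) v = ρ a (ρ b v); rw [map_mul]; rfl }
  haveI := Fintype.ofFinite V
  have hdvd : p ∣ Nat.card V := by
    obtain ⟨v, hv⟩ := exists_ne (0 : V)
    have h0 : addOrderOf v = p := by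
      refine addOrderOf_eq_prime ?_ hv
      rw [← Nat.cast_smul_eq_nsmul (ZMod p), ZMod.natCast_self, zero_smul]
    rw [← h0]
    exact addOrderOf_dvd_natCard v
  obtain ⟨w, hw, hw0⟩ := hG.exists_fixed_point_of_prime_dvd_card_of_fixed_point V hdvd
    (show (0 : V) ∈ MulAction.fixedPoints G V from fun g => map_zero (ρ g))
  let W : Submodule (ZMod p) V :=
    { carrier := {v | ∀ g : G, ρ g v = v}
      add_mem' := fun ha hb g => by rw [map_add, ha g, hb g]
      zero_mem' := fun g => map_zero _
      smul_mem' := fun c v hv g => by rw [map_smul, hv g] }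
  rcases hirr W (fun g v hv => by rw [hv g]; exact hv) with h | h
  · exact absurd (by
      have : w ∈ W := fun g => hw g
      rw [h, Submodule.mem_bot] at this
      exact this.symm) hw0
  · apply hρ
    rw [map_one]
    ext v
    have : v ∈ W := h ▸ Submodule.mem_top
    exact this g


/-- Let a finite p-group G act faithfully and irreducibly on a non-trivial finite vector space V over the field with q elements (q prime), and suppose G is not cyclic, generalized quaternion, dihedral or semidihedral. Then G has a subgroup H of index p and V is the direct sum of p subspaces, each invariant under H, on none of which H acts faithfully, and which every element of G outside H permutes in a single p-cycle. -/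
theorem result
    (q : ℕ) [Fact q.Prime] {V : Type*} [AddCommGroup V] [Module (ZMod q) V] [Finite V] [Nontrivial V]
    {G : Type*} [Group G] [Finite G] (p : ℕ) [Fact p.Prime] (hG : IsPGroup p G)
    (ρ : G →* (V ≃ₗ[ZMod q] V)) (hρ : Function.Injective ρ)
    (hirr : ∀ W : Submodule (ZMod q) V, (∀ g : G, ∀ w ∈ W, ρ g w ∈ W) → W = ⊥ ∨ W = ⊤)
    (hnc : ¬ IsCyclic G) (hnq : ∀ n : ℕ, ¬ Nonempty (G ≃* QuaternionGroup n))
    (hnd : ∀ n : ℕ, ¬ Nonempty (G ≃* DihedralGroup n)) (hnsd : ¬ Cfsg.IsQuasiDihedral G) :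
    ∃ (H : Subgroup G) (W : Fin p → Submodule (ZMod q) V), H.index = p ∧
      iSup W = ⊤ ∧ iSupIndep W ∧
      (∀ h ∈ H, ∀ i, ∀ w ∈ W i, ρ h w ∈ W i) ∧
      (∀ i, ∃ h ∈ H, h ≠ 1 ∧ ∀ w ∈ W i, ρ h w = w) ∧
      ∀ g : G, g ∉ H → ∃ σ : Equiv.Perm (Fin p), orderOf σ = p ∧ ∀ i, (W i).map (ρ g : V →ₗ[ZMod q] V) = W (σ i) := by
  classical
  rcases cases_normalPair (p := p) hG with h | ⟨n, hn⟩ | ⟨n, hn⟩ | h | ⟨z, e, hz, hzc, hep, hez, hg⟩
  · exact absurd h hnc
  · exact absurd hn (hnq n)
  · exact absurd hn (hnd n)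
  · exact absurd h hnsd
  have hp : p.Prime := Fact.out
  have hpq : q ≠ p := by
    rintro rfl
    have := eq_one_of_char hG ρ hρ hirr z
    rw [this, orderOf_one] at hz
    exact hp.one_lt.ne hz
  have hpu : ((p : ℕ) : ZMod q) ≠ 0 := by
    rw [Ne, ZMod.natCast_eq_zero_iff]
    exact fun hd => hpq ((Nat.prime_dvd_prime_iff_eq Fact.out hp).1 hd)
  have hρ1 : ∀ v : V, ρ 1 v = v := fun v => by rw [map_one]; rfl
  have hρm : ∀ (a b : G) (v : V), ρ (a * b) v = ρ a (ρ b v) := fun a b v => by rw [map_mul]; rfl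
  have hcen : ∀ g : G, g * z = z * g := fun g => mem_center_iff.1 hzc g
  have hzp : z ^ p = 1 := hz ▸ pow_orderOf_eq_one z
  have hzfree : ∀ v : V, ρ z v = v → v = 0 := by
    let W : Submodule (ZMod q) V :=
      { carrier := {v | ρ z v = v}
        add_mem' := fun {a b} ha hb => by
          show ρ z (a + b) = a + b
          rw [map_add, ha, hb]
        zero_mem' := map_zero _
        smul_mem' := fun c v hv => by
          show ρ z (c • v) = c • v
          rw [map_smul, hv] }
    rcases hirr W (fun g v hv => by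
      show ρ z (ρ g v) = ρ g v
      rw [← hρm, ← hcen, hρm, hv]) with h | h
    · intro v hv
      have : v ∈ W := hv
      rwa [h, Submodule.mem_bot] at this
    · exfalso
      have : z = 1 := hρ (by
        rw [map_one]
        ext v
        exact (h ▸ Submodule.mem_top : v ∈ W))
      rw [this, orderOf_one] at hz
      exact hp.one_lt.ne hz
  let a : ℕ → G := fun i => e * z ^ i
  have haz : ∀ i, Commute e (z ^ i) := fun i => (show Commute e z from hcen e).pow_right i
  have hap : ∀ i, a i ^ p = 1 := fun i => by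
    show (e * z ^ i) ^ p = 1
    rw [(haz i).mul_pow, hep, ← pow_mul, mul_comm, pow_mul, hzp, one_pow, one_mul]
  let W : Fin p → Submodule (ZMod q) V := fun i =>
    LinearMap.ker ((ρ (a i) : V →ₗ[ZMod q] V) - LinearMap.id)
  have hW : ∀ i v, v ∈ W i ↔ ρ (a i) v = v := fun i v => by
    show ((ρ (a i) : V →ₗ[ZMod q] V) - LinearMap.id : V →ₗ[ZMod q] V) v = 0 ↔ _
    rw [LinearMap.sub_apply, sub_eq_zero]
    rfl
  let P : ℕ → V → V := fun i v => ((p : ℕ) : ZMod q)⁻¹ • ∑ k ∈ Finset.range p, ρ (a i ^ k) v
  have hshift : ∀ (g : G) (v : V), g ^ p = 1 →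
      ρ g (∑ k ∈ Finset.range p, ρ (g ^ k) v) = ∑ k ∈ Finset.range p, ρ (g ^ k) v := by
    intro g v hg
    have h1 := Finset.sum_range_succ' (fun k => ρ (g ^ k) v) p
    have h2 := Finset.sum_range_succ (fun k => ρ (g ^ k) v) p
    rw [h2] at h1
    simp only [hg, pow_zero, add_left_inj] at h1
    rw [map_sum]
    simp only [← hρm, ← pow_succ']
    exact h1.symm
  have hPfix : ∀ (i : Fin p) v, P i v ∈ W i := fun i v => by
    rw [hW]
    show ρ (a i) (_ • _) = _
    rw [map_smul, hshift _ _ (hap i)]
  have hzsum : ∀ (k : ℕ) (v : V), ¬ p ∣ k → ∑ i ∈ Finset.range p, ρ (z ^ (i * k)) v = 0 := by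
    intro k v hk
    apply hzfree
    set w := ∑ i ∈ Finset.range p, ρ (z ^ (i * k)) v with hw
    have hkw : ρ (z ^ k) w = w := by
      have := hshift (z ^ k) v (by rw [← pow_mul, mul_comm, pow_mul, hzp, one_pow])
      simp only [← pow_mul] at this
      simp only [hw, mul_comm _ k]
      exact this
    have hco : Nat.Coprime k (orderOf z) := by
      rw [hz]; exact ((Nat.Prime.coprime_iff_not_dvd hp).2 hk).symm
    obtain ⟨m, hm⟩ := exists_pow_eq_self_of_coprime hco
    have hall : ∀ j : ℕ, ρ ((z ^ k) ^ j) w = w := by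
      intro j
      induction j with
      | zero => rw [pow_zero, hρ1]
      | succ j ih => rw [pow_succ, hρm, hkw, ih]
    have := hall m
    rwa [hm] at this
  have hsum : ∀ v : V, ∑ i ∈ Finset.range p, P i v = v := by
    intro v
    show ∑ i ∈ Finset.range p, (_ : ZMod q) • _ = v
    rw [← Finset.smul_sum, Finset.sum_comm, Finset.sum_eq_single 0]
    · simp only [pow_zero, hρ1, Finset.sum_const, Finset.card_range]
      rw [← Nat.cast_smul_eq_nsmul (ZMod q), smul_smul, inv_mul_cancel₀ hpu, one_smul]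
    · intro k hk hk0
      have hd : ¬ p ∣ k := fun hd => hk0 (Nat.eq_zero_of_dvd_of_lt hd (Finset.mem_range.1 hk))
      calc ∑ i ∈ Finset.range p, ρ (a i ^ k) v
          = ∑ i ∈ Finset.range p, ρ (e ^ k) (ρ (z ^ (i * k)) v) := by
            refine Finset.sum_congr rfl fun i _ => ?_
            rw [← hρm, pow_mul, ← (haz i).mul_pow]
        _ = 0 := by rw [← map_sum, hzsum k v hd, map_zero]
    · intro h0
      exact absurd (Finset.mem_range.2 hp.pos) h0
  have htop : iSup W = ⊤ := by
    rw [eq_top_iff]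
    intro v _
    rw [← hsum v, ← Fin.sum_univ_eq_sum_range (fun i => P i v)]
    exact sum_mem fun i _ => Submodule.mem_iSup_of_mem i (hPfix i v)
  let PL : ℕ → (V →ₗ[ZMod q] V) := fun i =>
    ((p : ℕ) : ZMod q)⁻¹ • ∑ k ∈ Finset.range p, (ρ (a i ^ k) : V →ₗ[ZMod q] V)
  have hPL : ∀ i v, PL i v = P i v := fun i v => by
    show (_ • ∑ k ∈ Finset.range p, (ρ (a i ^ k) : V →ₗ[ZMod q] V) : V →ₗ[ZMod q] V) v = _
    rw [LinearMap.smul_apply, LinearMap.sum_apply]
    rfl
  have hind : iSupIndep W := by
    rw [iSupIndep_def]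
    intro i
    rw [disjoint_iff, eq_bot_iff]
    rintro v ⟨hv1, hv2⟩
    rw [Submodule.mem_bot]
    have hle : (⨆ (j) (_ : j ≠ i), W j) ≤ LinearMap.ker (PL i) := by
      refine iSup₂_le fun j hj w hw => ?_
      rw [hW] at hw
      rw [LinearMap.mem_ker, hPL]
      show _ • _ = (0 : V)
      set d := i.1 + (p - j.1) with hd
      have hd0 : ¬ p ∣ d := by
        intro hdd
        obtain ⟨c, hc⟩ := hdd
        have := i.2
        have := j.2
        have hij : i.1 ≠ j.1 := fun h => hj (Fin.ext h.symm)
        rcases c with _ | _ | c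
        · omega
        · omega
        · have : p * (c + 1 + 1) ≥ p * 2 := Nat.mul_le_mul_left p (by omega)
          omega
      have hai : a i = z ^ d * a j := by
        show e * z ^ i.1 = z ^ d * (e * z ^ j.1)
        have hz' : z ^ i.1 = z ^ (d + j.1) := by
          rw [hd, show i.1 + (p - j.1) + j.1 = i.1 + p by have := j.2; omega, pow_add, hzp, mul_one]
        rw [hz', pow_add, ← mul_assoc, ← mul_assoc, (haz d).eq]
      have hk : ∀ k, ρ (a i ^ k) w = ρ (z ^ (k * d)) w := by
        intro k
        induction k with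
        | zero => simp
        | succ k ih =>
          rw [pow_succ', hρm, ih, hai, ← hρm]
          have hc : z ^ d * a j * z ^ (k * d) = z ^ ((k + 1) * d) * a j := by
            have h1 : Commute (a j) (z ^ (k * d)) := (show Commute (a j) z from hcen _).pow_right _
            rw [mul_assoc, h1.eq, ← mul_assoc, ← pow_add, show d + k * d = (k + 1) * d by ring]
          rw [hc, hρm, hw]
      simp only [hk]
      rw [hzsum d w hd0, smul_zero]
    have h1 : PL i v = v := by
      rw [hPL]
      show _ • _ = v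
      have hk : ∀ k, ρ (a i ^ k) v = v := by
        intro k
        induction k with
        | zero => rw [pow_zero, hρ1]
        | succ k ih => rw [pow_succ, hρm, (hW i v).1 hv1, ih]
      simp only [hk, Finset.sum_const, Finset.card_range]
      rw [← Nat.cast_smul_eq_nsmul (ZMod q), smul_smul, inv_mul_cancel₀ hpu, one_smul]
    rw [← h1]
    exact hle hv2
  have hzn : ∀ x ∈ zpowers z, ∀ g : G, g * x = x * g := by
    rintro _ ⟨i, rfl⟩ g
    exact ((show Commute g z from hcen g).zpow_right i).eq
  let φ : G →* zpowers z := MonoidHom.mk' (fun g => ⟨⁅g, e⁆, hg g⟩) (fun g h => by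
    apply Subtype.ext
    show ⁅g * h, e⁆ = ⁅g, e⁆ * ⁅h, e⁆
    have e1 : ⁅g * h, e⁆ = g * ⁅h, e⁆ * (e * g⁻¹ * e⁻¹) := by
      simp only [commutatorElement_def]; group
    rw [e1, mul_assoc, ← hzn _ (hg h) (e * g⁻¹ * e⁻¹), ← mul_assoc]
    congr 1
    simp only [commutatorElement_def]; group)
  have hφ : ∀ g, g ∈ φ.ker ↔ g * e = e * g := fun g => by
    rw [MonoidHom.mem_ker, Subtype.ext_iff]
    exact commutatorElement_eq_one_iff_mul_comm
  have hkernel : φ.ker.index = p := by
    rw [index_ker]
    have hdvd : Nat.card φ.range ∣ p := by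
      rw [← hz, ← Nat.card_zpowers]
      exact card_subgroup_dvd_card _
    rcases (Nat.dvd_prime hp).1 hdvd with h | h
    · exfalso
      have hr := card_eq_one.1 h
      rw [MonoidHom.range_eq_bot_iff] at hr
      have hec : ∀ g, g * e = e * g := fun g => (hφ g).1 (by simp [hr])
      obtain ⟨v, hv⟩ := exists_ne (0 : V)
      have hall : ∀ i, W i = ⊥ := by
        intro i
        rcases hirr (W i) (fun g w hw => by
          rw [hW] at hw ⊢
          have hc : g * a i = a i * g :=
            ((show Commute g e from hec g).mul_right ((show Commute g z from hcen g).pow_right _)).eq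
          rw [← hρm, ← hc, hρm, hw]) with h' | h'
        · exact h'
        · exfalso
          have : a i = 1 := hρ (by
            rw [map_one]
            ext w
            exact (hW i w).1 (h' ▸ Submodule.mem_top))
          apply hez
          have : e = (z ^ i.1)⁻¹ := eq_inv_of_mul_eq_one_left this
          rw [this]
          exact inv_mem (npow_mem_zpowers z _)
      rw [iSup_eq_bot.2 hall] at htop
      exact hv (by
        have : v ∈ (⊥ : Submodule (ZMod q) V) := htop ▸ Submodule.mem_top
        simpa using this)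
    · exact h
  have hconj : ∀ (g : G) (j : ℕ), ⁅g, e⁆ = z ^ j → ∀ i : Fin p, ∀ i' : Fin p,
      i'.1 = (i.1 + j) % p → g * a i = a i' * g := by
    intro g j hj i i' hi'
    have h1 : g * e = z ^ j * e * g := by rw [← hj, commutatorElement_def]; group
    show g * (e * z ^ i.1) = e * z ^ i'.1 * g
    have h2 : z ^ i'.1 = z ^ (i.1 + j) := by rw [hi', show (i.1 + j) % p = (i.1 + j) % orderOf z by rw [hz], pow_mod_orderOf]
    have h3 : Commute g (z ^ i.1) := (show Commute g z from hcen g).pow_right _
    rw [h2, ← mul_assoc, h1, mul_assoc _ g, h3.eq, pow_add, ← mul_assoc]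
    congr 1
    simp only [← pow_add, Nat.add_comm, mul_assoc, (haz j).eq]
    rw [← mul_assoc, ← (haz j).eq, mul_assoc, ← pow_add, Nat.add_comm]
  refine ⟨φ.ker, W, hkernel, htop, hind, ?_, ?_, ?_⟩
  · intro h hh i w hw
    rw [hW] at hw ⊢
    rw [← hρm, ← hconj h 0 (by rw [pow_zero]; exact commutatorElement_eq_one_iff_mul_comm.2 ((hφ h).1 hh))
      i i (by rw [Nat.add_zero, Nat.mod_eq_of_lt i.2]), hρm, hw]
  · intro i
    refine ⟨a i, (hφ _).2 ?_, fun h1 => hez ?_, fun w hw => (hW i w).1 hw⟩
    · show e * z ^ i.1 * e = e * (e * z ^ i.1)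
      rw [mul_assoc, ← (haz i.1).eq]
    · have : e = (z ^ i.1)⁻¹ := eq_inv_of_mul_eq_one_left h1
      rw [this]
      exact inv_mem (npow_mem_zpowers z _)
  · intro g hgk
    obtain ⟨j, hjp, hj⟩ : ∃ j < p, ⁅g, e⁆ = z ^ j := by
      obtain ⟨j, hj⟩ := (isOfFinOrder_of_finite z).mem_powers_iff_mem_zpowers.2 (hg g)
      refine ⟨j % p, Nat.mod_lt _ hp.pos, ?_⟩
      rw [← hz, pow_mod_orderOf]
      exact hj.symm
    have hj0 : j ≠ 0 := fun h0 => hgk ((hφ g).2 (commutatorElement_eq_one_iff_mul_comm.1
      (by rw [hj, h0, pow_zero])))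
    haveI : NeZero p := ⟨hp.ne_zero⟩
    refine ⟨Equiv.addRight (⟨j, hjp⟩ : Fin p), ?_, fun i => ?_⟩
    · refine orderOf_eq_prime ?_ ?_
      · have hiter : ∀ (n : ℕ) (i : Fin p), ((Equiv.addRight (⟨j, hjp⟩ : Fin p)) ^ n) i =
            i + n • (⟨j, hjp⟩ : Fin p) := by
          intro n
          induction n with
          | zero => intro i; simp
          | succ n ih =>
            intro i
            rw [pow_succ', Equiv.Perm.mul_apply, ih, Equiv.coe_addRight, succ_nsmul, ← add_assoc]
        ext i
        rw [hiter, Equiv.Perm.one_apply]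
        simp only [Fin.val_add]
        have : p • (⟨j, hjp⟩ : Fin p) = 0 := by
          have := card_nsmul_eq_zero' (G := Fin p) (x := (⟨j, hjp⟩ : Fin p))
          simpa using this
        rw [this]
        simp [Nat.mod_eq_of_lt i.2]
      · intro h1
        have := Equiv.Perm.ext_iff.1 h1 0
        simp only [Equiv.coe_addRight, zero_add, Equiv.Perm.one_apply] at this
        exact hj0 (congrArg Fin.val this)
    · have hσ : ∀ i : Fin p, ((Equiv.addRight (⟨j, hjp⟩ : Fin p)) i).1 = (i.1 + j) % p := fun i => by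
        simp [Fin.val_add]
      have hc := hconj g j hj i _ (hσ i)
      ext w
      rw [Submodule.mem_map]
      constructor
      · rintro ⟨v, hv, rfl⟩
        rw [hW] at hv ⊢
        show ρ _ (ρ g v) = ρ g v
        rw [← hρm, ← hc, hρm, hv]
      · intro hw
        rw [hW] at hw
        refine ⟨ρ g⁻¹ w, ?_, ?_⟩
        · rw [hW, ← hρm]
          set b := a ((Equiv.addRight (⟨j, hjp⟩ : Fin p)) i).1 with hb
          have : a i * g⁻¹ = g⁻¹ * b := by
            rw [eq_inv_mul_iff_mul_eq, ← mul_assoc, mul_inv_eq_iff_eq_mul, hc]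
          rw [this, hρm, hw]
        · show ρ g (ρ g⁻¹ w) = w
          rw [← hρm, mul_inv_cancel, hρ1]

end Cfsg.Agent.S3380
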