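import Cfsg.Statements.S3381


set_option autoImplicit false
open Cfsg

namespace Cfsg.Agent.S3381

/-- Let G be a finite group acting faithfully and linearly on a non-trivial finite vector space V over the field with q elements (q prime) so that every non-zero vector has a stabilizer of order 2, and suppose G has a central involution. Then V has q^(2r) elements for some r and G contains exactly q^r + 1 non-central involutions. -/
theorem result
    (q : ℕ) [Fact q.Prime] {V : Type*} [AddCommGroup V] [Module (ZMod q) V] [Finite V] [Nontrivial V]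
    {G : Type*} [Group G] [Finite G] (ρ : G →* (V ≃ₗ[ZMod q] V)) (hρ : Function.Injective ρ)
    (hstab : ∀ v : V, v ≠ 0 → Nat.card {g : G // ρ g v = v} = 2)
    (z : G) (hz : orderOf z = 2) (hzc : z ∈ Subgroup.center G) :
    ∃ r : ℕ, Nat.card V = q ^ (2 * r) ∧
      Nat.card {g : G // orderOf g = 2 ∧ g ∉ Subgroup.center G} = q ^ r + 1 := by
  classical
  have hex : ∀ v : V, v ≠ 0 → ∃ t : G, (t ≠ 1 ∧ ρ t v = v) ∧ orderOf t = 2 ∧
      ∀ s : G, s ≠ 1 → ρ s v = v → s = t := by
    intro v hv
    obtain ⟨⟨t, ht⟩, ht1, hu⟩ :=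
      (Nat.card_eq_two_iff' (⟨1, by simp⟩ : {g : G // ρ g v = v})).mp (hstab v hv)
    have ht1' : t ≠ 1 := fun h => ht1 (Subtype.ext h)
    have huniq : ∀ s : G, s ≠ 1 → ρ s v = v → s = t := fun s h1 h2 =>
      congrArg Subtype.val (hu ⟨s, h2⟩ fun h => h1 (congrArg Subtype.val h))
    have h2 : t ^ 2 = 1 := by
      by_contra h
      have := huniq (t ^ 2) h (by rw [pow_two, map_mul]; exact (congrArg (ρ t) ht).trans ht)
      rw [pow_two] at this
      exact ht1' (mul_left_cancel (this.trans (mul_one t).symm))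
    exact ⟨t, ⟨ht1', ht⟩, orderOf_eq_prime h2 ht1', huniq⟩
  have hsame : ∀ (v : V) (s t : G), v ≠ 0 → s ≠ 1 → t ≠ 1 → ρ s v = v → ρ t v = v → s = t := by
    intro v s t hv hs ht hsv htv
    obtain ⟨u, -, -, hu⟩ := hex v hv
    rw [hu s hs hsv, hu t ht htv]
  have hne1 : ∀ t : G, orderOf t = 2 → t ≠ 1 := by
    intro t ht h; simp [h] at ht
  have hsq : ∀ (t : G), orderOf t = 2 → ∀ v, ρ t (ρ t v) = v := by
    intro t ht v
    have h2 : t * t = 1 := by rw [← pow_two, ← ht]; exact pow_orderOf_eq_one t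
    have := congrArg (fun g => ρ g v) h2
    simp only [map_mul, map_one] at this
    exact this
  have hcomm : ∀ (c g : G) (v : V), c ∈ Subgroup.center G → ρ c (ρ g v) = ρ g (ρ c v) := by
    intro c g v hc
    have h := congrArg (fun x => ρ x v) (Subgroup.mem_center_iff.mp hc g).symm
    simp only [map_mul] at h
    exact h
  -- a central involution fixes no non-zero vector
  have hcen : ∀ c : G, orderOf c = 2 → c ∈ Subgroup.center G → ∀ v, ρ c v = v → v = 0 := by
    intro c hc hcc v hv
    by_contra hv0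
    have hc1 := hne1 c hc
    refine hc1 (hρ (LinearEquiv.ext fun w => ?_))
    rw [map_one]
    by_contra hw
    change ρ c w ≠ w at hw
    set u := ρ c w - w with hu_def
    have hu : u ≠ 0 := sub_ne_zero.mpr hw
    have hcu : ρ c u = -u := by rw [hu_def, map_sub, hsq c hc]; abel
    by_cases h2u : u + u = 0
    · have hcu' : ρ c u = u := by rw [hcu]; exact neg_eq_of_add_eq_zero_left h2u
      have hw0 : w ≠ 0 := fun h => hw (by rw [h, map_zero])
      obtain ⟨t, ⟨ht1, htw⟩, -, -⟩ := hex w hw0
      have htu : ρ t u = u := by rw [hu_def, map_sub, ← hcomm c t w hcc, htw]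
      exact hw ((hsame u t c hu ht1 hc1 htu hcu') ▸ htw)
    · have hvu : v + u ≠ 0 := by
        intro h
        have huv : u = -v := eq_neg_of_add_eq_zero_right h
        apply h2u
        have h' := hcu
        rw [huv, map_neg, hv] at h'
        rw [huv]
        nth_rewrite 1 [h']
        abel
      obtain ⟨t, ⟨ht1, htv⟩, -, -⟩ := hex (v + u) hvu
      have h' : ρ t (v - u) = v - u := by
        have h := congrArg (ρ c) htv
        rw [hcomm c t _ hcc, map_add (ρ c), hv, hcu, ← sub_eq_add_neg] at h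
        exact h
      have hvv : ρ t (v + v) = v + v := by
        have : v + v = (v + u) + (v - u) := by abel
        rw [this, map_add, htv, h']
      have hvv0 : v + v ≠ 0 := by
        intro h
        apply h2u
        have h2 : (2 : ZMod q) = 0 := by
          by_contra h2
          have : (2 : ZMod q) • v = 0 := by rw [two_smul]; exact h
          rcases smul_eq_zero.mp this with h | h
          · exact h2 h
          · exact hv0 h
        rw [← two_smul (ZMod q) u, h2, zero_smul]
      have htc : t = c := hsame (v + v) t c hvv0 ht1 hc1 hvv (by rw [map_add, hv])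
      rw [htc, map_add, hv, hcu] at htv
      apply h2u
      have := add_left_cancel htv
      nth_rewrite 1 [← this]
      abel
  have hneg : ∀ v, ρ z v = -v := by
    intro v
    have := hcen z hz hzc (ρ z v + v) (by rw [map_add, hsq z hz]; abel)
    exact eq_neg_of_add_eq_zero_left this
  -- fixed subspaces
  let fx : G → Submodule (ZMod q) V := fun t =>
    { carrier := {v | ρ t v = v}
      add_mem' := fun {a b} ha hb => by
        simp only [Set.mem_setOf_eq] at ha hb ⊢; rw [map_add, ha, hb]
      zero_mem' := map_zero (ρ t)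
      smul_mem' := fun r a ha => by
        simp only [Set.mem_setOf_eq] at ha ⊢; rw [map_smul, ha] }
  have hmem : ∀ t v, v ∈ fx t ↔ ρ t v = v := fun t v => Iff.rfl
  let T := {g : G // orderOf g = 2 ∧ g ∉ Subgroup.center G}
  have htz : ∀ t : T, orderOf ((t : G) * z) = 2 ∧ (t : G) * z ∉ Subgroup.center G := by
    rintro ⟨t, ht, htc⟩
    have hnc : t * z ∉ Subgroup.center G := fun h => htc (by
      have := mul_mem h (inv_mem hzc)
      rwa [mul_inv_cancel_right] at this)
    refine ⟨orderOf_eq_prime ?_ (fun h => hnc (h ▸ one_mem _)), hnc⟩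
    rw [(show Commute t z from Subgroup.mem_center_iff.mp hzc t).mul_pow, ← ht, pow_orderOf_eq_one,
      ht, ← hz, pow_orderOf_eq_one, one_mul]
  let pz : T → T := fun t => ⟨(t : G) * z, htz t⟩
  have hpz : ∀ (t : T) v, v ∈ fx (pz t) ↔ ρ (t : G) v = -v := by
    intro t v
    rw [hmem]
    show ρ ((t : G) * z) v = v ↔ _
    rw [map_mul]
    show ρ (t : G) (ρ z v) = v ↔ _
    rw [hneg, map_neg, neg_eq_iff_eq_neg]
  have hdisj : ∀ s t : T, s ≠ t → Disjoint (fx s) (fx t) := by
    intro s t hst
    rw [Submodule.disjoint_def]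
    intro v hvs hvt
    by_contra hv
    exact hst (Subtype.ext (hsame v s t hv (hne1 _ s.2.1) (hne1 _ t.2.1) hvs hvt))
  have hnebot : ∀ t : T, fx t ≠ ⊥ := by
    intro t h
    have : (t : G) = z := hρ (LinearEquiv.ext fun v => by
      have h0 : ρ (t : G) v + v ∈ fx t := by rw [hmem, map_add, hsq _ t.2.1]; abel
      rw [h, Submodule.mem_bot] at h0
      rw [hneg]; exact eq_neg_of_add_eq_zero_left h0)
    exact t.2.2 (this ▸ hzc)
  have hpz_ne : ∀ t : T, pz t ≠ t := fun t h =>
    hne1 z hz (mul_left_cancel ((congrArg Subtype.val h).trans (mul_one (t : G)).symm))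
  set a : T → ℕ := fun t => Module.finrank (ZMod q) (fx t) with ha_def
  set n := Module.finrank (ZMod q) V with hn
  have hle : ∀ s t : T, s ≠ t → a s + a t ≤ n := fun s t hst =>
    Submodule.finrank_add_finrank_le_of_disjoint (hdisj s t hst)
  have heq : ∀ t : T, a t + a (pz t) = n := by
    intro t
    refine le_antisymm (hle _ _ (hpz_ne t).symm) ?_
    set f : V →ₗ[ZMod q] V := ((ρ (t : G) : V ≃ₗ[ZMod q] V) : V →ₗ[ZMod q] V) + LinearMap.id
      with hf
    have h1 : LinearMap.range f ≤ fx t := by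
      rintro _ ⟨v, rfl⟩
      show ρ (t : G) (ρ (t : G) v + v) = ρ (t : G) v + v
      rw [map_add, hsq _ t.2.1]; abel
    have h2 : LinearMap.ker f ≤ fx (pz t) := by
      intro v hv
      rw [hpz]
      exact eq_neg_of_add_eq_zero_left hv
    have h3 := LinearMap.finrank_range_add_finrank_ker f
    have h4 := Submodule.finrank_mono h1
    have h5 := Submodule.finrank_mono h2
    simp only [ha_def, hn]
    omega
  have hother : ∀ t : T, ∃ s : T, s ≠ t ∧ s ≠ pz t := by
    intro t
    obtain ⟨u, hu, hu0⟩ := Submodule.exists_mem_ne_zero_of_ne_bot (hnebot t)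
    obtain ⟨w, hw, hw0⟩ := Submodule.exists_mem_ne_zero_of_ne_bot (hnebot (pz t))
    have huw : u + w ≠ 0 := fun h => hu0 (Submodule.disjoint_def.mp (hdisj t (pz t) (hpz_ne t).symm)
      u hu (by rw [eq_neg_of_add_eq_zero_left h]; exact neg_mem hw))
    obtain ⟨s, ⟨hs1, hsf⟩, hs2, -⟩ := hex (u + w) huw
    refine ⟨⟨s, hs2, fun h => huw (hcen s hs2 h _ hsf)⟩, ?_, ?_⟩
    · rintro rfl
      exact hw0 (Submodule.disjoint_def.mp (hdisj _ _ (hpz_ne _).symm) w
        (by have := sub_mem (show u + w ∈ fx s from hsf) hu; simpa using this) hw)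
    · intro h
      have hs : u + w ∈ fx (pz t) := h ▸ (show u + w ∈ fx s from hsf)
      exact hu0 (Submodule.disjoint_def.mp (hdisj _ _ (hpz_ne _).symm) u hu
        (by have := sub_mem hs hw; simpa using this))
  have hpz2 : ∀ t : T, pz (pz t) = t := fun t => Subtype.ext (by
    show (t : G) * z * z = t
    have hzz : z * z = 1 := by rw [← pow_two, ← hz]; exact pow_orderOf_eq_one z
    rw [mul_assoc, hzz, mul_one])
  have hall : ∀ s t : T, s ≠ t → s ≠ pz t → a s = a t := by
    intro s t h1 h2
    have h3 : t ≠ pz s := fun h => h2 (by rw [h, hpz2])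
    have := hle s t h1
    have := hle s (pz t) h2
    have := hle t (pz s) h3
    have := heq s; have := heq t
    omega
  have hpa : ∀ t : T, a (pz t) = a t := by
    intro t
    obtain ⟨s, h1, h2⟩ := hother t
    rw [← hall s t h1 h2, hall s (pz t) h2 (by rwa [hpz2])]
  have hconst : ∀ s t : T, a s = a t := by
    intro s t
    by_cases h1 : s = t
    · rw [h1]
    by_cases h2 : s = pz t
    · rw [h2]; exact hpa t
    exact hall s t h1 h2
  obtain ⟨v0, hv0⟩ := exists_ne (0 : V)
  obtain ⟨t0', ⟨-, ht0f⟩, ht0, -⟩ := hex v0 hv0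
  let t0 : T := ⟨t0', ht0, fun h => hv0 (hcen _ ht0 h _ ht0f)⟩
  set r := a t0 with hr
  have hn2 : n = 2 * r := by have := heq t0; rw [hpa] at this; omega
  have hV : Nat.card V = q ^ (2 * r) := by
    rw [Module.natCard_eq_pow_finrank (K := ZMod q) (V := V), Nat.card_zmod, ← hn, hn2]
  refine ⟨r, hV, ?_⟩
  let e : (Σ t : T, {v : fx (t : G) // v ≠ 0}) → {v : V // v ≠ 0} :=
    fun p => ⟨(p.2.1 : V), fun h => p.2.2 (Subtype.ext h)⟩
  have he : Function.Bijective e := by
    constructor
    · rintro ⟨s, ⟨⟨v, hv⟩, hvne⟩⟩ ⟨t, ⟨⟨w, hw⟩, hwne⟩⟩ h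
      have h' : v = w := congrArg Subtype.val h
      subst h'
      have hst : s = t := by
        by_contra hst
        exact hvne (Subtype.ext (Submodule.disjoint_def.mp (hdisj s t hst) v hv hw))
      subst hst
      rfl
    · rintro ⟨v, hv⟩
      obtain ⟨t, ⟨-, htf⟩, ht2, -⟩ := hex v hv
      exact ⟨⟨⟨t, ht2, fun h => hv (hcen t ht2 h _ htf)⟩, ⟨⟨v, htf⟩,
        fun h => hv (congrArg Subtype.val h)⟩⟩, rfl⟩
  have hcard := Nat.card_congr (Equiv.ofBijective e he)
  haveI : ∀ t : T, Finite {v : fx (t : G) // v ≠ 0} := fun t => inferInstance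
  letI : Fintype T := Fintype.ofFinite T
  rw [Nat.card_sigma] at hcard
  have hcompl : ∀ (X : Type _) [Finite X] (x : X), Nat.card {y : X // y ≠ x} = Nat.card X - 1 := by
    intro X _ x
    letI := Fintype.ofFinite X
    rw [Nat.card_eq_fintype_card, Nat.card_eq_fintype_card, Fintype.card_subtype_compl,
      Fintype.card_subtype_eq]
  have hfix : ∀ t : T, Nat.card {v : fx (t : G) // v ≠ 0} = q ^ r - 1 := by
    intro t
    rw [hcompl, Module.natCard_eq_pow_finrank (K := ZMod q) (V := fx (t : G)), Nat.card_zmod]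
    show q ^ a t - 1 = _
    rw [hconst t t0]
  simp only [hfix, hcompl, Finset.sum_const, smul_eq_mul, Finset.card_univ] at hcard
  rw [hV, ← Nat.card_eq_fintype_card] at hcard
  have hr0 : r ≠ 0 := fun h => hnebot t0 (Submodule.finrank_eq_zero.mp h)
  have hq1 : 1 < q ^ r := Nat.one_lt_pow hr0 (Fact.out : q.Prime).one_lt
  refine Nat.eq_of_mul_eq_mul_right (show 0 < q ^ r - 1 by omega) (hcard.trans ?_)
  rw [← Nat.sq_sub_sq, one_pow, ← pow_mul, mul_comm r 2]

end Cfsg.Agent.S3381
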