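import Cfsg.Statements.S3382


set_option autoImplicit false
open Cfsg

namespace Cfsg.Agent.S3382

section aux
variable {q : ℕ} [Fact q.Prime]

/-- diagonal map -/
noncomputable def dg (p : (ZMod q)ˣ × (ZMod q)ˣ) : (Fin 2 → ZMod q) ≃ₗ[ZMod q] (Fin 2 → ZMod q) :=
  LinearEquiv.piCongrRight fun i => LinearEquiv.smulOfUnit (![p.1, p.2] i)

/-- coordinate swap -/
noncomputable def sw : (Fin 2 → ZMod q) ≃ₗ[ZMod q] (Fin 2 → ZMod q) :=
  LinearEquiv.funCongrLeft (ZMod q) (ZMod q) (Equiv.swap 0 1)

theorem dg_apply (p : (ZMod q)ˣ × (ZMod q)ˣ) (v : Fin 2 → ZMod q) :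
    dg p v = ![(p.1 : ZMod q) * v 0, (p.2 : ZMod q) * v 1] := by
  funext i
  fin_cases i <;> simp [dg] <;> rfl

theorem sw_apply (v : Fin 2 → ZMod q) : (sw : (Fin 2 → ZMod q) ≃ₗ[ZMod q] (Fin 2 → ZMod q)) v = ![v 1, v 0] := by
  funext i
  fin_cases i <;> simp [sw]

theorem dg_mul (p p' : (ZMod q)ˣ × (ZMod q)ˣ) : dg p * dg p' = dg (p * p') := by
  refine LinearEquiv.ext fun v => ?_
  show dg p (dg p' v) = _
  simp [dg_apply, mul_assoc]

theorem dg_one : dg (1 : (ZMod q)ˣ × (ZMod q)ˣ) = 1 := by
  refine LinearEquiv.ext fun v => ?_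
  funext i
  fin_cases i <;> simp [dg_apply]

theorem dg_injective : Function.Injective (dg (q := q)) := by
  intro p p' h
  have h0 := congrFun (LinearEquiv.congr_fun h ![1, 1]) 0
  have h1 := congrFun (LinearEquiv.congr_fun h ![1, 1]) 1
  simp [dg_apply] at h0 h1
  exact Prod.ext (Units.ext h0) (Units.ext h1)

theorem dg_mul_sw (p : (ZMod q)ˣ × (ZMod q)ˣ) : dg p * sw = sw * dg p.swap := by
  refine LinearEquiv.ext fun v => ?_
  show dg p (sw v) = sw (dg p.swap v)
  simp [dg_apply, sw_apply]

theorem sw_sq : (sw : (Fin 2 → ZMod q) ≃ₗ[ZMod q] (Fin 2 → ZMod q)) * sw = 1 := by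
  refine LinearEquiv.ext fun v => ?_
  show sw (sw v) = v
  funext i
  fin_cases i <;> simp [sw_apply]

theorem sw_dg_sq (p : (ZMod q)ˣ × (ZMod q)ˣ) : (sw * dg p) * (sw * dg p) = dg (p.swap * p) := by
  rw [mul_assoc, ← mul_assoc (dg p), dg_mul_sw, mul_assoc, ← mul_assoc sw, sw_sq, one_mul, dg_mul]

theorem sw_ne_dg (p : (ZMod q)ˣ × (ZMod q)ˣ) : sw ≠ dg p := by
  intro h
  have h0 := congrFun (LinearEquiv.congr_fun h ![1, 0]) 0
  simp [dg_apply, sw_apply] at h0
  exact p.1.ne_zero h0.symm

end aux

section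
variable {q : ℕ} [Fact q.Prime]
variable {T : Subgroup ((Fin 2 → ZMod q) ≃ₗ[ZMod q] (Fin 2 → ZMod q))}

theorem core (m : ℕ) (hq : q = 2 ^ m + 1) (hq5 : q ≠ 5)
    (hdgT : ∀ p : (ZMod q)ˣ × (ZMod q)ˣ, (p.1 * p.2) ^ 2 = 1 → dg p ∈ T)
    (hswT : sw ∈ T)
    (hT' : ∀ f ∈ T, ∃ p : (ZMod q)ˣ × (ZMod q)ˣ, (p.1 * p.2) ^ 2 = 1 ∧ (f = dg p ∨ f = sw * dg p))
    (σ : MulAut T) (hσ : Odd (orderOf σ)) : σ = 1 := by
  classical
  have hpm : ∀ u : (ZMod q)ˣ, u ^ 2 = 1 → u = 1 ∨ u = -1 := by
    intro u h
    have : ((u : ZMod q)) ^ 2 = 1 := by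
      rw [← Units.val_pow_eq_pow_val, h, Units.val_one]
    rcases sq_eq_one_iff.mp this with h | h
    · exact Or.inl (Units.ext h)
    · exact Or.inr (Units.ext (by simpa using h))
  have hu2 : ∀ u : (ZMod q)ˣ, u ^ 2 ^ m = 1 := by
    intro u
    have h : Nat.card (ZMod q)ˣ = 2 ^ m := by
      rw [Nat.card_eq_fintype_card, ZMod.card_units q, hq]; rfl
    rw [← h]; exact pow_card_eq_one'
  -- every element has two-power order
  have h2pow : ∀ x : T, ∃ k, x ^ 2 ^ k = 1 := by
    intro x
    obtain ⟨p, -, hx | hx⟩ := hT' _ x.2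
    · refine ⟨m, Subtype.ext ?_⟩
      have hk : ∀ k, (dg p) ^ k = dg (p ^ k) := by
        intro k
        induction k with
        | zero => rw [pow_zero, pow_zero, dg_one]
        | succ k ih => rw [pow_succ, pow_succ, ih, dg_mul]
      rw [SubmonoidClass.coe_pow, hx, hk, show p ^ 2 ^ m = 1 from
        Prod.ext (hu2 p.1) (hu2 p.2), dg_one]
      rfl
    · refine ⟨m + 1, Subtype.ext ?_⟩
      have hk : ∀ k, (dg (p.swap * p)) ^ k = dg ((p.swap * p) ^ k) := by
        intro k
        induction k with
        | zero => rw [pow_zero, pow_zero, dg_one]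
        | succ k ih => rw [pow_succ, pow_succ, ih, dg_mul]
      rw [SubmonoidClass.coe_pow, hx, pow_succ', pow_mul, pow_two, sw_dg_sq, hk,
        show (p.swap * p) ^ 2 ^ m = 1 from Prod.ext (hu2 _) (hu2 _), dg_one]
      rfl
  -- fixed subgroup
  let K : Subgroup T := (σ.toMonoidHom).eqLocus (MonoidHom.id T)
  have hmemK : ∀ x, x ∈ K ↔ σ x = x := fun x => Iff.rfl
  have step : ∀ x : T, x⁻¹ * σ x ∈ K → x ∈ K := by
    intro x hx
    rw [hmemK] at hx ⊢
    set h := x⁻¹ * σ x with hh
    have hit : ∀ n : ℕ, (σ ^ n) x = x * h ^ n := by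
      intro n
      induction n with
      | zero => simp
      | succ n ih =>
        rw [pow_succ', MulAut.mul_apply, ih, map_mul, map_pow, hx, pow_succ', ← mul_assoc x h]
        rw [hh, mul_inv_cancel_left]
    have h1 : h ^ orderOf σ = 1 := by
      have := hit (orderOf σ)
      rw [pow_orderOf_eq_one, MulAut.one_apply] at this
      exact mul_left_cancel (this.symm.trans (mul_one x).symm)
    obtain ⟨k, hk⟩ := h2pow h
    have h3 : h = 1 := by
      have := (pow_gcd_eq_one).mpr ⟨h1, hk⟩
      rw [Nat.Coprime.pow_right k (Nat.coprime_two_right.mpr hσ), pow_one] at this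
      exact this
    rw [← mul_inv_cancel_left x (σ x), ← hh, h3, mul_one]
  let δ : (p : (ZMod q)ˣ × (ZMod q)ˣ) → (p.1 * p.2) ^ 2 = 1 → T := fun p h => ⟨dg p, hdgT p h⟩
  let w : T := ⟨sw, hswT⟩
  suffices h : (∀ p h, δ p h ∈ K) ∧ w ∈ K by
    refine MulEquiv.ext fun x => ?_
    rw [MulAut.one_apply, ← hmemK]
    obtain ⟨p, hp, hx | hx⟩ := hT' _ x.2
    · rw [show x = δ p hp from Subtype.ext hx]; exact h.1 p hp
    · rw [show x = w * δ p hp from Subtype.ext hx]; exact mul_mem h.2 (h.1 p hp)
  have hq2 := (Fact.out : q.Prime).two_le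
  rcases Nat.lt_or_ge m 2 with hm | hm
  · rcases Nat.lt_or_ge m 1 with hm0 | hm1
    · -- `q = 2`
      have hm' : m = 0 := by omega
      subst hm'
      have hu : ∀ u : (ZMod q)ˣ, u = 1 := fun u => by simpa using hu2 u
      have hp : ∀ p : (ZMod q)ˣ × (ZMod q)ˣ, dg p = 1 := fun p => by
        rw [show p = 1 from Prod.ext (hu _) (hu _), dg_one]
      have htwo : ∀ x : T, x = 1 ∨ x = w := by
        intro x
        obtain ⟨p, -, hx | hx⟩ := hT' _ x.2
        · exact Or.inl (Subtype.ext (hx.trans (hp p)))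
        · exact Or.inr (Subtype.ext (by rw [hx, hp, mul_one]))
      refine ⟨fun p h => ?_, ?_⟩
      · rw [show δ p h = 1 from Subtype.ext (hp p)]; exact one_mem _
      · rw [hmemK]
        rcases htwo (σ w) with h | h
        · have hw1 : w = 1 := σ.injective (h.trans (map_one σ).symm)
          rw [hw1, map_one]
        · exact h
    · -- `q = 3`
      have hm' : m = 1 := by omega
      subst hm'
      have hu : ∀ u : (ZMod q)ˣ, u = 1 ∨ u = -1 := fun u => hpm u (by simpa using hu2 u)
      have h11 : ∀ p : (ZMod q)ˣ × (ZMod q)ˣ, (p.1 * p.2) ^ 2 = 1 := fun p => by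
        simpa using hu2 (p.1 * p.2)
      let r : T := w * δ (1, -1) (h11 _)
      let c : T := δ (-1, -1) (h11 _)
      have hr2 : r * r = c := Subtype.ext (by
        show (sw * dg (1, -1)) * (sw * dg (1, -1)) = _
        rw [sw_dg_sq]
        congr 1
        ext <;> simp)
      have hr2' : ∀ x : T, x * x ≠ 1 → x = r ∨ x = r * c := by
        intro x hx
        obtain ⟨p, -, h | h⟩ := hT' _ x.2
        · refine absurd (Subtype.ext ?_) hx
          rw [Subgroup.coe_mul, h, dg_mul, show p * p = 1 from
            Prod.ext (by simpa [pow_two] using hu2 p.1) (by simpa [pow_two] using hu2 p.2), dg_one]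
          rfl
        · rcases hu p.1 with h1 | h1 <;> rcases hu p.2 with h2 | h2
          · refine absurd (Subtype.ext ?_) hx
            rw [Subgroup.coe_mul, h, sw_dg_sq, show p.swap * p = 1 from
              Prod.ext (by simp [h1, h2]) (by simp [h1, h2]), dg_one]
            rfl
          · exact Or.inl (Subtype.ext (by rw [h, show p = (1, -1) from Prod.ext h1 h2]; rfl))
          · refine Or.inr (Subtype.ext ?_)
            show _ = sw * dg (1, -1) * dg (-1, -1)
            rw [h, mul_assoc, dg_mul, show p = (-1, 1) from Prod.ext h1 h2]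
            congr 2
            ext <;> simp
          · refine absurd (Subtype.ext ?_) hx
            rw [Subgroup.coe_mul, h, sw_dg_sq, show p.swap * p = 1 from
              Prod.ext (by simp [h1, h2]) (by simp [h1, h2]), dg_one]
            rfl
      have hc1 : c ≠ 1 := by
        intro h
        have h' : dg (q := q) (-1, -1) = dg 1 := (congrArg Subtype.val h).trans dg_one.symm
        have h3 : ((-1 : (ZMod q)ˣ) : ZMod q) = 1 := by
          have h4 : (-1 : (ZMod q)ˣ) = 1 := congrArg Prod.fst (dg_injective h')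
          rw [h4]; rfl
        have : ((2 : ℕ) : ZMod q) = 0 := by
          simp only [Units.val_neg, Units.val_one] at h3
          push_cast
          linear_combination -h3
        rw [ZMod.natCast_eq_zero_iff] at this
        have := Nat.le_of_dvd (by norm_num) this
        omega
      have hcc : c * c = 1 := Subtype.ext (by
        show dg (-1, -1) * dg (-1, -1) = _
        rw [dg_mul, show ((-1, -1) : (ZMod q)ˣ × (ZMod q)ˣ) * (-1, -1) = 1 by ext <;> simp, dg_one]
        rfl)
      have hrc : Commute r c := by rw [← hr2]; exact (Commute.refl r).mul_right (Commute.refl r)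
      have hσr : σ r = r ∨ σ r = r * c := hr2' _ (by
        rw [← map_mul, hr2]
        exact fun h => hc1 (σ.injective (h.trans (map_one σ).symm)))
      have hcK : c ∈ K := by
        rw [hmemK]
        conv_lhs => rw [← hr2, map_mul]
        rcases hσr with h | h <;> rw [h]
        · exact hr2
        · rw [hrc.symm.mul_mul_mul_comm, hr2, hcc, mul_one]
      have hrK : r ∈ K := step r (by
        rcases hσr with h | h <;> rw [h]
        · rw [inv_mul_cancel]; exact one_mem _
        · rw [inv_mul_cancel_left]; exact hcK)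
      have hin : ∀ x : T, x ∈ K ∨ w⁻¹ * x ∈ K := by
        have e1 : ∀ p : (ZMod q)ˣ × (ZMod q)ˣ, δ p (h11 p) ∈ K ∨ w * δ p (h11 p) ∈ K := by
          intro p
          rcases hu p.1 with h1 | h1 <;> rcases hu p.2 with h2 | h2
          · left
            rw [show δ p (h11 p) = 1 from Subtype.ext (by
              show dg p = _
              rw [show p = 1 from Prod.ext h1 h2, dg_one]; rfl)]
            exact one_mem _
          · right
            rw [show w * δ p (h11 p) = r from Subtype.ext (by
              show sw * dg p = _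
              rw [show p = (1, -1) from Prod.ext h1 h2]; rfl)]
            exact hrK
          · right
            rw [show w * δ p (h11 p) = r * c from Subtype.ext (by
              show sw * dg p = sw * dg (1, -1) * dg (-1, -1)
              rw [mul_assoc, dg_mul, show p = (-1, 1) from Prod.ext h1 h2]
              congr 2
              ext <;> simp)]
            exact mul_mem hrK hcK
          · left
            rw [show δ p (h11 p) = c from Subtype.ext (by
              show dg p = _
              rw [show p = (-1, -1) from Prod.ext h1 h2])]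
            exact hcK
        have hw1 : w⁻¹ = w := inv_eq_of_mul_eq_one_right (Subtype.ext sw_sq)
        intro x
        obtain ⟨p, -, h | h⟩ := hT' _ x.2
        · rw [show x = δ p (h11 p) from Subtype.ext h, hw1]; exact e1 p
        · rw [show x = w * δ p (h11 p) from Subtype.ext h, inv_mul_cancel_left]
          exact (e1 p).symm
      have hwK : w ∈ K := by
        rcases hin (σ w) with h | h
        · rw [hmemK]; exact σ.injective h
        · exact step w h
      refine ⟨fun p h => ?_, hwK⟩
      rcases hin (δ p h) with h' | h'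
      · exact h'
      · have := mul_mem hwK h'
        rwa [mul_inv_cancel_left] at this
  · -- `m ≥ 3`
    have hm3 : 3 ≤ m := by
      rcases Nat.lt_or_ge m 3 with h | h
      · have : m = 2 := by omega
        subst this; exact absurd hq (by simpa using hq5)
      · exact h
    obtain ⟨a, ha⟩ := IsCyclic.exists_generator (α := (ZMod q)ˣ)
    have hao : orderOf a = 2 ^ m := by
      rw [orderOf_eq_card_of_forall_mem_zpowers ha, Nat.card_eq_fintype_card, ZMod.card_units q,
        hq]; rfl
    let g : T := δ (a, a⁻¹) (by simp)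
    let e : T := δ (1, -1) (by simp)
    have hgo : orderOf g = 2 ^ m := by
      rw [← Subgroup.orderOf_coe, ← hao]
      let φ : (ZMod q)ˣ × (ZMod q)ˣ →* ((Fin 2 → ZMod q) ≃ₗ[ZMod q] (Fin 2 → ZMod q)) :=
        { toFun := dg, map_one' := dg_one, map_mul' := fun x y => (dg_mul x y).symm }
      show orderOf (φ (a, a⁻¹)) = _
      rw [orderOf_injective φ dg_injective, Prod.orderOf_mk, orderOf_inv, Nat.lcm_self]
    let Dg : Subgroup T := Subgroup.closure {g, e}
    have hDg : ∀ p h, δ p h ∈ Dg := by
      intro p h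
      obtain ⟨i, hi⟩ := Subgroup.mem_zpowers_iff.mp (ha p.1)
      have hmul : ∀ (p' : (ZMod q)ˣ × (ZMod q)ˣ) (h' : (p'.1 * p'.2) ^ 2 = 1),
          ((δ p' h' : T) : _) = dg p' := fun _ _ => rfl
      have key : δ p h = g ^ i * δ (1, p.1 * p.2) (by simpa using h) := by
        refine Subtype.ext ?_
        let φ : (ZMod q)ˣ × (ZMod q)ˣ →* ((Fin 2 → ZMod q) ≃ₗ[ZMod q] (Fin 2 → ZMod q)) :=
          { toFun := dg, map_one' := dg_one, map_mul' := fun x y => (dg_mul x y).symm }
        show φ p = ((g ^ i : T) : _) * φ (1, p.1 * p.2)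
        rw [SubgroupClass.coe_zpow]
        show φ p = (φ (a, a⁻¹)) ^ i * φ (1, p.1 * p.2)
        rw [← map_zpow, ← map_mul]
        congr 1
        ext <;> simp [hi]
      rw [key]
      refine mul_mem (zpow_mem (Subgroup.subset_closure (by simp)) i) ?_
      rcases hpm _ h with h1 | h1
      · rw [show δ (1, p.1 * p.2) (by simpa using h) = 1 from Subtype.ext (by
          show dg (1, p.1 * p.2) = _
          rw [h1]; exact dg_one)]
        exact one_mem _
      · rw [show δ (1, p.1 * p.2) (by simpa using h) = e from Subtype.ext (by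
          show dg (1, p.1 * p.2) = _
          rw [h1])]
        exact Subgroup.subset_closure (by simp)
    have hge : Commute g e := Subtype.ext (by
      show dg _ * dg _ = dg _ * dg _
      rw [dg_mul, dg_mul, mul_comm])
    have hee : e * e = 1 := Subtype.ext (by
      show dg _ * dg _ = _
      rw [dg_mul, show ((1, -1) : (ZMod q)ˣ × (ZMod q)ˣ) * (1, -1) = 1 by ext <;> simp, dg_one]
      rfl)
    have hform : ∀ x ∈ Dg, ∃ (i : ℤ), x = g ^ i ∨ x = g ^ i * e := by
      intro x hx
      induction hx using Subgroup.closure_induction with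
      | mem y hy =>
        rcases hy with rfl | rfl
        · exact ⟨1, Or.inl (zpow_one _).symm⟩
        · exact ⟨0, Or.inr (by simp)⟩
      | one => exact ⟨0, Or.inl (zpow_zero g).symm⟩
      | mul y z _ _ hy hz =>
        obtain ⟨i, hy⟩ := hy; obtain ⟨j, hz⟩ := hz
        refine ⟨i + j, ?_⟩
        rcases hy with hy | hy <;> rcases hz with hz | hz <;> rw [hy, hz, zpow_add]
        · exact Or.inl rfl
        · exact Or.inr (mul_assoc _ _ _).symm
        · refine Or.inr ?_
          rw [mul_assoc, (hge.zpow_left j).eq.symm, mul_assoc]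
        · refine Or.inl ?_
          rw [(hge.zpow_left j).symm.mul_mul_mul_comm, hee, mul_one]
      | inv y _ hy =>
        obtain ⟨i, hy⟩ := hy
        refine ⟨-i, ?_⟩
        rcases hy with hy | hy <;> rw [hy, zpow_neg]
        · exact Or.inl rfl
        · refine Or.inr ?_
          rw [mul_inv_rev, inv_eq_of_mul_eq_one_right hee]
          exact ((hge.zpow_left i).inv_left.eq).symm
    have hσg : σ g ∈ Dg := by
      obtain ⟨p, hp, h | h⟩ := hT' _ (σ g).2
      · rw [show σ g = δ p hp from Subtype.ext h]; exact hDg p hp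
      · exfalso
        have h4 : (σ g) ^ 4 = 1 := Subtype.ext (by
          rw [SubmonoidClass.coe_pow, h, show (4 : ℕ) = 2 * 2 from rfl, pow_mul, pow_two (sw * dg p),
            sw_dg_sq, pow_two, dg_mul, show (p.swap * p) * (p.swap * p) = 1 from Prod.ext
              (by show (p.2 * p.1) * (p.2 * p.1) = 1; rw [← pow_two, mul_comm]; exact hp)
              (by show (p.1 * p.2) * (p.1 * p.2) = 1; rw [← pow_two]; exact hp), dg_one]
          rfl)
        rw [← map_pow] at h4
        have hg4 := orderOf_dvd_of_pow_eq_one (σ.injective (h4.trans (map_one σ).symm))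
        rw [hgo] at hg4
        have := Nat.le_of_dvd (by norm_num) hg4
        have := Nat.pow_le_pow_right (show 0 < 2 by norm_num) hm3
        omega
    have hσe : σ e ∈ Dg := by
      obtain ⟨p, hp, h | h⟩ := hT' _ (σ e).2
      · rw [show σ e = δ p hp from Subtype.ext h]; exact hDg p hp
      · exfalso
        obtain ⟨p', hp', h' | h'⟩ := hT' _ (σ g).2
        swap
        · obtain ⟨i, hi | hi⟩ := hform _ hσg
          all_goals
            have hd : ∃ p'' : (ZMod q)ˣ × (ZMod q)ˣ, ((σ g : T) : _) = dg p'' := by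
              let φ : (ZMod q)ˣ × (ZMod q)ˣ →* ((Fin 2 → ZMod q) ≃ₗ[ZMod q] (Fin 2 → ZMod q)) :=
                { toFun := dg, map_one' := dg_one, map_mul' := fun x y => (dg_mul x y).symm }
              rw [hi]
              first
                | exact ⟨(a, a⁻¹) ^ i, by rw [SubgroupClass.coe_zpow]; exact (map_zpow φ _ i).symm⟩
                | exact ⟨(a, a⁻¹) ^ i * (1, -1), by
                    rw [Subgroup.coe_mul, SubgroupClass.coe_zpow]
                    show φ (a, a⁻¹) ^ i * φ (1, -1) = φ _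
                    rw [map_mul, map_zpow]⟩
            obtain ⟨p'', hd⟩ := hd
            rw [h'] at hd
            apply sw_ne_dg (p'' * p'⁻¹)
            rw [← dg_mul, ← hd, mul_assoc, dg_mul, mul_inv_cancel, dg_one, mul_one]
        · have hc : σ g * σ e = σ e * σ g := by rw [← map_mul, hge.eq, map_mul]
          have hc' := congrArg Subtype.val hc
          simp only [Subgroup.coe_mul] at hc'
          rw [h, h', ← mul_assoc, dg_mul_sw, mul_assoc, mul_assoc] at hc'
          have := dg_injective ((dg_mul _ _).symm.trans ((mul_left_cancel hc').trans (dg_mul _ _)))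
          rw [mul_comm p p'] at this
          have hsw : p'.swap = p' := mul_right_cancel this
          have h12 : p'.2 = p'.1 := congrArg Prod.fst hsw
          rw [h12] at hp'
          have h4 : (σ g) ^ 4 = 1 := Subtype.ext (by
            rw [SubmonoidClass.coe_pow, h', show (4 : ℕ) = 2 * 2 from rfl, pow_mul, pow_two (dg p'),
              dg_mul, pow_two, dg_mul, show (p' * p') * (p' * p') = 1 from Prod.ext
                (by rw [← pow_two]; exact hp')
                (by show (p'.2 * p'.2) * (p'.2 * p'.2) = 1; rw [h12, ← pow_two]; exact hp'), dg_one]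
            rfl)
          rw [← map_pow] at h4
          have hg4 := orderOf_dvd_of_pow_eq_one (σ.injective (h4.trans (map_one σ).symm))
          rw [hgo] at hg4
          have := Nat.le_of_dvd (by norm_num) hg4
          have := Nat.pow_le_pow_right (show 0 < 2 by norm_num) hm3
          omega
    -- `σ g = g ^ k` up to `e`
    obtain ⟨k, hk⟩ := hform _ hσg
    have hk2 : σ (g ^ 2) = g ^ (2 * k) := by
      rw [map_pow]
      rcases hk with h | h <;> rw [h]
      · rw [mul_comm, zpow_mul]; norm_cast
      · rw [(hge.zpow_left k).mul_pow, pow_two e, hee, mul_one, mul_comm, zpow_mul]; norm_cast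
    have hkodd : Odd k := by
      rw [← Int.not_even_iff_odd]
      rintro ⟨j, hj⟩
      have h1 : (g ^ 2) ^ 2 ^ (m - 2) = 1 := σ.injective (by
        rw [map_pow, map_one, hk2, ← zpow_natCast, ← zpow_mul]
        have h0 : g ^ ((2 ^ m : ℕ) : ℤ) = 1 := by rw [zpow_natCast, ← hgo, pow_orderOf_eq_one]
        rw [show (2 * k * ((2 ^ (m - 2) : ℕ) : ℤ)) = ((2 ^ m : ℕ) : ℤ) * j by
          obtain ⟨l, rfl⟩ : ∃ l, m = l + 2 := ⟨m - 2, by omega⟩
          rw [hj, Nat.add_sub_cancel]; push_cast; ring, zpow_mul, h0, one_zpow])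
      rw [← pow_mul, ← pow_succ'] at h1
      have h2 := orderOf_dvd_of_pow_eq_one h1
      rw [hgo, Nat.pow_dvd_pow_iff_le_right (by norm_num)] at h2
      omega
    have hchain : ∀ j, j < m → g ^ 2 ^ (m - j) ∈ K := by
      intro j
      induction j with
      | zero => intro _; rw [Nat.sub_zero, ← hgo, pow_orderOf_eq_one]; exact one_mem _
      | succ j ih =>
        intro hj
        refine step _ ?_
        obtain ⟨i, hi⟩ : ∃ i, m - (j + 1) = i + 1 := ⟨m - (j + 1) - 1, by omega⟩
        have hji : m - j = i + 2 := by omega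
        rw [hi]
        have : σ (g ^ 2 ^ (i + 1)) = g ^ (((2 ^ (i + 1) : ℕ) : ℤ) * k) := by
          rw [pow_succ', pow_mul, map_pow, hk2, ← zpow_natCast, ← zpow_mul]
          congr 1; push_cast; ring
        rw [this, ← zpow_natCast, ← zpow_neg, ← zpow_add]
        obtain ⟨l, hl⟩ := hkodd
        rw [show -((2 ^ (i + 1) : ℕ) : ℤ) + ((2 ^ (i + 1) : ℕ) : ℤ) * k
          = ((2 ^ (i + 2) : ℕ) : ℤ) * l by rw [hl]; push_cast; ring, zpow_mul, zpow_natCast]
        have := ih (by omega)
        rw [hji] at this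
        exact zpow_mem this l
    have hg2 : g ^ 2 ∈ K := by
      have := hchain (m - 1) (by omega)
      rwa [show m - (m - 1) = 1 by omega, pow_one] at this
    have hev : ∀ i : ℤ, Even i → g ^ i ∈ K := by
      rintro i ⟨l, rfl⟩
      rw [← two_mul, zpow_mul]
      exact zpow_mem (by exact_mod_cast hg2) l
    have heK : e ∈ K := by
      obtain ⟨i, hi⟩ := hform _ hσe
      have hsq : (σ e) ^ 2 = 1 := by rw [← map_pow, pow_two, hee, map_one]
      have hiev : Even i := by
        have h2i : g ^ (i * 2) = 1 := by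
          rw [← hsq, zpow_mul]
          rcases hi with h | h <;> rw [h]
          · norm_cast
          · rw [(hge.zpow_left i).mul_pow, pow_two e, hee, mul_one]; norm_cast
        have hd := orderOf_dvd_iff_zpow_eq_one.mpr h2i
        rw [hgo] at hd
        obtain ⟨l, hl⟩ := hd
        obtain ⟨n, rfl⟩ : ∃ n, m = n + 2 := ⟨m - 2, by omega⟩
        refine ⟨(2 : ℤ) ^ n * l, ?_⟩
        push_cast at hl
        rw [pow_add] at hl
        linarith
      rcases hi with h | h
      · rw [hmemK]
        have : σ (σ e) = σ e := by rw [h]; exact hev i hiev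
        exact σ.injective this
      · refine step e ?_
        rw [h, (hge.zpow_left i).eq, inv_mul_cancel_left]
        exact hev i hiev
    have hgK : g ∈ K := by
      refine step g ?_
      obtain ⟨l, hl⟩ := hkodd
      rcases hk with h | h <;> rw [h]
      · rw [← zpow_neg_one, ← zpow_add]
        exact hev _ ⟨l, by omega⟩
      · rw [← mul_assoc, ← zpow_neg_one, ← zpow_add]
        exact mul_mem (hev _ ⟨l, by omega⟩) heK
    have hDK : Dg ≤ K := by
      rw [Subgroup.closure_le]
      rintro x (rfl | rfl)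
      · exact hgK
      · exact heK
    refine ⟨fun p h => hDK (hDg p h), ?_⟩
    obtain ⟨p, hp, h | h⟩ := hT' _ (σ w).2
    · have hfix : σ (σ w) = σ w := by
        rw [show σ w = δ p hp from Subtype.ext h]; exact hDK (hDg p hp)
      exact σ.injective hfix
    · refine step w ?_
      rw [show σ w = w * δ p hp from Subtype.ext h, inv_mul_cancel_left]
      exact hDK (hDg p hp)

end


/-- Let q = 2^m + 1 be a prime other than 5. Then the automorphism group of the group of linear maps of F_q² of the forms (x, y) ↦ (a x, ± a⁻¹ y) and (x, y) ↦ (± a⁻¹ y, a x) with a ≠ 0 is itself a 2-group. -/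
theorem result (q m : ℕ) [Fact q.Prime] (hq : q = 2 ^ m + 1) (hq5 : q ≠ 5)
    (T : Subgroup ((Fin 2 → ZMod q) ≃ₗ[ZMod q] (Fin 2 → ZMod q)))
    (hT : ∀ f, f ∈ T ↔ ∃ a s : ZMod q, a ≠ 0 ∧ (s = 1 ∨ s = -1) ∧
      ((∀ v, f v = ![a * v 0, s * a⁻¹ * v 1]) ∨ (∀ v, f v = ![s * a⁻¹ * v 1, a * v 0]))) :
    IsPGroup 2 (MulAut T) := by
  classical
  have hmem : ∀ p : (ZMod q)ˣ × (ZMod q)ˣ, (p.1 * p.2) ^ 2 = 1 →
      dg p ∈ T ∧ sw * dg p ∈ T := by
    intro p hp
    have hs : ((p.1 * p.2 : (ZMod q)ˣ) : ZMod q) ^ 2 = 1 := by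
      rw [← Units.val_pow_eq_pow_val, hp, Units.val_one]
    have hb : ((p.1 * p.2 : (ZMod q)ˣ) : ZMod q) * (p.1 : ZMod q)⁻¹ = (p.2 : ZMod q) := by
      rw [Units.val_mul]; field_simp
    constructor
    · rw [hT]
      refine ⟨p.1, (p.1 * p.2 : (ZMod q)ˣ), p.1.ne_zero, sq_eq_one_iff.mp hs, Or.inl fun v => ?_⟩
      rw [dg_apply, hb]
    · rw [hT]
      refine ⟨p.1, (p.1 * p.2 : (ZMod q)ˣ), p.1.ne_zero, sq_eq_one_iff.mp hs, Or.inr fun v => ?_⟩
      show sw (dg p v) = _
      rw [dg_apply, sw_apply, hb]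
      simp
  have hsw : sw ∈ T := by
    have := (hmem 1 (by simp)).2
    rwa [dg_one, mul_one] at this
  have hT' : ∀ f ∈ T, ∃ p : (ZMod q)ˣ × (ZMod q)ˣ, (p.1 * p.2) ^ 2 = 1 ∧
      (f = dg p ∨ f = sw * dg p) := by
    intro f hf
    obtain ⟨a, s, ha, hs, hfv⟩ := (hT f).mp hf
    have hs0 : s ≠ 0 := by rcases hs with rfl | rfl <;> simp
    refine ⟨(Units.mk0 a ha, Units.mk0 (s * a⁻¹) (mul_ne_zero hs0 (inv_ne_zero ha))), ?_, ?_⟩
    · ext
      simp only [Units.val_pow_eq_pow_val, Units.val_mul, Units.val_mk0, Units.val_one]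
      rw [mul_comm s, mul_inv_cancel_left₀ ha]
      rcases hs with rfl | rfl <;> simp
    · rcases hfv with h | h
      · exact Or.inl (LinearEquiv.ext fun v => by rw [h v, dg_apply]; rfl)
      · refine Or.inr (LinearEquiv.ext fun v => ?_)
        rw [h v]
        show _ = sw (dg _ v)
        rw [dg_apply, sw_apply]
        simp
  haveI : Finite ((Fin 2 → ZMod q) ≃ₗ[ZMod q] (Fin 2 → ZMod q)) :=
    Finite.of_injective (fun f : (Fin 2 → ZMod q) ≃ₗ[ZMod q] (Fin 2 → ZMod q) =>
      (f : (Fin 2 → ZMod q) → (Fin 2 → ZMod q))) DFunLike.coe_injective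
  haveI : Finite (MulAut T) := Finite.of_injective (fun σ : MulAut T => (σ : T → T))
    DFunLike.coe_injective
  intro σ
  obtain ⟨k, n, hn, hkn⟩ := Nat.exists_eq_two_pow_mul_odd (orderOf_pos σ).ne'
  refine ⟨k, core m hq hq5 (fun p hp => (hmem p hp).1) hsw hT' (σ ^ 2 ^ k) ?_⟩
  rw [orderOf_pow, hkn, Nat.gcd_eq_right (dvd_mul_right _ _), Nat.mul_div_cancel_left _ (by positivity)]
  exact hn

end Cfsg.Agent.S3382
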