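import Cfsg.Statements.S3383
import Cfsg.Agent.Lib.Frobenius.Basic
-- import your own Cfsg.Agent.* helpers here

set_option autoImplicit false
open Cfsg

namespace Cfsg.Agent.S3383

/-- Let H be a Frobenius complement in a finite group L and K the Frobenius kernel (as a subgroup). Then K is characteristic in L, and every normal subgroup of L either contains K or is contained in K. -/
theorem result {L : Type*} [Group L] [Finite L]
    (H : Subgroup L) (hH : Cfsg.IsFrobeniusComplement H)
    (K : Subgroup L) (hK : (K : Set L) = Cfsg.frobeniusKernel H) :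
    K.Characteristic ∧ ∀ N : Subgroup L, N.Normal → K ≤ N ∨ N ≤ K := by
  have hmem : ∀ x, x ∈ K ↔ x ∈ Cfsg.frobeniusKernel H := fun x => by rw [← hK]; rfl
  have hcard : Nat.card K = H.index := by
    rw [← Frobenius.card_frobeniusKernel hH, ← hK]
    rfl
  have hcop : (Nat.card H).Coprime H.index := Frobenius.coprime_card_index hH
  have hKn : K.Normal := ⟨fun x hx a => (hmem _).2 (Frobenius.conj_mem_frobeniusKernel ((hmem x).1 hx) a)⟩
  have hidx : K.index = Nat.card H := by
    have h1 := Subgroup.card_mul_index K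
    have h2 := Subgroup.card_mul_index H
    rw [hcard, ← h2, mul_comm (Nat.card H)] at h1
    exact Nat.eq_of_mul_eq_mul_left (Nat.pos_of_ne_zero H.index_ne_zero_of_finite) h1
  refine ⟨?_, fun N hN => ?_⟩
  · rw [Subgroup.characteristic_iff_map_le]
    intro φ
    rintro _ ⟨x, hx, rfl⟩
    show φ x ∈ K
    have h1 : orderOf (φ x) ∣ H.index := by
      rw [MulEquiv.orderOf_eq, ← hcard, ← Subgroup.orderOf_mk x hx]
      exact orderOf_dvd_natCard _
    rw [← QuotientGroup.eq_one_iff, ← orderOf_eq_one_iff]
    have h2 : orderOf (φ x : L ⧸ K) ∣ Nat.card H := by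
      rw [← hidx, Subgroup.index_eq_card]
      exact orderOf_dvd_natCard _
    have h3 : orderOf (φ x : L ⧸ K) ∣ H.index := (orderOf_map_dvd (QuotientGroup.mk' K) (φ x)).trans h1
    exact Nat.eq_one_of_dvd_coprimes hcop h2 h3
  · by_cases hNH : ∀ h ∈ N, h ∈ H → h = 1
    · refine Or.inr fun x hx => (hmem x).2 ?_
      by_contra hk
      obtain ⟨-, g, hg⟩ := Frobenius.exists_conj_of_not_mem_frobeniusKernel hk
      replace hg := Frobenius.mem_conj_smul.1 hg
      have h1 := hNH _ (hN.conj_mem' x hx g) hg
      have hx1 : x = 1 := by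
        calc x = g * (g⁻¹ * x * g) * g⁻¹ := by group
          _ = 1 := by rw [h1]; group
      exact hk (hx1 ▸ Frobenius.one_mem_frobeniusKernel)
    · push Not at hNH
      obtain ⟨h, hhN, hhH, hh1⟩ := hNH
      left
      let F : K → K := fun k => ⟨(k : L) * h * (k : L)⁻¹ * h⁻¹, by
        have h1 := hKn.conj_mem _ (inv_mem k.2) h
        simpa [mul_assoc] using K.mul_mem k.2 h1⟩
      have hinj : Function.Injective F := by
        intro a b hab
        have h1 : (a : L) * h * (a : L)⁻¹ = b * h * (b : L)⁻¹ :=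
          mul_right_cancel (congrArg Subtype.val hab)
        have h2 : ((b : L)⁻¹ * a) * h = h * ((b : L)⁻¹ * a) := by
          calc ((b : L)⁻¹ * a) * h = (b : L)⁻¹ * (a * h * (a : L)⁻¹) * a := by group
            _ = _ := by rw [h1]; group
        have h3 : (b : L)⁻¹ * a ∈ H :=
          Frobenius.centralizer_le hH hh1 hhH (Subgroup.mem_centralizer_singleton_iff.2 h2)
        have h4 : (b : L)⁻¹ * a ∈ K := K.mul_mem (inv_mem b.2) a.2
        have h5 := Frobenius.eq_one_of_mem_frobeniusKernel_of_mem ((hmem _).1 h4) h3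
        exact Subtype.ext (inv_mul_eq_one.1 h5).symm
      intro x hx
      obtain ⟨k, hk⟩ := Finite.surjective_of_injective hinj ⟨x, hx⟩
      have h1 : (k : L) * h * (k : L)⁻¹ * h⁻¹ = x := congrArg Subtype.val hk
      rw [← h1]
      exact N.mul_mem (hN.conj_mem h hhN k) (inv_mem hhN)

end Cfsg.Agent.S3383
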