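import Cfsg.Statements.S3389
-- import your own Cfsg.Agent.* helpers here

set_option autoImplicit false
open Cfsg

namespace Cfsg.Agent.S3389

open MulAction

variable {G : Type*} [Group G] [Finite G] {Ω : Type*} [Fintype Ω] [MulAction G Ω]

/-- A `p`-subgroup fixing fewer than `p` points, and at least one, is maximal among the
`p`-subgroups only inside point stabilisers. -/
lemma sylow_le_stabilizer {p : ℕ} [Fact p.Prime] {P S : Subgroup G} (hS : IsPGroup p S)
    (hPS : P ≤ S) {α : Ω} (hPα : P ≤ stabilizer G α)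
    (hfew : Nat.card (fixedPoints P Ω) < p)
    (hmax : ∀ R : Subgroup G, R ≤ S → R ≤ stabilizer G α → P ≤ R → R = P) : S = P := by
  by_contra hne
  -- the normaliser of `P` in `S` is larger
  have hlt : P.subgroupOf S < ⊤ := by
    rw [lt_top_iff_ne_top, Ne, Subgroup.subgroupOf_eq_top]
    exact fun h => hne (le_antisymm h hPS)
  obtain ⟨k, hk⟩ := hS.exists_card_eq
  have hnil : Group.IsNilpotent S := hS.isNilpotent
  have hlt' := (Group.normalizerCondition_of_isNilpotent (G := S)) _ hlt
  obtain ⟨u, hu, hu'⟩ := SetLike.exists_of_lt hlt'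
  have huP : (u : G) ∉ P := fun h => hu' (Subgroup.mem_subgroupOf.2 h)
  have hun : ∀ y : G, y ∈ P ↔ (u : G) * y * (u : G)⁻¹ ∈ P := by
    intro y
    constructor
    · intro hy
      have := (Subgroup.mem_normalizer_iff.1 hu ⟨y, hPS hy⟩).1 hy
      simpa [Subgroup.mem_subgroupOf] using this
    · intro hy
      have h1 : y = (u : G)⁻¹ * ((u : G) * y * (u : G)⁻¹) * u := by group
      have hyS : y ∈ S := by
        rw [h1]; exact S.mul_mem (S.mul_mem (inv_mem u.2) (hPS hy)) u.2
      have := (Subgroup.mem_normalizer_iff.1 hu ⟨y, hyS⟩).2 (by simpa [Subgroup.mem_subgroupOf] using hy)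
      simpa [Subgroup.mem_subgroupOf] using this
  -- it permutes the fixed points of `P`
  have hpres : ∀ x ∈ fixedPoints P Ω, (u : G) • x ∈ fixedPoints P Ω := by
    intro x hx q
    have hq : (u : G)⁻¹ * q * u ∈ P := (hun _).2 (by
      rw [show (u : G) * ((u : G)⁻¹ * q * u) * (u : G)⁻¹ = q by group]; exact q.2)
    show (q : G) • (u : G) • x = (u : G) • x
    have h1 : ((u : G)⁻¹ * q * u) • x = x := hx ⟨_, hq⟩
    rwa [mul_smul, mul_smul, inv_smul_eq_iff] at h1
  let A : SubMulAction (Subgroup.zpowers u) Ω :=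
    ⟨fixedPoints P Ω, fun g x hx => by
      obtain ⟨g, hg⟩ := g
      obtain ⟨z, rfl⟩ := hg
      show ((u ^ z : S) : G) • x ∈ fixedPoints P Ω
      induction z using Int.induction_on generalizing x with
      | zero => simpa using hx
      | succ i ih =>
        rw [zpow_add_one, Subgroup.coe_mul, mul_smul]
        exact ih _ (hpres x hx)
      | pred i ih =>
        rw [zpow_sub_one, Subgroup.coe_mul, mul_smul]
        refine ih _ ?_
        intro q
        have h1 := hx ⟨(u : G) * q * (u : G)⁻¹, (hun _).1 q.2⟩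
        show (q : G) • ((u⁻¹ : S) : G) • x = ((u⁻¹ : S) : G) • x
        change ((u : G) * q * (u : G)⁻¹) • x = x at h1
        rw [mul_smul, mul_smul, smul_eq_iff_eq_inv_smul] at h1
        simpa using h1⟩
  have hz : IsPGroup p (Subgroup.zpowers u) := hS.to_subgroup _
  -- every orbit of this `p`-group on the few fixed points is trivial
  obtain ⟨i, hi⟩ := hz.card_orbit (⟨α, fun q => hPα q.2⟩ : A)
  have hle : Nat.card (orbit (Subgroup.zpowers u) (⟨α, fun q => hPα q.2⟩ : A)) ≤
      Nat.card (fixedPoints P Ω) := by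
    refine le_trans (Nat.card_le_card_of_injective _ Subtype.val_injective) ?_
    exact le_of_eq rfl
  have hi0 : i = 0 := by
    by_contra h
    have := Nat.le_self_pow h p
    omega
  rw [hi0, pow_zero] at hi
  have hfix : (u : G) • α = α := by
    have hsing := (Nat.card_eq_one_iff_unique.1 hi).1
    have h2 := hsing.elim
      ⟨(⟨u, Subgroup.mem_zpowers u⟩ : Subgroup.zpowers u) • (⟨α, fun q => hPα q.2⟩ : A),
        mem_orbit _ _⟩ ⟨_, mem_orbit_self _⟩
    exact congrArg (fun z => ((z.1 : A) : Ω)) h2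
  have hR := hmax (P ⊔ Subgroup.zpowers (u : G)) (sup_le hPS
    (Subgroup.zpowers_le.2 u.2)) (sup_le hPα (Subgroup.zpowers_le.2 hfix)) le_sup_left
  exact huP (hR ▸ Subgroup.mem_sup_right (Subgroup.mem_zpowers _))

variable [FaithfulSMul G Ω] {k : ℕ}
  (hfix : ∀ g : G, g ≠ 1 → Nat.card (MulAction.fixedBy Ω g) ≤ k)

include hfix in
lemma card_fixedPoints_le {P : Subgroup G} {x : G} (hx : x ∈ P) (hx1 : x ≠ 1) :
    Nat.card (fixedPoints P Ω) ≤ k :=
  le_trans (Nat.card_mono (Set.toFinite _) fun z hz => hz ⟨x, hx⟩) (hfix x hx1)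

include hfix in
lemma part_three {p : ℕ} (hp : p.Prime) (hkp : k < p) (α : Ω) :
    ¬ p ∣ Nat.card (stabilizer G α) ∨ ¬ p ∣ (stabilizer G α).index := by
  have := Fact.mk hp
  by_contra h
  push Not at h
  obtain ⟨h1, h2⟩ := h
  let Q : Sylow p (stabilizer G α) := default
  set P : Subgroup G := (Q : Subgroup _).map (stabilizer G α).subtype with hPdef
  have hPp : IsPGroup p P := Q.isPGroup'.map _
  have hPle : P ≤ stabilizer G α := Subgroup.map_subtype_le _
  have hPcard : Nat.card P = p ^ (Nat.card (stabilizer G α)).factorization p := by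
    rw [hPdef, Subgroup.card_map_of_injective (stabilizer G α).subtype_injective,
      Q.card_eq_multiplicity]
  obtain ⟨x, hx, hx1⟩ : ∃ x ∈ P, x ≠ 1 := by
    have h3 : 1 < Nat.card P := by
      rw [hPcard]
      exact Nat.one_lt_pow (Nat.Prime.factorization_pos_of_dvd hp Nat.card_pos.ne' h1).ne' hp.one_lt
    obtain ⟨z, hz⟩ := Subgroup.ne_bot_iff_exists_ne_one.1 ((Subgroup.one_lt_card_iff_ne_bot P).1 h3)
    exact ⟨z, z.2, fun e => hz (Subtype.ext e)⟩
  obtain ⟨S, hPS⟩ := hPp.exists_le_sylow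
  have heq : (S : Subgroup G) = P := sylow_le_stabilizer S.isPGroup' hPS hPle
    (lt_of_le_of_lt (card_fixedPoints_le hfix hx hx1) hkp) (by
      intro R hRS hRα hPR
      have hR : IsPGroup p R := S.isPGroup'.to_le hRS
      refine (Subgroup.eq_of_le_of_card_ge hPR ?_).symm
      obtain ⟨r, hr⟩ := hR.exists_card_eq
      rw [hPcard, hr]
      refine Nat.pow_le_pow_right hp.pos
        ((hp.pow_dvd_iff_le_factorization Nat.card_pos.ne').1 ?_)
      rw [← hr]
      exact Subgroup.card_dvd_of_le hRα)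
  apply S.not_dvd_index
  rw [heq]
  exact h2.trans (Subgroup.index_dvd_of_le hPle)

include hfix in
lemma even_card (hk : k = 2) (htr : MulAction.IsPretransitive G Ω) {g : G} (hg : g ≠ 1)
    (hg2 : Nat.card (fixedBy Ω g) = 2) : 2 ∣ Nat.card G := by
  subst hk
  by_contra hodd
  obtain ⟨a, b, hab, hall⟩ := Nat.card_eq_two_iff.1 hg2
  -- a Sylow subgroup of the two point stabiliser
  set H : Subgroup G := stabilizer G (a : Ω) ⊓ stabilizer G (b : Ω) with hH
  have hgH : g ∈ H := ⟨a.2, b.2⟩
  obtain ⟨p, hp, hpH⟩ := Nat.exists_prime_and_dvd (n := Nat.card H) (by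
    intro h1
    have : Subsingleton H := (Nat.card_eq_one_iff_unique.1 h1).1
    exact hg (congrArg Subtype.val (Subsingleton.elim (⟨g, hgH⟩ : H) 1)))
  have := Fact.mk hp
  have hp2 : p ≠ 2 := fun e => hodd (e ▸ hpH.trans (Subgroup.card_subgroup_dvd_card H))
  have hp3 : 2 < p := by have := hp.two_le; omega
  obtain ⟨x, hx⟩ := exists_prime_orderOf_dvd_card' p hpH
  have hx1 : (x : G) ≠ 1 := by
    intro e
    rw [OneMemClass.coe_eq_one.1 e, orderOf_one] at hx
    exact hp.one_lt.ne hx
  -- the two fixed points of `x` are `a` and `b`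
  have hxab : ∀ z : Ω, (x : G) • z = z → z = a ∨ z = b := by
    intro z hz
    by_contra hc
    push Not at hc
    have h3 : 3 ≤ Nat.card (fixedBy Ω (x : G)) := by
      rw [Nat.card_coe_set_eq, ← Set.ncard_eq_three.2 ⟨(a : Ω), (b : Ω), z,
        fun e => hab (Subtype.ext e), hc.1.symm, hc.2.symm, rfl⟩]
      refine Set.ncard_le_ncard ?_
      intro w hw
      rcases hw with rfl | rfl | rfl
      · exact x.2.1
      · exact x.2.2
      · exact hz
    have := hfix _ hx1
    omega
  let Q : Sylow p H := default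
  set P : Subgroup G := (Q : Subgroup H).map H.subtype with hPdef
  have hPp : IsPGroup p P := Q.isPGroup'.map _
  have hPa : P ≤ stabilizer G (a : Ω) := (Subgroup.map_subtype_le _).trans inf_le_left
  have hPb : P ≤ stabilizer G (b : Ω) := (Subgroup.map_subtype_le _).trans inf_le_right
  have hPcard : Nat.card P = p ^ (Nat.card H).factorization p := by
    rw [hPdef, Subgroup.card_map_of_injective H.subtype_injective, Q.card_eq_multiplicity]
  obtain ⟨y, hy, hy1⟩ : ∃ y ∈ P, y ≠ 1 := by
    have h3 : 1 < Nat.card P := by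
      rw [hPcard]
      exact Nat.one_lt_pow (Nat.Prime.factorization_pos_of_dvd hp Nat.card_pos.ne' hpH).ne' hp.one_lt
    obtain ⟨z, hz⟩ := Subgroup.ne_bot_iff_exists_ne_one.1 ((Subgroup.one_lt_card_iff_ne_bot P).1 h3)
    exact ⟨z, z.2, fun e => hz (Subtype.ext e)⟩
  have hfewP : Nat.card (fixedPoints P Ω) < p :=
    lt_of_le_of_lt (card_fixedPoints_le hfix hy hy1) hp3
  have hmaxP : ∀ c : Ω, (∀ R : Subgroup G, R ≤ stabilizer G c → IsPGroup p R → P ≤ R → R = P) →
      P ≤ stabilizer G c → Nat.card P = p ^ (Nat.card (stabilizer G c)).factorization p := by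
    intro c hc hPc
    obtain ⟨S, hS⟩ := (hPp.comap_subtype (K := stabilizer G c)).exists_le_sylow
    have e := hc ((S : Subgroup _).map (stabilizer G c).subtype) (Subgroup.map_subtype_le _)
      (S.isPGroup'.map _) (fun z hz => ⟨⟨z, hPc hz⟩, hS hz, rfl⟩)
    rw [← e, Subgroup.card_map_of_injective (stabilizer G c).subtype_injective,
      S.card_eq_multiplicity]
  have hboth : ∀ R : Subgroup G, R ≤ H → IsPGroup p R → P ≤ R → R = P := by
    intro R hRH hR hPR
    refine (Subgroup.eq_of_le_of_card_ge hPR ?_).symm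
    obtain ⟨r, hr⟩ := hR.exists_card_eq
    rw [hPcard, hr]
    refine Nat.pow_le_pow_right hp.pos ((hp.pow_dvd_iff_le_factorization Nat.card_pos.ne').1 ?_)
    rw [← hr]
    exact Subgroup.card_dvd_of_le hRH
  have hcarda := hmaxP a (fun R hRa hR hPR => sylow_le_stabilizer hR hPR hPb hfewP
    (fun R' hR'R hR'b hPR' => hboth R' (le_inf (hR'R.trans hRa) hR'b) (hR.to_le hR'R) hPR')) hPa
  have hcardb := hmaxP b (fun R hRb hR hPR => sylow_le_stabilizer hR hPR hPa hfewP
    (fun R' hR'R hR'a hPR' => hboth R' (le_inf hR'a (hR'R.trans hRb)) (hR.to_le hR'R) hPR')) hPb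
  obtain ⟨g₀, hg₀⟩ := htr.exists_smul_eq (a : Ω) b
  set P' := P.map (MulAut.conj g₀).toMonoidHom with hP'
  have hP'b : P' ≤ stabilizer G (b : Ω) := by
    rintro _ ⟨t, ht, rfl⟩
    show (g₀ * t * g₀⁻¹) • (b : Ω) = b
    rw [mul_smul, mul_smul, ← hg₀, inv_smul_smul]
    exact congrArg (g₀ • ·) (hPa ht)
  have c1 : Nat.card (P.subgroupOf (stabilizer G (b : Ω))) =
      p ^ (Nat.card (stabilizer G (b : Ω))).factorization p := by
    rw [Nat.card_congr (Subgroup.subgroupOfEquivOfLe hPb).toEquiv, hcardb]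
  have c2 : Nat.card (P'.subgroupOf (stabilizer G (b : Ω))) =
      p ^ (Nat.card (stabilizer G (b : Ω))).factorization p := by
    rw [Nat.card_congr (Subgroup.subgroupOfEquivOfLe hP'b).toEquiv, hP',
      Subgroup.card_map_of_injective (MulAut.conj g₀).injective, hcardb]
  obtain ⟨v, hv⟩ := MulAction.exists_smul_eq (stabilizer G (b : Ω)) (Sylow.ofCard _ c2) (Sylow.ofCard _ c1)
  set n : G := (v : G) * g₀ with hn
  have hna : n • (a : Ω) = b := by rw [hn, mul_smul, hg₀]; exact v.2
  have hnP : ∀ t ∈ P, n * t * n⁻¹ ∈ P := by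
    intro t ht
    have h1 : (⟨g₀ * t * g₀⁻¹, hP'b ⟨t, ht, rfl⟩⟩ : stabilizer G (b : Ω)) ∈
        ((Sylow.ofCard _ c2 : Sylow p _) : Subgroup _) := Subgroup.mem_subgroupOf.2 ⟨t, ht, rfl⟩
    have h2' : v * ⟨g₀ * t * g₀⁻¹, hP'b ⟨t, ht, rfl⟩⟩ * v⁻¹ ∈
        ((Sylow.ofCard _ c1 : Sylow p _) : Subgroup _) := by
      rw [← hv, Sylow.coe_subgroup_smul]; exact ⟨_, h1, rfl⟩
    have h3 := Subgroup.mem_subgroupOf.1
      (show _ ∈ P.subgroupOf (stabilizer G (b : Ω)) from h2')
    simpa [hn, mul_assoc] using h3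
  have hfixP : ∀ z : Ω, (∀ t ∈ P, t • z = z) → z = a ∨ z = b := by
    intro z hz
    by_contra hc
    push Not at hc
    have h3 : 3 ≤ Nat.card (fixedBy Ω y) := by
      rw [Nat.card_coe_set_eq, ← Set.ncard_eq_three.2 ⟨(a : Ω), (b : Ω), z,
        fun e => hab (Subtype.ext e), hc.1.symm, hc.2.symm, rfl⟩]
      refine Set.ncard_le_ncard ?_
      intro w hw
      rcases hw with rfl | rfl | rfl
      · exact hPa hy
      · exact hPb hy
      · exact hz y hy
    have := hfix _ hy1
    omega
  have hnb : n • (b : Ω) = a := by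
    have hsurj : ∀ t ∈ P, n⁻¹ * t * n ∈ P := by
      intro t ht
      obtain ⟨w, hw⟩ := Finite.surjective_of_injective (f := fun w : P => (⟨n * w * n⁻¹, hnP _ w.2⟩ : P))
        (fun w w' e => Subtype.ext (mul_left_cancel (mul_right_cancel (congrArg Subtype.val e)))) ⟨t, ht⟩
      have hw' : n * (w : G) * n⁻¹ = t := congrArg Subtype.val hw
      rw [← hw']
      simpa [mul_assoc] using w.2
    rcases hfixP (n • (b : Ω)) (fun t ht => by
      have := hPb (hsurj t ht)
      rw [mem_stabilizer_iff, mul_smul, mul_smul, inv_smul_eq_iff] at this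
      exact this) with h | h
    · exact h
    · exact absurd (Subtype.ext (MulAction.injective n (hna.trans h.symm))) hab
  have key : ∀ j : ℕ, n ^ (2 * j + 1) • (a : Ω) = b := by
    intro j
    induction j with
    | zero => simpa using hna
    | succ j ih =>
      rw [show 2 * (j + 1) + 1 = 2 + (2 * j + 1) by ring, pow_add, mul_smul, ih, pow_two, mul_smul,
        hnb, hna]
  obtain ⟨j, hj⟩ : ∃ j, orderOf n = 2 * j + 1 :=
    ⟨orderOf n / 2, by
      have : ¬ 2 ∣ orderOf n := fun h => hodd (h.trans (orderOf_dvd_natCard n))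
      omega⟩
  have := key j
  rw [← hj, pow_orderOf_eq_one, one_smul] at this
  exact hab (Subtype.ext this)


/-- Let G be a finite group acting faithfully and transitively on a finite set Ω with fixity k ≥ 1: every non-identity element fixes at most k points and some non-identity element fixes exactly k points. Then |Z(G)| divides k; if k = 2 then |G| is even; and for every prime p > k dividing |G| and every point α, either p does not divide |G_α| or G_α contains a Sylow p-subgroup of G. -/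
theorem result {G : Type*} [Group G] [Finite G] {Ω : Type*} [Fintype Ω] [MulAction G Ω] [FaithfulSMul G Ω]
    (htr : MulAction.IsPretransitive G Ω) (k : ℕ) (hk : 1 ≤ k)
    (hfix : ∀ g : G, g ≠ 1 → Nat.card (MulAction.fixedBy Ω g) ≤ k) (hex : ∃ g : G, g ≠ 1 ∧ Nat.card (MulAction.fixedBy Ω g) = k) :
    Nat.card (Subgroup.center G) ∣ k ∧ (k = 2 → 2 ∣ Nat.card G) ∧
      ∀ (p : ℕ), p.Prime → k < p → p ∣ Nat.card G → ∀ α : Ω,
        ¬ p ∣ Nat.card (MulAction.stabilizer G α) ∨ ¬ p ∣ (MulAction.stabilizer G α).index := by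
  refine ⟨?_, fun h => ?_, fun p hp hkp _ α => part_three hfix hp hkp α⟩
  · obtain ⟨g, hg, hgk⟩ := hex
    -- the centre permutes semiregularly the `k` points fixed by `g`
    have hinv : ∀ z ∈ Subgroup.center G, ∀ x ∈ MulAction.fixedBy Ω g, z • x ∈ MulAction.fixedBy Ω g := by
      intro z hz x hx
      show g • z • x = z • x
      rw [← mul_smul, Subgroup.mem_center_iff.1 hz g, mul_smul, hx]
    let A : SubMulAction (Subgroup.center G) Ω :=
      ⟨MulAction.fixedBy Ω g, fun z x hx => hinv z z.2 x hx⟩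
    have hfree : ∀ x : A, MulAction.stabilizer (Subgroup.center G) x = ⊥ := by
      intro x
      rw [Subgroup.eq_bot_iff_forall]
      intro z hz
      refine Subtype.ext (FaithfulSMul.eq_of_smul_eq_smul (α := Ω) fun y => ?_)
      obtain ⟨m, rfl⟩ := htr.exists_smul_eq (x : Ω) y
      have hzx : (z : G) • (x : Ω) = x := congrArg Subtype.val hz
      rw [OneMemClass.coe_one, one_smul, ← mul_smul, ← Subgroup.mem_center_iff.1 z.2 m, mul_smul, hzx]
    have hA : Nat.card A = k := hgk
    rw [← hA, Nat.card_congr (MulAction.selfEquivSigmaOrbitsQuotientStabilizer (Subgroup.center G) A)]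
    letI := Fintype.ofFinite (MulAction.orbitRel.Quotient (Subgroup.center G) A)
    rw [Nat.card_sigma]
    refine Finset.dvd_sum fun q _ => ?_
    rw [hfree]
    rw [show Nat.card (↥(Subgroup.center G) ⧸ (⊥ : Subgroup ↥(Subgroup.center G))) =
      Nat.card ↥(Subgroup.center G) from Nat.card_congr QuotientGroup.quotientBot.toEquiv]
  · obtain ⟨g, hg, hgk⟩ := hex
    exact even_card hfix h htr hg (h ▸ hgk)

end Cfsg.Agent.S3389
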