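import Cfsg.Statements.S3391
import Cfsg.Agent.SzFixity69.Main

set_option autoImplicit false
open Cfsg

namespace Cfsg.Agent.S3391

/-- Let q = 2^{2m+1} ≥ 8 and let G be isomorphic to the Suzuki group Sz(q). If G acts faithfully and transitively on a finite set Ω with fixity 2 (every non-identity element fixes at most two points, and some fixes exactly two), then either |Ω| = q² + 1 and the action is 2-transitive, or |Ω| = q²(q² + 1) and the point stabilizers have order q − 1. -/
theorem result {G : Type*} [Group G] [Finite G] (F : Type) [Field F] [Fintype F] (m : ℕ) (hm : 1 ≤ m) (hF : Fintype.card F = 2 ^ (2 * m + 1))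
    (e : G ≃* ↥(Cfsg.Lie.Sz F (2 ^ (m + 1)))) {Ω : Type*} [Fintype Ω] [MulAction G Ω] [FaithfulSMul G Ω] (htr : MulAction.IsPretransitive G Ω)
    (hfix : ∀ g : G, g ≠ 1 → Nat.card (MulAction.fixedBy Ω g) ≤ 2) (hex : ∃ g : G, g ≠ 1 ∧ Nat.card (MulAction.fixedBy Ω g) = 2) :
    (Fintype.card Ω = Fintype.card F ^ 2 + 1 ∧ MulAction.IsMultiplyPretransitive G Ω 2) ∨
    (Fintype.card Ω = Fintype.card F ^ 2 * (Fintype.card F ^ 2 + 1) ∧ ∀ α : Ω, Nat.card (MulAction.stabilizer G α) = Fintype.card F - 1) := by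
  let f : G ≃* Cfsg.Sz F m := e.trans (RankOne.SzBridge.szEquiv hF hm).symm
  letI : MulAction (Cfsg.Sz F m) Ω := MulAction.compHom Ω f.symm.toMonoidHom
  have hsmul : ∀ (x : Cfsg.Sz F m) (w : Ω), x • w = f.symm x • w := fun _ _ => rfl
  have hfb : ∀ x : Cfsg.Sz F m, MulAction.fixedBy Ω x = MulAction.fixedBy Ω (f.symm x) := fun x => rfl
  haveI : FaithfulSMul (Cfsg.Sz F m) Ω :=
    ⟨fun {x y} h => f.symm.injective (FaithfulSMul.eq_of_smul_eq_smul fun w : Ω => h w)⟩
  have htr' : MulAction.IsPretransitive (Cfsg.Sz F m) Ω := ⟨fun a b => by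
    obtain ⟨g, hg⟩ := htr.exists_smul_eq a b
    exact ⟨f g, by rw [hsmul, MulEquiv.symm_apply_apply, hg]⟩⟩
  obtain ⟨g, hg1, hg2⟩ := hex
  rcases SzFixity69.result hF hm htr'
      (fun x hx => by rw [hfb]; exact hfix _ (fun h => hx (f.symm.injective (h.trans (map_one f.symm).symm))))
      ⟨f g, fun h => hg1 (f.injective (h.trans (map_one f).symm)),
        by rw [hfb, MulEquiv.symm_apply_apply]; exact hg2⟩ with ⟨h1, h2⟩ | ⟨h1, h2⟩
  · refine Or.inl ⟨h1, MulAction.is_two_pretransitive_iff.2 fun {a b c d} hab hcd => ?_⟩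
    obtain ⟨x, hx1, hx2⟩ := MulAction.is_two_pretransitive_iff.1 h2 hab hcd
    exact ⟨f.symm x, hx1, hx2⟩
  · refine Or.inr ⟨h1, fun α => ?_⟩
    rw [← h2 α]
    exact Nat.card_congr
      { toFun := fun g => ⟨f g, by
          rw [MulAction.mem_stabilizer_iff, hsmul, MulEquiv.symm_apply_apply]; exact g.2⟩
        invFun := fun x => ⟨f.symm x, x.2⟩
        left_inv := fun g => Subtype.ext (f.symm_apply_apply _)
        right_inv := fun x => Subtype.ext (f.apply_symm_apply _) }

end Cfsg.Agent.S3391
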