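import Cfsg.Statements.S3401
import Cfsg.Agent.Lib.Perm.Basic
-- import your own Cfsg.Agent.* helpers here

set_option autoImplicit false
open Cfsg

namespace Cfsg.Agent.S3401


open MulAction Pointwise

/-- A group of order `2 mod 4` has a normal subgroup of index 2 which has odd order. -/
lemma exists_odd_index_two {H : Type*} [Group H] [Finite H] (h : Nat.card H % 4 = 2) :
    ∃ N : Subgroup H, N.Normal ∧ N.index = 2 ∧ Odd (Nat.card N) ∧
      ∀ x : H, Odd (orderOf x) → x ∈ N := by
  have : Fact (Nat.Prime 2) := ⟨Nat.prime_two⟩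
  let P : Sylow 2 H := default
  obtain ⟨k, hk⟩ := IsPGroup.iff_card.1 P.isPGroup'
  have hd : Nat.card (P : Subgroup H) ∣ Nat.card H := Subgroup.card_subgroup_dvd_card _
  have hk2 : k = 1 := by
    have h1 : k ≤ 1 := by
      by_contra hc
      have : 4 ∣ Nat.card H := (hk ▸ (Nat.pow_dvd_pow 2 (by omega : 2 ≤ k))).trans hd
      omega
    have h2 : k ≠ 0 := by
      rintro rfl
      have h3 := P.not_dvd_index
      have h4 := Subgroup.card_mul_index (P : Subgroup H)
      rw [hk, pow_zero, one_mul] at h4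
      rw [h4] at h3
      omega
    omega
  rw [hk2, pow_one] at hk
  have hcyc : IsCyclic (P : Subgroup H) := isCyclic_of_prime_card hk
  have hmin : (Nat.card H).minFac = 2 := (Nat.minFac_eq_two_iff _).2 (by omega)
  have hc := IsCyclic.isComplement' hmin (P := P) hcyc
  have hidx : (MonoidHom.transferSylow P (hcyc.normalizer_le_centralizer hmin)).ker.index = 2 := by
    rw [hc.symm.index_eq_card, hk]
  have hodd := MonoidHom.not_dvd_card_ker_transferSylow P (hcyc.normalizer_le_centralizer hmin)
  refine ⟨_, MonoidHom.normal_ker _, hidx, ?_, fun x hx => ?_⟩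
  · rwa [Nat.odd_iff, ← Nat.two_dvd_ne_zero]
  · set N := (MonoidHom.transferSylow P (hcyc.normalizer_le_centralizer hmin)).ker
    have hN : N.Normal := MonoidHom.normal_ker _
    rw [← QuotientGroup.eq_one_iff (N := N) x, ← orderOf_eq_one_iff]
    have h1 : orderOf (x : H ⧸ N) ∣ orderOf x := orderOf_map_dvd (QuotientGroup.mk' N) x
    have h2 : orderOf (x : H ⧸ N) ∣ 2 := by
      have := orderOf_dvd_natCard (x : H ⧸ N)
      rwa [← Subgroup.index_eq_card, hidx] at this
    rcases (Nat.dvd_prime Nat.prime_two).1 h2 with e | e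
    · exact e
    · exact absurd ((e ▸ h1)) (by rw [Nat.two_dvd_ne_zero, ← Nat.odd_iff]; exact hx)

variable {G : Type*} [Group G] [Finite G] {Ω : Type*} [Fintype Ω] [MulAction G Ω]
  [FaithfulSMul G Ω]

omit [Finite G] in
lemma not_regular (hn2 : 2 < Fintype.card Ω) {N : Subgroup G}
    (h2 : IsMultiplyPretransitive N Ω 2) (hreg : ∀ x : Ω, stabilizer N x = ⊥) : False := by
  classical
  obtain ⟨a, b, c, hab, hac, hbc⟩ := Fintype.two_lt_card_iff.1 hn2
  have := isPretransitive_of_is_two_pretransitive (G := N) (α := Ω)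
  obtain ⟨g, hg1, hg2⟩ := (is_two_pretransitive_iff (G := N) (α := Ω)).1 h2 hab hac
  have : g ∈ stabilizer N a := hg1
  rw [hreg a, Subgroup.mem_bot] at this
  rw [this, one_smul] at hg2
  exact hbc hg2

omit [FaithfulSMul G Ω] in
/-- Witt: if `T` is a Sylow subgroup of a point stabiliser of the transitive group `M` and fixes
two points, some element of `M` normalising `T` moves one to the other. -/
lemma exists_normalizing (M : Subgroup G) [IsPretransitive M Ω] (T : Subgroup M) {p : ℕ}
    [Fact p.Prime] (hT : IsPGroup p T) {x y : Ω} (hx : T ≤ stabilizer M x)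
    (hy : T ≤ stabilizer M y)
    (hcard : Nat.card T = p ^ (Nat.card (stabilizer M y)).factorization p) :
    ∃ m : M, m ∈ Subgroup.normalizer (T : Set M) ∧ m • x = y := by
  obtain ⟨m, hm⟩ := exists_smul_eq M x y
  set T' := T.map (MulAut.conj m).toMonoidHom with hT'
  have hT'le : T' ≤ stabilizer M y := by
    rintro _ ⟨t, ht, rfl⟩
    show (m * t * m⁻¹) • y = y
    rw [mul_smul, mul_smul, ← hm, inv_smul_smul, mem_stabilizer_iff.1 (hx ht)]
  have c1 : Nat.card (T.subgroupOf (stabilizer M y)) =
      p ^ (Nat.card (stabilizer M y)).factorization p := by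
    rw [Nat.card_congr (Subgroup.subgroupOfEquivOfLe hy).toEquiv, hcard]
  have c2 : Nat.card (T'.subgroupOf (stabilizer M y)) =
      p ^ (Nat.card (stabilizer M y)).factorization p := by
    rw [Nat.card_congr (Subgroup.subgroupOfEquivOfLe hT'le).toEquiv, hT',
      Nat.card_congr (T.equivMapOfInjective _ (MulAut.conj m).injective).toEquiv.symm, hcard]
  let S1 := Sylow.ofCard _ c1
  let S2 := Sylow.ofCard _ c2
  obtain ⟨k, hk⟩ := exists_smul_eq (stabilizer M y) S2 S1
  refine ⟨(k : M) * m, ?_, ?_⟩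
  · have hsub : T.map (MulAut.conj ((k : M) * m)).toMonoidHom ≤ T := by
      rintro _ ⟨t, ht, rfl⟩
      have h1 : (⟨m * t * m⁻¹, hT'le ⟨t, ht, rfl⟩⟩ : stabilizer M y) ∈ (S2 : Subgroup _) := by
        show _ ∈ T'.subgroupOf _
        exact Subgroup.mem_subgroupOf.2 ⟨t, ht, rfl⟩
      have h2 : k * ⟨m * t * m⁻¹, hT'le ⟨t, ht, rfl⟩⟩ * k⁻¹ ∈ (S1 : Subgroup _) := by
        rw [← hk, Sylow.coe_subgroup_smul]
        exact ⟨_, h1, rfl⟩
      have h3 := Subgroup.mem_subgroupOf.1 (show _ ∈ T.subgroupOf _ from h2)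
      simpa [mul_assoc] using h3
    have heq := Subgroup.eq_of_le_of_card_ge hsub (le_of_eq
      (Nat.card_congr (T.equivMapOfInjective _ (MulAut.conj _).injective).toEquiv))
    rw [Subgroup.mem_normalizer_iff]
    intro h
    constructor
    · intro hh
      have : MulAut.conj ((k : M) * m) h ∈ T.map (MulAut.conj ((k : M) * m)).toMonoidHom :=
        ⟨h, hh, rfl⟩
      rwa [heq] at this
    · intro hh
      have hh' : MulAut.conj ((k : M) * m) h ∈ T := hh
      rw [← heq] at hh'
      obtain ⟨t, ht, e⟩ := hh'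
      have := (MulAut.conj ((k : M) * m)).injective e
      exact this ▸ ht
  · rw [mul_smul, hm]; exact k.2

omit [FaithfulSMul G Ω] [Fintype Ω] in
lemma conj_mem_normal (M : Subgroup G) [M.Normal] (g : G) (m : M) : g * (m : G) * g⁻¹ ∈ M :=
  Subgroup.Normal.conj_mem inferInstance _ m.2 g

omit [FaithfulSMul G Ω] in
/-- For a normal subgroup of a 2-transitive group all two-point stabilisers have the same order. -/
lemma card_two_point_eq (h2 : IsMultiplyPretransitive G Ω 2) (M : Subgroup G) [M.Normal]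
    {a b x y : Ω} (hab : a ≠ b) (hxy : x ≠ y) :
    Nat.card ↥(stabilizer M a ⊓ stabilizer M b) = Nat.card ↥(stabilizer M x ⊓ stabilizer M y) := by
  obtain ⟨g, hga, hgb⟩ := (is_two_pretransitive_iff (G := G) (α := Ω)).1 h2 hab hxy
  let φ : M ≃* M := MulAut.conjNormal g
  have e : (stabilizer M x ⊓ stabilizer M y) = (stabilizer M a ⊓ stabilizer M b).map φ.toMonoidHom := by
    ext m
    rw [Subgroup.mem_map_equiv]
    simp only [Subgroup.mem_inf, mem_stabilizer_iff]
    have key : ∀ z : Ω, φ.symm m • z = z ↔ m • (g • z) = g • z := by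
      intro z
      show ((φ.symm m : M) : G) • z = z ↔ (m : G) • (g • z) = g • z
      rw [MulAut.conjNormal_symm_apply, mul_smul, mul_smul, inv_smul_eq_iff]
    rw [key, key, hga, hgb]
  rw [e, Nat.card_congr (Subgroup.equivMapOfInjective _ φ.toMonoidHom φ.injective).toEquiv]

omit [FaithfulSMul G Ω] in
lemma orbit_card_odd_two {M : Subgroup G} [IsPretransitive M Ω] (hn : Fintype.card Ω % 4 = 2)
    (S : Sylow 2 M) : ∃ a : Ω, Nat.card (orbit S a) = 2 := by
  classical
  have : Fact (Nat.Prime 2) := ⟨Nat.prime_two⟩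
  have horb : ∀ a : Ω, ∃ i, Nat.card (orbit S a) = 2 ^ i := fun a =>
    S.isPGroup'.card_orbit a
  have hno1 : ∀ a : Ω, Nat.card (orbit S a) ≠ 1 := by
    intro a h1
    have hle : (S : Subgroup M) ≤ stabilizer M a := by
      intro s hs
      have : (⟨s, hs⟩ : S) • a ∈ orbit S a := mem_orbit _ _
      have hsing := Nat.card_eq_one_iff_unique.1 h1
      exact congrArg Subtype.val (hsing.1.elim ⟨_, this⟩ ⟨a, mem_orbit_self a⟩)
    have h3 := Subgroup.index_dvd_of_le hle
    rw [index_stabilizer_of_transitive, Nat.card_eq_fintype_card] at h3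
    exact S.not_dvd_index ((Nat.dvd_of_mod_eq_zero (by omega)).trans h3)
  by_contra hno
  push Not at hno
  have h4 : ∀ a : Ω, 4 ∣ Nat.card (orbit S a) := by
    intro a
    obtain ⟨i, hi⟩ := horb a
    rw [hi]
    rcases i with _ | _ | i
    · exact absurd hi (hno1 a)
    · exact absurd hi (hno a)
    · exact Dvd.intro_left (2 ^ i) (by ring)
  have : 4 ∣ Fintype.card Ω := by
    rw [Fintype.card_congr (selfEquivSigmaOrbits S Ω), Fintype.card_sigma]
    exact Finset.dvd_sum fun q _ => by rw [← Nat.card_eq_fintype_card]; exact h4 _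
  omega

/-- The key step: a transitive normal subgroup is doubly transitive. -/
lemma two_transitive_of_normal (h2 : IsMultiplyPretransitive G Ω 2)
    (hn : Fintype.card Ω % 4 = 2) (M : Subgroup G) [M.Normal] (hM : M ≠ ⊥) :
    IsMultiplyPretransitive M Ω 2 := by
  classical
  have : Fact (Nat.Prime 2) := ⟨Nat.prime_two⟩
  have := isPreprimitive_of_is_two_pretransitive h2
  have htr : IsPretransitive M Ω := Perm.isPretransitive_of_normal_ne_bot M hM
  let S : Sylow 2 M := default
  obtain ⟨a, ha⟩ := orbit_card_odd_two hn S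
  obtain ⟨b, hbo, hab⟩ : ∃ b, b ∈ orbit S a ∧ b ≠ a :=
    Set.exists_ne_of_one_lt_ncard (by rw [← Nat.card_coe_set_eq, ha]; norm_num) a
  have hpair : ∀ z ∈ orbit S a, z = a ∨ z = b := by
    intro z hz
    by_contra hc
    push Not at hc
    have h3 : ({a, b, z} : Finset Ω).card ≤ (orbit S a).toFinset.card := by
      apply Finset.card_le_card
      intro w hw
      rw [Set.mem_toFinset]
      simp only [Finset.mem_insert, Finset.mem_singleton] at hw
      rcases hw with rfl | rfl | rfl
      · exact mem_orbit_self _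
      · exact hbo
      · exact hz
    rw [Finset.card_eq_three.2 ⟨a, b, z, hab.symm, hc.1.symm, hc.2.symm, rfl⟩,
      Set.toFinset_card, ← Nat.card_eq_fintype_card, ha] at h3
    omega
  -- `T` is the subgroup of `S` fixing `a`
  set T : Subgroup M := (S : Subgroup M) ⊓ stabilizer M a with hTdef
  have hTp : IsPGroup 2 T := S.isPGroup'.to_le inf_le_left
  have hTb : T ≤ stabilizer M b := by
    rintro s ⟨hs, hsa⟩
    obtain ⟨u, hu⟩ := hbo
    have hmem : s • b ∈ orbit S a := by
      rw [← hu]
      exact ⟨⟨s, hs⟩ * u, mul_smul _ _ _⟩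
    rcases hpair _ hmem with e | e
    · exact absurd ((MulAction.injective s) (e.trans (mem_stabilizer_iff.1 hsa).symm)) hab
    · exact e
  set f2 : ℕ → ℕ := fun n => n.factorization 2
  have hcS : Nat.card (S : Subgroup M) = 2 ^ f2 (Nat.card M) := S.card_eq_multiplicity
  have hTcard : Nat.card (S : Subgroup M) = 2 * Nat.card T := by
    have h := Perm.card_orbit_mul_card_stabilizer (G := S) a
    rw [ha] at h
    rw [← h]
    congr 1
    exact Nat.card_congr
      { toFun := fun s => ⟨(s.1 : M), s.1.2, s.2⟩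
        invFun := fun t => ⟨⟨t.1, t.2.1⟩, t.2.2⟩
        left_inv := fun _ => rfl
        right_inv := fun _ => rfl }
  have hfM : ∀ y : Ω, f2 (Nat.card (stabilizer M y)) + 1 = f2 (Nat.card M) := by
    intro y
    have e := Perm.card_eq_mul_card_stabilizer (G := M) y
    rw [Nat.card_eq_fintype_card (α := Ω)] at e
    have e1 : f2 (Fintype.card Ω) = 1 := by
      show (Fintype.card Ω).factorization 2 = 1
      obtain ⟨k, hk⟩ : ∃ k, Fintype.card Ω = 2 * (2 * k + 1) := ⟨Fintype.card Ω / 4, by omega⟩
      rw [hk, Nat.factorization_mul (by norm_num) (by omega), Finsupp.add_apply,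
        Nat.Prime.factorization_self Nat.prime_two,
        Nat.factorization_eq_zero_of_not_dvd (by omega)]
    show (Nat.card (stabilizer M y)).factorization 2 + 1 = (Nat.card M).factorization 2
    rw [e, Nat.factorization_mul (by omega) Nat.card_pos.ne', Finsupp.add_apply]
    simp only [f2] at e1
    omega
  have hTy : ∀ y : Ω, Nat.card T = 2 ^ f2 (Nat.card (stabilizer M y)) := by
    intro y
    have := hfM y
    rw [hcS, ← this, pow_succ] at hTcard
    omega
  have hTxy : ∀ x y : Ω, x ≠ y →
      Nat.card T = 2 ^ f2 (Nat.card ↥(stabilizer M x ⊓ stabilizer M y : Subgroup M)) := by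
    intro x y hxy
    have h1 : Nat.card T ∣ Nat.card ↥(stabilizer M a ⊓ stabilizer M b : Subgroup M) :=
      Subgroup.card_dvd_of_le (le_inf (inf_le_right : T ≤ stabilizer M a) hTb)
    rw [card_two_point_eq h2 M hab.symm hxy] at h1
    have h3 : Nat.card ↥(stabilizer M x ⊓ stabilizer M y : Subgroup M) ∣ Nat.card (stabilizer M x) :=
      Subgroup.card_dvd_of_le inf_le_left
    rw [hTy x] at h1 ⊢
    have e1 := (Nat.Prime.pow_dvd_iff_le_factorization Nat.prime_two Nat.card_pos.ne').1 h1
    have e2 := (Nat.factorization_le_iff_dvd Nat.card_pos.ne' Nat.card_pos.ne').2 h3 2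
    congr 1
    simp only [f2] at *
    omega
  -- the fixed points of `T`
  set F : Set Ω := {x | T ≤ stabilizer M x}
  have haF : a ∈ F := (inf_le_right : T ≤ stabilizer M a)
  have hbF : b ∈ F := hTb
  set T₀ : Subgroup G := T.map M.subtype with hT₀
  set L : Subgroup G := Subgroup.normalizer (T₀ : Set G) with hL
  set K : Subgroup M := Subgroup.normalizer (T : Set M) with hK
  have hKL : ∀ k ∈ K, (k : G) ∈ L := by
    intro k hk
    rw [hL, Subgroup.mem_normalizer_iff]
    intro h
    rw [Subgroup.mem_normalizer_iff] at hk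
    constructor
    · rintro ⟨t, ht, rfl⟩
      exact ⟨k * t * k⁻¹, (hk t).1 ht, by simp⟩
    · rintro ⟨t, ht, e⟩
      have : h = ((k⁻¹ * t * k : M) : G) := by
        simp only [Subgroup.subtype_apply] at e
        simp [e, mul_assoc]
      rw [this]
      refine ⟨k⁻¹ * t * k, ?_, rfl⟩
      have := (hk (k⁻¹ * t * k)).2
      apply this
      simpa [mul_assoc] using ht
  have hmemF : ∀ z, z ∈ F ↔ ∀ t ∈ T₀, t • z = z :=
    fun z => ⟨fun h => by rintro _ ⟨t, ht, rfl⟩; exact h ht,
      fun h t ht => h _ ⟨t, ht, rfl⟩⟩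
  have hLF : ∀ l ∈ L, ∀ z ∈ F, l • z ∈ F := by
    intro l hl z hz
    rw [hmemF] at hz ⊢
    intro t ht
    rw [hL, Subgroup.mem_normalizer_iff] at hl
    have := hz (l⁻¹ * t * l) ((hl _).2 (by simpa [mul_assoc] using ht))
    rw [mul_smul, mul_smul, inv_smul_eq_iff] at this
    exact this
  -- the group induced on the fixed points
  let A : SubMulAction L Ω := ⟨F, fun l _ hz => hLF l l.2 _ hz⟩
  let πL : L →* Equiv.Perm A := MulAction.toPermHom L A
  let π : K →* Equiv.Perm A :=
    { toFun := fun k => πL ⟨(k : M), hKL k k.2⟩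
      map_one' := by rw [← map_one πL]; rfl
      map_mul' := fun x y => by rw [← map_mul πL]; rfl }
  have hπ : ∀ (k : K) (z : A), ((π k z : A) : Ω) = ((k : M) : G) • (z : Ω) := fun k z => rfl
  have hKtr : ∀ x y : A, ∃ k : K, π k x = y := by
    intro x y
    obtain ⟨m, hm, e⟩ := exists_normalizing M T hTp x.2 y.2 (hTy y)
    exact ⟨⟨m, hm⟩, Subtype.ext e⟩
  set Kb := π.range with hKb
  have : IsPretransitive Kb A :=
    ⟨fun x y => (hKtr x y).elim fun k hk => ⟨⟨π k, k, rfl⟩, hk⟩⟩
  have hSK : (S : Subgroup M) ≤ K := by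
    intro s hs
    rw [hK, Subgroup.mem_normalizer_iff]
    have hnormal : ∀ u ∈ (S : Subgroup M), ∀ t ∈ T, u * t * u⁻¹ ∈ T := by
      intro u hu t ht
      obtain ⟨ht1, ht2⟩ := Subgroup.mem_inf.1 ht
      refine Subgroup.mem_inf.2 ⟨mul_mem (mul_mem hu ht1) (inv_mem hu), ?_⟩
      rw [mem_stabilizer_iff, mul_smul, mul_smul, smul_eq_iff_eq_inv_smul]
      rcases hpair (u⁻¹ • a) ⟨⟨u⁻¹, inv_mem hu⟩, rfl⟩ with e | e
      · rw [e]; exact mem_stabilizer_iff.1 ht2
      · rw [e]; exact hTb ht
    intro h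
    refine ⟨hnormal s hs h, fun hh => ?_⟩
    simpa [mul_assoc] using hnormal s⁻¹ (inv_mem hs) _ hh
  -- the order of the group induced is `2 mod 4`
  have hKb2 : Nat.card Kb % 4 = 2 := by
    obtain ⟨u, hu⟩ := hbo
    have hker : T.subgroupOf K ≤ π.ker := by
      intro t ht
      rw [MonoidHom.mem_ker]
      ext z
      exact z.2 (Subgroup.mem_subgroupOf.1 ht)
    have h1 : Nat.card Kb ∣ (T.subgroupOf K).index := by
      rw [hKb, ← Subgroup.index_ker]
      exact Subgroup.index_dvd_of_le hker
    have h2' : ¬ 4 ∣ (T.subgroupOf K).index := by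
      intro h4
      have e : Nat.card T * (T.subgroupOf K).index = Nat.card K := by
        rw [← Subgroup.card_mul_index (T.subgroupOf K)]
        congr 1
        exact (Nat.card_congr (Subgroup.subgroupOfEquivOfLe
          (show T ≤ K from inf_le_left.trans hSK)).toEquiv).symm
      have h5 : 2 * Nat.card (S : Subgroup M) ∣ Nat.card M := by
        refine (?_ : _ ∣ Nat.card K).trans (Subgroup.card_subgroup_dvd_card K)
        rw [hTcard, ← e]
        obtain ⟨c, hc⟩ := h4
        exact ⟨c, by rw [hc]; ring⟩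
      rw [hcS, ← pow_succ',
        Nat.Prime.pow_dvd_iff_le_factorization Nat.prime_two Nat.card_pos.ne'] at h5
      simp only [f2] at h5
      omega
    have h3 : 2 ∣ Nat.card Kb := by
      have hu' : (u : M) ∈ K := hSK u.2
      have hne : π ⟨u, hu'⟩ ≠ 1 := by
        intro e
        have := congrArg (fun p : Equiv.Perm A => ((p ⟨a, haF⟩ : A) : Ω)) e
        simp only [hπ, Equiv.Perm.coe_one, id_eq] at this
        exact hab (hu.symm.trans this)
      obtain ⟨i, hi⟩ := (IsPGroup.iff_orderOf.1 S.isPGroup') u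
      have ho : orderOf (π ⟨u, hu'⟩) ∣ 2 ^ i := by
        refine (orderOf_map_dvd π _).trans (dvd_of_eq ?_)
        rw [← hi, ← Subgroup.orderOf_coe, ← Subgroup.orderOf_coe u]
      obtain ⟨j, -, hj⟩ := (Nat.dvd_prime_pow Nat.prime_two).1 ho
      have hj0 : j ≠ 0 := by rintro rfl; exact hne (orderOf_eq_one_iff.1 (by simpa using hj))
      refine (dvd_pow_self 2 hj0).trans ?_
      rw [← hj, show orderOf (π ⟨u, hu'⟩) = orderOf (⟨π ⟨u, hu'⟩, ⟨_, rfl⟩⟩ : Kb) from
        (Subgroup.orderOf_mk _ _).symm]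
      exact orderOf_dvd_natCard _
    have : ¬ 4 ∣ Nat.card Kb := fun h => h2' (h.trans h1)
    omega
  have hF2 : ∀ z ∈ F, z = a ∨ z = b := by
    obtain ⟨N, hNn, hNi, hNodd, hNmem⟩ := exists_odd_index_two hKb2
    have hF_even : 2 ∣ Nat.card A := by
      have e := Perm.card_eq_mul_card_stabilizer (G := Kb) (⟨a, haF⟩ : A)
      have hst : ∃ x : Kb, x • (⟨a, haF⟩ : A) ≠ ⟨a, haF⟩ := by
        obtain ⟨k, hk⟩ := hKtr ⟨a, haF⟩ ⟨b, hbF⟩
        exact ⟨⟨π k, k, rfl⟩, fun e => hab (congrArg Subtype.val (hk.symm.trans e))⟩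
      by_contra hodd
      -- the point stabiliser has odd order
      have hodd' : ¬ 2 ∣ Nat.card (stabilizer Kb (⟨a, haF⟩ : A)) := by
        intro h2'
        obtain ⟨x, hx⟩ := exists_prime_orderOf_dvd_card' 2 h2'
        obtain ⟨k, hk⟩ := (x : Kb).2
        have hka : (k : M) ∈ stabilizer M a := by
          have := x.2
          rw [mem_stabilizer_iff] at this
          have := congrArg Subtype.val this
          rw [show (x : Kb) • (⟨a, haF⟩ : A) = π k ⟨a, haF⟩ by rw [hk]; rfl, hπ] at this
          exact this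
        -- a 2-part of `k` lies in a Sylow 2-subgroup of `K_a`, which is `T`
        have hTK : T.subgroupOf K ≤ π.ker := by
          intro t ht
          rw [MonoidHom.mem_ker]
          ext z
          exact z.2 (Subgroup.mem_subgroupOf.1 ht)
        set Ka : Subgroup K := (stabilizer M a).subgroupOf K
        have hidx : ¬ 2 ∣ (T.subgroupOf K).relIndex Ka := by
          intro hd
          have hle : T.subgroupOf K ≤ Ka := fun t ht => (Subgroup.mem_subgroupOf.1 ht).2
          have e1 : Nat.card (T.subgroupOf K) * (T.subgroupOf K).relIndex Ka = Nat.card Ka := by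
            rw [← Subgroup.relIndex_bot_left, ← Subgroup.relIndex_bot_left,
              Subgroup.relIndex_mul_relIndex _ _ _ bot_le hle]
          have e2 : Nat.card (T.subgroupOf K) = Nat.card T :=
            Nat.card_congr (Subgroup.subgroupOfEquivOfLe
              (show T ≤ K from inf_le_left.trans hSK)).toEquiv
          have e3 : Nat.card Ka ∣ Nat.card (stabilizer M a) := by
            rw [← Subgroup.card_map_of_injective K.subtype_injective]
            exact Subgroup.card_dvd_of_le (by rintro _ ⟨z, hz, rfl⟩; exact hz)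
          have e4 : 2 * Nat.card T ∣ Nat.card (stabilizer M a) := by
            refine (?_ : _ ∣ Nat.card Ka).trans e3
            rw [← e1, e2, mul_comm]
            exact mul_dvd_mul_left _ hd
          rw [hTy a, ← pow_succ',
            Nat.Prime.pow_dvd_iff_le_factorization Nat.prime_two Nat.card_pos.ne'] at e4
          simp only [f2] at e4
          omega
        have hker : (π.ker.subgroupOf Ka).index ∣ (T.subgroupOf K).relIndex Ka :=
          Subgroup.index_dvd_of_le (Subgroup.comap_mono hTK)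
        have hk2 : orderOf (π k) = 2 := by rw [hk, Subgroup.orderOf_coe, Subgroup.orderOf_coe, hx]
        apply hidx
        refine dvd_trans ?_ hker
        let kk : Ka := ⟨k, hka⟩
        have hordq : orderOf (kk : Ka ⧸ π.ker.subgroupOf Ka) = 2 := by
          apply orderOf_eq_prime
          · rw [← QuotientGroup.mk_pow, QuotientGroup.eq_one_iff, Subgroup.mem_subgroupOf,
              MonoidHom.mem_ker]
            have := pow_orderOf_eq_one (π k)
            rw [hk2] at this
            simpa [kk] using this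
          · rw [ne_eq, QuotientGroup.eq_one_iff, Subgroup.mem_subgroupOf, MonoidHom.mem_ker]
            intro e1
            have e2 : π k = 1 := e1
            rw [e2, orderOf_one] at hk2
            omega
        rw [Subgroup.index_eq_card, ← hordq]
        exact orderOf_dvd_natCard _
      have h2d : 2 ∣ Nat.card Kb := by omega
      rw [e] at h2d
      exact ((Nat.Prime.dvd_mul Nat.prime_two).1 h2d).elim hodd hodd'
    -- the odd part is trivial
    have hN1 : N = ⊥ := by
      by_contra hN
      have : IsMultiplyPretransitive L A 2 := by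
        rw [is_two_pretransitive_iff]
        intro x y x' y' hxy hxy'
        have hxy1 : (x : Ω) ≠ y := fun e => hxy (Subtype.ext e)
        have hxy1' : (x' : Ω) ≠ y' := fun e => hxy' (Subtype.ext e)
        obtain ⟨g, hgx, hgy⟩ := (is_two_pretransitive_iff (G := G) (α := Ω)).1 h2 hxy1 hxy1'
        -- `T` and its image are Sylow in the stabiliser of the new pair
        let φ : M ≃* M := MulAut.conjNormal g
        set U : Subgroup M := stabilizer M (x' : Ω) ⊓ stabilizer M (y' : Ω)
        have hTU : T ≤ U := le_inf x'.2 y'.2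
        have hT'U : T.map φ.toMonoidHom ≤ U := by
          rintro _ ⟨t, ht, rfl⟩
          have e1 : ((φ t : M) : G) = g * (t : G) * g⁻¹ := MulAut.conjNormal_apply g t
          constructor
          · show ((φ t : M) : G) • (x' : Ω) = x'
            rw [e1, mul_smul, mul_smul, ← hgx, inv_smul_smul]
            exact congrArg (g • ·) (x.2 ht)
          · show ((φ t : M) : G) • (y' : Ω) = y'
            rw [e1, mul_smul, mul_smul, ← hgy, inv_smul_smul]
            exact congrArg (g • ·) (y.2 ht)
        have c1 : Nat.card (T.subgroupOf U) = 2 ^ (Nat.card U).factorization 2 := by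
          rw [Nat.card_congr (Subgroup.subgroupOfEquivOfLe hTU).toEquiv]
          exact hTxy _ _ hxy1'
        have c2 : Nat.card ((T.map φ.toMonoidHom).subgroupOf U) =
            2 ^ (Nat.card U).factorization 2 := by
          rw [Nat.card_congr (Subgroup.subgroupOfEquivOfLe hT'U).toEquiv,
            Subgroup.card_map_of_injective (f := φ.toMonoidHom) φ.injective]
          exact hTxy _ _ hxy1'
        obtain ⟨u, hu⟩ := exists_smul_eq U (Sylow.ofCard _ c2) (Sylow.ofCard _ c1)
        have hmaps : ∀ t ∈ T₀, ((u : M) : G) * g * t * (((u : M) : G) * g)⁻¹ ∈ T₀ := by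
          rintro _ ⟨t, ht, rfl⟩
          have h1 : (⟨φ t, hT'U ⟨t, ht, rfl⟩⟩ : U) ∈
              ((Sylow.ofCard _ c2 : Sylow 2 U) : Subgroup U) :=
            Subgroup.mem_subgroupOf.2 ⟨t, ht, rfl⟩
          have h2' : u * ⟨φ t, hT'U ⟨t, ht, rfl⟩⟩ * u⁻¹ ∈
              ((Sylow.ofCard _ c1 : Sylow 2 U) : Subgroup U) := by
            rw [← hu, Sylow.coe_subgroup_smul]; exact ⟨_, h1, rfl⟩
          refine ⟨_, Subgroup.mem_subgroupOf.1 (show _ ∈ T.subgroupOf U from h2'), ?_⟩
          simp [φ, MulAut.conjNormal_apply, mul_assoc]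
        have hl : ((u : M) : G) * g ∈ L := by
          rw [hL]
          have hle : T₀.map (MulAut.conj (((u : M) : G) * g)).toMonoidHom ≤ T₀ := by
            rintro _ ⟨t, ht, rfl⟩; exact hmaps t ht
          have heq := Subgroup.eq_of_le_of_card_ge hle (le_of_eq (Nat.card_congr
            (T₀.equivMapOfInjective _ (MulAut.conj _).injective).toEquiv))
          rw [Subgroup.mem_normalizer_iff]
          intro h
          refine ⟨hmaps h, fun hh => ?_⟩
          have hh' : MulAut.conj (((u : M) : G) * g) h ∈ T₀ := hh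
          rw [← heq] at hh'
          obtain ⟨t, ht, e1⟩ := hh'
          exact (MulAut.conj (((u : M) : G) * g)).injective e1 ▸ ht
        refine ⟨⟨_, hl⟩, Subtype.ext ?_, Subtype.ext ?_⟩
        · show (((u : M) : G) * g) • (x : Ω) = x'
          rw [mul_smul, hgx]; exact u.2.1
        · show (((u : M) : G) * g) • (y : Ω) = y'
          rw [mul_smul, hgy]; exact u.2.2
      have hLprim := isPreprimitive_of_is_two_pretransitive this
      -- the inverse image of the odd part is normal in `L`
      let N' : Subgroup L := Subgroup.comap πL (N.map Kb.subtype)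
      have hN'n : N'.Normal := by
        refine ⟨fun n hn l => ?_⟩
        obtain ⟨z, hz, ez⟩ := hn
        simp only [Subgroup.subtype_apply] at ez
        obtain ⟨k, hk⟩ := z.2
        have hkM : (l : G) * ((k : M) : G) * (l : G)⁻¹ ∈ M :=
          Subgroup.Normal.conj_mem inferInstance _ (k : M).2 _
        have hk' : (⟨_, hkM⟩ : M) ∈ K := by
          have h1 : (l : G) * ((k : M) : G) * (l : G)⁻¹ ∈ L :=
            mul_mem (mul_mem l.2 (hKL k k.2)) (inv_mem l.2)
          show _ ∈ Subgroup.normalizer (T : Set M)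
          rw [Subgroup.mem_normalizer_iff]
          have h1 : ∀ h : G, h ∈ T₀ ↔
              ((l : G) * ((k : M) : G) * (l : G)⁻¹) * h * ((l : G) * ((k : M) : G) * (l : G)⁻¹)⁻¹ ∈ T₀ :=
            Subgroup.mem_normalizer_iff.1 h1
          intro t
          have h2' := h1 (t : G)
          rw [show (t : G) ∈ T₀ ↔ t ∈ T from
            Subgroup.mem_map_iff_mem M.subtype_injective] at h2'
          rw [h2']
          exact Subgroup.mem_map_iff_mem M.subtype_injective (x := (⟨_, hkM⟩ : M) * t * ⟨_, hkM⟩⁻¹)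
        have hex : πL (l * n * l⁻¹) = π ⟨_, hk'⟩ := by
          have e1 : π ⟨_, hk'⟩ = πL (l * ⟨(k : M), hKL k k.2⟩ * l⁻¹) :=
            congrArg πL (Subtype.ext rfl)
          have e2 : πL ⟨(k : M), hKL k k.2⟩ = πL n := hk.trans ez
          rw [e1, map_mul, map_mul, map_mul, map_mul, e2]
        refine ⟨⟨πL (l * n * l⁻¹), ⟨_, hex.symm⟩⟩, hNmem _ ?_, rfl⟩
        rw [← Subgroup.orderOf_coe]
        show Odd (orderOf (πL (l * n * l⁻¹)))
        rw [map_mul, map_mul, map_inv, Perm.orderOf_conj, ← ez, Subgroup.orderOf_coe]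
        refine Odd.of_dvd_nat hNodd ?_
        rw [← Subgroup.orderOf_mk z hz]
        exact orderOf_dvd_natCard _
      obtain ⟨z, hz, hz1⟩ := (Subgroup.ne_bot_iff_exists_ne_one).1 hN |>.elim
        fun z hz1 => (⟨z.1, z.2, fun e => hz1 (Subtype.ext e)⟩ : ∃ z, z ∈ N ∧ z ≠ 1)
      obtain ⟨k, hk⟩ := z.2
      have hkmem : (⟨((k : M) : G), hKL k k.2⟩ : L) ∈ N' := ⟨z, hz, hk.symm⟩
      have htrN : IsPretransitive N' A := by
        refine Perm.isPretransitive_of_normal N' ⟨_, hkmem, ?_⟩
        by_contra hall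
        push Not at hall
        apply hz1
        apply Subtype.ext
        rw [← hk]
        exact Equiv.ext hall
      have : IsPretransitive N A := by
        refine ⟨fun x y => ?_⟩
        obtain ⟨l, hl⟩ := exists_smul_eq N' x y
        obtain ⟨w, hw, ew⟩ := l.2
        exact ⟨⟨w, hw⟩, ((Equiv.ext_iff.1 ew x).trans hl)⟩
      have hd := Perm.card_eq_mul_card_stabilizer (G := N) (⟨a, haF⟩ : A)
      have : 2 ∣ Nat.card N := hd ▸ dvd_mul_of_dvd_left hF_even _
      rw [Nat.odd_iff] at hNodd
      omega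
    rw [hN1, Subgroup.index_bot] at hNi
    intro z hz
    by_contra hc
    push Not at hc
    obtain ⟨k1, hk1⟩ := hKtr ⟨a, haF⟩ ⟨b, hbF⟩
    obtain ⟨k2, hk2⟩ := hKtr ⟨a, haF⟩ ⟨z, hz⟩
    obtain ⟨p, q, hpq, huniv⟩ := Nat.card_eq_two_iff.1 hNi
    have hall : ∀ w : Kb, w = p ∨ w = q := fun w => by
      have : w ∈ ({p, q} : Set Kb) := huniv ▸ Set.mem_univ w
      simpa using this
    have v1 : ((⟨π k1, k1, rfl⟩ : Kb) • (⟨a, haF⟩ : A) : A) = ⟨b, hbF⟩ := hk1
    have v2 : ((⟨π k2, k2, rfl⟩ : Kb) • (⟨a, haF⟩ : A) : A) = ⟨z, hz⟩ := hk2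
    have v0 : ((1 : Kb) • (⟨a, haF⟩ : A) : A) = ⟨a, haF⟩ := one_smul _ _
    rcases hall 1 with e0 | e0 <;> rcases hall ⟨π k1, k1, rfl⟩ with e1 | e1 <;>
      rcases hall ⟨π k2, k2, rfl⟩ with e2 | e2 <;> rw [e0] at v0 <;> rw [e1] at v1 <;>
      rw [e2] at v2 <;>
      first
        | exact hab (congrArg Subtype.val (v1.symm.trans v0))
        | exact hc.1 (congrArg Subtype.val (v2.symm.trans v0))
        | exact hc.2 (congrArg Subtype.val (v2.symm.trans v1))
  -- every orbit of `M_a` away from `a` has odd length, so contains `b`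
  rw [Perm.isMultiplyPretransitive_two_iff_stabilizer a]
  have key : ∀ y : Ω, y ≠ a → b ∈ orbit (stabilizer M a) y := by
    intro y hy
    have hcard : ¬ 2 ∣ Nat.card (orbit (stabilizer M a) y) := by
      intro hd
      have e := Perm.card_orbit_mul_card_stabilizer (G := stabilizer M a) y
      have e2 : Nat.card (stabilizer (stabilizer M a) y) =
          Nat.card ↥(stabilizer M a ⊓ stabilizer M y) := Nat.card_congr
        { toFun := fun s => ⟨(s.1 : M), s.1.2, s.2⟩
          invFun := fun t => ⟨⟨t.1, t.2.1⟩, t.2.2⟩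
          left_inv := fun _ => rfl
          right_inv := fun _ => rfl }
      have : 2 * Nat.card T ∣ Nat.card (stabilizer M a) := by
        rw [← e, e2]
        refine mul_dvd_mul hd ?_
        rw [hTxy a y hy.symm]
        exact Nat.ordProj_dvd _ _
      rw [hTy a, ← pow_succ',
        Nat.Prime.pow_dvd_iff_le_factorization Nat.prime_two Nat.card_pos.ne'] at this
      simp only [f2] at this
      omega
    let Tsub : Subgroup (stabilizer M a) := T.subgroupOf (stabilizer M a)
    have hTsubp : IsPGroup 2 Tsub := hTp.comap_subtype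
    obtain ⟨w, hw⟩ := hTsubp.nonempty_fixed_point_of_prime_not_dvd_card
      (orbit (stabilizer M a) y) hcard
    have hwF : (w : Ω) ∈ F := fun t ht =>
      congrArg Subtype.val (hw (⟨⟨t, ht.2⟩, ht⟩ : Tsub))
    rcases hF2 _ hwF with e | e
    · exfalso
      obtain ⟨g, hg⟩ := w.2
      have hga : g • a = a := g.2
      exact hy (MulAction.injective g ((hg.trans e).trans hga.symm))
    · exact e ▸ w.2
  intro y z hy hz
  obtain ⟨g, hg⟩ := key y hy
  obtain ⟨g', hg'⟩ := key z hz
  refine ⟨((g'⁻¹ * g : stabilizer M a) : M), (g'⁻¹ * g).2, ?_⟩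
  show (g'⁻¹ * g) • y = z
  rw [mul_smul, show g • y = b from hg, ← hg', inv_smul_smul]

/-- Let G be a doubly transitive permutation group on a finite set Ω with |Ω| ≡ 2 mod 4 and |Ω| > 2. Then G has a unique minimal normal subgroup M (a nontrivial normal subgroup contained in every nontrivial normal subgroup); M is simple and doubly transitive on Ω, and its centralizer in G is trivial (so G embeds in Aut(M)). -/
theorem result {G : Type*} [Group G] [Finite G] {Ω : Type*} [Fintype Ω] [MulAction G Ω] [FaithfulSMul G Ω]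
    (h2 : MulAction.IsMultiplyPretransitive G Ω 2) (hn : Fintype.card Ω % 4 = 2) (hn2 : 2 < Fintype.card Ω) :
    ∃ M : Subgroup G, M.Normal ∧ M ≠ ⊥ ∧ (∀ N : Subgroup G, N.Normal → N ≠ ⊥ → M ≤ N) ∧
      IsSimpleGroup ↥M ∧ MulAction.IsMultiplyPretransitive ↥M Ω 2 ∧ Subgroup.centralizer (M : Set G) = ⊥ := by
  classical
  have := isPreprimitive_of_is_two_pretransitive h2
  obtain ⟨a, b, c, hab, -, -⟩ := Fintype.two_lt_card_iff.1 hn2
  have htop : (⊤ : Subgroup G) ≠ ⊥ := by
    intro e
    obtain ⟨g, hg⟩ := exists_smul_eq G a b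
    have : g ∈ (⊥ : Subgroup G) := e ▸ Subgroup.mem_top g
    rw [Subgroup.mem_bot.1 this, one_smul] at hg
    exact hab hg
  obtain ⟨M, ⟨hMn, hM⟩, hmin⟩ := (Set.toFinite
    {N : Subgroup G | N.Normal ∧ N ≠ ⊥}).exists_minimal ⟨⊤, ⟨inferInstance, htop⟩⟩
  have hmin' : ∀ N : Subgroup G, N.Normal → N ≠ ⊥ → N ≤ M → M ≤ N :=
    fun N hN hN' hle => hmin ⟨hN, hN'⟩ hle
  have hM2 := two_transitive_of_normal h2 hn M hM
  have : IsPretransitive M Ω := isPretransitive_of_is_two_pretransitive (G := M) (α := Ω)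
  have huniq : ∀ N : Subgroup G, N.Normal → N ≠ ⊥ → M ≤ N := by
    intro N hN hN'
    by_contra hle
    have hinf : N ⊓ M = ⊥ := by
      by_contra h
      exact hle ((hmin' _ inferInstance h inf_le_right).trans inf_le_left)
    have hcomm : ∀ m ∈ M, ∀ n ∈ N, n * m = m * n := fun m hm n hn =>
      Subgroup.commute_of_normal_of_disjoint N M hN hMn (disjoint_iff.2 hinf) n m hn hm
    exact not_regular hn2 (two_transitive_of_normal h2 hn N hN')
      (fun x => Perm.stabilizer_eq_bot_of_commute (M := M) hcomm x)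
  have hC : Subgroup.centralizer (M : Set G) = ⊥ := by
    by_contra h
    have hle := huniq _ inferInstance h
    exact not_regular hn2 hM2 (fun x => Perm.stabilizer_eq_bot_of_commute (M := M)
      (fun m hm n hn => (Subgroup.mem_centralizer_iff.1 (hle hn) m hm).symm) x)
  refine ⟨M, hMn, hM, huniq, ?_, hM2, hC⟩
  have : Nontrivial M := (Subgroup.nontrivial_iff_ne_bot M).2 hM
  have hMp : IsPreprimitive M Ω := isPreprimitive_of_is_two_pretransitive hM2
  have hfaith : FaithfulSMul M Ω :=
    ⟨fun h => Subtype.ext (FaithfulSMul.eq_of_smul_eq_smul (α := Ω) h)⟩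
  by_contra hns
  -- a minimal normal subgroup of `M`, as a subgroup of `G`
  obtain ⟨R, ⟨hRn, hR⟩, hRmin⟩ := (Set.toFinite
    {N : Subgroup M | N.Normal ∧ N ≠ ⊥}).exists_minimal ⟨⊤, ⟨inferInstance, top_ne_bot⟩⟩
  have hRmin' : ∀ N : Subgroup M, N.Normal → N ≠ ⊥ → N ≤ R → R ≤ N :=
    fun N hN hN' hle => hRmin ⟨hN, hN'⟩ hle
  have hRtop : R ≠ ⊤ := by
    intro e
    apply hns
    refine ⟨fun N hN => ?_⟩
    by_cases h : N = ⊥
    · exact Or.inl h
    · exact Or.inr (top_le_iff.1 (e ▸ hRmin' N hN h (e ▸ le_top)))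
  obtain ⟨g, hg⟩ : ∃ g : G, R.map (MulAut.conjNormal g : MulAut M).toMonoidHom ≠ R := by
    by_contra h
    push Not at h
    apply hRtop
    have hnorm : (R.map M.subtype).Normal := by
      refine ⟨fun x hx g => ?_⟩
      obtain ⟨r, hr, rfl⟩ := hx
      refine ⟨MulAut.conjNormal g r, ?_, MulAut.conjNormal_apply g r⟩
      exact (h g).le ⟨r, hr, rfl⟩
    have hne : R.map M.subtype ≠ ⊥ :=
      fun e => hR ((Subgroup.map_eq_bot_iff_of_injective R M.subtype_injective).1 e)
    have h1 := hmin' _ hnorm hne (Subgroup.map_subtype_le R)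
    rw [eq_top_iff]
    intro m _
    exact (Subgroup.mem_map_iff_mem M.subtype_injective).1 (h1 m.2)
  set R' := R.map (MulAut.conjNormal g : MulAut M).toMonoidHom with hR'
  have hR'n : R'.Normal := hRn.map _ (MulAut.conjNormal g : MulAut M).surjective
  have hR'ne : R' ≠ ⊥ := fun e => hR ((Subgroup.map_eq_bot_iff_of_injective R
    (f := (MulAut.conjNormal g : MulAut M).toMonoidHom) (MulEquiv.injective _)).1 e)
  have hinf : R ⊓ R' = ⊥ := by
    by_contra h
    have h1 : R ≤ R' := (hRmin' _ inferInstance h inf_le_left).trans inf_le_right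
    exact hg (Subgroup.eq_of_le_of_card_ge h1 (le_of_eq (Nat.card_congr
      (R.equivMapOfInjective _ (MulEquiv.injective _)).toEquiv.symm))).symm
  have hcomm : ∀ m ∈ R', ∀ n ∈ R, n * m = m * n := fun m hm n hn =>
    Subgroup.commute_of_normal_of_disjoint R R' hRn hR'n (disjoint_iff.2 hinf) n m hn hm
  have hR'tr : IsPretransitive R' Ω := Perm.isPretransitive_of_normal_ne_bot R' hR'ne
  have hRtr : IsPretransitive R Ω := Perm.isPretransitive_of_normal_ne_bot R hR
  have hcard : Nat.card R = Fintype.card Ω := by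
    rw [← Nat.card_eq_fintype_card]
    exact Perm.card_eq_of_regular (x := a)
      (Perm.stabilizer_eq_bot_of_commute (M := R') hcomm a)
  obtain ⟨N, hNn, hNi, hNodd, hNmem⟩ := exists_odd_index_two (hcard ▸ hn)
  have hN' : (N.map R.subtype).Normal := by
    refine ⟨fun x hx m => ?_⟩
    obtain ⟨r, hr, rfl⟩ := hx
    refine ⟨⟨m * r * m⁻¹, hRn.conj_mem _ r.2 m⟩, hNmem _ ?_, rfl⟩
    rw [← Subgroup.orderOf_coe]
    show Odd (orderOf (m * (r : M) * m⁻¹))
    rw [Perm.orderOf_conj, Subgroup.orderOf_coe]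
    refine Odd.of_dvd_nat hNodd ?_
    rw [← Subgroup.orderOf_mk r hr]
    exact orderOf_dvd_natCard _
  rcases eq_or_ne N ⊥ with e | e
  · rw [e, Subgroup.index_bot, hcard] at hNi
    omega
  · have hne : N.map R.subtype ≠ ⊥ :=
      fun h => e ((Subgroup.map_eq_bot_iff_of_injective N R.subtype_injective).1 h)
    have h1 := hRmin' _ hN' hne (Subgroup.map_subtype_le N)
    have h3 : N = ⊤ := by
      rw [eq_top_iff]
      intro r _
      exact (Subgroup.mem_map_iff_mem R.subtype_injective).1 (h1 r.2)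
    rw [h3, Subgroup.index_top] at hNi
    omega

end Cfsg.Agent.S3401
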