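import Cfsg.Statements.S3718
import Cfsg.Agent.TwoR73.Main
import Cfsg.Agent.CIT.Main
import Cfsg.Agent.Lib.Suzuki.Sylow

set_option autoImplicit false
open Cfsg

namespace Cfsg.Agent.S3718

theorem exists_field_five : ∃ (K : Type) (_ : Field K) (_ : Fintype K), Fintype.card K = 5 := by
  haveI : Fact (Nat.Prime 5) := ⟨by norm_num⟩
  exact ⟨ZMod 5, inferInstance, inferInstance, ZMod.card 5⟩

theorem two_pow_cases {n : ℕ} (hn : 5 ≤ n) (S : ℕ → Prop)
    (hsub : ∀ d, d ∣ 2 ^ n - 1 ∨ d ∣ 2 ^ n + 1 → S d)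
    (hone : ∀ a b, S a → S b → 1 < a → 1 < b → ¬ a.Prime → ¬ b.Prime → a = b) :
    ∃ x : ℕ, (2 ^ n - 1).Prime ∧ x.Prime ∧ 2 ^ n + 1 = 3 * x := by
  have h32 : 32 ≤ 2 ^ n := by
    calc 32 = 2 ^ 5 := by norm_num
      _ ≤ 2 ^ n := Nat.pow_le_pow_right (by norm_num) hn
  obtain ⟨k, rfl | rfl⟩ := Nat.even_or_odd' n
  · exfalso
    have h8 : 8 ≤ 2 ^ k := by
      calc 8 = 2 ^ 3 := by norm_num
        _ ≤ 2 ^ k := Nat.pow_le_pow_right (by norm_num) (by omega)
    have hsq : 2 ^ (2 * k) - 1 = (2 ^ k - 1) * (2 ^ k + 1) := by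
      rw [mul_comm (2 ^ k - 1), ← Nat.sq_sub_sq, one_pow, ← pow_mul, mul_comm k]
    have hnp : ¬ (2 ^ (2 * k) - 1).Prime := by
      rw [hsq]; exact Nat.not_prime_mul (by omega) (by omega)
    have h3 : 3 ∣ 2 ^ k - 1 ∨ 3 ∣ 2 ^ k + 1 := by
      rcases Nat.mod_two_eq_zero_or_one k with h | h
      · exact Or.inl ((EPPO42.three_dvd_pm k).1 h)
      · exact Or.inr ((EPPO42.three_dvd_pm k).2 h)
    rcases h3 with ⟨c, hc⟩ | ⟨c, hc⟩
    · have := hone (2 ^ k - 1) (2 ^ (2 * k) - 1) (hsub _ (Or.inl (by rw [hsq]; exact dvd_mul_right _ _)))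
        (hsub _ (Or.inl dvd_rfl)) (by omega) (by omega)
        (by rw [hc]; exact Nat.not_prime_mul (by norm_num) (by omega)) hnp
      rw [hsq] at this
      have := (mul_eq_left₀ (show 2 ^ k - 1 ≠ 0 by omega)).mp this.symm
      omega
    · have := hone (2 ^ k + 1) (2 ^ (2 * k) - 1) (hsub _ (Or.inl (by rw [hsq]; exact dvd_mul_left _ _)))
        (hsub _ (Or.inl dvd_rfl)) (by omega) (by omega)
        (by rw [hc]; exact Nat.not_prime_mul (by norm_num) (by omega)) hnp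
      rw [hsq] at this
      have := (mul_eq_right₀ (show 2 ^ k + 1 ≠ 0 by omega)).mp this.symm
      omega
  · obtain ⟨x, hx⟩ := (EPPO42.three_dvd_pm (2 * k + 1)).2 (by omega)
    have hnp : ¬ (2 ^ (2 * k + 1) + 1).Prime := by
      rw [hx]; exact Nat.not_prime_mul (by norm_num) (by omega)
    refine ⟨x, ?_, ?_, hx⟩
    · by_contra h
      have := hone _ _ (hsub _ (Or.inl dvd_rfl)) (hsub _ (Or.inr dvd_rfl)) (by omega) (by omega) h hnp
      omega
    · by_contra h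
      have := hone x _ (hsub _ (Or.inr (Dvd.intro_left 3 hx.symm))) (hsub _ (Or.inr dvd_rfl))
        (by omega) (by omega) h hnp
      omega

theorem pm_cases {q : ℕ} (hq : q.Prime) (hq4 : 4 ≤ q) {k : ℕ} (hk : q = 2 ^ k + 1 ∨ q + 1 = 2 ^ k)
    (S : ℕ → Prop) (hsub : ∀ d, d ∣ (q - 1) / 2 ∨ d ∣ (q + 1) / 2 → S d)
    (hone : ∀ a b, S a → S b → 1 < a → 1 < b → ¬ a.Prime → ¬ b.Prime → a = b) :
    q = 5 ∨ q = 7 := by
  have hk3 : k ≤ 3 := by
    by_contra hlt
    obtain ⟨i, rfl⟩ : ∃ i, k = i + 4 := ⟨k - 4, by omega⟩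
    have he : 2 ^ (i + 4) = 16 * 2 ^ i := by rw [pow_add]; ring
    have hd : ∀ d, d ∣ 8 → S d := fun d hd => by
      rcases hk with h | h
      · exact hsub d (Or.inl (hd.trans ⟨2 ^ i, by omega⟩))
      · exact hsub d (Or.inr (hd.trans ⟨2 ^ i, by omega⟩))
    exact absurd (hone 4 8 (hd 4 (by norm_num)) (hd 8 dvd_rfl) (by norm_num) (by norm_num)
      (by norm_num) (by norm_num)) (by norm_num)
  have h8 : 2 ^ k ≤ 8 := by
    calc 2 ^ k ≤ 2 ^ 3 := Nat.pow_le_pow_right (by norm_num) hk3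
      _ = 8 := by norm_num
  have h9 : q ≤ 9 := by omega
  interval_cases q <;> first | exact Or.inl rfl | exact Or.inr rfl | exact absurd hq (by norm_num)

/-- Let G be a finite simple group whose set of element orders contains at most one composite number (at most one element order that is neither 1 nor a prime). Then G is cyclic of prime order, or isomorphic to PSL₂(q) for q ∈ {5, 7, 8, 9, 11, 13, 16}, to PSL₃(4), to the Suzuki group Sz(8), to PSL₂(3ⁿ) with (3ⁿ − 1)/2 and (3ⁿ + 1)/4 both prime, or to PSL₂(2ⁿ) with 2ⁿ − 1 and (2ⁿ + 1)/3 both prime. -/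
theorem result {G : Type*} [Group G] [Finite G] [IsSimpleGroup G]
    (h1 : {n : ℕ | n ∈ Set.range (orderOf : G → ℕ) ∧ 1 < n ∧ ¬ n.Prime}.Subsingleton) :
    (Nat.card G).Prime ∨
    (∃ (F : Type) (_ : Field F) (_ : Fintype F), (Fintype.card F = 5 ∨ Fintype.card F = 7 ∨ Fintype.card F = 8 ∨ Fintype.card F = 9 ∨
        Fintype.card F = 11 ∨ Fintype.card F = 13 ∨ Fintype.card F = 16) ∧ Nonempty (G ≃* Matrix.ProjectiveSpecialLinearGroup (Fin 2) F)) ∨
    (∃ (F : Type) (_ : Field F) (_ : Fintype F), Fintype.card F = 4 ∧ Nonempty (G ≃* Matrix.ProjectiveSpecialLinearGroup (Fin 3) F)) ∨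
    (∃ (F : Type) (_ : Field F) (_ : Fintype F), Fintype.card F = 8 ∧ Nonempty (G ≃* ↥(Cfsg.Lie.Sz F 4))) ∨
    (∃ (F : Type) (_ : Field F) (_ : Fintype F), ∃ n r s : ℕ, r.Prime ∧ s.Prime ∧ 3 ^ n - 1 = 2 * r ∧ 3 ^ n + 1 = 4 * s ∧
        Fintype.card F = 3 ^ n ∧ Nonempty (G ≃* Matrix.ProjectiveSpecialLinearGroup (Fin 2) F)) ∨
    (∃ (F : Type) (_ : Field F) (_ : Fintype F), ∃ n r : ℕ, (2 ^ n - 1).Prime ∧ r.Prime ∧ 2 ^ n + 1 = 3 * r ∧
        Fintype.card F = 2 ^ n ∧ Nonempty (G ≃* Matrix.ProjectiveSpecialLinearGroup (Fin 2) F)) := by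
  classical
  have one : ∀ a b, a ∈ Set.range (orderOf : G → ℕ) → b ∈ Set.range (orderOf : G → ℕ) →
      1 < a → 1 < b → ¬ a.Prime → ¬ b.Prime → a = b :=
    fun a b ha hb h1a h1b hpa hpb => h1 ⟨ha, h1a, hpa⟩ ⟨hb, h1b, hpb⟩
  by_cases hna : IsMulCommutative G
  · left
    letI : CommGroup G := { ‹Group G› with mul_comm := hna.1.1 }
    exact IsSimpleGroup.prime_card
  right
  by_cases hA : ∃ (r : ℕ) (g : G), r.Prime ∧ r ≠ 2 ∧ orderOf g = 2 * r
  · obtain ⟨r, g, hr, hr2, hg⟩ := hA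
    have hH : TwoR73.Hyp G r := ⟨hr, hr2, fun x hx => by
      by_contra hcon
      push Not at hcon
      have hx1 : 1 < orderOf x := by
        have h0 := orderOf_pos x
        have h1' : orderOf x ≠ 1 := fun e => hx (orderOf_eq_one_iff.mp e)
        omega
      exact hcon.2 (one _ _ ⟨x, rfl⟩ ⟨g, hg⟩ hx1 (by have := hr.two_le; omega) hcon.1
        (Nat.not_prime_mul (by norm_num) hr.ne_one))⟩
    obtain ⟨F, iF, iFF, hc, he⟩ := TwoR73.t2r hna hH ⟨g, hg⟩
    rcases hc with ⟨h, -⟩ | ⟨h, -⟩ | ⟨n, s, hs, e1, e2, hn⟩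
    · exact Or.inl ⟨F, iF, iFF, by simp [h], he⟩
    · exact Or.inl ⟨F, iF, iFF, by simp [h], he⟩
    · exact Or.inr (Or.inr (Or.inr (Or.inl ⟨F, iF, iFF, n, s, r, hs, hr, e1, e2, hn, he⟩)))
  have hCIT : ∀ t : G, orderOf t = 2 → IsPGroup 2 (Subgroup.centralizer ({t} : Set G)) := by
    intro t ht
    refine IsPGroup.of_card (Nat.eq_prime_pow_of_unique_prime_dvd Nat.card_pos.ne' fun {d} hd hdvd => ?_)
    by_contra hd2
    haveI := Fact.mk hd
    obtain ⟨x, hx⟩ := exists_prime_orderOf_dvd_card' d hdvd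
    refine hA ⟨d, t * (x : G), hd, hd2, ?_⟩
    have hxo : orderOf (x : G) = d := (Subgroup.orderOf_coe x).trans hx
    have hc : Commute t (x : G) := (Subgroup.mem_centralizer_singleton_iff.mp x.2).symm
    rw [hc.orderOf_mul_eq_mul_orderOf_of_coprime, ht, hxo]
    rw [ht, hxo, Nat.Prime.coprime_iff_not_dvd Nat.prime_two]
    exact fun h => hd2 ((Nat.prime_dvd_prime_iff_eq Nat.prime_two hd).mp h).symm
  have hnc : ∃ a b : G, a * b ≠ b * a := by
    by_contra hcon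
    push Not at hcon
    exact hna ⟨⟨hcon⟩⟩
  rcases CIT.classify hnc hCIT with
    ⟨F, iF, iFF, hform, ⟨e⟩⟩ | hL | ⟨⟨F, iF, iFF, m, hm, hF, ⟨e⟩⟩, -⟩
  · have h4 := EPPO42.four_le_card hnc e
    obtain ⟨p, hcp⟩ := CharP.exists F
    haveI := Fact.mk (CharP.char_is_prime F p)
    have hrange := SL2Tor.range_orderOf_psl (F := F) p
    have hsub : ∀ d, d ∣ (Fintype.card F - 1) / Nat.gcd 2 (Fintype.card F - 1) ∨
        d ∣ (Fintype.card F + 1) / Nat.gcd 2 (Fintype.card F - 1) →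
        d ∈ Set.range (orderOf : G → ℕ) := by
      intro d hd
      obtain ⟨x, hx⟩ : d ∈ Set.range
          (orderOf : Matrix.ProjectiveSpecialLinearGroup (Fin 2) F → ℕ) := by
        rw [hrange]; exact Or.inr hd
      exact ⟨e.symm x, (MulEquiv.orderOf_eq e.symm x).trans hx⟩
    rcases hform with h9 | ⟨n, hn⟩ | ⟨hq, k, hk⟩
    · exact Or.inl ⟨F, iF, iFF, by simp [h9], ⟨e⟩⟩
    · have hn2 : 2 ≤ n := by
        by_contra hlt
        interval_cases n <;> omega
      have he : 2 ∣ 2 ^ n := dvd_pow_self 2 (by omega)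
      have hg : Nat.gcd 2 (Fintype.card F - 1) = 1 := by
        refine Nat.Coprime.gcd_eq_one ((Nat.prime_two.coprime_iff_not_dvd).2 ?_)
        omega
      rw [hg, hn, Nat.div_one, Nat.div_one] at hsub
      by_cases h5 : 5 ≤ n
      · obtain ⟨x, hp1, hx, hx3⟩ := two_pow_cases h5 _ hsub one
        exact Or.inr (Or.inr (Or.inr (Or.inr ⟨F, iF, iFF, n, x, hp1, hx, hx3, hn, ⟨e⟩⟩)))
      · interval_cases n
        · obtain ⟨K, iK, iKF, hK⟩ := exists_field_five
          obtain ⟨e1⟩ := LinearGroup.psl_two_five (F := K) (by rw [Nat.card_eq_fintype_card, hK])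
          obtain ⟨e2⟩ := LinearGroup.psl_two_small (F := F)
            (Or.inr (by rw [Nat.card_eq_fintype_card, hn]; norm_num))
          rw [Nat.card_eq_fintype_card (α := F), hn] at e2
          exact Or.inl ⟨K, iK, iKF, by simp [hK], ⟨(e.trans e2).trans e1.symm⟩⟩
        · exact Or.inl ⟨F, iF, iFF, by simp [hn], ⟨e⟩⟩
        · exact Or.inl ⟨F, iF, iFF, by simp [hn], ⟨e⟩⟩
    · have hodd : Fintype.card F % 2 = 1 := hq.eq_two_or_odd.resolve_left (by omega)
      rw [show Nat.gcd 2 (Fintype.card F - 1) = 2 from Nat.gcd_eq_left (by omega)] at hsub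
      rcases pm_cases hq h4 hk _ hsub one with h | h <;>
        exact Or.inl ⟨F, iF, iFF, by simp [h], ⟨e⟩⟩
  · exact Or.inr (Or.inl hL)
  · refine Or.inr (Or.inr (Or.inl ?_))
    rcases Nat.lt_or_ge m 2 with hm2 | hm2
    · obtain rfl : m = 1 := by omega
      exact ⟨F, iF, iFF, by rw [hF]; norm_num, ⟨e⟩⟩
    exfalso
    let f := e.trans (RankOne.SzBridge.szEquiv hF hm).symm
    haveI : Fact (Nat.Prime 2) := ⟨Nat.prime_two⟩
    have h4 : 4 ∈ Set.range (orderOf : G → ℕ) := by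
      obtain ⟨P⟩ := (inferInstance : Nonempty (Sylow 2 (Cfsg.Sz F m)))
      obtain ⟨-, hexp, -, -⟩ := Suzuki.sylow_two hF hm P
      obtain ⟨x, hx⟩ : ∃ x : P, ¬ x ^ 2 ^ 1 = 1 := by
        by_contra hcon
        push Not at hcon
        have := Monoid.exponent_dvd_of_forall_pow_eq_one hcon
        replace this : 4 ∣ 2 ^ 1 := hexp.symm.dvd.trans this
        norm_num at this
      have hx' : x ^ 4 = 1 :=
        orderOf_dvd_iff_pow_eq_one.mp ((Monoid.order_dvd_exponent x).trans hexp.dvd)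
      have hx4 : orderOf x = 4 := orderOf_eq_prime_pow (n := 1) hx hx'
      exact ⟨f.symm (x : Cfsg.Sz F m),
        (MulEquiv.orderOf_eq f.symm _).trans ((Subgroup.orderOf_coe x).trans hx4)⟩
    have hk : ∀ k ∈ ({2 ^ (2 * m + 1) + 2 ^ (m + 1) + 1, 2 ^ (2 * m + 1) - 2 ^ (m + 1) + 1} : Set ℕ),
        k ∈ Set.range (orderOf : G → ℕ) := by
      intro k hk
      obtain ⟨U, hU, hUk, -, -⟩ := S0333.result hm hF k hk
      obtain ⟨g, hg⟩ := IsCyclic.exists_ofOrder_eq_natCard (α := U)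
      exact ⟨f.symm (g : Cfsg.Sz F m),
        (MulEquiv.orderOf_eq f.symm _).trans ((Subgroup.orderOf_coe g).trans (hg.trans hUk))⟩
    set q := 2 ^ (2 * m + 1) with hqdef
    set s := 2 ^ (m + 1) with hsdef
    have hs8 : 8 ≤ s := by
      calc 8 = 2 ^ 3 := by norm_num
        _ ≤ s := Nat.pow_le_pow_right (by norm_num) (by omega)
    have hqs : 4 * s ≤ q := by
      calc 4 * s = 2 ^ (m + 3) := by rw [hsdef]; ring
        _ ≤ q := Nat.pow_le_pow_right (by norm_num) (by omega)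
    have hs2 : s * s = 2 * q := by rw [hsdef, hqdef, ← pow_add, ← pow_succ']; congr 1; omega
    have h5 : 5 ∣ q * q + 1 := by
      have : q * q = 4 * 16 ^ m := by
        rw [hqdef, ← pow_add, show (16 : ℕ) = 2 ^ 4 by norm_num, ← pow_mul,
          show (4 : ℕ) = 2 ^ 2 by norm_num, ← pow_add]
        congr 1; omega
      have h16 : 16 ^ m % 5 = 1 := by rw [Nat.pow_mod]; norm_num
      omega
    have hprod : q * q + 1 = (q + s + 1) * (q - s + 1) := by
      obtain ⟨d, hd⟩ : ∃ d, q = s + d := ⟨q - s, by omega⟩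
      rw [hd, Nat.add_sub_cancel_left]
      rw [hd] at hs2
      nlinarith [hs2]
    rw [hprod] at h5
    have hbad : ∀ k, k ∈ Set.range (orderOf : G → ℕ) → 5 ∣ k → 5 < k → False := by
      intro k hk h5k h5lt
      have hnp : ¬ k.Prime := fun hp =>
        absurd ((Nat.prime_dvd_prime_iff_eq (by norm_num) hp).mp h5k) (by omega)
      have := one 4 k h4 hk (by norm_num) (by omega) (by norm_num) hnp
      omega
    rcases (Nat.Prime.dvd_mul (by norm_num)).mp h5 with h | h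
    · exact hbad _ (hk _ (by simp)) h (by omega)
    · exact hbad _ (hk _ (by simp)) h (by omega)

end Cfsg.Agent.S3718
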