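import Cfsg.Statements.S3406
import Cfsg.Agent.S3718
import Cfsg.Agent.FGS77.FourOrbits
import Cfsg.Agent.InvChar.PSLFourCover
import Cfsg.Agent.S0254

set_option autoImplicit false
open Cfsg

namespace Cfsg.Agent.S3406

theorem six_le {R : Set ℕ} (hR : R.Finite) {l : List ℕ} (hl : l.Nodup) (hmem : ∀ x ∈ l, x ∈ R) :
    l.length ≤ R.ncard := by
  classical
  rw [← List.toFinset_card_of_nodup hl, ← Set.ncard_coe_finset]
  exact Set.ncard_le_ncard (fun x hx => hmem x (by simpa using hx)) hR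

theorem four_mem_range_psl {F : Type} [Field F] [Fintype F] (hF : Fintype.card F = 4) :
    4 ∈ Set.range (orderOf : Matrix.ProjectiveSpecialLinearGroup (Fin 3) F → ℕ) := by
  haveI := InvChar.PSLFour.charTwo hF
  haveI : Fact (Nat.Prime 2) := ⟨Nat.prime_two⟩
  let u : Matrix.SpecialLinearGroup (Fin 3) F :=
    ⟨!![1, 1, 0; 0, 1, 1; 0, 0, 1], by simp [Matrix.det_fin_three]⟩
  have h2 : (2 : F) = 0 := CharTwo.two_eq_zero
  refine ⟨QuotientGroup.mk' _ u, orderOf_eq_prime_pow (p := 2) (n := 1) ?_ ?_⟩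
  · rw [← map_pow]
    intro h
    obtain ⟨c, -, hc⟩ := Matrix.SpecialLinearGroup.mem_center_iff.1
      ((QuotientGroup.eq_one_iff _).mp h)
    rw [show ((u ^ 2 ^ 1 : Matrix.SpecialLinearGroup (Fin 3) F) : Matrix (Fin 3) (Fin 3) F) =
        u.1 * u.1 by rw [pow_one, pow_two]; rfl] at hc
    have h02 := congrFun (congrFun hc 0) 2
    simp [u, Matrix.mul_apply, Fin.sum_univ_three] at h02
  · have hu : u ^ 2 ^ (1 + 1) = 1 := by
      apply Subtype.ext
      show (u.1) ^ 4 = 1
      ext i j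
      fin_cases i <;> fin_cases j <;>
        simp [u, pow_succ, Matrix.mul_apply, Fin.sum_univ_three] <;> grind
    rw [← map_pow, hu, map_one]

theorem four_mem_range_sz {F : Type} [Field F] [Fintype F] {m : ℕ}
    (hF : Fintype.card F = 2 ^ (2 * m + 1)) (hm : 1 ≤ m) :
    4 ∈ Set.range (orderOf : Cfsg.Sz F m → ℕ) := by
  haveI : Fact (Nat.Prime 2) := ⟨Nat.prime_two⟩
  obtain ⟨P⟩ := (inferInstance : Nonempty (Sylow 2 (Cfsg.Sz F m)))
  obtain ⟨-, hexp, -, -⟩ := Suzuki.sylow_two hF hm P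
  obtain ⟨x, hx⟩ : ∃ x : P, ¬ x ^ 2 ^ 1 = 1 := by
    by_contra hcon
    push Not at hcon
    have := Monoid.exponent_dvd_of_forall_pow_eq_one hcon
    replace this : 4 ∣ 2 ^ 1 := hexp.symm.dvd.trans this
    norm_num at this
  have hx' : x ^ 4 = 1 := orderOf_dvd_iff_pow_eq_one.mp ((Monoid.order_dvd_exponent x).trans hexp.dvd)
  exact ⟨x, (Subgroup.orderOf_coe x).trans (orderOf_eq_prime_pow (n := 1) hx hx')⟩

/-- A non-abelian finite simple group on whose elements the full automorphism group has at most five orbits is isomorphic to the alternating group of degree 5 or 6, to PSL(2, 7) or to PSL(2, 8). -/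
theorem result {G : Type*} [Group G] [Finite G] [IsSimpleGroup G] (hG : ¬ IsMulCommutative G)
    (h5 : Nat.card (MulAction.orbitRel.Quotient (MulAut G) G) ≤ 5) :
    Nonempty (G ≃* ↥(alternatingGroup (Fin 5))) ∨ Nonempty (G ≃* ↥(alternatingGroup (Fin 6))) ∨
      (∃ (F : Type) (_ : Field F) (_ : Fintype F), (Fintype.card F = 7 ∨ Fintype.card F = 8) ∧
        Nonempty (G ≃* Matrix.ProjectiveSpecialLinearGroup (Fin 2) F)) := by
  classical
  set R := Set.range (orderOf : G → ℕ) with hR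
  have hRf : R.Finite := Set.finite_range _
  have hR5 : R.ncard ≤ 5 := by
    let f : MulAction.orbitRel.Quotient (MulAut G) G → ℕ :=
      Quotient.lift (fun g : G => orderOf g) fun a b hab => by
        obtain ⟨φ, rfl⟩ := MulAction.orbitRel_apply.mp hab
        exact φ.orderOf_eq b
    haveI : Finite (MulAction.orbitRel.Quotient (MulAut G) G) := Quotient.finite _
    have hsub : R ⊆ Set.range f := by
      rintro _ ⟨g, rfl⟩
      exact ⟨Quotient.mk'' g, rfl⟩
    refine (Set.ncard_le_ncard hsub (Set.finite_range f)).trans ?_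
    rw [← Set.image_univ]
    exact (Set.ncard_image_le Set.finite_univ).trans (by rwa [Set.ncard_univ])
  set P := (Nat.card G).primeFactors with hP
  have h3 : 3 ≤ P.card := by
    by_contra hc
    have hs : Group.IsSolvable G := FGS77.isSolvable_of_primeFactors_card_le_two (T := P)
      (fun r hr hr' => Nat.mem_primeFactors.mpr ⟨hr, hr', Nat.card_pos.ne'⟩)
      (fun r hr => Nat.prime_of_mem_primeFactors hr) (by omega)
    exact hG ⟨⟨IsSimpleGroup.comm_iff_isSolvable.2 hs⟩⟩
  have hone : {n : ℕ | n ∈ R ∧ 1 < n ∧ ¬ n.Prime}.Subsingleton := by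
    rintro a ⟨ha, ha1, hap⟩ b ⟨hb, hb1, hbp⟩
    by_contra hab
    have hsub : ((insert a (insert b (insert 1 P)) : Finset ℕ) : Set ℕ) ⊆ R := by
      intro x hx
      simp only [Finset.coe_insert, Set.mem_insert_iff, Finset.mem_coe] at hx
      rcases hx with rfl | rfl | rfl | hx
      · exact ha
      · exact hb
      · exact ⟨1, orderOf_one⟩
      · haveI : Fact x.Prime := ⟨Nat.prime_of_mem_primeFactors hx⟩
        obtain ⟨g, hg⟩ := exists_prime_orderOf_dvd_card' x (Nat.dvd_of_mem_primeFactors hx)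
        exact ⟨g, hg⟩
    have := Set.ncard_le_ncard hsub hRf
    rw [Set.ncard_coe_finset, Finset.card_insert_of_notMem, Finset.card_insert_of_notMem,
      Finset.card_insert_of_notMem] at this
    · omega
    · exact fun h => Nat.not_prime_one (Nat.prime_of_mem_primeFactors h)
    · simp only [Finset.mem_insert, not_or]
      exact ⟨by omega, fun h => hbp (Nat.prime_of_mem_primeFactors h)⟩
    · simp only [Finset.mem_insert, not_or]
      exact ⟨hab, by omega, fun h => hap (Nat.prime_of_mem_primeFactors h)⟩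
  have hno : ∀ l : List ℕ, l.Nodup → l.length = 6 → ¬ ∀ x ∈ l, x ∈ R := fun l hl h6 hmem => by
    have := six_le hRf hl hmem
    omega
  rcases S3718.result hone with hp | ⟨F, iF, iFF, hc, ⟨e⟩⟩ | ⟨F, iF, iFF, hc, ⟨e⟩⟩ |
      ⟨F, iF, iFF, hc, ⟨e⟩⟩ | ⟨F, iF, iFF, n, r, s, hr, hs, e1, e2, hc, ⟨e⟩⟩ |
      ⟨F, iF, iFF, n, r, hp1, hr, e1, hc, ⟨e⟩⟩
  · haveI := Fact.mk hp
    haveI := isCyclic_of_prime_card (α := G) rfl
    exact absurd IsCyclic.commGroup.mul_comm (fun h => hG ⟨⟨h⟩⟩)
  · obtain ⟨p, hcp⟩ := CharP.exists F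
    haveI := Fact.mk (CharP.char_is_prime F p)
    obtain ⟨f, hpp, hpf⟩ := FiniteField.card F p
    have hrange : Set.range (orderOf : Matrix.ProjectiveSpecialLinearGroup (Fin 2) F → ℕ) = R := by
      ext k
      constructor
      · rintro ⟨x, rfl⟩; exact ⟨e.symm x, e.symm.orderOf_eq x⟩
      · rintro ⟨x, rfl⟩; exact ⟨e x, e.orderOf_eq x⟩
    rw [SL2Tor.range_orderOf_psl (F := F) p] at hrange
    have hdvd : p ∣ Fintype.card F := hpf ▸ dvd_pow_self p f.ne_zero
    rcases hc with h | h | h | h | h | h | h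
    · obtain ⟨e1⟩ := LinearGroup.psl_two_five (F := F) (by rw [Nat.card_eq_fintype_card, h])
      exact Or.inl ⟨e.trans e1⟩
    · exact Or.inr (Or.inr ⟨F, iF, iFF, Or.inl h, ⟨e⟩⟩)
    · exact Or.inr (Or.inr ⟨F, iF, iFF, Or.inr h, ⟨e⟩⟩)
    · obtain ⟨e1⟩ := S0254.result h
      exact Or.inr (Or.inl ⟨e.trans e1⟩)
    · exfalso
      refine hno [1, 2, 3, 5, 6, 11] (by decide) rfl ?_
      rw [h] at hdvd
      obtain rfl := (Nat.prime_dvd_prime_iff_eq hpp (by norm_num)).mp hdvd
      rw [← hrange, h]; norm_num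
    · exfalso
      refine hno [1, 2, 3, 6, 7, 13] (by decide) rfl ?_
      rw [h] at hdvd
      obtain rfl := (Nat.prime_dvd_prime_iff_eq hpp (by norm_num)).mp hdvd
      rw [← hrange, h]; norm_num
    · exfalso
      refine hno [1, 2, 3, 5, 15, 17] (by decide) rfl ?_
      rw [h] at hdvd
      obtain rfl := (Nat.prime_dvd_prime_iff_eq hpp Nat.prime_two).mp
        (hpp.dvd_of_dvd_pow (show p ∣ 2 ^ 4 from hdvd))
      rw [← hrange, h]; norm_num
  · exfalso
    have hcard : Nat.card G = 20160 := (Nat.card_congr e.toEquiv).trans (InvChar.PSLFour.card_PSL hc)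
    refine hno [1, 2, 3, 4, 5, 7] (by decide) rfl ?_
    have h4 : 4 ∈ R := by
      obtain ⟨x, hx⟩ := four_mem_range_psl hc
      exact ⟨e.symm x, (e.symm.orderOf_eq x).trans hx⟩
    have hpr : ∀ q : ℕ, q.Prime → q ∣ 20160 → q ∈ R := fun q hq hd => by
      haveI := Fact.mk hq
      exact exists_prime_orderOf_dvd_card' q (hcard ▸ hd)
    simp [h4, hpr 2 Nat.prime_two, hpr 3 Nat.prime_three, hpr 5 (by norm_num), hpr 7 (by norm_num),
      show (1 : ℕ) ∈ R from ⟨1, orderOf_one⟩]
  · exfalso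
    have hF : Fintype.card F = 2 ^ (2 * 1 + 1) := by rw [hc]; norm_num
    let f : G ≃* Cfsg.Sz F 1 := e.trans (RankOne.SzBridge.szEquiv hF le_rfl).symm
    have hcard : Nat.card G = 29120 := by
      rw [Nat.card_congr f.toEquiv, Suzuki.card_Sz hF le_rfl]; norm_num
    refine hno [1, 2, 4, 5, 7, 13] (by decide) rfl ?_
    have h4 : 4 ∈ R := by
      obtain ⟨x, hx⟩ := four_mem_range_sz hF le_rfl
      exact ⟨f.symm x, (f.symm.orderOf_eq x).trans hx⟩
    have hpr : ∀ q : ℕ, q.Prime → q ∣ 29120 → q ∈ R := fun q hq hd => by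
      haveI := Fact.mk hq
      exact exists_prime_orderOf_dvd_card' q (hcard ▸ hd)
    simp [h4, hpr 2 Nat.prime_two, hpr 5 (by norm_num), hpr 7 (by norm_num), hpr 13 (by norm_num),
      show (1 : ℕ) ∈ R from ⟨1, orderOf_one⟩]
  · exfalso
    obtain ⟨p, hcp⟩ := CharP.exists F
    haveI := Fact.mk (CharP.char_is_prime F p)
    have hn : 27 ≤ 3 ^ n := by
      by_contra hlt
      have hn3 : n < 3 := (Nat.pow_lt_pow_iff_right (by norm_num : 1 < 3)).mp
        (show 3 ^ n < 3 ^ 3 by norm_num; omega)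
      have := hr.two_le
      have := hs.two_le
      interval_cases n <;> norm_num at e1 e2 <;> first | omega | (subst_vars; norm_num at hr hs) |
        (have : r = 4 := by omega
         subst this; norm_num at hr)
    have hp3 : p = 3 := by
      obtain ⟨f, hpp, hpf⟩ := FiniteField.card F p
      exact (Nat.prime_dvd_prime_iff_eq hpp Nat.prime_three).mp
        (hpp.dvd_of_dvd_pow (hc ▸ hpf ▸ dvd_pow_self p f.ne_zero))
    subst hp3
    have hrange : ∀ k, k ∣ 3 ∨ k ∣ r ∨ k ∣ 2 * s → k ∈ R := by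
      intro k hk
      obtain ⟨x, hx⟩ : k ∈ Set.range
          (orderOf : Matrix.ProjectiveSpecialLinearGroup (Fin 2) F → ℕ) := by
        rw [SL2Tor.range_orderOf_psl (F := F) 3, hc,
          show Nat.gcd 2 (3 ^ n - 1) = 2 from Nat.gcd_eq_left (by omega)]
        rcases hk with h | h | h
        · exact Or.inl h
        · exact Or.inr (Or.inl ((show (3 ^ n - 1) / 2 = r by omega) ▸ h))
        · exact Or.inr (Or.inr ((show (3 ^ n + 1) / 2 = 2 * s by omega) ▸ h))
      exact ⟨e.symm x, (e.symm.orderOf_eq x).trans hx⟩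
    refine hno [1, 2, 3, r, s, 2 * s] ?_ rfl ?_
    · simp; omega
    · simp [hrange 1 (by simp), hrange 2 (by simp), hrange 3 (by simp), hrange r (by simp),
        hrange s (by simp), hrange (2 * s) (by simp)]
  · obtain ⟨p, hcp⟩ := CharP.exists F
    haveI := Fact.mk (CharP.char_is_prime F p)
    by_cases hn : n = 3
    · exact Or.inr (Or.inr ⟨F, iF, iFF, Or.inr (by rw [hc, hn]; norm_num), ⟨e⟩⟩)
    exfalso
    have h32 : 32 ≤ 2 ^ n := by
      by_contra hlt
      have hn5 : n < 5 := (Nat.pow_lt_pow_iff_right (by norm_num : 1 < 2)).mp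
        (show 2 ^ n < 2 ^ 5 by norm_num; omega)
      have := hr.two_le
      interval_cases n <;> norm_num at * <;> omega
    have hp2 : p = 2 := by
      obtain ⟨f, hpp, hpf⟩ := FiniteField.card F p
      exact (Nat.prime_dvd_prime_iff_eq hpp Nat.prime_two).mp
        (hpp.dvd_of_dvd_pow (hc ▸ hpf ▸ dvd_pow_self p f.ne_zero))
    subst hp2
    have he : 2 ∣ 2 ^ n := dvd_pow_self 2 (fun h => by rw [h] at h32; norm_num at h32)
    have hrange : ∀ k, k ∣ 2 ∨ k ∣ 2 ^ n - 1 ∨ k ∣ 3 * r → k ∈ R := by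
      intro k hk
      obtain ⟨x, hx⟩ : k ∈ Set.range
          (orderOf : Matrix.ProjectiveSpecialLinearGroup (Fin 2) F → ℕ) := by
        rw [SL2Tor.range_orderOf_psl (F := F) 2, hc,
          show Nat.gcd 2 (2 ^ n - 1) = 1 from Nat.Coprime.gcd_eq_one
            ((Nat.prime_two.coprime_iff_not_dvd).2 (by omega)), Nat.div_one, Nat.div_one, e1]
        exact hk
      exact ⟨e.symm x, (e.symm.orderOf_eq x).trans hx⟩
    refine hno [1, 2, 3, r, 3 * r, 2 ^ n - 1] ?_ rfl ?_
    · simp; omega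
    · simp [hrange 1 (by simp), hrange 2 (by simp), hrange 3 (by simp), hrange r (by simp),
        hrange (3 * r) (by simp), hrange (2 ^ n - 1) (by simp)]

end Cfsg.Agent.S3406
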