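import Cfsg.Statements.S3410
import Cfsg.Agent.CG26.ONan.Main
import Cfsg.Agent.TT95.CentAux
import Cfsg.Agent.Lib.LinearGroup.Simple

set_option autoImplicit false
open Cfsg

namespace Cfsg.Agent.S3410

/-- Let a finite group G act faithfully and 2-transitively on a finite set X, and let N be an abelian normal subgroup of the stabilizer of a point x which is not semiregular on the remaining points (some non-identity element of N fixes a second point). Then the generalized Fitting subgroup of G is isomorphic to PSL_n(F) for some n ≥ 3 and some finite field F. -/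
theorem result {G X : Type*} [Group G] [Finite G] [Fintype X]
    [MulAction G X] [FaithfulSMul G X] (h2 : MulAction.IsMultiplyPretransitive G X 2) (x : X)
    (N : Subgroup G) (hNle : N ≤ MulAction.stabilizer G x)
    (hNnormal : ∀ g ∈ MulAction.stabilizer G x, ∀ n ∈ N, g * n * g⁻¹ ∈ N) (hNab : IsMulCommutative N)
    (hnsr : ∃ n ∈ N, n ≠ 1 ∧ ∃ y : X, y ≠ x ∧ n • y = y) :
    ∃ (F : Type) (_ : Field F) (_ : Fintype F) (n : ℕ), 3 ≤ n ∧
      Nonempty (↥(Cfsg.generalizedFittingSubgroup G) ≃* Matrix.ProjectiveSpecialLinearGroup (Fin n) F) := by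
  classical
  obtain ⟨p, hp, ⟨C⟩⟩ := Cfsg.Agent.CG26.ONan.exists_conf h2 x N hNle hNnormal
    (fun a ha b hb => congrArg Subtype.val (hNab.is_comm.comm (⟨a, ha⟩ : N) ⟨b, hb⟩)) hnsr
  have := Fact.mk hp
  obtain ⟨n, -, -, y, hyx, -⟩ := hnsr
  obtain ⟨m, F, iF, iFF, hm, -, L, hLn, ⟨e⟩, hC⟩ := C.main h2 inferInstance hyx.symm
  refine ⟨F, iF, iFF, m + 1, by omega, ?_⟩
  have : IsSimpleGroup (Matrix.ProjectiveSpecialLinearGroup (Fin (m + 1)) F) :=
    Cfsg.Agent.LinearGroup.isSimpleGroup_PSL_of_three_le (by simp; omega)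
  have hLs : IsSimpleGroup L := e.isSimpleGroup
  have hLna : ¬ IsMulCommutative L := fun hc => by
    obtain ⟨a, ha⟩ := exists_ne (1 : L)
    have : (a : G) ∈ Subgroup.centralizer (L : Set G) := fun b hb =>
      congrArg Subtype.val (hc.is_comm.comm (⟨b, hb⟩ : L) a)
    rw [hC, Subgroup.mem_bot] at this
    exact ha (Subtype.ext this)
  have hq := Cfsg.Agent.Components.isQuasisimple_of_isSimpleGroup (X := L) hLna
  rw [Cfsg.Agent.TT95.CentAux.fstar_eq L hq (by rw [hC]; exact bot_le)]
  exact ⟨e⟩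

end Cfsg.Agent.S3410
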