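import Cfsg.Statements.S3419
import Cfsg.Agent.Spectrum69.Chief
import Cfsg.Agent.Spectrum69.AltOrders
import Cfsg.Agent.Lib.NumberTheory.TwoPrimes
-- import your own Cfsg.Agent.* helpers here

set_option autoImplicit false
open Cfsg

namespace Cfsg.Agent.S3419

private lemma not_solvable_of_pair {G : Type*} [Group G] [Finite G] {n p q : ℕ}
    (hcard : Nat.card G = Nat.card ↥(alternatingGroup (Fin n)))
    (hspec : Set.range (orderOf : G → ℕ) = Set.range (orderOf : ↥(alternatingGroup (Fin n)) → ℕ))
    (hp : p.Prime) (hq : q.Prime) (hpq : p < q) (hn : n < p + q) (h2 : 2 < p) (hqn : q ≤ n)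
    (hdiv : ∀ b, 1 ≤ b → p ^ b ∣ n.factorial → ¬ q ∣ p ^ b - 1)
    (hdiv' : ∀ b, 1 ≤ b → q ^ b ∣ n.factorial → ¬ p ∣ q ^ b - 1) : ¬ Group.IsSolvable G := by
  have : Nontrivial (Fin n) := Fin.nontrivial_iff_two_le.2 (by omega)
  have hc := two_mul_nat_card_alternatingGroup (α := Fin n)
  rw [Nat.card_perm, Nat.card_fin, ← hcard] at hc
  have hd : ∀ r : ℕ, r.Prime → 2 < r → r ≤ n → r ∣ Nat.card G := fun r hr hr2 hrn =>
    (((Nat.coprime_primes hr Nat.prime_two).2 (by omega)).dvd_mul_left).1
      (hc ▸ Nat.dvd_factorial hr.pos hrn)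
  refine Spectrum69.not_isSolvable hp hq hpq.ne (hd p hp h2 (by omega)) (hd q hq (by omega) hqn) ?_
    (fun b hb h => hdiv b hb (hc ▸ h.mul_left 2)) (fun b hb h => hdiv' b hb (hc ▸ h.mul_left 2))
  intro x hx
  obtain ⟨y, hy⟩ : p * q ∈ Set.range (orderOf : ↥(alternatingGroup (Fin n)) → ℕ) := hspec ▸ ⟨x, hx⟩
  exact Spectrum69.orderOf_ne_mul hp hq hpq.ne hn y hy

private lemma small_div {N p q B : ℕ} (hB : ¬ p ^ (B + 1) ∣ N)
    (h : ∀ b ∈ List.range (B + 1), b = 0 ∨ ¬ q ∣ p ^ b - 1) :
    ∀ b, 1 ≤ b → p ^ b ∣ N → ¬ q ∣ p ^ b - 1 := by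
  intro b hb hd
  have : b ≤ B := by
    by_contra hlt
    exact hB (dvd_trans (Nat.pow_dvd_pow p (by omega)) hd)
  exact (h b (List.mem_range.2 (by omega))).resolve_left (by omega)


/-- Let n ≥ 5 and let G be a finite group with the same order and the same set of element orders as the alternating group of degree n. Then G is not solvable. -/
theorem result {G : Type*} [Group G] [Finite G] (n : ℕ) (hn : 5 ≤ n)
    (hcard : Nat.card G = Nat.card ↥(alternatingGroup (Fin n)))
    (hspec : Set.range (orderOf : G → ℕ) = Set.range (orderOf : ↥(alternatingGroup (Fin n)) → ℕ)) :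
    ¬ Group.IsSolvable G := by
  rcases Nat.lt_or_ge n 11 with hlt | hge
  · interval_cases n
    · exact not_solvable_of_pair (p := 3) (q := 5) hcard hspec (by norm_num) (by norm_num)
        (by norm_num) (by norm_num) (by norm_num) (by norm_num)
        (small_div (B := 1) (by decide) (by decide)) (small_div (B := 1) (by decide) (by decide))
    · exact not_solvable_of_pair (p := 3) (q := 5) hcard hspec (by norm_num) (by norm_num)
        (by norm_num) (by norm_num) (by norm_num) (by norm_num)
        (small_div (B := 2) (by decide) (by decide)) (small_div (B := 1) (by decide) (by decide))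
    · exact not_solvable_of_pair (p := 5) (q := 7) hcard hspec (by norm_num) (by norm_num)
        (by norm_num) (by norm_num) (by norm_num) (by norm_num)
        (small_div (B := 1) (by decide) (by decide)) (small_div (B := 1) (by decide) (by decide))
    · exact not_solvable_of_pair (p := 5) (q := 7) hcard hspec (by norm_num) (by norm_num)
        (by norm_num) (by norm_num) (by norm_num) (by norm_num)
        (small_div (B := 1) (by decide) (by decide)) (small_div (B := 1) (by decide) (by decide))
    · exact not_solvable_of_pair (p := 5) (q := 7) hcard hspec (by norm_num) (by norm_num)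
        (by norm_num) (by norm_num) (by norm_num) (by norm_num)
        (small_div (B := 1) (by decide) (by decide)) (small_div (B := 1) (by decide) (by decide))
    · exact not_solvable_of_pair (p := 5) (q := 7) hcard hspec (by norm_num) (by norm_num)
        (by norm_num) (by norm_num) (by norm_num) (by norm_num)
        (small_div (B := 2) (by decide) (by decide)) (small_div (B := 1) (by decide) (by decide))
  · obtain ⟨p, q, hp, hq, h1, h2, h3⟩ := NumberTheory.exists_two_primes hge
    have key : ∀ r s : ℕ, r.Prime → s.Prime → n < 2 * r → r ≤ n → n < 2 * s → s ≤ n → r ≠ s →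
        ∀ b, 1 ≤ b → r ^ b ∣ n.factorial → ¬ s ∣ r ^ b - 1 := by
      intro r s hr hs r1 r2 s1 s2 hne b hb hd
      have : Fact r.Prime := ⟨hr⟩
      have hv := (padicValNat_dvd_iff_le (Nat.factorial_ne_zero n)).1 hd
      rw [padicValNat_factorial (b := 2) (Nat.log_lt_of_lt_pow (by omega) (by nlinarith))] at hv
      simp only [show Finset.Ico 1 2 = {1} from rfl, Finset.sum_singleton, pow_one] at hv
      have : n / r < 2 := (Nat.div_lt_iff_lt_mul hr.pos).2 r1
      obtain rfl : b = 1 := by omega
      rw [pow_one]
      rintro ⟨k, hk⟩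
      have := hr.two_le
      have := hs.two_le
      rcases k with _ | _ | k
      · omega
      · rcases hr.eq_two_or_odd with h | h <;> rcases hs.eq_two_or_odd with h' | h' <;> omega
      · have : s * 2 ≤ s * (k + 1 + 1) := Nat.mul_le_mul_left s (by omega)
        omega
    exact not_solvable_of_pair hcard hspec hp hq h2 (by omega) (by omega) h3
      (key p q hp hq h1 (by omega) (by omega) h3 (by omega))
      (key q p hq hp (by omega) h3 h1 (by omega) (by omega))

end Cfsg.Agent.S3419
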