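import Cfsg.Statements.S3420
import Cfsg.Agent.Spectrum69.Chief
import Cfsg.Agent.Spectrum69.AltOrders
import Cfsg.Agent.Lib.NumberTheory.TwoPrimes
-- import your own Cfsg.Agent.* helpers here

set_option autoImplicit false
open Cfsg

namespace Cfsg.Agent.S3420

/-- Let n ≥ 11 and let G be a finite group with the same order and the same set of element orders as the alternating group of degree n. Then G has normal subgroups N < H such that H/N is a non-abelian simple group whose order is divisible by every prime p with n/2 < p ≤ n. -/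
theorem result {G : Type*} [Group G] [Finite G] (n : ℕ) (hn : 11 ≤ n)
    (hcard : Nat.card G = Nat.card ↥(alternatingGroup (Fin n)))
    (hspec : Set.range (orderOf : G → ℕ) = Set.range (orderOf : ↥(alternatingGroup (Fin n)) → ℕ)) :
    ∃ (N H : Subgroup G) (_ : N.Normal), H.Normal ∧ N < H ∧
      IsSimpleGroup (↥H ⧸ N.subgroupOf H) ∧ ¬ IsMulCommutative (↥H ⧸ N.subgroupOf H) ∧
      ∀ p : ℕ, p.Prime → n < 2 * p → p ≤ n → p ∣ Nat.card (↥H ⧸ N.subgroupOf H) := by
  obtain ⟨p₀, q₀, hp₀, hq₀, h1, h2, h3⟩ := NumberTheory.exists_two_primes hn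
  have hdvd : ∀ p : ℕ, p.Prime → n < 2 * p → p ≤ n →
      p ∣ Nat.card G ∧ ¬ p ^ 2 ∣ Nat.card G := fun p hp a b => by
    rw [hcard]; exact Spectrum69.dvd_card_alternating hp a b (by omega)
  have h := Spectrum69.exists_simple_factor (G := G) {p | p.Prime ∧ n < 2 * p ∧ p ≤ n}
    (fun p hp => hp.1) (fun p hp => (hdvd p hp.1 hp.2.1 hp.2.2).1)
    (fun p hp => (hdvd p hp.1 hp.2.1 hp.2.2).2) ?_ ?_ (p₀ := p₀) (q₀ := q₀)
    ⟨hp₀, h1, by omega⟩ ⟨hq₀, by omega, h3⟩ (by omega)
  · obtain ⟨N, H, hN, hH, hlt, hs, hc, hS⟩ := h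
    exact ⟨N, H, hN, hH, hlt, hs, hc, fun p hp a b => hS p ⟨hp, a, b⟩⟩
  · intro p hp q hq hne x hx
    obtain ⟨y, hy⟩ : p * q ∈ Set.range (orderOf : ↥(alternatingGroup (Fin n)) → ℕ) := hspec ▸ ⟨x, hx⟩
    exact Spectrum69.orderOf_ne_mul hp.1 hq.1 hne (by have := hp.2; have := hq.2; omega) y hy
  · rintro p ⟨hp, hp1, hp2⟩ q ⟨hq, hq1, hq2⟩ hne ⟨k, hk⟩
    have := hp.two_le
    have := hq.two_le
    rcases k with _ | _ | k
    · omega
    · rcases hp.eq_two_or_odd with h | h <;> rcases hq.eq_two_or_odd with h' | h' <;> omega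
    · have : q * 2 ≤ q * (k + 1 + 1) := Nat.mul_le_mul_left q (by omega)
      omega

end Cfsg.Agent.S3420
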