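import Cfsg.Statements.S3427
import Cfsg.Agent.U33Uniq31.Main
import Cfsg.Agent.U33Uniq31.MSpectrum
import Cfsg.Agent.S1059

set_option autoImplicit false
open Cfsg

namespace Cfsg.Agent.S3427

/-- Let F be the field with 2 elements and let M be the Chevalley group of type G₂ over F (a non-simple group of order 12096 whose derived subgroup, of index 2, is isomorphic to PSU(3, 3)). A finite group G is isomorphic to M if and only if G has the same set of element orders and the same order as M. -/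
theorem result {G : Type*} [Group G] [Finite G] {F : Type*} [Field F] [Fintype F] (hF : Fintype.card F = 2) :
    Nonempty (G ≃* ↥(Cfsg.Lie.chevG2.group F)) ↔
      (Set.range (orderOf : G → ℕ) = Set.range (orderOf : ↥(Cfsg.Lie.chevG2.group F) → ℕ) ∧ Nat.card G = Nat.card ↥(Cfsg.Lie.chevG2.group F)) := by
  haveI : Finite ↥(Cfsg.Lie.chevG2.group F) := Nat.finite_of_card_ne_zero (by
    rw [S1059.result hF]; norm_num)
  have hM : Nat.card ↥(Cfsg.Lie.chevG2.group F) = 12096 := by
    rw [S1059.result hF]; norm_num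
  constructor
  · rintro ⟨e⟩
    refine ⟨Set.ext fun n => ⟨?_, ?_⟩, Nat.card_congr e.toEquiv⟩
    · rintro ⟨g, rfl⟩
      exact ⟨e g, e.orderOf_eq g⟩
    · rintro ⟨g, rfl⟩
      exact ⟨e.symm g, e.symm.orderOf_eq g⟩
  · rintro ⟨hr, hc⟩
    have hsM := U33Uniq31.noBig_chevG2 (F := F) hF
    have hsG : U33Uniq31.NoBig G := fun g => by
      obtain ⟨m, hm⟩ : orderOf g ∈ Set.range (orderOf : ↥(Cfsg.Lie.chevG2.group F) → ℕ) :=
        hr ▸ ⟨g, rfl⟩
      rw [← hm]
      exact hsM m
    obtain ⟨a⟩ := U33Uniq31.nonempty_equiv_mulAut_target (hc.trans hM) hsG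
    obtain ⟨b⟩ := U33Uniq31.nonempty_equiv_mulAut_target hM hsM
    exact ⟨a.trans b.symm⟩

end Cfsg.Agent.S3427
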