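import Cfsg.Statements.S3433
import Cfsg.Agent.S0497
import Cfsg.Agent.S3331
import Cfsg.Agent.Lib.RecogFive.Final

set_option autoImplicit false
set_option linter.style.haveILetI false
open Cfsg

namespace Cfsg.Agent.S3433

open Subgroup RecogFive

/-- A finite group whose set of element orders is exactly {1, 2, 3, 4, 5} is isomorphic to the alternating group of degree 6, or has a normal elementary abelian 2-subgroup with quotient isomorphic to the alternating group of degree 5. -/
theorem result {G : Type*} [Group G] [Finite G] (h : Set.range (orderOf : G → ℕ) = {k : ℕ | 1 ≤ k ∧ k ≤ 5}) :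
    Nonempty (G ≃* ↥(alternatingGroup (Fin 6))) ∨
      ∃ (N : Subgroup G) (_ : N.Normal), Cfsg.IsElementaryAbelian 2 N ∧ Nonempty (G ⧸ N ≃* ↥(alternatingGroup (Fin 5))) := by
  have hS : Spec5 G := fun g => by
    have : orderOf g ∈ Set.range (orderOf : G → ℕ) := ⟨g, rfl⟩
    rw [h] at this
    exact this.2
  have hex : ∀ k, 1 ≤ k → k ≤ 5 → ∃ g : G, orderOf g = k := fun k h1 h2 => by
    have : k ∈ {k : ℕ | 1 ≤ k ∧ k ≤ 5} := ⟨h1, h2⟩
    rw [← h] at this
    exact this
  have hdvd : ∀ k, 1 ≤ k → k ≤ 5 → k ∣ Nat.card G := fun k h1 h2 => by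
    obtain ⟨g, rfl⟩ := hex k h1 h2
    exact orderOf_dvd_natCard g
  by_cases h9 : 9 ∣ Nat.card G
  · have H : Hyp G := ⟨hS, hdvd 2 (by norm_num) (by norm_num), h9, hdvd 5 (by norm_num) le_rfl⟩
    haveI := H.isSimpleGroup
    exact Or.inl (S0497.result H.card_eq.1)
  right
  haveI := Fact.mk Nat.prime_three
  obtain ⟨x, hx⟩ := hex 3 (by norm_num) (by norm_num)
  have hx3 := El3.of_orderOf hx
  have hC : centralizer ((zpowers x : Subgroup G) : Set G) = zpowers x := by
    have hcz : centralizer ((zpowers x : Subgroup G) : Set G) = centralizer ({x} : Set G) := by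
      rw [zpowers_eq_closure, centralizer_closure]
    rw [hcz]
    refine (Subgroup.eq_of_le_of_card_ge ?_ ?_).symm
    · intro g hg
      obtain ⟨i, rfl⟩ := mem_zpowers_iff.mp hg
      exact mem_centralizer_singleton_iff.mpr ((Commute.refl x).zpow_left i).eq
    · rw [Nat.card_zpowers, hx]
      have hP : IsPGroup 3 (centralizer ({x} : Set G)) := isPGroup_C hS hx3
      obtain ⟨k, hk⟩ := hP.exists_card_eq
      rw [hk]
      by_contra hlt
      push Not at hlt
      have hk2 : 2 ≤ k := by
        by_contra hk'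
        rcases (by omega : k = 0 ∨ k = 1) with rfl | rfl <;> norm_num at hlt
      exact h9 ((pow_dvd_pow 3 hk2).trans (hk ▸ card_subgroup_dvd_card _))
  rcases S3331.result (zpowers x) (by rw [Nat.card_zpowers, hx]) hC with
    ⟨N, hN, hnil, hco, hq⟩ | ⟨N, hN, hc, hsq, he⟩ | he
  · exfalso
    haveI := hN
    have hq6 : Nat.card (G ⧸ N) ∣ 6 := by
      rcases hq with hq | ⟨⟨e⟩⟩
      · rw [hq]; norm_num
      · rw [Nat.card_congr e.toEquiv, Nat.card_perm, Nat.card_fin]
        decide
    have hG := N.card_eq_card_quotient_mul_card_subgroup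
    haveI := Fact.mk Nat.prime_two
    haveI := Fact.mk Nat.prime_five
    by_cases h25 : 2 ∣ Nat.card N ∧ 5 ∣ Nat.card N
    · obtain ⟨a, ha⟩ := exists_prime_orderOf_dvd_card' (G := N) 2 h25.1
      obtain ⟨b, hb⟩ := exists_prime_orderOf_dvd_card' (G := N) 5 h25.2
      haveI := hnil
      obtain ⟨P, hP⟩ := (IsPGroup.of_card (n := 1)
        (by rw [Nat.card_zpowers, ha, pow_one]) : IsPGroup 2 (zpowers a)).exists_le_sylow
      obtain ⟨Q, hQ⟩ := (IsPGroup.of_card (n := 1)
        (by rw [Nat.card_zpowers, hb, pow_one]) : IsPGroup 5 (zpowers b)).exists_le_sylow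
      have hnP : (P : Subgroup N).Normal :=
        ((Group.isNilpotent_of_finite_tfae (G := N)).out 0 3 rfl rfl).mp hnil 2 inferInstance P
      have hnQ : (Q : Subgroup N).Normal :=
        ((Group.isNilpotent_of_finite_tfae (G := N)).out 0 3 rfl rfl).mp hnil 5 inferInstance Q
      have hd : Disjoint (P : Subgroup N) Q := IsPGroup.disjoint_of_ne 2 5 (by norm_num) _ _ P.2 Q.2
      have hcab : Commute a b := Subgroup.commute_of_normal_of_disjoint _ _ hnP hnQ hd a b
        (hP (mem_zpowers a)) (hQ (mem_zpowers b))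
      refine hS.no_coprime (a := (a : G)) (b := (b : G)) (congrArg Subtype.val hcab.eq) ?_ ?_ <;>
        rw [Subgroup.orderOf_coe, Subgroup.orderOf_coe, ha, hb] <;> norm_num
    · rcases not_and_or.mp h25 with h2 | h5
      · have h4 := hdvd 4 (by norm_num) (by norm_num)
        rw [hG] at h4
        have hco4 : Nat.Coprime 4 (Nat.card N) := by
          rw [show (4 : ℕ) = 2 ^ 2 by norm_num]
          exact Nat.Coprime.pow_left 2 (Nat.prime_two.coprime_iff_not_dvd.mpr h2)
        have := Nat.le_of_dvd (by norm_num) ((hco4.dvd_of_dvd_mul_right h4).trans hq6)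
        have h46 := (hco4.dvd_of_dvd_mul_right h4).trans hq6
        norm_num at h46
      · have h5' := hdvd 5 (by norm_num) le_rfl
        rw [hG] at h5'
        rcases Nat.prime_five.dvd_mul.mp h5' with h' | h'
        · exact absurd (h'.trans hq6) (by norm_num)
        · exact h5 h'
  · exact ⟨N, hN, ⟨hc, hsq⟩, he⟩
  · exfalso
    obtain ⟨e⟩ := he
    haveI := Fact.mk (show Nat.Prime 7 by norm_num)
    have h7 : 7 ∣ Nat.card G := by
      rw [Nat.card_congr e.toEquiv]
      exact (show (7 : ℕ) ∣ Nat.card FT62.L7 by rw [FT62.card_L7]; norm_num)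
    obtain ⟨g, hg⟩ := exists_prime_orderOf_dvd_card' 7 h7
    have := hS g
    omega

end Cfsg.Agent.S3433
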