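import Cfsg.Statements.S3437
import Cfsg.Agent.Fus2.SpecFrob
import Cfsg.Agent.Fus2.SpecSmallLie

set_option autoImplicit false
open Cfsg

namespace Cfsg.Agent.S3437

/-- There is a finite solvable group with exactly the same set of element orders as the simple group PSL(3,3). -/
theorem result {F : Type*} [Field F] [Fintype F] (hF : Fintype.card F = 3) :
    ∃ (H : Type) (_ : Group H) (_ : Fintype H), Group.IsSolvable H ∧
      Set.range (orderOf : H → ℕ) = Set.range (orderOf : Matrix.ProjectiveSpecialLinearGroup (Fin 3) F → ℕ) := by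
  haveI : Fact (Nat.Prime 13) := ⟨by norm_num⟩
  obtain ⟨H, i1, i2, hs, hr⟩ := Fus2.SpecFrob.exists_group (a := 4) (b := 1) Fus2.SpecFrob.check13
    Nat.prime_two Nat.prime_three (by decide +kernel)
  exact ⟨H, i1, i2, hs, hr.trans (Fus2.SpecLie.range_psl hF).symm⟩

end Cfsg.Agent.S3437
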