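import Cfsg.Statements.S3439
import Cfsg.Agent.Fus2.SpecTwoFrob
import Cfsg.Agent.Fus2.SpecPSp

set_option autoImplicit false
open Cfsg

namespace Cfsg.Agent.S3439

/-- There is a finite solvable group with exactly the same set of element orders as the simple group PSp(4,3). -/
theorem result {F : Type*} [Field F] [Fintype F] (hF : Fintype.card F = 3) :
    ∃ (H : Type) (_ : Group H) (_ : Fintype H), Group.IsSolvable H ∧ Set.range (orderOf : H → ℕ) = Set.range (orderOf : Cfsg.PSp 2 F → ℕ) := by
  obtain ⟨H, i1, i2, hs, hr⟩ := Fus2.SpecTwoFrob.exists_group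
  exact ⟨H, i1, i2, hs, hr.trans (Fus2.SpecPSp.range_psp hF).symm⟩

end Cfsg.Agent.S3439
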