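import Cfsg.Statements.S3443
import Cfsg.Agent.Spectrum69.Basic
-- import your own Cfsg.Agent.* helpers here

set_option autoImplicit false
open Cfsg

namespace Cfsg.Agent.S3443

/-- Let G be a finite group and V a normal elementary abelian subgroup of G (abelian of prime exponent p, possibly trivial). Then the semidirect product V ⋊ G, with G acting on V by conjugation, has exactly the same set of element orders as G. -/
theorem result {G : Type*} [Group G] [Finite G] (V : Subgroup G) [V.Normal] (p : ℕ) (hp : p.Prime)
    (hcomm : ∀ x y : V, x * y = y * x) (hexp : ∀ x : V, x ^ p = 1) :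
    Set.range (orderOf : V ⋊[MulAut.conjNormal] G → ℕ) = Set.range (orderOf : G → ℕ) := by
  refine Spectrum69.range_orderOf_semidirect V hp
    (fun v hv => congrArg Subtype.val (hexp ⟨v, hv⟩)) hexp fun w hw => ?_
  refine ⟨SemidirectProduct.lift V.subtype (MonoidHom.id G) (fun g => ?_), ?_, fun x => ?_⟩
  · ext v; simp
  · simpa using fun e => hw e
  · show x.right⁻¹ * (((x.left : V) : G) * x.right) ∈ V
    rw [← mul_assoc]
    exact (‹V.Normal›.conj_mem' _ x.left.2 x.right)

end Cfsg.Agent.S3443
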