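import Cfsg.Statements.S3448
-- import your own Cfsg.Agent.* helpers here

set_option autoImplicit false
open Cfsg

namespace Cfsg.Agent.S3448

set_option maxRecDepth 100000 in
lemma a5_pow_cases : ∀ a : alternatingGroup (Fin 5), a ^ 2 = 1 ∨ a ^ 3 = 1 ∨ a ^ 5 = 1 := by
  decide +kernel

lemma a5_exists : ∃ a b c : alternatingGroup (Fin 5),
    a ≠ 1 ∧ a ^ 2 = 1 ∧ b ≠ 1 ∧ b ^ 3 = 1 ∧ c ≠ 1 ∧ c ^ 5 = 1 :=
  ⟨⟨Equiv.swap 0 1 * Equiv.swap 2 3, Equiv.Perm.mem_alternatingGroup.2 (by decide)⟩, ⟨Equiv.swap 0 1 * Equiv.swap 1 2, Equiv.Perm.mem_alternatingGroup.2 (by decide)⟩,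
    ⟨Equiv.swap 0 1 * Equiv.swap 1 2 * Equiv.swap 2 3 * Equiv.swap 3 4, Equiv.Perm.mem_alternatingGroup.2 (by decide)⟩,
    by decide, by decide, by decide, by decide, by decide, by decide⟩

local instance fact_five : Fact (Nat.Prime 5) := ⟨Nat.prime_five⟩

lemma a5_range : Set.range (orderOf : alternatingGroup (Fin 5) → ℕ) = {1, 2, 3, 5} := by
  apply Set.Subset.antisymm
  · rintro _ ⟨a, rfl⟩
    simp only [Set.mem_insert_iff, Set.mem_singleton_iff]
    rcases a5_pow_cases a with h | h | h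
    · rcases (Nat.dvd_prime Nat.prime_two).1 (orderOf_dvd_of_pow_eq_one h) with e | e <;> simp [e]
    · rcases (Nat.dvd_prime Nat.prime_three).1 (orderOf_dvd_of_pow_eq_one h) with e | e <;> simp [e]
    · rcases (Nat.dvd_prime Nat.prime_five).1 (orderOf_dvd_of_pow_eq_one h) with e | e <;> simp [e]
  · obtain ⟨a, b, c, ha, ha', hb, hb', hc, hc'⟩ := a5_exists
    rintro n (rfl | rfl | rfl | rfl)
    · exact ⟨1, orderOf_one⟩
    · exact ⟨a, orderOf_eq_prime ha' ha⟩
    · exact ⟨b, orderOf_eq_prime hb' hb⟩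
    · exact ⟨c, orderOf_eq_prime hc' hc⟩


/-- The set of element orders of the direct product of two copies of the alternating group of degree 5 is {1, 2, 3, 5, 6, 10, 15}. (It is shared by the direct product of two Frobenius groups of orders 50 and 75, so this direct product is not determined by its element orders.) -/
theorem result : Set.range (orderOf : alternatingGroup (Fin 5) × alternatingGroup (Fin 5) → ℕ) = {1, 2, 3, 5, 6, 10, 15} := by
  ext n
  simp only [Set.mem_range, Prod.exists, Prod.orderOf_mk]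
  have hr := fun m => (Set.ext_iff.1 a5_range m)
  simp only [Set.mem_range, Set.mem_insert_iff, Set.mem_singleton_iff] at hr
  constructor
  · rintro ⟨a, b, rfl⟩
    rcases (hr _).1 ⟨a, rfl⟩ with ha | ha | ha | ha <;>
      rcases (hr _).1 ⟨b, rfl⟩ with hb | hb | hb | hb <;> rw [ha, hb] <;> norm_num
  · intro h
    have key : ∀ k l, (k = 1 ∨ k = 2 ∨ k = 3 ∨ k = 5) → (l = 1 ∨ l = 2 ∨ l = 3 ∨ l = 5) →
        n = Nat.lcm k l → ∃ a b : alternatingGroup (Fin 5), Nat.lcm (orderOf a) (orderOf b) = n := by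
      intro k l hk hl hn
      obtain ⟨a, ha⟩ := (hr k).2 hk
      obtain ⟨b, hb⟩ := (hr l).2 hl
      exact ⟨a, b, by rw [ha, hb, hn]⟩
    simp only [Set.mem_insert_iff, Set.mem_singleton_iff] at h
    rcases h with rfl | rfl | rfl | rfl | rfl | rfl | rfl
    · exact key 1 1 (by simp) (by simp) (by norm_num)
    · exact key 2 1 (by simp) (by simp) (by norm_num)
    · exact key 3 1 (by simp) (by simp) (by norm_num)
    · exact key 5 1 (by simp) (by simp) (by norm_num)
    · exact key 2 3 (by simp) (by simp) (by norm_num)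
    · exact key 2 5 (by simp) (by simp) (by norm_num)
    · exact key 3 5 (by simp) (by simp) (by norm_num)

end Cfsg.Agent.S3448
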