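import Cfsg.Statements.S3449
import Cfsg.Agent.S3448
-- import your own Cfsg.Agent.* helpers here

set_option autoImplicit false
open Cfsg

namespace Cfsg.Agent.S3449

/-- The direct product of three copies of the alternating group of degree 5 has exactly the same set of element orders as the cyclic group of order 30, namely the divisors of 30; in particular a direct power of a non-abelian simple group need not be determined by its element orders. -/
theorem result : Set.range (orderOf : alternatingGroup (Fin 5) × alternatingGroup (Fin 5) × alternatingGroup (Fin 5) → ℕ) =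
      Set.range (orderOf : Multiplicative (ZMod 30) → ℕ) := by
  have hr := fun m => (Set.ext_iff.1 S3448.a5_range m)
  simp only [Set.mem_range, Set.mem_insert_iff, Set.mem_singleton_iff] at hr
  have h30 : ∀ n, n ∈ Set.range (orderOf : Multiplicative (ZMod 30) → ℕ) ↔ n ∣ 30 := by
    intro n
    have e : orderOf (Multiplicative.ofAdd (1 : ZMod 30)) = 30 := by
      rw [orderOf_ofAdd_eq_addOrderOf, ZMod.addOrderOf_one]
    constructor
    · rintro ⟨x, rfl⟩
      simpa using orderOf_dvd_natCard x
    · rintro ⟨c, hc⟩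
      refine ⟨Multiplicative.ofAdd (1 : ZMod 30) ^ c, ?_⟩
      rw [orderOf_pow, e]
      have hc0 : 0 < c := Nat.pos_of_ne_zero (by rintro rfl; simp at hc)
      rw [Nat.gcd_eq_right (Dvd.intro_left n hc.symm)]
      exact Nat.div_eq_of_eq_mul_left hc0 hc
  ext n
  rw [h30]
  simp only [Set.mem_range, Prod.exists, Prod.orderOf_mk]
  constructor
  · rintro ⟨a, b, c, rfl⟩
    refine Nat.lcm_dvd ?_ (Nat.lcm_dvd ?_ ?_)
    · rcases (hr _).1 ⟨a, rfl⟩ with h | h | h | h <;> rw [h] <;> norm_num
    · rcases (hr _).1 ⟨b, rfl⟩ with h | h | h | h <;> rw [h] <;> norm_num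
    · rcases (hr _).1 ⟨c, rfl⟩ with h | h | h | h <;> rw [h] <;> norm_num
  · intro h
    have hn : n = Nat.lcm (if 2 ∣ n then 2 else 1)
        (Nat.lcm (if 3 ∣ n then 3 else 1) (if 5 ∣ n then 5 else 1)) := by
      have hle : n ≤ 30 := Nat.le_of_dvd (by norm_num) h
      interval_cases n <;> revert h <;> norm_num
    obtain ⟨a, ha⟩ := (hr (if 2 ∣ n then 2 else 1)).2 (by split_ifs <;> simp)
    obtain ⟨b, hb⟩ := (hr (if 3 ∣ n then 3 else 1)).2 (by split_ifs <;> simp)
    obtain ⟨c, hc⟩ := (hr (if 5 ∣ n then 5 else 1)).2 (by split_ifs <;> simp)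
    exact ⟨a, b, c, by rw [ha, hb, hc]; exact hn.symm⟩

end Cfsg.Agent.S3449
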