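import Cfsg.Statements.S3452
import Cfsg.Agent.RecogB.PGL2Orders
import Cfsg.Agent.RecogB.ClassFunModule

set_option autoImplicit false
open Cfsg

namespace Cfsg.Agent.S3452

open Cfsg.Agent.RecogB

theorem exists_large_copy {S : Set ℕ} (H : Type*) [Group H] [Finite H] (N : ℕ)
    (hN : N < Nat.card H) (hS : Set.range (orderOf : H → ℕ) = S) :
    ∃ (H : Type) (_ : Group H) (_ : Fintype H), N < Fintype.card H ∧
      Set.range (orderOf : H → ℕ) = S := by
  obtain ⟨H', i1, i2, ⟨e⟩⟩ := Spectrum69.exists_type_zero_copy H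
  exact ⟨H', i1, i2, by rwa [← Nat.card_eq_fintype_card, Nat.card_congr e.toEquiv],
    by rw [Spectrum69.range_orderOf_congr e, hS]⟩

/-- Powers of a module with a fixed-point-free group of automorphisms. -/
theorem exists_large_fpf {V : Type*} [CommGroup V] [Finite V] (e : ℕ) (he : ∀ v : V, v ^ e = 1)
    (v₀ : V) (hv₀ : orderOf v₀ = e) (he1 : e ≠ 1) {C : Type*} [Group C] [Finite C] (φ : C →* MulAut V)
    (hfpf : ∀ (c : C) (v : V), c ≠ 1 → φ c v = v → v = 1) (N : ℕ) :
    ∃ (H : Type) (_ : Group H) (_ : Fintype H), N < Fintype.card H ∧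
      Set.range (orderOf : H → ℕ) = {m : ℕ | m ∣ e} ∪ Set.range (orderOf : C → ℕ) := by
  let ψ : C →* MulAut (Fin (N + 1) → V) :=
    { toFun := fun c => MulEquiv.piCongrRight fun _ => φ c
      map_one' := MulEquiv.ext fun f => funext fun i => by simp
      map_mul' := fun a b => MulEquiv.ext fun f => funext fun i => by simp }
  have : Finite ((Fin (N + 1) → V) ⋊[ψ] C) := Finite.of_equiv _ SemidirectProduct.equivProd.symm
  refine exists_large_copy ((Fin (N + 1) → V) ⋊[ψ] C) N ?_ ?_
  · rw [SemidirectProduct.card, Nat.card_fun, Nat.card_fin]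
    have h2 : 2 ≤ Nat.card V := by
      have : Nontrivial V := ⟨⟨v₀, 1, fun h => he1 (by rw [← hv₀, h, orderOf_one])⟩⟩
      exact Finite.one_lt_card
    calc N < 2 ^ (N + 1) := lt_trans (Nat.lt_succ_self N) Nat.lt_two_pow_self
      _ ≤ Nat.card V ^ (N + 1) := Nat.pow_le_pow_left h2 _
      _ ≤ _ := Nat.le_mul_of_pos_right _ Nat.card_pos
  · rw [range_orderOf_fpf ψ fun c f hc h => funext fun i => hfpf c _ hc (congrFun h i)]
    congr 1
    ext m
    constructor
    · rintro ⟨f, rfl⟩
      exact orderOf_dvd_of_pow_eq_one (funext fun i => he _)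
    · intro hm
      have h0 : orderOf (fun _ : Fin (N + 1) => v₀) = e :=
        (orderOf_injective (Pi.constMonoidHom (Fin (N + 1)) V)
          (fun a b h => congrFun h 0) v₀).trans hv₀
      have hpos : 0 < e := hv₀ ▸ orderOf_pos v₀
      exact ⟨(fun _ : Fin (N + 1) => v₀) ^ (e / m), by
        have := orderOf_pow_orderOf_div (x := fun _ : Fin (N + 1) => v₀) (by omega) (h0.symm ▸ hm)
        rwa [h0] at this⟩

theorem case_two (N : ℕ) : ∃ (H : Type) (_ : Group H) (_ : Fintype H), N < Fintype.card H ∧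
    Set.range (orderOf : H → ℕ) = {m : ℕ | m ∣ 2 ∨ m ∣ 2 - 1 ∨ m ∣ 2 + 1} := by
  let σ : MulAut (Multiplicative (ZMod 3)) := MulEquiv.inv _
  have hσ : orderOf σ = 2 := orderOf_eq_prime (p := 2) (MulEquiv.ext fun v => by
    rw [pow_two, MulAut.mul_apply, MulAut.one_apply]; revert v; decide) (fun h => absurd
      (congrArg (fun a : MulAut (Multiplicative (ZMod 3)) => a (Multiplicative.ofAdd 1)) h) (by decide))
  obtain ⟨H, i1, i2, hN, hS⟩ := exists_large_fpf (V := Multiplicative (ZMod 3)) 3 (by decide)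
    (Multiplicative.ofAdd 1) (orderOf_eq_prime (hp := ⟨Nat.prime_three⟩) (by decide) (by decide))
    (by norm_num) (Subgroup.zpowers σ).subtype (fun c v hc h => by
      obtain ⟨⟨c, hcm⟩, rfl⟩ : ∃ d, d = c := ⟨c, rfl⟩
      obtain ⟨k, rfl⟩ := Subgroup.mem_zpowers_iff.1 hcm
      have hk : σ ^ k = σ := by
        rcases Int.emod_two_eq_zero_or_one k with e | e
        · refine absurd (Subtype.ext ?_) hc
          show σ ^ k = 1
          rw [← zpow_mod_orderOf, hσ]; simp [e]
        · rw [← zpow_mod_orderOf, hσ]; simp [e]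
      change (σ ^ k) v = v at h
      rw [hk] at h
      revert h; revert v; decide) N
  refine ⟨H, i1, i2, hN, hS.trans ?_⟩
  ext m
  simp only [Set.mem_union, Set.mem_setOf_eq, Set.mem_range, Nat.add_one_sub_one]
  constructor
  · rintro (h | ⟨c, rfl⟩)
    · exact Or.inr (Or.inr h)
    · exact Or.inl ((orderOf_dvd_natCard c).trans (by rw [Nat.card_zpowers, hσ]))
  · rintro (h | h | h)
    · right
      rcases (Nat.dvd_prime Nat.prime_two).1 h with rfl | rfl
      · exact ⟨1, orderOf_one⟩
      · exact ⟨⟨σ, Subgroup.mem_zpowers σ⟩, (Subgroup.orderOf_mk σ _).trans hσ⟩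
    · left; exact h.trans (one_dvd 3)
    · left; exact h

/-- The rotation of order three on `(ℤ/4)²`. -/
def rot : MulAut (Multiplicative (ZMod 4 × ZMod 4)) :=
  AddEquiv.toMultiplicative
    { toFun := fun v => (-v.2, v.1 - v.2)
      invFun := fun v => (v.2 - v.1, -v.1)
      left_inv := by decide
      right_inv := by decide
      map_add' := by decide }

theorem case_three (N : ℕ) : ∃ (H : Type) (_ : Group H) (_ : Fintype H), N < Fintype.card H ∧
    Set.range (orderOf : H → ℕ) = {m : ℕ | m ∣ 3 ∨ m ∣ 3 - 1 ∨ m ∣ 3 + 1} := by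
  have hσ : orderOf rot = 3 := orderOf_eq_prime (hp := ⟨Nat.prime_three⟩) (MulEquiv.ext fun v => by
    rw [pow_succ, pow_two, MulAut.mul_apply, MulAut.mul_apply, MulAut.one_apply]; revert v; decide)
    (fun h => absurd (congrArg (fun a : MulAut (Multiplicative (ZMod 4 × ZMod 4)) =>
      a (Multiplicative.ofAdd (1, 0))) h) (by decide))
  obtain ⟨H, i1, i2, hN, hS⟩ := exists_large_fpf (V := Multiplicative (ZMod 4 × ZMod 4)) 4 (by decide)
    (Multiplicative.ofAdd (1, 0)) (orderOf_eq_prime_pow (p := 2) (n := 1) (by decide) (by decide))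
    (by norm_num) (Subgroup.zpowers rot).subtype (fun c v hc h => by
      have hmem : rot ∈ Subgroup.zpowers (c : MulAut (Multiplicative (ZMod 4 × ZMod 4))) := by
        have hcard : Nat.card (Subgroup.zpowers rot) = 3 := by rw [Nat.card_zpowers, hσ]
        haveI : Fact (Nat.Prime 3) := ⟨Nat.prime_three⟩
        have := mem_zpowers_of_prime_card (g' := (⟨rot, Subgroup.mem_zpowers rot⟩ : Subgroup.zpowers rot))
          hcard hc
        obtain ⟨k, hk⟩ := Subgroup.mem_zpowers_iff.1 this
        exact Subgroup.mem_zpowers_iff.2 ⟨k, by rw [← Subgroup.coe_zpow, hk]⟩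
      obtain ⟨k, hk⟩ := Subgroup.mem_zpowers_iff.1 hmem
      have hfix : rot v = v := by
        rw [← hk]
        have h' : (c : MulAut (Multiplicative (ZMod 4 × ZMod 4))) ∈
            MulAction.stabilizer (MulAut (Multiplicative (ZMod 4 × ZMod 4))) v := h
        exact Subgroup.zpow_mem _ h' k
      revert hfix; clear h; revert v; decide) N
  refine ⟨H, i1, i2, hN, hS.trans ?_⟩
  ext m
  simp only [Set.mem_union, Set.mem_setOf_eq, Set.mem_range]
  constructor
  · rintro (h | ⟨c, rfl⟩)
    · exact Or.inr (Or.inr h)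
    · exact Or.inl ((orderOf_dvd_natCard c).trans (by rw [Nat.card_zpowers, hσ]))
  · rintro (h | h | h)
    · right
      rcases (Nat.dvd_prime Nat.prime_three).1 h with rfl | rfl
      · exact ⟨1, orderOf_one⟩
      · exact ⟨⟨rot, Subgroup.mem_zpowers rot⟩, (Subgroup.orderOf_mk rot _).trans hσ⟩
    · left; exact h.trans (by norm_num)
    · left; exact h

/-- Multiplication by a fifth root of unity on `𝔽₈₁`. -/
def zMat : (Matrix (Fin 4) (Fin 4) (ZMod 3))ˣ where
  val := !![0, 0, 0, 2; 1, 0, 0, 2; 0, 1, 0, 2; 0, 0, 1, 2]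
  inv := !![0, 0, 0, 2; 1, 0, 0, 2; 0, 1, 0, 2; 0, 0, 1, 2] ^ 4
  val_inv := by decide +kernel
  inv_val := by decide +kernel

/-- A semilinear map normalising `zMat`. -/
def xMat : (Matrix (Fin 4) (Fin 4) (ZMod 3))ˣ where
  val := !![0, 1, 1, 0; 0, 2, 1, 1; 1, 0, 1, 2; 2, 0, 2, 0]
  inv := !![0, 1, 1, 0; 0, 2, 1, 1; 1, 0, 1, 2; 2, 0, 2, 0] ^ 7
  val_inv := by decide +kernel
  inv_val := by decide +kernel

/-- The matrices acting on column vectors. -/
def matAct : (Matrix (Fin 4) (Fin 4) (ZMod 3))ˣ →* MulAut (Multiplicative (Fin 4 → ZMod 3)) where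
  toFun u := AddEquiv.toMultiplicative
    { toFun := fun v => (u : Matrix (Fin 4) (Fin 4) (ZMod 3)).mulVec v
      invFun := fun v => ((u⁻¹ : (Matrix (Fin 4) (Fin 4) (ZMod 3))ˣ) : Matrix (Fin 4) (Fin 4) (ZMod 3)).mulVec v
      left_inv := fun v => by simp [Matrix.mulVec_mulVec]
      right_inv := fun v => by simp [Matrix.mulVec_mulVec]
      map_add' := fun v w => Matrix.mulVec_add _ _ _ }
  map_one' := MulEquiv.ext fun v => by simp
  map_mul' a b := MulEquiv.ext fun v => by
    apply Multiplicative.toAdd.injective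
    simp [Matrix.mulVec_mulVec]

theorem case_nine (N : ℕ) : ∃ (H : Type) (_ : Group H) (_ : Fintype H), N < Fintype.card H ∧
    Set.range (orderOf : H → ℕ) = {m : ℕ | m ∣ 3 ∨ m ∣ 9 - 1 ∨ m ∣ 9 + 1} := by
  classical
  let C : Subgroup (Matrix (Fin 4) (Fin 4) (ZMod 3))ˣ := Subgroup.closure {zMat, xMat}
  have hz5 : zMat ^ 5 = 1 := Units.ext (by decide +kernel)
  have hx8 : xMat ^ 8 = 1 := Units.ext (by decide +kernel)
  have hrel : xMat * zMat = zMat ^ 3 * xMat := Units.ext (by decide +kernel)
  have hcomm : ∀ b c : ℕ, xMat ^ b * zMat ^ c = zMat ^ (c * 3 ^ b) * xMat ^ b := by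
    intro b
    induction b with
    | zero => simp
    | succ b ih =>
      intro c
      have h1 : xMat * zMat ^ c = zMat ^ (3 * c) * xMat := by
        rw [pow_mul]; exact (SemiconjBy.pow_right (show SemiconjBy xMat zMat (zMat ^ 3) from hrel) c).eq
      rw [pow_succ, mul_assoc, h1, ← mul_assoc, ih, mul_assoc, ← pow_succ,
        show 3 * c * 3 ^ b = c * 3 ^ (b + 1) by ring]
  have hnf : ∀ u ∈ C, ∃ (a : Fin 5) (b : Fin 8), u = zMat ^ a.1 * xMat ^ b.1 := by
    have red : ∀ a b : ℕ, ∃ (a' : Fin 5) (b' : Fin 8), zMat ^ a * xMat ^ b = zMat ^ a'.1 * xMat ^ b'.1 :=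
      fun a b => ⟨⟨a % 5, Nat.mod_lt _ (by norm_num)⟩, ⟨b % 8, Nat.mod_lt _ (by norm_num)⟩, by
        rw [pow_eq_pow_mod a hz5, pow_eq_pow_mod b hx8]⟩
    intro u hu
    rw [← Subgroup.mem_toSubmonoid, Subgroup.closure_toSubmonoid_of_finite] at hu
    induction hu using Submonoid.closure_induction with
    | mem x hx =>
      rcases hx with rfl | rfl
      · exact ⟨1, 0, by simp⟩
      · exact ⟨0, 1, by simp⟩
    | one => exact ⟨0, 0, by simp⟩
    | mul x y _ _ hx hy =>
      obtain ⟨a, b, rfl⟩ := hx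
      obtain ⟨c, d, rfl⟩ := hy
      obtain ⟨a', b', e⟩ := red (a.1 + c.1 * 3 ^ b.1) (b.1 + d.1)
      refine ⟨a', b', e ▸ ?_⟩
      rw [mul_assoc, ← mul_assoc (xMat ^ b.1), hcomm, pow_add, pow_add]
      simp [mul_assoc]
  let φ : C →* MulAut (Multiplicative (Fin 4 → ZMod 3)) := matAct.comp C.subtype
  have hfix : ∀ v : Fin 4 → ZMod 3,
      (zMat : Matrix (Fin 4) (Fin 4) (ZMod 3)).mulVec v = v → v = 0 := by decide +kernel
  have hneg : ∀ v : Fin 4 → ZMod 3, (-1 : Matrix (Fin 4) (Fin 4) (ZMod 3)).mulVec v = v → v = 0 := by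
    decide +kernel
  have hkey : ∀ (a : Fin 5) (b : Fin 8), (a ≠ 0 ∨ b ≠ 0) → ∃ m : Fin 9,
      ((zMat : Matrix (Fin 4) (Fin 4) (ZMod 3)) ^ a.1 * (xMat : Matrix (Fin 4) (Fin 4) (ZMod 3)) ^ b.1) ^ m.1
        = (zMat : Matrix (Fin 4) (Fin 4) (ZMod 3)) ∨
      ((zMat : Matrix (Fin 4) (Fin 4) (ZMod 3)) ^ a.1 * (xMat : Matrix (Fin 4) (Fin 4) (ZMod 3)) ^ b.1) ^ m.1
        = -1 := by decide +kernel
  have hord : ∀ (a : Fin 5) (b : Fin 8),
      ((zMat : Matrix (Fin 4) (Fin 4) (ZMod 3)) ^ a.1 * (xMat : Matrix (Fin 4) (Fin 4) (ZMod 3)) ^ b.1) ^ 8 = 1 ∨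
      ((zMat : Matrix (Fin 4) (Fin 4) (ZMod 3)) ^ a.1 * (xMat : Matrix (Fin 4) (Fin 4) (ZMod 3)) ^ b.1) ^ 10 = 1 := by
    decide +kernel
  obtain ⟨H, i1, i2, hN, hS⟩ := exists_large_fpf (V := Multiplicative (Fin 4 → ZMod 3)) 3
    (fun v => by
      apply Multiplicative.toAdd.injective
      rw [toAdd_pow, toAdd_one]
      funext i
      show 3 • Multiplicative.toAdd v i = 0
      rw [nsmul_eq_mul, show ((3 : ℕ) : ZMod 3) = 0 from ZMod.natCast_self 3, zero_mul])
    (Multiplicative.ofAdd (fun _ => 1)) (orderOf_eq_prime (hp := ⟨Nat.prime_three⟩) (by decide) (by decide))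
    (by norm_num) φ (fun c v hc h => by
      obtain ⟨a, b, e⟩ := hnf c.1 c.2
      have hab : a ≠ 0 ∨ b ≠ 0 := by
        by_contra hh
        push Not at hh
        exact hc (Subtype.ext (by rw [e, hh.1, hh.2]; simp))
      obtain ⟨m, hm⟩ := hkey a b hab
      have hmfix : φ (c ^ m.1) v = v := by
        have h' : φ c ∈ MulAction.stabilizer (MulAut (Multiplicative (Fin 4 → ZMod 3))) v := h
        rw [map_pow]
        exact Subgroup.pow_mem _ h' m.1
      have hmv : (((c.1 ^ m.1 : (Matrix (Fin 4) (Fin 4) (ZMod 3))ˣ)) :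
          Matrix (Fin 4) (Fin 4) (ZMod 3)).mulVec (Multiplicative.toAdd v) = Multiplicative.toAdd v :=
        congrArg Multiplicative.toAdd hmfix
      rw [Units.val_pow_eq_pow_val, e, Units.val_mul, Units.val_pow_eq_pow_val,
        Units.val_pow_eq_pow_val] at hmv
      apply Multiplicative.toAdd.injective
      rcases hm with hm | hm <;> rw [hm] at hmv
      · exact hfix _ hmv
      · exact hneg _ hmv) N
  refine ⟨H, i1, i2, hN, hS.trans ?_⟩
  have hzC : zMat ∈ C := Subgroup.subset_closure (Set.mem_insert _ _)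
  have hxC : xMat ∈ C := Subgroup.subset_closure (Set.mem_insert_of_mem _ rfl)
  ext m
  simp only [Set.mem_union, Set.mem_setOf_eq, Set.mem_range]
  constructor
  · rintro (h | ⟨c, rfl⟩)
    · exact Or.inl h
    · obtain ⟨a, b, e⟩ := hnf c.1 c.2
      right
      rw [← Subgroup.orderOf_coe, e]
      rcases hord a b with h | h
      · exact Or.inl (orderOf_dvd_of_pow_eq_one (Units.ext (by simpa using h)))
      · exact Or.inr (orderOf_dvd_of_pow_eq_one (Units.ext (by simpa using h)))
  · have hx : orderOf (⟨xMat, hxC⟩ : C) = 8 := by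
      rw [Subgroup.orderOf_mk]
      refine orderOf_eq_prime_pow (p := 2) (n := 2) (fun h => ?_) hx8
      exact absurd (congrArg Units.val h) (by decide +kernel)
    let w : C := ⟨xMat ^ 4 * zMat, mul_mem (pow_mem hxC 4) hzC⟩
    have hw : orderOf w = 10 := by
      rw [Subgroup.orderOf_mk]
      refine (orderOf_eq_iff (by norm_num)).2 ⟨Units.ext (by decide +kernel), fun j hj hj0 => ?_⟩
      intro h
      have h' := congrArg Units.val h
      revert h'
      clear h
      interval_cases j <;> decide +kernel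
    rintro (h | h | h)
    · exact Or.inl h
    · right
      exact ⟨⟨xMat, hxC⟩ ^ (8 / m), by
        have := orderOf_pow_orderOf_div (x := (⟨xMat, hxC⟩ : C)) (n := m) (by omega) (by rw [hx]; exact h)
        rwa [hx] at this⟩
    · right
      exact ⟨w ^ (10 / m), by
        have := orderOf_pow_orderOf_div (x := w) (n := m) (by omega) (by rw [hw]; exact h)
        rwa [hw] at this⟩

theorem case_large {F : Type*} [Field F] [Fintype F] {p : ℕ} [hp : Fact p.Prime] [CharP F p]
    (hF : Fintype.card F = p) (h5 : 5 ≤ p) (N : ℕ) :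
    ∃ (H : Type) (_ : Group H) (_ : Fintype H), N < Fintype.card H ∧
      Set.range (orderOf : H → ℕ) = {m : ℕ | m ∣ p ∨ m ∣ p - 1 ∨ m ∣ p + 1} := by
  classical
  have hodd : Odd p := hp.out.odd_of_ne_two (by omega)
  have h2 : (2 : F) ≠ 0 := by
    intro h
    have : ((2 : ℕ) : F) = 0 := by exact_mod_cast h
    rw [CharP.cast_eq_zero_iff F p] at this
    have := Nat.le_of_dvd (by norm_num) this
    omega
  obtain ⟨τ, hτ0, hτ⟩ := exists_elliptic_trace (F := F) (by omega) h2
  have hgcd : Nat.gcd 2 (Fintype.card F - 1) = 2 := by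
    obtain ⟨r, hr⟩ := hodd
    exact Nat.gcd_eq_left ⟨r, by omega⟩
  let G := PSLTwo F
  let φ := kernelAct G (Fin (N + 1)) p
  let W := cosetKernel G (Fin (N + 1)) p
  have hsq : ∀ a : Multiplicative (ZMod 2), a * a = 1 := by decide
  have hone : (Multiplicative.ofAdd (1 : ZMod 2)) ≠ 1 := by decide
  -- elements given by a choice of coordinates
  let mkv : (Fin (N + 1) → Bool) → W := fun S =>
    ⟨fun a => if S a.1 then traceInd τ a.2 else 1, fun e he c h => by
      by_cases hc : S c
      · simp only [hc, if_true]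
        exact prod_traceInd hF h2 hτ0 hτ e h he
      · simp [hc]⟩
  -- torus elements of both orders
  have htor : ∀ n, (n = Fintype.card F - 1 ∨ n = Fintype.card F + 1) →
      ∃ x : W ⋊[φ] G, orderOf x = n := by
    intro n hn
    obtain ⟨g, hg⟩ := SL2Tor.exists_psl_orderOf_div (F := F) hn
    rw [hgcd] at hg
    have hk : n = 2 * orderOf g := by
      obtain ⟨r, hr⟩ := hodd
      rw [hg]; omega
    have hpk : ¬ p ∣ orderOf g⁻¹ := by
      rw [orderOf_inv]
      intro h
      have := Nat.le_of_dvd (orderOf_pos g) h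
      omega
    obtain ⟨h₀, hh₀⟩ := exists_torus_prod h2 hτ0 hτ g⁻¹ hpk (fun h => by
      have : orderOf g = 1 := by rw [← orderOf_inv, h, orderOf_one]
      omega)
    refine ⟨⟨mkv fun _ => true, g⟩, ?_⟩
    set x : W ⋊[φ] G := ⟨mkv fun _ => true, g⟩
    have hd1 : orderOf g ∣ orderOf x := orderOf_map_dvd (SemidirectProduct.rightHom (φ := φ)) x
    have hd2 : orderOf x ∣ orderOf g * 2 := by
      apply orderOf_dvd_of_pow_eq_one
      rw [pow_mul, pow_two]
      have hr : (x ^ orderOf g).right = 1 := by rw [semidirect_pow_right]; exact pow_orderOf_eq_one g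
      refine SemidirectProduct.ext ?_ ?_
      · rw [SemidirectProduct.mul_left, hr, map_one, MulAut.one_apply]
        exact Subtype.ext (funext fun a => hsq _)
      · rw [SemidirectProduct.mul_right, hr, mul_one]; rfl
    have hne : x ^ orderOf g ≠ 1 := by
      intro h
      have h' := congrArg (fun y : W ⋊[φ] G => y.left.1 (0, h₀)) h
      simp only [SemidirectProduct.one_left, semidirect_pow_left, Subgroup.val_finsetProd,
        Finset.prod_apply] at h'
      refine hone (hh₀.symm.trans (Eq.trans ?_ h'))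
      rw [orderOf_inv]
      refine Finset.prod_congr rfl fun i _ => ?_
      show _ = (φ (g ^ i) (mkv fun _ => true)).1 (0, h₀)
      rw [inv_pow]
      rfl
    obtain ⟨c, hc⟩ := hd1
    have : c ∣ 2 := (Nat.mul_dvd_mul_iff_left (orderOf_pos g)).1 (hc ▸ hd2)
    rcases (Nat.dvd_prime Nat.prime_two).1 this with rfl | rfl
    · exfalso
      apply hne
      rw [← orderOf_dvd_iff_pow_eq_one, hc, mul_one]
    · omega
  have : Finite (W ⋊[φ] G) := Finite.of_equiv _ SemidirectProduct.equivProd.symm
  refine exists_large_copy (W ⋊[φ] G) N ?_ ?_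
  · rw [SemidirectProduct.card]
    obtain ⟨hh, hhh⟩ : ∃ h : G, traceInd τ h = Multiplicative.ofAdd (1 : ZMod 2) := by
      obtain ⟨B, hB⟩ : ∃ B : Matrix.SpecialLinearGroup (Fin 2) F,
          (B : Matrix (Fin 2) (Fin 2) F) = SL2Tor.comp2 τ :=
        ⟨⟨_, by simp [SL2Tor.comp2, Matrix.det_fin_two_of]⟩, rfl⟩
      exact ⟨QuotientGroup.mk B, by
        rw [traceInd_mk, if_pos (Or.inl (by rw [hB]; simp [SL2Tor.comp2, Matrix.trace_fin_two]))]⟩
    have hinj : Function.Injective mkv := fun S T h => funext fun c => by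
      have h' : (if S c then traceInd τ hh else 1) = if T c then traceInd τ hh else 1 :=
        congrArg (fun w : W => w.1 (c, hh)) h
      rw [hhh] at h'
      revert h'
      cases S c <;> cases T c <;> simp [hone, hone.symm]
    have h1 := Nat.card_le_card_of_injective mkv hinj
    rw [Nat.card_fun, Nat.card_fin, Nat.card_eq_fintype_card (α := Bool), Fintype.card_bool] at h1
    calc N < 2 ^ (N + 1) := lt_trans (Nat.lt_succ_self N) Nat.lt_two_pow_self
      _ ≤ Nat.card W := h1
      _ ≤ _ := Nat.le_mul_of_pos_right _ Nat.card_pos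
  · ext m
    constructor
    · rintro ⟨x, rfl⟩
      have hr : (x ^ orderOf x.right).right = 1 := by rw [semidirect_pow_right, pow_orderOf_eq_one]
      have hd2 : orderOf x ∣ 2 * orderOf x.right := by
        apply orderOf_dvd_of_pow_eq_one
        rw [mul_comm, pow_mul, pow_two]
        refine SemidirectProduct.ext ?_ ?_
        · rw [SemidirectProduct.mul_left, hr, map_one, MulAut.one_apply]
          exact Subtype.ext (funext fun a => hsq _)
        · rw [SemidirectProduct.mul_right, hr, mul_one]; rfl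
      have hpsl := SL2Tor.psl_orderOf_dvd p x.right
      rw [hgcd, hF] at hpsl
      obtain ⟨r, hr'⟩ := hodd
      rcases hpsl with h | h | h
      · rcases (Nat.dvd_prime hp.out).1 h with e | e
        · rw [e] at hd2
          exact Or.inr (Or.inl (hd2.trans ⟨r, by omega⟩))
        · refine Or.inl (orderOf_dvd_of_pow_eq_one (SemidirectProduct.ext ?_ ?_))
          · apply Subtype.ext
            funext ⟨c, h₀⟩
            simp only [SemidirectProduct.one_left, semidirect_pow_left, Subgroup.val_finsetProd,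
              Finset.prod_apply]
            refine Eq.trans ?_ (x.left.2 x.right⁻¹ (by rw [orderOf_inv, e]) c h₀)
            refine Finset.prod_congr rfl fun i _ => ?_
            show (φ (x.right ^ i) x.left).1 (c, h₀) = _
            rw [inv_pow]
            rfl
          · rw [semidirect_pow_right, ← e, pow_orderOf_eq_one]; rfl
      · exact Or.inr (Or.inl (hd2.trans ((Nat.mul_dvd_mul_left 2 h).trans
          (dvd_of_eq (by omega)))))
      · exact Or.inr (Or.inr (hd2.trans ((Nat.mul_dvd_mul_left 2 h).trans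
          (dvd_of_eq (by omega)))))
    · have key : (∃ x : W ⋊[φ] G, m ∣ orderOf x) → m ∈ Set.range (orderOf : W ⋊[φ] G → ℕ) := by
        rintro ⟨x, hx⟩
        exact ⟨x ^ (orderOf x / m), orderOf_pow_orderOf_div (orderOf_pos x).ne' hx⟩
      rintro (h | h | h)
      · obtain ⟨g, hg⟩ := SL2Tor.exists_psl_orderOf_char (F := F) p
        exact key ⟨SemidirectProduct.inr g, by
          rw [orderOf_injective SemidirectProduct.inr SemidirectProduct.inr_injective g, hg]; exact h⟩
      · obtain ⟨x, hx⟩ := htor _ (Or.inl rfl)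
        exact key ⟨x, by rw [hx, hF]; exact h⟩
      · obtain ⟨x, hx⟩ := htor _ (Or.inr rfl)
        exact key ⟨x, by rw [hx, hF]; exact h⟩

/-- For F a finite field whose number of elements is a prime or equals 9, the group PGL(2,F) = GL(2,F)/Z(GL(2,F)) is not determined by its set of element orders: for every bound N there is a finite group of order greater than N with exactly the same set of element orders as PGL(2,F). -/
theorem result {F : Type*} [Field F] [Fintype F] (hF : (Fintype.card F).Prime ∨ Fintype.card F = 9) (N : ℕ) :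
    ∃ (H : Type) (_ : Group H) (_ : Fintype H), N < Fintype.card H ∧
      Set.range (orderOf : H → ℕ) = Set.range (orderOf : Matrix.GeneralLinearGroup (Fin 2) F ⧸ Subgroup.center (Matrix.GeneralLinearGroup (Fin 2) F) → ℕ) := by
  rcases hF with hq | hq
  · haveI : Fact (Fintype.card F).Prime := ⟨hq⟩
    haveI : CharP F (Fintype.card F) := charP_of_card_eq_prime rfl
    rw [range_orderOf_pgl2 (F := F) (Fintype.card F)]
    by_cases h5 : 5 ≤ Fintype.card F
    · exact case_large rfl h5 N
    · have h2 := hq.two_le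
      have h4 : Fintype.card F ≠ 4 := fun h => by rw [h] at hq; exact absurd hq (by norm_num)
      rcases (by omega : Fintype.card F = 2 ∨ Fintype.card F = 3) with e | e <;> rw [e]
      · exact case_two N
      · exact case_three N
  · haveI : Fact (Nat.Prime 3) := ⟨Nat.prime_three⟩
    haveI : CharP F 3 := charP_of_card_eq_prime_pow (f := 2) (by rw [hq]; norm_num)
    rw [range_orderOf_pgl2 (F := F) 3, hq]
    exact case_nine N

end Cfsg.Agent.S3452
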