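import Cfsg.Statements.S3466
import Cfsg.Agent.Spec4.Outer
import Cfsg.Agent.Spec4.Three

set_option autoImplicit false
open Cfsg

namespace Cfsg.Agent.S3466

open Matrix Cfsg.Agent.Spec4

/-- The data of `V ⊗ V^(3) ⊗ V^(q) ⊗ V^(q)`. -/
noncomputable def data4 {E : Type} [Field E] [Fintype E] [CharP E 3] [Fact (Nat.Prime 3)] {f : ℕ}
    (hf : Even f) : RepData 3 (3 ^ f) (tens4 3 E f) :=
  haveI : CharP (AlgebraicClosure E) 3 := charP_of_injective_algebraMap (algebraMap E _).injective 3
  { τK := tens4 3 (AlgebraicClosure E) f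
    hmap := fun A => tens4_map 3 E _ f A
    val := fun l i => ![l, l⁻¹] i.1.1 * ![l, l⁻¹] i.1.2 ^ 3 * (![l, l⁻¹] i.2.1 ^ 3 ^ f * ![l, l⁻¹] i.2.2 ^ 3 ^ f)
    hdiag := fun l => tens4_diag 3 (AlgebraicClosure E) f _
    hneg := by
      ext ⟨⟨a, b⟩, c, d⟩ ⟨⟨a', b'⟩, c', d'⟩
      have hodd : Odd (3 ^ f) := Odd.pow ⟨1, rfl⟩
      rw [tens4_apply]
      simp [Matrix.one_apply, Prod.ext_iff]
      split_ifs <;> simp_all [hodd.neg_one_pow, Nat.pos_iff_ne_zero, show (Odd 3) by decide]
    fixed := fun l hl hfrob i hi => by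
      obtain ⟨⟨a, b⟩, c, d⟩ := i
      have hA : ![l, l⁻¹] a * ![l, l⁻¹] b ^ 3 = (l * l) ^ 2 ∨ ![l, l⁻¹] a * ![l, l⁻¹] b ^ 3 = ((l * l) ^ 2)⁻¹ ∨
          ![l, l⁻¹] a * ![l, l⁻¹] b ^ 3 = l * l ∨ ![l, l⁻¹] a * ![l, l⁻¹] b ^ 3 = (l * l)⁻¹ := by
        fin_cases a <;> fin_cases b
        · left; simp; ring
        · right; right; right; simp; field_simp
        · right; right; left; simp; field_simp
        · right; left; simp; field_simp
      have hB : ![l, l⁻¹] c ^ 3 ^ f * ![l, l⁻¹] d ^ 3 ^ f = (l * l) ^ 3 ^ f ∨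
          ![l, l⁻¹] c ^ 3 ^ f * ![l, l⁻¹] d ^ 3 ^ f = 1 ∨
          ![l, l⁻¹] c ^ 3 ^ f * ![l, l⁻¹] d ^ 3 ^ f = ((l * l) ^ 3 ^ f)⁻¹ := by
        fin_cases c <;> fin_cases d
        · left; simp [mul_pow]
        · right; left; simp [hl]
        · right; left; simp [hl]
        · right; right; simp [mul_pow, mul_comm]
      simp only at hi
      generalize ![l, l⁻¹] a * ![l, l⁻¹] b ^ 3 = A at hA hi
      generalize ![l, l⁻¹] c ^ 3 ^ f * ![l, l⁻¹] d ^ 3 ^ f = B at hB hi
      set ν := l * l with hν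
      have hν0 : ν ≠ 0 := mul_ne_zero hl hl
      have hνQ : ν ^ (3 ^ f) ^ 2 = ν ∨ ν ^ (3 ^ f) ^ 2 = ν⁻¹ := by
        rcases hfrob with h | h
        · left; rw [hν, mul_pow, h]
        · right; rw [hν, mul_pow, h, mul_inv]
      have hone : ν ^ 2 = 1 → ν ^ 3 ^ f = ν := fun h => by
        obtain ⟨c, hc⟩ : Odd (3 ^ f) := Odd.pow ⟨1, rfl⟩
        rw [hc, pow_succ, pow_mul, h, one_pow, one_mul]
      have hw : (ν ^ 3 ^ f = ν ∨ ν ^ 3 ^ f = ν⁻¹) ∨ ν ^ 3 ^ f = ν ^ 2 ∨ ν ^ 3 ^ f = (ν ^ 2)⁻¹ := by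
        rcases hB with rfl | rfl | rfl
        · have h := eq_inv_of_mul_eq_one_right hi
          rcases hA with rfl | rfl | rfl | rfl <;> (try simp only [inv_inv] at h)
          exacts [Or.inr (Or.inr h), Or.inr (Or.inl h), Or.inl (Or.inr h), Or.inl (Or.inl h)]
        · rw [mul_one] at hi
          subst hi
          left; left
          rcases hA with h | h | h | h
          · exact hone h.symm
          · exact hone (inv_eq_one.1 h.symm)
          · rw [← h, one_pow]
          · rw [inv_eq_one.1 h.symm, one_pow]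
        · have h := eq_inv_of_mul_eq_one_left hi
          rw [inv_inv] at h
          rcases hA with rfl | rfl | rfl | rfl
          exacts [Or.inr (Or.inl h.symm), Or.inr (Or.inr h.symm), Or.inl (Or.inl h.symm), Or.inl (Or.inr h.symm)]
      rcases hw with h | hw
      · exact h
      have h4 : ν ^ (3 ^ f) ^ 2 = ν ^ 4 := by
        rw [pow_two (3 ^ f), pow_mul]
        rcases hw with h | h <;> rw [h]
        · rw [← pow_mul, mul_comm, pow_mul, h, ← pow_mul]
        · rw [inv_pow, ← pow_mul, mul_comm, pow_mul, h, inv_pow, inv_inv, ← pow_mul]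
      rcases hνQ with h | h
      · -- cube roots of unity are trivial
        have h3 : ν ^ 3 = 1 := mul_right_cancel₀ hν0 (by rw [← pow_succ, one_mul, ← h4, h])
        have h1 : ν = 1 := by
          have h0 : (ν - 1) ^ 3 = 0 := by rw [sub_pow_char, h3, one_pow, sub_self]
          exact sub_eq_zero.1 (pow_eq_zero_iff (by norm_num) |>.1 h0)
        left; rw [h1, one_pow]
      · -- fifth roots of unity
        have h5 : ν ^ 5 = 1 := by rw [pow_succ, ← h4, h, inv_mul_cancel₀ hν0]
        have hmod : 3 ^ f % 5 = 1 ∨ 3 ^ f % 5 = 4 := by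
          obtain ⟨k, rfl⟩ := hf
          have hk : ∀ j, (3 ^ 2) ^ j % 5 = 1 ∨ (3 ^ 2) ^ j % 5 = 4 := fun j => by
            induction j with
            | zero => left; rfl
            | succ j ih => rw [pow_succ, Nat.mul_mod]; rcases ih with ih | ih <;> rw [ih] <;> norm_num
          rw [← two_mul, pow_mul]
          exact hk k
        rw [pow_eq_pow_mod (3 ^ f) h5]
        rcases hmod with h' | h' <;> rw [h']
        · left; exact pow_one _
        · right; exact eq_inv_of_mul_eq_one_left (by rw [← pow_succ, h5])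
    faithful := fun l hl h => by
      have h2 := h ((1, 0), (0, 1))
      simp at h2
      field_simp at h2
      linear_combination h2
    nil := fun h => absurd h (by norm_num) }

section Lower

variable {ι E : Type} [Field E] [Fintype ι] [DecidableEq ι] [Fintype E] {p q : ℕ} [hp : Fact p.Prime] [CharP E p]
  {τ : Matrix (Fin 2) (Fin 2) E →* Matrix ι ι E}

/-- The witnesses needed for a given model. -/
theorem family_of [Nonempty ι] (X : Subgroup (GL ι E)) (hX : ∀ A, repGL τ A ∈ X) (D : RepData p q τ) {f : ℕ}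
    (hf : 0 < f) (hq : q = p ^ f) (hq3 : 3 < q) (hE : Fintype.card E = q ^ 2)
    (hup : ∀ g ∈ X, ∃ N, g ^ N = 1 ∧
      ((N ∈ spec4 q p ∧ ∑ i ∈ Finset.range N, (g : Matrix ι ι E) ^ i = 0) ∨ p * N ∈ spec4 q p))
    (hsmall : ∀ c, (c = q - 1 ∨ c = q + 1) → ∃ g ∈ X, ∃ v : ι → E, v ≠ 0 ∧
      (g : Matrix ι ι E) *ᵥ v = v ∧ orderOf g = c)
    (hunip : p ≤ 3 → ∃ g ∈ X, ∃ v : ι → E, orderOf g = p ∧
      (∑ i ∈ Finset.range p, (g : Matrix ι ι E) ^ i) *ᵥ v ≠ 0)
    (M : ℕ) :
    ∃ (H : Type) (_ : Group H) (_ : Fintype H), M < Fintype.card H ∧ Set.range (orderOf : H → ℕ) = spec4 q p := by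
  refine exists_family p X _ (fun hn hm => mem_spec4_of_dvd hn hm) hup (fun m hm => ?_) M
  have hs : ∀ c, (c = q - 1 ∨ c = q + 1) → m ∣ p * c →
      ∃ g ∈ X, ∃ v : ι → E, (∑ i ∈ Finset.range (orderOf g), (g : Matrix ι ι E) ^ i) *ᵥ v ≠ 0 ∧
        m ∣ p * orderOf g := by
    intro c hc hd
    obtain ⟨g, hg, v, hv, hfix, hord⟩ := hsmall c hc
    refine ⟨g, hg, v, norm_of_fixed p hv hfix ?_, hord ▸ hd⟩
    rw [hord]
    intro h
    have hpq : p ∣ q := hq ▸ dvd_pow_self p hf.ne'
    rcases hc with rfl | rfl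
    · have h1 := Nat.dvd_sub hpq h
      rw [show q - (q - 1) = 1 by omega] at h1
      exact hp.out.not_dvd_one h1
    · exact hp.out.not_dvd_one ((Nat.dvd_add_iff_right hpq).2 h)
  rcases hm with hm | hm | hm | hm | ⟨hp3, hm⟩
  · obtain ⟨A, hA⟩ := inner_big D hf hq hq3 hE (Or.inl rfl)
    exact Or.inl ⟨_, hX A, hm.trans hA⟩
  · obtain ⟨A, hA⟩ := inner_big D hf hq hq3 hE (Or.inr rfl)
    exact Or.inl ⟨_, hX A, hm.trans hA⟩
  · exact Or.inr (hs _ (Or.inr rfl) hm)
  · exact Or.inr (hs _ (Or.inl rfl) hm)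
  · obtain ⟨g, hg, v, hord, hv⟩ := hunip hp3
    exact Or.inr ⟨g, hg, v, hord ▸ hv, by rw [hord, ← pow_two]; exact hm⟩

/-- A unit `b` with `b²` of order `c ∈ {q ± 1}`. -/
theorem exists_half_unit (hE : Fintype.card E = q ^ 2) {c : ℕ} (hc : c = q - 1 ∨ c = q + 1) :
    ∃ b : Eˣ, orderOf (b * b) = c := by
  obtain ⟨a, ha⟩ := IsCyclic.exists_generator (α := Eˣ)
  have hao : orderOf a = (q + 1) * (q - 1) := by
    rw [orderOf_eq_card_of_forall_mem_zpowers ha, Nat.card_units, Nat.card_eq_fintype_card, hE, ← Nat.sq_sub_sq,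
      one_pow]
  have hq1 : 1 ≤ q := by
    by_contra h
    rw [show q = 0 by omega] at hE
    exact Fintype.card_ne_zero (hE.trans (by norm_num))
  rcases Nat.even_or_odd c with hev | hodd
  · have h2 : 2 * c ∣ orderOf a := by
      rw [hao]
      obtain ⟨k, hk⟩ := hev
      rcases hc with rfl | rfl
      · exact mul_dvd_mul_right (Nat.dvd_of_mod_eq_zero (by omega)) _
      · rw [mul_comm 2]
        exact mul_dvd_mul_left _ (Nat.dvd_of_mod_eq_zero (by omega))
    obtain ⟨b, hb⟩ := KS58.exists_orderOf_eq_of_dvd a h2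
    refine ⟨b, ?_⟩
    rw [← pow_two, orderOf_pow' b two_ne_zero, hb, Nat.gcd_eq_right (dvd_mul_right 2 c),
      Nat.mul_div_cancel_left _ two_pos]
  · have h2 : c ∣ orderOf a := by
      rw [hao]
      rcases hc with rfl | rfl
      exacts [dvd_mul_left _ _, dvd_mul_right _ _]
    obtain ⟨b, hb⟩ := KS58.exists_orderOf_eq_of_dvd a h2
    refine ⟨b, ?_⟩
    rw [← pow_two, Nat.Coprime.orderOf_pow (hb ▸ Nat.coprime_two_right.2 hodd), hb]

end Lower

theorem units_rel {E : Type} [Field E] (b : Eˣ) {q c : ℕ} (hq : 1 ≤ q) (hb : orderOf (b * b) = c)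
    (hc : c = q - 1 ∨ c = q + 1) :
    (c = q - 1 ∧ ((b : E) * b) ^ q = (b : E) * b) ∨ (c = q + 1 ∧ (b : E) * b * ((b : E) * b) ^ q = 1) := by
  have h : ((b : E) * b) ^ c = 1 := by
    rw [← Units.val_mul, ← Units.val_pow_eq_pow_val, ← hb, pow_orderOf_eq_one, Units.val_one]
  rcases hc with rfl | rfl
  · exact Or.inl ⟨rfl, by rw [← Nat.sub_add_cancel hq, pow_succ, h, one_mul]⟩
  · exact Or.inr ⟨rfl, by rw [← pow_succ', h]⟩

/-- Let F be a finite field with q ≥ 3 elements such that q is not of the form 3^(2t+1) with t ≥ 1. Then PSp(4,F) is not determined by its set of element orders, not even up to finitely many groups: for every bound N there is a finite group of order greater than N with exactly the same set of element orders as PSp(4,F). -/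
theorem result {F : Type*} [Field F] [Fintype F] (h3 : 3 ≤ Fintype.card F) (hq : ∀ t : ℕ, 1 ≤ t → Fintype.card F ≠ 3 ^ (2 * t + 1)) (N : ℕ) :
    ∃ (H : Type) (_ : Group H) (_ : Fintype H), N < Fintype.card H ∧ Set.range (orderOf : H → ℕ) = Set.range (orderOf : Cfsg.PSp 2 F → ℕ) := by
  classical
  by_cases hF3 : Fintype.card F = 3
  · rw [Fus2.SpecPSp.range_psp hF3]
    exact Three.exists_groups N
  obtain ⟨p, hchar⟩ := CharP.exists F
  haveI := hchar
  haveI hp : Fact p.Prime := ⟨CharP.char_is_prime F p⟩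
  obtain ⟨⟨f, hf⟩, -, hcard⟩ := FiniteField.card F p
  simp only [PNat.mk_coe] at hcard
  rw [range_psp4 p, hcard]
  have hq3 : 3 < p ^ f := by omega
  let E := GaloisField p (2 * f)
  haveI : Fintype E := Fintype.ofFinite E
  have hE : Fintype.card E = (p ^ f) ^ 2 := by
    rw [← Nat.card_eq_fintype_card, GaloisField.card p (2 * f) (by omega), ← pow_mul, mul_comm]
  have hq0 : 1 ≤ p ^ f := Nat.one_le_pow _ _ hp.out.pos
  have hU : (!![1, 1; 0, 1] : Matrix (Fin 2) (Fin 2) E).det = 1 := by simp [Matrix.det_fin_two]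
  let U : Matrix.SpecialLinearGroup (Fin 2) E := ⟨_, hU⟩
  rcases (show p = 2 ∨ p = 3 ∨ 5 ≤ p by
    have := hp.out.two_le
    rcases eq_or_ne p 4 with h | h
    · exact absurd (h ▸ hp.out) (by norm_num)
    · omega) with rfl | rfl | h5
  · -- even characteristic
    refine family_of (repGL (tens2 2 E f)).range (fun A => ⟨A, rfl⟩) (data2 2) hf rfl hq3 hE
      (by rintro - ⟨A, rfl⟩; exact inner_upper (data2 2) hf rfl hE A) (fun c hc => ?_) (fun _ => ?_) N
    · obtain ⟨b, hb⟩ := exists_half_unit hE hc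
      obtain ⟨i, hi⟩ : ∃ i : Fin 2 × Fin 2,
          ![(b : E), (b : E)⁻¹] i.1 * ![(b : E), (b : E)⁻¹] i.2 ^ 2 ^ f = 1 := by
        have hsq : ∀ x y : E, x * x = y * y → x = y := fun x y h =>
          (mul_self_eq_mul_self_iff.1 h).elim id fun h => by rw [h, CharTwo.neg_eq]
        rcases units_rel b hq0 hb hc with ⟨-, h⟩ | ⟨-, h⟩
        · refine ⟨(0, 1), ?_⟩
          simp only [Matrix.cons_val_zero, Matrix.cons_val_one, Matrix.cons_val_fin_one, inv_pow]
          rw [hsq _ _ (show (b : E) ^ 2 ^ f * (b : E) ^ 2 ^ f = b * b by rw [← mul_pow, h])]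
          exact mul_inv_cancel₀ b.ne_zero
        · refine ⟨(0, 0), hsq _ _ ?_⟩
          simp only [Matrix.cons_val_zero, one_mul]
          rw [← h]; ring
      obtain ⟨A, hA, hfix⟩ := inner_small (data2 2 (f := f)) b hb (Pi.single i 1) (by simp) (by
        rw [tens2_diag, Matrix.mulVec_single_one]
        funext j
        rw [Matrix.col_apply, Matrix.diagonal_apply, Pi.single_apply]
        split_ifs with h
        · subst h; exact hi
        · rfl)
      exact ⟨_, ⟨A, rfl⟩, _, by simp, hfix, hA⟩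
    · refine ⟨repGL (tens2 2 E f) U, ⟨U, rfl⟩, Pi.single (1, 0) 1, ?_, ?_⟩
      · refine orderOf_eq_prime (Units.ext ?_) fun h => ?_
        · rw [Units.val_pow_eq_pow_val, repGL_val, ← map_pow, Units.val_one]
          refine tau_eq_one (data2 2) (Or.inl ?_)
          rw [pow_two]
          show (!![1, 1; 0, 1] : Matrix (Fin 2) (Fin 2) E) * !![1, 1; 0, 1] = 1
          ext i j
          fin_cases i <;> fin_cases j <;> simp [Matrix.mul_apply, CharTwo.add_self_eq_zero]
        · have := congrArg (fun g : GL (Fin 2 × Fin 2) E => g.val (0, 0) (1, 0)) h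
          simp only [repGL_val, tens2_apply, Units.val_one] at this
          simp [U] at this
      · intro h
        rw [Finset.sum_range_succ, Finset.sum_range_one, pow_zero, pow_one, repGL_val,
          Matrix.mulVec_single_one] at h
        have := congrFun h (0, 0)
        rw [Matrix.col_apply, Matrix.add_apply, tens2_apply] at this
        simp [U] at this
  · -- characteristic three
    have hfev : Even f := by
      rcases Nat.even_or_odd f with h | ⟨t, rfl⟩
      · exact h
      · exfalso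
        rcases t.eq_zero_or_pos with rfl | ht
        · norm_num at hcard
          exact hF3 hcard
        · exact hq t ht hcard
    refine family_of (repGL (tens4 3 E f)).range (fun A => ⟨A, rfl⟩) (data4 hfev) hf rfl hq3 hE
      (by rintro - ⟨A, rfl⟩; exact inner_upper (data4 hfev) hf rfl hE A) (fun c hc => ?_) (fun _ => ?_) N
    · obtain ⟨b, hb⟩ := exists_half_unit hE hc
      have hb0 : (b : E) ≠ 0 := b.ne_zero
      obtain ⟨i, hi⟩ : ∃ i : (Fin 2 × Fin 2) × (Fin 2 × Fin 2),
          ![(b : E), (b : E)⁻¹] i.1.1 * ![(b : E), (b : E)⁻¹] i.1.2 ^ 3 *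
            (![(b : E), (b : E)⁻¹] i.2.1 ^ 3 ^ f * ![(b : E), (b : E)⁻¹] i.2.2 ^ 3 ^ f) = 1 := by
        have e : (b : E)⁻¹ * (b : E) ^ 3 = b * b := by
          rw [pow_succ, pow_two, ← mul_assoc, ← mul_assoc, inv_mul_cancel₀ b.ne_zero, one_mul]
        rcases units_rel b hq0 hb hc with ⟨-, h⟩ | ⟨-, h⟩
        · refine ⟨((1, 0), (1, 1)), ?_⟩
          simp only [Matrix.cons_val_zero, Matrix.cons_val_one, Matrix.cons_val_fin_one]
          rw [e, ← mul_pow, ← mul_inv, inv_pow, h, mul_inv_cancel₀ (mul_ne_zero hb0 hb0)]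
        · refine ⟨((1, 0), (0, 0)), ?_⟩
          simp only [Matrix.cons_val_zero, Matrix.cons_val_one, Matrix.cons_val_fin_one]
          rw [e, ← mul_pow, h]
      obtain ⟨A, hA, hfix⟩ := inner_small (data4 hfev) b hb (Pi.single i 1) (by simp) (by
        rw [tens4_diag, Matrix.mulVec_single_one]
        funext j
        rw [Matrix.col_apply, Matrix.diagonal_apply, Pi.single_apply]
        split_ifs with h
        · subst h; exact hi
        · rfl)
      exact ⟨_, ⟨A, rfl⟩, _, by simp, hfix, hA⟩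
    · refine ⟨repGL (tens4 3 E f) U, ⟨U, rfl⟩, Pi.single ((1, 1), (0, 0)) 1, ?_, ?_⟩
      · refine orderOf_eq_prime (Units.ext ?_) fun h => ?_
        · rw [Units.val_pow_eq_pow_val, repGL_val, ← map_pow, Units.val_one]
          refine tau_eq_one (data4 hfev) (Or.inl ?_)
          rw [pow_succ, pow_two]
          show (!![1, 1; 0, 1] : Matrix (Fin 2) (Fin 2) E) * !![1, 1; 0, 1] * !![1, 1; 0, 1] = 1
          have h3 : (1 : E) + 1 + 1 = 0 := by
            have := CharP.cast_eq_zero E 3
            norm_num at this ⊢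
            exact this
          ext i j
          fin_cases i <;> fin_cases j <;> simp [Matrix.mul_apply]
          all_goals linear_combination h3
        · have := congrArg (fun g : GL ((Fin 2 × Fin 2) × (Fin 2 × Fin 2)) E => g.val ((0, 0), (0, 0)) ((1, 1), (0, 0))) h
          simp only [repGL_val, tens4_apply, Units.val_one] at this
          simp [U] at this
      · intro h
        rw [Finset.sum_range_succ, Finset.sum_range_succ, Finset.sum_range_one, pow_zero, pow_one, repGL_val,
          pow_two, ← map_mul, Matrix.mulVec_single_one] at h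
        have := congrFun h ((0, 0), (0, 0))
        rw [Matrix.col_apply, Matrix.add_apply, Matrix.add_apply, tens4_apply, tens4_apply] at this
        simp [U, Matrix.one_apply] at this
        have h3 : (3 : E) = 0 := by have := CharP.cast_eq_zero E 3; exact_mod_cast this
        exact one_ne_zero (α := E) (by linear_combination 6 * h3 - this)
  · -- characteristic at least five
    refine family_of (extGroup p f hE) (fun A => Or.inl ⟨A, rfl⟩) (data2 p) hf rfl hq3 hE
      (fun g hg => ?_) (fun c hc => outer_small p f hE h5 hf hc) (fun h => absurd h (by omega)) N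
    rcases hg with ⟨A, rfl⟩ | ⟨A, rfl⟩
    · exact inner_upper (data2 p) hf rfl hE A
    · exact outer_upper p f hE h5 hf A

end Cfsg.Agent.S3466
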