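import Cfsg.Statements.S3491
import Cfsg.Agent.RecogB.AffineSL2Four
import Cfsg.Agent.RecogB.AltSpectrum

set_option autoImplicit false
open Cfsg

namespace Cfsg.Agent.S3491

open Cfsg.Agent.RecogB

/-- The linear part. -/
def lin (F : Type) [Field F] : affSL2 F →* Matrix (Fin 2) (Fin 2) F where
  toFun g := ((g : Matrix.SpecialLinearGroup (Fin 3) F) : Matrix (Fin 3) (Fin 3) F).submatrix Fin.castSucc Fin.castSucc
  map_one' := by ext i j; fin_cases i <;> fin_cases j <;> simp
  map_mul' g h := by
    ext i j
    obtain ⟨h0, h1, -⟩ := mem_affSL2.mp h.2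
    fin_cases i <;> fin_cases j <;>
      simp [Matrix.SpecialLinearGroup.coe_mul, Matrix.mul_apply, Fin.sum_univ_three, Fin.sum_univ_two, h0, h1]

/-- Tuples with a common linear part. -/
def fibre (F : Type) [Field F] (k : ℕ) : Subgroup (Fin (k + 1) → affSL2 F) where
  carrier := {f | ∀ i, lin F (f i) = lin F (f 0)}
  one_mem' := fun i => rfl
  mul_mem' := fun {f g} hf hg i => by simp [Pi.mul_apply, map_mul, hf i, hg i]
  inv_mem' := fun {f} hf i => by
    have h1 : lin F (f i) * lin F ((f i)⁻¹) = 1 := by rw [← map_mul, mul_inv_cancel, map_one]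
    have h2 : lin F ((f 0)⁻¹) * lin F (f 0) = 1 := by rw [← map_mul, inv_mul_cancel, map_one]
    rw [hf i] at h1
    show lin F ((f i)⁻¹) = lin F ((f 0)⁻¹)
    rw [← one_mul (lin F ((f i)⁻¹)), ← h2, mul_assoc, h1, mul_one]


/-- The alternating group of degree 6 is not determined by its set of element orders, not even up to finitely many groups: for every bound N there is a finite group of order greater than N with exactly the same set of element orders as the alternating group of degree 6. -/
theorem result (N : ℕ) : ∃ (H : Type) (_ : Group H) (_ : Fintype H), N < Fintype.card H ∧ Set.range (orderOf : H → ℕ) = Set.range (orderOf : alternatingGroup (Fin 6) → ℕ) := by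
  classical
  let F : Type := GaloisField 2 2
  have := Fintype.ofFinite F
  have hF : Fintype.card F = 4 := by
    rw [← Nat.card_eq_fintype_card]; exact GaloisField.card 2 2 (by norm_num)
  refine ⟨fibre F N, inferInstance, Fintype.ofFinite _, ?_, ?_⟩
  · let emb : (Fin (N + 1) → F) → fibre F N := fun v =>
      ⟨fun i => affMat 1 0 0 1 (v i) 0 (by simp), fun i => by
        ext r c; fin_cases r <;> fin_cases c <;> simp [lin]⟩
    have hinj : Function.Injective emb := fun v w e => funext fun i => by
      have := congrArg (fun f : fibre F N =>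
        (((f : Fin (N + 1) → affSL2 F) i : Matrix.SpecialLinearGroup (Fin 3) F) : Matrix (Fin 3) (Fin 3) F) 0 2) e
      simpa [emb] using this
    have h := Nat.card_le_card_of_injective emb hinj
    rw [Nat.card_eq_fintype_card, Fintype.card_fun, hF, Fintype.card_fin] at h
    simp only [Nat.card_eq_fintype_card] at h
    calc N < 4 ^ N := Nat.lt_pow_self (by norm_num)
      _ ≤ 4 ^ (N + 1) := Nat.pow_le_pow_right (by norm_num) (Nat.le_succ N)
      _ ≤ _ := h.trans (le_of_eq (by simp only [← Nat.card_eq_fintype_card]))
  · rw [range_orderOf_alternating_six]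
    ext n
    constructor
    · rintro ⟨⟨f, hf⟩, rfl⟩
      have htr : ∀ i, trSL2 (f i : Matrix.SpecialLinearGroup (Fin 3) F) =
          trSL2 (f 0 : Matrix.SpecialLinearGroup (Fin 3) F) := fun i => by
        have h00 := congrFun (congrFun (hf i) 0) 0
        have h11 := congrFun (congrFun (hf i) 1) 1
        simp only [lin, MonoidHom.coe_mk, OneHom.coe_mk, Matrix.submatrix_apply] at h00 h11
        show _ + _ = _ + _
        exact congrArg₂ (· + ·) h00 h11
      refine orderOf_mem_of_pow ?_
      by_cases e0 : trSL2 (f 0 : Matrix.SpecialLinearGroup (Fin 3) F) = 0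
      · exact Or.inl (Subtype.ext (funext fun i => Subtype.ext
          ((affSL2_pow hF (f i).2).1 ((htr i).trans e0))))
      by_cases e1 : trSL2 (f 0 : Matrix.SpecialLinearGroup (Fin 3) F) = 1
      · exact Or.inr (Or.inl (Subtype.ext (funext fun i => Subtype.ext
          ((affSL2_pow hF (f i).2).2.1 ((htr i).trans e1)))))
      · exact Or.inr (Or.inr (Subtype.ext (funext fun i => Subtype.ext
          ((affSL2_pow hF (f i).2).2.2 (by rw [htr i]; exact e0) (by rw [htr i]; exact e1)))))
    · intro hn
      obtain ⟨g, hg⟩ := affSL2_realises hF n hn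
      let ι : affSL2 F →* fibre F N :=
        (Pi.constMonoidHom (Fin (N + 1)) (affSL2 F)).codRestrict (fibre F N) (fun g i => rfl)
      refine ⟨ι g, ?_⟩
      rw [orderOf_injective ι (fun x y e => congrFun (congrArg Subtype.val e) 0), hg]

end Cfsg.Agent.S3491
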