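import Cfsg.Statements.S3633
import Cfsg.Agent.Recog71.ThreePrimes

set_option autoImplicit false
open Cfsg

namespace Cfsg.Agent.S3633

/-- Let G be a finite group and ρ a set of at least three prime divisors of the order of G that are pairwise non-adjacent in the prime graph (no element of order rs for distinct r, s ∈ ρ). Then at most one prime of ρ divides the order of any given solvable normal subgroup of G; in particular G is not solvable. -/
theorem result {G : Type*} [Group G] [Finite G] (ρ : Finset ℕ) (hρ : 3 ≤ ρ.card) (hc : ((∀ r ∈ ρ, r.Prime ∧ r ∣ Nat.card G) ∧ (∀ r ∈ ρ, ∀ s ∈ ρ, r ≠ s → ¬ ∃ x : G, orderOf x = r * s)))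
    (K : Subgroup G) [K.Normal] (hK : Group.IsSolvable ↥K) :
    (∀ r ∈ ρ, ∀ s ∈ ρ, r ∣ Nat.card ↥K → s ∣ Nat.card ↥K → r = s) ∧ ¬ Group.IsSolvable G := by
  classical
  have main : ∀ (K : Subgroup G), K.Normal → Group.IsSolvable ↥K →
      ∀ r ∈ ρ, ∀ s ∈ ρ, r ∣ Nat.card ↥K → s ∣ Nat.card ↥K → r = s := by
    intro K hn hK r hr s hs hrK hsK
    by_contra hne
    obtain ⟨t, ht⟩ : ∃ t, t ∈ (ρ.erase r).erase s := by
      apply Finset.card_pos.mp
      rw [Finset.card_erase_of_mem (Finset.mem_erase.mpr ⟨Ne.symm hne, hs⟩),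
        Finset.card_erase_of_mem hr]
      omega
    simp only [Finset.mem_erase] at ht
    obtain ⟨hts, htr, htρ⟩ := ht
    haveI := hn
    exact Recog71.at_most_one_in_solvable K hK (hc.1 r hr).1 (hc.1 s hs).1 (hc.1 t htρ).1
      hne (Ne.symm htr) (Ne.symm hts) (hc.2 r hr s hs hne) (hc.2 r hr t htρ (Ne.symm htr))
      (hc.2 s hs t htρ (Ne.symm hts)) hrK hsK (hc.1 t htρ).2
  refine ⟨main K inferInstance hK, fun hG => ?_⟩
  obtain ⟨r, hr, s, hs, hne⟩ := Finset.one_lt_card.mp (show 1 < ρ.card by omega)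
  haveI := hG
  exact hne (main ⊤ inferInstance inferInstance r hr s hs
    (by simpa using (hc.1 r hr).2) (by simpa using (hc.1 s hs).2))

end Cfsg.Agent.S3633
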