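import Cfsg.Statements.S3495
import Cfsg.Agent.RecogB.ExtremeStab
import Cfsg.Agent.Lib.Perm.Basic

set_option autoImplicit false
open Cfsg

namespace Cfsg.Agent.S3495

/-- Let a finite group G act faithfully and primitively on a finite set Ω with non-trivial point stabilizers, each acting primitively on every one of its orbits (an extremely primitive group), and suppose G has an elementary abelian normal p-subgroup N acting regularly on Ω (affine type). Then every non-trivial subgroup M of a point stabilizer G_α that is normal in G_α has the same orbits on Ω as G_α, and normalizes no subgroup of N other than 1 and N. -/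
theorem result {G : Type*} [Group G] [Finite G] {Ω : Type*} [Fintype Ω] [MulAction G Ω] [FaithfulSMul G Ω] (hprim : MulAction.IsPreprimitive G Ω) (hH : ∀ α : Ω, MulAction.stabilizer G α ≠ ⊥) (hep : ∀ (α : Ω) (ω : Ω), MulAction.IsPreprimitive (MulAction.stabilizer G α) (MulAction.orbit (MulAction.stabilizer G α) ω))
    (N : Subgroup G) [N.Normal] (hNc : IsMulCommutative N) (p : ℕ) (hp : p.Prime) (hNp : ∀ n ∈ N, n ^ p = 1)
    (hNtr : MulAction.IsPretransitive N Ω) (hNreg : ∀ ω : Ω, MulAction.stabilizer N ω = ⊥) (α : Ω) (M : Subgroup G) (hM : M ≠ ⊥) (hMle : M ≤ MulAction.stabilizer G α)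
    (hMn : MulAction.stabilizer G α ≤ Subgroup.normalizer (M : Set G)) :
    (∀ ω : Ω, MulAction.orbit M ω = MulAction.orbit (MulAction.stabilizer G α) ω) ∧
    (∀ L : Subgroup G, L ≤ N → M ≤ Subgroup.normalizer (L : Set G) → L = ⊥ ∨ L = N) := by
  have := hprim
  have hE : Cfsg.Agent.RecogB.Extreme G Ω := ⟨hprim, hH, hep⟩
  have hMn' : ∀ h ∈ MulAction.stabilizer G α, ∀ m ∈ M, h * m * h⁻¹ ∈ M := fun h hh m hm =>
    (Subgroup.mem_normalizer_iff.mp (hMn hh) m).mp hm
  have hconj : ∀ h ∈ MulAction.stabilizer G α, ∀ n : G, (h * n * h⁻¹) • α = h • n • α :=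
    fun h hh n => Cfsg.Agent.Perm.conj_smul_base hh n
  have horb : ∀ ω : Ω, MulAction.orbit M ω = MulAction.orbit (MulAction.stabilizer G α) ω := by
    intro ω
    ext x
    constructor
    · rintro ⟨m, rfl⟩; exact ⟨⟨m, hMle m.2⟩, rfl⟩
    · intro hx
      by_cases hω : ω = α
      · obtain ⟨⟨h, hh⟩, rfl⟩ := hx
        subst hω
        refine ⟨1, ?_⟩
        show (1 : G) • ω = h • ω
        rw [one_smul, MulAction.mem_stabilizer_iff.mp hh]
      · obtain ⟨k, hk, e⟩ := hE.normal_transitive M hMle hM hMn' hω (MulAction.mem_orbit_self ω) hx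
        exact ⟨⟨k, hk⟩, e⟩
  refine ⟨horb, fun L hL hLM => ?_⟩
  by_cases hL1 : L = ⊥
  · exact Or.inl hL1
  right
  have hLH : ∀ h ∈ MulAction.stabilizer G α, ∀ l ∈ L, h * l * h⁻¹ ∈ L := by
    intro h hh l hl
    have : h • l • α ∈ MulAction.orbit M (l • α) := by
      rw [horb]; exact ⟨⟨h, hh⟩, rfl⟩
    obtain ⟨⟨m, hm⟩, e⟩ := this
    have hmem : m * l * m⁻¹ ∈ L := (Subgroup.mem_normalizer_iff.mp (hLM hm) l).mp hl
    have e' : (m * l * m⁻¹) • α = (h * l * h⁻¹) • α := by
      rw [hconj m (hMle hm), hconj h hh]; exact e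
    rwa [← Cfsg.Agent.Perm.regular_unique (hNreg α) (hL hmem) ((inferInstance : N.Normal).conj_mem l (hL hl) h) e']
  have hLn : L.Normal := by
    refine ⟨fun l hl g => ?_⟩
    obtain ⟨n, hn, h, hh, rfl⟩ := Cfsg.Agent.Perm.exists_mul_stabilizer (N := N) α g
    have h2 : n * (h * l * h⁻¹) * n⁻¹ = h * l * h⁻¹ := by
      have h4 : n * (h * l * h⁻¹) = h * l * h⁻¹ * n :=
        congrArg Subtype.val (hNc.is_comm.comm (⟨n, hn⟩ : N) ⟨_, hL (hLH h hh l hl)⟩)
      rw [h4, mul_inv_cancel_right]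
    have h3 : (n * h) * l * (n * h)⁻¹ = n * (h * l * h⁻¹) * n⁻¹ := by group
    rw [h3, h2]
    exact hLH h hh l hl
  have := Cfsg.Agent.Perm.isPretransitive_of_normal_ne_bot (X := Ω) L hL1
  refine le_antisymm hL (fun n hn => ?_)
  obtain ⟨l, hl, e⟩ := Cfsg.Agent.Perm.subgroup_exists_smul_eq (N := L) α (n • α)
  rwa [← Cfsg.Agent.Perm.regular_unique (hNreg α) (hL hl) hn e]

end Cfsg.Agent.S3495
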