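import Cfsg.Statements.S3496
import Cfsg.Agent.S3495
import Cfsg.Agent.RecogB.IrreducibleAbelian
import Cfsg.Agent.RecogB.ExtremeStab

set_option autoImplicit false
open Cfsg

namespace Cfsg.Agent.S3496

/-- The soluble extremely primitive groups. Let a finite solvable group G act faithfully and primitively on a finite set Ω with p ^ d points (p prime), with non-trivial point stabilizers each acting primitively on every one of its orbits. Then there is a prime q such that every orbit of a point stabilizer G_α other than {α} has exactly q points, q divides p ^ d − 1 but no p ^ i − 1 with 0 < i < d, and G_α has a normal subgroup T of order q with G_α generated by T and one further element and the order of G_α dividing q·d (so G_α is cyclic of order q, or an extension of T by a cyclic group of order dividing d). -/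
theorem result {G : Type*} [Group G] [Finite G] {Ω : Type*} [Fintype Ω] [MulAction G Ω] [FaithfulSMul G Ω] [Group.IsSolvable G] (p d : ℕ) (hp : p.Prime) (hcard : Fintype.card Ω = p ^ d)
    (hprim : MulAction.IsPreprimitive G Ω) (hH : ∀ α : Ω, MulAction.stabilizer G α ≠ ⊥) (hep : ∀ (α : Ω) (ω : Ω), MulAction.IsPreprimitive (MulAction.stabilizer G α) (MulAction.orbit (MulAction.stabilizer G α) ω)) (α : Ω) :
    ∃ q : ℕ, q.Prime ∧ (∀ ω : Ω, ω ≠ α → Nat.card (MulAction.orbit (MulAction.stabilizer G α) ω) = q) ∧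
      q ∣ p ^ d - 1 ∧ (∀ i : ℕ, 0 < i → i < d → ¬ q ∣ p ^ i - 1) ∧
      ∃ T : Subgroup G, T ≤ MulAction.stabilizer G α ∧ MulAction.stabilizer G α ≤ Subgroup.normalizer (T : Set G) ∧ Nat.card T = q ∧
        (∃ h : G, MulAction.stabilizer G α = T ⊔ Subgroup.zpowers h) ∧ Nat.card (MulAction.stabilizer G α) ∣ q * d := by
  classical
  have := hprim
  have hE : Cfsg.Agent.RecogB.Extreme G Ω := ⟨hprim, hH, hep⟩
  obtain ⟨b, hb⟩ := hE.exists_moved α
  have : Nontrivial Ω := ⟨⟨b, α, hb⟩⟩
  have hG : (⊤ : Subgroup G) ≠ ⊥ := fun e => hH α (le_bot_iff.mp (le_top.trans e.le))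
  obtain ⟨N, hN, -⟩ := Cfsg.Agent.Fitting.exists_isMinNormal_le (N := (⊤ : Subgroup G)) inferInstance hG
  have hNn := hN.1
  have hNc := hN.isMulCommutative
  have hNt := Cfsg.Agent.Perm.isPretransitive_of_normal_ne_bot (X := Ω) N hN.2.1
  have hNreg : ∀ ω : Ω, MulAction.stabilizer N ω = ⊥ := fun ω =>
    Cfsg.Agent.Perm.stabilizer_eq_bot_of_isMulCommutative hNc ω
  have hNcard : Nat.card N = p ^ d := by
    have h1 := Cfsg.Agent.Perm.card_orbit_mul_card_stabilizer (G := N) α
    rw [hNreg, Subgroup.card_bot, mul_one, MulAction.orbit_eq_univ, Nat.card_coe_set_eq, Set.ncard_univ,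
      Nat.card_eq_fintype_card, hcard] at h1
    exact h1.symm
  have hd : 0 < d := by
    rcases Nat.eq_zero_or_pos d with h | h
    · subst h
      have := Fintype.one_lt_card (α := Ω)
      rw [hcard, pow_zero] at this
      omega
    · exact h
  obtain ⟨r, hr, hrel⟩ := hN.exists_isElementaryAbelian
  have hrp : r = p := by
    have : Fact r.Prime := ⟨hr⟩
    obtain ⟨e, he⟩ := IsPGroup.iff_card.mp (Cfsg.Agent.Fitting.isPGroup_of_isElementaryAbelian hrel)
    rw [hNcard] at he
    have h1 : p ∣ r ^ e := he ▸ dvd_pow_self p hd.ne'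
    exact ((Nat.prime_dvd_prime_iff_eq hp hr).mp (hp.dvd_of_dvd_pow h1)).symm
  subst hrp
  have : Fact r.Prime := ⟨hr⟩
  -- the Fitting subgroup of the stabiliser
  let H : Subgroup G := MulAction.stabilizer G α
  let F : Subgroup H := Cfsg.fittingSubgroup H
  have hF : F ≠ ⊥ := by
    intro e
    apply hH α
    have h1 : Subgroup.centralizer (F : Set H) ≤ F := Cfsg.Agent.Fitting.centralizer_fitting_le
    rw [e] at h1
    refine (Subgroup.eq_bot_iff_forall _).mpr (fun h hh => ?_)
    have h2 : (⟨h, hh⟩ : H) ∈ (⊥ : Subgroup H) := h1 (Subgroup.mem_centralizer_iff.mpr (fun m hm => by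
      rw [SetLike.mem_coe, Subgroup.mem_bot] at hm
      rw [hm, one_mul, mul_one]))
    exact congrArg Subtype.val (Subgroup.mem_bot.mp h2)
  obtain ⟨q, hq, hFel, hFdvd, hFcent⟩ := hE.fitting_spec (α := α) hF
  have hFn : F.Normal := Cfsg.Agent.Fitting.fitting_normal
  have hFab : IsMulCommutative F := hFel.1
  let cg : AddCommGroup (Additive N) :=
    { (inferInstance : AddGroup (Additive N)) with add_comm := fun a b => hNc.is_comm.comm a.toMul b.toMul }
  let ρ : H →* AddMonoid.End (Additive N) :=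
    { toFun := fun h => MonoidHom.toAdditive (MulAut.conjNormal (h : G) : MulAut N).toMonoidHom
      map_one' := by
        apply AddMonoidHom.ext; intro v
        show Additive.ofMul ((MulAut.conjNormal ((1 : H) : G) : MulAut N) v.toMul) = v
        rw [OneMemClass.coe_one, map_one]; rfl
      map_mul' := fun h k => by
        apply AddMonoidHom.ext; intro v
        show Additive.ofMul ((MulAut.conjNormal ((h * k : H) : G) : MulAut N) v.toMul) = _
        rw [Subgroup.coe_mul, map_mul]; rfl }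
  have hρ : ∀ (h : H) (n : N),
      (((ρ h (Additive.ofMul n)).toMul : N) : G) = (h : G) * (n : G) * (h : G)⁻¹ :=
    fun h n => rfl
  obtain ⟨n₀, hn₀, hn₀b⟩ := Cfsg.Agent.Perm.subgroup_exists_smul_eq (N := N) α b
  have hinj : ∀ m ∈ F, ρ m = 1 → m = 1 := by
    intro m hm e
    refine hE.commute_semiregular F hF hb (fun k hk => ?_) ?_
    · exact congrArg Subtype.val (hFab.is_comm.comm ⟨m, hm⟩ ⟨k, hk⟩)
    · have h2 : (m : G) * n₀ * (m : G)⁻¹ = n₀ :=
        (hρ m ⟨n₀, hn₀⟩).symm.trans
          (congrArg (fun g : AddMonoid.End (Additive N) =>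
            (((g (Additive.ofMul ⟨n₀, hn₀⟩)).toMul : N) : G)) e)
      have h3 : (m : G) • n₀ • α = n₀ • α := by
        rw [← Cfsg.Agent.Perm.conj_smul_base m.2 n₀, h2]
      rwa [hn₀b] at h3
  let FG : Subgroup G := F.map H.subtype
  have hFGne : FG ≠ ⊥ := fun e => hF
    ((Subgroup.map_eq_bot_iff_of_injective _ H.subtype_injective).mp e)
  have hFGn : H ≤ Subgroup.normalizer (FG : Set G) := by
    intro h hh
    refine Subgroup.mem_normalizer_fintype (S := (FG : Set G)) ?_
    rintro _ ⟨f, hf, rfl⟩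
    exact ⟨⟨h, hh⟩ * f * ⟨h, hh⟩⁻¹, hFn.conj_mem f hf _, rfl⟩
  have hirr : ∀ L : AddSubgroup (Additive N), (∀ m ∈ F, ∀ v ∈ L, ρ m v ∈ L) → L = ⊥ ∨ L = ⊤ := by
    intro L hL
    let L' : Subgroup G := L.toSubgroup'.map N.subtype
    have hL' : ∀ x : N, (x : G) ∈ L' ↔ Additive.ofMul x ∈ L := fun x =>
      ⟨fun ⟨y, hy, e⟩ => (Subtype.ext e : y = x) ▸ hy, fun hx => ⟨x, hx, rfl⟩⟩
    have hres := (Cfsg.Agent.S3495.result hprim hH hep N hNc r hr (fun n hn => hrel.2 n hn) hNt hNreg α FG
      hFGne (Subgroup.map_subtype_le F) hFGn).2 L' (Subgroup.map_subtype_le _) (by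
        rintro _ ⟨f, hf, rfl⟩
        refine Subgroup.mem_normalizer_fintype (S := (L' : Set G)) ?_
        rintro _ ⟨x, hx, rfl⟩
        exact ⟨(ρ f (Additive.ofMul x)).toMul, hL f hf _ hx, rfl⟩)
    rcases hres with h | h
    · left
      rw [AddSubgroup.eq_bot_iff_forall]
      intro v hv
      have h1 : ((v.toMul : N) : G) ∈ L' := (hL' _).mpr hv
      rw [h, Subgroup.mem_bot] at h1
      exact Additive.toMul.injective (Subtype.ext h1)
    · right
      rw [eq_top_iff]
      intro v _
      exact (hL' v.toMul).mp (h.symm ▸ v.toMul.2)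
  obtain ⟨hcyc, hnd, ⟨h, hh⟩, hidx⟩ := Cfsg.Agent.RecogB.irreducible_abelian_structure
    (A := Additive N) (p := r) (d := d) (fun v => Additive.toMul.injective (Subtype.ext (by
      show ((v.toMul ^ r : N) : G) = 1
      rw [Subgroup.coe_pow, hrel.2 _ v.toMul.2])))
    ((Nat.card_congr Additive.toMul).trans hNcard) hd ρ F hinj hirr
  rw [hFcent] at hh hidx
  have hFq : Nat.card F = q := by
    have : Fact q.Prime := ⟨hq⟩
    obtain ⟨g, hg⟩ := hcyc.exists_ofOrder_eq_natCard
    rcases (Nat.dvd_prime hq).mp (hg ▸ orderOf_dvd_of_pow_eq_one (Subtype.ext (hFel.2 _ g.2) : g ^ q = 1))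
      with h1 | h1
    · exact absurd (Subgroup.eq_bot_of_card_eq F h1) hF
    · exact h1
  refine ⟨q, hq, fun ω hω => ?_, ?_, fun i hi hid => hFq ▸ hnd i hi hid, FG, Subgroup.map_subtype_le F, hFGn,
    ?_, ⟨h, ?_⟩, ?_⟩
  · exact (hE.suborbit_card_eq F hF hFab hω).trans hFq
  · rw [← hFq, ← hcard, ← Nat.card_eq_fintype_card]
    exact hFdvd
  · rw [Subgroup.card_map_of_injective H.subtype_injective, hFq]
  · have h1 := congrArg (Subgroup.map H.subtype) hh
    rw [Subgroup.map_sup, MonoidHom.map_zpowers, ← MonoidHom.range_eq_map, Subgroup.range_subtype] at h1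
    exact h1.symm
  · show Nat.card H ∣ q * d
    rw [← Subgroup.card_mul_index F, hFq]
    exact Nat.mul_dvd_mul_left q hidx

end Cfsg.Agent.S3496
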