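import Cfsg.Statements.S3497
import Cfsg.Agent.RecogB.ExtremeStab

set_option autoImplicit false
open Cfsg

namespace Cfsg.Agent.S3497

/-- Restrictions on the point stabilizer of an extremely primitive group. Let a finite group G act faithfully and primitively on a finite set Ω with point stabilizers H = G_α whose order is neither 1 nor a prime, each acting primitively on every one of its orbits. Then H has trivial center, the Fitting subgroup F(H) is an elementary abelian p-group for some prime p, and if F(H) ≠ 1 has order p ^ e then p ^ e divides the number of points minus one and H / F(H) embeds in GL_e(p) (there is a homomorphism from H to GL_e(p) with kernel exactly F(H)). -/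
theorem result {G : Type*} [Group G] [Finite G] {Ω : Type*} [Fintype Ω] [MulAction G Ω] [FaithfulSMul G Ω] (hprim : MulAction.IsPreprimitive G Ω) (hep : ∀ (α : Ω) (ω : Ω), MulAction.IsPreprimitive (MulAction.stabilizer G α) (MulAction.orbit (MulAction.stabilizer G α) ω)) (α : Ω)
    (hH1 : MulAction.stabilizer G α ≠ ⊥) (hHp : ¬ (Nat.card (MulAction.stabilizer G α)).Prime) :
    Subgroup.center (MulAction.stabilizer G α) = ⊥ ∧
    IsMulCommutative (Cfsg.fittingSubgroup (MulAction.stabilizer G α)) ∧
    ∃ p e : ℕ, p.Prime ∧ Nat.card (Cfsg.fittingSubgroup (MulAction.stabilizer G α)) = p ^ e ∧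
      (∀ x ∈ Cfsg.fittingSubgroup (MulAction.stabilizer G α), x ^ p = 1) ∧
      (Cfsg.fittingSubgroup (MulAction.stabilizer G α) ≠ ⊥ →
        p ^ e ∣ Fintype.card Ω - 1 ∧
        ∃ φ : MulAction.stabilizer G α →* GL (Fin e) (ZMod p), φ.ker = Cfsg.fittingSubgroup (MulAction.stabilizer G α)) := by
  have := hprim
  have hE : Cfsg.Agent.RecogB.Extreme G Ω :=
    ⟨hprim, fun b => Cfsg.Agent.RecogB.stabilizer_ne_bot_of_one hH1 b, hep⟩
  refine ⟨hE.center_eq_bot hHp, ?_⟩
  by_cases hF : Cfsg.fittingSubgroup (MulAction.stabilizer G α) = ⊥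
  · rw [hF]
    refine ⟨inferInstance, 2, 0, Nat.prime_two, by simp, ?_, fun h => absurd rfl h⟩
    intro x hx
    rw [Subgroup.mem_bot] at hx
    rw [hx, one_pow]
  · obtain ⟨p, hp, hel, hdvd, hC⟩ := hE.fitting_spec hF
    have : Fact p.Prime := ⟨hp⟩
    have : (Cfsg.fittingSubgroup (MulAction.stabilizer G α)).Normal := Cfsg.Agent.Fitting.fitting_normal
    obtain ⟨e, he⟩ := IsPGroup.iff_card.mp (Cfsg.Agent.Fitting.isPGroup_of_isElementaryAbelian hel)
    refine ⟨hel.1, p, e, hp, he, hel.2, fun _ => ⟨?_, ?_⟩⟩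
    · rw [← he, ← Nat.card_eq_fintype_card]; exact hdvd
    · obtain ⟨φ, hφ⟩ := Cfsg.Agent.RecogB.exists_linear_rep hp _ hel he
      exact ⟨φ, hφ.trans hC⟩

end Cfsg.Agent.S3497
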