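import Cfsg.Statements.S3498
import Mathlib

set_option autoImplicit false
open Cfsg
open scoped Pointwise

namespace Cfsg.Agent.S3498

/-- A maximal subgroup of a finite almost simple group does not have prime order. Here G is almost simple in the sense that it has a non-abelian simple normal subgroup T with trivial centralizer. -/
theorem result {G : Type*} [Group G] [Finite G] (T : Subgroup G) [T.Normal] (hT : IsSimpleGroup T) (hTc : ¬ IsMulCommutative T)
    (hC : Subgroup.centralizer (T : Set G) = ⊥) (H : Subgroup G) (hmax : IsCoatom H) : ¬ (Nat.card H).Prime := by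
  classical
  intro hp
  have : Fact (Nat.card H).Prime := ⟨hp⟩
  have hcyc : IsCyclic H := isCyclic_of_prime_card (p := Nat.card H) rfl
  have hHne : H ≠ ⊥ := by
    intro h
    rw [h] at hp
    simp [Nat.not_prime_one] at hp
  have hsub : ∀ K : Subgroup G, H ≤ K → K = H ∨ K = ⊤ := by
    intro K hK
    rcases eq_or_lt_of_le hK with h | h
    · exact Or.inl h.symm
    · exact Or.inr (hmax.2 K h)
  have hTnle : ¬ T ≤ H := by
    intro h
    refine hTc ⟨⟨fun a b => Subtype.ext ?_⟩⟩
    have := hcyc
    exact (congrArg Subtype.val (mul_comm' (⟨a, h a.2⟩ : H) ⟨b, h b.2⟩) :)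
  have hN : Subgroup.normalizer (H : Set G) = H := by
    refine (hsub _ Subgroup.le_normalizer).resolve_right (fun htop => ?_)
    have hn : H.Normal := Subgroup.normalizer_eq_top_iff.mp htop
    rcases (Subgroup.Normal.subgroupOf hn T).eq_bot_or_eq_top with h | h
    · apply hHne
      rw [eq_bot_iff, ← hC]
      intro x hx
      rw [Subgroup.mem_centralizer_iff]
      intro t ht
      exact (Subgroup.commute_of_normal_of_disjoint H T hn inferInstance
        (Subgroup.subgroupOf_eq_bot.mp h) x t hx ht).symm
    · exact hTnle (Subgroup.subgroupOf_eq_top.mp h)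
  let p := Nat.card H
  have hpdvd : ¬ p ^ 2 ∣ Nat.card G := by
    intro h
    obtain ⟨K, hK, hHK⟩ := Sylow.exists_subgroup_card_pow_succ (p := p) (n := 1) h (H := H) (pow_one p).symm
    have hle : K ≤ Subgroup.normalizer (H : Set G) := by
      rw [← Subgroup.normal_subgroupOf_iff_le_normalizer hHK]
      refine Subgroup.normal_of_index_eq_minFac_card ?_
      have h1 : Nat.card (H.subgroupOf K) = p := Nat.card_congr (Subgroup.subgroupOfEquivOfLe hHK).toEquiv
      have h2 := (H.subgroupOf K).card_mul_index
      rw [h1, hK, pow_succ, pow_one] at h2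
      rw [Nat.eq_of_mul_eq_mul_left hp.pos h2, hK]
      exact (Nat.Prime.pow_minFac hp two_ne_zero).symm
    have := Subgroup.card_le_of_le (hle.trans hN.le)
    rw [hK] at this
    have hlt : p ^ 1 < p ^ 2 := Nat.pow_lt_pow_right hp.one_lt (by omega)
    rw [pow_one] at hlt
    change p ^ 2 ≤ p at this
    omega
  have hfact : (Nat.card G).factorization p = 1 := by
    have h1 : 1 ≤ (Nat.card G).factorization p :=
      hp.factorization_pos_of_dvd Nat.card_pos.ne' H.card_subgroup_dvd_card
    have h2 : ¬ 2 ≤ (Nat.card G).factorization p := fun h =>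
      hpdvd ((hp.pow_dvd_iff_le_factorization Nat.card_pos.ne').mpr h)
    omega
  let P : Sylow p G := Sylow.ofCard H (by rw [hfact, pow_one])
  have hPn : Subgroup.normalizer ((P : Subgroup G) : Set G) ≤ Subgroup.centralizer ((P : Subgroup G) : Set G) := by
    show Subgroup.normalizer (H : Set G) ≤ Subgroup.centralizer (H : Set G)
    rw [hN]
    intro a ha
    rw [Subgroup.mem_centralizer_iff]
    intro b hb
    have := hcyc
    exact congrArg Subtype.val (mul_comm' (⟨b, hb⟩ : H) ⟨a, ha⟩)
  have hcompl := MonoidHom.ker_transferSylow_isComplement' P hPn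
  set K := (MonoidHom.transferSylow P hPn).ker
  have hTK : T ≤ K := by
    intro t ht
    have hcyc' : IsCyclic (P : Subgroup G) := hcyc
    rcases (MonoidHom.normal_ker ((MonoidHom.transferSylow P hPn).comp T.subtype)).eq_bot_or_eq_top with h | h
    · exfalso
      refine hTc ⟨⟨fun a b => ?_⟩⟩
      apply (MonoidHom.ker_eq_bot_iff _).mp h
      rw [map_mul, map_mul]; exact mul_comm' _ _
    · have h1 : (⟨t, ht⟩ : T) ∈ ((MonoidHom.transferSylow P hPn).comp T.subtype).ker := h.symm ▸ Subgroup.mem_top _
      exact h1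
  have hcardK : Nat.card K * p = Nat.card G := hcompl.card_mul
  have hpT : ¬ p ∣ Nat.card T := by
    intro h
    have h2 : p * p ∣ Nat.card G := by
      rw [← hcardK]; exact Nat.mul_dvd_mul (h.trans (Subgroup.card_dvd_of_le hTK)) dvd_rfl
    exact hpdvd (by rwa [pow_two])
  have hTtop : H ⊔ T = ⊤ := by
    refine (hsub _ le_sup_left).resolve_left (fun h => hTnle ?_)
    rw [← h]; exact le_sup_right
  have hTne : Nat.card T ≠ 1 := by
    intro h
    have := (Nat.card_eq_one_iff_unique.mp h).1
    exact hTc ⟨⟨fun a b => Subsingleton.elim _ _⟩⟩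
  obtain ⟨q, hq, hqT⟩ := Nat.exists_prime_and_dvd hTne
  have : Fact q.Prime := ⟨hq⟩
  obtain ⟨Q⟩ := (inferInstance : Nonempty (Sylow q T))
  have hfr := Sylow.normalizer_sup_eq_top Q
  set Q' : Subgroup G := (Q : Subgroup T).map T.subtype
  have hQT : Q' ≤ T := Subgroup.map_subtype_le _
  have hpN : p ∣ Nat.card (Subgroup.normalizer (Q' : Set G)) := by
    have h1 : Nat.card G ∣ Nat.card (Subgroup.normalizer (Q' : Set G)) * Nat.card T := by
      have h2 := Subgroup.relIndex_sup_right (Subgroup.normalizer (Q' : Set G)) T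
      rw [hfr, Subgroup.relIndex_top_right] at h2
      rw [← T.card_mul_index, mul_comm, h2]
      exact Nat.mul_dvd_mul ((Subgroup.index_dvd_card _)) dvd_rfl
    have h3 : p ∣ Nat.card G := H.card_subgroup_dvd_card
    exact (hp.dvd_mul.mp (h3.trans h1)).resolve_right hpT
  obtain ⟨x, hx⟩ := exists_prime_orderOf_dvd_card' p hpN
  let R : Sylow p G := Sylow.ofCard (Subgroup.zpowers (x : G))
    (by rw [hfact, pow_one, Nat.card_zpowers, Subgroup.orderOf_coe, hx])
  obtain ⟨g, hg⟩ := MulAction.exists_smul_eq G R P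
  let Q'' : Subgroup G := Q'.map (MulAut.conj g).toMonoidHom
  have hQ''T : Q'' ≤ T := by
    rintro _ ⟨y, hy, rfl⟩
    simpa using Subgroup.Normal.conj_mem (inferInstance : T.Normal) y (hQT hy) g
  have hHQ : H ≤ Subgroup.normalizer (Q'' : Set G) := by
    have hH : H = (Subgroup.zpowers (x : G)).map (MulAut.conj g).toMonoidHom :=
      (congrArg Sylow.toSubgroup hg).symm
    rw [hH, MonoidHom.map_zpowers, Subgroup.zpowers_le]
    rw [← Subgroup.map_equiv_normalizer_eq]
    exact ⟨x, x.2, rfl⟩
  have hcardQ : Nat.card Q'' = q ^ (Nat.card T).factorization q := by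
    rw [Subgroup.card_map_of_injective (MulAut.conj g).injective,
      Subgroup.card_map_of_injective T.subtype_injective]
    exact Q.card_eq_multiplicity
  rcases hsub (H ⊔ Q'') le_sup_left with h | h
  · have h1 : Q'' ≤ H := h ▸ le_sup_right
    have h2 : Nat.card Q'' ∣ p := Subgroup.card_dvd_of_le h1
    have h3 : Nat.card Q'' ∣ Nat.card T := Subgroup.card_dvd_of_le hQ''T
    have h4 : q ∣ Nat.card Q'' := by
      rw [hcardQ]; exact dvd_pow_self q (hq.factorization_pos_of_dvd Nat.card_pos.ne' hqT).ne'
    have h5 : q = p := (Nat.prime_dvd_prime_iff_eq hq hp).mp (h4.trans h2)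
    exact hpT (h5 ▸ hqT)
  · have h1 : (↑(H ⊔ Q'') : Set G) = (H : Set G) * (Q'' : Set G) :=
      Subgroup.coe_mul_of_left_le_normalizer_right H Q'' hHQ
    rw [h, Subgroup.coe_top] at h1
    have h2 : T ≤ Q'' := by
      intro t ht
      obtain ⟨a, ha, b, hb, hab⟩ := Set.mem_mul.mp (show t ∈ (H : Set G) * (Q'' : Set G) by rw [← h1]; trivial)
      have haT : a ∈ T := by
        have : a = t * b⁻¹ := eq_mul_inv_of_mul_eq hab
        rw [this]; exact mul_mem ht (inv_mem (hQ''T hb))
      have hcop : Disjoint H T := by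
        rw [disjoint_iff]
        exact Subgroup.inf_eq_bot_of_coprime (hp.coprime_iff_not_dvd.mpr hpT)
      have := Subgroup.disjoint_def.mp hcop ha haT
      rw [this, one_mul] at hab
      rwa [← hab]
    have hcardT : Nat.card T = q ^ (Nat.card T).factorization q := by
      rw [← hcardQ, le_antisymm h2 hQ''T]
    have hpg : IsPGroup q T := IsPGroup.of_card hcardT
    have hnt : Nontrivial T := inferInstance
    have := hpg.center_nontrivial
    rcases (inferInstance : (Subgroup.center T).Normal).eq_bot_or_eq_top with h3 | h3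
    · exact (Subgroup.nontrivial_iff_ne_bot _).mp this h3
    · exact hTc ⟨⟨fun a b => (Subgroup.mem_center_iff.mp (h3 ▸ Subgroup.mem_top a) b).symm⟩⟩

end Cfsg.Agent.S3498
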