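import Cfsg.Statements.S3504
-- import your own Cfsg.Agent.* helpers here

set_option autoImplicit false
open Cfsg

namespace Cfsg.Agent.S3504

/-- For n ≥ 5, the fixed-point-free permutations of prime order in the symmetric group of degree n form a single conjugacy class if and only if n is a prime power. -/
theorem result (n : ℕ) (hn : 5 ≤ n) :
    Nat.card {c : ConjClasses (Equiv.Perm (Fin n)) // ∃ g : Equiv.Perm (Fin n), ConjClasses.mk g = c ∧ (orderOf g).Prime ∧ ∀ i : Fin n, g i ≠ i} = 1 ↔ IsPrimePow n := by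
  classical
  have key : ∀ g : Equiv.Perm (Fin n), (orderOf g).Prime → (∀ i, g i ≠ i) →
      orderOf g ∣ n ∧ g.cycleType = Multiset.replicate (n / orderOf g) (orderOf g) := by
    intro g hg hd
    obtain ⟨m, hm⟩ := Equiv.Perm.cycleType_prime_order hg
    have hs : g.cycleType.sum = n := by
      rw [Equiv.Perm.sum_cycleType,
        Finset.eq_univ_of_forall (fun i => Equiv.Perm.mem_support.mpr (hd i)), Finset.card_univ,
        Fintype.card_fin]
    rw [hm, Multiset.sum_replicate, smul_eq_mul] at hs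
    refine ⟨Dvd.intro_left _ hs, ?_⟩
    rw [hm, Nat.div_eq_of_eq_mul_left hg.pos hs.symm]
  have e : Nat.card {c : ConjClasses (Equiv.Perm (Fin n)) // ∃ g : Equiv.Perm (Fin n),
      ConjClasses.mk g = c ∧ (orderOf g).Prime ∧ ∀ i : Fin n, g i ≠ i} = n.primeFactors.card := by
    rw [← Nat.card_eq_finsetCard n.primeFactors]
    refine Nat.card_eq_of_bijective (fun c => ⟨orderOf (Classical.choose c.2), ?_⟩) ⟨?_, ?_⟩
    · obtain ⟨-, h2, h3⟩ := Classical.choose_spec c.2
      exact Nat.mem_primeFactors.mpr ⟨h2, (key _ h2 h3).1, by omega⟩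
    · intro c c' h
      obtain ⟨h1, h2, h3⟩ := Classical.choose_spec c.2
      obtain ⟨h1', h2', h3'⟩ := Classical.choose_spec c'.2
      apply Subtype.ext
      rw [← h1, ← h1', ConjClasses.mk_eq_mk_iff_isConj, Equiv.Perm.isConj_iff_cycleType_eq,
        (key _ h2 h3).2, (key _ h2' h3').2, show orderOf (Classical.choose c.2) = orderOf (Classical.choose c'.2)
          from congrArg Subtype.val h]
    · rintro ⟨q, hq⟩
      obtain ⟨hqp, hqn, -⟩ := Nat.mem_primeFactors.mp hq
      obtain ⟨g, hg⟩ : ∃ g : Equiv.Perm (Fin n), g.cycleType = Multiset.replicate (n / q) q := by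
        rw [Equiv.Perm.exists_with_cycleType_iff]
        refine ⟨?_, fun a ha => (Multiset.eq_of_mem_replicate ha).symm ▸ hqp.two_le⟩
        rw [Multiset.sum_replicate, smul_eq_mul, Fintype.card_fin]
        exact (Nat.div_mul_cancel hqn).le
      have hne : n / q ≠ 0 := (Nat.div_pos (Nat.le_of_dvd (by omega) hqn) hqp.pos).ne'
      have hord : orderOf g = q := by
        rw [← Equiv.Perm.lcm_cycleType, hg]
        refine Nat.dvd_antisymm (Multiset.lcm_dvd.mpr fun a ha => (Multiset.eq_of_mem_replicate ha) ▸ dvd_rfl) ?_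
        exact Multiset.dvd_lcm (Multiset.mem_replicate.mpr ⟨hne, rfl⟩)
      have hfix : ∀ i, g i ≠ i := by
        intro i
        have hs : g.support = Finset.univ := by
          apply Finset.eq_univ_of_card
          rw [← Equiv.Perm.sum_cycleType, hg, Multiset.sum_replicate, smul_eq_mul, Nat.div_mul_cancel hqn,
            Fintype.card_fin]
        exact Equiv.Perm.mem_support.mp (hs ▸ Finset.mem_univ i)
      refine ⟨⟨ConjClasses.mk g, g, rfl, hord ▸ hqp, hfix⟩, Subtype.ext ?_⟩
      have h := Classical.choose_spec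
        (⟨g, rfl, hord ▸ hqp, hfix⟩ : ∃ g' : Equiv.Perm (Fin n),
          ConjClasses.mk g' = ConjClasses.mk g ∧ (orderOf g').Prime ∧ ∀ i : Fin n, g' i ≠ i)
      obtain ⟨u, hu⟩ := ConjClasses.mk_eq_mk_iff_isConj.mp h.1
      exact (SemiconjBy.orderOf_eq _ hu).trans hord
  rw [e, isPrimePow_iff_card_primeFactors_eq_one]

end Cfsg.Agent.S3504
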