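import Cfsg.Statements.S3508
import Cfsg.Agent.Lib.Perm.Basic

set_option autoImplicit false
open Cfsg

namespace Cfsg.Agent.S3508

/-- A `p`-element acting on an elementary abelian group of order `p ^ m`, with `m < p ^ j`. -/
theorem unipotent_aux {G A : Type*} [Group G] [CommGroup A] [Finite A] {p m j : ℕ} [Fact p.Prime]
    [Module (ZMod p) (Additive A)] (hcard : Nat.card A = p ^ m) (f : G →* MulAut A) (g : G) (r : ℕ)
    (hg : g ^ p ^ r = 1) (hj : m < p ^ j) :
    f (g ^ p ^ j) = 1 ∧ ∀ (a : A) (P : ℕ → A), P 0 = 1 → (∀ i, P (i + 1) = a * f g (P i)) → P (p ^ j) = 1 := by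
  have hp : p.Prime := Fact.out
  have : Finite (Additive A) := inferInstanceAs (Finite A)
  have : Module.Finite (ZMod p) (Additive A) := Module.Finite.of_finite
  have hfin : Module.finrank (ZMod p) (Additive A) = m := by
    have h1 := Module.natCard_eq_pow_finrank (K := ZMod p) (V := Additive A)
    rw [Nat.card_zmod, show Nat.card (Additive A) = Nat.card A from Nat.card_congr Additive.toMul, hcard] at h1
    exact (Nat.pow_right_injective hp.two_le h1).symm
  let lin : G →* Module.End (ZMod p) (Additive A) :=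
    { toFun := fun x => AddMonoidHom.toZModLinearMap p (MonoidHom.toAdditive (f x).toMonoidHom)
      map_one' := by apply LinearMap.ext; intro v; simp
      map_mul' := fun x y => by apply LinearMap.ext; intro v; simp }
  have hlin : ∀ (x : G) (v : Additive A), lin x v = Additive.ofMul (f x v.toMul) := fun x v => rfl
  set L := lin g with hL
  have hpow : ∀ i : ℕ, (L - 1) ^ p ^ i = L ^ p ^ i - 1 := by
    intro i
    have h1 := congrArg (Polynomial.aeval L)
      (sub_pow_char_pow (Polynomial.X : Polynomial (ZMod p)) 1 (p := p) (n := i))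
    rw [one_pow] at h1
    simpa using h1
  have hnil : (L - 1) ^ m = 0 := by
    have h0 : IsNilpotent (L - 1) := ⟨p ^ r, by rw [hpow, hL, ← map_pow, hg, map_one, sub_self]⟩
    have h1 := LinearMap.aeval_self_charpoly (L - 1)
    rw [IsNilpotent.charpoly_eq_X_pow_finrank h0, hfin] at h1
    simpa using h1
  have hk1 : 1 ≤ p ^ j := Nat.one_le_pow _ _ hp.pos
  have hz : (L - 1) ^ (p ^ j - 1) = 0 := pow_eq_zero_of_le (by omega) hnil
  have hsum : ∑ i ∈ Finset.range (p ^ j), L ^ i = 0 := by
    rw [← hz]
    have h1 : (∑ i ∈ Finset.range (p ^ j), (Polynomial.X : Polynomial (ZMod p)) ^ i) =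
        (Polynomial.X - 1) ^ (p ^ j - 1) := by
      have hX : (Polynomial.X : Polynomial (ZMod p)) - 1 ≠ 0 := by
        rw [← Polynomial.C_1]; exact Polynomial.X_sub_C_ne_zero 1
      refine mul_left_cancel₀ hX ?_
      rw [mul_geom_sum, ← pow_succ', Nat.sub_add_cancel hk1, sub_pow_char_pow, one_pow]
    simpa using congrArg (Polynomial.aeval L) h1
  refine ⟨?_, fun a P h0 hs => ?_⟩
  · have h1 : lin (g ^ p ^ j) = 1 := by
      rw [map_pow, ← hL]
      have h2 := hpow j
      rw [pow_eq_zero_of_le hj.le hnil] at h2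
      exact sub_eq_zero.mp h2.symm
    ext v
    have h2 := hlin (g ^ p ^ j) (Additive.ofMul v)
    rw [h1] at h2
    exact (congrArg Additive.toMul h2).symm
  · have h1 : ∀ i, Additive.ofMul (P i) = (∑ l ∈ Finset.range i, L ^ l) (Additive.ofMul a) := by
      intro i
      induction i with
      | zero => simp [h0]
      | succ i ih =>
        rw [geom_sum_succ, LinearMap.add_apply, Module.End.mul_apply, ← ih, hlin, hs, Module.End.one_apply,
          ofMul_mul, add_comm]
        rfl
    have h2 := h1 (p ^ j)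
    rw [hsum, LinearMap.zero_apply] at h2
    exact congrArg Additive.toMul h2


/-- Let a finite group G act faithfully on a set Ω with p ^ m points (p prime) and have an elementary abelian normal p-subgroup N acting regularly on Ω (so G is a group of affine transformations of an m-dimensional space over the field with p elements). If G contains an element of order p ^ r with r ≥ 1, then p ^ (r − 1) ≤ m. In particular an element of order p ^ m forces m ≤ 2, and m ≤ 1 when p is odd. -/
theorem result {G : Type*} [Group G] [Finite G] {Ω : Type*} [Fintype Ω] [MulAction G Ω] [FaithfulSMul G Ω] (p m : ℕ) (hp : p.Prime) (hcard : Fintype.card Ω = p ^ m)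
    (N : Subgroup G) [N.Normal] (hNc : IsMulCommutative N) (hNp : ∀ n ∈ N, n ^ p = 1)
    (hNtr : MulAction.IsPretransitive N Ω) (hNreg : ∀ ω : Ω, MulAction.stabilizer N ω = ⊥)
    (g : G) (r : ℕ) (hr : 1 ≤ r) (hg : orderOf g = p ^ r) :
    p ^ (r - 1) ≤ m ∧ (r = m → m ≤ 2 ∧ (2 < p → m ≤ 1)) := by
  classical
  have : Fact p.Prime := ⟨hp⟩
  obtain ⟨α⟩ : Nonempty Ω := Fintype.card_pos_iff.mp (by rw [hcard]; exact pow_pos hp.pos m)
  have hNcard : Nat.card N = p ^ m := by
    have h1 := Cfsg.Agent.Perm.card_orbit_mul_card_stabilizer (G := N) α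
    rw [hNreg, Subgroup.card_bot, mul_one, MulAction.orbit_eq_univ, Nat.card_coe_set_eq, Set.ncard_univ,
      Nat.card_eq_fintype_card, hcard] at h1
    exact h1.symm
  let cg : CommGroup N := { (inferInstance : Group N) with mul_comm := fun a b => hNc.is_comm.comm a b }
  have hmod : ∀ v : Additive N, p • v = 0 := fun v => Additive.toMul.injective (Subtype.ext (by
    show ((v.toMul ^ p : N) : G) = 1
    rw [Subgroup.coe_pow, hNp _ v.toMul.2]))
  let hm : Module (ZMod p) (Additive N) := AddCommGroup.zmodModule hmod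
  have main : p ^ (r - 1) ≤ m := by
    by_contra hc
    obtain ⟨h1, h2⟩ := unipotent_aux (A := N) (j := r - 1) hNcard (MulAut.conjNormal (H := N)) g r
      (hg ▸ pow_orderOf_eq_one g) (not_le.mp hc)
    obtain ⟨n, hn, u, hu, hgnu⟩ := Cfsg.Agent.Perm.exists_mul_stabilizer (N := N) α g
    have hgu : ∀ a ∈ N, g * a * g⁻¹ = u * a * u⁻¹ := by
      intro a ha
      have h3 : n * (u * a * u⁻¹) = u * a * u⁻¹ * n :=
        congrArg Subtype.val (hNc.is_comm.comm (⟨n, hn⟩ : N) ⟨_, Subgroup.Normal.conj_mem inferInstance a ha u⟩)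
      rw [hgnu]
      calc n * u * a * (n * u)⁻¹ = n * (u * a * u⁻¹) * n⁻¹ := by group
        _ = u * a * u⁻¹ := by rw [h3, mul_inv_cancel_right]
    let P : ℕ → N := fun i => Nat.rec (1 : N) (fun _ x => ⟨n, hn⟩ * MulAut.conjNormal g x) i
    have hP : ∀ i, g ^ i = Subtype.val (P i) * u ^ i := by
      intro i
      induction i with
      | zero => simp [P]
      | succ i ih =>
        show g ^ (i + 1) = n * (g * Subtype.val (P i) * g⁻¹) * u ^ (i + 1)
        rw [hgu _ (P i).2, pow_succ' g, ih, pow_succ' u, hgnu]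
        group
    have hgk : g ^ p ^ (r - 1) = u ^ p ^ (r - 1) := by
      rw [hP, h2 ⟨n, hn⟩ P rfl (fun i => rfl), Subgroup.coe_one, one_mul]
    have huk : u ^ p ^ (r - 1) = 1 := by
      refine FaithfulSMul.eq_of_smul_eq_smul (fun ω : Ω => ?_)
      obtain ⟨a, ha, rfl⟩ := Cfsg.Agent.Perm.subgroup_exists_smul_eq (N := N) α ω
      have h3 : u ^ p ^ (r - 1) * a * (u ^ p ^ (r - 1))⁻¹ = a := by
        rw [← hgk]
        exact congrArg (fun e : MulAut N => ((e ⟨a, ha⟩ : N) : G)) h1
      rw [one_smul, ← Cfsg.Agent.Perm.conj_smul_base (pow_mem hu _) a, h3]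
    have h4 := orderOf_dvd_of_pow_eq_one (hgk.trans huk)
    rw [hg, Nat.pow_dvd_pow_iff_le_right hp.one_lt] at h4
    omega
  refine ⟨main, fun e => ?_⟩
  subst e
  have h3 : ∀ j : ℕ, j + 1 < 2 ^ j ∨ j ≤ 1 := by
    intro j
    induction j with
    | zero => right; omega
    | succ j ih =>
      rw [pow_succ]
      rcases ih with h | h
      · left; omega
      · interval_cases j <;> simp
  have h2 : 2 ^ (r - 1) ≤ r := (Nat.pow_le_pow_left hp.two_le _).trans main
  refine ⟨?_, fun hp2 => ?_⟩
  · rcases h3 (r - 1) with h | h <;> omega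
  · have h5 : 3 ^ (r - 1) ≤ r := (Nat.pow_le_pow_left hp2 _).trans main
    rcases h3 (r - 1) with h | h
    · omega
    · have : r ≤ 2 := by omega
      interval_cases r <;> simp_all

end Cfsg.Agent.S3508
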