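import Cfsg.Statements.S3511
import Mathlib

set_option autoImplicit false
open Cfsg

namespace Cfsg.Agent.S3511

/-- Let a finite group G act faithfully on a set Ω. If every element of G of square-free order has a regular cycle (an orbit of the cyclic group it generates with trivial stabilizer), then every element of G has a regular cycle. -/
theorem result {G : Type*} [Group G] [Finite G] {Ω : Type*} [MulAction G Ω] [FaithfulSMul G Ω]
    (h : ∀ g : G, Squarefree (orderOf g) → ∃ ω : Ω, MulAction.stabilizer (Subgroup.zpowers g) ω = ⊥) (g : G) :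
    ∃ ω : Ω, MulAction.stabilizer (Subgroup.zpowers g) ω = ⊥ := by
  classical
  have hn : orderOf g ≠ 0 := (orderOf_pos g).ne'
  let r := ∏ p ∈ (orderOf g).primeFactors, p
  have hrd : r ∣ orderOf g := Nat.prod_primeFactors_dvd _
  have hr0 : r ≠ 0 := fun h => hn (Nat.eq_zero_of_zero_dvd (h ▸ hrd))
  have hord : orderOf (g ^ (orderOf g / r)) = r := by
    rw [orderOf_pow' g (Nat.div_ne_zero_iff.mpr ⟨hr0, Nat.le_of_dvd (Nat.pos_of_ne_zero hn) hrd⟩),
      Nat.gcd_eq_right (Nat.div_dvd_of_dvd hrd), Nat.div_div_self hrd hn]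
  have hsq : Squarefree (orderOf (g ^ (orderOf g / r))) := by
    rw [hord]
    exact Finset.squarefree_prod_of_pairwise_isCoprime (fun a ha b hb hab =>
      Nat.coprime_iff_isRelPrime.mp ((Nat.coprime_primes (Nat.prime_of_mem_primeFactors ha)
        (Nat.prime_of_mem_primeFactors hb)).mpr hab))
      (fun a ha => (Nat.prime_of_mem_primeFactors ha).squarefree)
  obtain ⟨ω, hω⟩ := h _ hsq
  refine ⟨ω, ?_⟩
  rw [Subgroup.eq_bot_iff_forall]
  intro x hx
  by_contra hx1
  obtain ⟨p, hp, hpx⟩ := Nat.exists_prime_and_dvd (n := orderOf x) (fun e => hx1 (orderOf_eq_one_iff.mp e))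
  have hpg : p ∣ orderOf g := by
    refine hpx.trans ?_
    rw [← Nat.card_zpowers g]
    exact orderOf_dvd_natCard x
  let y := x ^ (orderOf x / p)
  have hxo : orderOf x ≠ 0 := (orderOf_pos x).ne'
  have hy : orderOf y = p := by
    show orderOf (x ^ _) = p
    rw [orderOf_pow' x (Nat.div_ne_zero_iff.mpr ⟨hp.ne_zero, Nat.le_of_dvd (Nat.pos_of_ne_zero hxo) hpx⟩),
      Nat.gcd_eq_right (Nat.div_dvd_of_dvd hpx), Nat.div_div_self hpx hxo]
  have hyr : (y : G) ^ r = 1 := by
    have hpr : p ∣ r := Finset.dvd_prod_of_mem _ (Nat.mem_primeFactors.mpr ⟨hp, hpg, hn⟩)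
    rw [← SubmonoidClass.coe_pow, (orderOf_dvd_iff_pow_eq_one).mp (hy ▸ hpr), OneMemClass.coe_one]
  obtain ⟨i, hi⟩ := Subgroup.mem_zpowers_iff.mp y.2
  have hdiv : ((orderOf g / r : ℕ) : ℤ) ∣ i := by
    have h1 : g ^ (i * r) = 1 := by rw [zpow_mul, hi, zpow_natCast, hyr]
    have h2 := orderOf_dvd_iff_zpow_eq_one.mpr h1
    have h3 : ((orderOf g / r : ℕ) : ℤ) * (r : ℤ) ∣ i * (r : ℤ) := by
      rw [← Nat.cast_mul, Nat.div_mul_cancel hrd]; exact h2
    exact Int.dvd_of_mul_dvd_mul_right (by exact_mod_cast hr0) h3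
  obtain ⟨j, hj⟩ := hdiv
  have hym : (y : G) ∈ Subgroup.zpowers (g ^ (orderOf g / r)) := by
    rw [Subgroup.mem_zpowers_iff]
    exact ⟨j, by rw [← zpow_natCast, ← zpow_mul, ← hj, hi]⟩
  have hyω : (⟨(y : G), hym⟩ : Subgroup.zpowers (g ^ (orderOf g / r))) ∈
      MulAction.stabilizer (Subgroup.zpowers (g ^ (orderOf g / r))) ω := by
    show (y : G) • ω = ω
    exact (pow_mem hx _ : y ∈ MulAction.stabilizer (Subgroup.zpowers g) ω)
  rw [hω, Subgroup.mem_bot] at hyω
  have : y = 1 := Subtype.ext (congrArg (fun z : Subgroup.zpowers (g ^ (orderOf g / r)) => (z : G)) hyω)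
  rw [this, orderOf_one] at hy
  exact hp.one_lt.ne hy

end Cfsg.Agent.S3511
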