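import Cfsg.Statements.S3514
import Cfsg.Agent.Lib.Thompson.Replacement
import Cfsg.Agent.Lib.Perm.Basic

set_option autoImplicit false
open Cfsg

namespace Cfsg.Agent.S3514

theorem card_orbit_dvd_aux {G X : Type*} [Group G] [Finite G] [MulAction G X] (H K : Subgroup G) (hK : K ≤ H)
    (hn : H ≤ Subgroup.normalizer (K : Set G)) (v : X) :
    Nat.card {u : X | ∃ k ∈ K, k • v = u} ∣ Nat.card {u : X | ∃ h ∈ H, h • v = u} := by
  have e : ∀ L : Subgroup G, Nat.card {u : X | ∃ k ∈ L, k • v = u} *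
      Nat.card (L ⊓ MulAction.stabilizer G v : Subgroup G) = Nat.card L := by
    intro L
    rw [← Cfsg.Agent.Perm.card_orbit_mul_card_stabilizer (G := L) v]
    congr 1
    · refine congrArg Nat.card (congrArg Set.Elem ?_)
      ext u
      exact ⟨fun ⟨k, hk, h⟩ => ⟨⟨k, hk⟩, h⟩, fun ⟨k, h⟩ => ⟨k, k.2, h⟩⟩
    · exact Nat.card_congr
        { toFun := fun x => ⟨⟨x.1, x.2.1⟩, x.2.2⟩
          invFun := fun x => ⟨x.1.1, ⟨x.1.2, x.2⟩⟩
          left_inv := fun _ => rfl
          right_inv := fun _ => rfl }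
  set Hv := H ⊓ MulAction.stabilizer G v with hHv
  have h1 := Cfsg.Agent.Thompson.card_sup_mul_card_inf (H := K) (K := Hv) (inf_le_left.trans hn)
  have h2 : K ⊓ Hv = K ⊓ MulAction.stabilizer G v := by
    rw [hHv, ← inf_assoc, inf_eq_left.mpr hK]
  rw [h2] at h1
  have h3 : Nat.card (K ⊔ Hv : Subgroup G) = Nat.card {u : X | ∃ k ∈ K, k • v = u} * Nat.card Hv := by
    refine Nat.eq_of_mul_eq_mul_right (Nat.card_pos (α := (K ⊓ MulAction.stabilizer G v : Subgroup G))) ?_
    rw [h1, ← e K]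
    ring
  have h4 : Nat.card (K ⊔ Hv : Subgroup G) ∣ Nat.card H := Subgroup.card_dvd_of_le (sup_le hK inf_le_left)
  rw [h3, ← e H] at h4
  exact Nat.dvd_of_mul_dvd_mul_right Nat.card_pos h4

theorem card_orbit_sup_dvd_aux {G X : Type*} [Group G] [Finite G] [MulAction G X] (H N : Subgroup G)
    (hn : H ≤ Subgroup.normalizer (N : Set G)) (v : X) :
    Nat.card {u : X | ∃ x ∈ N ⊔ H, x • v = u} ∣ Nat.card N * Nat.card {u : X | ∃ h ∈ H, h • v = u} := by
  have e : ∀ L : Subgroup G, Nat.card {u : X | ∃ k ∈ L, k • v = u} *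
      Nat.card (L ⊓ MulAction.stabilizer G v : Subgroup G) = Nat.card L := by
    intro L
    rw [← Cfsg.Agent.Perm.card_orbit_mul_card_stabilizer (G := L) v]
    congr 1
    · refine congrArg Nat.card (congrArg Set.Elem ?_)
      ext u
      exact ⟨fun ⟨k, hk, h⟩ => ⟨⟨k, hk⟩, h⟩, fun ⟨k, h⟩ => ⟨k, k.2, h⟩⟩
    · exact Nat.card_congr
        { toFun := fun x => ⟨⟨x.1, x.2.1⟩, x.2.2⟩
          invFun := fun x => ⟨x.1.1, ⟨x.1.2, x.2⟩⟩
          left_inv := fun _ => rfl
          right_inv := fun _ => rfl }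
  obtain ⟨c, hc⟩ : Nat.card (H ⊓ MulAction.stabilizer G v : Subgroup G) ∣
      Nat.card ((N ⊔ H) ⊓ MulAction.stabilizer G v : Subgroup G) :=
    Subgroup.card_dvd_of_le (inf_le_inf_right _ le_sup_right)
  have h1 := Cfsg.Agent.Thompson.card_sup_mul_card_inf (H := N) (K := H) hn
  rw [← e (N ⊔ H), ← e H, hc] at h1
  refine ⟨c * Nat.card (N ⊓ H : Subgroup G),
    (Nat.eq_of_mul_eq_mul_right (Nat.card_pos (α := (H ⊓ MulAction.stabilizer G v : Subgroup G))) ?_)⟩
  rw [mul_assoc (Nat.card N), ← h1]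
  ring


/-- Let p be a prime, V a finite vector space over the field with p elements, and H a group of linear transformations of V all of whose orbits on V have size coprime to p. (i) Every normal subgroup K of H has all its orbits on V of size coprime to p. (ii) If N is a group of linear transformations of V of order coprime to p that is normalized by H, then the group generated by N and H has all its orbits on V of size coprime to p. -/
theorem result (p : ℕ) [Fact p.Prime] {V : Type*} [AddCommGroup V] [Module (ZMod p) V] [Finite V]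
    (H : Subgroup (V ≃ₗ[ZMod p] V)) (hH : ∀ v : V, ¬ p ∣ Nat.card {u : V | ∃ h ∈ H, h v = u}) :
    (∀ K : Subgroup (V ≃ₗ[ZMod p] V), K ≤ H → H ≤ Subgroup.normalizer (K : Set (V ≃ₗ[ZMod p] V)) →
        ∀ v : V, ¬ p ∣ Nat.card {u : V | ∃ k ∈ K, k v = u}) ∧
    (∀ N : Subgroup (V ≃ₗ[ZMod p] V), ¬ p ∣ Nat.card N → H ≤ Subgroup.normalizer (N : Set (V ≃ₗ[ZMod p] V)) →
        ∀ v : V, ¬ p ∣ Nat.card {u : V | ∃ x ∈ N ⊔ H, x v = u}) := by
  have : Finite (V ≃ₗ[ZMod p] V) := Finite.of_injective _ DFunLike.coe_injective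
  refine ⟨fun K hK hn v h => hH v (h.trans (card_orbit_dvd_aux (X := V) H K hK hn v)),
    fun N hN hn v h => ?_⟩
  rcases (Fact.out (p := p.Prime)).dvd_mul.mp (h.trans (card_orbit_sup_dvd_aux (X := V) H N hn v)) with h1 | h1
  · exact hN h1
  · exact hH v h1

end Cfsg.Agent.S3514
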