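import Cfsg.Statements.S3515
import Cfsg.Agent.RecogB.AffineClosure

set_option autoImplicit false
open Cfsg

namespace Cfsg.Agent.S3515

theorem plane_two_points : ∀ x : Fin 2 → ZMod 2,
    x = 0 ∨ x = Pi.single 0 1 ∨ x = Pi.single 1 1 ∨ x = Pi.single 0 1 + Pi.single 1 1 := by
  decide

/-- Every primitive affine permutation group of degree p² is 3-closed. Let p be a prime and G a group of permutations of the plane V = F_p² consisting of affine maps x ↦ Ax + b, containing all translations, and acting primitively on V. Then any permutation σ of V that agrees on every triple of points with some element of G (σ preserves every G-orbit on ordered triples) already lies in G. -/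
theorem result (p : ℕ) [Fact p.Prime] (G : Subgroup (Equiv.Perm (Fin 2 → ZMod p)))
    (haff : (G : Set (Equiv.Perm (Fin 2 → ZMod p))) ⊆ {τ : Equiv.Perm (Fin 2 → ZMod p) | ∃ (A : (Fin 2 → ZMod p) ≃ₗ[ZMod p] (Fin 2 → ZMod p)) (b : Fin 2 → ZMod p), ∀ x, τ x = A x + b})
    (htrans : ∀ b : Fin 2 → ZMod p, ∃ g ∈ G, ∀ x, g x = x + b) (hprim : MulAction.IsPreprimitive G (Fin 2 → ZMod p))
    (σ : Equiv.Perm (Fin 2 → ZMod p)) (hσ : (∀ t : Fin 3 → (Fin 2 → ZMod p), ∃ g ∈ G, ∀ i, σ (t i) = g (t i))) : σ ∈ G := by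
  classical
  obtain ⟨g, hg, hgt⟩ := hσ ![0, Pi.single 0 1, Pi.single 1 1]
  have e0 : σ 0 = g 0 := hgt 0
  have e1 : σ (Pi.single 0 1) = g (Pi.single 0 1) := hgt 1
  have e2 : σ (Pi.single 1 1) = g (Pi.single 1 1) := hgt 2
  suffices h : σ = g by exact h ▸ hg
  obtain ⟨C, c, hCc⟩ := haff hg
  by_cases hp : p = 2
  · subst hp
    apply Equiv.ext
    have key : ∀ x : Fin 2 → ZMod 2, x = 0 ∨ x = Pi.single 0 1 ∨ x = Pi.single 1 1 ∨ x = Pi.single 0 1 + Pi.single 1 1 := by
      exact plane_two_points
    intro x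
    by_contra hne
    have hτ : ∀ y, σ y ≠ g y → y = Pi.single 0 1 + Pi.single 1 1 := by
      intro y hy
      rcases key y with h | h | h | h
      · exact absurd (h ▸ e0) hy
      · exact absurd (h ▸ e1) hy
      · exact absurd (h ▸ e2) hy
      · exact h
    have hx := hτ x hne
    have h2 : σ (σ.symm (g x)) ≠ g (σ.symm (g x)) := by
      rw [Equiv.apply_symm_apply]
      intro e
      have e' := g.injective e
      rw [Equiv.eq_symm_apply] at e'
      exact hne e'
    have := (hτ _ h2).trans hx.symm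
    rw [Equiv.symm_apply_eq] at this
    exact hne this.symm
  · obtain ⟨A, b, hab⟩ := Cfsg.Agent.RecogB.affine_of_triples hp σ (fun x y z => by
      obtain ⟨u, hu, hut⟩ := hσ ![x, y, z]
      obtain ⟨A, b, hab⟩ := haff hu
      exact ⟨A, b, (hut 0).trans (hab _), (hut 1).trans (hab _), (hut 2).trans (hab _)⟩)
    have hb : b = c := by
      rw [hab, hCc, map_zero, map_zero, zero_add, zero_add] at e0
      exact e0
    rw [hab, hCc, hb, add_left_inj] at e1 e2
    apply Equiv.ext
    intro x
    have hx : x = x 0 • Pi.single 0 1 + x 1 • Pi.single 1 1 := by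
      ext i; fin_cases i <;> simp
    rw [hab, hCc, hb, hx, map_add, map_add, map_smul, map_smul, map_smul, map_smul, e1, e2]

end Cfsg.Agent.S3515
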