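import Cfsg.Statements.S3516
import Cfsg.Agent.RecogB.AffineClosure

set_option autoImplicit false
open Cfsg

namespace Cfsg.Agent.S3516

/-- Let p be an odd prime, d ≥ 3, and G a group of affine permutations x ↦ Ax + b of V = F_p^d containing all translations and all maps x ↦ Ax with A of determinant 1. Then the 3-closure of G is the full affine group: a permutation σ of V agrees on every triple of points with some element of G if and only if σ is an affine map. -/
theorem result (p : ℕ) [Fact p.Prime] (hp : p ≠ 2) (d : ℕ) (hd : 3 ≤ d) (G : Subgroup (Equiv.Perm (Fin d → ZMod p)))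
    (haff : (G : Set (Equiv.Perm (Fin d → ZMod p))) ⊆ {τ : Equiv.Perm (Fin d → ZMod p) | ∃ (A : (Fin d → ZMod p) ≃ₗ[ZMod p] (Fin d → ZMod p)) (b : Fin d → ZMod p), ∀ x, τ x = A x + b})
    (htrans : ∀ b : Fin d → ZMod p, ∃ g ∈ G, ∀ x, g x = x + b)
    (hsl : ∀ A : (Fin d → ZMod p) ≃ₗ[ZMod p] (Fin d → ZMod p), LinearMap.det (A : (Fin d → ZMod p) →ₗ[ZMod p] (Fin d → ZMod p)) = 1 → ∃ g ∈ G, ∀ x, g x = A x)
    (σ : Equiv.Perm (Fin d → ZMod p)) :
    (∀ t : Fin 3 → (Fin d → ZMod p), ∃ g ∈ G, ∀ i, σ (t i) = g (t i)) ↔ σ ∈ {τ : Equiv.Perm (Fin d → ZMod p) | ∃ (A : (Fin d → ZMod p) ≃ₗ[ZMod p] (Fin d → ZMod p)) (b : Fin d → ZMod p), ∀ x, τ x = A x + b} := by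
  constructor
  · intro h
    refine Cfsg.Agent.RecogB.affine_of_triples hp σ fun x y z => ?_
    obtain ⟨g, hg, hgt⟩ := h ![x, y, z]
    obtain ⟨A, b, hab⟩ := haff hg
    exact ⟨A, b, (hgt 0).trans (hab _), (hgt 1).trans (hab _), (hgt 2).trans (hab _)⟩
  · rintro ⟨A, b, hab⟩ t
    obtain ⟨B, hB, hu, hv⟩ := Cfsg.Agent.RecogB.exists_det_one_agree hd A (t 1 - t 0) (t 2 - t 0)
    obtain ⟨g, hg, hgB⟩ := hsl B hB
    obtain ⟨u, hu', hub⟩ := htrans (σ (t 0) - B (t 0))
    refine ⟨u * g, mul_mem hu' hg, fun i => ?_⟩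
    rw [Equiv.Perm.mul_apply, hub, hgB]
    have key : ∀ i, B (t i - t 0) = A (t i - t 0) := by
      intro i
      fin_cases i
      · simp
      · exact hu
      · exact hv
    have := key i
    rw [map_sub, map_sub, sub_eq_sub_iff_add_eq_add] at this
    have e : B (t i) = A (t i) + B (t 0) - A (t 0) := by
      rw [eq_sub_iff_add_eq]; exact this
    rw [hab, hab, e]
    abel

end Cfsg.Agent.S3516
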