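import Cfsg.Statements.S3517
import Cfsg.Agent.RecogB.Affine

set_option autoImplicit false
open Cfsg

namespace Cfsg.Agent.S3517

/-- For d ≥ 3, the 3-closure of the affine group AGL_d(2) acting on F_2^d is the full symmetric group: every permutation of F_2^d agrees on every ordered triple of points with some affine map (AGL_d(2) is 3-transitive). -/
theorem result (d : ℕ) (hd : 3 ≤ d) (σ : Equiv.Perm (Fin d → ZMod 2)) (t : Fin 3 → (Fin d → ZMod 2)) :
    ∃ (A : (Fin d → ZMod 2) ≃ₗ[ZMod 2] (Fin d → ZMod 2)) (b : Fin d → ZMod 2), ∀ i, σ (t i) = A (t i) + b := by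
  classical
  have h2 : ∀ c : ZMod 2, c = 0 ∨ c = 1 := by decide
  have pair : ∀ x y : Fin d → ZMod 2, x ≠ 0 → y ≠ 0 → x ≠ y → LinearIndependent (ZMod 2) ![x, y] := by
    intro x y hx hy hxy
    rw [LinearIndependent.pair_iff]
    intro s u hsu
    rcases h2 s with rfl | rfl <;> rcases h2 u with rfl | rfl <;> simp at hsu ⊢
    · exact hy hsu
    · exact hx hsu
    · exact hxy (by rwa [← sub_eq_zero, ZModModule.sub_eq_add])
  have single : ∀ x : Fin d → ZMod 2, x ≠ 0 → LinearIndependent (ZMod 2) ![x] := by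
    intro x hx
    rw [linearIndependent_unique_iff]
    simpa using hx
  obtain ⟨A, hA1, hA2⟩ : ∃ A : (Fin d → ZMod 2) ≃ₗ[ZMod 2] (Fin d → ZMod 2),
      A (t 1 - t 0) = σ (t 1) - σ (t 0) ∧ A (t 2 - t 0) = σ (t 2) - σ (t 0) := by
    have nz : ∀ x y, x ≠ y → x - y ≠ 0 ∧ σ x - σ y ≠ 0 := fun x y h =>
      ⟨sub_ne_zero.mpr h, sub_ne_zero.mpr (σ.injective.ne h)⟩
    by_cases e1 : t 1 = t 0
    · by_cases e2 : t 2 = t 0
      · exact ⟨1, by simp [e1], by simp [e2]⟩
      · obtain ⟨A, hA⟩ := Cfsg.Agent.RecogB.exists_equiv_of_li (single _ (nz _ _ e2).1) (single _ (nz _ _ e2).2)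
        exact ⟨A, by simp [e1], by simpa using hA 0⟩
    · by_cases e2 : t 2 = t 0
      · obtain ⟨A, hA⟩ := Cfsg.Agent.RecogB.exists_equiv_of_li (single _ (nz _ _ e1).1) (single _ (nz _ _ e1).2)
        exact ⟨A, by simpa using hA 0, by simp [e2]⟩
      · by_cases e3 : t 1 = t 2
        · obtain ⟨A, hA⟩ := Cfsg.Agent.RecogB.exists_equiv_of_li (single _ (nz _ _ e1).1) (single _ (nz _ _ e1).2)
          exact ⟨A, by simpa using hA 0, by simpa [e3] using hA 0⟩
        · obtain ⟨A, hA⟩ := Cfsg.Agent.RecogB.exists_equiv_of_li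
            (pair _ _ (nz _ _ e1).1 (nz _ _ e2).1 (fun h => e3 (sub_left_inj.mp h)))
            (pair _ _ (nz _ _ e1).2 (nz _ _ e2).2 (fun h => e3 (σ.injective (sub_left_inj.mp h))))
          exact ⟨A, by simpa using hA 0, by simpa using hA 1⟩
  refine ⟨A, σ (t 0) - A (t 0), fun i => ?_⟩
  rw [map_sub, sub_eq_iff_eq_add] at hA1 hA2
  fin_cases i
  · simp
  · simp only [Fin.reduceFinMk, hA1]; abel
  · simp only [Fin.reduceFinMk, hA2]; abel

end Cfsg.Agent.S3517
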