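import Cfsg.Statements.S3518
import Cfsg.Agent.RecogB.Directions

set_option autoImplicit false
open Cfsg

namespace Cfsg.Agent.S3518

/-- Closures of subgroups of the one-dimensional affine group. Let p be a prime and G a group of permutations of F_p lying in the affine group AGL₁(p) = {x ↦ ax + b, a ≠ 0} and containing all translations. (1) If G is a proper subgroup of AGL₁(p), then G is 2-closed: a permutation of F_p agreeing on every ordered pair of points with some element of G lies in G. (2) Every permutation of F_p agrees on every ordered pair with some element of AGL₁(p) (the 2-closure of AGL₁(p) is the symmetric group). (3) AGL₁(p) is 3-closed: a permutation agreeing on every ordered triple with some affine map is affine. -/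
theorem result (p : ℕ) [Fact p.Prime] (G : Subgroup (Equiv.Perm (ZMod p))) (hG : G ≤ Cfsg.affineGroup (ZMod p))
    (htrans : ∀ b : ZMod p, ∃ g ∈ G, ∀ x, g x = x + b) :
    (G ≠ Cfsg.affineGroup (ZMod p) → ∀ σ : Equiv.Perm (ZMod p), (∀ t : Fin 2 → ZMod p, ∃ g ∈ G, ∀ i, σ (t i) = g (t i)) → σ ∈ G) ∧
    (∀ σ : Equiv.Perm (ZMod p), (∀ t : Fin 2 → ZMod p, ∃ g ∈ Cfsg.affineGroup (ZMod p), ∀ i, σ (t i) = g (t i))) ∧
    (∀ σ : Equiv.Perm (ZMod p), (∀ t : Fin 3 → ZMod p, ∃ g ∈ Cfsg.affineGroup (ZMod p), ∀ i, σ (t i) = g (t i)) → σ ∈ Cfsg.affineGroup (ZMod p)) := by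
  classical
  have hp : p.Prime := Fact.out
  refine ⟨fun hne σ hσ => ?_, fun σ t => ?_, fun σ hσ => ?_⟩
  · let S : Subgroup (ZMod p)ˣ :=
      { carrier := {a | ∃ g ∈ G, ∀ x, g x = (a : ZMod p) * x}
        one_mem' := ⟨1, one_mem G, fun x => by simp⟩
        mul_mem' := by
          rintro a b ⟨g, hg, hga⟩ ⟨h, hh, hhb⟩
          exact ⟨g * h, mul_mem hg hh, fun x => by
            rw [Equiv.Perm.mul_apply, hga, hhb, Units.val_mul, mul_assoc]⟩
        inv_mem' := by
          rintro a ⟨g, hg, hga⟩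
          refine ⟨g⁻¹, inv_mem hg, fun x => g.injective ?_⟩
          rw [Equiv.Perm.inv_def, Equiv.apply_symm_apply, hga, Units.mul_inv_cancel_left] }
    have hmem : ∀ g ∈ G, ∀ (a : (ZMod p)ˣ) (b : ZMod p), (∀ x, g x = (a : ZMod p) * x + b) → a ∈ S := by
      intro g hg a b hab
      obtain ⟨u, hu, hub⟩ := htrans (-b)
      exact ⟨u * g, mul_mem hu hg, fun x => by rw [Equiv.Perm.mul_apply, hub, hab, add_neg_cancel_right]⟩
    have hS : ∀ (a : (ZMod p)ˣ) (b : ZMod p), a ∈ S → ∃ g ∈ G, ∀ x, g x = (a : ZMod p) * x + b := by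
      rintro a b ⟨g, hg, hga⟩
      obtain ⟨u, hu, hub⟩ := htrans b
      exact ⟨u * g, mul_mem hu hg, fun x => by rw [Equiv.Perm.mul_apply, hub, hga]⟩
    have hStop : S ≠ ⊤ := by
      intro e
      refine hne (le_antisymm hG fun g hg => ?_)
      obtain ⟨a, b, hab⟩ := hg
      obtain ⟨u, hu, hua⟩ := hS a b (e ▸ Subgroup.mem_top a)
      have : g = u := Equiv.ext fun x => by rw [hab, hua]
      exact this ▸ hu
    have hcard : 2 * Nat.card S ≤ p - 1 := by
      have h1 := Subgroup.card_mul_index S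
      rw [Nat.card_eq_fintype_card (α := (ZMod p)ˣ), ZMod.card_units] at h1
      have h2 : 2 ≤ S.index := by
        have := Subgroup.index_ne_zero_of_finite (H := S)
        have : S.index ≠ 1 := fun e => hStop (Subgroup.index_eq_one.mp e)
        omega
      calc 2 * Nat.card S ≤ S.index * Nat.card S := Nat.mul_le_mul_right _ h2
        _ = p - 1 := by rw [mul_comm]; exact h1
    have hp2 : p ≠ 2 := by
      rintro rfl
      have : 0 < Nat.card S := Nat.card_pos
      omega
    let D : Finset (ZMod p) := (Finset.univ.filter (· ∈ S)).image (fun a : (ZMod p)ˣ => -(a : ZMod p))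
    have hD : D.card ≤ Nat.card S := by
      refine Finset.card_image_le.trans (le_of_eq ?_)
      rw [Nat.card_eq_fintype_card, Fintype.card_subtype]
    have hdiff : ∀ x y, x ≠ y → ∃ a ∈ S, σ x - σ y = ((a : (ZMod p)ˣ) : ZMod p) * (x - y) := by
      intro x y _
      obtain ⟨g, hg, hgt⟩ := hσ ![x, y]
      obtain ⟨a, b, hab⟩ := hG hg
      have e1 : σ x = g x := hgt 0
      have e2 : σ y = g y := hgt 1
      exact ⟨a, hmem g hg a b hab, by rw [e1, e2, hab, hab]; ring⟩
    obtain ⟨a, b, hab⟩ := Cfsg.Agent.RecogB.affine_of_few_directions hp2 σ σ.injective Dᶜ (by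
      rw [Finset.card_compl, ZMod.card]
      obtain ⟨K, hK⟩ := hp.odd_of_ne_two hp2
      omega) (fun c hc x y e => by
        by_contra hxy
        obtain ⟨a, ha, he⟩ := hdiff x y hxy
        refine Finset.mem_compl.mp hc (Finset.mem_image.mpr ⟨a, Finset.mem_filter.mpr ⟨Finset.mem_univ _, ha⟩, ?_⟩)
        have h0 : ((a : ZMod p) + c) * (x - y) = 0 := by
          have e' : σ x + c * x = σ y + c * y := e
          linear_combination e' - he
        exact neg_eq_of_add_eq_zero_right ((mul_eq_zero.mp h0).resolve_right (sub_ne_zero.mpr hxy)))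
    obtain ⟨g, hg, hgt⟩ := hσ ![0, 1]
    obtain ⟨a', b', hab'⟩ := hG hg
    have e0 : σ 0 = g 0 := hgt 0
    have e1 : σ 1 = g 1 := hgt 1
    rw [hab, hab', mul_zero, mul_zero, zero_add, zero_add] at e0
    rw [hab, hab', mul_one, mul_one, e0] at e1
    have : σ = g := Equiv.ext fun x => by rw [hab, hab', e0, add_right_cancel e1]
    exact this ▸ hg
  · by_cases h : t 0 = t 1
    · refine ⟨Equiv.addRight (σ (t 0) - t 0), ⟨1, σ (t 0) - t 0, fun x => by simp⟩, fun i => ?_⟩
      fin_cases i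
      · simp
      · show σ (t 1) = t 1 + (σ (t 0) - t 0)
        rw [← h]; ring
    · have ha : (σ (t 0) - σ (t 1)) / (t 0 - t 1) ≠ 0 :=
        div_ne_zero (sub_ne_zero.mpr (σ.injective.ne h)) (sub_ne_zero.mpr h)
      set a := (σ (t 0) - σ (t 1)) / (t 0 - t 1)
      refine ⟨(Equiv.mulLeft₀ a ha).trans (Equiv.addRight (σ (t 1) - a * t 1)),
        ⟨Units.mk0 a ha, σ (t 1) - a * t 1, fun x => rfl⟩, fun i => ?_⟩
      have h2 : a * (t 0 - t 1) = σ (t 0) - σ (t 1) := div_mul_cancel₀ _ (sub_ne_zero.mpr h)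
      fin_cases i
      · show σ (t 0) = a * t 0 + (σ (t 1) - a * t 1)
        linear_combination -h2
      · show σ (t 1) = a * t 1 + (σ (t 1) - a * t 1)
        ring
  · obtain ⟨g, hg, hgt⟩ := hσ ![0, 1, 1]
    obtain ⟨a, b, hab⟩ := hg
    refine ⟨a, b, fun x => ?_⟩
    obtain ⟨u, hu, hut⟩ := hσ ![0, 1, x]
    obtain ⟨c, d, hcd⟩ := hu
    have h0 : (a : ZMod p) * 0 + b = (c : ZMod p) * 0 + d := by
      rw [← hab, ← hcd]; exact (hgt 0).symm.trans (hut 0)
    have h1 : (a : ZMod p) * 1 + b = (c : ZMod p) * 1 + d := by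
      rw [← hab, ← hcd]; exact (hgt 1).symm.trans (hut 1)
    rw [mul_zero, mul_zero, zero_add, zero_add] at h0
    rw [mul_one, mul_one, h0] at h1
    have h2 : σ x = u x := hut 2
    rw [h2, hcd, h0, add_right_cancel h1]

end Cfsg.Agent.S3518
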