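import Cfsg.Statements.S3521
import Cfsg.Agent.Lib.Perm.AffineExtremeStab

set_option autoImplicit false
open Cfsg

namespace Cfsg.Agent.S3521

/-- Let a finite group G that is not solvable act faithfully and primitively on a finite set with p ^ d points (p prime), with a non-trivial abelian normal subgroup acting regularly (affine type) and with non-trivial point stabilizers each acting primitively on every one of its orbits (an insoluble extremely primitive group of affine type). Then p = 2; and if moreover G is not 2-transitive, then a point stabilizer is almost simple (it has a non-abelian simple normal subgroup with trivial centralizer). -/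
theorem result {G : Type*} [Group G] [Finite G] {Ω : Type*} [Fintype Ω] [MulAction G Ω] [FaithfulSMul G Ω] (p d : ℕ) (hp : p.Prime) (hcard : Fintype.card Ω = p ^ d) (hsol : ¬ Group.IsSolvable G)
    (N : Subgroup G) [N.Normal] (hN : N ≠ ⊥) (hNc : IsMulCommutative N) (hNreg : ∀ ω : Ω, MulAction.stabilizer N ω = ⊥)
    (hprim : MulAction.IsPreprimitive G Ω) (hH : ∀ α : Ω, MulAction.stabilizer G α ≠ ⊥) (hep : ∀ (α : Ω) (ω : Ω), MulAction.IsPreprimitive (MulAction.stabilizer G α) (MulAction.orbit (MulAction.stabilizer G α) ω)) (α : Ω) :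
    p = 2 ∧ (¬ MulAction.IsMultiplyPretransitive G Ω 2 → ∃ T : Subgroup (MulAction.stabilizer G α), T.Normal ∧ IsSimpleGroup T ∧ ¬ IsMulCommutative T ∧ Subgroup.centralizer (T : Set (MulAction.stabilizer G α)) = ⊥) := by
  classical
  haveI : Finite Ω := Finite.of_fintype Ω
  haveI := hprim
  open MulAction in
  have hNt : IsPretransitive N Ω := by
    refine IsQuasiPreprimitive.isPretransitive_of_normal (G := G) (fun hfix => hN ?_)
    rw [Subgroup.eq_bot_iff_forall]
    intro n hn
    refine FaithfulSMul.eq_of_smul_eq_smul (fun ω : Ω => ?_)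
    rw [one_smul]
    have : ω ∈ MulAction.fixedPoints N Ω := hfix ▸ Set.mem_univ _
    exact this ⟨n, hn⟩
  haveI := hNt
  set H := MulAction.stabilizer G α with hH_def
  letI : CommGroup N := { (inferInstance : Group N) with mul_comm := hNc.is_comm.comm }
  let φ : H →* MulAut N := MulAut.conjNormal.comp H.subtype
  have hφ : ∀ (h : H) (n : N), ((φ h n : N) : G) = (h : G) * n * (h : G)⁻¹ := fun h n =>
    MulAut.conjNormal_apply _ _
  have hinj : ∀ n n' : N, (n : G) • α = (n' : G) • α → n = n' := by
    intro n n' e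
    have h1 : n'⁻¹ * n ∈ MulAction.stabilizer N α := by
      rw [MulAction.mem_stabilizer_iff]
      show ((n'⁻¹ * n : N) : G) • α = α
      rw [Subgroup.coe_mul, mul_smul, e, Subgroup.coe_inv, inv_smul_smul]
    rw [hNreg α, Subgroup.mem_bot] at h1
    exact (inv_mul_eq_one.1 h1).symm
  have hpt : ∀ (h : H) (n : N), (h : G) • (n : G) • α = ((φ h n : N) : G) • α := by
    intro h n
    have hh : (h : G)⁻¹ • α = α := inv_mem h.2
    rw [hφ, mul_smul, mul_smul, hh]
  have hne : ∀ a : N, a ≠ 1 → (a : G) • α ≠ α := fun a ha e =>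
    ha (hinj a 1 (by rw [e, Subgroup.coe_one, one_smul]))
  have hfix : ∀ (a : N) (h : H), h ∈ Cfsg.Agent.Perm.AffineExtreme.fixer φ a ↔
      (h : G) • (a : G) • α = (a : G) • α := by
    intro a h
    rw [Cfsg.Agent.Perm.AffineExtreme.mem_fixer, hpt]
    exact ⟨fun e => by rw [e], hinj _ _⟩
  have hsf : ∀ (a : N), a ≠ 1 → ∀ h : H,
      (∀ x ∈ MulAction.orbit H ((a : G) • α), (h : G) • x = x) → h = 1 :=
    fun a ha h hx => Subtype.ext (Cfsg.Agent.RecogB.suborbit_faithful hH hep (hne a ha) h.2 hx)
  have hsolv : ¬ Group.IsSolvable H := by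
    intro hs
    haveI := hs
    apply hsol
    haveI : Group.IsSolvable N := Group.isSolvable_of_comm hNc.is_comm.comm
    haveI : Group.IsSolvable (G ⧸ N) := by
      refine Group.isSolvable_of_surjective (f := (QuotientGroup.mk' N).comp H.subtype) ?_
      intro q
      obtain ⟨g, rfl⟩ := QuotientGroup.mk'_surjective N q
      obtain ⟨n, hn⟩ := MulAction.exists_smul_eq N α (g • α)
      refine ⟨⟨(n : G)⁻¹ * g, ?_⟩, ?_⟩
      · rw [hH_def, MulAction.mem_stabilizer_iff, mul_smul, ← hn]
        exact inv_smul_smul (n : G) α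
      · rw [MonoidHom.comp_apply, Subgroup.subtype_apply, map_mul, map_inv,
          (QuotientGroup.eq_one_iff (n : G)).2 n.2 |> fun h => (show QuotientGroup.mk' N (n : G) = 1 from h),
          inv_one, one_mul]
    exact Group.isSolvable_of_ker_le_range N.subtype (QuotientGroup.mk' N) (by simp)
  have hy : Cfsg.Agent.Perm.AffineExtreme.Hyp φ := by
    refine ⟨fun a ha => ?_, fun a ha K hK hKle => ?_, hsolv⟩
    · haveI := hep α ((a : G) • α)
      let b : MulAction.orbit H ((a : G) • α) := ⟨_, MulAction.mem_orbit_self _⟩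
      haveI : Nontrivial (MulAction.orbit H ((a : G) • α)) := by
        by_contra hc
        rw [not_nontrivial_iff_subsingleton] at hc
        apply hH α
        rw [Subgroup.eq_bot_iff_forall]
        intro h hh
        have h1 := hsf a ha ⟨h, hh⟩ (fun x hx => by
          have := congrArg Subtype.val (Subsingleton.elim
            (⟨(⟨h, hh⟩ : H) • x, (MulAction.orbit_eq_iff.2 hx).le (MulAction.mem_orbit x _)⟩ :
              MulAction.orbit H ((a : G) • α)) ⟨x, hx⟩)
          exact this)
        exact congrArg Subtype.val h1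
      have hc := MulAction.IsPreprimitive.isCoatom_stabilizer_of_isPreprimitive H b
      have he : MulAction.stabilizer H b = Cfsg.Agent.Perm.AffineExtreme.fixer φ a := by
        ext h
        rw [hfix, MulAction.mem_stabilizer_iff]
        exact Subtype.ext_iff
      rwa [he] at hc
    · rw [Subgroup.eq_bot_iff_forall]
      intro k hk
      refine hsf a ha k fun x hx => ?_
      obtain ⟨h, rfl⟩ := hx
      have h1 := (hfix a _).1 (hKle (hK.conj_mem k hk h⁻¹))
      simp only [Subgroup.coe_mul, Subgroup.coe_inv, inv_inv, mul_smul] at h1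
      show (k : G) • (h : G) • (a : G) • α = (h : G) • (a : G) • α
      exact inv_smul_eq_iff.1 h1
  obtain ⟨n₀, hn₀, hn₀1⟩ : ∃ n, n ∈ N ∧ n ≠ 1 := by
    by_contra hc
    push Not at hc
    exact hN ((Subgroup.eq_bot_iff_forall N).2 hc)
  set a₀ : N := ⟨n₀, hn₀⟩
  have ha₀ : a₀ ≠ 1 := fun e => hn₀1 (congrArg Subtype.val e)
  obtain ⟨b, hb1, hb2⟩ := hy.exists_sq_eq_one ha₀
  have hsq : ∀ a : N, a * a = 1 := by
    let W : Subgroup G :=
      { carrier := {g | g ∈ N ∧ g * g = 1}
        one_mem' := ⟨one_mem N, mul_one 1⟩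
        mul_mem' := fun {x y} hx hy => ⟨mul_mem hx.1 hy.1, by
          have hc : Commute x y := congrArg Subtype.val (hNc.is_comm.comm ⟨x, hx.1⟩ ⟨y, hy.1⟩)
          rw [hc.symm.mul_mul_mul_comm, hx.2, hy.2, mul_one]⟩
        inv_mem' := fun {x} hx => ⟨inv_mem hx.1, by rw [← mul_inv_rev, hx.2, inv_one]⟩ }
    have hW : W.Normal := ⟨fun x hx g => ⟨(inferInstance : N.Normal).conj_mem x hx.1 g, by
      calc g * x * g⁻¹ * (g * x * g⁻¹) = g * (x * x) * g⁻¹ := by group
        _ = 1 := by rw [hx.2]; group⟩⟩
    have hbW : (b : G) ∈ W := ⟨b.2, congrArg Subtype.val hb2⟩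
    have hWt : MulAction.IsPretransitive W Ω := by
      refine MulAction.IsQuasiPreprimitive.isPretransitive_of_normal (G := G) (fun hfix => hb1 ?_)
      refine hinj b 1 ?_
      rw [Subgroup.coe_one, one_smul]
      have : α ∈ MulAction.fixedPoints W Ω := hfix ▸ Set.mem_univ _
      exact this ⟨b, hbW⟩
    intro a
    obtain ⟨w, hw⟩ := MulAction.exists_smul_eq W α ((a : G) • α)
    have : (⟨w, w.2.1⟩ : N) = a := hinj _ _ hw
    rw [← this]
    exact Subtype.ext w.2.2
  refine ⟨?_, fun _ => hy.almost_simple hsq ha₀⟩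
  have hcardN : Nat.card N = p ^ d := by
    rw [← hcard, ← Nat.card_eq_fintype_card]
    refine Nat.card_eq_of_bijective (fun n : N => (n : G) • α) ⟨fun n n' => hinj n n', fun ω => ?_⟩
    exact MulAction.exists_smul_eq N α ω
  have h2 : orderOf b = 2 := orderOf_eq_prime (by rw [sq]; exact hb2) hb1
  have hd : 2 ∣ p ^ d := hcardN ▸ h2 ▸ orderOf_dvd_natCard b
  exact ((Nat.prime_dvd_prime_iff_eq Nat.prime_two hp).1 (Nat.prime_two.dvd_of_dvd_pow hd)).symm
end Cfsg.Agent.S3521
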