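import Cfsg.Statements.S3526
import Cfsg.Agent.PrimeGraph74.Main

set_option autoImplicit false
open Cfsg

namespace Cfsg.Agent.S3526

/-- The prime graph of a finite group has the prime divisors of its order as vertices, two distinct primes p, q being joined when the group has an element of order pq; two groups have the same prime graph when they have the same prime divisors and the same joined pairs. Suppose only finitely many finite groups, up to isomorphism, have the same prime graph as the non-trivial finite group G (equivalently, their orders are bounded). Then G is almost simple (it has a non-abelian simple normal subgroup with trivial centralizer), and so is every finite group with the same prime graph as G. -/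
theorem result {G : Type*} [Group G] [Finite G] [Nontrivial G]
    (h : ∃ n : ℕ, ∀ (H : Type) [Group H] [Finite H],
      ((∀ p : ℕ, p.Prime → (p ∣ Nat.card G ↔ p ∣ Nat.card H)) ∧
      (∀ p q : ℕ, p.Prime → q.Prime → p ≠ q → ((∃ g : G, orderOf g = p * q) ↔ (∃ g : H, orderOf g = p * q)))) → Nat.card H ≤ n) :
    (∃ N : Subgroup G, N.Normal ∧ IsSimpleGroup ↥N ∧ ¬ IsMulCommutative ↥N ∧ Subgroup.centralizer (N : Set G) = ⊥) ∧
    ∀ (H : Type) [Group H] [Finite H],
      ((∀ p : ℕ, p.Prime → (p ∣ Nat.card G ↔ p ∣ Nat.card H)) ∧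
      (∀ p q : ℕ, p.Prime → q.Prime → p ≠ q → ((∃ g : G, orderOf g = p * q) ↔ (∃ g : H, orderOf g = p * q)))) →
      ∃ N : Subgroup H, N.Normal ∧ IsSimpleGroup ↥N ∧ ¬ IsMulCommutative ↥N ∧ Subgroup.centralizer (N : Set H) = ⊥ := by
  obtain ⟨n, hn⟩ := h
  have main : ∀ (H : Type) [Group H] [Finite H], Recog71.SameGraph G H →
      ∃ N : Subgroup H, N.Normal ∧ IsSimpleGroup ↥N ∧ ¬ IsMulCommutative ↥N ∧
        Subgroup.centralizer (N : Set H) = ⊥ := by
    intro H _ _ hH
    haveI : Nontrivial H := by
      obtain ⟨p, hp, hpd⟩ := Nat.exists_prime_and_dvd (Finite.one_lt_card (α := G)).ne'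
      haveI := Fact.mk hp
      obtain ⟨x, hx⟩ := exists_prime_orderOf_dvd_card' p ((hH.1 p hp).mp hpd)
      exact ⟨⟨x, 1, fun e => hp.ne_one (by rw [← hx, e, orderOf_one])⟩⟩
    refine PrimeGraph74.exists_almostSimple fun hu => ?_
    obtain ⟨K, _, _, hlt, hK⟩ := hu n
    exact (hn K ⟨fun p hp => (hH.1 p hp).trans (hK.1 p hp),
      fun p q hp hq hne => (hH.2 p q hp hq hne).trans (hK.2 p q hp hq hne)⟩).not_gt hlt
  refine ⟨?_, fun H _ _ hH => main H hH⟩
  obtain ⟨K, _, _, ⟨e⟩⟩ := PrimeGraph74.exists_type_zero G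
  obtain ⟨N, hNn, hs, hna, hc⟩ := main K (PrimeGraph74.sameGraph_symm_of_mulEquiv
    ⟨fun _ _ => Iff.rfl, fun _ _ _ _ _ => Iff.rfl⟩ e)
  refine ⟨N.map e.symm.toMonoidHom, hNn.map _ e.symm.surjective, ?_, ?_, ?_⟩
  · let f := N.equivMapOfInjective e.symm.toMonoidHom e.symm.injective
    haveI : Nontrivial (N.map e.symm.toMonoidHom : Subgroup G) := f.symm.toEquiv.nontrivial
    exact IsSimpleGroup.isSimpleGroup_of_surjective f.toMonoidHom f.surjective
  · intro hcm
    let f := N.equivMapOfInjective e.symm.toMonoidHom e.symm.injective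
    refine hna ⟨⟨fun a b => f.injective ?_⟩⟩
    rw [map_mul, map_mul]
    exact hcm.is_comm.comm _ _
  · rw [eq_bot_iff]
    intro x hx
    have : e x ∈ Subgroup.centralizer (N : Set K) := by
      rw [Subgroup.mem_centralizer_iff]
      intro m hm
      have := congrArg e (Subgroup.mem_centralizer_iff.mp hx _ ⟨m, hm, rfl⟩)
      simpa using this
    rw [hc, Subgroup.mem_bot] at this
    exact Subgroup.mem_bot.mpr (e.injective (by simpa using this))

end Cfsg.Agent.S3526
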