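import Cfsg.Statements.S3532
import Cfsg.Agent.SL2Tor.PSLOrders

set_option autoImplicit false
open Cfsg

namespace Cfsg.Agent.S3532

/-- The maps `x ↦ u x + v` with `u ^ a = 1`. -/
def affSub (K : Type) [Field K] (a : ℕ) : Subgroup (Equiv.Perm K) where
  carrier := {f | ∃ u : Kˣ, u ^ a = 1 ∧ ∃ v : K, ∀ x, f x = (u : K) * x + v}
  one_mem' := ⟨1, one_pow a, 0, fun x => by simp⟩
  mul_mem' := by
    rintro f g ⟨u, hu, v, hf⟩ ⟨u', hu', v', hg⟩
    refine ⟨u * u', by rw [mul_pow, hu, hu', one_mul], (u : K) * v' + v, fun x => ?_⟩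
    rw [Equiv.Perm.mul_apply, hf, hg, Units.val_mul]; ring
  inv_mem' := by
    rintro f ⟨u, hu, v, hf⟩
    refine ⟨u⁻¹, by rw [inv_pow, hu, inv_one], -(((u⁻¹ : Kˣ) : K) * v), fun x => f.injective ?_⟩
    rw [Equiv.Perm.inv_def, Equiv.apply_symm_apply, hf, mul_add, Units.mul_inv_cancel_left, mul_neg,
      Units.mul_inv_cancel_left, neg_add_cancel_right]

theorem affSub_pow {K : Type} [Field K] {f : Equiv.Perm K} {u : Kˣ} {v : K}
    (hf : ∀ x, f x = (u : K) * x + v) (m : ℕ) (x : K) :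
    (f ^ m) x = (u : K) ^ m * x + v * ∑ i ∈ Finset.range m, (u : K) ^ i := by
  induction m with
  | zero => simp
  | succ m ih =>
    rw [pow_succ', Equiv.Perm.mul_apply, ih, hf, geom_sum_succ, pow_succ]; ring

theorem affSub_spectrum {K : Type} [Field K] [Finite K] {p a : ℕ} (hp : p.Prime) [CharP K p]
    (ha : a ∣ Nat.card Kˣ) (m : ℕ) :
    (∃ f : affSub K a, orderOf f = m) ↔ m ∣ p ∨ m ∣ a := by
  classical
  constructor
  · rintro ⟨⟨f, u, hu, v, hf⟩, rfl⟩
    rw [← Subgroup.orderOf_coe]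
    by_cases h1 : u = 1
    · left
      refine orderOf_dvd_of_pow_eq_one (Equiv.ext fun x => ?_)
      rw [affSub_pow hf, h1]
      simp [CharP.cast_eq_zero]
    · right
      refine orderOf_dvd_of_pow_eq_one (Equiv.ext fun x => ?_)
      have h2 : ((u : K)) ^ a = 1 := by rw [← Units.val_pow_eq_pow_val, hu, Units.val_one]
      have h3 : (∑ i ∈ Finset.range a, (u : K) ^ i) * ((u : K) - 1) = 0 := by rw [geom_sum_mul, h2, sub_self]
      rw [affSub_pow hf, h2, (mul_eq_zero.mp h3).resolve_right (sub_ne_zero.mpr (fun e => h1 (Units.ext e)))]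
      simp
  · rintro (h | h)
    · rcases (Nat.dvd_prime hp).mp h with rfl | rfl
      · exact ⟨1, orderOf_one⟩
      · have : Fact m.Prime := ⟨hp⟩
        refine ⟨⟨Equiv.addRight 1, 1, one_pow a, 1, fun x => by simp⟩, ?_⟩
        rw [← Subgroup.orderOf_coe]
        refine orderOf_eq_prime (Equiv.ext fun x => ?_) fun e => ?_
        · rw [affSub_pow (u := 1) (v := (1 : K)) (fun x => by simp)]
          simp [CharP.cast_eq_zero]
        · have := Equiv.ext_iff.mp e (0 : K)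
          simp at this
    · obtain ⟨w, hw⟩ : ∃ w : Kˣ, orderOf w = m := by
        obtain ⟨w0, hw0⟩ := IsCyclic.exists_ofOrder_eq_natCard (α := Kˣ)
        exact ⟨w0 ^ (orderOf w0 / m), orderOf_pow_orderOf_div (orderOf_pos w0).ne'
          (hw0 ▸ h.trans ha)⟩
      refine ⟨⟨Equiv.mulLeft₀ (w : K) w.ne_zero, w, orderOf_dvd_iff_pow_eq_one.mp (hw ▸ h), 0,
        fun x => by simp⟩, ?_⟩
      rw [← Subgroup.orderOf_coe]
      refine (orderOf_eq_orderOf_iff.mpr fun i => ⟨fun e => ?_, fun e => Equiv.ext fun x => ?_⟩ : _ = orderOf w).trans hw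
      · have := Equiv.ext_iff.mp e (1 : K)
        rw [affSub_pow (u := w) (v := (0 : K)) (fun x => by simp)] at this
        exact Units.ext (by simpa using this)
      · rw [affSub_pow (u := w) (v := (0 : K)) (fun x => by simp), ← Units.val_pow_eq_pow_val, e]
        simp

theorem affSub_solvable (K : Type) [Field K] (a : ℕ) : Group.IsSolvable (affSub K a) := by
  let φ : affSub K a →* K := MonoidHom.mk ⟨fun f => (f : Equiv.Perm K) 1 - (f : Equiv.Perm K) 0,
    by simp⟩ (by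
      rintro ⟨f, u, hu, v, hf⟩ ⟨g, u', hu', v', hg⟩
      show f (g 1) - f (g 0) = (f 1 - f 0) * (g 1 - g 0)
      rw [hf, hf, hf, hf, hg, hg]; ring)
  let ψ : affSub K a →* Kˣ := φ.toHomUnits
  have hk : ∀ f : affSub K a, f ∈ ψ.ker → ∃ v : K, ∀ x, (f : Equiv.Perm K) x = x + v := by
    rintro ⟨f, u, hu, v, hf⟩ hk
    refine ⟨v, fun x => ?_⟩
    have h1 : f 1 - f 0 = 1 := congrArg Units.val hk
    rw [hf, hf] at h1
    have : (u : K) = 1 := by simpa using h1
    show f x = x + v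
    rw [hf, this, one_mul]
  have : IsMulCommutative ψ.ker := ⟨⟨fun f g => by
    obtain ⟨v, hv⟩ := hk f f.2
    obtain ⟨w, hw⟩ := hk g g.2
    apply Subtype.ext; apply Subtype.ext; apply Equiv.ext; intro x
    show ((f : affSub K a) : Equiv.Perm K) (((g : affSub K a) : Equiv.Perm K) x) =
      ((g : affSub K a) : Equiv.Perm K) (((f : affSub K a) : Equiv.Perm K) x)
    rw [hw, hv, hv, hw]; ring⟩⟩
  open scoped IsMulCommutative in
  exact Group.isSolvable_of_ker_le_range ψ.ker.subtype ψ (Subgroup.range_subtype _).ge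

theorem range_orderOf_prod_eq {A B C D : Type*} [Monoid A] [Monoid B] [Monoid C] [Monoid D]
    (h : ∀ m₁ m₂, ((∃ x : A, orderOf x = m₁) ∧ (∃ y : B, orderOf y = m₂)) →
      ∃ (x : C) (y : D), Nat.lcm (orderOf x) (orderOf y) = Nat.lcm m₁ m₂) :
    Set.range (orderOf : A × B → ℕ) ⊆ Set.range (orderOf : C × D → ℕ) := by
  rintro _ ⟨⟨x, y⟩, rfl⟩
  obtain ⟨x', y', e⟩ := h _ _ ⟨⟨x, rfl⟩, ⟨y, rfl⟩⟩
  exact ⟨(x', y'), by rw [Prod.orderOf, Prod.orderOf]; exact e⟩


/-- Let q ≥ 4 be a prime power and L = PSL(2,q). There is a finite solvable group with the same set of element orders as L × L (so L × L is not determined by its spectrum). -/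
theorem result {F : Type*} [Field F] [Fintype F] (hF : 4 ≤ Fintype.card F) :
    ∃ (H : Type) (_ : Group H) (_ : Finite H), Group.IsSolvable H ∧
      Set.range (orderOf : H → ℕ) = Set.range (orderOf : Matrix.ProjectiveSpecialLinearGroup (Fin 2) F × Matrix.ProjectiveSpecialLinearGroup (Fin 2) F → ℕ) := by
  classical
  obtain ⟨p, hpc⟩ := CharP.exists F
  obtain ⟨r, hp, hr⟩ := FiniteField.card F p
  have : Fact p.Prime := ⟨hp⟩
  set q := Fintype.card F with hq
  set a := (q - 1) / Nat.gcd 2 (q - 1) with ha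
  set b := (q + 1) / Nat.gcd 2 (q - 1) with hb
  have hspec := Cfsg.Agent.SL2Tor.range_orderOf_psl (F := F) p
  rw [← hq, ← ha, ← hb] at hspec
  have hL : ∀ m, (∃ g : Matrix.ProjectiveSpecialLinearGroup (Fin 2) F, orderOf g = m) ↔
      (m ∣ p ∨ m ∣ a ∨ m ∣ b) := fun m => Set.ext_iff.mp hspec m
  let K := GaloisField p (2 * (r : ℕ))
  have hKc : Nat.card Kˣ = (q - 1) * (q + 1) := by
    rw [Nat.card_units, GaloisField.card p (2 * (r : ℕ)) (by have := r.pos; omega), mul_comm 2, pow_mul, ← hr,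
      mul_comm, ← Nat.sq_sub_sq, one_pow]
  have hg : Nat.gcd 2 (q - 1) ∣ q - 1 := Nat.gcd_dvd_right _ _
  have hg2 : Nat.gcd 2 (q - 1) ∣ q + 1 := by
    have : q + 1 = (q - 1) + 2 := by omega
    rw [this]
    exact dvd_add hg (Nat.gcd_dvd_left _ _)
  have haK : a ∣ Nat.card Kˣ := hKc ▸ dvd_mul_of_dvd_left (Nat.div_dvd_of_dvd hg) _
  have hbK : b ∣ Nat.card Kˣ := hKc ▸ dvd_mul_of_dvd_right (Nat.div_dvd_of_dvd hg2) _
  have hab : a.Coprime b := by
    rcases Cfsg.Agent.SL2Tor.gcd_two_cases (q - 1) with hd | hd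
    · rw [ha, hb, hd, Nat.div_one, Nat.div_one, show q + 1 = 2 + (q - 1) by omega,
        Nat.coprime_add_self_right]
      exact Nat.coprime_comm.mp hd
    · obtain ⟨c, hc⟩ : 2 ∣ q - 1 := hd ▸ hg
      rw [ha, hb, hd, show q + 1 = 2 * (c + 1) by omega, hc, Nat.mul_div_cancel_left _ two_pos,
        Nat.mul_div_cancel_left _ two_pos]
      exact Nat.coprime_self_add_right.mpr (Nat.coprime_one_right c)
  have : Group.IsSolvable (affSub K a) := affSub_solvable K a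
  have : Group.IsSolvable (affSub K b) := affSub_solvable K b
  have : Finite (affSub K a × affSub K b) := inferInstance
  refine ⟨affSub K a × affSub K b, inferInstance, this, inferInstance, Set.Subset.antisymm ?_ ?_⟩
  · refine range_orderOf_prod_eq fun m₁ m₂ h => ?_
    obtain ⟨h1, h2⟩ := h
    rw [affSub_spectrum hp haK] at h1
    rw [affSub_spectrum hp hbK] at h2
    obtain ⟨x, hx⟩ := (hL m₁).mpr (by tauto)
    obtain ⟨y, hy⟩ := (hL m₂).mpr (by tauto)
    exact ⟨x, y, by rw [hx, hy]⟩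
  · refine range_orderOf_prod_eq fun m₁ m₂ h => ?_
    obtain ⟨h1, h2⟩ := h
    rw [hL] at h1 h2
    have mk : ∀ n₁ n₂, (n₁ ∣ p ∨ n₁ ∣ a) → (n₂ ∣ p ∨ n₂ ∣ b) → Nat.lcm n₁ n₂ = Nat.lcm m₁ m₂ →
        ∃ (x : affSub K a) (y : affSub K b), Nat.lcm (orderOf x) (orderOf y) = Nat.lcm m₁ m₂ := by
      intro n₁ n₂ k1 k2 e
      obtain ⟨x, hx⟩ := (affSub_spectrum hp haK n₁).mpr k1
      obtain ⟨y, hy⟩ := (affSub_spectrum hp hbK n₂).mpr k2
      exact ⟨x, y, by rw [hx, hy, e]⟩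
    rcases h1 with h1 | h1 | h1 <;> rcases h2 with h2 | h2 | h2
    · exact mk m₁ m₂ (Or.inl h1) (Or.inl h2) rfl
    · exact mk m₂ m₁ (Or.inr h2) (Or.inl h1) (Nat.lcm_comm _ _)
    · exact mk m₁ m₂ (Or.inl h1) (Or.inr h2) rfl
    · exact mk m₁ m₂ (Or.inr h1) (Or.inl h2) rfl
    · exact mk (Nat.lcm m₁ m₂) 1 (Or.inr (Nat.lcm_dvd h1 h2)) (Or.inl (one_dvd _)) (Nat.lcm_one_right _)
    · exact mk m₁ m₂ (Or.inr h1) (Or.inr h2) rfl
    · exact mk m₂ m₁ (Or.inl h2) (Or.inr h1) (Nat.lcm_comm _ _)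
    · exact mk m₂ m₁ (Or.inr h2) (Or.inr h1) (Nat.lcm_comm _ _)
    · exact mk 1 (Nat.lcm m₁ m₂) (Or.inl (one_dvd _)) (Or.inr (Nat.lcm_dvd h1 h2)) (Nat.lcm_one_left _)

end Cfsg.Agent.S3532
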