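import Cfsg.Statements.S3550
import Cfsg.Agent.DerIdx59.Main
import Cfsg.Agent.RecogB.DerIndex

set_option autoImplicit false
open Cfsg

namespace Cfsg.Agent.S3550

/-- Let G act faithfully and primitively on a finite set with n ≥ 2 points and suppose G has no non-trivial abelian normal subgroup (G is not of affine type). Let D be the subgroup generated by the derangements. Then the index of D in G is at most √n − 1. -/
theorem result {G Ω : Type*} [Group G] [Finite G] [MulAction G Ω] [FaithfulSMul G Ω] [Finite Ω]
    (hprim : MulAction.IsPreprimitive G Ω) (hΩ : 2 ≤ Nat.card Ω) (hna : ∀ N : Subgroup G, N.Normal → IsMulCommutative ↥N → N = ⊥) :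
    ((Subgroup.closure {g : G | ∀ ω : Ω, g • ω ≠ ω}).index : ℝ) ≤ Real.sqrt (Nat.card Ω) - 1 := by
  classical
  have htrans : MulAction.IsPretransitive G Ω := inferInstance
  have h4 : 4 ≤ Nat.card Ω := by
    by_contra hlt
    have := Fintype.ofFinite Ω
    let f : G →* Equiv.Perm Ω := MulAction.toPermHom G Ω
    have hf : Function.Injective f := fun a b h =>
      FaithfulSMul.eq_of_smul_eq_smul fun ω : Ω => Equiv.ext_iff.mp h ω
    obtain ⟨ω⟩ : Nonempty Ω := (Nat.card_pos_iff.mp (by omega)).1
    have hGn : Nat.card Ω ≤ Nat.card G :=
      Nat.card_le_card_of_surjective (fun g : G => g • ω) (fun y => MulAction.exists_smul_eq G ω y)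
    rcases (show Nat.card Ω = 2 ∨ Nat.card Ω = 3 by omega) with h | h
    · -- the group itself has order two
      have h1 := Subgroup.card_dvd_of_injective f hf
      rw [Nat.card_perm, h] at h1
      have h2 : Nat.card G = 2 := by
        have := Nat.le_of_dvd (by norm_num) h1
        simp [Nat.factorial] at this
        omega
      have : Fact (Nat.Prime 2) := ⟨Nat.prime_two⟩
      have hc : IsCyclic G := isCyclic_of_prime_card (p := 2) h2
      have hcomm : ∀ a b : G, a * b = b * a := fun a b => hc.commGroup.mul_comm a b
      have := hna ⊤ inferInstance ⟨⟨fun a b => Subtype.ext (hcomm a b)⟩⟩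
      have h5 := congrArg (fun H : Subgroup G => Nat.card H) this
      simp only [Subgroup.card_top, Subgroup.card_bot] at h5
      omega
    · -- the even permutations form an abelian normal subgroup
      let N : Subgroup G := (alternatingGroup Ω).comap f
      have : Nontrivial Ω := Fintype.one_lt_card_iff_nontrivial.mp (by rw [← Nat.card_eq_fintype_card]; omega)
      have hN3 : Nat.card N ∣ 3 := by
        let g : N →* alternatingGroup Ω :=
          { toFun := fun x => ⟨f x, x.2⟩
            map_one' := Subtype.ext (map_one f)
            map_mul' := fun x y => Subtype.ext (map_mul f x.1 y) }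
        have h1 := Subgroup.card_dvd_of_injective g (fun x y e => Subtype.ext (hf (congrArg Subtype.val e)))
        rw [show Nat.card (alternatingGroup Ω) = 3 by
          rw [nat_card_alternatingGroup, h]; rfl] at h1
        exact h1
      have hne : N ≠ ⊥ := by
        intro hb
        have hker : (Equiv.Perm.sign.comp f).ker = ⊥ := by
          rw [← hb]; ext x
          simp [N, Equiv.Perm.mem_alternatingGroup, MonoidHom.mem_ker]
        have h1 := Nat.card_le_card_of_injective _ ((MonoidHom.ker_eq_bot_iff _).mp hker)
        rw [Nat.card_eq_fintype_card (α := ℤˣ)] at h1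
        simp at h1
        omega
      have : N.Normal := inferInstance
      apply hne
      refine hna N inferInstance ?_
      rcases (Nat.dvd_prime Nat.prime_three).mp hN3 with h1 | h1
      · exact absurd (Subgroup.eq_bot_of_card_eq N h1) hne
      · have : Fact (Nat.Prime 3) := ⟨Nat.prime_three⟩
        have hc : IsCyclic N := isCyclic_of_prime_card (p := 3) h1
        exact ⟨⟨fun a b => hc.commGroup.mul_comm a b⟩⟩
  rcases DerIdx59.bound_or_frobenius (G := G) (Ω := Ω) h4 with h | ⟨⟨P, hPn, hP1, hPc⟩, -⟩
  · have h' : (((RecogB.derSub G Ω).index : ℝ) + 1) ^ 2 ≤ (Nat.card Ω : ℝ) := by exact_mod_cast h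
    show ((RecogB.derSub G Ω).index : ℝ) ≤ _
    have := (le_abs_self (((RecogB.derSub G Ω).index : ℝ) + 1)).trans (Real.abs_le_sqrt h')
    linarith
  · exact absurd (hna P hPn ⟨⟨fun a b => Subtype.ext (hPc a a.2 b b.2)⟩⟩) hP1

end Cfsg.Agent.S3550
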