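import Cfsg.Statements.S3554
import Mathlib

set_option autoImplicit false
open Cfsg

namespace Cfsg.Agent.S3554

/-- Let G act faithfully and transitively on a finite set and suppose G has a non-trivial cyclic normal subgroup. Then some element of G of prime order fixes no point. -/
theorem result {G Ω : Type*} [Group G] [Finite G] [MulAction G Ω] [FaithfulSMul G Ω] [Finite Ω]
    (htrans : MulAction.IsPretransitive G Ω) (C : Subgroup G) (hC : C.Normal) (hC1 : C ≠ ⊥) (hcyc : IsCyclic ↥C) :
    ∃ g : G, (orderOf g).Prime ∧ ∀ ω : Ω, g • ω ≠ ω := by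
  classical
  have hC' : C.Normal := hC
  have : IsCyclic C := hcyc
  obtain ⟨p, hp, hdvd⟩ := Nat.exists_prime_and_dvd (n := Nat.card C) (fun h => hC1 (Subgroup.card_eq_one.mp h))
  have : Fact p.Prime := ⟨hp⟩
  obtain ⟨c, hc⟩ := exists_prime_orderOf_dvd_card' p hdvd
  have hc' : orderOf (c : G) = p := by rw [← hc]; exact Subgroup.orderOf_coe c
  refine ⟨(c : G), by rw [hc']; exact hp, fun ω hω => ?_⟩
  have key : ∀ η : Ω, (c : G) • η = η := by
    intro η
    obtain ⟨x, rfl⟩ := MulAction.exists_smul_eq G ω η
    have hconj : x⁻¹ * (c : G) * x ∈ C := by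
      simpa using hC'.conj_mem _ c.2 x⁻¹
    have hord : orderOf (⟨_, hconj⟩ : C) = p := by
      rw [← Subgroup.orderOf_coe]
      have h : (MulAut.conj x⁻¹) (c : G) = x⁻¹ * (c : G) * x := by simp [mul_assoc]
      show orderOf (x⁻¹ * (c : G) * x) = p
      rw [← h, MulEquiv.orderOf_eq, hc']
    have hcm : (⟨_, hconj⟩ : C) ∈ Subgroup.zpowers c := by
      have := Fintype.ofFinite C
      have hsub : (Finset.univ.filter (fun a : C => a ∈ Subgroup.zpowers c)) ⊆
          Finset.univ.filter (fun a : C => a ^ p = 1) := by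
        intro a ha
        simp only [Finset.mem_filter, Finset.mem_univ, true_and] at ha ⊢
        obtain ⟨i, rfl⟩ := Subgroup.mem_zpowers_iff.mp ha
        rw [← zpow_natCast, ← zpow_mul, mul_comm, zpow_mul, zpow_natCast, ← hc,
          pow_orderOf_eq_one, one_zpow]
      have heq := Finset.eq_of_subset_of_card_le hsub (by
        refine le_trans (IsCyclic.card_pow_eq_one_le hp.pos) (le_of_eq ?_)
        rw [← Fintype.card_subtype, ← Nat.card_eq_fintype_card]
        exact ((Nat.card_zpowers c).trans hc).symm)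
      have hm : (⟨_, hconj⟩ : C) ∈ Finset.univ.filter (fun a : C => a ^ p = 1) := by
        simp only [Finset.mem_filter, Finset.mem_univ, true_and]
        rw [← hord]; exact pow_orderOf_eq_one _
      rw [← heq] at hm
      simpa using hm
    have hst : Subgroup.zpowers c ≤ (MulAction.stabilizer G ω).subgroupOf C := by
      rw [Subgroup.zpowers_le]; exact hω
    have hfix : (x⁻¹ * (c : G) * x) • ω = ω := hst hcm
    rw [mul_smul, mul_smul, inv_smul_eq_iff] at hfix
    exact hfix
  have h1 : (c : G) = 1 := FaithfulSMul.eq_of_smul_eq_smul (fun η : Ω => by rw [key η, one_smul])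
  rw [h1, orderOf_one] at hc'
  exact hp.one_lt.ne hc'

end Cfsg.Agent.S3554
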