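import Cfsg.Statements.S3555
import Mathlib

set_option autoImplicit false
open Cfsg
open scoped Pointwise

namespace Cfsg.Agent.S3555

section
open MulAction

variable {G Ω : Type*} [Group G] [Fintype G] [MulAction G Ω] [Fintype Ω] [DecidableEq Ω]

/-- The number of fixed points. -/
def fix (g : G) : ℕ := (Finset.univ.filter fun ω : Ω => g • ω = ω).card

theorem sum_fix_sq_le :
    ∑ g : G, fix (Ω := Ω) (g ^ 2) ≤ ∑ g : G, fix (Ω := Ω) g ^ 2 := by
  classical
  have hL : ∀ g : G, fix (Ω := Ω) (g ^ 2) =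
      (Finset.univ.filter fun p : Ω × Ω => g • p.1 = p.2 ∧ g • p.2 = p.1).card := by
    intro g
    refine Finset.card_bij (fun ω _ => (ω, g • ω)) ?_ ?_ ?_
    · intro ω hω
      simp only [Finset.mem_filter, Finset.mem_univ, true_and, pow_two, mul_smul] at hω ⊢
      exact hω
    · intro a _ b _ h
      exact (Prod.mk.inj h).1
    · rintro ⟨a, b⟩ hp
      simp only [Finset.mem_filter, Finset.mem_univ, true_and] at hp
      refine ⟨a, ?_, by rw [hp.1]⟩
      simp only [Finset.mem_filter, Finset.mem_univ, true_and, pow_two, mul_smul, hp.1, hp.2]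
  have hR : ∀ g : G, fix (Ω := Ω) g ^ 2 =
      (Finset.univ.filter fun p : Ω × Ω => g • p.1 = p.1 ∧ g • p.2 = p.2).card := by
    intro g
    rw [pow_two, fix, ← Finset.card_product, ← Finset.filter_product, Finset.univ_product_univ]
  simp only [hL, hR, Finset.card_filter]
  rw [Finset.sum_comm, Finset.sum_comm (f := fun (g : G) (p : Ω × Ω) =>
    if g • p.1 = p.1 ∧ g • p.2 = p.2 then 1 else 0)]
  refine Finset.sum_le_sum fun p _ => ?_
  rw [← Finset.card_filter, ← Finset.card_filter]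
  rcases (Finset.univ.filter fun g : G => g • p.1 = p.2 ∧ g • p.2 = p.1).eq_empty_or_nonempty with
    h | ⟨g₀, h⟩
  · simp [h]
  simp only [Finset.mem_filter, Finset.mem_univ, true_and] at h
  refine Finset.card_le_card_of_injOn (fun g => g₀⁻¹ * g) (fun g hg => ?_)
    fun a _ b _ hab => mul_left_cancel hab
  simp only [Finset.mem_coe, Finset.mem_filter, Finset.mem_univ, true_and, mul_smul,
    inv_smul_eq_iff] at hg ⊢
  exact ⟨hg.1.trans h.1.symm, hg.2.trans h.2.symm⟩

theorem sum_fix [Nonempty Ω] [IsPretransitive G Ω] :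
    ∑ g : G, fix (Ω := Ω) g = Fintype.card G := by
  classical
  have h := MulAction.sum_card_fixedBy_eq_card_orbits_mul_card_group G Ω
  have h1 : Fintype.card (Quotient (orbitRel G Ω)) = 1 :=
    Fintype.card_eq_one_iff.2 ⟨⟦Classical.arbitrary Ω⟧, fun x => Quotient.inductionOn x fun y =>
      Quotient.sound (MulAction.exists_smul_eq G (Classical.arbitrary Ω) y)⟩
  rw [h1, one_mul] at h
  rw [← h]
  exact Finset.sum_congr rfl fun g _ => (Fintype.card_subtype _).symm

theorem fix_le_one [Nonempty Ω] [IsPretransitive G Ω] [FaithfulSMul G Ω]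
    (hinv : ∀ g : G, (∀ ω : Ω, g • ω ≠ ω) → g ^ 2 = 1) (g : G) (hg : g ≠ 1) :
    fix (Ω := Ω) g ≤ 1 := by
  classical
  set n : ℤ := (Fintype.card Ω : ℤ) with hn
  have hle : ∀ x : G, (fix (Ω := Ω) x : ℤ) ≤ n := fun x =>
    Int.ofNat_le.2 (Finset.card_le_univ _)
  have hmono : ∀ x : G, (fix (Ω := Ω) x : ℤ) ≤ fix (Ω := Ω) (x ^ 2) := fun x => by
    refine Int.ofNat_le.2 (Finset.card_le_card fun ω hω => ?_)
    simp only [Finset.mem_filter, Finset.mem_univ, true_and] at hω ⊢
    rw [pow_two, mul_smul, hω, hω]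
  have hzero : ∀ x : G, fix (Ω := Ω) x = 0 → (fix (Ω := Ω) (x ^ 2) : ℤ) = n := fun x hx => by
    rw [hinv x fun ω hω => Finset.filter_eq_empty_iff.1 (Finset.card_eq_zero.1 hx)
      (Finset.mem_univ ω) hω]
    simp [fix, hn]
  have hpt : ∀ x : G, n - n * fix (Ω := Ω) x ≤
      (fix (Ω := Ω) (x ^ 2) : ℤ) - (fix (Ω := Ω) x : ℤ) ^ 2 := fun x => by
    rcases Nat.eq_zero_or_pos (fix (Ω := Ω) x) with h | h
    · rw [hzero x h, h]; simp
    · nlinarith [hmono x, hle x, (Int.ofNat_le.2 h : ((1 : ℕ) : ℤ) ≤ fix (Ω := Ω) x)]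
  have hsum : ∑ x : G, (n - n * fix (Ω := Ω) x) = 0 := by
    rw [Finset.sum_sub_distrib, Finset.sum_const, ← Finset.mul_sum, ← Nat.cast_sum, sum_fix,
      nsmul_eq_mul, Finset.card_univ]
    ring
  have hsum2 : ∑ x : G, ((fix (Ω := Ω) (x ^ 2) : ℤ) - (fix (Ω := Ω) x : ℤ) ^ 2) ≤ 0 := by
    rw [Finset.sum_sub_distrib, sub_nonpos]
    exact_mod_cast sum_fix_sq_le (G := G) (Ω := Ω)
  have heq := (Finset.sum_eq_sum_iff_of_le fun x _ => hpt x).1
    (le_antisymm (Finset.sum_le_sum fun x _ => hpt x) (hsum2.trans hsum.ge)) g (Finset.mem_univ g)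
  by_contra hgt
  have hlt : fix (Ω := Ω) g < Fintype.card Ω := by
    refine lt_of_le_of_ne (Finset.card_le_univ _) fun h => hg (FaithfulSMul.eq_of_smul_eq_smul
      (α := Ω) fun ω => ?_)
    have := Finset.eq_univ_iff_forall.1 (Finset.eq_univ_of_card _ h) ω
    simpa using this
  nlinarith [hmono g, mul_pos (by exact_mod_cast (by omega : 0 < fix (Ω := Ω) g - 1) :
      (0 : ℤ) < ((fix (Ω := Ω) g - 1 : ℕ) : ℤ))
    (by exact_mod_cast (by omega : 0 < Fintype.card Ω - fix (Ω := Ω) g) :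
      (0 : ℤ) < ((Fintype.card Ω - fix (Ω := Ω) g : ℕ) : ℤ)),
    Nat.cast_sub (R := ℤ) (by omega : 1 ≤ fix (Ω := Ω) g),
    Nat.cast_sub (R := ℤ) hlt.le]

end

/-- Let G act faithfully and transitively on a finite set and suppose every element of G fixing no point is an involution. Then either G is an elementary abelian 2-group, or G is a Frobenius group whose Frobenius kernel is an elementary abelian 2-group: G has a Frobenius complement H, and the elements lying in no conjugate of H, together with the identity, pairwise commute and square to the identity. -/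
theorem result {G Ω : Type*} [Group G] [Finite G] [MulAction G Ω] [FaithfulSMul G Ω] [Finite Ω]
    (htrans : MulAction.IsPretransitive G Ω) (hinv : ∀ g : G, (∀ ω : Ω, g • ω ≠ ω) → orderOf g = 2) :
    (IsMulCommutative G ∧ ∀ g : G, g ^ 2 = 1) ∨
    (∃ H : Subgroup G, Cfsg.IsFrobeniusComplement H ∧
      (∀ x ∈ Cfsg.frobeniusKernel H, x ^ 2 = 1) ∧
      ∀ x ∈ Cfsg.frobeniusKernel H, ∀ y ∈ Cfsg.frobeniusKernel H, x * y = y * x) := by
  classical
  haveI := Fintype.ofFinite G
  haveI := Fintype.ofFinite Ω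
  haveI := htrans
  haveI : Nonempty Ω := by
    by_contra hne
    have h := hinv 1 fun ω => (hne ⟨ω⟩).elim
    simp at h
  have hinv2 : ∀ g : G, (∀ ω : Ω, g • ω ≠ ω) → g ^ 2 = 1 := fun g hg => by
    rw [← hinv g hg]; exact pow_orderOf_eq_one g
  have huniq : ∀ g : G, g ≠ 1 → ∀ a b : Ω, g • a = a → g • b = b → a = b := fun g hg a b ha hb =>
    Finset.card_le_one.1 (fix_le_one hinv2 g hg) a (by simpa using ha) b (by simpa using hb)
  obtain ⟨ω₀⟩ := ‹Nonempty Ω›
  have hprod : ∀ x y : G, (x = 1 ∨ ∀ ω : Ω, x • ω ≠ ω) → (y = 1 ∨ ∀ ω : Ω, y • ω ≠ ω) →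
      x * y = y * x := by
    intro x y hx hy
    rcases hx with rfl | hx
    · simp
    rcases hy with rfl | hy
    · simp
    have hxx := hinv2 x hx
    have hyy := hinv2 y hy
    rw [pow_two] at hxx hyy
    have key : (x * y) ^ 2 = 1 := by
      by_cases h1 : x * y = 1
      · simp [h1]
      refine hinv2 _ fun ω hω => hx ω ?_
      refine (huniq _ h1 (x • ω) ω ?_ hω)
      have hω' : (x * y)⁻¹ • ω = ω := inv_smul_eq_iff.2 hω.symm
      have e : (x * y) * x = x * (x * y)⁻¹ := by
        rw [mul_inv_rev, inv_eq_of_mul_eq_one_right hxx, inv_eq_of_mul_eq_one_right hyy, mul_assoc]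
      rw [← mul_smul, e, mul_smul, hω']
    rw [pow_two] at key
    calc x * y = (x * y)⁻¹ := (inv_eq_of_mul_eq_one_right key).symm
      _ = y * x := by
        rw [mul_inv_rev, inv_eq_of_mul_eq_one_right hxx, inv_eq_of_mul_eq_one_right hyy]
  by_cases hH : MulAction.stabilizer G ω₀ = ⊥
  · left
    have hfree : ∀ g : G, g = 1 ∨ ∀ ω : Ω, g • ω ≠ ω := by
      intro g
      by_cases hg : g = 1
      · exact Or.inl hg
      refine Or.inr fun ω hω => ?_
      obtain ⟨k, rfl⟩ := MulAction.exists_smul_eq G ω₀ ω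
      have hmem : k⁻¹ * g * k ∈ MulAction.stabilizer G ω₀ := by
        rw [MulAction.mem_stabilizer_iff, mul_smul, mul_smul, hω, inv_smul_smul]
      rw [hH, Subgroup.mem_bot] at hmem
      exact hg (by simpa [mul_assoc, inv_mul_eq_one, mul_eq_right] using hmem)
    refine ⟨⟨⟨fun x y => hprod x y (hfree x) (hfree y)⟩⟩, fun g => ?_⟩
    rcases hfree g with rfl | h
    · simp
    · exact hinv2 g h
  right
  refine ⟨MulAction.stabilizer G ω₀, ⟨hH, fun htop => hH ?_, fun g hg => ?_⟩, ?_, ?_⟩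
  · refine (Subgroup.eq_bot_iff_forall _).2 fun g hg => FaithfulSMul.eq_of_smul_eq_smul (α := Ω)
      fun ω => ?_
    obtain ⟨k, rfl⟩ := MulAction.exists_smul_eq G ω₀ ω
    have hk : ∀ z : G, z • ω₀ = ω₀ := fun z => by
      rw [← MulAction.mem_stabilizer_iff, htop]; trivial
    rw [hk k, one_smul, hk g]
  · rw [Subgroup.eq_bot_iff_forall]
    rintro x ⟨hx1, hx2⟩
    by_contra hx
    replace hx2 : x ∈ MulAut.conj g • MulAction.stabilizer G ω₀ := hx2
    rw [Subgroup.mem_pointwise_smul_iff_inv_smul_mem] at hx2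
    simp only [← map_inv, MulAut.smul_def, MulAut.conj_apply, inv_inv,
      MulAction.mem_stabilizer_iff, mul_smul, inv_smul_eq_iff] at hx2
    exact hg (huniq x hx (g • ω₀) ω₀ hx2 hx1)
  all_goals
    have hker : ∀ x ∈ Cfsg.frobeniusKernel (MulAction.stabilizer G ω₀),
        x = 1 ∨ ∀ ω : Ω, x • ω ≠ ω := by
      rintro x (rfl | hx)
      · exact Or.inl rfl
      refine Or.inr fun ω hω => ?_
      obtain ⟨k, rfl⟩ := MulAction.exists_smul_eq G ω₀ ω
      apply hx k
      rw [Subgroup.mem_pointwise_smul_iff_inv_smul_mem]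
      simp only [← map_inv, MulAut.smul_def, MulAut.conj_apply, inv_inv,
        MulAction.mem_stabilizer_iff, mul_smul, hω, inv_smul_smul]
  · intro x hx
    rcases hker x hx with rfl | h
    · simp
    · exact hinv2 x h
  · exact fun x hx y hy => hprod x y (hker x hx) (hker y hy)

end Cfsg.Agent.S3555
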