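import Cfsg.Statements.S3556
import Cfsg.Agent.RecogB.PrimCases

set_option autoImplicit false
open Cfsg

namespace Cfsg.Agent.S3556

/-- Let G act faithfully and primitively on a finite set with at least two points, and suppose that for some fixed prime p every element of G fixing no point has order a power of p. Then G is of affine type (it has a regular normal subgroup that is an elementary abelian r-group for some prime r) or almost simple (it has a non-abelian simple normal subgroup with trivial centralizer). -/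
theorem result {G Ω : Type*} [Group G] [Finite G] [MulAction G Ω] [FaithfulSMul G Ω] [Finite Ω]
    (hprim : MulAction.IsPreprimitive G Ω) (hΩ : 2 ≤ Nat.card Ω) (p : ℕ) (hp : p.Prime)
    (hder : ∀ g : G, (∀ ω : Ω, g • ω ≠ ω) → ∃ k : ℕ, orderOf g = p ^ k) :
    (∃ (N : Subgroup G) (r : ℕ), r.Prime ∧ N.Normal ∧ Cfsg.IsElementaryAbelian r N ∧
      MulAction.IsPretransitive N Ω ∧ ∀ a : Ω, MulAction.stabilizer N a = ⊥) ∨
    (∃ T : Subgroup G, T.Normal ∧ IsSimpleGroup ↥T ∧ ¬ IsMulCommutative ↥T ∧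
      Subgroup.centralizer (T : Set G) = ⊥) := by
  rcases Cfsg.Agent.RecogB.primitive_cases (G := G) hΩ with ⟨N, r, hr, hNn, -, hab, hpow, hNt, hreg⟩ | h |
    ⟨N, T, hNn, hmin, hNt, hT, hcase⟩
  · exact Or.inl ⟨N, r, hr, hNn, ⟨hab, hpow⟩, hNt, hreg⟩
  · exact Or.inr h
  exfalso
  have hsemi : ∀ (_ : ∀ x ∈ T, x ≠ 1 → ∀ ω : Ω, x • ω ≠ ω), False := by
    intro hsr
    obtain ⟨x, hx, hxp, hxne⟩ := hT.exists_orderOf_ne p
    obtain ⟨k, hk⟩ := hder x (hsr x hx (fun e => by rw [e, orderOf_one] at hxp; exact Nat.not_prime_one hxp))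
    rcases k with _ | k
    · rw [hk, pow_zero] at hxp; exact Nat.not_prime_one hxp
    · exact hxne ((Nat.prime_dvd_prime_iff_eq hp hxp).mp (by rw [hk]; exact dvd_pow_self p (by omega))).symm
  rcases hcase with hTN | hsr
  swap
  · exact hsemi hsr
  rcases hT.derangement_cases hmin hNt with hsr | ⟨x, hx, -, hxy⟩
  · exact hsemi hsr
  obtain ⟨g, hg⟩ := hT.exists_other hmin hTN
  obtain ⟨y, hy, hyp, hyne⟩ := (hT.cj g).exists_orderOf_ne p
  have hyB : y ∈ N ⊓ Subgroup.centralizer (T : Set G) :=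
    ⟨(hT.cj g).le hy, hT.le_centralizer_of_ne (hT.cj g) hg hy⟩
  obtain ⟨k, hk⟩ := hder (x * y) (hxy y hyB)
  have hc : Commute x y := Subgroup.mem_centralizer_iff.mp hyB.2 x hx
  have h1 := pow_orderOf_eq_one (x * y)
  rw [hk, hc.mul_pow] at h1
  have h2 : y ^ p ^ k = 1 := by
    refine hT.eq_one_of_mem_centralizer ?_ (pow_mem hyB.2 _)
    rw [eq_inv_of_mul_eq_one_right h1]
    exact inv_mem (pow_mem hx _)
  obtain ⟨i, -, hi⟩ := (Nat.dvd_prime_pow hp).mp (orderOf_dvd_of_pow_eq_one h2)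
  rcases i with _ | i
  · rw [hi, pow_zero] at hyp; exact Nat.not_prime_one hyp
  · exact hyne ((Nat.prime_dvd_prime_iff_eq hp hyp).mp (by rw [hi]; exact dvd_pow_self p (by omega))).symm

end Cfsg.Agent.S3556
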