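import Cfsg.Statements.S3557
import Cfsg.Agent.Lib.PGroup.Basic
import Cfsg.Agent.Lib.Perm.Basic

set_option autoImplicit false
open Cfsg

namespace Cfsg.Agent.S3557

/-- Let G act faithfully and transitively on a finite set with 2p² points, p a prime, and suppose G is 2-closed: every permutation of the set which, on each ordered pair of points, agrees with some element of G, is itself induced by an element of G. Then some element of G of prime order fixes no point. -/
theorem result {G Ω : Type*} [Group G] [Finite G] [MulAction G Ω] [FaithfulSMul G Ω] [Finite Ω]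
    (htrans : MulAction.IsPretransitive G Ω) (p : ℕ) (hp : p.Prime) (hcard : Nat.card Ω = 2 * p ^ 2)
    (hcl : ∀ σ : Equiv.Perm Ω, (∀ a b : Ω, ∃ g : G, σ a = g • a ∧ σ b = g • b) → ∃ g : G, ∀ a : Ω, σ a = g • a) :
    ∃ g : G, (orderOf g).Prime ∧ ∀ ω : Ω, g • ω ≠ ω := by
  classical
  have : Fact p.Prime := ⟨hp⟩
  have : Fintype Ω := Fintype.ofFinite Ω
  have : Nonempty Ω := (Nat.card_pos_iff.mp (by rw [hcard]; have := pow_pos hp.pos 2; omega)).1
  obtain ⟨P⟩ : Nonempty (Sylow p G) := inferInstance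
  -- orbit sizes of a Sylow subgroup
  have horb : ∀ x : Ω, ∃ k, Nat.card (MulAction.orbit P x) = p ^ k ∧ p ^ 2 ≤ p ^ k ∧
      (p = 2 → 8 ≤ p ^ k) := by
    intro x
    have h1 := Cfsg.Agent.Perm.card_orbit_mul_card_stabilizer (G := P) x
    obtain ⟨j, hj⟩ := IsPGroup.iff_card.mp P.2
    have hd : Nat.card (MulAction.orbit P x) ∣ p ^ j := by
      rw [← hj, ← h1]; exact Dvd.intro _ rfl
    obtain ⟨k, hk, hk'⟩ := (Nat.dvd_prime_pow hp).mp hd
    have key : ∀ i, p ^ i ∣ Nat.card Ω → p ^ i ∣ Nat.card (MulAction.orbit P x) := by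
      intro i hi
      have h2 := Cfsg.Agent.Perm.card_orbit_mul_card_stabilizer (G := G) x
      rw [MulAction.orbit_eq_univ, Nat.card_coe_set_eq, Set.ncard_univ] at h2
      obtain ⟨j', hj'⟩ := IsPGroup.iff_card.mp (P.2.to_subgroup (MulAction.stabilizer P x))
      have h3 : p ^ (i + j') ∣ Nat.card G := by
        rw [← h2, pow_add]
        refine Nat.mul_dvd_mul hi ?_
        rw [← hj']
        exact Subgroup.card_dvd_of_injective ((P.toSubgroup.subtype).comp (MulAction.stabilizer P x).subtype |>.codRestrict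
          (MulAction.stabilizer G x) (fun g => g.2))
          (fun a b e => by
            have := congrArg Subtype.val e
            exact Subtype.ext (Subtype.ext this))
      have h4 : p ^ (i + j') ∣ Nat.card P := P.pow_dvd_card_of_pow_dvd_card h3
      have h5 : Nat.card P = Nat.card (MulAction.orbit P x) * p ^ j' := by rw [← hj', h1]
      rw [h5, pow_add] at h4
      exact Nat.dvd_of_mul_dvd_mul_right (pow_pos hp.pos j') h4
    have : Nonempty (MulAction.orbit P x) := ⟨⟨x, MulAction.mem_orbit_self x⟩⟩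
    refine ⟨k, hk', ?_, fun h2 => ?_⟩
    · rw [← hk']
      exact Nat.le_of_dvd Nat.card_pos (key 2 (hcard ▸ Dvd.intro_left 2 rfl))
    · rw [← hk']
      refine Nat.le_of_dvd Nat.card_pos ?_
      have := key 3 (by rw [hcard, h2]; norm_num)
      rwa [show p ^ 3 = 8 by rw [h2]; norm_num] at this
  have hPfaith : ∀ g : P, (∀ x : Ω, g • x = x) → g = 1 := fun g h =>
    Subtype.ext (FaithfulSMul.eq_of_smul_eq_smul (fun x : Ω => (h x).trans (one_smul G x).symm))
  have hord : ∀ g : P, orderOf g = p → (∀ x : Ω, g • x ≠ x) → ∃ g : G, (orderOf g).Prime ∧ ∀ ω : Ω, g • ω ≠ ω :=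
    fun g h1 h2 => ⟨g, by rw [Subgroup.orderOf_coe, h1]; exact hp, h2⟩
  -- central elements
  have hPnt : Nontrivial P := by
    rw [← not_subsingleton_iff_nontrivial]
    intro hs
    obtain ⟨x⟩ := ‹Nonempty Ω›
    obtain ⟨k, hk, hk2, -⟩ := horb x
    have : Nat.card (MulAction.orbit P x) ≤ 1 := by
      refine (Nat.card_le_card_of_surjective (fun g : P => (⟨g • x, g, rfl⟩ : MulAction.orbit P x))
        (fun ⟨y, g, hg⟩ => ⟨g, Subtype.ext hg⟩)).trans (le_of_eq ?_)
      exact Nat.card_of_subsingleton (1 : P)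
    have := Nat.one_lt_pow two_ne_zero hp.one_lt
    omega
  have hcent : ∀ N : Subgroup P, N.Normal → N ≠ ⊥ → ∃ z ∈ N, z ∈ Subgroup.center P ∧ orderOf z = p := by
    intro N hN hne
    have h1 := Cfsg.Agent.PGroup.inf_center_ne_bot P.2 (hN := hN) hne
    have h2 : p ∣ Nat.card (N ⊓ Subgroup.center P : Subgroup P) := by
      obtain ⟨j, hj⟩ := IsPGroup.iff_card.mp (P.2.to_subgroup (N ⊓ Subgroup.center P))
      rcases Nat.eq_zero_or_pos j with h | h
      · rw [h, pow_zero] at hj; exact absurd (Subgroup.eq_bot_of_card_eq _ hj) h1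
      · exact hj ▸ dvd_pow_self p h.ne'
    obtain ⟨z, hz⟩ := exists_prime_orderOf_dvd_card' p h2
    exact ⟨z, z.2.1, z.2.2, (Subgroup.orderOf_coe z).trans hz⟩
  obtain ⟨z, -, hzc, hzo⟩ := hcent ⊤ inferInstance (fun e => by
    obtain ⟨a, b, hab⟩ := exists_pair_ne P
    exact hab (by
      have ha : a ∈ (⊤ : Subgroup P) := trivial
      have hb : b ∈ (⊤ : Subgroup P) := trivial
      rw [e, Subgroup.mem_bot] at ha hb
      rw [ha, hb]))
  by_cases hzf : ∀ x : Ω, z • x ≠ x
  · exact hord z hzo hzf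
  push Not at hzf
  obtain ⟨y, hy⟩ := hzf
  have hfix : ∀ c : P, c ∈ Subgroup.center P → ∀ (u v : Ω), v ∈ MulAction.orbit P u → c • u = u → c • v = v := by
    rintro c hc u v ⟨g, rfl⟩ h
    show c • g • u = g • u
    rw [← mul_smul, ← Subgroup.mem_center_iff.mp hc g, mul_smul, h]
  set D' := MulAction.orbit P y with hD'
  obtain ⟨x, hx⟩ : ∃ x : Ω, z • x ≠ x := by
    by_contra hc
    push Not at hc
    rw [hPfaith z hc, orderOf_one] at hzo
    exact hp.one_lt.ne hzo
  set D := MulAction.orbit P x with hD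
  have hdis : Disjoint D D' := by
    rw [Set.disjoint_left]
    intro v hv hv'
    exact hx (hfix z hzc v x (MulAction.mem_orbit_symm.mp hv) (hfix z hzc y v hv' hy))
  obtain ⟨k₁, hk₁, hk₁2, hk₁8⟩ := horb x
  obtain ⟨k₂, hk₂, hk₂2, hk₂8⟩ := horb y
  rw [Nat.card_coe_set_eq] at hk₁ hk₂
  rw [← hD] at hk₁
  rw [← hD'] at hk₂
  have hsum : D.ncard + D'.ncard ≤ 2 * p ^ 2 := by
    rw [← Set.ncard_union_eq hdis, ← hcard, ← Set.ncard_univ Ω]
    exact Set.ncard_le_ncard (Set.subset_univ _)
  have hcases : ∀ v : Ω, v ∈ D ∨ v ∈ D' := by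
    intro v
    have : D ∪ D' = Set.univ := by
      refine Set.eq_of_subset_of_ncard_le (Set.subset_univ _) ?_
      rw [Set.ncard_union_eq hdis, Set.ncard_univ, hcard]
      omega
    exact (Set.ext_iff.mp this v).mpr (Set.mem_univ v)
  have hD'2 : D'.ncard = p ^ 2 := by omega
  have hDmem : ∀ (g : P) (v : Ω), v ∈ D → g • v ∈ D := fun g v hv => MulAction.mem_orbit_of_mem_orbit g hv
  have hD'mem : ∀ (g : P) (v : Ω), v ∈ D' → g • v ∈ D' := fun g v hv => MulAction.mem_orbit_of_mem_orbit g hv
  have hzD : ∀ v ∈ D, z • v ≠ v := fun v hv h => hx (hfix z hzc v x (MulAction.mem_orbit_symm.mp hv) h)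
  have hzD' : ∀ v ∈ D', z • v = v := fun v hv => hfix z hzc y v hv hy
  let fixer : Set Ω → Subgroup P := fun S => fixingSubgroup P S
  have hnorm : ∀ S : Set Ω, (∀ (g : P) (v : Ω), v ∈ S → g • v ∈ S) → (fixer S).Normal := by
    intro S hS
    refine ⟨fun k hk g => ?_⟩
    simp only [fixer, mem_fixingSubgroup_iff] at hk ⊢
    intro v hv
    rw [mul_smul, mul_smul, hk _ (hS g⁻¹ v hv), smul_inv_smul]
  -- the action on the first orbit is faithful
  by_cases hL : fixer D = ⊥
  swap
  · obtain ⟨c, hc, hcc, hco⟩ := hcent (fixer D) (hnorm D hDmem) hL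
    simp only [fixer, mem_fixingSubgroup_iff] at hc
    refine hord (z * c) ?_ fun v => ?_
    · refine orderOf_eq_prime ?_ fun e => ?_
      · rw [Commute.mul_pow (show Commute z c from Subgroup.mem_center_iff.mp hcc z),
          orderOf_dvd_iff_pow_eq_one.mp (dvd_of_eq hzo), orderOf_dvd_iff_pow_eq_one.mp (dvd_of_eq hco), one_mul]
      · have := hzD x (MulAction.mem_orbit_self x)
        rw [eq_inv_of_mul_eq_one_left e] at this
        exact this (inv_smul_eq_iff.mpr (hc x (MulAction.mem_orbit_self x)).symm)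
    · rw [mul_smul]
      rcases hcases v with hv | hv
      · rw [hc v hv]; exact hzD v hv
      · rw [hzD' _ (hD'mem c v hv)]
        intro h
        have h' : c • y = y := hfix c hcc v y (MulAction.mem_orbit_symm.mp hv) h
        refine hp.one_lt.ne (hco ▸ ?_)
        rw [hPfaith c (fun w => (hcases w).elim (hc w) (fun hw => hfix c hcc y w hw h')), orderOf_one]
  set K := fixer D' with hK
  have hKn : K.Normal := hnorm D' hD'mem
  have hzK : z ∈ K := by
    simp only [K, fixer, mem_fixingSubgroup_iff]; exact hzD'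
  let O := MulAction.orbitRel.Quotient K Ω
  let M : Subgroup P :=
    { carrier := {g | ∀ v ∈ D, g • v ∈ MulAction.orbit K v}
      one_mem' := fun v _ => by rw [one_smul]; exact MulAction.mem_orbit_self v
      mul_mem' := fun {a b} ha hb v hv => by
        rw [mul_smul, ← MulAction.orbit_eq_iff]
        exact (MulAction.orbit_eq_iff.mpr (ha _ (hDmem b v hv))).trans (MulAction.orbit_eq_iff.mpr (hb v hv))
      inv_mem' := fun {a} ha v hv => by
        rw [← MulAction.orbit_eq_iff]
        have := MulAction.orbit_eq_iff.mpr (ha _ (hDmem a⁻¹ v hv))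
        rw [smul_inv_smul] at this
        exact this.symm }
  have horbK : ∀ (g : P) (u v : Ω), u ∈ MulAction.orbit K v → g • u ∈ MulAction.orbit K (g • v) := by
    rintro g u v ⟨⟨k, hk⟩, rfl⟩
    refine ⟨⟨g * k * g⁻¹, hKn.conj_mem k hk g⟩, ?_⟩
    show (g * k * g⁻¹) • g • v = g • k • v
    rw [mul_smul, mul_smul, inv_smul_smul]
  have hMn : M.Normal := ⟨fun a ha g v hv => by
    have := horbK g _ _ (ha _ (hDmem g⁻¹ v hv))
    rwa [smul_inv_smul, ← mul_smul, ← mul_smul] at this⟩
  have hKM : K ≤ M := fun k hk v _ => ⟨⟨k, hk⟩, rfl⟩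
  have hne : M ≠ K := by
    intro e
    -- `P` permutes at most `p` orbits of `K` on `D`
    let B := {s : Set Ω // ∃ v ∈ D, s = MulAction.orbit K v}
    have hB : Nat.card B ≤ p := by
      have hpk : ∀ s : B, p ≤ s.1.ncard := by
        rintro ⟨s, v, hv, rfl⟩
        have h1 := Cfsg.Agent.Perm.card_orbit_mul_card_stabilizer (G := K) v
        obtain ⟨j, hj⟩ := IsPGroup.iff_card.mp (P.2.to_subgroup K)
        obtain ⟨i, -, hi⟩ := (Nat.dvd_prime_pow hp).mp (hj ▸ h1 ▸ Dvd.intro _ rfl :
          Nat.card (MulAction.orbit K v) ∣ p ^ j)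
        show p ≤ (MulAction.orbit K v).ncard
        rw [← Nat.card_coe_set_eq, hi]
        refine Nat.le_self_pow (fun h0 => hzD v hv ?_) p
        rw [h0, pow_zero, Nat.card_eq_one_iff_unique] at hi
        have h2 := hi.1
        exact congrArg Subtype.val (Subsingleton.elim (⟨z • v, ⟨z, hzK⟩, rfl⟩ : MulAction.orbit K v)
          ⟨v, MulAction.mem_orbit_self v⟩)
      have hBfin : Finite B := inferInstance
      have := Fintype.ofFinite B
      have hpd : (Set.univ : Set B).PairwiseDisjoint (fun s => s.1) := by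
        rintro ⟨s, v, hv, rfl⟩ _ ⟨t, w, hw, rfl⟩ _ hst
        rw [Function.onFun, Set.disjoint_left]
        intro u hu hu'
        exact hst (Subtype.ext ((MulAction.orbit_eq_iff.mpr hu).symm.trans (MulAction.orbit_eq_iff.mpr hu')))
      have hle : ∑ s : B, s.1.toFinset.card ≤ D.toFinset.card := by
        rw [← Finset.card_biUnion (fun s _ t _ hst => by
          rw [Function.onFun, Set.disjoint_toFinset]; exact hpd (Set.mem_univ s) (Set.mem_univ t) hst)]
        refine Finset.card_le_card (Finset.biUnion_subset.mpr ?_)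
        rintro ⟨s, v, hv, rfl⟩ -
        rw [Set.toFinset_subset_toFinset]
        rintro _ ⟨k, rfl⟩
        exact hDmem k v hv
      have h2 : Fintype.card B * p ≤ D.toFinset.card := by
        refine le_trans ?_ hle
        rw [← smul_eq_mul, ← Finset.card_univ]
        refine Finset.card_nsmul_le_sum _ _ _ fun s _ => ?_
        rw [← Set.ncard_eq_toFinset_card']; exact hpk s
      rw [← Set.ncard_eq_toFinset_card', show D.ncard = p ^ 2 by omega, pow_two] at h2
      rw [Nat.card_eq_fintype_card]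
      exact Nat.le_of_mul_le_mul_right h2 hp.pos
    have himg : ∀ (g : P) (v : Ω), (fun u => g • u) '' MulAction.orbit K v = MulAction.orbit K (g • v) := by
      intro g v
      ext u
      constructor
      · rintro ⟨w, hw, rfl⟩; exact horbK g w v hw
      · intro hu
        refine ⟨g⁻¹ • u, ?_, smul_inv_smul g u⟩
        have := horbK g⁻¹ u _ hu
        rwa [inv_smul_smul] at this
    let mv : P → B → B := fun g s => ⟨(fun u => g • u) '' s.1, by
      obtain ⟨v, hv, e⟩ := s.2
      exact ⟨g • v, hDmem g v hv, by rw [e]; exact himg g v⟩⟩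
    have hmv : ∀ (a b : P) (s : B), mv (a * b) s = mv a (mv b s) := fun a b s => Subtype.ext (by
      show (fun u => (a * b) • u) '' s.1 = (fun u => a • u) '' ((fun u => b • u) '' s.1)
      rw [Set.image_image]; simp_rw [mul_smul])
    have hmv1 : ∀ s : B, mv 1 s = s := fun s => Subtype.ext (by
      show (fun u => (1 : P) • u) '' s.1 = s.1
      simp_rw [one_smul]; exact Set.image_id _)
    let act : P →* Equiv.Perm B := MonoidHom.mk'
      (fun g => ⟨mv g, mv g⁻¹, fun s => by rw [← hmv, inv_mul_cancel, hmv1],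
        fun s => by rw [← hmv, mul_inv_cancel, hmv1]⟩) (fun a b => Equiv.ext fun s => hmv a b s)
    have hker : act.ker ≤ M := by
      intro g hg v hv
      have h1 : mv g ⟨MulAction.orbit K v, v, hv, rfl⟩ = ⟨MulAction.orbit K v, v, hv, rfl⟩ :=
        Equiv.ext_iff.mp (MonoidHom.mem_ker.mp hg) _
      have h2 : (fun u => g • u) '' MulAction.orbit K v = MulAction.orbit K v := congrArg Subtype.val h1
      rw [himg] at h2
      rw [← h2]; exact MulAction.mem_orbit_self _
    have hidx : act.ker.index ≤ p := by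
      obtain ⟨j, hj⟩ := IsPGroup.iff_card.mp P.2
      obtain ⟨i, -, hi⟩ := (Nat.dvd_prime_pow hp).mp (hj ▸ act.ker.index_dvd_card)
      rw [hi]
      have h1 : p ^ i ∣ p.factorial := by
        rw [← hi, Subgroup.index_ker]
        refine (Subgroup.card_subgroup_dvd_card _).trans ?_
        have : Fintype B := Fintype.ofFinite B
        rw [Nat.card_eq_fintype_card, Fintype.card_perm]
        exact Nat.factorial_dvd_factorial (Nat.card_eq_fintype_card (α := B) ▸ hB)
      rcases le_or_gt i 1 with h | h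
      · exact (Nat.pow_le_pow_right hp.pos h).trans (pow_one p).le
      · exfalso
        have h2 : p * p ∣ p * (p - 1).factorial := by
          rw [Nat.mul_factorial_pred hp.ne_zero, ← pow_two]
          exact (pow_dvd_pow p h).trans h1
        have := hp.dvd_factorial.mp (Nat.dvd_of_mul_dvd_mul_left hp.pos h2)
        have := hp.one_lt
        omega
    have hK2 : p ^ 2 ≤ K.index := by
      rw [← hD'2, ← Nat.card_coe_set_eq, Subgroup.index_eq_card]
      refine Nat.card_le_card_of_surjective (fun c : P ⧸ K => Quotient.liftOn' c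
        (fun g => (⟨g • y, g, rfl⟩ : D')) (fun a b hab => Subtype.ext ?_)) (fun ⟨w, g, hg⟩ => ⟨g, Subtype.ext hg⟩)
      rw [QuotientGroup.leftRel_apply] at hab
      have h1 := (mem_fixingSubgroup_iff P).mp hab y (MulAction.mem_orbit_self y)
      rw [mul_smul, inv_smul_eq_iff] at h1
      exact h1.symm
    have : K.index ≤ act.ker.index := Nat.le_of_dvd
      (Nat.pos_of_ne_zero Subgroup.index_ne_zero_of_finite) (Subgroup.index_dvd_of_le (e ▸ hker))
    have := Nat.one_lt_pow two_ne_zero hp.one_lt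
    nlinarith [hp.one_lt]
  -- an element of `M` central of order `p` modulo `K`
  have hMK : M.map (QuotientGroup.mk' K) ≠ ⊥ := by
    rw [Ne, Subgroup.map_eq_bot_iff, QuotientGroup.ker_mk']
    exact fun h => hne (le_antisymm h hKM)
  have hQ : IsPGroup p (P ⧸ K) := P.2.to_quotient K
  have h1 := Cfsg.Agent.PGroup.inf_center_ne_bot hQ (hN := hMn.map _ (QuotientGroup.mk'_surjective K)) hMK
  obtain ⟨⟨c, hcM, hcc⟩, hco⟩ := exists_prime_orderOf_dvd_card' p (Cfsg.Agent.PGroup.dvd_card_of_ne_bot hQ h1)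
  rw [← Subgroup.orderOf_coe] at hco
  obtain ⟨a, ha, rfl⟩ := hcM
  have haK : a ∉ K := fun h => by
    have h0 : ((a : P) : P ⧸ K) = 1 := (QuotientGroup.eq_one_iff a).mpr h
    have h' : orderOf ((a : P) : P ⧸ K) = p := hco
    rw [h0, orderOf_one] at h'
    exact hp.one_lt.ne h'
  have hap : a ^ p ∈ K := by
    rw [← QuotientGroup.eq_one_iff, QuotientGroup.mk_pow]
    have h' : orderOf ((a : P) : P ⧸ K) = p := hco
    exact orderOf_dvd_iff_pow_eq_one.mp (dvd_of_eq h')
  have hafpf : ∀ v ∈ D', a • v ≠ v := by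
    intro v hv he
    apply haK
    refine (mem_fixingSubgroup_iff P).mpr fun w hw => ?_
    obtain ⟨g, rfl⟩ : w ∈ MulAction.orbit P v := (MulAction.orbit_eq_iff.mpr hv).symm ▸ hw
    have h2 : ((a * g : P) : P ⧸ K) = ((g * a : P) : P ⧸ K) :=
      (Subgroup.mem_center_iff.mp hcc ((g : P) : P ⧸ K)).symm
    have h3 := (mem_fixingSubgroup_iff P).mp (QuotientGroup.eq.mp h2) v hv
    rw [mul_smul, inv_smul_eq_iff, mul_smul, mul_smul, he] at h3
    exact h3.symm
  -- the permutation in the closure
  have hnD : ∀ v, v ∈ D → v ∉ D' := fun v hv => Set.disjoint_left.mp hdis hv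
  let σ : Equiv.Perm Ω :=
    { toFun := fun v => if v ∈ D' then a • v else v
      invFun := fun v => if v ∈ D' then a⁻¹ • v else v
      left_inv := fun v => by by_cases hv : v ∈ D' <;> simp [hv, hD'mem a v]
      right_inv := fun v => by by_cases hv : v ∈ D' <;> simp [hv, hD'mem a⁻¹ v] }
  have hσD : ∀ v ∈ D, σ v = v := fun v hv => if_neg (hnD v hv)
  have hσD' : ∀ v ∈ D', σ v = a • v := fun v hv => if_pos hv
  have hmix : ∀ u ∈ D, ∃ h : P, h • u = u ∧ ∀ v ∈ D', h • v = a • v := by
    intro u hu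
    obtain ⟨⟨k, hk⟩, hku⟩ : u ∈ MulAction.orbit K (a • u) := MulAction.mem_orbit_symm.mp (ha u hu)
    refine ⟨k * a, (mul_smul k a u).trans hku, fun v hv => ?_⟩
    rw [mul_smul, (mem_fixingSubgroup_iff P).mp hk _ (hD'mem a v hv)]
  obtain ⟨g, hg⟩ := hcl σ fun u v => by
    rcases hcases u with hu | hu <;> rcases hcases v with hv | hv
    · exact ⟨1, by rw [hσD u hu, one_smul], by rw [hσD v hv, one_smul]⟩
    · obtain ⟨h, h1, h2⟩ := hmix u hu
      exact ⟨(h : G), (hσD u hu).trans h1.symm, (hσD' v hv).trans (h2 v hv).symm⟩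
    · obtain ⟨h, h1, h2⟩ := hmix v hv
      exact ⟨(h : G), (hσD' u hu).trans (h2 u hu).symm, (hσD v hv).trans h1.symm⟩
    · exact ⟨(a : G), hσD' u hu, hσD' v hv⟩
  have hgD : ∀ v ∈ D, g • v = v := fun v hv => (hg v).symm.trans (hσD v hv)
  have hgD' : ∀ v ∈ D', g • v = a • v := fun v hv => (hg v).symm.trans (hσD' v hv)
  have hgp : ∀ (i : ℕ) (v : Ω), g ^ i • v = if v ∈ D' then a ^ i • v else v := by
    intro i v
    induction i with
    | zero => simp
    | succ i ih =>
      rw [pow_succ', mul_smul, ih]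
      by_cases hv : v ∈ D'
      · rw [if_pos hv, if_pos hv, hgD' _ (hD'mem _ v hv), ← mul_smul, ← pow_succ']
      · rw [if_neg hv, if_neg hv, hgD v ((hcases v).resolve_right hv)]
  have hcomm : Commute (z : G) g := by
    refine FaithfulSMul.eq_of_smul_eq_smul (fun v : Ω => ?_)
    rw [mul_smul, mul_smul]
    rcases hcases v with hv | hv
    · rw [hgD v hv]
      exact (hgD _ (hDmem z v hv)).symm
    · show z • g • v = g • z • v
      rw [hgD' v hv, hzD' v hv, hzD' _ (hD'mem a v hv), hgD' v hv]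
  refine ⟨(z : G) * g, ?_, fun v => ?_⟩
  · rw [orderOf_eq_prime (p := p) ?_ ?_]
    · exact hp
    · rw [hcomm.mul_pow]
      have h1 : (z : G) ^ p = 1 := by rw [← Subgroup.coe_pow, orderOf_dvd_iff_pow_eq_one.mp (dvd_of_eq hzo), Subgroup.coe_one]
      rw [h1, one_mul]
      refine FaithfulSMul.eq_of_smul_eq_smul (fun v : Ω => ?_)
      rw [one_smul, hgp]
      split_ifs with hv
      · exact (mem_fixingSubgroup_iff P).mp hap v hv
      · rfl
    · intro e
      have := congrArg (fun u : G => u • x) e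
      simp only [mul_smul, one_smul, hgD x (MulAction.mem_orbit_self x)] at this
      exact hzD x (MulAction.mem_orbit_self x) this
  · rw [mul_smul]
    rcases hcases v with hv | hv
    · rw [hgD v hv]; exact hzD v hv
    · rw [hgD' v hv]
      show z • a • v ≠ v
      rw [hzD' _ (hD'mem a v hv)]
      exact hafpf v hv

end Cfsg.Agent.S3557
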