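import Cfsg.Statements.S3560
-- import your own Cfsg.Agent.* helpers here

set_option autoImplicit false
open Cfsg

namespace Cfsg.Agent.S3560

/-- Let K be a finite group isomorphic to a direct product of r ≥ 2 groups all of the same order m ≥ 3. Then K is not a B-group: there is a primitive but not doubly transitive permutation group (on some finite set) containing a regular subgroup isomorphic to K. -/
theorem result {K : Type*} [Group K] [Finite K] {ι : Type*} [Fintype ι] (F : ι → Type*) [∀ i, Group (F i)]
    (hr : 2 ≤ Fintype.card ι) (m : ℕ) (hm : 3 ≤ m) (hcard : ∀ i, Nat.card (F i) = m) (e : K ≃* (∀ i, F i)) :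
    ∃ (n : ℕ) (G R : Subgroup (Equiv.Perm (Fin n))), R ≤ G ∧ Nonempty (↥R ≃* K) ∧
      MulAction.IsPretransitive ↥R (Fin n) ∧ (∀ a : Fin n, MulAction.stabilizer ↥R a = ⊥) ∧
      MulAction.IsPreprimitive ↥G (Fin n) ∧ ¬ MulAction.IsMultiplyPretransitive ↥G (Fin n) 2 := by
  classical
  have hι : Nonempty ι := Fintype.card_pos_iff.mp (by omega)
  let n := Fintype.card (ι → Fin m)
  let E : (ι → Fin m) ≃ Fin n := Fintype.equivFin _
  let dset : Fin n → Fin n → Finset ι := fun a b => Finset.univ.filter (fun i => E.symm a i ≠ E.symm b i)
  let G : Subgroup (Equiv.Perm (Fin n)) :=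
    { carrier := {σ | ∀ a b, (dset (σ a) (σ b)).card = (dset a b).card}
      one_mem' := fun a b => rfl
      mul_mem' := fun {s t} hs ht a b => by rw [Equiv.Perm.mul_apply, Equiv.Perm.mul_apply, hs, ht]
      inv_mem' := fun {s} hs a b => by
        rw [← hs (s⁻¹ a) (s⁻¹ b), Equiv.Perm.inv_def, Equiv.apply_symm_apply, Equiv.apply_symm_apply] }
  -- coordinatewise and coordinate permutations
  let co : (ι → Equiv.Perm (Fin m)) → Equiv.Perm (Fin n) := fun π =>
    E.symm.trans ((Equiv.piCongrRight π).trans E)
  have hco : ∀ π a i, E.symm (co π a) i = π i (E.symm a i) := fun π a i => by simp [co]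
  have hcoG : ∀ π, co π ∈ G := fun π a b => by
    congr 1
    ext i
    simp only [dset, Finset.mem_filter, Finset.mem_univ, true_and, hco, ne_eq, EmbeddingLike.apply_eq_iff_eq]
  let cs : Equiv.Perm ι → Equiv.Perm (Fin n) := fun s =>
    E.symm.trans ((Equiv.arrowCongr s (Equiv.refl (Fin m))).trans E)
  have hcs : ∀ s a i, E.symm (cs s a) i = E.symm a (s.symm i) := fun s a i => by simp [cs]
  have hcsG : ∀ s, cs s ∈ G := fun s a b => by
    refine Finset.card_equiv s.symm (fun i => ?_)
    simp only [dset, Finset.mem_filter, Finset.mem_univ, true_and, hcs]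
  have htr : MulAction.IsPretransitive G (Fin n) := ⟨fun a b =>
    ⟨⟨co (fun i => Equiv.swap (E.symm a i) (E.symm b i)), hcoG _⟩, E.symm.injective (funext fun i => by
      show E.symm (co (fun i => Equiv.swap (E.symm a i) (E.symm b i)) a) i = E.symm b i
      rw [hco, Equiv.swap_apply_left])⟩⟩
  -- the regular subgroup
  have hF : ∀ i, Finite (F i) := fun i => Nat.finite_of_card_ne_zero (by rw [hcard i]; omega)
  let f : ∀ i, F i ≃ Fin m := fun i => Finite.equivFinOfCardEq (hcard i)
  let φ : K ≃ Fin n := (e.toEquiv.trans (Equiv.piCongrRight f)).trans E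
  let L : K →* Equiv.Perm (Fin n) :=
    { toFun := fun k => φ.symm.trans ((Equiv.mulLeft k).trans φ)
      map_one' := Equiv.ext fun a => by simp
      map_mul' := fun k l => Equiv.ext fun a => by simp [mul_assoc] }
  have hL : ∀ k a, L k a = φ (k * φ.symm a) := fun k a => rfl
  have hRG : L.range ≤ G := by
    rintro _ ⟨k, rfl⟩ a b
    congr 1
    ext i
    have h : ∀ a, E.symm (L k a) i = f i (e k i * (f i).symm (E.symm a i)) := fun a => by
      simp [hL, φ]
    simp only [dset, Finset.mem_filter, Finset.mem_univ, true_and, h, ne_eq, EmbeddingLike.apply_eq_iff_eq,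
      mul_right_inj]
  have hLinj : Function.Injective L := fun k l h => by
    have := congrArg (fun σ : Equiv.Perm (Fin n) => φ.symm (σ (φ 1))) h
    simpa [hL] using this
  refine ⟨n, G, L.range, hRG, ⟨(MonoidHom.ofInjective hLinj).symm⟩, ⟨fun a b =>
    ⟨⟨L (φ.symm b * (φ.symm a)⁻¹), _, rfl⟩, by
      show L _ a = b
      rw [hL]; simp⟩⟩, fun a => ?_, ?_, ?_⟩
  · rw [Subgroup.eq_bot_iff_forall]
    rintro ⟨_, k, rfl⟩ h
    have h' : L k a = a := h
    rw [hL, ← Equiv.eq_symm_apply, mul_eq_right] at h'
    exact Subtype.ext ((congrArg L h').trans (map_one L))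
  · have := htr
    refine ⟨fun {B} hB => ?_⟩
    by_cases hs : B.Subsingleton
    · exact Or.inl hs
    right
    rw [Set.not_subsingleton_iff] at hs
    obtain ⟨x, hx, y, hy, hxy⟩ := hs
    have hmem : ∀ (g : Equiv.Perm (Fin n)), g ∈ G → ∀ z ∈ B, g z = z → ∀ w ∈ B, g w ∈ B := by
      intro g hg z hz hgz w hw
      have h1 := (MulAction.isBlock_iff_smul_eq_of_nonempty.mp hB) (g := (⟨g, hg⟩ : G))
        ⟨z, ⟨z, hz, hgz⟩, hz⟩
      rw [← h1]
      exact ⟨w, hw, rfl⟩
    obtain ⟨i, hi⟩ : ∃ i, E.symm x i ≠ E.symm y i := by
      by_contra hc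
      push Not at hc
      exact hxy (E.symm.injective (funext hc))
    obtain ⟨c, hc⟩ : ∃ c, c ∉ ({E.symm x i, E.symm y i} : Finset (Fin m)) := by
      by_contra hc
      push Not at hc
      have := Finset.card_le_card (fun c _ => hc c : (Finset.univ : Finset (Fin m)) ⊆ _)
      rw [Finset.card_univ, Fintype.card_fin] at this
      have := Finset.card_le_two (a := E.symm x i) (b := E.symm y i)
      omega
    simp only [Finset.mem_insert, Finset.mem_singleton, not_or] at hc
    let y' := co (Function.update (fun _ => 1) i (Equiv.swap (E.symm y i) c)) y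
    have hy'e : ∀ j, E.symm y' j = if j = i then c else E.symm y j := by
      intro j
      rw [hco]
      split_ifs with h
      · subst h; simp
      · simp [Function.update_of_ne h]
    have hy' : y' ∈ B := hmem _ (hcoG _) x hx (E.symm.injective (funext fun j => by
      rw [hco]
      by_cases h : j = i
      · subst h
        rw [Function.update_self, Equiv.swap_apply_of_ne_of_ne hi (Ne.symm hc.1)]
      · simp [Function.update_of_ne h])) y hy
    -- all neighbours of a point of `B` lie in `B`
    have hnb : ∀ z ∈ B, ∀ (j : ι) (v : Fin m), E (Function.update (E.symm z) j v) ∈ B := by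
      intro z hz j v
      by_cases hv : v = E.symm z j
      · rw [hv, Function.update_eq_self, Equiv.apply_symm_apply]; exact hz
      obtain ⟨z', hz', i', hzz', hne'⟩ : ∃ z' ∈ B, ∃ i', (∀ k, k ≠ i' → E.symm z' k = E.symm z k) ∧
          E.symm z' i' ≠ E.symm z i' := by
        obtain ⟨⟨g, hg⟩, hgy⟩ := MulAction.exists_smul_eq G y z
        have hgy' : g y = z := hgy
        have hgB : ∀ w ∈ B, g w ∈ B := by
          intro w hw
          have h1 := (MulAction.isBlock_iff_smul_eq_of_nonempty.mp hB) (g := (⟨g, hg⟩ : G))
            ⟨z, ⟨y, hy, hgy'⟩, hz⟩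
          rw [← h1]
          exact ⟨w, hw, rfl⟩
        refine ⟨g y', hgB y' hy', ?_⟩
        have h1 := hg y' y
        rw [hgy'] at h1
        have h2 : dset y' y = {i} := by
          ext k
          simp only [dset, Finset.mem_filter, Finset.mem_univ, true_and, hy'e, Finset.mem_singleton]
          split_ifs with h
          · subst h; simp [hc.2]
          · simp [h]
        rw [h2, Finset.card_singleton] at h1
        obtain ⟨i', hi'⟩ := Finset.card_eq_one.mp h1
        refine ⟨i', fun k hk => ?_, ?_⟩
        · by_contra hne
          have : k ∈ dset (g y') z := Finset.mem_filter.mpr ⟨Finset.mem_univ _, hne⟩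
          rw [hi', Finset.mem_singleton] at this
          exact hk this
        · have : i' ∈ dset (g y') z := hi' ▸ Finset.mem_singleton_self i'
          exact (Finset.mem_filter.mp this).2
      have h1 := hmem _ (mul_mem (hcoG (fun k => if k = j then
          Equiv.swap (E.symm z j) (E.symm z i') else Equiv.swap (E.symm z k) (E.symm z (Equiv.swap i' j k))))
        (hcsG (Equiv.swap i' j))) z hz (E.symm.injective (funext fun k => by
          rw [Equiv.Perm.mul_apply, hco, hcs, Equiv.symm_swap]
          by_cases hk : k = j
          · subst hk; simp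
          · simp [hk])) z' hz'
      set w := (co (fun k => if k = j then Equiv.swap (E.symm z j) (E.symm z i') else
        Equiv.swap (E.symm z k) (E.symm z (Equiv.swap i' j k))) * cs (Equiv.swap i' j)) z' with hw
      have hwk : ∀ k, k ≠ j → E.symm w k = E.symm z k := by
        intro k hk
        rw [hw, Equiv.Perm.mul_apply, hco, hcs, Equiv.symm_swap, if_neg hk,
          hzz' _ (fun e => hk ?_)]
        · exact Equiv.swap_apply_right _ _
        · rw [Equiv.swap_apply_eq_iff, Equiv.swap_apply_left] at e; exact e
      have hwj : E.symm w j ≠ E.symm z j := by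
        rw [hw, Equiv.Perm.mul_apply, hco, hcs, Equiv.symm_swap, if_pos rfl, Equiv.swap_apply_right]
        intro e
        rw [Equiv.swap_apply_eq_iff, Equiv.swap_apply_left] at e
        exact hne' e
      have h2 := hmem _ (hcoG (Function.update (fun _ => 1) j (Equiv.swap (E.symm w j) v))) z hz
        (E.symm.injective (funext fun k => by
          rw [hco]
          by_cases hk : k = j
          · subst hk
            rw [Function.update_self, Equiv.swap_apply_of_ne_of_ne (Ne.symm hwj) (Ne.symm hv)]
          · simp [Function.update_of_ne hk])) w h1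
      convert h2 using 1
      apply E.symm.injective
      rw [Equiv.symm_apply_apply]
      funext k
      rw [hco]
      by_cases hk : k = j
      · subst hk; simp
      · simp [Function.update_of_ne hk, hwk k hk]
    have hall : ∀ (S : Finset ι) (z : Fin n), dset x z ⊆ S → z ∈ B := by
      intro S
      induction S using Finset.induction with
      | empty =>
        intro z hz
        have : x = z := E.symm.injective (funext fun k => by
          by_contra hne
          exact absurd (hz (Finset.mem_filter.mpr ⟨Finset.mem_univ _, hne⟩)) (Finset.notMem_empty k))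
        exact this ▸ hx
      | insert k S hk ih =>
        intro z hz
        have h1 := hnb (E (Function.update (E.symm z) k (E.symm x k))) (ih _ ?_) k (E.symm z k)
        · simpa using h1
        · intro l hl
          simp only [dset, Finset.mem_filter, Finset.mem_univ, true_and, Equiv.symm_apply_apply] at hl
          by_cases hlk : l = k
          · subst hlk; simp at hl
          · rw [Function.update_of_ne hlk] at hl
            exact Finset.mem_of_mem_insert_of_ne (hz (Finset.mem_filter.mpr ⟨Finset.mem_univ _, hl⟩)) hlk
    exact Set.eq_univ_iff_forall.mpr fun z => hall _ z subset_rfl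
  · intro h2
    obtain ⟨i, j, hij⟩ := Fintype.exists_pair_of_one_lt_card (α := ι) (by omega)
    let z0 : Fin m := ⟨0, by omega⟩
    let z1 : Fin m := ⟨1, by omega⟩
    have h01 : z0 ≠ z1 := by simp [z0, z1]
    let a := E (fun _ => z0)
    let b := E (Function.update (fun _ => z0) i z1)
    let c := E (fun _ => z1)
    have hab : a ≠ b := fun e => by
      have := congrFun (E.injective e) i
      simp [h01] at this
    have hac : a ≠ c := fun e => h01 (congrFun (E.injective e) i)
    obtain ⟨⟨g, hg⟩, h1, h3⟩ :=
      (MulAction.is_two_pretransitive_iff).mp h2 hab hac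
    have h4 := hg a b
    rw [show g a = a from h1, show g b = c from h3] at h4
    have h5 : dset a b = {i} := by
      ext k
      simp only [dset, a, b, Finset.mem_filter, Finset.mem_univ, true_and, Equiv.symm_apply_apply,
        Finset.mem_singleton]
      by_cases hk : k = i
      · subst hk; simp [h01]
      · simp [hk]
    have h6 : dset a c = Finset.univ := by
      ext k
      simp [dset, a, c, h01]
    rw [h5, h6, Finset.card_singleton, Finset.card_univ] at h4
    omega

end Cfsg.Agent.S3560
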