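import Cfsg.Statements.S3571
import Cfsg.Agent.LocalEven61.LargestPrime.Perm
import Cfsg.Agent.KnownSimple.AutAlternating.Main

set_option autoImplicit false
open Cfsg

namespace Cfsg.Agent.S3571

open MulAction Equiv

private theorem no_fifteen (g : Perm (Fin 6)) : orderOf g ≠ 15 := by
  intro h
  have hmem : ∀ n ∈ g.cycleType, n = 3 ∨ n = 5 := by
    intro n hn
    have h1 : n ∣ 15 := h ▸ Equiv.Perm.dvd_of_mem_cycleType hn
    have h2 := Equiv.Perm.two_le_of_mem_cycleType hn
    have h3 : n ≤ 6 := (Multiset.le_sum_of_mem hn).trans (by simpa using Equiv.Perm.sum_cycleType_le g)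
    interval_cases n <;> simp_all
  have h3 : 3 ∈ g.cycleType := by
    by_contra hc
    have : orderOf g ∣ 5 := by
      rw [← Equiv.Perm.lcm_cycleType]
      exact Multiset.lcm_dvd.2 fun n hn => by
        rcases hmem n hn with rfl | rfl
        · exact absurd hn hc
        · exact dvd_rfl
    rw [h] at this
    exact absurd (Nat.le_of_dvd (by norm_num) this) (by norm_num)
  have h5 : 5 ∈ g.cycleType := by
    by_contra hc
    have : orderOf g ∣ 3 := by
      rw [← Equiv.Perm.lcm_cycleType]
      exact Multiset.lcm_dvd.2 fun n hn => by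
        rcases hmem n hn with rfl | rfl
        · exact dvd_rfl
        · exact absurd hn hc
    rw [h] at this
    exact absurd (Nat.le_of_dvd (by norm_num) this) (by norm_num)
  obtain ⟨t, ht⟩ := Multiset.exists_cons_of_mem h3
  have h5t : 5 ∈ t := by
    rw [ht, Multiset.mem_cons] at h5
    exact h5.resolve_left (by norm_num)
  have := Multiset.le_sum_of_mem h5t
  have h6 := Equiv.Perm.sum_cycleType_le g
  rw [ht, Multiset.sum_cons, Fintype.card_fin] at h6
  omega

private theorem exists_fifteen {H : Type*} [Group H] [Finite H] {c : ℕ}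
    (hc : Nat.card H = c) (h : c = 15 ∨ c = 30 ∨ c = 45) :
    ∃ x : H, orderOf x = 15 := by
  classical
  -- reduce to odd order
  have key : ∀ (K : Type _) [Group K] [Finite K], (Nat.card K = 15 ∨ Nat.card K = 45) →
      ∃ x : K, orderOf x = 15 := by
    intro K _ _ hK
    haveI : Fact (Nat.Prime 3) := ⟨Nat.prime_three⟩
    haveI : Fact (Nat.Prime 5) := ⟨by norm_num⟩
    obtain ⟨P⟩ : Nonempty (Sylow 3 K) := inferInstance
    obtain ⟨Q⟩ : Nonempty (Sylow 5 K) := inferInstance
    have hP : Nat.card P ∈ ({3, 9} : Set ℕ) ∧ (P : Subgroup K).index = 5 := by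
      have h1 := (P : Subgroup K).card_mul_index
      have h2 := P.card_eq_multiplicity
      rcases hK with hK | hK <;> rw [hK] at h1 h2
      · rw [show (15 : ℕ).factorization 3 = 1 from by
          rw [show (15 : ℕ) = 3 * 5 from rfl, Nat.factorization_mul (by norm_num) (by norm_num),
            Nat.Prime.factorization (by norm_num : Nat.Prime 3),
            Nat.Prime.factorization (by norm_num : Nat.Prime 5)]
          simp, pow_one] at h2
        refine ⟨Or.inl h2, ?_⟩
        change Nat.card P * _ = _ at h1
        rw [h2] at h1; omega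
      · rw [show (45 : ℕ).factorization 3 = 2 from by
          rw [show (45 : ℕ) = 3 ^ 2 * 5 from rfl, Nat.factorization_mul (by norm_num) (by norm_num),
            Nat.Prime.factorization_pow (by norm_num : Nat.Prime 3),
            Nat.Prime.factorization (by norm_num : Nat.Prime 5)]
          simp] at h2
        refine ⟨Or.inr (by simpa using h2), ?_⟩
        change Nat.card P * _ = _ at h1
        rw [h2] at h1; omega
    have hQ : (Q : Subgroup K).index ∣ 9 := by
      have h1 := (Q : Subgroup K).card_mul_index
      have h2 : 5 ∣ Nat.card Q := Q.dvd_card_of_dvd_card (by rcases hK with hK | hK <;> rw [hK] <;> norm_num)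
      obtain ⟨d, hd⟩ := h2
      change Nat.card Q * _ = _ at h1
      rw [hd] at h1
      rcases hK with hK | hK <;> rw [hK] at h1
      · exact dvd_trans (Dvd.intro_left d (by linarith : d * (Q : Subgroup K).index = 3)) (by norm_num)
      · exact Dvd.intro_left d (by linarith : d * (Q : Subgroup K).index = 9)
    have hPn : (P : Subgroup K).Normal := by
      have h1 : Nat.card (Sylow 3 K) ∣ 5 := hP.2 ▸ P.card_dvd_index
      have h2 := card_sylow_modEq_one 3 K
      rcases (Nat.dvd_prime (by norm_num)).1 h1 with h3 | h3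
      · haveI : Subsingleton (Sylow 3 K) := (Nat.card_eq_one_iff_unique.1 h3).1
        infer_instance
      · rw [h3] at h2; exact absurd h2 (by decide)
    have hQn : (Q : Subgroup K).Normal := by
      have h1 : Nat.card (Sylow 5 K) ∣ 9 := Q.card_dvd_index.trans hQ
      have h2 := card_sylow_modEq_one 5 K
      have h3 : Nat.card (Sylow 5 K) ≤ 9 := Nat.le_of_dvd (by norm_num) h1
      have h4 : Nat.card (Sylow 5 K) = 1 := by
        unfold Nat.ModEq at h2
        interval_cases (Nat.card (Sylow 5 K)) <;> omega
      haveI : Subsingleton (Sylow 5 K) := (Nat.card_eq_one_iff_unique.1 h4).1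
      infer_instance
    obtain ⟨x, hx⟩ := exists_prime_orderOf_dvd_card' (G := P) 3 (by
      rcases hP.1 with h | h
      · rw [h]
      · rw [Set.mem_singleton_iff.1 h]; norm_num)
    obtain ⟨y, hy⟩ := exists_prime_orderOf_dvd_card' (G := Q) 5 (Q.dvd_card_of_dvd_card
      (by rcases hK with hK | hK <;> rw [hK] <;> norm_num))
    have hdis : Disjoint (P : Subgroup K) (Q : Subgroup K) :=
      IsPGroup.disjoint_of_ne 3 5 (by norm_num) _ _ P.2 Q.2
    have hcomm := Subgroup.commute_of_normal_of_disjoint _ _ hPn hQn hdis x.1 y.1 x.2 y.2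
    refine ⟨x.1 * y.1, ?_⟩
    rw [hcomm.orderOf_mul_eq_mul_orderOf_of_coprime
      (by rw [Subgroup.orderOf_coe, Subgroup.orderOf_coe, hx, hy]; norm_num),
      Subgroup.orderOf_coe, Subgroup.orderOf_coe, hx, hy]
  rcases h with rfl | rfl | rfl
  · exact key H (Or.inl hc)
  · haveI : Fact (Nat.Prime 2) := ⟨Nat.prime_two⟩
    obtain ⟨P⟩ : Nonempty (Sylow 2 H) := inferInstance
    have hP2 : Nat.card P = 2 := by
      rw [P.card_eq_multiplicity, hc, show (30 : ℕ) = 2 * 15 from rfl,
        Nat.factorization_mul (by norm_num) (by norm_num),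
        Nat.Prime.factorization (by norm_num : Nat.Prime 2)]
      simp [Nat.factorization_eq_zero_of_not_dvd (show ¬ 2 ∣ 15 by norm_num)]
    haveI : IsCyclic (P : Subgroup H) := isCyclic_of_prime_card hP2
    have hmin : (Nat.card H).minFac = 2 := by rw [hc]; norm_num
    have hcyc : IsCyclic (P : Subgroup H) := inferInstance
    have hcompl := IsCyclic.isComplement' hmin hcyc
    have hk := hcompl.card_mul
    change _ * Nat.card P = _ at hk
    rw [hP2, hc] at hk
    obtain ⟨x, hx⟩ := key _ (Or.inl (show Nat.card (MonoidHom.transferSylow P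
      (hcyc.normalizer_le_centralizer hmin)).ker = 15 by omega))
    exact ⟨x, by rw [Subgroup.orderOf_coe, hx]⟩
  · exact key H (Or.inr hc)

/-- Let G be an almost simple group whose socle is an alternating group of degree m ≥ 5 (G has a normal subgroup T isomorphic to that alternating group with trivial centralizer), acting faithfully and primitively on a finite set Ω with at least two points, and let r be the largest prime divisor of the number of points. Then G contains an element of order r fixing no point. -/
theorem result {G Ω : Type*} [Group G] [Finite G] [MulAction G Ω] [FaithfulSMul G Ω] [Finite Ω]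
    (T : Subgroup G) (hT : T.Normal) (hTc : Subgroup.centralizer (T : Set G) = ⊥) (m : ℕ) (hm : 5 ≤ m)
    (eT : ↥T ≃* ↥(alternatingGroup (Fin m))) (hprim : MulAction.IsPreprimitive G Ω) (hΩ : 2 ≤ Nat.card Ω)
    (r : ℕ) (hr : r.Prime) (hrd : r ∣ Nat.card Ω) (hmax : ∀ s : ℕ, s.Prime → s ∣ Nat.card Ω → s ≤ r) :
    ∃ g : G, orderOf g = r ∧ ∀ ω : Ω, g • ω ≠ ω := by
  classical
  haveI := hT
  haveI := Fact.mk hr
  haveI hsimp : IsSimpleGroup (alternatingGroup (Fin m)) :=
    alternatingGroup.isSimpleGroup (by simpa using hm)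
  haveI : Nontrivial T := eT.toEquiv.nontrivial
  haveI : Nontrivial Ω := Finite.one_lt_card_iff_nontrivial.1 hΩ
  haveI hTtr : IsPretransitive T Ω := by
    refine IsQuasiPreprimitive.isPretransitive_of_normal (G := G) (X := Ω) fun h => ?_
    obtain ⟨t, ht⟩ := exists_ne (1 : T)
    refine ht (Subtype.ext (FaithfulSMul.eq_of_smul_eq_smul fun a : Ω => ?_))
    have : a ∈ fixedPoints T Ω := h ▸ Set.mem_univ a
    rw [Subgroup.coe_one, one_smul]
    exact this t
  obtain ⟨ω₀⟩ : Nonempty Ω := inferInstance
  by_cases h6 : m = 6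
  · subst h6
    let H := stabilizer T ω₀
    have hN : H.index = Nat.card Ω := index_stabilizer_of_transitive T ω₀
    have hTcard : Nat.card T = 360 := by
      rw [Nat.card_congr eT.toEquiv, Nat.card_eq_fintype_card, card_alternatingGroup]
      simp [Nat.factorial]
    have hHN : Nat.card H * Nat.card Ω = 360 := by rw [← hN, ← hTcard, Subgroup.card_mul_index]
    have hNd : Nat.card Ω ∣ 360 := Dvd.intro_left _ hHN
    have hrN : r ∣ 360 := hrd.trans hNd
    have done : ∀ t : T, orderOf t = r → (∀ a : Ω, t • a ≠ a) → ∃ g : G, orderOf g = r ∧ ∀ ω : Ω, g • ω ≠ ω :=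
      fun t h1 h2 => ⟨t, by rw [Subgroup.orderOf_coe, h1], h2⟩
    have hfree : ¬ r ∣ Nat.card H → ∃ g : G, orderOf g = r ∧ ∀ ω : Ω, g • ω ≠ ω := by
      intro hrH
      obtain ⟨t, ht⟩ := exists_prime_orderOf_dvd_card' (G := T) r (hTcard ▸ hrN)
      refine done t ht fun a ha => hrH ?_
      obtain ⟨u, rfl⟩ := exists_smul_eq T ω₀ a
      have hmem : u⁻¹ * t * u ∈ H := by
        rw [mem_stabilizer_iff, mul_smul, mul_smul, ha, inv_smul_smul]
      have : orderOf (⟨u⁻¹ * t * u, hmem⟩ : H) = r := by
        rw [← Subgroup.orderOf_coe, ← ht]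
        exact (SemiconjBy.orderOf_eq u (by simp [SemiconjBy, mul_assoc])).trans rfl
      rw [← this]
      exact orderOf_dvd_natCard _
    by_cases hrH : r ∣ Nat.card H
    swap
    · exact hfree hrH
    have hTinj : Function.Injective (MulAction.toPermHom T Ω) := fun a b hab =>
      Subtype.ext (FaithfulSMul.eq_of_smul_eq_smul fun w : Ω => Equiv.Perm.congr_fun hab w)
    have hfact : 360 ∣ (Nat.card Ω).factorial := by
      have := Subgroup.card_dvd_of_injective _ hTinj
      rwa [hTcard, Nat.card_perm] at this
    have h6N : 6 ≤ Nat.card Ω := by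
      by_contra hlt
      have := Nat.le_of_dvd (Nat.factorial_pos _) hfact
      have := Nat.factorial_le (show Nat.card Ω ≤ 5 by omega)
      simp [Nat.factorial] at this
      omega
    -- `r * r` divides 360
    have hrr : r * r ∣ 360 := by
      rw [← hHN]; exact Nat.mul_dvd_mul hrH hrd
    have hr5 : r = 2 ∨ r = 3 := by
      have h1 : r ≤ 360 := Nat.le_of_dvd (by norm_num) hrN
      have h2 : r * r ≤ 360 := Nat.le_of_dvd (by norm_num) hrr
      have h3 : r ≤ 18 := by nlinarith
      interval_cases r <;> first | omega | (exfalso; revert hr hrr; norm_num)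
    by_cases hN6 : Nat.card Ω = 6
    · -- the image of `T` is the alternating group on `Ω`
      haveI : Fintype Ω := Fintype.ofFinite Ω
      have hr3 : r = 3 := by
        have := hmax 3 Nat.prime_three (by rw [hN6]; norm_num)
        omega
      subst hr3
      set f := MulAction.toPermHom T Ω with hf
      have hidx : f.range.index = 2 := by
        have h1 := f.range.card_mul_index
        rw [← Nat.card_congr (f.ofInjective hTinj).toEquiv, hTcard, Nat.card_perm, hN6] at h1
        simp [Nat.factorial] at h1
        omega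
      have hrange : f.range = alternatingGroup Ω := Equiv.Perm.eq_alternatingGroup_of_index_eq_two hidx
      obtain ⟨g, hg⟩ := (Equiv.Perm.exists_with_cycleType_iff Ω (m := {3, 3})).2
        ⟨by rw [← Nat.card_eq_fintype_card, hN6]; simp, by simp⟩
      have hgA : g ∈ f.range := by
        rw [hrange, Equiv.Perm.mem_alternatingGroup, Equiv.Perm.sign_of_cycleType, hg]
        rfl
      obtain ⟨t, ht⟩ := hgA
      refine done t ?_ fun a ha => ?_
      · rw [← orderOf_injective f hTinj, ht, ← Equiv.Perm.lcm_cycleType, hg]; rfl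
      · have h1 : g.support = Finset.univ := Finset.eq_univ_of_card _ (by
          rw [← Equiv.Perm.sum_cycleType, hg, ← Nat.card_eq_fintype_card, hN6]; rfl)
        have h2 : a ∈ g.support := h1 ▸ Finset.mem_univ a
        rw [Equiv.Perm.mem_support, ← ht] at h2
        exact h2 ha
    · exfalso
      have h5 : ¬ 5 ∣ Nat.card Ω := fun h => by
        have := hmax 5 (by norm_num) h
        omega
      have hle : Nat.card Ω ≤ 360 := Nat.le_of_dvd (by norm_num) hNd
      have hH : Nat.card H = 15 ∨ Nat.card H = 30 ∨ Nat.card H = 45 := by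
        rcases hr5 with rfl | rfl
        · have h3 : ¬ 3 ∣ Nat.card Ω := fun h => by
            have := hmax 3 Nat.prime_three h
            omega
          generalize Nat.card Ω = N at *
          generalize Nat.card H = c at *
          have hN72 : N ∣ 8 := by
            have h1 : N.Coprime 45 := by
              rw [show (45 : ℕ) = 3 ^ 2 * 5 from rfl]
              exact ((Nat.prime_three.coprime_iff_not_dvd.2 h3).symm.pow_right 2).mul_right
                ((show Nat.Prime 5 by norm_num).coprime_iff_not_dvd.2 h5).symm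
            exact h1.dvd_of_dvd_mul_right (show N ∣ 8 * 45 from hNd)
          have : N ≤ 8 := Nat.le_of_dvd (by norm_num) hN72
          interval_cases N <;> omega
        · generalize Nat.card Ω = N at *
          generalize Nat.card H = c at *
          have h9 : ¬ 9 ∣ N := fun h => by
            have : 3 * 9 ∣ 360 := hHN ▸ Nat.mul_dvd_mul hrH h
            norm_num at this
          obtain ⟨d, rfl⟩ := hrd
          have hd : d ∣ 8 := by
            have h1 : d.Coprime 15 := by
              rw [show (15 : ℕ) = 3 * 5 from rfl]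
              exact (Nat.prime_three.coprime_iff_not_dvd.2 fun h => h9 (Nat.mul_dvd_mul_left 3 h)).symm.mul_right
                ((show Nat.Prime 5 by norm_num).coprime_iff_not_dvd.2 fun h => h5 (h.mul_left 3)).symm
            have h2 : d ∣ 8 * 15 := Nat.dvd_of_mul_dvd_mul_left (by norm_num : 0 < 3)
              (show 3 * d ∣ 3 * (8 * 15) from hNd)
            exact h1.dvd_of_dvd_mul_right h2
          have : d ≤ 8 := Nat.le_of_dvd (by norm_num) hd
          interval_cases d <;> omega
      obtain ⟨x, hx⟩ := exists_fifteen rfl hH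
      apply no_fifteen ((eT (x : T)) : Perm (Fin 6))
      rw [Subgroup.orderOf_coe, MulEquiv.orderOf_eq, Subgroup.orderOf_coe, hx]
  · have hbij := KnownSimple.AutAlt.bijective_conjNormal (n := m) (by omega) h6
    let ι : Perm (Fin m) ≃* MulAut (alternatingGroup (Fin m)) := MulEquiv.ofBijective _ hbij
    let j : G →* Perm (Fin m) :=
      ι.symm.toMonoidHom.comp ((MulAut.congr eT).toMonoidHom.comp MulAut.conjNormal)
    have hjinj : Function.Injective j := by
      rw [← MonoidHom.ker_eq_bot_iff, ← hTc, le_antisymm_iff]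
      constructor
      · intro x hx
        have h1 : (MulAut.conjNormal x : MulAut T) = 1 := by
          have : ι.symm ((MulAut.congr eT) (MulAut.conjNormal x)) = 1 := hx
          rw [MulEquiv.map_eq_one_iff] at this
          exact (MulAut.congr eT).map_eq_one_iff.1 this
        intro t ht
        have h2 := congrArg (fun φ : MulAut T => ((φ ⟨t, ht⟩ : T) : G)) h1
        simp only [MulAut.conjNormal_apply, MulAut.one_apply] at h2
        exact (mul_inv_eq_iff_eq_mul.1 h2).symm
      · rw [hTc]; exact bot_le
    have hjT : ∀ t : T, j t = eT t := by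
      intro t
      apply hbij.1
      show ι (ι.symm ((MulAut.congr eT) (MulAut.conjNormal (t : G)))) = _
      rw [MulEquiv.apply_symm_apply]
      ext a : 2
      rw [MulAut.conjNormal_apply]
      show ((eT ((MulAut.conjNormal (t : G)) (eT.symm a)) : alternatingGroup (Fin m)) : Perm (Fin m)) = _
      rw [show (MulAut.conjNormal (t : G)) (eT.symm a) = t * eT.symm a * t⁻¹ from
        Subtype.ext (MulAut.conjNormal_apply _ _), map_mul, map_mul, map_inv,
        MulEquiv.apply_symm_apply]
      rfl
    have hA : alternatingGroup (Fin m) ≤ j.range := fun a ha =>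
      ⟨(eT.symm ⟨a, ha⟩ : T), by rw [hjT, MulEquiv.apply_symm_apply]⟩
    let S := (stabilizer G ω₀).map j
    have hrel : S.relIndex j.range = Nat.card Ω := by
      show ((stabilizer G ω₀).map j).relIndex j.range = _
      rw [MonoidHom.range_eq_map, Subgroup.relIndex_map_map_of_injective _ _ hjinj,
        Subgroup.relIndex_top_right, index_stabilizer_of_transitive]
    have hTω : ¬ T ≤ stabilizer G ω₀ := fun h => by
      obtain ⟨a, ha⟩ := exists_ne ω₀
      obtain ⟨t, rfl⟩ := exists_smul_eq T ω₀ a
      exact ha (mem_stabilizer_iff.1 (h t.2))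
    have hSA : ¬ alternatingGroup (Fin m) ≤ S := fun h => by
      refine hTω fun t ht => ?_
      obtain ⟨x, hx, hxe⟩ := h (show j t ∈ alternatingGroup (Fin m) by
        rw [show t = ((⟨t, ht⟩ : T) : G) from rfl, hjT]; exact (eT ⟨t, ht⟩).2)
      rwa [← hjinj hxe]
    have hmaxS : ∀ K : Subgroup (Perm (Fin m)), S ≤ K → K ≤ j.range → K = S ∨ K = j.range := by
      intro K h1 h2
      have hle : stabilizer G ω₀ ≤ K.comap j := Subgroup.map_le_iff_le_comap.1 h1
      have hK : (K.comap j).map j = K := Subgroup.map_comap_eq_self h2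
      rcases ((IsPreprimitive.isCoatom_stabilizer_of_isPreprimitive G ω₀).le_iff.1 hle) with h | h
      · exact Or.inr (by rw [← hK, h, MonoidHom.range_eq_map])
      · exact Or.inl (by rw [← hK, h])
    obtain ⟨g, hgA, hgo, hg⟩ := LocalEven61.LargestPrime.exists_element (Fintype.card_fin m) hm
      j.range S hA (Subgroup.map_le_range _ _) hSA hmaxS hr (hrel ▸ hrd) (hrel ▸ hmax)
    refine ⟨(eT.symm ⟨g, hgA⟩ : T), ?_, fun ω hω => ?_⟩
    · rw [Subgroup.orderOf_coe, MulEquiv.orderOf_eq, ← Subgroup.orderOf_coe, hgo]
    · obtain ⟨x, rfl⟩ := exists_smul_eq G ω₀ ω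
      set t : G := ((eT.symm ⟨g, hgA⟩ : T) : G)
      have hst : x⁻¹ * t * x ∈ stabilizer G ω₀ := by
        rw [mem_stabilizer_iff, mul_smul, mul_smul, hω, inv_smul_smul]
      refine hg _ ⟨_, hst, rfl⟩ ?_
      rw [map_mul, map_mul, map_inv, show j t = g by rw [hjT, MulEquiv.apply_symm_apply]]
      have := Equiv.Perm.cycleType_conj (σ := g) (τ := (j x)⁻¹)
      rwa [inv_inv] at this

end Cfsg.Agent.S3571
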