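import Cfsg.Statements.S3573
-- import your own Cfsg.Agent.* helpers here

set_option autoImplicit false
open Cfsg

namespace Cfsg.Agent.S3573

theorem fixes_iff_aux (n k r : ℕ) (hkn : k ≤ n) (hr : r.Prime) (hrn : r ≤ n) :
    (∀ σ : Equiv.Perm (Fin n), orderOf σ = r → ∃ s : Finset (Fin n), s.card = k ∧ s.image σ = s) ↔
      k % r ≤ n % r := by
  classical
  have : Fact r.Prime := ⟨hr⟩
  constructor
  · intro h
    have hj : n / r ≠ 0 := (Nat.div_pos hrn hr.pos).ne'
    obtain ⟨σ, hσ⟩ : ∃ g : Equiv.Perm (Fin n), g.cycleType = Multiset.replicate (n / r) r := by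
      rw [Equiv.Perm.exists_with_cycleType_iff]
      refine ⟨?_, fun a ha => (Multiset.eq_of_mem_replicate ha).symm ▸ hr.two_le⟩
      rw [Multiset.sum_replicate, smul_eq_mul, Fintype.card_fin]
      exact Nat.div_mul_le_self n r
    have hord : orderOf σ = r := by
      rw [← Equiv.Perm.lcm_cycleType, hσ]
      refine Nat.dvd_antisymm (Multiset.lcm_dvd.mpr fun a ha => (Multiset.eq_of_mem_replicate ha) ▸ dvd_rfl) ?_
      exact Multiset.dvd_lcm (Multiset.mem_replicate.mpr ⟨hj, rfl⟩)
    have hfix : σ.supportᶜ.card = n % r := by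
      rw [Finset.card_compl, Fintype.card_fin, ← Equiv.Perm.sum_cycleType, hσ, Multiset.sum_replicate,
        smul_eq_mul]
      have := Nat.div_add_mod n r
      rw [mul_comm] at this
      omega
    obtain ⟨s, hs, himg⟩ := h σ hord
    have hmem : ∀ x, σ x ∈ s ↔ x ∈ s := by
      intro x
      conv_lhs => rw [← himg]
      exact Function.Injective.mem_finset_image σ.injective
    let τ : Equiv.Perm {x // x ∈ s} := σ.subtypePerm hmem
    have hτpow : τ ^ r ^ 1 = 1 := by
      rw [pow_one, Equiv.Perm.subtypePerm_pow]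
      ext x
      simp [Equiv.Perm.subtypePerm_apply, ← hord, pow_orderOf_eq_one]
    have h1 := Equiv.Perm.card_compl_support_modEq hτpow
    have h2 : τ.supportᶜ.card ≤ n % r := by
      rw [← hfix]
      refine Finset.card_le_card_of_injOn Subtype.val (fun x hx => ?_) (fun a _ b _ e => Subtype.ext e)
      simp only [Finset.coe_compl, Set.mem_compl_iff, Finset.mem_coe, Equiv.Perm.notMem_support] at hx ⊢
      exact congrArg Subtype.val hx
    rw [Fintype.card_coe, hs] at h1
    rw [← h1, Nat.mod_eq_of_lt (lt_of_le_of_lt h2 (Nat.mod_lt _ hr.pos))]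
    exact h2
  · intro hk σ hσ
    obtain ⟨j₀, hj⟩ := Equiv.Perm.cycleType_prime_order (σ := σ) (by rw [hσ]; exact hr)
    rw [hσ] at hj
    have hsupp : σ.support.card = (j₀ + 1) * r := by
      rw [← Equiv.Perm.sum_cycleType, hj, Multiset.sum_replicate, smul_eq_mul]
    have hle : (j₀ + 1) * r ≤ n := by
      rw [← hsupp]; exact (Finset.card_le_univ _).trans (Fintype.card_fin n).le
    have hC : σ.cycleFactorsFinset.card = j₀ + 1 := by
      have := congrArg Multiset.card hj
      rwa [Equiv.Perm.cycleType_def, Multiset.card_map, Multiset.card_replicate] at this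
    obtain ⟨i, f, hi, hf, hkif⟩ : ∃ i f, i ≤ j₀ + 1 ∧ f ≤ n - (j₀ + 1) * r ∧ i * r + f = k := by
      by_cases hcase : (j₀ + 1) * r ≤ k
      · exact ⟨j₀ + 1, k - (j₀ + 1) * r, le_rfl, by omega, by omega⟩
      · refine ⟨k / r, k % r, (Nat.div_le_iff_le_mul_add_pred hr.pos).mpr (by rw [mul_comm]; omega), ?_, ?_⟩
        · rcases le_or_gt r (n - (j₀ + 1) * r) with h | h
          · exact (Nat.mod_lt _ hr.pos).le.trans h
          · have : n % r = n - (j₀ + 1) * r := by
              have e1 : n = (n - (j₀ + 1) * r) + (j₀ + 1) * r := by omega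
              conv_lhs => rw [e1]
              rw [Nat.add_mul_mod_self_right, Nat.mod_eq_of_lt h]
            omega
        · rw [mul_comm]; exact Nat.div_add_mod k r
    obtain ⟨T, hT, hTc⟩ := Finset.exists_subset_card_eq (s := σ.cycleFactorsFinset) (hC.symm ▸ hi)
    obtain ⟨F, hF, hFc⟩ := Finset.exists_subset_card_eq (s := σ.supportᶜ) (n := f) (by
      rw [Finset.card_compl, Fintype.card_fin, hsupp]; exact hf)
    have hUsub : T.biUnion Equiv.Perm.support ⊆ σ.support := Finset.biUnion_subset.mpr fun c hc =>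
      Equiv.Perm.mem_cycleFactorsFinset_support_le (hT hc)
    have hUcard : (T.biUnion Equiv.Perm.support).card = i * r := by
      rw [Finset.card_biUnion, Finset.sum_const_nat (m := r), hTc]
      · intro c hc
        refine Multiset.eq_of_mem_replicate (n := j₀ + 1) (hj ▸ ?_)
        rw [Equiv.Perm.cycleType_def]
        exact Multiset.mem_map.mpr ⟨c, hT hc, rfl⟩
      · intro a ha b hb hab
        exact (σ.cycleFactorsFinset_pairwise_disjoint (hT ha) (hT hb) hab).disjoint_support
    refine ⟨T.biUnion Equiv.Perm.support ∪ F, ?_, ?_⟩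
    · rw [Finset.card_union_of_disjoint, hUcard, hFc, hkif]
      exact Finset.disjoint_left.mpr fun x hx hxF => Finset.mem_compl.mp (hF hxF) (hUsub hx)
    · refine Finset.eq_of_subset_of_card_le (fun y hy => ?_)
        (Finset.card_image_of_injective _ σ.injective).ge
      obtain ⟨x, hx, rfl⟩ := Finset.mem_image.mp hy
      rcases Finset.mem_union.mp hx with hx | hx
      · obtain ⟨c, hc, hxc⟩ := Finset.mem_biUnion.mp hx
        have e : σ x = c x := ((Equiv.Perm.mem_cycleFactorsFinset_iff.mp (hT hc)).2 x hxc).symm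
        rw [e]
        exact Finset.mem_union_left _ (Finset.mem_biUnion.mpr ⟨c, hc, Equiv.Perm.apply_mem_support.mpr hxc⟩)
      · rw [Equiv.Perm.notMem_support.mp (Finset.mem_compl.mp (hF hx))]
        exact Finset.mem_union_right _ hx


/-- Let 1 ≤ k with 2k < n and consider the symmetric group of degree n acting on the k-subsets of an n-set. Let r be a prime dividing the number C(n,k) of k-subsets. If r is odd, then every permutation of order r fixes some k-subset if and only if r ≤ k and the remainder of k modulo r is at most the remainder of n modulo r. If r = 2, then every involution fixes some k-subset if and only if k is even or n is odd. -/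
theorem result (n k : ℕ) (hk : 1 ≤ k) (hkn : 2 * k < n) (r : ℕ) (hr : r.Prime) (hrd : r ∣ Nat.choose n k) :
    (r ≠ 2 → ((∀ σ : Equiv.Perm (Fin n), orderOf σ = r → ∃ s : Finset (Fin n), s.card = k ∧ s.image σ = s) ↔
      (r ≤ k ∧ k % r ≤ n % r))) ∧
    (r = 2 → ((∀ σ : Equiv.Perm (Fin n), orderOf σ = 2 → ∃ s : Finset (Fin n), s.card = k ∧ s.image σ = s) ↔
      (Even k ∨ Odd n))) := by
  have : Fact r.Prime := ⟨hr⟩
  have hrn : r ≤ n := by
    refine hr.dvd_factorial.mp ?_
    rw [← Nat.choose_mul_factorial_mul_factorial (show k ≤ n by omega), mul_assoc]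
    exact dvd_mul_of_dvd_left hrd _
  rw [fixes_iff_aux n k r (by omega) hr hrn]
  have hlt : k < r → ¬ k % r ≤ n % r := by
    intro hkr hle
    rw [Nat.mod_eq_of_lt hkr] at hle
    have h1 := Choose.choose_modEq_choose_mod_mul_choose_div_nat (p := r) (n := n) (k := k)
    rw [Nat.mod_eq_of_lt hkr, Nat.div_eq_of_lt hkr, Nat.choose_zero_right, mul_one] at h1
    have h2 : r ∣ (n % r).choose k := Nat.modEq_zero_iff_dvd.mp (h1.symm.trans (Nat.modEq_zero_iff_dvd.mpr hrd))
    have h3 : r ∣ (n % r).factorial := by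
      rw [← Nat.choose_mul_factorial_mul_factorial hle, mul_assoc]
      exact dvd_mul_of_dvd_left h2 _
    exact absurd (hr.dvd_factorial.mp h3) (not_le.mpr (Nat.mod_lt _ hr.pos))
  refine ⟨fun _ => ⟨fun h => ⟨not_lt.mp fun hkr => hlt hkr h, h⟩, fun h => h.2⟩, ?_⟩
  rintro rfl
  have e : (∀ σ : Equiv.Perm (Fin n), orderOf σ = 2 → ∃ s : Finset (Fin n), s.card = k ∧ s.image σ = s) ↔
      k % 2 ≤ n % 2 := fixes_iff_aux n k 2 (by omega) hr hrn
  rw [e, Nat.even_iff, Nat.odd_iff]
  omega

end Cfsg.Agent.S3573
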