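import Cfsg.Statements.S3575
import Cfsg.Agent.RecogB.BlockPartition

set_option autoImplicit false
open Cfsg

namespace Cfsg.Agent.S3575

/-- Let a, b ≥ 2 and consider the symmetric group of degree a·b acting on the partitions of an (a·b)-set into b parts of size a (encoded as maps onto a b-element set all of whose fibres have a elements; a permutation fixes such a partition when it permutes the fibres). Let r be a prime dividing the number (ab)!/((a!)^b·b!) of such partitions, and let ℓ and k be the remainders of a and b modulo r. Then every permutation of order r fixes some such partition if and only if r ≤ a and one of the following holds: ℓ = 0; or k = 0 and ℓ = 1; or ℓ and k are non-zero, k·ℓ < r, and either b < r or (k + r)·ℓ ≤ k·a + r. -/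
theorem result (a b : ℕ) (ha : 2 ≤ a) (hb : 2 ≤ b) (r : ℕ) (hr : r.Prime)
    (hrd : r ∣ (a * b).factorial / (a.factorial ^ b * b.factorial)) :
    (∀ σ : Equiv.Perm (Fin (a * b)), orderOf σ = r →
        ∃ f : Fin (a * b) → Fin b, (∀ j : Fin b, Nat.card {x : Fin (a * b) // f x = j} = a) ∧
          ∃ π : Equiv.Perm (Fin b), ∀ x : Fin (a * b), f (σ x) = π (f x)) ↔
      (r ≤ a ∧ (a % r = 0 ∨ (b % r = 0 ∧ a % r = 1) ∨
        (a % r ≠ 0 ∧ b % r ≠ 0 ∧ (b % r) * (a % r) < r ∧ (b < r ∨ (b % r + r) * (a % r) ≤ (b % r) * a + r)))) := by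
  classical
  have : Fact r.Prime := ⟨hr⟩
  have hrn : r ≤ a * b := by
    refine hr.dvd_factorial.mp ?_
    have h1 := Nat.uniformBell_mul_eq b (n := a) (by omega)
    rw [mul_comm b a] at h1
    rw [← h1, mul_assoc, Nat.mul_div_cancel _ (by positivity)] at hrd
    exact h1 ▸ dvd_mul_of_dvd_left (dvd_mul_of_dvd_left hrd _) _
  rw [← Cfsg.Agent.RecogB.blockCycles_iff ha hr hrn]
  constructor
  · intro h j hj hjr
    obtain ⟨σ, hσ⟩ : ∃ g : Equiv.Perm (Fin (a * b)), g.cycleType = Multiset.replicate j r := by
      rw [Equiv.Perm.exists_with_cycleType_iff]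
      refine ⟨?_, fun x hx => (Multiset.eq_of_mem_replicate hx).symm ▸ hr.two_le⟩
      rw [Multiset.sum_replicate, smul_eq_mul, Fintype.card_fin]
      exact hjr
    have hord : orderOf σ = r := by
      rw [← Equiv.Perm.lcm_cycleType, hσ]
      refine Nat.dvd_antisymm (Multiset.lcm_dvd.mpr fun x hx => (Multiset.eq_of_mem_replicate hx) ▸ dvd_rfl) ?_
      exact Multiset.dvd_lcm (Multiset.mem_replicate.mpr ⟨by omega, rfl⟩)
    have hsup : σ.support.card = j * r := by
      rw [← Equiv.Perm.sum_cycleType, hσ, Multiset.sum_replicate, smul_eq_mul]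
    obtain ⟨f, hf, π, hπ⟩ := h σ hord
    exact Cfsg.Agent.RecogB.blockCycles_of_fix (by omega) σ (hord ▸ pow_orderOf_eq_one σ) hsup f hf π hπ
  · intro h σ hσ
    obtain ⟨j₀, hj⟩ := Equiv.Perm.cycleType_prime_order (σ := σ) (by rw [hσ]; exact hr)
    rw [hσ] at hj
    have hsup : σ.support.card = (j₀ + 1) * r := by
      rw [← Equiv.Perm.sum_cycleType, hj, Multiset.sum_replicate, smul_eq_mul]
    exact Cfsg.Agent.RecogB.exists_fix_of_blockCycles rfl σ hσ hsup (h _ (by omega) (by
      rw [← hsup]; exact (Finset.card_le_univ _).trans (Fintype.card_fin _).le))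

end Cfsg.Agent.S3575
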