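import Cfsg.Statements.S3589
import Cfsg.Agent.Iso52.Bound
import Cfsg.Agent.PrimeGraphPSp.Basic
import Cfsg.Agent.Lib.GLSemisimple.OrthExist

set_option autoImplicit false
open Cfsg

namespace Cfsg.Agent.S3589

open Matrix Cfsg.Agent.Iso52 Cfsg.Agent.Symplectic

theorem exists_iso_element {F : Type*} [Field F] {ι : Type} [Fintype ι] [DecidableEq ι] [Finite F]
    {Q : (ι → F) → F} {N n : ℕ} (h : HasElt Q N) (hn : n ∣ N) :
    ∃ g : ↥(Cfsg.isometryGroup F Q), orderOf g = n := by
  obtain ⟨g, hg, hN⟩ := h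
  let e : ((ι → F) ≃ₗ[F] (ι → F)) →* GL ι F :=
    (Units.map (LinearMap.toMatrixAlgEquiv' : ((ι → F) →ₗ[F] (ι → F)) ≃ₐ[F] Matrix ι ι F).toRingEquiv.toMonoidHom).comp
      (LinearMap.GeneralLinearGroup.generalLinearEquiv F (ι → F)).symm.toMonoidHom
  have he : ∀ (g : (ι → F) ≃ₗ[F] (ι → F)) v, (e g : Matrix ι ι F) *ᵥ v = g v := fun g v =>
    LinearMap.toMatrix'_mulVec (g : (ι → F) →ₗ[F] (ι → F)) v
  have hinj : Function.Injective e := fun a b hab => LinearEquiv.ext fun v => by rw [← he a, ← he b, hab]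
  let G : ↥(Cfsg.isometryGroup F Q) := ⟨e g, fun u v => (congrArg Q (he g u)).trans (hg u)⟩
  refine KS58.exists_orderOf_eq_of_dvd G (hn.trans (hN.trans (dvd_of_eq ?_)))
  rw [← Subgroup.orderOf_coe G]
  exact (orderOf_injective e hinj g).symm

/-- Let F be a finite field of characteristic 2 and let a, b ∈ F make the binary form z₁² + a z₁z₂ + b z₂² anisotropic. Then the symplectic group PSp(8,F) (= Sp(8,F)) and the full isometry group of the non-singular quadratic form x₁y₁ + x₂y₂ + x₃y₃ + (z₁² + a z₁z₂ + b z₂²) of minus type in dimension 8 have the same set of element orders. -/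
theorem result {F : Type*} [Field F] [Fintype F]
    [CharP F 2] (a b : F) (han : ∀ z₁ z₂ : F, z₁ ^ 2 + a * z₁ * z₂ + b * z₂ ^ 2 = 0 → z₁ = 0 ∧ z₂ = 0) :
    Set.range (orderOf : Cfsg.PSp 4 F → ℕ) = Set.range (orderOf : ↥(Cfsg.isometryGroup F (Cfsg.quadFormMinus 3 F a b)) → ℕ) := by
  classical
  ext m
  constructor
  · intro hm
    obtain ⟨g, rfl⟩ := PrimeGraphPSp.mem_range_Sp hm
    have hB : IsUnit (Matrix.J (Fin 4) F) := (Matrix.isUnit_iff_isUnit_det _).2 (Matrix.isUnit_det_J (Fin 4) F)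
    have hA : IsUnit (g : Matrix (Fin 4 ⊕ Fin 4) (Fin 4 ⊕ Fin 4) F) :=
      (Group.isUnit g).map (Matrix.symplecticGroup (Fin 4) F).subtype
    have hform := SymplecticGroup.mem_iff'.1 g.2
    obtain ⟨k, l, hk, hl, hf, hpow⟩ := exists_fits (g : Matrix (Fin 4 ⊕ Fin 4) (Fin 4 ⊕ Fin 4) F) (by simp) hA
      (ClassOrder1.charpoly_inv_of_preserving _ _ hB hform)
    obtain ⟨ζ, hζ⟩ := Cfsg.Agent.GLSemi.exists_no_root (F := F)
    obtain ⟨T, hT⟩ := Forms59.elliptic_isometric 3 a b han ζ hζ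
    refine exists_iso_element ((hasElt_of_fits hζ l hl hk hf).of_equiv T hT) (orderOf_dvd_of_pow_eq_one ?_)
    exact Subtype.ext (by rw [SubmonoidClass.coe_pow]; exact hpow)
  · rintro ⟨g, rfl⟩
    have ha : a ≠ 0 := by
      intro ha
      obtain ⟨t, ht⟩ := FiniteField.isSquare_of_char_two (ringChar.eq F 2) b
      exact one_ne_zero (han t 1 (by rw [ha, ht]; linear_combination (t * t) * (CharTwo.two_eq_zero (R := F)))).2
    let L : (((Fin 3 ⊕ Fin 3) ⊕ Fin 2) → F) ≃ₗ[F] (Fin 4 ⊕ Fin 4 → F) :=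
      { toFun := fun v => Sum.elim
          ![v (.inl (.inl 0)), v (.inl (.inl 1)), v (.inl (.inl 2)), v (.inr 0)]
          ![v (.inl (.inr 0)), v (.inl (.inr 1)), v (.inl (.inr 2)), a * v (.inr 1)]
        map_add' := fun v w => by
          funext i
          rcases i with i | i <;> fin_cases i <;> simp [mul_add]
        map_smul' := fun c v => by
          funext i
          rcases i with i | i <;> fin_cases i <;> simp [mul_left_comm]
        invFun := fun u => Sum.elim (Sum.elim ![u (.inl 0), u (.inl 1), u (.inl 2)] ![u (.inr 0), u (.inr 1), u (.inr 2)])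
          ![u (.inl 3), a⁻¹ * u (.inr 3)]
        left_inv := fun v => by
          funext i
          rcases i with (i | i) | i <;> fin_cases i <;> simp [ha]
        right_inv := fun u => by
          funext i
          rcases i with i | i <;> fin_cases i <;> simp [ha] }
    have hL : ∀ u v, Cfsg.sympForm 4 F (L u) (L v) = QuadraticMap.polar (Cfsg.quadFormMinus 3 F a b) u v := by
      intro u v
      rw [sympForm_eq_sum]
      simp [L, Fin.sum_univ_four, Fin.sum_univ_three, Cfsg.quadFormMinus, QuadraticMap.polar]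
      grind
    let op : ↥(Cfsg.isometryGroup F (Cfsg.quadFormMinus 3 F a b)) →
        ((Fin 4 ⊕ Fin 4 → F) →ₗ[F] (Fin 4 ⊕ Fin 4 → F)) := fun h =>
      L.toLinearMap ∘ₗ (((h : GL ((Fin 3 ⊕ Fin 3) ⊕ Fin 2) F) : Matrix ((Fin 3 ⊕ Fin 3) ⊕ Fin 2) ((Fin 3 ⊕ Fin 3) ⊕ Fin 2) F).mulVecLin) ∘ₗ L.symm.toLinearMap
    have hop : ∀ h u v, Cfsg.sympForm 4 F (op h u) (op h v) = Cfsg.sympForm 4 F u v := by
      intro h u v
      obtain ⟨u, rfl⟩ := L.surjective u
      obtain ⟨v, rfl⟩ := L.surjective v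
      simp only [op, LinearMap.comp_apply, LinearEquiv.coe_coe, LinearEquiv.symm_apply_apply, Matrix.mulVecLin_apply,
        hL, QuadraticMap.polar, ← Matrix.mulVec_add]
      exact congrArg₂ (· - ·) (congrArg₂ (· - ·) (h.2 (u + v) u) (h.2 u u)) (h.2 v v)
    have hs : ∀ h v, Forms.spOfLinearMap (op h) (hop h) • v = op h v := fun h v =>
      LinearMap.toMatrix'_mulVec (op h) v
    let ψ : ↥(Cfsg.isometryGroup F (Cfsg.quadFormMinus 3 F a b)) →* Sp 4 F :=
      MonoidHom.mk' (fun h => Forms.spOfLinearMap (op h) (hop h)) fun h h' => eq_of_smul_eq fun v => by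
        refine (hs (h * h') v).trans ?_
        refine Eq.trans ?_ ((mul_smul _ _ v).trans ((congrArg _ (hs h' v)).trans (hs h (op h' v)))).symm
        simp [op, Matrix.mulVec_mulVec]
    have hψ : Function.Injective ψ := fun h h' hh => by
      refine Subtype.ext (Units.ext (Matrix.ext_of_mulVec_single fun i => L.injective ?_))
      have := congrArg (fun x : Sp 4 F => x • L (Pi.single i 1)) hh
      have h2 : op h (L (Pi.single i 1)) = op h' (L (Pi.single i 1)) := (hs h _).symm.trans (this.trans (hs h' _))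
      simpa [op] using h2
    exact PrimeGraphPSp.mem_range_PSp (Or.inr CharTwo.two_eq_zero) (orderOf_injective ψ hψ g)

end Cfsg.Agent.S3589
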