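import Cfsg.Statements.S3590
import Cfsg.Agent.S3589
import Cfsg.Agent.Iso52.Ext
import Cfsg.Agent.Iso52.Double

set_option autoImplicit false
open Cfsg

namespace Cfsg.Agent.S3590

open Matrix Cfsg.Agent.Iso52

section Semi

variable {X V : Type*} [Group X] [AddCommGroup V] (φ : X →* MulAut (Multiplicative V))

theorem semi_pow (a : Multiplicative V) (x : X) (n : ℕ) :
    (⟨a, x⟩ : Multiplicative V ⋊[φ] X) ^ n = ⟨∏ i ∈ Finset.range n, φ (x ^ i) a, x ^ n⟩ := by
  induction n with
  | zero => simp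
  | succ n ih =>
    rw [pow_succ, ih, Finset.prod_range_succ, pow_succ]
    rfl

theorem semi_orderOf (a : Multiplicative V) (x : X) (h2 : ∀ b : Multiplicative V, b * b = 1) :
    ((∏ i ∈ Finset.range (orderOf x), φ (x ^ i) a) = 1 → orderOf (⟨a, x⟩ : Multiplicative V ⋊[φ] X) = orderOf x) ∧
    ((∏ i ∈ Finset.range (orderOf x), φ (x ^ i) a) ≠ 1 →
      orderOf (⟨a, x⟩ : Multiplicative V ⋊[φ] X) = 2 * orderOf x) := by
  set h : Multiplicative V ⋊[φ] X := ⟨a, x⟩ with hh
  have hdvd : orderOf x ∣ orderOf h := orderOf_map_dvd SemidirectProduct.rightHom h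
  have hn : h ^ orderOf x = SemidirectProduct.inl (∏ i ∈ Finset.range (orderOf x), φ (x ^ i) a) := by
    rw [hh, semi_pow, pow_orderOf_eq_one]
    rfl
  refine ⟨fun h1 => Nat.dvd_antisymm (orderOf_dvd_of_pow_eq_one (by rw [hn, h1, map_one])) hdvd, fun h1 => ?_⟩
  have hne : h ^ orderOf x ≠ 1 := fun h3 => h1 (SemidirectProduct.inl_injective (by rw [← hn, h3, map_one]))
  have h4 : orderOf h ∣ orderOf x * 2 := orderOf_dvd_of_pow_eq_one (by rw [pow_mul, hn, pow_two, ← map_mul, h2, map_one])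
  obtain ⟨c, hc⟩ := hdvd
  rcases (orderOf x).eq_zero_or_pos with h0 | h0
  · rw [hc, h0, zero_mul, mul_zero]
  · rw [hc] at h4
    rcases (Nat.dvd_prime Nat.prime_two).1 (Nat.dvd_of_mul_dvd_mul_left h0 h4) with rfl | rfl
    · rw [mul_one] at hc
      exact absurd (hc ▸ pow_orderOf_eq_one h) hne
    · rw [hc, mul_comm]

end Semi

section Act

variable {ι : Type*} [Fintype ι] [DecidableEq ι] {F : Type*} [Field F]

/-- Matrices acting on several copies of the natural module. -/
def matAct (r : ℕ) : GL ι F →* MulAut (Multiplicative (Fin r → ι → F)) where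
  toFun g := AddEquiv.toMultiplicative
    { toFun := fun v i => (g : Matrix ι ι F) *ᵥ v i
      invFun := fun v i => (↑g⁻¹ : Matrix ι ι F) *ᵥ v i
      left_inv := fun v => by
        funext i
        show (↑g⁻¹ : Matrix ι ι F) *ᵥ ((g : Matrix ι ι F) *ᵥ v i) = v i
        rw [Matrix.mulVec_mulVec, Units.inv_mul, Matrix.one_mulVec]
      right_inv := fun v => by
        funext i
        show (g : Matrix ι ι F) *ᵥ ((↑g⁻¹ : Matrix ι ι F) *ᵥ v i) = v i
        rw [Matrix.mulVec_mulVec, Units.mul_inv, Matrix.one_mulVec]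
      map_add' := fun v w => funext fun i => Matrix.mulVec_add _ _ _ }
  map_one' := MulEquiv.ext fun v => congrArg Multiplicative.ofAdd (funext fun i => Matrix.one_mulVec _)
  map_mul' g h := MulEquiv.ext fun v =>
    congrArg Multiplicative.ofAdd (funext fun i => (Matrix.mulVec_mulVec (v.toAdd i) (g : Matrix ι ι F) (h : Matrix ι ι F)).symm)

theorem matAct_apply (r : ℕ) (g : GL ι F) (v : Multiplicative (Fin r → ι → F)) (i : Fin r) :
    Multiplicative.toAdd (matAct r g v) i = (g : Matrix ι ι F) *ᵥ Multiplicative.toAdd v i := rfl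

/-- Linear automorphisms as invertible matrices. -/
noncomputable def toGL : ((ι → F) ≃ₗ[F] (ι → F)) →* GL ι F :=
  (Units.map (LinearMap.toMatrixAlgEquiv' : ((ι → F) →ₗ[F] (ι → F)) ≃ₐ[F] Matrix ι ι F).toRingEquiv.toMonoidHom).comp
    (LinearMap.GeneralLinearGroup.generalLinearEquiv F (ι → F)).symm.toMonoidHom

theorem toGL_mulVec (g : (ι → F) ≃ₗ[F] (ι → F)) (v : ι → F) : (toGL g : Matrix ι ι F) *ᵥ v = g v :=
  LinearMap.toMatrix'_mulVec (g : (ι → F) →ₗ[F] (ι → F)) v

theorem charpoly_inv_of_isometry [Fintype F] (Q : QuadraticForm F (ι → F))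
    (hQ : (QuadraticMap.polarBilin Q).Nondegenerate) (A : Matrix ι ι F) (hA : ∀ v, Q (A *ᵥ v) = Q v) :
    A⁻¹.charpoly = A.charpoly := by
  classical
  let bs := Pi.basisFun F ι
  set G := LinearMap.BilinForm.toMatrix bs (QuadraticMap.polarBilin Q) with hG
  have hpres : Aᵀ * G * A = G := by
    have ha : LinearMap.toMatrix bs bs A.mulVecLin = A := by
      rw [LinearMap.toMatrix_eq_toMatrix']
      exact LinearMap.toMatrix'_toLin' A
    conv_lhs => rw [← ha, hG, ← LinearMap.BilinForm.toMatrix_comp]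
    rw [hG]
    congr 1
    refine LinearMap.ext fun u => LinearMap.ext fun v => ?_
    show QuadraticMap.polar Q (A *ᵥ u) (A *ᵥ v) = QuadraticMap.polar Q u v
    simp only [QuadraticMap.polar, ← Matrix.mulVec_add, hA]
  refine ClassOrder1.charpoly_inv_of_preserving A G ?_ hpres
  rw [Matrix.isUnit_iff_isUnit_det, isUnit_iff_ne_zero]
  exact (LinearMap.BilinForm.nondegenerate_iff_det_ne_zero bs).1 hQ

end Act

theorem expo_odd {q : ℕ} (hq : Even q) (hq0 : 0 < q) (l : Multiset Typ) (hl : ∀ t ∈ l, 1 ≤ t.1) :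
    Odd (expo q l) := by
  induction l using Multiset.induction with
  | empty => simp [expo]
  | cons t l ih =>
    have h2 := ih fun u hu => hl u (Multiset.mem_cons_of_mem hu)
    have hev : Even (q ^ t.1) := (Nat.even_pow' (by have := hl t (Multiset.mem_cons_self _ _); omega)).2 hq
    have hv : Odd (val q t) := by
      unfold val
      split
      · exact Nat.Even.sub_odd (Nat.one_le_pow _ _ hq0) hev odd_one
      · exact hev.add_one
    rw [expo, Multiset.map_cons, Multiset.lcm_cons, lcm_eq_nat_lcm]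
    exact Odd.of_dvd_nat (hv.mul h2) (Nat.lcm_dvd_mul _ _)

/-- The key equality of spectra. -/
theorem spectrum_semi.{u} {F : Type u} [Field F] [Fintype F] [CharP F 2] {ζ : F} (hζ : ∀ t : F, t ^ 2 + t + ζ ≠ 0)
    (r : ℕ) :
    ∃ (H : Type u) (_ : Group H) (_ : Finite H),
      Nat.card (Fin (r + 1) → (Fin 3 ⊕ Fin 3) ⊕ Fin 2 → F) ≤ Nat.card H ∧
      Set.range (orderOf : H → ℕ) = Set.range (orderOf : ↥(Cfsg.isometryGroup F (mForm F 3 ζ)) → ℕ) := by
  classical
  let Q := Forms59.minusQF F 3 1 ζ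
  have hQf : ⇑Q = mForm F 3 ζ := Forms59.coe_minusQF F 3 1 ζ
  have hQ := Forms59.minusQF_nondegenerate (F := F) 3 1 ζ (Forms59.anisotropic_of_no_root ζ hζ)
  have hcard : Fintype.card ((Fin 3 ⊕ Fin 3) ⊕ Fin 2) = 8 := by simp
  rw [← hQf]
  obtain ⟨δ, hδ, -⟩ := UnitaryOrthogonal.Involution.exists_rkHom (Q := Q) hQ (Or.inr (by omega))
  let G := ↥(Cfsg.isometryGroup F ⇑Q)
  have hmem : ∀ g : G, g ∈ Cfsg.Omega F ⇑Q ↔ δ g = 1 := fun g => by
    rw [hδ, UnitaryOrthogonal.Involution.ofAdd_cast_eq_one_iff,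
      UnitaryOrthogonal.Involution.mem_omega_iff_even_rk hQ (Or.inr (by omega))]
  have hsq : ∀ z : Multiplicative (ZMod 2), z ^ 2 = 1 := by decide
  let X := ↥(Cfsg.Omega F ⇑Q)
  let φ : X →* MulAut (Multiplicative (Fin (r + 1) → (Fin 3 ⊕ Fin 3) ⊕ Fin 2 → F)) :=
    ((matAct (r + 1)).comp (Cfsg.isometryGroup F ⇑Q).subtype).comp (Cfsg.Omega F ⇑Q).subtype
  let H := Multiplicative (Fin (r + 1) → (Fin 3 ⊕ Fin 3) ⊕ Fin 2 → F) ⋊[φ] X
  haveI : Finite X := inferInstance
  have hfin : Finite H := Finite.of_equiv _ SemidirectProduct.equivProd.symm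
  have h2 : ∀ b : Multiplicative (Fin (r + 1) → (Fin 3 ⊕ Fin 3) ⊕ Fin 2 → F), b * b = 1 := fun b => by
    refine Multiplicative.toAdd.injective (funext fun i => funext fun j => ?_)
    exact CharTwo.add_self_eq_zero _
  let mat : G → Matrix ((Fin 3 ⊕ Fin 3) ⊕ Fin 2) ((Fin 3 ⊕ Fin 3) ⊕ Fin 2) F :=
    fun g => ((g : GL ((Fin 3 ⊕ Fin 3) ⊕ Fin 2) F) : Matrix _ _ F)
  have hmatpow : ∀ (g : G) (i : ℕ), mat (g ^ i) = mat g ^ i := fun g i =>
    (congrArg Units.val (SubmonoidClass.coe_pow g i)).trans (Units.val_pow_eq_pow_val _ _)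
  have hmatord : ∀ g : G, orderOf (mat g) = orderOf g := fun g =>
    (orderOf_units (y := (g : GL ((Fin 3 ⊕ Fin 3) ⊕ Fin 2) F))).trans (Subgroup.orderOf_coe g)
  have hS : ∀ (a : Multiplicative (Fin (r + 1) → (Fin 3 ⊕ Fin 3) ⊕ Fin 2 → F)) (x : X) (n : ℕ) (i : Fin (r + 1)),
      Multiplicative.toAdd (∏ j ∈ Finset.range n, φ (x ^ j) a) i =
        ∑ j ∈ Finset.range n, (mat x.1 ^ j) *ᵥ Multiplicative.toAdd a i := by
    intro a x n i
    rw [toAdd_prod, Finset.sum_apply]
    refine Finset.sum_congr rfl fun j _ => ?_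
    rw [← hmatpow]
    rfl
  refine ⟨H, inferInstance, hfin, ?_, Set.ext fun m => ⟨?_, ?_⟩⟩
  · rw [SemidirectProduct.card, Nat.card_congr (Multiplicative.toAdd)]
    exact Nat.le_mul_of_pos_right _ Nat.card_pos
  · rintro ⟨⟨a, x⟩, rfl⟩
    obtain ⟨hA, hB⟩ := semi_orderOf φ a x h2
    by_cases h1 : (∏ j ∈ Finset.range (orderOf x), φ (x ^ j) a) = 1
    · exact ⟨x.1, (Subgroup.orderOf_coe x).trans (hA h1).symm⟩
    · rw [hB h1]
      have hne : (∑ j ∈ Finset.range (orderOf (mat x.1)), mat x.1 ^ j) ≠ 0 := by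
        intro h
        refine h1 (Multiplicative.toAdd.injective (funext fun i => ?_))
        rw [hS, ← Subgroup.orderOf_coe, ← hmatord, ← Matrix.sum_mulVec, h, Matrix.zero_mulVec]
        rfl
      have heven : Even (mat x.1 - 1).rank := by
        rw [UnitaryOrthogonal.Involution.rank_eq_rk]
        exact (UnitaryOrthogonal.Involution.mem_omega_iff_even_rk hQ (Or.inr (by omega)) _).1 x.2
      obtain ⟨k, l, hk, hl, hf, hdvd⟩ := exists_fits_double (mat x.1) hcard (Units.isUnit _)
        (charpoly_inv_of_isometry Q hQ _ fun v => x.1.2 v v) heven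
        (by rw [hmatord]; exact orderOf_pos _) hne
      rw [hmatord, Subgroup.orderOf_coe] at hdvd
      exact S3589.exists_iso_element (Q := ⇑Q) (by rw [hQf]; exact hasElt_of_fits hζ l hl hk hf) hdvd
  · rintro ⟨g, rfl⟩
    obtain ⟨k, l, hk, hl, hf, hpow⟩ := exists_fits (mat g) hcard (Units.isUnit _)
      (charpoly_inv_of_isometry Q hQ _ fun v => g.2 v v)
    have hgdvd : orderOf g ∣ Nat.lcm (2 ^ k) (expo (Fintype.card F) l) := by
      rw [← hmatord]
      exact orderOf_dvd_of_pow_eq_one hpow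
    obtain ⟨f, -, hq⟩ := FiniteField.card F 2
    have hE : Odd (expo (Fintype.card F) l) :=
      expo_odd (by rw [hq]; exact (Nat.even_pow' f.pos.ne').2 even_two) Fintype.card_pos l hl
    set E := expo (Fintype.card F) l
    have hoddmem : ∀ g : G, g ^ E = 1 → δ g = 1 := fun g hg => by
      obtain ⟨c, hc⟩ := hE
      have h := congrArg δ hg
      rwa [map_pow, map_one, hc, pow_succ, pow_mul, hsq, one_pow, one_mul] at h
    rcases k.eq_zero_or_pos with rfl | hk1
    · obtain ⟨y, hy⟩ := S3589.exists_iso_element (Q := ⇑Q) (N := Nat.lcm (2 ^ 0) E)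
        (by rw [hQf]; exact hasElt_of_fits hζ l hl hk hf) dvd_rfl
      rw [pow_zero, Nat.lcm_one_left] at hy hgdvd
      have hyX : y ∈ Cfsg.Omega F ⇑Q := (hmem y).2 (hoddmem y (by rw [← hy]; exact pow_orderOf_eq_one y))
      refine KS58.exists_orderOf_eq_of_dvd (SemidirectProduct.inr (⟨y, hyX⟩ : X) : H) ?_
      rw [orderOf_injective _ SemidirectProduct.inr_injective]
      exact hgdvd.trans (hy.symm.trans (Subgroup.orderOf_coe (⟨y, hyX⟩ : X))).dvd
    · obtain ⟨u, t, v, huQ, htQ, hu, ht, htE, hut, htv, hnorm, hcase⟩ := exists_ext_data hζ l hl hk1 hk hf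
      let e := toGL (ι := (Fin 3 ⊕ Fin 3) ⊕ Fin 2) (F := F)
      have he : ∀ (g : ((Fin 3 ⊕ Fin 3) ⊕ Fin 2 → F) ≃ₗ[F] ((Fin 3 ⊕ Fin 3) ⊕ Fin 2 → F)) w,
          (e g : Matrix _ _ F) *ᵥ w = g w := toGL_mulVec
      have hinj : Function.Injective e := fun a b hab => LinearEquiv.ext fun w => by rw [← he a, ← he b, hab]
      have hiso : ∀ g : ((Fin 3 ⊕ Fin 3) ⊕ Fin 2 → F) ≃ₗ[F] ((Fin 3 ⊕ Fin 3) ⊕ Fin 2 → F),
          (∀ w, mForm F 3 ζ (g w) = mForm F 3 ζ w) → ∃ y : G, (y : GL ((Fin 3 ⊕ Fin 3) ⊕ Fin 2) F) = e g :=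
        fun g hg => ⟨⟨e g, fun a b => by rw [hQf]; exact (congrArg _ (he g a)).trans (hg a)⟩, rfl⟩
      obtain ⟨U, hU⟩ := hiso u huQ
      obtain ⟨T, hT⟩ := hiso t htQ
      set P := 2 ^ (k - 1) with hP
      -- an element of the subgroup with the same norm
      obtain ⟨W, hWX, hWP, hWT, hWv⟩ : ∃ W : G, δ W = 1 ∧ W ^ P = 1 ∧ Commute W T ∧
          ∀ i : ℕ, (mat W ^ i) *ᵥ v = (u ^ i) v := by
        have hUi : ∀ i : ℕ, (mat U ^ i) *ᵥ v = (u ^ i) v := fun i => by
          rw [← he, map_pow, Units.val_pow_eq_pow_val, ← hU]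
        have hUP : U ^ P = 1 := Subtype.ext (by rw [SubmonoidClass.coe_pow, hU, ← map_pow, hu, map_one]; rfl)
        have hUT : Commute U T := Subtype.ext (by
          show (U : GL ((Fin 3 ⊕ Fin 3) ⊕ Fin 2) F) * T = T * U
          rw [hU, hT]
          exact hut.map e)
        rcases hcase with ⟨s, hsQ, hs⟩ | ⟨x, hxQ, hx2, hux, hxt, hxv, hx1, hk2, c, hc⟩
        · obtain ⟨S, hS'⟩ := hiso s hsQ
          refine ⟨U, ?_, hUP, hUT, hUi⟩
          have : U = S ^ 2 := Subtype.ext (by rw [SubmonoidClass.coe_pow, hS', ← map_pow, ← hs, hU])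
          rw [this, map_pow, hsq]
        · obtain ⟨R, hR⟩ := hiso x hxQ
          by_cases hδU : δ U = 1
          · exact ⟨U, hδU, hUP, hUT, hUi⟩
          have hrk : (mat R - 1).rank = 1 := by
            have hle : LinearMap.range (mat R - 1).mulVecLin ≤ F ∙ c := by
              rintro - ⟨w, rfl⟩
              obtain ⟨z, hz⟩ := hc w
              rw [Matrix.mulVecLin_apply, Matrix.sub_mulVec, Matrix.one_mulVec]
              show (((R : GL ((Fin 3 ⊕ Fin 3) ⊕ Fin 2) F) : Matrix _ _ F) *ᵥ w - w) ∈ _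
              rw [hR, he, hz, add_sub_cancel_left]
              exact Submodule.smul_mem _ _ (Submodule.mem_span_singleton_self c)
            have h1 : (mat R - 1).rank ≤ 1 :=
              (Submodule.finrank_mono hle).trans (((finrank_span_le_card ({c} : Set _))).trans (by simp))
            have h2 : (mat R - 1).rank ≠ 0 := by
              intro h0
              rw [Matrix.rank, Submodule.finrank_eq_zero] at h0
              refine hx1 (LinearEquiv.ext fun w => ?_)
              have h3 : (mat R - 1).mulVecLin w = 0 := (Submodule.mem_bot F).1 (h0 ▸ LinearMap.mem_range_self _ w)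
              rw [Matrix.mulVecLin_apply, Matrix.sub_mulVec, Matrix.one_mulVec, sub_eq_zero] at h3
              exact (he x w).symm.trans (hR ▸ h3)
            omega
          have hδR : δ R ≠ 1 := by
            rw [hδ, Ne, UnitaryOrthogonal.Involution.ofAdd_cast_eq_one_iff, ← UnitaryOrthogonal.Involution.rank_eq_rk]
            exact fun h => Nat.not_even_one (hrk ▸ h)
          have hUR : Commute U R := Subtype.ext (by
            show (U : GL ((Fin 3 ⊕ Fin 3) ⊕ Fin 2) F) * R = R * U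
            rw [hU, hR]
            exact hux.map e)
          have hR2 : R ^ 2 = 1 := Subtype.ext (by rw [SubmonoidClass.coe_pow, hR, ← map_pow, hx2, map_one]; rfl)
          have hRT : Commute R T := Subtype.ext (by
            show (R : GL ((Fin 3 ⊕ Fin 3) ⊕ Fin 2) F) * T = T * R
            rw [hR, hT]
            exact hxt.map e)
          refine ⟨U * R, ?_, ?_, hUT.mul_left hRT, fun i => ?_⟩
          · have key : ∀ a b : Multiplicative (ZMod 2), a ≠ 1 → b ≠ 1 → a * b = 1 := by decide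
            rw [map_mul]
            exact key _ _ hδU hδR
          · obtain ⟨j, hj⟩ := Nat.exists_eq_add_of_le hk2
            rw [hUR.mul_pow, hUP, one_mul, hP, hj, show 2 + j - 1 = j + 1 by omega, pow_succ', pow_mul, hR2, one_pow]
          · rw [← hmatpow, hUR.mul_pow]
            show ((U ^ i * R ^ i : G) : GL ((Fin 3 ⊕ Fin 3) ⊕ Fin 2) F).val *ᵥ v = _
            rw [Subgroup.coe_mul, SubmonoidClass.coe_pow, SubmonoidClass.coe_pow, hU, hR, ← map_pow, ← map_pow,
              ← map_mul, he, LinearEquiv.mul_apply]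
            congr 1
            clear * - hxv
            induction i with
            | zero => rfl
            | succ i ih => rw [pow_succ, LinearEquiv.mul_apply, hxv, ih]
      have hTP : T ^ E = 1 := Subtype.ext (by rw [SubmonoidClass.coe_pow, hT, ← map_pow, ht, map_one]; rfl)
      have hTE : orderOf T = E := Nat.dvd_antisymm (orderOf_dvd_of_pow_eq_one hTP) (by
        rw [← Subgroup.orderOf_coe, hT, orderOf_injective e hinj]; exact htE)
      have hTv : ∀ i : ℕ, (mat T ^ i) *ᵥ v = v := fun i => by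
        induction i with
        | zero => rw [pow_zero, Matrix.one_mulVec]
        | succ i ih =>
          rw [pow_succ, ← Matrix.mulVec_mulVec]
          have : mat T *ᵥ v = v := by
            show ((T : GL ((Fin 3 ⊕ Fin 3) ⊕ Fin 2) F) : Matrix _ _ F) *ᵥ v = v
            rw [hT, he, htv]
          rw [this, ih]
      have hWE : orderOf W = P := by
        obtain ⟨i, hi, hiW⟩ := (Nat.dvd_prime_pow Nat.prime_two).1 (orderOf_dvd_of_pow_eq_one hWP)
        rcases eq_or_lt_of_le hi with rfl | hlt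
        · exact hiW
        exfalso
        apply hnorm
        obtain ⟨j, hj⟩ := Nat.exists_eq_add_of_le hlt
        set P' := 2 ^ (i + j) with hP'
        have hP2 : P = P' + P' := by
          rw [hP, hj, hP', show i.succ + j = (i + j) + 1 by omega, pow_succ]; omega
        have hW' : W ^ P' = 1 := orderOf_dvd_iff_pow_eq_one.1 (hiW ▸ pow_dvd_pow 2 (Nat.le_add_right i j))
        have hper : ∀ n, (u ^ (P' + n)) v = (u ^ n) v := fun n => by
          rw [← hWv, ← hWv, ← hmatpow, ← hmatpow, pow_add, hW', one_mul]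
        rw [hP2, Finset.sum_range_add]
        simp only [hper]
        funext a
        exact CharTwo.add_self_eq_zero _
      let y : G := W * T
      have hyX : y ∈ Cfsg.Omega F ⇑Q := (hmem y).2 (by rw [map_mul, hWX, hoddmem T hTP, one_mul])
      have hyord : orderOf y = P * E := by
        rw [hWT.orderOf_mul_eq_mul_orderOf_of_coprime (by
          rw [hWE, hTE, hP]; exact Nat.Coprime.pow_left _ (Nat.coprime_two_left.2 hE)), hWE, hTE]
      let a : Multiplicative (Fin (r + 1) → (Fin 3 ⊕ Fin 3) ⊕ Fin 2 → F) := Multiplicative.ofAdd fun _ => v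
      have hne : (∏ j ∈ Finset.range (orderOf (⟨y, hyX⟩ : X)), φ ((⟨y, hyX⟩ : X) ^ j) a) ≠ 1 := by
        intro h
        apply hnorm
        have h3 := congrFun (congrArg Multiplicative.toAdd h) 0
        rw [hS, ← Subgroup.orderOf_coe, hyord] at h3
        have hterm : ∀ j, (mat y ^ j) *ᵥ v = (u ^ j) v := fun j => by
          rw [← hmatpow, hWT.mul_pow]
          show (mat (W ^ j * T ^ j)) *ᵥ v = _
          rw [show mat (W ^ j * T ^ j) = mat (W ^ j) * mat (T ^ j) from rfl, hmatpow, hmatpow,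
            ← Matrix.mulVec_mulVec, hTv, hWv]
        have hper : ∀ c n, (u ^ (P * c + n)) v = (u ^ n) v := fun c n => by
          rw [pow_add, pow_mul, hu, one_pow, one_mul]
        have hsum : ∀ c, ∑ j ∈ Finset.range (P * c), (u ^ j) v = c • ∑ j ∈ Finset.range P, (u ^ j) v := fun c => by
          induction c with
          | zero => simp
          | succ c ih =>
            rw [Nat.mul_succ, Finset.sum_range_add, ih, succ_nsmul]
            simp only [hper]
        simp only [a, toAdd_ofAdd, hterm, hsum] at h3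
        obtain ⟨c, hc⟩ := hE
        rw [hc, succ_nsmul, mul_nsmul, two_nsmul] at h3
        have h4 : (∑ j ∈ Finset.range P, (u ^ j) v) + ∑ j ∈ Finset.range P, (u ^ j) v = 0 :=
          funext fun _ => CharTwo.add_self_eq_zero _
        rw [h4, nsmul_zero, zero_add] at h3
        exact h3
      refine KS58.exists_orderOf_eq_of_dvd (⟨a, ⟨y, hyX⟩⟩ : H) (hgdvd.trans ?_)
      rw [(semi_orderOf φ a (⟨y, hyX⟩ : X) h2).2 hne, ← Subgroup.orderOf_coe, hyord, ← mul_assoc, hP,
        ← pow_succ', show k - 1 + 1 = k by omega]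
      exact Nat.lcm_dvd_mul _ _

/-- Let F be a finite field of characteristic 2. Then PSp(8,F) is not determined by its set of element orders, not even up to finitely many groups: for every bound there is a finite group of larger order with exactly the same set of element orders as PSp(8,F). -/
theorem result {F : Type*} [Field F] [Fintype F]
    [CharP F 2] (M : ℕ) :
    ∃ (H : Type) (_ : Group H) (_ : Fintype H), M < Fintype.card H ∧ Set.range (orderOf : H → ℕ) = Set.range (orderOf : Cfsg.PSp 4 F → ℕ) := by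
  classical
  obtain ⟨ζ, hζ⟩ := Cfsg.Agent.GLSemi.exists_no_root (F := F)
  obtain ⟨H, hG, hfin, hcard, hspec⟩ := spectrum_semi hζ M
  haveI := Fintype.ofFinite H
  let e := (Fintype.equivFin H).symm
  letI := e.group
  refine ⟨Fin (Fintype.card H), e.group, inferInstance, ?_, ?_⟩
  · rw [Fintype.card_fin, ← Nat.card_eq_fintype_card]
    refine lt_of_lt_of_le ?_ hcard
    rw [Nat.card_fun, Nat.card_fun, ← pow_mul, Nat.card_eq_fintype_card (α := F)]
    calc M < 2 ^ M := Nat.lt_two_pow_self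
      _ ≤ Fintype.card F ^ M := Nat.pow_le_pow_left Fintype.one_lt_card _
      _ ≤ _ := Nat.pow_le_pow_right Fintype.card_pos (by simp; omega)
  · rw [S3589.result 1 ζ (Forms59.anisotropic_of_no_root ζ hζ)]
    rw [← hspec]
    exact Set.ext fun n => ⟨fun ⟨x, hx⟩ => ⟨e x, by rw [← hx]; exact MulEquiv.orderOf_eq e.mulEquiv x⟩,
      fun ⟨x, hx⟩ => ⟨e.symm x, by rw [← hx, ← MulEquiv.orderOf_eq e.mulEquiv]; exact congrArg orderOf (e.apply_symm_apply x)⟩⟩

end Cfsg.Agent.S3590
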