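import Cfsg.Statements.S3592
import Cfsg.Agent.Lib.Steiner.M11.Nse
import Cfsg.Agent.Lib.Steiner.M11.Unique
import Cfsg.Agent.Lib.Golay.M12

set_option autoImplicit false
open Cfsg

namespace Cfsg.Agent.S3592

/-- Let M be the Mathieu group M₁₁ (order 7920). If a finite group G has the same order as M and the same set of values of the function 'number of elements of order n' (taken over the element orders n that occur), then G is isomorphic to M. -/
theorem result {G : Type*} [Group G] [Finite G]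
    (hcard : Nat.card G = Nat.card ↥Cfsg.Spor.M11)
    (hnse : {c : ℕ | 0 < c ∧ ∃ n : ℕ, c = Nat.card {g : G // orderOf g = n}} =
      {c : ℕ | 0 < c ∧ ∃ n : ℕ, c = Nat.card {g : ↥Cfsg.Spor.M11 // orderOf g = n}}) :
    Nonempty (G ≃* ↥Cfsg.Spor.M11) := by
  classical
  have hM : Cfsg.IsM11 ↥Cfsg.Spor.M11 :=
    ⟨Cfsg.Agent.Golay.isSimpleGroup_M11, Cfsg.Agent.Golay.card_M11⟩
  have := Fintype.ofFinite ↥Cfsg.Spor.M11
  refine Cfsg.Agent.Steiner.M11.nonempty_mulEquiv
    (Cfsg.Agent.Steiner.M11.isM11_of_counts (hcard.trans hM.2) fun n _ hpos => ?_) hM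
  obtain ⟨-, m, hm⟩ := (Set.ext_iff.mp hnse _).mp ⟨hpos, n, rfl⟩
  rw [hm]
  by_cases hm1 : m = 1
  · left
    rw [hm1, Nat.card_eq_one_iff_unique]
    exact ⟨⟨fun a b => Subtype.ext ((orderOf_eq_one_iff.mp a.2).trans
      (orderOf_eq_one_iff.mp b.2).symm)⟩, ⟨⟨1, orderOf_one⟩⟩⟩
  · exact Or.inr (Cfsg.Agent.Steiner.M11.count_ne hM hm1)

end Cfsg.Agent.S3592
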