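import Cfsg.Statements.S3593
import Cfsg.Agent.M12Uniq.Counts
import Cfsg.Agent.M12Uniq.CountsValues
import Cfsg.Agent.M12Uniq.Glue

set_option autoImplicit false
open Cfsg

namespace Cfsg.Agent.S3593

/-- Let M be the Mathieu group M₁₂ (order 95040). If a finite group G has the same order as M and the same set of values of the function 'number of elements of order n' (taken over the element orders n that occur), then G is isomorphic to M. -/
theorem result {G : Type*} [Group G] [Finite G]
    (hcard : Nat.card G = Nat.card ↥Cfsg.Spor.M12)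
    (hnse : {c : ℕ | 0 < c ∧ ∃ n : ℕ, c = Nat.card {g : G // orderOf g = n}} =
      {c : ℕ | 0 < c ∧ ∃ n : ℕ, c = Nat.card {g : ↥Cfsg.Spor.M12 // orderOf g = n}}) :
    Nonempty (G ≃* ↥Cfsg.Spor.M12) := by
  rw [Golay.card_M12] at hcard
  rw [M12Uniq.values_M12] at hnse
  exact M12Uniq.isoM12_of_counts
    (M12Uniq.counts_of_pre (M12Uniq.pre_of_nse hcard hnse))

end Cfsg.Agent.S3593
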