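import Cfsg.Statements.S3598
import Cfsg.Agent.SquareRecog.Degrees
import Cfsg.Agent.SquareRecog.Recog
import Cfsg.Agent.Lib.LinearGroup.Simple
import Cfsg.Agent.S0494
import Cfsg.Agent.S0252

set_option autoImplicit false
open Cfsg

namespace Cfsg.Agent.S3598

/-- Let p be a prime and F a field with p² elements. If a finite group G has, for every d, the same number of irreducible complex characters of degree d as PSL(2,F) (the same first column of the character table, with multiplicities), then G is isomorphic to PSL(2,F). -/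
theorem result {F : Type*} [Field F] [Fintype F] (p : ℕ) (hp : p.Prime)
    (hF : Fintype.card F = p ^ 2) {G : Type*} [Group G] [Finite G]
    (h : ∀ d : ℕ, Nat.card {χ : Cfsg.IrrCharacter G // (χ : G → ℂ) 1 = (d : ℂ)} =
      Nat.card {χ : Cfsg.IrrCharacter (Matrix.ProjectiveSpecialLinearGroup (Fin 2) F) // (χ : Matrix.ProjectiveSpecialLinearGroup (Fin 2) F → ℂ) 1 = (d : ℂ)}) :
    Nonempty (G ≃* Matrix.ProjectiveSpecialLinearGroup (Fin 2) F) := by
  classical
  have := Fintype.ofFinite G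
  set H := Matrix.ProjectiveSpecialLinearGroup (Fin 2) F
  have : Finite H := inferInstance
  have := Fintype.ofFinite H
  have hG : ∀ χ : Cfsg.IrrCharacter G, ∃ d : ℕ, 0 < d ∧ d ∣ Nat.card G ∧ (χ : G → ℂ) 1 = d :=
    fun χ => CharClifford.exists_degree_dvd_card χ.2
  have hH : ∀ χ : Cfsg.IrrCharacter H, ∃ d : ℕ, 0 < d ∧ d ∣ Nat.card H ∧ (χ : H → ℂ) 1 = d :=
    fun χ => CharClifford.exists_degree_dvd_card χ.2
  choose dG _ _ hdG using hG
  choose dH _ _ hdH using hH
  have hfib : ∀ d : ℕ, Nonempty ({χ // dG χ = d} ≃ {χ // dH χ = d}) := fun d => by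
    refine ⟨Finite.equivFin _ |>.trans ((finCongr ?_).trans (Finite.equivFin _).symm)⟩
    rw [Nat.card_congr (Equiv.subtypeEquivRight (p := fun χ => dG χ = d)
        (q := fun χ : Cfsg.IrrCharacter G => (χ : G → ℂ) 1 = (d : ℂ))
        (fun χ => by rw [hdG χ, Nat.cast_inj])),
      Nat.card_congr (Equiv.subtypeEquivRight (p := fun χ => dH χ = d)
        (q := fun χ : Cfsg.IrrCharacter H => (χ : H → ℂ) 1 = (d : ℂ))
        (fun χ => by rw [hdH χ, Nat.cast_inj])), h d]
  let e : Cfsg.IrrCharacter G ≃ Cfsg.IrrCharacter H :=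
    Equiv.ofFiberEquiv (f := dG) (g := dH) fun d => (hfib d).some
  have he : ∀ χ, dH (e χ) = dG χ := Equiv.ofFiberEquiv_map _
  have hval : ∀ χ, (e χ : H → ℂ) 1 = (χ : G → ℂ) 1 := fun χ => by rw [hdH, he, ← hdG]
  have hcard : Nat.card G = Nat.card H := by
    have h1 := CharCore.sum_degree_sq (G := G)
    have h2 := CharCore.sum_degree_sq (G := H)
    rw [← Equiv.sum_comp e, Finset.sum_congr rfl (fun χ _ => by rw [hval χ]), h1] at h2
    exact_mod_cast h2
  have h4 : 4 ≤ Fintype.card F := hF ▸ Nat.pow_le_pow_left hp.two_le 2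
  have hperfH : commutator H = ⊤ := LinearGroup.commutator_PSL_eq_top fun _ => by
    by_contra hc
    push Not at hc
    have hsub : (Finset.univ : Finset F) ⊆ {0, 1, -1} := fun a _ => by
      by_cases ha : a = 0
      · simp [ha]
      · rcases sq_eq_one_iff.mp (hc a ha) with e | e <;> simp [e]
    have := (Finset.card_le_card hsub).trans Finset.card_le_three
    rw [Finset.card_univ] at this
    omega
  have hperf : commutator G = ⊤ := by
    have h1 := h 1
    rw [Nat.cast_one, CharCore.card_linearCharacters, CharCore.card_linearCharacters, hperfH,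
      Subgroup.index_top] at h1
    exact Subgroup.index_eq_one.mp h1
  have hgcd := LinearGroup.gcd_mul_card_PSL_two (F := F)
  rw [Nat.card_eq_fintype_card (α := F), hF] at hgcd
  rw [← hcard] at hgcd
  rcases hp.eq_two_or_odd' with rfl | hodd
  · have h60 : Nat.card G = 60 := by norm_num at hgcd ⊢; omega
    have hq : Fintype.card F = 4 := hF.trans (by norm_num)
    have hdeg : ∀ χ : Cfsg.IrrCharacter G, dG χ = 1 ∨ dG χ = 3 ∨ dG χ = 4 ∨ dG χ = 5 := fun χ => by
      obtain ⟨d, hd, hcases⟩ := SquareRecog.psl_degrees_four hq (e χ)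
      rw [hval, hdG, Nat.cast_inj] at hd
      omega
    have hsimple : IsSimpleGroup G := by
      have : Nontrivial G := Finite.one_lt_card_iff_nontrivial.mp (by omega)
      refine ⟨fun M hM => or_iff_not_imp_left.mpr fun hne => ?_⟩
      have hlt : Nat.card (G ⧸ M) ≤ 30 := by
        have h1 := M.card_eq_card_quotient_mul_card_subgroup
        have h2 : 2 ≤ Nat.card M := M.one_lt_card_iff_ne_bot.mpr hne
        nlinarith
      have hdvd : Nat.card (G ⧸ M) ∣ 60 := h60 ▸ Subgroup.card_quotient_dvd_card M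
      have hψ : ∀ ψ : Cfsg.IrrCharacter (G ⧸ M), ∃ d : ℕ, (ψ : G ⧸ M → ℂ) 1 = d ∧
          d ∣ Nat.card (G ⧸ M) ∧ (d = 3 ∨ d = 4 ∨ d = 5 ∨
            (d = 1 ∧ ψ = ⟨1, CharCore.isIrrCharacter_one⟩)) := fun ψ => by
        obtain ⟨d, -, hd, hψ1⟩ := CharClifford.exists_degree_dvd_card ψ.2
        have hd' : dG (BlocksDefect.inflate M ψ) = d := by
          have := hdG (BlocksDefect.inflate M ψ)
          exact_mod_cast this.symm.trans hψ1
        refine ⟨d, hψ1, hd, ?_⟩
        rcases hdeg (BlocksDefect.inflate M ψ) with c | c | c | c <;> rw [hd'] at c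
        · refine Or.inr (Or.inr (Or.inr ⟨c, Subtype.ext (funext fun x => ?_)⟩))
          have h1 := SquareRecog.eq_one_of_linear hperf (BlocksDefect.inflate M ψ)
            (by rw [hdG, hd', c, Nat.cast_one])
          obtain ⟨g, rfl⟩ := QuotientGroup.mk_surjective x
          exact congrFun (congrArg Subtype.val h1) g
        all_goals omega
      choose d hd1 hd2 hd3 using hψ
      have := Fintype.ofFinite (G ⧸ M)
      have hsq := CharCore.sum_degree_sq (G := G ⧸ M)
      set t : Cfsg.IrrCharacter (G ⧸ M) := ⟨1, CharCore.isIrrCharacter_one⟩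
      rw [← Finset.add_sum_erase _ _ (Finset.mem_univ t), Finset.sum_congr rfl
        (g := fun ψ => ((d ψ ^ 2 : ℕ) : ℂ)) (fun ψ _ => by rw [hd1 ψ, Nat.cast_pow]),
        ← Nat.cast_sum, show ((t : Cfsg.IrrCharacter (G ⧸ M)) : G ⧸ M → ℂ) 1 = ((1 : ℕ) : ℂ) by
          simp [t], ← Nat.cast_pow, ← Nat.cast_add, Nat.cast_inj] at hsq
      set s := Finset.univ.erase t
      have hval3 : ∀ ψ ∈ s, d ψ = 3 ∨ d ψ = 4 ∨ d ψ = 5 := fun ψ hψ => by
        rcases hd3 ψ with c | c | c | ⟨-, c⟩
        · exact Or.inl c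
        · exact Or.inr (Or.inl c)
        · exact Or.inr (Or.inr c)
        · exact absurd c (Finset.ne_of_mem_erase hψ)
      have hsum : ∑ ψ ∈ s, d ψ ^ 2 = 9 * (s.filter (d · = 3)).card + 16 * (s.filter (d · = 4)).card
          + 25 * (s.filter (d · = 5)).card := by
        simp only [Finset.card_filter, Finset.mul_sum, ← Finset.sum_add_distrib]
        refine Finset.sum_congr rfl fun ψ hψ => ?_
        rcases hval3 ψ hψ with c | c | c <;> simp [c]
      have hdiv : ∀ k, 0 < (s.filter (d · = k)).card → k ∣ Nat.card (G ⧸ M) := fun k hk => by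
        obtain ⟨ψ, hψ⟩ := Finset.card_pos.mp hk
        exact (Finset.mem_filter.mp hψ).2 ▸ hd2 ψ
      have h3 := hdiv 3
      have h4' := hdiv 4
      have h5 := hdiv 5
      rw [hsum] at hsq
      have hn0 : 0 < Nat.card (G ⧸ M) := Nat.card_pos
      refine Subgroup.index_eq_one.mp (show Nat.card (G ⧸ M) = 1 from ?_)
      generalize Nat.card (G ⧸ M) = n at *
      have : n ∈ (60 : ℕ).divisors := Nat.mem_divisors.mpr ⟨hdvd, by norm_num⟩
      rw [show (60 : ℕ).divisors = {1, 2, 3, 4, 5, 6, 10, 12, 15, 20, 30, 60} from by decide] at this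
      simp only [Finset.mem_insert, Finset.mem_singleton] at this
      omega
    exact ⟨(S0494.result h60).some.trans (S0252.result hq).some.symm⟩
  · have : Fact p.Prime := ⟨hp⟩
    obtain ⟨j, hj⟩ := hodd
    have h41 : Fintype.card F % 4 = 1 := by
      rw [hF, hj, show (2 * j + 1) ^ 2 = 4 * (j * j + j) + 1 by ring]
      omega
    have hq1 : (p ^ 2) % 2 = 1 := by omega
    refine SquareRecog.Data.recog (p := p) (h := (p ^ 2 + 1) / 2)
      ⟨hp, ⟨j, hj⟩, rfl, by omega, ?_, hperf, fun χ => ?_⟩ hF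
    · rw [Nat.gcd_eq_left (by omega : 2 ∣ p ^ 2 - 1)] at hgcd
      obtain ⟨k, hk⟩ : ∃ k, p ^ 2 = 2 * k + 1 := ⟨p ^ 2 / 2, by omega⟩
      rw [hk] at hgcd ⊢
      rw [show (2 * k + 1 + 1) / 2 = k + 1 by omega, Nat.add_sub_cancel]
      rw [show (2 * k + 1) ^ 2 - 1 = 2 * k * (2 * (k + 1)) from
        Nat.sub_eq_of_eq_add (by ring)] at hgcd
      linarith [show (2 * k + 1) * (2 * k * (2 * (k + 1))) = 2 * ((2 * k + 1) * (2 * k) * (k + 1)) by ring]
    · obtain ⟨d, hd, hcases⟩ := SquareRecog.psl_degrees h41 (e χ)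
      rw [hval] at hd
      refine ⟨d, hd, ?_⟩
      rw [hF] at hcases
      omega

end Cfsg.Agent.S3598
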