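import Cfsg.Statements.S3612
import Cfsg.Agent.OddLocal44.HalfPrimitive

set_option autoImplicit false
open Cfsg
open scoped Pointwise

namespace Cfsg.Agent.S3612

/-- Let G be an insoluble group acting faithfully and transitively on a finite set of prime size p, and suppose the normalizer of a Sylow p-subgroup of G has order p(p-1)/2. If p > 7, then the stabilizer of a point acts primitively on the remaining p - 1 points. -/
theorem result {G Ω : Type*} [Group G] [Finite G] [MulAction G Ω] [FaithfulSMul G Ω] [Finite Ω]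
    (p : ℕ) (hp : p.Prime) (hΩ : Nat.card Ω = p) (htrans : MulAction.IsPretransitive G Ω)
    (hins : ¬ Group.IsSolvable G) (P : Sylow p G)
    (hN : 2 * Nat.card ↥(Subgroup.normalizer ((P : Subgroup G) : Set G)) = p * (p - 1))
    (hp7 : 7 < p) (α : Ω) :
    MulAction.IsPreprimitive ↥(MulAction.stabilizer G α) ↥(SubMulAction.ofStabilizer G α) := by
  classical
  haveI := Fintype.ofFinite Ω
  haveI := Fact.mk hp
  haveI := htrans
  have hcard : Fintype.card Ω = p := Nat.card_eq_fintype_card.symm.trans hΩ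
  obtain ⟨-, h2, -⟩ := OddLocal44.half_normalizer_setup hcard hins P hN
  have h2t : ∀ {a b c d : Ω}, a ≠ b → c ≠ d → ∃ g : G, g • a = c ∧ g • b = d :=
    MulAction.is_two_pretransitive_iff.mp h2
  haveI : MulAction.IsPretransitive ↥(MulAction.stabilizer G α) ↥(SubMulAction.ofStabilizer G α) := by
    refine ⟨fun x y => ?_⟩
    obtain ⟨g, ga, gx⟩ := h2t (Ne.symm (show (x : Ω) ≠ α from x.2)) (Ne.symm (show (y : Ω) ≠ α from y.2))
    exact ⟨⟨g, ga⟩, Subtype.ext gx⟩
  refine ⟨fun {C} hC => ?_⟩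
  by_contra hnt
  obtain ⟨hns, hnu⟩ := not_or.mp hnt
  obtain ⟨β, hβ, y₀, hy₀, hne⟩ := Set.not_subsingleton_iff.mp hns
  obtain ⟨out, hout⟩ := (Set.ne_univ_iff_exists_notMem C).mp hnu
  refine OddLocal44.HalfPrimitive.false_of_block hcard hins P hN hp7
    (α := α) (B := Subtype.val '' C) ?_ ?_ (Set.mem_image_of_mem _ hβ) (Set.mem_image_of_mem _ hy₀)
    (fun h => hne (Subtype.ext h.symm)) ?_ out.2
  · rintro h hh _ ⟨b, hb, rfl⟩ ⟨b', hb', hbb'⟩ _ ⟨z, hz, rfl⟩
    let k : MulAction.stabilizer G α := ⟨h, hh⟩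
    have hb'' : k • b ∈ C := by
      have : b' = k • b := Subtype.ext hbb'
      exact this ▸ hb'
    have heq := MulAction.isBlock_iff_smul_eq_of_nonempty.mp hC
      (g := k) ⟨k • b, Set.smul_mem_smul_set hb, hb''⟩
    exact ⟨k • z, heq ▸ Set.smul_mem_smul_set hz, rfl⟩
  · rintro ⟨x, -, hx⟩
    exact x.2 hx
  · rintro ⟨x, hx, h⟩
    exact hout (Subtype.ext h ▸ hx)

end Cfsg.Agent.S3612
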