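import Cfsg.Statements.S3614
import Cfsg.Agent.OddLocal44.TwinAlternating

set_option autoImplicit false
open Cfsg

namespace Cfsg.Agent.S3614

/-- Let G be an insoluble group acting faithfully and transitively on a finite set of prime size p, and suppose the normalizer of a Sylow p-subgroup of G has order p(p-1)/2. If p = q + 2 = 2r + 3 > 9 or p = q + 2 = 3r + 4 > 13 with q and r prime, then G is isomorphic to the alternating group of degree p. -/
theorem result {G Ω : Type*} [Group G] [Finite G] [MulAction G Ω] [FaithfulSMul G Ω] [Finite Ω]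
    (p : ℕ) (hp : p.Prime) (hΩ : Nat.card Ω = p) (htrans : MulAction.IsPretransitive G Ω)
    (hins : ¬ Group.IsSolvable G) (P : Sylow p G)
    (hN : 2 * Nat.card ↥(Subgroup.normalizer ((P : Subgroup G) : Set G)) = p * (p - 1))
    (q r : ℕ) (hq : q.Prime) (hr : r.Prime)
    (hcases : (p = q + 2 ∧ p = 2 * r + 3 ∧ 9 < p) ∨ (p = q + 2 ∧ p = 3 * r + 4 ∧ 13 < p)) :
    Nonempty (G ≃* alternatingGroup (Fin p)) := by
  classical
  haveI := Fintype.ofFinite Ω
  haveI := Fact.mk hp
  haveI := Fact.mk hr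
  haveI := htrans
  have hcard : Fintype.card Ω = p := Nat.card_eq_fintype_card.symm.trans hΩ
  haveI : MulAction.IsPretransitive (MulAction.toPermHom G Ω).range Ω := ⟨fun a b => by
    obtain ⟨g, hg⟩ := MulAction.exists_smul_eq G a b
    exact ⟨⟨_, g, rfl⟩, hg⟩⟩
  have hprim : MulAction.IsPreprimitive (MulAction.toPermHom G Ω).range Ω :=
    MulAction.IsPreprimitive.of_prime_card (hΩ.symm ▸ hp)
  obtain ⟨k, hk, hpk, hq5⟩ : ∃ k, ((k = 2 ∧ r % 3 = 2 ∧ 2 < r) ∨ (k = 3 ∧ 3 < r)) ∧
      p = k * r + (k + 1) ∧ 5 < q := by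
    have h2 := hr.two_le
    rcases hcases with ⟨h1, h3, h4⟩ | ⟨h1, h3, h4⟩
    · refine ⟨2, Or.inl ⟨rfl, ?_, by omega⟩, by omega, by omega⟩
      rcases (show r % 3 = 0 ∨ r % 3 = 1 ∨ r % 3 = 2 by omega) with h | h | h
      · have := (Nat.prime_dvd_prime_iff_eq Nat.prime_three hr).mp (Nat.dvd_of_mod_eq_zero h)
        omega
      · have := (Nat.prime_dvd_prime_iff_eq Nat.prime_three hq).mp (Nat.dvd_of_mod_eq_zero (by omega))
        omega
      · exact h
    · exact ⟨3, Or.inr ⟨rfl, by omega⟩, by omega, by omega⟩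
  have hpq : p = q + 2 := hcases.elim (fun h => h.1) fun h => h.1
  exact OddLocal44.Twin.iso_alternating (by omega) hcard P hN
    (OddLocal44.Twin.alt_le k r hk (hcard.trans hpk) hprim
      (OddLocal44.Twin.five_transitive hq hq5 hpq hcard hins P hN))

end Cfsg.Agent.S3614
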