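import Cfsg.Statements.S3639
import Cfsg.Agent.Recog71.PrimeGraphExt
import Cfsg.Agent.Recog71.SzFix
open Matrix

set_option autoImplicit false
open Cfsg

namespace Cfsg.Agent.S3639

/-- Let S be the Suzuki group over the field with q = 2^(2m+1) ≥ 8 elements. Then there are finite groups of arbitrarily large order with the same prime graph as S. -/
theorem result {F : Type*} [Field F] [Fintype F] {m : ℕ} (hm : 1 ≤ m) (hF : Fintype.card F = 2 ^ (2 * m + 1)) (N : ℕ) :
    ∃ (H : Type) (_ : Group H) (_ : Fintype H), N < Fintype.card H ∧ ((∀ r : ℕ, r.Prime → (r ∣ Nat.card ↥(Cfsg.Lie.Sz F (2 ^ (m + 1))) ↔ r ∣ Nat.card H)) ∧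
      (∀ r s : ℕ, r.Prime → s.Prime → r ≠ s → ((∃ x : ↥(Cfsg.Lie.Sz F (2 ^ (m + 1))), orderOf x = r * s) ↔ (∃ y : H, orderOf y = r * s)))) := by
  classical
  haveI : Fact (Nat.Prime 2) := ⟨Nat.prime_two⟩
  haveI : CharP F 2 := by
    obtain ⟨p, hp⟩ := CharP.exists F
    obtain ⟨n, hp', hn⟩ := FiniteField.card F p
    rw [hF] at hn
    have : p = 2 := (Nat.prime_dvd_prime_iff_eq hp' Nat.prime_two).mp
      (hp'.dvd_of_dvd_pow (hn ▸ dvd_pow_self p n.ne_zero))
    exact this ▸ hp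
  let S := ↥(Cfsg.Lie.Sz F (2 ^ (m + 1)))
  letI : DistribMulAction S (Fin 4 → F) :=
    { smul := fun g v => ((g : GL (Fin 4) F) : Matrix (Fin 4) (Fin 4) F) *ᵥ v
      one_smul := fun v => Matrix.one_mulVec v
      mul_smul := fun g h v => (Matrix.mulVec_mulVec v _ _).symm
      smul_zero := fun g => Matrix.mulVec_zero _
      smul_add := fun g v w => Matrix.mulVec_add _ v w }
  let w : GL (Fin 4) F :=
    ⟨Recog71.SzFix.J4, Recog71.SzFix.J4, Recog71.SzFix.J4_mul_self, Recog71.SzFix.J4_mul_self⟩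
  have hw : w ∈ Cfsg.Lie.Sz F (2 ^ (m + 1)) := by
    apply Subgroup.subset_closure
    refine ⟨?_, ?_⟩
    · intro u v
      simp [w, Recog71.SzFix.J4, Cfsg.Lie.altForm4, Matrix.mulVec, dotProduct, Fin.sum_univ_four]
      ring
    · ext i j
      fin_cases i <;> fin_cases j <;>
        simp [w, Recog71.SzFix.J4, Cfsg.Lie.star4, Cfsg.Lie.pairOf, CharTwo.neg_eq,
          CharTwo.sub_eq_add]
  have hS2 : 2 ∣ Nat.card S := by
    have ht : orderOf (⟨w, hw⟩ : S) = 2 := by
      refine orderOf_eq_prime (Subtype.ext (Units.ext ?_)) ?_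
      · show (Recog71.SzFix.J4 : Matrix (Fin 4) (Fin 4) F) ^ 2 = 1
        rw [pow_two]; exact Recog71.SzFix.J4_mul_self
      · intro h
        have h' : (Recog71.SzFix.J4 : Matrix (Fin 4) (Fin 4) F) = 1 :=
          congrArg (fun x : S => ((x : GL (Fin 4) F) : Matrix (Fin 4) (Fin 4) F)) h
        have := congrFun (congrFun h' 0) 0
        simp [Recog71.SzFix.J4] at this
    exact ht ▸ orderOf_dvd_natCard _
  obtain ⟨H, i₁, i₂, hN, hgr⟩ := Recog71.exists_large_sameGraph (S := S) (V := Fin 4 → F) 2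
    (fun v => funext fun i => by simp [CharTwo.two_eq_zero]) hS2 (by
      intro s hs hs2 v hv
      by_contra h0
      have h := Recog71.SzFix.pow_four_eq_one s.2 v h0 hv
      have : orderOf s ∣ 2 ^ 2 := orderOf_dvd_of_pow_eq_one (Subtype.ext h)
      exact hs2 ((Nat.prime_dvd_prime_iff_eq hs Nat.prime_two).mp (hs.dvd_of_dvd_pow this))) N
  exact ⟨H, i₁, i₂, by rwa [← Nat.card_eq_fintype_card], hgr⟩

end Cfsg.Agent.S3639
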