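import Cfsg.Statements.S3648
import Cfsg.Statements.S3648
import Cfsg.Agent.NsePGL.Main

set_option autoImplicit false
open Cfsg

namespace Cfsg.Agent.S3648

/-- For a finite group X let nse(X) be the set of values of the function 'number of elements of order k' over the element orders k that occur. Let F be a finite field of odd order q > 3 and P = PGL(2, F) = GL(2, F) modulo its centre. If G is a finite group with the same order as P and nse(G) = nse(P), then G is isomorphic to P. -/
theorem result {F : Type*} [Field F] [Fintype F] (hodd : Odd (Fintype.card F)) (h3 : 3 < Fintype.card F)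
    {G : Type*} [Group G] [Finite G] (hcard : Nat.card G = Nat.card (GL (Fin 2) F ⧸ Subgroup.center (GL (Fin 2) F)))
    (hnse : {c : ℕ | 0 < c ∧ ∃ n : ℕ, c = Nat.card {g : G // orderOf g = n}} = {c : ℕ | 0 < c ∧ ∃ n : ℕ, c = Nat.card {g : (GL (Fin 2) F ⧸ Subgroup.center (GL (Fin 2) F)) // orderOf g = n}}) :
    Nonempty (G ≃* (GL (Fin 2) F ⧸ Subgroup.center (GL (Fin 2) F))) := by
  classical
  obtain ⟨p, hp⟩ := CharP.exists F
  obtain ⟨n, hpp, hn⟩ := FiniteField.card F p
  have : Fact p.Prime := ⟨hpp⟩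
  obtain ⟨H₀, h₀⟩ := Cfsg.Agent.NsePGL.hyp_pgl (F := F) p hodd (by omega)
  have hc : Nat.card G = Fintype.card F * (Fintype.card F ^ 2 - 1) := hcard.trans H₀.card
  obtain ⟨H, h2⟩ := Cfsg.Agent.NsePGL.hyp_of_values (G := G) H₀.prime H₀.pow hodd H₀.three hc
    (fun x => by
      obtain ⟨h0, k, hk⟩ : Cfsg.Agent.NsePGL.ordCount G (orderOf x) ∈ _ :=
        hnse ▸ (show Cfsg.Agent.NsePGL.ordCount G (orderOf x) ∈
          {c : ℕ | 0 < c ∧ ∃ n : ℕ, c = Nat.card {g : G // orderOf g = n}} from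
            ⟨Cfsg.Agent.NsePGL.ordCount_pos x, _, rfl⟩)
      rw [hk]
      rcases eq_or_ne k 1 with rfl | hk1
      · exact Or.inl (Cfsg.Agent.NsePGL.ordCount_one (G := GL (Fin 2) F ⧸ Subgroup.center _))
      rcases eq_or_ne k p with rfl | hkp
      · exact Or.inr (Or.inl H₀.numP)
      · exact Or.inr (Or.inr (H₀.dvd_ordCount hk1 hkp)))
    (by
      have hm : Fintype.card F ^ 2 ∈
          {c : ℕ | 0 < c ∧ ∃ n : ℕ, c = Nat.card {g : G // orderOf g = n}} := by
        rw [hnse]; exact ⟨by positivity, 2, h₀.symm⟩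
      obtain ⟨-, k, hk⟩ := hm
      exact ⟨k, hk.symm⟩)
  exact Cfsg.Agent.NsePGL.nonempty_iso H h2

end Cfsg.Agent.S3648
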