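import Cfsg.Statements.S3660
import Cfsg.Agent.Recog71.PrimeGraphExt
import Cfsg.Agent.Recog71.SL2Orders
open Matrix

set_option autoImplicit false
open Cfsg

namespace Cfsg.Agent.S3660

/-- The prime graph of a finite group has the prime divisors of its order as vertices, two distinct primes p, q being joined when the group has an element of order pq; two groups have the same prime graph when they have the same prime divisors and the same joined pairs. Let F be a finite field of characteristic 2 with at least 4 elements. Then there are finite groups of arbitrarily large order with the same prime graph as PSL(2,F); in particular PSL(2,F) is not determined by its prime graph. -/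
theorem result {F : Type*} [Field F] [Fintype F] [CharP F 2] (hF : 4 ≤ Fintype.card F) (N : ℕ) :
    ∃ (H : Type) (_ : Group H) (_ : Finite H), N < Nat.card H ∧
      ((∀ p : ℕ, p.Prime → (p ∣ Nat.card (Matrix.ProjectiveSpecialLinearGroup (Fin 2) F) ↔ p ∣ Nat.card H)) ∧
      (∀ p q : ℕ, p.Prime → q.Prime → p ≠ q → ((∃ g : (Matrix.ProjectiveSpecialLinearGroup (Fin 2) F), orderOf g = p * q) ↔ (∃ g : H, orderOf g = p * q)))) := by
  classical
  haveI : Fact (Nat.Prime 2) := ⟨Nat.prime_two⟩
  let S := Matrix.SpecialLinearGroup (Fin 2) F
  letI : DistribMulAction S (Fin 2 → F) :=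
    { smul := fun g v => (g : Matrix (Fin 2) (Fin 2) F) *ᵥ v
      one_smul := fun v => Matrix.one_mulVec v
      mul_smul := fun g h v => (Matrix.mulVec_mulVec v _ _).symm
      smul_zero := fun g => Matrix.mulVec_zero _
      smul_add := fun g v w => Matrix.mulVec_add _ v w }
  have hS2 : 2 ∣ Nat.card S := by
    let t : S := ⟨!![1, 1; 0, 1], by simp [Matrix.det_fin_two]⟩
    have ht : orderOf t = 2 := by
      refine orderOf_eq_prime (Subtype.ext ?_) ?_
      · show ((t : Matrix (Fin 2) (Fin 2) F)) ^ 2 = 1
        ext i j
        fin_cases i <;> fin_cases j <;>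
          simp [t, pow_two, Matrix.mul_apply, Fin.sum_univ_two, CharTwo.add_self_eq_zero]
      · intro h
        have := congrFun (congrFun (congrArg (fun x : S => (x : Matrix (Fin 2) (Fin 2) F)) h) 0) 1
        simp [t] at this
    exact ht ▸ orderOf_dvd_natCard t
  obtain ⟨H, i₁, i₂, hN, hgr⟩ := Recog71.exists_large_sameGraph (S := S) (V := Fin 2 → F) 2
    (fun v => funext fun i => by simp [CharTwo.two_eq_zero]) hS2 (by
      intro s hs hs2 v hv
      by_contra h0
      have h := Recog71.sl2_mul_self_of_fix s v h0 hv
      have : orderOf s ∣ 2 := orderOf_dvd_of_pow_eq_one (by rw [pow_two, h])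
      exact hs2 ((Nat.prime_dvd_prime_iff_eq hs Nat.prime_two).mp this)) N
  refine ⟨H, i₁, inferInstance, hN, hgr.of_mulEquiv ?_⟩
  exact ((QuotientGroup.quotientMulEquivOfEq (Recog71.sl2_center_eq_bot (F := F))).trans
    QuotientGroup.quotientBot).symm

end Cfsg.Agent.S3660
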