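import Cfsg.Statements.S4774
import Cfsg.Agent.BC86.SL2Degrees
import Cfsg.Agent.Lib.BlocksDefect.Kernel

set_option autoImplicit false
open Cfsg

namespace Cfsg.Agent.S4774

theorem charDegree_eq {G : Type*} [Group G] {χ : G → ℂ} {n : ℕ} (h : χ 1 = (n : ℂ)) :
    Cfsg.charDegree χ = n := by
  simp [Cfsg.charDegree, h]

/-- Degrees of a quotient of `SL₂(F)` by a central subgroup. -/
theorem degrees_data {F : Type*} [Field F] [Fintype F] [DecidableEq F]
    (hodd : Odd (Fintype.card F)) (h5 : 5 < Fintype.card F) {S : Type*} [Group S] [Finite S]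
    (f : Matrix.SpecialLinearGroup (Fin 2) F →* S) (hf : Function.Surjective f)
    (hker : f.ker ≤ Subgroup.center _) :
    (∀ d ∈ Cfsg.charDegrees S,
        d ∣ Fintype.card F ∨ d ∣ Fintype.card F + 1 ∨ d ∣ Fintype.card F - 1) ∧
      Fintype.card F ∈ Cfsg.charDegrees S ∧ Fintype.card F + 1 ∈ Cfsg.charDegrees S ∧
      Fintype.card F - 1 ∈ Cfsg.charDegrees S := by
  classical
  obtain ⟨j, hj⟩ := id hodd
  have hdesc : ∀ (χ : Cfsg.IrrCharacter (Matrix.SpecialLinearGroup (Fin 2) F)) (n : ℕ),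
      (χ : Matrix.SpecialLinearGroup (Fin 2) F → ℂ) BC86.negOne = (χ : Matrix.SpecialLinearGroup (Fin 2) F → ℂ) 1 → (χ : Matrix.SpecialLinearGroup (Fin 2) F → ℂ) 1 = (n : ℂ) →
        n ∈ Cfsg.charDegrees S := by
    intro χ n hχ hn
    obtain ⟨ψ, hψ⟩ := BlocksDefect.exists_inflate_eq f.ker χ (fun z hz => by
      rcases BC86.eq_one_or_negOne_of_mem_center (hker hz) with rfl | rfl
      exacts [rfl, hχ])
    let e := QuotientGroup.quotientKerEquivOfSurjective f hf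
    refine ⟨⟨_, CharCore.isIrrCharacter_comp_surjective ψ.2 e.symm.toMonoidHom e.symm.surjective⟩,
      charDegree_eq ?_⟩
    rw [← hψ] at hn
    show (ψ : Matrix.SpecialLinearGroup (Fin 2) F ⧸ f.ker → ℂ) (e.symm 1) = _
    rw [map_one]
    exact hn
  refine ⟨?_, ?_, ?_, ?_⟩
  · rintro d ⟨ψ, rfl⟩
    let χ : Cfsg.IrrCharacter (Matrix.SpecialLinearGroup (Fin 2) F) :=
      ⟨_, CharCore.isIrrCharacter_comp_surjective ψ.2 f hf⟩
    have h : ∀ n : ℕ, (χ : Matrix.SpecialLinearGroup (Fin 2) F → ℂ) 1 = (n : ℂ) → Cfsg.charDegree (ψ : S → ℂ) = n := by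
      intro n hn
      refine charDegree_eq ?_
      rw [← hn]
      show (ψ : S → ℂ) 1 = (ψ : S → ℂ) (f 1)
      rw [map_one]
    rcases Char2x2.sl_odd_cases hodd χ with ⟨-, e⟩ | ⟨-, e⟩ | ⟨-, e⟩ | ⟨-, e⟩ | ⟨-, e⟩ | ⟨-, e⟩ <;>
      rw [h _ e]
    · exact Or.inl (one_dvd _)
    · exact Or.inl dvd_rfl
    · exact Or.inr (Or.inl dvd_rfl)
    · exact Or.inr (Or.inl (Nat.div_dvd_of_dvd ⟨j + 1, by omega⟩))
    · exact Or.inr (Or.inr (Nat.div_dvd_of_dvd ⟨j, by omega⟩))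
    · exact Or.inr (Or.inr dvd_rfl)
  · refine hdesc Char2x2.stIrr _ ?_ (by simp [Char2x2.stIrr, Char2x2.stS_one])
    show Char2x2.stS BC86.negOne = Char2x2.stS 1
    rw [Char2x2.stS_one, BC86.stS_of_mem_center BC86.negOne_mem_center]
  · obtain ⟨χ, hχ, h⟩ := BC86.exists_ps_even hodd h5
    obtain ⟨α, -, e⟩ := Char2x2.mem_psSetS.mp hχ
    exact hdesc χ _ h (by rw [e, Char2x2.psS_one_apply]; push_cast; rfl)
  · obtain ⟨χ, hχ, hn, h⟩ := BC86.exists_full_cusp_even hodd (by omega : 3 < Fintype.card F)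
    obtain ⟨ε, hε⟩ := Char2x2.exists_not_isSquare hodd
    exact hdesc χ _ h (((Char2x2.half_data hodd hε).2.2 χ hχ hn).1.trans
      (Char2x2.half_casts hodd).2.2.symm)

/-- Let F be a finite field of odd characteristic t with q > 5 elements and let S be isomorphic to PSL(2,F) or to SL(2,F). Then the vertices of the character degree graph of S are the primes dividing q(q²−1); the prime t is adjacent to no vertex; two distinct primes dividing q² − 1 are adjacent exactly when one of them is 2, or both divide q + 1, or both divide q − 1. -/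
theorem result (F : Type*) [Field F] [Fintype F] (t : ℕ) [Fact t.Prime] [CharP F t] (ht : t ≠ 2) (q : ℕ) (hq : Fintype.card F = q) (h5 : 5 < q) {S : Type*} [Group S] [Finite S] (hS : Nonempty (S ≃* Matrix.ProjectiveSpecialLinearGroup (Fin 2) F) ∨ Nonempty (S ≃* Matrix.SpecialLinearGroup (Fin 2) F)) : Cfsg.degreePrimes S = {r : ℕ | r.Prime ∧ r ∣ q * (q ^ 2 - 1)} ∧ ∀ r s : ℕ, (Cfsg.degreeGraph S).Adj r s ↔ (r ≠ s ∧ r.Prime ∧ s.Prime ∧ r ∣ q ^ 2 - 1 ∧ s ∣ q ^ 2 - 1 ∧ (r = 2 ∨ s = 2 ∨ (r ∣ q + 1 ∧ s ∣ q + 1) ∨ (r ∣ q - 1 ∧ s ∣ q - 1))) := by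
  classical
  subst hq
  obtain ⟨n, -, hn⟩ := FiniteField.card F t
  have htp : t.Prime := Fact.out
  have hodd : Odd (Fintype.card F) := hn ▸ (htp.odd_of_ne_two ht).pow
  obtain ⟨hall, hq0, hqp, hqm⟩ : (∀ d ∈ Cfsg.charDegrees S,
      d ∣ Fintype.card F ∨ d ∣ Fintype.card F + 1 ∨ d ∣ Fintype.card F - 1) ∧
      Fintype.card F ∈ Cfsg.charDegrees S ∧ Fintype.card F + 1 ∈ Cfsg.charDegrees S ∧
      Fintype.card F - 1 ∈ Cfsg.charDegrees S := by
    rcases hS with ⟨⟨e⟩⟩ | ⟨⟨e⟩⟩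
    · refine degrees_data hodd h5 (e.symm.toMonoidHom.comp (QuotientGroup.mk' _))
        (e.symm.surjective.comp (QuotientGroup.mk'_surjective _)) fun z hz => ?_
      rw [MonoidHom.mem_ker, MonoidHom.comp_apply, MulEquiv.coe_toMonoidHom,
        MulEquiv.map_eq_one_iff] at hz
      exact (QuotientGroup.eq_one_iff z).mp hz
    · refine degrees_data hodd h5 e.symm.toMonoidHom e.symm.surjective fun z hz => ?_
      rw [MonoidHom.mem_ker, MulEquiv.coe_toMonoidHom, MulEquiv.map_eq_one_iff] at hz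
      exact hz ▸ one_mem _
  set q := Fintype.card F
  have hsq : q ^ 2 - 1 = (q + 1) * (q - 1) := by
    simpa using Nat.sq_sub_sq q 1
  obtain ⟨j, hj⟩ := id hodd
  have h2p : 2 ∣ q + 1 := ⟨j + 1, by omega⟩
  have h2m : 2 ∣ q - 1 := ⟨j, by omega⟩
  have hmul : ∀ {r s m : ℕ}, r.Prime → s.Prime → r ≠ s → r ∣ m → s ∣ m → r * s ∣ m :=
    fun hr hs hne h1 h2 => ((Nat.coprime_primes hr hs).mpr hne).mul_dvd_of_dvd_of_dvd h1 h2
  refine ⟨?_, fun r s => ⟨?_, ?_⟩⟩
  · ext r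
    simp only [Cfsg.degreePrimes, Set.mem_ofPred_eq, Set.mem_setOf_eq, hsq]
    refine and_congr_right fun hr => ⟨?_, fun h => ?_⟩
    · rintro ⟨d, hd, hrd⟩
      rcases hall d hd with h | h | h
      · exact (hrd.trans h).mul_right _
      · exact ((hrd.trans h).mul_right _).mul_left _
      · exact ((hrd.trans h).mul_left _).mul_left _
    · rcases hr.dvd_mul.mp h with h | h
      · exact ⟨_, hq0, h⟩
      · rcases hr.dvd_mul.mp h with h | h
        exacts [⟨_, hqp, h⟩, ⟨_, hqm, h⟩]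
  · rintro ⟨hne, hr, hs, d, hd, hrs⟩
    rcases hall d hd with h | h | h
    · have h' := hrs.trans h
      rw [hn] at h'
      exact absurd (((Nat.prime_dvd_prime_iff_eq hr htp).mp
        (hr.dvd_of_dvd_pow ((dvd_mul_right r s).trans h'))).trans
        ((Nat.prime_dvd_prime_iff_eq hs htp).mp
        (hs.dvd_of_dvd_pow ((dvd_mul_left s r).trans h'))).symm) hne
    · have h' := hrs.trans h
      refine ⟨hne, hr, hs, ?_, ?_, Or.inr (Or.inr (Or.inl
        ⟨(dvd_mul_right r s).trans h', (dvd_mul_left s r).trans h'⟩))⟩ <;> rw [hsq]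
      exacts [((dvd_mul_right r s).trans h').mul_right _, ((dvd_mul_left s r).trans h').mul_right _]
    · have h' := hrs.trans h
      refine ⟨hne, hr, hs, ?_, ?_, Or.inr (Or.inr (Or.inr
        ⟨(dvd_mul_right r s).trans h', (dvd_mul_left s r).trans h'⟩))⟩ <;> rw [hsq]
      exacts [((dvd_mul_right r s).trans h').mul_left _, ((dvd_mul_left s r).trans h').mul_left _]
  · rintro ⟨hne, hr, hs, h1, h2, h⟩
    refine ⟨hne, hr, hs, ?_⟩
    rw [hsq] at h1 h2
    rcases h with rfl | rfl | ⟨h, h'⟩ | ⟨h, h'⟩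
    · rcases hs.dvd_mul.mp h2 with h | h
      exacts [⟨_, hqp, hmul hr hs hne h2p h⟩, ⟨_, hqm, hmul hr hs hne h2m h⟩]
    · rcases hr.dvd_mul.mp h1 with h | h
      exacts [⟨_, hqp, hmul hr hs hne h h2p⟩, ⟨_, hqm, hmul hr hs hne h h2m⟩]
    · exact ⟨_, hqp, hmul hr hs hne h h'⟩
    · exact ⟨_, hqm, hmul hr hs hne h h'⟩

end Cfsg.Agent.S4774
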