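import Cfsg.Statements.S4812
import Cfsg.Agent.S2298
import Cfsg.Agent.BC87.Basic

set_option autoImplicit false
open Cfsg

namespace Cfsg.Agent.S4812

open BC87
open scoped ComplexConjugate

theorem charDegrees_mono_iso {A B : Type*} [Group A] [Group B] [Finite A] [Finite B] (e : A ≃* B) :
    Cfsg.charDegrees B ⊆ Cfsg.charDegrees A := by
  rintro _ ⟨χ, rfl⟩
  refine ⟨⟨_, CharCore.isIrrCharacter_comp_surjective χ.2 e.toMonoidHom e.surjective⟩, ?_⟩
  simp only [Cfsg.charDegree]
  show ⌊((χ : B → ℂ) (e 1)).re⌋₊ = _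
  rw [map_one]

theorem charDegrees_congr {A B : Type*} [Group A] [Group B] [Finite A] [Finite B] (e : A ≃* B) :
    Cfsg.charDegrees A = Cfsg.charDegrees B :=
  Set.Subset.antisymm (charDegrees_mono_iso e.symm) (charDegrees_mono_iso e)

/-- Irreducible characters of a product with an abelian group restrict irreducibly. -/
theorem charDegrees_prod {H A : Type*} [Group H] [CommGroup A] [Finite H] [Finite A] :
    Cfsg.charDegrees (H × A) = Cfsg.charDegrees H := by
  classical
  haveI := Fintype.ofFinite H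
  haveI := Fintype.ofFinite A
  apply Set.Subset.antisymm
  · rintro _ ⟨χ, rfl⟩
    let f : H → ℂ := fun h => (χ : H × A → ℂ) (h, 1)
    obtain ⟨n, ρ, hρ, hχ⟩ := χ.2
    have hf : Cfsg.IsCharacter H f :=
      CharCore.isCharacter_comp (CharCore.irr_isCharacter χ) (MonoidHom.inl H A)
    have habs : ∀ (h : H) (a : A), (χ : H × A → ℂ) (h, a) * conj ((χ : H × A → ℂ) (h, a)) =
        f h * conj (f h) := by
      intro h a
      obtain ⟨c, hc⟩ := CharClifford.exists_scalar_of_mem_center ρ (z := ((1 : H), a))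
        (Subgroup.mem_center_iff.mpr fun g => Prod.ext (by simp) (by simp [mul_comm]))
      have hn : (Module.finrank ℂ (Fin n → ℂ) : ℂ) ≠ 0 :=
        Nat.cast_ne_zero.mpr (CharClifford.finrank_pos_of_irreducible ρ).ne'
      have hm : ∀ m : ℕ, ρ (((1 : H), a) ^ m) = c ^ m • 1 := by
        intro m
        induction m with
        | zero => simp
        | succ m ih => rw [pow_succ, map_mul, ih, hc, smul_mul_smul_comm, one_mul, pow_succ]
      have hcard : c ^ Nat.card (H × A) = 1 := by
        have h1 := hm (Nat.card (H × A))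
        rw [pow_card_eq_one', map_one] at h1
        have h2 := congrArg (LinearMap.trace ℂ (Fin n → ℂ)) h1
        rw [map_smul, LinearMap.trace_one, smul_eq_mul] at h2
        exact (mul_eq_right₀ hn).mp h2.symm
      have hcn : c * conj c = 1 := by
        rw [Complex.mul_conj, Complex.normSq_eq_norm_sq,
          Complex.norm_eq_one_of_pow_eq_one hcard Nat.card_pos.ne']
        norm_num
      have e : (χ : H × A → ℂ) (h, a) = c * f h := by
        show _ = c * (χ : H × A → ℂ) (h, 1)
        rw [← hχ, show ((h, a) : H × A) = ((1 : H), a) * (h, 1) from Prod.ext (by simp) (by simp)]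
        simp only [Representation.character, map_mul, hc, smul_mul_assoc, one_mul, map_smul,
          smul_eq_mul]
      rw [e, map_mul]
      linear_combination (f h * conj (f h)) * hcn
    refine ⟨⟨f, CharCore.isIrrCharacter_iff.mpr ⟨hf, ?_⟩⟩, ?_⟩
    · have h1 := (CharCore.isIrrCharacter_iff.mp χ.2).2
      rw [CharCore.classInner_def, Fintype.sum_prod_type] at h1
      rw [CharCore.classInner_def, ← h1,
        Finset.sum_congr rfl fun (h : H) _ => Finset.sum_congr rfl fun (a : A) _ => habs h a]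
      simp only [Finset.sum_const, Finset.card_univ, nsmul_eq_mul, ← Finset.mul_sum,
        Nat.card_eq_fintype_card, Fintype.card_prod, Nat.cast_mul]
      have hA : (Fintype.card A : ℂ) ≠ 0 := Nat.cast_ne_zero.mpr Fintype.card_ne_zero
      field_simp
    · rfl
  · rintro _ ⟨χ, rfl⟩
    exact ⟨⟨_, CharCore.isIrrCharacter_comp_surjective χ.2 (MonoidHom.fst H A)
      (fun h => ⟨(h, 1), rfl⟩)⟩, rfl⟩

/-- Let F be a finite field of characteristic 2 with q ≥ 4 elements and let S be isomorphic to PSL(2,F) or to SL(2,F). Then the vertices of the character degree graph of S are the primes dividing q(q²−1), and two distinct primes are adjacent exactly when both divide q + 1 or both divide q − 1; so the graph has the three connected components {2}, the primes dividing q + 1 and the primes dividing q − 1, each complete. -/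
theorem result (F : Type*) [Field F] [Fintype F] [CharP F 2] (q : ℕ) (hq : Fintype.card F = q) (h4 : 4 ≤ q) {S : Type*} [Group S] [Finite S] (hS : Nonempty (S ≃* Matrix.ProjectiveSpecialLinearGroup (Fin 2) F) ∨ Nonempty (S ≃* Matrix.SpecialLinearGroup (Fin 2) F)) : Cfsg.degreePrimes S = {r : ℕ | r.Prime ∧ r ∣ q * (q ^ 2 - 1)} ∧ ∀ r s : ℕ, (Cfsg.degreeGraph S).Adj r s ↔ (r ≠ s ∧ r.Prime ∧ s.Prime ∧ ((r ∣ q + 1 ∧ s ∣ q + 1) ∨ (r ∣ q - 1 ∧ s ∣ q - 1))) := by
  classical
  have hq2 : ringChar F = 2 := ringChar.eq F 2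
  obtain ⟨f, -, hqf⟩ := FiniteField.card F 2
  rw [hq] at hqf
  -- squaring is a bijection
  have hsq : Function.Bijective fun c : Fˣ => c * c := by
    refine Finite.injective_iff_bijective.mp fun a b hab => Units.ext ?_
    have h : ((a : F)) ^ 2 = (b : F) ^ 2 := by
      rw [sq, sq, ← Units.val_mul, ← Units.val_mul]; exact congrArg Units.val hab
    have h2 : ((a : F) + b) ^ 2 = 0 := by
      rw [CharTwo.add_sq, h, CharTwo.add_self_eq_zero]
    exact CharTwo.add_eq_zero.mp (pow_eq_zero_iff two_ne_zero |>.mp h2)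
  let sc : Fˣ →* Matrix.GeneralLinearGroup (Fin 2) F :=
    Units.map (Matrix.scalar (Fin 2)).toMonoidHom
  have hscom : ∀ g c, sc c * g = g * sc c := fun g c => Units.ext <| by
    show Matrix.scalar (Fin 2) (c : F) * (g : Matrix (Fin 2) (Fin 2) F) = _ * Matrix.scalar (Fin 2) (c : F)
    exact (Matrix.scalar_commute _ (fun r => Commute.all _ r) _).eq
  let Φ : Matrix.SpecialLinearGroup (Fin 2) F × Fˣ →* Matrix.GeneralLinearGroup (Fin 2) F :=
    { toFun := fun x => Matrix.SpecialLinearGroup.toGL x.1 * sc x.2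
      map_one' := by simp
      map_mul' := fun x y => by
        rw [Prod.fst_mul, Prod.snd_mul, map_mul, map_mul]
        calc Matrix.SpecialLinearGroup.toGL x.1 * Matrix.SpecialLinearGroup.toGL y.1 *
              (sc x.2 * sc y.2)
            = Matrix.SpecialLinearGroup.toGL x.1 *
              (Matrix.SpecialLinearGroup.toGL y.1 * sc x.2) * sc y.2 := by group
          _ = _ := by rw [← hscom (Matrix.SpecialLinearGroup.toGL y.1) x.2]; group }
  have hΦ : Function.Bijective Φ := by
    have hdet : ∀ x, ((Φ x : Matrix.GeneralLinearGroup (Fin 2) F) :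
        Matrix (Fin 2) (Fin 2) F).det = ((x.2 * x.2 : Fˣ) : F) := fun x => by
      show ((x.1 : Matrix (Fin 2) (Fin 2) F) * Matrix.scalar (Fin 2) (x.2 : F)).det = _
      rw [Matrix.det_mul, Matrix.SpecialLinearGroup.det_coe, one_mul]
      simp [Matrix.scalar_apply, sq]
    refine ⟨fun x y hxy => ?_, fun g => ?_⟩
    · have h2 : x.2 = y.2 := hsq.1 (Units.ext (by
        show ((x.2 * x.2 : Fˣ) : F) = ((y.2 * y.2 : Fˣ) : F)
        rw [← hdet, ← hdet, hxy]))
      refine Prod.ext ?_ h2
      have h : Matrix.SpecialLinearGroup.toGL x.1 * sc x.2 =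
          Matrix.SpecialLinearGroup.toGL y.1 * sc x.2 := hxy.trans (by rw [h2]; rfl)
      exact Subtype.ext (congrArg Units.val (mul_right_cancel h))
    · obtain ⟨c, hc⟩ := hsq.2 (Matrix.GeneralLinearGroup.det g)
      have hc' : ((c : F)) * (c : F) = (g : Matrix (Fin 2) (Fin 2) F).det := by
        rw [← Units.val_mul]; exact congrArg Units.val hc
      refine ⟨(⟨((g * (sc c)⁻¹ : Matrix.GeneralLinearGroup (Fin 2) F) : Matrix (Fin 2) (Fin 2) F),
        ?_⟩, c), ?_⟩
      · rw [← map_inv]
        show ((g : Matrix (Fin 2) (Fin 2) F) * Matrix.scalar (Fin 2) ((c⁻¹ : Fˣ) : F)).det = 1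
        rw [Matrix.det_mul, ← hc']
        simp [Matrix.scalar_apply]
        field_simp
      · refine Units.ext ?_
        show ((g * (sc c)⁻¹ : Matrix.GeneralLinearGroup (Fin 2) F) : Matrix (Fin 2) (Fin 2) F) *
          ((sc c : Matrix.GeneralLinearGroup (Fin 2) F) : Matrix (Fin 2) (Fin 2) F) = _
        rw [← Units.val_mul, inv_mul_cancel_right]
  have hSL : Cfsg.charDegrees S = Cfsg.charDegrees (Matrix.GeneralLinearGroup (Fin 2) F) := by
    have h1 : Cfsg.charDegrees (Matrix.SpecialLinearGroup (Fin 2) F) =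
        Cfsg.charDegrees (Matrix.GeneralLinearGroup (Fin 2) F) := by
      rw [← charDegrees_congr (MulEquiv.ofBijective Φ hΦ), charDegrees_prod]
    rcases hS with ⟨⟨e⟩⟩ | ⟨⟨e⟩⟩
    · have hcen : Subgroup.center (Matrix.SpecialLinearGroup (Fin 2) F) = ⊥ := by
        rw [eq_bot_iff]
        intro A hA
        obtain ⟨r, hr, hrA⟩ := Matrix.SpecialLinearGroup.mem_center_iff.mp hA
        have h2 : (r + 1) ^ 2 = 0 := by
          rw [Fintype.card_fin] at hr
          rw [CharTwo.add_sq, hr, one_pow, CharTwo.add_self_eq_zero]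
        have hr1 : r = 1 := CharTwo.add_eq_zero.mp (pow_eq_zero_iff two_ne_zero |>.mp h2)
        rw [Subgroup.mem_bot]
        refine Subtype.ext ?_
        rw [← hrA, hr1, map_one]
        rfl
      let e' : Matrix.ProjectiveSpecialLinearGroup (Fin 2) F ≃* Matrix.SpecialLinearGroup (Fin 2) F :=
        (QuotientGroup.quotientMulEquivOfEq hcen).trans QuotientGroup.quotientBot
      rw [charDegrees_congr (e.trans e'), h1]
    · rw [charDegrees_congr e, h1]
  obtain ⟨hall, hcnt⟩ := S2298.result (F := F)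
  obtain ⟨-, cq, cp, cm⟩ := hcnt (by omega)
  rw [hq] at hall cq cp cm
  have hdeg : ∀ d, d ∈ Cfsg.charDegrees S ↔ d = 1 ∨ d = q - 1 ∨ d = q ∨ d = q + 1 := by
    intro d
    rw [hSL]
    constructor
    · rintro ⟨χ, rfl⟩
      rcases hall _ χ.2 with h | h | h | h
      · left; exact charDegree_eq (by rw [h, Nat.cast_one])
      · right; left; exact charDegree_eq (by rw [h, Nat.cast_sub (by omega), Nat.cast_one])
      · right; right; left; exact charDegree_eq h
      · right; right; right; exact charDegree_eq (by rw [h]; push_cast; rfl)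
    · have hmul : 2 ≤ (q - 1) * (q - 2) ∧ 2 ≤ q * (q - 1) :=
        ⟨le_trans (by norm_num) (Nat.mul_le_mul (show 3 ≤ q - 1 by omega) (show 2 ≤ q - 2 by omega)),
          le_trans (by norm_num) (Nat.mul_le_mul h4 (show 3 ≤ q - 1 by omega))⟩
      have hex : ∀ {x : ℂ}, Nat.card {χ : Cfsg.IrrCharacter (Matrix.GeneralLinearGroup (Fin 2) F) //
          (χ : Matrix.GeneralLinearGroup (Fin 2) F → ℂ) 1 = x} ≠ 0 →
          ∃ χ : Cfsg.IrrCharacter (Matrix.GeneralLinearGroup (Fin 2) F),
            (χ : Matrix.GeneralLinearGroup (Fin 2) F → ℂ) 1 = x := fun h =>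
        let ⟨χ⟩ := (Nat.card_ne_zero.mp h).1; ⟨χ.1, χ.2⟩
      rintro (rfl | rfl | rfl | rfl)
      · exact ⟨triv _, charDegree_eq (by simp)⟩
      · obtain ⟨χ, hχ⟩ := hex (x := (q : ℂ) - 1) (by
          rw [cm]; have := Nat.div_le_div_right (c := 2) hmul.2; omega)
        exact ⟨χ, charDegree_eq (by rw [hχ, Nat.cast_sub (by omega), Nat.cast_one])⟩
      · obtain ⟨χ, hχ⟩ := hex (x := (d : ℂ)) (by rw [cq]; omega)
        exact ⟨χ, charDegree_eq hχ⟩
      · obtain ⟨χ, hχ⟩ := hex (x := (q : ℂ) + 1) (by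
          rw [cp]; have := Nat.div_le_div_right (c := 2) hmul.1; omega)
        exact ⟨χ, charDegree_eq (by rw [hχ]; push_cast; rfl)⟩
  have hfac : q * (q ^ 2 - 1) = q * ((q + 1) * (q - 1)) := by
    rw [show q ^ 2 - 1 = q ^ 2 - 1 ^ 2 by norm_num, Nat.sq_sub_sq]
  constructor
  · ext r
    simp only [Cfsg.degreePrimes, Set.mem_setOf_eq, hdeg]
    refine and_congr_right fun hr => ⟨?_, fun h => ?_⟩
    · rintro ⟨d, hd, hrd⟩
      rw [hfac]
      rcases hd with rfl | rfl | rfl | rfl
      · exact absurd hrd hr.not_dvd_one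
      · exact (hrd.mul_left _).mul_left _
      · exact hrd.mul_right _
      · exact (hrd.mul_right _).mul_left _
    · rw [hfac] at h
      rcases hr.dvd_mul.mp h with h | h
      · exact ⟨q, Or.inr (Or.inr (Or.inl rfl)), h⟩
      rcases hr.dvd_mul.mp h with h | h
      · exact ⟨q + 1, Or.inr (Or.inr (Or.inr rfl)), h⟩
      · exact ⟨q - 1, Or.inr (Or.inl rfl), h⟩
  · intro r s
    simp only [Cfsg.degreeGraph, hdeg]
    refine and_congr_right fun hne => and_congr_right fun hr => and_congr_right fun hs => ⟨?_, ?_⟩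
    · rintro ⟨d, hd, hrd⟩
      have h1 : r ∣ d := dvd_trans (dvd_mul_right r s) hrd
      have h2 : s ∣ d := dvd_trans (dvd_mul_left s r) hrd
      rcases hd with rfl | rfl | rfl | rfl
      · exact absurd h1 hr.not_dvd_one
      · exact Or.inr ⟨h1, h2⟩
      · rw [hqf] at h1 h2
        exact absurd (((Nat.prime_dvd_prime_iff_eq hr Nat.prime_two).mp
          (hr.dvd_of_dvd_pow h1)).trans
          ((Nat.prime_dvd_prime_iff_eq hs Nat.prime_two).mp (hs.dvd_of_dvd_pow h2)).symm) hne
      · exact Or.inl ⟨h1, h2⟩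
    · have hcop : Nat.Coprime r s := (Nat.coprime_primes hr hs).mpr hne
      rintro (⟨h1, h2⟩ | ⟨h1, h2⟩)
      · exact ⟨q + 1, Or.inr (Or.inr (Or.inr rfl)), hcop.mul_dvd_of_dvd_of_dvd h1 h2⟩
      · exact ⟨q - 1, Or.inr (Or.inl rfl), hcop.mul_dvd_of_dvd_of_dvd h1 h2⟩

end Cfsg.Agent.S4812
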