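import Cfsg.Statements.S3668
import Cfsg.Agent.SmallS16.GapA
import Cfsg.Agent.SmallS16.GapB
import Cfsg.Agent.SmallS16.Degrees
import Cfsg.Agent.SmallS16.Reduce
import Cfsg.Agent.SmallS16.Unique5616
import Cfsg.Agent.S0494
import Cfsg.Agent.S0495
import Cfsg.Agent.S0496
import Cfsg.Agent.S0497
import Cfsg.Agent.S0498
import Cfsg.Agent.S0981
import Cfsg.Agent.S0983
import Cfsg.Agent.S0984
import Cfsg.Agent.S1011
import Cfsg.Agent.S1020
import Cfsg.Agent.S1021
import Mathlib.FieldTheory.Finite.GaloisField

set_option autoImplicit false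
open Cfsg

namespace Cfsg.Agent.S3668

/-- The orders of the simple groups of order below 6000. -/
theorem card_mem {S : Type*} [Group S] [Finite S] [IsSimpleGroup S] (hS : ¬ IsMulCommutative S)
    (hlt : Nat.card S < 6000) :
    Nat.card S ∈ ([60, 168, 360, 504, 660, 1092, 2448, 2520, 3420, 4080, 5616] : List ℕ) := by
  rcases le_or_gt (Nat.card S) 1092 with h | h
  · rcases Cfsg.Agent.S0496.result hS h with h | h | h | h | h | h <;> simp [h]
  rcases le_or_gt (Nat.card S) 3640 with h' | h'
  · have h1 := SmallS16.card_mem_gap hS h h'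
    have h2 := SmallS16.not_gapA (G := S) hS
    have h3 := SmallS16.not_gapB (G := S) hS
    simp only [List.mem_cons, List.not_mem_nil, or_false] at h1 h2 h3 ⊢
    omega
  · rcases Cfsg.Agent.S0983.result hS h' (by omega) with h | h | h | h
    · simp [h]
    · simp [h]
    all_goals omega

/-- Simple groups of the same order below 6000 are isomorphic. -/
theorem equiv_of_card {S : Type*} [Group S] [Finite S] [IsSimpleGroup S] {G : Type*} [Group G]
    [Finite G] [IsSimpleGroup G] (hcard : Nat.card G = Nat.card S)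
    (hn : Nat.card S ∈ ([60, 168, 360, 504, 660, 1092, 2448, 2520, 3420, 4080, 5616] : List ℕ)) :
    Nonempty (G ≃* S) := by
  simp only [List.mem_cons, List.not_mem_nil, or_false] at hn
  have : Fact (Nat.Prime 2) := ⟨Nat.prime_two⟩
  have : Fact (Nat.Prime 7) := ⟨by norm_num⟩
  have : Fact (Nat.Prime 11) := ⟨by norm_num⟩
  have : Fact (Nat.Prime 13) := ⟨by norm_num⟩
  have : Fact (Nat.Prime 17) := ⟨by norm_num⟩
  have : Fact (Nat.Prime 19) := ⟨by norm_num⟩
  let _ : Fintype (GaloisField 2 3) := Fintype.ofFinite _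
  let _ : Fintype (GaloisField 2 4) := Fintype.ofFinite _
  have h8 : Fintype.card (GaloisField 2 3) = 8 := by
    rw [← Nat.card_eq_fintype_card, GaloisField.card 2 3 (by norm_num)]; norm_num
  have h16 : Fintype.card (GaloisField 2 4) = 16 := by
    rw [← Nat.card_eq_fintype_card, GaloisField.card 2 4 (by norm_num)]; norm_num
  rcases hn with h | h | h | h | h | h | h | h | h | h | h
  · obtain ⟨e⟩ := Cfsg.Agent.S0494.result (G := G) (hcard.trans h)
    obtain ⟨f⟩ := Cfsg.Agent.S0494.result h
    exact ⟨e.trans f.symm⟩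
  · obtain ⟨e⟩ := Cfsg.Agent.S0495.result (G := G) (hcard.trans h) (F := ZMod 7) (ZMod.card 7)
    obtain ⟨f⟩ := Cfsg.Agent.S0495.result h (F := ZMod 7) (ZMod.card 7)
    exact ⟨e.trans f.symm⟩
  · obtain ⟨e⟩ := Cfsg.Agent.S0497.result (G := G) (hcard.trans h)
    obtain ⟨f⟩ := Cfsg.Agent.S0497.result h
    exact ⟨e.trans f.symm⟩
  · obtain ⟨e⟩ := Cfsg.Agent.S1011.result (G := G) (hcard.trans h) h8
    obtain ⟨f⟩ := Cfsg.Agent.S1011.result h h8
    exact ⟨e.trans f.symm⟩
  · obtain ⟨e⟩ := Cfsg.Agent.S0498.result (G := G) 11 (Or.inl rfl) (by rw [hcard, h]; norm_num)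
      (F := ZMod 11) (ZMod.card 11)
    obtain ⟨f⟩ := Cfsg.Agent.S0498.result (G := S) 11 (Or.inl rfl) (by rw [h]; norm_num)
      (F := ZMod 11) (ZMod.card 11)
    exact ⟨e.trans f.symm⟩
  · obtain ⟨e⟩ := Cfsg.Agent.S0498.result (G := G) 13 (Or.inr rfl) (by rw [hcard, h]; norm_num)
      (F := ZMod 13) (ZMod.card 13)
    obtain ⟨f⟩ := Cfsg.Agent.S0498.result (G := S) 13 (Or.inr rfl) (by rw [h]; norm_num)
      (F := ZMod 13) (ZMod.card 13)
    exact ⟨e.trans f.symm⟩
  · obtain ⟨e⟩ := Cfsg.Agent.S1020.result (G := G) (hcard.trans h) (F := ZMod 17) (ZMod.card 17)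
    obtain ⟨f⟩ := Cfsg.Agent.S1020.result h (F := ZMod 17) (ZMod.card 17)
    exact ⟨e.trans f.symm⟩
  · obtain ⟨e⟩ := Cfsg.Agent.S0984.result (G := G) (hcard.trans h)
    obtain ⟨f⟩ := Cfsg.Agent.S0984.result h
    exact ⟨e.trans f.symm⟩
  · obtain ⟨e⟩ := Cfsg.Agent.S1021.result (G := G) (hcard.trans h) (F := ZMod 19) (ZMod.card 19)
    obtain ⟨f⟩ := Cfsg.Agent.S1021.result h (F := ZMod 19) (ZMod.card 19)
    exact ⟨e.trans f.symm⟩
  · obtain ⟨e⟩ := Cfsg.Agent.S0981.result (G := G) (hcard.trans h) h16
    obtain ⟨f⟩ := Cfsg.Agent.S0981.result h h16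
    exact ⟨e.trans f.symm⟩
  · exact SmallS16.mulEquiv_5616 (hcard.trans h) h

/-- The character degree graph of a finite group has as vertices the primes dividing some irreducible complex character degree, two distinct primes being joined when their product divides some irreducible character degree; two groups have the same character degree graph when they have the same vertices and the same joined pairs. Let S be a finite non-abelian simple group of order less than 6000. If a finite group G has the same order as S and the same character degree graph as S, then G is isomorphic to S. -/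
theorem result {S : Type*} [Group S] [Finite S] [IsSimpleGroup S] (hS : ¬ IsMulCommutative S)
    (hlt : Nat.card S < 6000) {G : Type*} [Group G] [Finite G] (hcard : Nat.card G = Nat.card S) (hΓ : Cfsg.degreePrimes G = Cfsg.degreePrimes S ∧ Cfsg.degreeGraph G = Cfsg.degreeGraph S) :
    Nonempty (G ≃* S) := by
  have hn := card_mem hS hlt
  obtain ⟨hsimple, -⟩ := SmallS16.simple_of_same_graph hS hn hcard hΓ
    (fun h => SmallS16.degrees_2520 h) (fun h => SmallS16.degrees_5616 h)
  exact equiv_of_card hcard hn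

end Cfsg.Agent.S3668
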