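import Cfsg.Statements.S3670
import Cfsg.Agent.UnitaryThree22.Instance
import Cfsg.Agent.UnitaryThree22.Solvable
import Cfsg.Agent.S0188
-- import your own Cfsg.Agent.* helpers here

set_option autoImplicit false
open Cfsg

namespace Cfsg.Agent.S3670

/-- Degree graph of a group of order 6048 with degrees divisible by 6, 14 and 21. -/
theorem graph_eq {G : Type*} [Group G] [Finite G] (hcard : Nat.card G = 6048)
    (h6 : ∃ χ : Cfsg.IrrCharacter G, 6 ∣ Cfsg.charDegree (χ : G → ℂ))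
    (h14 : ∃ χ : Cfsg.IrrCharacter G, 14 ∣ Cfsg.charDegree (χ : G → ℂ))
    (h21 : ∃ χ : Cfsg.IrrCharacter G, 21 ∣ Cfsg.charDegree (χ : G → ℂ)) :
    Cfsg.degreePrimes G = {p | p = 2 ∨ p = 3 ∨ p = 7} ∧
    ∀ p q, (Cfsg.degreeGraph G).Adj p q ↔
      p ≠ q ∧ (p = 2 ∨ p = 3 ∨ p = 7) ∧ (q = 2 ∨ q = 3 ∨ q = 7) := by
  have hmem : ∀ p : ℕ, p.Prime → ∀ d ∈ Cfsg.charDegrees G, p ∣ d → p = 2 ∨ p = 3 ∨ p = 7 := by
    intro p hp d hd hpd
    obtain ⟨χ, rfl⟩ := hd
    have h : p ∣ 2 ^ 5 * 3 ^ 3 * 7 := by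
      have := hpd.trans (BC87.charDegree_dvd_card χ)
      rw [hcard] at this
      norm_num
      exact this
    rcases (Nat.Prime.dvd_mul hp).1 h with h' | h'
    · rcases (Nat.Prime.dvd_mul hp).1 h' with h'' | h''
      · exact Or.inl ((Nat.prime_dvd_prime_iff_eq hp Nat.prime_two).1 (hp.dvd_of_dvd_pow h''))
      · exact Or.inr (Or.inl
          ((Nat.prime_dvd_prime_iff_eq hp Nat.prime_three).1 (hp.dvd_of_dvd_pow h'')))
    · exact Or.inr (Or.inr ((Nat.prime_dvd_prime_iff_eq hp (by decide)).1 h'))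
  obtain ⟨χ6, h6⟩ := h6
  obtain ⟨χ14, h14⟩ := h14
  obtain ⟨χ21, h21⟩ := h21
  refine ⟨Set.ext fun p => ⟨fun ⟨hp, d, hd, hpd⟩ => hmem p hp d hd hpd, ?_⟩, fun p q => ⟨?_, ?_⟩⟩
  · rintro (rfl | rfl | rfl)
    · exact ⟨Nat.prime_two, _, ⟨χ6, rfl⟩, (by norm_num : 2 ∣ 6).trans h6⟩
    · exact ⟨Nat.prime_three, _, ⟨χ6, rfl⟩, (by norm_num : 3 ∣ 6).trans h6⟩
    · exact ⟨by decide, _, ⟨χ14, rfl⟩, (by norm_num : 7 ∣ 14).trans h14⟩
  · rintro ⟨hne, hp, hq, d, hd, hpq⟩
    exact ⟨hne, hmem p hp d hd ((dvd_mul_right p q).trans hpq),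
      hmem q hq d hd ((dvd_mul_left q p).trans hpq)⟩
  · rintro ⟨hne, hp | hp | hp, hq | hq | hq⟩ <;> subst hp <;> subst hq <;>
      first
      | exact absurd rfl hne
      | exact ⟨hne, by decide, by decide, _, ⟨χ6, rfl⟩, h6⟩
      | exact ⟨hne, by decide, by decide, _, ⟨χ14, rfl⟩, h14⟩
      | exact ⟨hne, by decide, by decide, _, ⟨χ21, rfl⟩, h21⟩

/-- The character degree graph of a finite group has as vertices the primes dividing some irreducible complex character degree, two distinct primes being joined when their product divides some irreducible character degree; two groups have the same character degree graph when they have the same vertices and the same joined pairs. Let F be the field with 9 elements and L = PSU(3,3) realised over F (order 6048). There is a finite solvable group of order 6048 with the same character degree graph as L; so L is not determined by its order together with its character degree graph. -/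
theorem result {F : Type*} [Field F] [Fintype F] (hF : Fintype.card F = 9) :
    ∃ (H : Type) (_ : Group H) (_ : Fintype H), Group.IsSolvable H ∧ Nat.card H = 6048 ∧ Cfsg.degreePrimes H = Cfsg.degreePrimes (Cfsg.PSU 3 F 3) ∧ Cfsg.degreeGraph H = Cfsg.degreeGraph (Cfsg.PSU 3 F 3) := by
  classical
  have hF' : Fintype.card F = 3 ^ 2 := by rw [hF]; norm_num
  obtain ⟨D⟩ := UnitaryThree22.nonempty_datum hF'
  have : Fintype ↥(Cfsg.SU 3 F 3) := Fintype.ofFinite _
  have hcen : Subgroup.center (Cfsg.SU 3 F 3) = ⊥ := by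
    refine Subgroup.eq_bot_of_card_eq _ ?_
    rw [Unitary.card_center hF' (by norm_num : 2 ≤ 3)]
    rfl
  let π := QuotientGroup.mk' (Subgroup.center (Cfsg.SU 3 F 3))
  have hπ : Function.Bijective π :=
    ⟨(MonoidHom.ker_eq_bot_iff _).1 (by rw [QuotientGroup.ker_mk']; exact hcen),
      QuotientGroup.mk'_surjective _⟩
  let e : Cfsg.SU 3 F 3 ≃* Cfsg.PSU 3 F 3 := MulEquiv.ofBijective π hπ
  have hP : Nat.card (Cfsg.PSU 3 F 3) = 6048 := by rw [← Nat.card_congr e.toEquiv]; exact D.card_G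
  have htr : ∀ n : ℕ, (∃ χ : Cfsg.IrrCharacter (Cfsg.SU 3 F 3),
      n ∣ Cfsg.charDegree (χ : Cfsg.SU 3 F 3 → ℂ)) →
      ∃ χ : Cfsg.IrrCharacter (Cfsg.PSU 3 F 3), n ∣ Cfsg.charDegree (χ : Cfsg.PSU 3 F 3 → ℂ) := by
    rintro n ⟨χ, hn⟩
    refine ⟨⟨_, CharCore.isIrrCharacter_comp_surjective χ.2 e.symm.toMonoidHom e.symm.surjective⟩,
      ?_⟩
    convert hn using 1
    simp [Cfsg.charDegree]
  let K := GaloisField 2 3
  have : Fintype K := Fintype.ofFinite _
  have hK : Fintype.card K = 8 := by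
    rw [← Nat.card_eq_fintype_card, GaloisField.card 2 3 (by norm_num)]; norm_num
  obtain ⟨χ₁, h₁⟩ := UnitaryThree22.exists_degree_seven hK
  obtain ⟨χ₂, h₂⟩ := UnitaryThree22.exists_degree_six
  let H := UnitaryThree22.Aff K × UnitaryThree22.Heis × Multiplicative (ZMod 2)
  have hH : Nat.card H = 6048 := by
    rw [Nat.card_prod, Nat.card_prod, UnitaryThree22.Aff.card, UnitaryThree22.Heis.card,
      Nat.card_eq_fintype_card, hK]
    simp
  have hψ := S0188.isIrrCharacter_prod χ₁.2 (S0188.isIrrCharacter_prod χ₂.2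
    (CharCore.isIrrCharacter_one (G := Multiplicative (ZMod 2))))
  have h42 : 42 ∣ Cfsg.charDegree
      (fun x : H => (χ₁ : UnitaryThree22.Aff K → ℂ) x.1 *
        ((χ₂ : UnitaryThree22.Heis → ℂ) x.2.1 * 1)) := by
    rw [BC87.charDegree_eq (n := 42) (by
      show (χ₁ : UnitaryThree22.Aff K → ℂ) 1 * ((χ₂ : UnitaryThree22.Heis → ℂ) 1 * 1) = _
      rw [BC87.apply_one_eq, BC87.apply_one_eq, h₁, h₂]
      norm_num)]
  have : Group.IsSolvable (UnitaryThree22.Aff K) := UnitaryThree22.Aff.isSolvable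
  have : Group.IsSolvable UnitaryThree22.Heis := UnitaryThree22.Heis.isSolvable
  have : Group.IsSolvable (Multiplicative (ZMod 2)) := Group.isSolvable_of_comm mul_comm
  obtain ⟨p1, g1⟩ := graph_eq hH ⟨⟨_, hψ⟩, (by norm_num : 6 ∣ 42).trans h42⟩
    ⟨⟨_, hψ⟩, (by norm_num : 14 ∣ 42).trans h42⟩ ⟨⟨_, hψ⟩, (by norm_num : 21 ∣ 42).trans h42⟩
  obtain ⟨p2, g2⟩ := graph_eq hP (htr 6 D.exists_six) (htr 14 D.exists_fourteen)
    (htr 21 D.exists_twentyOne)
  refine ⟨H, inferInstance, Fintype.ofFinite H, inferInstance, hH, by rw [p1, p2], ?_⟩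
  ext p q
  rw [g1, g2]

end Cfsg.Agent.S3670
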