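import Cfsg.Statements.S3678
import Cfsg.Agent.Recog71.PrimeGraphExt
import Cfsg.Agent.Recog71.SL2Orders
import Cfsg.Agent.Lib.LinearGroup.Card
open Matrix

set_option autoImplicit false
open Cfsg

namespace Cfsg.Agent.S3678

theorem eq_of_mul_dvd_prime_pow {r s l k : ℕ} (hl : l.Prime) (hr : r.Prime) (hs : s.Prime)
    (hne : r ≠ s) (h : r * s ∣ l ^ k) : False :=
  hne (((Nat.prime_dvd_prime_iff_eq hr hl).mp (hr.dvd_of_dvd_pow ((dvd_mul_right r s).trans h))).trans
    ((Nat.prime_dvd_prime_iff_eq hs hl).mp (hs.dvd_of_dvd_pow ((dvd_mul_left s r).trans h))).symm)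

theorem mem_center_of_pm_one {F : Type*} [Field F] (g : Matrix.SpecialLinearGroup (Fin 2) F) {n : ℕ}
    (h : (g : Matrix (Fin 2) (Fin 2) F) ^ n = 1 ∨ (g : Matrix (Fin 2) (Fin 2) F) ^ n = -1) :
    g ^ n ∈ Subgroup.center (Matrix.SpecialLinearGroup (Fin 2) F) := by
  rw [Matrix.SpecialLinearGroup.mem_center_iff]
  rcases h with h | h
  · exact ⟨1, by simp, by rw [map_one, Matrix.SpecialLinearGroup.coe_pow, h]⟩
  · exact ⟨-1, by simp, by rw [map_neg, map_one, Matrix.SpecialLinearGroup.coe_pow, h]⟩

theorem pm_one_of_sq {F : Type*} [Field F] [Fintype F] (hodd : Fintype.card F % 2 = 1)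
    (g : Matrix.SpecialLinearGroup (Fin 2) F)
    (h : (g : Matrix (Fin 2) (Fin 2) F) * (g : Matrix (Fin 2) (Fin 2) F) = 1) :
    (g : Matrix (Fin 2) (Fin 2) F) = 1 ∨ (g : Matrix (Fin 2) (Fin 2) F) = -1 := by
  have hdet := g.det_coe
  generalize (g : Matrix (Fin 2) (Fin 2) F) = A at h hdet ⊢
  have h2 : (2 : F) ≠ 0 := Ring.two_ne_zero (fun hc => by
    have := FiniteField.even_card_of_char_two hc
    omega)
  rw [Matrix.det_fin_two] at hdet
  have e00 := congrFun (congrFun h 0) 0
  have e01 := congrFun (congrFun h 0) 1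
  have e10 := congrFun (congrFun h 1) 0
  have e11 := congrFun (congrFun h 1) 1
  simp [Matrix.mul_apply, Fin.sum_univ_two] at e00 e01 e10 e11
  have hb : A 0 1 = 0 := by grind
  have hc : A 1 0 = 0 := by grind
  rw [hb, hc] at hdet
  rw [hb] at e00
  simp at e00 hdet
  rcases mul_self_eq_one_iff.mp e00 with ha | ha
  · left
    rw [ha, one_mul] at hdet
    ext i j; fin_cases i <;> fin_cases j <;> simp [ha, hb, hc, hdet]
  · right
    rw [ha, neg_one_mul, neg_eq_iff_eq_neg] at hdet
    ext i j; fin_cases i <;> fin_cases j <;> simp [ha, hb, hc, hdet]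

/-- The prime graph of a finite group has the prime divisors of its order as vertices, two distinct primes p, q being joined when the group has an element of order pq; two groups have the same prime graph when they have the same prime divisors and the same joined pairs. Let F be the field with 7 elements. There are finite groups of arbitrarily large order with the same prime graph as PSL(2,F) (the graph on {2, 3, 7} with no edges, which is also the prime graph of PSL(2,8)). -/
theorem result {F : Type*} [Field F] [Fintype F] (hF : Fintype.card F = 7) (N : ℕ) :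
    ∃ (H : Type) (_ : Group H) (_ : Finite H), N < Nat.card H ∧
      ((∀ p : ℕ, p.Prime → (p ∣ Nat.card (Matrix.ProjectiveSpecialLinearGroup (Fin 2) F) ↔ p ∣ Nat.card H)) ∧
      (∀ p q : ℕ, p.Prime → q.Prime → p ≠ q → ((∃ g : (Matrix.ProjectiveSpecialLinearGroup (Fin 2) F), orderOf g = p * q) ↔ (∃ g : H, orderOf g = p * q)))) := by
  classical
  haveI : Fact (Nat.Prime 2) := ⟨Nat.prime_two⟩
  haveI : Fact (Nat.Prime 7) := ⟨by norm_num⟩
  let K := GaloisField 2 3
  have hKn : Nat.card K = 8 := GaloisField.card 2 3 (by norm_num)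
  haveI : Fintype K := Fintype.ofFinite K
  have hKc : Fintype.card K = 8 := Nat.card_eq_fintype_card (α := K) ▸ hKn
  have hFn : Nat.card F = 7 := by rw [Nat.card_eq_fintype_card, hF]
  let S := Matrix.SpecialLinearGroup (Fin 2) K
  letI : DistribMulAction S (Fin 2 → K) :=
    { smul := fun g v => (g : Matrix (Fin 2) (Fin 2) K) *ᵥ v
      one_smul := fun v => Matrix.one_mulVec v
      mul_smul := fun g h v => (Matrix.mulVec_mulVec v _ _).symm
      smul_zero := fun g => Matrix.mulVec_zero _
      smul_add := fun g v w => Matrix.mulVec_add _ v w }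
  have hcS : Nat.card S = 504 := by rw [LinearGroup.card_SL_two, hKn]; norm_num
  have hcL : Nat.card (Matrix.ProjectiveSpecialLinearGroup (Fin 2) F) = 168 := by
    have h := LinearGroup.gcd_mul_card_PSL_two (F := F)
    rw [hFn] at h
    rw [show Nat.gcd 2 (7 - 1) = 2 by decide] at h
    exact Nat.eq_of_mul_eq_mul_left (show 0 < 2 by norm_num) (h.trans (by norm_num))
  obtain ⟨H, i₁, i₂, hN, hgr⟩ := Recog71.exists_large_sameGraph (S := S) (V := Fin 2 → K) 2
    (fun v => funext fun i => by simp [CharTwo.two_eq_zero]) (by rw [hcS]; norm_num) (by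
      intro s hs hs2 v hv
      by_contra h0
      have h := Recog71.sl2_mul_self_of_fix s v h0 hv
      have : orderOf s ∣ 2 := orderOf_dvd_of_pow_eq_one (by rw [pow_two, h])
      exact hs2 ((Nat.prime_dvd_prime_iff_eq hs Nat.prime_two).mp this)) N
  -- no element of order a product of two distinct primes
  have hS : ∀ r s : ℕ, r.Prime → s.Prime → r ≠ s → ∀ g : S, orderOf g ≠ r * s := by
    intro r s hr hs hne g hg
    have hd : r * s ∣ 7 ^ 1 ∨ r * s ∣ 3 ^ 2 ∨ r * s ∣ 2 ^ 1 := by
      have h := Recog71.sl2_pow_cases 2 g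
      rw [hKc] at h
      rcases h with h | h | h | h
      · left; rw [← hg]; exact orderOf_dvd_of_pow_eq_one (Subtype.ext h)
      · right; left; rw [← hg]; exact orderOf_dvd_of_pow_eq_one (Subtype.ext h)
      · right; right; rw [← hg]; exact orderOf_dvd_of_pow_eq_one (Subtype.ext h)
      · right; right; rw [← hg]
        refine orderOf_dvd_of_pow_eq_one (Subtype.ext ?_)
        refine h.trans ?_
        ext i j
        simp [CharTwo.neg_eq]
    rcases hd with h | h | h <;> exact eq_of_mul_dvd_prime_pow (by norm_num) hr hs hne h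
  have hL : ∀ r s : ℕ, r.Prime → s.Prime → r ≠ s →
      ∀ x : Matrix.ProjectiveSpecialLinearGroup (Fin 2) F, orderOf x ≠ r * s := by
    intro r s hr hs hne x hx
    haveI : CharP F 7 := by
      obtain ⟨p, hp⟩ := CharP.exists F
      obtain ⟨n, hp', hn⟩ := FiniteField.card F p
      rw [hF] at hn
      have : p = 7 := (Nat.prime_dvd_prime_iff_eq hp' (by norm_num)).mp
        (hn ▸ dvd_pow_self p n.ne_zero)
      exact this ▸ hp
    induction x using QuotientGroup.induction_on with
    | H g =>
      have hd : r * s ∣ 3 ^ 1 ∨ r * s ∣ 2 ^ 2 ∨ r * s ∣ 7 ^ 1 := by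
        have h := Recog71.sl2_pow_cases 7 g
        rw [hF] at h
        have key : ∀ n : ℕ, ((g : Matrix (Fin 2) (Fin 2) F) ^ n = 1 ∨
            (g : Matrix (Fin 2) (Fin 2) F) ^ n = -1) → r * s ∣ n := by
          intro n hn
          rw [← hx]
          refine orderOf_dvd_of_pow_eq_one ?_
          rw [← QuotientGroup.mk_pow, QuotientGroup.eq_one_iff]
          exact mem_center_of_pm_one _ hn
        have half : ∀ n : ℕ, (g : Matrix (Fin 2) (Fin 2) F) ^ (n + n) = 1 → r * s ∣ n := by
          intro n hn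
          exact key n (pm_one_of_sq (by rw [hF]) (g ^ n)
            (by rw [Matrix.SpecialLinearGroup.coe_pow, ← pow_add]; exact hn))
        rcases h with h | h | h | h
        · left; exact half 3 h
        · right; left; exact half 4 h
        · right; right; exact key 7 (Or.inl h)
        · right; right; exact key 7 (Or.inr h)
      rcases hd with h | h | h <;> exact eq_of_mul_dvd_prime_pow (by norm_num) hr hs hne h
  refine ⟨H, i₁, inferInstance, hN, fun r hr => ?_, fun r s hr hs hne => ?_⟩
  · rw [hcL, ← hgr.1 r hr, hcS, show (168 : ℕ) = 2 ^ 3 * (3 ^ 1 * 7 ^ 1) by norm_num,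
      show (504 : ℕ) = 2 ^ 3 * (3 ^ 2 * 7 ^ 1) by norm_num]
    simp only [hr.dvd_mul, hr.prime.dvd_pow_iff_dvd (by norm_num : (3 : ℕ) ≠ 0),
      hr.prime.dvd_pow_iff_dvd (by norm_num : (2 : ℕ) ≠ 0),
      hr.prime.dvd_pow_iff_dvd (by norm_num : (1 : ℕ) ≠ 0)]
  · constructor
    · rintro ⟨x, hx⟩
      exact absurd hx (hL r s hr hs hne x)
    · intro h
      obtain ⟨x, hx⟩ := (hgr.2 r s hr hs hne).mpr h
      exact absurd hx (hS r s hr hs hne x)

end Cfsg.Agent.S3678
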