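import Cfsg.Statements.S3682
import Cfsg.Agent.LAE65.TW.Bound

set_option autoImplicit false
open Cfsg

namespace Cfsg.Agent.S3682

/-- Wielandt's bound toward the Sims conjecture. Let a finite group G act faithfully and primitively on a set Ω, let a and b be points, and suppose the orbit of b under the stabilizer of a has length d ≥ 2. Then there are a prime p and a normal p-subgroup P of the stabilizer of a, all of whose elements fix b, such that the index of P in the stabilizer of a divides d! · ((d - 1)!)^d. -/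
theorem result {G Ω : Type*} [Group G] [Finite G] [MulAction G Ω] [FaithfulSMul G Ω] [Finite Ω]
    (hprim : MulAction.IsPreprimitive G Ω) (a b : Ω) (d : ℕ) (hd : Nat.card (MulAction.orbit (MulAction.stabilizer G a) b) = d) (h2 : 2 ≤ d) :
    ∃ p : ℕ, p.Prime ∧ ∃ P : Subgroup (MulAction.stabilizer G a), P.Normal ∧ IsPGroup p P ∧ (∀ g : P, ((g : MulAction.stabilizer G a) : G) • b = b) ∧
      P.index ∣ Nat.factorial d * (Nat.factorial (d - 1)) ^ d := by
  obtain ⟨P, hM, hN, hidx⟩ := LAE65.TW.exists_mPair hprim a b d hd h2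
  rcases em (P.A2 = ⊥ ∨ P.swap.A2 = ⊥) with h | h
  · refine ⟨2, Nat.prime_two, ⊥, inferInstance, IsPGroup.of_bot, fun g => ?_, ?_⟩
    · rw [Subgroup.mem_bot.mp g.2, OneMemClass.coe_one, one_smul]
    · rw [Subgroup.index_bot, ← hM]
      exact P.card_dvd hidx h
  · obtain ⟨hA, hB⟩ := not_or.mp h
    obtain ⟨p, hp, hpg, -⟩ := P.thompson_wielandt hA hB
    refine ⟨p, hp, P.A2.subgroupOf _, ?_, ?_, fun g => ?_, ?_⟩
    · exact (Subgroup.normal_subgroupOf_iff_le_normalizer (hM ▸ P.A2_le)).mpr
        (hM ▸ P.M_le_normalizer_A2)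
    · exact (hpg.to_le le_sup_left).of_equiv
        (Subgroup.subgroupOfEquivOfLe (hM ▸ P.A2_le)).symm
    · exact (hN ▸ P.A2_le' g.2 : ((g : MulAction.stabilizer G a) : G) ∈ MulAction.stabilizer G b)
    · have := P.relIndex_A2_dvd hidx
      rw [hM] at this
      exact this

end Cfsg.Agent.S3682
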