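import Cfsg.Statements.S3683
-- import your own Cfsg.Agent.* helpers here

set_option autoImplicit false
open Cfsg

namespace Cfsg.Agent.S3683

/-- Let a finite group G act faithfully and primitively on a set Ω, and suppose the stabilizer of a point a fixes a second point b ≠ a (a suborbit of length 1 other than {a}). Then the stabilizer of a is trivial and G is cyclic of prime order. -/
theorem result {G Ω : Type*} [Group G] [Finite G] [MulAction G Ω] [FaithfulSMul G Ω] [Finite Ω]
    (hprim : MulAction.IsPreprimitive G Ω) (a b : Ω) (hab : a ≠ b) (hfix : ∀ g : G, g • a = a → g • b = b) :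
    MulAction.stabilizer G a = ⊥ ∧ IsCyclic G ∧ (Nat.card G).Prime := by
  have : Nontrivial Ω := ⟨⟨a, b, hab⟩⟩
  have : MulAction.IsPretransitive G Ω := hprim.toIsPretransitive
  have hle : MulAction.stabilizer G a ≤ MulAction.stabilizer G b := fun g hg => hfix g hg
  have hco : IsCoatom (MulAction.stabilizer G a) :=
    MulAction.IsPreprimitive.isCoatom_stabilizer_of_isPreprimitive G a
  have hbne : MulAction.stabilizer G b ≠ ⊤ :=
    (MulAction.IsPreprimitive.isCoatom_stabilizer_of_isPreprimitive G b).1
  have heq : MulAction.stabilizer G a = MulAction.stabilizer G b :=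
    hle.eq_of_not_lt fun hlt => hbne (hco.2 _ hlt)
  obtain ⟨g, hg⟩ := MulAction.exists_smul_eq G a b
  have hgn : g ∈ Subgroup.normalizer ((MulAction.stabilizer G a : Subgroup G) : Set G) := by
    have h1 := MulAction.stabilizer_smul_eq_stabilizer_map_conj g a
    rw [hg, ← heq] at h1
    rw [Subgroup.mem_normalizer_iff]
    intro x
    show x ∈ MulAction.stabilizer G a ↔ g * x * g⁻¹ ∈ MulAction.stabilizer G a
    conv_rhs => rw [h1]
    simp
  have hnorm : Subgroup.normalizer ((MulAction.stabilizer G a : Subgroup G) : Set G) = ⊤ := by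
    refine hco.2 _ (lt_of_le_of_ne Subgroup.le_normalizer fun e => hab ?_)
    rw [← e] at hgn
    rw [← hg]; exact hgn.symm
  have hbot : MulAction.stabilizer G a = ⊥ := by
    rw [eq_bot_iff]
    intro x hx
    refine FaithfulSMul.eq_of_smul_eq_smul (α := Ω) fun c => ?_
    obtain ⟨k, rfl⟩ := MulAction.exists_smul_eq G a c
    have hk : k⁻¹ ∈ Subgroup.normalizer ((MulAction.stabilizer G a : Subgroup G) : Set G) := by
      rw [hnorm]; trivial
    have h2 : (k⁻¹ * x * k⁻¹⁻¹) • a = a := ((Subgroup.mem_normalizer_iff.mp hk) x).mp hx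
    rw [inv_inv, mul_smul, mul_smul, inv_smul_eq_iff] at h2
    simpa using h2
  rw [hbot] at hco
  have : Nontrivial G := by
    rcases subsingleton_or_nontrivial G with h | h
    · exact absurd (Subsingleton.elim _ _) hco.1
    · exact h
  obtain ⟨p, hp, hpd⟩ := Nat.exists_prime_and_dvd (Finite.one_lt_card (α := G)).ne'
  haveI := Fact.mk hp
  obtain ⟨x, hx⟩ := exists_prime_orderOf_dvd_card' p hpd
  have htop : Subgroup.zpowers x = ⊤ := by
    refine hco.2 _ (bot_lt_iff_ne_bot.mpr fun e => ?_)
    rw [Subgroup.zpowers_eq_bot] at e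
    exact hp.ne_one (by rw [← hx, e, orderOf_one])
  have hcard : Nat.card G = p := by rw [← hx, ← Nat.card_zpowers, htop, Subgroup.card_top]
  exact ⟨hbot, isCyclic_of_prime_card hcard, hcard ▸ hp⟩

end Cfsg.Agent.S3683
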