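import Cfsg.Statements.S3684
import Cfsg.Agent.Recog71.Dihedral

set_option autoImplicit false
open Cfsg

namespace Cfsg.Agent.S3684

/-- Let a finite group G act faithfully and primitively on a set Ω, and suppose the stabilizer of a point a has an orbit of length 2. Then the stabilizer of a has order 2 and G is isomorphic to the dihedral group of order 2p for some prime p. -/
theorem result {G Ω : Type*} [Group G] [Finite G] [MulAction G Ω] [FaithfulSMul G Ω] [Finite Ω]
    (hprim : MulAction.IsPreprimitive G Ω) (a b : Ω) (h2 : Nat.card (MulAction.orbit (MulAction.stabilizer G a) b) = 2) :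
    Nat.card (MulAction.stabilizer G a) = 2 ∧ ∃ p : ℕ, p.Prime ∧ Nonempty (G ≃* DihedralGroup p) := by
  have : MulAction.IsPretransitive G Ω := hprim.toIsPretransitive
  have hab : a ≠ b := by
    rintro rfl
    have hs : Subsingleton (MulAction.orbit (MulAction.stabilizer G a) a) := by
      refine ⟨fun x y => ?_⟩
      obtain ⟨g, hg⟩ := x.2
      obtain ⟨g', hg'⟩ := y.2
      refine Subtype.ext ?_
      have e1 : (g : G) • a = a := g.2
      have e2 : (g' : G) • a = a := g'.2
      rw [← hg, ← hg']
      exact e1.trans e2.symm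
    have : Nat.card (MulAction.orbit (MulAction.stabilizer G a) a) ≤ 1 :=
      Finite.card_le_one_iff_subsingleton.mpr hs
    omega
  have : Nontrivial Ω := ⟨⟨a, b, hab⟩⟩
  set A := MulAction.stabilizer G a with hA
  set B := MulAction.stabilizer G b with hB
  have hcoA : IsCoatom A := MulAction.IsPreprimitive.isCoatom_stabilizer_of_isPreprimitive G a
  have hcoB : IsCoatom B := MulAction.IsPreprimitive.isCoatom_stabilizer_of_isPreprimitive G b
  have hidx : B.relIndex A = 2 := by
    rw [← h2]
    have h := MulAction.index_stabilizer (G := ↥A) (x := b)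
    rw [Nat.card_coe_set_eq, ← h]
    rfl
  have hcard : Nat.card A = Nat.card B := by
    have i1 := MulAction.index_stabilizer_of_transitive (G := G) a
    have i2 := MulAction.index_stabilizer_of_transitive (G := G) b
    have e1 := A.card_mul_index
    have e2 := B.card_mul_index
    rw [hA] at e1; rw [hB] at e2
    rw [i1] at e1; rw [i2] at e2
    have hpos : 0 < Nat.card Ω := Nat.card_pos
    rw [hA, hB]
    exact Nat.eq_of_mul_eq_mul_right hpos (e1.trans e2.symm)
  set C := A ⊓ B with hC
  have hCcA : Nat.card C * 2 = Nat.card A := by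
    rw [← hidx, ← Subgroup.inf_relIndex_left A B, hC]
    simpa using Subgroup.relIndex_mul_relIndex ⊥ (A ⊓ B) A bot_le inf_le_left
  have hCB : A.relIndex B = 2 := by
    have h1 : Nat.card C * A.relIndex B = Nat.card B := by
      rw [← Subgroup.inf_relIndex_right A B, hC]
      simpa using Subgroup.relIndex_mul_relIndex ⊥ (A ⊓ B) B bot_le inf_le_right
    rw [← hcard, ← hCcA] at h1
    exact Nat.eq_of_mul_eq_mul_left Nat.card_pos h1
  have hne : A ≠ B := by
    intro e
    rw [e, Subgroup.relIndex_self] at hCB
    omega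
  have hnA : A ≤ Subgroup.normalizer (C : Set G) := by
    have : (C.subgroupOf A).Normal := by
      apply Subgroup.normal_of_index_eq_two
      show C.relIndex A = 2
      rw [hC, Subgroup.inf_relIndex_left]; exact hidx
    exact (Subgroup.normal_subgroupOf_iff_le_normalizer inf_le_left).mp this
  have hnB : B ≤ Subgroup.normalizer (C : Set G) := by
    have : (C.subgroupOf B).Normal := by
      apply Subgroup.normal_of_index_eq_two
      show C.relIndex B = 2
      rw [hC, Subgroup.inf_relIndex_right]; exact hCB
    exact (Subgroup.normal_subgroupOf_iff_le_normalizer inf_le_right).mp this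
  have hsup : A ⊔ B = ⊤ := by
    refine hcoA.2 _ (lt_of_le_of_ne le_sup_left fun e => hne ?_)
    have hle : B ≤ A := by rw [e]; exact le_sup_right
    exact (hle.eq_of_not_lt fun hlt => hcoA.1 (hcoB.2 _ hlt)).symm
  have hCbot : C = ⊥ := by
    have hn : Subgroup.normalizer (C : Set G) = ⊤ :=
      top_le_iff.mp (hsup ▸ sup_le hnA hnB)
    rw [eq_bot_iff]
    intro x hx
    refine FaithfulSMul.eq_of_smul_eq_smul (α := Ω) fun c => ?_
    obtain ⟨k, rfl⟩ := MulAction.exists_smul_eq G a c
    have hk : k⁻¹ ∈ Subgroup.normalizer (C : Set G) := by rw [hn]; trivial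
    have h2 : (k⁻¹ * x * k⁻¹⁻¹) • a = a := (((Subgroup.mem_normalizer_iff.mp hk) x).mp hx).1
    rw [inv_inv, mul_smul, mul_smul, inv_smul_eq_iff] at h2
    simpa using h2
  have hA2 : Nat.card A = 2 := by rw [← hCcA, hCbot]; simp
  refine ⟨hA2, ?_⟩
  obtain ⟨t, htA, hAt⟩ := Recog71.exists_involution_generator A hA2
  obtain ⟨s, hsB, hBs⟩ := Recog71.exists_involution_generator B (hcard ▸ hA2)
  refine Recog71.dihedral_of_maximal_involution t s hAt.2 hBs.2 ?_ ?_ ?_
  · rw [← hAt.1]; exact hcoA
  · rw [← hAt.1, ← hBs.1]; exact hne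
  · intro hn
    rw [← hAt.1] at hn
    apply hne
    obtain ⟨g, hg⟩ := MulAction.exists_smul_eq G a b
    have h1 := MulAction.stabilizer_smul_eq_stabilizer_map_conj g a
    rw [hg] at h1
    rw [hA, hB, h1]
    exact (Recog71.Subgroup.Normal.map_conj_eq_self' hn g).symm

end Cfsg.Agent.S3684
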