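import Cfsg.Statements.S3687
import Cfsg.Agent.LAE65.TW.AltFinal

set_option autoImplicit false
open Cfsg

namespace Cfsg.Agent.S3687

/-- Let a finite group G act faithfully and primitively on a set Ω, let a and b be points such that the orbit Δ of b under the stabilizer H of a has d ≥ 6 elements, and suppose that the permutation group induced by H on Δ contains the alternating group of Δ (the image of H in the symmetric group of Δ has index at most 2) while H does not act faithfully on Δ. Then either H induces exactly the alternating group of Δ and H is isomorphic to the direct product of the alternating groups of degrees d and d - 1; or H induces the full symmetric group of Δ and H is isomorphic to one of: the direct product of the symmetric groups of degrees d and d - 1, the direct product of the symmetric group of degree d with the alternating group of degree d - 1, or the subgroup of the direct product of the symmetric groups of degrees d and d - 1 consisting of the pairs of permutations with equal signs. -/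
theorem result {G Ω : Type*} [Group G] [Finite G] [MulAction G Ω] [FaithfulSMul G Ω] [Finite Ω]
    (hprim : MulAction.IsPreprimitive G Ω) (a b : Ω) (d : ℕ) (hd : Nat.card (MulAction.orbit (MulAction.stabilizer G a) b) = d) (h6 : 6 ≤ d)
    (halt : (MulAction.toPermHom (MulAction.stabilizer G a) (MulAction.orbit (MulAction.stabilizer G a) b)).range.index ≤ 2)
    (hunf : ¬ Function.Injective (MulAction.toPermHom (MulAction.stabilizer G a) (MulAction.orbit (MulAction.stabilizer G a) b))) :
    ((MulAction.toPermHom (MulAction.stabilizer G a) (MulAction.orbit (MulAction.stabilizer G a) b)).range.index = 2 ∧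
      Nonempty (MulAction.stabilizer G a ≃* alternatingGroup (Fin d) × alternatingGroup (Fin (d - 1)))) ∨
    ((MulAction.toPermHom (MulAction.stabilizer G a) (MulAction.orbit (MulAction.stabilizer G a) b)).range = ⊤ ∧
      (Nonempty (MulAction.stabilizer G a ≃* Equiv.Perm (Fin d) × Equiv.Perm (Fin (d - 1))) ∨
       Nonempty (MulAction.stabilizer G a ≃* Equiv.Perm (Fin d) × alternatingGroup (Fin (d - 1))) ∨
       Nonempty (MulAction.stabilizer G a ≃* ((Equiv.Perm.sign.comp (MonoidHom.fst (Equiv.Perm (Fin d)) (Equiv.Perm (Fin (d - 1))))) *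
         (Equiv.Perm.sign.comp (MonoidHom.snd (Equiv.Perm (Fin d)) (Equiv.Perm (Fin (d - 1)))))).ker))) := by
  obtain ⟨P, hM, hN, hidx⟩ := LAE65.TW.exists_mPair hprim a b d hd (by omega)
  classical
  set H := MulAction.stabilizer G a with hH
  set Δ := MulAction.orbit H b with hΔ
  haveI : Fintype Δ := Fintype.ofFinite _
  haveI : Nontrivial (Fin d) := Fin.nontrivial_iff_two_le.mpr (by omega)
  let f : Δ ≃ Fin d := (Finite.equivFin Δ).trans (finCongr hd)
  let ι : ↥P.M ≃* H := MulEquiv.subgroupCongr hM
  let φ : ↥P.M →* Equiv.Perm (Fin d) :=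
    (f.permCongrHom.toMonoidHom.comp (MulAction.toPermHom H Δ)).comp ι.toMonoidHom
  have hrange : φ.range = (MulAction.toPermHom H Δ).range.map f.permCongrHom.toMonoidHom := by
    rw [MonoidHom.map_range, MonoidHom.range_comp (g := _) (f := ι.toMonoidHom),
      MonoidHom.range_eq_top.mpr ι.surjective, ← MonoidHom.range_eq_map]
  have hindex : φ.range.index = (MulAction.toPermHom H Δ).range.index := by
    rw [hrange]
    exact Subgroup.index_map_equiv _ f.permCongrHom
  let A : LAE65.TW.AltAct P d :=
    { phi := φ
      pt := f ⟨b, MulAction.mem_orbit_self b⟩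
      stab := fun m => by
        show f (ι m • f.symm (f _)) = f _ ↔ _
        rw [Equiv.symm_apply_apply, EmbeddingLike.apply_eq_iff_eq, Subtype.ext_iff, hN]
        rfl
      alt := Equiv.Perm.alternatingGroup_le_of_index_le_two (hindex.le.trans halt)
      idx := hidx }
  have hne : P.A1 ≠ ⊥ := by
    intro h
    refine hunf ((injective_iff_map_eq_one _).mpr fun x hx => ?_)
    have h1 : φ (ι.symm x) = 1 := by
      show f.permCongrHom (MulAction.toPermHom H Δ (ι (ι.symm x))) = 1
      rw [MulEquiv.apply_symm_apply, hx, map_one]
    have h2 := (A.phi_eq_one_iff (by omega) _).mp h1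
    rw [h, Subgroup.mem_bot] at h2
    exact Subtype.ext h2
  rcases A.structure_M h6 hne (A.A2_eq_bot_or h6) with ⟨h1, ⟨e⟩⟩ | ⟨h1, h2⟩
  · exact Or.inl ⟨hindex.symm.trans h1, ⟨ι.symm.trans e⟩⟩
  · refine Or.inr ⟨?_, ?_⟩
    · rw [← Subgroup.index_eq_one, ← hindex, Subgroup.index_eq_one]
      exact h1
    · rcases h2 with ⟨⟨e⟩⟩ | ⟨⟨e⟩⟩ | ⟨⟨e⟩⟩
      · exact Or.inl ⟨ι.symm.trans e⟩
      · exact Or.inr (Or.inl ⟨ι.symm.trans e⟩)
      · exact Or.inr (Or.inr ⟨ι.symm.trans e⟩)

end Cfsg.Agent.S3687
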