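import Cfsg.Statements.S3693
import Cfsg.Agent.LAE65.TW.Bound

set_option autoImplicit false
open Cfsg

namespace Cfsg.Agent.S3693

/-- Let a finite group G act faithfully and primitively on a set Ω, let a and b be points such that the orbit Δ of b under the stabilizer H of a has length d ≥ 2, and consider the permutation group induced on Δ by the elements of H fixing b. If that induced group has trivial Fitting subgroup (no non-trivial nilpotent normal subgroup), then the two-point stabilizer of a and b has trivial Fitting subgroup and the order of H divides d! · ((d - 1)!)^d. -/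
theorem result {G Ω : Type*} [Group G] [Finite G] [MulAction G Ω] [FaithfulSMul G Ω] [Finite Ω]
    (hprim : MulAction.IsPreprimitive G Ω) (a b : Ω) (d : ℕ) (hd : Nat.card (MulAction.orbit (MulAction.stabilizer G a) b) = d) (h2 : 2 ≤ d)
    (hF : Cfsg.fittingSubgroup ↥(((MulAction.stabilizer G b).subgroupOf (MulAction.stabilizer G a)).map (MulAction.toPermHom (MulAction.stabilizer G a) (MulAction.orbit (MulAction.stabilizer G a) b))) = ⊥) :
    Cfsg.fittingSubgroup ↥(MulAction.stabilizer G a ⊓ MulAction.stabilizer G b) = ⊥ ∧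
      Nat.card (MulAction.stabilizer G a) ∣ Nat.factorial d * (Nat.factorial (d - 1)) ^ d := by
  obtain ⟨P, hM, hN, hidx⟩ := LAE65.TW.exists_mPair hprim a b d hd h2
  have hZ : ∀ r : ℕ, r.Prime → Cfsg.pCoreOf r (P.M ⊓ P.N) = ⊥ := by
    intro r hr
    haveI : Fact r.Prime := ⟨hr⟩
    -- `O_r(M ⊓ N)` acts trivially on the orbit, so lies in the first core
    have hZA : Cfsg.pCoreOf r (P.M ⊓ P.N) ≤ P.A1 := by
      intro z hz
      have hzM : z ∈ P.M := (LAE65.TW.pCoreOf_le r _ hz).1
      refine LAE65.TW.mem_coreIn.mpr ⟨hzM, fun m hm =>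
        Subgroup.mem_inf.mpr ⟨mul_mem (mul_mem hm hzM) (inv_mem hm), ?_⟩⟩
      rw [hM] at hzM hm
      set φ := MulAction.toPermHom (MulAction.stabilizer G a)
        (MulAction.orbit (MulAction.stabilizer G a) b) with hφ
      set K := (MulAction.stabilizer G b).subgroupOf (MulAction.stabilizer G a) with hK
      set Z : Subgroup (MulAction.stabilizer G a) :=
        (Cfsg.pCoreOf r (P.M ⊓ P.N)).subgroupOf (MulAction.stabilizer G a) with hZdef
      have hZle : Cfsg.pCoreOf r (P.M ⊓ P.N) ≤ MulAction.stabilizer G a :=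
        fun x hx => by
          have hx1 := (Subgroup.mem_inf.mp (LAE65.TW.pCoreOf_le r _ hx)).1
          rw [hM] at hx1
          exact hx1
      have hZK : Z ≤ K := fun x hx => by
        have hx2 := (LAE65.TW.pCoreOf_le r _ hx).2
        rw [hN] at hx2
        exact hx2
      have hnor : K.map φ ≤ Subgroup.normalizer ((Z.map φ : Subgroup _) : Set _) := by
        refine le_trans (Subgroup.map_mono (fun k hk => ?_)) (Subgroup.le_normalizer_map φ)
        rw [Subgroup.mem_normalizer_iff]
        intro x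
        have hk' : (k : G) ∈ P.M ⊓ P.N := by
          rw [hM, hN]
          exact Subgroup.mem_inf.mpr ⟨k.2, hk⟩
        exact Subgroup.mem_normalizer_iff.mp (LAE65.TW.le_normalizer_pCoreOf r _ hk') (x : G)
      have hbot : Z.map φ = ⊥ := by
        have h1 : (Z.map φ).subgroupOf (K.map φ) ≤ Cfsg.pCore r ↥(K.map φ) :=
          Fitting.le_pCore
            ((Subgroup.normal_subgroupOf_iff_le_normalizer (Subgroup.map_mono hZK)).mpr hnor)
            ((((LAE65.TW.isPGroup_pCoreOf r _).of_equiv
              (Subgroup.subgroupOfEquivOfLe hZle).symm).map φ).of_equiv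
              (Subgroup.subgroupOfEquivOfLe (Subgroup.map_mono hZK)).symm)
        have h2 := h1.trans (Fitting.pCore_le_fitting r)
        rw [hF, le_bot_iff, Subgroup.subgroupOf_eq_bot] at h2
        exact disjoint_self.mp (h2.mono_right (Subgroup.map_mono hZK))
      have hker : φ ⟨z, hzM⟩ = 1 := Subgroup.mem_bot.mp (hbot ▸ Subgroup.mem_map_of_mem φ
        (show (⟨z, hzM⟩ : MulAction.stabilizer G a) ∈ Z from hz))
      have h3 := congrArg Subtype.val (DFunLike.congr_fun hker
        ⟨(⟨m, hm⟩ : MulAction.stabilizer G a)⁻¹ • b, MulAction.mem_orbit _ _⟩)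
      have h4 : z • m⁻¹ • b = m⁻¹ • b := h3
      rw [hN]
      show (m * z * m⁻¹) • b = b
      rw [mul_smul, mul_smul, h4, smul_inv_smul]
    have hZe : Cfsg.pCoreOf r (P.M ⊓ P.N) = Cfsg.pCoreOf r P.A1 := by
      have hA1D : P.A1 ≤ P.M ⊓ P.N := le_inf P.A1_le P.A1_le'
      apply le_antisymm
      · exact (LAE65.TW.SubnormalIn.of_le_normalizer hZA (hA1D.trans
          (LAE65.TW.le_normalizer_pCoreOf r _))).le_pCoreOf (LAE65.TW.isPGroup_pCoreOf r _)
      · exact (LAE65.TW.SubnormalIn.of_le_normalizer hA1D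
          (inf_le_left.trans P.M_le_normalizer_A1)).pCoreOf_le r
    set Z := Cfsg.pCoreOf r (P.M ⊓ P.N) with hZdef
    have hZM : Z ≤ P.M := hZA.trans P.A1_le
    have hZn : P.M ≤ Subgroup.normalizer (Z : Set G) := by
      rw [hZe]
      exact P.M_le_normalizer_A1.trans (LAE65.TW.normalizer_le_normalizer_pCoreOf r _)
    by_contra hne
    obtain ⟨g, hg⟩ := hprim.toIsPretransitive.exists_smul_eq a b
    have hNg : P.N = P.M.map (MulAut.conj g).toMonoidHom := by
      rw [hM, hN, ← hg, MulAction.stabilizer_smul_eq_stabilizer_map_conj]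
    set Zy := Z.map (MulAut.conj g).toMonoidHom with hZy
    have hZyN : Zy ≤ P.N := hNg ▸ Subgroup.map_mono hZM
    have hZyn : P.N ≤ Subgroup.normalizer (Zy : Set G) :=
      hNg ▸ (Subgroup.map_mono hZn).trans (Subgroup.le_normalizer_map _)
    have hZyp : IsPGroup r ↥Zy := (LAE65.TW.isPGroup_pCoreOf r _).map _
    have hsub : Zy ⊓ P.M ≤ Z :=
      (LAE65.TW.SubnormalIn.of_le_normalizer (le_inf inf_le_right (inf_le_left.trans hZyN))
        (Coprime.le_normalizer_inf (inf_le_right.trans hZyn)
          (inf_le_left.trans Subgroup.le_normalizer))).le_pCoreOf (hZyp.to_le inf_le_left)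
    have h := LAE65.TW.le_of_normalizer_inf_le (LAE65.TW.isPGroup_pCoreOf r _) hZyp
      ((hZA.trans P.A1_le').trans hZyn) (by
        rw [P.normalizer_eq hne hZM hZn, inf_comm]; exact hsub)
    have he : Zy = Z := Subgroup.eq_of_le_of_card_ge h
      (Subgroup.card_map_of_injective (MulAut.conj g).injective).ge
    exact hne (P.eq_bot_of_normalized hZM hZn (he ▸ hZyn))
  refine ⟨?_, ?_⟩
  · rw [Fitting.fitting_eq_iSup_pCore, iSup_eq_bot]
    intro r
    have := (LAE65.TW.pCoreOf_eq_bot_iff (r : ℕ) _).mp (hZ r r.2)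
    rw [hM, hN] at this
    exact this
  · rw [← hM]
    refine P.card_dvd hidx ?_
    by_contra h
    obtain ⟨hA, hB⟩ := not_or.mp h
    obtain ⟨p, hp, hpg, -⟩ := P.thompson_wielandt hA hB
    refine hA (le_bot_iff.mp (le_trans ?_ (hZ p hp).le))
    exact (LAE65.TW.SubnormalIn.of_le_normalizer (le_inf P.A2_le P.A2_le')
      (inf_le_left.trans P.M_le_normalizer_A2)).le_pCoreOf (hpg.to_le le_sup_left)

end Cfsg.Agent.S3693
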