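import Cfsg.Statements.S3696
-- import your own Cfsg.Agent.* helpers here

set_option autoImplicit false
open Cfsg

namespace Cfsg.Agent.S3696

theorem amgm_nat (k : ℕ) (f : Fin k → ℕ) : (∏ i, f i) * k ^ k ≤ (∑ i, f i) ^ k := by
  rcases Nat.eq_zero_or_pos k with rfl | hk
  · simp
  have hk0 : (k : ℝ) ≠ 0 := by exact_mod_cast hk.ne'
  have h := Real.geom_mean_le_arith_mean_weighted Finset.univ (fun _ : Fin k => (1 : ℝ) / k)
    (fun i => (f i : ℝ)) (fun i _ => by positivity) (by simp [hk0]) (fun i _ => by positivity)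
  have h2 := pow_le_pow_left₀ (Finset.prod_nonneg fun i _ => by positivity) h k
  rw [← Finset.prod_pow, ← Finset.mul_sum, mul_pow] at h2
  have h3 : ∀ i : Fin k, (((f i : ℝ)) ^ ((1 : ℝ) / k)) ^ k = f i := by
    intro i
    rw [one_div, Real.rpow_inv_natCast_pow (by positivity) hk.ne']
  simp only [h3] at h2
  rw [one_div, inv_pow] at h2
  have h4 : (∏ i, (f i : ℝ)) * (k : ℝ) ^ k ≤ (∑ i, (f i : ℝ)) ^ k := by
    rwa [← le_div_iff₀ (by positivity), div_eq_inv_mul]
  exact_mod_cast h4

/-- Splitting prime powers increases the number of parts without increasing the sum. -/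
theorem split_parts {p : ℕ} (hp : 2 ≤ p) : ∀ (d k : ℕ) (s : Multiset ℕ), d + Multiset.card s = k →
    k ≤ s.sum → ∃ t : Multiset ℕ, Multiset.card t = k ∧
      (t.map (p ^ ·)).prod = (s.map (p ^ ·)).prod ∧ (t.map (p ^ ·)).sum ≤ (s.map (p ^ ·)).sum
  | 0, k, s, h, _ => ⟨s, by omega, rfl, le_rfl⟩
  | d + 1, k, s, h, hs => by
    obtain ⟨a, ha, ha2⟩ : ∃ a ∈ s, 2 ≤ a := by
      by_contra hc
      push_neg at hc
      have := Multiset.sum_le_card_nsmul s 1 (fun x hx => by have := hc x hx; omega)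
      simp at this
      omega
    obtain ⟨s', rfl⟩ := Multiset.exists_cons_of_mem ha
    obtain ⟨t, h1, h2, h3⟩ := split_parts hp d k (1 ::ₘ (a - 1) ::ₘ s') (by simp at h ⊢; omega)
      (by simp at hs ⊢; omega)
    refine ⟨t, h1, h2.trans ?_, h3.trans ?_⟩
    · simp only [Multiset.map_cons, Multiset.prod_cons]
      rw [← mul_assoc, ← pow_add, show 1 + (a - 1) = a by omega]
    · simp only [Multiset.map_cons, Multiset.sum_cons]
      rw [← add_assoc]
      refine Nat.add_le_add_right ?_ _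
      have e : p ^ a = p * p ^ (a - 1) := by rw [← pow_succ', show a - 1 + 1 = a by omega]
      have : 2 ≤ p ^ (a - 1) := le_trans hp (Nat.le_self_pow (by omega) p)
      rw [e, pow_one]
      exact Nat.add_le_mul hp this

/-- Let p be a prime, Ω a finite set with n ≥ p elements, and A an abelian p-subgroup of the symmetric group on Ω whose elements of order dividing p number p^k (so k is the rank of A). Then |A| · k^k ≤ n^k, that is, |A| ≤ (n/k)^k. -/
theorem result {Ω : Type*} [Fintype Ω] [DecidableEq Ω]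
    (p : ℕ) (hp : p.Prime) (hn : p ≤ Fintype.card Ω) (A : Subgroup (Equiv.Perm Ω)) (hA : IsPGroup p A) (hab : IsMulCommutative A)
    (k : ℕ) (hk : Nat.card {x : A // x ^ p = 1} = p ^ k) :
    Nat.card A * k ^ k ≤ Fintype.card Ω ^ k := by
  classical
  haveI := Fact.mk hp
  haveI := hab
  let Q := MulAction.orbitRel.Quotient (↥A) Ω
  let S : Finset Q → Subgroup A := fun T => ⨅ q ∈ T, MulAction.stabilizer ↥A q.out
  have hmemS : ∀ (T : Finset Q) (a : A), a ∈ S T ↔ ∀ q ∈ T, a • q.out = q.out := by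
    intro T a
    simp [S, Subgroup.mem_iInf]
  let V : Subgroup A :=
    { carrier := {x | x ^ p = 1}
      one_mem' := one_pow p
      mul_mem' := fun {x y} hx hy => by
        show (x * y) ^ p = 1
        rw [(show Commute x y from mul_comm' x y).mul_pow, hx, hy, one_mul]
      inv_mem' := fun {x} hx => by
        show x⁻¹ ^ p = 1
        rw [inv_pow, hx, inv_one] }
  have hV : Nat.card V = p ^ k := by
    rw [← hk]
    exact Nat.card_congr (Equiv.subtypeEquivRight fun x => Iff.rfl)
  have hfaith : ∀ a : A, a ≠ 1 → ∃ q : Q, a • q.out ≠ q.out := by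
    intro a ha
    by_contra hc
    push_neg at hc
    apply ha
    refine Subtype.ext (Equiv.ext fun x => ?_)
    obtain ⟨b, hb⟩ : x ∈ MulAction.orbit (↥A) (Quotient.out (⟦x⟧ : Q)) := by
      rw [← MulAction.orbitRel_apply]
      exact Quotient.exact (Quotient.out_eq (⟦x⟧ : Q)).symm
    rw [← hb]
    show a • b • (Quotient.out (⟦x⟧ : Q) : Ω) = b • (Quotient.out (⟦x⟧ : Q) : Ω)
    rw [← mul_smul, mul_comm', mul_smul, hc]
  have greedy : ∀ j, ∀ W : Subgroup A, Nat.card W ≤ p ^ j → IsPGroup p W →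
      ∃ T : Finset Q, T.card ≤ j ∧ W ⊓ S T = ⊥ := by
    intro j
    induction j with
    | zero =>
      intro W hW _
      exact ⟨∅, by simp, by simp [Subgroup.eq_bot_of_card_le W (by simpa using hW)]⟩
    | succ j ih =>
      intro W hW hWp
      rcases eq_or_ne W ⊥ with rfl | hne
      · exact ⟨∅, by simp, by simp⟩
      obtain ⟨w, hwW, hw⟩ : ∃ w ∈ W, w ≠ 1 := by
        by_contra hc
        push_neg at hc
        exact hne ((Subgroup.eq_bot_iff_forall W).mpr hc)
      obtain ⟨q, hq⟩ := hfaith w hw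
      have hlt : W ⊓ MulAction.stabilizer (↥A) q.out < W :=
        lt_of_le_of_ne inf_le_left fun e => hq (Subgroup.mem_inf.mp (by rw [e]; exact hwW : w ∈ W ⊓ MulAction.stabilizer (↥A) q.out)).2
      obtain ⟨m, hm⟩ := hWp.exists_card_eq
      obtain ⟨m', hm'⟩ := (hWp.to_le hlt.le).exists_card_eq
      have hcl : p ^ m' < p ^ m := by
        rw [← hm, ← hm']
        by_contra hc
        exact hlt.ne (Subgroup.eq_of_le_of_card_ge hlt.le (not_lt.mp hc))
      have hm'm : m' < m := (Nat.pow_lt_pow_iff_right hp.one_lt).mp hcl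
      have hmj : m ≤ j + 1 := (Nat.pow_le_pow_iff_right hp.one_lt).mp (hm ▸ hW)
      obtain ⟨T, hT, hT'⟩ := ih (W ⊓ MulAction.stabilizer (↥A) q.out)
        (by rw [hm']; exact Nat.pow_le_pow_right hp.pos (by omega)) (hWp.to_le hlt.le)
      refine ⟨insert q T, (Finset.card_insert_le _ _).trans (by omega), ?_⟩
      rw [eq_bot_iff] at hT' ⊢
      intro a ha
      refine hT' ⟨⟨ha.1, (hmemS _ a).mp ha.2 q (Finset.mem_insert_self _ _)⟩, (hmemS _ a).mpr ?_⟩
      exact fun r hr => (hmemS _ a).mp ha.2 r (Finset.mem_insert_of_mem hr)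
  obtain ⟨T, hTk, hT⟩ := greedy k V hV.le (hA.to_subgroup V)
  have hTbot : ∀ a : A, (∀ q ∈ T, a • q.out = q.out) → a = 1 := by
    intro a ha
    by_contra hne
    obtain ⟨m, hm⟩ := hA a
    have hd : orderOf a ∣ p ^ m := orderOf_dvd_of_pow_eq_one hm
    obtain ⟨i, -, hi⟩ := (Nat.dvd_prime_pow hp).mp hd
    obtain ⟨i, rfl⟩ : ∃ i', i = i' + 1 := ⟨i - 1, by
      rcases i with _ | i
      · exact absurd (orderOf_eq_one_iff.mp (by simpa using hi)) hne
      · omega⟩
    have hb : a ^ p ^ i ∈ V ⊓ S T := by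
      refine ⟨?_, (S T).pow_mem ((hmemS T a).mpr ha) _⟩
      show (a ^ p ^ i) ^ p = 1
      rw [← pow_mul, ← pow_succ, ← hi, pow_orderOf_eq_one]
    rw [hT, Subgroup.mem_bot] at hb
    have := Nat.le_of_dvd (pow_pos hp.pos _) (orderOf_dvd_of_pow_eq_one hb)
    rw [hi] at this
    exact absurd ((Nat.pow_le_pow_iff_right hp.one_lt).mp this) (by omega)
  let φ : A → ((q : T) → MulAction.orbit (↥A) (q.1.out : Ω)) :=
    fun a q => ⟨a • q.1.out, MulAction.mem_orbit _ _⟩
  have hφ : Function.Injective φ := by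
    intro a b h
    rw [← inv_mul_eq_one]
    refine hTbot _ fun q hq => ?_
    have := congrArg Subtype.val (congrFun h ⟨q, hq⟩)
    simp only [φ] at this
    rw [mul_smul, ← this, inv_smul_smul]
  have hcardA : Nat.card A ≤ ∏ q : T, Nat.card (MulAction.orbit (↥A) (q.1.out : Ω)) := by
    rw [← Nat.card_pi]
    exact Nat.card_le_card_of_injective φ hφ
  have hexp : ∀ q : Q, ∃ e, Nat.card (MulAction.orbit (↥A) (q.out : Ω)) = p ^ e := fun q =>
    hA.card_orbit _
  choose ex hex using hexp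
  have hsum : ∑ q ∈ T, p ^ ex q ≤ Fintype.card Ω := by
    rw [← Nat.card_eq_fintype_card,
      Nat.card_congr (MulAction.selfEquivSigmaOrbits (↥A) Ω), Nat.card_sigma]
    refine le_trans (le_of_eq ?_) (Finset.sum_le_sum_of_subset (Finset.subset_univ T))
    exact Finset.sum_congr rfl fun q _ => (hex q).symm
  have hprodA : Nat.card A ≤ ∏ q ∈ T, p ^ ex q := by
    refine hcardA.trans (le_of_eq ?_)
    simp only [hex]
    exact Finset.prod_coe_sort T fun q => p ^ ex q
  have hkA : p ^ k ≤ Nat.card A := hV ▸ Subgroup.card_le_card_group V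
  have hks : k ≤ ∑ q ∈ T, ex q := by
    have := hkA.trans hprodA
    rw [Finset.prod_pow_eq_pow_sum] at this
    exact (Nat.pow_le_pow_iff_right hp.one_lt).mp this
  obtain ⟨t, ht1, ht2, ht3⟩ := split_parts hp.two_le (k - T.card) k (T.val.map ex)
    (by simp; omega) hks
  have hl : t.toList.length = k := by simp [ht1]
  have hgeo := amgm_nat k fun i => p ^ t.toList.get (i.cast hl.symm)
  have e1 : (∏ i : Fin k, p ^ t.toList.get (i.cast hl.symm)) = (t.map (p ^ ·)).prod := by
    rw [(Fintype.prod_equiv (finCongr hl.symm) (fun i => p ^ t.toList.get (i.cast hl.symm))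
      (fun j => p ^ t.toList.get j) (fun i => rfl))]
    refine (Fin.prod_univ_fun_getElem t.toList (p ^ ·)).trans ?_
    rw [← Multiset.prod_coe, ← Multiset.map_coe, Multiset.coe_toList]
  have e2 : (∑ i : Fin k, p ^ t.toList.get (i.cast hl.symm)) = (t.map (p ^ ·)).sum := by
    rw [(Fintype.sum_equiv (finCongr hl.symm) (fun i => p ^ t.toList.get (i.cast hl.symm))
      (fun j => p ^ t.toList.get j) (fun i => rfl))]
    refine (Fin.sum_univ_fun_getElem t.toList (p ^ ·)).trans ?_
    rw [← Multiset.sum_coe, ← Multiset.map_coe, Multiset.coe_toList]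
  rw [e1, e2, ht2] at hgeo
  have e3 : ((T.val.map ex).map (p ^ ·)).prod = ∏ q ∈ T, p ^ ex q := by
    rw [Multiset.map_map]; rfl
  rw [e3] at hgeo
  refine (Nat.mul_le_mul_right _ hprodA).trans (hgeo.trans ?_)
  refine Nat.pow_le_pow_left (ht3.trans ?_) k
  rw [Multiset.map_map]
  exact hsum

end Cfsg.Agent.S3696
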