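import Cfsg.Statements.S3710
import Cfsg.Agent.KSG55.Phan.Step
import Cfsg.Agent.KSG55.Phan.Three

set_option autoImplicit false
open Cfsg

namespace Cfsg.Agent.S3710

/-- Recognition of unitary groups over the field with 9 elements from a weak Phan system. Let F be a field with 9 elements and n ≥ 4. Let G be a group with subgroups U_0, …, U_{n−1}, each isomorphic to SU(2, 9), and, for consecutive indices, subgroups V_{i,i+1} in which U_i and U_{i+1} form a standard pair (via an isomorphism from SU(3, 9) or PSU(3, 9) carrying the block-diagonal subgroups, or their images, onto U_i and U_{i+1}); suppose U_i and U_j commute elementwise whenever the indices differ by at least 2, that G is generated by the U_i and the V_{i,i+1}, and moreover that for each i the subgroup generated by V_{i,i+1} and V_{i+1,i+2} is a homomorphic image of SU(4, 9). Then G is a homomorphic image of SU(n+1, 9). (G is not assumed finite.) -/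
theorem result {G : Type*} [Group G] (n : ℕ) (hn : 4 ≤ n)
    (F : Type*) [Field F] [Fintype F] (hF : Fintype.card F = 9)
    (U : Fin n → Subgroup G) (e : ∀ i, ↥(Cfsg.SU 2 F 3) ≃* ↥(U i))
    (V : Fin n → Fin n → Subgroup G)
    (h1 : ∀ i j : Fin n, (i : ℕ) + 2 ≤ j → ∀ x ∈ U i, ∀ y ∈ U j, x * y = y * x)
    (h2 : ∀ i j : Fin n, (i : ℕ) + 1 = j → Cfsg.IsStandardUnitaryPair (V i j) (U i) (U j) F 3)
    (hgen : (⨆ i, U i) ⊔ (⨆ (i : Fin n) (j : Fin n) (_ : (i : ℕ) + 1 = j), V i j) = ⊤)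
    (h4 : ∀ i j k : Fin n, (i : ℕ) + 1 = j → (j : ℕ) + 1 = k →
      ∃ g : ↥(Cfsg.SU 4 F 3) →* ↥(V i j ⊔ V j k), Function.Surjective g) :
    ∃ f : ↥(Cfsg.SU (n + 1) F 3) →* G, Function.Surjective f := by
  classical
  have hF' : Fintype.card F = 3 ^ 2 := by rw [hF]; norm_num
  obtain ⟨S, hV, hU, hker⟩ := Cfsg.Agent.KSG55.Phan.exists_sys hF' n (by omega)
    (fun k => if h : k < n then U ⟨k, h⟩ else ⊥)
    (fun k => if h : k + 1 < n then V ⟨k, by omega⟩ ⟨k + 1, h⟩ else ⊥)
    (fun i j hij hj x hx y hy => by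
      rw [dif_pos (show i < n by omega)] at hx
      rw [dif_pos hj] at hy
      exact h1 _ _ hij x hx y hy)
    (fun k hk => by
      rw [dif_pos hk, dif_pos (show k < n by omega), dif_pos hk]
      exact h2 _ _ rfl)
  have hinj : ∀ k, k + 1 < n → Function.Injective (S.ψ k) := fun k hk => by
    rw [← MonoidHom.ker_eq_bot_iff, eq_bot_iff]
    exact (hker k hk).trans (Cfsg.Agent.KSG55.Phan.Three.center_bot hF').le
  have hbase : ∀ k, k + 3 ≤ n → ∃ f4 : SU 4 F 3 →* G,
      f4.comp (Cfsg.Agent.KSG55.Phan.bl 4 3 0) = S.ψ k ∧ f4.comp (Cfsg.Agent.KSG55.Phan.bl 4 3 1) = S.ψ (k + 1) := by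
    intro k hk
    obtain ⟨g, hg⟩ := h4 ⟨k, by omega⟩ ⟨k + 1, by omega⟩ ⟨k + 2, by omega⟩ rfl rfl
    have hr : ((V ⟨k, by omega⟩ ⟨k + 1, by omega⟩ ⊔ V ⟨k + 1, by omega⟩ ⟨k + 2, by omega⟩).subtype.comp g).range =
        V ⟨k, by omega⟩ ⟨k + 1, by omega⟩ ⊔ V ⟨k + 1, by omega⟩ ⟨k + 2, by omega⟩ := by
      rw [MonoidHom.range_comp, MonoidHom.range_eq_top.2 hg, ← MonoidHom.range_eq_map, Subgroup.range_subtype]
    refine Cfsg.Agent.KSG55.Phan.Three.exists_f4 hF' ((V ⟨k, by omega⟩ ⟨k + 1, by omega⟩ ⊔ V ⟨k + 1, by omega⟩ ⟨k + 2, by omega⟩).subtype.comp g)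
      (S.ψ k) (S.ψ (k + 1)) (hinj k (by omega))
      (hinj (k + 1) (by omega)) (by rw [S.right k (by omega), S.left (k + 1) (by omega)]) (fun A B => ?_) ?_ ?_
    · rw [← MonoidHom.comp_apply, S.left k (by omega), ← MonoidHom.comp_apply, S.right (k + 1) (by omega)]
      exact S.comm k (k + 2) le_rfl (by omega) A B
    · rw [hr, hV k (by omega), dif_pos (show k + 1 < n by omega)]
      exact le_sup_left
    · rw [hr, hV (k + 1) (by omega), dif_pos (show k + 1 + 1 < n by omega)]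
      exact le_sup_right
  let up : G →* ULift.{u_2} G := MulEquiv.ulift.symm.toMonoidHom
  obtain ⟨f, hf⟩ := Cfsg.Agent.KSG55.Phan.universal_of.{u_2, u_1} hF' le_rfl (M := n + 1) (by omega)
    (H := ULift.{u_2} G)
    { χ := fun k => up.comp (S.χ k)
      ψ := fun k => up.comp (S.ψ k)
      left := fun k hk => by rw [MonoidHom.comp_assoc, S.left k hk]
      right := fun k hk => by rw [MonoidHom.comp_assoc, S.right k hk]
      comm := fun i j hij hj A B => (S.comm i j hij hj A B).map up }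
    (Or.inr fun k hk => by
      obtain ⟨f4, e0, e1⟩ := hbase k (by omega)
      refine ⟨up.comp f4, fun j hj => ?_⟩
      obtain rfl | rfl : j = 0 ∨ j = 1 := by omega
      · rw [MonoidHom.comp_assoc, e0]; rfl
      · rw [MonoidHom.comp_assoc, e1])
  refine ⟨MulEquiv.ulift.toMonoidHom.comp f, MonoidHom.range_eq_top.1 (eq_top_iff.2 ?_)⟩
  rw [← hgen]
  have hψ : ∀ k, k + 1 < n → (S.ψ k).range ≤ (MulEquiv.ulift.toMonoidHom.comp f).range := by
    rintro k hk _ ⟨Y, rfl⟩
    refine ⟨Cfsg.Agent.KSG55.Phan.bl (n + 1) 3 k Y, ?_⟩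
    show MulEquiv.ulift (f _) = _
    rw [← MonoidHom.comp_apply f, hf k (by omega)]
    rfl
  refine sup_le (iSup_le fun i => ?_) (iSup_le fun i => iSup_le fun j => iSup_le fun hij => ?_)
  · have h := hU i i.2
    rw [dif_pos i.2] at h
    rw [show U i = U ⟨(i : ℕ), i.2⟩ from rfl, ← h]
    by_cases hi : (i : ℕ) + 1 < n
    · rintro _ ⟨X, rfl⟩
      rw [← S.left i (by omega)]
      exact hψ i hi ⟨_, rfl⟩
    · rintro _ ⟨X, rfl⟩
      obtain ⟨m, hm⟩ : ∃ m, (i : ℕ) = m + 1 := ⟨(i : ℕ) - 1, by omega⟩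
      rw [hm, ← S.right m (by omega)]
      exact hψ m (by omega) ⟨_, rfl⟩
  · have h := hV i (by omega)
    rw [dif_pos (show (i : ℕ) + 1 < n by omega)] at h
    rw [show V i j = V ⟨(i : ℕ), i.2⟩ ⟨(i : ℕ) + 1, by omega⟩ from congrArg (V i) (Fin.ext hij.symm), ← h]
    exact hψ i (by omega)

end Cfsg.Agent.S3710
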