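import Cfsg.Statements.S3711
import Cfsg.Agent.Phan18.Step

set_option autoImplicit false
open Cfsg

namespace Cfsg.Agent.S3711

/-- Recognition of unitary groups over the field with 4 elements from a weak Phan system. Let F be a field with 4 elements and n ≥ 4. Let G be a group with subgroups U_0, …, U_{n−1}, each isomorphic to SU(2, 4), and, for consecutive indices, subgroups V_{i,i+1} in which U_i and U_{i+1} form a standard pair (via an isomorphism from SU(3, 4) or PSU(3, 4) carrying the block-diagonal subgroups, or their images, onto U_i and U_{i+1}); suppose U_i and U_j commute elementwise whenever the indices differ by at least 2, that G is generated by the U_i and the V_{i,i+1}, that for each i the subgroup generated by V_{i,i+1} and V_{i+1,i+2} is a homomorphic image of SU(4, 4), that U_i and V_{j,j+1} commute elementwise whenever i ≤ j − 2 or i ≥ j + 3, and that V_{i,i+1} and V_{k,k+1} commute elementwise whenever k ≥ i + 3. Then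 G is a homomorphic image of SU(n+1, 4). (G is not assumed finite.) -/
theorem result {G : Type*} [Group G] (n : ℕ) (hn : 4 ≤ n)
    (F : Type*) [Field F] [Fintype F] (hF : Fintype.card F = 4)
    (U : Fin n → Subgroup G) (e : ∀ i, ↥(Cfsg.SU 2 F 2) ≃* ↥(U i))
    (V : Fin n → Fin n → Subgroup G)
    (h1 : ∀ i j : Fin n, (i : ℕ) + 2 ≤ j → ∀ x ∈ U i, ∀ y ∈ U j, x * y = y * x)
    (h2 : ∀ i j : Fin n, (i : ℕ) + 1 = j → Cfsg.IsStandardUnitaryPair (V i j) (U i) (U j) F 2)
    (hgen : (⨆ i, U i) ⊔ (⨆ (i : Fin n) (j : Fin n) (_ : (i : ℕ) + 1 = j), V i j) = ⊤)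
    (h4 : ∀ i j k : Fin n, (i : ℕ) + 1 = j → (j : ℕ) + 1 = k →
      ∃ g : ↥(Cfsg.SU 4 F 2) →* ↥(V i j ⊔ V j k), Function.Surjective g)
    (h5 : ∀ i j k : Fin n, (j : ℕ) + 1 = k → ((i : ℕ) + 2 ≤ j ∨ (k : ℕ) + 2 ≤ i) →
      ∀ x ∈ U i, ∀ y ∈ V j k, x * y = y * x)
    (h6 : ∀ i j k l : Fin n, (i : ℕ) + 1 = j → (k : ℕ) + 1 = l → (j : ℕ) + 2 ≤ k →
      ∀ x ∈ V i j, ∀ y ∈ V k l, x * y = y * x) :
    ∃ f : ↥(Cfsg.SU (n + 1) F 2) →* G, Function.Surjective f := by
  classical
  have hF' : Fintype.card F = 2 ^ 2 := by rw [hF]; norm_num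
  let U' : ℕ → Subgroup G := fun k => if h : k < n then U ⟨k, h⟩ else ⊥
  let V' : ℕ → Subgroup G := fun k => if h : k + 1 < n then V ⟨k, by omega⟩ ⟨k + 1, h⟩ else ⊥
  have eU : ∀ k (h : k < n), U' k = U ⟨k, h⟩ := fun k h => dif_pos h
  have eV : ∀ k (h : k + 1 < n), V' k = V ⟨k, by omega⟩ ⟨k + 1, h⟩ := fun k h => dif_pos h
  have eV' : ∀ i j : Fin n, (i : ℕ) + 1 = j → V i j = V' i := fun i j hij => by
    rw [eV i (by omega)]
    exact congrArg (V i) (Fin.ext hij.symm)
  obtain ⟨f, hf, hagree⟩ := Cfsg.Agent.Phan18.exists_system hF' n U' V'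
    (fun k hk => by
      rw [eV k hk, eU k (by omega), eU (k + 1) hk]
      exact h2 _ _ rfl)
    (fun i j hij hj x hx y hy => by
      rw [eU i (by omega)] at hx
      rw [eU j hj] at hy
      exact h1 _ _ hij x hx y hy)
    (fun k hk => by
      rw [eV k (by omega), eV (k + 1) hk]
      exact h4 _ _ _ rfl rfl)
  have hr2 : ∀ k i, k + 2 < n → i + 2 ≤ 4 → ∀ A, f k (Cfsg.Agent.KSG55.Phan.bl 4 2 i A) ∈ U' (k + i) := by
    intro k i hk hi A
    obtain rfl | rfl | rfl : i = 0 ∨ i = 1 ∨ i = 2 := by omega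
    · exact (hf k hk).rA ▸ ⟨A, rfl⟩
    · exact (hf k hk).rB ▸ ⟨A, rfl⟩
    · exact (hf k hk).rC ▸ ⟨A, rfl⟩
  have hr3 : ∀ k i, k + 2 < n → i + 3 ≤ 4 → ∀ A, f k (Cfsg.Agent.KSG55.Phan.bl 4 3 i A) ∈ V' (k + i) := by
    intro k i hk hi A
    obtain rfl | rfl : i = 0 ∨ i = 1 := by omega
    · exact (hf k hk).rV ▸ ⟨A, rfl⟩
    · exact (hf k hk).rV' ▸ ⟨A, rfl⟩
  let up : G →* ULift.{u_2} G := MulEquiv.ulift.symm.toMonoidHom
  obtain ⟨Φ, hΦ⟩ := Cfsg.Agent.Phan18.universal.{u_2, u_1} hF' (M := n + 1) (by omega) (H := ULift.{u_2} G)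
    { f := fun k => up.comp (f k)
      agree := fun k hk Y => congrArg up (DFunLike.congr_fun (hagree k (by omega)) Y).symm
      comm := by
        intro k l a b i j hk hl hi hj hab hd A B
        refine Commute.map ?_ up
        rcases hab with ⟨rfl, rfl⟩ | ⟨rfl, rfl⟩ | ⟨rfl, rfl⟩
        · have hx := hr2 k i (by omega) hi A
          have hy := hr3 l j (by omega) hj B
          rw [eU _ (by omega)] at hx
          rw [eV _ (by omega)] at hy
          exact h5 _ _ _ rfl (Or.inl (by simp only; omega)) _ hx _ hy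
        · have hx := hr3 k i (by omega) hi A
          have hy := hr2 l j (by omega) hj B
          rw [eV _ (by omega)] at hx
          rw [eU _ (by omega)] at hy
          exact (h5 _ _ _ rfl (Or.inr (by simp only; omega)) _ hy _ hx).symm
        · have hx := hr3 k i (by omega) hi A
          have hy := hr3 l j (by omega) hj B
          rw [eV _ (by omega)] at hx hy
          exact h6 _ _ _ _ rfl rfl (by simp only; omega) _ hx _ hy }
  refine ⟨MulEquiv.ulift.toMonoidHom.comp Φ, MonoidHom.range_eq_top.1 (eq_top_iff.2 ?_)⟩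
  rw [← hgen]
  have hin : ∀ k, k + 2 < n → ∀ Y, f k Y ∈ (MulEquiv.ulift.toMonoidHom.comp Φ).range := fun k hk Y =>
    ⟨Cfsg.Agent.KSG55.Phan.bl (n + 1) 4 k Y, congrArg MulEquiv.ulift (hΦ k (by omega) Y)⟩
  have hUr : ∀ i, i < n → U' i ≤ (MulEquiv.ulift.toMonoidHom.comp Φ).range := by
    intro i hi
    by_cases h : i + 2 < n
    · rw [← (hf i h).rA]; rintro _ ⟨A, rfl⟩; exact hin i h _
    · by_cases h' : i + 1 < n
      · obtain ⟨k, rfl⟩ : ∃ k, i = k + 1 := ⟨i - 1, by omega⟩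
        rw [← (hf k (by omega)).rB]; rintro _ ⟨A, rfl⟩; exact hin k (by omega) _
      · obtain ⟨k, rfl⟩ : ∃ k, i = k + 2 := ⟨i - 2, by omega⟩
        rw [← (hf k (by omega)).rC]; rintro _ ⟨A, rfl⟩; exact hin k (by omega) _
  have hVr : ∀ i, i + 1 < n → V' i ≤ (MulEquiv.ulift.toMonoidHom.comp Φ).range := by
    intro i hi
    by_cases h : i + 2 < n
    · rw [← (hf i h).rV]; rintro _ ⟨A, rfl⟩; exact hin i h _
    · obtain ⟨k, rfl⟩ : ∃ k, i = k + 1 := ⟨i - 1, by omega⟩
      rw [← (hf k (by omega)).rV']; rintro _ ⟨A, rfl⟩; exact hin k (by omega) _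
  refine sup_le (iSup_le fun i => ?_) (iSup_le fun i => iSup_le fun j => iSup_le fun hij => ?_)
  · exact eU i i.2 ▸ hUr i i.2
  · exact eV' i j hij ▸ hVr i (by omega)

end Cfsg.Agent.S3711
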