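import Cfsg.Statements.S3713
import Cfsg.Agent.SpAmalgam18.Main

set_option autoImplicit false
open Cfsg Cfsg.Agent.SpAmalgam18 Cfsg.Agent.Symplectic

namespace Cfsg.Agent.S3713

/-- A presentation of the symplectic group as the universal completion of an amalgam of small subgroups. Let F be a field with more than two elements, n ≥ 2, and Sp the group of 2n × 2n matrices over F preserving the standard alternating form, acting on column vectors; write e_k, f_k for the standard basis vectors of the two halves (a hyperbolic basis). For each k let S_k be the subgroup of Sp fixing e_l and f_l for all l ≠ k (a copy of SL(2, F) on the plane of e_k, f_k), and for each i with i + 1 < n let M_i be the subgroup fixing every e_l and fixing f_l for all l other than i, i+1 (an abelian group isomorphic to the additive group of F³). Then Sp is the universal completion of the amalgam formed by the S_k, the M_i and the subgroups generated by two of them: for every group H and homomorphisms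 σ_k : S_k → H, μ_i : M_i → H such that for each pair of these subgroups some homomorphism on the subgroup they generate restricts to the given ones, there is exactly one homomorphism Sp → H restricting to every σ_k and μ_i. -/
theorem result
    (F : Type*) [Field F] (hF : ∃ a : F, a ≠ 0 ∧ a ≠ 1) (n : ℕ) (hn : 2 ≤ n)
    (S M : Fin n → Subgroup ↥(Matrix.symplecticGroup (Fin n) F))
    (hS : ∀ j : Fin n, S j = Subgroup.closure {A : ↥(Matrix.symplecticGroup (Fin n) F) | ∀ k : Fin n, k ≠ j →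
      ((A : ↥(Matrix.symplecticGroup (Fin n) F)) : Matrix (Fin n ⊕ Fin n) (Fin n ⊕ Fin n) F).mulVec (Pi.single (Sum.inl k) (1 : F)) = (Pi.single (Sum.inl k) (1 : F)) ∧ ((A : ↥(Matrix.symplecticGroup (Fin n) F)) : Matrix (Fin n ⊕ Fin n) (Fin n ⊕ Fin n) F).mulVec (Pi.single (Sum.inr k) (1 : F)) = (Pi.single (Sum.inr k) (1 : F))})
    (hM : ∀ i : Fin n, (i : ℕ) + 1 < n → M i = Subgroup.closure {A : ↥(Matrix.symplecticGroup (Fin n) F) |
      (∀ k : Fin n, ((A : ↥(Matrix.symplecticGroup (Fin n) F)) : Matrix (Fin n ⊕ Fin n) (Fin n ⊕ Fin n) F).mulVec (Pi.single (Sum.inl k) (1 : F)) = (Pi.single (Sum.inl k) (1 : F))) ∧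
        ∀ k : Fin n, (k : ℕ) ≠ i → (k : ℕ) ≠ (i : ℕ) + 1 → ((A : ↥(Matrix.symplecticGroup (Fin n) F)) : Matrix (Fin n ⊕ Fin n) (Fin n ⊕ Fin n) F).mulVec (Pi.single (Sum.inr k) (1 : F)) = (Pi.single (Sum.inr k) (1 : F))})
    {H : Type*} [Group H] (σ : ∀ j : Fin n, ↥(S j) →* H) (μ : ∀ i : Fin n, ↥(M i) →* H)
    (hSS : ∀ j l : Fin n, j ≠ l → ∃ Ψ : ↥(S j ⊔ S l) →* H,
      (∀ (g : ↥(Matrix.symplecticGroup (Fin n) F)) (hg : g ∈ S j), Ψ ⟨g, Subgroup.mem_sup_left hg⟩ = σ j ⟨g, hg⟩) ∧
        (∀ (g : ↥(Matrix.symplecticGroup (Fin n) F)) (hg : g ∈ S l), Ψ ⟨g, Subgroup.mem_sup_right hg⟩ = σ l ⟨g, hg⟩))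
    (hMM : ∀ i i' : Fin n, i ≠ i' → (i : ℕ) + 1 < n → (i' : ℕ) + 1 < n → ∃ Ψ : ↥(M i ⊔ M i') →* H,
      (∀ (g : ↥(Matrix.symplecticGroup (Fin n) F)) (hg : g ∈ M i), Ψ ⟨g, Subgroup.mem_sup_left hg⟩ = μ i ⟨g, hg⟩) ∧
        (∀ (g : ↥(Matrix.symplecticGroup (Fin n) F)) (hg : g ∈ M i'), Ψ ⟨g, Subgroup.mem_sup_right hg⟩ = μ i' ⟨g, hg⟩))
    (hMS : ∀ i j : Fin n, (i : ℕ) + 1 < n → ∃ Ψ : ↥(M i ⊔ S j) →* H,
      (∀ (g : ↥(Matrix.symplecticGroup (Fin n) F)) (hg : g ∈ M i), Ψ ⟨g, Subgroup.mem_sup_left hg⟩ = μ i ⟨g, hg⟩) ∧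
        (∀ (g : ↥(Matrix.symplecticGroup (Fin n) F)) (hg : g ∈ S j), Ψ ⟨g, Subgroup.mem_sup_right hg⟩ = σ j ⟨g, hg⟩)) :
    ∃! Φ : ↥(Matrix.symplecticGroup (Fin n) F) →* H,
      (∀ (j : Fin n) (g : ↥(Matrix.symplecticGroup (Fin n) F)) (hg : g ∈ S j), Φ g = σ j ⟨g, hg⟩) ∧
        (∀ (i : Fin n), (i : ℕ) + 1 < n → ∀ (g : ↥(Matrix.symplecticGroup (Fin n) F)) (hg : g ∈ M i), Φ g = μ i ⟨g, hg⟩) := by
  classical
  have hS' : ∀ j : Fin n, S j = fixPairs (co {j}) := fun j => by
    rw [hS j]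
    refine le_antisymm ((Subgroup.closure_le _).2 fun A hA => ?_) fun A hA => ?_
    · exact mem_fixPairs.2 fun k hk => hA k (by simpa using hk)
    · exact Subgroup.subset_closure fun k hk => mem_fixPairs.1 hA k (by simpa using hk)
  have hM' : ∀ i j : Fin n, (i : ℕ) + 1 = j → M i = mTv i j := fun i j hij => by
    have hne : i ≠ j := fun h => by subst h; omega
    rw [hM i (by omega)]
    refine le_antisymm ((Subgroup.closure_le _).2 fun A hA => ?_) fun A hA => ?_
    · exact mTv_eq hne hA.1 fun k h1 h2 => hA.2 k (fun h => h1 (Fin.ext h))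
        (fun h => h2 (Fin.ext (h.trans hij)))
    · refine Subgroup.subset_closure ⟨fun k => mTv_fix_eI hA k, fun k h1 h2 => ?_⟩
      refine (mem_fixPairs.1 (mTv_le_fixPairs i j hA) k (mem_co.2 fun h => ?_)).2
      rcases Finset.mem_insert.1 h with h | h
      · exact h1 (congrArg Fin.val h)
      · exact h2 ((congrArg Fin.val (Finset.mem_singleton.1 h)).trans hij.symm)
  let G := Sp n F × H
  let Me : Fin n → Fin n → Subgroup G := fun i j =>
    if (i : ℕ) + 1 = j then graph (μ i) else if (j : ℕ) + 1 = i then graph (μ j) else ⊥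
  have hMe : ∀ {i j : Fin n}, Adj i j → ∃ a : Fin n, (a : ℕ) + 1 < n ∧ Me i j = graph (μ a) := by
    intro i j h
    rcases h with h | h
    · exact ⟨i, by omega, if_pos h⟩
    · exact ⟨j, by omega, by simp only [Me]; rw [if_neg (by omega), if_pos h]⟩
  let P : Sys F n G :=
    { π := MonoidHom.fst _ _
      S := fun j => graph (σ j)
      M := Me
      M_symm := by
        intro i j h
        simp only [Me]
        rcases h with h | h
        · rw [if_pos h, if_neg (by omega), if_pos h]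
        · rw [if_neg (by omega), if_pos h, if_pos h]
      mapS := fun j => by rw [map_graph, hS']
      mapM := by
        intro i j h
        simp only [Me]
        rcases h with h | h
        · rw [if_pos h, map_graph, hM' i j h]
        · rw [if_neg (by omega), if_pos h, map_graph, hM' j i h, mTv_symm]
      singleSS := fun {j l} h => single_graph _ _ (hSS j l h)
      singleMM := by
        intro i j k l h h'
        obtain ⟨a, ha, ea⟩ := hMe h
        obtain ⟨b, hb, eb⟩ := hMe h'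
        rw [ea, eb]
        by_cases hab : a = b
        · subst hab
          exact (single_graph _ _ (hMS a a ha)).mono (sup_le le_sup_left le_sup_left)
        · exact single_graph _ _ (hMM a b hab ha hb)
      singleMS := by
        intro i j l h
        obtain ⟨a, ha, ea⟩ := hMe h
        rw [ea]
        exact single_graph _ _ (hMS a l ha)
      exists_ne := fun j => by
        have : Nontrivial (Fin n) := Fin.nontrivial_iff_two_le.2 hn
        obtain ⟨l, hl⟩ := exists_ne j
        exact ⟨l, hl.symm⟩ }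
  obtain ⟨hsingle, hsurj⟩ := P.good_univ hF (by omega)
  have hbij : Function.Bijective ((MonoidHom.fst (Sp n F) H).comp (P.gam Finset.univ).subtype) := by
    refine ⟨fun a b hab => Subtype.ext (Single.eq hsingle a.2 b.2 hab), fun x => ?_⟩
    obtain ⟨g, hg, hπ⟩ := hsurj x (by
      rw [show co (Finset.univ : Finset (Fin n)) = ∅ from Finset.sdiff_self _, fixPairs]
      simp)
    exact ⟨⟨g, hg⟩, hπ⟩
  set e := MulEquiv.ofBijective _ hbij
  set Φ : Sp n F →* H := ((MonoidHom.snd (Sp n F) H).comp (P.gam Finset.univ).subtype).comp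
    e.symm.toMonoidHom with hΦ
  have hpair : ∀ g : G, g ∈ P.gam Finset.univ → Φ g.1 = g.2 := fun g hg => by
    have : e.symm g.1 = ⟨g, hg⟩ := e.injective (by rw [e.apply_symm_apply]; rfl)
    show ((e.symm g.1 : P.gam Finset.univ) : G).2 = g.2
    rw [this]
  refine ⟨Φ, ⟨fun j g hg => ?_, fun i hi g hg => ?_⟩, fun Φ' ⟨h1, h2⟩ => ?_⟩
  · exact hpair (g, σ j ⟨g, hg⟩) (Sys.S_le_gam (Finset.mem_univ j) (mem_graph (σ j) hg))
  · refine hpair (g, μ i ⟨g, hg⟩) (Sys.M_le_gam (j := ⟨(i : ℕ) + 1, hi⟩) (Finset.mem_univ i)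
      (Finset.mem_univ _) (Or.inl rfl) ?_)
    show (g, μ i ⟨g, hg⟩) ∈ Me i ⟨(i : ℕ) + 1, hi⟩
    simp only [Me, if_true]
    exact mem_graph (μ i) hg
  · refine MonoidHom.ext fun x => ?_
    have hle : P.gam Finset.univ ≤ ((MonoidHom.id (Sp n F)).prod Φ').range := by
      refine Sys.gam_le (fun j _ => ?_) fun i _ j _ hij => ?_
      · rintro _ ⟨⟨g, hg⟩, rfl⟩
        exact ⟨g, Prod.ext rfl (h1 j g hg)⟩
      · obtain ⟨a, ha, ea⟩ := hMe hij
        show Me i j ≤ _
        rw [ea]
        rintro _ ⟨⟨g, hg⟩, rfl⟩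
        exact ⟨g, Prod.ext rfl (h2 a ha g hg)⟩
    obtain ⟨g, hg⟩ := hbij.2 x
    obtain ⟨y, hy⟩ := hle g.2
    have hx : (g : G).1 = x := hg
    rw [← hy] at hx
    have hy' := hpair g g.2
    rw [← hy] at hy'
    change Φ y = Φ' y at hy'
    change y = x at hx
    rw [← hx, hy']

end Cfsg.Agent.S3713
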