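import Cfsg.Statements.S3716
import Cfsg.Agent.H40.Wreath.Main

set_option autoImplicit false
open Cfsg

namespace Cfsg.Agent.S3716

/-- Let G be a finite group with an elementary abelian Sylow 3-subgroup M of order 9 which is self-centralizing (C_G(M) = M), let N = N_G(M), and suppose C_G(g) ≤ N for every nonidentity g ∈ M. If the Sylow 2-subgroups of N are dihedral of order 8, then G is not simple. -/
theorem result {G : Type*} [Group G] [Finite G] (M : Sylow 3 G) (hM9 : Nat.card ↥(M : Subgroup G) = 9)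
    (hMel : ∀ m ∈ (M : Subgroup G), m ^ 3 = 1)
    (hCM : Subgroup.centralizer ((M : Subgroup G) : Set G) = (M : Subgroup G))
    (N : Subgroup G) (hN : N = Subgroup.normalizer ((M : Subgroup G) : Set G))
    (hCg : ∀ g ∈ (M : Subgroup G), g ≠ 1 → Subgroup.centralizer ({g} : Set G) ≤ N)
    (hS : ∀ S : Sylow 2 ↥N, Nonempty (↥(S : Subgroup ↥N) ≃* DihedralGroup 4)) :
    ¬ IsSimpleGroup G := by
  haveI := Fintype.ofFinite G
  obtain ⟨f, hfi, hr, hM⟩ := H40.Wreath.exists_iso M hM9 hMel hCM hN hS
  have hMN : (M : Subgroup G) ≤ f.range := by rw [hr, hN]; exact Subgroup.le_normalizer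
  obtain ⟨θ, hθ⟩ := H40.Wreath.exists_linear f hfi (M : Subgroup G) hM hMN (by rw [hr, ← hN])
    (fun t ht ht1 => hr ▸ hCg t ht ht1)
  refine H40.Wreath.not_simple_of_linear (M : Subgroup G) hCM hM9 ?_ θ hθ
  have h : Nat.card f.range = 72 := by
    rw [← Nat.card_congr (MonoidHom.ofInjective hfi).toEquiv, Nat.card_eq_fintype_card,
      H40.Wreath.card_K]
  have := Subgroup.card_le_card_group f.range
  omega

end Cfsg.Agent.S3716
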