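import Cfsg.Statements.S3733
-- import your own Cfsg.Agent.* helpers here

set_option autoImplicit false
open Cfsg

namespace Cfsg.Agent.S3733

/-- Let A and V be subgroups of a finite group with V abelian and nontrivial and A normalizing V. Suppose a nonempty finite family of proper subgroups of A partitions A: every non-identity element of A lies in exactly one member. If the number of members minus one is coprime to the order of V, then some member B of the family has a non-identity fixed point on V, that is V ∩ C(B) ≠ 1. -/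
theorem result {G : Type*} [Group G] [Finite G] (A V : Subgroup G) (hVab : IsMulCommutative V) (hV : V ≠ ⊥) (hAV : A ≤ Subgroup.normalizer (V : Set G)) (𝒜 : Finset (Subgroup G)) (hne : 𝒜.Nonempty) (hprop : ∀ B ∈ 𝒜, B < A) (hpart : ∀ a ∈ A, a ≠ 1 → ∃! B, B ∈ 𝒜 ∧ a ∈ B) (hk : (𝒜.card - 1).Coprime (Nat.card V)) : ∃ B ∈ 𝒜, V ⊓ Subgroup.centralizer (B : Set G) ≠ ⊥ := by
  classical
  haveI := hVab
  letI : Fintype G := Fintype.ofFinite G
  letI : CommGroup V := { (inferInstance : Group V) with mul_comm := fun a b => mul_comm' a b }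
  by_contra hcon
  push Not at hcon
  obtain ⟨B₀, hB₀⟩ := hne
  let f : G → V → V := fun a v =>
    if h : a ∈ Subgroup.normalizer (V : Set G) then
      ⟨a * v * a⁻¹, (Subgroup.mem_normalizer_iff.mp h _).mp v.2⟩ else 1
  have fval : ∀ a ∈ A, ∀ v : V, (f a v : G) = a * v * a⁻¹ := by
    intro a ha v; simp [f, hAV ha]
  let S : Subgroup G → Finset G := fun B => Finset.univ.filter (· ∈ B)
  have trivialNorm : ∀ B : Subgroup G, B ≤ A → V ⊓ Subgroup.centralizer (B : Set G) = ⊥ →
      ∀ v : V, ∏ a ∈ S B, f a v = 1 := by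
    intro B hBA hB v
    have hom : ∀ a ∈ A, ∀ (s : Finset G) (g : G → V),
        a * ((∏ i ∈ s, g i : V) : G) * a⁻¹ = ((∏ i ∈ s, f a (g i) : V) : G) := by
      intro a ha s g
      induction s using Finset.induction_on with
      | empty => simp
      | @insert i t hi ih =>
        rw [Finset.prod_insert hi, Finset.prod_insert hi, Subgroup.coe_mul, Subgroup.coe_mul,
          fval a ha, ← ih]
        group
    have : ((∏ a ∈ S B, f a v : V) : G) ∈ V ⊓ Subgroup.centralizer (B : Set G) := by
      refine ⟨SetLike.coe_mem _, ?_⟩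
      show _ ∈ Subgroup.centralizer (B : Set G)
      rw [Subgroup.mem_centralizer_iff]
      intro b hb
      have e : (∏ a ∈ S B, f b (f a v)) = ∏ a ∈ S B, f a v := by
        refine Finset.prod_equiv (Equiv.mulLeft b) ?_ ?_
        · intro i; simp [S, Subgroup.mul_mem_cancel_left B (SetLike.mem_coe.mp hb)]
        · intro i hi
          have hi : i ∈ B := by simpa [S] using hi
          apply Subtype.ext
          rw [fval b (hBA hb), fval i (hBA hi), Equiv.coe_mulLeft, fval _ (hBA (mul_mem hb hi))]
          group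
      have := hom b (hBA hb) (S B) (fun a => f a v)
      rw [e] at this
      exact mul_inv_eq_iff_eq_mul.mp this
    rw [hB, Subgroup.mem_bot] at this
    exact Subtype.ext this
  have hone : ∀ B : Subgroup G, ∀ v : V,
      v * ∏ a ∈ (S B).erase 1, f a v = ∏ a ∈ S B, f a v := by
    intro B v
    rw [← Finset.mul_prod_erase (S B) (fun a => f a v) (a := 1) (by simp [S])]
    congr 1
    exact Subtype.ext (by simp [fval 1 (one_mem A) v])
  have hAtriv : V ⊓ Subgroup.centralizer (A : Set G) = ⊥ := by
    rw [eq_bot_iff, ← hcon B₀ hB₀]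
    exact inf_le_inf le_rfl (Subgroup.centralizer_le (SetLike.coe_subset_coe.mpr (hprop B₀ hB₀).le))
  have hdisj : (𝒜 : Set (Subgroup G)).PairwiseDisjoint (fun B => (S B).erase 1) := by
    intro B hB C hC hBC
    rw [Function.onFun, Finset.disjoint_left]
    intro a haB haC
    simp only [S, Finset.mem_erase, Finset.mem_filter, Finset.mem_univ, true_and] at haB haC
    obtain ⟨D, -, hD⟩ := hpart a ((hprop B hB).le haB.2) haB.1
    exact hBC ((hD B ⟨hB, haB.2⟩).trans (hD C ⟨hC, haC.2⟩).symm)
  have hunion : 𝒜.biUnion (fun B => (S B).erase 1) = (S A).erase 1 := by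
    ext a
    simp only [S, Finset.mem_biUnion, Finset.mem_erase, Finset.mem_filter, Finset.mem_univ, true_and]
    constructor
    · rintro ⟨B, hB, h1, ha⟩; exact ⟨h1, (hprop B hB).le ha⟩
    · rintro ⟨h1, ha⟩
      obtain ⟨B, ⟨hB, haB⟩, -⟩ := hpart a ha h1
      exact ⟨B, hB, h1, haB⟩
  have hpow : ∀ v : V, v ^ (𝒜.card - 1) = 1 := by
    intro v
    have hall : ∏ B ∈ 𝒜, ∏ a ∈ S B, f a v = 1 :=
      Finset.prod_eq_one fun B hB => trivialNorm B (hprop B hB).le (hcon B hB) v
    simp only [← hone] at hall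
    rw [Finset.prod_mul_distrib, Finset.prod_const, ← Finset.prod_biUnion hdisj, hunion] at hall
    have h2 : v * ∏ a ∈ (S A).erase 1, f a v = 1 :=
      (hone A v).trans (trivialNorm A le_rfl hAtriv v)
    rw [eq_inv_of_mul_eq_one_right h2] at hall
    have hk1 : 1 ≤ 𝒜.card := Finset.card_pos.mpr ⟨B₀, hB₀⟩
    rw [← pow_sub_one_mul (by omega : 𝒜.card ≠ 0), mul_assoc, mul_inv_cancel, mul_one] at hall
    exact hall
  apply hV
  rw [eq_bot_iff]
  intro x hx
  have h1 := hpow ⟨x, hx⟩
  have : orderOf (⟨x, hx⟩ : V) = 1 :=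
    Nat.eq_one_of_dvd_coprimes hk (orderOf_dvd_of_pow_eq_one h1) (orderOf_dvd_natCard _)
  exact Subgroup.mem_bot.mpr (congrArg Subtype.val (orderOf_eq_one_iff.mp this))

end Cfsg.Agent.S3733
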