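import Cfsg.Statements.S3734
import Cfsg.Agent.FG72.CocyclicGeneration

set_option autoImplicit false
open Cfsg
open scoped commutatorElement

namespace Cfsg.Agent.S3734

/-- Let A and G be subgroups of a finite group with A abelian, A normalizing G and the orders of A and G coprime. Then G is generated by the fixed-point subgroups C_G(B) of those subgroups B of A for which A/B is cyclic (that is, A = ⟨B, a⟩ for some a), and [G, A] is generated by the commutator subgroups [C_G(B), A] over the same subgroups B. -/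
theorem result {X : Type*} [Group X] [Finite X] (A G : Subgroup X) (hAab : IsMulCommutative A) (hAG : A ≤ Subgroup.normalizer (G : Set X)) (hcop : (Nat.card A).Coprime (Nat.card G)) : (⨆ B ∈ {B : Subgroup X | B ≤ A ∧ ∃ a ∈ A, B ⊔ Subgroup.zpowers a = A}, G ⊓ Subgroup.centralizer (B : Set X)) = G ∧ (⨆ B ∈ {B : Subgroup X | B ≤ A ∧ ∃ a ∈ A, B ⊔ Subgroup.zpowers a = A}, ⁅G ⊓ Subgroup.centralizer (B : Set X), A⁆) = ⁅G, A⁆ := by
  classical
  show (⨆ B ∈ FG72.cocyclic A, G ⊓ Subgroup.centralizer (B : Set X)) = G ∧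
    (⨆ B ∈ FG72.cocyclic A, ⁅G ⊓ Subgroup.centralizer (B : Set X), A⁆) = ⁅G, A⁆
  have h1 : (⨆ B ∈ FG72.cocyclic A, G ⊓ Subgroup.centralizer (B : Set X)) = G :=
    le_antisymm (iSup₂_le fun _ _ => inf_le_left)
      (FG72.le_iSup_cocyclic _ X A G rfl hAab hAG hcop)
  refine ⟨h1, le_antisymm (iSup₂_le fun _ _ => Subgroup.commutator_mono inf_le_left le_rfl) ?_⟩
  set M := ⨆ B ∈ FG72.cocyclic A, ⁅G ⊓ Subgroup.centralizer (B : Set X), A⁆ with hM
  haveI := hAab
  have hAC : ∀ B ∈ FG72.cocyclic A,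
      A ≤ Subgroup.normalizer ((G ⊓ Subgroup.centralizer (B : Set X) : Subgroup X) : Set X) :=
    fun B hB => Coprime.le_normalizer_inf hAG (le_trans (fun a ha => by
      rw [Subgroup.mem_centralizer_iff]
      intro b hb
      exact congrArg Subtype.val (mul_comm' (⟨b, hB.1 hb⟩ : A) ⟨a, ha⟩)) Subgroup.le_normalizer)
  have hAM : A ≤ Subgroup.normalizer (M : Set X) :=
    Coprime.le_normalizer_of_conj_mem fun a ha x hx => by
      refine ((iSup₂_le fun B hB y hy => ?_) : M ≤ M.comap (MulAut.conj a).toMonoidHom) hx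
      exact le_biSup (fun B : Subgroup X => ⁅G ⊓ Subgroup.centralizer (B : Set X), A⁆) hB
        (Coprime.conj_mem_of_mem_normalizer (Coprime.le_normalizer_commutator_right A _ ha) hy)
  set C := G ⊓ Subgroup.centralizer (A : Set X) with hC
  have hCM : C ≤ Subgroup.normalizer (M : Set X) :=
    Coprime.le_normalizer_of_conj_mem fun c hc x hx => by
      refine ((iSup₂_le fun B hB y hy => ?_) : M ≤ M.comap (MulAut.conj c).toMonoidHom) hx
      refine le_biSup (fun B : Subgroup X => ⁅G ⊓ Subgroup.centralizer (B : Set X), A⁆) hB ?_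
      refine Coprime.conj_mem_of_mem_normalizer
        (Coprime.le_normalizer_commutator_left A _ ⟨hc.1, ?_⟩) hy
      exact Subgroup.centralizer_le (fun b hb => hB.1 hb) hc.2
  have hGle : G ≤ M ⊔ C := by
    conv_lhs => rw [← h1]
    refine iSup₂_le fun B hB => ?_
    rw [← Coprime.commutator_sup_centralizer A (G ⊓ Subgroup.centralizer (B : Set X)) (hAC B hB)
      (hcop.coprime_dvd_right (Subgroup.card_dvd_of_le inf_le_left)) (Or.inl ?_)]
    · exact sup_le_sup (le_biSup (fun B : Subgroup X => ⁅G ⊓ Subgroup.centralizer (B : Set X), A⁆) hB)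
        (inf_le_inf_right _ inf_le_left)
    · letI : CommGroup A := IsMulCommutative.instCommGroup
      infer_instance
  rw [Subgroup.commutator_le]
  intro g hg a ha
  obtain ⟨m, hm, c, hc, rfl⟩ := Coprime.exists_mul_of_mem_sup hCM (hGle hg)
  have hcomm : a * c = c * a := Subgroup.mem_centralizer_iff.mp hc.2 a ha
  have e : m * c * a * (m * c)⁻¹ * a⁻¹ = m * (a * m⁻¹ * a⁻¹) := by
    calc m * c * a * (m * c)⁻¹ * a⁻¹ = m * (c * a) * c⁻¹ * m⁻¹ * a⁻¹ := by group
      _ = m * (a * m⁻¹ * a⁻¹) := by rw [← hcomm]; group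
  rw [commutatorElement_def, e]
  exact mul_mem hm (Coprime.conj_mem_of_mem_normalizer (hAM ha) (inv_mem hm))

end Cfsg.Agent.S3734
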