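import Cfsg.Statements.S3735
import Cfsg.Agent.Lib.Coprime.Action

set_option autoImplicit false
open Cfsg

namespace Cfsg.Agent.S3735

/-- Clifford's Theorem for actions on finite abelian groups, first part. Let H and V be subgroups of a finite group with V abelian and H normalizing V, and let A be a normal subgroup of H. If every H-invariant subgroup of V has an H-invariant complement in V, then every A-invariant subgroup of V has an A-invariant complement in V. -/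
theorem result {G : Type*} [Group G] [Finite G] (H A V : Subgroup G) (hVab : IsMulCommutative V) (hHV : H ≤ Subgroup.normalizer (V : Set G)) (hAH : A ≤ H) (hAn : H ≤ Subgroup.normalizer (A : Set G)) (hss : ∀ U : Subgroup G, U ≤ V → H ≤ Subgroup.normalizer (U : Set G) → ∃ W : Subgroup G, W ≤ V ∧ H ≤ Subgroup.normalizer (W : Set G) ∧ U ⊓ W = ⊥ ∧ U ⊔ W = V) (U : Subgroup G) (hUV : U ≤ V) (hAU : A ≤ Subgroup.normalizer (U : Set G)) : ∃ W : Subgroup G, W ≤ V ∧ A ≤ Subgroup.normalizer (W : Set G) ∧ U ⊓ W = ⊥ ∧ U ⊔ W = V := by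
  classical
  have conj_norm : ∀ (L : Subgroup G) (S : Set (Subgroup G)),
      (∀ T ∈ S, ∀ l ∈ L, ∀ x ∈ T, l * x * l⁻¹ ∈ sSup S) → L ≤ Subgroup.normalizer (sSup S : Subgroup G) := by
    intro L S hS l hl
    have h1 : ∀ l ∈ L, ∀ x ∈ sSup S, l * x * l⁻¹ ∈ sSup S := fun l hl x hx =>
      (sSup_le fun T hT y hy => hS T hT l hl y hy :
        sSup S ≤ (sSup S).comap (MulAut.conj l).toMonoidHom) hx
    refine Subgroup.mem_normalizer_iff.mpr fun x => ⟨h1 l hl x, fun hx => ?_⟩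
    simpa [mul_assoc] using h1 _ (inv_mem hl) _ hx
  let Inv : Subgroup G → Subgroup G → Prop := fun L X =>
    X ≤ V ∧ L ≤ Subgroup.normalizer (X : Set G)
  let Mn : Subgroup G → Subgroup G → Prop := fun L X =>
    Inv L X ∧ X ≠ ⊥ ∧ ∀ Y, Inv L Y → Y ≠ ⊥ → Y ≤ X → Y = X
  have exmin : ∀ L X : Subgroup G, Inv L X → X ≠ ⊥ → ∃ T ≤ X, Mn L T := by
    intro L X hX hne
    obtain ⟨T, hT⟩ := exists_minimal_of_wellFoundedLT
      (fun T => Inv L T ∧ T ≠ ⊥ ∧ T ≤ X) ⟨X, hX, hne, le_rfl⟩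
    exact ⟨T, hT.1.2.2, hT.1.1, hT.1.2.1, fun Y hY hY0 hYT =>
      le_antisymm hYT (hT.2 ⟨hY, hY0, hYT.trans hT.1.2.2⟩ hYT)⟩
  have hH : sSup {T | Mn H T} = V := by
    have hle : sSup {T | Mn H T} ≤ V := sSup_le fun T hT => hT.1.1
    have hinv : H ≤ Subgroup.normalizer (sSup {T | Mn H T} : Subgroup G) :=
      conj_norm H _ fun T hT l hl x hx =>
        (le_sSup hT : T ≤ _) ((Subgroup.mem_normalizer_iff.mp (hT.1.2 hl) x).mp hx)
    obtain ⟨W, hW, hWn, hdis, hsup⟩ := hss _ hle hinv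
    rcases eq_or_ne W ⊥ with rfl | hne
    · rwa [sup_bot_eq] at hsup
    · obtain ⟨T, hTW, hT⟩ := exmin H W ⟨hW, hWn⟩ hne
      refine absurd ?_ hT.2.1
      rw [eq_bot_iff, ← hdis]
      exact le_inf (le_sSup hT) hTW
  have hA : sSup {T | Mn A T} = V := by
    refine le_antisymm (sSup_le fun T hT => hT.1.1) (hH.ge.trans (sSup_le fun T hT => ?_))
    obtain ⟨T0, hT0T, hT0⟩ := exmin A T ⟨hT.1.1, hAH.trans hT.1.2⟩ hT.2.1
    let S : Set (Subgroup G) := {U | ∃ h ∈ H, U = T0.map (MulAut.conj h).toMonoidHom}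
    have hsub : sSup S ≤ T := sSup_le fun U ⟨h, hh, hU⟩ => by
      subst hU
      rintro _ ⟨x, hx, rfl⟩
      exact (Subgroup.mem_normalizer_iff.mp (hT.1.2 hh) x).mp (hT0T hx)
    have hinv : H ≤ Subgroup.normalizer (sSup S : Subgroup G) := by
      refine conj_norm H S ?_
      rintro _ ⟨h, hh, rfl⟩ l hl _ ⟨x, hx, rfl⟩
      have hmemS : T0.map (MulAut.conj (l * h)).toMonoidHom ∈ S := ⟨l * h, mul_mem hl hh, rfl⟩
      refine le_sSup hmemS ⟨x, hx, ?_⟩
      simp [mul_assoc]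
    have hne : sSup S ≠ ⊥ := by
      intro h0
      apply hT0.2.1
      rw [eq_bot_iff]
      refine le_trans ?_ h0.le
      have hmemS : T0.map (MulAut.conj (1 : G)).toMonoidHom ∈ S := ⟨1, one_mem H, rfl⟩
      intro x hx
      exact le_sSup hmemS ⟨x, hx, by simp⟩
    rw [← hT.2.2 _ ⟨hsub.trans hT.1.1, hinv⟩ hne hsub]
    refine sSup_le fun U hU => le_sSup ?_
    obtain ⟨h, hh, rfl⟩ := hU
    have hconjinv : ∀ (g : G) (Z : Subgroup G), g ∈ H → Inv A Z →
        Inv A (Z.map (MulAut.conj g).toMonoidHom) := by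
      intro g Z hg hZ
      refine ⟨?_, ?_⟩
      · rintro _ ⟨x, hx, rfl⟩
        exact (Subgroup.mem_normalizer_iff.mp (hHV hg) x).mp (hZ.1 hx)
      · have h1 : ∀ a ∈ A, ∀ x ∈ Z.map (MulAut.conj g).toMonoidHom,
            a * x * a⁻¹ ∈ Z.map (MulAut.conj g).toMonoidHom := by
          rintro a ha _ ⟨x, hx, rfl⟩
          have ha' : g⁻¹ * a * g ∈ A := by
            simpa using (Subgroup.mem_normalizer_iff.mp (hAn (inv_mem hg)) a).mp ha
          exact ⟨_, (Subgroup.mem_normalizer_iff.mp (hZ.2 ha') x).mp hx, by simp [mul_assoc]⟩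
        intro a ha
        refine Subgroup.mem_normalizer_iff.mpr fun x => ⟨h1 a ha x, fun hx => ?_⟩
        simpa [mul_assoc] using h1 _ (inv_mem ha) _ hx
    have hback : ∀ (g : G) (Z : Subgroup G),
        (Z.map (MulAut.conj g).toMonoidHom).map (MulAut.conj g⁻¹).toMonoidHom = Z := by
      intro g Z
      rw [Subgroup.map_map]
      convert Subgroup.map_id Z
      ext x
      simp [mul_assoc]
    refine ⟨hconjinv h T0 hh hT0.1, ?_, fun Y hY hY0 hYle => ?_⟩
    · rw [Ne, Subgroup.map_eq_bot_iff_of_injective _ (MulAut.conj h).injective]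
      exact hT0.2.1
    · have h1 := hT0.2.2 (Y.map (MulAut.conj h⁻¹).toMonoidHom) (hconjinv _ Y (inv_mem hh) hY)
        (by rw [Ne, Subgroup.map_eq_bot_iff_of_injective _ (MulAut.conj h⁻¹).injective]; exact hY0)
        (by rw [← hback h T0]; exact Subgroup.map_mono hYle)
      rw [← h1]
      have := hback h⁻¹ Y
      rw [inv_inv] at this
      exact this.symm
  obtain ⟨W, hW⟩ := (Set.toFinite {W : Subgroup G | Inv A W ∧ U ⊓ W = ⊥}).exists_maximal
    ⟨⊥, ⟨bot_le, by intro a _; rw [Subgroup.mem_normalizer_iff]; intro x; simp [Subgroup.mem_bot]⟩,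
      inf_bot_eq U⟩
  refine ⟨W, hW.1.1.1, hW.1.1.2, hW.1.2, le_antisymm (sup_le hUV hW.1.1.1) ?_⟩
  rw [← hA]
  refine sSup_le fun T hT => ?_
  by_contra hTUW
  haveI := hVab
  have hab : ∀ X Y : Subgroup G, X ≤ V → Y ≤ V → Y ≤ Subgroup.normalizer (X : Set G) := by
    intro X Y hX hY y hy
    refine Subgroup.mem_normalizer_iff.mpr fun x => ?_
    constructor
    · intro hx
      rwa [show y * x = x * y from congrArg Subtype.val
        (mul_comm' (⟨y, hY hy⟩ : V) ⟨x, hX hx⟩), mul_inv_cancel_right]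
    · intro hx
      have hc : y⁻¹ * (y * x * y⁻¹) = y * x * y⁻¹ * y⁻¹ := congrArg Subtype.val
        (mul_comm' (⟨y⁻¹, inv_mem (hY hy)⟩ : V) ⟨_, hX hx⟩)
      have : x = y * x * y⁻¹ := by
        calc x = y⁻¹ * (y * x * y⁻¹) * y := by group
          _ = y * x * y⁻¹ := by rw [hc]; group
      rwa [this]
  have hTdis : T ⊓ (U ⊔ W) = ⊥ := by
    by_contra hne
    refine hTUW ?_
    rw [← hT.2.2 (T ⊓ (U ⊔ W)) ⟨inf_le_left.trans hT.1.1,
      Coprime.le_normalizer_inf hT.1.2 (Coprime.le_normalizer_sup hAU hW.1.1.2)⟩ hne inf_le_left]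
    exact inf_le_right
  have hUWT : U ⊓ (W ⊔ T) = ⊥ := by
    rw [eq_bot_iff]
    rintro u ⟨hu, hu'⟩
    obtain ⟨w, hw, t, ht, rfl⟩ :=
      Coprime.exists_mul_of_mem_sup (hab W T hW.1.1.1 hT.1.1) hu'
    have ht' : t ∈ T ⊓ (U ⊔ W) := ⟨ht, by
      have := Subgroup.mul_mem_sup hu (inv_mem hw)
      have h2 : w⁻¹ * (w * t) ∈ U ⊔ W :=
        mul_mem (Subgroup.mem_sup_right (inv_mem hw)) (Subgroup.mem_sup_left hu)
      simpa using h2⟩
    rw [hTdis, Subgroup.mem_bot] at ht'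
    subst ht'
    rw [mul_one] at hu ⊢
    exact hW.1.2.le ⟨hu, hw⟩
  exact hTUW (le_sup_of_le_right (le_sup_right.trans
    (hW.2 ⟨⟨sup_le hW.1.1.1 hT.1.1, Coprime.le_normalizer_sup hW.1.1.2 hT.1.2⟩, hUWT⟩ le_sup_left)))

end Cfsg.Agent.S3735
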