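import Cfsg.Statements.S3736
import Cfsg.Agent.FG72.MinimalAction

set_option autoImplicit false
open Cfsg
open scoped commutatorElement

namespace Cfsg.Agent.S3736

/-- The Hall–Higman reduction for a minimal non-trivial action. Let B, A and P be subgroups of a finite group with P a p-group, B normalizing P, and A a normal subgroup of B of order prime to p. Suppose A does not centralize P but centralizes every proper B-invariant subgroup of P. Then [P, A] = P; P is elementary abelian or special; B acts irreducibly on P/Φ(P), that is, the only B-invariant subgroups of P containing Φ(P) are Φ(P) and P; and if p is odd then every element of P has order dividing p. -/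
theorem result {X : Type*} [Group X] [Finite X] {p : ℕ} [Fact p.Prime] (B A P : Subgroup X) (hP : IsPGroup p P) (hBP : B ≤ Subgroup.normalizer (P : Set X)) (hAB : A ≤ B) (hAn : B ≤ Subgroup.normalizer (A : Set X)) (hAp : (Nat.card A).Coprime p) (hnt : ⁅P, A⁆ ≠ ⊥) (hmin : ∀ U : Subgroup X, U < P → B ≤ Subgroup.normalizer (U : Set X) → ⁅U, A⁆ = ⊥) : ⁅P, A⁆ = P ∧ (Cfsg.IsElementaryAbelian p P ∨ Cfsg.IsSpecial p ↥P) ∧ (∀ U : Subgroup X, (frattini ↥P).map P.subtype ≤ U → U ≤ P → B ≤ Subgroup.normalizer (U : Set X) → U = (frattini ↥P).map P.subtype ∨ U = P) ∧ (p ≠ 2 → ∀ x ∈ P, x ^ p = 1) := by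
  classical
  obtain ⟨h1, hF, hfix, hcl, hpow⟩ := FG72.minimal_action B A P hP hBP hAB hAn hAp hnt hmin
  have hFΦ : (frattini ↥P).map P.subtype = ⁅P, P⁆ := hF
  have hPPle : ⁅P, P⁆ ≤ P := hfix ▸ inf_le_left
  refine ⟨h1, ?_, ?_, ?_⟩
  · by_cases hab : ⁅P, P⁆ = ⊥
    · refine Or.inl ⟨⟨⟨fun a b => Subtype.ext ?_⟩⟩, fun a ha => ?_⟩
      · have := Subgroup.commutator_mem_commutator a.2 b.2
        rw [hab, Subgroup.mem_bot] at this
        exact commutatorElement_eq_one_iff_mul_comm.mp this
      · have := OddLocal43.pow_mem_frattiniOf hP ha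
        rw [hF, hab, Subgroup.mem_bot] at this
        exact this
    · right
      set Z := P ⊓ Subgroup.centralizer (P : Set X) with hZ
      have hZc : (Subgroup.center ↥P).map P.subtype = Z := by
        ext x
        simp only [Subgroup.mem_map, hZ, Subgroup.mem_inf, Subgroup.mem_centralizer_iff,
          Subgroup.mem_center_iff, Subgroup.coe_subtype, SetLike.mem_coe]
        constructor
        · rintro ⟨y, hy, rfl⟩
          exact ⟨y.2, fun g hg => congrArg Subtype.val (hy ⟨g, hg⟩)⟩
        · rintro ⟨hx, hc⟩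
          exact ⟨⟨x, hx⟩, fun g => Subtype.ext (hc g g.2), rfl⟩
      have hlt : Z < P := by
        refine lt_of_le_of_ne inf_le_left fun h => hab ?_
        rw [Subgroup.commutator_eq_bot_iff_le_centralizer]
        exact h.ge.trans inf_le_right
      have hBZ : B ≤ Subgroup.normalizer (Z : Set X) :=
        Coprime.le_normalizer_inf hBP (Coprime.le_normalizer_centralizer hBP)
      have hZle : Z ≤ ⁅P, P⁆ := hfix ▸ le_inf inf_le_left
        (Subgroup.commutator_eq_bot_iff_le_centralizer.mp (hmin Z hlt hBZ))
      have hleZ : ⁅P, P⁆ ≤ Z :=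
        le_inf hPPle (Subgroup.commutator_eq_bot_iff_le_centralizer.mp hcl)
      have heq := le_antisymm hZle hleZ
      refine ⟨hP, ?_, ?_⟩
      · exact Subgroup.map_injective P.subtype_injective (by rw [hFΦ, hZc, heq])
      · exact Subgroup.map_injective P.subtype_injective
          (by rw [FG72.map_subtype_commutator', hZc, heq])
  · intro U hFU hUP hBU
    rcases eq_or_lt_of_le hUP with h | h
    · exact Or.inr h
    · left
      refine le_antisymm ?_ hFU
      rw [hFΦ, ← hfix]
      exact le_inf hUP (Subgroup.commutator_eq_bot_iff_le_centralizer.mp (hmin U h hBU))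
  · intro hp2
    have hcl' : commutator ↥P ≤ Subgroup.center ↥P := by
      refine Subgroup.commutator_le.mpr fun a _ b _ => ?_
      rw [Subgroup.mem_center_iff]
      intro c
      apply Subtype.ext
      exact Subgroup.mem_centralizer_iff.mp
        (Subgroup.commutator_eq_bot_iff_le_centralizer.mp hcl
          (Subgroup.commutator_mem_commutator a.2 b.2)) c c.2
    have hexp : ∀ c ∈ commutator ↥P, c ^ p = 1 := by
      intro c hc
      apply Subtype.ext
      exact hpow c (by rw [← FG72.map_subtype_commutator']; exact ⟨c, hc, rfl⟩)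
    have hom : ∀ a b : ↥P, (a * b) ^ p = a ^ p * b ^ p := fun a b =>
      PGroup.mul_pow_prime_classTwo hcl' (Fact.out) hp2
        (hexp _ (PGroup.commutatorElement_mem_commutator b a))
    intro x hx
    have hK : P ≤ (MonoidHom.mk' (fun a : ↥P => a ^ p) hom).ker.map P.subtype := by
      conv_lhs => rw [← h1]
      refine Subgroup.commutator_le.mpr fun k hk a ha => ?_
      have hconj : a * k⁻¹ * a⁻¹ ∈ P :=
        Coprime.conj_mem_of_mem_normalizer ((hAB.trans hBP) ha) (inv_mem hk)
      refine ⟨⟨k, hk⟩ * ⟨a * k⁻¹ * a⁻¹, hconj⟩, ?_, by simp [commutatorElement_def, mul_assoc]⟩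
      show ((⟨k, hk⟩ : ↥P) * ⟨a * k⁻¹ * a⁻¹, hconj⟩) ^ p = 1
      rw [hom]
      apply Subtype.ext
      have hkc : k ^ p ∈ Subgroup.centralizer (A : Set X) := by
        have := OddLocal43.pow_mem_frattiniOf hP hk
        rw [hF, ← hfix] at this
        exact this.2
      show k ^ p * (a * k⁻¹ * a⁻¹) ^ p = 1
      rw [conj_pow, inv_pow,
        Subgroup.mem_centralizer_iff.mp (inv_mem hkc) a ha]
      simp
    obtain ⟨y, hy, rfl⟩ := hK hx
    exact congrArg Subtype.val (show y ^ p = 1 from hy)

end Cfsg.Agent.S3736
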