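import Cfsg.Statements.S3737
import Cfsg.Agent.FG72.Baer

set_option autoImplicit false
open Cfsg
open scoped commutatorElement

namespace Cfsg.Agent.S3737

/-- Thompson's strengthening of the P × Q lemma for odd primes. Let p be an odd prime and let P, Q and G be subgroups of a finite group with P a p-group, Q of order prime to p and normalized by P, and G a p-group normalized by both P and Q. If every element of G centralized by P is centralized by Q, then Q centralizes G. -/
theorem result {X : Type*} [Group X] [Finite X] {p : ℕ} [Fact p.Prime] (hp : p ≠ 2) (P Q G : Subgroup X) (hP : IsPGroup p P) (hQ : (Nat.card Q).Coprime p) (hPQ : P ≤ Subgroup.normalizer (Q : Set X)) (hG : IsPGroup p G) (hPG : P ≤ Subgroup.normalizer (G : Set X)) (hQG : Q ≤ Subgroup.normalizer (G : Set X)) (hC : G ⊓ Subgroup.centralizer (P : Set X) ≤ Subgroup.centralizer (Q : Set X)) : Q ≤ Subgroup.centralizer (G : Set X) := by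
  classical
  have main : ∀ (k : ℕ) (U : Subgroup X), Nat.card U = k → IsPGroup p U →
      P ≤ Subgroup.normalizer (U : Set X) → Q ≤ Subgroup.normalizer (U : Set X) →
      U ⊓ Subgroup.centralizer (P : Set X) ≤ Subgroup.centralizer (Q : Set X) →
      Q ≤ Subgroup.centralizer (U : Set X) := by
    intro k
    induction k using Nat.strong_induction_on with
    | _ k IH =>
    intro U hk hU hPU hQU hCU
    rcases eq_or_ne U ⊥ with rfl | hU0
    · intro q _
      exact Subgroup.mem_centralizer_iff.mpr fun x hx => by simp [Subgroup.mem_bot.mp hx]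
    have hlt : ∀ W : Subgroup X, W < U → Nat.card W < k := by
      intro W hW
      rw [← hk]
      exact lt_of_le_of_ne (Subgroup.card_le_of_le hW.le)
        fun h => hW.ne (Subgroup.eq_of_le_of_card_ge hW.le h.ge)
    have hnc : ∀ H K : Subgroup X,
        Subgroup.normalizer (H : Set X) ⊓ Subgroup.normalizer (K : Set X) ≤
          Subgroup.normalizer ((⁅H, K⁆ : Subgroup X) : Set X) := by
      rintro H K x ⟨h1, h2⟩
      rw [Subgroup.mem_normalizer_iff_map_conj_eq, Subgroup.map_commutator,
        Subgroup.mem_normalizer_iff_map_conj_eq.mp h1,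
        Subgroup.mem_normalizer_iff_map_conj_eq.mp h2]
    have hsub : ∀ W : Subgroup X, W < U → P ≤ Subgroup.normalizer (W : Set X) →
        Q ≤ Subgroup.normalizer (W : Set X) → Q ≤ Subgroup.centralizer (W : Set X) :=
      fun W hW h1 h2 => IH _ (hlt W hW) W rfl (hU.to_le hW.le) h1 h2
        ((inf_le_inf_right _ hW.le).trans hCU)
    have hcop : (Nat.card Q).Coprime (Nat.card U) := by
      obtain ⟨j, hj⟩ := IsPGroup.iff_card.mp hU
      rw [hj]; exact hQ.pow_right j
    have hle : ⁅U, Q⁆ ≤ U := Coprime.commutator_le_of_le_normalizer hQU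
    rcases eq_or_lt_of_le hle with heq | hlt'
    · have hD : ⁅U, U⁆ < U := by
        refine lt_of_le_of_ne (Coprime.commutator_le_of_le_normalizer Subgroup.le_normalizer)
          fun h => hU0 ?_
        exact Coprime.eq_bot_of_le_commutator U hU.isNilpotent le_rfl h.ge
      have hQD : Q ≤ Subgroup.centralizer ((⁅U, U⁆ : Subgroup X) : Set X) :=
        hsub _ hD ((le_inf hPU hPU).trans (hnc U U)) ((le_inf hQU hQU).trans (hnc U U))
      have h1 : ⁅⁅Q, ⁅U, U⁆⁆, U⁆ = ⊥ := by
        rw [Subgroup.commutator_eq_bot_iff_le_centralizer.mpr hQD, Subgroup.commutator_bot_left]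
      have h2 : ⁅⁅⁅U, U⁆, U⁆, Q⁆ = ⊥ := by
        rw [Subgroup.commutator_eq_bot_iff_le_centralizer]
        refine (Subgroup.commutator_mono hD.le le_rfl).trans ?_
        exact Subgroup.le_centralizer_iff.mp hQD
      have h3 : ⁅⁅U, Q⁆, ⁅U, U⁆⁆ = ⊥ := Subgroup.commutator_commutator_eq_bot_of_rotate h1 h2
      rw [heq, Subgroup.commutator_comm] at h3
      exact FG72.le_centralizer_of_classTwo hp P Q U hP hQ hPQ hU hPU hQU h3 hCU
    · have h1 : Q ≤ Subgroup.centralizer ((⁅U, Q⁆ : Subgroup X) : Set X) :=
        hsub _ hlt' ((le_inf hPU hPQ).trans (hnc U Q))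
          ((le_inf hQU Subgroup.le_normalizer).trans (hnc U Q))
      have h2 : ⁅⁅U, Q⁆, Q⁆ = ⊥ :=
        Subgroup.commutator_eq_bot_iff_le_centralizer.mpr (Subgroup.le_centralizer_iff.mp h1)
      rw [Coprime.commutator_commutator_eq Q U hQU hcop
        (Or.inr (Coprime.isSolvable_of_isNilpotent' hU.isNilpotent))] at h2
      exact Subgroup.le_centralizer_iff.mp (Subgroup.commutator_eq_bot_iff_le_centralizer.mp h2)
  exact main _ G rfl hG hPG hQG hC

end Cfsg.Agent.S3737
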