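import Cfsg.Statements.S3738
import Cfsg.Agent.FG72.QuadraticBound

set_option autoImplicit false
open Cfsg
open scoped commutatorElement

namespace Cfsg.Agent.S3738

/-- Let d be a non-identity 3-element of a finite group and P a 2-subgroup normalized by d on which ⟨d⟩ acts faithfully (no non-identity power of d centralizes P) and without non-identity fixed points (C_P(d) = 1). If every abelian subgroup of P has 2-rank at most 2, then d has order 3. -/
theorem result {X : Type*} [Group X] [Finite X] (d : X) (n : ℕ) (hn : 1 ≤ n) (hd : orderOf d = 3 ^ n) (P : Subgroup X) (hP : IsPGroup 2 P) (hdP : d ∈ Subgroup.normalizer (P : Set X)) (hfaith : Subgroup.zpowers d ⊓ Subgroup.centralizer (P : Set X) = ⊥) (hfpf : P ⊓ Subgroup.centralizer {d} = ⊥) (hrank : ∀ V : Subgroup X, V ≤ P → IsMulCommutative V → Cfsg.PRankLE 2 2 V) : orderOf d = 3 := by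
  classical
  by_contra hne
  haveI : Fact (Nat.Prime 3) := ⟨Nat.prime_three⟩
  have hn2 : 2 ≤ n := by
    by_contra hlt
    obtain rfl : n = 1 := by omega
    exact hne (by simpa using hd)
  have hrank' : ∀ V : Subgroup X, V ≤ P → IsMulCommutative V → (∀ a ∈ V, a ^ 2 = 1) →
      Nat.card V ≤ 4 := by
    intro V hV hVc hV2
    have := hrank V hV hVc ⊤
      ⟨⟨fun a b => Subtype.ext (Subtype.ext (congrArg Subtype.val (mul_comm' (a : V) (b : V))))⟩⟩
      (fun a _ => Subtype.ext (by simpa using hV2 a a.2))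
    simpa using this
  set e := d ^ 3 ^ (n - 1) with he_def
  have he : orderOf e = 3 := by
    rw [he_def, orderOf_pow_of_dvd (pow_ne_zero _ (by norm_num))
      (hd ▸ pow_dvd_pow 3 (Nat.sub_le n 1)), hd, Nat.pow_div (Nat.sub_le n 1) (by norm_num),
      show n - (n - 1) = 1 by omega, pow_one]
  set B := Subgroup.zpowers d
  set A := Subgroup.zpowers e
  have hAB : A ≤ B := Subgroup.zpowers_le.mpr (Subgroup.npow_mem_zpowers d _)
  have hBP : B ≤ Subgroup.normalizer (P : Set X) := Subgroup.zpowers_le.mpr hdP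
  have hAn : B ≤ Subgroup.normalizer (A : Set X) := by
    refine le_trans ?_ (Subgroup.centralizer_le_normalizer _)
    intro b hb
    rw [Subgroup.mem_centralizer_iff]
    intro a ha
    obtain ⟨i, rfl⟩ := Subgroup.mem_zpowers_iff.mp hb
    obtain ⟨j, rfl⟩ := Subgroup.mem_zpowers_iff.mp (hAB ha)
    exact Commute.zpow_zpow (Commute.refl d) j i
  have hAcard : Nat.card A = 3 := by rw [Nat.card_zpowers, he]
  have hAp : (Nat.card A).Coprime 2 := by rw [hAcard]; norm_num
  have hnt : ⁅P, A⁆ ≠ ⊥ := by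
    intro h
    have : e ∈ Subgroup.zpowers d ⊓ Subgroup.centralizer (P : Set X) :=
      ⟨Subgroup.npow_mem_zpowers d _, Subgroup.le_centralizer_iff.mp
        (Subgroup.commutator_eq_bot_iff_le_centralizer.mp h) (Subgroup.mem_zpowers e)⟩
    rw [hfaith, Subgroup.mem_bot] at this
    rw [this, orderOf_one] at he
    exact absurd he (by norm_num)
  obtain ⟨R, hR⟩ := exists_minimal_of_wellFoundedLT
    (fun R : Subgroup X => R ≤ P ∧ B ≤ Subgroup.normalizer (R : Set X) ∧ ⁅R, A⁆ ≠ ⊥)
    ⟨P, le_rfl, hBP, hnt⟩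
  obtain ⟨hRP, hBR, hRnt⟩ := hR.1
  have hR2 : IsPGroup 2 R := hP.to_le hRP
  haveI : Fact (Nat.Prime 2) := ⟨Nat.prime_two⟩
  obtain ⟨-, hF, hfix, hcl, hpow⟩ := FG72.minimal_action B A R hR2 hBR hAB hAn hAp hRnt
    (fun U hU hBU => by
      by_contra hU'
      exact hU.not_ge (hR.2 ⟨hU.le.trans hRP, hBU, hU'⟩ hU.le))
  set W := ⁅R, R⁆ with hWdef
  have hWR : W ≤ R := hfix ▸ inf_le_left
  have hWc : IsMulCommutative W := ⟨⟨fun a b => Subtype.ext
    ((Subgroup.mem_centralizer_iff.mp
      (Subgroup.commutator_eq_bot_iff_le_centralizer.mp hcl b.2) a (hWR a.2)))⟩⟩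
  have hW4 : Nat.card W ≤ 4 := hrank' W (hWR.trans hRP) hWc hpow
  have hBW : B ≤ Subgroup.normalizer (W : Set X) := OddLocal43.normalizes_commutator hBR hBR
  -- the free action of `⟨d⟩` on `R ∖ W`
  have heh : ∀ h ∈ B, h ≠ 1 → e ∈ Subgroup.zpowers h := by
    intro h hh h1
    have hdvd : 3 ∣ Nat.card (Subgroup.zpowers h) := by
      rw [Nat.card_zpowers]
      have : orderOf h ∣ 3 ^ n := by
        rw [← hd]
        have := Subgroup.orderOf_dvd_natCard B hh
        rwa [Nat.card_zpowers] at this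
      obtain ⟨i, -, hi⟩ := (Nat.dvd_prime_pow Nat.prime_three).mp this
      rcases i with _ | i
      · exact absurd (orderOf_eq_one_iff.mp (by simpa using hi)) h1
      · rw [hi]; exact dvd_pow_self _ (Nat.succ_ne_zero i)
    obtain ⟨⟨y, hy⟩, hyo⟩ := exists_prime_orderOf_dvd_card' 3 hdvd
    rw [Subgroup.orderOf_mk] at hyo
    obtain ⟨m, hm⟩ : y ∈ Submonoid.powers d := by
      rw [mem_powers_iff_mem_zpowers]
      exact (Subgroup.zpowers_le.mpr hh) hy
    simp only at hm
    have : d ^ (m * 3) = 1 := by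
      have h3 : y ^ 3 = 1 := hyo ▸ pow_orderOf_eq_one y
      rwa [← hm, ← pow_mul] at h3
    have hdv := orderOf_dvd_of_pow_eq_one this
    rw [hd, show 3 ^ n = 3 ^ (n - 1) * 3 by rw [← pow_succ, show n - 1 + 1 = n by omega]] at hdv
    obtain ⟨t, ht⟩ := Nat.dvd_of_mul_dvd_mul_right (by norm_num) hdv
    have hyA : y ∈ A := by
      rw [← hm, ht, pow_mul]
      exact Subgroup.npow_mem_zpowers e t
    have heq : Subgroup.zpowers y = A :=
      Subgroup.eq_of_le_of_card_ge (Subgroup.zpowers_le.mpr hyA) (by rw [hAcard, Nat.card_zpowers, hyo])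
    exact (Subgroup.zpowers_le.mpr hy) (heq ▸ Subgroup.mem_zpowers e)
  letI : MulAction B {x : X // x ∈ R ∧ x ∉ W} :=
    { smul := fun h x => ⟨h * x * (h : X)⁻¹, Coprime.conj_mem_of_mem_normalizer (hBR h.2) x.2.1,
        fun hx => x.2.2 (by
          simpa [mul_assoc] using Coprime.conj_mem_of_mem_normalizer' (hBW h.2) hx)⟩
      one_smul := fun x => Subtype.ext (show (1 : X) * x * 1⁻¹ = x by simp)
      mul_smul := fun s t x => Subtype.ext (show ((s : X) * t) * x * ((s : X) * t)⁻¹ =
        (s : X) * ((t : X) * x * (t : X)⁻¹) * (s : X)⁻¹ by group) }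
  have hfree : ∀ (h : B) (x : {x : X // x ∈ R ∧ x ∉ W}), h • x = x → h = 1 := by
    intro h x hx
    by_contra h1
    have hcx : (h : X) * x = x * h := mul_inv_eq_iff_eq_mul.mp (congrArg Subtype.val hx)
    have hxA : (x : X) ∈ R ⊓ Subgroup.centralizer (A : Set X) := by
      refine ⟨x.2.1, fun a ha => ?_⟩
      have : Subgroup.zpowers (h : X) ≤ Subgroup.centralizer {(x : X)} := by
        rw [Subgroup.zpowers_le, Subgroup.mem_centralizer_iff]
        intro w hw
        rw [show w = (x : X) from hw]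
        exact hcx.symm
      have hA' : A ≤ Subgroup.centralizer {(x : X)} := (Subgroup.zpowers_le.mpr
        (heh h h.2 (fun hh => h1 (Subtype.ext hh)))).trans this
      exact ((Subgroup.mem_centralizer_iff.mp (hA' ha)) x rfl).symm
    rw [hfix] at hxA
    exact x.2.2 hxA
  have hdiv := FG72.card_dvd_of_free hfree
  have hΩ : Nat.card {x : X // x ∈ R ∧ x ∉ W} + Nat.card W = Nat.card R := by
    have h1 : Nat.card {x : X // x ∈ R ∧ x ∉ W} = ((R : Set X) \ (W : Set X)).ncard :=
      Nat.card_coe_set_eq _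
    rw [h1, ← SetLike.coe_sort_coe, ← SetLike.coe_sort_coe, Nat.card_coe_set_eq, Nat.card_coe_set_eq]
    exact Set.ncard_sdiff_add_ncard_of_subset hWR
  obtain ⟨k, hk⟩ := IsPGroup.iff_card.mp hR2
  obtain ⟨w, hw⟩ := IsPGroup.iff_card.mp (hR2.to_le hWR)
  have hwk : w ≤ k := by
    have := Subgroup.card_le_of_le hWR
    rw [hw, hk] at this
    exact (Nat.pow_le_pow_iff_right (by norm_num)).mp this
  have hw2 : w ≤ 2 := by
    rw [hw] at hW4
    exact (Nat.pow_le_pow_iff_right (by norm_num)).mp (hW4.trans (by norm_num : 4 ≤ 2 ^ 2))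
  have hwk' : w < k := by
    rcases eq_or_lt_of_le hwk with h | h
    · exfalso
      have heq : W = R := Subgroup.eq_of_le_of_card_ge hWR (by rw [hw, hk, h])
      exact hRnt (by
        rw [Coprime.eq_bot_of_le_commutator R hR2.isNilpotent le_rfl heq.ge,
          Subgroup.commutator_bot_left])
    · exact h
  have hw1 : w ≠ 1 := by
    rintro rfl
    have hdw : ∀ z ∈ W, z * d = d * z := by
      intro z hz
      rcases eq_or_ne z 1 with rfl | hz1
      · simp
      have hz' : d * z * d⁻¹ ∈ W :=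
        Coprime.conj_mem_of_mem_normalizer (hBW (Subgroup.mem_zpowers d)) hz
      have huniq : ∀ u ∈ W, u ≠ 1 → u = z := by
        intro u hu hu1
        obtain ⟨a, b, hab, huniv⟩ := Nat.card_eq_two_iff.mp (hw.trans (pow_one 2))
        have key : ∀ s : W, s = a ∨ s = b := fun s => by
          have : s ∈ ({a, b} : Set W) := huniv ▸ Set.mem_univ s
          simpa using this
        have h1 : (1 : W) ≠ ⟨u, hu⟩ := fun h => hu1 (congrArg Subtype.val h).symm
        have h2 : (1 : W) ≠ ⟨z, hz⟩ := fun h => hz1 (congrArg Subtype.val h).symm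
        have h3 : (⟨u, hu⟩ : W) = ⟨z, hz⟩ := by
          rcases key 1 with e1 | e1 <;> rcases key ⟨u, hu⟩ with e2 | e2 <;>
            rcases key ⟨z, hz⟩ with e3 | e3 <;> simp_all
        exact congrArg Subtype.val h3
      have h4 := huniq _ hz' (fun h => hz1 (by simpa [mul_inv_eq_one] using h))
      exact (mul_inv_eq_iff_eq_mul.mp h4).symm
    have hle : W ≤ P ⊓ Subgroup.centralizer {d} := fun z hz => ⟨hRP (hWR hz), fun y hy => by
      rw [show y = d from hy]; exact (hdw z hz).symm⟩
    rw [hfpf, le_bot_iff] at hle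
    rw [hle, Subgroup.card_bot] at hw
    norm_num at hw
  have hk6 : k ≤ 6 ∧ (w = 0 → k ≤ 2) := by
    have hw02 : w = 0 ∨ w = 2 := by omega
    rcases hw02 with rfl | rfl
    · have hW0 : W = ⊥ := Subgroup.card_eq_one.mp (by simpa using hw)
      have hRc : IsMulCommutative R := ⟨⟨fun a b => Subtype.ext (by
        have := Subgroup.commutator_mem_commutator a.2 b.2
        rw [← hWdef, hW0, Subgroup.mem_bot] at this
        exact commutatorElement_eq_one_iff_mul_comm.mp this)⟩⟩
      have hR4 : Nat.card R ≤ 4 := hrank' R hRP hRc fun x hx => by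
        have := OddLocal43.pow_mem_frattiniOf hR2 hx
        rw [hF, hW0, Subgroup.mem_bot] at this
        exact this
      rw [hk] at hR4
      have := (Nat.pow_le_pow_iff_right (by norm_num : 1 < 2)).mp (hR4.trans (by norm_num : 4 ≤ 2 ^ 2))
      exact ⟨by omega, fun _ => this⟩
    · refine ⟨?_, by omega⟩
      have hWcen : ∀ z ∈ W, ∀ g ∈ R, g * z = z * g := fun z hz g hg =>
        Subgroup.mem_centralizer_iff.mp (Subgroup.commutator_eq_bot_iff_le_centralizer.mp hcl hz) g hg
      refine FG72.card_le_of_central_four (G := R) hk (W.subgroupOf R) (fun z hz => ?_) ?_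
        (fun z hz => Subtype.ext (by simpa using hpow z hz)) (fun x => ?_) (fun x hx => ?_)
      · rw [Subgroup.mem_center_iff]
        intro g
        exact Subtype.ext (hWcen z hz g g.2)
      · rw [Nat.card_congr (Subgroup.subgroupOfEquivOfLe hWR).toEquiv, hw]; norm_num
      · show (x : X) ^ 2 ∈ W
        rw [← hF]
        exact OddLocal43.pow_mem_frattiniOf hR2 x.2
      · exact FG72.mem_of_rank_two P W (hWR.trans hRP) hWc hpow (by rw [hw]; norm_num) hrank'
          (hRP x.2) (by simpa using congrArg Subtype.val hx)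
          (fun z hz => (hWcen z hz x x.2).symm)
  rw [hk, hw] at hΩ
  rw [Nat.card_zpowers, hd] at hdiv
  have h9 : 9 ∣ 2 ^ k - 2 ^ w := by
    rw [show 2 ^ k - 2 ^ w = Nat.card {x : X // x ∈ R ∧ x ∉ W} by omega]
    exact (show (9 : ℕ) = 3 ^ 2 by norm_num) ▸ (pow_dvd_pow 3 hn2).trans hdiv
  have hw02 : w = 0 ∨ w = 2 := by omega
  rcases hw02 with rfl | rfl
  · have := hk6.2 rfl
    interval_cases k <;> norm_num at h9
  · have := hk6.1
    interval_cases k <;> norm_num at h9

end Cfsg.Agent.S3738
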