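import Cfsg.Statements.S3739
import Cfsg.Agent.FG72.QuadraticBound
import Cfsg.Agent.OddLocal43.RankTwo
import Cfsg.Agent.Lib.Thompson.Cores

set_option autoImplicit false
open Cfsg
open scoped commutatorElement

namespace Cfsg.Agent.S3739

/-- Let G be a finite group with C_G(O₂(G)) ≤ O₂(G) containing an element of order 6, and let d be a non-identity 3-element of G normalizing a nontrivial elementary abelian 2-subgroup W with C_W(d) = 1. Then G has an elementary abelian subgroup of order 8. -/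
theorem result {G : Type*} [Group G] [Finite G] (hchar : Subgroup.centralizer (Cfsg.pCore 2 G : Set G) ≤ Cfsg.pCore 2 G) (hsix : ∃ g : G, orderOf g = 6) (d : G) (hd1 : d ≠ 1) (hd : IsPGroup 3 ↥(Subgroup.zpowers d)) (W : Subgroup G) (hW : Cfsg.IsElementaryAbelian 2 W) (hW1 : W ≠ ⊥) (hdW : d ∈ Subgroup.normalizer (W : Set G)) (hfpf : W ⊓ Subgroup.centralizer {d} = ⊥) : ∃ E : Subgroup G, Cfsg.IsElementaryAbelian 2 E ∧ Nat.card E = 8 := by
  classical
  letI : Fintype G := Fintype.ofFinite G
  by_contra hno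
  haveI : Fact (Nat.Prime 2) := ⟨Nat.prime_two⟩
  haveI : Fact (Nat.Prime 3) := ⟨Nat.prime_three⟩
  have hrank : ∀ V : Subgroup G, IsMulCommutative V → (∀ a ∈ V, a ^ 2 = 1) → Nat.card V ≤ 4 := by
    intro V hVc hV2
    by_contra hV
    have hV' : IsPGroup 2 V := fun a => ⟨1, Subtype.ext (by simpa using hV2 a a.2)⟩
    obtain ⟨k, hk⟩ := IsPGroup.iff_card.mp hV'
    have hk3 : 3 ≤ k := by
      by_contra hk3
      exact hV (hk ▸ (Nat.pow_le_pow_right (by norm_num) (by omega : k ≤ 2)))
    obtain ⟨H, hH⟩ := Sylow.exists_subgroup_card_pow_prime (p := 2) (G := V) (n := 3)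
      (hk ▸ pow_dvd_pow 2 hk3)
    refine hno ⟨H.map V.subtype, ⟨⟨⟨?_⟩⟩, ?_⟩, ?_⟩
    · rintro ⟨_, a, -, rfl⟩ ⟨_, b, -, rfl⟩
      have hab : (a : G) * b = b * a := congrArg Subtype.val (mul_comm' a b)
      exact Subtype.ext hab
    · rintro _ ⟨a, -, rfl⟩
      exact hV2 a a.2
    · rw [Subgroup.card_map_of_injective V.subtype_injective, hH]; norm_num
  have hdodd : ∃ j, orderOf d = 3 ^ j := by
    obtain ⟨j, hj⟩ := IsPGroup.iff_card.mp hd
    exact ⟨j, by rw [← Nat.card_zpowers]; exact hj⟩
  have hdsq : d ∈ Subgroup.zpowers (d ^ 2) := by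
    obtain ⟨j, hj⟩ := hdodd
    have hodd : Odd (orderOf d) := hj ▸ (by decide : Odd 3).pow
    obtain ⟨t, ht⟩ := hodd
    refine ⟨(t + 1 : ℕ), ?_⟩
    show (d ^ 2) ^ ((t + 1 : ℕ) : ℤ) = d
    rw [zpow_natCast, ← pow_mul, show 2 * (t + 1) = orderOf d + 1 by omega, pow_succ,
      pow_orderOf_eq_one, one_mul]
  -- subgroups of `W` invariant under `d` have order one or four
  have hWfix : ∀ z ∈ W, d * z * d⁻¹ = z → z = 1 := by
    intro z hz h
    have : z ∈ W ⊓ Subgroup.centralizer {d} := ⟨hz, fun y hy => by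
      rw [show y = d from hy]; exact mul_inv_eq_iff_eq_mul.mp h⟩
    rwa [hfpf, Subgroup.mem_bot] at this
  have hYW : ∀ Y : Subgroup G, Y ≤ W → d ∈ Subgroup.normalizer (Y : Set G) → Y ≠ ⊥ →
      Nat.card Y = 4 := by
    intro Y hY hdY hY0
    haveI := hW.1
    have hle : Nat.card Y ≤ 4 := hrank Y
      ⟨⟨fun a b => Subtype.ext (show (a : G) * b = b * a from congrArg Subtype.val (mul_comm' (⟨(a : G), hY a.2⟩ : W) ⟨b, hY b.2⟩))⟩⟩
      fun a ha => hW.2 a (hY ha)
    have hY2 : IsPGroup 2 Y := fun a => ⟨1, Subtype.ext (by simpa using hW.2 a (hY a.2))⟩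
    obtain ⟨k, hk⟩ := IsPGroup.iff_card.mp hY2
    have h1 : 1 < Nat.card Y := (Subgroup.one_lt_card_iff_ne_bot Y).mpr hY0
    have hk1 : k ≠ 1 := by
      rintro rfl
      obtain ⟨⟨z, hz⟩, hz1⟩ := (Subgroup.ne_bot_iff_exists_ne_one (H := Y)).mp hY0
      apply hz1
      have hdz : d * z * d⁻¹ ∈ Y := Coprime.conj_mem_of_mem_normalizer hdY hz
      obtain ⟨a, b, hab, huniv⟩ := Nat.card_eq_two_iff.mp (hk.trans (pow_one 2))
      have key : ∀ s : Y, s = a ∨ s = b := fun s => by
        have : s ∈ ({a, b} : Set Y) := huniv ▸ Set.mem_univ s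
        simpa using this
      have h2 : (1 : Y) ≠ ⟨z, hz⟩ := fun h => hz1 h.symm
      have h3 : (1 : Y) ≠ ⟨d * z * d⁻¹, hdz⟩ := fun h => hz1 (Subtype.ext (by
        simpa [mul_inv_eq_one] using (congrArg Subtype.val h).symm))
      have h4 : (⟨d * z * d⁻¹, hdz⟩ : Y) = ⟨z, hz⟩ := by
        rcases key 1 with e1 | e1 <;> rcases key ⟨d * z * d⁻¹, hdz⟩ with e2 | e2 <;>
          rcases key ⟨z, hz⟩ with e3 | e3 <;> simp_all
      exact Subtype.ext (hWfix z (hY hz) (congrArg Subtype.val h4))
    rw [hk] at hle h1 ⊢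
    have hk2 : k ≤ 2 := (Nat.pow_le_pow_iff_right (by norm_num)).mp (hle.trans (by norm_num : 4 ≤ 2 ^ 2))
    interval_cases k <;> simp_all
  have hW4 : Nat.card W = 4 := hYW W le_rfl hdW hW1
  have hsub : ∀ Y : Subgroup G, Y ≤ W → d ∈ Subgroup.normalizer (Y : Set G) → Y ≠ ⊥ → Y = W :=
    fun Y h1 h2 h3 => Subgroup.eq_of_le_of_card_ge h1 (by rw [hYW Y h1 h2 h3, hW4])
  have hinvmem : ∀ {x : G}, x ^ 2 = 1 → (∀ w ∈ W, w * x = x * w) → x ∈ W := fun hx hc =>
    FG72.mem_of_rank_two ⊤ W le_top hW.1 hW.2 hW4 (fun V _ => hrank V) (Subgroup.mem_top _) hx hc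
  -- `Q = O₂(G)`, `R = QW`, and `W` is central in `R`
  set Q := Cfsg.pCore 2 G with hQdef
  have hQp : IsPGroup 2 Q := Thompson.isPGroup_pCore
  have hWp : IsPGroup 2 W := fun a => ⟨1, Subtype.ext (by simpa using hW.2 a a.2)⟩
  haveI hQn : Q.Normal := Thompson.instPCoreNormal
  set R := Q ⊔ W with hRdef
  have hRp : IsPGroup 2 R := hQp.to_sup_of_normal_left hWp
  have hdQ : d ∈ Subgroup.normalizer (Q : Set G) := by
    rw [Subgroup.normalizer_eq_top]; trivial
  have hdR : d ∈ Subgroup.normalizer (R : Set G) :=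
    Coprime.le_normalizer_sup (A := Subgroup.zpowers d) (Subgroup.zpowers_le.mpr hdQ)
      (Subgroup.zpowers_le.mpr hdW) (Subgroup.mem_zpowers d)
  set ZR := R ⊓ Subgroup.centralizer (R : Set G) with hZR
  have hZRc : ∀ z ∈ ZR, ∀ r ∈ R, r * z = z * r := fun z hz r hr =>
    Subgroup.mem_centralizer_iff.mp hz.2 r hr
  let Z0 : Subgroup G :=
    { carrier := {z | z ∈ ZR ∧ z ^ 2 = 1}
      one_mem' := ⟨one_mem _, one_pow _⟩
      mul_mem' := fun {a b} ha hb => ⟨mul_mem ha.1 hb.1, by
        have hc : Commute a b := hZRc b hb.1 a ha.1.1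
        rw [hc.mul_pow, ha.2, hb.2, one_mul]⟩
      inv_mem' := fun {a} ha => ⟨inv_mem ha.1, by rw [inv_pow, ha.2, inv_one]⟩ }
  have hZ0W : Z0 ≤ W := fun z hz =>
    hinvmem hz.2 fun w hw => hZRc z hz.1 w (Subgroup.mem_sup_right hw)
  have hdZ0 : d ∈ Subgroup.normalizer (Z0 : Set G) := by
    refine Coprime.le_normalizer_of_conj_mem (A := Subgroup.zpowers d) (fun a ha z hz => ?_)
      (Subgroup.mem_zpowers d)
    have hnR := Coprime.le_normalizer_inf (A := Subgroup.zpowers d) (Subgroup.zpowers_le.mpr hdR)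
      (Coprime.le_normalizer_centralizer (Subgroup.zpowers_le.mpr hdR))
    exact ⟨Coprime.conj_mem_of_mem_normalizer (hnR ha) hz.1, by rw [conj_pow, hz.2, mul_one, mul_inv_cancel]⟩
  have hZ00 : Z0 ≠ ⊥ := by
    have hR0 : R ≠ ⊥ := fun h => hW1 (le_bot_iff.mp (h ▸ le_sup_right))
    haveI : Nontrivial R := (Subgroup.nontrivial_iff_ne_bot R).mpr hR0
    obtain ⟨⟨z, hz⟩, hzo⟩ := exists_prime_orderOf_dvd_card' 2 (PGroup.dvd_card_center hRp)
    intro h
    have hmem : (z : G) ∈ Z0 := by
      refine ⟨⟨z.2, fun r hr => congrArg Subtype.val (Subgroup.mem_center_iff.mp hz ⟨r, hr⟩)⟩, ?_⟩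
      have := pow_orderOf_eq_one (⟨z, hz⟩ : Subgroup.center R)
      rw [hzo] at this
      exact congrArg (fun u : Subgroup.center R => ((u : R) : G)) this
    rw [h, Subgroup.mem_bot] at hmem
    rw [show (⟨z, hz⟩ : Subgroup.center R) = 1 from Subtype.ext (Subtype.ext hmem), orderOf_one] at hzo
    norm_num at hzo
  have hWZ : W ≤ ZR := by
    have := hsub Z0 hZ0W hdZ0 hZ00
    exact fun w hw => (this.ge hw).1
  have hWQ : ∀ q ∈ Q, ∀ w ∈ W, q * w = w * q := fun q hq w hw =>
    hZRc w (hWZ hw) q (Subgroup.mem_sup_left hq)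
  have hQinv : ∀ x ∈ Q, x ^ 2 = 1 → x ∈ W := fun x hx hx2 =>
    hinvmem hx2 fun w hw => (hWQ x hx w hw).symm
  have hQ0 : Q ≠ ⊥ := by
    intro h
    have hsub1 : Subgroup.centralizer (Q : Set G) ≤ Q := hchar
    rw [h] at hsub1
    have : d ∈ (⊥ : Subgroup G) := hsub1 (by
      show d ∈ Subgroup.centralizer (((⊥ : Subgroup G)) : Set G)
      rw [Subgroup.mem_centralizer_iff]
      intro y hy
      simp [Subgroup.mem_bot.mp hy])
    exact hd1 (Subgroup.mem_bot.mp this)
  have hWleQ : W ≤ Q := by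
    have h := hsub (Q ⊓ W) inf_le_right
      (Coprime.le_normalizer_inf (A := Subgroup.zpowers d) (Subgroup.zpowers_le.mpr hdQ)
        (Subgroup.zpowers_le.mpr hdW) (Subgroup.mem_zpowers d)) (by
      obtain ⟨k, hk⟩ := IsPGroup.iff_card.mp hQp
      have h2 : 2 ∣ Nat.card Q := by
        rw [hk]
        refine dvd_pow_self _ ?_
        rintro rfl
        exact hQ0 (Subgroup.card_eq_one.mp (by simpa using hk))
      obtain ⟨x, hxo⟩ := exists_prime_orderOf_dvd_card' 2 h2
      intro hbot
      have hx2 : (x : G) ^ 2 = 1 := by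
        have := pow_orderOf_eq_one x
        rw [hxo] at this
        exact congrArg Subtype.val this
      have hxm : (x : G) ∈ Q ⊓ W := ⟨x.2, hQinv x x.2 hx2⟩
      rw [hbot, Subgroup.mem_bot] at hxm
      rw [show x = 1 from Subtype.ext hxm, orderOf_one] at hxo
      norm_num at hxo)
    exact inf_eq_right.mp h
  have hWn : ∀ g : G, ∀ w ∈ W, g * w * g⁻¹ ∈ W := fun g w hw =>
    hQinv _ (hQn.conj_mem w (hWleQ hw) g) (by rw [conj_pow, hW.2 w hw, mul_one, mul_inv_cancel])
  -- the element of order three `e`, commuting with an involution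
  obtain ⟨g, hg⟩ := hsix
  set t := g ^ 3 with htdef
  set e := g ^ 2 with hedef
  have ht : orderOf t = 2 := by
    rw [htdef, orderOf_pow_of_dvd (by norm_num) (by rw [hg]; norm_num), hg]
  have he : orderOf e = 3 := by
    rw [hedef, orderOf_pow_of_dvd (by norm_num) (by rw [hg]; norm_num), hg]
  have hte : Commute t e := Commute.pow_pow_self g 3 2
  have ht2 : t ^ 2 = 1 := ht ▸ pow_orderOf_eq_one t
  have he3 : e ^ 3 = 1 := he ▸ pow_orderOf_eq_one e
  have heW : ∀ w ∈ W, e * w = w * e := by
    by_contra hmove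
    push Not at hmove
    obtain ⟨w0, hw0, hw0e⟩ := hmove
    have hefree : ∀ w ∈ W, e * w * e⁻¹ = w → w = 1 := by
      intro w hw hfixw
      by_contra hw1
      apply hw0e
      by_cases h1 : w0 = 1
      · simp [h1]
      by_cases h2 : w0 = w
      · rw [h2]; exact mul_inv_eq_iff_eq_mul.mp hfixw
      let a := e * w0 * e⁻¹
      haveI := hW.1
      have hcardW : (Finset.univ.filter (· ∈ W) : Finset G).card = 4 := by
        rw [← Fintype.card_subtype, ← Nat.card_eq_fintype_card]; exact hW4
      have hall : ∀ u ∈ W, u = 1 ∨ u = w ∨ u = w0 ∨ u = w * w0 := by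
        intro u hu
        have hsubset : ({1, w, w0, w * w0} : Finset G) ⊆ Finset.univ.filter (· ∈ W) := by
          intro y hy
          simp only [Finset.mem_insert, Finset.mem_singleton] at hy
          rcases hy with rfl | rfl | rfl | rfl <;> simp [hw, hw0, one_mem, mul_mem]
        have hne1 : w * w0 ≠ 1 := by
          intro h
          apply h2
          have := hW.2 w hw
          rw [pow_two] at this
          exact mul_left_cancel (h.trans this.symm)
        have hc4 : ({1, w, w0, w * w0} : Finset G).card = 4 := by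
          rw [Finset.card_insert_of_notMem (by simp [Ne.symm hw1, Ne.symm h1, Ne.symm hne1]),
            Finset.card_insert_of_notMem (by simp [Ne.symm h2, h1]),
            Finset.card_insert_of_notMem (by simp [hw1]), Finset.card_singleton]
        have heq := Finset.eq_of_subset_of_card_le hsubset (by rw [hcardW, hc4])
        have : u ∈ ({1, w, w0, w * w0} : Finset G) := heq ▸ (by simp [hu])
        simpa using this
      have hew : e * w = w * e := mul_inv_eq_iff_eq_mul.mp hfixw
      rcases hall a (hWn e w0 hw0) with h | h | h | h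
      · exact absurd (conj_eq_one_iff.mp h) h1
      · exfalso
        apply h2
        calc w0 = e⁻¹ * a * e := by simp [a, mul_assoc]
          _ = e⁻¹ * (e * w) := by rw [h, mul_assoc e⁻¹ w e, hew]
          _ = w := by simp
      · exact mul_inv_eq_iff_eq_mul.mp h
      · exfalso
        have e3 : e ^ 3 * w0 * (e ^ 3)⁻¹ = w * w0 := by
          have h' : e * w0 * e⁻¹ = w * w0 := h
          calc e ^ 3 * w0 * (e ^ 3)⁻¹ = e * (e * (e * w0 * e⁻¹) * e⁻¹) * e⁻¹ := by simp [pow_succ, mul_assoc]
            _ = e * ((e * w * e⁻¹) * (e * w0 * e⁻¹)) * e⁻¹ := by rw [show e * (e * w0 * e⁻¹) * e⁻¹ = e * (w * w0) * e⁻¹ by rw [h']]; simp [mul_assoc]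
            _ = e * (w * (w * w0)) * e⁻¹ := by rw [hfixw, h']
            _ = w * w0 := by
              have hww : w * (w * w0) = w0 := by
                rw [← mul_assoc, ← pow_two, hW.2 w hw, one_mul]
              rw [hww, h']
        rw [he3] at e3
        simp at e3
        exact hw1 e3
    -- the involution `t` then centralises `W`
    by_cases htW : ∀ w ∈ W, t * w = w * t
    · have htmem : t ∈ W := hinvmem ht2 fun w hw => (htW w hw).symm
      have := hefree t htmem (mul_inv_eq_iff_eq_mul.mpr hte.eq.symm)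
      rw [this, orderOf_one] at ht
      norm_num at ht
    · push Not at htW
      obtain ⟨w1, hw1, hne⟩ := htW
      -- the product `w1 · t w1 t⁻¹` is fixed by `t`
      haveI := hW.1
      set v := w1 * (t * w1 * t⁻¹) with hvdef
      have htw : t * w1 * t⁻¹ ∈ W := hWn t w1 hw1
      have hv : v ∈ W := mul_mem hw1 htw
      have hv1 : v ≠ 1 := by
        intro h
        apply hne
        have h2 := hW.2 w1 hw1
        rw [pow_two] at h2
        exact mul_inv_eq_iff_eq_mul.mp (mul_left_cancel (h.trans h2.symm))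
      have hvt : t * v * t⁻¹ = v := by
        have hc : w1 * (t * w1 * t⁻¹) = (t * w1 * t⁻¹) * w1 :=
          congrArg Subtype.val (mul_comm' (⟨w1, hw1⟩ : W) ⟨_, htw⟩)
        calc t * v * t⁻¹ = (t * w1 * t⁻¹) * (t ^ 2 * w1 * (t ^ 2)⁻¹) := by rw [hvdef]; group
          _ = v := by rw [ht2, hvdef, hc]; group
      -- hence also `e v e⁻¹` is fixed by `t`, and `t` fixes all of `W`
      have hev : t * (e * v * e⁻¹) * t⁻¹ = e * v * e⁻¹ := by
        calc t * (e * v * e⁻¹) * t⁻¹ = (t * e) * v * (t * e)⁻¹ := by group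
          _ = (e * t) * v * (e * t)⁻¹ := by rw [hte.eq]
          _ = e * (t * v * t⁻¹) * e⁻¹ := by group
          _ = e * v * e⁻¹ := by rw [hvt]
      let F : Subgroup G := W ⊓ Subgroup.centralizer {t}
      have hmemF : ∀ u ∈ W, t * u * t⁻¹ = u → u ∈ F := fun u hu h =>
        ⟨hu, fun y hy => by rw [show y = t from hy]; exact mul_inv_eq_iff_eq_mul.mp h⟩
      have hF : Nat.card F = 4 := by
        have hle : Nat.card F ≤ 4 := hW4 ▸ Subgroup.card_le_of_le inf_le_left
        have h3 : 3 ≤ Nat.card F := by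
          have hcard : ({1, v, e * v * e⁻¹} : Finset G).card = 3 := by
            have hne2 : e * v * e⁻¹ ≠ v := fun h => hv1 (hefree v hv h)
            have hne1 : e * v * e⁻¹ ≠ 1 := fun h => hv1 (conj_eq_one_iff.mp h)
            rw [Finset.card_insert_of_notMem (by simp [Ne.symm hv1, Ne.symm hne1]),
              Finset.card_insert_of_notMem (by simp [Ne.symm hne2]), Finset.card_singleton]
          rw [← hcard, Nat.card_eq_fintype_card, Fintype.card_subtype]
          refine Finset.card_le_card fun y hy => ?_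
          simp only [Finset.mem_insert, Finset.mem_singleton] at hy
          simp only [Finset.mem_filter, Finset.mem_univ, true_and]
          rcases hy with rfl | rfl | rfl
          · exact one_mem _
          · exact hmemF _ hv hvt
          · exact hmemF _ (hWn e v hv) hev
        have hd' := Subgroup.card_dvd_of_le (inf_le_left : F ≤ W)
        rw [hW4] at hd'
        interval_cases hcase : Nat.card F <;> omega
      have hFW : F = W := Subgroup.eq_of_le_of_card_ge inf_le_left (by rw [hF, hW4])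
      exact hne ((Subgroup.mem_centralizer_iff.mp (hFW.ge hw1).2) t rfl)
  set A := Subgroup.zpowers e with hAdef
  have hAcard : Nat.card A = 3 := by rw [Nat.card_zpowers, he]
  have hAW : W ≤ Subgroup.centralizer (A : Set G) := by
    refine Subgroup.le_centralizer_iff.mp (Subgroup.zpowers_le.mpr ?_)
    rw [Subgroup.mem_centralizer_iff]
    exact fun w hw => (heW w hw).symm
  obtain ⟨C, hCQ, hNC, hCC, hCself⟩ := OddLocal43.exists_class_two_self_centralizing_in hQp
  have hCn : ∀ a : G, a ∈ Subgroup.normalizer (C : Set G) := fun a =>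
    hNC (by rw [Subgroup.normalizer_eq_top]; trivial)
  have hWC : W ≤ C := fun w hw => hCself ⟨hWleQ hw, fun c hc => hWQ c (hCQ hc) w hw⟩
  have hcl : ∀ x ∈ C, ∀ y ∈ C, ∀ c ∈ C, Commute ⁅x, y⁆ c := fun x hx y hy c hc =>
    (Subgroup.mem_centralizer_iff.mp (hCC (Subgroup.commutator_mem_commutator hx hy)) c hc).symm
  have hcommW : ∀ x ∈ C, x ^ 2 ∈ W → ∀ y ∈ C, ⁅x, y⁆ ∈ W := by
    intro x hx hx2 y hy
    refine hQinv _ (hCQ ((Subgroup.commutator_le.mpr fun a ha b hb => ?_ :
      ⁅C, C⁆ ≤ C) (Subgroup.commutator_mem_commutator hx hy))) ?_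
    · exact mul_mem (mul_mem (mul_mem ha hb) (inv_mem ha)) (inv_mem hb)
    · rw [← PGroup.commutatorElement_pow_left (hcl x hx y hy x hx),
        commutatorElement_eq_one_iff_mul_comm]
      exact (hWQ y (hCQ hy) _ hx2).symm
  let U : Subgroup G :=
    { carrier := {x | x ∈ C ∧ x ^ 2 ∈ W}
      one_mem' := ⟨one_mem _, by simp⟩
      mul_mem' := fun {x y} hx hy => ⟨mul_mem hx.1 hy.1, by
        have e1 : (x * y) ^ 2 = x ^ 2 * ⁅x⁻¹, y⁆ * y ^ 2 := by
          simp [commutatorElement_def, pow_two, mul_assoc]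
        rw [e1]
        exact mul_mem (mul_mem hx.2 (hcommW x⁻¹ (inv_mem hx.1)
          (by rw [inv_pow]; exact inv_mem hx.2) y hy.1)) hy.2⟩
      inv_mem' := fun {x} hx => ⟨inv_mem hx.1, by rw [inv_pow]; exact inv_mem hx.2⟩ }
  have hUC : U ≤ C := fun x hx => hx.1
  have hWU : W ≤ U := fun w hw => ⟨hWC hw, by rw [hW.2 w hw]; exact one_mem _⟩
  have hUn : ∀ a : G, ∀ x ∈ U, a * x * a⁻¹ ∈ U := fun a x hx =>
    ⟨Coprime.conj_mem_of_mem_normalizer (hCn a) hx.1, by rw [conj_pow]; exact hWn a _ hx.2⟩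
  have hAU : A ≤ Subgroup.normalizer (U : Set G) :=
    Coprime.le_normalizer_of_conj_mem fun a _ x hx => hUn a x hx
  have hUp : IsPGroup 2 U := hQp.to_le (hUC.trans hCQ)
  have hcopU : (Nat.card A).Coprime (Nat.card U) := by
    obtain ⟨j, hj⟩ := IsPGroup.iff_card.mp hUp
    rw [hAcard, hj]
    exact Nat.Coprime.pow_right j (by norm_num)
  -- `e` moves some element of `U`
  have hUnt : ⁅U, A⁆ ≠ ⊥ := by
    have hCnt : ⁅C, A⁆ ≠ ⊥ := by
      intro h
      have hcop : (Nat.card A).Coprime (Nat.card Q) := by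
        obtain ⟨j, hj⟩ := IsPGroup.iff_card.mp hQp
        rw [hAcard, hj]
        exact Nat.Coprime.pow_right j (by norm_num)
      have hQA : Q ≤ Subgroup.centralizer (A : Set G) :=
        OddLocal43.le_centralizer_of_self_centralizing hQp.isNilpotent
          (by rw [Subgroup.normalizer_eq_top]; exact le_top) hcop (by
            have hCA : C ≤ Q ⊓ Subgroup.centralizer (A : Set G) :=
              le_inf hCQ (Subgroup.commutator_eq_bot_iff_le_centralizer.mp h)
            exact ((inf_le_inf_left Q (Subgroup.centralizer_le hCA)).trans hCself).trans hCA)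
      have he' : e ∈ Q := hchar (Subgroup.le_centralizer_iff.mp hQA (Subgroup.mem_zpowers e))
      have h1 : orderOf e ∣ Nat.card Q := Subgroup.orderOf_dvd_natCard Q he'
      obtain ⟨j, hj⟩ := IsPGroup.iff_card.mp hQp
      rw [he, hj] at h1
      exact absurd ((Nat.prime_dvd_prime_iff_eq Nat.prime_three Nat.prime_two).mp
        (Nat.prime_three.dvd_of_dvd_pow h1)) (by norm_num)
    obtain ⟨R0, hR0⟩ := exists_minimal_of_wellFoundedLT
      (fun S : Subgroup G => S ≤ C ∧ A ≤ Subgroup.normalizer (S : Set G) ∧ ⁅S, A⁆ ≠ ⊥)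
      ⟨C, le_rfl, fun a _ => hCn a, hCnt⟩
    obtain ⟨hRC, hAR, hRnt⟩ := hR0.1
    obtain ⟨-, hF, hfix, -, hpow⟩ := FG72.minimal_action A A R0 (hQp.to_le (hRC.trans hCQ)) hAR
      le_rfl Subgroup.le_normalizer (by rw [hAcard]; norm_num) hRnt (fun S hS hAS => by
        by_contra hS'
        exact hS.not_ge (hR0.2 ⟨hS.le.trans hRC, hAS, hS'⟩ hS.le))
    intro h
    apply hRnt
    rw [eq_bot_iff, ← h]
    refine Subgroup.commutator_mono (fun x hx => ⟨hRC hx, ?_⟩) le_rfl
    have hx2 : x ^ 2 ∈ ⁅R0, R0⁆ := hF ▸ OddLocal43.pow_mem_frattiniOf (hQp.to_le (hRC.trans hCQ)) hx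
    have hR0R0 : ⁅R0, R0⁆ ≤ R0 := hfix ▸ inf_le_left
    exact hQinv _ (hCQ (hRC (hR0R0 hx2))) (hpow _ hx2)
  obtain ⟨k, hk⟩ := IsPGroup.iff_card.mp hUp
  have hUinv : ∀ x ∈ U, x ^ 2 = 1 → x ∈ W := fun x hx h => hQinv x (hCQ (hUC hx)) h
  have hk6 : k ≤ 6 := by
    refine FG72.card_le_of_central_four (G := U) hk (W.subgroupOf U) (fun z hz => ?_) ?_
      (fun z hz => Subtype.ext (by simpa using hW.2 z hz)) (fun x => x.2.2)
      (fun x hx => hUinv x x.2 (by simpa using congrArg Subtype.val hx))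
    · rw [Subgroup.mem_center_iff]
      exact fun y => Subtype.ext (hWQ y (hCQ (hUC y.2)) z hz)
    · rw [Nat.card_congr (Subgroup.subgroupOfEquivOfLe hWU).toEquiv, hW4]
  -- fibres of the squaring map
  let Fz : G → Finset G := fun z => Finset.univ.filter fun x => x ∈ U ∧ x ^ 2 = z
  let SU : Finset G := Finset.univ.filter (· ∈ U)
  have hSUcard : SU.card = 2 ^ k := by
    rw [← hk, Nat.card_eq_fintype_card, Fintype.card_subtype]
  let SW : Finset G := Finset.univ.filter (· ∈ W)
  have hSWcard : SW.card = 4 := by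
    rw [← hW4, Nat.card_eq_fintype_card, Fintype.card_subtype]
  have hF1 : (Fz 1).card = 4 := by
    rw [← hSWcard]
    congr 1
    ext x
    simp only [Fz, SW, Finset.mem_filter, Finset.mem_univ, true_and]
    exact ⟨fun h => hUinv x h.1 h.2, fun h => ⟨hWU h, hW.2 x h⟩⟩
  have hsumF : 2 ^ k = ∑ z ∈ SW, (Fz z).card := by
    rw [← hSUcard, Finset.card_eq_sum_card_fiberwise (f := fun x : G => x ^ 2) (t := SW)
      (fun x hx => by simp [SU] at hx; simp [SW, hx.2])]
    refine Finset.sum_congr rfl fun z _ => ?_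
    congr 1
    ext x
    simp [SU, Fz]
  have heq : ∀ z ∈ W, z ≠ 1 → ∀ a : G, (Fz (a * z * a⁻¹)).card = (Fz z).card := by
    intro z _ _ a
    refine (Finset.card_equiv (MulAut.conj a).toEquiv fun x => ?_).symm
    simp only [Fz, Finset.mem_filter, Finset.mem_univ, true_and, MulEquiv.toEquiv_eq_coe,
      EquivLike.coe_coe, MulAut.conj_apply, conj_pow]
    constructor
    · rintro ⟨h1, h2⟩; exact ⟨hUn a x h1, by rw [h2]⟩
    · rintro ⟨h1, h2⟩
      refine ⟨?_, by simpa using h2⟩
      simpa [mul_assoc] using hUn a⁻¹ _ h1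
  obtain ⟨⟨z0, hz0⟩, hz0ne⟩ := (Subgroup.ne_bot_iff_exists_ne_one (H := W)).mp hW1
  have hz01 : z0 ≠ 1 := fun h => hz0ne (Subtype.ext h)
  have hall : ∀ u ∈ W, u ≠ 1 → (Fz u).card = (Fz z0).card := by
    intro u hu hu1
    set z1 := d * z0 * d⁻¹ with hz1
    set z2 := d * z1 * d⁻¹ with hz2
    have m1 : z1 ∈ W := hWn d z0 hz0
    have m2 : z2 ∈ W := hWn d z1 m1
    have n1 : z1 ≠ 1 := fun h => hz01 (conj_eq_one_iff.mp h)
    have n2 : z2 ≠ 1 := fun h => n1 (conj_eq_one_iff.mp h)
    have d01 : z1 ≠ z0 := fun h => hz01 (hWfix z0 hz0 h)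
    have d12 : z2 ≠ z1 := fun h => n1 (hWfix z1 m1 h)
    have d02 : z2 ≠ z0 := by
      intro h
      have hc : d ^ 2 ∈ Subgroup.centralizer {z0} := by
        rw [Subgroup.mem_centralizer_iff]
        intro y hy
        rw [show y = z0 from hy]
        refine (mul_inv_eq_iff_eq_mul.mp ?_).symm
        calc d ^ 2 * z0 * (d ^ 2)⁻¹ = z2 := by simp [hz2, hz1, pow_two, mul_assoc]
          _ = z0 := h
      have hdc := (Subgroup.zpowers_le.mpr hc) hdsq
      exact hz01 (hWfix z0 hz0 (mul_inv_eq_iff_eq_mul.mpr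
        ((Subgroup.mem_centralizer_iff.mp hdc) z0 rfl).symm))
    have hset : ({1, z0, z1, z2} : Finset G) = SW := by
      refine Finset.eq_of_subset_of_card_le ?_ ?_
      · intro y hy
        simp only [Finset.mem_insert, Finset.mem_singleton] at hy
        rcases hy with rfl | rfl | rfl | rfl <;> simp [SW, hz0, m1, m2, one_mem]
      · rw [hSWcard, Finset.card_insert_of_notMem (by simp [Ne.symm hz01, Ne.symm n1, Ne.symm n2]),
          Finset.card_insert_of_notMem (by simp [Ne.symm d01, Ne.symm d02]),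
          Finset.card_insert_of_notMem (by simp [Ne.symm d12]), Finset.card_singleton]
    have hmem : u ∈ ({1, z0, z1, z2} : Finset G) := hset ▸ (by simp [SW, hu])
    simp only [Finset.mem_insert, Finset.mem_singleton] at hmem
    rcases hmem with rfl | rfl | rfl | rfl
    · exact absurd rfl hu1
    · rfl
    · exact heq z0 hz0 hz01 d
    · rw [hz2, heq z1 m1 n1 d, hz1, heq z0 hz0 hz01 d]
  have hN : 2 ^ k = 4 + 3 * (Fz z0).card := by
    rw [hsumF, ← Finset.add_sum_erase SW _ (show (1 : G) ∈ SW by simp [SW]), hF1,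
      Finset.sum_congr rfl (fun u hu => by
        simp only [SW, Finset.mem_erase, Finset.mem_filter, Finset.mem_univ, true_and] at hu
        exact hall u hu.2 hu.1),
      Finset.sum_const, Finset.card_erase_of_mem (show (1 : G) ∈ SW by simp [SW]), hSWcard]
    simp
  have hk46 : (k = 4 ∧ (Fz z0).card = 4) ∨ (k = 6 ∧ (Fz z0).card = 20) ∨ k = 2 := by
    have hk2 : 2 ≤ k := by
      have h4 : Nat.card W ≤ Nat.card U := Subgroup.card_le_of_le hWU
      rw [hW4, hk] at h4
      exact (Nat.pow_le_pow_iff_right (by norm_num)).mp (le_trans (by norm_num) h4 : 2 ^ 2 ≤ 2 ^ k)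
    interval_cases k <;> omega
  have hUA : ∀ x ∈ U, e * x = x * e → x ∈ U ⊓ Subgroup.centralizer (A : Set G) := fun x hx hc =>
    ⟨hx, Subgroup.le_centralizer_iff.mp
      (Subgroup.zpowers_le.mpr (show e ∈ Subgroup.centralizer ((Subgroup.zpowers x : Subgroup G) : Set G) by
        rw [Subgroup.mem_centralizer_iff]
        intro y hy
        obtain ⟨i, rfl⟩ := Subgroup.mem_zpowers_iff.mp hy
        exact ((Commute.zpow_right (show Commute e x from hc) i).eq).symm)) (Subgroup.mem_zpowers x)⟩
  rcases hk46 with ⟨hk4, hF4⟩ | ⟨hk6', hF20⟩ | hk2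
  · -- every fibre is a coset of `W`
    apply hUnt
    have hstab : ∀ x ∈ U, x⁻¹ * (e * x * e⁻¹) ∈ W := by
      intro x hx
      by_cases hxW : x ∈ W
      · exact mul_mem (inv_mem hxW) (hWn e x hxW)
      set z := x ^ 2 with hz
      have hz1 : z ≠ 1 := fun h => hxW (hUinv x hx h)
      have hcard : (Fz z).card = 4 := (hall z hx.2 hz1).trans hF4
      have himg : SW.image (x * ·) = Fz z := by
        refine Finset.eq_of_subset_of_card_le ?_ ?_
        · intro y hy
          simp only [SW, Finset.mem_image, Finset.mem_filter, Finset.mem_univ, true_and] at hy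
          obtain ⟨w, hw, rfl⟩ := hy
          simp only [Fz, Finset.mem_filter, Finset.mem_univ, true_and]
          refine ⟨mul_mem hx (hWU hw), ?_⟩
          have hc : Commute x w := hWQ x (hCQ (hUC hx)) w hw
          rw [hc.mul_pow, hW.2 w hw, mul_one]
        · rw [hcard, Finset.card_image_of_injective _ (mul_right_injective x), hSWcard]
      have hmem : e * x * e⁻¹ ∈ Fz z := by
        simp only [Fz, Finset.mem_filter, Finset.mem_univ, true_and]
        refine ⟨hUn e x hx, ?_⟩
        rw [conj_pow, ← hz]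
        exact mul_inv_eq_iff_eq_mul.mpr (heW z hx.2)
      rw [← himg] at hmem
      simp only [SW, Finset.mem_image, Finset.mem_filter, Finset.mem_univ, true_and] at hmem
      obtain ⟨w, hw, hwe⟩ := hmem
      rw [← hwe]; simpa using hw
    have hle : ⁅U, A⁆ ≤ W := by
      rw [Subgroup.commutator_le]
      intro x hx a ha
      obtain ⟨i, rfl⟩ : a ∈ Submonoid.powers e := mem_powers_iff_mem_zpowers.mpr ha
      show ⁅x, e ^ i⁆ ∈ W
      clear ha
      induction i with
      | zero => simp
      | succ i ih =>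
        have e1 : ⁅x, e⁆ = x * (x⁻¹ * (e * x * e⁻¹))⁻¹ * x⁻¹ := by
          simp [commutatorElement_def, mul_assoc]
        rw [pow_succ, commutatorElement_mul_right_eq_mul_conj, mul_assoc ⁅x, e ^ i⁆ (e ^ i), mul_assoc]
        refine mul_mem ih ?_
        rw [e1]
        have := hWn (e ^ i) _ (hWn x _ (inv_mem (hstab x hx)))
        simpa [mul_assoc] using this
    have h2 : ⁅⁅U, A⁆, A⁆ = ⊥ :=
      Subgroup.commutator_eq_bot_iff_le_centralizer.mpr (hle.trans hAW)
    rwa [Coprime.commutator_commutator_eq A U hAU hcopU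
      (Or.inr (Coprime.isSolvable_of_isNilpotent' hUp.isNilpotent))] at h2
  · -- each fibre contains at least eight fixed elements
    apply hUnt
    set CU := U ⊓ Subgroup.centralizer (A : Set G) with hCU
    have hf8 : ∀ u ∈ W, u ≠ 1 → 8 ≤ ((Fz u).filter fun x => e * x = x * e).card := by
      intro u hu hu1
      set f := ((Fz u).filter fun x => e * x = x * e).card
      have h4 : 4 ∣ f := by
        letI : MulAction W {x : G // x ∈ U ∧ x ^ 2 = u ∧ e * x = x * e} :=
          { smul := fun w x => ⟨w * x, mul_mem (hWU w.2) x.2.1, by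
              have hc : Commute (w : G) x := (hWQ x (hCQ (hUC x.2.1)) w w.2).symm
              rw [hc.mul_pow, hW.2 w w.2, one_mul, x.2.2.1], by
              rw [← mul_assoc, heW w w.2, mul_assoc, x.2.2.2, mul_assoc]⟩
            one_smul := fun x => Subtype.ext (one_mul (x : G))
            mul_smul := fun a b x => Subtype.ext (mul_assoc (a : G) b x) }
        have := FG72.card_dvd_of_free (H := W) (Ω := {x : G // x ∈ U ∧ x ^ 2 = u ∧ e * x = x * e})
          (fun w x h => Subtype.ext (mul_eq_right.mp (congrArg Subtype.val h)))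
        rw [hW4, Nat.card_eq_fintype_card, Fintype.card_subtype] at this
        convert this using 2
        ext x; simp [Fz, and_assoc]
      have h3 : f % 3 = 2 := by
        letI : MulAction A {x : G // x ∈ U ∧ x ^ 2 = u} :=
          { smul := fun a x => ⟨a * x * (a : G)⁻¹, hUn a x x.2.1, by
              rw [conj_pow, x.2.2]
              exact mul_inv_eq_iff_eq_mul.mpr (Subgroup.mem_centralizer_iff.mp (hAW hu) a a.2)⟩
            one_smul := fun x => Subtype.ext (show (1 : G) * x * 1⁻¹ = x by simp)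
            mul_smul := fun s t x => Subtype.ext (show ((s : G) * t) * x * ((s : G) * t)⁻¹ =
              (s : G) * ((t : G) * x * (t : G)⁻¹) * (s : G)⁻¹ by group) }
        have hA3 : IsPGroup 3 A := IsPGroup.iff_card.mpr ⟨1, by rw [hAcard]; norm_num⟩
        have hmod := hA3.card_modEq_card_fixedPoints {x : G // x ∈ U ∧ x ^ 2 = u}
        have htot : Nat.card {x : G // x ∈ U ∧ x ^ 2 = u} = 20 := by
          rw [Nat.card_eq_fintype_card, Fintype.card_subtype, ← hF20, ← hall u hu hu1]
        have hfp : Nat.card (MulAction.fixedPoints A {x : G // x ∈ U ∧ x ^ 2 = u}) = f := by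
          have hiff : ∀ x : {x : G // x ∈ U ∧ x ^ 2 = u},
              x ∈ MulAction.fixedPoints A {x : G // x ∈ U ∧ x ^ 2 = u} ↔ e * (x : G) = x * e := by
            intro x
            constructor
            · intro h
              exact mul_inv_eq_iff_eq_mul.mp (congrArg Subtype.val (h ⟨e, Subgroup.mem_zpowers e⟩))
            · intro h a
              exact Subtype.ext (mul_inv_eq_iff_eq_mul.mpr
                (Subgroup.mem_centralizer_iff.mp (hUA x x.2.1 h).2 a a.2))
          rw [Nat.card_congr (Equiv.subtypeEquivRight hiff),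
            Nat.card_congr (Equiv.subtypeSubtypeEquivSubtypeInter
              (fun x : G => x ∈ U ∧ x ^ 2 = u) (fun x : G => e * x = x * e)),
            Nat.card_eq_fintype_card, Fintype.card_subtype]
          congr 1
          ext x; simp [Fz]
        rw [htot, hfp] at hmod
        exact hmod.symm
      omega
    have h28 : 28 ≤ Nat.card CU := by
      have hfix1 : ((Fz 1).filter fun x => e * x = x * e).card = 4 := by
        rw [← hF1, Finset.filter_true_of_mem]
        intro x hx
        simp only [Fz, Finset.mem_filter, Finset.mem_univ, true_and] at hx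
        exact heW x (hUinv x hx.1 hx.2)
      have hge : ∑ z ∈ SW, ((Fz z).filter fun x => e * x = x * e).card ≤ Nat.card CU := by
        rw [← Finset.card_biUnion, Nat.card_eq_fintype_card, Fintype.card_subtype]
        · refine Finset.card_le_card fun x hx => ?_
          simp only [Finset.mem_biUnion, Finset.mem_filter, Fz, Finset.mem_univ, true_and] at hx ⊢
          obtain ⟨z, -, ⟨hxU, -⟩, hxe⟩ := hx
          exact hUA x hxU hxe
        · intro a _ b _ hab
          rw [Function.onFun, Finset.disjoint_left]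
          intro x hxa hxb
          simp only [Fz, Finset.mem_filter, Finset.mem_univ, true_and] at hxa hxb
          exact hab (hxa.1.2.symm.trans hxb.1.2)
      refine le_trans ?_ hge
      rw [← Finset.add_sum_erase SW _ (show (1 : G) ∈ SW by simp [SW]), hfix1]
      have h24 : 24 ≤ ∑ z ∈ SW.erase 1, ((Fz z).filter fun x => e * x = x * e).card := by
        refine le_trans ?_ (Finset.card_nsmul_le_sum (SW.erase 1) _ 8 fun z hz => ?_)
        · rw [Finset.card_erase_of_mem (show (1 : G) ∈ SW by simp [SW]), hSWcard]; simp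
        · simp only [SW, Finset.mem_erase, Finset.mem_filter, Finset.mem_univ, true_and] at hz
          exact hf8 z hz.2 hz.1
      omega
    have hCUdvd : Nat.card CU ∣ 2 ^ 6 := by
      rw [← hk6', ← hk]; exact Subgroup.card_dvd_of_le inf_le_left
    have hmod : 64 % 3 = Nat.card CU % 3 := by
      letI : MulAction A U :=
        { smul := fun a x => ⟨a * x * (a : G)⁻¹, hUn a x x.2⟩
          one_smul := fun x => Subtype.ext (show (1 : G) * x * 1⁻¹ = x by simp)
          mul_smul := fun s t x => Subtype.ext (show ((s : G) * t) * x * ((s : G) * t)⁻¹ =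
            (s : G) * ((t : G) * x * (t : G)⁻¹) * (s : G)⁻¹ by group) }
      have hA3 : IsPGroup 3 A := IsPGroup.iff_card.mpr ⟨1, by rw [hAcard]; norm_num⟩
      have h := hA3.card_modEq_card_fixedPoints U
      have hfp : Nat.card (MulAction.fixedPoints A U) = Nat.card CU := Nat.card_congr
        { toFun := fun x => ⟨(x.1 : G), x.1.2, fun a ha =>
            mul_inv_eq_iff_eq_mul.mp (congrArg Subtype.val (x.2 ⟨a, ha⟩))⟩
          invFun := fun x => ⟨⟨x.1, x.2.1⟩, fun a => Subtype.ext
            (mul_inv_eq_iff_eq_mul.mpr (Subgroup.mem_centralizer_iff.mp x.2.2 a a.2))⟩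
          left_inv := fun _ => rfl
          right_inv := fun _ => rfl }
      rw [hk, hk6', hfp] at h
      simpa [Nat.ModEq] using h
    have hfull : Nat.card CU = 64 := by
      obtain ⟨i, hi, hi'⟩ := (Nat.dvd_prime_pow Nat.prime_two).mp hCUdvd
      rw [hi'] at h28 hmod ⊢
      interval_cases i <;> omega
    have hCUU : CU = U := Subgroup.eq_of_le_of_card_ge inf_le_left (by rw [hfull, hk, hk6']; norm_num)
    exact Subgroup.commutator_eq_bot_iff_le_centralizer.mpr (inf_eq_left.mp hCUU)
  · apply hUnt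
    have hUW : U = W := (Subgroup.eq_of_le_of_card_ge hWU (by rw [hW4, hk, hk2]; norm_num)).symm
    rw [hUW]
    exact Subgroup.commutator_eq_bot_iff_le_centralizer.mpr hAW

end Cfsg.Agent.S3739
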