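import Cfsg.Statements.S3741
-- import your own Cfsg.Agent.* helpers here

set_option autoImplicit false
open Cfsg
open scoped commutatorElement

namespace Cfsg.Agent.S3741

/-- Let A and B be subgroups of a finite p-group with [A, B] ≤ A ∩ B and [A, B] of order at most p. Then |A : C_A(B)| = |B : C_B(A)|. -/
theorem result {G : Type*} [Group G] [Finite G] {p : ℕ} [Fact p.Prime] (hG : IsPGroup p G) (A B : Subgroup G) (hAB : ⁅A, B⁆ ≤ A ⊓ B) (hcard : Nat.card ↥⁅A, B⁆ ≤ p) : (A ⊓ Subgroup.centralizer (B : Set G)).relIndex A = (B ⊓ Subgroup.centralizer (A : Set G)).relIndex B := by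
  classical
  have hp : p.Prime := Fact.out
  have normA : ∀ A B : Subgroup G, ∀ a ∈ A, ∀ z ∈ ⁅A, B⁆, a * z * a⁻¹ ∈ ⁅A, B⁆ := by
    intro A B a ha z hz
    have hle : ⁅A, B⁆ ≤ (⁅A, B⁆).comap (MulAut.conj a).toMonoidHom := by
      rw [Subgroup.commutator_le]
      intro u hu v hv
      rw [Subgroup.mem_comap, MulEquiv.coe_toMonoidHom, MulAut.conj_apply]
      have : a * ⁅u, v⁆ * a⁻¹ = ⁅a * u, v⁆ * ⁅a, v⁆⁻¹ := by
        simp only [commutatorElement_def]; group
      rw [this]
      exact mul_mem (Subgroup.commutator_mem_commutator (mul_mem ha hu) hv)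
        (inv_mem (Subgroup.commutator_mem_commutator ha hv))
    exact hle hz
  have central : ∀ A B : Subgroup G, Nat.card ↥⁅A, B⁆ ≤ p → ∀ a ∈ A, ∀ z ∈ ⁅A, B⁆,
      a * z = z * a := by
    intro A B hc a ha z hz
    letI : MulAction A ↥⁅A, B⁆ :=
      { smul := fun a z => ⟨a * z * (a : G)⁻¹, normA A B a a.2 z z.2⟩
        one_smul := fun z => Subtype.ext (show (1 : G) * z * 1⁻¹ = z by group)
        mul_smul := fun a b z => Subtype.ext (show ((a : G) * b) * z * ((a : G) * b)⁻¹ =
          (a : G) * ((b : G) * z * (b : G)⁻¹) * (a : G)⁻¹ by group) }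
    obtain ⟨k, hk⟩ := IsPGroup.iff_card.mp (hG.to_subgroup ⁅A, B⁆)
    have h1 : k ≤ 1 := (Nat.pow_le_pow_iff_right hp.one_lt).mp (by rw [← hk]; simpa using hc)
    rcases Nat.eq_zero_or_pos k with rfl | hk0
    · rw [pow_zero] at hk
      rw [Subgroup.card_eq_one.mp hk] at hz
      simp [Subgroup.mem_bot.mp hz]
    · obtain rfl : k = 1 := by omega
      rw [pow_one] at hk
      have hmod := (hG.to_subgroup A).card_modEq_card_fixedPoints (↥⁅A, B⁆)
      rw [hk] at hmod
      have hdvd : p ∣ Nat.card (MulAction.fixedPoints A ↥⁅A, B⁆) :=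
        Nat.modEq_zero_iff_dvd.mp (hmod.symm.trans (Nat.modEq_zero_iff_dvd.mpr dvd_rfl))
      have h1mem : (1 : ↥⁅A, B⁆) ∈ MulAction.fixedPoints A ↥⁅A, B⁆ :=
        fun a => Subtype.ext (show (a : G) * 1 * (a : G)⁻¹ = 1 by group)
      haveI : Nonempty (MulAction.fixedPoints A ↥⁅A, B⁆) := ⟨⟨1, h1mem⟩⟩
      have hge : p ≤ Nat.card (MulAction.fixedPoints A ↥⁅A, B⁆) := Nat.le_of_dvd Nat.card_pos hdvd
      have huniv : MulAction.fixedPoints A ↥⁅A, B⁆ = Set.univ := by
        apply Set.eq_of_subset_of_ncard_le (Set.subset_univ _)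
        rw [Set.ncard_univ, hk, ← Nat.card_coe_set_eq]
        exact hge
      have hfix : (⟨z, hz⟩ : ↥⁅A, B⁆) ∈ MulAction.fixedPoints A ↥⁅A, B⁆ := huniv ▸ trivial
      have := congrArg Subtype.val (hfix ⟨a, ha⟩)
      exact mul_inv_eq_iff_eq_mul.mp this
  have count : ∀ A B : Subgroup G, Nat.card ↥⁅A, B⁆ ≤ p →
      p * Nat.card {q : A × B // (q.1 : G) * q.2 = q.2 * q.1} + Nat.card ↥(A ⊓ Subgroup.centralizer (B : Set G)) * Nat.card B
        = p * (Nat.card ↥(A ⊓ Subgroup.centralizer (B : Set G)) * Nat.card B) + Nat.card A * Nat.card B := by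
    intro A B hc
    have hcB : Nat.card ↥⁅B, A⁆ ≤ p := by rwa [Subgroup.commutator_comm]
    let φ : A → (B →* ↥⁅A, B⁆) := fun a =>
      MonoidHom.mk' (fun b => ⟨⁅(a : G), (b : G)⁆, Subgroup.commutator_mem_commutator a.2 b.2⟩) (by
        intro b c
        apply Subtype.ext
        have hz : (b : G) * ⁅(a : G), (c : G)⁆ = ⁅(a : G), (c : G)⁆ * b := by
          refine central B A hcB b b.2 _ ?_
          rw [Subgroup.commutator_comm]
          exact Subgroup.commutator_mem_commutator a.2 c.2
        show ⁅(a : G), (b : G) * c⁆ = ⁅(a : G), (b : G)⁆ * ⁅(a : G), (c : G)⁆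
        have : ⁅(a : G), (b : G) * c⁆ = ⁅(a : G), (b : G)⁆ * ((b : G) * ⁅(a : G), (c : G)⁆ * (b : G)⁻¹) := by
          simp only [commutatorElement_def]; group
        rw [this, hz]; group)
    have hker : ∀ a : A, Nat.card {b : B // (a : G) * b = b * a} = Nat.card (φ a).ker := by
      intro a
      refine Nat.card_congr (Equiv.subtypeEquivRight fun b => ?_)
      rw [MonoidHom.mem_ker, ← Subtype.val_inj]
      exact commutatorElement_eq_one_iff_mul_comm.symm
    let w : A → ℕ := fun a => if (a : G) ∈ Subgroup.centralizer (B : Set G) then p else 1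
    have hfib : ∀ a : A, p * Nat.card {b : B // (a : G) * b = b * a} = w a * Nat.card B := by
      intro a
      rw [hker]
      by_cases ha : (a : G) ∈ Subgroup.centralizer (B : Set G)
      · have : (φ a).ker = ⊤ := by
          rw [eq_top_iff]
          intro b _
          rw [MonoidHom.mem_ker, ← Subtype.val_inj]
          exact commutatorElement_eq_one_iff_mul_comm.mpr
            (Subgroup.mem_centralizer_iff.mp ha b b.2).symm
        simp [this, w, ha, Subgroup.card_top]
      · have hne : (φ a).range ≠ ⊥ := by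
          intro h
          apply ha
          rw [Subgroup.mem_centralizer_iff]
          intro b hb
          have : φ a ⟨b, hb⟩ ∈ (φ a).range := ⟨_, rfl⟩
          rw [h, Subgroup.mem_bot, ← Subtype.val_inj] at this
          exact (commutatorElement_eq_one_iff_mul_comm.mp this).symm
        have hr : Nat.card (φ a).range = p := by
          obtain ⟨k, hk⟩ := IsPGroup.iff_card.mp ((hG.to_subgroup ⁅A, B⁆).to_subgroup (φ a).range)
          have h1 : 1 < Nat.card (φ a).range := (φ a).range.one_lt_card_iff_ne_bot.mpr hne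
          have h2 : Nat.card (φ a).range ≤ p := (Subgroup.card_le_card_group _).trans hc
          have hk1 : k ≤ 1 := (Nat.pow_le_pow_iff_right hp.one_lt).mp (by rw [← hk]; simpa using h2)
          interval_cases k <;> simp_all
        have := (φ a).ker.card_mul_index
        rw [Subgroup.index_ker, hr] at this
        simp [w, ha, ← this, mul_comm]
    letI : Fintype A := Fintype.ofFinite A
    have hN : Nat.card {q : A × B // (q.1 : G) * q.2 = q.2 * q.1} =
        ∑ a : A, Nat.card {b : B // (a : G) * b = b * a} := by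
      rw [← Nat.card_sigma]
      exact Nat.card_congr
        { toFun := fun q => ⟨q.1.1, q.1.2, q.2⟩
          invFun := fun s => ⟨(s.1, s.2.1), s.2.2⟩
          left_inv := fun _ => rfl
          right_inv := fun _ => rfl }
    have hw : (∑ a : A, w a) + Nat.card ↥(A ⊓ Subgroup.centralizer (B : Set G)) =
        p * Nat.card ↥(A ⊓ Subgroup.centralizer (B : Set G)) + Nat.card A := by
      have hcard : Nat.card ↥(A ⊓ Subgroup.centralizer (B : Set G)) =
          (Finset.univ.filter fun a : A => (a : G) ∈ Subgroup.centralizer (B : Set G)).card := by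
        rw [← Fintype.card_subtype, ← Nat.card_eq_fintype_card]
        exact Nat.card_congr
          { toFun := fun x => ⟨⟨x.1, x.2.1⟩, x.2.2⟩
            invFun := fun x => ⟨x.1.1, x.1.2, x.2⟩
            left_inv := fun _ => rfl
            right_inv := fun _ => rfl }
      rw [hcard, Finset.sum_ite, Finset.sum_const, Finset.sum_const, Nat.card_eq_fintype_card]
      simp only [smul_eq_mul, mul_one, mul_comm p]
      have := Finset.card_filter_add_card_filter_not (s := (Finset.univ : Finset A))
        (fun a : A => (a : G) ∈ Subgroup.centralizer (B : Set G))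
      simp only [Finset.card_univ] at this
      omega
    rw [hN, Finset.mul_sum]
    simp only [hfib, ← Finset.sum_mul]
    have := congrArg (· * Nat.card B) hw
    simp only [add_mul, mul_assoc] at this
    linarith
  have e1 := count A B hcard
  have e2 := count B A (by rwa [Subgroup.commutator_comm])
  have eN : Nat.card {q : A × B // (q.1 : G) * q.2 = q.2 * q.1} =
      Nat.card {q : B × A // (q.1 : G) * q.2 = q.2 * q.1} :=
    Nat.card_congr ((Equiv.prodComm A B).subtypeEquiv fun q => ⟨Eq.symm, Eq.symm⟩)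
  rw [eN] at e1
  set c := Nat.card ↥(A ⊓ Subgroup.centralizer (B : Set G)) with hc
  set d := Nat.card ↥(B ⊓ Subgroup.centralizer (A : Set G)) with hd
  have h3 : (p - 1) * (c * Nat.card B) = (p - 1) * (d * Nat.card A) := by
    rw [Nat.sub_mul, Nat.sub_mul, one_mul, one_mul]
    have := Nat.le_mul_of_pos_left (c * Nat.card B) hp.pos
    have := Nat.le_mul_of_pos_left (d * Nat.card A) hp.pos
    have : Nat.card A * Nat.card B = Nat.card B * Nat.card A := mul_comm _ _
    omega
  have h4 : c * Nat.card B = d * Nat.card A :=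
    Nat.eq_of_mul_eq_mul_left (by have := hp.two_le; omega) h3
  have rel : ∀ H K : Subgroup G, H ≤ K → H.relIndex K * Nat.card H = Nat.card K := by
    intro H K h
    have := Subgroup.relIndex_mul_relIndex (⊥ : Subgroup G) H K bot_le h
    rw [Subgroup.relIndex_bot_left, Subgroup.relIndex_bot_left] at this
    rw [mul_comm]; exact this
  have iA := rel (A ⊓ Subgroup.centralizer (B : Set G)) A inf_le_left
  have iB := rel (B ⊓ Subgroup.centralizer (A : Set G)) B inf_le_left
  rw [← hc] at iA
  rw [← hd] at iB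
  rw [← iA, ← iB] at h4
  have hc0 : 0 < c := Nat.card_pos
  have hd0 : 0 < d := Nat.card_pos
  exact (Nat.eq_of_mul_eq_mul_left (Nat.mul_pos hc0 hd0) (by linarith)).symm

end Cfsg.Agent.S3741
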