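import Cfsg.Statements.S3743
import Cfsg.Agent.Lib.Components.GenFitting
import Cfsg.Agent.BGSigma.PiCore

set_option autoImplicit false
open Cfsg

namespace Cfsg.Agent.S3743

/-- In a finite group G, every subnormal nilpotent subgroup lies in the Fitting subgroup F(G), and, for a set of primes π, every subnormal subgroup all of whose prime divisors lie in π lies in O_π(G). -/
theorem result {G : Type*} [Group G] [Finite G] (A : Subgroup G) (hA : A.IsSubnormal) : (Group.IsNilpotent A → A ≤ Cfsg.fittingSubgroup G) ∧ ∀ π : Set ℕ, (∀ p : ℕ, p.Prime → p ∣ Nat.card A → p ∈ π) → A ≤ Cfsg.piCore π G := by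
  refine ⟨fun h => Components.le_fitting_of_isSubnormal hA h, fun π hπ => ?_⟩
  have key : ∀ H : Subgroup G, H.IsSubnormal → BGSigma.IsPiSub π H → H ≤ piCore π G := by
    intro H hH hp
    suffices h : piCoreOf π H ≤ piCore π G by
      refine le_trans ?_ h
      exact BGSigma.le_piCoreOf le_rfl Subgroup.le_normalizer hp
    clear hp
    induction hH with
    | top =>
      refine BGSigma.le_piCore ?_ (BGSigma.isPiSub_piCoreOf _)
      rw [← Subgroup.normalizer_eq_top_iff, eq_top_iff]
      exact le_trans (le_of_eq (Subgroup.normalizer_eq_top (⊤ : Subgroup G)).symm)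
        (BGSigma.piCoreOf_normalized ⊤)
    | step H K h_le _ hN ih =>
      exact (BGSigma.le_piCoreOf ((BGSigma.piCoreOf_le H).trans h_le)
        ((Subgroup.normal_subgroupOf_iff_le_normalizer h_le).mp hN |>.trans
          (BGSigma.piCoreOf_normalized H)) (BGSigma.isPiSub_piCoreOf H)).trans ih
  exact key A hA hπ

end Cfsg.Agent.S3743
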