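import Cfsg.Statements.S3749
import Cfsg.Agent.Lib.Coprime.Action
import Cfsg.Agent.Lib.Thompson.Cores

set_option autoImplicit false
open Cfsg

namespace Cfsg.Agent.S3749

/-- Call a proper subgroup M of G primitive when M = N_G(N) for every non-trivial normal subgroup N of M. Let M be a primitive subgroup of the finite group G, p a prime with O_p(M) ≠ 1, and N a normal subgroup of G with M ∩ N = 1. Then p does not divide the order of N; for every prime q there is exactly one Sylow q-subgroup of N normalized by M; and if the order of N has at least two prime divisors then M is not a maximal subgroup of G. -/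
theorem result {G : Type*} [Group G] [Finite G] (M : Subgroup G) (hM : M ≠ ⊤) (hprim : ∀ N : Subgroup G, N ≤ M → M ≤ Subgroup.normalizer (N : Set G) → N ≠ ⊥ → Subgroup.normalizer (N : Set G) = M) {p : ℕ} [Fact p.Prime] (hOp : Cfsg.pCore p ↥M ≠ ⊥) (N : Subgroup G) [N.Normal] (hMN : M ⊓ N = ⊥) : ¬ p ∣ Nat.card N ∧ (∀ q : ℕ, [Fact q.Prime] → ∃! Q : Sylow q ↥N, M ≤ Subgroup.normalizer ((Q : Subgroup ↥N).map N.subtype : Set G)) ∧ ((∃ q r : ℕ, q.Prime ∧ r.Prime ∧ q ≠ r ∧ q ∣ Nat.card N ∧ r ∣ Nat.card N) → ¬ IsCoatom M) := by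
  classical
  haveI : (Cfsg.pCore p ↥M).Normal := Thompson.instPCoreNormal
  set T : Subgroup G := (Cfsg.pCore p ↥M).map M.subtype with hT
  have hTM : T ≤ M := Subgroup.map_subtype_le _
  have hMT : M ≤ Subgroup.normalizer (T : Set G) :=
    Coprime.le_normalizer_of_conj_mem fun a ha x hx => by
      obtain ⟨y, hy, rfl⟩ := hx
      exact ⟨⟨a, ha⟩ * y * ⟨a, ha⟩⁻¹, Thompson.instPCoreNormal.conj_mem y hy _, rfl⟩
  have hT1 : T ≠ ⊥ := by
    rw [hT, Ne, Subgroup.map_eq_bot_iff_of_injective _ M.subtype_injective]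
    exact hOp
  have hTp : IsPGroup p T := Thompson.isPGroup_pCore.map _
  have hNT := hprim T hTM hMT hT1
  have hTN : T ≤ Subgroup.normalizer (N : Set G) := by
    rw [Subgroup.normalizer_eq_top]; exact le_top
  have hfix : N ⊓ Subgroup.centralizer (T : Set G) = ⊥ := by
    rw [eq_bot_iff, ← hMN]
    exact le_inf (inf_le_right.trans
      ((Subgroup.centralizer_le_normalizer (T : Set G)).trans hNT.le)) inf_le_left
  have hp : p.Prime := Fact.out
  have hndvd : ¬ p ∣ Nat.card N := by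
    letI : MulAction T N :=
      { smul := fun t x => ⟨t * x * (t : G)⁻¹, Coprime.conj_mem_of_mem_normalizer (hTN t.2) x.2⟩
        one_smul := fun x => Subtype.ext (show (1 : G) * x * 1⁻¹ = x by simp)
        mul_smul := fun s t x => Subtype.ext (show ((s : G) * t) * x * ((s : G) * t)⁻¹ =
          (s : G) * ((t : G) * x * (t : G)⁻¹) * (s : G)⁻¹ by group) }
    have hcard : Nat.card (MulAction.fixedPoints T N) = 1 := by
      have h1 : (1 : N) ∈ MulAction.fixedPoints T N :=
        fun t => Subtype.ext (show (t : G) * 1 * (t : G)⁻¹ = 1 by simp)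
      rw [Nat.card_eq_one_iff_unique]
      refine ⟨⟨fun a b => ?_⟩, ⟨⟨1, h1⟩⟩⟩
      have key : ∀ a : MulAction.fixedPoints T N, a.1 = 1 := by
        intro a
        have : (a.1 : G) ∈ N ⊓ Subgroup.centralizer (T : Set G) :=
          ⟨a.1.2, fun t ht =>
            mul_inv_eq_iff_eq_mul.mp (congrArg Subtype.val (a.2 ⟨t, ht⟩))⟩
        rw [hfix, Subgroup.mem_bot] at this
        exact Subtype.ext this
      exact Subtype.ext ((key a).trans (key b).symm)
    intro hd
    have := hTp.card_modEq_card_fixedPoints (↥N)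
    rw [hcard] at this
    have h10 : (1 : ℕ) ≡ 0 [MOD p] := this.symm.trans (Nat.modEq_zero_iff_dvd.mpr hd)
    exact hp.ne_one (Nat.dvd_one.mp (Nat.modEq_zero_iff_dvd.mp h10))
  have hcop : (Nat.card T).Coprime (Nat.card N) := by
    obtain ⟨k, hk⟩ := IsPGroup.iff_card.mp hTp
    rw [hk]
    exact (hp.coprime_iff_not_dvd.mpr hndvd).pow_left k
  have hsol : Group.IsSolvable T ∨ Group.IsSolvable N :=
    Or.inl (Coprime.isSolvable_of_isNilpotent' hTp.isNilpotent)
  have huniq : ∀ q : ℕ, [Fact q.Prime] → ∃! Q : Sylow q ↥N,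
      M ≤ Subgroup.normalizer ((Q : Subgroup ↥N).map N.subtype : Set G) := by
    intro q hq
    obtain ⟨Q, hQ⟩ := Coprime.exists_invariant_sylow T N hTN hcop hsol q
    have hu : ∀ R : Sylow q ↥N, T ≤ Subgroup.normalizer ((R : Subgroup ↥N).map N.subtype : Set G) →
        R = Q := by
      intro R hR
      obtain ⟨c, hc, hcQ⟩ := Coprime.exists_invariant_sylow_conj T N hTN hcop hsol q R Q hR hQ
      have : (c : G) ∈ N ⊓ Subgroup.centralizer (T : Set G) := ⟨c.2, hc⟩
      rw [hfix, Subgroup.mem_bot] at this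
      rw [← hcQ, show c = 1 from Subtype.ext this, one_smul]
    refine ⟨Q, Coprime.le_normalizer_of_conj_mem fun m hm => ?_,
      fun R hR => hu R (hTM.trans hR)⟩
    let Q' : Sylow q ↥N := (MulAut.conjNormal (H := N) m) • Q
    have hmem : ∀ y : N, y ∈ (Q : Subgroup ↥N) → MulAut.conjNormal (H := N) m y ∈ (Q' : Subgroup ↥N) :=
      fun y hy => Subgroup.smul_mem_pointwise_smul y _ _ hy
    have hQ' : Q' = Q := by
      refine hu Q' (Coprime.le_normalizer_of_conj_mem fun t ht => ?_)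
      rintro _ ⟨y, hy, rfl⟩
      obtain ⟨z, hz, rfl⟩ : ∃ z ∈ (Q : Subgroup ↥N), MulAut.conjNormal (H := N) m z = y := hy
      have ht' : m⁻¹ * t * m ∈ T := by
        simpa using Coprime.conj_mem_of_mem_normalizer' (hMT hm) ht
      obtain ⟨w, hw, hwe⟩ := Coprime.conj_mem_of_mem_normalizer (hQ ht') ⟨z, hz, rfl⟩
      refine ⟨MulAut.conjNormal (H := N) m w, hmem w hw, ?_⟩
      simp only [Subgroup.coe_subtype, MulAut.conjNormal_apply] at hwe ⊢
      rw [hwe]; group
    rintro _ ⟨y, hy, rfl⟩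
    exact ⟨MulAut.conjNormal (H := N) m y, hQ' ▸ hmem y hy, by simp⟩
  refine ⟨hndvd, huniq, ?_⟩
  rintro ⟨q, r, hq, hr, hqr, hqN, hrN⟩ hco
  haveI := Fact.mk hq
  obtain ⟨Q, hQ, -⟩ := huniq q
  set Qm : Subgroup G := (Q : Subgroup ↥N).map N.subtype with hQm
  have hQm1 : Qm ≠ ⊥ := by
    rw [hQm, Ne, Subgroup.map_eq_bot_iff_of_injective _ N.subtype_injective]
    exact Q.ne_bot_of_dvd_card hqN
  have hQN : Qm ≤ N := Subgroup.map_subtype_le _
  have htop : Qm ⊔ M = ⊤ := by
    refine hco.2 _ (lt_of_le_of_ne le_sup_right fun h => hQm1 ?_)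
    rw [eq_bot_iff, ← hMN]
    exact le_inf (h ▸ le_sup_left) hQN
  have hNQ : N ≤ Qm := by
    intro n hn
    obtain ⟨x, hx, m, hm, rfl⟩ :=
      Coprime.exists_mul_of_mem_sup hQ (htop ▸ Subgroup.mem_top n : n ∈ Qm ⊔ M)
    have : m ∈ M ⊓ N := ⟨hm, by simpa using mul_mem (inv_mem (hQN hx)) hn⟩
    rw [hMN, Subgroup.mem_bot] at this
    simpa [this] using hx
  have hd : r ∣ Nat.card Qm := hrN.trans (Subgroup.card_dvd_of_le hNQ)
  obtain ⟨k, hk⟩ := IsPGroup.iff_card.mp (Q.isPGroup'.map N.subtype)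
  rw [hk] at hd
  exact hqr ((Nat.prime_dvd_prime_iff_eq hr hq).mp (hr.dvd_of_dvd_pow hd)).symm

end Cfsg.Agent.S3749
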