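import Cfsg.Statements.S3754
import Cfsg.Agent.Lib.Thompson.QuadApply
import Cfsg.Agent.Lib.Coprime.Action
import Cfsg.Agent.Lib.PGroup.Basic
import Cfsg.Agent.FG72.CocyclicGeneration
import Cfsg.Agent.OddLocal43.Coprime
import Cfsg.Agent.Lib.Transfer.Residual

set_option autoImplicit false
open Cfsg

namespace Cfsg.Agent.S3754

open scoped commutatorElement Pointwise


/-- Let M be a finite p-soluble group and A a p-subgroup of M with Φ(A) ≤ O_p(M) but A ≰ O_p(M). Then there is x ∈ O_{p,p'}(M) such that L = ⟨A, xAx⁻¹⟩ satisfies: x ∈ O^p(L) and O^p(L) ≤ O_{p,p'}(M); [O^p(L), A] = O^p(L); A ∩ O_p(L) has index p in A; and [A ∩ O_p(L), L] ≤ O_p(M). Here O^p(L) is the subgroup generated by the p'-elements of L and O_{p,p'}(M) the preimage of O_{p'}(M/O_p(M)). -/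
theorem result {M : Type*} [Group M] [Finite M] {p : ℕ} [Fact p.Prime] (hM : Cfsg.IsPSolvable p M) (A : Subgroup M) (hA : IsPGroup p A) (hΦ : (frattini ↥A).map A.subtype ≤ Cfsg.pCore p M) (hnot : ¬ A ≤ Cfsg.pCore p M) : ∃ x ∈ (Cfsg.pPrimeCore p (M ⧸ Cfsg.pCore p M)).comap (QuotientGroup.mk' (Cfsg.pCore p M)), x ∈ (Cfsg.pResidual p ↥(A ⊔ A.map (MulAut.conj x).toMonoidHom)).map (A ⊔ A.map (MulAut.conj x).toMonoidHom).subtype ∧ (Cfsg.pResidual p ↥(A ⊔ A.map (MulAut.conj x).toMonoidHom)).map (A ⊔ A.map (MulAut.conj x).toMonoidHom).subtype ≤ (Cfsg.pPrimeCore p (M ⧸ Cfsg.pCore p M)).comap (QuotientGroup.mk' (Cfsg.pCore p M)) ∧ ⁅(Cfsg.pResidual p ↥(A ⊔ A.map (MulAut.conj x).toMonoidHom)).map (A ⊔ A.map (MulAut.conj x).toMonoidHom).subtype, A⁆ = (Cfsg.pResidual p ↥(A ⊔ A.map (MulAut.conj x).toMonoidHom)).map (A ⊔ A.map (MulAut.conj x).toMonoidHom).subtype ∧ (A ⊓ (Cfsg.pCore p ↥(A ⊔ A.map (MulAut.conj x).toMonoidHom)).map (A ⊔ A.map (MulAut.conj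 x).toMonoidHom).subtype).relIndex A = p ∧ ⁅A ⊓ (Cfsg.pCore p ↥(A ⊔ A.map (MulAut.conj x).toMonoidHom)).map (A ⊔ A.map (MulAut.conj x).toMonoidHom).subtype, A ⊔ A.map (MulAut.conj x).toMonoidHom⁆ ≤ Cfsg.pCore p M := by
  have msup : ∀ {G' : Type _} [Group G'] {H N : Subgroup G'}, H ≤ Subgroup.normalizer (N : Set G') →
      ∀ {g : G'}, g ∈ H ⊔ N → ∃ h ∈ H, ∃ n ∈ N, h * n = g := fun {G'} _ {H N} hHN {g} hg =>
    Set.mem_mul.1 (show g ∈ (H : Set G') * (N : Set G') by
      rw [← Subgroup.coe_mul_of_left_le_normalizer_right H N hHN]; exact hg)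
  classical
  set N₀ := Cfsg.pCore p M
  set π := QuotientGroup.mk' N₀ with hπdef
  have hπ : Function.Surjective π := QuotientGroup.mk'_surjective _
  set K := Cfsg.pPrimeCore p (M ⧸ N₀) with hKdef
  have hp : p.Prime := Fact.out
  have hN₀ : IsPGroup p N₀ := Cfsg.Agent.Thompson.isPGroup_pCore
  have hker : π.ker = N₀ := QuotientGroup.ker_mk' _
  set Ab := A.map π with hAbdef
  have hAbp : IsPGroup p Ab := hA.map π
  -- the image of `A` is elementary abelian
  have hab_pow : ∀ a ∈ Ab, a ^ p = 1 := by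
    rintro _ ⟨a, ha, rfl⟩
    rw [← map_pow, hπdef, QuotientGroup.mk'_apply, QuotientGroup.eq_one_iff]
    exact hΦ ⟨⟨a, ha⟩ ^ p, Cfsg.Agent.OddLocal43.pow_mem_frattini hA _, rfl⟩
  have hab_comm : IsMulCommutative Ab := by
    refine ⟨⟨?_⟩⟩
    rintro ⟨_, a, ha, rfl⟩ ⟨_, b, hb, rfl⟩
    apply Subtype.ext
    show π a * π b = π b * π a
    rw [← commutatorElement_eq_one_iff_mul_comm, ← map_commutatorElement, hπdef,
      QuotientGroup.mk'_apply, QuotientGroup.eq_one_iff]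
    refine hΦ ⟨⁅⟨a, ha⟩, ⟨b, hb⟩⁆, Cfsg.Agent.PGroup.commutator_le_frattini hA
      (Subgroup.commutator_mem_commutator (Subgroup.mem_top _) (Subgroup.mem_top _)), ?_⟩
    simp [commutatorElement_def]
  have hKn : K.Normal := Cfsg.Agent.Thompson.instPPrimeCoreNormal
  have hKcop : (Nat.card K).Coprime p := Cfsg.Agent.Thompson.card_pPrimeCore_coprime
  have hcopsub : ∀ P Q : Subgroup (M ⧸ N₀), IsPGroup p P → Q ≤ K →
      (Nat.card P).Coprime (Nat.card Q) := by
    intro P Q hP hQ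
    obtain ⟨n, hn⟩ := IsPGroup.iff_card.1 hP
    rw [hn]
    exact (Nat.Coprime.coprime_dvd_left (Subgroup.card_dvd_of_le hQ) hKcop).symm.pow_left n
  have hAbK : Ab ⊓ K = ⊥ := Subgroup.eq_bot_of_card_eq _ (Nat.eq_one_of_dvd_coprimes
    (hcopsub Ab K hAbp le_rfl) (Subgroup.card_dvd_of_le inf_le_left)
    (Subgroup.card_dvd_of_le inf_le_right))
  have hCK : Subgroup.centralizer (K : Set (M ⧸ N₀)) ≤ K :=
    Cfsg.Agent.Thompson.centralizer_pPrimeCore_le (Cfsg.Agent.Thompson.isPSolvable_quotient N₀ hM)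
      Cfsg.Agent.Thompson.pCore_quotient_pCore
  have hAbK' : ¬ K ≤ Subgroup.centralizer (Ab : Set (M ⧸ N₀)) := by
    intro h
    have h2 : Ab ≤ K := le_trans (Subgroup.le_centralizer_iff.1 h) hCK
    rw [inf_eq_left.2 h2] at hAbK
    rw [Subgroup.map_eq_bot_iff, hker] at hAbK
    exact hnot hAbK
  have hAbN : Ab ≤ Subgroup.normalizer (K : Set (M ⧸ N₀)) := by
    rw [Subgroup.normalizer_eq_top_iff.2 hKn]; exact le_top
  obtain ⟨B, hBA, a₀, ha₀, hBa, hCB⟩ : ∃ B ≤ Ab, ∃ a₀ ∈ Ab, B ⊔ Subgroup.zpowers a₀ = Ab ∧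
      ¬ K ⊓ Subgroup.centralizer (B : Set (M ⧸ N₀)) ≤ Subgroup.centralizer (Ab : Set (M ⧸ N₀)) := by
    by_contra hcon
    push Not at hcon
    refine hAbK' ((Cfsg.Agent.FG72.le_iSup_cocyclic (Nat.card Ab) (M ⧸ N₀) Ab K rfl hab_comm hAbN
      (hcopsub Ab K hAbp le_rfl)).trans (iSup₂_le fun B hB => ?_))
    obtain ⟨hBA, a, ha, hBa⟩ := hB
    exact hcon B hBA a ha hBa
  set KB := K ⊓ Subgroup.centralizer (B : Set (M ⧸ N₀))
  have hAbB : Ab ≤ Subgroup.normalizer (B : Set (M ⧸ N₀)) :=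
    Cfsg.Agent.Coprime.le_normalizer_of_conj_mem fun a ha x hx => by
      rw [setLike_mul_comm ha (hBA hx), mul_inv_cancel_right]; exact hx
  have hAbKB : Ab ≤ Subgroup.normalizer (KB : Set (M ⧸ N₀)) :=
    Cfsg.Agent.Coprime.le_normalizer_inf hAbN (Cfsg.Agent.Coprime.le_normalizer_centralizer hAbB)
  obtain ⟨W, ⟨hWKB, hAbW, hWC⟩, hWmin⟩ : ∃ W : Subgroup (M ⧸ N₀), (W ≤ KB ∧
      Ab ≤ Subgroup.normalizer (W : Set (M ⧸ N₀)) ∧ ¬ W ≤ Subgroup.centralizer (Ab : Set (M ⧸ N₀))) ∧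
      ∀ W' : Subgroup (M ⧸ N₀), W' < W →
        Ab ≤ Subgroup.normalizer (W' : Set (M ⧸ N₀)) →
          W' ≤ Subgroup.centralizer (Ab : Set (M ⧸ N₀)) := by
    obtain ⟨W, hW, hWm⟩ := exists_minimal_le_of_wellFoundedLT
      (fun W : Subgroup (M ⧸ N₀) => W ≤ KB ∧ Ab ≤ Subgroup.normalizer (W : Set (M ⧸ N₀)) ∧
        ¬ W ≤ Subgroup.centralizer (Ab : Set (M ⧸ N₀))) KB ⟨le_rfl, hAbKB, hCB⟩
    refine ⟨W, hWm.1, fun W' hlt hn => ?_⟩
    by_contra hc
    exact hlt.not_ge (hWm.2 ⟨hlt.le.trans hWm.1.1, hn, hc⟩ hlt.le)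
  have hWK : W ≤ K := hWKB.trans inf_le_left
  have hWB : W ≤ Subgroup.centralizer (B : Set (M ⧸ N₀)) := hWKB.trans inf_le_right
  -- a prime index
  have hBne : ¬ Ab ≤ B := fun h => hWC (hWB.trans (Subgroup.centralizer_le h))
  obtain ⟨xb, hxW, hxC⟩ := SetLike.not_le_iff_exists.1 hWC
  set Lb := Ab ⊔ Ab.map (MulAut.conj xb).toMonoidHom with hLb
  have hLb_le : Lb ≤ Ab ⊔ W := by
    refine sup_le le_sup_left ?_
    rintro _ ⟨a, ha, rfl⟩
    exact mul_mem (mul_mem (Subgroup.mem_sup_right hxW) (Subgroup.mem_sup_left ha))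
      (inv_mem (Subgroup.mem_sup_right hxW))
  have hWLb : W ≤ Lb := by
    by_contra hcon
    have hlt : Lb ⊓ W < W := lt_of_le_not_ge inf_le_right fun h => hcon (h.trans inf_le_left)
    have hAbL : Ab ≤ Subgroup.normalizer ((Lb ⊓ W : Subgroup (M ⧸ N₀)) : Set (M ⧸ N₀)) :=
      Cfsg.Agent.Coprime.le_normalizer_inf (le_sup_left.trans Subgroup.le_normalizer) hAbW
    have hcent := hWmin _ hlt hAbL
    -- the conjugate lies in the product of `Ab` and a centralised group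
    refine hxC (Subgroup.mem_centralizer_iff.2 fun a ha => ?_)
    have hmem : xb * a * xb⁻¹ ∈ Ab ⊔ W :=
      mul_mem (mul_mem (Subgroup.mem_sup_right hxW) (Subgroup.mem_sup_left ha))
        (inv_mem (Subgroup.mem_sup_right hxW))
    obtain ⟨b, hb, w, hw, hbw⟩ := msup hAbW hmem
    have hwL : w ∈ Lb ⊓ W := by
      refine ⟨?_, hw⟩
      have : w = b⁻¹ * (xb * a * xb⁻¹) := by rw [← hbw]; group
      rw [this]
      exact Lb.mul_mem (Lb.inv_mem (Subgroup.mem_sup_left hb))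
        (Subgroup.mem_sup_right ⟨a, ha, rfl⟩)
    have hcm : b * w = w * b := Subgroup.mem_centralizer_iff.1 (hcent hwL) b hb
    have hw1 : w = 1 := by
      have hwp : w ^ p = 1 := by
        have h1 : (xb * a * xb⁻¹) ^ p = 1 := by rw [conj_pow, hab_pow a ha]; group
        rw [← hbw, Commute.mul_pow hcm, hab_pow b hb, one_mul] at h1
        exact h1
      have h1 : orderOf w ∣ p := orderOf_dvd_of_pow_eq_one hwp
      have h2 : orderOf w ∣ Nat.card K := by
        rw [← Subgroup.orderOf_mk w (hWK hw)]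
        exact orderOf_dvd_natCard _
      exact orderOf_eq_one_iff.1 (Nat.eq_one_of_dvd_coprimes hKcop h2 h1)
    rw [hw1, mul_one] at hbw
    have h4 : xb * a * xb⁻¹ * a⁻¹ ∈ Ab ⊓ K := by
      refine ⟨Ab.mul_mem (hbw ▸ hb) (Ab.inv_mem ha), ?_⟩
      have : xb * a * xb⁻¹ * a⁻¹ = xb * (a * xb⁻¹ * a⁻¹) := by group
      rw [this]
      exact mul_mem (hWK hxW) (hKn.conj_mem _ (inv_mem (hWK hxW)) a)
    rw [hAbK, Subgroup.mem_bot, mul_inv_eq_one, mul_inv_eq_iff_eq_mul] at h4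
    exact h4.symm
  have hLbeq : Lb = Ab ⊔ W := le_antisymm hLb_le (sup_le le_sup_left hWLb)
  -- choose a lift giving the smallest join
  have hex : ∃ n, ∃ x : M, π x = xb ∧
      Nat.card ↥(A ⊔ A.map (MulAut.conj x).toMonoidHom) = n := by
    obtain ⟨x, hx⟩ := hπ xb
    exact ⟨_, x, hx, rfl⟩
  obtain ⟨x₀, hx₀, hx₀c⟩ := Nat.find_spec hex
  have hmapL : ∀ x : M, π x = xb → (A ⊔ A.map (MulAut.conj x).toMonoidHom).map π = Lb := by
    intro x hx
    rw [Subgroup.map_sup, Subgroup.map_map, hLb, ← hx, hAbdef, Subgroup.map_map]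
    congr 2
  set L := A ⊔ A.map (MulAut.conj x₀).toMonoidHom with hL
  set R := (Cfsg.pResidual p ↥L).map L.subtype with hR
  have hRmem : ∀ g ∈ L, (orderOf g).Coprime p → g ∈ R := fun g hg hgp =>
    ⟨⟨g, hg⟩, Subgroup.subset_closure (by simpa using hgp), rfl⟩
  have hRle : ∀ S : Subgroup M, (∀ g ∈ L, (orderOf g).Coprime p → g ∈ S) → R ≤ S := by
    intro S hS
    rw [hR, Subgroup.map_le_iff_le_comap]
    refine Cfsg.Agent.Transfer.pResidual_le_iff.2 fun g hg => hS g g.2 ?_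
    rwa [Subgroup.orderOf_coe]
  -- the residual maps onto `W`
  have hRW : W ≤ R.map π := by
    let f := π.subgroupMap L
    have hf := π.subgroupMap_surjective L
    have h1 := Cfsg.Agent.Transfer.map_pResidual_of_surjective (p := p) f hf
    intro w hw
    have hwL : w ∈ L.map π := by rw [hmapL x₀ hx₀]; exact hWLb hw
    have h2 : (⟨w, hwL⟩ : L.map π) ∈ Cfsg.pResidual p ↥(L.map π) := by
      refine Subgroup.subset_closure ?_
      show (orderOf (⟨w, hwL⟩ : L.map π)).Coprime p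
      rw [Subgroup.orderOf_mk, ← Subgroup.orderOf_mk w (hWK hw)]
      exact Nat.Coprime.coprime_dvd_left (orderOf_dvd_natCard _) hKcop
    rw [← h1] at h2
    obtain ⟨r, hr, hrw⟩ := h2
    exact ⟨r, ⟨r, hr, rfl⟩, congrArg Subtype.val hrw⟩
  obtain ⟨x, hxR, hx⟩ := hRW hxW
  have hRL : R ≤ L := Subgroup.map_subtype_le _
  have hLeq : A ⊔ A.map (MulAut.conj x).toMonoidHom = L := by
    have hle : A ⊔ A.map (MulAut.conj x).toMonoidHom ≤ L := by
      refine sup_le le_sup_left ?_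
      rintro _ ⟨a, ha, rfl⟩
      exact mul_mem (mul_mem (hRL hxR) (Subgroup.mem_sup_left ha)) (inv_mem (hRL hxR))
    refine Subgroup.eq_of_le_of_card_ge hle ?_
    rw [hx₀c]
    exact Nat.find_min' hex ⟨x, hx, rfl⟩
  -- the residual lies in the preimage of the `p'`-core
  have hRK : R ≤ K.comap π := by
    refine hRle _ fun g hg hgp => ?_
    have h1 : π g ∈ Ab ⊔ W := by
      rw [← hLbeq, ← hmapL x₀ hx₀]; exact Subgroup.mem_map_of_mem π hg
    obtain ⟨b, hb, w, hw, hbw⟩ := msup hAbW h1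
    show π g ∈ K
    rw [← QuotientGroup.eq_one_iff (N := K), ← orderOf_eq_one_iff]
    have h2 : orderOf ((π g : M ⧸ N₀) : (M ⧸ N₀) ⧸ K) ∣ orderOf g :=
      ((orderOf_map_dvd (QuotientGroup.mk' K) (π g)).trans (orderOf_map_dvd π g))
    have h3 : orderOf ((π g : M ⧸ N₀) : (M ⧸ N₀) ⧸ K) ∣ p := by
      refine orderOf_dvd_of_pow_eq_one ?_
      rw [← hbw, QuotientGroup.mk_mul, (QuotientGroup.eq_one_iff w).2 (hWK hw), mul_one,
        ← QuotientGroup.mk_pow, hab_pow b hb, QuotientGroup.mk_one]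
    exact Nat.eq_one_of_dvd_coprimes hgp h2 h3
  refine ⟨x, hRK hxR, ?_⟩
  rw [hLeq]
  have hRn : L ≤ Subgroup.normalizer (R : Set M) := by
    intro l hl
    rw [Subgroup.mem_normalizer_iff]
    intro r
    have hn : (Cfsg.pResidual p ↥L).Normal := inferInstance
    constructor
    · rintro ⟨r, hr, rfl⟩
      exact ⟨_, hn.conj_mem r hr ⟨l, hl⟩, rfl⟩
    · rintro ⟨r', hr, he⟩
      refine ⟨_, hn.conj_mem r' hr ⟨l, hl⟩⁻¹, ?_⟩
      have he' : (r' : M) = l * r * l⁻¹ := he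
      simp [he', mul_assoc]
  set P := L ⊓ B.comap π
  have hBp : IsPGroup p B := hAbp.to_le hBA
  have hPp : IsPGroup p P :=
    (hBp.comap_of_ker_isPGroup π (by rw [hker]; exact hN₀)).to_le inf_le_right
  have hBcL : ∀ b ∈ B, ∀ l ∈ Ab ⊔ W, l * b * l⁻¹ = b := by
    intro b hb l hl
    have : l ∈ Subgroup.centralizer (B : Set (M ⧸ N₀)) :=
      (sup_le (le_trans (Subgroup.le_centralizer Ab) (Subgroup.centralizer_le hBA)) hWB) hl
    rw [← Subgroup.mem_centralizer_iff.1 this b hb, mul_inv_cancel_right]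
  have hPn : (P.subgroupOf L).Normal := by
    constructor
    intro m hm l
    rw [Subgroup.mem_subgroupOf] at hm ⊢
    refine ⟨(l * m * l⁻¹).2, ?_⟩
    show π ((l : M) * m * (l : M)⁻¹) ∈ B
    have hl : π (l : M) ∈ Ab ⊔ W := by
      rw [← hLbeq, ← hmapL x₀ hx₀]; exact Subgroup.mem_map_of_mem π l.2
    rw [map_mul, map_mul, map_inv, hBcL _ hm.2 _ hl]
    exact hm.2
  have hPle : P.subgroupOf L ≤ Cfsg.pCore p ↥L := Cfsg.Agent.Thompson.le_pCore hPn
    (hPp.of_equiv (Subgroup.subgroupOfEquivOfLe inf_le_left).symm)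
  have hidxp : B.relIndex Ab = p := by
    have ha₀B : a₀ ∉ B := fun h => hBne
      (by rw [← hBa]; exact sup_le le_rfl (Subgroup.zpowers_le.2 h))
    have hn : (B.subgroupOf Ab).Normal := Subgroup.normal_subgroupOf_of_le_normalizer hAbB
    have : Subgroup.zpowers (((⟨a₀, ha₀⟩ : Ab)) : Ab ⧸ B.subgroupOf Ab) = ⊤ := by
      rw [eq_top_iff]
      intro y _
      obtain ⟨⟨y, hy⟩, rfl⟩ := QuotientGroup.mk_surjective y
      rw [← hBa] at hy
      have hn' : Subgroup.zpowers a₀ ≤ Subgroup.normalizer (B : Set (M ⧸ N₀)) :=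
        (Subgroup.zpowers_le.2 ha₀).trans hAbB
      rw [sup_comm] at hy
      obtain ⟨z, ⟨i, rfl⟩, b, hb, hzb⟩ := msup hn' hy
      refine ⟨i, ?_⟩
      show _ ^ i = _
      rw [← QuotientGroup.mk_zpow, QuotientGroup.eq, Subgroup.mem_subgroupOf]
      have hzb' : a₀ ^ i * b = y := hzb
      simp [← hzb', hb]
    rw [Subgroup.relIndex, Subgroup.index, ← Subgroup.card_top (G := Ab ⧸ B.subgroupOf Ab),
      ← this, Nat.card_zpowers]
    refine orderOf_eq_prime ?_ fun h => ha₀B ?_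
    · rw [← QuotientGroup.mk_pow]
      have : (⟨a₀, ha₀⟩ : Ab) ^ p = 1 := Subtype.ext (by simpa using hab_pow a₀ ha₀)
      rw [this, QuotientGroup.mk_one]
    · rw [QuotientGroup.eq_one_iff, Subgroup.mem_subgroupOf] at h
      exact h
  have heq : A ⊓ (Cfsg.pCore p ↥L).map L.subtype = A ⊓ B.comap π := by
    refine le_antisymm ?_ ?_
    · rintro a ⟨ha, ⟨l, hl, hla⟩⟩
      refine ⟨ha, ?_⟩
      by_contra haB
      have haB' : π a ∉ B := haB
      have hla' : (l : M) = a := hla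
      -- `π a` centralises `W`
      have hWa : W ≤ Subgroup.centralizer ({π a} : Set (M ⧸ N₀)) := by
        intro w hw
        rw [Subgroup.mem_centralizer_singleton_iff]
        have hwL : w ∈ L.map π := by rw [hmapL x₀ hx₀]; exact hWLb hw
        obtain ⟨y, hy, rfl⟩ := hwL
        set c : L := ⟨y, hy⟩ * l * ⟨y, hy⟩⁻¹ * l⁻¹ with hc
        have hc1 : c ∈ Cfsg.pCore p ↥L := mul_mem
          ((inferInstance : (Cfsg.pCore p ↥L).Normal).conj_mem l hl _) (inv_mem hl)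
        have hc2 : π (c : M) ∈ K := by
          have e : π (c : M) = π y * (π a * (π y)⁻¹ * (π a)⁻¹) := by
            rw [hc]
            push_cast
            rw [hla', map_mul, map_mul, map_mul, map_inv, map_inv]
            group
          rw [e]
          exact mul_mem (hWK hw) (hKn.conj_mem _ (inv_mem (hWK hw)) _)
        obtain ⟨n, hn⟩ := (Cfsg.Agent.Thompson.isPGroup_pCore (p := p) (G := ↥L)) ⟨c, hc1⟩
        have hcM : (c : M) ^ p ^ n = 1 := by
          have := congrArg (fun z : Cfsg.pCore p ↥L => ((z : L) : M)) hn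
          simpa using this
        have h5 : orderOf (π (c : M)) ∣ p ^ n :=
          orderOf_dvd_of_pow_eq_one (by rw [← map_pow, hcM, map_one])
        have h6 : orderOf (π (c : M)) ∣ Nat.card K := by
          rw [← Subgroup.orderOf_mk _ hc2]; exact orderOf_dvd_natCard _
        have h7 := orderOf_eq_one_iff.1
          (Nat.eq_one_of_dvd_coprimes (hKcop.pow_right n) h6 h5)
        rw [hc] at h7
        push_cast at h7
        rw [hla', map_mul, map_mul, map_mul, map_inv, map_inv, mul_inv_eq_one,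
          mul_inv_eq_iff_eq_mul] at h7
        exact h7
      have hgen : B ⊔ Subgroup.zpowers (π a) = Ab := by
        have hle : B ⊔ Subgroup.zpowers (π a) ≤ Ab :=
          sup_le hBA (Subgroup.zpowers_le.2 (Subgroup.mem_map_of_mem π ha))
        refine le_antisymm hle ?_
        have hdvd := Subgroup.relIndex_mul_relIndex B _ Ab le_sup_left hle
        rw [hidxp] at hdvd
        rcases (Nat.dvd_prime hp).1 (Dvd.intro _ hdvd) with h1 | h1
        · exact absurd ((Subgroup.relIndex_eq_one.1 h1)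
            (Subgroup.mem_sup_right (Subgroup.mem_zpowers _))) haB'
        · rw [h1, Nat.mul_eq_left hp.ne_zero] at hdvd
          exact Subgroup.relIndex_eq_one.1 hdvd
      refine hWC (Subgroup.le_centralizer_iff.1 ?_)
      rw [← hgen]
      refine sup_le (Subgroup.le_centralizer_iff.1 hWB) (Subgroup.zpowers_le.2 ?_)
      exact Subgroup.mem_centralizer_iff.2 fun w hw =>
        Subgroup.mem_centralizer_singleton_iff.1 (hWa hw)
    · rintro a ⟨ha, hb⟩
      exact ⟨ha, ⟨⟨a, Subgroup.mem_sup_left ha⟩, hPle (Subgroup.mem_subgroupOf.2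
        ⟨Subgroup.mem_sup_left ha, hb⟩), rfl⟩⟩
  refine ⟨hxR, hRK, ?_, ?_, ?_⟩
  · refine le_antisymm (Cfsg.Agent.Coprime.commutator_le_of_le_normalizer
      (le_sup_left.trans hRn)) ?_
    set C := ⁅R, A⁆
    have hCn : L ≤ Subgroup.normalizer (C : Set M) := by
      rw [← hLeq]
      refine sup_le (Subgroup.normalizer_commutator_ge_right R A) ?_
      rintro _ ⟨a, ha, rfl⟩
      have hxn := Subgroup.normalizer_commutator_ge_left R A hxR
      exact mul_mem (mul_mem hxn (Subgroup.normalizer_commutator_ge_right R A ha)) (inv_mem hxn)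
    have hCL : C ≤ L := le_trans
      (Cfsg.Agent.Coprime.commutator_le_of_le_normalizer (le_sup_left.trans hRn)) hRL
    have hLAC : L ≤ A ⊔ C := by
      rw [← hLeq]
      refine sup_le le_sup_left ?_
      rintro _ ⟨a, ha, rfl⟩
      have : x * a * x⁻¹ = ⁅x, a⁆ * a := by rw [commutatorElement_def]; group
      show x * a * x⁻¹ ∈ _
      rw [this]
      exact mul_mem (Subgroup.mem_sup_right (Subgroup.commutator_mem_commutator hxR ha))
        (Subgroup.mem_sup_left ha)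
    refine hRle _ fun g hg hgp => ?_
    have hAC : A ≤ Subgroup.normalizer (C : Set M) := le_sup_left.trans hCn
    obtain ⟨a, ha, c, hc, hac⟩ := msup hAC (hLAC hg)
    have hsub : (C.subgroupOf L).Normal := Subgroup.normal_subgroupOf_of_le_normalizer hCn
    have haL : a ∈ L := Subgroup.mem_sup_left ha
    have h1 : ((⟨g, hg⟩ : L) : L ⧸ C.subgroupOf L) = ((⟨a, haL⟩ : L) : L ⧸ C.subgroupOf L) := by
      rw [eq_comm, QuotientGroup.eq, Subgroup.mem_subgroupOf]
      show a⁻¹ * g ∈ C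
      rw [← hac, inv_mul_cancel_left]; exact hc
    obtain ⟨n, hn⟩ := hA ⟨a, ha⟩
    have h2 : orderOf ((⟨g, hg⟩ : L) : L ⧸ C.subgroupOf L) ∣ p ^ n := by
      rw [h1]
      refine orderOf_dvd_of_pow_eq_one ?_
      rw [← QuotientGroup.mk_pow]
      have : (⟨a, haL⟩ : L) ^ p ^ n = 1 := Subtype.ext (by
        simpa using congrArg Subtype.val hn)
      rw [this, QuotientGroup.mk_one]
    have h3 : orderOf ((⟨g, hg⟩ : L) : L ⧸ C.subgroupOf L) ∣ orderOf g := by
      refine (orderOf_map_dvd (QuotientGroup.mk' _) _).trans ?_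
      rw [Subgroup.orderOf_mk]
    have h4 := Nat.eq_one_of_dvd_coprimes (hgp.pow_right n) h3 h2
    rw [orderOf_eq_one_iff, QuotientGroup.eq_one_iff] at h4
    exact h4
  · rw [heq, Subgroup.inf_relIndex_left, Subgroup.relIndex_comap, ← hAbdef, hidxp]
  · rw [heq, Subgroup.commutator_le]
    intro a ha l hl
    show ⁅a, l⁆ ∈ N₀
    rw [← hker, MonoidHom.mem_ker, map_commutatorElement, commutatorElement_eq_one_iff_mul_comm]
    have hlb : π l ∈ Ab ⊔ W := by
      rw [← hLbeq, ← hmapL x₀ hx₀]; exact Subgroup.mem_map_of_mem π hl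
    exact (mul_inv_eq_iff_eq_mul.1 (hBcL _ ha.2 _ hlb)).symm

end Cfsg.Agent.S3754
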