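import Cfsg.Statements.S3755
import Cfsg.Agent.Offender62.Bound
import Cfsg.Agent.LocalEven61.Dihedral
import Cfsg.Agent.LocalEven61.PermFour
import Cfsg.Agent.Lib.Thompson.Cores

set_option autoImplicit false
open Cfsg

namespace Cfsg.Agent.S3755

/-- Let M and V be subgroups of a finite group with V an elementary abelian 2-group, M normalizing V and acting faithfully on it (M ∩ C(V) = 1), and C_M(O_{2'}(M)) ≤ O_{2'}(M). If some elementary abelian 2-subgroup A of M satisfies |V : C_V(A)| < |A|², then M has a section isomorphic to the symmetric group of degree 3. -/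
theorem result {X : Type*} [Group X] [Finite X] (M V : Subgroup X) (hV : Cfsg.IsElementaryAbelian 2 V) (hMV : M ≤ Subgroup.normalizer (V : Set X)) (hfaith : M ⊓ Subgroup.centralizer (V : Set X) = ⊥) (hcon : Subgroup.centralizer (Cfsg.pPrimeCore 2 ↥M : Set ↥M) ≤ Cfsg.pPrimeCore 2 ↥M) (A : Subgroup X) (hAM : A ≤ M) (hA : Cfsg.IsElementaryAbelian 2 A) (hsmall : (V ⊓ Subgroup.centralizer (A : Set X)).relIndex V < Nat.card A ^ 2) : Cfsg.Involves (Equiv.Perm (Fin 3)) ↥M := by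
  by_contra hno
  set O := Cfsg.pPrimeCore 2 ↥M with hO
  have hOn : (O).Normal := Subgroup.sSup_normal _ (fun _ h => h.1)
  set OX := O.map M.subtype with hOX
  have hOodd : Odd (Nat.card OX) := by
    rw [hOX, ← Nat.card_congr (O.equivMapOfInjective M.subtype M.subtype_injective).toEquiv]
    exact Nat.coprime_two_right.mp (Cfsg.Agent.Thompson.card_pPrimeCore_coprime (G := ↥M) (p := 2))
  have hAN : A ≤ Subgroup.normalizer (OX : Set X) := by
    intro x hx
    have hcl : ∀ y : ↥M, ∀ z ∈ OX, (y : X) * z * (y : X)⁻¹ ∈ OX := by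
      rintro y _ ⟨o, ho, rfl⟩
      exact ⟨y * o * y⁻¹, hOn.conj_mem o ho y, rfl⟩
    refine Subgroup.mem_normalizer_iff.mpr fun z => ⟨hcl ⟨x, hAM hx⟩ z, fun h => ?_⟩
    simpa [mul_assoc] using hcl ⟨x, hAM hx⟩⁻¹ _ h
  have hfV : OX ⊓ Subgroup.centralizer (V : Set X) = ⊥ := by
    rw [eq_bot_iff, ← hfaith]
    exact inf_le_inf_right _ (Subgroup.map_subtype_le _)
  have hfA : A ⊓ Subgroup.centralizer (OX : Set X) = ⊥ := by
    refine eq_bot_iff.mpr fun x hx => Subgroup.mem_bot.mpr ?_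
    have h1 : (⟨x, hAM hx.1⟩ : ↥M) ∈ O := hcon (Subgroup.mem_centralizer_iff.mpr fun o ho =>
      Subtype.ext (Subgroup.mem_centralizer_iff.mp hx.2 (o : X) ⟨o, ho, rfl⟩))
    have h2 : x ∈ OX := ⟨_, h1, rfl⟩
    have h3 : orderOf x ∣ Nat.card OX := by
      have := orderOf_dvd_natCard (⟨x, h2⟩ : OX); rwa [Subgroup.orderOf_mk] at this
    exact orderOf_eq_one_iff.mp (Nat.eq_one_of_dvd_coprimes (Nat.coprime_two_left.mpr hOodd)
      (orderOf_dvd_of_pow_eq_one (hA.2 x hx.1)) h3)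
  refine absurd (Cfsg.Agent.Offender62.offender_bound (Nat.card A) A OX V le_rfl hV hA hOodd hAN
    (hAM.trans hMV) ((Subgroup.map_subtype_le _).trans hMV) hfV hfA ?_) (not_le.mpr hsmall)
  intro a ha r hr hr3 hinv
  by_contra hr1
  apply hno
  haveI : Fact (Nat.Prime 3) := ⟨Nat.prime_three⟩
  obtain ⟨e⟩ := Cfsg.Agent.LocalEven61.exists_dihedral_equiv
  refine Cfsg.Agent.LocalEven61.involves_congr e (Cfsg.Agent.LocalEven61.involves_dihedral_of_inverts
    (p := 3) (x := ⟨a, hAM ha⟩) (y := ⟨r, Subgroup.map_subtype_le _ hr⟩) (by norm_num) ?_ ?_ ?_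
    (Subtype.ext hinv))
  · obtain ⟨j, -, hj⟩ := (Nat.dvd_prime_pow Nat.prime_two).mp
      (show orderOf (⟨a, hAM ha⟩ : ↥M) ∣ 2 ^ 1 from orderOf_dvd_of_pow_eq_one (Subtype.ext (by simpa using hA.2 a ha)))
    exact ⟨j, hj⟩
  · obtain ⟨j, -, hj⟩ := (Nat.dvd_prime_pow Nat.prime_three).mp
      (show orderOf (⟨r, Subgroup.map_subtype_le _ hr⟩ : ↥M) ∣ 3 ^ 1 from
        orderOf_dvd_of_pow_eq_one (Subtype.ext (by simpa using hr3)))
    exact ⟨j, hj⟩
  · exact fun h => hr1 (congrArg Subtype.val h)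

end Cfsg.Agent.S3755
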