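import Cfsg.Statements.S3760
-- import your own Cfsg.Agent.* helpers here

set_option autoImplicit false
open Cfsg

namespace Cfsg.Agent.S3760

/-- Let the group G act transitively on a set X, let x ∈ X with stabilizer H = G_x, and let K ≤ H. Then N_G(K) acts transitively on the set of fixed points of K if and only if every G-conjugate of K contained in H is already an H-conjugate of K. -/
theorem result {G : Type*} [Group G] {X : Type*} [MulAction G X] (htrans : ∀ a b : X, ∃ g : G, g • a = b) (x : X) (K : Subgroup G) (hK : K ≤ MulAction.stabilizer G x) : (∀ a b : X, (∀ k ∈ K, k • a = a) → (∀ k ∈ K, k • b = b) → ∃ g ∈ Subgroup.normalizer (K : Set G), g • a = b) ↔ ∀ g : G, K.map (MulAut.conj g).toMonoidHom ≤ MulAction.stabilizer G x → ∃ h ∈ MulAction.stabilizer G x, K.map (MulAut.conj g).toMonoidHom = K.map (MulAut.conj h).toMonoidHom := by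
  classical
  constructor
  · intro hN g hg
    obtain ⟨n, hn, hnx⟩ := hN x (g⁻¹ • x) (fun k hk => hK hk) (fun k hk => by
      have h1 : (g * k * g⁻¹) • x = x := hg ⟨k, hk, rfl⟩
      calc k • g⁻¹ • x = g⁻¹ • ((g * k * g⁻¹) • x) := by simp [smul_smul, mul_assoc]
        _ = g⁻¹ • x := by rw [h1])
    refine ⟨g * n, ?_, ?_⟩
    · rw [MulAction.mem_stabilizer_iff, mul_smul, hnx, smul_inv_smul]
    · ext y
      simp only [Subgroup.mem_map, MulEquiv.coe_toMonoidHom, MulAut.conj_apply]
      constructor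
      · rintro ⟨k, hk, rfl⟩
        refine ⟨n⁻¹ * k * n, ?_, by group⟩
        exact (Subgroup.mem_normalizer_iff''.mp hn k).mp hk
      · rintro ⟨k, hk, rfl⟩
        exact ⟨n * k * n⁻¹, (Subgroup.mem_normalizer_iff.mp hn k).mp hk, by group⟩
  · intro hF
    have key : ∀ a : X, (∀ k ∈ K, k • a = a) → ∃ n ∈ Subgroup.normalizer (K : Set G), n • x = a := by
      intro a ha
      obtain ⟨g, rfl⟩ := htrans x a
      have hg : K.map (MulAut.conj g⁻¹).toMonoidHom ≤ MulAction.stabilizer G x := by
        rintro _ ⟨k, hk, rfl⟩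
        simp only [MulEquiv.coe_toMonoidHom, MulAut.conj_apply, inv_inv,
          MulAction.mem_stabilizer_iff, mul_smul]
        rw [ha k hk, inv_smul_smul]
      obtain ⟨h, hh, e⟩ := hF g⁻¹ hg
      refine ⟨g * h, ?_, by rw [mul_smul, MulAction.mem_stabilizer_iff.mp hh]⟩
      rw [Subgroup.mem_normalizer_iff]
      intro y
      constructor
      · intro hy
        have : h * y * h⁻¹ ∈ K.map (MulAut.conj g⁻¹).toMonoidHom := e ▸ ⟨y, hy, rfl⟩
        obtain ⟨k, hk, hk'⟩ := this
        simp only [MulEquiv.coe_toMonoidHom, MulAut.conj_apply, inv_inv] at hk'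
        have : g * h * y * (g * h)⁻¹ = k := by
          calc g * h * y * (g * h)⁻¹ = g * (h * y * h⁻¹) * g⁻¹ := by group
            _ = k := by rw [← hk']; group
        rwa [this]
      · intro hy
        have e2 : g⁻¹ * (g * h * y * (g * h)⁻¹) * g ∈ K.map (MulAut.conj g⁻¹).toMonoidHom :=
          ⟨g * h * y * (g * h)⁻¹, hy, by simp [mul_assoc]⟩
        have : g⁻¹ * (g * h * y * (g * h)⁻¹) * g ∈ K.map (MulAut.conj h).toMonoidHom := e ▸ e2
        obtain ⟨k, hk, hk'⟩ := this
        simp only [MulEquiv.coe_toMonoidHom, MulAut.conj_apply] at hk'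
        have : k = y := by
          calc k = h⁻¹ * (h * k * h⁻¹) * h := by group
            _ = y := by rw [hk']; group
        rwa [← this]
    intro a b ha hb
    obtain ⟨n1, h1, e1⟩ := key a ha
    obtain ⟨n2, h2, e2⟩ := key b hb
    exact ⟨n2 * n1⁻¹, mul_mem h2 (inv_mem h1), by rw [← e1, mul_smul, inv_smul_smul, e2]⟩

end Cfsg.Agent.S3760
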