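import Cfsg.Statements.S3761
import Cfsg.Agent.S0519
import Cfsg.Agent.PLocalB.CyclicIndexP
import Cfsg.Agent.Lib.Involution.Dihedral
import Cfsg.Agent.Lib.PGroup.Commutator
import Cfsg.Agent.Lib.PGroup.Basic

set_option autoImplicit false
set_option maxHeartbeats 400000
open Cfsg
open scoped commutatorElement

namespace Cfsg.Agent.S3761

open Subgroup

variable {G : Type*} [Group G]

/-- The map out of a generalized quaternion group given by an inverted element and a square root. -/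
def quatHom {m : ℕ} (x r : G) (hr : r ^ (2 * m) = 1) (hx : x * x = r ^ m)
    (h : x * r * x⁻¹ = r⁻¹) : QuaternionGroup m →* G :=
  MonoidHom.mk' (fun d => match d with
    | .a i => r ^ (ZMod.cast i : ℤ)
    | .xa i => x * r ^ (ZMod.cast i : ℤ)) (by
    have hcast : ∀ a b : ℤ, (a : ZMod (2 * m)) = (b : ZMod (2 * m)) → r ^ a = r ^ b := by
      intro a b hab
      obtain ⟨c, hc⟩ := (ZMod.intCast_eq_intCast_iff_dvd_sub _ _ _).mp hab
      rw [show b = a + ((2 * m : ℕ) : ℤ) * c by omega, zpow_add, zpow_mul, zpow_natCast, hr,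
        one_zpow, mul_one]
    have hc : ∀ k : ℤ, x * r ^ k = r ^ (-k) * x := Involution.mul_zpow_of_inverts h
    rintro (i | i) (j | j)
    · show r ^ _ = r ^ _ * r ^ _
      rw [← zpow_add]
      exact hcast _ _ (by simp [ZMod.intCast_zmod_cast])
    · show x * r ^ _ = r ^ _ * (x * r ^ _)
      have h2 := hc (-(ZMod.cast i : ℤ))
      rw [neg_neg] at h2
      rw [← mul_assoc, ← h2, mul_assoc, ← zpow_add]
      congr 1
      exact hcast _ _ (by simp [ZMod.intCast_zmod_cast]; ring)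
    · show x * r ^ _ = x * r ^ _ * r ^ _
      rw [mul_assoc, ← zpow_add]
      congr 1
      exact hcast _ _ (by simp [ZMod.intCast_zmod_cast])
    · show r ^ _ = x * r ^ _ * (x * r ^ _)
      rw [hc (ZMod.cast i : ℤ), mul_assoc, ← mul_assoc x x, hx, ← zpow_natCast, ← mul_assoc,
        ← zpow_add, ← zpow_add]
      exact hcast _ _ (by simp [ZMod.intCast_zmod_cast]; ring))

variable [Finite G]

theorem quat_equiv {m : ℕ} [NeZero m] (x r : G) (hor : orderOf r = 2 * m) (hx : x * x = r ^ m)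
    (h : x * r * x⁻¹ = r⁻¹) (hxr : x ∉ zpowers r) (hcard : Nat.card G = 4 * m) :
    Nonempty (G ≃* QuaternionGroup m) := by
  let f : QuaternionGroup m →* G := quatHom x r (hor ▸ pow_orderOf_eq_one r) hx h
  have hinj : Function.Injective f := by
    rw [injective_iff_map_eq_one]
    rintro (i | i) hi
    · change r ^ (ZMod.cast i : ℤ) = 1 at hi
      rw [← orderOf_dvd_iff_zpow_eq_one, hor] at hi
      have : ((ZMod.cast i : ℤ) : ZMod (2 * m)) = 0 := (ZMod.intCast_zmod_eq_zero_iff_dvd _ _).mpr hi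
      rw [ZMod.intCast_zmod_cast] at this
      rw [this]; rfl
    · change x * r ^ (ZMod.cast i : ℤ) = 1 at hi
      rw [mul_eq_one_iff_eq_inv, ← zpow_neg] at hi
      exact absurd ⟨_, hi.symm⟩ hxr
  exact ⟨(MulEquiv.ofBijective f ((Nat.bijective_iff_injective_and_card f).mpr
    ⟨hinj, by rw [Nat.card_eq_fintype_card, QuaternionGroup.card, hcard]⟩)).symm⟩

theorem dih_equiv {m : ℕ} [NeZero m] (x r : G) (hor : orderOf r = m) (hx : x * x = 1)
    (h : x * r * x⁻¹ = r⁻¹) (hxr : x ∉ zpowers r) (hcard : Nat.card G = 2 * m) :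
    Nonempty (G ≃* DihedralGroup m) := by
  let f : DihedralGroup m →* G := Involution.dihedralHom x r hx (hor ▸ pow_orderOf_eq_one r) h
  have hinj : Function.Injective f := by
    rw [injective_iff_map_eq_one]
    rintro (i | i) hi
    · rw [Involution.dihedralHom_r, ← orderOf_dvd_iff_zpow_eq_one, hor] at hi
      have : ((ZMod.cast i : ℤ) : ZMod m) = 0 := (ZMod.intCast_zmod_eq_zero_iff_dvd _ _).mpr hi
      rw [ZMod.intCast_zmod_cast] at this
      rw [this, DihedralGroup.r_zero]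
    · rw [Involution.dihedralHom_sr, mul_eq_one_iff_eq_inv, ← zpow_neg] at hi
      exact absurd ⟨_, hi.symm⟩ hxr
  exact ⟨(MulEquiv.ofBijective f ((Nat.bijective_iff_injective_and_card f).mpr
    ⟨hinj, by rw [DihedralGroup.nat_card, hcard]⟩)).symm⟩

/-- The data of the problem. -/
structure Dat (p : ℕ) (U : Subgroup G) (u : G) (n : ℕ) : Prop where
  grp : IsPGroup p G
  gen : U = zpowers u
  ord : orderOf u = p ^ n
  nrm : U.Normal
  cen : centralizer (U : Set G) = U
  two : 2 ≤ n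

variable {p n : ℕ} [hp : Fact p.Prime] {U : Subgroup G} {u : G}

theorem zpow_eq_zpow (D : Dat p U u n) (i j : ℤ) :
    u ^ i = u ^ j ↔ ((p : ℤ) ^ n) ∣ i - j := by
  rw [← orderOf_dvd_sub_iff_zpow_eq_zpow, D.ord]
  push_cast
  rfl

omit [Finite G] in
theorem mem_U (D : Dat p U u n) (i : ℤ) : u ^ i ∈ U := D.gen ▸ zpow_mem_zpowers u i

theorem exists_conj (D : Dat p U u n) (g : G) : ∃ k : ℤ, g * u * g⁻¹ = u ^ k := by
  obtain ⟨k, hk⟩ := mem_zpowers_iff.mp
    (D.gen ▸ D.nrm.conj_mem u (D.gen ▸ mem_zpowers u) g : g * u * g⁻¹ ∈ zpowers u)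
  exact ⟨k, hk.symm⟩

theorem mem_iff (D : Dat p U u n) {g : G} {k : ℤ} (hk : g * u * g⁻¹ = u ^ k) :
    g ∈ U ↔ (p : ℤ) ^ n ∣ k - 1 := by
  rw [← zpow_eq_zpow D, zpow_one, ← hk, mul_inv_eq_iff_eq_mul]
  constructor
  · intro hg
    obtain ⟨i, rfl⟩ := mem_zpowers_iff.mp (D.gen ▸ hg : g ∈ zpowers u)
    exact (Commute.zpow_self u i).eq
  · intro hg
    rw [← D.cen, D.gen, mem_centralizer_iff]
    rintro _ ⟨i, rfl⟩
    exact ((Commute.zpow_right (hg : Commute g u) i).eq).symm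

theorem mem_M_iff (D : Dat p U u n) {g : G} {k : ℤ} (hk : g * u * g⁻¹ = u ^ k) :
    g ∈ centralizer (powerClosure p 1 U : Set G) ↔ (p : ℤ) ^ (n - 1) ∣ k - 1 := by
  have hone : g * u ^ p * g⁻¹ = u ^ p ↔ (p : ℤ) ^ (n - 1) ∣ k - 1 := by
    rw [← conj_pow, hk, ← zpow_natCast u, ← zpow_natCast, ← zpow_mul, zpow_eq_zpow D,
      show k * p - p = (k - 1) * p by ring,
      show (p : ℤ) ^ n = (p : ℤ) ^ (n - 1) * p by
        rw [← pow_succ, show n - 1 + 1 = n by have := D.two; omega],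
      mul_dvd_mul_iff_right (by exact_mod_cast hp.out.ne_zero)]
  rw [← hone, powerClosure, centralizer_closure, mem_centralizer_iff]
  constructor
  · intro h
    rw [mul_inv_eq_iff_eq_mul]
    exact (h _ ⟨u, D.gen ▸ mem_zpowers u, by rw [pow_one]⟩).symm
  · rintro h _ ⟨x, hx, rfl⟩
    obtain ⟨i, rfl⟩ := mem_zpowers_iff.mp (D.gen ▸ hx : x ∈ zpowers u)
    rw [mul_inv_eq_iff_eq_mul] at h
    rw [pow_one, ← zpow_natCast, ← zpow_mul, mul_comm, zpow_mul, zpow_natCast]
    exact ((Commute.zpow_right (h : Commute g (u ^ p)) i).eq).symm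

theorem conj_mul (D : Dat p U u n) {g h : G} {k l m : ℤ} (hg : g * u * g⁻¹ = u ^ k)
    (hh : h * u * h⁻¹ = u ^ l) (hgh : g * h * u * (g * h)⁻¹ = u ^ m) :
    (p : ℤ) ^ n ∣ m - k * l := by
  rw [← zpow_eq_zpow D, ← hgh, zpow_mul, ← hg, conj_zpow, ← hh]
  group

/-- An element outside `U` with `p`-th power inside, not centralizing `U^p`. -/
theorem two_of_not_mem (D : Dat p U u n) {g : G} {k : ℤ} (hk : g * u * g⁻¹ = u ^ k)
    (hgp : g ^ p ∈ U) (hgM : g ∉ centralizer (powerClosure p 1 U : Set G)) :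
    p = 2 ∧ (p : ℤ) ^ (n - 1) ∣ k + 1 := by
  have hkp : (p : ℤ) ^ n ∣ k ^ p - 1 := by
    have hpow : ∀ e : ℕ, g ^ e * u * (g ^ e)⁻¹ = u ^ (k ^ e) := by
      intro e
      induction e with
      | zero => simp
      | succ e ih =>
        calc g ^ (e + 1) * u * (g ^ (e + 1))⁻¹ = g * (g ^ e * u * (g ^ e)⁻¹) * g⁻¹ := by
              rw [pow_succ']; group
          _ = (g * u * g⁻¹) ^ (k ^ e) := by rw [ih, conj_zpow]
          _ = u ^ (k ^ (e + 1)) := by rw [hk, ← zpow_mul, pow_succ']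
    exact (mem_iff D (hpow p)).mp hgp
  rw [mem_M_iff D hk] at hgM
  have hn := D.two
  rcases hp.out.eq_two_or_odd with h2 | hodd
  · subst h2
    refine ⟨rfl, ?_⟩
    have h1 : ¬ (2 : ℤ) ^ n ∣ k - 1 := fun h => hgM ((pow_dvd_pow 2 (by omega)).trans h)
    push_cast at hkp hgM ⊢
    rcases PLocalB.sq_one_mod_two_pow hn (r := k)
        (by rw [show (k - 1) * (k + 1) = k ^ 2 - 1 by ring]; exact_mod_cast hkp) h1 with h | ⟨-, h | h⟩
    · exact (pow_dvd_pow 2 (by omega)).trans h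
    · refine absurd ?_ hgM
      have h' : (2 : ℤ) ^ (n - 1) ∣ k - (1 + 2 ^ (n - 1)) := (pow_dvd_pow 2 (by omega)).trans h
      have := dvd_add h' (dvd_refl ((2 : ℤ) ^ (n - 1)))
      rw [show k - 1 = k - (1 + 2 ^ (n - 1)) + 2 ^ (n - 1) by ring]
      exact this
    · have h' : (2 : ℤ) ^ (n - 1) ∣ k - (-1 + 2 ^ (n - 1)) := (pow_dvd_pow 2 (by omega)).trans h
      have := dvd_add h' (dvd_refl ((2 : ℤ) ^ (n - 1)))
      rw [show k + 1 = k - (-1 + 2 ^ (n - 1)) + 2 ^ (n - 1) by ring]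
      exact this
  · exfalso
    apply hgM
    have hk1 : (p : ℤ) ∣ k - 1 := by
      have h2 := (dvd_pow_self (p : ℤ) (show n ≠ 0 by omega)).trans hkp
      rw [← ZMod.intCast_zmod_eq_zero_iff_dvd] at h2 ⊢
      push_cast at h2 ⊢
      rwa [ZMod.pow_card] at h2
    obtain ⟨e, he⟩ := hk1
    obtain ⟨t, ht⟩ := S0519.exists_geom_sum k p
    obtain ⟨w, hw⟩ := hp.out.dvd_choose_self (k := 2) two_ne_zero
      (lt_of_le_of_ne hp.out.two_le (by omega))
    have hS : ∑ i ∈ Finset.range p, k ^ i = (p : ℤ) * (1 + (p : ℤ) * (e * w + e ^ 2 * t)) := by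
      rw [ht, he, hw]; push_cast; ring
    rw [← geom_sum_mul, hS, show (p : ℤ) ^ n = (p : ℤ) * (p : ℤ) ^ (n - 1) by
      rw [← pow_succ', show n - 1 + 1 = n by omega], mul_assoc] at hkp
    refine IsCoprime.dvd_of_dvd_mul_left ?_
      ((mul_dvd_mul_iff_left (by exact_mod_cast hp.out.ne_zero)).mp hkp)
    exact IsCoprime.pow_left ⟨-(e * w + e ^ 2 * t), 1, by ring⟩

/-- The dihedral, quaternion and semidihedral case. -/
theorem first_case (D : Dat 2 U u n) (hidx : U.index = 2)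
    (hno : ∀ b (k : ℤ), b ∉ U → b * u * b⁻¹ = u ^ k → (2 : ℤ) ^ (n - 1) ∣ k + 1) :
    Nat.card G = 2 ^ (n + 1) ∧ ((∃ m : ℕ, Nonempty (G ≃* DihedralGroup m)) ∨
      (∃ m : ℕ, Nonempty (G ≃* QuaternionGroup m)) ∨ Cfsg.IsQuasiDihedral G) := by
  haveI : Fact (Nat.Prime 2) := ⟨Nat.prime_two⟩
  have hn := D.two
  have hcard : Nat.card G = 2 ^ (n + 1) := by
    rw [← U.card_mul_index, hidx, D.gen, Nat.card_zpowers, D.ord, pow_succ]
  refine ⟨hcard, ?_⟩
  obtain ⟨b, hb⟩ : ∃ b, b ∉ U := by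
    by_contra h
    push Not at h
    rw [(eq_top_iff' U).mpr h, index_top] at hidx
    omega
  obtain ⟨k, hk⟩ := exists_conj D b
  obtain ⟨j, hj⟩ := mem_zpowers_iff.mp (D.gen ▸ sq_mem_of_index_two hidx b : b ^ 2 ∈ zpowers u)
  obtain ⟨q, hq⟩ := hno b k hb hk
  obtain ⟨m, rfl⟩ : ∃ m, n = m + 2 := ⟨n - 2, by omega⟩
  rw [show m + 2 - 1 = m + 1 from rfl] at hq
  have hjdvd : (2 : ℤ) ^ (m + 1) ∣ j := by
    have hfix : (2 : ℤ) ^ (m + 2) ∣ k * j - j := by
      have h1 : u ^ (k * j) = u ^ j := by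
        rw [zpow_mul, ← hk, conj_zpow, hj]; group
      exact_mod_cast (zpow_eq_zpow D _ _).mp h1
    rw [show k * j - j = 2 * (j * (2 ^ m * q - 1)) by linear_combination j * hq,
      pow_succ' _ (m + 1), mul_dvd_mul_iff_left (by norm_num)] at hfix
    have hc : IsCoprime ((2 : ℤ) ^ (m + 1)) (2 ^ m * q - 1) := by
      rcases Nat.eq_zero_or_pos m with rfl | hm
      · refine IsCoprime.pow_left (Int.prime_two.coprime_iff_not_dvd.mpr fun h => ?_)
        obtain ⟨e, he⟩ := h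
        have hq1 : ¬ (2 : ℤ) ∣ q - 1 → False := fun h => h ⟨e, by simpa using he⟩
        refine hb ((mem_iff D hk).mpr ?_)
        obtain ⟨e', he'⟩ : (2 : ℤ) ∣ q - 1 := ⟨e, by simpa using he⟩
        exact ⟨e', by push_cast; linear_combination hq + 2 * he'⟩
      · exact IsCoprime.pow_left ⟨2 ^ (m - 1) * q, -1, by
          conv_rhs => rw [show (1 : ℤ) = 1 from rfl]
          rw [show (2 : ℤ) ^ m = 2 ^ (m - 1) * 2 by rw [← pow_succ, show m - 1 + 1 = m by omega]]
          ring⟩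
    exact hc.dvd_of_dvd_mul_right hfix
  obtain ⟨l, hl⟩ := hjdvd
  have hbU : b ∉ zpowers u := D.gen ▸ hb
  have hord : orderOf u = 2 * 2 ^ (m + 1) := by rw [D.ord, pow_succ']
  rcases Int.even_or_odd q with ⟨q', hq'⟩ | ⟨q', hq'⟩
  · -- inversion
    have hinv : b * u * b⁻¹ = u⁻¹ := by
      rw [hk, ← zpow_neg_one, zpow_eq_zpow D]
      exact ⟨q', by push_cast; linear_combination hq + (2 : ℤ) ^ (m + 1) * hq'⟩
    rcases Int.even_or_odd l with ⟨l', hl'⟩ | ⟨l', hl'⟩
    · refine Or.inl ⟨2 ^ (m + 2), dih_equiv b u D.ord ?_ hinv hbU (by rw [hcard]; ring)⟩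
      rw [← pow_two, ← hj, ← zpow_zero u, zpow_eq_zpow D]
      exact ⟨l', by push_cast; linear_combination hl + (2 : ℤ) ^ (m + 1) * hl'⟩
    · refine Or.inr (Or.inl ⟨2 ^ (m + 1), quat_equiv b u hord ?_ hinv hbU (by rw [hcard]; ring)⟩)
      rw [← pow_two, ← hj, ← zpow_natCast, zpow_eq_zpow D]
      exact ⟨l', by push_cast; linear_combination hl + (2 : ℤ) ^ (m + 1) * hl'⟩
  · -- semidihedral
    have hm : 1 ≤ m := by
      by_contra h
      obtain rfl : m = 0 := by omega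
      exact hb ((mem_iff D hk).mpr ⟨q', by push_cast; linear_combination hq + (2 : ℤ) * hq'⟩)
    refine Or.inr (Or.inr ⟨m + 2, by omega, hcard, u, b * u ^ l, D.ord, ?_, ?_⟩)
    · refine orderOf_eq_prime ?_ ?_
      · calc (b * u ^ l) ^ 2 = (b * u ^ l * b⁻¹) * b ^ 2 * u ^ l := by rw [pow_two, pow_two]; group
          _ = 1 := by
            rw [← conj_zpow, hk, ← zpow_mul, ← hj, ← zpow_add, ← zpow_add, ← zpow_zero u,
              zpow_eq_zpow D]
            exact ⟨l * (q' + 1), by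
              push_cast; linear_combination l * hq + hl + (2 : ℤ) ^ (m + 1) * l * hq'⟩
      · intro h
        refine hbU ?_
        rw [show b = b * u ^ l * (u ^ l)⁻¹ by group, h, one_mul]
        exact inv_mem (zpow_mem_zpowers u l)
    · calc b * u ^ l * u * (b * u ^ l)⁻¹ = b * u * b⁻¹ := by group
        _ = u ^ (2 ^ (m + 2 - 1) - 1) := by
          rw [hk, ← zpow_natCast, Nat.cast_sub Nat.one_le_two_pow, zpow_eq_zpow D,
            show m + 2 - 1 = m + 1 from rfl]
          exact ⟨q', by push_cast; linear_combination hq + (2 : ℤ) ^ (m + 1) * hq'⟩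

/-- The main case. -/
theorem second_case (D : Dat p U u n) (hn3 : p = 2 → 3 ≤ n)
    (hMU : ¬ centralizer (powerClosure p 1 U : Set G) ≤ U) :
    U.relIndex (centralizer (powerClosure p 1 U : Set G)) = p ∧
      IsElementaryAbelian p (omegaOne p (centralizer (powerClosure p 1 U : Set G))) ∧
      Nat.card ↥(omegaOne p (centralizer (powerClosure p 1 U : Set G))) = p ^ 2 ∧
      (omegaOne p (centralizer (powerClosure p 1 U : Set G))).Characteristic := by
  haveI := D.nrm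
  have hn := D.two
  set M := centralizer (powerClosure p 1 U : Set G) with hMdef
  have hq : (p : ℤ) ^ n = (p : ℤ) ^ (n - 1) * p := by
    rw [← pow_succ, show n - 1 + 1 = n by omega]
  set z := u ^ ((p : ℤ) ^ (n - 1)) with hz
  have hzu : ∀ i, z ^ i = u ^ ((p : ℤ) ^ (n - 1) * i) := fun i => by rw [hz, ← zpow_mul]
  have hz1 : z ≠ 1 := by
    rw [hz, ← zpow_zero u, Ne, zpow_eq_zpow D, sub_zero, hq]
    rintro ⟨e, he⟩
    have hne : (p : ℤ) ^ (n - 1) ≠ 0 := pow_ne_zero _ (by exact_mod_cast hp.out.ne_zero)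
    have hd : (p : ℤ) ∣ 1 := ⟨e, mul_left_cancel₀ hne (by linear_combination he)⟩
    exact hp.out.one_lt.ne' (by exact_mod_cast Int.eq_one_of_dvd_one (by positivity) hd)
  have hzp : z ^ p = 1 := by
    rw [← zpow_natCast, hzu, ← zpow_zero u, zpow_eq_zpow D, sub_zero, hq]
  set Z := zpowers z with hZ
  have hZc : Nat.card Z = p := by rw [hZ, Nat.card_zpowers]; exact orderOf_eq_prime hzp hz1
  have hZU : Z ≤ U := zpowers_le.mpr (mem_U D _)
  haveI : Z.Normal := ⟨fun a ha g => by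
    obtain ⟨i, rfl⟩ := mem_zpowers_iff.mp ha
    obtain ⟨k, hk⟩ := exists_conj D g
    rw [hzu, ← conj_zpow, hk, ← zpow_mul, mul_comm k, mul_assoc, ← hzu]
    exact zpow_mem_zpowers z _⟩
  have hZcen : Z ≤ center G := PGroup.le_center_of_card_eq_prime D.grp hZc
  -- powers in `U`
  have hroot : ∀ i : ℤ, (u ^ i) ^ p = 1 → u ^ i ∈ Z := by
    intro i h
    rw [← zpow_natCast, ← zpow_mul, ← zpow_zero u, zpow_eq_zpow D, sub_zero, hq,
      mul_dvd_mul_iff_right (by exact_mod_cast hp.out.ne_zero)] at h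
    obtain ⟨e, rfl⟩ := h
    rw [← hzu]
    exact zpow_mem_zpowers z _
  have hMZ : ∀ g, g ∈ M ↔ ⁅g, u⁆ ∈ Z := by
    intro g
    obtain ⟨k, hk⟩ := exists_conj D g
    have hc : ⁅g, u⁆ = u ^ (k - 1) := by rw [commutatorElement_def, hk, zpow_sub_one]
    rw [hc, hMdef, mem_M_iff D hk]
    constructor
    · rintro ⟨e, he⟩
      rw [he, ← hzu]
      exact zpow_mem_zpowers z _
    · intro h
      obtain ⟨e, he⟩ := mem_zpowers_iff.mp h
      rw [hzu, zpow_eq_zpow D, hq] at he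
      obtain ⟨f, hf⟩ := he
      exact ⟨e - p * f, by linear_combination -hf⟩
  have hUM : U ≤ M := fun g hg => (hMZ g).mpr (by
    obtain ⟨i, rfl⟩ := mem_zpowers_iff.mp (D.gen ▸ hg : g ∈ zpowers u)
    rw [commutatorElement_eq_one_iff_commute.mpr (Commute.zpow_self u i)]
    exact one_mem _)
  -- index
  let φ : M →* G := MonoidHom.mk' (fun g => ⁅(g : G), u⁆) fun g h => by
    show ⁅(g : G) * h, u⁆ = ⁅(g : G), u⁆ * ⁅(h : G), u⁆
    have hc := mem_center_iff.mp (hZcen ((hMZ h).mp h.2))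
    calc ⁅(g : G) * h, u⁆ = g * ⁅(h : G), u⁆ * (g : G)⁻¹ * ⁅(g : G), u⁆ := by
          simp only [commutatorElement_def]; group
      _ = ⁅(g : G), u⁆ * ⁅(h : G), u⁆ := by
          rw [hc, mul_inv_cancel_right]
          exact (hc _).symm
  have hker : φ.ker = U.subgroupOf M := by
    ext g
    rw [MonoidHom.mem_ker, mem_subgroupOf]
    show ⁅(g : G), u⁆ = 1 ↔ _
    obtain ⟨k, hk⟩ := exists_conj D (g : G)
    rw [mem_iff D hk, ← zpow_eq_zpow D, zpow_one, ← hk, commutatorElement_def, mul_inv_eq_one]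
  have hrange : φ.range ≤ Z := by
    rintro _ ⟨g, rfl⟩
    exact (hMZ g).mp g.2
  have hidx : U.relIndex M = p := by
    rw [relIndex, ← hker, index_ker]
    refine ((Nat.dvd_prime hp.out).mp (hZc ▸ card_dvd_of_le hrange)).resolve_left fun h => hMU ?_
    intro g hg
    have : φ ⟨g, hg⟩ = 1 := mem_bot.mp (eq_bot_of_card_eq _ h ▸ ⟨⟨g, hg⟩, rfl⟩)
    have := MonoidHom.mem_ker.mpr this
    rw [hker] at this
    exact this
  refine ⟨hidx, ?_⟩
  obtain ⟨x, hxM, hxU⟩ := SetLike.not_le_iff_exists.mp hMU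
  have hpowU : ∀ g ∈ M, g ^ p ∈ U := by
    intro g hg
    have := pow_index_mem (U.subgroupOf M) ⟨g, hg⟩
    rw [show (U.subgroupOf M).index = p from hidx, mem_subgroupOf] at this
    exact this
  -- the `p`-th power of `u ^ i * x`
  obtain ⟨c, hc⟩ := mem_zpowers_iff.mp ((hMZ x).mp hxM)
  have hxk : x * u * x⁻¹ = u ^ (1 + (p : ℤ) ^ (n - 1) * c) := by
    rw [zpow_add, zpow_one, ← hzu, hc, mem_center_iff.mp (hZcen ((hMZ x).mp hxM)) u,
      commutatorElement_def]
    group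
  have hcp : ¬ (p : ℤ) ∣ c := fun ⟨e, he⟩ => hxU ((mem_iff D hxk).mpr
    ⟨e, by rw [hq, he]; ring⟩)
  have hxu : ∀ i : ℤ, ⁅x, u ^ i⁆ = u ^ ((p : ℤ) ^ (n - 1) * c * i) := by
    intro i
    rw [commutatorElement_def, ← conj_zpow, hxk, ← zpow_mul, ← zpow_neg, ← zpow_add]
    congr 1
    ring
  obtain ⟨s, hs⟩ : ∃ s : ℤ, x ^ p = u ^ ((p : ℤ) * s) := by
    obtain ⟨j, hj⟩ := mem_zpowers_iff.mp (D.gen ▸ hpowU x hxM : x ^ p ∈ zpowers u)
    have h1 : ⁅x, u ^ j⁆ = 1 := by
      rw [hj, commutatorElement_eq_one_iff_commute]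
      exact Commute.self_pow x p
    rw [hxu, ← zpow_zero u, zpow_eq_zpow D, sub_zero, hq, mul_assoc,
      mul_dvd_mul_iff_left (pow_ne_zero _ (by exact_mod_cast hp.out.ne_zero))] at h1
    obtain ⟨s, rfl⟩ := ((Nat.prime_iff_prime_int.mp hp.out).dvd_or_dvd h1).resolve_left hcp
    exact ⟨s, hj.symm⟩
  obtain ⟨T, hT⟩ : ∃ T : ℤ, (p : ℤ) ^ (n - 1) * c * p.choose 2 = (p : ℤ) * T ∧
      IsCoprime (1 + T) ((p : ℤ) ^ (n - 1)) := by
    rcases hp.out.eq_two_or_odd with h2 | hodd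
    · subst h2
      obtain ⟨e, he⟩ : ∃ e, n = e + 3 := ⟨n - 3, by have := hn3 rfl; omega⟩
      subst he
      refine ⟨2 ^ (e + 1) * c, by
        rw [show e + 3 - 1 = e + 2 from rfl]; norm_num; ring, IsCoprime.pow_right ?_⟩
      exact ⟨1, -(2 ^ e * c), by push_cast; ring⟩
    · obtain ⟨w, hw⟩ := hp.out.dvd_choose_self (k := 2) two_ne_zero
        (lt_of_le_of_ne hp.out.two_le (by omega))
      refine ⟨(p : ℤ) ^ (n - 1) * c * w, by rw [hw]; push_cast; ring, IsCoprime.pow_right ?_⟩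
      exact ⟨1, -((p : ℤ) ^ (n - 2) * c * w), by
        rw [show n - 1 = n - 2 + 1 by omega, pow_succ]; ring⟩
  have hpw : ∀ i : ℤ, (u ^ i * x) ^ p = u ^ ((p : ℤ) * (i * (1 + T) + s)) := by
    intro i
    have hcc : ⁅x, u ^ i⁆ ∈ center G := by
      refine hZcen ?_
      rw [hxu, mul_assoc, ← hzu]
      exact zpow_mem_zpowers z _
    rw [PGroup.mul_pow_of_commute_commutator (mem_center_iff.mp hcc _).symm
      (mem_center_iff.mp hcc _).symm, hs, hxu, ← zpow_natCast, ← zpow_mul, ← zpow_natCast (u ^ _),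
      ← zpow_mul, ← zpow_add, ← zpow_add]
    congr 1
    linear_combination i * hT.1
  obtain ⟨v, w, hvw⟩ := hT.2
  set e := u ^ (-(s * v)) * x with he
  have hep : e ^ p = 1 := by
    rw [hpw, ← zpow_zero u, zpow_eq_zpow D, sub_zero, hq]
    exact ⟨s * w, by linear_combination -(p : ℤ) * s * hvw⟩
  have hxe : x = u ^ (s * v) * e := by rw [he, ← mul_assoc, ← zpow_add, add_neg_cancel, zpow_zero, one_mul]
  have heM : e ∈ M := mul_mem (hUM (mem_U D _)) hxM
  have heU : e ∉ U := fun h => hxU (hxe ▸ mul_mem (mem_U D _) h)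
  -- the elements killed by `p`
  set E := Z ⊔ zpowers e with hE
  have hEab : IsMulCommutative E := by
    rw [← le_centralizer_iff_isMulCommutative]
    refine sup_le (hZcen.trans (center_le_centralizer _)) (zpowers_le.mpr ?_)
    rw [mem_centralizer_iff]
    intro y hy
    obtain ⟨a, ha, b, hb, rfl⟩ := mem_sup_of_normal_left.mp hy
    obtain ⟨j, rfl⟩ := mem_zpowers_iff.mp hb
    have h1 : Commute a e := (mem_center_iff.mp (hZcen ha) e).symm
    exact (h1.mul_left (Commute.zpow_self e j)).eq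
  have hEp : ∀ y ∈ E, y ^ p = 1 := by
    intro y hy
    obtain ⟨a, ha, b, hb, rfl⟩ := mem_sup_of_normal_left.mp hy
    obtain ⟨i, rfl⟩ := mem_zpowers_iff.mp ha
    obtain ⟨j, rfl⟩ := mem_zpowers_iff.mp hb
    have h1 : Commute (z ^ i) (e ^ j) := ((mem_center_iff.mp
      (hZcen (zpow_mem_zpowers z i)) _).symm)
    rw [h1.mul_pow, ← zpow_natCast, ← zpow_natCast (e ^ j), zpow_comm, zpow_comm e j, zpow_natCast,
      zpow_natCast, hzp, hep, one_zpow, one_zpow, one_mul]
  have hEM : E ≤ M := sup_le (hZU.trans hUM) (zpowers_le.mpr heM)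
  have hsol : ∀ y ∈ M, y ^ p = 1 → y ∈ E := by
    intro y hyM hyp
    -- a power of `e` moves `y` into `U`
    haveI : (U.subgroupOf M).Normal := normal_subgroupOf
    have htop : U.subgroupOf M ⊔ zpowers (⟨e, heM⟩ : M) = ⊤ := by
      have h1 := relIndex_mul_relIndex (U.subgroupOf M) (U.subgroupOf M ⊔ zpowers ⟨e, heM⟩) ⊤
        le_sup_left le_top
      rw [relIndex_top_right, relIndex_top_right, show (U.subgroupOf M).index = p from hidx] at h1
      rcases (Nat.dvd_prime hp.out).mp ⟨_, h1.symm⟩ with h2 | h2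
      · refine absurd ?_ heU
        have := relIndex_eq_one.mp h2 (mem_sup_right (mem_zpowers (⟨e, heM⟩ : M)))
        exact this
      · rw [h2] at h1
        exact index_eq_one.mp (Nat.eq_of_mul_eq_mul_left hp.out.pos (h1.trans (mul_one p).symm))
    obtain ⟨a, ha, b, hb, hab⟩ := mem_sup_of_normal_left.mp
      (htop ▸ mem_top (⟨y, hyM⟩ : M) : (⟨y, hyM⟩ : M) ∈ U.subgroupOf M ⊔ zpowers ⟨e, heM⟩)
    obtain ⟨j, rfl⟩ := mem_zpowers_iff.mp hb
    have hy : y = (a : G) * e ^ j := (congrArg Subtype.val hab).symm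
    obtain ⟨i, hi⟩ := mem_zpowers_iff.mp (D.gen ▸ mem_subgroupOf.mp ha : (a : G) ∈ zpowers u)
    rw [hy, ← hi]
    by_cases hj : (p : ℤ) ∣ j
    · obtain ⟨j', rfl⟩ := hj
      rw [zpow_mul, zpow_natCast, hep, one_zpow, mul_one] at hy ⊢
      refine mem_sup_left (hroot i ?_)
      rw [hi, ← hy, hyp]
    · refine mul_mem (mem_sup_left (hroot i ?_)) (mem_sup_right (zpow_mem_zpowers e j))
      -- the `p`-th power of a product
      have hw : y ^ p = (u ^ i) ^ p * (e ^ j) ^ p * ⁅e ^ j, u ^ i⁆ ^ p.choose 2 := by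
        rw [hy, ← hi]
        have hcc : ⁅e ^ j, u ^ i⁆ ∈ center G := by
          refine hZcen ?_
          obtain ⟨k, hk⟩ := exists_conj D (e ^ j)
          have hd := (mem_M_iff D hk).mp (zpow_mem heM j)
          obtain ⟨f, hf⟩ := hd
          rw [commutatorElement_def, ← conj_zpow, hk, ← zpow_mul, ← zpow_neg, ← zpow_add,
            show k * i + -i = (p : ℤ) ^ (n - 1) * (f * i) by linear_combination i * hf, ← hzu]
          exact zpow_mem_zpowers z _
        exact PGroup.mul_pow_of_commute_commutator (mem_center_iff.mp hcc _).symm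
          (mem_center_iff.mp hcc _).symm p
      have hej : (e ^ j) ^ p = 1 := by
        rw [← zpow_natCast, zpow_comm, zpow_natCast, hep, one_zpow]
      obtain ⟨k, hk⟩ := exists_conj D (e ^ j)
      obtain ⟨f, hf⟩ := (mem_M_iff D hk).mp (zpow_mem heM j)
      have hcom : ⁅e ^ j, u ^ i⁆ = u ^ ((p : ℤ) ^ (n - 1) * f * i) := by
        rw [commutatorElement_def, ← conj_zpow, hk, ← zpow_mul, ← zpow_neg, ← zpow_add]
        congr 1
        linear_combination i * hf
      rw [hyp, hej, mul_one, hcom] at hw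
      rw [eq_comm, ← zpow_natCast (u ^ i), ← zpow_mul, ← zpow_natCast (u ^ _), ← zpow_mul,
        ← zpow_add, ← zpow_zero u, zpow_eq_zpow D, sub_zero] at hw
      rw [← zpow_natCast (u ^ i), ← zpow_mul, ← zpow_zero u, zpow_eq_zpow D, sub_zero]
      rcases hp.out.eq_two_or_odd with h2 | hodd
      · subst h2
        obtain ⟨e', he'⟩ : ∃ e, n = e + 3 := ⟨n - 3, by have := hn3 rfl; omega⟩
        subst he'
        rw [show e' + 3 - 1 = e' + 2 from rfl, Nat.choose_self] at hw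
        have h3 : (2 : ℤ) ^ (e' + 3) ∣ i * 2 * (1 + 2 ^ (e' + 1) * f) := by
          push_cast at hw
          rw [mul_one] at hw
          rw [show i * 2 * (1 + 2 ^ (e' + 1) * f) = i * 2 + 2 ^ (e' + 2) * f * i by ring]
          exact hw
        exact (IsCoprime.pow_left (m := e' + 3)
          (⟨-(2 ^ e' * f), 1, by ring⟩ : IsCoprime (2 : ℤ) (1 + 2 ^ (e' + 1) * f))).dvd_of_dvd_mul_right h3
      · obtain ⟨w', hw'⟩ := hp.out.dvd_choose_self (k := 2) two_ne_zero
          (lt_of_le_of_ne hp.out.two_le (by omega))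
        have h3 : (p : ℤ) ^ n ∣ (p : ℤ) ^ (n - 1) * f * i * (p.choose 2 : ℤ) :=
          ⟨f * i * w', by rw [hw', hq]; push_cast; ring⟩
        exact (dvd_add_left h3).mp hw
  have hΩ : omegaOne p M = E := le_antisymm ((closure_le _).mpr fun y hy => hsol y hy.1 hy.2)
    fun y hy => subset_closure ⟨hEM hy, hEp y hy⟩
  rw [hΩ]
  refine ⟨⟨hEab, hEp⟩, ?_, ?_⟩
  · have hZe : Z ⊓ zpowers e = ⊥ := by
      rcases (Nat.dvd_prime hp.out).mp
          ((orderOf_eq_prime hep fun h => heU (h ▸ U.one_mem)) ▸ Nat.card_zpowers e ▸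
            card_dvd_of_le (inf_le_right : Z ⊓ zpowers e ≤ _)) with h | h
      · exact eq_bot_of_card_eq _ h
      · exfalso
        refine heU (hZU (inf_le_left (a := Z) (b := zpowers e) ?_))
        rw [eq_of_le_of_card_ge inf_le_right (by
          rw [h, Nat.card_zpowers, orderOf_eq_prime hep fun h' => heU (h' ▸ U.one_mem)])]
        exact mem_zpowers e
    have h1 := relIndex_mul_relIndex ⊥ Z E bot_le le_sup_left
    rw [relIndex_bot_left, relIndex_bot_left, hZc, hE, relIndex_sup_left,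
      ← inf_relIndex_right, hZe, relIndex_bot_left, Nat.card_zpowers,
      orderOf_eq_prime hep fun h => heU (h ▸ U.one_mem)] at h1
    rw [← h1]; ring
  · -- `E` is normal, and any normal subgroup of exponent `p` like it lies in `M`
    have hEn : E.Normal := by
      refine ⟨fun y hy g => hsol _ ((hMZ _).mpr ?_) (by rw [conj_pow, hEp y hy, mul_one, mul_inv_cancel])⟩
      obtain ⟨l, hl⟩ := exists_conj D g⁻¹
      obtain ⟨k, hk⟩ := exists_conj D y
      obtain ⟨f, hf⟩ := (mem_M_iff D hk).mp (hEM hy)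
      have h1 : ⁅y, u ^ l⁆ ∈ Z := by
        rw [commutatorElement_def, ← conj_zpow, hk, ← zpow_mul, ← zpow_neg, ← zpow_add,
          show k * l + -l = (p : ℤ) ^ (n - 1) * (f * l) by linear_combination l * hf, ← hzu]
        exact zpow_mem_zpowers z _
      have h2 : ⁅g * y * g⁻¹, u⁆ = g * ⁅y, u ^ l⁆ * g⁻¹ := by
        rw [← hl]; simp only [commutatorElement_def]; group
      rw [h2, mem_center_iff.mp (hZcen h1) g, mul_inv_cancel_right]
      exact h1
    rw [characteristic_iff_map_le]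
    intro ψ y hy
    have hy' := hy
    obtain ⟨v, hv, rfl⟩ := hy'
    refine hsol _ ((hMZ _).mpr ?_) (by rw [← map_pow, hEp v hv, map_one])
    have hn' : (E.map ψ.toMonoidHom).Normal := hEn.map _ ψ.surjective
    have h1 : ⁅ψ.toMonoidHom v, u⁆ ∈ E.map ψ.toMonoidHom := by
      rw [commutatorElement_def, mul_assoc, mul_assoc]
      refine mul_mem hy ?_
      rw [← mul_assoc]
      exact hn'.conj_mem _ (inv_mem hy) u
    have h2 : ⁅ψ.toMonoidHom v, u⁆ ∈ U := by
      rw [commutatorElement_def]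
      exact mul_mem (D.nrm.conj_mem _ (D.gen ▸ mem_zpowers u) _)
        (inv_mem (D.gen ▸ mem_zpowers u))
    obtain ⟨i, hi⟩ := mem_zpowers_iff.mp (D.gen ▸ h2 : ⁅ψ.toMonoidHom v, u⁆ ∈ zpowers u)
    obtain ⟨w', hw', hw''⟩ := h1
    rw [← hi]
    refine hroot i ?_
    rw [hi, ← hw'', ← map_pow, hEp w' hw', map_one]

/-- Let G be a finite non-abelian p-group with a cyclic normal subgroup U of order p^n such that C_G(U) = U. Then either p = 2 and G is dihedral, generalized quaternion or semidihedral of order 2^(n+1); or, writing U₁ for the subgroup generated by the p-th powers of elements of U and M = C_G(U₁), the subgroup U has index p in M and the subgroup Ω₁(M) generated by the elements of M of order dividing p is elementary abelian of order p² and characteristic in G. -/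
theorem result {G : Type*} [Group G] [Finite G] {p : ℕ} [Fact p.Prime] (hG : IsPGroup p G) (hna : ¬ IsMulCommutative G) (U : Subgroup G) [U.Normal] (hU : IsCyclic U) (n : ℕ) (hUn : Nat.card U = p ^ n) (hC : Subgroup.centralizer (U : Set G) = U) : (p = 2 ∧ Nat.card G = 2 ^ (n + 1) ∧ ((∃ m : ℕ, Nonempty (G ≃* DihedralGroup m)) ∨ (∃ m : ℕ, Nonempty (G ≃* QuaternionGroup m)) ∨ Cfsg.IsQuasiDihedral G)) ∨ (U.relIndex (Subgroup.centralizer (Cfsg.powerClosure p 1 U : Set G)) = p ∧ Cfsg.IsElementaryAbelian p (Cfsg.omegaOne p (Subgroup.centralizer (Cfsg.powerClosure p 1 U : Set G))) ∧ Nat.card ↥(Cfsg.omegaOne p (Subgroup.centralizer (Cfsg.powerClosure p 1 U : Set G))) = p ^ 2 ∧ (Cfsg.omegaOne p (Subgroup.centralizer (Cfsg.powerClosure p 1 U : Set G))).Characteristic) := by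
  obtain ⟨⟨u, huU⟩, hu⟩ := hU.exists_generator
  have hgen : U = zpowers u := by
    refine le_antisymm (fun y hy => ?_) (zpowers_le.mpr huU)
    obtain ⟨i, hi⟩ := mem_zpowers_iff.mp (hu ⟨y, hy⟩)
    exact mem_zpowers_iff.mpr ⟨i, congrArg Subtype.val hi⟩
  have hord : orderOf u = p ^ n := by rw [← Nat.card_zpowers, ← hgen, hUn]
  have h2 : 2 ≤ n := by
    by_contra h
    -- otherwise `U` is central
    have hcen : U ≤ center G := by
      rcases (show n = 0 ∨ n = 1 by omega) with rfl | rfl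
      · rw [eq_bot_of_card_eq U (by rw [hUn, pow_zero])]; exact bot_le
      · exact PGroup.le_center_of_card_eq_prime hG (by rw [hUn, pow_one])
    have htop : U = ⊤ := by
      rw [← hC, eq_top_iff']
      exact fun g => mem_centralizer_iff.mpr fun y hy => (mem_center_iff.mp (hcen hy) g).symm
    exact hna ⟨⟨fun a b => (mem_center_iff.mp (hcen (htop ▸ mem_top a)) b).symm⟩⟩
  have D : Dat p U u n := ⟨hG, hgen, hord, inferInstance, hC, h2⟩
  obtain ⟨g₀, hg₀⟩ : ∃ g, g ∉ U := by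
    by_contra h
    push Not at h
    refine hna ⟨⟨fun a b => ?_⟩⟩
    exact (mem_centralizer_iff.mp (hC.symm ▸ h b : b ∈ centralizer (U : Set G)) a (h a))
  set M := centralizer (powerClosure p 1 U : Set G) with hM
  -- when does the first alternative hold?
  have hfirst : p = 2 → (∀ b (k : ℤ), b ∉ U → b * u * b⁻¹ = u ^ k → (2 : ℤ) ^ (n - 1) ∣ k + 1) →
      (∀ g h (k l m : ℤ), g ∉ U → h ∉ U → g * u * g⁻¹ = u ^ k → h * u * h⁻¹ = u ^ l →
        g * h * u * (g * h)⁻¹ = u ^ m → g * h ∈ U) →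
      (p = 2 ∧ Nat.card G = 2 ^ (n + 1) ∧ ((∃ m : ℕ, Nonempty (G ≃* DihedralGroup m)) ∨
        (∃ m : ℕ, Nonempty (G ≃* QuaternionGroup m)) ∨ Cfsg.IsQuasiDihedral G)) := by
    intro hp2 hno hmul
    subst hp2
    refine ⟨rfl, first_case D ?_ hno⟩
    refine index_eq_two_iff'.mpr ⟨g₀, fun g => ?_⟩
    by_cases hg : g ∈ U
    · exact Or.inr ⟨hg, fun h => hg₀ (by simpa using U.mul_mem h (U.inv_mem hg))⟩
    · obtain ⟨k, hk⟩ := exists_conj D g₀
      obtain ⟨l, hl⟩ := exists_conj D g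
      obtain ⟨m, hm⟩ := exists_conj D (g₀ * g)
      exact Or.inl ⟨hmul g₀ g k l m hg₀ hg hk hl hm, hg⟩
  by_cases hn2 : p = 2 ∧ n = 2
  · obtain ⟨rfl, rfl⟩ := hn2
    left
    have hkey : ∀ b (k : ℤ), b ∉ U → b * u * b⁻¹ = u ^ k → (4 : ℤ) ∣ k + 1 := by
      intro b k hb hk
      have h1 : ¬ (4 : ℤ) ∣ k - 1 := fun h => hb ((mem_iff D hk).mpr (by norm_num; exact h))
      rcases Int.even_or_odd k with ⟨r, rfl⟩ | ⟨r, rfl⟩
      · exfalso
        obtain ⟨l, hl⟩ := exists_conj D b⁻¹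
        have h := conj_mul D hk hl (m := 1) (by group)
        obtain ⟨f, hf⟩ := h
        norm_num at hf
        have h2 : (2 : ℤ) ∣ 1 := ⟨2 * f + r * l, by linear_combination hf⟩
        norm_num at h2
      · omega
    refine hfirst rfl (fun b k hb hk => ?_) fun g h k l m hg hh hk hl hm => ?_
    · norm_num
      have := hkey b k hb hk
      omega
    · obtain ⟨e1, he1⟩ := hkey g k hg hk
      obtain ⟨e2, he2⟩ := hkey h l hh hl
      obtain ⟨f, hf⟩ := conj_mul D hk hl hm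
      refine (mem_iff D hm).mpr ⟨f + 4 * e1 * e2 - e1 - e2, ?_⟩
      push_cast at hf ⊢
      rw [show k = 4 * e1 - 1 by linarith, show l = 4 * e2 - 1 by linarith] at hf
      linear_combination hf
  by_cases hMU : M ≤ U
  · left
    have hn1 : ∀ g, g ∉ U → g ^ p ∈ U → p = 2 ∧ ∀ k, g * u * g⁻¹ = u ^ k → (p : ℤ) ^ (n - 1) ∣ k + 1 := by
      intro g hg hgp
      obtain ⟨k, hk⟩ := exists_conj D g
      obtain ⟨h1, -⟩ := two_of_not_mem D hk hgp fun h => hg (hMU h)
      exact ⟨h1, fun k hk => (two_of_not_mem D hk hgp fun h => hg (hMU h)).2⟩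
    -- some element outside `U` has `p`-th power inside
    have hdesc : ∀ g, g ∉ U → ∃ i, g ^ p ^ i ∉ U ∧ (g ^ p ^ i) ^ p ∈ U := by
      intro g hg
      classical
      obtain ⟨j, hj⟩ := hG.exists_orderOf_eq_pow g
      have hex : ∃ i, g ^ p ^ i ∈ U := ⟨j, by rw [← hj, pow_orderOf_eq_one]; exact U.one_mem⟩
      have h0 : Nat.find hex ≠ 0 := fun h => hg (by simpa [h] using Nat.find_spec hex)
      refine ⟨Nat.find hex - 1, Nat.find_min hex (by omega), ?_⟩
      rw [← pow_mul, ← pow_succ, show Nat.find hex - 1 + 1 = Nat.find hex by omega]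
      exact Nat.find_spec hex
    obtain ⟨i, hi1, hi2⟩ := hdesc g₀ hg₀
    have hp2 := (hn1 _ hi1 hi2).1
    subst hp2
    have hn3 : 3 ≤ n := by
      have : n ≠ 2 := fun h => hn2 ⟨rfl, h⟩
      omega
    have hsq : ∀ g, g ^ 2 ∈ U := by
      intro g
      by_contra hg
      obtain ⟨i, hi1, hi2⟩ := hdesc _ hg
      obtain ⟨k, hk⟩ := exists_conj D ((g ^ 2) ^ 2 ^ i)
      obtain ⟨l, hl⟩ := exists_conj D (g ^ 2 ^ i)
      have h4 : (4 : ℤ) ∣ (2 : ℤ) ^ (n - 1) := by
        rw [show n - 1 = n - 3 + 2 by omega, pow_add]; exact dvd_mul_left _ _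
      have h8 : (4 : ℤ) ∣ (2 : ℤ) ^ n := h4.trans (pow_dvd_pow 2 (by omega))
      have hkk := h4.trans ((hn1 _ hi1 hi2).2 k hk)
      have hmul : (4 : ℤ) ∣ k - l * l := by
        refine h8.trans ?_
        have := conj_mul D hl hl (m := k) (by
          rw [← hk, ← pow_mul, mul_comm 2, pow_mul, pow_two])
        exact_mod_cast this
      rcases Int.even_or_odd l with ⟨r, rfl⟩ | ⟨r, rfl⟩
      · obtain ⟨a, ha⟩ := hkk
        obtain ⟨b, hb⟩ := hmul
        have h5 : (4 : ℤ) ∣ 1 := ⟨a - b - r * r, by linear_combination ha - hb⟩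
        norm_num at h5
      · obtain ⟨a, ha⟩ := hkk
        obtain ⟨b, hb⟩ := hmul
        have h5 : (4 : ℤ) ∣ 2 := ⟨a - b - r * r - r, by linear_combination ha - hb⟩
        norm_num at h5
    have hno : ∀ b (k : ℤ), b ∉ U → b * u * b⁻¹ = u ^ k → (2 : ℤ) ^ (n - 1) ∣ k + 1 :=
      fun b k hb hk => (hn1 b hb (hsq b)).2 k hk
    refine hfirst rfl hno fun g h k l m hg hh hk hl hm => hMU ((mem_M_iff D hm).mpr ?_)
    obtain ⟨e1, he1⟩ := hno g k hg hk
    obtain ⟨e2, he2⟩ := hno h l hh hl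
    obtain ⟨f, hf⟩ := (pow_dvd_pow ((2 : ℕ) : ℤ) (show n - 1 ≤ n by omega)).trans (conj_mul D hk hl hm)
    push_cast at hf ⊢
    exact ⟨f + l * e1 - e2, by linear_combination hf + l * he1 - he2⟩
  · exact Or.inr (second_case D (fun h => by
      have : n ≠ 2 := fun h' => hn2 ⟨h, h'⟩
      omega) hMU)

end Cfsg.Agent.S3761
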