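import Cfsg.Statements.S3764
import Cfsg.Agent.OddLocal43.ExtraspecialModule

set_option autoImplicit false
open Cfsg

namespace Cfsg.Agent.S3764

/-- Let p, q, r be distinct primes and let X, Q, V be subgroups of a finite group with X of order r, Q an extraspecial q-group normalized by X with C_Q(X) = Z(Q), and V an elementary abelian p-group normalized by X and Q on which XQ acts faithfully ((X ⊔ Q) ∩ C(V) = 1). If C_V(X) = 1, then q = 2, r = 2^n + 1 for some n, and Q has order 2^(2n+1). -/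
theorem result {G : Type*} [Group G] [Finite G] {p q r : ℕ} (hp : p.Prime) (hq : q.Prime) (hr : r.Prime) (hpq : p ≠ q) (hpr : p ≠ r) (hqr : q ≠ r) (X Q V : Subgroup G) (hX : Nat.card X = r) (hQ : Cfsg.IsExtraspecial q ↥Q) (hXQ : X ≤ Subgroup.normalizer (Q : Set G)) (hCQ : Q ⊓ Subgroup.centralizer (X : Set G) = (Subgroup.center ↥Q).map Q.subtype) (hV : Cfsg.IsElementaryAbelian p V) (hXV : X ≤ Subgroup.normalizer (V : Set G)) (hQV : Q ≤ Subgroup.normalizer (V : Set G)) (hfaith : (X ⊔ Q) ⊓ Subgroup.centralizer (V : Set G) = ⊥) (hCV : V ⊓ Subgroup.centralizer (X : Set G) = ⊥) : q = 2 ∧ ∃ n : ℕ, r = 2 ^ n + 1 ∧ Nat.card Q = 2 ^ (2 * n + 1) := by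
  haveI := Fact.mk hp
  haveI := Fact.mk hq
  haveI := Fact.mk hr
  have hXQ1 : ∀ g ∈ X ⊔ Q, (∀ v ∈ V, g * v = v * g) → g = 1 := fun g hg h =>
    Subgroup.mem_bot.mp (hfaith ▸ ⟨hg, Subgroup.mem_centralizer_iff.mpr fun v hv => (h v hv).symm⟩)
  obtain ⟨x, hx⟩ : ∃ x : X, x ≠ 1 := by
    haveI : Nontrivial X := Finite.one_lt_card_iff_nontrivial.mp (by rw [hX]; exact hr.one_lt)
    exact exists_ne 1
  have hxgen : Subgroup.zpowers (x : G) = X := by
    refine Subgroup.eq_of_le_of_card_ge (Subgroup.zpowers_le.mpr x.2) ?_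
    rw [Nat.card_zpowers, Subgroup.orderOf_coe, orderOf_eq_card_of_forall_mem_zpowers
      (fun y => mem_zpowers_of_prime_card hX hx)]
  have hxr : (x : G) ^ r = 1 := by
    rw [← hX, ← Subgroup.coe_pow, pow_card_eq_one']; rfl
  let σ : MulAut Q := Subgroup.normalizerMonoidHom Q ⟨x, hXQ x.2⟩
  let τ : MulAut V := Subgroup.normalizerMonoidHom V ⟨x, hXV x.2⟩
  let φ : ↥Q →* MulAut V := (Subgroup.normalizerMonoidHom V).comp (Subgroup.inclusion hQV)
  have hσ : ∀ u : Q, ((σ u : Q) : G) = (x : G) * u * (x : G)⁻¹ := fun u => by simp [σ]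
  have hτ : ∀ v : V, ((τ v : V) : G) = (x : G) * v * (x : G)⁻¹ := fun v => by simp [τ]
  have hφv : ∀ (u : Q) (v : V), ((φ u v : V) : G) = (u : G) * v * (u : G)⁻¹ := fun u v => by simp [φ]
  have hC : ∀ (g : G), (x : G) * g * (x : G)⁻¹ = g → g ∈ Subgroup.centralizer (X : Set G) := by
    intro g hg
    rw [← hxgen, Subgroup.zpowers_eq_closure, Subgroup.centralizer_closure,
      Subgroup.mem_centralizer_singleton_iff]
    exact (mul_inv_eq_iff_eq_mul.mp hg).symm
  refine OddLocal43.fermat_prime_of_action (ℓ := p) hr hpq hpr hqr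
    (fun a b => hV.1.is_comm.comm a b) (fun v => Subtype.ext (hV.2 v v.2)) hQ.1.1
    (fun a b => hQ.1.2.2 ▸ Subgroup.commutator_mem_commutator (Subgroup.mem_top a) (Subgroup.mem_top b))
    hQ.2 ?_ φ (fun u _ hu => Subtype.ext (hXQ1 u (Subgroup.mem_sup_right u.2) fun v hv => ?_))
    σ τ ?_ ?_ ?_ ?_ ?_
  · intro h
    have h1 : IsMulCommutative ↥Q := ⟨⟨fun a b => Subgroup.mem_center_iff.mp (h ▸ Subgroup.mem_top b) a⟩⟩
    have h2 : commutator ↥Q = ⊥ := by
      rw [_root_.commutator_def, Subgroup.commutator_eq_bot_iff_le_centralizer]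
      exact fun a _ => Subgroup.mem_centralizer_iff.mpr fun b _ => h1.is_comm.comm b a
    rw [hQ.1.2.2, h] at h2
    have h3 := hQ.2
    rw [h, h2, Subgroup.card_bot] at h3
    exact hq.ne_one h3.symm
  · have := congrArg Subtype.val (DFunLike.congr_fun hu ⟨v, hv⟩)
    rw [hφv] at this
    exact mul_inv_eq_iff_eq_mul.mp this
  · show Subgroup.normalizerMonoidHom Q _ ^ r = 1
    rw [← map_pow, show (⟨(x : G), hXQ x.2⟩ : Subgroup.normalizer (Q : Set G)) ^ r = 1 from Subtype.ext hxr,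
      map_one]
  · intro u
    constructor
    · intro h
      have h1 : (u : G) ∈ (Subgroup.center ↥Q).map Q.subtype :=
        hCQ ▸ ⟨u.2, hC u (by rw [← hσ, h])⟩
      obtain ⟨w, hw, hwu⟩ := h1
      exact Subtype.ext hwu ▸ hw
    · intro h
      have h1 : (u : G) ∈ Q ⊓ Subgroup.centralizer (X : Set G) := hCQ ▸ Subgroup.mem_map_of_mem _ h
      exact Subtype.ext (by rw [hσ, (Subgroup.mem_centralizer_iff.mp h1.2 x x.2), mul_inv_cancel_right])
  · show Subgroup.normalizerMonoidHom V _ ^ r = 1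
    rw [← map_pow, show (⟨(x : G), hXV x.2⟩ : Subgroup.normalizer (V : Set G)) ^ r = 1 from Subtype.ext hxr,
      map_one]
  · intro v hv
    exact Subtype.ext (Subgroup.mem_bot.mp (hCV ▸ ⟨v.2, hC v (by rw [← hτ, hv])⟩))
  · intro u
    apply MulEquiv.ext
    intro v
    apply Subtype.ext
    simp only [MulAut.mul_apply, hτ, hφv, hσ]
    group

end Cfsg.Agent.S3764
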