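import Cfsg.Statements.S3765
import Cfsg.Agent.Lib.Coprime.HallHigman

set_option autoImplicit false
open Cfsg

namespace Cfsg.Agent.S3765

/-- Let p, q, r be distinct primes and let X, Q, V be subgroups of a finite group with X of order r normalizing the q-group Q and acting faithfully on it (X ∩ C(Q) = 1), and V a nontrivial elementary abelian p-group normalized by X and Q on which XQ acts faithfully. If q = 2 and r has the form 2^n + 1, assume in addition that Q is abelian. Then C_V(X) ≠ 1. -/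
theorem result {G : Type*} [Group G] [Finite G] {p q r : ℕ} (hp : p.Prime) (hq : q.Prime) (hr : r.Prime) (hpq : p ≠ q) (hpr : p ≠ r) (hqr : q ≠ r) (X Q V : Subgroup G) (hX : Nat.card X = r) (hQ : IsPGroup q Q) (hXQ : X ≤ Subgroup.normalizer (Q : Set G)) (hXfaith : X ⊓ Subgroup.centralizer (Q : Set G) = ⊥) (hV : Cfsg.IsElementaryAbelian p V) (hV1 : V ≠ ⊥) (hXV : X ≤ Subgroup.normalizer (V : Set G)) (hQV : Q ≤ Subgroup.normalizer (V : Set G)) (hfaith : (X ⊔ Q) ⊓ Subgroup.centralizer (V : Set G) = ⊥) (hexc : q = 2 → (∃ n : ℕ, r = 2 ^ n + 1) → IsMulCommutative Q) : V ⊓ Subgroup.centralizer (X : Set G) ≠ ⊥ := by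
  intro hfix
  have := Fact.mk hp
  have := Fact.mk hq
  have := Fact.mk hr
  obtain ⟨a, ha⟩ : ∃ a : G, X = Subgroup.zpowers a :=
    (isCyclic_of_prime_card hX).exists_zpow_surjective |>.elim fun g hg => ⟨g, le_antisymm
      (fun x hx => by obtain ⟨n, hn⟩ := hg ⟨x, hx⟩; exact ⟨n, congrArg Subtype.val hn⟩)
      (Subgroup.zpowers_le.mpr g.2)⟩
  have haX : a ∈ X := ha ▸ Subgroup.mem_zpowers a
  have har : a ^ r = 1 := by
    rw [← hX]; exact congrArg Subtype.val (pow_card_eq_one' (x := (⟨a, haX⟩ : X)))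
  let N := Subgroup.normalizer (V : Set G)
  let φ : N →* MulAut V := V.normalizerMonoidHom
  have hφ : ∀ (g : N) (v : V), ((φ g v : V) : G) = g * v * (g : G)⁻¹ := fun g v => rfl
  have key : ∀ x ∈ Q, x * a = a * x := by
    intro x hx
    have h := LinAct.map_commutator_eq_one (Γ := N) hr hqr hpq hpr (V := V)
      (fun u v => hV.1.is_comm.comm u v)
      (fun v => Subtype.ext (by simpa using hV.2 v v.2)) φ ⟨a, hXV haX⟩ (Subtype.ext har)
      (fun v hv => by
        have hva : a * v * a⁻¹ = v := by simpa [hφ] using congrArg Subtype.val hv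
        have hmem : (v : G) ∈ V ⊓ Subgroup.centralizer (X : Set G) := ⟨v.2, by
          show (v : G) ∈ Subgroup.centralizer (X : Set G)
          rw [ha, Subgroup.zpowers_eq_closure, Subgroup.centralizer_closure,
            Subgroup.mem_centralizer_singleton_iff]
          calc (v : G) * a = a * v * a⁻¹ * a := by rw [hva]
            _ = a * v := by group⟩
        rw [hfix, Subgroup.mem_bot] at hmem
        exact Subtype.ext hmem)
      (Q.subgroupOf N) (hQ.of_equiv (Subgroup.subgroupOfEquivOfLe hQV).symm)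
      (Subgroup.mem_normalizer_iff.mpr fun y => by
        simp only [Subgroup.mem_subgroupOf]
        exact Subgroup.mem_normalizer_iff.mp (hXQ haX) (y : G))
      (fun h1 h2 u hu v hv => Subtype.ext (congrArg Subtype.val
        ((hexc h1 h2).is_comm.comm (⟨u, hu⟩ : Q) ⟨v, hv⟩) :))
      (x := ⟨x, hQV hx⟩) hx
    have hc : x * a * x⁻¹ * a⁻¹ ∈ (X ⊔ Q) ⊓ Subgroup.centralizer (V : Set G) := by
      refine ⟨mul_mem (mul_mem (mul_mem ?_ ?_) ?_) ?_, ?_⟩
      · exact Subgroup.mem_sup_right hx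
      · exact Subgroup.mem_sup_left haX
      · exact (X ⊔ Q).inv_mem (Subgroup.mem_sup_right hx)
      · exact (X ⊔ Q).inv_mem (Subgroup.mem_sup_left haX)
      refine Subgroup.mem_centralizer_iff.mpr fun v hv => ?_
      have h' := congrArg (fun σ : MulAut V => ((σ ⟨v, hv⟩ : V) : G)) h
      simp only [hφ, commutatorElement_def, MulAut.one_apply, Subgroup.coe_mul, Subgroup.coe_inv]
        at h'
      calc v * (x * a * x⁻¹ * a⁻¹)
          = (x * a * x⁻¹ * a⁻¹) * v * (x * a * x⁻¹ * a⁻¹)⁻¹ * (x * a * x⁻¹ * a⁻¹) := by rw [h']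
        _ = _ := by group
    rw [hfaith, Subgroup.mem_bot] at hc
    calc x * a = x * a * x⁻¹ * a⁻¹ * (a * x) := by group
      _ = a * x := by rw [hc, one_mul]
  have : a ∈ X ⊓ Subgroup.centralizer (Q : Set G) :=
    ⟨haX, Subgroup.mem_centralizer_iff.mpr key⟩
  rw [hXfaith, Subgroup.mem_bot] at this
  rw [ha, this, Subgroup.zpowers_one_eq_bot, Subgroup.card_bot] at hX
  exact hr.one_lt.ne hX

end Cfsg.Agent.S3765
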