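import Cfsg.Statements.S3767
import Cfsg.Agent.FG72.ExtraModule

set_option autoImplicit false
open Cfsg

namespace Cfsg.Agent.S3767

/-- Let P be an extraspecial p-group of order p^(2n+1) and H a cyclic group of order h prime to p acting on P (inside a common finite group: H normalizes P) so that C_P(x) = Z(P) for every non-identity x ∈ H. Then h divides p^n + 1 or h divides p^n − 1. -/
theorem result {G : Type*} [Group G] [Finite G] {p : ℕ} [Fact p.Prime] (P H : Subgroup G) (hP : Cfsg.IsExtraspecial p ↥P) (n : ℕ) (hn : Nat.card P = p ^ (2 * n + 1)) (hH : IsCyclic H) (hcop : (Nat.card H).Coprime p) (hHP : H ≤ Subgroup.normalizer (P : Set G)) (hfix : ∀ x ∈ H, x ≠ 1 → P ⊓ Subgroup.centralizer {x} = (Subgroup.center ↥P).map P.subtype) : Nat.card H ∣ p ^ n + 1 ∨ Nat.card H ∣ p ^ n - 1 := by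
  by_cases hH1 : Nat.card H = 1
  · left; rw [hH1]; exact one_dvd _
  obtain ⟨⟨g, hgH⟩, hgen⟩ := hH.exists_generator
  have hord : orderOf g = Nat.card H := by
    rw [← orderOf_eq_card_of_forall_mem_zpowers hgen, Subgroup.orderOf_mk]
  have hg1 : g ≠ 1 := fun h => hH1 (by rw [← hord, h, orderOf_one])
  let σ : MulAut P := Subgroup.normalizerMonoidHom P ⟨g, hHP hgH⟩
  have hσ : ∀ (m : ℕ) (u : P), (((σ ^ m) u : P) : G) = g ^ m * (u : G) * (g ^ m)⁻¹ := by
    intro m u
    rw [← map_pow]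
    simp
  have hZ : ∀ (m : ℕ) (z : P), z ∈ Subgroup.center P → (σ ^ m) z = z := by
    intro m z hz
    refine Subtype.ext ?_
    rw [hσ]
    have h1 : (z : G) ∈ P ⊓ Subgroup.centralizer {g} :=
      hfix g hgH hg1 ▸ Subgroup.mem_map_of_mem _ hz
    have h2 : Commute g (z : G) :=
      Subgroup.mem_centralizer_iff.mp h1.2 g rfl
    rw [(h2.pow_left m).eq, mul_inv_cancel_right]
  have hσh : σ ^ Nat.card H = 1 := by
    refine MulEquiv.ext fun u => Subtype.ext ?_
    rw [hσ, ← hord, pow_orderOf_eq_one]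
    simp
  refine FG72.ExtraModule.dvd_of_aut hP hn Nat.card_pos hcop σ hσh
    (fun z hz => by simpa using hZ 1 z hz) fun m u hu hum => ?_
  by_contra hdvd
  have hx : g ^ m ≠ 1 := fun h => hdvd (hord ▸ orderOf_dvd_of_pow_eq_one h)
  have hit : ∀ k, ((σ ^ m) ^ k) u = u * (u⁻¹ * (σ ^ m) u) ^ k := by
    intro k
    induction k with
    | zero => simp
    | succ k ih =>
      rw [pow_succ', MulAut.mul_apply, ih, map_mul, map_pow, hZ m _ hum, pow_succ',
        ← mul_assoc u (u⁻¹ * (σ ^ m) u), mul_inv_cancel_left]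
  have hzh : (u⁻¹ * (σ ^ m) u) ^ Nat.card H = 1 := by
    have h1 := hit (Nat.card H)
    rw [← pow_mul, mul_comm, pow_mul, hσh, one_pow, MulAut.one_apply, left_eq_mul] at h1
    exact h1
  have hz1 : u⁻¹ * (σ ^ m) u = 1 := by
    have h2 := PGroup.xs_center_pow hP hum
    have h3 := pow_gcd_eq_one.mpr ⟨hzh, h2⟩
    rwa [hcop, pow_one] at h3
  have hfx : g ^ m * (u : G) * (g ^ m)⁻¹ = u := by rw [← hσ, ← inv_mul_eq_one.mp hz1]
  obtain ⟨w, hw, hwu⟩ : (u : G) ∈ (Subgroup.center ↥P).map P.subtype :=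
    hfix (g ^ m) (pow_mem hgH m) hx ▸ ⟨u.2, Subgroup.mem_centralizer_iff.mpr
      fun y hy => by rw [Set.mem_singleton_iff.mp hy]; exact mul_inv_eq_iff_eq_mul.mp hfx⟩
  exact hu (Subtype.ext hwu ▸ hw)
end Cfsg.Agent.S3767
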