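import Cfsg.Statements.S3770
import Cfsg.Agent.OddLocal43.FrobeniusAction
import Cfsg.Agent.Lib.Fitting
import Cfsg.Agent.Lib.Frobenius.Nilpotent
import Cfsg.Agent.Lib.Frobenius.Kernel

set_option autoImplicit false
open Cfsg

namespace Cfsg.Agent.S3770

/-- Let G and V be subgroups of a finite group with G a Frobenius group with complement R of prime order and kernel K, G normalizing V, and V an elementary abelian ℓ-group for a prime ℓ not dividing the order of G. If C_V(R) has order ℓ, then the derived subgroup of K centralizes V. -/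
theorem result {X : Type*} [Group X] [Finite X] (G : Subgroup X) (V : Subgroup X) {ℓ : ℕ} (hℓ : ℓ.Prime) (hV : Cfsg.IsElementaryAbelian ℓ V) (hℓG : ¬ ℓ ∣ Nat.card G) (hGV : G ≤ Subgroup.normalizer (V : Set X)) (R : Subgroup ↥G) (hR : Cfsg.IsFrobeniusComplement R) (hRp : (Nat.card R).Prime) (hCV : Nat.card ↥(V ⊓ Subgroup.centralizer ((R.map G.subtype : Subgroup X) : Set X)) = ℓ) : ⁅Subgroup.closure (Subtype.val '' Cfsg.frobeniusKernel R), Subgroup.closure (Subtype.val '' Cfsg.frobeniusKernel R)⁆ ≤ Subgroup.centralizer (V : Set X) := by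
  haveI : Fact ℓ.Prime := ⟨hℓ⟩
  obtain ⟨N, hN, hNn, hc⟩ := Frobenius.exists_frobeniusKernel_subgroup hR
  obtain ⟨N', hN', -, hnil⟩ := Frobenius.frobeniusKernel_isNilpotent hR
  have hNN : N' = N := SetLike.coe_injective (hN'.trans hN.symm)
  rw [hNN] at hnil
  set K := N.map G.subtype with hK
  set R' := R.map G.subtype with hR'
  have hKc : Subgroup.closure (Subtype.val '' Cfsg.frobeniusKernel R) = K := by
    rw [← hN]
    exact Subgroup.closure_eq K
  rw [hKc]
  have hsup : K ⊔ R' = G := by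
    rw [hK, hR', ← Subgroup.map_sup, hc.sup_eq_top, ← MonoidHom.range_eq_map, Subgroup.range_subtype]
  have hKG : K ≤ G := Subgroup.map_subtype_le _
  have hRG : R' ≤ G := Subgroup.map_subtype_le _
  have hinf : K ⊓ R' = ⊥ := by
    rw [hK, hR', ← Subgroup.map_inf _ _ _ G.subtype_injective, hc.disjoint.eq_bot, Subgroup.map_bot]
  refine OddLocal43.commutator_le_centralizer_of_card_prime (ℓ := ℓ) K R' V hV ?_ ?_ hinf ?_ ?_
    (hKG.trans hGV) (hRG.trans hGV) hCV
  · rw [hsup]
    exact (hℓ.coprime_iff_not_dvd.mpr hℓG).symm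
  · rintro _ ⟨r, hr, rfl⟩
    exact Subgroup.le_normalizer_map G.subtype ⟨r, Subgroup.normalizer_eq_top_iff.mpr hNn ▸ Subgroup.mem_top r, rfl⟩
  · rintro _ ⟨r, hr, rfl⟩ hr1
    rw [Subgroup.eq_bot_iff_forall]
    rintro _ ⟨⟨k, hk, rfl⟩, hcomm⟩
    have h1 : k ∈ Subgroup.centralizer ({r} : Set G) := Subgroup.mem_centralizer_singleton_iff.mpr
      (Subtype.ext (Subgroup.mem_centralizer_singleton_iff.mp hcomm))
    have h2 := Frobenius.centralizer_le hR (fun h => hr1 (by rw [h]; rfl)) hr h1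
    rw [Subgroup.mem_bot.mp (hc.disjoint.le_bot ⟨hk, h2⟩)]
    rfl
  · exact Fitting.isNilpotent_map _ hnil

end Cfsg.Agent.S3770
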