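import Cfsg.Statements.S3772
import Cfsg.Agent.FG72.SquareSum
import Cfsg.Agent.Lib.PGroup.Basic

set_option autoImplicit false
open Cfsg
open scoped commutatorElement

namespace Cfsg.Agent.S3772

/-- Let G be a finite 2-group whose Frattini subgroup Φ(G) has order 2, with |G : Φ(G)| = 2^d, and let j be the number of elements x of G with x² = 1. Then j = 2^d, or j = 2^d + 2^(d−r) or j = 2^d − 2^(d−r) for some positive integer r with 2r ≤ d. Moreover if d = 2r and j is 2^d + 2^r or 2^d − 2^r, then G is extraspecial. -/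
theorem result {G : Type*} [Group G] [Finite G] (hG : IsPGroup 2 G) (hΦ : Nat.card (frattini G) = 2) (d : ℕ) (hd : (frattini G).index = 2 ^ d) : (Nat.card {x : G // x ^ 2 = 1} = 2 ^ d ∨ ∃ r : ℕ, 1 ≤ r ∧ 2 * r ≤ d ∧ (Nat.card {x : G // x ^ 2 = 1} = 2 ^ d + 2 ^ (d - r) ∨ Nat.card {x : G // x ^ 2 = 1} + 2 ^ (d - r) = 2 ^ d)) ∧ (∀ r : ℕ, d = 2 * r → (Nat.card {x : G // x ^ 2 = 1} = 2 ^ d + 2 ^ r ∨ Nat.card {x : G // x ^ 2 = 1} + 2 ^ r = 2 ^ d) → Cfsg.IsExtraspecial 2 G) := by
  classical
  letI : Fintype G := Fintype.ofFinite G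
  have hΦc : frattini G ≤ Subgroup.center G := by
    refine PGroup.le_center_of_card_eq_prime hG ?_
    simpa using hΦ
  have hsq : ∀ x : G, x ^ 2 ∈ frattini G := fun x => PGroup.pow_mem_frattini hG x
  obtain ⟨R, hR, hS⟩ := FG72.sq_sum_dichotomy (L := (⊥ : Subgroup G)) (W := frattini G)
    (by rw [Subgroup.relIndex_bot_left, hΦ]) hΦc hsq
  have hRc : R = Subgroup.center G := by
    ext u
    rw [hR, Subgroup.mem_center_iff]
    simp only [Subgroup.mem_bot, commutatorElement_eq_one_iff_mul_comm]
    exact ⟨fun h g => (h g).symm, fun h g => (h g).symm⟩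
  have hcardG : Nat.card G = 2 ^ (d + 1) := by
    rw [← (frattini G).card_mul_index, hΦ, hd, pow_succ, mul_comm]
  obtain ⟨k, hk⟩ := IsPGroup.iff_card.mp (hG.to_subgroup (Subgroup.center G))
  have hk1 : 1 ≤ k := by
    have := (Subgroup.card_le_of_le hΦc)
    rw [hΦ, hk] at this
    by_contra hk0
    obtain rfl : k = 0 := by omega
    simp at this
  have hkd : k ≤ d + 1 := by
    have := Subgroup.card_le_card_group (Subgroup.center G)
    rw [hk, hcardG] at this
    exact (Nat.pow_le_pow_iff_right (by norm_num)).mp this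
  set S : ℤ := ∑ x : G, FG72.signOf (⊥ : Subgroup G) (x ^ 2) with hSdef
  set j := Nat.card {x : G // x ^ 2 = 1} with hj
  have hjS : (2 * j : ℤ) = 2 ^ (d + 1) + S := by
    have h1 : j = (Finset.univ.filter fun x : G => x ^ 2 = 1).card := by
      rw [hj, Nat.card_eq_fintype_card, Fintype.card_subtype]
    have h2 : ∀ x : G, FG72.signOf (⊥ : Subgroup G) (x ^ 2) =
        2 * (if x ^ 2 = 1 then 1 else 0) - 1 := by
      intro x
      by_cases hx : x ^ 2 = 1 <;> simp [FG72.signOf, hx]
    rw [hSdef, Finset.sum_congr rfl (fun x _ => h2 x), Finset.sum_sub_distrib, ← Finset.mul_sum,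
      Finset.sum_boole, h1, Finset.sum_const, Finset.card_univ, ← Nat.card_eq_fintype_card, hcardG]
    simp
  have hnz : S ≠ 0 → ∃ m, 2 * m = d + 1 + k ∧ (S = 2 ^ m ∨ S = -(2 ^ m)) := by
    intro h0
    have h := hS.resolve_left h0
    rw [hRc, hk, hcardG] at h
    have hn : S.natAbs ^ 2 = 2 ^ (d + 1 + k) := by
      have := congrArg Int.natAbs h
      simpa [Int.natAbs_pow, Int.natAbs_mul, pow_add] using this
    obtain ⟨m, -, hm⟩ := (Nat.dvd_prime_pow Nat.prime_two).mp (Dvd.intro _ ((pow_two _).symm.trans hn))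
    refine ⟨m, ?_, ?_⟩
    · rw [hm, ← pow_mul] at hn
      have := Nat.pow_right_injective le_rfl hn
      omega
    · rcases Int.natAbs_eq S with e | e <;> rw [hm] at e
      · left; rw [e]; simp
      · right; rw [e]; simp
  have hjpos : 0 < j := by
    haveI : Nonempty {x : G // x ^ 2 = 1} := ⟨⟨1, one_pow 2⟩⟩
    exact Nat.card_pos
  refine ⟨?_, ?_⟩
  · by_cases h0 : S = 0
    · left
      rw [h0, add_zero, pow_succ] at hjS
      have : (j : ℤ) = 2 ^ d := by linarith
      exact_mod_cast this
    obtain ⟨m, hm, hSm⟩ := hnz h0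
    have hmd : m ≤ d := by
      by_contra hmd
      obtain rfl : m = d + 1 := by omega
      rcases hSm with e | e <;> rw [e] at hjS
      · have hjG : j = Nat.card G := by
          have : (j : ℤ) = 2 ^ (d + 1) := by linarith
          rw [hcardG]; exact_mod_cast this
        have hall : ∀ x : G, x ^ 2 = 1 := by
          intro x
          have hsurj : Function.Surjective (Subtype.val : {x : G // x ^ 2 = 1} → G) :=
            ((Nat.bijective_iff_injective_and_card _).mpr ⟨Subtype.val_injective, hjG⟩).2
          obtain ⟨y, rfl⟩ := hsurj x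
          exact y.2
        have hbot := PGroup.frattini_eq_bot (G := G) (p := 2) (fun a b => by
          have h := hall (a * b)
          have ha : a⁻¹ = a := inv_eq_of_mul_eq_one_right (by rw [← pow_two, hall a])
          have hb : b⁻¹ = b := inv_eq_of_mul_eq_one_right (by rw [← pow_two, hall b])
          have hab : (a * b)⁻¹ = a * b := inv_eq_of_mul_eq_one_right (by rw [← pow_two, h])
          show a * b = b * a
          rw [← hab, mul_inv_rev, ha, hb]) hall
        rw [hbot, Subgroup.card_bot] at hΦ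
        exact absurd hΦ (by norm_num)
      · omega
    right
    refine ⟨d + 1 - m, by omega, by omega, ?_⟩
    rw [show d - (d + 1 - m) = m - 1 by omega]
    have hpm : (2 : ℤ) ^ m = 2 * 2 ^ (m - 1) := by
      rw [← pow_succ', show m - 1 + 1 = m by omega]
    rw [pow_succ] at hjS
    rcases hSm with e | e <;> rw [e, hpm] at hjS
    · left
      have : (j : ℤ) = 2 ^ d + 2 ^ (m - 1) := by linarith
      exact_mod_cast this
    · right
      have : (j : ℤ) + 2 ^ (m - 1) = 2 ^ d := by linarith
      exact_mod_cast this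
  · intro r hr hjr
    subst hr
    have hr1 : 1 ≤ r := by
      by_contra hr0
      obtain rfl : r = 0 := by omega
      have hFtop : frattini G = ⊤ := Subgroup.index_eq_one.mp (by simpa using hd)
      haveI : Nontrivial G := Finite.one_lt_card_iff_nontrivial.mp (by rw [hcardG]; simp)
      obtain ⟨M, hM, -⟩ := (eq_top_or_exists_le_coatom (⊥ : Subgroup G)).resolve_left bot_ne_top
      exact hM.1 (top_le_iff.mp (hFtop ▸ frattini_le_coatom hM))
    have hS2 : S = 2 ^ (r + 1) ∨ S = -(2 ^ (r + 1)) := by
      rw [pow_succ] at hjS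
      rcases hjr with e | e
      · left
        have : (j : ℤ) = 2 ^ (2 * r) + 2 ^ r := by exact_mod_cast e
        rw [pow_succ]; linarith
      · right
        have : (j : ℤ) + 2 ^ r = 2 ^ (2 * r) := by exact_mod_cast e
        rw [pow_succ]; linarith
    have h0 : S ≠ 0 := by
      have : (0 : ℤ) < 2 ^ (r + 1) := by positivity
      rcases hS2 with e | e <;> omega
    obtain ⟨m, hm, hSm⟩ := hnz h0
    have hmr : m = r + 1 := by
      have : (2 : ℕ) ^ m = 2 ^ (r + 1) := by
        have h1 : S.natAbs = 2 ^ m := by rcases hSm with e | e <;> simp [e, Int.natAbs_pow]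
        have h2 : S.natAbs = 2 ^ (r + 1) := by rcases hS2 with e | e <;> simp [e, Int.natAbs_pow]
        exact h1.symm.trans h2
      exact Nat.pow_right_injective le_rfl this
    obtain rfl : k = 1 := by omega
    have heq : frattini G = Subgroup.center G :=
      Subgroup.eq_of_le_of_card_ge hΦc (by rw [hΦ, hk]; simp)
    refine ⟨⟨hG, heq, ?_⟩, by simpa using hk⟩
    have hle : commutator G ≤ Subgroup.center G := heq ▸ PGroup.commutator_le_frattini hG
    refine Subgroup.eq_of_le_of_card_ge hle ?_
    rw [hk, pow_one]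
    refine (Subgroup.one_lt_card_iff_ne_bot _).mpr fun hbot => ?_
    have htop : Subgroup.center G = ⊤ := by
      rw [eq_top_iff]
      intro g _
      rw [Subgroup.mem_center_iff]
      intro h
      have hm : ⁅h, g⁆ ∈ commutator G :=
        Subgroup.commutator_mem_commutator (Subgroup.mem_top h) (Subgroup.mem_top g)
      rw [hbot, Subgroup.mem_bot] at hm
      exact commutatorElement_eq_one_iff_mul_comm.mp hm
    rw [htop, Subgroup.card_top, hcardG] at hk
    have := Nat.pow_right_injective le_rfl hk
    omega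

end Cfsg.Agent.S3772
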