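import Cfsg.Statements.S3774
import Cfsg.Agent.Lib.NumberTheory.Zsigmondy

set_option autoImplicit false
open Cfsg

namespace Cfsg.Agent.S3774

/-- Let G be a nontrivial finite 2-group whose automorphism group permutes the involutions of G transitively. Then every involution of G is central, so that the involutions together with 1 form the subgroup Ω₁(Z(G)), and if this subgroup has order q then |G| is a power of q. -/
theorem result {G : Type*} [Group G] [Finite G] [Nontrivial G] (hG : IsPGroup 2 G) (htrans : ∀ x y : G, x ≠ 1 → x ^ 2 = 1 → y ≠ 1 → y ^ 2 = 1 → ∃ a : MulAut G, a x = y) : (∀ x : G, x ^ 2 = 1 → x ∈ Subgroup.center G) ∧ ∃ m : ℕ, Nat.card G = Nat.card {z : G // z ^ 2 = 1} ^ m := by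
  classical
  obtain ⟨z, hzc, hz2, hz1⟩ : ∃ z : G, z ∈ Subgroup.center G ∧ z ^ 2 = 1 ∧ z ≠ 1 := by
    haveI := hG.center_nontrivial
    haveI : Fact (Nat.Prime 2) := ⟨Nat.prime_two⟩
    obtain ⟨n, hn, hc⟩ := (hG.to_subgroup (Subgroup.center G)).nontrivial_iff_card.1 inferInstance
    obtain ⟨z, hz⟩ := exists_prime_orderOf_dvd_card' (G := ↥(Subgroup.center G)) 2
      (hc ▸ dvd_pow_self 2 (by omega))
    refine ⟨z, z.2, ?_, fun h => ?_⟩
    · have := pow_orderOf_eq_one z
      rw [hz] at this
      exact_mod_cast congrArg Subtype.val this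
    · have h1 : z = 1 := Subtype.ext h
      rw [h1, orderOf_one] at hz
      omega
  have hcent : ∀ x : G, x ^ 2 = 1 → x ∈ Subgroup.center G := fun x hx => by
    rcases eq_or_ne x 1 with rfl | hx1
    · exact one_mem _
    obtain ⟨a, rfl⟩ := htrans z x hz1 hz2 hx1 hx
    rw [Subgroup.mem_center_iff]
    intro g
    have h := Subgroup.mem_center_iff.1 hzc (a.symm g)
    simpa using congrArg a h
  refine ⟨hcent, ?_⟩
  let E : Subgroup G :=
    { carrier := {x | x ^ 2 = 1}
      one_mem' := one_pow 2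
      mul_mem' := fun {a b} ha hb => by
        have h : Commute a b := (Subgroup.mem_center_iff.1 (hcent a ha) b).symm
        show (a * b) ^ 2 = 1
        rw [h.mul_pow, ha, hb, one_mul]
      inv_mem' := fun {a} ha => by
        show a⁻¹ ^ 2 = 1
        rw [inv_pow, ha, inv_one] }
  obtain ⟨k, hk⟩ := IsPGroup.iff_card.1 (hG.to_subgroup E)
  obtain ⟨n, hn⟩ := IsPGroup.iff_card.1 hG
  have hq : Nat.card {z : G // z ^ 2 = 1} = 2 ^ k := by
    rw [← hk]; rfl
  rw [hq, hn]
  suffices hdvd : k ∣ n by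
    obtain ⟨m, hm⟩ := hdvd
    exact ⟨m, by rw [← pow_mul, ← hm]⟩
  -- fixed points of a Sylow `r`-subgroup of the automorphism group
  have hr : ∀ r : ℕ, r.Prime → r ∣ 2 ^ k - 1 → r ∣ 2 ^ n - 1 := fun r hr hrk => by
    haveI := Fact.mk hr
    obtain ⟨R⟩ : Nonempty (Sylow r (MulAut G)) := inferInstance
    have hfix : ∀ x : G, x ∈ MulAction.fixedPoints ↥(R : Subgroup (MulAut G)) G → x ^ 2 = 1 → x = 1 := by
      intro x hx hx2
      by_contra hx1
      have hle : (R : Subgroup (MulAut G)) ≤ MulAction.stabilizer (MulAut G) x := fun a ha => hx ⟨a, ha⟩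
      have horb : MulAction.orbit (MulAut G) x = {y : G | y ≠ 1 ∧ y ^ 2 = 1} := by
        ext y
        constructor
        · rintro ⟨a, rfl⟩
          exact ⟨fun h => hx1 (a.injective (h.trans (map_one a).symm)),
            by show (a x) ^ 2 = 1; rw [← map_pow, hx2, map_one]⟩
        · rintro ⟨h1, h2⟩
          obtain ⟨a, ha⟩ := htrans x y hx1 hx2 h1 h2
          exact ⟨a, ha⟩
      have hcard : (MulAction.orbit (MulAut G) x).ncard = 2 ^ k - 1 := by
        have h1 : (1 : G) ∈ (E : Set G) := one_mem E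
        have h2 : (E : Set G).ncard = 2 ^ k := hk
        rw [horb, ← h2, ← Set.ncard_sdiff_singleton_of_mem h1]
        congr 1
        ext y
        simp [E, and_comm]
      have hidx : (MulAction.stabilizer (MulAut G) x).index = 2 ^ k - 1 := by
        rw [MulAction.index_stabilizer, hcard]
      exact R.not_dvd_index (hrk.trans (hidx ▸ Subgroup.index_dvd_of_le hle))
    have hmod := R.isPGroup'.card_modEq_card_fixedPoints G
    have hone : Nat.card (MulAction.fixedPoints ↥(R : Subgroup (MulAut G)) G) = 1 := by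
      rw [Nat.card_eq_one_iff_unique]
      refine ⟨⟨fun a b => ?_⟩, ⟨⟨1, fun a => map_one (a : MulAut G)⟩⟩⟩
      suffices h : ∀ x : G, x ∈ MulAction.fixedPoints ↥(R : Subgroup (MulAut G)) G → x = 1 from
        Subtype.ext ((h a a.2).trans (h b b.2).symm)
      intro x hx
      obtain ⟨j, hj⟩ := hG x
      by_contra hx1
      have hmem : ∀ i : ℕ, x ^ i ∈ MulAction.fixedPoints ↥(R : Subgroup (MulAut G)) G := fun i a => by
        show (a : MulAut G) (x ^ i) = x ^ i
        rw [map_pow]
        exact congrArg (· ^ i) (hx a)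
      induction j with
      | zero => exact hx1 (by simpa using hj)
      | succ j ih =>
        refine ih (hfix _ (hmem _) ?_)
        rw [← pow_mul, ← pow_succ]
        exact hj
    rw [hone, hn] at hmod
    exact (Nat.modEq_iff_dvd' Nat.one_le_two_pow).1 hmod.symm
  rcases (show k = 0 ∨ k = 1 ∨ k = 6 ∨ (1 < k ∧ k ≠ 6) by omega) with rfl | rfl | rfl | ⟨h1, h6⟩
  · exfalso
    haveI : Nontrivial E := ⟨⟨⟨z, hz2⟩, 1, fun h => hz1 (congrArg Subtype.val h)⟩⟩
    have := Finite.one_lt_card (α := ↥E)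
    simp [hk] at this
  · exact one_dvd n
  · have h3 := hr 3 Nat.prime_three (by norm_num)
    have h7 := hr 7 (by norm_num) (by norm_num)
    have hl : ∀ r : ℕ, r ∣ 2 ^ n - 1 → 2 ^ n % r = 1 % r := fun r hd =>
      ((Nat.modEq_iff_dvd' Nat.one_le_two_pow).2 hd).symm
    have h3' := hl 3 h3
    have h7' := hl 7 h7
    rw [← Nat.div_add_mod n 6, pow_add, pow_mul, Nat.mul_mod, Nat.pow_mod] at h3' h7'
    norm_num at h3' h7'
    have hlt : n % 6 < 6 := Nat.mod_lt _ (by norm_num)
    refine Nat.dvd_of_mod_eq_zero ?_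
    interval_cases hj : n % 6 <;> simp_all
  · obtain ⟨r, hrp, hrk, hmin⟩ := Cfsg.Agent.NumberTheory.exists_isPrimitivePrimeDivisor (a := 2)
      (by norm_num) h1 (fun h => h6 h.2) (fun h => by
        obtain ⟨m, hm⟩ := h.2
        rcases m with _ | m
        · simp at hm
        · rw [pow_succ] at hm; omega)
    have hg : r ∣ 2 ^ Nat.gcd k n - 1 := by
      rw [← Nat.pow_sub_one_gcd_pow_sub_one]
      exact Nat.dvd_gcd hrk (hr r hrp hrk)
    have hk0 : 0 < k := by omega
    have hle := Nat.le_of_dvd hk0 (Nat.gcd_dvd_left k n)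
    rcases eq_or_lt_of_le hle with h | h
    · exact h ▸ Nat.gcd_dvd_right k n
    · exact absurd hg (hmin _ (Nat.gcd_pos_of_pos_left n hk0) h)

end Cfsg.Agent.S3774
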