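import Cfsg.Statements.S3775
import Cfsg.Agent.FG72.InvariantComplement

set_option autoImplicit false
open Cfsg

namespace Cfsg.Agent.S3775

/-- Let A be a finite abelian p-group and X a group of automorphisms of A of order prime to p. Call a subgroup of A invariant when every element of X maps it onto itself. Then the following are equivalent: (i) A is not the direct product of two nontrivial invariant subgroups; (ii) every invariant subgroup of A is one of the subgroups Ω_i(A) = {a : a^(p^i) = 1}; (iii) the subgroup Ω₁(A) of elements of order dividing p has no invariant subgroups other than 1 and itself. -/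
theorem result {A : Type*} [CommGroup A] [Finite A] {p : ℕ} [Fact p.Prime] (hA : IsPGroup p A) (X : Subgroup (MulAut A)) (hX : (Nat.card X).Coprime p) : ((¬ ∃ B C : Subgroup A, B ≠ ⊥ ∧ C ≠ ⊥ ∧ (∀ x ∈ X, B.map x.toMonoidHom = B) ∧ (∀ x ∈ X, C.map x.toMonoidHom = C) ∧ B ⊓ C = ⊥ ∧ B ⊔ C = ⊤) ↔ (∀ B : Subgroup A, (∀ x ∈ X, B.map x.toMonoidHom = B) → ∃ i : ℕ, ∀ a : A, a ∈ B ↔ a ^ p ^ i = 1)) ∧ ((∀ B : Subgroup A, (∀ x ∈ X, B.map x.toMonoidHom = B) → ∃ i : ℕ, ∀ a : A, a ∈ B ↔ a ^ p ^ i = 1) ↔ (∀ B : Subgroup A, (∀ x ∈ X, B.map x.toMonoidHom = B) → (∀ b ∈ B, b ^ p = 1) → B = ⊥ ∨ ∀ a : A, a ∈ B ↔ a ^ p = 1)) := by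
  classical
  have hp : p.Prime := Fact.out
  let I := FG72.IsInv X
  have hiii_ii : (∀ B : Subgroup A, (∀ x ∈ X, B.map x.toMonoidHom = B) → (∀ b ∈ B, b ^ p = 1) →
      B = ⊥ ∨ ∀ a : A, a ∈ B ↔ a ^ p = 1) →
      ∀ B : Subgroup A, (∀ x ∈ X, B.map x.toMonoidHom = B) →
        ∃ i : ℕ, ∀ a : A, a ∈ B ↔ a ^ p ^ i = 1 := by
    intro h3
    have key : ∀ (i : ℕ) (B : Subgroup A), I B → (∀ b ∈ B, b ^ p ^ i = 1) →
        (∀ j, j < i → ∃ b ∈ B, b ^ p ^ j ≠ 1) → ∀ a : A, a ^ p ^ i = 1 → a ∈ B := by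
      intro i
      induction i with
      | zero =>
        intro B _ _ _ a ha
        rw [pow_zero, pow_one] at ha
        rw [ha]; exact one_mem B
      | succ i ih =>
        intro B hB hexp hmin a ha
        let B' := B.map (powMonoidHom p)
        have hB' : I B' := by
          rintro x hx _ ⟨b, hb, rfl⟩
          exact ⟨x b, hB x hx b hb, by simp⟩
        obtain ⟨b, hb, hbe⟩ := ih B' hB' (by
            rintro _ ⟨b, hb, rfl⟩
            simpa [← pow_mul, ← pow_succ'] using hexp b hb)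
          (fun j hj => by
            obtain ⟨b, hb, hne⟩ := hmin (j + 1) (by omega)
            exact ⟨b ^ p, ⟨b, hb, rfl⟩, by rwa [← pow_mul, ← pow_succ']⟩)
          (a ^ p) (by rwa [← pow_mul, ← pow_succ'])
        rw [powMonoidHom_apply] at hbe
        let O : Subgroup A := B ⊓ (powMonoidHom p).ker
        have hOinv : I O := fun x hx y hy => ⟨hB x hx y hy.1, by
          have h1 : y ^ p = 1 := hy.2
          show (x y) ^ p = 1
          rw [← map_pow, h1, map_one]⟩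
        obtain ⟨b₁, hb₁, hne₁⟩ := hmin i (Nat.lt_succ_self i)
        have hne : O ≠ ⊥ := by
          intro h
          apply hne₁
          rw [← Subgroup.mem_bot, ← h]
          exact ⟨pow_mem hb₁ _, show (b₁ ^ p ^ i) ^ p = 1 by
            rw [← pow_mul, ← pow_succ]; exact hexp b₁ hb₁⟩
        rcases h3 O (FG72.IsInv.map_eq hOinv) (fun y hy => hy.2) with h | h
        · exact absurd h hne
        · have hab : a * b⁻¹ ∈ B := ((h (a * b⁻¹)).mpr (by rw [mul_pow, inv_pow, hbe, mul_inv_cancel])).1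
          have := mul_mem hab hb
          simpa using this
    intro B hB
    obtain ⟨m, hm⟩ := IsPGroup.iff_card.mp hA
    have hex : ∃ i, ∀ b ∈ B, b ^ p ^ i = 1 := ⟨m, fun b _ => hm ▸ pow_card_eq_one'⟩
    refine ⟨Nat.find hex, fun a => ⟨fun ha => Nat.find_spec hex a ha,
      key _ B (FG72.isInv_of_map_eq hB) (Nat.find_spec hex) (fun j hj => ?_) a⟩⟩
    have := Nat.find_min hex hj
    push Not at this
    exact this
  have hii_iii : (∀ B : Subgroup A, (∀ x ∈ X, B.map x.toMonoidHom = B) →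
        ∃ i : ℕ, ∀ a : A, a ∈ B ↔ a ^ p ^ i = 1) →
      (∀ B : Subgroup A, (∀ x ∈ X, B.map x.toMonoidHom = B) → (∀ b ∈ B, b ^ p = 1) →
        B = ⊥ ∨ ∀ a : A, a ∈ B ↔ a ^ p = 1) := by
    intro h2 B hB hBp
    obtain ⟨i, hi⟩ := h2 B hB
    rcases Nat.eq_zero_or_pos i with rfl | hi0
    · left
      rw [Subgroup.eq_bot_iff_forall]
      intro x hx
      simpa using (hi x).mp hx
    · right
      refine fun a => ⟨hBp a, fun ha => (hi a).mpr ?_⟩
      obtain ⟨j, rfl⟩ : ∃ j, i = j + 1 := ⟨i - 1, by omega⟩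
      rw [pow_succ', pow_mul, ha, one_pow]
  have hiii_i : (∀ B : Subgroup A, (∀ x ∈ X, B.map x.toMonoidHom = B) → (∀ b ∈ B, b ^ p = 1) →
      B = ⊥ ∨ ∀ a : A, a ∈ B ↔ a ^ p = 1) →
      ¬ ∃ B C : Subgroup A, B ≠ ⊥ ∧ C ≠ ⊥ ∧ (∀ x ∈ X, B.map x.toMonoidHom = B) ∧
        (∀ x ∈ X, C.map x.toMonoidHom = C) ∧ B ⊓ C = ⊥ ∧ B ⊔ C = ⊤ := by
    rintro h3 ⟨B, C, hB0, hC0, hB, hC, hdis, -⟩
    have hcau : ∀ B : Subgroup A, B ≠ ⊥ → ∃ b ∈ B, b ≠ 1 ∧ b ^ p = 1 := by
      intro B hB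
      obtain ⟨k, hk⟩ := IsPGroup.iff_card.mp (hA.to_subgroup B)
      obtain ⟨b, hb⟩ := exists_prime_orderOf_dvd_card' (G := B) p (by
        rw [hk]
        refine dvd_pow_self _ ?_
        rintro rfl
        exact hB (Subgroup.card_eq_one.mp (by simpa using hk)))
      refine ⟨b, b.2, fun h => ?_, ?_⟩
      · rw [show b = 1 from Subtype.ext h, orderOf_one] at hb
        exact hp.one_lt.ne hb
      · have := congrArg Subtype.val (hb ▸ pow_orderOf_eq_one b)
        simpa using this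
    have hfull : ∀ B : Subgroup A, B ≠ ⊥ → (∀ x ∈ X, B.map x.toMonoidHom = B) →
        ∀ a : A, a ^ p = 1 → a ∈ B := by
      intro B hB hBi a ha
      let O : Subgroup A := B ⊓ (powMonoidHom p).ker
      have hOinv : I O := fun x hx y hy => ⟨FG72.isInv_of_map_eq hBi x hx y hy.1, by
        have h1 : y ^ p = 1 := hy.2
        show (x y) ^ p = 1
        rw [← map_pow, h1, map_one]⟩
      rcases h3 O (FG72.IsInv.map_eq hOinv) (fun y hy => hy.2) with h | h
      · obtain ⟨b, hb, hb1, hbp⟩ := hcau B hB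
        have hbO : b ∈ O := ⟨hb, hbp⟩
        rw [h, Subgroup.mem_bot] at hbO
        exact absurd hbO hb1
      · exact ((h a).mpr ha).1
    obtain ⟨b, hb, hb1, hbp⟩ := hcau B hB0
    exact hb1 (Subgroup.mem_bot.mp (hdis ▸ ⟨hb, hfull C hC0 hC b hbp⟩ : b ∈ (⊥ : Subgroup A)))
  have hi_iii : (¬ ∃ B C : Subgroup A, B ≠ ⊥ ∧ C ≠ ⊥ ∧ (∀ x ∈ X, B.map x.toMonoidHom = B) ∧
        (∀ x ∈ X, C.map x.toMonoidHom = C) ∧ B ⊓ C = ⊥ ∧ B ⊔ C = ⊤) →
      (∀ B : Subgroup A, (∀ x ∈ X, B.map x.toMonoidHom = B) → (∀ b ∈ B, b ^ p = 1) →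
        B = ⊥ ∨ ∀ a : A, a ∈ B ↔ a ^ p = 1) := by
    intro h1 B₀ hB₀ hB₀p
    by_contra hcon
    push Not at hcon
    obtain ⟨hB₀ne, hB₀full⟩ := hcon
    set Om : Subgroup A := (powMonoidHom p).ker with hOm
    have hOminv : I Om := fun x _ y hy => by
      have h : y ^ p = 1 := hy
      show (x y) ^ p = 1
      rw [← map_pow, h, map_one]
    have hB₀ne' : ¬ Om ≤ B₀ := by
      intro h
      obtain ⟨a, ha⟩ := hB₀full
      rcases ha with ⟨ha, hap⟩ | ⟨ha, hap⟩
      · exact hap (hB₀p a ha)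
      · exact ha (h hap)
    obtain ⟨m, hm⟩ := IsPGroup.iff_card.mp hA
    have hex : ∃ e, ∀ a : A, a ^ p ^ e = 1 := ⟨m, fun a => hm ▸ pow_card_eq_one'⟩
    obtain ⟨e, he, hmin⟩ : ∃ e, (∀ a : A, a ^ p ^ (e + 1) = 1) ∧ ∃ a : A, a ^ p ^ e ≠ 1 := by
      rcases hfind : Nat.find hex with _ | e
      · exfalso
        apply hB₀ne
        rw [Subgroup.eq_bot_iff_forall]
        intro a _
        have := Nat.find_spec hex a
        rw [hfind, pow_zero, pow_one] at this
        exact this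
      · refine ⟨e, hfind ▸ Nat.find_spec hex, ?_⟩
        have := Nat.find_min hex (m := e) (by omega)
        push Not at this
        exact this
    let Pw : ℕ → Subgroup A := fun j => (powMonoidHom (p ^ j) : A →* A).range
    have hPwinv : ∀ j, I (Pw j) := by
      rintro j x _ _ ⟨y, rfl⟩
      exact ⟨x y, by simp⟩
    have hE : Pw e ≤ Om := by
      rintro _ ⟨y, rfl⟩
      show (y ^ p ^ e) ^ p = 1
      rw [← pow_mul, ← pow_succ]; exact he y
    obtain ⟨S, hSinv, hSE, hS0, hSO⟩ : ∃ S, I S ∧ S ≤ Pw e ∧ S ≠ ⊥ ∧ ¬ Om ≤ S := by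
      by_cases hEO : Om ≤ Pw e
      · exact ⟨B₀, FG72.isInv_of_map_eq hB₀, fun b hb => hEO (hB₀p b hb), hB₀ne, hB₀ne'⟩
      · refine ⟨Pw e, hPwinv e, le_rfl, fun h => ?_, hEO⟩
        obtain ⟨a, ha⟩ := hmin
        have : a ^ p ^ e ∈ Pw e := ⟨a, rfl⟩
        rw [h, Subgroup.mem_bot] at this
        exact ha this
    have hbuild : ∀ k, k ≤ e → ∃ B : Subgroup A, I B ∧ S ≤ B ∧ B ≤ Pw (e - k) ∧
        (∀ b ∈ B, b ^ p = 1 → b ∈ S) ∧ (∀ b ∈ B, b ^ p ^ k = 1 → ∃ c ∈ B, c ^ p = b) := by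
      intro k
      induction k with
      | zero =>
        intro _
        exact ⟨S, hSinv, le_rfl, hSE, fun b hb _ => hb, fun b _ hb =>
          ⟨1, one_mem _, by rw [pow_zero, pow_one] at hb; rw [one_pow, hb]⟩⟩
      | succ k ih =>
        intro hk
        obtain ⟨B, hBi, hSB, hBP, hBO, hBdiv⟩ := ih (by omega)
        have hsucc : e - k = e - (k + 1) + 1 := by omega
        let P : Subgroup A := Pw (e - (k + 1)) ⊓ B.comap (powMonoidHom p)
        have hPinv : I P := fun x hx y hy => ⟨hPwinv _ x hx y hy.1, by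
          have h : y ^ p ∈ B := hy.2
          show (x y) ^ p ∈ B
          rw [← map_pow]; exact hBi x hx _ h⟩
        have hBleP : B ≤ P := fun b hb => ⟨by
          obtain ⟨y, rfl⟩ := hBP hb
          refine ⟨y ^ p, ?_⟩
          simp only [powMonoidHom_apply, ← pow_mul, ← pow_succ', hsucc], pow_mem hb p⟩
        obtain ⟨D, hDi, hBD, hDP, hDW, hDsup⟩ := FG72.exists_invariant_complement X hX hBi
          (hBi.sup (hPinv.inf hOminv)) hPinv le_sup_left (sup_le hBleP inf_le_left)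
          (fun a ha => ha.2)
        have hsmall : ∀ b ∈ D, b ^ p = 1 → b ∈ S := by
          intro b hb hbp
          have : b ∈ D ⊓ (B ⊔ P ⊓ Om) := ⟨hb, Subgroup.mem_sup_right ⟨hDP hb, hbp⟩⟩
          rw [hDW] at this
          exact hBO b this hbp
        have hsurj : ∀ b ∈ B, ∃ q ∈ D, q ^ p = b := by
          intro b hb
          obtain ⟨y, hy⟩ := hBP hb
          simp only [powMonoidHom_apply] at hy
          have hyp : (y ^ p ^ (e - (k + 1))) ^ p = b := by
            rw [← pow_mul, ← pow_succ, ← hsucc, hy]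
          have hyP : y ^ p ^ (e - (k + 1)) ∈ P := ⟨⟨y, rfl⟩, show _ ^ p ∈ B by rw [hyp]; exact hb⟩
          rw [← hDsup] at hyP
          obtain ⟨q, hq, w, hw, hqw⟩ := Subgroup.mem_sup.mp hyP
          obtain ⟨c, hc, o, ho, rfl⟩ := Subgroup.mem_sup.mp hw
          refine ⟨q * c, mul_mem hq (hBD hc), ?_⟩
          have ho' : o ^ p = 1 := ho.2
          rw [← hyp, ← hqw, mul_pow, mul_pow, mul_pow, ho', mul_one]
        refine ⟨D, hDi, hSB.trans hBD, hDP.trans inf_le_left, hsmall, fun b hb hbk => ?_⟩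
        have hbB : b ∈ B := by
          have hbp : b ^ p ∈ B := (hDP hb).2
          obtain ⟨c, hc, hcb⟩ := hBdiv _ hbp (by rw [← pow_mul, ← pow_succ']; exact hbk)
          have h2 := hsmall (b * c⁻¹) (mul_mem hb (inv_mem (hBD hc)))
            (by rw [mul_pow, inv_pow, hcb, mul_inv_cancel])
          have := mul_mem (hSB h2) hc
          simpa using this
        exact hsurj b hbB
    obtain ⟨B, hBi, hSB, -, hBO, hBdiv⟩ := hbuild e le_rfl
    obtain ⟨C, hC⟩ := (Set.toFinite {C : Subgroup A | I C ∧ B ⊓ C = ⊥}).exists_maximal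
      ⟨⊥, FG72.isInv_bot X, inf_bot_eq B⟩
    obtain ⟨⟨hCi, hCB⟩, hCmax⟩ := hC
    have htop : B ⊔ C = ⊤ := by
      by_contra hne
      obtain ⟨a, -, ha⟩ := SetLike.exists_of_lt (lt_top_iff_ne_top.mpr hne)
      have hex2 : ∃ i, a ^ p ^ i ∈ B ⊔ C := ⟨m, by rw [← hm, pow_card_eq_one']; exact one_mem _⟩
      rcases hfind : Nat.find hex2 with _ | i
      · exact ha (by simpa [hfind] using Nat.find_spec hex2)
      set a₁ := a ^ p ^ i with ha₁
      have ha₁n : a₁ ∉ B ⊔ C := Nat.find_min hex2 (by omega)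
      have ha₁p : a₁ ^ p ∈ B ⊔ C := by
        have := Nat.find_spec hex2
        rw [hfind] at this
        rwa [ha₁, ← pow_mul, ← pow_succ]
      obtain ⟨b, hb, c, hc, hbc⟩ := Subgroup.mem_sup.mp ha₁p
      have hbe : b ^ p ^ e = 1 := by
        have h := congrArg (· ^ p ^ e) hbc
        simp only [mul_pow] at h
        rw [← pow_mul a₁, ← pow_succ', he a₁] at h
        have hmem : b ^ p ^ e ∈ B ⊓ C :=
          ⟨pow_mem hb _, by rw [eq_inv_of_mul_eq_one_left h]; exact C.inv_mem (C.pow_mem hc _)⟩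
        rw [hCB, Subgroup.mem_bot] at hmem
        exact hmem
      obtain ⟨b₁, hb₁, rfl⟩ := hBdiv b hb hbe
      let M : Subgroup A := C.comap (powMonoidHom p)
      have hMinv : I M := fun x hx y hy => by
        have h : y ^ p ∈ C := hy
        show (x y) ^ p ∈ C
        rw [← map_pow]; exact hCi x hx _ h
      have hCM : C ≤ M := fun y hy => pow_mem hy p
      obtain ⟨D, hDi, hCD, hDM, hDW, hDsup⟩ := FG72.exists_invariant_complement X hX hCi
        ((hBi.sup hCi).inf hMinv) hMinv (le_inf le_sup_right hCM) inf_le_right (fun y hy => hy)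
      have hDB : B ⊓ D = ⊥ := by
        rw [eq_bot_iff, ← hCB]
        rintro y ⟨hyB, hyD⟩
        refine ⟨hyB, ?_⟩
        rw [← hDW]
        exact ⟨hyD, Subgroup.mem_sup_left hyB, hDM hyD⟩
      have hDC : D ≤ C := hCmax ⟨hDi, hDB⟩ hCD
      have hMle : M ≤ B ⊔ C := by
        rw [← hDsup]
        exact sup_le (hDC.trans le_sup_right) inf_le_left
      apply ha₁n
      have hmem : a₁ * b₁⁻¹ ∈ M := by
        show (a₁ * b₁⁻¹) ^ p ∈ C
        rw [mul_pow, inv_pow, ← hbc, mul_right_comm, mul_inv_cancel, one_mul]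
        exact hc
      have := mul_mem (hMle hmem) (Subgroup.mem_sup_left (T := C) hb₁)
      simpa using this
    refine h1 ⟨B, C, fun h => hS0 (le_bot_iff.mp (h ▸ hSB)), fun h => hSO ?_,
      FG72.IsInv.map_eq hBi, FG72.IsInv.map_eq hCi, hCB, htop⟩
    rw [h, sup_bot_eq] at htop
    exact fun y hy => hBO y (htop ▸ Subgroup.mem_top y) hy
  exact ⟨⟨fun h => hiii_ii (hi_iii h), fun h => hiii_i (hii_iii h)⟩, ⟨hii_iii, hiii_ii⟩⟩

end Cfsg.Agent.S3775
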