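import Cfsg.Statements.S3780
-- import your own Cfsg.Agent.* helpers here

set_option autoImplicit false
open Cfsg

namespace Cfsg.Agent.S3780

/-- Let V be a finite abelian p-group and α an automorphism of V of order p whose fixed-point subgroup has order p^n. Then V can be generated by pn elements: some subset of V with at most pn elements generates V. -/
theorem result {V : Type*} [CommGroup V] [Finite V] {p : ℕ} [Fact p.Prime] (hV : IsPGroup p V) (α : MulAut V) (hα : orderOf α = p) (n : ℕ) (hfix : Nat.card {v : V // α v = v} = p ^ n) : ∃ S : Finset V, S.card ≤ p * n ∧ Subgroup.closure (S : Set V) = ⊤ := by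
  classical
  have hp : p.Prime := Fact.out
  let W : Subgroup V := (powMonoidHom p).ker
  let δ : V →* V := MonoidHom.mk' (fun v => α v * v⁻¹) (fun a b => by
    simp only [map_mul, mul_inv]; exact mul_mul_mul_comm _ _ _ _)
  have hδker : Nat.card δ.ker = p ^ n := by
    rw [← hfix]
    refine Nat.card_congr (Equiv.subtypeEquivRight fun v => ?_)
    rw [MonoidHom.mem_ker]
    exact mul_inv_eq_one
  let a : AddMonoid.End (Additive V) := MonoidHom.toAdditive α.toMonoidHom
  have hiter : ∀ (k : ℕ) (v : V), (a ^ k) (Additive.ofMul v) = Additive.ofMul ((α ^ k) v) := by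
    intro k
    induction k with
    | zero => intro v; simp
    | succ k ih => intro v; rw [pow_succ, pow_succ]; exact ih (α v)
  have hd : ∀ (k : ℕ) (v : V),
      Additive.ofMul ((δ : V → V)^[k] v) = ((a - 1) ^ k) (Additive.ofMul v) := by
    intro k
    induction k with
    | zero => intro v; simp
    | succ k ih =>
      intro v
      rw [Function.iterate_succ_apply, ih (δ v), pow_succ]
      show ((a - 1) ^ k) (Additive.ofMul (α v * v⁻¹)) =
        ((a - 1) ^ k) ((a - 1) (Additive.ofMul v))
      exact congrArg _ (by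
        simp only [AddMonoid.End.coe_one, sub_eq_add_neg]
        rfl)
  have hαp : ∀ v : V, (α ^ p) v = v := by
    intro v; rw [← hα, pow_orderOf_eq_one]; rfl
  have hδW : ∀ w ∈ W, (δ : V → V)^[p] w = 1 := by
    intro w hw
    have hw' : p • Additive.ofMul w = 0 := by
      rw [← ofMul_pow]
      exact congrArg Additive.ofMul (MonoidHom.mem_ker.mp hw)
    apply Additive.ofMul.injective
    rw [hd, ofMul_one]
    obtain ⟨r, hr⟩ := ((Commute.one_right a).neg_right).exists_add_pow_prime_eq hp
    rw [← sub_eq_add_neg] at hr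
    rw [hr]
    have hz : ∀ t : AddMonoid.End (Additive V), ((p : AddMonoid.End (Additive V)) * t) (Additive.ofMul w) = 0 := by
      intro t
      rw [(Nat.cast_commute p t).eq]
      show t ((p : AddMonoid.End (Additive V)) (Additive.ofMul w)) = 0
      rw [AddMonoid.End.natCast_apply, hw', map_zero]
    have hneg : ((-1 : AddMonoid.End (Additive V)) ^ p) (Additive.ofMul w) = -Additive.ofMul w := by
      rcases hp.eq_two_or_odd' with h2 | ho
      · have h1 : (-1 : AddMonoid.End (Additive V)) ^ p = 1 := Even.neg_one_pow (α := AddMonoid.End (Additive V)) (h2 ▸ (even_two : Even 2))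
        rw [h2, two_nsmul] at hw'
        rw [h1]
        show Additive.ofMul w = -Additive.ofMul w
        exact eq_neg_iff_add_eq_zero.mpr hw'
      · have h1 : (-1 : AddMonoid.End (Additive V)) ^ p = -1 := Odd.neg_one_pow (α := AddMonoid.End (Additive V)) ho
        rw [h1]; rfl
    show (a ^ p) (Additive.ofMul w) + ((-1 : AddMonoid.End (Additive V)) ^ p) (Additive.ofMul w) + _ = 0
    rw [hiter, hαp, hneg, add_neg_cancel, zero_add]
    simp only [mul_assoc]
    exact hz _
  let D : ℕ → Set V := fun k => {v | (δ : V → V)^[k] v = 1}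
  have hD : ∀ k, Nat.card (D k) ≤ (p ^ n) ^ k := by
    intro k
    induction k with
    | zero => simp [D]
    | succ k ih =>
      let f : D (k + 1) → D k := fun v => ⟨δ v, by
        have := v.2
        simpa [D, Function.iterate_succ_apply] using this⟩
      have hfib : ∀ y, Nat.card {v // f v = y} ≤ p ^ n := by
        intro y
        rcases isEmpty_or_nonempty {v // f v = y} with h | ⟨⟨v₀⟩⟩
        · simp
        · rw [← hδker]
          refine Nat.card_le_card_of_injective
            (fun v => (⟨(v.1 : V) * (v₀.1 : V)⁻¹, ?_⟩ : δ.ker)) ?_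
          · rw [MonoidHom.mem_ker, map_mul, map_inv, mul_inv_eq_one]
            exact congrArg Subtype.val (v.2.trans v₀.2.symm)
          · intro u v h
            exact Subtype.ext (Subtype.ext (mul_right_cancel (congrArg Subtype.val h)))
      letI : Fintype (D k) := Fintype.ofFinite _
      calc Nat.card (D (k + 1)) = Nat.card (Σ y, {v // f v = y}) :=
            (Nat.card_congr (Equiv.sigmaFiberEquiv f)).symm
        _ = ∑ y, Nat.card {v // f v = y} := Nat.card_sigma
        _ ≤ ∑ _y : D k, p ^ n := Finset.sum_le_sum fun y _ => hfib y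
        _ = Nat.card (D k) * p ^ n := by simp [Nat.card_eq_fintype_card]
        _ ≤ (p ^ n) ^ (k + 1) := by rw [pow_succ]; exact Nat.mul_le_mul_right _ ih
  have hW : Nat.card W ≤ p ^ (n * p) := by
    rw [pow_mul]
    refine le_trans ?_ (hD p)
    exact Nat.card_le_card_of_injective (fun w => (⟨w.1, hδW w.1 w.2⟩ : D p))
      fun u v h => Subtype.ext (congrArg Subtype.val h :)
  let U : Subgroup V := (powMonoidHom p).range
  have hUi : U.index = Nat.card W := Subgroup.index_range (f := (powMonoidHom p : V →* V))
  have hstep : ∀ k : ℕ, ∃ S : Finset V, S.card ≤ k ∧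
      (Subgroup.closure (S : Set V) ⊔ U = ⊤ ∨
        (Subgroup.closure (S : Set V) ⊔ U).index * p ^ k ≤ U.index) := by
    intro k
    induction k with
    | zero => exact ⟨∅, by simp, Or.inr (by simp)⟩
    | succ k ih =>
      obtain ⟨S, hS, hor⟩ := ih
      by_cases htop : Subgroup.closure (S : Set V) ⊔ U = ⊤
      · exact ⟨S, by omega, Or.inl htop⟩
      obtain hdone | hle := hor
      · exact absurd hdone htop
      obtain ⟨x, -, hx⟩ := SetLike.exists_of_lt (lt_top_iff_ne_top.mpr htop)
      refine ⟨insert x S, (Finset.card_insert_le _ _).trans (by omega), Or.inr ?_⟩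
      set H := Subgroup.closure (S : Set V) ⊔ U with hH
      set K := Subgroup.closure ((insert x S : Finset V) : Set V) ⊔ U with hK
      have hHK : H ≤ K :=
        sup_le_sup_right (Subgroup.closure_mono (by simp [Finset.coe_insert])) U
      have hxK : x ∈ K := Subgroup.mem_sup_left (Subgroup.subset_closure (by simp))
      have hmul := Subgroup.relIndex_mul_index hHK
      have hne1 : H.relIndex K ≠ 1 := fun h1 => hx (Subgroup.relIndex_eq_one.mp h1 hxK)
      have hpk : p ≤ H.relIndex K := by
        have hd : H.relIndex K ∣ Nat.card V := (Dvd.intro _ hmul).trans H.index_dvd_card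
        obtain ⟨m, hm⟩ := IsPGroup.iff_card.mp hV
        rw [hm] at hd
        obtain ⟨i, -, hi⟩ := (Nat.dvd_prime_pow hp).mp hd
        rcases i with _ | i
        · simp [hi] at hne1
        · rw [hi, pow_succ]; exact Nat.le_mul_of_pos_left _ (pow_pos hp.pos _)
      calc K.index * p ^ (k + 1) = p * K.index * p ^ k := by ring
        _ ≤ H.relIndex K * K.index * p ^ k := by gcongr
        _ = H.index * p ^ k := by rw [hmul]
        _ ≤ U.index := hle
  obtain ⟨S, hS, hor⟩ := hstep (n * p)
  refine ⟨S, by rw [mul_comm]; exact hS, ?_⟩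
  have hsup : Subgroup.closure (S : Set V) ⊔ U = ⊤ := by
    rcases hor with h | h
    · exact h
    · rw [← Subgroup.index_eq_one]
      have h0 : (Subgroup.closure (S : Set V) ⊔ U).index ≠ 0 := Subgroup.index_ne_zero_of_finite
      have : (Subgroup.closure (S : Set V) ⊔ U).index ≤ 1 := le_of_mul_le_mul_right (a := p ^ (n * p))
        (by rw [one_mul]; exact h.trans (hUi.le.trans hW)) (pow_pos hp.pos _)
      omega
  set T := Subgroup.closure (S : Set V)
  have hsurj : Function.Surjective (powMonoidHom p : V ⧸ T →* V ⧸ T) := by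
    intro q
    obtain ⟨v, rfl⟩ := QuotientGroup.mk_surjective q
    have hv : v ∈ T ⊔ U := hsup ▸ Subgroup.mem_top v
    obtain ⟨t, ht, u, ⟨w, rfl⟩, rfl⟩ := Subgroup.mem_sup.mp hv
    refine ⟨(w : V ⧸ T), ?_⟩
    simp [powMonoidHom_apply, (QuotientGroup.eq_one_iff t).mpr ht]
  have hinj := Finite.injective_iff_surjective.mpr hsurj
  by_contra hT
  have h1 : 1 < Nat.card (V ⧸ T) := by
    have h0 : T.index ≠ 0 := Subgroup.index_ne_zero_of_finite
    have h1 : T.index ≠ 1 := fun h => hT (Subgroup.index_eq_one.mp h)
    exact show 1 < T.index by omega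
  obtain ⟨m, hm⟩ := IsPGroup.iff_card.mp (hV.to_quotient T)
  obtain ⟨q, hq⟩ := exists_prime_orderOf_dvd_card' (G := V ⧸ T) p (by
    rw [hm] at h1 ⊢
    exact dvd_pow_self _ (by rintro rfl; simp at h1))
  have hq1 : q = 1 := hinj (by simp [powMonoidHom_apply, ← hq, pow_orderOf_eq_one])
  rw [hq1, orderOf_one] at hq
  exact hp.ne_one hq.symm

end Cfsg.Agent.S3780
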