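import Cfsg.Statements.S3784
import Mathlib.NumberTheory.Fermat
import Mathlib.Algebra.Ring.GeomSum
import Mathlib.Algebra.BigOperators.ModEq
import Mathlib.Tactic.Linarith
import Mathlib.Tactic.NormNum
import Mathlib.Tactic.Ring
import Mathlib.Tactic.Positivity
-- import your own Cfsg.Agent.* helpers here

set_option autoImplicit false
open Cfsg

namespace Cfsg.Agent.S3784

/-- Let p, q be primes and a, b positive integers with p^a = q^b + 1. Then either p = 2, b = 1, a is prime and q = 2^a − 1; or q = 2, a = 1, b is a power of 2 and p = 2^b + 1; or p^a = 9 and q^b = 8. -/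
theorem result (p q a b : ℕ) (hp : p.Prime) (hq : q.Prime) (ha : 1 ≤ a) (hb : 1 ≤ b) (h : p ^ a = q ^ b + 1) : (p = 2 ∧ b = 1 ∧ a.Prime ∧ q + 1 = 2 ^ a) ∨ (q = 2 ∧ a = 1 ∧ (∃ m : ℕ, b = 2 ^ m) ∧ p = 2 ^ b + 1) ∨ (p ^ a = 9 ∧ q ^ b = 8) := by
  have hpa : 1 < p ^ a := Nat.one_lt_pow (by omega) hp.one_lt
  have hqb : 1 < q ^ b := Nat.one_lt_pow (by omega) hq.one_lt
  have odd_geom : ∀ m k : ℕ, Odd m → Odd k → Odd (∑ i ∈ Finset.range k, m ^ i) := by
    intro m k hm hk
    rw [Nat.odd_iff, Finset.sum_nat_mod]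
    simp [Nat.pow_mod, Nat.odd_iff.mp hm, Nat.odd_iff.mp hk]
  rcases hp.eq_two_or_odd' with rfl | hpo
  · left
    have hqo : Odd q := by
      rcases hq.eq_two_or_odd' with rfl | ho
      · have h1 : 2 ∣ 2 ^ a := dvd_pow_self _ (by omega)
        have h2 : 2 ∣ 2 ^ b := dvd_pow_self _ (by omega)
        omega
      · exact ho
    have ha2 : 2 ≤ a := by
      by_contra hlt
      obtain rfl : a = 1 := by omega
      omega
    have h4 : 4 ∣ 2 ^ a := by
      have h22 : (2 : ℕ) ^ 2 ∣ 2 ^ a := pow_dvd_pow 2 ha2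
      norm_num at h22
      exact h22
    have hbo : Odd b := by
      rw [← Nat.not_even_iff_odd]
      rintro ⟨c, rfl⟩
      obtain ⟨m, hm⟩ := hqo.pow (n := c)
      rw [pow_add, hm] at h
      have e4 : (2 * m + 1) * (2 * m + 1) = 4 * (m * m + m) + 1 := by ring
      omega
    have hb1 : b = 1 := by
      by_contra hb1
      have hf : ((q : ℤ) + 1) * (∑ i ∈ Finset.range b, (-(q : ℤ)) ^ i) = (q : ℤ) ^ b + 1 := by
        have := mul_neg_geom_sum (-(q : ℤ)) b
        rw [sub_neg_eq_add, hbo.neg_pow, sub_neg_eq_add] at this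
        linarith
      have hz : (q : ℤ) ^ b + 1 = (2 : ℤ) ^ a := by exact_mod_cast h.symm
      rw [hz] at hf
      have hodd : Odd (∑ i ∈ Finset.range b, (-(q : ℤ)) ^ i) := by
        have hqz : Odd (q : ℤ) := by exact_mod_cast hqo
        have : ∀ k : ℕ, (Odd k → Odd (∑ i ∈ Finset.range k, (-(q : ℤ)) ^ i)) ∧
            (Even k → Even (∑ i ∈ Finset.range k, (-(q : ℤ)) ^ i)) := by
          intro k
          induction k with
          | zero => simp
          | succ k ih =>
            rw [Finset.sum_range_succ]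
            have hpow : Odd ((-(q : ℤ)) ^ k) := (hqz.neg).pow
            constructor
            · intro hk
              rw [Nat.odd_add_one, Nat.not_odd_iff_even] at hk
              exact (ih.2 hk).add_odd hpow
            · intro hk
              rw [Nat.even_add_one, Nat.not_even_iff_odd] at hk
              exact (ih.1 hk).add_odd hpow
        exact (this b).1 hbo
      have hdvd : (∑ i ∈ Finset.range b, (-(q : ℤ)) ^ i).natAbs ∣ 2 ^ a := by
        have h1 : (∑ i ∈ Finset.range b, (-(q : ℤ)) ^ i) ∣ (2 : ℤ) ^ a := Dvd.intro_left _ hf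
        simpa [Int.natAbs_pow] using Int.natAbs_dvd_natAbs.mpr h1
      obtain ⟨k, -, hk⟩ := (Nat.dvd_prime_pow Nat.prime_two).mp hdvd
      rw [← Int.natAbs_odd, hk] at hodd
      obtain rfl : k = 0 := by
        by_contra hk0
        exact (Nat.not_even_iff_odd.mpr hodd) ((even_two).pow_of_ne_zero hk0)
      rw [pow_zero] at hk
      rcases Int.natAbs_eq_iff.mp hk with e | e <;> rw [e] at hf
      · have h1 : q + 1 = 2 ^ a := by
          have : ((q + 1 : ℕ) : ℤ) = ((2 ^ a : ℕ) : ℤ) := by push_cast at hf ⊢; linarith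
          exact_mod_cast this
        have h2 : q ^ b = q ^ 1 := by rw [pow_one]; omega
        exact hb1 (Nat.pow_right_injective hq.two_le h2)
      · have : (0 : ℤ) < 2 ^ a := by positivity
        push_cast at hf
        omega
    subst hb1
    rw [pow_one] at h
    refine ⟨rfl, rfl, ?_, by omega⟩
    exact (Nat.prime_of_pow_sub_one_prime (a := 2) (n := a) (by omega)
      (by rw [h]; simpa using hq)).2
  · have hq2 : q = 2 := by
      rcases hq.eq_two_or_odd' with h2 | ho
      · exact h2
      · have h1 := Nat.odd_iff.mp (hpo.pow (n := a))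
        have h2 := Nat.odd_iff.mp (ho.pow (n := b))
        omega
    subst hq2
    right
    rcases Nat.even_or_odd a with ⟨c, rfl⟩ | hao
    · right
      obtain ⟨m, hm⟩ : ∃ m, p ^ c = m + 1 := ⟨p ^ c - 1, by have := Nat.one_le_pow c p hp.pos; omega⟩
      have hf : m * (m + 2) = 2 ^ b := by
        rw [pow_add, hm] at h
        nlinarith
      obtain ⟨i, -, hi⟩ := (Nat.dvd_prime_pow Nat.prime_two).mp (Dvd.intro _ hf)
      obtain ⟨j, -, hj⟩ := (Nat.dvd_prime_pow Nat.prime_two).mp (Dvd.intro_left _ hf)
      have hij : 2 ^ j = 2 ^ i + 2 := by omega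
      have hi1 : i = 1 := by
        rcases i with _ | _ | i
        · rcases j with _ | _ | j <;> simp [pow_succ] at hij <;> omega
        · rfl
        · rcases j with _ | _ | j <;> simp [pow_succ] at hij <;> omega
      subst hi1
      have : p ^ (c + c) = 9 := by rw [pow_add, hm]; simp_all
      exact ⟨this, by omega⟩
    · left
      have hsum := odd_geom p a hpo hao
      have hf : (p - 1) * ∑ i ∈ Finset.range a, p ^ i = 2 ^ b := by
        have := geom_sum_mul_add (p - 1) a
        rw [show p - 1 + 1 = p by have := hp.two_le; omega] at this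
        rw [mul_comm]; omega
      obtain ⟨k, -, hk⟩ := (Nat.dvd_prime_pow Nat.prime_two).mp (Dvd.intro_left _ hf)
      rw [hk] at hsum
      obtain rfl : k = 0 := by
        by_contra hk0
        exact (Nat.not_even_iff_odd.mpr hsum) ((even_two).pow_of_ne_zero hk0)
      rw [hk, pow_zero, mul_one] at hf
      have h1 : p ^ a = p ^ 1 := by rw [pow_one]; have := hp.two_le; omega
      obtain rfl := Nat.pow_right_injective hp.two_le h1
      refine ⟨rfl, rfl, ?_, by simpa using h⟩
      exact Nat.pow_of_pow_add_prime (a := 2) (n := b) (by norm_num) (by omega)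
        (by rw [← h]; simpa using hp)

end Cfsg.Agent.S3784
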