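import Cfsg.Statements.S3785
import Cfsg.Agent.Lib.Fitting.Minimal
import Cfsg.Agent.OddLocal43.Coprime
import Cfsg.Agent.FG72.Basic

set_option autoImplicit false
open Cfsg

namespace Cfsg.Agent.S3785

/-- Let G be a finite solvable group whose Fitting subgroup F(G) has odd order. If an element g of G commutes with every element of prime order of F(G), then g ∈ F(G). -/
theorem result {G : Type*} [Group G] [Finite G] (hG : Group.IsSolvable G) (hodd : Odd (Nat.card (Cfsg.fittingSubgroup G))) (g : G) (hg : ∀ x ∈ Cfsg.fittingSubgroup G, (orderOf x).Prime → g * x = x * g) : g ∈ Cfsg.fittingSubgroup G := by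
  classical
  haveI := hG
  set F := Cfsg.fittingSubgroup G with hFdef
  let C : Subgroup G := Subgroup.centralizer {x : G | x ∈ F ∧ (orderOf x).Prime}
  have hCn : C.Normal := by
    refine ⟨fun c hc g => ?_⟩
    rw [Subgroup.mem_centralizer_iff]
    rintro x ⟨hx, hxo⟩
    have hmem : g⁻¹ * x * g ∈ {x : G | x ∈ F ∧ (orderOf x).Prime} := by
      refine ⟨Fitting.fitting_normal.conj_mem' x hx g, ?_⟩
      have : orderOf (g⁻¹ * x * g) = orderOf x := by
        simpa using (MulAut.conj g⁻¹).orderOf_eq x
      rwa [this]
    have h1 : g⁻¹ * x * g * c = c * (g⁻¹ * x * g) := Subgroup.mem_centralizer_iff.mp hc _ hmem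
    calc x * (g * c * g⁻¹) = g * (g⁻¹ * x * g * c) * g⁻¹ := by group
      _ = g * c * g⁻¹ * x := by rw [h1]; group
  -- elements of `C` of order prime to `r` centralize `O_r`
  have hcen : ∀ (r : ℕ) [Fact r.Prime] (x : G), x ∈ C → (orderOf x).Coprime r →
      ∀ y ∈ pCore r G, x * y = y * x := by
    intro r hr x hx hcop y hy
    by_cases hr2 : r = 2
    · have h1 : orderOf y ∣ Nat.card F :=
        Subgroup.orderOf_dvd_natCard F (Fitting.pCore_le_fitting r hy)
      obtain ⟨k, hk⟩ := Fitting.pCore_isPGroup r ⟨y, hy⟩
      have h2 : orderOf y ∣ r ^ k := orderOf_dvd_of_pow_eq_one (congrArg Subtype.val hk)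
      have hco : (Nat.card F).Coprime (r ^ k) := by
        rw [hr2]; exact (Nat.coprime_two_right.mpr hodd).pow_right k
      have : y = 1 := orderOf_eq_one_iff.mp (Nat.eq_one_of_dvd_coprimes hco h1 h2)
      simp [this]
    · have h := OddLocal43.le_centralizer_of_order_p (A := Subgroup.zpowers x) hr2
        (by rwa [Nat.card_zpowers]) (Fitting.pCore_isPGroup r)
        (by rw [Subgroup.normalizer_eq_top]; exact le_top)
        (fun z hz hzo => by
          rw [Subgroup.mem_centralizer_iff]
          intro a ha
          obtain ⟨i, rfl⟩ := Subgroup.mem_zpowers_iff.mp ha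
          have h1 : z * x = x * z := Subgroup.mem_centralizer_iff.mp hx z
            ⟨Fitting.pCore_le_fitting r hz, hzo ▸ hr.out⟩
          exact ((Commute.zpow_right h1 i).symm).eq)
      exact Subgroup.mem_centralizer_iff.mp (h hy) x (Subgroup.mem_zpowers x)
  have hCF : Subgroup.centralizer (F : Set G) ≤ F := Fitting.centralizer_fitting_le
  have key : ∀ (p : ℕ) [Fact p.Prime] (x : G), x ∈ C → (∃ k, orderOf x = p ^ k) → x ∈ F := by
    intro p hp x hx hxp
    let T : Set G := {y | ∃ (r : ℕ) (_ : Fact r.Prime), r ≠ p ∧ y ∈ pCore r G}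
    let Cp : Subgroup G := C ⊓ Subgroup.centralizer T
    haveI hCpn : Cp.Normal := by
      haveI := hCn
      have : (Subgroup.centralizer T).Normal := by
        refine ⟨fun c hc g => ?_⟩
        rw [Subgroup.mem_centralizer_iff]
        rintro y ⟨r, hr, hrp, hy⟩
        have h1 : g⁻¹ * y * g * c = c * (g⁻¹ * y * g) := Subgroup.mem_centralizer_iff.mp hc _
          ⟨r, hr, hrp, (Fitting.pCore_normal r).conj_mem' y hy g⟩
        calc y * (g * c * g⁻¹) = g * (g⁻¹ * y * g * c) * g⁻¹ := by group
          _ = g * c * g⁻¹ * y := by rw [h1]; group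
      exact Subgroup.normal_inf_normal C _
    have hxCp : x ∈ Cp := by
      refine ⟨hx, ?_⟩
      show x ∈ Subgroup.centralizer T
      rw [Subgroup.mem_centralizer_iff]
      rintro y ⟨r, hr, hrp, hy⟩
      obtain ⟨k, hk⟩ := hxp
      exact (@hcen r hr x hx (hk ▸ ((Nat.coprime_primes hp.out hr.out).mpr (Ne.symm hrp)).pow_left k) y hy).symm
    -- `p'`-elements of `Cp` are central
    have hcent : ∀ z : Cp, (orderOf (z : G)).Coprime p → z ∈ Subgroup.center Cp := by
      intro z hz
      have hzF : (z : G) ∈ F := by
        apply hCF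
        have hle : F ≤ Subgroup.centralizer {(z : G)} := by
          rw [hFdef, Fitting.fitting_eq_iSup_pCore]
          refine iSup_le fun r => ?_
          intro y hy
          haveI : Fact (r : ℕ).Prime := ⟨r.2⟩
          rw [Subgroup.mem_centralizer_iff]
          intro w hw
          obtain rfl : w = (z : G) := hw
          by_cases hrp : (r : ℕ) = p
          · exact hcen r _ z.2.1 (hrp ▸ hz) y hy
          · exact (Subgroup.mem_centralizer_iff.mp z.2.2 y ⟨r, inferInstance, hrp, hy⟩).symm
        rw [Subgroup.mem_centralizer_iff]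
        intro y hy
        exact ((Subgroup.mem_centralizer_iff.mp (hle hy)) z rfl).symm
      haveI := Fitting.fitting_isNilpotent (G := G)
      rw [Subgroup.mem_center_iff]
      intro c
      apply Subtype.ext
      show (c : G) * z = z * c
      -- the primes parts of `z` lie in the cores `O_r`, `r ≠ p`
      have hzT : (z : G) ∈ Subgroup.closure T := by
        refine FG72.mem_of_forall_primePow (Subgroup.closure T) (z : G) fun r hr j hj => ?_
        haveI := Fact.mk hr
        rcases Nat.eq_zero_or_pos j with rfl | hj0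
        · intro i hi
          rw [pow_zero, orderOf_eq_one_iff] at hi
          rw [hi]; exact one_mem _
        · intro i hi
          refine Subgroup.subset_closure ⟨r, inferInstance, ?_, ?_⟩
          · rintro rfl
            have h1 : r ∣ orderOf (z : G) :=
              ((dvd_pow_self r (by omega)).trans hi.symm.dvd).trans (orderOf_pow_dvd i)
            exact hr.ne_one (Nat.eq_one_of_dvd_coprimes hz h1 dvd_rfl)
          · exact FG72.mem_pCore_of_fitting (pow_mem hzF i) hi
      have : Subgroup.closure T ≤ Subgroup.centralizer {(c : G)} := by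
        rw [Subgroup.closure_le]
        intro y hy
        show y ∈ Subgroup.centralizer {(c : G)}
        rw [Subgroup.mem_centralizer_iff]
        intro w hw
        obtain rfl : w = (c : G) := hw
        exact (Subgroup.mem_centralizer_iff.mp c.2.2 y hy).symm
      exact (Subgroup.mem_centralizer_iff.mp (this hzT)) c rfl
    have hq : IsPGroup p (Cp ⧸ Subgroup.center Cp) := by
      intro q
      obtain ⟨c, rfl⟩ := QuotientGroup.mk_surjective q
      refine ⟨(orderOf (c : G)).factorization p, ?_⟩
      rw [← QuotientGroup.mk_pow, QuotientGroup.eq_one_iff]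
      apply hcent
      have hpos : 0 < orderOf (c : G) := orderOf_pos _
      rw [SubgroupClass.coe_pow, orderOf_pow_of_dvd (pow_pos hp.out.pos _).ne'
        (Nat.ordProj_dvd _ _)]
      exact (Nat.coprime_ordCompl hp.out hpos.ne').symm
    haveI := hq.isNilpotent
    exact Fitting.le_fitting hCpn (Group.of_quotient_center_nilpotent inferInstance) hxCp
  have hgC : g ∈ C := by
    rw [Subgroup.mem_centralizer_iff]
    rintro x ⟨hx, hxo⟩
    exact (hg x hx hxo).symm
  refine FG72.mem_of_forall_primePow F g fun r hr j hj i hi => ?_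
  exact @key r ⟨hr⟩ _ (pow_mem hgC i) ⟨j, hi⟩

end Cfsg.Agent.S3785
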