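import Cfsg.Statements.S3786
import Cfsg.Agent.FGS73.PLenOdd

set_option autoImplicit false
open Cfsg

namespace Cfsg.Agent.S3786

/-- The Hall–Higman bound on p-length. Let p be an odd prime and G a finite p-soluble group whose Sylow p-subgroups have exponent dividing p^e. (a) If p is not of the form 2^k + 1, or if the Sylow 2-subgroups of G are abelian, then G has p-length at most e. (b) In every case G has p-length at most 2e. -/
theorem result {G : Type*} [Group G] [Finite G] {p : ℕ} [Fact p.Prime] (hp : p ≠ 2) (hG : Cfsg.IsPSolvable p G) (e : ℕ) (hexp : ∀ (P : Sylow p G), ∀ x ∈ (P : Subgroup G), x ^ p ^ e = 1) : (((¬ ∃ k : ℕ, p = 2 ^ k + 1) ∨ ∀ S : Sylow 2 G, IsMulCommutative (S : Subgroup G)) → Cfsg.PLengthLE p e G) ∧ Cfsg.PLengthLE p (2 * e) G := by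
  have hp' : p.Prime := Fact.out
  have hel : ∀ g : G, (∃ l, g ^ p ^ l = 1) → g ^ p ^ e = 1 := fun g hg =>
    Cfsg.Agent.FGS73.exp_of_sylow hexp hg
  refine ⟨fun h => Cfsg.Agent.FGS73.plength_le_exponent hG hel ?_,
    Cfsg.Agent.FGS73.plength_le_two_exponent hp hG hel⟩
  intro n₀ q k hn hq hk heq S
  haveI := Fact.mk hq
  have hodd : Odd (p ^ n₀) := (hp'.odd_of_ne_two hp).pow
  have h2 : 2 ∣ q ^ k := by
    rw [← heq]
    obtain ⟨c, hc⟩ := hodd
    exact ⟨c, by omega⟩
  obtain rfl : q = 2 := ((Nat.prime_dvd_prime_iff_eq Nat.prime_two hq).1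
    (Nat.prime_two.dvd_of_dvd_pow h2)).symm
  rcases h with h | h
  · exfalso
    apply h
    have h3 : p - 1 ∣ p ^ n₀ - 1 := by simpa using Nat.sub_dvd_pow_sub_pow p 1 n₀
    rw [heq] at h3
    obtain ⟨i, -, hi⟩ := (Nat.dvd_prime_pow Nat.prime_two).1 h3
    exact ⟨i, by have := hp'.two_le; omega⟩
  · exact h S

end Cfsg.Agent.S3786
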