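import Cfsg.Statements.S3787
import Cfsg.Agent.FGS73.PLen

set_option autoImplicit false
open Cfsg

namespace Cfsg.Agent.S3787

/-- A chain `v, D v, …` of length `p` ending in a nonzero vector is independent. -/
theorem chain_injective {F V : Type*} [Field F] [AddCommGroup V] [Module F V] (D : Module.End F V)
    {v : V} {m : ℕ} (hD : D ^ (m + 1) = 0) (hv : (D ^ m) v ≠ 0) :
    Function.Injective (fun c : Fin (m + 1) → F => ∑ i, c i • (D ^ (i : ℕ)) v) := by
  intro a b hab
  have h0 : ∑ i, (a i - b i) • (D ^ (i : ℕ)) v = 0 := by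
    simp only [sub_smul, Finset.sum_sub_distrib]
    exact sub_eq_zero.2 hab
  suffices h : ∀ n (i : Fin (m + 1)), (i : ℕ) = n → a i - b i = 0 from
    funext fun i => sub_eq_zero.1 (h i i rfl)
  intro n
  induction n using Nat.strong_induction_on with
  | _ n ih =>
    intro i hi
    have h1 := congrArg (D ^ (m - n)) h0
    rw [map_sum, map_zero, Finset.sum_eq_single i (fun j _ hj => ?_) (by simp)] at h1
    · rw [map_smul, ← Module.End.mul_apply, ← pow_add,
        show m - n + (i : ℕ) = m by have := i.2; omega] at h1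
      exact (smul_eq_zero.1 h1).resolve_right hv
    · rw [map_smul]
      rcases Nat.lt_or_ge (j : ℕ) n with hlt | hge
      · rw [ih _ hlt j rfl, zero_smul]
      · have : n < (j : ℕ) := lt_of_le_of_ne hge fun h => hj (Fin.ext (by omega))
        rw [← Module.End.mul_apply, ← pow_add, pow_eq_zero_of_le (by omega) hD,
          LinearMap.zero_apply, smul_zero]

/-- A regular orbit on the Frattini quotient of `O_p` gives a `C_p ≀ C_p` section. -/
theorem wreath_section {Y : Type*} [Group Y] [Finite Y] {p : ℕ} [Fact p.Prime] {w : Y}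
    (hwp : w ^ p ∈ pCore p Y) (hw : w ∉ pCore p Y) (v : Agent.FGS73.FratMod p Y)
    (hv : ((Agent.FGS73.fratRep (p := p) w - 1) ^ (p - 1)) v ≠ 0) :
    ∃ (K : Subgroup Y) (W : Type) (_ : Group W) (_ : Finite W) (f : K →* W),
      K ≤ pCore p Y ⊔ Subgroup.zpowers w ∧ Function.Surjective f ∧
      ∃ (B : Subgroup W) (t : W), B.Normal ∧ IsMulCommutative B ∧ (∀ b ∈ B, b ^ p = 1) ∧
        Nat.card B = p ^ p ∧ orderOf t = p ∧ t ∉ B ∧ Nat.card W = p ^ (p + 1) ∧
        Nat.card ↥(B ⊓ Subgroup.centralizer ({t} : Set W)) = p := by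
  classical
  have hp : p.Prime := Fact.out
  obtain ⟨m, hm⟩ : ∃ m, p = m + 1 := ⟨p - 1, by have := hp.two_le; omega⟩
  rw [show p - 1 = m by omega] at hv
  let P1 : Subgroup Y := pCore p Y
  let X := Agent.FGS73.fratRep (p := p) w
  let D := X - 1
  have hXp : X ^ p = 1 := by
    change (Agent.FGS73.fratRep w) ^ p = 1
    rw [← map_pow]
    exact MonoidHom.mem_ker.1 (Agent.FGS73.pCore_le_ker_fratRep hwp)
  have hDp : D ^ (m + 1) = 0 := by
    have h2 := congrArg (Polynomial.aeval X) (sub_pow_char_pow (p := p) (n := 1)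
      (Polynomial.X : Polynomial (ZMod p)) 1)
    simp only [pow_one, map_pow, map_sub, Polynomial.aeval_X, map_one, one_pow, hXp, sub_self] at h2
    exact hm ▸ h2
  let L : (Fin (m + 1) → ZMod p) →ₗ[ZMod p] Agent.FGS73.FratMod p Y :=
    Fintype.linearCombination (ZMod p) (fun i : Fin (m + 1) => (D ^ (i : ℕ)) v)
  have hL : Function.Injective L := by
    have h := chain_injective D hDp hv
    intro a b hab
    exact h (by simpa [L, Fintype.linearCombination_apply] using hab)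
  let Wv := LinearMap.range L
  have hvk : ∀ k, (D ^ k) v ∈ Wv := by
    intro k
    rcases Nat.lt_or_ge k (m + 1) with hk | hk
    · exact ⟨Pi.single ⟨k, hk⟩ 1, by simp [L]⟩
    · rw [pow_eq_zero_of_le hk hDp]; exact Wv.zero_mem
  have hWvD : ∀ a ∈ Wv, D a ∈ Wv := by
    rintro _ ⟨c, rfl⟩
    rw [show L c = ∑ i, c i • (D ^ (i : ℕ)) v from Fintype.linearCombination_apply _ _ _, map_sum]
    refine Wv.sum_mem fun i _ => ?_
    rw [map_smul, ← Module.End.mul_apply, ← pow_succ']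
    exact Wv.smul_mem _ (hvk _)
  -- the fixed points in the chain
  have hfixed : ∀ a ∈ Wv, (D a = 0 ↔ a ∈ Submodule.span (ZMod p) {(D ^ m) v}) := by
    rintro _ ⟨c, rfl⟩
    constructor
    · intro h
      rw [show L c = ∑ i, c i • (D ^ (i : ℕ)) v from Fintype.linearCombination_apply _ _ _,
        map_sum] at h
      have hc : ∀ i : Fin m, c i.castSucc = 0 := by
        have h1 : L (Fin.cons 0 fun i : Fin m => c i.castSucc) = L 0 := by
          rw [map_zero, show L _ = _ from Fintype.linearCombination_apply _ _ _, ← h,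
            Fin.sum_univ_succ, Fin.cons_zero, zero_smul, zero_add, Fin.sum_univ_castSucc,
            map_smul, ← Module.End.mul_apply, ← pow_succ', Fin.val_last, hDp, LinearMap.zero_apply,
            smul_zero, add_zero]
          refine Finset.sum_congr rfl fun i _ => ?_
          rw [Fin.cons_succ, map_smul, ← Module.End.mul_apply, ← pow_succ', Fin.val_castSucc,
            Fin.val_succ]
        intro i
        have h2 := congrFun (hL h1) i.succ
        rwa [Fin.cons_succ] at h2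
      rw [show L c = ∑ i, c i • (D ^ (i : ℕ)) v from Fintype.linearCombination_apply _ _ _,
        Fin.sum_univ_castSucc, Finset.sum_eq_zero (fun i _ => by rw [hc i, zero_smul]), zero_add,
        Fin.val_last]
      exact Submodule.smul_mem _ _ (Submodule.mem_span_singleton_self _)
    · intro h
      obtain ⟨s, hs⟩ := Submodule.mem_span_singleton.1 h
      rw [← hs, map_smul, ← Module.End.mul_apply, ← pow_succ', hDp, LinearMap.zero_apply, smul_zero]
  have hN : (∑ i ∈ Finset.range p, X ^ i) = D ^ m := by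
    have := Agent.FGS73.sum_pow_eq (K := ZMod p) p 1 X
    rwa [pow_one, show p - 1 = m by omega] at this
  -- adjust `w` so that the class of `w ^ p` avoids the chain
  set z₀ := Agent.FGS73.fratClass (⟨w ^ p, hwp⟩ : P1) with hz₀
  have hz₀D : D z₀ = 0 := by
    change X z₀ - z₀ = 0
    rw [hz₀, Agent.FGS73.fratRep_class, sub_eq_zero]
    congr 1
    exact Subtype.ext (by
      rw [MulAut.conjNormal_apply]; change w * w ^ p * w⁻¹ = w ^ p
      rw [← pow_succ', pow_succ, mul_inv_cancel_right])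
  obtain ⟨w', hw'p, hw', hw'K, hXw', hz'⟩ : ∃ w', ∃ h : w' ^ p ∈ P1, w' ∉ P1 ∧
      w' ∈ P1 ⊔ Subgroup.zpowers w ∧ Agent.FGS73.fratRep (p := p) w' = X ∧
      (Agent.FGS73.fratClass (⟨w' ^ p, h⟩ : P1) ∈ Wv →
        Agent.FGS73.fratClass (⟨w' ^ p, h⟩ : P1) = 0) := by
    by_cases hz : z₀ ∈ Wv
    swap
    · exact ⟨w, hwp, hw, Subgroup.mem_sup_right (Subgroup.mem_zpowers w), rfl, fun h => absurd h hz⟩
    obtain ⟨s, hs⟩ := Submodule.mem_span_singleton.1 ((hfixed z₀ hz).1 hz₀D)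
    obtain ⟨u, hu⟩ := Agent.FGS73.fratClass_surjective (p := p) (Y := Y) (-s • v)
    obtain ⟨a, ha, hac⟩ := Agent.FGS73.mul_pow_fratClass w u p
    have hmem : ((u : Y) * w) ^ p ∈ P1 := ha ▸ P1.mul_mem a.2 hwp
    refine ⟨(u : Y) * w, hmem, fun h => hw ?_,
      mul_mem (Subgroup.mem_sup_left u.2) (Subgroup.mem_sup_right (Subgroup.mem_zpowers w)),
      ?_, fun _ => ?_⟩
    · have := P1.mul_mem (P1.inv_mem u.2) h
      rwa [inv_mul_cancel_left] at this
    · rw [map_mul, MonoidHom.mem_ker.1 (Agent.FGS73.pCore_le_ker_fratRep u.2), one_mul]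
    · rw [show (⟨((u : Y) * w) ^ p, hmem⟩ : P1) = a * ⟨w ^ p, hwp⟩ from Subtype.ext ha,
        Agent.FGS73.fratClass_mul, hac, hN, hu, map_smul, ← hz₀, ← hs, neg_smul, neg_add_cancel]
  set z := Agent.FGS73.fratClass (⟨w' ^ p, hw'p⟩ : P1) with hz
  let Z := Submodule.span (ZMod p) {z}
  have hzD : X z = z := by
    rw [← hXw', hz, Agent.FGS73.fratRep_class]
    congr 1
    exact Subtype.ext (by
      rw [MulAut.conjNormal_apply]; change w' * w' ^ p * w'⁻¹ = w' ^ p
      rw [← pow_succ', pow_succ, mul_inv_cancel_right])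
  have hdisj : ∀ a ∈ Wv, a ∈ Z → a = 0 := by
    intro a ha haZ
    obtain ⟨s, rfl⟩ := Submodule.mem_span_singleton.1 haZ
    rcases eq_or_ne s 0 with rfl | hs
    · rw [zero_smul]
    · have : z ∈ Wv := by
        have := Wv.smul_mem s⁻¹ ha
        rwa [smul_smul, inv_mul_cancel₀ hs, one_smul] at this
      rw [hz' this, smul_zero]
  -- the subgroups
  let pre : Submodule (ZMod p) (Agent.FGS73.FratMod p Y) → Subgroup Y := fun M =>
    { carrier := {a | ∃ h : a ∈ P1, Agent.FGS73.fratClass (⟨a, h⟩ : P1) ∈ M}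
      one_mem' := ⟨P1.one_mem, M.zero_mem⟩
      mul_mem' := fun {a b} ⟨ha, ha'⟩ ⟨hb, hb'⟩ => ⟨P1.mul_mem ha hb, M.add_mem ha' hb'⟩
      inv_mem' := fun {a} ⟨ha, ha'⟩ => ⟨P1.inv_mem ha, M.neg_mem ha'⟩ }
  let B0 := pre (Wv ⊔ Z)
  let R := pre Z
  let K : Subgroup Y := B0 ⊔ Subgroup.zpowers w'
  have hRB : R ≤ B0 := fun a ⟨h, h'⟩ => ⟨h, Submodule.mem_sup_right h'⟩
  have hXW : ∀ a ∈ Wv, X a ∈ Wv := fun a ha => by
    have := Wv.add_mem (hWvD a ha) ha
    rwa [LinearMap.sub_apply, Module.End.one_apply, sub_add_cancel] at this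
  have hXZ : ∀ a ∈ Z, X a = a := fun a ha => by
    obtain ⟨s, rfl⟩ := Submodule.mem_span_singleton.1 ha
    rw [map_smul, hzD]
  have hnorm : ∀ M : Submodule (ZMod p) (Agent.FGS73.FratMod p Y), (∀ a ∈ M, X a ∈ M) →
      ∀ k ∈ K, ∀ a ∈ pre M, k * a * k⁻¹ ∈ pre M := by
    intro M hM
    have hconj : ∀ g : Y, (∀ a ∈ M, Agent.FGS73.fratRep g a ∈ M) →
        ∀ a ∈ pre M, g * a * g⁻¹ ∈ pre M := fun g hg a ⟨h, h'⟩ =>
      ⟨(inferInstance : (pCore p Y).Normal).conj_mem a h g, by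
        have := hg _ h'
        rw [Agent.FGS73.fratRep_class] at this
        exact this⟩
    intro k hk
    refine hconj k ?_
    have hkX : ∃ i : ℕ, Agent.FGS73.fratRep (p := p) k = X ^ i := by
      obtain ⟨b, hb, c, ⟨i, rfl⟩, rfl⟩ : ∃ b ∈ P1, ∃ c ∈ Subgroup.zpowers w', b * c = k :=
        Subgroup.mem_sup_of_normal_left.1
          ((sup_le ((show B0 ≤ P1 from fun a ha => ha.1).trans le_sup_left) le_sup_right :
            K ≤ P1 ⊔ Subgroup.zpowers w') hk)
      obtain ⟨l, hl⟩ : ∃ l : ℕ, w' ^ i = w' ^ l := by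
        obtain ⟨l, hl⟩ := mem_powers_iff_mem_zpowers.2 (⟨i, rfl⟩ : w' ^ i ∈ Subgroup.zpowers w')
        exact ⟨l, hl.symm⟩
      refine ⟨l, ?_⟩
      change Agent.FGS73.fratRep (b * w' ^ i) = _
      rw [map_mul, MonoidHom.mem_ker.1 (Agent.FGS73.pCore_le_ker_fratRep hb), one_mul, hl, map_pow,
        hXw']
    obtain ⟨i, hi⟩ := hkX
    rw [hi]
    clear hi
    induction i with
    | zero => exact fun a ha => ha
    | succ i ih => exact fun a ha => by rw [pow_succ', Module.End.mul_apply]; exact hM _ (ih a ha)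
  haveI hRn : (R.subgroupOf K).Normal :=
    ⟨fun a ha k => hnorm Z (fun a ha => by rw [hXZ a ha]; exact ha) k k.2 a ha⟩
  let W0 := K ⧸ R.subgroupOf K
  let W1 : Type := Shrink.{0} W0
  haveI : Finite W1 := Finite.of_equiv W0 (equivShrink.{0} W0)
  let f : K →* W1 := (Shrink.mulEquiv.{0} (α := W0)).symm.toMonoidHom.comp (QuotientGroup.mk' _)
  have hfs : Function.Surjective f :=
    (Shrink.mulEquiv.{0} (α := W0)).symm.surjective.comp (QuotientGroup.mk'_surjective _)
  have hfk : ∀ k : K, f k = 1 ↔ (k : Y) ∈ R := fun k => by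
    change (Shrink.mulEquiv.{0} (α := W0)).symm (QuotientGroup.mk' _ k) = 1 ↔ _
    rw [MulEquiv.map_eq_one_iff, QuotientGroup.mk'_apply, QuotientGroup.eq_one_iff,
      Subgroup.mem_subgroupOf]
  have hBK : B0 ≤ K := le_sup_left
  let fB : B0 →* W1 := f.comp (Subgroup.inclusion hBK)
  let B := fB.range
  let t := f ⟨w', Subgroup.mem_sup_right (Subgroup.mem_zpowers w')⟩
  have hBP : ∀ a : B0, (a : Y) ∈ P1 := fun a => a.2.1
  have hcls : ∀ a b : B0, fB a = fB b ↔
      Agent.FGS73.fratClass (⟨a, hBP a⟩ : P1) - Agent.FGS73.fratClass (⟨b, hBP b⟩ : P1) ∈ Z := by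
    intro a b
    have he : Agent.FGS73.fratClass (⟨a, hBP a⟩ : P1) - Agent.FGS73.fratClass (⟨b, hBP b⟩ : P1) =
        Agent.FGS73.fratClass ((⟨a, hBP a⟩ : P1) * (⟨b, hBP b⟩ : P1)⁻¹) := by
      rw [Agent.FGS73.fratClass_mul, sub_eq_add_neg]; rfl
    rw [← mul_inv_eq_one, ← map_inv, ← map_mul, he]
    refine (hfk _).trans ⟨fun ⟨h, h'⟩ => h', fun h => ⟨_, h⟩⟩
  -- lifts of the chain
  have hlift : ∀ a ∈ Wv, ∃ b : B0, Agent.FGS73.fratClass (⟨b, hBP b⟩ : P1) = a := fun a ha => by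
    obtain ⟨u, hu⟩ := Agent.FGS73.fratClass_surjective (p := p) (Y := Y) a
    exact ⟨⟨u, u.2, by rw [show (⟨(u : Y), u.2⟩ : P1) = u from rfl, hu]; exact Submodule.mem_sup_left ha⟩, hu⟩
  have hwR : (w' ^ p) ∈ R := ⟨hw'p, Submodule.mem_span_singleton_self _⟩
  have htp : t ^ p = 1 := by
    rw [← map_pow, hfk]; exact hwR
  have htB : t ∉ B := by
    rintro ⟨b, hb⟩
    apply hw'
    have h1 : f (Subgroup.inclusion hBK b⁻¹ * ⟨w', Subgroup.mem_sup_right (Subgroup.mem_zpowers w')⟩) = 1 := by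
      rw [map_mul, show f (Subgroup.inclusion hBK b⁻¹) = fB b⁻¹ from rfl, map_inv, hb, inv_mul_cancel]
    have h2 := P1.mul_mem (hBP b) ((hfk _).1 h1).1
    simpa using h2
  haveI hBn : B.Normal := by
    refine ⟨?_⟩
    rintro _ ⟨b, rfl⟩ g
    obtain ⟨k, rfl⟩ := hfs g
    refine ⟨⟨(k : Y) * b * (k : Y)⁻¹, hnorm (Wv ⊔ Z) ?_ k k.2 b b.2⟩, ?_⟩
    · intro a ha
      obtain ⟨a₁, h₁, a₂, h₂, rfl⟩ := Submodule.mem_sup.1 ha
      rw [map_add, hXZ a₂ h₂]
      exact Submodule.add_mem_sup (hXW a₁ h₁) h₂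
    · change f _ = f k * f _ * (f k)⁻¹
      rw [← map_inv, ← map_mul, ← map_mul]
      rfl
  let φ : Wv → B := fun a => ⟨fB (hlift a a.2).choose, _, rfl⟩
  have hφ : Function.Bijective φ := by
    constructor
    · intro a b hab
      have h1 := (hcls _ _).1 (congrArg Subtype.val hab)
      rw [(hlift a a.2).choose_spec, (hlift b b.2).choose_spec] at h1
      exact Subtype.ext (sub_eq_zero.1 (hdisj _ (Wv.sub_mem a.2 b.2) h1))
    · rintro ⟨_, b, rfl⟩
      obtain ⟨a₁, h₁, a₂, h₂, hab⟩ := Submodule.mem_sup.1 b.2.2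
      refine ⟨⟨a₁, h₁⟩, Subtype.ext ((hcls _ _).2 ?_)⟩
      rw [(hlift a₁ h₁).choose_spec]
      rw [show (⟨(b : Y), hBP b⟩ : P1) = ⟨(b : Y), b.2.1⟩ from rfl, ← hab, sub_add_cancel_left]
      exact Z.neg_mem h₂
  have hcardB : Nat.card B = p ^ p := by
    rw [← Nat.card_congr (Equiv.ofBijective φ hφ),
      ← Nat.card_congr (LinearEquiv.ofInjective L hL).toEquiv, Nat.card_fun, Nat.card_zmod,
      Nat.card_fin, ← hm]
  have hto : orderOf t = p := orderOf_eq_prime htp (fun h => htB (h ▸ B.one_mem))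
  have hidx : B.index = p := by
    rw [Subgroup.index_eq_card]
    have hgen : Subgroup.zpowers (QuotientGroup.mk' B t) = ⊤ := by
      rw [eq_top_iff]
      intro g _
      obtain ⟨g, rfl⟩ := QuotientGroup.mk'_surjective B g
      obtain ⟨k, rfl⟩ := hfs g
      have hk : K ≤ ((Subgroup.zpowers (QuotientGroup.mk' B t)).comap
          ((QuotientGroup.mk' B).comp f)).map K.subtype := by
        refine sup_le (fun a ha => ⟨⟨a, hBK ha⟩, ?_, rfl⟩) (Subgroup.zpowers_le.2
          ⟨⟨w', Subgroup.mem_sup_right (Subgroup.mem_zpowers w')⟩, Subgroup.mem_zpowers _, rfl⟩)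
        simp only [SetLike.mem_coe, Subgroup.mem_comap, MonoidHom.comp_apply]
        rw [show QuotientGroup.mk' B (f ⟨a, hBK ha⟩) = 1 from
          (QuotientGroup.eq_one_iff _).2 ⟨⟨a, ha⟩, rfl⟩]
        exact one_mem _
      obtain ⟨k', hk', hkk⟩ := hk k.2
      rw [← Subtype.ext (a2 := k) hkk]
      exact hk'
    rw [← Subgroup.card_top, ← hgen, Nat.card_zpowers]
    refine orderOf_eq_prime (by rw [← map_pow, htp, map_one]) fun h => htB ?_
    rwa [QuotientGroup.mk'_apply, QuotientGroup.eq_one_iff] at h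
  refine ⟨K, W1, inferInstance, inferInstance, f, ?_, hfs, B, t, hBn, ?_, ?_, hcardB, hto, htB,
    ?_, ?_⟩
  · exact sup_le (fun a ha => Subgroup.mem_sup_left ha.1) (Subgroup.zpowers_le.2 hw'K)
  · refine ⟨⟨fun x y => ?_⟩⟩
    obtain ⟨_, a, rfl⟩ := x
    obtain ⟨_, b, rfl⟩ := y
    refine Subtype.ext ?_
    change fB a * fB b = fB b * fB a
    rw [← map_mul, ← map_mul, hcls]
    convert Z.zero_mem using 1
    rw [sub_eq_zero]
    exact (Agent.FGS73.fratClass_mul (⟨a, hBP a⟩ : P1) ⟨b, hBP b⟩).trans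
      ((add_comm _ _).trans (Agent.FGS73.fratClass_mul (⟨b, hBP b⟩ : P1) ⟨a, hBP a⟩).symm)
  · rintro _ ⟨b, rfl⟩
    rw [← map_pow]
    refine ((hcls (b ^ p) 1).2 ?_).trans (map_one _)
    rw [show Agent.FGS73.fratClass (⟨((1 : B0) : Y), hBP 1⟩ : P1) = 0 from rfl, sub_zero,
      Agent.FGS73.fratClass_eq_zero.2]
    · exact Z.zero_mem
    · rw [show (⟨((b ^ p : B0) : Y), hBP (b ^ p)⟩ : P1) = (⟨b, hBP b⟩ : P1) ^ p from
        Subtype.ext (by simp)]
      exact Agent.PGroup.pow_mem_frattini Agent.Thompson.isPGroup_pCore _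
  · rw [← B.index_mul_card, hidx, hcardB, ← pow_succ']
  · have hconj : ∀ a : Wv, t * (φ a : W1) = (φ a : W1) * t ↔ D (a : Agent.FGS73.FratMod p Y) = 0 := by
      intro a
      set b := (hlift a a.2).choose with hb
      have hb' : Agent.FGS73.fratClass (⟨b, hBP b⟩ : P1) = (a : Agent.FGS73.FratMod p Y) :=
        (hlift a a.2).choose_spec
      let c : B0 := ⟨w' * b * w'⁻¹, hnorm (Wv ⊔ Z) (fun x hx => by
        obtain ⟨a₁, h₁, a₂, h₂, rfl⟩ := Submodule.mem_sup.1 hx
        rw [map_add, hXZ a₂ h₂]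
        exact Submodule.add_mem_sup (hXW a₁ h₁) h₂) w'
          (Subgroup.mem_sup_right (Subgroup.mem_zpowers w')) b b.2⟩
      have hc : fB c = t * fB b * t⁻¹ := by
        change f _ = t * f _ * t⁻¹
        rw [← map_inv, ← map_mul, ← map_mul]
        rfl
      rw [← mul_inv_eq_iff_eq_mul, show (φ a : W1) = fB b from rfl, ← hc, hcls]
      have hcc : Agent.FGS73.fratClass (⟨c, hBP c⟩ : P1) = X a := by
        rw [← hb', ← hXw', Agent.FGS73.fratRep_class]
        rfl
      rw [hcc, hb']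
      exact ⟨fun h => hdisj _ (hWvD a a.2) h, fun h => by
        rw [show X (a : Agent.FGS73.FratMod p Y) - a = D a from rfl, h]; exact Z.zero_mem⟩
    let S := Submodule.span (ZMod p) {(D ^ m) v}
    have hSW : S ≤ Wv := by rw [Submodule.span_singleton_le_iff_mem]; exact hvk m
    have hbij : Function.Bijective (fun a : S =>
        (⟨(φ ⟨a, hSW a.2⟩ : W1), (φ _).2, Subgroup.mem_centralizer_singleton_iff.2
          ((hconj _).2 ((hfixed _ (hSW a.2)).2 a.2)).symm⟩ : ↥(B ⊓ Subgroup.centralizer {t}))) := by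
      constructor
      · intro a b hab
        have h1 := hφ.1 (Subtype.ext (congrArg (fun x : ↥(B ⊓ Subgroup.centralizer {t}) => (x : W1)) hab))
        exact Subtype.ext (Subtype.mk.inj h1)
      · rintro ⟨y, hyB, hyC⟩
        obtain ⟨a, ha⟩ := hφ.2 ⟨y, hyB⟩
        have ha' : (φ a : W1) = y := congrArg Subtype.val ha
        have h1 := (hconj a).1 (by rw [ha']; exact (Subgroup.mem_centralizer_singleton_iff.1 hyC).symm)
        exact ⟨⟨a, (hfixed _ a.2).1 h1⟩, Subtype.ext ha'⟩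
    rw [← Nat.card_congr (Equiv.ofBijective _ hbij),
      ← Nat.card_congr (LinearEquiv.toSpanNonzeroSingleton (ZMod p) _ _ hv).toEquiv, Nat.card_zmod]

/-- Let G be a finite p-soluble group, p an odd prime not of the form 2^k + 1, and suppose the wreath product C_p ≀ C_p (of order p^(p+1)) is not involved in a Sylow p-subgroup of G: no section of a Sylow p-subgroup is isomorphic to it. Then G has p-length at most 1. -/
theorem result {G : Type*} [Group G] [Finite G] {p : ℕ} [Fact p.Prime] (hp2 : p ≠ 2) (hnf : (¬ ∃ k : ℕ, p = 2 ^ k + 1)) (hG : Cfsg.IsPSolvable p G) (P : Sylow p G) (hwr : ∀ (W : Type) [Group W] [Finite W], (∃ (B : Subgroup W) (t : W), B.Normal ∧ IsMulCommutative B ∧ (∀ b ∈ B, b ^ p = 1) ∧ Nat.card B = p ^ p ∧ orderOf t = p ∧ t ∉ B ∧ Nat.card W = p ^ (p + 1) ∧ Nat.card ↥(B ⊓ Subgroup.centralizer ({t} : Set W)) = p) → ¬ Cfsg.Involves W ↥(P : Subgroup G)) : Cfsg.PLengthLE p 1 G := by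
  classical
  have hp : p.Prime := Fact.out
  set U := (upperPSeries p G (2 * 0 + 1)).1 with hU
  let π := QuotientGroup.mk' U
  refine Agent.FGS73.plength_of_upper fun g hg => Agent.FGS73.upper_step 0 ?_
  have hsolY := Agent.Thompson.isPSolvable_quotient U hG
  have hOY : pPrimeCore p (G ⧸ U) = ⊥ := Agent.PLocalB.pPrimeCore_quotient_upperPSeries 0
  by_contra hne
  obtain ⟨l, hl⟩ := hg
  -- an element of order `p` modulo `O_p`
  obtain ⟨y, hy, hyp, hyl⟩ : ∃ y : G ⧸ U, y ∉ pCore p (G ⧸ U) ∧ y ^ p ∈ pCore p (G ⧸ U) ∧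
      ∃ k, y ^ p ^ k = 1 := by
    have hl' : (π g) ^ p ^ l = 1 := by rw [← map_pow, hl, map_one]
    have hex : ∃ i, (π g) ^ p ^ i ∈ pCore p (G ⧸ U) := ⟨l, hl' ▸ one_mem _⟩
    obtain ⟨i, hi⟩ : ∃ i, Nat.find hex = i + 1 := Nat.exists_eq_succ_of_ne_zero fun h0 => hne (by
      have := Nat.find_spec hex
      rwa [h0, pow_zero, pow_one] at this)
    refine ⟨(π g) ^ p ^ i, Nat.find_min hex (by omega), ?_, l, ?_⟩
    · rw [← pow_mul, ← pow_succ, ← hi]
      exact Nat.find_spec hex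
    · rw [← pow_mul, mul_comm (p ^ i), pow_mul, hl', one_pow]
  -- move it into the image of `P`
  let S := P.mapSurjective (QuotientGroup.mk'_surjective U)
  have hZ : IsPGroup p (Subgroup.zpowers y) := fun a => by
    obtain ⟨a, i, rfl⟩ := a
    obtain ⟨k, hk⟩ := hyl
    refine ⟨k, Subtype.ext ?_⟩
    change (y ^ i) ^ p ^ k = 1
    rw [← zpow_natCast, ← zpow_mul, mul_comm i, zpow_mul, zpow_natCast, hk, one_zpow]
  obtain ⟨S', hS'⟩ := hZ.exists_le_sylow
  obtain ⟨c, hc⟩ := MulAction.exists_smul_eq (G ⧸ U) S' S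
  set w := c * y * c⁻¹ with hw
  have hwS : w ∈ (S : Subgroup (G ⧸ U)) := by
    rw [← hc]
    exact ⟨y, hS' (Subgroup.mem_zpowers y), by simp [hw]⟩
  have hwP : w ∉ pCore p (G ⧸ U) := fun h => hy (by
    have := (inferInstance : (pCore p (G ⧸ U)).Normal).conj_mem w h c⁻¹
    simpa [hw, mul_assoc] using this)
  have hwp : w ^ p ∈ pCore p (G ⧸ U) := by
    rw [hw, conj_pow]
    exact (inferInstance : (pCore p (G ⧸ U)).Normal).conj_mem _ hyp c
  -- it has a Jordan block of length `p`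
  obtain ⟨v, hv⟩ : ∃ v, ((Agent.FGS73.fratRep (p := p) w - 1) ^ (p - 1)) v ≠ 0 := by
    by_contra h
    push Not at h
    let ρ : (G ⧸ U) ⧸ pCore p (G ⧸ U) →* Module.End (ZMod p) (Agent.FGS73.FratMod p (G ⧸ U)) :=
      QuotientGroup.lift _ Agent.FGS73.fratRep Agent.FGS73.pCore_le_ker_fratRep
    have hρ : Function.Injective ρ := by
      rw [← MonoidHom.ker_eq_bot_iff, eq_bot_iff]
      intro a ha
      obtain ⟨b, rfl⟩ := QuotientGroup.mk'_surjective (pCore p (G ⧸ U)) a
      rw [Subgroup.mem_bot, QuotientGroup.mk'_apply, QuotientGroup.eq_one_iff,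
        ← Agent.FGS73.ker_fratRep hsolY hOY]
      exact ha
    haveI : Finite (Agent.FGS73.FratMod p (G ⧸ U)) := inferInstanceAs (Finite (Additive _))
    haveI : Module.Finite (ZMod p) (Agent.FGS73.FratMod p (G ⧸ U)) := Module.Finite.of_finite
    obtain ⟨n₀, q, k, h1, h2, hq, -, heq, -, -⟩ := Agent.FGS73.hhb_linear ρ hρ
      (Agent.Thompson.isPSolvable_quotient _ hsolY) Agent.Thompson.pCore_quotient_pCore
      (x := QuotientGroup.mk' _ w) (n := 0) (r := p - 1)
      (by rw [zero_add, pow_one, ← map_pow]; exact (QuotientGroup.eq_one_iff _).2 hwp)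
      (by rw [pow_zero, pow_one]; exact fun h0 => hwP ((QuotientGroup.eq_one_iff _).1 h0))
      (LinearMap.ext h) (by rw [zero_add, pow_one]; have := hp.two_le; omega)
    obtain rfl : n₀ = 1 := by omega
    rw [pow_one] at heq
    haveI := Fact.mk hq
    have h2q : 2 ∣ q ^ k := by
      rw [← heq]
      obtain ⟨c, hc⟩ := hp.odd_of_ne_two hp2
      exact ⟨c, by omega⟩
    obtain rfl : q = 2 := ((Nat.prime_dvd_prime_iff_eq Nat.prime_two hq).1
      (Nat.prime_two.dvd_of_dvd_pow h2q)).symm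
    exact hnf ⟨k, by have := hp.two_le; omega⟩
  obtain ⟨K, W, _, _, f, hK, hf, hW⟩ := wreath_section hwp hwP v hv
  refine hwr W hW ?_
  -- the section lies in the image of `P`
  have hKS : K ≤ (S : Subgroup (G ⧸ U)) := hK.trans
    (sup_le (Agent.Thompson.pCore_le_sylow S) (Subgroup.zpowers_le.2 hwS))
  let KP : Subgroup (P : Subgroup G) := K.comap (π.comp (P : Subgroup G).subtype)
  let h : KP →* W := f.comp (((π.comp (P : Subgroup G).subtype).comp KP.subtype).codRestrict K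
    fun a => a.2)
  have hh : Function.Surjective h := by
    intro b
    obtain ⟨k, rfl⟩ := hf b
    obtain ⟨a, ha, hak⟩ : (k : G ⧸ U) ∈ (P : Subgroup G).map π := hKS k.2
    refine ⟨⟨⟨a, ha⟩, ?_⟩, ?_⟩
    · change π a ∈ K
      rw [hak]; exact k.2
    · change f _ = f k
      congr 1
      exact Subtype.ext hak
  have hR : (h.ker.map KP.subtype).subgroupOf KP = h.ker := by
    rw [Subgroup.subgroupOf, Subgroup.comap_map_eq_self_of_injective KP.subtype_injective]
  haveI hn : ((h.ker.map KP.subtype).subgroupOf KP).Normal := by rw [hR]; infer_instance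
  exact ⟨KP, h.ker.map KP.subtype, hn,
    ⟨(QuotientGroup.quotientMulEquivOfEq hR).trans (QuotientGroup.quotientKerEquivOfSurjective h hh)⟩⟩

end Cfsg.Agent.S3787
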