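import Cfsg.Statements.S3788
import Cfsg.Agent.Lib.CyclicNormalSylow
import Cfsg.Agent.LocalEven61.Involves

set_option autoImplicit false
open Cfsg

namespace Cfsg.Agent.S3788

/-- Let G be a finite p-soluble group, P a Sylow p-subgroup of G and A a cyclic normal subgroup of P. If p is odd, or if no section of G is isomorphic to the symmetric group of degree 4, then A ≤ O_{p',p}(G). -/
theorem result {G : Type*} [Group G] [Finite G] {p : ℕ} [Fact p.Prime] (hG : Cfsg.IsPSolvable p G) (P : Sylow p G) (A : Subgroup G) (hAP : A ≤ (P : Subgroup G)) (hAn : (P : Subgroup G) ≤ Subgroup.normalizer (A : Set G)) (hA : IsCyclic A) (h : p ≠ 2 ∨ ¬ Cfsg.Involves (Equiv.Perm (Fin 4)) G) : A ≤ Cfsg.pPrimePCore p G := by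
  classical
  let π := QuotientGroup.mk' (Cfsg.pPrimeCore p G)
  have hπs : Function.Surjective π := QuotientGroup.mk'_surjective _
  have hq : Cfsg.IsPSolvable p (G ⧸ Cfsg.pPrimeCore p G) := Thompson.isPSolvable_quotient _ hG
  have hcon := Thompson.centralizer_pCore_le hq (Thompson.pPrimeCore_quotient_pPrimeCore)
  have h' : p ≠ 2 ∨ ¬ Cfsg.Involves (Equiv.Perm (Fin 4)) (G ⧸ Cfsg.pPrimeCore p G) :=
    h.imp_right fun h1 h2 => h1 (LocalEven61.involves_of_quotient _ h2)
  have hA' : IsCyclic ↥(A.map π) :=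
    isCyclic_of_surjective (π.subgroupMap A) (π.subgroupMap_surjective A)
  have hAn' : A.map π ≤ Cfsg.pCore p (G ⧸ Cfsg.pPrimeCore p G) := by
    refine CyclicNormalSylow.mem_pCore_of_cyclic_normal hcon h' (P.mapSurjective hπs) (A.map π)
      ?_ ?_ hA'
    · rw [Sylow.coe_mapSurjective]; exact Subgroup.map_mono hAP
    · rw [Sylow.coe_mapSurjective]
      exact (Subgroup.map_mono hAn).trans (Subgroup.le_normalizer_map π)
  exact Subgroup.map_le_iff_le_comap.mp hAn'

end Cfsg.Agent.S3788
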