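import Cfsg.Statements.S3790
import Cfsg.Agent.FGS77.PLengthArith

set_option autoImplicit false
open Cfsg
open scoped commutatorElement

namespace Cfsg.Agent.S3790

/-- Let G be a finite solvable group and p a prime. Suppose p₁, …, p_r are distinct primes, all different from p, that include every prime dividing the order of G other than p, and that G has p_i-length at most l_i for each i. Then G has p-length at most the product of the numbers 1 + l_i. -/
theorem result {G : Type*} [Group G] [Finite G] (hG : Group.IsSolvable G) (p : ℕ) [Fact p.Prime] (r : ℕ) (q : Fin r → ℕ) (hq : ∀ i, (q i).Prime ∧ q i ≠ p) (hinj : Function.Injective q) (hcover : ∀ s : ℕ, s.Prime → s ∣ Nat.card G → s ≠ p → ∃ i, q i = s) (l : Fin r → ℕ) (hl : ∀ i, Cfsg.PLengthLE (q i) (l i) G) : Cfsg.PLengthLE p (Finset.univ.prod fun i => 1 + l i) G := by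
  have h := Cfsg.Agent.FGS77.PLengthArith.product_bound (p := p) (G := G) r q (fun i => (hq i).1) (fun i => (hq i).2) l hl
    ⊥ ⊤ bot_le (fun s hs hsd => by
      rw [Subgroup.relIndex_bot_left, Subgroup.card_top] at hsd
      by_cases hsp : s = p
      · exact Or.inl hsp
      · exact Or.inr (hcover s hs hsd hsp)) 0 bot_le
  rw [zero_add, top_le_iff] at h
  exact h

end Cfsg.Agent.S3790
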