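import Cfsg.Statements.S3798
import Mathlib
import Cfsg.Agent.Lib.Thompson.PSolvable
import Cfsg.Agent.Lib.Coprime.Action
import Cfsg.Agent.OddLocal43.Coprime
import Cfsg.Agent.BGSigma.SmallRank

set_option autoImplicit false
set_option linter.all false
open Cfsg

namespace Cfsg.Agent.S3798


variable {G : Type*} [Group G] [Finite G] {p : ℕ} [hpf : Fact p.Prime]

omit [Finite G] in
theorem mul_pow_mem_pCore (a : MulAut G) {x : G} (hx : x ∈ pCore p G) : a x ∈ pCore p G := by
  rw [← Thompson.map_pCore_equiv (p := p) a]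
  exact ⟨x, hx, rfl⟩

/-- the case with trivial `p'`-core -/
theorem not_dvd_index_pCore (hp : p ≠ 2) (hdvd : p ∣ Nat.card G) (hG : IsPSolvable p G)
    (htrans : ∀ U V : Subgroup G, Nat.card U = p → Nat.card V = p → ∃ a : MulAut G, U.map a.toMonoidHom = V)
    (hO : pPrimeCore p G = ⊥) : ¬ p ∣ (pCore p G).index := by
  set P := pCore p G with hP
  have hPp : IsPGroup p P := Thompson.isPGroup_pCore
  have hCP : Subgroup.centralizer (P : Set G) ≤ P := Thompson.centralizer_pCore_le hG hO
  haveI : Nontrivial G := (Finite.one_lt_card_iff_nontrivial).mp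
    (lt_of_lt_of_le hpf.out.one_lt (Nat.le_of_dvd Nat.card_pos hdvd))
  haveI hPnt : Nontrivial ↥P := by
    rw [Subgroup.nontrivial_iff_ne_bot]
    exact (Thompson.pCore_ne_bot_or_pPrimeCore_ne_bot hG).resolve_right (not_not.mpr hO)
  obtain ⟨z, hz⟩ : ∃ z : Subgroup.center ↥P, orderOf z = p := by
    haveI : Nontrivial ↥(Subgroup.center ↥P) := hPp.center_nontrivial
    obtain ⟨k, hk, hc⟩ := (hPp.to_subgroup (Subgroup.center ↥P)).nontrivial_iff_card.mp this
    exact exists_prime_orderOf_dvd_card' p (hc ▸ dvd_pow_self p hk.ne')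
  set z0 : G := ((z : ↥P) : G) with hz0def
  have hz0 : orderOf z0 = p := by rw [hz0def, Subgroup.orderOf_coe, Subgroup.orderOf_coe, hz]
  have hzc : z0 ∈ P ∧ ∀ q ∈ P, q * z0 = z0 * q := ⟨(z : ↥P).2, fun q hq =>
    congrArg Subtype.val (Subgroup.mem_center_iff.mp z.2 (⟨q, hq⟩ : ↥P))⟩
  -- every element of order p is central in P
  have hE : ∀ x : G, x ^ p = 1 → x ∈ P ∧ ∀ q ∈ P, q * x = x * q := by
    intro x hx
    by_cases h1 : x = 1
    · subst h1; exact ⟨one_mem _, fun q _ => by simp⟩
    obtain ⟨a, ha⟩ := htrans (Subgroup.zpowers z0) (Subgroup.zpowers x)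
      (by rw [Nat.card_zpowers, hz0]) (by rw [Nat.card_zpowers, orderOf_eq_prime hx h1])
    obtain ⟨y, ⟨k, rfl⟩, hy⟩ : x ∈ (Subgroup.zpowers z0).map a.toMonoidHom :=
      ha ▸ Subgroup.mem_zpowers x
    change a (z0 ^ k) = x at hy
    subst hy
    refine ⟨mul_pow_mem_pCore a (zpow_mem hzc.1 k), fun q hq => ?_⟩
    have h2 : Commute (a.symm q) (z0 ^ k) :=
      (show Commute (a.symm q) z0 from hzc.2 _ (mul_pow_mem_pCore a.symm hq)).zpow_right k
    have h3 := congrArg a h2.eq
    rw [map_mul, map_mul, MulEquiv.apply_symm_apply] at h3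
    exact h3
  -- the centralizer of the elements of order p is P
  set C := Subgroup.centralizer {x : G | x ^ p = 1} with hCdef
  have hPC : P ≤ C := fun q hq => Subgroup.mem_centralizer_iff.mpr fun x hx => ((hE x hx).2 q hq).symm
  have hCle : C ≤ P := by
    refine Thompson.le_pCore ?_ ?_
    · refine ⟨fun c hc g => Subgroup.mem_centralizer_iff.mpr fun x hx => ?_⟩
      have hx' : (g⁻¹ * x * g) ^ p = 1 := by
        have := conj_pow (a := g⁻¹) (b := x) (i := p)
        simp only [inv_inv] at this
        rw [this, Set.mem_setOf_eq.mp hx]; group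
      have h4 := Subgroup.mem_centralizer_iff.mp hc _ hx'
      calc x * (g * c * g⁻¹) = g * ((g⁻¹ * x * g) * c) * g⁻¹ := by group
        _ = g * (c * (g⁻¹ * x * g)) * g⁻¹ := by rw [h4]
        _ = g * c * g⁻¹ * x := by group
    · refine IsPGroup.of_card (n := (Nat.card C).primeFactorsList.length)
        (Nat.eq_prime_pow_of_unique_prime_dvd Nat.card_pos.ne' fun {q} hq hqd => ?_)
      haveI : Fact q.Prime := ⟨hq⟩
      obtain ⟨c, hc⟩ := exists_prime_orderOf_dvd_card' q hqd
      by_contra hne
      have hc0 : orderOf (c : G) = q := by rw [Subgroup.orderOf_coe, hc]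
      have h5 : P ≤ Subgroup.centralizer (Subgroup.zpowers (c : G) : Set G) := by
        refine OddLocal43.le_centralizer_of_order_p (p := p) hp ?_ hPp ?_ ?_
        · rw [Nat.card_zpowers, hc0]; exact (Nat.coprime_primes hq hpf.out).mpr hne
        · rw [Subgroup.normalizer_eq_top_iff.mpr (inferInstance : P.Normal)]; exact le_top
        · intro x hxP hx
          rw [Subgroup.mem_centralizer_iff]
          rintro _ ⟨k, rfl⟩
          have h6 : Commute x (c : G) :=
            Subgroup.mem_centralizer_iff.mp c.2 x (show x ^ p = 1 by rw [← hx]; exact pow_orderOf_eq_one x)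
          exact (h6.zpow_right k).eq.symm
      have h7 : (c : G) ∈ P := hCP (Subgroup.mem_centralizer_iff.mpr fun q hq =>
        (Subgroup.mem_centralizer_iff.mp (h5 hq) (c : G) (Subgroup.mem_zpowers _)).symm)
      obtain ⟨j, hj⟩ := IsPGroup.iff_card.mp hPp
      have h8 : q ∣ p ^ j := by
        rw [← hj, ← hc0, ← Subgroup.orderOf_mk (c : G) h7]; exact orderOf_dvd_natCard _
      exact hne ((Nat.prime_dvd_prime_iff_eq hq hpf.out).mp (hq.dvd_of_dvd_pow h8))
  by_cases hPt : P = ⊤
  · rw [hPt, Subgroup.index_top]; exact hpf.out.not_dvd_one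
  -- the normal p'-subgroup of the quotient
  set π := QuotientGroup.mk' P with hπ
  have hπs : Function.Surjective π := QuotientGroup.mk'_surjective P
  set M := pPrimeCore p (G ⧸ P) with hM
  have hMne : M ≠ ⊥ := by
    haveI : Nontrivial (G ⧸ P) := QuotientGroup.nontrivial_iff.mpr hPt
    exact (Thompson.pCore_ne_bot_or_pPrimeCore_ne_bot (Thompson.isPSolvable_quotient P hG)).resolve_left
      (not_not.mpr Thompson.pCore_quotient_pCore)
  set Q := M.comap π with hQ
  have hPQ : P ≤ Q := fun x hx => by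
    show π x ∈ M
    rw [hπ, QuotientGroup.mk'_apply, (QuotientGroup.eq_one_iff x).mpr hx]; exact one_mem _
  have hQa : ∀ (a : MulAut G) (x : G), x ∈ Q → a x ∈ Q := by
    intro a x hx
    let e := QuotientGroup.congr P P a (Thompson.map_pCore_equiv (p := p) a)
    have h9 : e (π x) = π (a x) := QuotientGroup.congr_mk' P P a _ x
    show π (a x) ∈ M
    rw [← h9, hM, ← Thompson.map_pPrimeCore_equiv (p := p) e]
    exact ⟨π x, hx, rfl⟩
  have hMc : (Nat.card M).Coprime p := Thompson.card_pPrimeCore_coprime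
  set P' := P.subgroupOf Q with hP'
  have hcardP' : Nat.card P' = Nat.card P := Nat.card_congr (Subgroup.subgroupOfEquivOfLe hPQ).toEquiv
  have hidx : P'.index = Nat.card M := by
    rw [hP', ← Subgroup.relIndex, Thompson.relIndex_eq_card_map_mk', ← hπ,
      Subgroup.map_comap_eq_self_of_surjective hπs]
  obtain ⟨j, hj⟩ := IsPGroup.iff_card.mp hPp
  have hcop : (Nat.card P).Coprime (Nat.card M) := by rw [hj]; exact (hMc.symm).pow_left j
  obtain ⟨T', hT'⟩ := Subgroup.exists_right_complement'_of_coprime (N := P') (by rw [hcardP', hidx]; exact hcop)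
  set T := T'.map Q.subtype with hT
  have hTQ : T ≤ Q := Subgroup.map_subtype_le _
  have hsup : P ⊔ T = Q := by
    have h := congrArg (Subgroup.map Q.subtype) hT'.sup_eq_top
    rw [Subgroup.map_sup, ← MonoidHom.range_eq_map, Subgroup.range_subtype, hP',
      Subgroup.map_subgroupOf_eq_of_le hPQ] at h
    exact h
  have hPT : ∀ x ∈ P, x ∈ T → x = 1 := by
    rintro x hx ⟨y, hy, rfl⟩
    have := hT'.disjoint.le_bot (⟨hx, hy⟩ : y ∈ P' ⊓ T')
    rw [Subgroup.mem_bot] at this
    simp [this]
  have hcardT : Nat.card T = Nat.card M := by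
    have h := hT'.card_mul
    rw [← Subgroup.card_mul_index P', hidx] at h
    have h' : Nat.card T = Nat.card T' :=
      (Nat.card_congr (T'.equivMapOfInjective Q.subtype Q.subtype_injective).toEquiv).symm
    rw [h']
    exact Nat.eq_of_mul_eq_mul_left Nat.card_pos h
  -- no element of order p centralizes Q
  have hnoc : ∀ x : G, orderOf x = p → ¬ (∀ t ∈ T, t * x = x * t) := by
    intro x hx hxt
    have hxp : x ^ p = 1 := by rw [← hx]; exact pow_orderOf_eq_one x
    have hxQ : x ∈ Subgroup.centralizer (Q : Set G) := by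
      have hle : Q ≤ Subgroup.centralizer ({x} : Set G) := by
        rw [← hsup]
        refine sup_le (fun q hq => Subgroup.mem_centralizer_iff.mpr ?_)
          (fun t ht => Subgroup.mem_centralizer_iff.mpr ?_)
        · rintro _ rfl; exact ((hE _ hxp).2 q hq).symm
        · rintro _ rfl; exact (hxt t ht).symm
      exact Subgroup.mem_centralizer_iff.mpr fun q hq =>
        (Subgroup.mem_centralizer_iff.mp (hle hq) x rfl).symm
    -- then all of them do
    have hall : T ≤ C := by
      intro t ht
      refine Subgroup.mem_centralizer_iff.mpr fun y hy => ?_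
      by_cases h1 : y = 1
      · subst h1; simp
      obtain ⟨a, ha⟩ := htrans (Subgroup.zpowers x) (Subgroup.zpowers y)
        (by rw [Nat.card_zpowers, hx]) (by rw [Nat.card_zpowers, orderOf_eq_prime hy h1])
      obtain ⟨w, ⟨k, rfl⟩, hw⟩ : y ∈ (Subgroup.zpowers x).map a.toMonoidHom :=
        ha ▸ Subgroup.mem_zpowers y
      change a (x ^ k) = y at hw
      subst hw
      have h10 : Commute (a.symm t) (x ^ k) :=
        (show Commute (a.symm t) x from
          Subgroup.mem_centralizer_iff.mp hxQ _ (hQa a.symm t (hTQ ht))).zpow_right k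
      have h11 := congrArg a h10.eq
      rw [map_mul, map_mul, MulEquiv.apply_symm_apply] at h11
      exact h11.symm
    apply hMne
    rw [← Subgroup.card_eq_one, ← hcardT, Subgroup.card_eq_one, eq_bot_iff]
    exact fun t ht => Subgroup.mem_bot.mpr (hPT t (hCle (hall ht)) ht)
  -- Frattini argument
  set N := Subgroup.normalizer (T : Set G) with hN
  have hPNbot : P ⊓ N = ⊥ := by
    by_contra hne
    haveI : Nontrivial ↥(P ⊓ N : Subgroup G) := (Subgroup.nontrivial_iff_ne_bot _).mpr hne
    obtain ⟨k, hk, hc⟩ := (hPp.to_le inf_le_left).nontrivial_iff_card.mp this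
    obtain ⟨x, hx⟩ := exists_prime_orderOf_dvd_card' p (G := ↥(P ⊓ N : Subgroup G)) (hc ▸ dvd_pow_self p hk.ne')
    refine hnoc (x : G) (by rw [Subgroup.orderOf_coe, hx]) fun t ht => ?_
    have h12 : (x : G) * t * (x : G)⁻¹ * t⁻¹ = 1 := by
      refine hPT _ ?_ (mul_mem ((Subgroup.mem_normalizer_iff.mp x.2.2 t).mp ht) (inv_mem ht))
      have : t * (x : G)⁻¹ * t⁻¹ ∈ P := (inferInstance : P.Normal).conj_mem _ (inv_mem x.2.1) t
      have := mul_mem x.2.1 this
      simpa [mul_assoc] using this
    calc t * (x : G) = ((x : G) * t * (x : G)⁻¹ * t⁻¹) * t * x := by rw [h12, one_mul]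
      _ = x * t := by group
  have hcopT : (Nat.card T).Coprime (Nat.card P) := by rw [hcardT]; exact hcop.symm
  have hPN : ∀ g : G, ∃ n ∈ P, n * g ∈ N := by
    intro g
    set φ : G →* G := (MulAut.conj g : G ≃* G).toMonoidHom with hφ
    have hc : Nat.card (T.map φ) = Nat.card T :=
      (Nat.card_congr (T.equivMapOfInjective φ (MulAut.conj g).injective).toEquiv).symm
    obtain ⟨n, hn, h⟩ := Coprime.exists_conj_le P (T.map φ) T
      (by rw [Subgroup.normalizer_eq_top_iff.mpr (inferInstance : P.Normal)]; exact le_top)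
      (by rw [Subgroup.normalizer_eq_top_iff.mpr (inferInstance : P.Normal)]; exact le_top)
      (by
        rw [hsup]
        rintro _ ⟨t, ht, rfl⟩
        exact hQa (MulAut.conj g) t (hTQ ht))
      (hc.symm ▸ hcopT) hcopT
      (Or.inr (by haveI := hPp.isNilpotent; infer_instance))
    refine ⟨n, hn, Coprime.mem_normalizer_of_le_iff ?_ ?_⟩
    · intro t ht
      have := h _ ⟨t, ht, rfl⟩
      simpa [hφ, mul_assoc] using this
    · intro t ht
      have hmap : T.map (MulAut.conj (n * g) : G ≃* G).toMonoidHom = T := by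
        refine Subgroup.eq_of_le_of_card_ge ?_ (Nat.card_congr (T.equivMapOfInjective _ (MulAut.conj (n * g)).injective).toEquiv).le
        rintro _ ⟨s, hs, rfl⟩
        have := h _ ⟨s, hs, rfl⟩
        simpa [hφ, mul_assoc] using this
      rw [← hmap] at ht
      obtain ⟨s, hs, rfl⟩ := ht
      simpa [mul_assoc] using hs
  intro hd
  have hsurj : Function.Surjective (π.comp N.subtype) := by
    intro q
    obtain ⟨g, rfl⟩ := hπs q
    obtain ⟨n, hn, hng⟩ := hPN g
    refine ⟨⟨n * g, hng⟩, ?_⟩
    show π (n * g) = π g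
    rw [map_mul, hπ, QuotientGroup.mk'_apply, (QuotientGroup.eq_one_iff n).mpr hn, one_mul]
  rw [Subgroup.index_eq_card] at hd
  obtain ⟨x, hx⟩ := exists_prime_orderOf_dvd_card' p (G := ↥N)
    (hd.trans (Subgroup.card_dvd_of_surjective _ hsurj))
  have hx0 : orderOf (x : G) = p := by rw [Subgroup.orderOf_coe, hx]
  have hxP := (hE (x : G) (by rw [← hx0]; exact pow_orderOf_eq_one _)).1
  have : (x : G) = 1 := Subgroup.mem_bot.mp (hPNbot ▸ ⟨hxP, x.2⟩)
  rw [this, orderOf_one] at hx0
  exact hpf.out.one_lt.ne hx0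

/-- The Gaschütz–Yen Theorem: let G be a finite p-soluble group, p an odd prime dividing its order, such that the automorphism group of G permutes the subgroups of G of order p transitively. Then G has p-length at most 1. -/
theorem result {G : Type*} [Group G] [Finite G] {p : ℕ} [Fact p.Prime] (hp : p ≠ 2) (hdvd : p ∣ Nat.card G) (hG : Cfsg.IsPSolvable p G) (htrans : ∀ U V : Subgroup G, Nat.card U = p → Nat.card V = p → ∃ a : MulAut G, U.map a.toMonoidHom = V) : Cfsg.PLengthLE p 1 G := by
  rw [BGSigma.plengthLE_one_iff]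
  unfold pPrimePCore
  set O := pPrimeCore p G with hOdef
  rw [Subgroup.index_comap_of_surjective _ (QuotientGroup.mk'_surjective O)]
  have hcO : (Nat.card O).Coprime p := Thompson.card_pPrimeCore_coprime
  have hpne := (Fact.out : p.Prime)
  refine not_dvd_index_pCore hp ?_ (Thompson.isPSolvable_quotient O hG) ?_
    Thompson.pPrimeCore_quotient_pPrimeCore
  · rw [← Subgroup.card_mul_index O] at hdvd
    exact ((hcO.symm).dvd_of_dvd_mul_left hdvd)
  · intro U V hU hV
    have lift : ∀ U : Subgroup (G ⧸ O), Nat.card U = p →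
        ∃ U₀ : Subgroup G, Nat.card U₀ = p ∧ U₀.map (QuotientGroup.mk' O) = U := by
      intro U hU
      haveI := Fintype.ofFinite G
      obtain ⟨x, hx⟩ := exists_prime_orderOf_dvd_card' p (G := ↥(U.comap (QuotientGroup.mk' O)))
        (by rw [Thompson.card_comap_quotient, hU]; first | exact Dvd.intro_left _ rfl | exact Dvd.intro _ rfl)
      have hx0 : orderOf (x : G) = p := by rw [Subgroup.orderOf_coe, hx]
      refine ⟨Subgroup.zpowers (x : G), by rw [Nat.card_zpowers, hx0], ?_⟩
      refine Subgroup.eq_of_le_of_card_ge ?_ ?_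
      · rw [Subgroup.map_le_iff_le_comap, Subgroup.zpowers_le]; exact x.2
      · rw [hU, MonoidHom.map_zpowers, Nat.card_zpowers]
        have hxO : QuotientGroup.mk' O (x : G) ≠ 1 := by
          intro h
          have hmem : (x : G) ∈ O := (QuotientGroup.eq_one_iff _).mp h
          have : p ∣ Nat.card O := by
            rw [← hx0, ← Subgroup.orderOf_mk (x : G) hmem]; exact orderOf_dvd_natCard _
          exact (hpne.coprime_iff_not_dvd.mp hcO.symm) this
        rw [orderOf_eq_prime (p := p) (x := QuotientGroup.mk' O (x : G)) (by rw [← map_pow, orderOf_dvd_iff_pow_eq_one.mp (dvd_of_eq hx0), map_one]) hxO]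
    obtain ⟨U₀, hU₀, rfl⟩ := lift U hU
    obtain ⟨V₀, hV₀, rfl⟩ := lift V hV
    obtain ⟨a, ha⟩ := htrans U₀ V₀ hU₀ hV₀
    refine ⟨QuotientGroup.congr O O a (Thompson.map_pPrimeCore_equiv (p := p) a), ?_⟩
    rw [← ha, Subgroup.map_map, Subgroup.map_map]
    congr 1

end Cfsg.Agent.S3798
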