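import Cfsg.Statements.S3799
import Cfsg.Agent.Lib.PGroup.Basic
import Cfsg.Agent.Lib.PGroup.Commutator
import Mathlib
-- import your own Cfsg.Agent.* helpers here

set_option autoImplicit false
open Cfsg

namespace Cfsg.Agent.S3799

open Matrix
open scoped commutatorElement

variable {p n : ℕ}

/-- The positions allowed off the identity. -/
def Pos (i j : Fin (n + 2)) : Prop := (i = 0 ∧ j ≠ 0) ∨ (j = Fin.last (n + 1) ∧ i ≠ Fin.last (n + 1))

instance (i j : Fin (n + 2)) : Decidable (Pos i j) := by unfold Pos; infer_instance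

/-- Matrices supported on the allowed positions. -/
def Supp (N : Matrix (Fin (n + 2)) (Fin (n + 2)) (ZMod p)) : Prop := ∀ i j, ¬ Pos i j → N i j = 0

theorem supp_add {A B : Matrix (Fin (n + 2)) (Fin (n + 2)) (ZMod p)} (hA : Supp A) (hB : Supp B) :
    Supp (A + B) := fun i j h => by rw [Matrix.add_apply, hA i j h, hB i j h, add_zero]

theorem not_pos_col (i : Fin (n + 2)) : ¬ Pos i 0 := by
  rintro (⟨-, h⟩ | ⟨h, -⟩)
  · exact h rfl
  · exact (Fin.last_pos.ne h : _)

theorem not_pos_row (j : Fin (n + 2)) : ¬ Pos (Fin.last (n + 1)) j := by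
  rintro (⟨h, -⟩ | ⟨-, h⟩)
  · exact Fin.last_pos.ne' h
  · exact h rfl

theorem mul_apply_eq_zero {A B : Matrix (Fin (n + 2)) (Fin (n + 2)) (ZMod p)} (hA : Supp A)
    (hB : Supp B) (i j : Fin (n + 2)) (h : ¬ (i = 0 ∧ j = Fin.last (n + 1))) : (A * B) i j = 0 := by
  rw [Matrix.mul_apply]
  refine Finset.sum_eq_zero fun k _ => ?_
  by_cases hk : Pos i k
  · by_cases hk' : Pos k j
    · exfalso
      rcases hk with ⟨h1, h2⟩ | ⟨h1, -⟩
      · rcases hk' with ⟨h3, -⟩ | ⟨h3, -⟩
        · exact h2 h3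
        · exact h ⟨h1, h3⟩
      · subst h1
        exact not_pos_row j hk'
    · rw [hB k j hk', mul_zero]
  · rw [hA i k hk, zero_mul]

theorem supp_mul {A B : Matrix (Fin (n + 2)) (Fin (n + 2)) (ZMod p)} (hA : Supp A)
    (hB : Supp B) : Supp (A * B) := fun i j h => mul_apply_eq_zero hA hB i j fun ⟨h1, h2⟩ =>
  h (Or.inl ⟨h1, h2 ▸ Fin.last_pos.ne'⟩)

theorem mul_mul_eq_zero {A B C : Matrix (Fin (n + 2)) (Fin (n + 2)) (ZMod p)} (hA : Supp A)
    (hB : Supp B) (hC : Supp C) : A * B * C = 0 := by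
  ext i j
  rw [Matrix.mul_apply, Matrix.zero_apply]
  refine Finset.sum_eq_zero fun k _ => ?_
  by_cases hk : i = 0 ∧ k = Fin.last (n + 1)
  · rw [hk.2, hC _ _ (not_pos_row j), mul_zero]
  · rw [mul_apply_eq_zero hA hB i k hk, zero_mul]

theorem one_add_mul (A B : Matrix (Fin (n + 2)) (Fin (n + 2)) (ZMod p)) :
    (1 + A) * (1 + B) = 1 + (A + B + A * B) := by noncomm_ring

variable [Fact p.Prime]

theorem one_add_pow_prime (hp : p ≠ 2) {A : Matrix (Fin (n + 2)) (Fin (n + 2)) (ZMod p)}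
    (hA : Supp A) : (1 + A) ^ p = 1 := by
  have h3 : A ^ 3 = 0 := by rw [pow_three, ← mul_assoc]; exact mul_mul_eq_zero hA hA hA
  have hp3 : 3 ≤ p := by have := (Fact.out : p.Prime).two_le; omega
  rw [add_comm 1 A, add_pow_char_of_commute p (Commute.one_right A), one_pow,
    show A ^ p = A ^ 3 * A ^ (p - 3) by rw [← pow_add]; congr 1; omega, h3, zero_mul, zero_add]

/-- The element with given off-diagonal part. -/
noncomputable def elt (hp : p ≠ 2) (A : {A : Matrix (Fin (n + 2)) (Fin (n + 2)) (ZMod p) // Supp A}) :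
    Matrix.GeneralLinearGroup (Fin (n + 2)) (ZMod p) :=
  Units.ofPowEqOne (1 + A.1) p (one_add_pow_prime hp A.2) (Fact.out : p.Prime).ne_zero

theorem elt_mul (hp : p ≠ 2) (A B : {A : Matrix (Fin (n + 2)) (Fin (n + 2)) (ZMod p) // Supp A}) :
    elt hp A * elt hp B = elt hp ⟨A.1 + B.1 + A.1 * B.1,
      supp_add (supp_add A.2 B.2) (supp_mul A.2 B.2)⟩ :=
  Units.ext (one_add_mul A.1 B.1)

theorem single_supp {i j : Fin (n + 2)} (h : Pos i j) (c : ZMod p) : Supp (Matrix.single i j c) := by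
  intro a b hab
  rw [Matrix.single_apply_of_ne]
  rintro ⟨rfl, rfl⟩
  exact hab h

/-- For every odd prime p and every n ≥ 1 there is an extraspecial p-group of order p^(1+2n) and exponent p; concretely, the general linear group of degree n + 2 over the field with p elements contains such a subgroup. -/
theorem result (p : ℕ) [Fact p.Prime] (hp : p ≠ 2) (n : ℕ) (hn : 1 ≤ n) : ∃ E : Subgroup (Matrix.GeneralLinearGroup (Fin (n + 2)) (ZMod p)), Cfsg.IsExtraspecial p ↥E ∧ Nat.card E = p ^ (1 + 2 * n) ∧ ∀ x ∈ E, x ^ p = 1 := by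
  classical
  let L : Fin (n + 2) := Fin.last (n + 1)
  let E : Subgroup (Matrix.GeneralLinearGroup (Fin (n + 2)) (ZMod p)) :=
    { carrier := Set.range (elt hp)
      one_mem' := ⟨⟨0, fun _ _ _ => rfl⟩, Units.ext (add_zero 1)⟩
      mul_mem' := by rintro _ _ ⟨A, rfl⟩ ⟨B, rfl⟩; exact ⟨_, (elt_mul hp A B).symm⟩
      inv_mem' := by
        rintro _ ⟨A, rfl⟩
        refine ⟨⟨-A.1 + A.1 * A.1, supp_add (fun i j h => by rw [Matrix.neg_apply, A.2 i j h, neg_zero])
          (supp_mul A.2 A.2)⟩, eq_inv_of_mul_eq_one_right ?_⟩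
        rw [elt_mul]
        refine Units.ext ?_
        show 1 + (A.1 + (-A.1 + A.1 * A.1) + A.1 * (-A.1 + A.1 * A.1)) = 1
        rw [mul_add, ← mul_assoc, mul_mul_eq_zero A.2 A.2 A.2]
        noncomm_ring }
  have hexp : ∀ x ∈ E, x ^ p = 1 := by
    rintro _ ⟨A, rfl⟩
    exact Units.ext (one_add_pow_prime hp A.2)
  have hinj : Function.Injective (elt (n := n) hp) := fun A B h =>
    Subtype.ext (add_left_cancel (congrArg Units.val h :))
  let pe : {A : Matrix (Fin (n + 2)) (Fin (n + 2)) (ZMod p) // Supp A} ≃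
      ({x : Fin (n + 2) × Fin (n + 2) // Pos x.1 x.2} → ZMod p) :=
    { toFun := fun A x => A.1 x.1.1 x.1.2
      invFun := fun f => ⟨fun i j => if h : Pos i j then f ⟨(i, j), h⟩ else 0,
        fun i j h => dif_neg h⟩
      left_inv := fun A => Subtype.ext (funext fun i => funext fun j => by
        by_cases h : Pos i j
        · exact dif_pos h
        · exact (dif_neg h).trans (A.2 i j h).symm)
      right_inv := fun f => funext fun x => dif_pos x.2 }
  have hpos : Nat.card {x : Fin (n + 2) × Fin (n + 2) // Pos x.1 x.2} = 2 * n + 1 := by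
    let g : Fin (n + 1) ⊕ Fin n → {x : Fin (n + 2) × Fin (n + 2) // Pos x.1 x.2} := fun s => s.elim
      (fun a => ⟨(0, a.succ), Or.inl ⟨rfl, Fin.succ_ne_zero a⟩⟩)
      (fun b => ⟨(b.castSucc.succ, L), Or.inr ⟨rfl, fun h => by
        have h' := congrArg Fin.val h
        simp only [Fin.val_succ, Fin.val_castSucc, Fin.val_last] at h'
        omega⟩⟩)
    rw [← Nat.card_eq_of_bijective g ⟨?_, ?_⟩, Nat.card_sum, Nat.card_fin, Nat.card_fin]
    · omega
    · rintro (a | a) (b | b) h <;> replace h := Prod.ext_iff.mp (congrArg Subtype.val h)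
      · exact congrArg Sum.inl (Fin.succ_injective _ h.2)
      · exact absurd h.1.symm (Fin.succ_ne_zero b.castSucc)
      · exact absurd h.1 (Fin.succ_ne_zero a.castSucc)
      · exact congrArg Sum.inr (Fin.castSucc_injective _ (Fin.succ_injective _ h.1))
    · rintro ⟨⟨i, j⟩, hij⟩
      by_cases hi : i = 0
      · subst hi
        have hj : j ≠ 0 := fun h => not_pos_col (0 : Fin (n + 2)) (h ▸ hij)
        obtain ⟨a, rfl⟩ := Fin.exists_succ_eq.mpr hj
        exact ⟨Sum.inl a, rfl⟩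
      · obtain ⟨h1, -⟩ | ⟨h1, h2⟩ := hij
        · exact absurd h1 hi
        · simp only at h1 h2
          subst h1
          obtain ⟨a, rfl⟩ := Fin.exists_succ_eq.mpr hi
          have ha : a.val < n := by
            by_contra h
            exact h2 (Fin.ext (by simp only [Fin.val_succ, Fin.val_last]; omega))
          exact ⟨Sum.inr ⟨a.val, ha⟩, Subtype.ext (Prod.ext (Fin.ext (by simp [g])) rfl)⟩
  have hcard : Nat.card E = p ^ (1 + 2 * n) := by
    have e : Nat.card E = Nat.card {A : Matrix (Fin (n + 2)) (Fin (n + 2)) (ZMod p) // Supp A} :=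
      (Nat.card_eq_of_bijective (fun A => (⟨elt hp A, A, rfl⟩ : E))
        ⟨fun A B h => hinj (congrArg Subtype.val h), fun ⟨_, A, hA⟩ => ⟨A, Subtype.ext hA⟩⟩).symm
    rw [e, Nat.card_congr pe, Nat.card_fun, Nat.card_zmod, hpos, add_comm]
  have hpE : IsPGroup p E := IsPGroup.of_card hcard
  -- the centre
  have hcen : ∀ A : {A : Matrix (Fin (n + 2)) (Fin (n + 2)) (ZMod p) // Supp A},
      (⟨elt hp A, A, rfl⟩ : E) ∈ Subgroup.center E ↔
        ∀ i j, ¬ (i = 0 ∧ j = L) → A.1 i j = 0 := by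
    intro A
    rw [Subgroup.mem_center_iff]
    constructor
    · intro h i j hij
      by_cases hp' : Pos i j
      swap
      · exact A.2 i j hp'
      have key : ∀ B : {A : Matrix (Fin (n + 2)) (Fin (n + 2)) (ZMod p) // Supp A},
          B.1 * A.1 = A.1 * B.1 := fun B => by
        have h1 : (1 + B.1) * (1 + A.1) = (1 + A.1) * (1 + B.1) :=
          congrArg (fun u : E => ((u : Matrix.GeneralLinearGroup (Fin (n + 2)) (ZMod p)) :
            Matrix (Fin (n + 2)) (Fin (n + 2)) (ZMod p))) (h ⟨elt hp B, B, rfl⟩)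
        rw [one_add_mul, one_add_mul, add_comm A.1 B.1] at h1
        exact add_left_cancel (add_left_cancel h1)
      rcases hp' with ⟨rfl, hj⟩ | ⟨rfl, hi⟩
      · have hjL : j ≠ L := fun h => hij ⟨rfl, h⟩
        have h2 := congrFun (congrFun (key ⟨_, single_supp (Or.inr ⟨rfl, hjL⟩ : Pos j L) 1⟩) 0) L
        rw [Matrix.single_mul_apply_of_ne _ _ _ _ _ hj.symm, Matrix.mul_single_apply_same, mul_one] at h2
        exact h2.symm
      · have hi0 : i ≠ 0 := fun h => hij ⟨h, rfl⟩
        have h2 := congrFun (congrFun (key ⟨_, single_supp (Or.inl ⟨rfl, hi0⟩ : Pos 0 i) 1⟩) 0) L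
        rw [Matrix.mul_single_apply_of_ne _ _ _ _ _ hi.symm, Matrix.single_mul_apply_same, one_mul] at h2
        exact h2
    · rintro hA ⟨_, B, rfl⟩
      refine Subtype.ext (Units.ext ?_)
      show (1 + B.1) * (1 + A.1) = (1 + A.1) * (1 + B.1)
      have hz : ∀ C : {A : Matrix (Fin (n + 2)) (Fin (n + 2)) (ZMod p) // Supp A},
          A.1 * C.1 = 0 ∧ C.1 * A.1 = 0 := fun C => by
        constructor <;> ext i j <;> rw [Matrix.mul_apply, Matrix.zero_apply] <;>
          refine Finset.sum_eq_zero fun k _ => ?_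
        · by_cases h : i = 0 ∧ k = L
          · rw [h.2, C.2 _ _ (not_pos_row j), mul_zero]
          · rw [hA i k h, zero_mul]
        · by_cases h : k = 0 ∧ j = L
          · rw [h.1, C.2 _ _ (not_pos_col i), zero_mul]
          · rw [hA k j h, mul_zero]
      rw [one_add_mul, one_add_mul, (hz B).1, (hz B).2, add_comm A.1 B.1]
  have hcentre : Nat.card (Subgroup.center E) = p := by
    let g : ZMod p → Subgroup.center E := fun c => ⟨⟨elt hp ⟨Matrix.single 0 L c,
      single_supp (Or.inl ⟨rfl, Fin.last_pos.ne'⟩) c⟩, _, rfl⟩, (hcen _).mpr fun i j h =>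
        Matrix.single_apply_of_ne _ _ _ _ _ (fun ⟨h1, h2⟩ => h ⟨h1.symm, h2.symm⟩)⟩
    rw [← Nat.card_eq_of_bijective g ⟨fun a b h => ?_, fun ⟨⟨_, A, hA⟩, hz⟩ => ⟨A.1 0 L, ?_⟩⟩,
      Nat.card_zmod]
    · have h1 := hinj (congrArg (fun z : Subgroup.center E => ((z : E) :
        Matrix.GeneralLinearGroup (Fin (n + 2)) (ZMod p))) h)
      simpa using congrFun (congrFun (congrArg Subtype.val h1) 0) L
    · subst hA
      refine Subtype.ext (Subtype.ext (congrArg (elt hp) (Subtype.ext (Matrix.ext fun i j => ?_))))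
      by_cases h : i = 0 ∧ j = L
      · show Matrix.single 0 L (A.1 0 L) i j = A.1 i j
        rw [h.1, h.2, Matrix.single_apply_same]
      · show Matrix.single 0 L (A.1 0 L) i j = A.1 i j
        rw [(hcen A).mp hz i j h, Matrix.single_apply_of_ne _ _ _ _ _ (fun ⟨h1, h2⟩ => h ⟨h1.symm, h2.symm⟩)]
  have hcle : commutator E ≤ Subgroup.center E := by
    rw [_root_.commutator_def, Subgroup.commutator_le]
    rintro ⟨_, A, rfl⟩ _ ⟨_, B, rfl⟩ _
    let a : E := ⟨elt hp A, A, rfl⟩
    let b : E := ⟨elt hp B, B, rfl⟩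
    change ⁅a, b⁆ ∈ Subgroup.center E
    obtain ⟨C, hC⟩ := (⁅a, b⁆).2
    have h1 : ⁅a, b⁆ * (b * a) = a * b := (PGroup.mul_eq_comm_mul_swap _ _).symm
    have h2 := congrArg (fun u : E => ((u : Matrix.GeneralLinearGroup (Fin (n + 2)) (ZMod p)) :
      Matrix (Fin (n + 2)) (Fin (n + 2)) (ZMod p))) h1
    simp only [Subgroup.coe_mul, Units.val_mul, ← hC] at h2
    change (1 + C.1) * ((1 + B.1) * (1 + A.1)) = (1 + A.1) * (1 + B.1) at h2
    rw [show ⁅a, b⁆ = (⟨elt hp C, C, rfl⟩ : E) from Subtype.ext hC.symm]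
    refine (hcen C).mpr fun i j hij => ?_
    rw [one_add_mul, one_add_mul, one_add_mul] at h2
    have h4 := add_left_cancel h2
    have h3 := congrFun (congrFun h4 i) j
    simp only [Matrix.add_apply, mul_apply_eq_zero A.2 B.2 i j hij, mul_apply_eq_zero B.2 A.2 i j hij,
      mul_apply_eq_zero C.2 (supp_add (supp_add B.2 A.2) (supp_mul B.2 A.2)) i j hij, add_zero] at h3
    linear_combination h3
  have hne : commutator E ≠ ⊥ := by
    intro hb
    have hc : Subgroup.center E = ⊤ := (Subgroup.eq_top_iff' _).mpr fun a => Subgroup.mem_center_iff.mpr fun b =>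
      commutatorElement_eq_one_iff_mul_comm.mp
        (Subgroup.mem_bot.mp (hb ▸ PGroup.commutatorElement_mem_commutator b a))
    rw [hc, Subgroup.card_top, hcard] at hcentre
    have := Nat.pow_right_injective (Fact.out : p.Prime).two_le (hcentre.trans (pow_one p).symm)
    omega
  have hceq : commutator E = Subgroup.center E :=
    Subgroup.eq_of_le_of_card_ge hcle (hcentre.le.trans (PGroup.le_card_of_ne_bot hpE hne))
  refine ⟨E, ⟨⟨hpE, le_antisymm ?_ (hceq ▸ PGroup.commutator_le_frattini hpE), hceq⟩, hcentre⟩, hcard, hexp⟩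
  refine PGroup.frattini_le_of_quotient (p := p) hcle fun g => ?_
  rw [show g ^ p = 1 from Subtype.ext (by rw [Subgroup.coe_pow, hexp g g.2]; rfl)]
  exact one_mem _

end Cfsg.Agent.S3799
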