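import Cfsg.Statements.S3800

set_option autoImplicit false
open Cfsg

namespace Cfsg.Agent.S3800

/-- Let G be a finite group, N a normal subgroup of G whose order is prime to p, and P a p-subgroup of G. Then in G/N the normalizer of the image of P is the image of N_G(P), and the centralizer of the image of P is the image of C_G(P). -/
theorem result {G : Type*} [Group G] [Finite G] {p : ℕ} [Fact p.Prime] (N : Subgroup G) [N.Normal] (hN : (Nat.card N).Coprime p) (P : Subgroup G) (hP : IsPGroup p P) : Subgroup.normalizer ((P.map (QuotientGroup.mk' N)) : Set (G ⧸ N)) = (Subgroup.normalizer (P : Set G)).map (QuotientGroup.mk' N) ∧ Subgroup.centralizer ((P.map (QuotientGroup.mk' N)) : Set (G ⧸ N)) = (Subgroup.centralizer (P : Set G)).map (QuotientGroup.mk' N) := by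
  classical
  let f := QuotientGroup.mk' N
  have hf : Function.Surjective f := QuotientGroup.mk'_surjective N
  -- every element normalising the image of `P` is in `N * normalizer P`
  have key : ∀ g : G, f g ∈ Subgroup.normalizer ((P.map f) : Set (G ⧸ N)) →
      ∃ h ∈ Subgroup.normalizer (P : Set G), f h = f g := by
    intro g hg
    let U : Subgroup G := P ⊔ N
    have hU : ∀ x, x ∈ U ↔ f x ∈ P.map f := by
      intro x
      rw [← Subgroup.mem_comap, Subgroup.comap_map_eq, QuotientGroup.ker_mk']
    have hgU : ∀ x, g * x * g⁻¹ ∈ U ↔ x ∈ U := by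
      intro x
      rw [hU, hU, map_mul, map_mul, map_inv]
      exact ((Subgroup.mem_normalizer_iff.1 hg) (f x)).symm
    let P1 : Subgroup U := P.subgroupOf U
    let P2 : Subgroup U := (P.map (MulAut.conj g).toMonoidHom).subgroupOf U
    have hcard : ∀ A B : Subgroup G, A ≤ B → Nat.card A * A.relIndex B = Nat.card B := by
      intro A B hAB
      have h1 := Subgroup.relIndex_mul_relIndex (⊥ : Subgroup G) A B bot_le hAB
      simpa using h1
    have hPN : N ⊓ P = ⊥ := by
      obtain ⟨k, hk⟩ := IsPGroup.iff_card.1 hP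
      exact disjoint_iff.1 (Subgroup.disjoint_of_coprime_natCard (by rw [hk]; exact hN.pow_right k))
    have hcardU : Nat.card U = Nat.card N * Nat.card P := by
      have h1 := hcard N U le_sup_right
      have h2 : N.relIndex U = Nat.card P := by
        change N.relIndex (P ⊔ N) = _
        rw [Subgroup.relIndex_sup_right, ← Subgroup.inf_relIndex_right, hPN,
          Subgroup.relIndex_bot_left]
      rw [h2] at h1
      exact h1.symm
    have hidx : ∀ Q : Subgroup G, Q ≤ U → Nat.card Q = Nat.card P →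
        ¬ p ∣ (Q.subgroupOf U).index := by
      intro Q hQU hQc hdvd
      have h1 := hcard Q U hQU
      rw [hQc, hcardU, mul_comm (Nat.card N)] at h1
      have h3 : Q.relIndex U = Nat.card N := Nat.eq_of_mul_eq_mul_left Nat.card_pos h1
      change p ∣ Q.relIndex U at hdvd
      rw [h3] at hdvd
      exact (Fact.out : p.Prime).coprime_iff_not_dvd.1 hN.symm hdvd
    have hP2le : P.map (MulAut.conj g).toMonoidHom ≤ U := by
      rintro _ ⟨x, hx, rfl⟩
      exact (hgU x).2 (le_sup_left (a := P) hx)
    have hP1 : IsPGroup p P1 :=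
      hP.of_equiv (Subgroup.subgroupOfEquivOfLe (le_sup_left : P ≤ U)).symm
    have hP2 : IsPGroup p P2 :=
      (hP.of_equiv (P.equivMapOfInjective _ (MulAut.conj g).injective)).of_equiv
        (Subgroup.subgroupOfEquivOfLe hP2le).symm
    let S1 : Sylow p U := hP1.toSylow (hidx P le_sup_left rfl)
    let S2 : Sylow p U := hP2.toSylow
      (hidx _ hP2le (Subgroup.card_map_of_injective (MulAut.conj g).injective))
    obtain ⟨u, hu⟩ := MulAction.exists_smul_eq U S1 S2
    obtain ⟨y, hy, n, hn, hyn⟩ := Subgroup.mem_sup_of_normal_right.1 u.2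
    -- `g⁻¹ * u` normalises `P`
    have hgu : g⁻¹ * (u : G) ∈ Subgroup.normalizer (P : Set G) := by
      have hsub : ∀ x : G, x ∈ P → (u : G) * x * (u : G)⁻¹ ∈ P.map (MulAut.conj g).toMonoidHom := by
        intro x hx
        have hx1 : (⟨x, le_sup_left (a := P) hx⟩ : U) ∈ (S1 : Subgroup U) := hx
        have h1 : u * ⟨x, le_sup_left (a := P) hx⟩ * u⁻¹ ∈ ((u • S1 : Sylow p U) : Subgroup U) := by
          rw [Sylow.coe_subgroup_smul]
          exact Subgroup.smul_mem_pointwise_smul _ (MulAut.conj u) _ hx1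
        rw [hu] at h1
        exact h1
      refine Subgroup.mem_normalizer_fintype ?_
      intro x hx
      obtain ⟨z, hz, hz'⟩ := hsub x hx
      simp only [MulEquiv.coe_toMonoidHom, MulAut.conj_apply] at hz'
      have h2 : g⁻¹ * (u : G) * x * (g⁻¹ * (u : G))⁻¹ = z := by
        have h3 : g⁻¹ * (u : G) * x * (g⁻¹ * (u : G))⁻¹ = g⁻¹ * ((u : G) * x * (u : G)⁻¹) * g := by
          group
        rw [h3, ← hz']; group
      rw [h2]; exact hz
    refine ⟨y * (g⁻¹ * (u : G))⁻¹, Subgroup.mul_mem _ (Subgroup.le_normalizer hy)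
      (Subgroup.inv_mem _ hgu), ?_⟩
    have hfn : f n = 1 := (QuotientGroup.eq_one_iff n).2 hn
    rw [← hyn]
    simp [map_mul, hfn]
  constructor
  · apply le_antisymm
    · intro x hx
      obtain ⟨g, rfl⟩ := hf x
      obtain ⟨h, hh, hfh⟩ := key g hx
      exact ⟨h, hh, hfh⟩
    · exact Subgroup.le_normalizer_map f
  · apply le_antisymm
    · intro x hx
      obtain ⟨g, rfl⟩ := hf x
      obtain ⟨h, hh, hfh⟩ := key g (Subgroup.centralizer_le_normalizer (s := ((P.map f : Subgroup (G ⧸ N)) : Set (G ⧸ N))) hx)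
      refine ⟨h, ?_, hfh⟩
      rw [SetLike.mem_coe, Subgroup.mem_centralizer_iff]
      intro a ha
      have h1 := Subgroup.mem_centralizer_iff.1 hx (f a) ⟨a, ha, rfl⟩
      change f a * f g = f g * f a at h1
      rw [← hfh, ← map_mul, ← map_mul] at h1
      have h2 : a⁻¹ * (h * a * h⁻¹) ∈ N := by
        rw [← QuotientGroup.eq_one_iff]
        change f (a⁻¹ * (h * a * h⁻¹)) = 1
        simp only [map_mul, map_inv] at h1 ⊢
        rw [← h1]; group
      have h3 : a⁻¹ * (h * a * h⁻¹) ∈ P :=
        P.mul_mem (P.inv_mem ha) ((Subgroup.mem_normalizer_iff.1 hh a).1 ha)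
      have h4 : P ⊓ N = ⊥ := by
        obtain ⟨k, hk⟩ := IsPGroup.iff_card.1 hP
        exact disjoint_iff.1 (Subgroup.disjoint_of_coprime_natCard (by rw [hk]; exact (hN.pow_right k).symm))
      have h5 : a⁻¹ * (h * a * h⁻¹) = 1 := Subgroup.mem_bot.1 (h4 ▸ Subgroup.mem_inf.2 ⟨h3, h2⟩)
      rw [inv_mul_eq_one] at h5
      calc a * h = h * a * h⁻¹ * h := by rw [← h5]
        _ = h * a := by group
    · rintro _ ⟨h, hh, rfl⟩
      rw [Subgroup.mem_centralizer_iff]
      rintro _ ⟨a, ha, rfl⟩
      rw [← map_mul, ← map_mul, Subgroup.mem_centralizer_iff.1 hh a ha]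

end Cfsg.Agent.S3800
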