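import Cfsg.Statements.S3802
import Cfsg.Agent.FGS73.Wielandt

set_option autoImplicit false
open Cfsg

namespace Cfsg.Agent.S3802

universe u

theorem core_aux (n : ℕ) : ∀ (G : Type u) [Group G] [Finite G], Nat.card G ≤ n →
    ∀ M N : Subgroup G, IsCoatom M → N.IsSubnormal → N ≤ M → N ≤ Subgroup.normalCore M := by
  induction n with
  | zero =>
    intro G _ _ h
    exact absurd h (by simp [Nat.card_pos.ne'])
  | succ n ih =>
    intro G _ _ hcard M N hM hN hNM
    have htop : (⊤ : Subgroup G) ≠ ⊥ := fun h => hM.1 (le_antisymm le_top (h ▸ bot_le))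
    obtain ⟨W, hW, -⟩ := Cfsg.Agent.FGS73.exists_minimal_normal
      (inferInstance : (⊤ : Subgroup G).Normal) htop
    haveI hWn : W.Normal := hW.prop.1
    by_cases hWM : W ≤ M
    · have hcardQ : Nat.card (G ⧸ W) ≤ n := by
        have h1 := Subgroup.card_eq_card_quotient_mul_card_subgroup W
        have h2 : 1 < Nat.card W := (Subgroup.one_lt_card_iff_ne_bot W).2 hW.prop.2
        have h3 : 0 < Nat.card (G ⧸ W) := Nat.card_pos
        nlinarith
      let f := QuotientGroup.mk' W
      have hf : Function.Surjective f := QuotientGroup.mk'_surjective W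
      have hcm : (M.map f).comap f = M := by
        rw [Subgroup.comap_map_eq, QuotientGroup.ker_mk', sup_eq_left.2 hWM]
      have hMc : IsCoatom (M.map f) := by
        refine ⟨fun h => hM.1 ?_, fun B hB => ?_⟩
        · rw [← hcm, h, Subgroup.comap_top]
        · have h1 : M < B.comap f := by
            rw [← hcm]
            exact (Subgroup.comap_lt_comap_of_surjective hf).2 hB
          have h2 := hM.2 _ h1
          rw [← Subgroup.map_comap_eq_self_of_surjective hf B, h2,
            Subgroup.map_top_of_surjective f hf]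
      have := ih (G ⧸ W) hcardQ (M.map f) (N.map f) hMc (hN.map hf) (Subgroup.map_mono hNM)
      intro x hx g
      have h1 := this (Subgroup.mem_map_of_mem f hx) (f g)
      rw [← hcm, Subgroup.mem_comap]
      simpa using h1
    · intro x hx g
      have hsup : M ⊔ W = ⊤ := hM.2 _ (lt_of_le_of_ne le_sup_left fun h => hWM (h ▸ le_sup_right))
      have hg : g ∈ M ⊔ W := by simp [hsup]
      obtain ⟨m, hm, w, hw, rfl⟩ := Subgroup.mem_sup_of_normal_right.1 hg
      have hwn := Cfsg.Agent.FGS73.minimal_normal_le_normalizer (Nat.card G) G le_rfl W N hW hN hw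
      have h1 : w * x * w⁻¹ ∈ M := hNM ((Subgroup.mem_normalizer_iff.1 hwn x).1 hx)
      have h2 : (m * w) * x * (m * w)⁻¹ = m * (w * x * w⁻¹) * m⁻¹ := by group
      rw [h2]
      exact M.mul_mem (M.mul_mem hm h1) (M.inv_mem hm)

/-- Let G be a finite group, M a maximal subgroup of G and N a subnormal subgroup of G contained in M. Then N is contained in every conjugate of M, that is, N lies in the core of M in G. -/
theorem result {G : Type*} [Group G] [Finite G] (M N : Subgroup G) (hM : IsCoatom M) (hN : N.IsSubnormal) (hNM : N ≤ M) :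
    N ≤ Subgroup.normalCore M := by
  exact core_aux (Nat.card G) G le_rfl M N hM hN hNM

end Cfsg.Agent.S3802
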