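import Cfsg.Statements.S3803
import Cfsg.Agent.Lib46.OddOnTwo

set_option autoImplicit false
open Cfsg

namespace Cfsg.Agent.S3803

/-- Let P be a 2-subgroup and A a subgroup of odd order of a finite group, with A normalizing P. Let D ≤ P with 1 < |D| < |P|. If every subgroup of P of order |D|, and also every subgroup of P of order 4 in case |D| = 2, is normalized by A, then A centralizes P. -/
theorem result {X : Type*} [Group X] [Finite X] (P A D : Subgroup X) (hP : IsPGroup 2 P) (hA : Odd (Nat.card A))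
    (hAP : A ≤ Subgroup.normalizer (P : Set X)) (hDP : D ≤ P) (hD1 : 1 < Nat.card D) (hD2 : Nat.card D < Nat.card P)
    (hinv : ∀ E : Subgroup X, E ≤ P → (Nat.card E = Nat.card D ∨ (Nat.card D = 2 ∧ Nat.card E = 4)) → A ≤ Subgroup.normalizer (E : Set X)) :
    A ≤ Subgroup.centralizer (P : Set X) := by
  intro a ha
  obtain ⟨d, hd⟩ := IsPGroup.iff_card.mp (hP.to_le hDP)
  have hodd : Odd (orderOf a) := by
    refine hA.of_dvd_nat ?_
    rw [← Nat.card_zpowers]
    exact Subgroup.card_dvd_of_le (Subgroup.zpowers_le.2 ha)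
  have hd1 : 1 ≤ d := by
    rcases Nat.eq_zero_or_pos d with h | h
    · rw [h, pow_zero] at hd; omega
    · exact h
  refine Subgroup.mem_centralizer_iff.mpr fun x hx => (Cfsg.Agent.Lib46.centralizes_of_fixed_order
    hodd hd1 _ P rfl hP (hAP ha) (hd ▸ hD2) (fun E hE hc => hinv E hE ?_ ha) x hx).eq.symm
  rcases hc with hc | ⟨h1, hc⟩
  · exact Or.inl (hc.trans hd.symm)
  · exact Or.inr ⟨by rw [hd, h1, pow_one], hc⟩

end Cfsg.Agent.S3803
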