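import Cfsg.Statements.S3804
import Mathlib
-- import your own Cfsg.Agent.* helpers here

set_option autoImplicit false
open Cfsg

namespace Cfsg.Agent.S3804

/-- The product of two subgroups inside a third. -/
theorem card_prod_le {X : Type*} [Group X] [Finite X] {A B K : Subgroup X} (hA : A ≤ K) (hB : B ≤ K) :
    Nat.card A * Nat.card B ≤ Nat.card K * Nat.card ↥(A ⊓ B : Subgroup X) ∧
      (Nat.card A * Nat.card B = Nat.card K * Nat.card ↥(A ⊓ B : Subgroup X) →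
        ∀ k ∈ K, ∃ a ∈ A, ∃ b ∈ B, k = a * b) := by
  let f : (A ⧸ B.subgroupOf A) × B → K := fun z =>
    ⟨(z.1.out : A) * (z.2 : X), mul_mem (hA z.1.out.2) (hB z.2.2)⟩
  have hf : Function.Injective f := by
    rintro ⟨q, b⟩ ⟨q', b'⟩ h
    have h1 : ((q.out : A) : X) * b = (q'.out : A) * b' := congrArg Subtype.val h
    have h2 : q = q' := by
      rw [← q.out_eq, ← q'.out_eq]
      refine QuotientGroup.eq.mpr (Subgroup.mem_subgroupOf.mpr ?_)
      have : ((q.out : A) : X)⁻¹ * (q'.out : A) = b * (b' : X)⁻¹ := by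
        rw [eq_mul_inv_iff_mul_eq, mul_assoc, ← h1, inv_mul_cancel_left]
      show ((q.out : A) : X)⁻¹ * (q'.out : A) ∈ B
      rw [this]
      exact mul_mem b.2 (inv_mem b'.2)
    subst h2
    exact Prod.ext rfl (Subtype.ext (mul_left_cancel h1))
  have e : Nat.card ((A ⧸ B.subgroupOf A) × B) * Nat.card ↥(A ⊓ B : Subgroup X) =
      Nat.card A * Nat.card B := by
    rw [Nat.card_prod, ← Subgroup.index_eq_card,
      show Nat.card ↥(A ⊓ B : Subgroup X) = Nat.card (B.subgroupOf A) by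
        rw [← Subgroup.inf_subgroupOf_left, Nat.card_congr (Subgroup.subgroupOfEquivOfLe inf_le_left).toEquiv],
      mul_right_comm, Subgroup.index_mul_card]
  refine ⟨e ▸ Nat.mul_le_mul_right _ (Nat.card_le_card_of_injective f hf), fun he k hk => ?_⟩
  have hcard : Nat.card ((A ⧸ B.subgroupOf A) × B) = Nat.card K :=
    Nat.eq_of_mul_eq_mul_right (Nat.card_pos (α := ↥(A ⊓ B : Subgroup X))) (e.trans he)
  obtain ⟨⟨q, b⟩, hqb⟩ := (hf.bijective_of_nat_card_le hcard.ge).2 ⟨k, hk⟩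
  exact ⟨_, q.out.2, _, b.2, (congrArg Subtype.val hqb).symm⟩

/-- The arithmetic of two extremal subgroups. -/
theorem extremal {α : ℝ} (hα : 0 < α) {a b i j ca cb ci cj : ℕ} (h1 : a * b ≤ j * i)
    (h2 : ca * cb ≤ ci * cj) (hab : 0 < a * b) (hc : 0 < ca * cb)
    (hj : (j : ℝ) ^ α * cj ≤ (a : ℝ) ^ α * ca) (hi : (i : ℝ) ^ α * ci ≤ (a : ℝ) ^ α * ca)
    (heq : (a : ℝ) ^ α * ca = (b : ℝ) ^ α * cb) :
    a * b = j * i ∧ ca * cb = ci * cj ∧ (j : ℝ) ^ α * cj = (a : ℝ) ^ α * ca ∧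
      (i : ℝ) ^ α * ci = (a : ℝ) ^ α * ca := by
  set M := (a : ℝ) ^ α * ca with hM
  have hM0 : 0 < M := by
    have : 0 < a := Nat.pos_of_mul_pos_right hab
    have : 0 < ca := Nat.pos_of_mul_pos_right hc
    positivity
  have r1 : ((a * b : ℕ) : ℝ) ^ α ≤ ((j * i : ℕ) : ℝ) ^ α :=
    Real.rpow_le_rpow (Nat.cast_nonneg _) (by exact_mod_cast h1) hα.le
  have r2 : ((ca * cb : ℕ) : ℝ) ≤ ((ci * cj : ℕ) : ℝ) := by exact_mod_cast h2
  have eP : ((a * b : ℕ) : ℝ) ^ α * ((ca * cb : ℕ) : ℝ) = M * M := by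
    conv_rhs => arg 2; rw [heq]
    rw [hM, Nat.cast_mul, Nat.cast_mul, Real.mul_rpow (Nat.cast_nonneg _) (Nat.cast_nonneg _)]
    ring
  have eQ : ((j * i : ℕ) : ℝ) ^ α * ((ci * cj : ℕ) : ℝ) =
      ((j : ℝ) ^ α * cj) * ((i : ℝ) ^ α * ci) := by
    rw [Nat.cast_mul, Nat.cast_mul, Real.mul_rpow (Nat.cast_nonneg _) (Nat.cast_nonneg _)]
    ring
  have hPQ : ((a * b : ℕ) : ℝ) ^ α * ((ca * cb : ℕ) : ℝ) ≤
      ((j * i : ℕ) : ℝ) ^ α * ((ci * cj : ℕ) : ℝ) := mul_le_mul r1 r2 (by positivity) (by positivity)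
  have hQ : ((j : ℝ) ^ α * cj) * ((i : ℝ) ^ α * ci) = M * M :=
    le_antisymm (mul_le_mul hj hi (by positivity) hM0.le) (eP ▸ eQ ▸ hPQ)
  have hj' : (j : ℝ) ^ α * cj = M := by
    refine le_antisymm hj ?_
    by_contra h
    nlinarith [mul_lt_mul_of_pos_right (not_le.mp h) hM0,
      mul_le_mul_of_nonneg_left hi (show (0 : ℝ) ≤ (j : ℝ) ^ α * cj by positivity)]
  have hi' : (i : ℝ) ^ α * ci = M := by
    rw [hj'] at hQ
    exact mul_left_cancel₀ hM0.ne' hQ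
  have hp0 : (0 : ℝ) < ((a * b : ℕ) : ℝ) ^ α := Real.rpow_pos_of_pos (by exact_mod_cast hab) _
  have hc0 : (0 : ℝ) < ((ca * cb : ℕ) : ℝ) := by exact_mod_cast hc
  have heqPQ : ((a * b : ℕ) : ℝ) ^ α * ((ca * cb : ℕ) : ℝ) =
      ((j * i : ℕ) : ℝ) ^ α * ((ci * cj : ℕ) : ℝ) := by rw [eP, eQ, hQ]
  refine ⟨le_antisymm h1 ?_, le_antisymm h2 ?_, hj', hi'⟩
  · by_contra h
    have : ((a * b : ℕ) : ℝ) ^ α < ((j * i : ℕ) : ℝ) ^ α :=
      Real.rpow_lt_rpow (Nat.cast_nonneg _) (by exact_mod_cast not_le.mp h) hα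
    nlinarith [mul_lt_mul_of_pos_right this hc0, mul_le_mul_of_nonneg_left r2 (hp0.le.trans r1)]
  · by_contra h
    have : ((ca * cb : ℕ) : ℝ) < ((ci * cj : ℕ) : ℝ) := by exact_mod_cast not_le.mp h
    nlinarith [mul_lt_mul_of_pos_left this hp0, mul_le_mul_of_nonneg_right r1 (hc0.le.trans r2)]

/-- Let G and H be subgroups of a finite group with G normalizing H, fix a real number α > 0, and for a subgroup A of G put m(A) = |A|^α · |C_H(A)|. Let A and B be nontrivial subgroups of G at which m attains its maximum over all nontrivial subgroups of G, and assume that A ∩ B ≠ 1 or that this maximum is at least |H|. Then AB = BA is a subgroup at which m is again maximal, C_H(A ∩ B) = C_H(A) C_H(B), and if A ∩ B ≠ 1 then m is maximal at A ∩ B as well. -/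
theorem result {X : Type*} [Group X] [Finite X] (G H : Subgroup X) (hGH : G ≤ Subgroup.normalizer (H : Set X)) (α : ℝ) (hα : 0 < α)
    (A B : Subgroup X) (hA : A ≤ G) (hB : B ≤ G) (hA1 : A ≠ ⊥) (hB1 : B ≠ ⊥)
    (hAmax : ∀ A' : Subgroup X, A' ≤ G → A' ≠ ⊥ → (fun A : Subgroup X => ((Nat.card A : ℝ) ^ α) * (Nat.card ↥(H ⊓ Subgroup.centralizer (A : Set X)) : ℝ)) A' ≤ (fun A : Subgroup X => ((Nat.card A : ℝ) ^ α) * (Nat.card ↥(H ⊓ Subgroup.centralizer (A : Set X)) : ℝ)) A)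
    (hBmax : ∀ A' : Subgroup X, A' ≤ G → A' ≠ ⊥ → (fun A : Subgroup X => ((Nat.card A : ℝ) ^ α) * (Nat.card ↥(H ⊓ Subgroup.centralizer (A : Set X)) : ℝ)) A' ≤ (fun A : Subgroup X => ((Nat.card A : ℝ) ^ α) * (Nat.card ↥(H ⊓ Subgroup.centralizer (A : Set X)) : ℝ)) B)
    (hcase : A ⊓ B ≠ ⊥ ∨ (Nat.card H : ℝ) ≤ (fun A : Subgroup X => ((Nat.card A : ℝ) ^ α) * (Nat.card ↥(H ⊓ Subgroup.centralizer (A : Set X)) : ℝ)) A) :
    (∀ a ∈ A, ∀ b ∈ B, ∃ b' ∈ B, ∃ a' ∈ A, a * b = b' * a') ∧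
    (∀ A' : Subgroup X, A' ≤ G → A' ≠ ⊥ → (fun A : Subgroup X => ((Nat.card A : ℝ) ^ α) * (Nat.card ↥(H ⊓ Subgroup.centralizer (A : Set X)) : ℝ)) A' ≤ (fun A : Subgroup X => ((Nat.card A : ℝ) ^ α) * (Nat.card ↥(H ⊓ Subgroup.centralizer (A : Set X)) : ℝ)) (A ⊔ B)) ∧
    (∀ h ∈ H ⊓ Subgroup.centralizer ((A ⊓ B : Subgroup X) : Set X), ∃ u ∈ H ⊓ Subgroup.centralizer (A : Set X), ∃ v ∈ H ⊓ Subgroup.centralizer (B : Set X), h = u * v) ∧
    (A ⊓ B ≠ ⊥ → ∀ A' : Subgroup X, A' ≤ G → A' ≠ ⊥ → (fun A : Subgroup X => ((Nat.card A : ℝ) ^ α) * (Nat.card ↥(H ⊓ Subgroup.centralizer (A : Set X)) : ℝ)) A' ≤ (fun A : Subgroup X => ((Nat.card A : ℝ) ^ α) * (Nat.card ↥(H ⊓ Subgroup.centralizer (A : Set X)) : ℝ)) (A ⊓ B)) := by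
  set m : Subgroup X → ℝ := fun A : Subgroup X =>
    ((Nat.card A : ℝ) ^ α) * (Nat.card ↥(H ⊓ Subgroup.centralizer (A : Set X)) : ℝ) with hm
  have hmax : ∀ C, C ≤ G → C ≠ ⊥ → m C ≤ m A := hAmax
  have hAB : m A = m B := le_antisymm (hBmax A hA hA1) (hAmax B hB hB1)
  have hjle : m (A ⊔ B) ≤ m A := hmax _ (sup_le hA hB) fun h =>
    hA1 (le_bot_iff.mp (h ▸ le_sup_left))
  have hile : m (A ⊓ B) ≤ m A := by
    by_cases h : A ⊓ B = ⊥
    · rcases hcase with h' | h'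
      · exact absurd h h'
      refine le_trans ?_ h'
      simp only [hm, h, Subgroup.card_bot, Nat.cast_one, Real.one_rpow, one_mul]
      exact_mod_cast Subgroup.card_le_of_le inf_le_left
    · exact hmax _ (inf_le_left.trans hA) h
  obtain ⟨hp, hps⟩ := card_prod_le (A := A) (B := B) (K := A ⊔ B) le_sup_left le_sup_right
  obtain ⟨hq, hqs⟩ := card_prod_le (A := H ⊓ Subgroup.centralizer (A : Set X))
    (B := H ⊓ Subgroup.centralizer (B : Set X))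
    (K := H ⊓ Subgroup.centralizer ((A ⊓ B : Subgroup X) : Set X))
    (inf_le_inf_left _ (Subgroup.centralizer_le fun x hx => hx.1))
    (inf_le_inf_left _ (Subgroup.centralizer_le fun x hx => hx.2))
  have hcj : (H ⊓ Subgroup.centralizer (A : Set X)) ⊓ (H ⊓ Subgroup.centralizer (B : Set X)) =
      H ⊓ Subgroup.centralizer ((A ⊔ B : Subgroup X) : Set X) := by
    refine le_antisymm (fun x hx => ⟨hx.1.1, ?_⟩) (le_inf
      (inf_le_inf_left _ (Subgroup.centralizer_le (SetLike.coe_subset_coe.mpr le_sup_left)))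
      (inf_le_inf_left _ (Subgroup.centralizer_le (SetLike.coe_subset_coe.mpr le_sup_right))))
    have h : A ⊔ B ≤ Subgroup.centralizer {x} := sup_le
      (fun a ha => Subgroup.mem_centralizer_singleton_iff.mpr (Subgroup.mem_centralizer_iff.mp hx.1.2 a ha))
      (fun b hb => Subgroup.mem_centralizer_singleton_iff.mpr (Subgroup.mem_centralizer_iff.mp hx.2.2 b hb))
    exact Subgroup.mem_centralizer_iff.mpr fun y hy => Subgroup.mem_centralizer_singleton_iff.mp (h hy)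
  rw [hcj] at hq hqs
  obtain ⟨e1, e2, e3, e4⟩ := extremal hα hp hq (Nat.mul_pos Nat.card_pos Nat.card_pos)
    (Nat.mul_pos Nat.card_pos Nat.card_pos) hjle hile hAB
  refine ⟨fun a ha b hb => ?_, fun C hC hC1 => (hmax C hC hC1).trans e3.ge, hqs e2,
    fun _ C hC hC1 => (hmax C hC hC1).trans e4.ge⟩
  obtain ⟨a', ha', b', hb', he⟩ := hps e1 (a * b)⁻¹
    (inv_mem (mul_mem (Subgroup.mem_sup_left ha) (Subgroup.mem_sup_right hb)))
  exact ⟨b'⁻¹, inv_mem hb', a'⁻¹, inv_mem ha', by rw [← mul_inv_rev, ← he, inv_inv]⟩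

end Cfsg.Agent.S3804
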