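import Cfsg.Statements.S3805
import Cfsg.Agent.H40.Klein.Main

set_option autoImplicit false
open Cfsg

namespace Cfsg.Agent.S3805

/-- Let G be a finite group whose Sylow 3-subgroup T is elementary abelian of order 9 and self-centralizing, with N_G(T)/T a Klein four-group, and suppose that the centralizer of every nonidentity element of T lies in N_G(T). Then T is normal in G. -/
theorem result {G : Type*} [Group G] [Finite G]
    (T : Sylow 3 G) (hT : Cfsg.IsElementaryAbelian 3 (T : Subgroup G)) (hcard : Nat.card T = 9)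
    (hC : Subgroup.centralizer ((T : Subgroup G) : Set G) = T)
    [hn : ((T : Subgroup G).subgroupOf (Subgroup.normalizer ((T : Subgroup G) : Set G))).Normal]
    (hK : IsKleinFour (↥(Subgroup.normalizer ((T : Subgroup G) : Set G)) ⧸
      (T : Subgroup G).subgroupOf (Subgroup.normalizer ((T : Subgroup G) : Set G))))
    (hloc : ∀ t ∈ (T : Subgroup G), t ≠ 1 →
      Subgroup.centralizer ({t} : Set G) ≤ Subgroup.normalizer ((T : Subgroup G) : Set G)) :
    Subgroup.normalizer ((T : Subgroup G) : Set G) = ⊤ := by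
  haveI : Fact (Nat.Prime 3) := ⟨Nat.prime_three⟩
  set N := Subgroup.normalizer ((T : Subgroup G) : Set G) with hN
  have hTN : (T : Subgroup G) ≤ N := Subgroup.le_normalizer
  have hcomm : ∀ x ∈ (T : Subgroup G), ∀ y ∈ (T : Subgroup G), x * y = y * x :=
    fun x hx y hy => congrArg Subtype.val (hT.1.is_comm.comm ⟨x, hx⟩ ⟨y, hy⟩)
  have hT3 : ∀ x ∈ (T : Subgroup G), x ^ 3 = 1 := hT.2
  have hN36 : Nat.card N = 36 := by
    have h := Subgroup.card_mul_index ((T : Subgroup G).subgroupOf N)
    rw [Nat.card_congr (Subgroup.subgroupOfEquivOfLe hTN).toEquiv, hcard, Subgroup.index_eq_card,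
      hK.card_four] at h
    omega
  have hsq : ∀ g ∈ N, g * g ∈ (T : Subgroup G) := by
    intro g hg
    have h := hK.mul_self ((QuotientGroup.mk (⟨g, hg⟩ : N)) : N ⧸ (T : Subgroup G).subgroupOf N)
    rw [← QuotientGroup.mk_mul, QuotientGroup.eq_one_iff] at h
    exact Subgroup.mem_subgroupOf.mp h
  obtain ⟨f, hfi, hr⟩ := H40.Klein.exists_iso (T : Subgroup G) hcard hT3 hcomm hC N hTN
    (fun g hg x hx => (Subgroup.mem_normalizer_iff.mp hg x).mp hx) hN36 hsq
  rw [← hr]
  refine H40.Klein.eq_top f hfi (T : Subgroup G) hcard hT3 hC (fun k hk => ?_) (hr.symm ▸ hTN)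
    (by rw [hr]) (fun t ht ht1 => hr.symm ▸ hloc t ht ht1)
  have hgN : f k ∈ N := hr ▸ ⟨k, rfl⟩
  have h3 : f k ^ 3 = 1 := by rw [← map_pow, hk, map_one]
  have h4 := mul_mem (hsq _ hgN) (hsq _ hgN)
  have : f k = f k * f k * (f k * f k) := by
    calc f k = f k * f k ^ 3 := by rw [h3, mul_one]
      _ = _ := by simp only [pow_succ, pow_zero, one_mul, mul_assoc]
  rwa [← this] at h4

end Cfsg.Agent.S3805
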