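import Cfsg.Statements.S3807
import Cfsg.Agent.Lib.PGroup.Basic
import Cfsg.Agent.Lib.PGroup.Commutator
import Mathlib
-- import your own Cfsg.Agent.* helpers here

set_option autoImplicit false
open Cfsg

namespace Cfsg.Agent.S3807

open Subgroup
open scoped commutatorElement

/-- Subgroups of order `p` in a group of order `p ^ 2` and exponent `p`. -/
theorem card_prime_subgroups {Q : Type*} [Group Q] [Finite Q] {p : ℕ} [hp : Fact p.Prime]
    (hc : Nat.card Q = p ^ 2) (he : ∀ x : Q, x ^ p = 1) :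
    Nat.card {D : Subgroup Q // Nat.card D = p} = p + 1 := by
  classical
  let f : (Σ D : {D : Subgroup Q // Nat.card D = p}, {x : D.1 // x ≠ 1}) → {x : Q // x ≠ 1} :=
    fun a => ⟨a.2.1, fun h => a.2.2 (Subtype.ext h)⟩
  have hspan : ∀ (D : {D : Subgroup Q // Nat.card D = p}) (x : D.1), x ≠ 1 → D.1 = zpowers (x : Q) := by
    intro D x hx
    refine (eq_of_le_of_card_ge (zpowers_le.mpr x.2) ?_).symm
    rw [D.2, Nat.card_zpowers, orderOf_eq_prime_iff.mpr ⟨he _, fun h => hx (Subtype.ext h)⟩]
  have hf : Function.Bijective f := by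
    refine ⟨?_, fun x => ?_⟩
    · rintro ⟨D, x, hx⟩ ⟨D', x', hx'⟩ h
      have hv : (x : Q) = (x' : Q) := congrArg Subtype.val h
      obtain rfl : D = D' := Subtype.ext (by rw [hspan D x hx, hspan D' x' hx', hv])
      exact congrArg _ (Subtype.ext (Subtype.ext hv))
    · exact ⟨⟨⟨zpowers x.1, by rw [Nat.card_zpowers, orderOf_eq_prime_iff.mpr ⟨he _, x.2⟩]⟩,
        ⟨⟨x.1, mem_zpowers x.1⟩, fun h => x.2 (congrArg Subtype.val h)⟩⟩, rfl⟩
  have hne : ∀ (T : Type _) [Group T] [Finite T], Nat.card {x : T // x ≠ 1} + 1 = Nat.card T := by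
    intro T _ _
    have := Fintype.ofFinite T
    rw [Nat.card_eq_fintype_card, Nat.card_eq_fintype_card, Fintype.card_subtype_compl,
      Fintype.card_subtype_eq]
    have := Fintype.card_pos (α := T)
    omega
  have := Fintype.ofFinite {D : Subgroup Q // Nat.card D = p}
  have h := Nat.card_eq_of_bijective f hf
  rw [Nat.card_sigma, Finset.sum_congr rfl (g := fun _ => p - 1) (fun D _ => by
    have := hne D.1
    have := D.2
    omega), Finset.sum_const, smul_eq_mul, Finset.card_univ] at h
  have h2 := hne Q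
  rw [hc] at h2
  rw [Nat.card_eq_fintype_card]
  obtain ⟨r, rfl⟩ : ∃ r, p = r + 2 := ⟨p - 2, by have := hp.out.two_le; omega⟩
  rw [show r + 2 - 1 = r + 1 by omega] at h
  rw [← h] at h2
  refine Nat.eq_of_mul_eq_mul_right (show 0 < r + 1 by omega) ?_
  nlinarith

/-- Let S be a non-abelian finite p-group with an abelian subgroup A of index p. Then [S : Z(S)] = p·#[S,S], and either [S,S] has order p, S/Z(S) is elementary abelian of order p², and S has exactly p + 1 abelian subgroups of index p; or [S,S] has order at least p² and A is the only abelian subgroup of index p in S. -/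
theorem result {S : Type*} [Group S] [Finite S] (p : ℕ) [Fact p.Prime] (hS : IsPGroup p S) (hna : ¬ IsMulCommutative S)
    (A : Subgroup S) (hA : IsMulCommutative ↥A) (hAi : A.index = p) :
    (Subgroup.center S).index = p * Nat.card (commutator S) ∧
      ((Nat.card (commutator S) = p ∧ Cfsg.IsElementaryAbelian p (⊤ : Subgroup (S ⧸ Subgroup.center S)) ∧
          Nat.card (S ⧸ Subgroup.center S) = p ^ 2 ∧
          Nat.card {B : Subgroup S // IsMulCommutative ↥B ∧ B.index = p} = p + 1) ∨
        (p ^ 2 ≤ Nat.card (commutator S) ∧ ∀ B : Subgroup S, IsMulCommutative ↥B → B.index = p → B = A)) := by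
  have hp : p.Prime := Fact.out
  haveI hAn := PGroup.normal_of_index_eq_prime hS hAi
  set Z := center S with hZ
  have hne : Z ≠ ⊤ := fun h => hna ⟨⟨fun a b => mem_center_iff.mp (show b ∈ center S from (show center S = ⊤ from h).ge (mem_top b)) a⟩⟩
  have hcoA : IsCoatom A := PGroup.isCoatom_of_index_prime (hAi.symm ▸ hp)
  -- abelian subgroups of index `p` contain the centre
  have hZle : ∀ B : Subgroup S, IsMulCommutative B → B.index = p → Z ≤ B := by
    intro B hB hBi
    by_contra h
    have hco : IsCoatom B := PGroup.isCoatom_of_index_prime (hBi.symm ▸ hp)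
    have htop : B ⊔ Z = ⊤ := hco.2 _ (lt_of_le_of_ne le_sup_left fun he => h (he.symm ▸ le_sup_right))
    have hBZ : B ≤ Z := fun b hb => mem_center_iff.mpr fun g => by
      have hle : B ⊔ Z ≤ centralizer {b} :=
        sup_le (fun a ha => mem_centralizer_singleton_iff.mpr
          (congrArg Subtype.val (hB.is_comm.comm ⟨a, ha⟩ ⟨b, hb⟩) :))
          (fun z hz => mem_centralizer_singleton_iff.mpr (mem_center_iff.mp hz b).symm)
      exact mem_centralizer_singleton_iff.mp (hle (htop ▸ mem_top g))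
    exact hne (by rwa [sup_eq_right.mpr hBZ] at htop)
  obtain ⟨x, hx⟩ : ∃ x, x ∉ A := by
    by_contra h
    push Not at h
    exact hcoA.1 ((eq_top_iff' A).mpr h)
  have hAc : ∀ {a b : S}, a ∈ A → b ∈ A → a * b = b * a := fun {a b} ha hb =>
    (congrArg Subtype.val (hA.is_comm.comm ⟨a, ha⟩ ⟨b, hb⟩) :)
  have htop : A ⊔ zpowers x = ⊤ :=
    hcoA.2 _ (lt_of_le_of_ne le_sup_left fun he => hx (he.symm ▸ (le_sup_right (a := A)) (mem_zpowers x)))
  let φ : A →* A := MonoidHom.mk'
    (fun m => ⟨x * m * x⁻¹ * (m : S)⁻¹, mul_mem (hAn.conj_mem _ m.2 x) (inv_mem m.2)⟩)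
    fun a b => Subtype.ext <| by
      show x * ((a : S) * b) * x⁻¹ * ((a : S) * b)⁻¹ =
        x * a * x⁻¹ * (a : S)⁻¹ * (x * b * x⁻¹ * (b : S)⁻¹)
      have h := hAc (inv_mem a.2) (mul_mem (hAn.conj_mem _ b.2 x) (inv_mem b.2))
      calc x * ((a : S) * b) * x⁻¹ * ((a : S) * b)⁻¹
          = x * a * x⁻¹ * ((x * b * x⁻¹ * (b : S)⁻¹) * (a : S)⁻¹) := by group
        _ = _ := by rw [← h]; group
  have hker : φ.ker.map A.subtype = Z := by
    refine le_antisymm ?_ fun z hz => ⟨⟨z, hZle A hA hAi hz⟩, Subtype.ext ?_, rfl⟩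
    · rintro _ ⟨m, hm, rfl⟩
      have h1 : x * (m : S) * x⁻¹ = m := mul_inv_eq_one.mp (congrArg Subtype.val hm)
      refine mem_center_iff.mpr fun g => ?_
      have hle : A ⊔ zpowers x ≤ centralizer {(m : S)} :=
        sup_le (fun a ha => mem_centralizer_singleton_iff.mpr (hAc ha m.2))
          (zpowers_le.mpr (mem_centralizer_singleton_iff.mpr (mul_inv_eq_iff_eq_mul.mp h1)))
      exact mem_centralizer_singleton_iff.mp (hle (htop ▸ mem_top g))
    · show x * z * x⁻¹ * z⁻¹ = 1
      rw [mem_center_iff.mp hz x, mul_inv_cancel_right, mul_inv_cancel]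
  set R : Subgroup S := φ.range.map A.subtype with hR
  have hRA : R ≤ A := map_subtype_le _
  have hRS : R ≤ commutator S := by
    rintro _ ⟨_, ⟨m, rfl⟩, rfl⟩
    exact PGroup.commutatorElement_mem_commutator x (m : S)
  have hSR : commutator S ≤ R := by
    have hconjx : ∀ r ∈ R, x * r * x⁻¹ ∈ R := by
      rintro _ ⟨_, ⟨m, rfl⟩, rfl⟩
      refine ⟨φ ⟨x * m * x⁻¹, hAn.conj_mem _ m.2 x⟩, ⟨_, rfl⟩, ?_⟩
      show x * (x * m * x⁻¹) * x⁻¹ * (x * m * x⁻¹)⁻¹ = x * (x * m * x⁻¹ * (m : S)⁻¹) * x⁻¹
      group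
    haveI hRn : R.Normal := by
      rw [← normalizer_eq_top_iff, eq_top_iff, ← htop]
      refine sup_le (fun m hm => ?_) (zpowers_le.mpr ?_)
      · rw [mem_normalizer_iff_map_conj_eq]
        refine eq_of_le_of_card_ge ?_ (card_map_of_injective (MulAut.conj m).injective).ge
        rintro _ ⟨r, hr, rfl⟩
        show m * r * m⁻¹ ∈ R
        rwa [hAc hm (hRA hr), mul_inv_cancel_right]
      · rw [mem_normalizer_iff_map_conj_eq]
        refine eq_of_le_of_card_ge ?_ (card_map_of_injective (MulAut.conj x).injective).ge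
        rintro _ ⟨r, hr, rfl⟩
        exact hconjx r hr
    rw [← Normal.quotient_commutative_iff_commutator_le]
    set π := QuotientGroup.mk' R
    have hxm : ∀ m ∈ A, π x * π m = π m * π x := by
      intro m hm
      rw [← commutatorElement_eq_one_iff_mul_comm, ← map_commutatorElement]
      exact (QuotientGroup.eq_one_iff _).mpr ⟨_, ⟨⟨m, hm⟩, rfl⟩, rfl⟩
    have hall : ∀ g, A ⊔ zpowers x ≤ (centralizer {π g}).comap π →
        ∀ h, π h * π g = π g * π h := fun g hg h =>
      mem_centralizer_singleton_iff.mp (hg (htop ▸ mem_top h))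
    have hxc : ∀ h, π h * π x = π x * π h := hall x
      (sup_le (fun m hm => mem_centralizer_singleton_iff.mpr (hxm m hm).symm)
        (zpowers_le.mpr (mem_centralizer_singleton_iff.mpr rfl)))
    refine ⟨⟨fun a b => ?_⟩⟩
    obtain ⟨g, rfl⟩ := QuotientGroup.mk'_surjective R a
    obtain ⟨h, rfl⟩ := QuotientGroup.mk'_surjective R b
    refine (hall g (sup_le (fun m hm => mem_centralizer_singleton_iff.mpr ?_)
      (zpowers_le.mpr (mem_centralizer_singleton_iff.mpr (hxc g).symm))) h).symm
    refine (hall m (sup_le (fun m' hm' => mem_centralizer_singleton_iff.mpr ?_)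
      (zpowers_le.mpr (mem_centralizer_singleton_iff.mpr (hxm m hm)))) g).symm
    rw [← map_mul, ← map_mul, hAc hm' hm]
  have hcard : Nat.card A = Nat.card Z * Nat.card (commutator S) := by
    rw [le_antisymm hSR hRS, ← hker, hR, card_map_of_injective A.subtype_injective,
      card_map_of_injective A.subtype_injective, ← index_ker, card_mul_index]
  have hidx : Z.index = p * Nat.card (commutator S) := by
    have h1 := Z.card_mul_index
    rw [← A.card_mul_index, hcard, hAi, mul_assoc] at h1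
    rw [Nat.eq_of_mul_eq_mul_left Nat.card_pos h1, mul_comm]
  refine ⟨hidx, ?_⟩
  have hcne : commutator S ≠ ⊥ := fun h => hna ⟨⟨fun a b =>
    commutatorElement_eq_one_iff_mul_comm.mp (mem_bot.mp (h ▸ PGroup.commutatorElement_mem_commutator a b))⟩⟩
  obtain ⟨i, hi⟩ := PGroup.exists_card_eq_pow hS (commutator S)
  have hp1 : p ≤ p ^ i := hi ▸ PGroup.le_card_of_ne_bot hS hcne
  have hi1 : 1 ≤ i := by
    by_contra h
    rw [show i = 0 by omega, pow_zero] at hp1
    exact absurd hp.two_le (by omega)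
  rcases Nat.lt_or_ge i 2 with h | h
  · refine Or.inl ?_
    have hS' : Nat.card (commutator S) = p := by rw [hi, show i = 1 by omega, pow_one]
    have hQ2 : Nat.card (S ⧸ Z) = p ^ 2 := by rw [← index_eq_card, hidx, hS', sq]
    have hncyc : ¬ IsCyclic (S ⧸ Z) := fun h => hna ⟨⟨commutative_of_cyclic_center_quotient
      (QuotientGroup.mk' Z) (QuotientGroup.ker_mk' _).le⟩⟩
    have hexp : ∀ q : S ⧸ Z, q ^ p = 1 := by
      intro q
      obtain ⟨j, hj, hq⟩ := (Nat.dvd_prime_pow hp).mp (hQ2 ▸ orderOf_dvd_natCard q)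
      rcases Nat.lt_or_ge j 2 with hj1 | hj2
      · exact orderOf_dvd_iff_pow_eq_one.mp (hq ▸ (pow_dvd_pow p (show j ≤ 1 by omega)).trans (pow_one p).dvd)
      · exact absurd (isCyclic_of_orderOf_eq_card q (by rw [hq, hQ2, show j = 2 by omega])) hncyc
    refine ⟨hS', ⟨?_, fun q _ => hexp q⟩, hQ2, ?_⟩
    · haveI := IsPGroup.commutative_of_card_eq_prime_sq hQ2
      exact ⟨⟨fun a b => Subtype.ext (IsPGroup.commutative_of_card_eq_prime_sq hQ2 (a : S ⧸ Z) b)⟩⟩
    rw [← card_prime_subgroups hQ2 hexp]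
    have hiD : ∀ D : Subgroup (S ⧸ Z), Nat.card D = p ↔ D.index = p := fun D => by
      have h1 := D.card_mul_index
      rw [hQ2, sq] at h1
      constructor
      · intro h2
        rw [h2] at h1
        exact Nat.eq_of_mul_eq_mul_left hp.pos h1
      · intro h2
        rw [h2] at h1
        exact Nat.eq_of_mul_eq_mul_right hp.pos h1
    have hmap : ∀ B : Subgroup S, Z ≤ B → (B.map (QuotientGroup.mk' Z)).comap (QuotientGroup.mk' Z) = B :=
      fun B hB => by rw [comap_map_eq, QuotientGroup.ker_mk', sup_eq_left]; exact hB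
    refine Nat.card_congr
      { toFun := fun B => ⟨B.1.map (QuotientGroup.mk' Z), (hiD _).mpr ?_⟩
        invFun := fun D => ⟨D.1.comap (QuotientGroup.mk' Z), ?_, ?_⟩
        left_inv := fun B => Subtype.ext (hmap _ (hZle _ B.2.1 B.2.2))
        right_inv := fun D => Subtype.ext
          (map_comap_eq_self_of_surjective (QuotientGroup.mk'_surjective _) _) }
    · rw [← index_comap_of_surjective _ (QuotientGroup.mk'_surjective Z), hmap _ (hZle _ B.2.1 B.2.2)]
      exact B.2.2
    · haveI : IsCyclic D.1 := isCyclic_of_prime_card D.2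
      exact ⟨⟨commutative_of_cyclic_center_quotient ((QuotientGroup.mk' Z).subgroupComap D.1) fun a ha =>
        mem_center_iff.mpr fun b => Subtype.ext (mem_center_iff.mp
          ((QuotientGroup.eq_one_iff (a : S)).mp (congrArg Subtype.val ha)) b)⟩⟩
    · rw [index_comap_of_surjective _ (QuotientGroup.mk'_surjective Z)]
      exact (hiD _).mp D.2
  · refine Or.inr ⟨hi ▸ Nat.pow_le_pow_right hp.pos h, fun B hB hBi => ?_⟩
    by_contra hne'
    have hsup : A ⊔ B = ⊤ := hcoA.2 _ (lt_of_le_of_ne le_sup_left fun he => hne' (by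
      refine eq_of_le_of_card_ge (he.symm ▸ le_sup_right) ?_
      have h1 := A.card_mul_index
      rw [hAi, ← B.card_mul_index, hBi] at h1
      exact (Nat.eq_of_mul_eq_mul_right hp.pos h1).le))
    have hle : A ⊓ B ≤ Z := fun z hz => mem_center_iff.mpr fun g => by
      have hle : A ⊔ B ≤ centralizer {z} :=
        sup_le (fun a ha => mem_centralizer_singleton_iff.mpr (hAc ha hz.1))
          (fun b hb => mem_centralizer_singleton_iff.mpr
            (congrArg Subtype.val (hB.is_comm.comm ⟨b, hb⟩ ⟨z, hz.2⟩) :))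
      exact mem_centralizer_singleton_iff.mp (hle (hsup ▸ mem_top g))
    have h2 := (index_antitone hle).trans (index_inf_le (H := A) (K := B))
    rw [hidx, hAi, hBi, hi] at h2
    have := Nat.le_of_mul_le_mul_left h2 hp.pos
    nth_rewrite 2 [← pow_one p] at this
    have := (Nat.pow_le_pow_iff_right hp.one_lt).mp this
    omega

end Cfsg.Agent.S3807
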