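import Cfsg.Statements.S3815

set_option autoImplicit false
open Cfsg

namespace Cfsg.Agent.S3815

/-- Let G be a finite group, p a prime and d ∈ G an element of order prime to p. If dg has order prime to p for every element g ∈ G of order prime to p, then d ∈ O_{p'}(G). -/
theorem result {G : Type*} [Group G] [Finite G] {p : ℕ} [Fact p.Prime]
    (d : G) (hd : (orderOf d).Coprime p)
    (h : ∀ g : G, (orderOf g).Coprime p → (orderOf (d * g)).Coprime p) :
    d ∈ Cfsg.pPrimeCore p G := by
  classical
  let D : Submonoid G :=
    { carrier := {a | ∀ g : G, (orderOf g).Coprime p → (orderOf (a * g)).Coprime p}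
      one_mem' := fun g hg => by simpa using hg
      mul_mem' := fun {a b} ha hb g hg => by rw [mul_assoc]; exact ha _ (hb g hg) }
  let N : Subgroup G :=
    { D with
      inv_mem' := fun {a} ha => by
        have h1 : a⁻¹ ∈ Submonoid.powers a :=
          ⟨orderOf a - 1, by
            show a ^ (orderOf a - 1) = a⁻¹
            apply eq_inv_of_mul_eq_one_left
            rw [← pow_succ, Nat.sub_add_cancel (orderOf_pos a), pow_orderOf_eq_one]⟩
        exact (Submonoid.powers_le (P := D)).2 ha h1 }
  have hN : N.Normal := by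
    refine ⟨fun a ha c g hg => ?_⟩
    have hc : ∀ x y : G, orderOf (y * x * y⁻¹) = orderOf x := fun x y => by
      rw [← MulAut.conj_apply]
      exact orderOf_injective (MulAut.conj y).toMonoidHom (MulAut.conj y).injective x
    have h1 : (orderOf (c⁻¹ * g * c)).Coprime p := by
      have := hc g c⁻¹
      rw [inv_inv] at this
      rwa [this]
    have h2 := ha _ h1
    rw [← hc (a * (c⁻¹ * g * c)) c] at h2
    have e : c * (a * (c⁻¹ * g * c)) * c⁻¹ = c * a * c⁻¹ * g := by group
    rwa [e] at h2
  have hcop : (Nat.card N).Coprime p := by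
    rw [Nat.coprime_comm, (Fact.out : p.Prime).coprime_iff_not_dvd]
    intro hdvd
    obtain ⟨x, hx⟩ := exists_prime_orderOf_dvd_card' p hdvd
    have h1 := (x.2 : ∀ g : G, (orderOf g).Coprime p → (orderOf ((x : G) * g)).Coprime p) 1 (by simp)
    rw [mul_one, Subgroup.orderOf_coe, hx, Nat.coprime_self] at h1
    exact (Fact.out : p.Prime).ne_one h1
  exact le_sSup (s := {N : Subgroup G | N.Normal ∧ (Nat.card N).Coprime p}) ⟨hN, hcop⟩ (fun g hg => h g hg)

end Cfsg.Agent.S3815
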