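import Cfsg.Statements.S3818
import Cfsg.Agent.LAE65.FixedHalf.Descent

set_option autoImplicit false
open Cfsg

namespace Cfsg.Agent.S3818

/-- Let G be a finite solvable group and P a subgroup of G of prime order p > 3 whose conjugates generate G. Let V be a faithful irreducible representation of G over a field of positive characteristic, finite-dimensional. Then the subspace of V fixed by P has dimension less than half the dimension of V. -/
theorem result {G : Type*} [Group G] [Finite G] [Group.IsSolvable G]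
    {p : ℕ} [Fact p.Prime] (hp : 3 < p) (P : Subgroup G) (hP : Nat.card P = p) (hgen : Subgroup.normalClosure (P : Set G) = ⊤)
    {k : Type*} [Field k] (ℓ : ℕ) [Fact ℓ.Prime] [CharP k ℓ]
    {V : Type*} [AddCommGroup V] [Module k V] [FiniteDimensional k V]
    (ρ : Representation k G V) [ρ.IsIrreducible] (hfaith : Function.Injective ρ) :
    2 * Module.finrank k ↥(⨅ g : ↥P, LinearMap.ker (ρ (g : G) - LinearMap.id)) < Module.finrank k V := by
  have hp5 : 5 ≤ p := by
    by_contra h
    have h4 : p = 4 := by omega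
    exact absurd (h4 ▸ (Fact.out : p.Prime)) (by decide)
  have hPbot : P ≠ ⊥ := fun h => (Fact.out : p.Prime).ne_one (by
    rw [← hP, h, Subgroup.card_bot])
  obtain ⟨x, hxP, hx1⟩ := P.ne_bot_iff_exists_ne_one.mp hPbot |> fun ⟨a, ha⟩ =>
    (⟨a, a.2, fun h => ha (Subtype.ext h)⟩ : ∃ x ∈ P, x ≠ 1)
  have hzp : P = Subgroup.zpowers x := by
    refine (Subgroup.eq_of_le_of_card_ge (Subgroup.zpowers_le.mpr hxP) ?_).symm
    rw [hP, Nat.card_zpowers]
    exact ((Fact.out : p.Prime).eq_one_or_self_of_dvd (orderOf x)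
      (hP ▸ P.orderOf_dvd_natCard hxP)).resolve_left (fun h => hx1 (orderOf_eq_one_iff.mp h))
      |>.ge
  have hxp : x ^ p = 1 := orderOf_dvd_iff_pow_eq_one.mp (hP ▸ P.orderOf_dvd_natCard hxP)
  have hgen' : Subgroup.normalClosure {x} = ⊤ := by
    rw [eq_top_iff, ← hgen]
    refine Subgroup.normalClosure_le_normal ?_
    rw [hzp]
    exact Subgroup.zpowers_le.mpr (Subgroup.subset_normalClosure rfl)
  haveI hsimple : IsSimpleOrder (Subrepresentation ρ) := inferInstance
  haveI : Nontrivial V := by
    obtain ⟨a, b, hab⟩ := hsimple.toNontrivial.exists_pair_ne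
    by_contra hc
    haveI := not_nontrivial_iff_subsingleton.mp hc
    exact hab (SetLike.ext fun v => by
      rw [Subsingleton.elim v 0]
      exact ⟨fun _ => b.toSubmodule.zero_mem, fun _ => a.toSubmodule.zero_mem⟩)
  have hirr : ∀ U : Submodule k V, (∀ g, ∀ u ∈ U, ρ g u ∈ U) → U = ⊥ ∨ U = ⊤ := by
    intro U hU
    rcases hsimple.eq_bot_or_eq_top ⟨U, fun g v hv => hU g v hv⟩ with h | h
    · exact Or.inl (congrArg Subrepresentation.toSubmodule h)
    · exact Or.inr (congrArg Subrepresentation.toSubmodule h)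
  have hlt := Agent.LAE65.FixedHalf.two_mul_fixed_lt hp5 ℓ ρ hfaith hirr x hxp hx1 hgen'
  have hle : Module.finrank k ↥(⨅ g : ↥P, LinearMap.ker (ρ (g : G) - LinearMap.id)) ≤
      Module.finrank k ↥(LinearMap.ker (ρ x - 1)) :=
    Submodule.finrank_mono (iInf_le (fun g : ↥P => LinearMap.ker (ρ (g : G) - LinearMap.id))
      ⟨x, hxP⟩)
  omega

end Cfsg.Agent.S3818
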