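import Cfsg.Statements.S3820

set_option autoImplicit false
open Cfsg

namespace Cfsg.Agent.S3820

/-- Call a subgroup H of G pronormal if H and gHg⁻¹ are conjugate inside ⟨H, gHg⁻¹⟩ for every g ∈ G. Let S ≤ H ≤ G be subgroups of a finite group with S pronormal in G (for instance S a Sylow subgroup). Then H is pronormal in G if and only if H and gHg⁻¹ are conjugate inside ⟨H, gHg⁻¹⟩ for every g ∈ N_G(S). In particular H is pronormal whenever N_G(S) ≤ H. -/
theorem result {G : Type*} [Group G] [Finite G] (S H : Subgroup G) (hSH : S ≤ H)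
    (hS : Cfsg.IsPronormal S) :
    Cfsg.IsPronormal H ↔
      ∀ g ∈ Subgroup.normalizer (S : Set G), ∃ w ∈ H ⊔ H.map (MulAut.conj g).toMonoidHom,
        H.map (MulAut.conj g).toMonoidHom = H.map (MulAut.conj w).toMonoidHom := by
  refine ⟨fun h g _ => h g, fun h g => ?_⟩
  obtain ⟨x, hx, hSx⟩ := hS g
  set J : Subgroup G := H ⊔ H.map (MulAut.conj g).toMonoidHom with hJ
  have hxJ : x ∈ J := sup_le_sup hSH (Subgroup.map_mono hSH) hx
  have hn : x⁻¹ * g ∈ Subgroup.normalizer (S : Set G) := by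
    rw [Subgroup.mem_normalizer_iff]
    intro y
    have h1 : g * y * g⁻¹ ∈ S.map (MulAut.conj g).toMonoidHom ↔ y ∈ S :=
      Subgroup.mem_map_iff_mem (f := (MulAut.conj g).toMonoidHom) (MulAut.conj g).injective
    have h2 : x * ((x⁻¹ * g) * y * (x⁻¹ * g)⁻¹) * x⁻¹ ∈ S.map (MulAut.conj x).toMonoidHom ↔
        (x⁻¹ * g) * y * (x⁻¹ * g)⁻¹ ∈ S :=
      Subgroup.mem_map_iff_mem (f := (MulAut.conj x).toMonoidHom) (MulAut.conj x).injective
    rw [← h1, hSx, ← h2]
    simp only [mul_assoc, mul_inv_rev, inv_inv, inv_mul_cancel_left, mul_inv_cancel_left,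
      inv_mul_cancel, mul_inv_cancel, mul_one]
  obtain ⟨w, hw, hHw⟩ := h _ hn
  have hwJ : w ∈ J := by
    refine sup_le (show H ≤ J from le_sup_left) ?_ hw
    rintro _ ⟨k, hk, rfl⟩
    have hgk : g * k * g⁻¹ ∈ J :=
      (le_sup_right : H.map (MulAut.conj g).toMonoidHom ≤ J) ⟨k, hk, rfl⟩
    have : (x⁻¹ * g) * k * (x⁻¹ * g)⁻¹ = x⁻¹ * (g * k * g⁻¹) * x := by group
    simp only [MulEquiv.coe_toMonoidHom, MulAut.conj_apply, this]
    exact J.mul_mem (J.mul_mem (J.inv_mem hxJ) hgk) hxJ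
  refine ⟨x * w, J.mul_mem hxJ hwJ, ?_⟩
  have e : ∀ (a b : G), H.map (MulAut.conj (a * b)).toMonoidHom =
      (H.map (MulAut.conj b).toMonoidHom).map (MulAut.conj a).toMonoidHom := by
    intro a b
    rw [Subgroup.map_map]
    congr 1
    ext y
    simp [mul_assoc]
  rw [e x w, ← hHw, ← e, mul_inv_cancel_left]

end Cfsg.Agent.S3820
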