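import Cfsg.Statements.S3821

set_option autoImplicit false
open Cfsg

namespace Cfsg.Agent.S3821

/-- Let A be a normal subgroup of the finite group G and H a subgroup of A. Then H is pronormal in G (H and gHg⁻¹ conjugate inside ⟨H, gHg⁻¹⟩ for every g ∈ G) if and only if H is pronormal in A and G = A · N_G(H). -/
theorem result {G : Type*} [Group G] [Finite G] (A H : Subgroup G) [A.Normal] (hHA : H ≤ A) :
    Cfsg.IsPronormal H ↔ (Cfsg.IsPronormal (H.subgroupOf A) ∧ A ⊔ Subgroup.normalizer (H : Set G) = ⊤) := by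
  have e : ∀ (a b : G), H.map (MulAut.conj (a * b)).toMonoidHom =
      (H.map (MulAut.conj b).toMonoidHom).map (MulAut.conj a).toMonoidHom := by
    intro a b
    rw [Subgroup.map_map]
    congr 1
    ext y
    simp [mul_assoc]
  have hsub : ∀ a : A, ((H.subgroupOf A).map (MulAut.conj a).toMonoidHom).map A.subtype =
      H.map (MulAut.conj (a : G)).toMonoidHom := by
    intro a
    conv_rhs => rw [← Subgroup.map_subgroupOf_eq_of_le hHA]
    rw [Subgroup.map_map, Subgroup.map_map]
    rfl
  have hnorm : ∀ n : G, n ∈ Subgroup.normalizer (H : Set G) →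
      H.map (MulAut.conj n).toMonoidHom = H := by
    intro n hn
    exact Subgroup.mem_normalizer_iff_map_conj_eq.1 hn
  constructor
  · intro h
    refine ⟨fun a => ?_, ?_⟩
    · obtain ⟨x, hx, hHx⟩ := h a
      have hJ : H ⊔ H.map (MulAut.conj (a : G)).toMonoidHom =
          (H.subgroupOf A ⊔ (H.subgroupOf A).map (MulAut.conj a).toMonoidHom).map A.subtype := by
        rw [Subgroup.map_sup, Subgroup.map_subgroupOf_eq_of_le hHA, hsub]
      rw [hJ] at hx
      obtain ⟨y, hy, rfl⟩ := hx
      refine ⟨y, hy, Subgroup.map_injective A.subtype_injective ?_⟩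
      rw [hsub, hsub]
      exact hHx
    · rw [eq_top_iff]
      intro g _
      obtain ⟨x, hx, hHx⟩ := h g
      have hxA : x ∈ A := by
        refine sup_le hHA ?_ hx
        rintro _ ⟨k, hk, rfl⟩
        exact ‹A.Normal›.conj_mem k (hHA hk) g
      have hn : x⁻¹ * g ∈ Subgroup.normalizer (H : Set G) := by
        rw [Subgroup.mem_normalizer_iff_map_conj_eq]
        change H.map (MulAut.conj (x⁻¹ * g)).toMonoidHom = H
        rw [e, hHx, ← e, inv_mul_cancel]
        exact hnorm 1 (one_mem _)
      have := Subgroup.mul_mem_sup hxA hn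
      rwa [mul_inv_cancel_left] at this
  · rintro ⟨h, htop⟩ g
    have hg : g ∈ A ⊔ Subgroup.normalizer (H : Set G) := by simp [htop]
    obtain ⟨a, ha, n, hn, rfl⟩ := Subgroup.mem_sup_of_normal_left.1 hg
    have hHg : H.map (MulAut.conj (a * n)).toMonoidHom = H.map (MulAut.conj a).toMonoidHom := by
      rw [e, hnorm n hn]
    rw [hHg]
    obtain ⟨y, hy, hHy⟩ := h ⟨a, ha⟩
    refine ⟨y, ?_, ?_⟩
    · have := Subgroup.mem_map_of_mem A.subtype hy
      rwa [Subgroup.map_sup, Subgroup.map_subgroupOf_eq_of_le hHA, hsub] at this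
    · have := congrArg (Subgroup.map A.subtype) hHy
      rwa [hsub, hsub] at this

end Cfsg.Agent.S3821
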