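import Cfsg.Statements.S3822
import Cfsg.Agent.LAE65.TwoGen.Outer

set_option autoImplicit false
open Cfsg

namespace Cfsg.Agent.S3822

theorem pCore_map_normalized {G : Type*} [Group G] [Finite G] (q : ℕ) (A V : Subgroup G)
    (hAV : A ≤ Subgroup.normalizer (V : Set G)) :
    A ≤ Subgroup.normalizer (((Cfsg.pCore q ↥V).map V.subtype : Subgroup G) : Set G) := by
  intro a ha
  refine Subgroup.mem_normalizer_fintype ?_
  rintro _ ⟨w, hw, rfl⟩
  have hmem : ∀ v : G, v ∈ V → a * v * a⁻¹ ∈ V := fun v hv =>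
    (Subgroup.mem_normalizer_iff.mp (hAV ha) v).mp hv
  have hmem' : ∀ v : G, v ∈ V → a⁻¹ * v * a ∈ V := fun v hv => by
    simpa using (Subgroup.mem_normalizer_iff.mp (inv_mem (hAV ha)) v).mp hv
  let σ : ↥V ≃* ↥V :=
    { toFun := fun v => ⟨a * v * a⁻¹, hmem v v.2⟩
      invFun := fun v => ⟨a⁻¹ * v * a, hmem' v v.2⟩
      left_inv := fun v => Subtype.ext (by simp [mul_assoc])
      right_inv := fun v => Subtype.ext (by simp [mul_assoc])
      map_mul' := fun u v => Subtype.ext (by simp [mul_assoc]) }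
  exact ⟨σ w, Subgroup.characteristic_iff_map_le.mp inferInstance σ ⟨w, hw, rfl⟩, rfl⟩

/-- Let G be a finite group and P a subgroup of prime order p > 3. Consider the solvable subgroups A of G of the form A = ⟨P, aPa⁻¹⟩ for some a ∈ A, and let A be maximal under inclusion among them. Then for every nilpotent subgroup V of G normalized by A, the subgroup F(A)V generated by the Fitting subgroup of A and V is nilpotent. -/
theorem result {G : Type*} [Group G] [Finite G]
    {p : ℕ} [Fact p.Prime] (hp : 3 < p) (P : Subgroup G) (hP : Nat.card P = p) (A : Subgroup G)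
    (hA : Group.IsSolvable ↥A ∧ ∃ a ∈ A, A = P ⊔ P.map (MulAut.conj a).toMonoidHom)
    (hmax : ∀ B : Subgroup G, A ≤ B → Group.IsSolvable ↥B → (∃ b ∈ B, B = P ⊔ P.map (MulAut.conj b).toMonoidHom) → B = A)
    (V : Subgroup G) (hV : Group.IsNilpotent ↥V) (hAV : A ≤ Subgroup.normalizer (V : Set G)) :
    Group.IsNilpotent ↥((Cfsg.fittingSubgroup ↥A).map A.subtype ⊔ V) := by
  classical
  obtain ⟨hAs, a, ha, hAeq⟩ := hA
  have hp5 : 5 ≤ p := by
    by_contra h
    have h4 : p = 4 := by omega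
    exact absurd (h4 ▸ (Fact.out : p.Prime)) (by decide)
  haveI : IsCyclic ↥P := isCyclic_of_prime_card hP
  obtain ⟨x, hxP⟩ : ∃ x : G, P = Subgroup.zpowers x := by
    obtain ⟨g, hg⟩ := IsCyclic.exists_generator (α := ↥P)
    refine ⟨g, le_antisymm (fun z hz => ?_) (Subgroup.zpowers_le.mpr g.2)⟩
    obtain ⟨n, hn⟩ := Subgroup.mem_zpowers_iff.mp (hg ⟨z, hz⟩)
    exact Subgroup.mem_zpowers_iff.mpr ⟨n, congrArg Subtype.val hn⟩
  have hx : x ^ p = 1 := orderOf_dvd_iff_pow_eq_one.mp (by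
    rw [← Nat.card_zpowers, ← hxP, hP])
  have hpair : ∀ b : G, P ⊔ P.map (MulAut.conj b).toMonoidHom =
      Subgroup.closure {x, b * x * b⁻¹} := fun b => by
    rw [hxP, MonoidHom.map_zpowers, Subgroup.zpowers_eq_closure, Subgroup.zpowers_eq_closure,
      ← Subgroup.closure_union, Set.singleton_union]
    rfl
  have hmax' : ∀ B : Subgroup G, A ≤ B → Group.IsSolvable ↥B →
      (∃ b ∈ B, B = Subgroup.closure {x, b * x * b⁻¹}) → B = A := fun B h1 h2 ⟨b, hb, h3⟩ =>
    hmax B h1 h2 ⟨b, hb, by rw [hpair]; exact h3⟩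
  let ι := {q : ℕ // q ∈ (Nat.card G).primeFactors}
  have hι : ∀ q : ι, Fact (q : ℕ).Prime := fun q => ⟨Nat.prime_of_mem_primeFactors q.2⟩
  let X : ι → Subgroup G := fun q =>
    (Cfsg.pCore (q : ℕ) ↥A).map A.subtype ⊔ (Cfsg.pCore (q : ℕ) ↥V).map V.subtype
  have hOn : ∀ q : ℕ, A ≤ Subgroup.normalizer
      (((Cfsg.pCore q ↥A).map A.subtype : Subgroup G) : Set G) := fun q =>
    pCore_map_normalized q A A Subgroup.le_normalizer
  have hcross : ∀ q r : ι, q ≠ r → ∀ k ∈ (Cfsg.pCore (q : ℕ) ↥V).map V.subtype,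
      ∀ t ∈ (Cfsg.pCore (r : ℕ) ↥A).map A.subtype, t * k = k * t := by
    intro q r hqr
    haveI := hι q
    haveI := hι r
    exact Agent.LAE65.TwoGen.commute_of_maximal hp5 (fun h => hqr (Subtype.ext h)) A _
      (Subgroup.map_subtype_le _) (hOn r) ((Agent.Fitting.pCore_isPGroup _).map _) x a hx ha
      (hAeq.trans (hpair a)) hmax' _ ((Agent.Fitting.pCore_isPGroup _).map _)
      (pCore_map_normalized _ A V hAV)
  have hcomm : Pairwise fun q r => ∀ u v : G, u ∈ X q → v ∈ X r → Commute u v := by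
    intro q r hqr u v hu hv
    haveI := hι q
    haveI := hι r
    have hne : (q : ℕ) ≠ r := fun h => hqr (Subtype.ext h)
    have h1 : X q ≤ Subgroup.centralizer (X r : Set G) := by
      have e : ∀ S T : Subgroup G, (∀ s ∈ S, ∀ t ∈ T, Commute s t) →
          S ≤ Subgroup.centralizer (T : Set G) := fun S T h s hs =>
        Subgroup.mem_centralizer_iff.mpr fun t ht => (h s hs t ht).eq.symm
      refine sup_le (Subgroup.le_centralizer_iff.mp (sup_le (e _ _ ?_) (e _ _ ?_)))
        (Subgroup.le_centralizer_iff.mp (sup_le (e _ _ ?_) (e _ _ ?_)))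
      · rintro _ ⟨s, hs, rfl⟩ _ ⟨t, ht, rfl⟩
        exact (Agent.Fitting.pCore_commute hne.symm hs ht).map A.subtype
      · intro s hs t ht
        exact (hcross r q hqr.symm s hs t ht).symm
      · intro s hs t ht
        exact hcross q r hqr t ht s hs
      · rintro _ ⟨s, hs, rfl⟩ _ ⟨t, ht, rfl⟩
        exact (Agent.Fitting.pCore_commute hne.symm hs ht).map V.subtype
    exact (Subgroup.mem_centralizer_iff.mp (h1 hu) v hv).symm
  have hnil : Group.IsNilpotent ↥(⨆ q, X q) := by
    refine Agent.Fitting.isNilpotent_iSup_of_commute X hcomm fun q => ?_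
    haveI := hι q
    exact (((Agent.Fitting.pCore_isPGroup _).map _).to_sup_of_normal_right'
      ((Agent.Fitting.pCore_isPGroup _).map _)
      ((Subgroup.map_subtype_le _).trans (pCore_map_normalized _ A V hAV))).isNilpotent
  have key : ∀ (K : Subgroup G) (_ : ∀ q : ι, (Cfsg.pCore (q : ℕ) ↥K).map K.subtype ≤ X q),
      (Cfsg.fittingSubgroup ↥K).map K.subtype ≤ ⨆ q, X q := by
    intro K hK
    rw [Agent.Fitting.fitting_eq_iSup_pCore, Subgroup.map_iSup]
    refine iSup_le fun q => ?_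
    haveI : Fact (q : ℕ).Prime := ⟨q.2⟩
    by_cases hq : (q : ℕ) ∣ Nat.card G
    · exact (hK ⟨q, Nat.mem_primeFactors.mpr ⟨q.2, hq, Nat.card_pos.ne'⟩⟩).trans (le_iSup X _)
    · have h0 : Cfsg.pCore (q : ℕ) ↥K = ⊥ := Subgroup.eq_bot_of_card_eq _
        ((Agent.Fitting.pCore_isPGroup _).card_eq_or_dvd.resolve_right fun h => hq
          (h.trans ((Subgroup.card_subgroup_dvd_card _).trans (Subgroup.card_subgroup_dvd_card _))))
      rw [h0, Subgroup.map_bot]
      exact bot_le
  refine Agent.Fitting.isNilpotent_of_le hnil (sup_le (key A fun q => le_sup_left) ?_)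
  have hVtop : Cfsg.fittingSubgroup ↥V = ⊤ := Agent.Fitting.fitting_eq_top_iff.mpr hV
  have h2 := key V fun q => le_sup_right
  rwa [hVtop, ← MonoidHom.range_eq_map, Subgroup.range_subtype] at h2

end Cfsg.Agent.S3822
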