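import Cfsg.Statements.S3824
import Cfsg.Agent.Lib.CharCore.Burnside
import Cfsg.Agent.Lib.Solvable.System
import Mathlib.GroupTheory.Nilpotent

set_option autoImplicit false
open Cfsg

namespace Cfsg.Agent.S3824

universe v

theorem solvable_aux : ∀ (n : ℕ) (G : Type v) [Group G] [Finite G], Nat.card G ≤ n →
    ∀ A : Subgroup G, IsMulCommutative A → (∃ k : ℕ, A.index = 2 ^ k) → Group.IsSolvable G := by
  intro n
  induction n with
  | zero => intro G _ _ hle; exact absurd hle (by have := Nat.card_pos (α := G); omega)
  | succ n ih =>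
    intro G _ _ hle A hA hidx
    obtain ⟨k, hk⟩ := hidx
    rcases subsingleton_or_nontrivial G with hs | hnt
    · exact Group.isSolvable_of_comm fun a b => Subsingleton.elim _ _
    by_cases hsim : IsSimpleGroup G
    · by_cases hAb : A = ⊥
      · haveI := Fact.mk Nat.prime_two
        haveI := (IsPGroup.of_card (p := 2) (n := k)
          (by rw [← hk, hAb, Subgroup.index_bot]) : IsPGroup 2 G).isNilpotent
        infer_instance
      · obtain ⟨a, ha⟩ := (Subgroup.ne_bot_iff_exists_ne_one).mp hAb
        have hle' : A ≤ Subgroup.centralizer ({(a : G)} : Set G) := fun b hb =>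
          Subgroup.mem_centralizer_singleton_iff.mpr
            (congrArg Subtype.val (hA.is_comm.comm ⟨b, hb⟩ a))
        obtain ⟨j, -, hj⟩ := (Nat.dvd_prime_pow Nat.prime_two).mp
          (hk ▸ Subgroup.index_dvd_of_le hle')
        haveI := Fact.mk (Cfsg.Agent.CharCore.prime_card_of_prime_power_class Nat.prime_two
          (fun h => ha (Subtype.ext h)) hj)
        haveI : IsCyclic G := isCyclic_of_prime_card rfl
        letI : CommGroup G := IsCyclic.commGroup
        infer_instance
    · obtain ⟨N, hN, hNb, hNt⟩ : ∃ N : Subgroup G, N.Normal ∧ N ≠ ⊥ ∧ N ≠ ⊤ := by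
        by_contra hc
        push Not at hc
        exact hsim ⟨fun H hH => or_iff_not_imp_left.mpr (hc H hH)⟩
      have hcN : Nat.card N ≤ n := by
        have : Nat.card N < Nat.card G :=
          lt_of_le_of_ne N.card_le_card_group fun he => hNt (N.eq_top_of_card_eq he)
        omega
      have hcQ : Nat.card (G ⧸ N) ≤ n := by
        have h1 : Nat.card N * N.index = Nat.card G := N.card_mul_index
        rw [Subgroup.index_eq_card] at h1
        have h2 : 2 ≤ Nat.card N := (Subgroup.one_lt_card_iff_ne_bot N).mpr hNb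
        have h3 : 0 < Nat.card (G ⧸ N) := Nat.card_pos
        nlinarith
      have hNs : Group.IsSolvable N := ih N hcN (A.subgroupOf N)
        ⟨⟨fun a b => Subtype.ext (Subtype.ext (show ((a : N) : G) * (b : N) = (b : N) * (a : N) from
          congrArg Subtype.val (hA.is_comm.comm ⟨_, a.2⟩ ⟨_, b.2⟩)))⟩⟩ (by
          have hd : A.relIndex N ∣ A.index :=
            Cfsg.Agent.Solvable.relIndex_dvd_index_right_normal A N
          obtain ⟨j, -, hj⟩ := (Nat.dvd_prime_pow Nat.prime_two).mp (hk ▸ hd)
          exact ⟨j, hj⟩)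
      have hQs : Group.IsSolvable (G ⧸ N) := ih _ hcQ (A.map (QuotientGroup.mk' N))
        ⟨⟨by
          rintro ⟨_, a, ha, rfl⟩ ⟨_, b, hb, rfl⟩
          refine Subtype.ext ?_
          show QuotientGroup.mk' N a * QuotientGroup.mk' N b = QuotientGroup.mk' N b * QuotientGroup.mk' N a
          rw [← map_mul, ← map_mul, show a * b = b * a from
            congrArg Subtype.val (hA.is_comm.comm ⟨a, ha⟩ ⟨b, hb⟩)]⟩⟩ (by
          have hd := Subgroup.index_map_dvd (H := A) (QuotientGroup.mk'_surjective N)
          obtain ⟨j, -, hj⟩ := (Nat.dvd_prime_pow Nat.prime_two).mp (hk ▸ hd)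
          exact ⟨j, hj⟩)
      exact Group.isSolvable_of_ker_le_range N.subtype (QuotientGroup.mk' N)
        (by rw [QuotientGroup.ker_mk', Subgroup.range_subtype])

/-- Every finite group having an abelian subgroup whose index is a power of 2 is solvable. -/
theorem result {G : Type*} [Group G] [Finite G]
    (A : Subgroup G) (hA : IsMulCommutative A) (hidx : ∃ k : ℕ, A.index = 2 ^ k) : Group.IsSolvable G := by
  exact solvable_aux _ G le_rfl A hA hidx

end Cfsg.Agent.S3824
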