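import Cfsg.Statements.S3825
import Mathlib
-- import your own Cfsg.Agent.* helpers here

set_option autoImplicit false
open Cfsg

namespace Cfsg.Agent.S3825

open scoped commutatorElement

/-- Let U be a subgroup of a finite group H and w an involution of H normalizing U and commuting with exactly two elements of U, the identity and y. If V is a non-cyclic elementary abelian 2-subgroup of U containing y which is normal in U and invariant under w, then V is a Sylow 2-subgroup of U, V has order 4, and U/V is abelian. -/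
theorem result {H : Type*} [Group H] [Finite H] (U : Subgroup H) (w : H) (hw : orderOf w = 2)
    (hwU : w ∈ Subgroup.normalizer (U : Set H)) (y : H) (hy : y ≠ 1) (hyU : y ∈ U)
    (hfix : ∀ u ∈ U, w * u * w⁻¹ = u ↔ (u = 1 ∨ u = y))
    (V : Subgroup H) (hVU : V ≤ U) (hVn : (V.subgroupOf U).Normal) (hVw : ∀ v ∈ V, w * v * w⁻¹ ∈ V)
    (hVe : Cfsg.IsElementaryAbelian 2 V) (hVc : ¬ IsCyclic ↥V) (hyV : y ∈ V) :
    ¬ 2 ∣ V.relIndex U ∧ Nat.card ↥V = 4 ∧ ⁅U, U⁆ ≤ V := by
  have hVab : ∀ a ∈ V, ∀ b ∈ V, a * b = b * a := fun a ha b hb =>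
    (congrArg Subtype.val (hVe.1.is_comm.comm ⟨a, ha⟩ ⟨b, hb⟩) :)
  have hw2 : w * w = 1 := by
    have := pow_orderOf_eq_one w
    rwa [hw, sq] at this
  have hwi : w⁻¹ = w := inv_eq_of_mul_eq_one_right hw2
  have hwU' : ∀ u ∈ U, w * u * w⁻¹ ∈ U := fun u hu =>
    ((Subgroup.mem_normalizer_iff.mp hwU) u).mp hu
  have hinvol : ∀ u : H, w * (w * u * w⁻¹) * w⁻¹ = u := fun u => by
    rw [hwi, ← mul_assoc, ← mul_assoc, hw2, one_mul, mul_assoc, hw2, mul_one]
  have hsq : ∀ v ∈ V, v * v = 1 := fun v hv => by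
    have := hVe.2 v hv
    rwa [sq] at this
  let τ : V →* V := MonoidHom.mk' (fun v => ⟨w * v * w⁻¹ * v, mul_mem (hVw v v.2) v.2⟩) fun a b =>
    Subtype.ext <| by
      show w * ((a : H) * b) * w⁻¹ * ((a : H) * b) = w * a * w⁻¹ * a * (w * b * w⁻¹ * b)
      calc w * ((a : H) * b) * w⁻¹ * ((a : H) * b)
          = w * a * w⁻¹ * ((w * b * w⁻¹) * a) * b := by group
        _ = w * a * w⁻¹ * (a * (w * b * w⁻¹)) * b := by rw [hVab _ (hVw b b.2) _ a.2]
        _ = _ := by group
  have hker : Nat.card τ.ker ≤ 2 := by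
    have hle : τ.ker.map V.subtype ≤ Subgroup.zpowers y := by
      rintro _ ⟨v, hv, rfl⟩
      have h1 : w * (v : H) * w⁻¹ * v = 1 := congrArg Subtype.val hv
      have h2 : w * (v : H) * w⁻¹ = v := by
        rw [mul_eq_one_iff_eq_inv.mp h1, inv_eq_of_mul_eq_one_right (hsq v v.2)]
      rcases (hfix v (hVU v.2)).mp h2 with h | h
      · show (v : H) ∈ _
        rw [h]; exact one_mem _
      · show (v : H) ∈ _
        rw [h]; exact Subgroup.mem_zpowers y
    rw [← Subgroup.card_map_of_injective V.subtype_injective]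
    refine (Subgroup.card_le_of_le hle).trans ?_
    rw [Nat.card_zpowers]
    exact orderOf_le_of_pow_eq_one two_pos (hVe.2 y hyV)
  have hrange : τ.range ≤ τ.ker := by
    rintro _ ⟨v, rfl⟩
    refine Subtype.ext ?_
    show w * (w * (v : H) * w⁻¹ * v) * w⁻¹ * (w * v * w⁻¹ * v) = 1
    calc w * (w * (v : H) * w⁻¹ * v) * w⁻¹ * (w * v * w⁻¹ * v)
        = w * (w * (v : H) * w⁻¹) * w⁻¹ * ((w * v * w⁻¹) * (w * v * w⁻¹)) * v := by group
      _ = 1 := by rw [hinvol, hsq _ (hVw v v.2), mul_one, hsq _ v.2]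
  have hcard : Nat.card V = 4 := by
    have hle : Nat.card V ≤ 4 := by
      rw [← τ.ker.card_mul_index, Subgroup.index_ker]
      exact (Nat.mul_le_mul hker ((Subgroup.card_le_of_le hrange).trans hker))
    obtain ⟨n, hn⟩ := (IsPGroup.iff_card (p := 2) (G := V)).mp fun v => ⟨1, by
      rw [pow_one]; exact Subtype.ext (hVe.2 v v.2)⟩
    rcases Nat.lt_or_ge n 2 with h | h
    · exfalso
      apply hVc
      interval_cases n
      · haveI := (Nat.card_eq_one_iff_unique.mp hn).1
        infer_instance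
      · exact isCyclic_of_prime_card (p := 2) hn
    · have : 2 ^ 2 ≤ 2 ^ n := Nat.pow_le_pow_right two_pos h
      omega
  -- the action on the quotient
  haveI := hVn
  let φ : U →* U := MonoidHom.mk' (fun u => ⟨w * u * w⁻¹, hwU' u u.2⟩) fun a b => Subtype.ext <| by
    show w * ((a : H) * b) * w⁻¹ = w * a * w⁻¹ * (w * b * w⁻¹)
    group
  let ψ : U ⧸ V.subgroupOf U →* U ⧸ V.subgroupOf U :=
    QuotientGroup.map _ _ φ fun u hu => hVw u hu
  have hinv2 : Function.Involutive ψ := fun q => by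
    induction q using QuotientGroup.induction_on with
    | H u => exact congrArg QuotientGroup.mk (Subtype.ext (hinvol u))
  obtain ⟨v0, hv0V, hv0⟩ : ∃ v0 ∈ V, v0⁻¹ * (w * v0 * w⁻¹) = y := by
    have hne : τ.range ≠ ⊥ := fun h => by
      have h1 := τ.ker.card_mul_index
      rw [Subgroup.index_ker, h, Subgroup.card_bot, mul_one, hcard] at h1
      omega
    obtain ⟨_, ⟨v, rfl⟩, hz1⟩ := (Subgroup.bot_or_exists_ne_one _).resolve_left hne
    have h1 : (v : H)⁻¹ * (w * v * w⁻¹) = (τ v : H) := by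
      rw [inv_eq_of_mul_eq_one_right (hsq v v.2), hVab _ v.2 _ (hVw v v.2)]
      rfl
    have h2 : w * (τ v : H) * w⁻¹ = (τ v : H) := by
      have h3 : w * (τ v : H) * w⁻¹ * (τ v : H) = 1 := congrArg Subtype.val (hrange ⟨v, rfl⟩)
      rw [mul_eq_one_iff_eq_inv.mp h3, inv_eq_of_mul_eq_one_right (hsq _ (τ v).2)]
    refine ⟨v, v.2, h1.trans (((hfix _ (hVU (τ v).2)).mp h2).resolve_left fun h => hz1 (Subtype.ext h))⟩
  have hfpf : MonoidHom.FixedPointFree ψ := by
    intro q
    induction q using QuotientGroup.induction_on with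
    | H u =>
      intro hu
      rw [QuotientGroup.eq_one_iff, Subgroup.mem_subgroupOf]
      have hd : ((u : H))⁻¹ * (w * u * w⁻¹) ∈ V :=
        Subgroup.mem_subgroupOf.mp (QuotientGroup.eq.mp hu.symm)
      have hdf : w * ((u : H)⁻¹ * (w * u * w⁻¹)) * w⁻¹ = (u : H)⁻¹ * (w * u * w⁻¹) := by
        refine Eq.trans ?_ (inv_eq_of_mul_eq_one_right (hsq _ hd))
        rw [mul_inv_rev, inv_inv]
        calc w * ((u : H)⁻¹ * (w * u * w⁻¹)) * w⁻¹
            = (w * u * w⁻¹)⁻¹ * (w * (w * u * w⁻¹) * w⁻¹) := by group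
          _ = _ := by rw [hinvol]
      rcases (hfix _ (mul_mem (inv_mem u.2) (hwU' u u.2))).mp hdf with h | h
      · have h' : w * (u : H) * w⁻¹ = u := (inv_mul_eq_one.mp h).symm
        rcases (hfix u u.2).mp h' with h2 | h2
        · rw [h2]; exact one_mem _
        · rw [h2]; exact hyV
      · have h' : w * ((u : H) * v0) * w⁻¹ = u * v0 := by
          have h3 : w * (v0 : H) * w⁻¹ = v0 * y := by rw [← hv0, mul_inv_cancel_left]
          have h4 : w * (u : H) * w⁻¹ = u * y := by rw [← h, mul_inv_cancel_left]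
          calc w * ((u : H) * v0) * w⁻¹ = (w * u * w⁻¹) * (w * v0 * w⁻¹) := by group
            _ = u * y * (v0 * y) := by rw [h3, h4]
            _ = u * v0 * (y * y) := by
                rw [hVab v0 hv0V y hyV]
                calc (u : H) * y * (y * v0) = u * ((y * y) * v0) := by group
                  _ = u * v0 * (y * y) := by rw [hsq y hyV, one_mul, mul_one]
            _ = u * v0 := by rw [hsq y hyV, mul_one]
        have hmem : (u : H) * v0 ∈ V := by
          rcases (hfix _ (mul_mem u.2 (hVU hv0V))).mp h' with h2 | h2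
          · rw [h2]; exact one_mem _
          · rw [h2]; exact hyV
        simpa using mul_mem hmem (inv_mem hv0V)
  refine ⟨?_, hcard, ?_⟩
  · intro hdvd
    haveI : Fact (Nat.Prime 2) := ⟨Nat.prime_two⟩
    obtain ⟨g, hg⟩ := exists_prime_orderOf_dvd_card' 2
      (show 2 ∣ Nat.card (U ⧸ V.subgroupOf U) by rwa [← Subgroup.index_eq_card])
    exact hfpf.orderOf_ne_two_of_involutive hinv2 g hg
  · rw [Subgroup.commutator_le]
    intro a ha b hb
    have h := commutatorElement_eq_one_iff_commute.mpr (hfpf.commute_all_of_involutive hinv2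
      (QuotientGroup.mk' (V.subgroupOf U) ⟨a, ha⟩) (QuotientGroup.mk' (V.subgroupOf U) ⟨b, hb⟩))
    rw [← map_commutatorElement] at h
    exact Subgroup.mem_subgroupOf.mp ((QuotientGroup.eq_one_iff _).mp h)

end Cfsg.Agent.S3825
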