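import Cfsg.Statements.S3835
-- import your own Cfsg.Agent.* helpers here

set_option autoImplicit false
open Cfsg

namespace Cfsg.Agent.S3835

open Equiv Equiv.Perm
open scoped MatrixGroups Pointwise

/-- A `p`-group of permutations of fewer than `p ^ 2` points is abelian. -/
theorem comm_of_card_lt {X : Type*} [Finite X] {p : ℕ} [Fact p.Prime] (R : Subgroup (Perm X))
    (hR : IsPGroup p R) (hX : Nat.card X < p ^ 2) (a b : R) : a * b = b * a := by
  have hp : p.Prime := Fact.out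
  suffices h : ∀ x : X, ((a * b * a⁻¹ * b⁻¹ : R) : Perm X) x = x by
    have h1 : a * b * a⁻¹ * b⁻¹ = 1 := Subtype.ext (Equiv.ext h)
    calc a * b = a * b * a⁻¹ * b⁻¹ * (b * a) := by group
      _ = b * a := by rw [h1, one_mul]
  intro x
  have hidx : (MulAction.stabilizer R x).index = Nat.card (MulAction.orbit R x) :=
    (Nat.card_congr (MulAction.orbitEquivQuotientStabilizer R x)).symm
  obtain ⟨k, hk⟩ := hR.index (MulAction.stabilizer R x)
  have hk1 : k ≤ 1 := by
    by_contra hk2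
    have h1 : p ^ 2 ≤ Nat.card (MulAction.orbit R x) := by
      rw [← hidx, hk]; exact Nat.pow_le_pow_right hp.pos (by omega)
    have h2 : Nat.card (MulAction.orbit R x) ≤ Nat.card X :=
      Nat.card_le_card_of_injective _ Subtype.val_injective
    omega
  suffices h : a * b * a⁻¹ * b⁻¹ ∈ MulAction.stabilizer R x from MulAction.mem_stabilizer_iff.1 h
  rcases Nat.le_one_iff_eq_zero_or_eq_one.1 hk1 with rfl | rfl
  · rw [pow_zero, Subgroup.index_eq_one] at hk
    rw [hk]; exact Subgroup.mem_top _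
  · rw [pow_one] at hk
    haveI : (MulAction.stabilizer R x).Normal := by
      apply Subgroup.normal_of_index_eq_minFac_card
      rw [hk]
      obtain ⟨m, hm⟩ := IsPGroup.iff_card.mp hR
      rw [hm, Nat.pow_minFac (fun h0 => ?_), hp.minFac_eq]
      subst h0
      have := (MulAction.stabilizer R x).index_dvd_card
      rw [hk, hm, pow_zero, Nat.dvd_one] at this
      exact hp.one_lt.ne' this
    haveI : IsCyclic (R ⧸ MulAction.stabilizer R x) := by
      refine isCyclic_of_prime_card (p := p) ?_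
      exact hk
    letI := IsCyclic.commGroup (α := R ⧸ MulAction.stabilizer R x)
    rw [← QuotientGroup.eq_one_iff]
    simp only [QuotientGroup.mk_mul, QuotientGroup.mk_inv]
    rw [mul_comm (a : R ⧸ MulAction.stabilizer R x) b, mul_inv_cancel_right, mul_inv_cancel]

variable {p : ℕ}

/-- The carrier conditions of `qd p`. -/
def InQd (g : SL(3, ZMod p)) : Prop := g 2 0 = 0 ∧ g 2 1 = 0 ∧ g 2 2 = 1

theorem inQd_mul {g h : SL(3, ZMod p)} (hg : InQd g) (hh : InQd h) : InQd (g * h) := by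
  simp only [InQd, Matrix.SpecialLinearGroup.coe_mul, Matrix.mul_apply, Fin.sum_univ_three, hg.1, hg.2.1,
    hg.2.2, hh.1, hh.2.1, hh.2.2]
  simp

theorem mem_qd [Fact p.Prime] {g : SL(3, ZMod p)} : g ∈ Cfsg.qd p ↔ InQd g := by
  refine ⟨fun h => ?_, fun h => Subgroup.subset_closure h⟩
  have hone : InQd (1 : SL(3, ZMod p)) := by simp [InQd]
  induction h using Subgroup.closure_induction with
  | mem x hx => exact hx
  | one => exact hone
  | mul x y _ _ hx hy => exact inQd_mul hx hy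
  | inv x _ hx =>
    have hpow : ∀ n : ℕ, InQd (x ^ n) := fun n => by
      induction n with
      | zero => rw [pow_zero]; exact hone
      | succ n ih => rw [pow_succ]; exact inQd_mul ih hx
    have h1 : x⁻¹ = x ^ (orderOf x - 1) := by
      refine inv_eq_of_mul_eq_one_right ?_
      rw [← pow_succ', Nat.sub_add_cancel (orderOf_pos x), pow_orderOf_eq_one]
    rw [h1]
    exact hpow _

/-- The affine map of an element. -/
def aff (g : SL(3, ZMod p)) (v : Fin 2 → ZMod p) : Fin 2 → ZMod p :=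
  ![g 0 0 * v 0 + g 0 1 * v 1 + g 0 2, g 1 0 * v 0 + g 1 1 * v 1 + g 1 2]

theorem aff_one (v : Fin 2 → ZMod p) : aff (1 : SL(3, ZMod p)) v = v := by
  funext i
  fin_cases i <;> simp [aff]

theorem aff_mul [Fact p.Prime] (g h : ↥(Cfsg.qd p)) (v : Fin 2 → ZMod p) :
    aff (g * h : ↥(Cfsg.qd p)).1 v = aff g.1 (aff h.1 v) := by
  obtain ⟨h0, h1, h2⟩ := mem_qd.mp h.2
  funext i
  fin_cases i <;>
    simp [aff, Matrix.mul_apply, Fin.sum_univ_three, h0, h1, h2] <;> ring

/-- The action of `qd p` on the affine plane. -/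
noncomputable def affHom (p : ℕ) [Fact p.Prime] : ↥(Cfsg.qd p) →* Equiv.Perm (Fin 2 → ZMod p) where
  toFun g := ⟨aff g.1, aff g⁻¹.1,
    fun v => by rw [← aff_mul, inv_mul_cancel]; exact aff_one v,
    fun v => by rw [← aff_mul, mul_inv_cancel]; exact aff_one v⟩
  map_one' := Equiv.ext fun v => aff_one v
  map_mul' g h := Equiv.ext fun v => aff_mul g h v

theorem affHom_injective [Fact p.Prime] : Function.Injective (affHom p) := by
  intro g h e
  have hv : ∀ v i, aff g.1 v i = aff h.1 v i := fun v i => congrFun (Equiv.ext_iff.mp e v) i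
  obtain ⟨g0, g1, g2⟩ := mem_qd.mp g.2
  obtain ⟨h0, h1, h2⟩ := mem_qd.mp h.2
  have a0 := hv 0 0
  have b0 := hv 0 1
  have a1 := hv ![1, 0] 0
  have b1 := hv ![1, 0] 1
  have a2 := hv ![0, 1] 0
  have b2 := hv ![0, 1] 1
  simp [aff] at a0 b0 a1 b1 a2 b2
  refine Subtype.ext (Matrix.SpecialLinearGroup.ext _ _ fun i j => ?_)
  fin_cases i <;> fin_cases j <;> simp_all

/-- The standard elements of order `p`. -/
def el [Fact p.Prime] (x y s t : ZMod p) (h : x * y = 0) : ↥(Cfsg.qd p) :=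
  ⟨⟨!![1, x, s; y, 1, t; 0, 0, 1], by simp [Matrix.det_fin_three]; exact mul_eq_zero.mp h⟩,
    mem_qd.mpr (by simp [InQd])⟩

theorem el_coe [Fact p.Prime] (x y s t : ZMod p) (h : x * y = 0) :
    ((el x y s t h).1 : Matrix (Fin 3) (Fin 3) (ZMod p)) = !![1, x, s; y, 1, t; 0, 0, 1] := rfl

theorem el_pow_p [Fact p.Prime] (hp : p ≠ 2) (x y s t : ZMod p) (h : x * y = 0) :
    el x y s t h ^ p = 1 := by
  refine Subtype.ext (Subtype.ext ?_)
  rw [SubgroupClass.coe_pow, Matrix.SpecialLinearGroup.coe_pow, el_coe]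
  show _ = (1 : Matrix (Fin 3) (Fin 3) (ZMod p))
  set N : Matrix (Fin 3) (Fin 3) (ZMod p) := !![0, x, s; y, 0, t; 0, 0, 0] with hN
  have e : (!![1, x, s; y, 1, t; 0, 0, 1] : Matrix (Fin 3) (Fin 3) (ZMod p)) = 1 + N := by
    ext i j
    fin_cases i <;> fin_cases j <;> simp [hN]
  have h3 : N ^ 3 = 0 := by
    ext i j
    fin_cases i <;> fin_cases j <;>
      simp [hN, pow_succ, Matrix.mul_apply, Fin.sum_univ_three, h, mul_comm y x]
  have hp3 : 3 ≤ p := by have := (Fact.out : p.Prime).two_le; omega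
  rw [e, add_pow_char_of_commute p (Commute.one_left N), one_pow,
    pow_eq_zero_of_le hp3 h3, add_zero]

theorem sign_affHom [Fact p.Prime] (hp : p ≠ 2) (g : ↥(Cfsg.qd p)) :
    Equiv.Perm.sign (affHom p g) = 1 := by
  set χ : ↥(Cfsg.qd p) →* ℤˣ := Equiv.Perm.sign.comp (affHom p)
  have hel : ∀ x y s t h, χ (el x y s t h) = 1 := fun x y s t h => by
    have hodd : p % 2 = 1 := Nat.odd_iff.mp ((Fact.out : p.Prime).odd_of_ne_two hp)
    have h1 : χ (el x y s t h) ^ p = 1 := by rw [← map_pow, el_pow_p hp, map_one]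
    rwa [Int.units_pow_eq_pow_mod_two, hodd, pow_one] at h1
  have key : ∀ g : ↥(Cfsg.qd p), g.1 1 0 ≠ 0 → χ g = 1 := by
    intro g hc
    obtain ⟨g0, g1, g2⟩ := mem_qd.mp g.2
    have hd := g.1.2
    rw [Matrix.det_fin_three] at hd
    simp [g0, g1, g2] at hd
    have e : g = el 0 0 (g.1 0 2) (g.1 1 2) (by simp) * el ((g.1 0 0 - 1) * (g.1 1 0)⁻¹) 0 0 0 (by simp) *
        el 0 (g.1 1 0) 0 0 (by simp) * el ((g.1 1 1 - 1) * (g.1 1 0)⁻¹) 0 0 0 (by simp) := by
      refine Subtype.ext (Subtype.ext ?_)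
      simp only [Subgroup.coe_mul, Matrix.SpecialLinearGroup.coe_mul, el_coe]
      ext i j
      fin_cases i <;> fin_cases j <;> simp [g0, g1, g2, Matrix.mul_apply, Fin.sum_univ_three] <;>
        field_simp
      all_goals first | ring1 | linear_combination -hd | linear_combination hd
    rw [e, map_mul, map_mul, map_mul, hel, hel, hel, hel]
    simp
  by_cases hc : g.1 1 0 = 0
  · obtain ⟨g0, g1, g2⟩ := mem_qd.mp g.2
    have hd := g.1.2
    rw [Matrix.det_fin_three] at hd
    simp [g0, g1, g2, hc] at hd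
    have h1 : (el 0 1 0 0 (by simp) * g).1 1 0 ≠ 0 := by
      rw [Subgroup.coe_mul, Matrix.SpecialLinearGroup.coe_mul, el_coe]
      simp [Matrix.mul_apply, Fin.sum_univ_three, hc, g0]
      intro h0
      rw [h0, zero_mul] at hd
      exact zero_ne_one hd
    have h2 := key _ h1
    rwa [map_mul, hel, one_mul] at h2
  · exact key g hc

/-- No section of `A_n` is `qd p` for small `n`. -/
theorem sq_le_of_surjective [Fact p.Prime] (hp : p ≠ 2) {n : ℕ} {K : Subgroup (alternatingGroup (Fin n))}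
    (π : ↥K →* ↥(Cfsg.qd p)) (hπ : Function.Surjective π) : p ^ 2 ≤ n := by
  by_contra hn
  obtain ⟨S⟩ : Nonempty (Sylow p ↥K) := inferInstance
  let ι : ↥K →* Equiv.Perm (Fin n) := (alternatingGroup (Fin n)).subtype.comp K.subtype
  have hι : Function.Injective ι := fun a b h => Subtype.ext (Subtype.ext h)
  have hS : ∀ a ∈ (S : Subgroup ↥K), ∀ b ∈ (S : Subgroup ↥K), a * b = b * a := fun a ha b hb => by
    have := comm_of_card_lt _ (S.2.map ι) (by simpa using Nat.lt_of_not_le hn)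
      ⟨ι a, Subgroup.mem_map_of_mem ι ha⟩ ⟨ι b, Subgroup.mem_map_of_mem ι hb⟩
    refine hι ?_
    rw [map_mul, map_mul]
    exact congrArg Subtype.val this
  let W : Subgroup ↥(Cfsg.qd p) :=
    { carrier := {g | g.1 1 0 = 0 ∧ g.1 0 0 = 1 ∧ g.1 1 1 = 1}
      one_mem' := by simp
      mul_mem' := fun {g h} hg hh => by
        obtain ⟨h0, h1, h2⟩ := mem_qd.mp h.2
        simp [Matrix.mul_apply, Fin.sum_univ_three, hg.1, hg.2.1, hg.2.2, hh.1, hh.2.1, hh.2.2, h0, h1]
      inv_mem' := fun {g} hg => by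
        obtain ⟨g0, g1, g2⟩ := mem_qd.mp g.2
        simp [Matrix.adjugate_fin_three, hg.1, hg.2.1, hg.2.2, g0, g1, g2] }
  have hW : IsPGroup p W := fun g => by
    refine ⟨1, Subtype.ext ?_⟩
    obtain ⟨hg1, hg2, hg3⟩ := g.2
    obtain ⟨g0, g1, g2⟩ := mem_qd.mp g.1.2
    have e : g.1 = el (g.1.1 0 1) 0 (g.1.1 0 2) (g.1.1 1 2) (by simp) := by
      refine Subtype.ext (Subtype.ext ?_)
      rw [el_coe]
      ext i j
      fin_cases i <;> fin_cases j <;> simp [hg1, hg2, hg3, g0, g1, g2]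
    rw [pow_one, SubgroupClass.coe_pow, e, el_pow_p hp]
    rfl
  obtain ⟨Q, hQ⟩ := hW.exists_le_sylow
  obtain ⟨g, hg⟩ := MulAction.exists_smul_eq ↥(Cfsg.qd p) (S.mapSurjective hπ) Q
  have hcomm : ∀ u ∈ (Q : Subgroup ↥(Cfsg.qd p)), ∀ v ∈ (Q : Subgroup ↥(Cfsg.qd p)), u * v = v * u := by
    intro u hu v hv
    rw [← hg, Sylow.coe_subgroup_smul, Subgroup.mem_pointwise_smul_iff_inv_smul_mem] at hu hv
    rw [Sylow.coe_mapSurjective] at hu hv
    obtain ⟨a, ha, hau⟩ := Subgroup.mem_map.mp hu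
    obtain ⟨b, hb, hbv⟩ := Subgroup.mem_map.mp hv
    have h1 := congrArg π (hS a ha b hb)
    rw [map_mul, map_mul, hau, hbv] at h1
    exact smul_left_cancel (MulAut.conj g)⁻¹ (by rw [smul_mul', smul_mul', h1])
  have h := hcomm (el 1 0 0 0 (by simp)) (hQ (by simp [W, el_coe])) (el 0 0 0 1 (by simp))
    (hQ (by simp [W, el_coe]))
  have h02 := congrArg (fun z : ↥(Cfsg.qd p) => z.1 0 2) h
  simp [el_coe, Matrix.mul_apply, Fin.sum_univ_three] at h02

/-- Let p be an odd prime and n a natural number. The alternating group of degree n has a subgroup isomorphic to Qd(p) (the natural semidirect product of an elementary abelian group of order p² by SL₂(p)) if and only if n ≥ p²; and if n < p² then Qd(p) is not even involved in it. -/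
theorem result {p : ℕ} [Fact p.Prime] (hp : p ≠ 2) (n : ℕ) : ((∃ H : Subgroup (alternatingGroup (Fin n)), Nonempty (↥H ≃* ↥(Cfsg.qd p))) ↔ p ^ 2 ≤ n) ∧ (n < p ^ 2 → ¬ Cfsg.Involves ↥(Cfsg.qd p) ↥(alternatingGroup (Fin n))) := by
  classical
  refine ⟨⟨fun ⟨H, ⟨e⟩⟩ => sq_le_of_surjective hp e.toMonoidHom e.surjective, fun hle => ?_⟩,
    fun hlt hinv => ?_⟩
  · have hc : Fintype.card (Fin 2 → ZMod p) ≤ Fintype.card (Fin n) := by simpa [ZMod.card] using hle
    obtain ⟨ι⟩ := Function.Embedding.nonempty_of_card_le hc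
    let f : (Fin 2 → ZMod p) ≃ {x : Fin n // x ∈ Set.range ι} := Equiv.ofInjective ι ι.injective
    let E : Equiv.Perm (Fin 2 → ZMod p) →* Equiv.Perm (Fin n) := Equiv.Perm.extendDomainHom f
    have hE : ∀ x : ↥(Cfsg.qd p), E (affHom p x) ∈ alternatingGroup (Fin n) := fun x => by
      rw [Equiv.Perm.mem_alternatingGroup]
      show Equiv.Perm.sign (Equiv.Perm.extendDomain (affHom p x) f) = 1
      rw [Equiv.Perm.sign_extendDomain, sign_affHom hp]
    let φ : ↥(Cfsg.qd p) →* alternatingGroup (Fin n) := (E.comp (affHom p)).codRestrict _ hE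
    have hφ : Function.Injective φ := fun a b h => affHom_injective
      (Equiv.Perm.extendDomainHom_injective f (congrArg Subtype.val h))
    exact ⟨φ.range, ⟨(MonoidHom.ofInjective hφ).symm⟩⟩
  · obtain ⟨K, R, hR, ⟨e⟩⟩ := hinv
    exact absurd (sq_le_of_surjective hp (e.toMonoidHom.comp (QuotientGroup.mk' (R.subgroupOf K)))
      (e.surjective.comp (QuotientGroup.mk'_surjective _))) (by omega)

end Cfsg.Agent.S3835
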