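import Cfsg.Statements.S3836
import Cfsg.Agent.FGS73.Basic

set_option autoImplicit false
open Cfsg

namespace Cfsg.Agent.S3836

/-- Let G be a finite group that is p-stable in the normalizer form: for every p-subgroup Q and every x ∈ N_G(Q) with [Q, x, x] = 1, the image of x in N_G(Q)/C_G(Q) lies in O_p(N_G(Q)/C_G(Q)). Then every subgroup of G is p-stable in the same sense. -/
theorem result {G : Type*} [Group G] [Finite G] {p : ℕ} [Fact p.Prime] (hst : Cfsg.IsNormalizerPStable p G) (H : Subgroup G) : Cfsg.IsNormalizerPStable p ↥H := by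
  classical
  intro P hP g hg hcomm
  let P' : Subgroup G := P.map H.subtype
  have hP' : IsPGroup p P' := hP.map _
  have hgN : (g : G) ∈ Subgroup.normalizer (P' : Set G) := by
    rw [Subgroup.mem_normalizer_iff]
    rw [Subgroup.mem_normalizer_iff] at hg
    intro y
    constructor
    · rintro ⟨z, hz, rfl⟩
      exact ⟨g * z * g⁻¹, (hg z).1 hz, by simp⟩
    · rintro ⟨z, hz, hz'⟩
      refine ⟨g⁻¹ * z * g, (hg _).2 (by simpa [mul_assoc] using hz), ?_⟩
      simp only [map_mul, map_inv, Subgroup.coe_subtype] at hz' ⊢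
      rw [hz']; group
  have hcomm' : ⁅⁅P', Subgroup.zpowers (g : G)⁆, Subgroup.zpowers (g : G)⁆ = ⊥ := by
    have e : (Subgroup.zpowers g).map H.subtype = Subgroup.zpowers (g : G) := by
      rw [MonoidHom.map_zpowers]; rfl
    rw [← e, ← Subgroup.map_commutator, ← Subgroup.map_commutator, hcomm, Subgroup.map_bot]
  have key := hst P' hP' g hgN hcomm'
  let ι : ↥(Subgroup.normalizer (P : Set H)) →* ↥(Subgroup.normalizer (P' : Set G)) :=
    { toFun := fun n => ⟨((n : H) : G), by
        have hn := n.2
        rw [Subgroup.mem_normalizer_iff] at hn ⊢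
        intro y
        constructor
        · rintro ⟨z, hz, rfl⟩
          exact ⟨n * z * (n : H)⁻¹, (hn z).1 hz, by simp⟩
        · rintro ⟨z, hz, hz'⟩
          refine ⟨(n : H)⁻¹ * z * n, (hn _).2 (by simpa [mul_assoc] using hz), ?_⟩
          simp only [map_mul, map_inv, Subgroup.coe_subtype] at hz' ⊢
          rw [hz']; group⟩
      map_one' := rfl
      map_mul' := fun _ _ => rfl }
  set C' := (Subgroup.centralizer (P' : Set G)).subgroupOf (Subgroup.normalizer (P' : Set G))
  set C := (Subgroup.centralizer (P : Set H)).subgroupOf (Subgroup.normalizer (P : Set H))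
  have hC : C = C'.comap ι := by
    ext n
    simp only [C, C', Subgroup.mem_subgroupOf, Subgroup.mem_comap, Subgroup.mem_centralizer_iff]
    constructor
    · rintro h _ ⟨z, hz, rfl⟩
      exact congrArg Subtype.val (h z hz)
    · intro h z hz
      exact Subtype.ext (h _ ⟨z, hz, rfl⟩)
  let ψ : _ ⧸ C →* _ ⧸ C' := QuotientGroup.map C C' ι hC.le
  have hψ : Function.Injective ψ := by
    rw [← MonoidHom.ker_eq_bot_iff, eq_bot_iff]
    intro x hx
    induction x using QuotientGroup.induction_on with
    | H n =>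
      rw [MonoidHom.mem_ker] at hx
      change QuotientGroup.mk (s := C') (ι n) = 1 at hx
      rw [QuotientGroup.eq_one_iff] at hx
      rw [Subgroup.mem_bot, QuotientGroup.eq_one_iff, hC]
      exact hx
  have hQ : IsPGroup p ↥((pCore p (↥(Subgroup.normalizer (P' : Set G)) ⧸ C')).comap ψ) := by
    refine (Cfsg.Agent.FGS73.isPGroup_pCore _).comap_of_injective ψ hψ
  refine le_sSup (s := {N : Subgroup _ | N.Normal ∧ IsPGroup p N})
    (a := (pCore p (↥(Subgroup.normalizer (P' : Set G)) ⧸ C')).comap ψ)
    ⟨Subgroup.normal_comap ψ, hQ⟩ ?_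
  exact key

end Cfsg.Agent.S3836
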