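import Cfsg.Statements.S3838
import Cfsg.Agent.Lib.Transfer.Tate
import Cfsg.Agent.Lib.Transfer.PClasses

set_option autoImplicit false
open Cfsg

namespace Cfsg.Agent.S3838


open Cfsg.Agent.Transfer

theorem aux {G : Type*} [Group G] [Finite G] {p : ℕ} [Fact p.Prime] (P : Sylow p G)
    (hN : Cfsg.HasNormalPComplement p ↥(Subgroup.normalizer ((P : Subgroup G) : Set G)))
    (Q : Subgroup G) (h1 : (commutator ↥(P : Subgroup G)).map (P : Subgroup G).subtype ≤ Q)
    (h2 : Q ≤ (frattini ↥(P : Subgroup G)).map (P : Subgroup G).subtype) :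
    Cfsg.HasNormalPComplement p ↥(Subgroup.normalizer (Q : Set G)) := by
  have hQP : Q ≤ (P : Subgroup G) := h2.trans (Subgroup.map_subtype_le _)
  have hcommQ : ∀ a ∈ (P : Subgroup G), ∀ b ∈ (P : Subgroup G), a * b * a⁻¹ * b⁻¹ ∈ Q := by
    intro a ha b hb
    refine h1 ⟨⟨a, ha⟩ * ⟨b, hb⟩ * ⟨a, ha⟩⁻¹ * ⟨b, hb⟩⁻¹, ?_, rfl⟩
    exact Subgroup.commutator_mem_commutator (Subgroup.mem_top _) (Subgroup.mem_top _)
  set N := Subgroup.normalizer (Q : Set G) with hNdef
  have hPN : (P : Subgroup G) ≤ N := fun a ha => by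
    refine Subgroup.mem_normalizer_iff.2 fun y => ⟨fun hy => ?_, fun hy => ?_⟩
    · simpa using Q.mul_mem (hcommQ a ha y (hQP hy)) hy
    · have hy' : y ∈ (P : Subgroup G) := by
        simpa [mul_assoc] using mul_mem (mul_mem (inv_mem ha) (hQP hy)) ha
      have e : y = (a * y * a⁻¹ * y⁻¹)⁻¹ * (a * y * a⁻¹) := by group
      rw [e]
      exact Q.mul_mem (Q.inv_mem (hcommQ a ha y hy')) hy
  let P0 : Sylow p N := P.subtype hPN
  have hP0 : ∀ x : N, x ∈ (P0 : Subgroup N) ↔ (x : G) ∈ (P : Subgroup G) := fun x => Iff.rfl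
  let Q0 : Subgroup N := Q.subgroupOf N
  haveI hQ0 : Q0.Normal :=
    Subgroup.normal_subgroupOf_of_le_normalizer le_rfl
  -- fusion modulo `Q`
  have key : ∀ x g : N, x ∈ (P0 : Subgroup N) → g * x * g⁻¹ ∈ (P0 : Subgroup N) →
      x⁻¹ * (g * x * g⁻¹) ∈ Q0 := by
    intro x g hx hy
    let π := QuotientGroup.mk' Q0
    have hπ : Function.Surjective π := QuotientGroup.mk'_surjective _
    let Pbar : Sylow p (N ⧸ Q0) := P0.mapSurjective hπ
    have hab : IsMulCommutative (Pbar : Subgroup (N ⧸ Q0)) := by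
      refine ⟨⟨fun a b => ?_⟩⟩
      obtain ⟨a', ha, ha'⟩ := a.2
      obtain ⟨b', hb, hb'⟩ := b.2
      apply Subtype.ext
      show (a : N ⧸ Q0) * b = b * a
      rw [← ha', ← hb', ← map_mul, ← map_mul]
      refine (QuotientGroup.eq).2 ?_
      have := hcommQ _ ((P : Subgroup G).inv_mem hb) _ ((P : Subgroup G).inv_mem ha)
      show ((a' * b')⁻¹ * (b' * a') : N).1 ∈ Q
      simpa [mul_assoc] using this
    obtain ⟨n, hn, he⟩ := conj_normalizer_of_abelian (p := p) Pbar hab (x := π x) (g := π g)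
      ⟨x, hx, rfl⟩ ⟨g * x * g⁻¹, hy, by simp⟩
    obtain ⟨n', rfl⟩ := hπ n
    -- `n'` normalises `P`
    have hn' : (n' : G) ∈ Subgroup.normalizer ((P : Subgroup G) : Set G) := by
      rw [Subgroup.mem_normalizer_iff_map_conj_eq]
      refine Subgroup.eq_of_le_of_card_ge ?_ (Nat.card_congr
        (Subgroup.equivMapOfInjective _ _ (MulAut.conj (n' : G)).injective).toEquiv).le
      rintro _ ⟨y, hy', rfl⟩
      have h3 : π n' * π ⟨y, hPN hy'⟩ * (π n')⁻¹ ∈ (Pbar : Subgroup (N ⧸ Q0)) :=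
        (Subgroup.mem_normalizer_iff.1 hn _).1 ⟨⟨y, hPN hy'⟩, hy', rfl⟩
      obtain ⟨z, hz, hz'⟩ := h3
      rw [← map_inv, ← map_mul, ← map_mul] at hz'
      have h4 : (z : G)⁻¹ * ((n' : G) * y * (n' : G)⁻¹) ∈ Q := (QuotientGroup.eq (s := Q0)).1 hz'
      show (n' : G) * y * (n' : G)⁻¹ ∈ (P : Subgroup G)
      simpa using mul_mem (show (z : G) ∈ (P : Subgroup G) from hz) (hQP h4)
    let NP := Subgroup.normalizer ((P : Subgroup G) : Set G)
    let P1 : Sylow p NP := P.subtype Subgroup.le_normalizer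
    obtain ⟨u, hu, hue⟩ := conj_of_hasNormalPComplement hN P1
      (x := (⟨x, Subgroup.le_normalizer hx⟩ : NP)) (g := ⟨n', hn'⟩) hx
      ((Subgroup.mem_normalizer_iff.1 hn' _).1 hx)
    have hue' : (u : G) * x * (u : G)⁻¹ = n' * x * (n' : G)⁻¹ := congrArg Subtype.val hue
    rw [← map_inv, ← map_inv, ← map_mul, ← map_mul, ← map_mul, ← map_mul] at he
    have h5 : ((n' : G) * x * (n' : G)⁻¹)⁻¹ * ((g : G) * x * (g : G)⁻¹) ∈ Q :=
      (QuotientGroup.eq (s := Q0)).1 he
    have h6 := hcommQ _ ((P : Subgroup G).inv_mem hx) (u : G) hu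
    show (x : G)⁻¹ * ((g : G) * x * (g : G)⁻¹) ∈ Q
    rw [← hue'] at h5
    simpa [mul_assoc] using mul_mem h6 h5
  have hfoc : (P0 : Subgroup N).focalSubgroup ≤ Q0 := by
    rw [Subgroup.focalSubgroup_def, Subgroup.closure_le]
    rintro _ ⟨hc, x, hx, g, rfl⟩
    have hy : g * x * g⁻¹ ∈ (P0 : Subgroup N) := by
      have := mul_mem (inv_mem hc) hx
      simpa [commutatorElement_def, mul_assoc] using this
    have := hQ0.conj_mem _ (inv_mem (key x g hx hy)) x
    simpa [commutatorElement_def, mul_assoc] using this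
  have hle : pResidual p N ⊓ (P0 : Subgroup N) ≤
      (frattini P0).map (P0 : Subgroup N).subtype := by
    intro x hx
    have hxQ : (x : G) ∈ Q := hfoc (sylow_inf_pResidual_le_focalSubgroup P0 ⟨hx.2, hx.1⟩)
    obtain ⟨y, hy, hye⟩ := h2 hxQ
    let e : (P : Subgroup G) ≃* (P0 : Subgroup N) :=
      (Subgroup.subgroupOfEquivOfLe hPN).symm
    exact ⟨e y, frattini_le_comap_frattini_of_surjective (φ := e.toMonoidHom) e.surjective hy,
      Subtype.ext hye⟩
  haveI : (pResidual p N).Normal := pResidual_normal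
  obtain ⟨S, hS⟩ := exists_sylow_subgroupOf_normal P0 (pResidual p N)
  have h4 := (hasNormalPComplement_iff_inf_eq_bot S).mp
    (hasNormalPComplement_of_inf_le_frattini P0 _ hle)
  rw [pResidual_pResidual, inf_top_eq, hS, Subgroup.subgroupOf_eq_bot] at h4
  exact (hasNormalPComplement_iff_inf_eq_bot P0).mpr (disjoint_iff.1 h4)

/-- Let G be a finite group with Sylow p-subgroup P such that N_G(P) has a normal p-complement. Then N_G(Q) has a normal p-complement for every subgroup Q with [P, P] ≤ Q ≤ Φ(P). -/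
theorem result {G : Type*} [Group G] [Finite G] {p : ℕ} [Fact p.Prime] (P : Sylow p G) (hN : Cfsg.HasNormalPComplement p ↥(Subgroup.normalizer ((P : Subgroup G) : Set G))) (Q : Subgroup G) (h1 : (commutator ↥(P : Subgroup G)).map (P : Subgroup G).subtype ≤ Q) (h2 : Q ≤ (frattini ↥(P : Subgroup G)).map (P : Subgroup G).subtype) : Cfsg.HasNormalPComplement p ↥(Subgroup.normalizer (Q : Set G)) := by
  exact aux P hN Q h1 h2

end Cfsg.Agent.S3838
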