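import Cfsg.Statements.S3839
import Cfsg.Agent.Lib.Transfer.Residual
import Cfsg.Agent.Lib.Transfer.Frobenius
import Cfsg.Agent.SylowNum.Formula

set_option autoImplicit false
open Cfsg

namespace Cfsg.Agent.S3839

open Subgroup

section

variable {G : Type*} [Group G] [Finite G] {p : ℕ} [Fact p.Prime]

/-- every `p'`-element normalizing `P` centralizes it -/
def Good (p : ℕ) (P : Subgroup G) : Prop :=
  ∀ g ∈ normalizer (P : Set G), (orderOf g).Coprime p → g ∈ centralizer (P : Set G)

theorem good_of_map {P : Subgroup G} (a : G)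
    (h : Good p (P.map (MulAut.conj a).toMonoidHom)) : Good p P := by
  intro g hg hgp
  have h1 : a * g * a⁻¹ ∈ normalizer ((P.map (MulAut.conj a).toMonoidHom : Subgroup G) : Set G) :=
    le_normalizer_map (MulAut.conj a).toMonoidHom (mem_map_of_mem _ hg)
  have h2 : (orderOf (a * g * a⁻¹)).Coprime p := by
    rwa [← MulAut.conj_apply, MulEquiv.orderOf_eq]
  have h3 := h _ h1 h2
  rw [mem_centralizer_iff] at h3 ⊢
  intro x hx
  have h4 : a * x * a⁻¹ * (a * g * a⁻¹) = a * g * a⁻¹ * (a * x * a⁻¹) :=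
    h3 _ (mem_map_of_mem _ hx)
  have h5 := congrArg (fun z => a⁻¹ * z * a) h4
  simpa [mul_assoc] using h5

/-- If the normalizer of `T ∩ K` in `X` normalizes some good `Q`, and `C_G(Q) ∩ X ≤ K`,
then all `p'`-elements of `X` lie in `K`. -/
theorem mem_of_good {X K Q : Subgroup G} (hKX : K ≤ X) [hKn : (K.subgroupOf X).Normal]
    (T : Sylow p X) (hQ : Good p Q)
    (hnorm : ∀ x ∈ X,
      (∀ t, t ∈ ((T : Subgroup X) ⊓ K.subgroupOf X).map X.subtype →
        x * t * x⁻¹ ∈ ((T : Subgroup X) ⊓ K.subgroupOf X).map X.subtype) →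
      x ∈ normalizer (Q : Set G))
    (hC : ∀ x ∈ X, x ∈ centralizer (Q : Set G) → x ∈ K)
    {g : G} (hg : g ∈ X) (hgp : (orderOf g).Coprime p) : g ∈ K := by
  set K' := K.subgroupOf X with hK'
  have hfr := Sylow.normalizer_sup_eq_top (SylowNum.infSylow K' T)
  have hmap : ((SylowNum.infSylow K' T : Sylow p K') : Subgroup K').map K'.subtype =
      (T : Subgroup X) ⊓ K' := by
    show (((T : Subgroup X) ⊓ K').comap K'.subtype).map K'.subtype = _
    rw [map_comap_eq, range_subtype]
    exact inf_eq_right.mpr inf_le_right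
  rw [hmap] at hfr
  obtain ⟨n, hn, k, hk, hnk⟩ := mem_sup_of_normal_right.mp
    (hfr ▸ mem_top (⟨g, hg⟩ : X))
  have hnQ : (n : G) ∈ normalizer (Q : Set G) := by
    refine hnorm _ n.2 fun t ht => ?_
    obtain ⟨s, hs, rfl⟩ := mem_map.mp ht
    exact mem_map.mpr ⟨n * s * n⁻¹, (mem_normalizer_iff.mp hn s).mp hs, by simp⟩
  obtain ⟨e, m, hm, he⟩ := Nat.exists_eq_pow_mul_and_not_dvd (orderOf_pos (n : G)).ne' p
    (Fact.out : p.Prime).ne_one
  have hcop : (orderOf ((n : G) ^ p ^ e)).Coprime p := by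
    refine Nat.Coprime.coprime_dvd_left (orderOf_dvd_of_pow_eq_one ?_)
      (((Fact.out : p.Prime).coprime_iff_not_dvd.mpr hm).symm)
    rw [← pow_mul, ← he, pow_orderOf_eq_one]
  have hnC : (n : G) ^ p ^ e ∈ K :=
    hC _ (pow_mem n.2 _) (hQ _ (pow_mem hnQ _) hcop)
  have hgK : (⟨g, hg⟩ : X) ^ p ^ e ∈ K' := by
    rw [← QuotientGroup.eq_one_iff, ← hnk, QuotientGroup.mk_pow, QuotientGroup.mk_mul,
      (QuotientGroup.eq_one_iff k).mpr hk, mul_one, ← QuotientGroup.mk_pow,
      QuotientGroup.eq_one_iff]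
    simpa [hK', mem_subgroupOf] using hnC
  have hgK' : g ^ p ^ e ∈ K := by simpa [hK', mem_subgroupOf] using hgK
  obtain ⟨j, hj⟩ := exists_pow_eq_self_of_coprime (x := g) (n := p ^ e)
    (Nat.Coprime.pow_left e hgp.symm)
  exact hj ▸ pow_mem hgK' j

variable (S : Sylow p G) (D : Subgroup G) (hD : Cfsg.IsStronglyClosed D (S : Subgroup G))

include hD in
theorem mem_D {x a : G} (hx : x ∈ (S : Subgroup G)) (ha : a * x * a⁻¹ ∈ D) : x ∈ D := by
  have := hD.2 _ ha a⁻¹
  simp only [mul_assoc, inv_inv, inv_mul_cancel_left, inv_mul_cancel, mul_one] at this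
  exact this hx

/-- The elements of a `p`-subgroup conjugate into `D`. -/
def Dpart (D : Subgroup G) (T : Subgroup G) (a : G) : Subgroup G :=
  T ⊓ D.comap (MulAut.conj a).toMonoidHom

include hD in
theorem Dpart_invariant {T : Subgroup G} {a : G}
    (haT : T.map (MulAut.conj a).toMonoidHom ≤ (S : Subgroup G)) {x v : G}
    (hv : v ∈ Dpart D T a) (hxv : x * v * x⁻¹ ∈ T) : x * v * x⁻¹ ∈ Dpart D T a := by
  refine ⟨hxv, ?_⟩
  have h1 : a * v * a⁻¹ ∈ D := hv.2
  have h2 : a * (x * v * x⁻¹) * a⁻¹ ∈ (S : Subgroup G) := haT (mem_map_of_mem _ hxv)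
  have h3 := hD.2 _ h1 (a * x * a⁻¹)
  show a * (x * v * x⁻¹) * a⁻¹ ∈ D
  have e : (a * x * a⁻¹) * (a * v * a⁻¹) * (a * x * a⁻¹)⁻¹ = a * (x * v * x⁻¹) * a⁻¹ := by group
  rw [e] at h3
  exact h3 h2

omit [Fact p.Prime] in
theorem normalizer_of_map_mem {Q : Subgroup G} {x : G} (h : ∀ q ∈ Q, x * q * x⁻¹ ∈ Q) :
    x ∈ normalizer (Q : Set G) :=
  mem_normalizer_iff.mpr fun q => ⟨h q, fun hq => by
    have hm : Q.map (MulAut.conj x).toMonoidHom = Q := eq_of_le_of_card_ge
      (map_le_iff_le_comap.mpr fun q hq => h q hq)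
      (le_of_eq (Nat.card_congr (Q.equivMapOfInjective _ (MulAut.conj x).injective).toEquiv))
    obtain ⟨q', hq', e⟩ := mem_map.mp (hm.symm ▸ hq : x * q * x⁻¹ ∈ Q.map _)
    exact (MulAut.conj x).injective e ▸ hq'⟩

include hD in
/-- Basic configuration: for `Y ≤ S` a `p`-group, a Sylow subgroup `T` of `X = N(Y)`
containing `S ∩ X`, moved into `S` by `a`. -/
theorem setup {Y : Subgroup G} (hYS : Y ≤ (S : Subgroup G)) :
    ∃ (T : Sylow p (normalizer (Y : Set G))) (a : G),
      (S : Subgroup G) ⊓ normalizer (Y : Set G) ≤ (T : Subgroup (normalizer (Y : Set G))).map (Subgroup.subtype _) ∧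
      ((T : Subgroup (normalizer (Y : Set G))).map (Subgroup.subtype _)).map (MulAut.conj a).toMonoidHom ≤
        (S : Subgroup G) ∧
      Y ≤ (T : Subgroup (normalizer (Y : Set G))).map (Subgroup.subtype _) := by
  set X := normalizer (Y : Set G)
  obtain ⟨T, hT⟩ := IsPGroup.exists_le_sylow (p := p) (P := (S : Subgroup G).subgroupOf X)
    (S.2.comap_of_injective X.subtype X.subtype_injective)
  obtain ⟨S', hS'⟩ := IsPGroup.exists_le_sylow (p := p) (T.2.map X.subtype)
  obtain ⟨a, ha⟩ := MulAction.exists_smul_eq G S' S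
  have hST : (S : Subgroup G) ⊓ X ≤ (T : Subgroup X).map X.subtype := fun x hx =>
    mem_map.mpr ⟨⟨x, hx.2⟩, hT (show (⟨x, hx.2⟩ : X) ∈ (S : Subgroup G).subgroupOf X from hx.1),
      rfl⟩
  refine ⟨T, a, hST, ?_, fun y hy => hST ⟨hYS hy, le_normalizer hy⟩⟩
  rw [← ha]
  exact map_mono hS'

theorem mem_centralizer_of_complement {U P : Subgroup G}
    (h : Cfsg.HasNormalPComplement p (normalizer (U : Set G))) (hP : IsPGroup p P)
    (hPU : P ≤ normalizer (U : Set G)) {g : G} (hgU : g ∈ normalizer (U : Set G))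
    (hgP : g ∈ normalizer (P : Set G)) (hgp : (orderOf g).Coprime p) :
    g ∈ centralizer (P : Set G) := by
  have h1 := Transfer.mem_centralizer_of_hasNormalPComplement h
    (Q := P.subgroupOf (normalizer (U : Set G)))
    (hP.comap_of_injective _ (Subgroup.subtype_injective _)) (g := ⟨g, hgU⟩) ?_
    (by rwa [orderOf_mk])
  · rw [mem_centralizer_iff] at h1 ⊢
    exact fun v hv => congrArg Subtype.val (h1 ⟨v, hPU hv⟩ hv)
  · refine mem_normalizer_iff.mpr fun x => ?_
    simp only [mem_subgroupOf, coe_mul, coe_inv]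
    exact mem_normalizer_iff.mp hgP x

include hD in
theorem good_D (hloc : ∀ U : Subgroup G, U ≤ D → D ⊓ centralizer (U : Set G) ≤ U →
      Cfsg.HasNormalPComplement p ↥(normalizer (U : Set G))) :
    ∀ (n : ℕ) (U : Subgroup G), U ≤ D → Nat.card G - Nat.card U = n → Good p U := by
  intro n
  induction n using Nat.strong_induction_on with
  | _ n ih =>
    intro U hUD hn
    by_cases hcent : D ⊓ centralizer (U : Set G) ≤ U
    · intro g hg hgp
      exact mem_centralizer_of_complement (hloc U hUD hcent)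
        (S.2.to_le (hUD.trans hD.1)) le_normalizer hg hg hgp
    · obtain ⟨d, hd, hdU⟩ := SetLike.not_le_iff_exists.mp hcent
      obtain ⟨T, a, hST, haT, hUT⟩ := setup S D hD (hUD.trans hD.1)
      set TX := (T : Subgroup ↥(normalizer (U : Set G))).map (normalizer (U : Set G)).subtype with hTX
      have hCX : centralizer (U : Set G) ≤ (normalizer (U : Set G)) := centralizer_le_normalizer _
      have : ((centralizer (U : Set G)).subgroupOf (normalizer (U : Set G))).Normal := by
        refine ⟨fun c hc x => ?_⟩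
        rw [mem_subgroupOf, mem_centralizer_iff] at hc ⊢
        intro u hu
        have h1 : (x : G)⁻¹ * u * x ∈ U := by
          have := (mem_normalizer_iff.mp (inv_mem x.2) u).mp hu
          simpa using this
        have h2 := hc _ h1
        simp only [coe_mul, coe_inv]
        calc u * (↑x * ↑c * (↑x)⁻¹) = x * ((x : G)⁻¹ * u * x * c) * (x : G)⁻¹ := by group
          _ = x * (c * ((x : G)⁻¹ * u * x)) * (x : G)⁻¹ := by rw [h2]
          _ = ↑x * ↑c * (↑x)⁻¹ * u := by group
      set TC := ((T : Subgroup ↥(normalizer (U : Set G))) ⊓ (centralizer (U : Set G)).subgroupOf (normalizer (U : Set G))).map (normalizer (U : Set G)).subtype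
      have hTCle : TC ≤ TX := map_mono inf_le_left
      set W := U ⊔ Dpart D TC a with hW
      have hUa : ∀ u ∈ U, a * u * a⁻¹ ∈ D := by
        intro u hu
        exact hD.2 u (hUD hu) a (haT (mem_map_of_mem _ (hUT hu)))
      have haW : W.map (MulAut.conj a).toMonoidHom ≤ D := by
        rw [map_le_iff_le_comap]
        exact sup_le (fun u hu => hUa u hu) inf_le_right
      have hdW : d ∈ W := by
        refine mem_sup_right ⟨?_, ?_⟩
        · have h1 := hST ⟨hD.1 hd.1, hCX hd.2⟩
          obtain ⟨s, hs, hse⟩ := mem_map.mp h1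
          exact mem_map.mpr ⟨s, ⟨hs, by
            show (s : G) ∈ centralizer (U : Set G)
            exact (show (s : G) = d from hse) ▸ hd.2⟩, hse⟩
        · exact hD.2 d hd.1 a (haT (mem_map_of_mem _ (hST ⟨hD.1 hd.1, hCX hd.2⟩)))
      have hlt : Nat.card U < Nat.card W := by
        by_contra hge
        exact hdU ((eq_of_le_of_card_ge (le_sup_left : U ≤ W) (not_lt.mp hge)).symm ▸ hdW)
      have hWgood : Good p W := by
        refine good_of_map a (ih _ ?_ _ haW rfl)
        rw [card_map_of_injective (MulAut.conj a).injective, ← hn]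
        have := card_le_card_group W
        omega
      intro g hg hgp
      refine mem_of_good hCX T hWgood ?_ ?_ hg hgp
      · intro x hx hxT
        refine normalizer_of_map_mem fun w hw => ?_
        have : W ≤ W.comap (MulAut.conj x).toMonoidHom := by
          refine sup_le (fun u hu => mem_sup_left ((mem_normalizer_iff.mp hx u).mp hu)) ?_
          intro v hv
          exact mem_sup_right (Dpart_invariant S D hD
            ((map_mono hTCle).trans haT) hv (hxT v hv.1))
        exact this hw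
      · intro x _ hxC
        exact centralizer_le (show (U : Set G) ⊆ W from (le_sup_left : U ≤ W)) hxC

include hD in
theorem good_all (hloc : ∀ U : Subgroup G, U ≤ D → D ⊓ centralizer (U : Set G) ≤ U →
      Cfsg.HasNormalPComplement p ↥(normalizer (U : Set G))) :
    ∀ (n : ℕ) (P : Subgroup G), P ≤ (S : Subgroup G) → Nat.card G - Nat.card P = n →
      Good p P := by
  intro n
  induction n using Nat.strong_induction_on with
  | _ n ih =>
    intro P hPS hn g hg hgp
    set U := P ⊓ D with hU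
    have hUinv : ∀ x ∈ normalizer (P : Set G), ∀ u ∈ U, x * u * x⁻¹ ∈ U := fun x hx u hu => by
      have h1 : x * u * x⁻¹ ∈ P := (mem_normalizer_iff.mp hx u).mp hu.1
      exact ⟨h1, hD.2 u hu.2 x (hPS h1)⟩
    have hgU : g ∈ normalizer (U : Set G) := normalizer_of_map_mem (hUinv g hg)
    have hPU : P ≤ normalizer (U : Set G) := fun x hx =>
      normalizer_of_map_mem (hUinv x (le_normalizer hx))
    by_cases hcent : D ⊓ centralizer (U : Set G) ≤ U
    · exact mem_centralizer_of_complement (hloc U inf_le_right hcent) (S.2.to_le hPS) hPU hgU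
        hg hgp
    have hgCU := good_D S D hD hloc _ U inf_le_right rfl g hgU hgp
    -- `N_D(P)` is larger than `U`
    set DS := D ⊓ normalizer (U : Set G) ⊓ (U ⊔ centralizer (U : Set G)) with hDS
    have hDSP : P ≤ normalizer (DS : Set G) := fun x hx => normalizer_of_map_mem fun w hw => by
      obtain ⟨⟨hwD, hwN⟩, hwC⟩ := hw
      refine ⟨⟨hD.2 w hwD x ((S : Subgroup G).mul_mem ((S : Subgroup G).mul_mem (hPS hx) (hD.1 hwD)) ((S : Subgroup G).inv_mem (hPS hx))),
        (normalizer (U : Set G)).mul_mem ((normalizer (U : Set G)).mul_mem (hPU hx) hwN) ((normalizer (U : Set G)).inv_mem (hPU hx))⟩, ?_⟩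
      have : U ⊔ centralizer (U : Set G) ≤
          (U ⊔ centralizer (U : Set G)).comap (MulAut.conj x).toMonoidHom := by
        refine sup_le (fun u hu => mem_sup_left (hUinv x (le_normalizer hx) u hu)) fun c hc => ?_
        refine mem_sup_right ?_
        show x * c * x⁻¹ ∈ centralizer (U : Set G)
        rw [mem_centralizer_iff]
        intro u hu
        have h1 : x⁻¹ * u * x ∈ U := by
          simpa using hUinv x⁻¹ (le_normalizer (inv_mem hx)) u hu
        have h2 := mem_centralizer_iff.mp hc _ h1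
        calc u * (x * c * x⁻¹) = x * (x⁻¹ * u * x * c) * x⁻¹ := by group
          _ = x * (c * (x⁻¹ * u * x)) * x⁻¹ := by rw [h2]
          _ = x * c * x⁻¹ * u := by group
      exact this hwC
    obtain ⟨d₀, hd₀, hd₀U⟩ := SetLike.not_le_iff_exists.mp hcent
    have hd₀DS : d₀ ∈ DS :=
      ⟨⟨hd₀.1, centralizer_le_normalizer _ hd₀.2⟩, mem_sup_right hd₀.2⟩
    have hM : P ⊔ DS ≤ (S : Subgroup G) :=
      sup_le hPS ((inf_le_left.trans inf_le_left).trans hD.1)
    have hgrow : ∃ d ∈ D, d ∈ normalizer (P : Set G) ∧ d ∉ P := by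
      have hlt : P.subgroupOf (P ⊔ DS) < ⊤ := by
        refine lt_top_iff_ne_top.mpr fun h => hd₀U ?_
        exact ⟨subgroupOf_eq_top.mp h (mem_sup_right hd₀DS), hd₀.1⟩
      have : Group.IsNilpotent ↥(P ⊔ DS) := (S.2.to_le hM).isNilpotent
      obtain ⟨y, hy, hyP⟩ := SetLike.exists_of_lt (Group.normalizerCondition_of_isNilpotent _ hlt)
      have hyN : (y : G) ∈ normalizer (P : Set G) := normalizer_of_map_mem fun q hq => by
        have := (mem_normalizer_iff.mp hy ⟨q, mem_sup_left hq⟩).mp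
          (show (⟨q, mem_sup_left hq⟩ : ↥(P ⊔ DS)) ∈ P.subgroupOf (P ⊔ DS) from hq)
        exact this
      have hy2 : (y : G) ∈ ((P ⊔ DS : Subgroup G) : Set G) := y.2
      rw [coe_mul_of_left_le_normalizer_right P DS hDSP] at hy2
      obtain ⟨q, hq, w, hw, hqw⟩ := hy2
      refine ⟨w, hw.1.1, ?_, fun hwP => hyP ?_⟩
      · have : w = q⁻¹ * y := by rw [← hqw]; group
        rw [this]
        exact mul_mem (le_normalizer (inv_mem hq)) hyN
      · show (y : G) ∈ P
        rw [← hqw]
        exact mul_mem hq hwP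
    obtain ⟨d, hdD, hdN, hdP⟩ := hgrow
    obtain ⟨T, a, hST, haT, hPT⟩ := setup S D hD hPS
    set TX := (T : Subgroup ↥(normalizer (P : Set G))).map (normalizer (P : Set G)).subtype with hTX
    let K : Subgroup G :=
      { carrier := {x | x ∈ (normalizer (P : Set G)) ∧ ∀ b ∈ P, x * b * x⁻¹ * b⁻¹ ∈ U}
        one_mem' := ⟨one_mem _, fun b _ => by simp⟩
        mul_mem' := by
          rintro x y ⟨hx, hx'⟩ ⟨hy, hy'⟩
          refine ⟨mul_mem hx hy, fun b hb => ?_⟩
          have e : x * y * b * (x * y)⁻¹ * b⁻¹ =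
              (x * (y * b * y⁻¹ * b⁻¹) * x⁻¹) * (x * b * x⁻¹ * b⁻¹) := by group
          rw [e]
          exact mul_mem (hUinv x hx _ (hy' b hb)) (hx' b hb)
        inv_mem' := by
          rintro x ⟨hx, hx'⟩
          refine ⟨inv_mem hx, fun b hb => ?_⟩
          have e : x⁻¹ * b * x⁻¹⁻¹ * b⁻¹ = x⁻¹ * (x * b * x⁻¹ * b⁻¹)⁻¹ * x⁻¹⁻¹ := by group
          rw [e]
          exact hUinv x⁻¹ (inv_mem hx) _ (inv_mem (hx' b hb)) }
    have hKX : K ≤ (normalizer (P : Set G)) := fun x hx => hx.1
    have : (K.subgroupOf (normalizer (P : Set G))).Normal := by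
      refine ⟨fun k hk x => ?_⟩
      rw [mem_subgroupOf] at hk ⊢
      refine ⟨(x * k * x⁻¹ : ↥(normalizer (P : Set G))).2, fun b hb => ?_⟩
      have h1 : (x : G)⁻¹ * b * x ∈ P := by
        simpa using (mem_normalizer_iff.mp (inv_mem x.2) b).mp hb
      have h2 := hUinv x x.2 _ (hk.2 _ h1)
      have e : (↑(x * k * x⁻¹) : G) * b * (↑(x * k * x⁻¹) : G)⁻¹ * b⁻¹ =
          (x : G) * (↑k * ((x : G)⁻¹ * b * x) * (↑k)⁻¹ * ((x : G)⁻¹ * b * x)⁻¹) * (x : G)⁻¹ := by
        simp only [coe_mul, coe_inv]; group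
      rw [e]; exact h2
    set V := Dpart D TX a with hV
    have hVK : V ≤ ((T : Subgroup ↥(normalizer (P : Set G))) ⊓ K.subgroupOf (normalizer (P : Set G))).map (normalizer (P : Set G)).subtype := by
      rintro v ⟨hvT, hvD⟩
      obtain ⟨s, hs, rfl⟩ := mem_map.mp hvT
      refine mem_map.mpr ⟨s, ⟨hs, ?_⟩, rfl⟩
      refine ⟨s.2, fun b hb => ?_⟩
      have hbP : (s : G) * b * (s : G)⁻¹ ∈ P := (mem_normalizer_iff.mp s.2 b).mp hb
      have hc : (s : G) * b * (s : G)⁻¹ * b⁻¹ ∈ P := mul_mem hbP (inv_mem hb)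
      refine ⟨hc, mem_D S D hD (hPS hc) (a := a) ?_⟩
      have hb' : b⁻¹ ∈ TX := inv_mem (hPT hb)
      have h1 : a * (b * (s : G)⁻¹ * b⁻¹) * a⁻¹ ∈ D := by
        have := (Dpart_invariant S D hD haT (x := b) (v := (s : G)⁻¹)
          (inv_mem (show (s : G) ∈ V from ⟨hvT, hvD⟩))
          (mul_mem (mul_mem (hPT hb) (inv_mem hvT)) hb')).2
        exact this
      have e : a * ((s : G) * b * (s : G)⁻¹ * b⁻¹) * a⁻¹ =
          (a * (s : G) * a⁻¹) * (a * (b * (s : G)⁻¹ * b⁻¹) * a⁻¹) := by group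
      show a * ((s : G) * b * (s : G)⁻¹ * b⁻¹) * a⁻¹ ∈ D
      rw [e]
      exact mul_mem hvD h1
    have hdV : d ∈ V :=
      ⟨hST ⟨hD.1 hdD, hdN⟩, hD.2 d hdD a (haT (mem_map_of_mem _ (hST ⟨hD.1 hdD, hdN⟩)))⟩
    set Q := P ⊔ V with hQ
    have hlt : Nat.card P < Nat.card Q := by
      by_contra hge
      exact hdP ((eq_of_le_of_card_ge (le_sup_left : P ≤ Q) (not_lt.mp hge)).symm ▸
        mem_sup_right hdV)
    have hQgood : Good p Q := by
      refine good_of_map a (ih _ ?_ _ ((map_mono (sup_le hPT inf_le_left)).trans haT) rfl)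
      rw [card_map_of_injective (MulAut.conj a).injective, ← hn]
      have := card_le_card_group Q
      omega
    have hgK : g ∈ K := by
      refine mem_of_good hKX T hQgood ?_ ?_ hg hgp
      · intro x hx hxT
        refine normalizer_of_map_mem fun w hw => ?_
        have : Q ≤ Q.comap (MulAut.conj x).toMonoidHom := by
          refine sup_le (fun u hu => mem_sup_left ((mem_normalizer_iff.mp hx u).mp hu)) ?_
          intro v hv
          exact mem_sup_right (Dpart_invariant S D hD haT hv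
            (map_mono inf_le_left (hxT v (hVK hv))))
        exact this hw
      · intro x hx hxC
        refine ⟨hx, fun b hb => ?_⟩
        rw [← mem_centralizer_iff.mp hxC b (mem_sup_left hb)]
        simp
    -- coprime action
    rw [mem_centralizer_iff]
    intro b hb
    obtain ⟨c, hc, hcdef⟩ : ∃ c ∈ U, g * b * g⁻¹ = c * b :=
      ⟨g * b * g⁻¹ * b⁻¹, hgK.2 b hb, by group⟩
    have hgc : g * c * g⁻¹ = c := by
      rw [← mem_centralizer_iff.mp hgCU c hc]; group
    have hiter : ∀ i : ℕ, g ^ i * b * (g ^ i)⁻¹ = c ^ i * b := by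
      intro i
      induction i with
      | zero => simp
      | succ i ihi =>
        have hgci : g * c ^ i * g⁻¹ = c ^ i := by rw [← conj_pow, hgc]
        calc g ^ (i + 1) * b * (g ^ (i + 1))⁻¹ = g * (g ^ i * b * (g ^ i)⁻¹) * g⁻¹ := by
              rw [pow_succ']; group
          _ = g * (c ^ i * b) * g⁻¹ := by rw [ihi]
          _ = (g * c ^ i * g⁻¹) * (g * b * g⁻¹) := by group
          _ = c ^ i * (c * b) := by rw [hgci, hcdef]
          _ = c ^ (i + 1) * b := by rw [pow_succ, mul_assoc]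
    have h1 : c ^ orderOf g = 1 := by
      have := hiter (orderOf g)
      rw [pow_orderOf_eq_one] at this
      simpa using this.symm
    obtain ⟨k, hk⟩ := (S.2.to_le (inf_le_left.trans hPS : U ≤ _)) ⟨c, hc⟩
    have hk' : c ^ p ^ k = 1 := by simpa using congrArg Subtype.val hk
    have hc1 : c = 1 := by
      have := (pow_gcd_eq_one (a := c)).mpr ⟨h1, hk'⟩
      rwa [show Nat.gcd (orderOf g) (p ^ k) = 1 from Nat.Coprime.pow_right k hgp, pow_one] at this
    rw [hc1, one_mul] at hcdef
    exact (mul_inv_eq_iff_eq_mul.mp hcdef).symm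

end


/-- A Frobenius normal p-complement criterion relative to a strongly closed subgroup. Let G be a finite group, S a Sylow p-subgroup and D a subgroup of S strongly closed in S with respect to G. Then G has a normal p-complement if and only if N_G(U) has a normal p-complement for every subgroup U of D with C_D(U) ≤ U. -/
theorem result {G : Type*} [Group G] [Finite G] {p : ℕ} [Fact p.Prime] (S : Sylow p G) (D : Subgroup G) (hD : Cfsg.IsStronglyClosed D (S : Subgroup G)) : Cfsg.HasNormalPComplement p G ↔ ∀ U : Subgroup G, U ≤ D → D ⊓ Subgroup.centralizer (U : Set G) ≤ U → Cfsg.HasNormalPComplement p ↥(Subgroup.normalizer (U : Set G)) := by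
  refine ⟨fun h U _ _ => Transfer.hasNormalPComplement_subgroup h _, fun h => ?_⟩
  exact Transfer.hasNormalPComplement_of_normalizer_centralizer S fun Q hQ _ g hg hgp =>
    good_all S D hD h _ Q hQ rfl g hg hgp

end Cfsg.Agent.S3839
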