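import Cfsg.Statements.S3857
import Cfsg.Agent.Lib.Frobenius.Basic
import Cfsg.Agent.Lib.Fitting
import Cfsg.Agent.Lib.Fitting.Minimal
import Cfsg.Agent.Lib.Thompson.Cores
import Cfsg.Agent.Lib.Solvable.Basic
import Cfsg.Agent.Lib.Coprime.Generation
import Cfsg.Agent.Lib.PGroup.NormalRankTwo
import Cfsg.Agent.H40.PGroupBasic
-- import your own Cfsg.Agent.* helpers here

set_option autoImplicit false
open Cfsg

namespace Cfsg.Agent.S3857

open Subgroup
open scoped commutatorElement Pointwise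

/-- A fixed-point-free complement gives a Frobenius group with the given kernel. -/
theorem frobenius_of_fpf {G : Type*} [Group G] [Finite G] (H T : Subgroup G) [H.Normal] (hc : IsComplement' H T)
    (hH : H ≠ ⊥) (hT : T ≠ ⊥) (hfpf : ∀ h ∈ H, ∀ t ∈ T, Commute h t → h = 1 ∨ t = 1) :
    IsFrobeniusComplement T ∧ frobeniusKernel T = (H : Set G) := by
  classical
  have hdis : ∀ x, x ∈ H → x ∈ T → x = 1 := fun x h1 h2 => mem_bot.mp (disjoint_iff.mp hc.disjoint ▸ mem_inf.mpr ⟨h1, h2⟩)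
  have hmemH : ∀ a h : G, h ∈ H → a * h * a⁻¹ ∈ H := fun a h hh => (inferInstance : H.Normal).conj_mem h hh a
  have key : ∀ h ∈ H, ∀ y ∈ T, y ≠ 1 → h * y * h⁻¹ ∈ T → h = 1 := by
    intro h hh y hy hy1 hyT
    have h2 : y⁻¹ * (h * y * h⁻¹) = 1 := by
      refine hdis _ ?_ (mul_mem (inv_mem hy) hyT)
      rw [show y⁻¹ * (h * y * h⁻¹) = (y⁻¹ * h * (y⁻¹)⁻¹) * h⁻¹ by group]
      exact mul_mem (hmemH _ _ hh) (inv_mem hh)
    have h3 : Commute h y := mul_inv_eq_iff_eq_mul.mp (inv_mul_eq_one.mp h2).symm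
    exact (hfpf h hh y hy h3).resolve_right hy1
  have hdec : ∀ g : G, ∃ h ∈ H, ∃ t ∈ T, g = h * t := fun g => by
    obtain ⟨⟨⟨h, hh⟩, ⟨t, ht⟩⟩, he, -⟩ := hc.existsUnique g
    exact ⟨h, hh, t, ht, he.symm⟩
  have hTtop : T ≠ ⊤ := fun h => hH (eq_bot_iff.mpr fun x hx => mem_bot.mpr (hdis x hx (h ▸ mem_top x)))
  have hFC : IsFrobeniusComplement T := by
    refine ⟨hT, hTtop, fun g hg => ?_⟩
    rw [eq_bot_iff]
    rintro y ⟨hy, hy'⟩
    rw [mem_bot]
    by_contra hy1
    obtain ⟨h, hh, t, ht, rfl⟩ := hdec g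
    change y ∈ MulAut.conj (h * t) • T at hy'
    rw [Frobenius.mem_conj_smul] at hy'
    have h4 : h⁻¹ * y * (h⁻¹)⁻¹ ∈ T := by
      have := mul_mem (mul_mem ht hy') (inv_mem ht)
      rw [show t * ((h * t)⁻¹ * y * (h * t)) * t⁻¹ = h⁻¹ * y * (h⁻¹)⁻¹ by group] at this
      exact this
    have := key h⁻¹ (inv_mem hh) y hy hy1 h4
    exact hg (by rw [inv_eq_one.mp this, one_mul]; exact ht)
  refine ⟨hFC, ?_⟩
  ext x
  constructor
  · intro hx
    by_contra hxH
    let f : ↥H × {t : ↥T // t ≠ 1} → {z : G // z ∉ H} := fun ht =>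
      ⟨(ht.1 : G) * (ht.2.1 : G) * (ht.1 : G)⁻¹, fun hm => ht.2.2 (Subtype.ext (hdis _ (by
        have := hmemH (ht.1 : G)⁻¹ _ hm
        rwa [show (ht.1 : G)⁻¹ * ((ht.1 : G) * (ht.2.1 : G) * (ht.1 : G)⁻¹) * ((ht.1 : G)⁻¹)⁻¹ = (ht.2.1 : G) by
          group] at this) ht.2.1.2))⟩
    have hf : Function.Injective f := by
      rintro ⟨⟨h₁, m₁⟩, ⟨⟨t₁, n₁⟩, o₁⟩⟩ ⟨⟨h₂, m₂⟩, ⟨⟨t₂, n₂⟩, o₂⟩⟩ he
      have he' : h₁ * t₁ * h₁⁻¹ = h₂ * t₂ * h₂⁻¹ := congrArg Subtype.val he
      have h1 : (h₂⁻¹ * h₁) * t₁ * (h₂⁻¹ * h₁)⁻¹ = t₂ := by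
        rw [show (h₂⁻¹ * h₁) * t₁ * (h₂⁻¹ * h₁)⁻¹ = h₂⁻¹ * (h₁ * t₁ * h₁⁻¹) * h₂ by group, he']
        group
      have h2 : h₂⁻¹ * h₁ = 1 :=
        key _ (mul_mem (inv_mem m₂) m₁) t₁ n₁ (fun h => o₁ (Subtype.ext h)) (h1 ▸ n₂)
      rw [inv_mul_eq_one] at h2
      subst h2
      have : t₁ = t₂ := mul_left_cancel (mul_right_cancel he')
      subst this
      rfl
    haveI := Fintype.ofFinite G
    have hcard : Nat.card {z : G // z ∉ H} ≤ Nat.card (↥H × {t : ↥T // t ≠ 1}) := by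
      rw [Nat.card_eq_fintype_card, Nat.card_eq_fintype_card, Fintype.card_subtype_compl, Fintype.card_prod,
        Fintype.card_subtype_compl, Fintype.card_subtype_eq, Nat.mul_sub, mul_one,
        ← Nat.card_eq_fintype_card, ← Nat.card_eq_fintype_card, ← Nat.card_eq_fintype_card,
        show Nat.card {z : G // z ∈ H} = Nat.card ↥H from rfl, hc.card_mul]
    have hbij := hf.bijective_of_nat_card_le hcard
    obtain ⟨⟨h, t⟩, ht⟩ := hbij.2 ⟨x, hxH⟩
    rcases hx with hx | hx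
    · exact hxH (hx ▸ one_mem H)
    · refine hx h ?_
      rw [Frobenius.mem_conj_smul]
      have ht' : (h : G) * (t.1 : G) * (h : G)⁻¹ = x := congrArg Subtype.val ht
      rw [← ht', show (h : G)⁻¹ * ((h : G) * (t.1 : G) * (h : G)⁻¹) * h = (t.1 : G) by group]
      exact t.1.2
  · intro hx
    by_cases hx1 : x = 1
    · exact Or.inl hx1
    refine Or.inr fun g hg => hx1 ?_
    rw [Frobenius.mem_conj_smul] at hg
    have h2 : g⁻¹ * x * g = 1 := hdis _ (by have := hmemH g⁻¹ x hx; rwa [inv_inv] at this) hg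
    calc x = g * (g⁻¹ * x * g) * g⁻¹ := by group
      _ = 1 := by rw [h2]; group

/-- All prime divisors of the order lie in `B`. -/
def Only (B : Set ℕ) {G : Type*} [Group G] (H : Subgroup G) : Prop := ∀ q : ℕ, q.Prime → q ∣ Nat.card H → q ∈ B

theorem exists_maximal_only {G : Type*} [Group G] [Finite G] (B : Set ℕ) (R : Subgroup G) [R.Normal] (hR : Only B R) :
    ∃ H : Subgroup G, R ≤ H ∧ H.Normal ∧ Only B H ∧ ∀ K : Subgroup G, K.Normal → Only B K → H ≤ K → K = H := by
  obtain ⟨H, ⟨h1, h2, h3⟩, hmax⟩ := (Set.toFinite {H : Subgroup G | R ≤ H ∧ H.Normal ∧ Only B H}).exists_maximal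
    ⟨R, le_rfl, inferInstance, hR⟩
  exact ⟨H, h1, h2, h3, fun K hK hKB hle => le_antisymm (hmax ⟨h1.trans hle, hK, hKB⟩ hle) hle⟩

/-- Elements of the two sides do not commute. -/
theorem eq_one_of_commute {G : Type*} [Group G] [Finite G] {B : Set ℕ}
    (hB : ∀ a ∈ B, ∀ b ∉ B, a.Prime → b.Prime → a ∣ Nat.card G → b ∣ Nat.card G → ¬ ∃ g : G, orderOf g = a * b)
    {x y : G} (hx : Only B (zpowers x)) (hy : Only Bᶜ (zpowers y)) (hxy : Commute x y) : x = 1 ∨ y = 1 := by
  by_contra h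
  push Not at h
  obtain ⟨a, ha, had⟩ := Nat.exists_prime_and_dvd (mt orderOf_eq_one_iff.mp h.1)
  obtain ⟨b, hb, hbd⟩ := Nat.exists_prime_and_dvd (mt orderOf_eq_one_iff.mp h.2)
  have haB : a ∈ B := hx a ha (by rwa [Nat.card_zpowers])
  have hbB : b ∉ B := hy b hb (by rwa [Nat.card_zpowers])
  refine hB a haB b hbB ha hb (had.trans (orderOf_dvd_natCard x)) (hbd.trans (orderOf_dvd_natCard y))
    ⟨x ^ (orderOf x / a) * y ^ (orderOf y / b), ?_⟩
  have h1 : orderOf (x ^ (orderOf x / a)) = a := by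
    rw [orderOf_pow_orderOf_div (orderOf_pos x).ne' had]
  have h2 : orderOf (y ^ (orderOf y / b)) = b := by
    rw [orderOf_pow_orderOf_div (orderOf_pos y).ne' hbd]
  rw [(hxy.pow_pow _ _).orderOf_mul_eq_mul_orderOf_of_coprime, h1, h2]
  rw [h1, h2]
  exact (Nat.coprime_primes ha hb).mpr fun e => hbB (e ▸ haB)

theorem Only.mono {G : Type*} [Group G] {B : Set ℕ} {H K : Subgroup G} (h : Only B K) (hle : H ≤ K) : Only B H :=
  fun q hq hd => h q hq (hd.trans (card_dvd_of_le hle))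

theorem only_of_card_prime_pow {G : Type*} [Group G] {B : Set ℕ} {H : Subgroup G} {p k : ℕ} (hp : p.Prime)
    (hc : Nat.card H = p ^ k) (hpB : p ∈ B) : Only B H := fun q hq hd => by
  rw [hc] at hd
  exact (Nat.prime_dvd_prime_iff_eq hq hp).mp (hq.dvd_of_dvd_pow hd) ▸ hpB

theorem coprime_of_only {B : Set ℕ} {a b : ℕ} (ha : ∀ q : ℕ, q.Prime → q ∣ a → q ∈ B)
    (hb : ∀ q : ℕ, q.Prime → q ∣ b → q ∉ B) : a.Coprime b :=
  Nat.coprime_of_dvd fun q hq h1 h2 => hb q hq h2 (ha q hq h1)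

/-- The preimage of a `B`-subgroup of the quotient by a `B`-subgroup is a `B`-subgroup. -/
theorem only_comap {G : Type*} [Group G] {B : Set ℕ} {H : Subgroup G} [H.Normal] (hH : Only B H)
    {S : Subgroup (G ⧸ H)} (hS : Only B S) : Only B (S.comap (QuotientGroup.mk' H)) := by
  intro q hq hd
  rw [Cfsg.Agent.Solvable.card_comap_mk'] at hd
  exact (hq.dvd_mul.mp hd).elim (hS q hq) (hH q hq)

theorem le_comap_mk {G : Type*} [Group G] (H : Subgroup G) [H.Normal] (S : Subgroup (G ⧸ H)) :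
    H ≤ S.comap (QuotientGroup.mk' H) := fun x hx => by
  rw [mem_comap, QuotientGroup.mk'_apply, (QuotientGroup.eq_one_iff x).mpr hx]
  exact one_mem S

theorem map_mk_self {G : Type*} [Group G] (H : Subgroup G) [H.Normal] : H.map (QuotientGroup.mk' H) = ⊥ :=
  (Subgroup.map_eq_bot_iff H).mpr (QuotientGroup.ker_mk' H).ge

theorem commutator_le_centralizer_of_isCyclic {G : Type*} [Group G] (R : Subgroup G) [R.Normal] [IsCyclic R] :
    commutator G ≤ centralizer (R : Set G) := by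
  refine commutator_le.mpr fun a _ b _ => mem_centralizer_iff.mpr fun x hx => ?_
  obtain ⟨g, hg⟩ := IsCyclic.exists_generator (α := R)
  have hex : ∀ c : G, ∃ i : ℤ, ∀ y ∈ R, c * y * c⁻¹ = y ^ i := fun c => by
    obtain ⟨i, hi⟩ := mem_zpowers_iff.mp (hg ⟨c * g * c⁻¹, (inferInstance : R.Normal).conj_mem _ g.2 c⟩)
    refine ⟨i, fun y hy => ?_⟩
    obtain ⟨j, hj⟩ := mem_zpowers_iff.mp (hg ⟨y, hy⟩)
    have hy' : y = (g : G) ^ j := by rw [← SubgroupClass.coe_zpow, hj]
    have hi' : c * (g : G) * c⁻¹ = (g : G) ^ i := by rw [← SubgroupClass.coe_zpow, hi]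
    rw [hy', ← conj_zpow, hi', ← zpow_mul, ← zpow_mul, mul_comm]
  obtain ⟨i, hi⟩ := hex a
  obtain ⟨j, hj⟩ := hex b
  have hab : a * b * x * (a * b)⁻¹ = b * a * x * (b * a)⁻¹ := by
    rw [show a * b * x * (a * b)⁻¹ = a * (b * x * b⁻¹) * a⁻¹ by group,
      show b * a * x * (b * a)⁻¹ = b * (a * x * a⁻¹) * b⁻¹ by group, hj x hx, hi _ (zpow_mem hx _), hi x hx,
      hj _ (zpow_mem hx _), ← zpow_mul, ← zpow_mul, mul_comm]
  have hx' : ⁅a, b⁆ * x * ⁅a, b⁆⁻¹ = x := by
    have hy : (b * a)⁻¹ * x * (b * a) ∈ R := by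
      have := (inferInstance : R.Normal).conj_mem x hx (b * a)⁻¹
      rwa [inv_inv] at this
    rw [commutatorElement_def, show a * b * a⁻¹ * b⁻¹ * x * (a * b * a⁻¹ * b⁻¹)⁻¹ =
      a * b * ((b * a)⁻¹ * x * (b * a)) * (a * b)⁻¹ by group]
    obtain ⟨i', hi'⟩ := hex (a * b)
    obtain ⟨j', hj'⟩ := hex (b * a)
    have h3 : ∀ y ∈ R, a * b * y * (a * b)⁻¹ = b * a * y * (b * a)⁻¹ := fun y hy => by
      rw [show a * b * y * (a * b)⁻¹ = a * (b * y * b⁻¹) * a⁻¹ by group,
        show b * a * y * (b * a)⁻¹ = b * (a * y * a⁻¹) * b⁻¹ by group, hj y hy, hi _ (zpow_mem hy _), hi y hy,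
        hj _ (zpow_mem hy _), ← zpow_mul, ← zpow_mul, mul_comm]
    rw [h3 _ hy]
    group
  exact (mul_inv_eq_iff_eq_mul.mp hx').symm

theorem main {G : Type*} [Group G] [Finite G] (hsol : Group.IsSolvable G) (B : Set ℕ) (p₀ : ℕ) (R₀ : Subgroup G)
    [R₀.Normal] (hR₀ : R₀ ≠ ⊥) (hp₀ : p₀.Prime) (hp₀B : p₀ ∈ B) (hR₀p : ∃ k, Nat.card R₀ = p₀ ^ k)
    (hτ : ∃ b : ℕ, b ∉ B ∧ b.Prime ∧ b ∣ Nat.card G)
    (hB : ∀ a ∈ B, ∀ b ∉ B, a.Prime → b.Prime → a ∣ Nat.card G → b ∣ Nat.card G → ¬ ∃ g : G, orderOf g = a * b) :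
    (∃ C : Subgroup G, Cfsg.IsFrobeniusComplement C) ∨
    (∃ (H K : Subgroup G) (_ : H.Normal), K.Normal ∧ H < K ∧
      (∃ C : Subgroup ↥K, Cfsg.IsFrobeniusComplement C ∧ Cfsg.frobeniusKernel C = (H.subgroupOf K : Set ↥K)) ∧
      (∃ C : Subgroup (G ⧸ H), Cfsg.IsFrobeniusComplement C ∧ Cfsg.frobeniusKernel C = (K.map (QuotientGroup.mk' H) : Set (G ⧸ H)))) := by
  haveI := hsol
  obtain ⟨k₀, hk₀⟩ := hR₀p
  obtain ⟨H, hRH, hHn, hHB, hHmax⟩ := exists_maximal_only B R₀ (only_of_card_prime_pow hp₀ hk₀ hp₀B)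
  haveI := hHn
  have hHb : H ≠ ⊥ := fun h => hR₀ (le_bot_iff.mp (h ▸ hRH))
  let π := QuotientGroup.mk' H
  have hπ : Function.Surjective π := QuotientGroup.mk'_surjective H
  -- normal `B`-subgroups of the quotient are trivial
  have hQ : ∀ S : Subgroup (G ⧸ H), S.Normal → Only B S → S = ⊥ := by
    intro S hS hSB
    have h1 := hHmax _ (hS.comap π) (only_comap hHB hSB) (le_comap_mk H S)
    rw [← map_comap_eq_self_of_surjective hπ S, h1, map_mk_self]
  have hQnt : Nontrivial (G ⧸ H) := by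
    rw [← Finite.one_lt_card_iff_nontrivial, ← index_eq_card]
    by_contra hle
    obtain ⟨b, hbB, hb, hbd⟩ := hτ
    have := card_mul_index H
    rw [show H.index = 1 by have := Nat.pos_of_ne_zero (index_ne_zero_of_finite (H := H)); omega, mul_one] at this
    exact hbB (hHB b hb (this ▸ hbd))
  obtain ⟨N, q₁, hNn, hNb, -, hq₁, -, -, -, d, hd, hNc⟩ := Cfsg.Agent.Solvable.exists_minimal_normal_elementary (G ⧸ H)
  haveI := hNn
  have hq₁B : q₁ ∈ Bᶜ := fun h => hNb (hQ N hNn (only_of_card_prime_pow hq₁ hNc h))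
  obtain ⟨K₁, hNK, hK₁n, hK₁B, hK₁max⟩ := exists_maximal_only Bᶜ N (only_of_card_prime_pow hq₁ hNc hq₁B)
  haveI := hK₁n
  have hK₁b : K₁ ≠ ⊥ := fun h => hNb (le_bot_iff.mp (h ▸ hNK))
  set K := K₁.comap π with hK
  have hHK : H ≤ K := le_comap_mk H K₁
  have hmapK : K.map π = K₁ := map_comap_eq_self_of_surjective hπ K₁
  have hHlt : H < K := lt_of_le_of_ne hHK fun h => hK₁b (by rw [← hmapK, ← h, map_mk_self])
  have hcK : Nat.card K = Nat.card H * Nat.card K₁ := (Cfsg.Agent.Solvable.card_comap_mk' H K₁).trans (mul_comm _ _)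
  have hcop : (Nat.card H).Coprime (Nat.card K₁) := coprime_of_only hHB hK₁B
  -- the lower Frobenius group
  set HK := H.subgroupOf K with hHK'
  have hHKc : Nat.card HK = Nat.card H := Nat.card_congr (subgroupOfEquivOfLe hHK).toEquiv
  have hHKi : HK.index = Nat.card K₁ := by
    have := card_mul_index HK
    rw [hHKc, hcK] at this
    exact Nat.eq_of_mul_eq_mul_left Nat.card_pos this
  obtain ⟨T, hT⟩ := exists_right_complement'_of_coprime (N := HK) (by rw [hHKc, hHKi]; exact hcop)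
  have hTc : Nat.card T = Nat.card K₁ := by rw [← hHKi, hT.symm.index_eq_card]
  have hfrobK : IsFrobeniusComplement T ∧ frobeniusKernel T = (HK : Set ↥K) := by
    refine frobenius_of_fpf HK T hT ?_ ?_ fun h hh t ht hc => ?_
    · intro h
      rw [h, card_bot] at hHKc
      exact hHb (eq_bot_of_card_eq H hHKc.symm)
    · intro h
      rw [h, card_bot] at hTc
      exact hK₁b (eq_bot_of_card_eq K₁ hTc.symm)
    · refine (eq_one_of_commute hB (x := (h : G)) (y := (t : G)) (hHB.mono (zpowers_le.mpr hh)) ?_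
        (hc.map K.subtype)).imp (fun e => Subtype.ext e) (fun e => Subtype.ext e)
      intro q hq hqd
      rw [Nat.card_zpowers, orderOf_coe, ← Nat.card_zpowers] at hqd
      exact hK₁B q hq (hTc ▸ hqd.trans (card_dvd_of_le (zpowers_le.mpr ht)))
  by_cases hKtop : K = ⊤
  · left
    have hi : H.index = Nat.card K₁ := by
      have h1 := card_mul_index H
      rw [← card_top (G := G), ← hKtop, hcK] at h1
      exact Nat.eq_of_mul_eq_mul_left Nat.card_pos h1
    obtain ⟨T', hT'⟩ := exists_right_complement'_of_coprime (N := H) (by rw [hi]; exact hcop)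
    have hT'c : Nat.card T' = Nat.card K₁ := by rw [← hi, hT'.symm.index_eq_card]
    refine ⟨T', (frobenius_of_fpf H T' hT' hHb ?_ fun h hh t ht hc =>
      eq_one_of_commute hB (hHB.mono (zpowers_le.mpr hh)) (fun q hq hqd => hK₁B q hq
        (hT'c ▸ hqd.trans (card_dvd_of_le (zpowers_le.mpr ht)))) hc).1⟩
    intro h
    rw [h, card_bot] at hT'c
    exact hK₁b (eq_bot_of_card_eq K₁ hT'c.symm)
  right
  refine ⟨H, K, hHn, hK₁n.comap π, hHlt, ⟨T, hfrobK⟩, ?_⟩
  have hK₁top : K₁ ≠ ⊤ := fun h => hKtop (by rw [hK, h, comap_top])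
  haveI : Group.IsSolvable (G ⧸ H) := inferInstance
  -- `Q = G/H`
  have hFτ : ∀ r : ℕ, r.Prime → pCore r (G ⧸ H) ≠ ⊥ → r ∈ Bᶜ := fun r hr hne hrB => by
    haveI := Fact.mk hr
    obtain ⟨k, hk⟩ := IsPGroup.iff_card.mp (Thompson.isPGroup_pCore (p := r) (G := G ⧸ H))
    exact hne (hQ _ inferInstance (only_of_card_prime_pow hr hk hrB))
  -- a `B`-element of the quotient
  haveI : Nontrivial ((G ⧸ H) ⧸ K₁) := QuotientGroup.nontrivial_iff.mpr hK₁top
  obtain ⟨N₂, a, hN₂n, hN₂b, -, ha, -, -, -, d₂, hd₂, hN₂c⟩ := Cfsg.Agent.Solvable.exists_minimal_normal_elementary ((G ⧸ H) ⧸ K₁)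
  haveI := hN₂n
  have haB : a ∈ B := by
    by_contra haB
    have h1 := hK₁max _ (hN₂n.comap (QuotientGroup.mk' K₁))
      (only_comap hK₁B (only_of_card_prime_pow ha hN₂c haB)) (le_comap_mk K₁ N₂)
    exact hN₂b (by rw [← map_comap_eq_self_of_surjective (QuotientGroup.mk'_surjective K₁) N₂, h1, map_mk_self])
  have hadvd : a ∣ Nat.card ((G ⧸ H) ⧸ K₁) := (hN₂c ▸ dvd_pow_self a hd₂.ne').trans (card_subgroup_dvd_card N₂)
  obtain ⟨s, hs⟩ := (haveI := Fact.mk ha; exists_prime_orderOf_dvd_card' (G := G ⧸ H) a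
    (hadvd.trans (card_quotient_dvd_card K₁)))
  have hBQ : ∀ a ∈ B, ∀ b ∉ B, a.Prime → b.Prime → a ∣ Nat.card (G ⧸ H) → b ∣ Nat.card (G ⧸ H) →
      ¬ ∃ g : G ⧸ H, orderOf g = a * b := by
    rintro a haB b hbB ha hb had hbd ⟨g, hg⟩
    obtain ⟨x, rfl⟩ := hπ g
    have hdvd : a * b ∣ orderOf x := hg ▸ orderOf_map_dvd π x
    refine hB a haB b hbB ha hb (had.trans (card_quotient_dvd_card H)) (hbd.trans (card_quotient_dvd_card H))
      ⟨x ^ (orderOf x / (a * b)), ?_⟩
    rw [orderOf_pow_orderOf_div (orderOf_pos x).ne' hdvd]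
  -- no elementary abelian group of order `r ^ 2` on the `Bᶜ` side
  have hnoE : ∀ r : ℕ, r.Prime → r ∈ Bᶜ → ∀ E : Subgroup (G ⧸ H), IsPGroup r E → IsMulCommutative E →
      IsCyclic E := by
    intro r hr hrB E hE hEc
    haveI := Fact.mk hr
    by_contra hEnc
    obtain ⟨k, hk⟩ := IsPGroup.iff_card.mp hE
    set E' := E.comap π with hE'
    have hc' : Nat.card E' = Nat.card H * Nat.card E := (Cfsg.Agent.Solvable.card_comap_mk' H E).trans (mul_comm _ _)
    obtain ⟨S⟩ := (inferInstance : Nonempty (Sylow r ↥E'))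
    have hS : Nat.card (S : Subgroup ↥E') = Nat.card E := by
      obtain ⟨i, hi⟩ := IsPGroup.iff_card.mp S.isPGroup'
      have h1 : Nat.card (S : Subgroup ↥E') = r ^ (Nat.card E').factorization r := S.card_eq_multiplicity
      rw [h1, hc', hk, Nat.factorization_mul Nat.card_pos.ne' (pow_ne_zero _ hr.ne_zero), Finsupp.add_apply,
        Nat.factorization_eq_zero_of_not_dvd (fun h => hrB (hHB r hr h)), zero_add, hr.factorization_pow,
        Finsupp.single_eq_same]
    let f : ↥(S : Subgroup ↥E') →* ↥E :=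
      ((π.comp E'.subtype).comp (S : Subgroup ↥E').subtype).codRestrict E fun x => x.1.2
    have hfi : Function.Injective f := by
      rw [← MonoidHom.ker_eq_bot_iff, eq_bot_iff]
      intro x hx
      have h1 : ((x : ↥E') : G) ∈ H := (QuotientGroup.eq_one_iff _).mp (congrArg Subtype.val (MonoidHom.mem_ker.mp hx))
      rw [mem_bot]
      obtain ⟨i, hi⟩ := S.isPGroup' x
      have h2 : orderOf ((x : ↥E') : G) ∣ r ^ i := orderOf_dvd_of_pow_eq_one (by
        rw [← SubmonoidClass.coe_pow, ← SubmonoidClass.coe_pow, hi]; rfl)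
      have h3 : orderOf ((x : ↥E') : G) ∣ Nat.card H := Subgroup.orderOf_dvd_natCard H h1
      have h4 : (r ^ i).Coprime (Nat.card H) :=
        (hr.coprime_iff_not_dvd.mpr fun h => hrB (hHB r hr h)).pow_left i
      exact Subtype.ext (Subtype.ext (orderOf_eq_one_iff.mp (Nat.eq_one_of_dvd_coprimes h4 h2 h3)))
    set A := (S : Subgroup ↥E').map E'.subtype with hA
    haveI hAc : IsMulCommutative ↥(S : Subgroup ↥E') :=
      ⟨⟨fun x y => hfi (by rw [map_mul, map_mul]; exact hEc.is_comm.comm _ _)⟩⟩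
    haveI : IsMulCommutative ↥A := map_isMulCommutative _ _
    have hAnc : ¬ IsCyclic A := fun h => hEnc (by
      have hsur : Function.Surjective f :=
        ((Nat.bijective_iff_injective_and_card f).mpr ⟨hfi, hS⟩).2
      haveI : IsCyclic ↥(S : Subgroup ↥E') :=
        ((S : Subgroup ↥E').equivMapOfInjective _ E'.subtype_injective).isCyclic.mpr h
      exact isCyclic_of_surjective f hsur)
    refine hHb ?_
    have hAcard : Nat.card A = r ^ k := by rw [hA, card_map_of_injective E'.subtype_injective, hS, hk]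
    have := Coprime.le_of_centralizer_le A H ⊥ hAnc (normalizer_eq_top H ▸ le_top)
      (by rw [hAcard]; exact (hr.coprime_iff_not_dvd.mpr fun h => hrB (hHB r hr h)).pow_left k) ?_
    · exact le_bot_iff.mp this
    intro x hx hx1 y hy
    obtain ⟨hyH, hyx⟩ := mem_inf.mp hy
    rw [mem_bot]
    refine (eq_one_of_commute hB (hHB.mono (zpowers_le.mpr hyH)) ?_
      (mem_centralizer_singleton_iff.mp hyx)).resolve_right hx1
    exact (only_of_card_prime_pow hr hAcard hrB).mono (zpowers_le.mpr hx)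
  have hcyc : ∀ r : ℕ, r.Prime → IsCyclic ↥(pCore r (G ⧸ H)) := by
    intro r hr
    haveI := Fact.mk hr
    set R := pCore r (G ⧸ H) with hR
    by_cases hRb : R = ⊥
    · rw [hRb]; infer_instance
    have hrB := hFτ r hr hRb
    have hRp : IsPGroup r R := Thompson.isPGroup_pCore
    by_contra hnc
    by_cases hr2 : r = 2
    · subst hr2
      haveI : Nontrivial ↥R := (nontrivial_iff_ne_bot R).mpr hRb
      obtain ⟨u, -, huc, huo⟩ := H40.exists_central_orderOf_eq hRp ⊤ top_ne_bot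
      by_cases hv : ∃ v : ↥R, v * v = 1 ∧ v ≠ 1 ∧ v ≠ u
      · obtain ⟨v, hv2, hv1, hvu⟩ := hv
        have hu2 : u * u = 1 := by rw [← pow_two, ← huo, pow_orderOf_eq_one]
        have hc : IsMulCommutative ↥(closure ({u, v} : Set ↥R)) := by
          refine Subgroup.isMulCommutative_closure fun a ha b hb => ?_
          rcases ha with rfl | rfl <;> rcases hb with rfl | rfl
          · rfl
          · exact (mem_center_iff.mp huc _).symm
          · exact mem_center_iff.mp huc _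
          · rfl
        haveI := hc
        have hEcyc := hnoE 2 hr hrB ((closure ({u, v} : Set ↥R)).map R.subtype)
          ((hRp.to_subgroup _).map _) (map_isMulCommutative _ _)
        haveI : IsCyclic ↥(closure ({u, v} : Set ↥R)) :=
          ((closure ({u, v} : Set ↥R)).equivMapOfInjective _ R.subtype_injective).isCyclic.mpr hEcyc
        classical
        haveI := Fintype.ofFinite ↥(closure ({u, v} : Set ↥R))
        have h3 := IsCyclic.card_pow_eq_one_le (α := ↥(closure ({u, v} : Set ↥R))) (n := 2) two_pos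
        have h4 : ({1, ⟨u, subset_closure (by simp)⟩, ⟨v, subset_closure (by simp)⟩} :
            Finset ↥(closure ({u, v} : Set ↥R))) ⊆ Finset.univ.filter (fun a => a ^ 2 = 1) := by
          intro a ha
          simp only [Finset.mem_insert, Finset.mem_singleton] at ha
          rw [Finset.mem_filter]
          refine ⟨Finset.mem_univ _, Subtype.ext ?_⟩
          rw [SubmonoidClass.coe_pow, pow_two]
          rcases ha with rfl | rfl | rfl
          · exact one_mul 1
          · exact hu2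
          · exact hv2
        have h5 := Finset.card_le_card h4
        have hu1 : u ≠ 1 := fun h => by rw [h, orderOf_one] at huo; norm_num at huo
        rw [Finset.card_insert_of_notMem (fun h => (Finset.mem_insert.mp h).elim (fun e => hu1 (congrArg Subtype.val e).symm) (fun e => hv1 (congrArg Subtype.val (Finset.mem_singleton.mp e)).symm)),
          Finset.card_pair (fun h => hvu (congrArg Subtype.val h).symm)] at h5
        omega
      · push Not at hv
        have hucen : ∀ g : G ⧸ H, g * (u : G ⧸ H) * g⁻¹ = u := by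
          intro g
          have hu2 : (u : G ⧸ H) * u = 1 := by
            rw [← Subgroup.coe_mul, ← pow_two, ← huo, pow_orderOf_eq_one, OneMemClass.coe_one]
          have hu1 : (u : G ⧸ H) ≠ 1 := fun h => by
            have : u = 1 := Subtype.ext h
            rw [this, orderOf_one] at huo; norm_num at huo
          have := hv ⟨g * u * g⁻¹, (inferInstance : R.Normal).conj_mem _ u.2 g⟩ (Subtype.ext (by
            show g * (u : G ⧸ H) * g⁻¹ * (g * u * g⁻¹) = 1
            rw [conj_mul, hu2, mul_one, mul_inv_cancel])) (fun h => hu1 (by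
              have h' : g * (u : G ⧸ H) * g⁻¹ = 1 := congrArg Subtype.val h
              rwa [conj_eq_one_iff] at h'))
          exact congrArg Subtype.val this
        have hsB : Only B (zpowers s) := only_of_card_prime_pow ha (k := 1) (by rw [Nat.card_zpowers, hs, pow_one]) haB
        have huB : Only Bᶜ (zpowers (u : G ⧸ H)) :=
          only_of_card_prime_pow hr (k := 1) (by rw [Nat.card_zpowers, orderOf_coe, huo, pow_one]) hrB
        rcases eq_one_of_commute hBQ hsB huB (mul_inv_eq_iff_eq_mul.mp (hucen s)) with h | h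
        · rw [h, orderOf_one] at hs; exact ha.ne_one hs.symm
        · rw [← orderOf_eq_one_iff, orderOf_coe, huo] at h; norm_num at h
    obtain ⟨E, hEn, hEc, hEp, hEcard⟩ := PGroup.exists_normal_elementary_sq hRp hr2 hnc
    haveI := hEc
    have := hnoE r hr hrB (E.map R.subtype) ((hRp.to_subgroup E).map _) (map_isMulCommutative _ _)
    haveI : IsCyclic E := (E.equivMapOfInjective _ R.subtype_injective).isCyclic.mpr this
    obtain ⟨g, hg⟩ := IsCyclic.exists_generator (α := E)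
    have h1 := orderOf_eq_card_of_forall_mem_zpowers hg
    have h2 : orderOf g ∣ r := orderOf_dvd_of_pow_eq_one (Subtype.ext (by rw [SubmonoidClass.coe_pow]; exact hEp g g.2))
    rw [h1, hEcard] at h2
    exact absurd (Nat.le_of_dvd hr.pos h2) (Nat.not_le.mpr (lt_self_pow₀ hr.one_lt (by norm_num)))
  have hcomm : commutator (G ⧸ H) ≤ K₁ := by
    refine le_trans ?_ (show fittingSubgroup (G ⧸ H) ≤ K₁ from ?_)
    · refine le_trans ?_ Fitting.centralizer_fitting_le
      rw [le_centralizer_iff, Fitting.fitting_eq_iSup_pCore]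
      refine iSup_le fun r => ?_
      rw [le_centralizer_iff]
      haveI := hcyc r r.2
      exact commutator_le_centralizer_of_isCyclic _
    · rw [Fitting.fitting_eq_iSup_pCore]
      refine iSup_le fun r => ?_
      by_cases hb : pCore r (G ⧸ H) = ⊥
      · rw [hb]; exact bot_le
      haveI := Fact.mk (r.2)
      obtain ⟨k, hk⟩ := IsPGroup.iff_card.mp
        ((Thompson.isPGroup_pCore (p := (r : ℕ)) (G := G ⧸ H)).map (QuotientGroup.mk' K₁))
      have hSn : ((pCore (r : ℕ) (G ⧸ H)).map (QuotientGroup.mk' K₁)).Normal :=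
        Normal.map inferInstance _ (QuotientGroup.mk'_surjective K₁)
      have h1 := hK₁max _ (hSn.comap (QuotientGroup.mk' K₁))
        (only_comap hK₁B (only_of_card_prime_pow r.2 hk (hFτ r r.2 hb))) (le_comap_mk K₁ _)
      exact (le_comap_map _ _).trans h1.le
  -- the top is a `B`-group
  have hidx : ∀ q : ℕ, q.Prime → q ∣ K₁.index → q ∈ B := by
    intro q hq hqd
    by_contra hqB
    haveI := Fact.mk hq
    obtain ⟨z, hz⟩ := exists_prime_orderOf_dvd_card' (G := (G ⧸ H) ⧸ K₁) q (index_eq_card K₁ ▸ hqd)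
    haveI : IsMulCommutative ((G ⧸ H) ⧸ K₁) := Normal.quotient_commutative_iff_commutator_le.mpr hcomm
    have hzn : (zpowers z).Normal := ⟨fun x hx g => by rwa [mul_comm' g x, mul_inv_cancel_right]⟩
    have h1 := hK₁max _ (hzn.comap (QuotientGroup.mk' K₁))
      (only_comap hK₁B (only_of_card_prime_pow hq (k := 1) (by rw [Nat.card_zpowers, hz, pow_one]) hqB))
      (le_comap_mk K₁ _)
    have h2 : zpowers z = ⊥ := by
      rw [← map_comap_eq_self_of_surjective (QuotientGroup.mk'_surjective K₁) (zpowers z), h1, map_mk_self]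
    rw [zpowers_eq_bot] at h2
    rw [h2, orderOf_one] at hz
    exact hq.ne_one hz.symm
  obtain ⟨C, hC⟩ := exists_right_complement'_of_coprime (N := K₁) (coprime_of_only hidx hK₁B).symm
  have hCB : ∀ q : ℕ, q.Prime → q ∣ Nat.card C → q ∈ B := hC.symm.index_eq_card ▸ hidx
  rw [hmapK]
  refine ⟨C, frobenius_of_fpf K₁ C hC hK₁b ?_ fun h hh c hc' hhc => ?_⟩
  · intro h
    rw [h, isComplement'_bot_right] at hC
    exact hK₁top hC
  · exact (eq_one_of_commute hBQ (show Only B (zpowers c) from (show Only B C from hCB).mono (zpowers_le.mpr hc'))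
      (hK₁B.mono (zpowers_le.mpr hh)) hhc.symm).symm

/-- A finite solvable group whose prime graph (prime divisors of the order, two distinct primes joined when there is an element of order their product) is disconnected is a Frobenius group or a 2-Frobenius group (it has normal subgroups H < K with K a Frobenius group with kernel H and G/H a Frobenius group with kernel K/H). -/
theorem result {G : Type*} [Group G] [Finite G] (hsol : Group.IsSolvable G)
    (hdisc : (∃ A : Set ℕ, (∃ a ∈ A, a.Prime ∧ a ∣ Nat.card G) ∧ (∃ b ∉ A, b.Prime ∧ b ∣ Nat.card G) ∧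
      ∀ a ∈ A, ∀ b ∉ A, a.Prime → b.Prime → a ∣ Nat.card G → b ∣ Nat.card G → ¬ ∃ g : G, orderOf g = a * b)) :
    (∃ C : Subgroup G, Cfsg.IsFrobeniusComplement C) ∨
    (∃ (H K : Subgroup G) (_ : H.Normal), K.Normal ∧ H < K ∧
      (∃ C : Subgroup ↥K, Cfsg.IsFrobeniusComplement C ∧ Cfsg.frobeniusKernel C = (H.subgroupOf K : Set ↥K)) ∧
      (∃ C : Subgroup (G ⧸ H), Cfsg.IsFrobeniusComplement C ∧ Cfsg.frobeniusKernel C = (K.map (QuotientGroup.mk' H) : Set (G ⧸ H)))) := by
  obtain ⟨A, ⟨a, haA, ha, had⟩, ⟨b, hbA, hb, hbd⟩, hA⟩ := hdisc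
  haveI : Nontrivial G := by
    rw [← Finite.one_lt_card_iff_nontrivial]
    exact lt_of_lt_of_le ha.one_lt (Nat.le_of_dvd Nat.card_pos had)
  obtain ⟨R₀, q, hn, hne, -, hq, -, -, -, d, -, hc⟩ := Cfsg.Agent.Solvable.exists_minimal_normal_elementary G
  haveI := hn
  by_cases hqA : q ∈ A
  · exact main hsol A q R₀ hne hq hqA ⟨d, hc⟩ ⟨b, hbA, hb, hbd⟩ hA
  · refine main hsol Aᶜ q R₀ hne hq hqA ⟨d, hc⟩ ⟨a, fun h => h haA, ha, had⟩ ?_
    rintro c hcA d hdA hc' hd' hcd hdd ⟨g, hg⟩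
    exact hA d (not_not.mp hdA) c hcA hd' hc' hdd hcd ⟨g, by rw [hg, mul_comm]⟩

end Cfsg.Agent.S3857
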