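import Cfsg.Statements.S3858
import Cfsg.Agent.FG38.AlmostSimple

set_option autoImplicit false
open Cfsg

namespace Cfsg.Agent.S3858

/-- Let G be a finite group with a normal non-abelian simple subgroup T whose centralizer is trivial (G almost simple with socle T), r a prime and R a Sylow r-subgroup of G meeting T nontrivially. Then R lies in exactly one maximal subgroup of G if and only if G has exactly one conjugacy class of maximal subgroups whose index is prime to r. -/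
theorem result {G : Type*} [Group G] [Finite G] (T : Subgroup G) [T.Normal] (hT : IsSimpleGroup T) (hna : ¬ IsMulCommutative T)
    (hC : Subgroup.centralizer (T : Set G) = ⊥) {r : ℕ} [Fact r.Prime] (R : Sylow r G) (hR0 : (R : Subgroup G) ⊓ T ≠ ⊥) :
    (∃! M : Subgroup G, IsCoatom M ∧ (R : Subgroup G) ≤ M) ↔
      ((∃ M : Subgroup G, IsCoatom M ∧ ¬ r ∣ M.index) ∧
        ∀ M₁ M₂ : Subgroup G, IsCoatom M₁ → ¬ r ∣ M₁.index → IsCoatom M₂ → ¬ r ∣ M₂.index → ∃ g : G, M₂ = M₁.map (MulAut.conj g).toMonoidHom) := by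
  haveI : T.Normal := ‹T.Normal›
  obtain ⟨M₀, hM₀, hRM₀⟩ := Cfsg.Agent.FG38.exists_coatom_ge_normalizer T hT hna R hR0
  refine ⟨fun hu => ⟨⟨M₀, hM₀, ?_⟩, ?_⟩, ?_⟩
  · exact fun h => R.not_dvd_index (h.trans (Subgroup.index_dvd_of_le (le_trans Subgroup.le_normalizer hRM₀)))
  · intro M₁ M₂ h1 h1' h2 h2'
    obtain ⟨g₁, hg₁⟩ := Cfsg.Agent.FG38.exists_conj_contains R h1'
    obtain ⟨g₂, hg₂⟩ := Cfsg.Agent.FG38.exists_conj_contains R h2'
    have c1 : IsCoatom (M₁.map (MulAut.conj g₁).toMonoidHom) := ((MulAut.conj g₁).mapSubgroup.isCoatom_iff M₁).mpr h1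
    have c2 : IsCoatom (M₂.map (MulAut.conj g₂).toMonoidHom) := ((MulAut.conj g₂).mapSubgroup.isCoatom_iff M₂).mpr h2
    have he := hu.unique ⟨c1, hg₁⟩ ⟨c2, hg₂⟩
    refine ⟨g₂⁻¹ * g₁, ?_⟩
    ext z
    simp only [Subgroup.mem_map_equiv, MulAut.conj_symm_apply]
    constructor
    · intro hz
      have : g₂ * z * g₂⁻¹ ∈ M₂.map (MulAut.conj g₂).toMonoidHom := ⟨z, hz, rfl⟩
      rw [← he, Subgroup.mem_map_equiv, MulAut.conj_symm_apply] at this
      simpa [mul_assoc] using this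
    · intro hz
      have : g₁ * ((g₂⁻¹ * g₁)⁻¹ * z * (g₂⁻¹ * g₁)) * g₁⁻¹ ∈ M₁.map (MulAut.conj g₁).toMonoidHom := ⟨_, hz, rfl⟩
      rw [he, Subgroup.mem_map_equiv, MulAut.conj_symm_apply] at this
      simpa [mul_assoc] using this
  · rintro ⟨-, hclass⟩
    refine ⟨M₀, ⟨hM₀, le_trans Subgroup.le_normalizer hRM₀⟩, ?_⟩
    rintro M ⟨hM, hRM⟩
    have hd : ∀ K : Subgroup G, (R : Subgroup G) ≤ K → ¬ r ∣ K.index :=
      fun K hK h => R.not_dvd_index (h.trans (Subgroup.index_dvd_of_le hK))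
    obtain ⟨g, hg⟩ := hclass M₀ M hM₀ (hd _ (le_trans Subgroup.le_normalizer hRM₀)) hM (hd _ hRM)
    have hgR : ((g • R : Sylow r G) : Subgroup G) ≤ M := by
      rw [hg]
      exact Subgroup.map_mono (f := (MulAut.conj g).toMonoidHom) (le_trans Subgroup.le_normalizer hRM₀)
    obtain ⟨m, hm⟩ := MulAction.exists_smul_eq M ((g • R).subtype hgR) (R.subtype hRM)
    rw [Sylow.smul_subtype] at hm
    have hm' : (m : G) • (g • R) = R := Sylow.subtype_injective hm
    rw [← mul_smul] at hm'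
    have hn := hRM₀ (Sylow.smul_eq_iff_mem_normalizer.mp hm')
    ext z
    rw [hg, Subgroup.mem_map_equiv, MulAut.conj_symm_apply]
    have key : ∀ z : G, g⁻¹ * z * g ∈ M₀ ↔ z ∈ M := fun z => by
      rw [hg, Subgroup.mem_map_equiv, MulAut.conj_symm_apply]
    rw [key]
    have h2 : z ∈ M ↔ (m : G)⁻¹ * z * m ∈ M := by
      constructor
      · intro hz; exact mul_mem (mul_mem (inv_mem m.2) hz) m.2
      · intro hz; simpa [mul_assoc] using mul_mem (mul_mem m.2 hz) (inv_mem m.2)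
    rw [h2, ← key]
    constructor
    · intro hz
      have := mul_mem (mul_mem hn hz) (inv_mem hn)
      simpa [mul_assoc] using this
    · intro hz
      have := mul_mem (mul_mem (inv_mem hn) hz) hn
      simpa [mul_assoc] using this

end Cfsg.Agent.S3858
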