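import Cfsg.Statements.S3875
import Cfsg.Agent.S4441
import Cfsg.Agent.Lib.BlocksCore.DefectZero
import Cfsg.Agent.Lib.BlocksDefect.PrincipalSection
import Cfsg.Agent.Lib.CharCore.Linear
import Cfsg.Agent.Blocks88.Modular
import Cfsg.Agent.SylowNum.Simple
import Cfsg.Agent.SylowNum.Decomp
import Cfsg.Agent.Lib.LinearGroup.Card
import Mathlib.FieldTheory.Finite.GaloisField
-- import your own Cfsg.Agent.* helpers here

set_option autoImplicit false
open Cfsg

namespace Cfsg.Agent.S3875

open Subgroup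

variable {p : ℕ} [hp : Fact p.Prime]

/-- A `p`-group normalising a `p'`-group fixes one of its Sylow `q`-subgroups. -/
theorem exists_invariant_sylow {p : ℕ} [Fact p.Prime] {H : Type*} [Group H] [Finite H] {N : Subgroup H} [N.Normal]
    (hpN : ¬ p ∣ Nat.card N) (P : Sylow p H) (q : ℕ) [Fact q.Prime] :
    ∃ R : Sylow q ↥N, (P : Subgroup H) ≤ Subgroup.normalizer (((R : Subgroup ↥N).map N.subtype : Subgroup H) : Set H) :=
  SylowNum.exists_sylow_normalized (P : Subgroup H) N P.isPGroup' (normalizer_eq_top N ▸ le_top) hpN q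


/-- Two different numbers congruent to `±1` modulo `p` have a large least common multiple. -/
theorem lcm_bound (hp5 : 5 ≤ p) {d d' M : ℕ} {s s' : ℤ} (hM : 0 < M) (hd : 2 ≤ d) (hd' : 2 ≤ d')
    (hs : s = 1 ∨ s = -1) (hs' : s' = 1 ∨ s' = -1) (h : (d : ℤ) ≡ s [ZMOD p]) (h' : (d' : ℤ) ≡ s' [ZMOD p])
    (hne : d ≠ d') (hdM : d ∣ M) (hdM' : d' ∣ M) : p ^ 2 ≤ 2 * M + 1 := by
  obtain ⟨a, ha⟩ := Int.modEq_iff_dvd.mp h.symm
  obtain ⟨a', ha'⟩ := Int.modEq_iff_dvd.mp h'.symm
  have hp' : (5 : ℤ) ≤ p := by exact_mod_cast hp5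
  have hdz : (2 : ℤ) ≤ d := by exact_mod_cast hd
  have hdz' : (2 : ℤ) ≤ d' := by exact_mod_cast hd'
  have ha1 : 1 ≤ a := by
    by_contra hlt
    have : (p : ℤ) * a ≤ 0 := by nlinarith
    rcases hs with rfl | rfl <;> omega
  have ha1' : 1 ≤ a' := by
    by_contra hlt
    have : (p : ℤ) * a' ≤ 0 := by nlinarith
    rcases hs' with rfl | rfl <;> omega
  have hdeq : (d : ℤ) = p * a + s := by linarith
  have hdeq' : (d' : ℤ) = p * a' + s' := by linarith
  have hgd : (Nat.gcd d d' : ℤ) ∣ a' * s - a * s' := by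
    have h1 : (Nat.gcd d d' : ℤ) ∣ (d : ℤ) := Int.natCast_dvd_natCast.mpr (Nat.gcd_dvd_left d d')
    have h2 : (Nat.gcd d d' : ℤ) ∣ (d' : ℤ) := Int.natCast_dvd_natCast.mpr (Nat.gcd_dvd_right d d')
    have h3 := dvd_sub (h1.mul_left a') (h2.mul_left a)
    rw [hdeq, hdeq'] at h3
    rwa [show a' * ((p : ℤ) * a + s) - a * ((p : ℤ) * a' + s') = a' * s - a * s' by ring] at h3
  have hne' : (d : ℤ) ≠ d' := by exact_mod_cast hne
  have hg : (Nat.gcd d d' : ℤ) ≤ a + a' := by
    rcases hs with rfl | rfl <;> rcases hs' with rfl | rfl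
    · rcases lt_or_gt_of_ne (show a ≠ a' from fun e => hne' (by rw [hdeq, hdeq', e])) with hlt | hlt
      · have := Int.le_of_dvd (by linarith) hgd; linarith
      · have := Int.le_of_dvd (by linarith) (dvd_neg.mpr hgd); linarith
    · have := Int.le_of_dvd (by linarith) hgd; linarith
    · have := Int.le_of_dvd (by linarith) (dvd_neg.mpr hgd); linarith
    · rcases lt_or_gt_of_ne (show a ≠ a' from fun e => hne' (by rw [hdeq, hdeq', e])) with hlt | hlt
      · have := Int.le_of_dvd (by linarith) (dvd_neg.mpr hgd); linarith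
      · have := Int.le_of_dvd (by linarith) hgd; linarith
  have hlcm : d * d' ≤ Nat.gcd d d' * M := by
    rw [← Nat.gcd_mul_lcm d d']
    exact Nat.mul_le_mul_left _ (Nat.le_of_dvd hM (Nat.lcm_dvd hdM hdM'))
  have hlz : (d : ℤ) * d' ≤ (a + a') * M := by
    have h1 : (d : ℤ) * d' ≤ (Nat.gcd d d' : ℤ) * M := by exact_mod_cast hlcm
    exact h1.trans (mul_le_mul_of_nonneg_right hg (by positivity))
  suffices hz : ((p : ℤ) ^ 2) ≤ 2 * M + 1 by exact_mod_cast hz
  by_contra hlt
  push Not at hlt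
  have hM2 : 2 * (M : ℤ) + 2 ≤ (p : ℤ) ^ 2 := by omega
  -- now `2 d d' ≤ (a + a') (p² - 2)`
  have h5 : 2 * ((d : ℤ) * d') ≤ (a + a') * ((p : ℤ) ^ 2 - 2) := by nlinarith
  have h6 : ((p : ℤ) * a - 1) * ((p : ℤ) * a' - 1) ≤ (d : ℤ) * d' := by
    have hA : (5 : ℤ) ≤ p * a := by nlinarith
    have hA' : (5 : ℤ) ≤ p * a' := by nlinarith
    rcases hs with rfl | rfl <;> rcases hs' with rfl | rfl <;> nlinarith
  rcases eq_or_ne (a * a') 1 with h1 | h1
  · have : a = 1 := le_antisymm (by nlinarith) ha1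
    subst this
    have : a' = 1 := by linarith
    subst this
    rcases hs with rfl | rfl <;> rcases hs' with rfl | rfl <;> first
      | exact hne' (by linarith)
      | nlinarith
  · have h2 : 2 ≤ a * a' := by
      have : 1 ≤ a * a' := by nlinarith
      omega
    have hsum : 2 * (a + a') ≤ 3 * (a * a') := by nlinarith [mul_nonneg (sub_nonneg.mpr ha1) (sub_nonneg.mpr ha1')]
    have hq : (0 : ℤ) ≤ (p : ℤ) ^ 2 + 2 * p - 2 := by nlinarith
    have h7 := mul_le_mul_of_nonneg_right hsum hq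
    have h8 : (0 : ℤ) < (p : ℤ) ^ 2 - 6 * p + 6 := by nlinarith
    nlinarith [mul_pos (show (0 : ℤ) < a * a' by linarith) h8]

theorem degree_one_eq {H : Type} [Group H] [Fintype H] [IsSimpleGroup H] (hna : ¬ IsMulCommutative H)
    (χ : IrrCharacter H) (h : charDegree (χ : H → ℂ) = 1) : χ = BlocksDefect.oneIrr H := by
  obtain ⟨f, hf⟩ := CharCore.IsCharacter.exists_hom_of_degree_one (CharCore.irr_isCharacter χ)
    (by rw [BlocksCore.irr_one_eq, h, Nat.cast_one])
  have hker : f.ker = ⊤ := (Normal.eq_bot_or_eq_top (inferInstance : f.ker.Normal)).resolve_left fun hb =>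
    hna ⟨⟨fun a b => (f.ker_eq_bot_iff.mp hb) (by rw [map_mul, map_mul, mul_comm])⟩⟩
  refine Subtype.ext ?_
  rw [hf]
  funext g
  show ((f g : ℂˣ) : ℂ) = 1
  rw [MonoidHom.mem_ker.mp (hker.ge (mem_top g)), Units.val_one]

theorem block_bound {H : Type} [Group H] [Fintype H] [IsSimpleGroup H] (hna : ¬ IsMulCommutative H) (hp5 : 5 ≤ p)
    (P : Sylow p H) (hP : Nat.card (P : Subgroup H) = p) (e : ℕ)
    (he : (centralizer ((P : Subgroup H) : Set H)).relIndex (normalizer ((P : Subgroup H) : Set H)) = e)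
    (he2 : 2 ≤ e) (hep : e ∣ p - 1) : p * (p ^ 2 - 1) / 2 ≤ Nat.card H := by
  classical
  obtain ⟨M, hM⟩ := Blocks88.exists_isPModular hp.out
  haveI : M.IsPrime := hM.2.1.isPrime
  obtain ⟨X, Y, hB, hXY, hX, hY, εX, ε, hXp, hε, hYp, -, hrel⟩ := S4441.result p M hM (by omega) P hP e he
  obtain ⟨Mo, hMo⟩ : p ∣ Nat.card H := hP ▸ card_subgroup_dvd_card _
  have hMo0 : 0 < Mo := Nat.pos_of_ne_zero fun h => by simp [h] at hMo
  suffices hb : p ^ 2 ≤ 2 * Mo + 1 by
    rw [hMo]
    calc p * (p ^ 2 - 1) / 2 ≤ p * (2 * Mo) / 2 := Nat.div_le_div_right (Nat.mul_le_mul_left _ (by omega))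
      _ = p * Mo := by rw [show p * (2 * Mo) = 2 * (p * Mo) by ring, Nat.mul_div_cancel_left _ (by norm_num)]
  have hdM : ∀ χ : IrrCharacter H, ¬ p ∣ charDegree (χ : H → ℂ) → charDegree (χ : H → ℂ) ∣ Mo := fun χ h => by
    have := BlocksCore.charDegree_dvd_card χ
    rw [hMo] at this
    exact ((hp.out.coprime_iff_not_dvd).mpr h).symm.dvd_of_dvd_mul_left this
  have hnd : ∀ (χ : IrrCharacter H) (c : ℤ), (charDegree (χ : H → ℂ) : ℤ) ≡ c [ZMOD p] → ¬ (p : ℤ) ∣ c →
      ¬ p ∣ charDegree (χ : H → ℂ) := fun χ c hc hpc hd => by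
    have := dvd_add (Int.modEq_iff_dvd.mp hc) (Int.natCast_dvd_natCast.mpr hd)
    rw [sub_add_cancel] at this
    exact hpc this
  have hp1 : ¬ (p : ℤ) ∣ 1 := fun h => by have := Int.le_of_dvd one_pos h; omega
  have hXd : ∀ χ ∈ X, ¬ p ∣ charDegree (χ : H → ℂ) := fun χ hχ => by
    obtain ⟨hs, hc, -⟩ := hXp χ hχ
    refine hnd χ _ hc ?_
    rcases hs with h | h <;> rw [h]
    · exact hp1
    · rwa [dvd_neg]
  have hepos : e ≤ p - 1 := Nat.le_of_dvd (by omega) hep
  have hYd : ∀ θ ∈ Y, ¬ p ∣ charDegree (θ : H → ℂ) := fun θ hθ => by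
    refine hnd θ _ (hYp θ hθ) ?_
    have : ¬ (p : ℤ) ∣ (e : ℤ) := fun h => by
      have := Nat.le_of_dvd (by omega) (Int.natCast_dvd_natCast.mp h); omega
    rcases hε with rfl | rfl
    · rwa [one_mul]
    · rwa [neg_one_mul, dvd_neg]
  set one : IrrCharacter H := BlocksDefect.oneIrr H
  have hone : charDegree (one : H → ℂ) = 1 := by
    have h := BlocksCore.irr_one_eq one
    simp only [one, BlocksDefect.oneIrr] at h
    exact_mod_cast h.symm
  have h2 : ∀ χ : IrrCharacter H, χ ≠ one → 2 ≤ charDegree (χ : H → ℂ) := fun χ hχ => by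
    have h0 := BlocksCore.charDegree_pos χ
    by_contra hlt
    exact hχ (degree_one_eq hna χ (by omega))
  haveI : Finite ↥X := Nat.finite_of_card_ne_zero (by rw [hX]; omega)
  set XF := X.toFinite.toFinset with hXF
  have hXFm : ∀ χ, χ ∈ XF ↔ χ ∈ X := fun χ => Set.Finite.mem_toFinset _
  have hXFc : XF.card = e := by rw [← hX, hXF, Nat.card_coe_set_eq, Set.ncard_eq_toFinset_card X]
  by_cases hsame : ∀ χ ∈ X, ∀ χ' ∈ X, χ ≠ one → χ' ≠ one → charDegree (χ : H → ℂ) = charDegree (χ' : H → ℂ)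
  swap
  · push Not at hsame
    obtain ⟨χ, hχ, χ', hχ', h1, h1', hne⟩ := hsame
    exact lcm_bound hp5 hMo0 (h2 χ h1) (h2 χ' h1') (hXp χ hχ).1 (hXp χ' hχ').1 (hXp χ hχ).2.1 (hXp χ' hχ').2.1
      hne (hdM χ (hXd χ hχ)) (hdM χ' (hXd χ' hχ'))
  obtain ⟨χ₁, hχ₁, hχ₁n⟩ : ∃ χ ∈ XF, χ ≠ one :=
    Finset.exists_mem_ne (by omega) one
  have hχ₁X := (hXFm χ₁).mp hχ₁
  set D := charDegree (χ₁ : H → ℂ) with hD
  set s := εX χ₁ with hs
  have hD2 : 2 ≤ D := h2 χ₁ hχ₁n
  have hsX : ∀ χ ∈ X, χ ≠ one → εX χ = s := fun χ hχ hn => by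
    have h1 := (hXp χ hχ).2.1
    rw [hsame χ hχ χ₁ hχ₁X hn hχ₁n] at h1
    have := Int.modEq_iff_dvd.mp (h1.symm.trans (hXp χ₁ hχ₁X).2.1)
    rcases (hXp χ hχ).1 with h | h <;> rcases (hXp χ₁ hχ₁X).1 with h' | h' <;> rw [h, h'] at this <;>
      first
        | (rw [h, hs, h']; done)
        | (exfalso; have h3 := Int.le_of_dvd (by norm_num) (dvd_abs (p : ℤ) _ |>.mpr this); norm_num at h3; omega)
  have hDd : (p : ℤ) ∣ s - D := Int.modEq_iff_dvd.mp (hXp χ₁ hχ₁X).2.1
  have hDp : p - 1 ≤ D := by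
    rcases (hXp χ₁ hχ₁X).1 with h | h <;> rw [← hs] at h <;> rw [h] at hDd
    · have := Int.le_of_dvd (by omega) (dvd_neg.mpr hDd); omega
    · have := Int.le_of_dvd (by omega) (dvd_neg.mpr hDd); omega
  obtain ⟨θ, hθ⟩ : Y.Nonempty := by
    by_contra h
    rw [Set.not_nonempty_iff_eq_empty] at h
    have h0 : 0 < (p - 1) / e := Nat.div_pos hepos (by omega)
    rw [h] at hY
    simp at hY
    omega
  set d₀ := charDegree (θ : H → ℂ) with hd₀
  have hsum : (ε : ℤ) * d₀ = ∑ χ ∈ XF, εX χ * (charDegree (χ : H → ℂ) : ℤ) := by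
    have h := hrel θ hθ 1 (by rw [orderOf_one]; exact hp.out.not_dvd_one)
    rw [finsum_mem_eq_finite_toFinset_sum _ X.toFinite] at h
    simp only [BlocksCore.irr_one_eq] at h
    exact_mod_cast h
  have hterm : ∀ χ ∈ XF.erase one, εX χ * (charDegree (χ : H → ℂ) : ℤ) = s * D := fun χ hχ => by
    obtain ⟨hn, hm⟩ := Finset.mem_erase.mp hχ
    rw [hsX χ ((hXFm χ).mp hm) hn, hsame χ ((hXFm χ).mp hm) χ₁ hχ₁X hn hχ₁n]
  have hs1 : s = 1 ∨ s = -1 := (hXp χ₁ hχ₁X).1
  by_cases honeX : one ∈ X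
  swap
  · exfalso
    have honeY : one ∈ Y := (hB.le (BlocksDefect.oneIrr_mem)).resolve_left honeX
    have h := hrel one honeY 1 (by rw [orderOf_one]; exact hp.out.not_dvd_one)
    rw [finsum_mem_eq_finite_toFinset_sum _ X.toFinite] at h
    simp only [BlocksCore.irr_one_eq, hone, Nat.cast_one] at h
    have hz : (ε : ℤ) = ∑ χ ∈ XF, εX χ * (charDegree (χ : H → ℂ) : ℤ) := by
      have : (ε : ℂ) * 1 = _ := h
      rw [mul_one] at this
      exact_mod_cast this
    rw [← Finset.erase_eq_of_notMem (mt (hXFm one).mp honeX), Finset.sum_congr rfl hterm, Finset.sum_const,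
      Finset.erase_eq_of_notMem (mt (hXFm one).mp honeX), hXFc, nsmul_eq_mul] at hz
    have hlarge : (4 : ℤ) ≤ (e : ℤ) * D := by
      have : (2 : ℤ) ≤ e := by exact_mod_cast he2
      have : (2 : ℤ) ≤ D := by exact_mod_cast hD2
      nlinarith
    rcases hs1 with h | h <;> rw [h] at hz <;> rcases hε with rfl | rfl <;> push_cast at hz <;> linarith
  have honeε : εX one = 1 := by
    have h1 := Int.modEq_iff_dvd.mp (hXp one honeX).2.1
    rw [hone] at h1
    rcases (hXp one honeX).1 with h | h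
    · exact h
    · rw [h] at h1
      exfalso
      have := Int.le_of_dvd (by norm_num) (dvd_neg.mpr h1)
      norm_num at this
      omega
  rw [← Finset.add_sum_erase _ _ ((hXFm one).mpr honeX), honeε, hone, Finset.sum_congr rfl hterm,
    Finset.sum_const, Finset.card_erase_of_mem ((hXFm one).mpr honeX), hXFc, nsmul_eq_mul] at hsum
  have hcop : IsCoprime (D : ℤ) (d₀ : ℤ) :=
    ⟨-(((e - 1 : ℕ) : ℤ) * s), ε, by push_cast at hsum ⊢; linear_combination hsum⟩
  have hdvd : D * d₀ ∣ Mo :=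
    (Int.isCoprime_iff_nat_coprime.mp hcop).mul_dvd_of_dvd_of_dvd (hdM χ₁ (hXd χ₁ hχ₁X)) (hdM θ (hYd θ hθ))
  have hd0 : ((e - 1 : ℕ) : ℤ) * D - 1 ≤ d₀ := by
    have hge : (0 : ℤ) ≤ ((e - 1 : ℕ) : ℤ) * D := by positivity
    rcases hs1 with h | h <;> rw [h] at hsum <;> rcases hε with rfl | rfl <;> push_cast at hsum ⊢ <;> linarith
  have hfin : (D : ℤ) * d₀ ≤ Mo := by exact_mod_cast Nat.le_of_dvd hMo0 hdvd
  have he1 : (1 : ℤ) ≤ ((e - 1 : ℕ) : ℤ) := by omega
  have hp5' : (5 : ℤ) ≤ p := by exact_mod_cast hp5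
  have hDp' : (p : ℤ) - 1 ≤ D := by omega
  suffices hz : (p : ℤ) ^ 2 ≤ 2 * (Mo : ℤ) + 1 by exact_mod_cast hz
  have h7 : (D : ℤ) - 1 ≤ d₀ := by nlinarith
  nlinarith [mul_le_mul_of_nonneg_left h7 (by positivity : (0 : ℤ) ≤ (D : ℤ))]

/-- The simple case. -/
theorem card_lower {H : Type} [Group H] [Finite H] [IsSimpleGroup H] (hp2 : p ≠ 2) (hc : ¬ IsPClosed p H) :
    p * (p ^ 2 - 1) / 2 ≤ Nat.card H := by
  classical
  haveI := Fintype.ofFinite H
  obtain ⟨P, hP⟩ : ∃ P : Sylow p H, ¬ (P : Subgroup H).Normal := by simpa [IsPClosed] using hc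
  have hna : ¬ IsMulCommutative H := fun h => hP ⟨fun a ha g => by
    rw [h.is_comm.comm g a, mul_inv_cancel_right]; exact ha⟩
  have hn : p + 1 ≤ Nat.card (Sylow p H) := by
    have h1 := card_sylow_modEq_one p H
    have h2 : Nat.card (Sylow p H) ≠ 1 := fun h => by
      have : Subsingleton (Sylow p H) := (Nat.card_eq_one_iff_unique.mp h).1
      exact hP (Sylow.normal_of_subsingleton P)
    have h3 : 0 < Nat.card (Sylow p H) := Nat.card_pos
    have h4 : p ∣ Nat.card (Sylow p H) - 1 := (Nat.modEq_iff_dvd' h3).mp h1.symm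
    have := Nat.le_of_dvd (by omega) h4
    omega
  obtain ⟨a, ha⟩ := IsPGroup.iff_card.mp P.isPGroup'
  have hcardH : Nat.card (P : Subgroup H) * (p + 1) ≤ Nat.card H := by
    rw [← card_mul_index (P : Subgroup H)]
    refine Nat.mul_le_mul_left _ (hn.trans ?_)
    exact Nat.le_of_dvd (Nat.pos_of_ne_zero index_ne_zero_of_finite) P.card_dvd_index
  rcases Nat.lt_or_ge a 1 with h0 | h0
  · refine absurd ?_ hP
    rw [eq_bot_of_card_eq (P : Subgroup H) (by rw [ha, show a = 0 by omega, pow_zero])]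
    infer_instance
  rcases Nat.lt_or_ge a 2 with h1 | h1
  swap
  · refine le_trans ?_ hcardH
    refine le_trans (Nat.div_le_self _ _) ?_
    calc p * (p ^ 2 - 1) ≤ p * p ^ 2 := Nat.mul_le_mul_left _ (Nat.sub_le _ _)
      _ = p ^ 2 * p := by ring
      _ ≤ p ^ a * (p + 1) := Nat.mul_le_mul (Nat.pow_le_pow_right hp.out.pos h1) (by omega)
      _ = _ := by rw [ha]
  have hP1 : Nat.card (P : Subgroup H) = p := by rw [ha, show a = 1 by omega, pow_one]
  have hp3 : 3 ≤ p := by have := hp.out.two_le; omega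
  rcases Nat.lt_or_ge p 5 with h5 | h5
  · have : p ≠ 4 := by rintro rfl; exact absurd hp.out (by norm_num)
    have : p = 3 := by omega
    subst this
    rw [hP1] at hcardH
    norm_num at hcardH ⊢
    omega
  set C := centralizer ((P : Subgroup H) : Set H) with hC
  set N := normalizer ((P : Subgroup H) : Set H) with hN
  have hCN : C ≤ N := centralizer_le_normalizer _
  set φ := (P : Subgroup H).normalizerMonoidHom with hφ
  have hker : φ.ker = C.subgroupOf N := by rw [hφ, normalizerMonoidHom_ker]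
  have hep : C.relIndex N ∣ p - 1 := by
    rw [relIndex, ← hker, index_ker]
    refine (card_subgroup_dvd_card φ.range).trans ?_
    haveI : IsCyclic ↥(P : Subgroup H) := isCyclic_of_prime_card hP1
    rw [IsCyclic.card_mulAut, hP1, Nat.totient_prime hp.out]
  refine block_bound hna h5 P hP1 (C.relIndex N) rfl ?_ hep
  have h0 : C.relIndex N ≠ 0 := fun h => by rw [h, zero_dvd_iff] at hep; omega
  have h1' : C.relIndex N ≠ 1 := fun h =>
    SylowNum.not_normalizer_le_centralizer hna (hP1 ▸ card_subgroup_dvd_card _) P (relIndex_eq_one.mp h)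
  omega

/-- Closedness passes down from a normal subgroup containing a Sylow subgroup. -/
theorem normal_of_le_normal {H : Type*} [Group H] [Finite H] (P : Sylow p H) (K : Subgroup H) [K.Normal]
    (hle : (P : Subgroup H) ≤ K) (hK : IsPClosed p ↥K) : (P : Subgroup H).Normal := by
  haveI : ((P.subtype hle : Sylow p ↥K) : Subgroup ↥K).Normal := hK _
  haveI := (P.subtype hle).characteristic_of_normal inferInstance
  have h : (((P.subtype hle : Sylow p ↥K) : Subgroup ↥K).map K.subtype).Normal := inferInstance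
  rwa [Sylow.coe_subtype, subgroupOf_map_subtype, inf_eq_left.mpr hle] at h

theorem lower (hp2 : p ≠ 2) (m : ℕ) (hleast : ∀ k : ℕ, IsPrimePow k → k % p = 1 → m ≤ k) (n : ℕ) :
    ∀ (H : Type) [Group H] [Finite H], Nat.card H ≤ n → ¬ IsPClosed p H →
      min (p * m) (p * (p ^ 2 - 1) / 2) ≤ Nat.card H := by
  induction n with
  | zero => intro H _ _ h; exact absurd h (Nat.not_le.mpr Nat.card_pos)
  | succ n ih =>
    intro H _ _ hn hc
    by_cases hsub : ∃ K : Subgroup H, K ≠ ⊤ ∧ ¬ IsPClosed p ↥K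
    · obtain ⟨K, hK, hKc⟩ := hsub
      have hlt : Nat.card K < Nat.card H := lt_of_le_of_ne (card_le_card_group K)
        fun e => hK (eq_top_of_card_eq K e)
      exact (ih K (by omega) hKc).trans hlt.le
    push Not at hsub
    by_cases hquo : ∃ (N : Subgroup H) (_ : N.Normal), N ≠ ⊥ ∧ ¬ IsPClosed p (H ⧸ N)
    · obtain ⟨N, hN, hNb, hNc⟩ := hquo
      have h1 := card_eq_card_quotient_mul_card_subgroup N
      have h2 : 1 < Nat.card N := (one_lt_card_iff_ne_bot N).mpr hNb
      have h3 : 0 < Nat.card (H ⧸ N) := Nat.card_pos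
      have : Nat.card (H ⧸ N) * 1 < Nat.card (H ⧸ N) * Nat.card N := Nat.mul_lt_mul_of_pos_left h2 h3
      exact (ih (H ⧸ N) (by omega) hNc).trans (by omega)
    push Not at hquo
    obtain ⟨P, hP⟩ : ∃ P : Sylow p H, ¬ (P : Subgroup H).Normal := by simpa [IsPClosed] using hc
    have hnt : Nontrivial H := by
      by_contra h
      rw [not_nontrivial_iff_subsingleton] at h
      exact hP (by rw [Subsingleton.elim (P : Subgroup H) ⊥]; infer_instance)
    by_cases hsimp : ∀ N : Subgroup H, N.Normal → N = ⊥ ∨ N = ⊤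
    · haveI : IsSimpleGroup H := ⟨hsimp⟩
      exact (min_le_right _ _).trans (card_lower hp2 hc)
    push Not at hsimp
    obtain ⟨N, hNn, hNb, hNt⟩ := hsimp
    haveI := hNn
    have hsurj := QuotientGroup.mk'_surjective N
    have hPN : ((P : Subgroup H).map (QuotientGroup.mk' N)).Normal := by
      have := hquo N hNn hNb (P.mapSurjective hsurj)
      exact this
    set L := ((P : Subgroup H).map (QuotientGroup.mk' N)).comap (QuotientGroup.mk' N) with hL
    haveI : L.Normal := hPN.comap _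
    have hLeq : L = (P : Subgroup H) ⊔ N := by rw [hL, comap_map_eq, QuotientGroup.ker_mk']
    have hLtop : (P : Subgroup H) ⊔ N = ⊤ := by
      by_contra h
      exact hP (normal_of_le_normal P L (hLeq ▸ le_sup_left) (hsub L (hLeq ▸ h)))
    have hpN : ¬ p ∣ Nat.card N := by
      intro hd
      obtain ⟨R⟩ := (inferInstance : Nonempty (Sylow p ↥N))
      haveI := hsub N hNt R
      haveI := R.characteristic_of_normal inferInstance
      set R' := (R : Subgroup ↥N).map N.subtype with hR'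
      have hR'n : R'.Normal := inferInstance
      have hR'p : IsPGroup p R' := R.isPGroup'.map N.subtype
      have hR'b : R' ≠ ⊥ := by
        intro h
        have h1 := R.dvd_card_of_dvd_card hd
        rw [hR', map_eq_bot_iff_of_injective _ N.subtype_injective] at h
        rw [h, card_bot] at h1
        exact hp.out.not_dvd_one h1
      have hle : R' ≤ P := by
        obtain ⟨Q, hQ⟩ := hR'p.exists_le_sylow
        obtain ⟨g, rfl⟩ := MulAction.exists_smul_eq H Q P
        intro x hx
        have h2 : g⁻¹ * x * g ∈ (Q : Subgroup H) := hQ (by simpa using hR'n.conj_mem x hx g⁻¹)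
        rw [Sylow.coe_subgroup_smul, Subgroup.mem_pointwise_smul_iff_inv_smul_mem, MulAut.smul_def,
          MulAut.conj_inv_apply]
        exact h2
      have := hquo R' hR'n hR'b (P.mapSurjective (QuotientGroup.mk'_surjective R'))
      have h2 := this.comap (QuotientGroup.mk' R')
      rw [Sylow.coe_mapSurjective, comap_map_eq, QuotientGroup.ker_mk', sup_eq_left.mpr hle] at h2
      exact hP h2
    -- a prime power congruent to one
    obtain ⟨q, hq, Q, hQP, hQnc⟩ : ∃ (q : ℕ) (_ : q.Prime) (Q : Subgroup H), (Q ≤ N ∧ IsPGroup q Q) ∧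
        (P : Subgroup H) ≤ normalizer (Q : Set H) ∧ ¬ Q ≤ centralizer ((P : Subgroup H) : Set H) := by
      by_contra hall
      push Not at hall
      apply hP
      have hNC : N ≤ centralizer ((P : Subgroup H) : Set H) := by
        set Cn := (centralizer ((P : Subgroup H) : Set H)).subgroupOf N with hCn
        suffices Cn = ⊤ by rwa [hCn, subgroupOf_eq_top] at this
        rw [← index_eq_one]
        by_contra hne
        obtain ⟨q, hq, hqd⟩ := Nat.exists_prime_and_dvd hne
        haveI := Fact.mk hq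
        obtain ⟨R, hRP⟩ := exists_invariant_sylow hpN P q
        have hle := hall q hq ((R : Subgroup ↥N).map N.subtype) ⟨map_subtype_le _, R.isPGroup'.map _⟩ hRP
        have hle' : (R : Subgroup ↥N) ≤ Cn := fun x hx => hle (mem_map_of_mem N.subtype hx)
        exact R.not_dvd_index (hqd.trans (index_dvd_of_le hle'))
      rw [← normalizer_eq_top_iff]
      refine top_le_iff.mp (hLtop ▸ sup_le le_normalizer (hNC.trans (centralizer_le_normalizer _)))
    obtain ⟨hQN, hQq⟩ := hQP
    obtain ⟨hQinv, hQc⟩ := hQnc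
    haveI := Fact.mk hq
    set CQ := (centralizer ((P : Subgroup H) : Set H)).subgroupOf Q with hCQ
    have hidx : CQ.index ≠ 1 := fun h => hQc (subgroupOf_eq_top.mp (index_eq_one.mp h))
    obtain ⟨i, hi⟩ := IsPGroup.iff_card.mp hQq
    have hpp : ∃ j, CQ.index = q ^ j := by
      obtain ⟨j, -, hj⟩ := (Nat.dvd_prime_pow hq).mp (hi ▸ index_dvd_card CQ)
      exact ⟨j, hj⟩
    obtain ⟨j, hj⟩ := hpp
    have hj0 : j ≠ 0 := fun h => hidx (by rw [hj, h, pow_zero])
    have hmod : Nat.card Q ≡ Nat.card CQ [MOD p] := by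
      letI : MulAction ↥(P : Subgroup H) ↥Q :=
        { smul := fun g x => ⟨g * x * (g : H)⁻¹, (mem_normalizer_iff.mp (hQinv g.2) x).mp x.2⟩
          one_smul := fun x => Subtype.ext (by show (1 : H) * x * (1 : H)⁻¹ = x; group)
          mul_smul := fun g h x => Subtype.ext (by
            show ((g : H) * h) * x * ((g : H) * h)⁻¹ = g * (h * x * (h : H)⁻¹) * (g : H)⁻¹; group) }
      have := IsPGroup.card_modEq_card_fixedPoints P.isPGroup' (α := ↥Q)
      refine this.trans (congrArg (· % p) (Nat.card_congr (Equiv.subtypeEquivRight fun x => ?_)))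
      rw [MulAction.mem_fixedPoints, hCQ, mem_subgroupOf, mem_centralizer_iff]
      constructor
      · exact fun h g hg => mul_inv_eq_iff_eq_mul.mp (congrArg Subtype.val (h ⟨g, hg⟩))
      · exact fun h g => Subtype.ext (mul_inv_eq_iff_eq_mul.mpr (h g g.2))
    have hqp : q ≠ p := by
      rintro rfl
      refine hpN ((?_ : q ∣ Nat.card Q).trans (card_dvd_of_le hQN))
      exact (hq.dvd_of_dvd_pow (n := j) (dvd_refl _ |>.trans (dvd_pow_self q hj0))).trans
        ((dvd_pow_self q hj0).trans (hj ▸ index_dvd_card CQ))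
    have hm : CQ.index % p = 1 := by
      have hcop : Nat.Coprime p (Nat.card CQ) := by
        obtain ⟨k, -, hk⟩ := (Nat.dvd_prime_pow hq).mp (hi ▸ card_subgroup_dvd_card CQ)
        rw [hk]; exact ((Nat.coprime_primes hp.out hq).mpr hqp.symm).pow_right _
      rw [← card_mul_index CQ] at hmod
      have h1 : CQ.index ≡ 1 [MOD p] :=
        Nat.ModEq.cancel_left_of_coprime hcop (by rw [mul_one]; exact hmod)
      rw [h1, Nat.mod_eq_of_lt hp.out.one_lt]
    have hmle : m ≤ CQ.index := hleast _ (hj ▸ (isPrimePow_nat_iff _).mpr ⟨q, j, hq, Nat.pos_of_ne_zero hj0, rfl⟩) hm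
    refine (min_le_left _ _).trans ?_
    have hidx' : CQ.index ≤ Nat.card N :=
      (Nat.le_of_dvd Nat.card_pos (index_dvd_card CQ)).trans (card_le_of_le hQN)
    have hP1 : p ≤ Nat.card (P : Subgroup H) := by
      refine Nat.le_of_dvd Nat.card_pos (P.dvd_card_of_dvd_card ?_)
      by_contra hd
      apply hP
      have : (P : Subgroup H) = ⊥ := by
        obtain ⟨k, hk⟩ := IsPGroup.iff_card.mp P.isPGroup'
        refine eq_bot_of_card_eq _ ?_
        rcases Nat.eq_zero_or_pos k with h | h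
        · rw [hk, h, pow_zero]
        · exact absurd ((hk ▸ dvd_pow_self p h.ne').trans (card_subgroup_dvd_card (P : Subgroup H))) hd
      rw [this]; infer_instance
    calc p * m ≤ Nat.card (P : Subgroup H) * Nat.card N := Nat.mul_le_mul hP1 (hmle.trans hidx')
      _ ≤ Nat.card H := by
        refine Nat.le_of_dvd Nat.card_pos (Nat.Coprime.mul_dvd_of_dvd_of_dvd ?_ (card_subgroup_dvd_card _)
          (card_subgroup_dvd_card _))
        obtain ⟨k, hk⟩ := IsPGroup.iff_card.mp P.isPGroup'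
        rw [hk]; exact (hp.out.coprime_iff_not_dvd.mpr hpN).pow_left _

/-- The affine group realising `p * m`. -/
theorem exists_affine (m : ℕ) (hm : IsPrimePow m) (hm1 : m % p = 1) :
    ∃ (H : Type) (_ : Group H) (_ : Finite H), Nat.card H = p * m ∧ ¬ IsPClosed p H := by
  classical
  obtain ⟨q, k, hq, hk, rfl⟩ := (isPrimePow_nat_iff m).mp hm
  haveI := Fact.mk hq
  set F := GaloisField q k
  have hF : Nat.card F = q ^ k := GaloisField.card q k hk.ne'
  haveI := Fintype.ofFinite F
  obtain ⟨ζ, hζ⟩ := exists_prime_orderOf_dvd_card' (G := Fˣ) p (by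
    rw [Nat.card_units, hF]
    exact Nat.dvd_of_mod_eq_zero (Nat.sub_mod_eq_zero_of_mod_eq (by rw [hm1, Nat.mod_eq_of_lt hp.out.one_lt])))
  let φ : ↥(zpowers ζ) →* MulAut (Multiplicative F) :=
    { toFun := fun u =>
        { toFun := fun x => Multiplicative.ofAdd (((u : Fˣ) : F) * x.toAdd)
          invFun := fun x => Multiplicative.ofAdd ((((u : Fˣ)⁻¹ : Fˣ) : F) * x.toAdd)
          left_inv := fun x => by simp
          right_inv := fun x => by simp
          map_mul' := fun x y => by simp [mul_add, ofAdd_add] }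
      map_one' := by ext x; simp
      map_mul' := fun u v => by ext x; simp [mul_assoc] }
  haveI : Finite (Multiplicative F ⋊[φ] ↥(zpowers ζ)) := Finite.of_equiv _ SemidirectProduct.equivProd.symm
  refine ⟨Multiplicative F ⋊[φ] ↥(zpowers ζ), inferInstance, this, ?_, ?_⟩
  · rw [SemidirectProduct.card, Nat.card_zpowers, hζ, mul_comm]
    exact congrArg (p * ·) hF
  · intro hcl
    set t : Multiplicative F ⋊[φ] ↥(zpowers ζ) := SemidirectProduct.inr ⟨ζ, mem_zpowers ζ⟩ with ht
    have hto : orderOf t = p := by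
      rw [ht, orderOf_injective _ SemidirectProduct.inr_injective, Subgroup.orderOf_mk, hζ]
    obtain ⟨P, hP⟩ := (IsPGroup.of_card (n := 1) (show Nat.card (zpowers t) = p ^ 1 by
      rw [Nat.card_zpowers, hto, pow_one])).exists_le_sylow
    haveI := hcl P
    haveI : (SemidirectProduct.inl : Multiplicative F →* Multiplicative F ⋊[φ] ↥(zpowers ζ)).range.Normal := by
      rw [SemidirectProduct.range_inl_eq_ker_rightHom]; infer_instance
    have hdis : Disjoint (P : Subgroup (Multiplicative F ⋊[φ] ↥(zpowers ζ)))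
        (SemidirectProduct.inl : Multiplicative F →* Multiplicative F ⋊[φ] ↥(zpowers ζ)).range := by
      rw [disjoint_iff]
      refine inf_eq_bot_of_coprime ?_
      obtain ⟨i, hi⟩ := IsPGroup.iff_card.mp P.isPGroup'
      rw [← Nat.card_congr (MonoidHom.ofInjective SemidirectProduct.inl_injective).toEquiv, hi]
      refine Nat.Coprime.pow_left _ ?_
      rw [show Nat.card (Multiplicative F) = q ^ k from hF]
      exact hp.out.coprime_iff_not_dvd.mpr fun hd => by
        rw [Nat.dvd_iff_mod_eq_zero, hm1] at hd; exact one_ne_zero hd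
    have hc := commute_of_normal_of_disjoint _ _ ‹_› inferInstance hdis t
      (SemidirectProduct.inl (Multiplicative.ofAdd (1 : F))) (hP (mem_zpowers t)) ⟨_, rfl⟩
    have h2 := congrArg SemidirectProduct.left hc.eq
    simp [ht, φ] at h2
    exact hp.out.ne_one (by rw [← hζ, h2, orderOf_one])

open Matrix in
theorem exists_psl (hp2 : p ≠ 2) :
    ∃ (H : Type) (_ : Group H) (_ : Finite H), Nat.card H = p * (p ^ 2 - 1) / 2 ∧ ¬ IsPClosed p H := by
  classical
  refine ⟨Matrix.ProjectiveSpecialLinearGroup (Fin 2) (ZMod p), inferInstance, inferInstance, ?_, ?_⟩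
  · have h := LinearGroup.gcd_mul_card_PSL_two (F := ZMod p)
    have hg : Nat.gcd 2 (p - 1) = 2 :=
      Nat.gcd_eq_left (Nat.dvd_of_mod_eq_zero (by have := Nat.odd_iff.mp (hp.out.odd_of_ne_two hp2); omega))
    rw [Nat.card_zmod, hg] at h
    rw [← h]; omega
  · intro hcl
    let up : Matrix.SpecialLinearGroup (Fin 2) (ZMod p) := ⟨!![1, 1; 0, 1], by simp [Matrix.det_fin_two]⟩
    let lo : Matrix.SpecialLinearGroup (Fin 2) (ZMod p) := ⟨!![1, 0; 1, 1], by simp [Matrix.det_fin_two]⟩
    set π := QuotientGroup.mk' (Subgroup.center (Matrix.SpecialLinearGroup (Fin 2) (ZMod p)))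
    have hupn : ∀ n : ℕ, ((up ^ n : Matrix.SpecialLinearGroup (Fin 2) (ZMod p)) :
        Matrix (Fin 2) (Fin 2) (ZMod p)) = !![1, (n : ZMod p); 0, 1] := by
      intro n
      induction n with
      | zero => simp [Matrix.one_fin_two]
      | succ n ih =>
        rw [pow_succ, Matrix.SpecialLinearGroup.coe_mul, ih]
        simp [up, Matrix.mul_fin_two, add_comm]
    have hlon : ∀ n : ℕ, ((lo ^ n : Matrix.SpecialLinearGroup (Fin 2) (ZMod p)) :
        Matrix (Fin 2) (Fin 2) (ZMod p)) = !![1, 0; (n : ZMod p), 1] := by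
      intro n
      induction n with
      | zero => simp [Matrix.one_fin_two]
      | succ n ih =>
        rw [pow_succ, Matrix.SpecialLinearGroup.coe_mul, ih]
        simp [lo, Matrix.mul_fin_two]
    have hupp : π up ^ p = 1 := by
      rw [← map_pow, show up ^ p = 1 from Subtype.ext (by rw [hupn]; simp [Matrix.one_fin_two]), map_one]
    have hlop : π lo ^ p = 1 := by
      rw [← map_pow, show lo ^ p = 1 from Subtype.ext (by rw [hlon]; simp [Matrix.one_fin_two]), map_one]
    have hmem : ∀ x : Matrix.ProjectiveSpecialLinearGroup (Fin 2) (ZMod p), x ^ p = 1 → ∀ P : Sylow p (Matrix.ProjectiveSpecialLinearGroup (Fin 2) (ZMod p)),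
        x ∈ (P : Subgroup _) := by
      intro x hx P
      have hz : IsPGroup p (zpowers x) := by
        intro y
        refine ⟨1, ?_⟩
        obtain ⟨y, i, rfl⟩ := y
        apply Subtype.ext
        rw [pow_one]
        show (x ^ i) ^ p = 1
        rw [← zpow_natCast, ← _root_.zpow_mul, mul_comm, _root_.zpow_mul, zpow_natCast, hx, _root_.one_zpow]
      obtain ⟨Q, hQ⟩ := hz.exists_le_sylow
      haveI := hcl P
      haveI := (Sylow.unique_of_normal P (hcl P)).instSubsingleton
      rw [Subsingleton.elim P Q]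
      exact hQ (mem_zpowers x)
    obtain ⟨P⟩ := (inferInstance : Nonempty (Sylow p (Matrix.ProjectiveSpecialLinearGroup (Fin 2) (ZMod p))))
    have hup1 : π up ≠ 1 := by
      intro h
      have hc := mem_center_iff.mp ((QuotientGroup.eq_one_iff up).mp h) lo
      have := congrArg (fun M : Matrix.SpecialLinearGroup (Fin 2) (ZMod p) =>
        (M : Matrix (Fin 2) (Fin 2) (ZMod p)) 0 0) hc
      simp only [Matrix.SpecialLinearGroup.coe_mul] at this
      simp [up, lo, Matrix.mul_fin_two] at this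
    have hcardP : Nat.card (P : Subgroup (Matrix.ProjectiveSpecialLinearGroup (Fin 2) (ZMod p))) = p := by
      obtain ⟨i, hi⟩ := IsPGroup.iff_card.mp P.isPGroup'
      have hd := card_subgroup_dvd_card (P : Subgroup (Matrix.ProjectiveSpecialLinearGroup (Fin 2) (ZMod p)))
      have h := LinearGroup.gcd_mul_card_PSL_two (F := ZMod p)
      rw [Nat.card_zmod] at h
      rw [hi] at hd
      have h2 : p ^ i ∣ p * (p ^ 2 - 1) := h ▸ hd.mul_left _
      have hi2 : i ≤ 1 := by
        by_contra hlt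
        have h3 := (pow_dvd_pow p (show 2 ≤ i by omega)).trans h2
        rw [pow_two p, Nat.mul_dvd_mul_iff_left hp.out.pos, ← pow_two] at h3
        have h4 := Nat.dvd_sub (dvd_pow_self p two_ne_zero) h3
        rw [Nat.sub_sub_self (Nat.one_le_pow _ _ hp.out.pos)] at h4
        exact hp.out.not_dvd_one h4
      rcases Nat.lt_or_ge i 1 with h3 | h3
      · have hbot := eq_bot_of_card_eq _ (hi.trans (by rw [show i = 0 by omega, pow_zero]))
        have := hmem _ hupp P
        rw [hbot, mem_bot] at this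
        exact absurd this hup1
      · rw [hi, show i = 1 by omega, pow_one]
    have heq : zpowers (π up) = (P : Subgroup _) := eq_of_le_of_card_ge (zpowers_le.mpr (hmem _ hupp P))
      (by rw [hcardP, Nat.card_zpowers, orderOf_eq_prime hupp hup1])
    obtain ⟨i, hi⟩ := mem_powers_iff_mem_zpowers.mpr (heq.ge (hmem _ hlop P))
    have hi' : π (up ^ i) = π lo := by rw [map_pow]; exact hi
    have hc := mem_center_iff.mp (QuotientGroup.eq.mp hi') up
    have := congrArg (fun M : Matrix.SpecialLinearGroup (Fin 2) (ZMod p) =>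
      (M : Matrix (Fin 2) (Fin 2) (ZMod p)) 1 1) hc
    simp only [Matrix.SpecialLinearGroup.coe_mul, Matrix.SpecialLinearGroup.coe_inv, hupn] at this
    simp [up, lo, Matrix.mul_fin_two, Matrix.adjugate_fin_two] at this

/-- Let p be an odd prime and let m be the least prime power congruent to 1 modulo p. Then the least order of a finite group whose Sylow p-subgroups are not normal is the smaller of p · m and p(p² − 1)/2: every finite group whose Sylow p-subgroups are not normal has at least that order, and some group of exactly that order has non-normal Sylow p-subgroups. -/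
theorem result (p : ℕ) [Fact p.Prime] (hp : p ≠ 2) (m : ℕ) (hm : IsPrimePow m) (hm1 : m % p = 1)
    (hleast : ∀ k : ℕ, IsPrimePow k → k % p = 1 → m ≤ k) :
    (∀ (H : Type) [Group H] [Finite H], ¬ Cfsg.IsPClosed p H → min (p * m) (p * (p ^ 2 - 1) / 2) ≤ Nat.card H) ∧
      ∃ (H : Type) (_ : Group H) (_ : Finite H), Nat.card H = min (p * m) (p * (p ^ 2 - 1) / 2) ∧ ¬ Cfsg.IsPClosed p H := by
  refine ⟨fun H _ _ hc => lower hp m hleast _ H le_rfl hc, ?_⟩
  rcases le_total (p * m) (p * (p ^ 2 - 1) / 2) with h | h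
  · rw [min_eq_left h]; exact exists_affine m hm hm1
  · rw [min_eq_right h]; exact exists_psl hp

end Cfsg.Agent.S3875
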