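import Cfsg.Statements.S3878
import Mathlib.GroupTheory.Sylow
import Mathlib.GroupTheory.Nilpotent
import Mathlib.GroupTheory.Perm.Closure
import Mathlib.GroupTheory.Perm.Cycle.Type
import Mathlib.GroupTheory.SpecificGroups.Alternating
import Mathlib.GroupTheory.SpecificGroups.Alternating.Simple
import Mathlib.GroupTheory.SpecificGroups.Cyclic
import Mathlib.Data.Nat.Factorization.Basic

set_option autoImplicit false
open Cfsg

namespace Cfsg.Agent.S3878

open Subgroup Equiv

/-- A transposition lies in every subgroup of odd index up to conjugacy. -/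
theorem exists_swap_mem {n : ℕ} (hn : 2 ≤ n) (H : Subgroup (Perm (Fin n))) (hH : ¬ 2 ∣ H.index) :
    ∃ τ ∈ H, Perm.IsSwap τ := by
  obtain ⟨a, b, hab⟩ : ∃ a b : Fin n, a ≠ b := ⟨⟨0, by omega⟩, ⟨1, by omega⟩, by simp [Fin.ext_iff]⟩
  obtain ⟨Q⟩ := (inferInstance : Nonempty (Sylow 2 H))
  have hQ : ¬ 2 ∣ ((Q : Subgroup H).map H.subtype).index := by
    rw [index_map, ker_subtype, sup_bot_eq, range_subtype]
    exact Nat.prime_two.not_dvd_mul Q.not_dvd_index hH
  set S := (Q.isPGroup'.map H.subtype).toSylow hQ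
  have hτ : IsPGroup 2 (zpowers (swap a b)) :=
    IsPGroup.of_card (n := 1) (by rw [Nat.card_zpowers, pow_one]
                                  exact orderOf_eq_prime (by rw [pow_two, swap_mul_self]) (by simp [hab]))
  obtain ⟨T, hT⟩ := hτ.exists_le_sylow
  obtain ⟨g, hg⟩ := MulAction.exists_smul_eq (Perm (Fin n)) T S
  refine ⟨g * swap a b * g⁻¹, ?_, g a, g b, g.injective.ne hab, ?_⟩
  · have h1 : g * swap a b * g⁻¹ ∈ (S : Subgroup _) := by
      rw [← hg]
      exact ⟨swap a b, hT (mem_zpowers _), rfl⟩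
    exact map_subtype_le _ h1
  · rw [swap_apply_apply]

/-- A permutation of prime order on that many points is a cycle moving all of them. -/
theorem prime_cycle {q : ℕ} (hq : q.Prime) {σ : Perm (Fin q)} (hσ : orderOf σ = q) :
    σ.IsCycle ∧ σ.support = Finset.univ ∧ ∀ x y : Fin q, ∃ i : ℕ, (σ ^ i) x = y := by
  have hc : σ.IsCycle := Perm.isCycle_of_prime_order'' (by simpa using hq) (by simpa using hσ)
  have hs : σ.support = Finset.univ := by
    apply Finset.eq_univ_of_card
    rw [← hc.orderOf, hσ, Fintype.card_fin]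
  refine ⟨hc, hs, fun x y => ?_⟩
  exact hc.exists_pow_eq (Perm.mem_support.mp (hs ▸ Finset.mem_univ x))
    (Perm.mem_support.mp (hs ▸ Finset.mem_univ y))

/-- Case I: `2, q ∈ π`, `r ∉ π`, `r < q`. -/
theorem case_two {π : Set ℕ} (h2 : 2 ∈ π) {q r : ℕ} (hq : q.Prime) (hqπ : q ∈ π) (hr : r.Prime)
    (hrπ : r ∉ π) (hrq : r < q) : ¬ Cfsg.IsEPiGroup π (Perm (Fin q)) := by
  rintro ⟨H, hH1, hH2⟩
  haveI := Fact.mk hq
  have hG : Nat.card (Perm (Fin q)) = q.factorial := by rw [Nat.card_perm, Nat.card_fin]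
  have hqH : q ∣ Nat.card H := by
    have h1 : q ∣ Nat.card H * H.index := by
      rw [card_mul_index, hG]; exact Nat.dvd_factorial hq.pos le_rfl
    exact (hq.dvd_mul.mp h1).resolve_right (hH2 q hq hqπ)
  obtain ⟨σ, hσ⟩ := exists_prime_orderOf_dvd_card' (G := H) q hqH
  obtain ⟨hc, hs, -⟩ := prime_cycle hq (σ := (σ : Perm (Fin q))) (by rw [Subgroup.orderOf_coe, hσ])
  obtain ⟨τ, hτ, hsw⟩ := exists_swap_mem hq.two_le H (hH2 2 Nat.prime_two h2)
  have htop : H = ⊤ := by
    rw [eq_top_iff, ← Perm.closure_prime_cycle_swap (by simpa using hq) hc hs hsw, closure_le]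
    rintro x (rfl | rfl)
    exacts [σ.2, hτ]
  refine hrπ (hH1 r hr ?_)
  rw [htop, Subgroup.card_top, hG]
  exact Nat.dvd_factorial hr.pos hrq.le

/-- Case II: `2, 3 ∈ π`, `r` the least prime outside. -/
theorem case_two_three {π : Set ℕ} {r : ℕ} (hr : r.Prime) (hr5 : 5 ≤ r) (hrπ : r ∉ π)
    (hsmall : ∀ s, s.Prime → s < r → s ∈ π) : ¬ Cfsg.IsEPiGroup π (Perm (Fin (r + 1))) := by
  rintro ⟨H, hH1, hH2⟩
  have hG : Nat.card (Perm (Fin (r + 1))) = (r + 1).factorial := by rw [Nat.card_perm, Nat.card_fin]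
  have hrH : ¬ r ∣ Nat.card H := fun h => hrπ (hH1 r hr h)
  have hidxdvd : H.index ∣ r := by
    obtain ⟨e, he⟩ : ∃ e, H.index = r ^ e := by
      refine ⟨_, Nat.eq_prime_pow_of_unique_prime_dvd Subgroup.index_ne_zero_of_finite fun {d} hd hdvd => ?_⟩
      by_contra hne
      have hle : d ≤ r + 1 := by
        have := hdvd.trans (index_dvd_card H)
        rw [hG] at this
        exact (hd.dvd_factorial).mp this
      rcases Nat.lt_or_ge d r with h | h
      · exact hH2 d hd (hsmall d hd h) hdvd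
      · have : d = r + 1 := by omega
        rcases hd.eq_two_or_odd' with h2 | ⟨k, hk⟩
        · omega
        · obtain ⟨j, hj⟩ := hr.eq_two_or_odd'.resolve_left (by omega)
          omega
    rw [he]
    rcases Nat.lt_or_ge e 2 with h | h
    · exact (pow_dvd_pow r (show e ≤ 1 by omega)).trans (by rw [pow_one])
    · exfalso
      have h1 : r ^ 2 ∣ (r + 1).factorial := by
        rw [← hG]; exact ((pow_dvd_pow r h).trans (he ▸ index_dvd_card H))
      rw [Nat.factorial_succ, pow_two] at h1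
      have h2 : r * r ∣ r.factorial := by
        refine (Nat.Coprime.mul_left ?_ ?_).dvd_of_dvd_mul_left h1 <;>
          exact (hr.coprime_iff_not_dvd.mpr fun hd => hr.one_lt.ne' (Nat.eq_one_of_dvd_one
            (by simpa using Nat.dvd_sub hd dvd_rfl)))
      obtain ⟨s, rfl⟩ := Nat.exists_eq_add_of_le' hr.one_le
      rw [Nat.factorial_succ] at h2
      have h3 := Nat.dvd_of_mul_dvd_mul_left (Nat.succ_pos s) h2
      have := (hr.dvd_factorial).mp h3
      omega
  rcases (Nat.dvd_prime hr).mp hidxdvd with h | h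
  · refine hrH ?_
    have h2 := card_mul_index H
    rw [h, mul_one, hG] at h2
    rw [h2]
    exact Nat.dvd_factorial hr.pos (by omega)
  · haveI : IsSimpleGroup (alternatingGroup (Fin (r + 1))) :=
      alternatingGroup.isSimpleGroup (by simp; omega)
    haveI : Nontrivial (Fin (r + 1)) := ⟨⟨0, 1, by simp [Fin.ext_iff]; omega⟩⟩
    set K := H.subgroupOf (alternatingGroup (Fin (r + 1)))
    haveI hN : K.normalCore.Normal := inferInstance
    rcases hN.eq_bot_or_eq_top with hb | ht
    · have h1 : K.normalCore.index ≤ K.index.factorial := by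
        classical
        haveI := Fintype.ofFinite (↥(alternatingGroup (Fin (r + 1))) ⧸ K)
        rw [normalCore_eq_ker K, index_ker]
        refine (Nat.card_le_card_of_injective _ Subtype.val_injective).trans ?_
        rw [Nat.card_perm, index_eq_card]
      rw [hb, index_bot, nat_card_alternatingGroup, Nat.card_fin] at h1
      have h2 : K.index ≤ r := by
        have h3 : H.relIndex (alternatingGroup (Fin (r + 1))) ≤ H.relIndex ⊤ :=
          relIndex_le_of_le_right le_top (by simp [Subgroup.index_ne_zero_of_finite])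
        rw [relIndex_top_right, h] at h3
        exact h3
      have h4 := h1.trans (Nat.factorial_le h2)
      rw [Nat.factorial_succ] at h4
      have h5 : 3 * r.factorial ≤ (r + 1) * r.factorial / 2 := by
        rw [Nat.le_div_iff_mul_le two_pos]
        have := Nat.factorial_pos r
        nlinarith
      have := Nat.factorial_pos r
      omega
    · have hle : alternatingGroup (Fin (r + 1)) ≤ H :=
        subgroupOf_eq_top.mp (top_le_iff.mp (ht.ge.trans K.normalCore_le))
      have h2 := index_dvd_of_le hle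
      rw [alternatingGroup.index_eq_two, h] at h2
      have := Nat.le_of_dvd two_pos h2
      omega

/-- Normalisers grow in `p`-subgroups. -/
theorem lt_inf_normalizer {H : Type*} [Group H] [Finite H] {p : ℕ} [Fact p.Prime] {D S : Subgroup H}
    (hS : IsPGroup p S) (hlt : D < S) : D < S ⊓ normalizer (D : Set H) := by
  haveI := hS.isNilpotent
  have hne : D.subgroupOf S < ⊤ := lt_top_iff_ne_top.mpr fun h => hlt.not_ge (subgroupOf_eq_top.mp h)
  obtain ⟨y, hy, hyD⟩ := SetLike.exists_of_lt ((normalizerCondition_of_isNilpotent (G := S)) _ hne)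
  refine lt_of_le_of_ne (le_inf hlt.le le_normalizer) fun h => hyD ?_
  change (y : H) ∈ D
  rw [h]
  refine ⟨y.2, ?_⟩
  change (y : H) ∈ normalizer (D : Set H)
  rw [mem_normalizer_iff]
  intro x
  constructor
  · intro hx
    exact (mem_normalizer_iff.mp hy ⟨x, hlt.le hx⟩).mp hx
  · intro hx
    have hxS : x ∈ S := by
      have := S.mul_mem (S.mul_mem (S.inv_mem y.2) (hlt.le hx)) y.2
      simpa [mul_assoc] using this
    exact (mem_normalizer_iff.mp hy ⟨x, hxS⟩).mpr hx

/-- Case III: `2 ∉ π`, `p < q` the two least members. -/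
theorem case_odd {π : Set ℕ} {p q : ℕ} (hp : p.Prime) (hq : q.Prime) (hp2 : p ≠ 2) (hpq : p < q)
    (hpπ : p ∈ π) (hqπ : q ∈ π) (hmin : ∀ s, s.Prime → s ∈ π → s < q → s = p) :
    ¬ Cfsg.IsEPiGroup π (Perm (Fin q)) := by
  rintro ⟨H, hH1, hH2⟩
  haveI := Fact.mk hq
  haveI := Fact.mk hp
  have hG : Nat.card (Perm (Fin q)) = q.factorial := by rw [Nat.card_perm, Nat.card_fin]
  set a := q.factorial.factorization p with ha
  have hpart : ∀ s, s.Prime → s ∈ π →
      (Nat.card H).factorization s = q.factorial.factorization s := fun s hs hsπ => by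
    rw [← hG, ← card_mul_index H, Nat.factorization_mul Nat.card_pos.ne' Subgroup.index_ne_zero_of_finite,
      Finsupp.add_apply, Nat.factorization_eq_zero_of_not_dvd (hH2 s hs hsπ), add_zero]
  have ha0 : a ≠ 0 := (hp.factorization_pos_of_dvd q.factorial_ne_zero
    (Nat.dvd_factorial hp.pos hpq.le)).ne'
  have hq1 : q.factorial.factorization q = 1 := by
    obtain ⟨s, rfl⟩ := Nat.exists_eq_add_of_le' hq.one_le
    rw [Nat.factorial_succ, Nat.factorization_mul (Nat.succ_ne_zero _) s.factorial_ne_zero,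
      Finsupp.add_apply, Nat.factorization_eq_zero_of_not_dvd (n := s.factorial)
        (fun h => by have := (hq.dvd_factorial).mp h; omega)]
    simp [hq.factorization_self]
  have hH : Nat.card H = p ^ a * q := by
    apply Nat.eq_of_factorization_eq Nat.card_pos.ne' (mul_ne_zero (pow_ne_zero _ hp.ne_zero) hq.ne_zero)
    intro s
    rw [Nat.factorization_mul (pow_ne_zero _ hp.ne_zero) hq.ne_zero, Finsupp.add_apply,
      hp.factorization_pow, hq.factorization, Finsupp.single_apply, Finsupp.single_apply]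
    by_cases hsp : s = p
    · subst hsp
      rw [if_pos rfl, if_neg (by omega), hpart s hp hpπ, add_zero, ha]
    by_cases hsq : s = q
    · subst hsq
      rw [if_neg (by omega), if_pos rfl, hpart s hq hqπ, hq1]
    rw [if_neg (Ne.symm hsp), if_neg (Ne.symm hsq)]
    by_cases hs : s.Prime
    · apply Nat.factorization_eq_zero_of_not_dvd
      intro hd
      have hle : s ≤ q := (hs.dvd_factorial).mp (hG ▸ hd.trans (card_subgroup_dvd_card H))
      exact hsp (hmin s hs (hH1 s hs hd) (lt_of_le_of_ne hle hsq))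
    · exact Nat.factorization_eq_zero_of_not_prime _ hs
  obtain ⟨σ, hσ⟩ := exists_prime_orderOf_dvd_card' (G := H) q (hH ▸ dvd_mul_left q _)
  -- transitivity of elements of order q, and fixed points of p-subgroups
  have htrans : ∀ τ : H, orderOf τ = q → ∀ x y : Fin q, ∃ i : ℕ, ((τ ^ i : H) : Perm (Fin q)) x = y := by
    intro τ hτ x y
    obtain ⟨-, -, ht⟩ := prime_cycle hq (σ := (τ : Perm (Fin q))) (by rw [Subgroup.orderOf_coe, hτ])
    obtain ⟨i, hi⟩ := ht x y
    exact ⟨i, by rw [coe_pow]; exact hi⟩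
  have hfix : ∀ P : Subgroup H, IsPGroup p P → ∃ x : Fin q, ∀ g ∈ P, (g : Perm (Fin q)) x = x := by
    intro P hP
    obtain ⟨x, hx⟩ := hP.nonempty_fixed_point_of_prime_not_dvd_card (α := Fin q)
      (by rw [Nat.card_fin]; exact fun h => hpq.ne ((Nat.prime_dvd_prime_iff_eq hp hq).mp h))
    exact ⟨x, fun g hg => hx ⟨g, hg⟩⟩
  -- no q-element normalises a non-trivial p-subgroup
  have hnonorm : ∀ D : Subgroup H, IsPGroup p D → ∀ τ : H, orderOf τ = q →
      τ ∈ normalizer (D : Set H) → D = ⊥ := by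
    intro D hD τ hτ hτD
    obtain ⟨x, hx⟩ := hfix D hD
    rw [eq_bot_iff]
    intro g hg
    rw [mem_bot]
    apply Subtype.ext
    rw [coe_one]
    ext1 y
    obtain ⟨i, hi⟩ := htrans τ hτ x y
    have h1 := hx _ ((mem_normalizer_iff''.mp (pow_mem hτD i) g).mp hg)
    rw [coe_mul, coe_mul, coe_inv, Perm.mul_apply, Perm.mul_apply, hi] at h1
    have h2 := congrArg ((τ ^ i : H) : Perm (Fin q)) h1
    rw [Perm.coe_inv, Equiv.apply_symm_apply, hi] at h2
    exact h2
  set Q := zpowers σ
  by_cases hQn : Q.Normal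
  · haveI := hQn
    have hker : (MulAut.conjNormal : H →* MulAut Q).ker ≤ Q := by
      intro g hg
      have hcm : Commute g σ := by
        have h1 : MulAut.conjNormal g (⟨σ, mem_zpowers σ⟩ : Q) = ⟨σ, mem_zpowers σ⟩ := by
          rw [(hg : MulAut.conjNormal g = 1)]; rfl
        have h2 := congrArg Subtype.val h1
        rw [MulAut.conjNormal_apply] at h2
        exact mul_inv_eq_iff_eq_mul.mp h2
      obtain ⟨i, hi⟩ := htrans σ hσ ⟨0, hq.pos⟩ ((g : Perm (Fin q)) ⟨0, hq.pos⟩)
      have : g = σ ^ i := by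
        apply Subtype.ext
        ext1 y
        obtain ⟨j, hj⟩ := htrans σ hσ ⟨0, hq.pos⟩ y
        have e1 : ((g * σ ^ j : H) : Perm (Fin q)) ⟨0, hq.pos⟩ = ((σ ^ j * σ ^ i : H) : Perm (Fin q)) ⟨0, hq.pos⟩ := by
          rw [(hcm.pow_right j).eq, coe_mul, coe_mul, Perm.mul_apply, Perm.mul_apply, hi]
        rw [pow_mul_comm, coe_mul, coe_mul, Perm.mul_apply, Perm.mul_apply, hj] at e1
        exact e1
      exact this ▸ pow_mem (mem_zpowers σ) i
    have h1 : Nat.card (MulAut Q) = q - 1 := by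
      rw [IsCyclic.card_mulAut, Nat.card_zpowers, hσ, Nat.totient_prime hq]
    have h2 : p ^ a ∣ q - 1 := by
      rw [← h1]
      refine dvd_trans ?_ (card_subgroup_dvd_card (MulAut.conjNormal : H →* MulAut Q).range)
      rw [← index_ker]
      refine dvd_trans ?_ (index_dvd_of_le hker)
      have h3 := card_mul_index Q
      rw [Nat.card_zpowers, hσ, hH, mul_comm (p ^ a)] at h3
      rw [Nat.eq_of_mul_eq_mul_left hq.pos h3]
    obtain ⟨b, m, hm, hbm⟩ := Nat.exists_eq_pow_mul_and_not_dvd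
      (show q - 1 ≠ 0 by have := hq.two_le; omega) p hp.ne_one
    have hab : a ≤ b := by
      have := (hp.pow_dvd_iff_le_factorization (by have := hq.two_le; omega)).mp h2
      rwa [hbm, Nat.factorization_mul (pow_ne_zero _ hp.ne_zero) (show m ≠ 0 by rintro rfl; exact hm (dvd_zero p)),
        Finsupp.add_apply, hp.factorization_pow, Finsupp.single_eq_same,
        Nat.factorization_eq_zero_of_not_dvd hm, add_zero] at this
    have hm2 : 2 ≤ m := by
      by_contra h
      have h1 : m = 1 := by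
        rcases Nat.eq_zero_or_pos m with h0 | h0
        · subst h0; exact absurd (dvd_zero p) hm
        · omega
      have hodd : Odd (q - 1) := by
        rw [hbm, h1, mul_one]; exact ((hp.odd_of_ne_two hp2)).pow
      obtain ⟨k, hk⟩ := hodd
      obtain ⟨j, hj⟩ := hq.odd_of_ne_two (by have := hp.two_le; omega)
      omega
    have hbig : p ^ (2 * b) ∣ q.factorial := by
      obtain ⟨s, hs⟩ := Nat.exists_eq_add_of_le (show 2 ≤ q from hq.two_le)
      subst hs
      rw [show (2 + s - 1) = s + 1 by omega] at hbm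
      have hb1 : p ^ b * 2 ≤ s + 1 := by rw [hbm]; exact Nat.mul_le_mul_left _ hm2
      have hb2 : 1 ≤ p ^ b := Nat.one_le_pow _ _ hp.pos
      have d1 : p ^ b ∣ s.factorial := Nat.dvd_factorial hb2 (by omega)
      have d2 : p ^ b ∣ s + 1 := hbm ▸ dvd_mul_right _ _
      rw [show 2 + s = (s + 1) + 1 by omega, Nat.factorial_succ, Nat.factorial_succ, two_mul, pow_add]
      exact dvd_mul_of_dvd_right (Nat.mul_dvd_mul d2 d1) _
    have := (hp.pow_dvd_iff_le_factorization q.factorial_ne_zero).mp hbig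
    omega
  · obtain ⟨P⟩ := (inferInstance : Nonempty (Sylow p H))
    have hcardP : ∀ R : Sylow p H, Nat.card (R : Subgroup H) = p ^ a := fun R => by
      rw [R.card_eq_multiplicity, hpart p hp hpπ]
    have hTI : ∀ R S : Sylow p H, R ≠ S → (R : Subgroup H) ⊓ (S : Subgroup H) = ⊥ := by
      by_contra hne
      push Not at hne
      obtain ⟨R₀, S₀, hRS₀, hne₀⟩ := hne
      obtain ⟨D, -, hD⟩ := (Set.toFinite {D : Subgroup H | ∃ R S : Sylow p H, R ≠ S ∧
        (R : Subgroup H) ⊓ (S : Subgroup H) = D ∧ D ≠ ⊥}).exists_le_maximal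
          (a := (R₀ : Subgroup H) ⊓ (S₀ : Subgroup H)) ⟨R₀, S₀, hRS₀, rfl, hne₀⟩
      obtain ⟨R, S, hRS, hDeq, hD0⟩ := hD.1
      have hDp : IsPGroup p D := R.isPGroup'.to_le (hDeq ▸ inf_le_left)
      have hN : IsPGroup p (normalizer (D : Set H)) := by
        obtain ⟨e, he⟩ : ∃ e, Nat.card (normalizer (D : Set H)) = p ^ e := by
          refine ⟨_, Nat.eq_prime_pow_of_unique_prime_dvd Nat.card_pos.ne' fun {s} hs hd => ?_⟩
          rcases hs.dvd_mul.mp (hH ▸ hd.trans (card_subgroup_dvd_card _)) with h | h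
          · exact (Nat.prime_dvd_prime_iff_eq hs hp).mp (hs.dvd_of_dvd_pow h)
          · exfalso
            obtain rfl := (Nat.prime_dvd_prime_iff_eq hs hq).mp h
            obtain ⟨τ, hτ⟩ := exists_prime_orderOf_dvd_card' (G := normalizer (D : Set H)) s hd
            exact hD0 (hnonorm D hDp τ (by rw [Subgroup.orderOf_coe, hτ]) τ.2)
        exact IsPGroup.of_card he
      obtain ⟨T, hT⟩ := hN.exists_le_sylow
      have key : ∀ U : Sylow p H, D ≤ (U : Subgroup H) → D ≠ (U : Subgroup H) → U = T := by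
        intro U hle hne
        by_contra hUT
        have h2 : D < (U : Subgroup H) ⊓ (T : Subgroup H) :=
          (lt_inf_normalizer U.isPGroup' (lt_of_le_of_ne hle hne)).trans_le
            (inf_le_inf_left _ hT)
        exact h2.not_ge (hD.2 ⟨U, T, hUT, rfl, fun h => hD0 (le_bot_iff.mp (h ▸ h2.le))⟩ h2.le)
      have hne : ∀ U V : Sylow p H, U ≠ V → (U : Subgroup H) ⊓ (V : Subgroup H) ≠ (U : Subgroup H) :=
        fun U V hUV h => hUV (Sylow.ext (U.3 V.isPGroup' (h ▸ inf_le_right)).symm)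
      exact hRS ((key R (hDeq ▸ inf_le_left) (hDeq ▸ hne R S hRS)).trans
        (key S (hDeq ▸ inf_le_right) (by rw [← hDeq, inf_comm]; exact hne S R (Ne.symm hRS))).symm)
    have hn1 : Nat.card (Sylow p H) ≠ 1 := by
      intro h1
      haveI : Subsingleton (Sylow p H) := (Nat.card_eq_one_iff_unique.mp h1).1
      haveI := Sylow.normal_of_subsingleton P
      have h0 := hnonorm P P.isPGroup' σ hσ (by rw [normalizer_eq_top_iff.mpr inferInstance]; trivial)
      have h2 := hcardP P
      rw [h0, card_bot] at h2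
      exact hp.one_lt.ne' (Nat.eq_one_of_dvd_one (h2 ▸ dvd_pow_self p ha0))
    have hn : Nat.card (Sylow p H) = q := by
      have h1 : (P : Subgroup H).index = q := by
        have h := card_mul_index (P : Subgroup H)
        rw [hcardP P, hH] at h
        exact Nat.eq_of_mul_eq_mul_left (pow_pos hp.pos a) h
      have h2 := P.card_dvd_index
      rw [h1] at h2
      exact ((Nat.dvd_prime hq).mp h2).resolve_left hn1
    apply hQn
    classical
    haveI := Fintype.ofFinite H
    set A := Finset.univ.filter fun g : H => g ≠ 1 ∧ g ^ p ^ a = 1 with hA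
    set B := Finset.univ.filter fun g : H => orderOf g = q with hB
    have hdisj : Disjoint A B := by
      rw [Finset.disjoint_left]
      intro g hg hg'
      simp only [hA, hB, Finset.mem_filter, Finset.mem_univ, true_and] at hg hg'
      have := orderOf_dvd_of_pow_eq_one hg.2
      rw [hg'] at this
      exact hpq.ne' ((Nat.prime_dvd_prime_iff_eq hq hp).mp (hq.dvd_of_dvd_pow this))
    have hAcard : q * (p ^ a - 1) ≤ A.card := by
      haveI := Fintype.ofFinite (Sylow p H)
      let f : (Σ R : Sylow p H, {g : ↥(R : Subgroup H) // g ≠ 1}) → A := fun x =>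
        ⟨((x.2.1 : ↥(x.1 : Subgroup H)) : H), by
          simp only [hA, Finset.mem_filter, Finset.mem_univ, true_and]
          refine ⟨fun h => x.2.2 (Subtype.ext h), ?_⟩
          rw [← coe_pow, ← hcardP x.1, pow_card_eq_one', coe_one]⟩
      have hf : Function.Injective f := by
        rintro ⟨R, ⟨g, hgR⟩, hg⟩ ⟨S, ⟨g', hgS⟩, hg'⟩ h
        have hgg : g = g' := congrArg (fun z : A => (z : H)) h
        subst hgg
        obtain rfl : R = S := by
          by_contra hne
          have : g ∈ (R : Subgroup H) ⊓ (S : Subgroup H) := ⟨hgR, hgS⟩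
          rw [hTI R S hne, mem_bot] at this
          exact hg (Subtype.ext this)
        rfl
      have h1 := Nat.card_le_card_of_injective f hf
      rw [Nat.card_sigma, Nat.card_eq_fintype_card (α := A), Fintype.card_coe] at h1
      refine le_trans (le_of_eq ?_) h1
      have hc : ∀ R : Sylow p H, Nat.card {g : ↥(R : Subgroup H) // g ≠ 1} = p ^ a - 1 := fun R => by
        rw [Nat.card_eq_fintype_card, Fintype.card_subtype_compl, Fintype.card_subtype_eq,
          ← Nat.card_eq_fintype_card, hcardP R]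
      simp only [hc, Finset.sum_const, Finset.card_univ, smul_eq_mul]
      rw [← Nat.card_eq_fintype_card, hn]
    have hsum : A.card + B.card + 1 ≤ p ^ a * q := by
      rw [← hH, Nat.card_eq_fintype_card, ← Finset.card_union_of_disjoint hdisj, ← Finset.card_univ]
      rw [Nat.add_one_le_iff]
      apply Finset.card_lt_card
      rw [Finset.ssubset_univ_iff]
      intro h
      have h1 := h.ge (Finset.mem_univ (1 : H))
      simp [hA, hB, hq.ne_one.symm] at h1
    have hBQ : B = (Finset.univ.filter fun g : H => g ∈ Q ∧ g ≠ 1) := by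
      symm
      apply Finset.eq_of_subset_of_card_le
      · intro g hg
        simp only [Finset.mem_filter, Finset.mem_univ, true_and, hB] at hg ⊢
        have h1 : orderOf g ∣ q := (orderOf_dvd_of_mem_zpowers hg.1).trans (by rw [hσ])
        exact ((Nat.dvd_prime hq).mp h1).resolve_left (fun h => hg.2 (orderOf_eq_one_iff.mp h))
      · have h1 : (Finset.univ.filter fun g : H => g ∈ Q ∧ g ≠ 1).card = q - 1 := by
          have : (Finset.univ.filter fun g : H => g ∈ Q ∧ g ≠ 1) =
              (Finset.univ.filter fun g : H => g ∈ Q).erase 1 := by ext; simp [and_comm]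
          rw [this, Finset.card_erase_of_mem (by simp), ← Fintype.card_subtype]
          congr 1
          exact Nat.card_eq_fintype_card.symm.trans ((Nat.card_zpowers σ).trans hσ)
        rw [h1]
        have h2 : q * (p ^ a - 1) = p ^ a * q - q := by rw [Nat.mul_sub, mul_one, mul_comm]
        have h3 : q ≤ p ^ a * q := Nat.le_mul_of_pos_left _ (pow_pos hp.pos a)
        omega
    refine ⟨fun x hx g => ?_⟩
    by_cases hx1 : x = 1
    · subst hx1; simp
    have h1 : x ∈ B := by rw [hBQ]; simp [hx, hx1]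
    have h2 : g * x * g⁻¹ ∈ B := by
      simp only [hB, Finset.mem_filter, Finset.mem_univ, true_and] at h1 ⊢
      exact (orderOf_injective (MulAut.conj g).toMonoidHom (MulAut.conj g).injective x).trans h1
    rw [hBQ] at h2
    exact (Finset.mem_filter.mp h2).2.1

theorem not_all_epi {π : Set ℕ} {p q r : ℕ} (hp : p.Prime) (hq : q.Prime) (hpq : p ≠ q) (hpπ : p ∈ π)
    (hqπ : q ∈ π) (hr : r.Prime) (hrπ : r ∉ π) :
    ∃ n : ℕ, ¬ Cfsg.IsEPiGroup π (Perm (Fin n)) := by
  classical
  by_cases h2 : 2 ∈ π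
  · obtain ⟨q₁, hq₁, hq₁π, hq₁2⟩ : ∃ q₁, q₁.Prime ∧ q₁ ∈ π ∧ q₁ ≠ 2 := by
      by_cases h : p = 2
      · exact ⟨q, hq, hqπ, fun hq2 => hpq (h.trans hq2.symm)⟩
      · exact ⟨p, hp, hpπ, h⟩
    have hex : ∃ s, s.Prime ∧ s ∉ π := ⟨r, hr, hrπ⟩
    obtain ⟨hr₀, hr₀π⟩ := Nat.find_spec hex
    by_cases hlt : Nat.find hex < q₁
    · exact ⟨q₁, case_two h2 hq₁ hq₁π hr₀ hr₀π hlt⟩
    · refine ⟨Nat.find hex + 1, case_two_three hr₀ ?_ hr₀π fun s hs hsr => ?_⟩
      · have h1 : Nat.find hex ≠ q₁ := fun h => hr₀π (h ▸ hq₁π)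
        have h3 := hq₁.two_le
        have h4 : Nat.find hex ≠ 4 := fun h => by rw [h] at hr₀; exact absurd hr₀ (by decide)
        omega
      · by_contra hc
        exact Nat.find_min hex hsr ⟨hs, hc⟩
  · have hex : ∃ s, s.Prime ∧ s ∈ π := ⟨p, hp, hpπ⟩
    obtain ⟨hp₀, hp₀π⟩ := Nat.find_spec hex
    have hex2 : ∃ s, s.Prime ∧ s ∈ π ∧ s ≠ Nat.find hex := by
      by_cases h : p = Nat.find hex
      · exact ⟨q, hq, hqπ, fun hh => hpq (h.trans hh.symm)⟩
      · exact ⟨p, hp, hpπ, h⟩
    obtain ⟨hq₀, hq₀π, hne⟩ := Nat.find_spec hex2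
    refine ⟨Nat.find hex2, case_odd hp₀ hq₀ (fun h => h2 (h ▸ hp₀π))
      (lt_of_le_of_ne (Nat.find_min' hex ⟨hq₀, hq₀π⟩) (Ne.symm hne)) hp₀π hq₀π fun s hs hsπ hsq => ?_⟩
    by_contra hc
    exact Nat.find_min hex2 hsq ⟨hs, hsπ, hc⟩

theorem epi_of_dpi {π : Set ℕ} {G : Type*} [Group G] [Finite G] (h : Cfsg.IsDPiGroup π G) :
    Cfsg.IsEPiGroup π G := by
  obtain ⟨H, -, hH⟩ := (Set.toFinite {K : Subgroup G | Cfsg.IsPiSubgroup π K}).exists_le_maximal (a := ⊥)
    (fun p hp hd => absurd (card_bot (G := G) ▸ hd) hp.not_dvd_one)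
  refine ⟨H, hH.1, fun p hp hpπ hd => ?_⟩
  haveI := Fact.mk hp
  obtain ⟨P⟩ := (inferInstance : Nonempty (Sylow p G))
  have hPπ : Cfsg.IsPiSubgroup π (P : Subgroup G) := fun s hs hd => by
    rw [P.card_eq_multiplicity] at hd
    exact (Nat.prime_dvd_prime_iff_eq hs hp).mp (hs.dvd_of_dvd_pow hd) ▸ hpπ
  obtain ⟨K, hPK, hK⟩ := (Set.toFinite {K : Subgroup G | Cfsg.IsPiSubgroup π K}).exists_le_maximal hPπ
  obtain ⟨g, hg⟩ := h H K hH hK
  have h1 : Nat.card H = Nat.card K := by
    rw [hg, Subgroup.card_map_of_injective (MulAut.conj g).injective]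
  have h2 : K.index = H.index := by
    have e1 := card_mul_index H
    have e2 := card_mul_index K
    rw [h1] at e1
    exact Nat.eq_of_mul_eq_mul_left Nat.card_pos (e2.trans e1.symm)
  exact P.not_dvd_index ((h2 ▸ hd).trans (index_dvd_of_le hPK))

theorem dpi_of_trivial {π : Set ℕ}
    (h : (∀ p q : ℕ, p.Prime → q.Prime → p ∈ π → q ∈ π → p = q) ∨ ∀ p : ℕ, p.Prime → p ∈ π)
    (G : Type*) [Group G] [Finite G] : Cfsg.IsDPiGroup π G := by
  intro H K hH hK
  rcases h with h | h
  · by_cases hex : ∃ p, p.Prime ∧ p ∈ π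
    · obtain ⟨p, hp, hpπ⟩ := hex
      haveI := Fact.mk hp
      have hiff : ∀ L : Subgroup G, Cfsg.IsPiSubgroup π L ↔ IsPGroup p L := by
        intro L
        constructor
        · intro hL
          exact IsPGroup.of_card (Nat.eq_prime_pow_of_unique_prime_dvd Nat.card_pos.ne'
            fun {s} hs hd => h s p hs hp (hL s hs hd) hpπ)
        · intro hL s hs hd
          obtain ⟨e, he⟩ := IsPGroup.iff_card.mp hL
          rw [he] at hd
          exact (Nat.prime_dvd_prime_iff_eq hs hp).mp (hs.dvd_of_dvd_pow hd) ▸ hpπ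
      have hsyl : ∀ L : Subgroup G, Maximal (Cfsg.IsPiSubgroup π) L → ∃ P : Sylow p G, (P : Subgroup G) = L := by
        intro L hL
        obtain ⟨P, hP⟩ := ((hiff L).mp hL.1).exists_le_sylow
        exact ⟨P, le_antisymm (hL.2 ((hiff _).mpr P.isPGroup') hP) hP⟩
      obtain ⟨P, rfl⟩ := hsyl H hH
      obtain ⟨Q, rfl⟩ := hsyl K hK
      obtain ⟨g, hg⟩ := MulAction.exists_smul_eq G P Q
      exact ⟨g, by rw [← hg]; rfl⟩
    · push Not at hex
      have hbot : ∀ L : Subgroup G, Cfsg.IsPiSubgroup π L → L = ⊥ := by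
        intro L hL
        by_contra hne
        obtain ⟨s, hs, hd⟩ := Nat.exists_prime_and_dvd (show Nat.card L ≠ 1 from fun h1 => hne (card_eq_one.mp h1))
        exact hex s hs (hL s hs hd)
      exact ⟨1, by rw [hbot H hH.1, hbot K hK.1, Subgroup.map_bot]⟩
  · have htop : ∀ L : Subgroup G, Maximal (Cfsg.IsPiSubgroup π) L → L = ⊤ := fun L hL =>
      top_le_iff.mp (hL.2 (fun s hs _ => h s hs) le_top)
    exact ⟨1, by rw [htop H hH, htop K hK, Subgroup.map_top_of_surjective _ (MulAut.conj (1 : G)).surjective]⟩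

theorem result (π : Set ℕ) :
    ((∀ (G : Type) [Group G] [Finite G], Cfsg.IsEPiGroup π G) ↔
      ((∀ p q : ℕ, p.Prime → q.Prime → p ∈ π → q ∈ π → p = q) ∨ ∀ p : ℕ, p.Prime → p ∈ π)) ∧
    ((∀ (G : Type) [Group G] [Finite G], Cfsg.IsDPiGroup π G) ↔
      ((∀ p q : ℕ, p.Prime → q.Prime → p ∈ π → q ∈ π → p = q) ∨ ∀ p : ℕ, p.Prime → p ∈ π)) := by
  have key : (∀ (G : Type) [Group G] [Finite G], Cfsg.IsEPiGroup π G) →
      ((∀ p q : ℕ, p.Prime → q.Prime → p ∈ π → q ∈ π → p = q) ∨ ∀ p : ℕ, p.Prime → p ∈ π) := by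
    intro h
    by_contra hc
    push Not at hc
    obtain ⟨⟨p, q, hp, hq, hpπ, hqπ, hpq⟩, r, hr, hrπ⟩ := hc
    obtain ⟨n, hn⟩ := not_all_epi hp hq hpq hpπ hqπ hr hrπ
    exact hn (h _)
  exact ⟨⟨key, fun h G _ _ => epi_of_dpi (dpi_of_trivial h G)⟩,
    ⟨fun h => key (fun G _ _ => epi_of_dpi (h G)), fun h G _ _ => dpi_of_trivial h G⟩⟩

end Cfsg.Agent.S3878
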