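import Cfsg.Statements.S3880
import Cfsg.Agent.MetacyclicP.Extra

set_option autoImplicit false
open Cfsg Subgroup Cfsg.Agent.MetacyclicP

namespace Cfsg.Agent.S3880

/-- Let p be an odd prime and G a finite metacyclic p-group (G has a cyclic normal subgroup with cyclic quotient). Then a subgroup L of G is abelian if and only if |L| ≤ |G : G'|, and L is a maximal abelian subgroup of G if and only if |L| = |G : G'|. -/
theorem result {G : Type*} [Group G] [Finite G] {p : ℕ} [Fact p.Prime] (hp : p ≠ 2) (hG : IsPGroup p G) (hmc : Cfsg.IsMetacyclic G) (L : Subgroup G) :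
    (IsMulCommutative ↥L ↔ Nat.card ↥L ≤ (commutator G).index) ∧
      (Maximal (fun K : Subgroup G => IsMulCommutative ↥K) L ↔ Nat.card ↥L = (commutator G).index) := by
  obtain ⟨D⟩ := exists_data hG hmc
  have key : ∀ L : Subgroup G, Nat.card L ≤ (_root_.commutator G).index → IsMulCommutative ↥L := by
    intro L h
    by_contra hna
    rw [isMulCommutative_iff D hp] at hna
    have hbig : p ^ D.n < Nat.card (img D hp L) := by
      by_contra hle
      exact hna ((Box.isotropic_iff_card _).mpr (not_lt.mp hle))
    have hZ : center G ≤ L := center_le_of_not_isotropic D hp L hna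
    have hc : Nat.card L = Nat.card (center G) * Nat.card (img D hp L) := by
      conv_lhs => rw [eq_pre_img D hp hZ]
      exact card_pre D hp _
    rw [index_commutator D hp, hc] at h
    exact absurd (Nat.le_of_mul_le_mul_left h Nat.card_pos) (not_le.mpr hbig)
  refine ⟨⟨abelian_card_le D hp, key L⟩, fun h => ?_, fun h => ?_⟩
  · exact card_of_maximal_abelian D hp h
  · refine ⟨key L h.le, fun K hK hLK => ?_⟩
    exact (Subgroup.eq_of_le_of_card_ge hLK ((abelian_card_le D hp hK).trans h.ge)).ge

end Cfsg.Agent.S3880
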