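import Cfsg.Statements.S3881
import Cfsg.Agent.MetacyclicP.Extra

set_option autoImplicit false
open Cfsg Subgroup Cfsg.Agent.MetacyclicP

namespace Cfsg.Agent.S3881

/-- Let p be an odd prime and G a finite metacyclic p-group (G has a cyclic normal subgroup with cyclic quotient). Suppose G is non-abelian with |G'| = p^n. Then for 1 ≤ i ≤ n the number of elements of G whose conjugacy class has exactly p^i elements is |Z(G)| · (p^(2i) − p^(2i−2)). -/
theorem result {G : Type*} [Group G] [Finite G] {p : ℕ} [Fact p.Prime] (hp : p ≠ 2) (hG : IsPGroup p G) (hmc : Cfsg.IsMetacyclic G) (n : ℕ) (hn : n ≠ 0) (hGn : Nat.card ↥(commutator G) = p ^ n) (i : ℕ) (hi : 1 ≤ i) (hin : i ≤ n) :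
    Nat.card {g : G // (Subgroup.centralizer ({g} : Set G)).index = p ^ i} =
      Nat.card ↥(Subgroup.center G) * (p ^ (2 * i) - p ^ (2 * i - 2)) := by
  obtain ⟨D⟩ := exists_data hG hmc
  have hDn : D.n = n := Nat.pow_right_injective (Fact.out : p.Prime).two_le
    (show p ^ D.n = p ^ n by rw [← card_commutator D, hGn])
  subst hDn
  have hiff : ∀ g : G, (Subgroup.centralizer ({g} : Set G)).index = p ^ i ↔
      phi D g ∈ ((Box.level p D.n (D.n - i) : Set (Plane D)) \ Box.level p D.n (D.n - i + 1)) := by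
    intro g
    obtain ⟨c, h1, h2, h3⟩ := index_centralizer_spec D hp g
    rw [h2, Set.mem_diff, SetLike.mem_coe, SetLike.mem_coe, h3 _ (Nat.sub_le _ _),
      h3 _ (by omega : D.n - i + 1 ≤ D.n)]
    constructor
    · intro h
      have := Nat.pow_right_injective (Fact.out : p.Prime).two_le h
      omega
    · rintro ⟨h4, h5⟩
      congr 1
      omega
  rw [Nat.card_congr (Equiv.subtypeEquivRight hiff), card_preimage D hp, Nat.card_coe_set_eq,
    Set.ncard_sdiff (fun v hv => ?_) (Set.toFinite _), ← Nat.card_coe_set_eq, ← Nat.card_coe_set_eq,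
    SetLike.coe_sort_coe, SetLike.coe_sort_coe, Box.card_level (Nat.sub_le _ _),
    Box.card_level (show D.n - i + 1 ≤ D.n by omega)]
  · congr 3 <;> omega
  · obtain ⟨h1, h2⟩ := Box.mem_level.mp hv
    exact Box.mem_level.mpr ⟨(pow_dvd_pow _ (by omega)).trans h1, (pow_dvd_pow _ (by omega)).trans h2⟩

end Cfsg.Agent.S3881
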