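import Cfsg.Statements.S3882
import Cfsg.Agent.MetacyclicP.Extra

set_option autoImplicit false
open Cfsg Subgroup Cfsg.Agent.MetacyclicP

namespace Cfsg.Agent.S3882

/-- Let p be an odd prime and G a finite metacyclic p-group (G has a cyclic normal subgroup with cyclic quotient). Suppose |G'| = p^n and 0 ≤ s ≤ n. Then an element g lies in the subgroup generated by the p^s-th powers if and only if its conjugacy class has at most p^(n−s) elements; in particular the subgroup generated by the p^n-th powers is the center of G. -/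
theorem result {G : Type*} [Group G] [Finite G] {p : ℕ} [Fact p.Prime] (hp : p ≠ 2) (hG : IsPGroup p G) (hmc : Cfsg.IsMetacyclic G) (n : ℕ) (hGn : Nat.card ↥(commutator G) = p ^ n) (s : ℕ) (hs : s ≤ n) (g : G) :
    (g ∈ Subgroup.closure {x : G | ∃ y : G, y ^ p ^ s = x} ↔ (Subgroup.centralizer ({g} : Set G)).index ≤ p ^ (n - s)) ∧
      Subgroup.closure {x : G | ∃ y : G, y ^ p ^ n = x} = Subgroup.center G := by
  obtain ⟨D⟩ := exists_data hG hmc
  have hDn : D.n = n := Nat.pow_right_injective (Fact.out : p.Prime).two_le
    (show p ^ D.n = p ^ n by rw [← card_commutator D, hGn])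
  subst hDn
  refine ⟨?_, ?_⟩
  · rw [centralizer_index_le_iff D hp g hs, powers_eq D hp hs, mem_pre]
  · rw [powers_eq D hp le_rfl]
    ext x
    rw [mem_pre, ← phi_eq_zero_iff D hp, Box.mem_level, natCast_pow_eq_zero, zero_dvd_iff,
      zero_dvd_iff, Prod.ext_iff]
    exact and_comm

end Cfsg.Agent.S3882
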