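import Cfsg.Statements.S3883
import Cfsg.Agent.MetacyclicP.Extra

set_option autoImplicit false
open Cfsg Subgroup Cfsg.Agent.MetacyclicP

namespace Cfsg.Agent.S3883

/-- Let p be an odd prime and G a finite metacyclic p-group (G has a cyclic normal subgroup with cyclic quotient). Suppose G is non-abelian. Then an element g of G lies outside the Frattini subgroup if and only if its centralizer C_G(g) is abelian. -/
theorem result {G : Type*} [Group G] [Finite G] {p : ℕ} [Fact p.Prime] (hp : p ≠ 2) (hG : IsPGroup p G) (hmc : Cfsg.IsMetacyclic G) (hna : ¬ IsMulCommutative G) (g : G) :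
    g ∉ frattini G ↔ IsMulCommutative ↥(Subgroup.centralizer ({g} : Set G)) := by
  obtain ⟨D⟩ := exists_data hG hmc
  have hn := n_pos_of_not_commutative D hp hna
  rw [mem_frattini_iff D hp hn g, centralizer_singleton_eq D hp, isMulCommutative_pre_iff D hp,
    Box.isotropic_iff_card]
  obtain ⟨c, h1, h2, h3⟩ := Box.span_singleton_structure (phi D g)
  have h4 := Box.card_mul_card_perp (Submodule.span (Coord D) {phi D g})
  have h5 : Nat.card (Box.perp (Submodule.span (Coord D) {phi D g} : Set (Plane D))) = p ^ (D.n + c) := by
    rw [h2] at h4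
    apply Nat.eq_of_mul_eq_mul_left (pow_pos (Fact.out : p.Prime).pos (D.n - c))
    rw [h4, ← pow_add]
    congr 1
    omega
  rw [h5, Nat.pow_le_pow_iff_right (Fact.out : p.Prime).one_lt, h3 1 (by omega)]
  omega

end Cfsg.Agent.S3883
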