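import Cfsg.Statements.S3886
import Cfsg.Agent.MetacyclicP.Extra

set_option autoImplicit false
open Cfsg Subgroup Cfsg.Agent.MetacyclicP

namespace Cfsg.Agent.S3886

/-- Let p be an odd prime and G a finite metacyclic p-group (G has a cyclic normal subgroup with cyclic quotient). Then the largest value of |R| · |Z(R)| over subgroups R of G is |G : G'|², and the subgroups attaining it (the centrally large subgroups) are exactly the non-abelian subgroups together with the maximal abelian subgroups of G. -/
theorem result {G : Type*} [Group G] [Finite G] {p : ℕ} [Fact p.Prime] (hp : p ≠ 2) (hG : IsPGroup p G) (hmc : Cfsg.IsMetacyclic G) : Cfsg.maxCentralProduct G = (commutator G).index ^ 2 ∧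
    ∀ R : Subgroup G, Cfsg.IsCentrallyLarge R ↔ (¬ IsMulCommutative ↥R ∨ Maximal (fun K : Subgroup G => IsMulCommutative ↥K) R) := by
  obtain ⟨D⟩ := exists_data hG hmc
  have htot : Nat.card G * Nat.card (Subgroup.center G) = (_root_.commutator G).index ^ 2 := by
    rw [index_commutator D hp, card_group D hp]; ring
  have hle : ∀ S : Subgroup G,
      Nat.card S * Nat.card (Subgroup.center ↥S) ≤ (_root_.commutator G).index ^ 2 := by
    intro S
    rw [card_center_subgroup S, ← htot]
    exact (Nat.mul_le_mul_left _ (Subgroup.card_le_of_le inf_le_right)).trans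
      (card_mul_card_centralizer D hp S).1
  have hiff : ∀ S : Subgroup G,
      Nat.card S * Nat.card (Subgroup.center ↥S) = (_root_.commutator G).index ^ 2 ↔
        (¬ IsMulCommutative ↥S ∨ Maximal (fun K : Subgroup G => IsMulCommutative ↥K) S) := by
    intro S
    rw [card_center_subgroup S, ← htot]
    constructor
    · intro h
      by_cases hab : IsMulCommutative ↥S
      · right
        rw [inf_eq_left.mpr (Subgroup.le_centralizer_iff_isMulCommutative.mpr hab), htot, sq,
          Nat.mul_self_inj] at h
        exact ⟨hab, fun K hK hSK =>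
          (Subgroup.eq_of_le_of_card_ge hSK ((abelian_card_le D hp hK).trans h.ge)).ge⟩
      · exact Or.inl hab
    · rintro (hna | hmax)
      · rw [isMulCommutative_iff D hp] at hna
        have hZ := center_le_of_not_isotropic D hp S hna
        have hC : Subgroup.centralizer (S : Set G) ≤ S := by
          rw [centralizer_eq D hp S]
          conv_rhs => rw [eq_pre_img D hp hZ]
          exact fun g hg => Box.perp_le_of_not_isotropic _ hna hg
        rw [inf_eq_right.mpr hC]
        exact (card_mul_card_centralizer D hp S).2.mpr hZ
      · rw [inf_eq_left.mpr (Subgroup.le_centralizer_iff_isMulCommutative.mpr hmax.1),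
          card_of_maximal_abelian D hp hmax, htot, sq]
  have hmaxv : Cfsg.maxCentralProduct G = (_root_.commutator G).index ^ 2 := by
    obtain ⟨L, -, hL⟩ := (Set.toFinite {K : Subgroup G | IsMulCommutative ↥K}).exists_le_maximal
      (a := ⊥) (by simpa using (inferInstance : IsMulCommutative (⊥ : Subgroup G)))
    apply IsGreatest.csSup_eq
    exact ⟨⟨L, (hiff L).mpr (Or.inr hL)⟩, fun k ⟨S, hS⟩ => hS ▸ hle S⟩
  exact ⟨hmaxv, fun S => by rw [Cfsg.IsCentrallyLarge, hmaxv]; exact hiff S⟩

end Cfsg.Agent.S3886
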