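import Cfsg.Statements.S3890
import Cfsg.Agent.FG38.NilpotentCover
-- import your own Cfsg.Agent.* helpers here

set_option autoImplicit false
open Cfsg

namespace Cfsg.Agent.S3890

/-- A cover of a group is a finite set of proper subgroups whose union is the whole group; it is minimal when no cover has fewer members, and nilpotent when all its members are nilpotent. Let G be a finite group with trivial center admitting a nilpotent minimal cover 𝓐, and let P be an abelian Sylow p-subgroup of G that is not normal. Then either P is elementary abelian of order greater than p, or P is a Sylow p-subgroup of some member A of 𝓐, the normalizer N of P is a maximal subgroup of G, N meets each of its conjugates by elements outside N in a subgroup of order prime to p, and the centralizer of P equals A. -/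
theorem result {G : Type*} [Group G] [Finite G] (hZ : Subgroup.center G = ⊥) (𝓐 : Finset (Subgroup G))
    (h𝓐 : ((∀ A ∈ 𝓐, A ≠ ⊤) ∧ (∀ g : G, ∃ A ∈ 𝓐, g ∈ A)) ∧ (∀ 𝓑 : Finset (Subgroup G), (∀ A ∈ 𝓑, A ≠ ⊤) ∧ (∀ g : G, ∃ A ∈ 𝓑, g ∈ A) → 𝓐.card ≤ 𝓑.card) ∧ (∀ A ∈ 𝓐, Group.IsNilpotent ↥A)) {p : ℕ} [Fact p.Prime] (P : Sylow p G) (hab : IsMulCommutative ↥(P : Subgroup G))
    (hnn : ¬ (P : Subgroup G).Normal) :
    (Cfsg.IsElementaryAbelian p (P : Subgroup G) ∧ p < Nat.card ↥(P : Subgroup G)) ∨
    (∃ A ∈ 𝓐, (P : Subgroup G) ≤ A ∧ ¬ p ∣ ((P : Subgroup G).subgroupOf A).index ∧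
      IsCoatom (Subgroup.normalizer ((P : Subgroup G) : Set G)) ∧
      (∀ g : G, g ∉ Subgroup.normalizer ((P : Subgroup G) : Set G) →
        ¬ p ∣ Nat.card ↥(Subgroup.normalizer ((P : Subgroup G) : Set G) ⊓
          (Subgroup.normalizer ((P : Subgroup G) : Set G)).map (MulAut.conj g).toMonoidHom)) ∧
      Subgroup.centralizer ((P : Subgroup G) : Set G) = A) := by
  have hab' : ∀ Q : Sylow p G, IsMulCommutative ↥(Q : Subgroup G) := fun Q =>
    ⟨⟨fun a b => (Sylow.equiv Q P).injective (by rw [map_mul, map_mul]; exact @mul_comm' _ _ hab _ _)⟩⟩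
  by_cases h1 : Cfsg.IsElementaryAbelian p (P : Subgroup G) ∧ p < Nat.card ↥(P : Subgroup G)
  · exact Or.inl h1
  refine Or.inr ?_
  have hbig : FG38.IsBigPGroup p (P : Subgroup G) := by
    by_cases hx : ∃ x ∈ (P : Subgroup G), x ^ p ≠ 1
    · exact Or.inr hx
    push Not at hx
    have hle : Nat.card ↥(P : Subgroup G) ≤ p := not_lt.mp fun hlt => h1 ⟨⟨hab, hx⟩, hlt⟩
    have hne : (P : Subgroup G) ≠ ⊥ := fun e => hnn (by rw [e]; infer_instance)
    obtain ⟨k, hk⟩ := IsPGroup.iff_card.mp P.isPGroup'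
    have hk1 : k = 1 := by
      rcases k with _ | _ | k
      · exact absurd (Subgroup.card_eq_one.mp (by simpa using hk)) hne
      · rfl
      · exfalso
        rw [hk] at hle
        have h2 := (Fact.out : p.Prime).two_le
        have h3 : p ^ 2 ≤ p ^ (k + 1 + 1) := Nat.pow_le_pow_right (by omega) (by omega)
        nlinarith
    exact Or.inl ⟨isCyclic_of_prime_card (p := p) (by rw [hk, hk1, pow_one]), hne⟩
  obtain ⟨hA, -, hN, hT⟩ := FG38.NilMinCover.normalizer (𝓐 := 𝓐) h𝓐 hZ hab' P hbig hnn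
  haveI := hab
  have hle : (P : Subgroup G) ≤ Subgroup.centralizer ((P : Subgroup G) : Set G) := Subgroup.le_centralizer _
  exact ⟨_, hA, hle, fun hd => P.not_dvd_index (hd.trans (Subgroup.relIndex_dvd_index_of_le hle)), hN, hT, rfl⟩

end Cfsg.Agent.S3890
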