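import Cfsg.Statements.S3891
import Cfsg.Agent.FG38.NilpotentCover
-- import your own Cfsg.Agent.* helpers here

set_option autoImplicit false
open Cfsg

namespace Cfsg.Agent.S3891

/-- A cover of a group is a finite set of proper subgroups whose union is the whole group; it is minimal when no cover has fewer members, and nilpotent when all its members are nilpotent. Let G be a finite group with trivial center admitting a nilpotent minimal cover, and let P be a non-normal Sylow p-subgroup of G that is cyclic, or abelian but not elementary abelian. Then the centralizer of P is nilpotent and the normalizer of P is the unique maximal subgroup of G containing the centralizer of P. -/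
theorem result {G : Type*} [Group G] [Finite G] (hZ : Subgroup.center G = ⊥) (𝓐 : Finset (Subgroup G))
    (h𝓐 : ((∀ A ∈ 𝓐, A ≠ ⊤) ∧ (∀ g : G, ∃ A ∈ 𝓐, g ∈ A)) ∧ (∀ 𝓑 : Finset (Subgroup G), (∀ A ∈ 𝓑, A ≠ ⊤) ∧ (∀ g : G, ∃ A ∈ 𝓑, g ∈ A) → 𝓐.card ≤ 𝓑.card) ∧ (∀ A ∈ 𝓐, Group.IsNilpotent ↥A)) {p : ℕ} [Fact p.Prime] (P : Sylow p G)
    (hP : IsCyclic ↥(P : Subgroup G) ∨ (IsMulCommutative ↥(P : Subgroup G) ∧ ¬ Cfsg.IsElementaryAbelian p (P : Subgroup G)))
    (hnn : ¬ (P : Subgroup G).Normal) :
    Group.IsNilpotent ↥(Subgroup.centralizer ((P : Subgroup G) : Set G)) ∧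
      IsCoatom (Subgroup.normalizer ((P : Subgroup G) : Set G)) ∧
      ∀ M : Subgroup G, IsCoatom M → Subgroup.centralizer ((P : Subgroup G) : Set G) ≤ M →
        M = Subgroup.normalizer ((P : Subgroup G) : Set G) := by
  have hab : IsMulCommutative ↥(P : Subgroup G) := by
    rcases hP with h | ⟨h, -⟩
    · haveI := h; infer_instance
    · exact h
  have hab' : ∀ Q : Sylow p G, IsMulCommutative ↥(Q : Subgroup G) := fun Q =>
    ⟨⟨fun a b => (Sylow.equiv Q P).injective (by rw [map_mul, map_mul]; exact @mul_comm' _ _ hab _ _)⟩⟩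
  have hbig : FG38.IsBigPGroup p (P : Subgroup G) := by
    rcases hP with h | ⟨-, h⟩
    · exact Or.inl ⟨h, fun e => hnn (by rw [e]; infer_instance)⟩
    · refine Or.inr ?_
      by_contra hno
      push Not at hno
      exact h ⟨hab, hno⟩
  obtain ⟨hA, hM, hN, -⟩ := FG38.NilMinCover.normalizer (𝓐 := 𝓐) h𝓐 hZ hab' P hbig hnn
  refine ⟨h𝓐.2.2 _ hA, hN, fun M hMc hle => ?_⟩
  rcases (hM M hMc.1 hle).lt_or_eq with h | h
  · exact absurd (hMc.2 _ h) hN.1
  · exact h

end Cfsg.Agent.S3891
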