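import Cfsg.Statements.S3892
import Cfsg.Agent.FG38.NilpotentCover
import Mathlib.NumberTheory.Bertrand
import Mathlib.GroupTheory.Perm.Cycle.Type
import Mathlib.GroupTheory.SpecificGroups.Alternating
-- import your own Cfsg.Agent.* helpers here

set_option autoImplicit false
open Cfsg

namespace Cfsg.Agent.S3892

open Equiv Subgroup

theorem swap_mul_swap_mem {n : ℕ} {a b c : Fin n} (hab : a ≠ b) (hbc : b ≠ c) :
    swap a b * swap b c ∈ alternatingGroup (Fin n) := by
  rw [Perm.mem_alternatingGroup, map_mul, Perm.sign_swap hab, Perm.sign_swap hbc]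
  decide

/-- A prime `q` dividing `|G|` exactly once, with an element whose centraliser lies in a proper subgroup not
normalising it, excludes nilpotent minimal covers. -/
theorem no_cover {n : ℕ} (hn : 4 ≤ n) {G : Type} [Group G] [Finite G] (φ : G →* Perm (Fin n))
    (hinj : Function.Injective φ) (hA : alternatingGroup (Fin n) ≤ φ.range) {q : ℕ} (hq : q.Prime) (hqn : q ≤ n)
    (hn2 : n < 2 * q) (σ : Perm (Fin n)) (hσA : σ ∈ alternatingGroup (Fin n)) (hσ : orderOf σ = q)
    (M : Subgroup (Perm (Fin n))) (hMne : ∃ g ∈ φ.range, g ∉ M)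
    (hC : ∀ g ∈ φ.range, Commute g σ → g ∈ M)
    (hτ : ∃ τ ∈ alternatingGroup (Fin n), τ ∈ M ∧ τ * σ * τ⁻¹ ∉ zpowers σ) :
    ¬ ∃ 𝓐 : Finset (Subgroup G), FG38.NilMinCover 𝓐 := by
  rintro ⟨𝓐, h⟩
  haveI := Fact.mk hq
  have hZ : center G = ⊥ := by
    rw [eq_bot_iff]
    intro z hz
    rw [mem_bot]
    apply hinj
    rw [map_one]
    by_contra hne
    obtain ⟨a, ha⟩ : ∃ a, φ z a ≠ a := by
      by_contra hall
      push Not at hall
      exact hne (Equiv.ext hall)
    obtain ⟨c, d, hca, hcb, hda, hdb, hcd⟩ : ∃ c d : Fin n,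
        c ≠ a ∧ c ≠ φ z a ∧ d ≠ a ∧ d ≠ φ z a ∧ c ≠ d := by
      have hcard : 1 < ((Finset.univ : Finset (Fin n)).erase a |>.erase (φ z a)).card := by
        rw [Finset.card_erase_of_mem (Finset.mem_erase.mpr ⟨ha, Finset.mem_univ _⟩),
          Finset.card_erase_of_mem (Finset.mem_univ _), Finset.card_univ, Fintype.card_fin]
        omega
      obtain ⟨c, hc, d, hd, hcd⟩ := Finset.one_lt_card.mp hcard
      simp only [Finset.mem_erase, Finset.mem_univ, and_true] at hc hd
      exact ⟨c, d, hc.2, hc.1, hd.2, hd.1, hcd⟩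
    obtain ⟨t, ht⟩ := hA (swap_mul_swap_mem (a := φ z a) (b := c) (c := d) hcb.symm hcd)
    have e := congrArg (fun g : G => φ g a) (mem_center_iff.mp hz t)
    simp only [map_mul, Perm.mul_apply, ht] at e
    rw [swap_apply_of_ne_of_ne hca.symm hda.symm, swap_apply_of_ne_of_ne (Ne.symm ha) hca.symm,
      swap_apply_of_ne_of_ne hcb.symm hdb.symm, swap_apply_left] at e
    exact hcb e
  obtain ⟨s, hs⟩ := hA hσA
  have hso : orderOf s = q := by rw [← orderOf_injective φ hinj, hs, hσ]
  obtain ⟨P, hP⟩ := (IsPGroup.of_card (n := 1) (show Nat.card (zpowers s) = q ^ 1 by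
    rw [Nat.card_zpowers, hso, pow_one])).exists_le_sylow
  have hcard : ∀ Q : Sylow q G, Nat.card ↥(Q : Subgroup G) = q := by
    intro Q
    rw [Q.card_eq_multiplicity]
    have h2 : (Nat.card G).factorization q = 1 := by
      apply le_antisymm
      · have hd : Nat.card G ∣ n.factorial := by
          have := card_dvd_of_injective φ hinj
          rwa [Nat.card_perm, Nat.card_fin] at this
        refine ((Nat.factorization_le_iff_dvd Nat.card_pos.ne' n.factorial_ne_zero).mpr hd q).trans ?_
        rw [Nat.factorization_def _ hq, padicValNat_factorial (b := Nat.log q n + 1) (Nat.lt_succ_self _)]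
        have hlog : Nat.log q n + 1 ≤ 2 := by
          have : Nat.log q n < 2 := Nat.log_lt_of_lt_pow (by omega) (by nlinarith [hq.two_le])
          omega
        refine le_trans (Finset.sum_le_sum_of_subset (Finset.Ico_subset_Ico_right hlog)) ?_
        rw [Finset.sum_Ico_succ_top le_rfl, Finset.Ico_self, Finset.sum_empty, zero_add, pow_one]
        have := (Nat.div_lt_iff_lt_mul hq.pos).mpr hn2
        omega
      · exact hq.factorization_pos_of_dvd Nat.card_pos.ne' (hso ▸ orderOf_dvd_natCard s)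
    rw [h2, pow_one]
  have hPs : zpowers s = (P : Subgroup G) := eq_of_le_of_card_ge hP (by rw [hcard, Nat.card_zpowers, hso])
  have hab : ∀ Q : Sylow q G, IsMulCommutative ↥(Q : Subgroup G) := fun Q => by
    haveI := isCyclic_of_prime_card (p := q) (hcard Q)
    infer_instance
  have hbig : FG38.IsBigPGroup q (P : Subgroup G) := Or.inl ⟨isCyclic_of_prime_card (p := q) (hcard P), fun e => by
    have := hcard P
    rw [e, card_bot] at this
    exact hq.ne_one this.symm⟩
  obtain ⟨τ, hτA, hτM, hτn⟩ := hτ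
  obtain ⟨t, ht⟩ := hA hτA
  have htn : t ∉ Subgroup.normalizer ((P : Subgroup G) : Set G) := fun htN => by
    have h1 : t * s * t⁻¹ ∈ (P : Subgroup G) := (mem_normalizer_iff.mp htN s).mp (hPs ▸ mem_zpowers s)
    rw [← hPs] at h1
    obtain ⟨i, hi⟩ := mem_zpowers_iff.mp h1
    refine hτn ⟨i, ?_⟩
    have := congrArg φ hi
    rwa [map_zpow, map_mul, map_mul, map_inv, hs, ht] at this
  have hnn : ¬ (P : Subgroup G).Normal := fun hn => htn (by rw [normalizer_eq_top_iff.mpr hn]; trivial)
  obtain ⟨-, hM, -, -⟩ := h.normalizer hZ hab P hbig hnn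
  obtain ⟨g, hgA, hgM⟩ := hMne
  obtain ⟨g', hg'⟩ := hgA
  refine htn (hM (M.comap φ) (fun htop => hgM ?_) ?_ (show φ t ∈ M from ht ▸ hτM))
  · exact hg' ▸ (htop.ge (mem_top g') : φ g' ∈ M)
  · intro c hc
    refine hC _ ⟨c, rfl⟩ ?_
    rw [← hs]
    exact (show Commute c s from (mem_centralizer_iff.mp hc s (hPs ▸ mem_zpowers s)).symm).map φ

/-- The permutations preserving a finite set. -/
def setStab {n : ℕ} (s : Finset (Fin n)) : Subgroup (Perm (Fin n)) where
  carrier := {g | ∀ x, g x ∈ s ↔ x ∈ s}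
  one_mem' := fun x => Iff.rfl
  mul_mem' := fun {g h} hg hh x => (hg (h x)).trans (hh x)
  inv_mem' := fun {g} hg x => by
    have := hg (g⁻¹ x)
    simp only [Perm.coe_inv, apply_symm_apply] at this
    exact this.symm

theorem big_prime {n : ℕ} {G : Type} [Group G] [Finite G] (φ : G →* Perm (Fin n))
    (hinj : Function.Injective φ) (hA : alternatingGroup (Fin n) ≤ φ.range) {q : ℕ} (hq : q.Prime) (h5 : 5 ≤ q)
    (hqn : q < n) (hn2 : n < 2 * q) : ¬ ∃ 𝓐 : Finset (Subgroup G), FG38.NilMinCover 𝓐 := by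
  haveI := Fact.mk hq
  obtain ⟨σ, hσ⟩ := exists_prime_orderOf_dvd_card' (G := ↥(alternatingGroup (Fin n))) q (by
    haveI : Nontrivial (Fin n) := Fin.nontrivial_iff_two_le.mpr (by omega)
    rw [nat_card_alternatingGroup, Nat.card_fin]
    have h1 : q ∣ n.factorial := Nat.dvd_factorial hq.pos hqn.le
    have h2 : 2 ∣ n.factorial := Nat.dvd_factorial two_pos (by omega)
    rw [← Nat.div_mul_cancel h2] at h1
    refine (hq.dvd_mul.mp h1).resolve_right (fun h => ?_)
    have := Nat.le_of_dvd two_pos h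
    omega)
  rw [← Subgroup.orderOf_coe] at hσ
  set s : Perm (Fin n) := (σ : Perm (Fin n))
  have hc : s.IsCycle := Perm.isCycle_of_prime_order' (hσ ▸ hq) (by rw [Fintype.card_fin, hσ]; exact hn2)
  have hsupp : s.support.card = q := by rw [← hc.orderOf, hσ]
  obtain ⟨o, ho⟩ : ∃ o, o ∉ s.support := by
    by_contra hall
    push Not at hall
    have : s.support = Finset.univ := Finset.eq_univ_iff_forall.mpr hall
    rw [this, Finset.card_univ, Fintype.card_fin] at hsupp
    omega
  obtain ⟨a, ha⟩ : s.support.Nonempty := Finset.card_pos.mp (by omega)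
  have hne : ∀ i j : ℕ, i < q → j < q → (s ^ i) a = (s ^ j) a → i = j := by
    intro i j hi hj hij
    have := (hc.pow_eq_pow_iff (a := i) (b := j)).mpr ⟨a, Perm.mem_support.mp ha, hij⟩
    exact pow_injOn_Iio_orderOf (by rwa [Set.mem_Iio, hσ]) (by rwa [Set.mem_Iio, hσ]) this
  have hmem : ∀ i : ℕ, (s ^ i) a ∈ s.support := fun i => Perm.pow_apply_mem_support.mpr ha
  refine no_cover (by omega) φ hinj hA hq hqn.le hn2 s σ.2 hσ (setStab s.support) ?_ ?_ ?_
  · have e1 : (s ^ 1) a ≠ a := fun e => absurd (hne 1 0 (by omega) (by omega) (by simpa using e)) (by omega)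
    refine ⟨swap a o * swap o ((s ^ 1) a), hA (swap_mul_swap_mem (show a ≠ o from fun e => ho (e ▸ ha)) (show o ≠ (s ^ 1) a from fun e => ho (e ▸ hmem 1))), fun hg => ?_⟩
    have := (hg ((s ^ 1) a)).mpr (hmem 1)
    rw [Perm.mul_apply, swap_apply_right, swap_apply_right] at this
    have e2 := (hg a).mpr ha
    rw [Perm.mul_apply, swap_apply_of_ne_of_ne (show a ≠ o from fun e => ho (e ▸ ha)) e1.symm, swap_apply_left] at e2
    exact ho e2
  · intro g _ hg x
    rw [Perm.mem_support, Perm.mem_support]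
    constructor <;> intro h e <;> apply h
    · rw [← Perm.mul_apply, ← hg.eq, Perm.mul_apply, e]
    · apply g.injective
      rw [← Perm.mul_apply, hg.eq, Perm.mul_apply, e]
  · have hne0 : ∀ j : ℕ, 0 < j → j < q → a ≠ (s ^ j) a := fun j h0 hj e =>
      absurd (hne 0 j (by omega) hj (by rw [pow_zero, Perm.one_apply]; exact e)) (by omega)
    set b := (s ^ 1) a with hb
    set c := (s ^ 2) a with hc'
    have hab : a ≠ b := hne0 1 (by omega) (by omega)
    have hbc : b ≠ c := fun e => absurd (hne 1 2 (by omega) (by omega) e) (by omega)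
    obtain ⟨τ, hτdef⟩ : ∃ τ, τ = swap a b * swap b c := ⟨_, rfl⟩
    have hτfix : ∀ x, x ≠ a → x ≠ b → x ≠ c → τ x = x := fun x h1 h2 h3 => by
      rw [hτdef, Perm.mul_apply, swap_apply_of_ne_of_ne h2 h3, swap_apply_of_ne_of_ne h1 h2]
    refine ⟨τ, hτdef ▸ swap_mul_swap_mem hab hbc, fun x => ?_, fun hcon => ?_⟩
    · by_cases hx : x = a ∨ x = b ∨ x = c
      · have hxs : x ∈ s.support := by
          rcases hx with rfl | rfl | rfl
          exacts [ha, hmem 1, hmem 2]
        refine iff_of_true ?_ hxs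
        rw [hτdef, Perm.mul_apply]
        rcases hx with rfl | rfl | rfl
        · rw [swap_apply_of_ne_of_ne hab (hne0 2 (by omega) (by omega)),
            swap_apply_left]
          exact hmem 1
        · rw [swap_apply_left, swap_apply_of_ne_of_ne
            (hne0 2 (by omega) (by omega)).symm hbc.symm]
          exact hmem 2
        · rw [swap_apply_right, swap_apply_right]
          exact ha
      · push Not at hx
        rw [hτfix x hx.1 hx.2.1 hx.2.2]
    · obtain ⟨i, hi⟩ := (isOfFinOrder_of_finite s).mem_powers_iff_mem_zpowers.mpr hcon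
      change s ^ i = τ * s * τ⁻¹ at hi
      -- `s⁻¹ τ s τ⁻¹` fixes a point of the cycle, hence is trivial
      have h3 : τ ((s ^ 3) a) = (s ^ 3) a := hτfix _
        (hne0 3 (by omega) (by omega)).symm
        (fun e => absurd (hne 3 1 (by omega) (by omega) e) (by omega))
        (fun e => absurd (hne 3 2 (by omega) (by omega) e) (by omega))
      have h4 : τ ((s ^ 4) a) = (s ^ 4) a := hτfix _
        (hne0 4 (by omega) (by omega)).symm
        (fun e => absurd (hne 4 1 (by omega) (by omega) e) (by omega))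
        (fun e => absurd (hne 4 2 (by omega) (by omega) e) (by omega))
      have hcomm : τ * s * τ⁻¹ = s := by
        rw [← hi]
        have hsame : (s ^ i) ((s ^ 3) a) = (s ^ 1) ((s ^ 3) a) := by
          rw [hi, Perm.mul_apply, Perm.mul_apply, show τ⁻¹ ((s ^ 3) a) = (s ^ 3) a by
            rw [Perm.inv_eq_iff_eq, h3], pow_one, show s ((s ^ 3) a) = (s ^ 4) a by rw [← Perm.mul_apply, ← pow_succ'], h4]
        have := (hc.pow_eq_pow_iff (a := i) (b := 1)).mpr ⟨(s ^ 3) a, Perm.mem_support.mp (hmem 3), hsame⟩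
        rw [this, pow_one]
      have hcm : Commute τ s := mul_inv_eq_iff_eq_mul.mp hcomm
      have h0 : τ ((s ^ 0) a) = (s ^ 0) a := by
        have e : (s ^ q) a = a := by rw [← hσ, pow_orderOf_eq_one, Perm.one_apply]
        have : ∀ k, τ ((s ^ (3 + k)) a) = (s ^ (3 + k)) a := by
          intro k
          induction k with
          | zero => exact h3
          | succ k ih =>
            rw [← Nat.add_assoc, pow_succ', Perm.mul_apply, ← Perm.mul_apply τ, hcm.eq, Perm.mul_apply, ih]
        have h := this (q - 3)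
        rw [show 3 + (q - 3) = q by omega, e] at h
        rw [pow_zero, Perm.one_apply]; exact h
      rw [pow_zero, Perm.one_apply, hτdef, Perm.mul_apply, swap_apply_of_ne_of_ne hab
        (hne0 2 (by omega) (by omega)), swap_apply_left] at h0
      exact hab h0.symm

theorem exists_q {n : ℕ} (hn : 6 ≤ n) : ∃ q, q.Prime ∧ 5 ≤ q ∧ q < n ∧ n < 2 * q := by
  obtain ⟨q, hq, h1, h2⟩ := Nat.exists_prime_lt_and_le_two_mul (n / 2) (by omega)
  have hq4 : q ≠ 4 := fun e => by rw [e] at hq; exact absurd hq (by decide)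
  have hqn : q ≠ n := fun e => by
    rcases hq.eq_two_or_odd' with h | ⟨k, hk⟩ <;> omega
  exact ⟨q, hq, by omega, by omega, by omega⟩

theorem orderOf_three : orderOf (swap (0 : Fin 4) 1 * swap 1 2) = 3 :=
  orderOf_eq_prime (by decide) (by decide)

theorem four_aux : ∀ g : Perm (Fin 4), g * (swap 0 1 * swap 1 2) = (swap 0 1 * swap 1 2) * g → Perm.sign g = 1 := by
  decide

theorem five_three_aux : ∀ g : Perm (Fin 5), g * (swap 0 1 * swap 1 2) = (swap 0 1 * swap 1 2) * g →
    Perm.sign g = 1 → g 4 = 4 := by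
  decide +kernel

theorem five_five_aux : ∀ g : Perm (Fin 5), g * (finRotate 5) = (finRotate 5) * g → Perm.sign g = 1 := by
  decide +kernel

theorem not_mem_zpowers_of_not_commute {n : ℕ} {x y : Perm (Fin n)} (h : x * y ≠ y * x) : x ∉ zpowers y :=
  fun hx => by
    obtain ⟨i, rfl⟩ := mem_zpowers_iff.mp hx
    exact h ((Commute.refl y).zpow_left i).eq


/-- A cover of a group is a finite set of proper subgroups whose union is the whole group; it is minimal when no cover has fewer members, and nilpotent when all its members are nilpotent. The alternating groups of degree at least 5 and the symmetric groups of degree at least 4 have no nilpotent minimal cover. -/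
theorem result (n : ℕ) :
    (5 ≤ n → ¬ ∃ 𝓐 : Finset (Subgroup ↥(alternatingGroup (Fin n))), ((∀ A ∈ 𝓐, A ≠ ⊤) ∧ (∀ g : ↥(alternatingGroup (Fin n)), ∃ A ∈ 𝓐, g ∈ A)) ∧ (∀ 𝓑 : Finset (Subgroup ↥(alternatingGroup (Fin n))), (∀ A ∈ 𝓑, A ≠ ⊤) ∧ (∀ g : ↥(alternatingGroup (Fin n)), ∃ A ∈ 𝓑, g ∈ A) → 𝓐.card ≤ 𝓑.card) ∧ (∀ A ∈ 𝓐, Group.IsNilpotent ↥A)) ∧
    (4 ≤ n → ¬ ∃ 𝓐 : Finset (Subgroup (Equiv.Perm (Fin n))), ((∀ A ∈ 𝓐, A ≠ ⊤) ∧ (∀ g : (Equiv.Perm (Fin n)), ∃ A ∈ 𝓐, g ∈ A)) ∧ (∀ 𝓑 : Finset (Subgroup (Equiv.Perm (Fin n))), (∀ A ∈ 𝓑, A ≠ ⊤) ∧ (∀ g : (Equiv.Perm (Fin n)), ∃ A ∈ 𝓑, g ∈ A) → 𝓐.card ≤ 𝓑.card) ∧ (∀ A ∈ 𝓐, Group.IsNilpotent ↥A)) := by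
  refine ⟨fun hn h => ?_, fun hn h => ?_⟩
  · have hA : alternatingGroup (Fin n) ≤ (alternatingGroup (Fin n)).subtype.range := (range_subtype _).ge
    rcases Nat.lt_or_ge n 6 with h6 | h6
    · obtain rfl : n = 5 := by omega
      refine no_cover (q := 3) (by norm_num) _ (alternatingGroup (Fin 5)).subtype_injective hA Nat.prime_three
        (by norm_num) (by norm_num) (swap 0 1 * swap 1 2) (swap_mul_swap_mem (by decide) (by decide))
        (orderOf_eq_prime (by decide) (by decide)) (setStab {4}) ?_ ?_ ?_ h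
      · refine ⟨swap 3 4 * swap 4 2, hA (swap_mul_swap_mem (by decide) (by decide)), fun hg => ?_⟩
        have := (hg 4).mpr (by decide)
        exact absurd this (by decide)
      · rintro _ ⟨g, rfl⟩ hg x
        have h4 := five_three_aux _ hg.eq (Perm.mem_alternatingGroup.mp g.2)
        simp only [Finset.mem_singleton]
        refine ⟨fun e => Equiv.injective _ (e.trans h4.symm), fun e => e ▸ h4⟩
      · refine ⟨swap 0 1 * swap 1 3, swap_mul_swap_mem (by decide) (by decide), ?_,
          not_mem_zpowers_of_not_commute (by decide)⟩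
        show ∀ x, _ ↔ _
        decide
    · obtain ⟨q, hq, h5, hqn, hn2⟩ := exists_q h6
      exact big_prime _ (alternatingGroup (Fin n)).subtype_injective hA hq h5 hqn hn2 h
  · have hA : alternatingGroup (Fin n) ≤ (MonoidHom.id (Perm (Fin n))).range := fun g _ => ⟨g, rfl⟩
    rcases Nat.lt_or_ge n 6 with h6 | h6
    · rcases (show n = 4 ∨ n = 5 by omega) with rfl | rfl
      · refine no_cover (q := 3) le_rfl (MonoidHom.id _) Function.injective_id hA Nat.prime_three (by norm_num)
          (by norm_num) (swap 0 1 * swap 1 2) (swap_mul_swap_mem (by decide) (by decide)) orderOf_three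
          (alternatingGroup (Fin 4)) ?_ ?_ ?_ h
        · exact ⟨swap 0 1, ⟨_, rfl⟩, by simp [Perm.mem_alternatingGroup]⟩
        · intro g _ hg
          exact Perm.mem_alternatingGroup.mpr (four_aux g hg.eq)
        · exact ⟨swap 0 1 * swap 1 3, swap_mul_swap_mem (by decide) (by decide),
            swap_mul_swap_mem (by decide) (by decide), not_mem_zpowers_of_not_commute (by decide)⟩
      · haveI : Fact (Nat.Prime 5) := ⟨Nat.prime_five⟩
        refine no_cover (q := 5) (by norm_num) (MonoidHom.id _) Function.injective_id hA Nat.prime_five le_rfl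
          (by norm_num) (finRotate 5) (Perm.mem_alternatingGroup.mpr (by decide))
          (orderOf_eq_prime (by decide) (by decide)) (alternatingGroup (Fin 5)) ?_ ?_ ?_ h
        · exact ⟨swap 0 1, ⟨_, rfl⟩, by simp [Perm.mem_alternatingGroup]⟩
        · intro g _ hg
          exact Perm.mem_alternatingGroup.mpr (five_five_aux g hg.eq)
        · exact ⟨swap 0 1 * swap 1 2, swap_mul_swap_mem (by decide) (by decide),
            swap_mul_swap_mem (by decide) (by decide), not_mem_zpowers_of_not_commute (by decide)⟩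
    · obtain ⟨q, hq, h5, hqn, hn2⟩ := exists_q h6
      exact big_prime (MonoidHom.id _) Function.injective_id hA hq h5 hqn hn2 h

end Cfsg.Agent.S3892
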