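import Cfsg.Statements.S3893
import Cfsg.Agent.FG38.NilpotentCover
import Cfsg.Agent.Lib.Suzuki.Tori
import Cfsg.Agent.Lib.RankOne.SzBridge
-- import your own Cfsg.Agent.* helpers here

set_option autoImplicit false
open Cfsg

namespace Cfsg.Agent.S3893

/-- A cover of a group is a finite set of proper subgroups whose union is the whole group; it is minimal when no cover has fewer members, and nilpotent when all its members are nilpotent. The Suzuki groups Sz(q), q = 2^(2m+1) with m ≥ 1, have no nilpotent minimal cover. -/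
theorem result {F : Type*} [Field F] [Fintype F] (m : ℕ) (hm : 1 ≤ m) (hF : Fintype.card F = 2 ^ (2 * m + 1)) :
    ¬ ∃ 𝓐 : Finset (Subgroup ↥(Cfsg.Lie.Sz F (2 ^ (m + 1)))), ((∀ A ∈ 𝓐, A ≠ ⊤) ∧ (∀ g : ↥(Cfsg.Lie.Sz F (2 ^ (m + 1))), ∃ A ∈ 𝓐, g ∈ A)) ∧ (∀ 𝓑 : Finset (Subgroup ↥(Cfsg.Lie.Sz F (2 ^ (m + 1)))), (∀ A ∈ 𝓑, A ≠ ⊤) ∧ (∀ g : ↥(Cfsg.Lie.Sz F (2 ^ (m + 1))), ∃ A ∈ 𝓑, g ∈ A) → 𝓐.card ≤ 𝓑.card) ∧ (∀ A ∈ 𝓐, Group.IsNilpotent ↥A) := by
  classical
  rintro ⟨𝓐, h⟩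
  have h' := FG38.NilMinCover.map_equiv (𝓐 := 𝓐) h (RankOne.SzBridge.szEquiv hF hm).symm
  haveI := Suzuki.isSimpleGroup hF hm
  have hZ : Subgroup.center (Cfsg.Sz F m) = ⊥ := by
    rcases (inferInstance : (Subgroup.center (Cfsg.Sz F m)).Normal).eq_bot_or_eq_top with hb | ht
    · exact hb
    exfalso
    have hc : commutator (Cfsg.Sz F m) = ⊥ := by
      rw [commutator_def, Subgroup.commutator_eq_bot_iff_le_centralizer]
      intro x _
      rw [Subgroup.mem_centralizer_iff]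
      intro y _
      exact Subgroup.mem_center_iff.mp (ht.ge (Subgroup.mem_top x)) y
    rw [Suzuki.commutator_eq_top hF hm] at hc
    exact bot_ne_top hc.symm
  have hq : 8 ≤ Fintype.card F ∧ Even (Fintype.card F) := Suzuki.q_facts hF hm
  obtain ⟨p, hp, hpd⟩ := Nat.exists_prime_and_dvd (show Fintype.card F - 1 ≠ 1 by omega)
  haveI := Fact.mk hp
  have hp2 : p ≠ 2 := by
    rintro rfl
    obtain ⟨r, hr⟩ := hq.2
    omega
  obtain ⟨k, hk⟩ := exists_prime_orderOf_dvd_card' (G := Fˣ) p (by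
    rwa [Nat.card_eq_fintype_card, Fintype.card_units])
  have hk1 : k ≠ 1 := fun e => hp.ne_one (by rw [← hk, e, orderOf_one])
  set x := Suzuki.T hF k with hx
  have hxo : orderOf x = p := by
    rw [← hk]
    exact orderOf_injective (Suzuki.THom hF) (fun a b hab => Suzuki.T_inj hF hab) k
  obtain ⟨P, hP⟩ := (IsPGroup.of_card (n := 1) (show Nat.card (Subgroup.zpowers x) = p ^ 1 by
    rw [Nat.card_zpowers, hxo, pow_one])).exists_le_sylow
  have hcyc := Suzuki.sylow_odd_isCyclic hF hm hp2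
  have hab : ∀ Q : Sylow p (Cfsg.Sz F m), IsMulCommutative ↥(Q : Subgroup (Cfsg.Sz F m)) := fun Q => by
    haveI : IsCyclic ↥(Q : Subgroup (Cfsg.Sz F m)) := hcyc Q
    infer_instance
  have hxP : x ∈ (P : Subgroup (Cfsg.Sz F m)) := hP (Subgroup.mem_zpowers x)
  have hCT : Subgroup.centralizer ((P : Subgroup (Cfsg.Sz F m)) : Set (Cfsg.Sz F m)) ≤ (Suzuki.THom hF).range :=
    (Subgroup.centralizer_le (Set.singleton_subset_iff.mpr hxP)).trans (Suzuki.centralizer_T_le hF hm hk1)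
  have hPT : (P : Subgroup (Cfsg.Sz F m)) ≤ (Suzuki.THom hF).range := by
    haveI := hab P
    exact (Subgroup.le_centralizer _).trans hCT
  refine FG38.NilMinCover.false_of h' hZ hab P
    (Or.inl ⟨hcyc P, fun e => hp.ne_one (by
      rw [← hxo, orderOf_eq_one_iff.mpr (Subgroup.mem_bot.mp (e ▸ hxP))])⟩)
    (M := MulAction.stabilizer (Cfsg.Sz F m) (Cfsg.suzukiPointInfinity F)) ?_ ?_ (t := Suzuki.U hF 1 0) ?_ ?_
  · intro htop
    have := htop.ge (Subgroup.mem_top (Suzuki.W hF))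
    rw [MulAction.mem_stabilizer_iff, Suzuki.W_smul_inf] at this
    exact Suzuki.pt_ne_inf 0 0 this
  · intro c hc
    obtain ⟨l, rfl⟩ := hCT hc
    exact MulAction.mem_stabilizer_iff.mpr (Suzuki.T_smul_inf hF l)
  · exact MulAction.mem_stabilizer_iff.mpr (Suzuki.U_smul_inf hF 1 0)
  · intro hn
    obtain ⟨l, hl⟩ := hPT ((Subgroup.mem_normalizer_iff.mp hn x).mp hxP)
    have e : Suzuki.U hF 1 0 * Suzuki.T hF k = Suzuki.T hF l * Suzuki.U hF 1 0 :=
      (mul_inv_eq_iff_eq_mul.mp (hl : Suzuki.T hF l = _).symm)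
    rw [Suzuki.T_mul_U] at e
    obtain ⟨h1, -, h3⟩ := Suzuki.U_T_inj hF e
    rw [mul_one] at h1
    exact hk1 (h3.trans (Units.ext h1.symm))

end Cfsg.Agent.S3893
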