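import Cfsg.Statements.S3894
import Cfsg.Agent.FG38.PGLCover
import Cfsg.Agent.Lib.LinearGroup.Card
import Cfsg.Agent.S0266
-- import your own Cfsg.Agent.* helpers here

set_option autoImplicit false
open Cfsg

namespace Cfsg.Agent.S3894

open Subgroup FG38.PGLCover

variable {n : ℕ} {F : Type*} [Field F] [Fintype F]

theorem card_pts : Nat.card (Pts n F) = ∑ i ∈ Finset.range n, Fintype.card F ^ i := by
  rw [Projectivization.card_of_finrank F (Fin n → F) (Module.finrank_fin_fun F), Nat.card_eq_fintype_card]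

theorem card_pts_succ (hn : 1 ≤ n) :
    Nat.card (Pts n F) = Fintype.card F * (∑ i ∈ Finset.range (n - 1), Fintype.card F ^ i) + 1 := by
  obtain ⟨m, rfl⟩ := Nat.exists_eq_add_of_le' hn
  rw [card_pts, geom_sum_succ, Nat.add_sub_cancel]

theorem not_char_dvd_pts (hn : 1 ≤ n) (p : ℕ) [Fact p.Prime] [CharP F p] : ¬ p ∣ Nat.card (Pts n F) := by
  have h : p ∣ Fintype.card F := by
    obtain ⟨k, hk, hcard⟩ := FiniteField.card F p
    rw [hcard]; exact dvd_pow_self p k.ne_zero
  intro hd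
  rw [card_pts_succ hn] at hd
  exact (Fact.out : p.Prime).not_dvd_one ((Nat.dvd_add_right (h.mul_right _)).mp hd)

theorem two_le_pts (hn : 2 ≤ n) : 2 ≤ Nat.card (Pts n F) := by
  rw [card_pts_succ (by omega)]
  have h1 : 1 ≤ ∑ i ∈ Finset.range (n - 1), Fintype.card F ^ i :=
    le_trans (by simp) (Finset.single_le_sum (f := fun i => Fintype.card F ^ i) (fun i _ => Nat.zero_le _)
      (Finset.mem_range.mpr (show 0 < n - 1 by omega)))
  have := Fintype.card_pos (α := F)
  nlinarith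

/-- An element of order exactly `r ^ v` in a finite cyclic group. -/
theorem exists_order_pow {U : Type*} [Group U] [Finite U] [IsCyclic U] {r v : ℕ} (hd : r ^ v ∣ Nat.card U) :
    ∃ b : U, orderOf b = r ^ v := by
  obtain ⟨g, hg⟩ := IsCyclic.exists_ofOrder_eq_natCard (α := U)
  refine ⟨g ^ (orderOf g / r ^ v), orderOf_pow_orderOf_div ?_ (hg ▸ hd)⟩
  rw [hg]; exact Nat.card_pos.ne'

section Core

variable (G : Subgroup (Quot' n F))

/-- The action of `G` on the points. -/
noncomputable def gact : ↥G →* Equiv.Perm (Pts n F) := act.comp G.subtype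

variable {G}

theorem isPGroup_zpowers {r N : ℕ} [Fact r.Prime] {y : ↥G} (hy : (y : Quot' n F) ^ r ^ N = 1) :
    IsPGroup r ↥(zpowers y) := by
  obtain ⟨i, -, hi⟩ := (Nat.dvd_prime_pow (Fact.out : r.Prime)).mp
    (orderOf_dvd_of_pow_eq_one (x := y) (Subtype.ext (by simpa using hy) : y ^ r ^ N = 1))
  exact IsPGroup.of_card (n := i) (by rw [Nat.card_zpowers, hi])

theorem fixer_ne_top (hn : 2 ≤ n) (hG : psl n F ≤ G) (e : Pts n F) : fixer (gact G) e ≠ ⊤ := by
  intro htop
  haveI : Nontrivial (Pts n F) := Finite.one_lt_card_iff_nontrivial.mp (two_le_pts hn)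
  obtain ⟨e', he'⟩ := exists_ne e
  obtain ⟨g, hg, hge⟩ := exists_psl_apply e e'
  exact he' (hge.symm.trans ((mem_fixer _ _).mp (htop.ge (mem_top (⟨g, hG hg⟩ : ↥G)))))

/-- A `p`-element of `G` fixing exactly a prescribed point. -/
theorem exists_unipotent_at (hn : 2 ≤ n) (hG : psl n F ≤ G) (p : ℕ) [Fact p.Prime] [CharP F p] (e : Pts n F) :
    ∃ (X : GL (Fin n) F) (x : ↥G) (k : ℕ), (x : Quot' n F) = proj X ∧ X ^ p ^ k = 1 ∧
      ∀ q, act (proj X) q = q ↔ q = e := by
  obtain ⟨X, k, hdet, hpow, e₀, he₀⟩ := exists_unipotent (F := F) hn p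
  obtain ⟨g, hg, hge⟩ := exists_psl_apply e₀ e
  obtain ⟨G₀, ⟨S, rfl⟩, rfl⟩ := hg
  set H := (Matrix.SpecialLinearGroup.toGL S : GL (Fin n) F)
  refine ⟨H * X * H⁻¹, ⟨proj (H * X * H⁻¹), hG ?_⟩, k, rfl, by rw [conj_pow, hpow, mul_one, mul_inv_cancel], fun q => ?_⟩
  · rw [map_mul, map_mul, map_inv]
    exact mul_mem (mul_mem ⟨_, ⟨S, rfl⟩, rfl⟩ (proj_mem_psl hdet)) (inv_mem ⟨_, ⟨S, rfl⟩, rfl⟩)
  · rw [map_mul, map_mul, map_inv, map_mul, map_mul, map_inv, Equiv.Perm.mul_apply, Equiv.Perm.mul_apply,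
      ← Equiv.Perm.eq_inv_iff_eq, he₀, Equiv.Perm.inv_eq_iff_eq, hge]

variable {𝓐 : Finset (Subgroup ↥G)}

theorem member_le (hn : 2 ≤ n) (p : ℕ) [Fact p.Prime] [CharP F p] (h : FG38.NilMinCover 𝓐) {e : Pts n F}
    {X : GL (Fin n) F} {x : ↥G} {k : ℕ} (hx : (x : Quot' n F) = proj X) (hpow : X ^ p ^ k = 1)
    (hfix : ∀ q, act (proj X) q = q ↔ q = e) {A : Subgroup ↥G} (hA : A ∈ 𝓐) (hxA : x ∈ A) :
    A ≤ fixer (gact G) e := by
  refine le_fixer_of_unique (gact G) e (h.2.2 A hA) hxA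
    (isPGroup_zpowers (N := k) (by rw [hx, ← map_pow, hpow, map_one])) (not_char_dvd_pts (by omega) p) ?_ ?_
  · show act (x : Quot' n F) e = e
    rw [hx]; exact (hfix e).mpr rfl
  · intro z hz
    change act (x : Quot' n F) z = z at hz
    rw [hx] at hz
    exact (hfix z).mp hz

/-- Two members in the stabiliser of a point give a contradiction. -/
theorem false_of_pair (hn : 2 ≤ n) (hG : psl n F ≤ G) (h : FG38.NilMinCover 𝓐) {K : Type*} [Field K]
    [Algebra F K] [FiniteDimensional F K] (B : Module.Basis (Fin n) F (F × K)) (p r : ℕ) [Fact p.Prime]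
    [CharP F p] [Fact r.Prime] (hpr : p ≠ r) (u : (F × K)ˣ) (hu : (u : F × K).2 ≠ algebraMap F K (u : F × K).1)
    (hdet : (u : F × K).1 * Algebra.norm F (u : F × K).2 = 1) (N : ℕ) (hur : u ^ r ^ N = 1)
    (hmem : ∀ (A : Subgroup ↥G) (y : ↥G), Group.IsNilpotent ↥A → y ∈ A →
      (y : Quot' n F) = proj (reg B u) → A ≤ fixer (gact G) (axisPt B)) : False := by
  obtain ⟨X, x, k, hx, hpow, hfix⟩ := exists_unipotent_at hn hG p (axisPt B)
  set y : ↥G := ⟨proj (reg B u), hG (proj_mem_psl (by rw [det_reg, hdet]))⟩ with hy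
  obtain ⟨A, hA, hxA⟩ := h.1.2 x
  obtain ⟨A', hA', hyA⟩ := h.1.2 y
  have hAB := h.eq_of_le (fixer_ne_top hn hG (axisPt B)) hA hA' (member_le hn p h hx hpow hfix hA hxA)
    (hmem A' y (h.2.2 A' hA') hyA rfl)
  subst hAB
  have hc := commute_of_nilpotent (h.2.2 A hA) hpr hxA hyA
    (isPGroup_zpowers (N := k) (by rw [hx, ← map_pow, hpow, map_one]))
    (isPGroup_zpowers (N := N) (show proj (reg B u) ^ r ^ N = 1 by rw [← map_pow, ← map_pow, hur, map_one, map_one]))
  have hc' := congrArg (fun g : ↥G => (g : Quot' n F)) hc.eq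
  simp only [Subgroup.coe_mul, hx, hy] at hc'
  exact not_commute B p X k hpow (fun q hq => (hfix q).mp hq) u hu hc'

end Core

theorem no_cover_three (hn : 3 ≤ n) (G : Subgroup (Quot' n F)) (hG : psl n F ≤ G)
    {𝓐 : Finset (Subgroup ↥G)} (h : FG38.NilMinCover 𝓐) : False := by
  set p := ringChar F
  haveI : Fact p.Prime := ⟨CharP.char_is_prime F p⟩
  haveI : CharP F p := ringChar.charP F
  haveI : NeZero (n - 1) := ⟨by omega⟩
  set q := Fintype.card F with hq
  have hq2 : 2 ≤ q := Fintype.one_lt_card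
  set S := ∑ i ∈ Finset.range (n - 1), q ^ i with hS
  have hS2 : 2 ≤ S := by
    rw [hS, show n - 1 = (n - 3) + 1 + 1 by omega, Finset.sum_range_succ' , Finset.sum_range_succ']
    simp only [pow_zero, pow_one, zero_add]
    omega
  obtain ⟨r, hr, hrS⟩ := Nat.exists_prime_and_dvd (show S ≠ 1 by omega)
  haveI := Fact.mk hr
  have hpts : ¬ r ∣ Nat.card (Pts n F) := by
    rw [card_pts_succ (by omega), ← hq, ← hS]
    exact fun hd => hr.not_dvd_one ((Nat.dvd_add_right (hrS.mul_left q)).mp hd)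
  have hpr : p ≠ r := by
    rintro hpr
    have h1 : r ∣ q := by
      obtain ⟨k, hk, hcard⟩ := FiniteField.card F p
      rw [hq, hcard, hpr]; exact dvd_pow_self r k.ne_zero
    have hS' : S = q * (∑ i ∈ Finset.range (n - 2), q ^ i) + 1 := by
      rw [hS, show n - 1 = (n - 2) + 1 by omega, geom_sum_succ]
    exact hr.not_dvd_one ((Nat.dvd_add_right (h1.mul_right _)).mp (hS' ▸ hrS))
  let K := FiniteField.Extension F p (n - 1)
  have hK : Module.finrank F K = n - 1 := FiniteField.finrank_extension F p (n - 1)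
  have hAn : Module.finrank F (F × K) = n := by rw [Module.finrank_prod, Module.finrank_self, hK]; omega
  let B : Module.Basis (Fin n) F (F × K) := Module.finBasisOfFinrankEq F (F × K) hAn
  have hcardK : Nat.card Kˣ = q ^ (n - 1) - 1 := by
    rw [Nat.card_units, FiniteField.natCard_extension, Nat.card_eq_fintype_card]
  have hgeom : q ^ (n - 1) - 1 = (q - 1) * S := by
    have h1 := geom_sum_mul_add (q - 1) (n - 1)
    rw [show q - 1 + 1 = q by omega, ← hS] at h1
    rw [← h1, mul_comm]; omega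
  set V := (q ^ (n - 1) - 1).factorization r with hV
  obtain ⟨b, hb⟩ := exists_order_pow (U := Kˣ) (r := r) (v := V) (hcardK ▸ Nat.ordProj_dvd _ _)
  set c : Fˣ := (Units.map (Algebra.norm F : K →* F) b)⁻¹ with hc
  set u : (F × K)ˣ := MulEquiv.prodUnits.symm (c, b) with hu
  have hb' : ∀ l : F, (b : K) ≠ algebraMap F K l := by
    intro l hl
    have hl0 : l ≠ 0 := fun e => b.ne_zero (by rw [hl, e, map_zero])
    have h1 : b ^ (q - 1) = 1 := by
      apply Units.ext
      rw [Units.val_pow_eq_pow_val, hl, ← map_pow, hq, FiniteField.pow_card_sub_one_eq_one l hl0, map_one, Units.val_one]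
    have h2 := orderOf_dvd_of_pow_eq_one h1
    rw [hb, hr.pow_dvd_iff_le_factorization (by omega), hV, hgeom, Nat.factorization_mul (by omega) (by omega),
      Finsupp.add_apply] at h2
    have := hr.factorization_pos_of_dvd (show S ≠ 0 by omega) hrS
    omega
  have hbV : b ^ r ^ V = 1 := by rw [← hb, pow_orderOf_eq_one]
  refine false_of_pair (by omega) hG h B p r hpr u (hb' _) ?_ V ?_ ?_
  · show ((c : F) * Algebra.norm F (b : K)) = 1
    exact Units.inv_mul (Units.map (Algebra.norm F : K →* F) b)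
  · rw [hu, ← map_pow, Prod.pow_mk, hc, inv_pow, ← map_pow, hbV, map_one, inv_one]
    exact map_one MulEquiv.prodUnits.symm
  · intro A y hA hyA hy
    refine le_fixer_of_unique (gact G) (axisPt B) hA hyA
      (isPGroup_zpowers (r := r) (N := V) (by
        rw [hy, ← map_pow, ← map_pow, hu, ← map_pow, Prod.pow_mk, hc, inv_pow, ← map_pow, hbV, map_one, inv_one,
          show ((1 : Fˣ), (1 : Kˣ)) = 1 from rfl, map_one, map_one, map_one])) hpts ?_ ?_
    · show act (y : Quot' n F) _ = _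
      rw [hy]; exact act_axis B u
    · intro z hz
      change act (y : Quot' n F) z = z at hz
      rw [hy] at hz
      exact unique_fix B u hb' hz

/-! ### The case `n = 2` -/

section Two

theorem three_fixed {g : Quot' 2 F} {a b c : Pts 2 F} (hab : a ≠ b) (hac : a ≠ c) (hbc : b ≠ c)
    (ha : act g a = a) (hb : act g b = b) (hc : act g c = c) : g = 1 :=
  (S0266.result (F := F)).2 g a b c hab hac hbc ha hb hc

theorem lift_commute {Y H : GL (Fin 2) F} {r : ℕ} (hr : Odd r) (hY : Y ^ r ∈ Subgroup.center (GL (Fin 2) F))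
    (h : Commute (proj H) (proj Y)) : Commute H Y := by
  have hmem : H * Y * H⁻¹ * Y⁻¹ ∈ Subgroup.center (GL (Fin 2) F) := by
    rw [← QuotientGroup.ker_mk' (Subgroup.center (GL (Fin 2) F)), MonoidHom.mem_ker]
    change proj (H * Y * H⁻¹ * Y⁻¹) = 1
    rw [map_mul, map_mul, map_mul, map_inv, map_inv, h.eq, mul_inv_cancel_right, mul_inv_cancel]
  have hcen := Subgroup.mem_center_iff.mp hmem
  rw [Matrix.GeneralLinearGroup.center_eq_range_scalar] at hmem
  obtain ⟨l, hl⟩ := hmem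
  obtain ⟨c, hcdef⟩ : ∃ c, c = H * Y * H⁻¹ * Y⁻¹ := ⟨_, rfl⟩
  rw [← hcdef] at hcen hl
  have h1 : c * Y = H * Y * H⁻¹ := by rw [hcdef, inv_mul_cancel_right]
  have h2 : c ^ r = 1 := by
    have e1 : (c * Y) ^ r = c ^ r * Y ^ r := Commute.mul_pow (hcen Y).symm r
    rw [h1, conj_pow, (Subgroup.mem_center_iff.mp hY H), mul_inv_cancel_right] at e1
    exact mul_eq_right.mp e1.symm
  have h3 : c ^ 2 = 1 := by
    have e := congrArg Matrix.GeneralLinearGroup.det hl
    rw [hcdef, map_mul, map_mul, map_mul, map_inv, map_inv, mul_inv_cancel_comm, mul_inv_cancel] at e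
    have e' : (l : F) ^ 2 = 1 := by
      have := congrArg (fun t : Fˣ => (t : F)) e
      simpa [Matrix.det_smul, Matrix.scalar_apply, Matrix.det_diagonal] using this
    rw [← hl, ← map_pow, show l ^ 2 = 1 from Units.ext (by simpa using e'), map_one]
  have h4 : c = 1 := by
    obtain ⟨j, hj⟩ := hr
    rw [hj, pow_succ, pow_mul, h3, one_pow, one_mul] at h2
    exact h2
  rw [h4, one_mul] at h1
  exact (mul_inv_eq_iff_eq_mul.mp h1.symm)

variable (F) in
/-- A basis of `F × F`. -/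
noncomputable def twoBasis : Module.Basis (Fin 2) F (F × F) :=
  Module.finBasisOfFinrankEq F (F × F) (by rw [Module.finrank_prod, Module.finrank_self])

/-- The second axis. -/
noncomputable def secondPt : Pts 2 F :=
  Projectivization.mk F ((twoBasis F).repr ((0, 1) : F × F) : Fin 2 → F) (repr_ne_zero _ (by simp))

theorem two_fix {u : (F × F)ˣ} (hu : (u : F × F).2 ≠ (u : F × F).1) {q : Pts 2 F}
    (h : act (proj (reg (twoBasis F) u)) q = q) : q = axisPt (twoBasis F) ∨ q = secondPt := by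
  induction q using Projectivization.ind with | _ v hv =>
  obtain ⟨z, rfl⟩ : ∃ z : F × F, ((twoBasis F).repr z : Fin 2 → F) = v :=
    ⟨(twoBasis F).equivFun.symm v, (twoBasis F).equivFun.apply_symm_apply v⟩
  have hz : z ≠ 0 := fun e => hv (by rw [e, map_zero]; rfl)
  rcases fix_cases (twoBasis F) u (by simpa using hu) hz h with h2 | ⟨h1, -⟩
  · refine Or.inl ?_
    rw [axisPt, Projectivization.mk_eq_mk_iff']
    refine ⟨z.1, ?_⟩
    rw [← Finsupp.coe_smul, ← map_smul]
    congr 2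
    ext <;> simp [h2]
  · refine Or.inr ?_
    rw [secondPt, Projectivization.mk_eq_mk_iff']
    refine ⟨z.2, ?_⟩
    rw [← Finsupp.coe_smul, ← map_smul]
    congr 2
    ext <;> simp [h1]

theorem fix_second (u : (F × F)ˣ) : act (proj (reg (twoBasis F) u)) secondPt = secondPt := by
  rw [secondPt, act_fix_iff]
  refine ⟨(u : F × F).2, ?_⟩
  refine Eq.trans ?_ (leftMul_mulVec (twoBasis F) (u : F × F) (0, 1)).symm
  rw [← Finsupp.coe_smul, ← map_smul]
  congr 2
  ext <;> simp

theorem axis_ne_second : axisPt (twoBasis F) ≠ secondPt := by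
  rw [axisPt, secondPt, Ne, Projectivization.mk_eq_mk_iff']
  rintro ⟨a, ha⟩
  rw [← Finsupp.coe_smul, ← map_smul] at ha
  have := congrArg Prod.fst ((twoBasis F).repr.injective (DFunLike.coe_injective ha))
  simp at this

theorem fixed_modEq {r : ℕ} [Fact r.Prime] {G : Subgroup (Quot' 2 F)} (R : Subgroup ↥G) (hR : IsPGroup r ↥R) :
    (Fintype.card F + 1) % r = Nat.card {q : Pts 2 F // ∀ g ∈ R, gact G g q = q} % r := by
  letI : MulAction ↥R (Pts 2 F) := MulAction.compHom _ ((gact G).comp R.subtype)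
  have h := hR.card_modEq_card_fixedPoints (Pts 2 F)
  rw [card_pts, Finset.sum_range_succ, Finset.sum_range_one, pow_zero, pow_one, add_comm] at h
  refine h.trans (congrArg (· % r) (Nat.card_congr (Equiv.subtypeEquivRight fun q => ?_)))
  exact ⟨fun hq g hg => hq ⟨g, hg⟩, fun hq g => hq g g.2⟩

/-- `n = 2` and an odd prime divides `q - 1`. -/
theorem no_cover_split (G : Subgroup (Quot' 2 F)) (hG : psl 2 F ≤ G) {r : ℕ} [Fact r.Prime] (hr2 : r ≠ 2)
    (hrq : r ∣ Fintype.card F - 1) {𝓐 : Finset (Subgroup ↥G)} (h : FG38.NilMinCover 𝓐) : False := by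
  have hr : r.Prime := Fact.out
  set p := ringChar F
  haveI : Fact p.Prime := ⟨CharP.char_is_prime F p⟩
  haveI : CharP F p := ringChar.charP F
  have hpr : p ≠ r := by
    rintro hpr
    obtain ⟨k, hk, hcard⟩ := FiniteField.card F p
    have h1 : r ∣ Fintype.card F := by rw [hcard, hpr]; exact dvd_pow_self r k.ne_zero
    have h2 := Nat.dvd_sub h1 hrq
    rw [show Fintype.card F - (Fintype.card F - 1) = 1 by have := Fintype.card_pos (α := F); omega] at h2
    exact hr.not_dvd_one h2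
  obtain ⟨b, hb⟩ := exists_prime_orderOf_dvd_card' (G := Fˣ) r (by
    rwa [Nat.card_units, Nat.card_eq_fintype_card])
  set u : (F × F)ˣ := MulEquiv.prodUnits.symm (b⁻¹, b) with hu
  have hne : (u : F × F).2 ≠ (u : F × F).1 := by
    show (b : F) ≠ ((b⁻¹ : Fˣ) : F)
    intro e
    have h1 : b ^ 2 = 1 := by rw [pow_two]; nth_rw 2 [Units.ext e]; rw [mul_inv_cancel]
    have := Nat.le_of_dvd two_pos (hb ▸ orderOf_dvd_of_pow_eq_one h1)
    have := hr.two_le
    omega
  have hur : u ^ r = 1 := by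
    rw [hu, ← map_pow, Prod.pow_mk, inv_pow, show b ^ r = 1 from hb ▸ pow_orderOf_eq_one b, inv_one]
    exact map_one MulEquiv.prodUnits.symm
  refine false_of_pair (by norm_num) hG h (twoBasis F) p r hpr u (by simpa using hne) ?_ 1 (by rwa [pow_one]) ?_
  · show ((b⁻¹ : Fˣ) : F) * Algebra.norm F (b : F) = 1
    rw [Algebra.norm_self, MonoidHom.id_apply, Units.inv_mul]
  intro A y hA hyA hy
  have hpr' : proj (reg (twoBasis F) u) ^ r = 1 := by rw [← map_pow, ← map_pow, hur, map_one, map_one]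
  refine le_fixer (gact G) (axisPt (twoBasis F)) hA hyA (isPGroup_zpowers (N := 1) (by rwa [pow_one, hy])) ?_ ?_
  · intro R hR hyR
    have hmod := fixed_modEq R hR
    set Fx := {q : Pts 2 F // ∀ g ∈ R, gact G g q = q}
    have hsub : ∀ z : Fx, z.1 = axisPt (twoBasis F) ∨ z.1 = secondPt := by
      rintro ⟨z, hz⟩
      have := hz y hyR
      change act (y : Quot' 2 F) z = z at this
      rw [hy] at this
      exact two_fix hne this
    intro g hg
    rw [mem_fixer]
    by_contra hmoved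
    have hsec : ∀ z : Fx, z.1 = secondPt := fun z => (hsub z).resolve_left fun e => hmoved (e ▸ z.2 g hg)
    haveI : Subsingleton Fx := ⟨fun z w => Subtype.ext ((hsec z).trans (hsec w).symm)⟩
    have hle : Nat.card Fx ≤ 1 := Finite.card_le_one_iff_subsingleton.mpr inferInstance
    have h2 : (Fintype.card F + 1) % r = 2 % r := by
      rw [show Fintype.card F + 1 = (Fintype.card F - 1) + 2 by have := Fintype.card_pos (α := F); omega,
        Nat.add_mod, Nat.mod_eq_zero_of_dvd hrq, zero_add, Nat.mod_mod]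
    rw [h2, Nat.mod_eq_of_lt (a := 2) (by have := hr.two_le; omega)] at hmod
    rcases Nat.le_one_iff_eq_zero_or_eq_one.mp hle with e | e <;> rw [e] at hmod
    · simp at hmod
    · rw [Nat.mod_eq_of_lt hr.one_lt] at hmod; omega
  · intro a hay
    rw [mem_fixer]
    obtain ⟨H, hH⟩ := QuotientGroup.mk'_surjective (Subgroup.center (GL (Fin 2) F)) (a : Quot' 2 F)
    have hc := congrArg (fun g : ↥G => (g : Quot' 2 F)) hay.eq
    simp only [Subgroup.coe_mul, hy, ← hH] at hc
    have hcom := lift_commute (hr.odd_of_ne_two hr2) (Y := reg (twoBasis F) u) (H := H)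
      (by rw [← map_pow, hur, map_one]; exact one_mem _) hc
    show act (a : Quot' 2 F) _ = _
    rw [← hH, axisPt]
    rw [show (QuotientGroup.mk' (Subgroup.center (GL (Fin 2) F)) H) = proj H from rfl, act_fix_iff]
    obtain ⟨z, hz⟩ : ∃ z : F × F, ((twoBasis F).repr z : Fin 2 → F) =
        (H : Matrix (Fin 2) (Fin 2) F).mulVec ((twoBasis F).repr ((1, 0) : F × F)) :=
      ⟨(twoBasis F).equivFun.symm _, (twoBasis F).equivFun.apply_symm_apply _⟩
    have e1 : (u : F × F) * z = (u : F × F).1 • z := by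
      apply (twoBasis F).repr.injective
      apply DFunLike.coe_injective
      rw [map_smul, Finsupp.coe_smul, hz, ← leftMul_mulVec, hz, Matrix.mulVec_mulVec]
      have hm : (Algebra.leftMulMatrix (twoBasis F) (u : F × F)) * (H : Matrix (Fin 2) (Fin 2) F) =
          (H : Matrix (Fin 2) (Fin 2) F) * Algebra.leftMulMatrix (twoBasis F) (u : F × F) :=
        congrArg (fun M : GL (Fin 2) F => (M : Matrix (Fin 2) (Fin 2) F)) hcom.eq.symm
      rw [hm, ← Matrix.mulVec_mulVec, leftMul_mulVec, ← Matrix.mulVec_smul, ← Finsupp.coe_smul, ← map_smul]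
      congr 3
      ext <;> simp
    have hz2 : z.2 = 0 := by
      have := congrArg Prod.snd e1
      simp only [Prod.snd_mul, Prod.smul_snd, smul_eq_mul] at this
      by_contra h0
      exact hne (mul_right_cancel₀ h0 this)
    refine ⟨z.1, ?_⟩
    rw [← hz, ← Finsupp.coe_smul, ← map_smul]
    congr 2
    ext <;> simp [hz2]

theorem pow_eq_one_of_coprime {r : ℕ} (hr : r.Prime) (hrq : ¬ r ∣ Fintype.card F - 1) {x : Fˣ} (hx : x ^ r = 1) :
    x = 1 := by
  rw [← orderOf_eq_one_iff]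
  refine ((Nat.dvd_prime hr).mp (orderOf_dvd_of_pow_eq_one hx)).resolve_right fun e => hrq ?_
  classical
  rw [← e, ← Fintype.card_units, ← Nat.card_eq_fintype_card]
  exact orderOf_dvd_natCard x

/-- The elements of order `r` are fixed-point-free. -/
theorem fpf_of_order {G : Subgroup (Quot' 2 F)} {r : ℕ} [Fact r.Prime] (hr2 : r ≠ 2) (hrq : r ∣ Fintype.card F + 1)
    {s : ↥G} (hs : orderOf s = r) (e : Pts 2 F) : act (s : Quot' 2 F) e ≠ e := by
  intro he
  have hr : r.Prime := Fact.out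
  have hmod := fixed_modEq (zpowers s) (IsPGroup.of_card (n := 1) (by rw [Nat.card_zpowers, hs, pow_one]))
  rw [Nat.mod_eq_zero_of_dvd hrq] at hmod
  set Fx := {q : Pts 2 F // ∀ g ∈ zpowers s, gact G g q = q}
  haveI : Nonempty Fx := ⟨⟨e, fun g hg => by
    have : zpowers s ≤ fixer (gact G) e := zpowers_le.mpr ((mem_fixer _ _).mpr he)
    exact (mem_fixer _ _).mp (this hg)⟩⟩
  have hr3 : 3 ≤ Nat.card Fx := by
    have h1 := Nat.le_of_dvd Nat.card_pos (Nat.dvd_of_mod_eq_zero hmod.symm)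
    have := hr.two_le
    omega
  classical
  haveI := Fintype.ofFinite Fx
  rw [Nat.card_eq_fintype_card] at hr3
  obtain ⟨a, b, c, hab, hac, hbc⟩ := Fintype.two_lt_card_iff.mp hr3
  have h1 : (s : Quot' 2 F) = 1 := three_fixed (fun e => hab (Subtype.ext e)) (fun e => hac (Subtype.ext e))
    (fun e => hbc (Subtype.ext e)) (a.2 s (mem_zpowers s)) (b.2 s (mem_zpowers s)) (c.2 s (mem_zpowers s))
  rw [show s = 1 from Subtype.ext h1, orderOf_one] at hs
  exact hr.ne_one hs.symm

/-- Matrices commuting with a fixed-point-free `Y` are polynomials in `Y`. -/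
theorem exists_poly {Y : GL (Fin 2) F} (hY : ∀ e, act (proj Y) e ≠ e) {H : Matrix (Fin 2) (Fin 2) F}
    (hH : Commute H (Y : Matrix (Fin 2) (Fin 2) F)) :
    ∃ a b : F, H = a • 1 + b • (Y : Matrix (Fin 2) (Fin 2) F) := by
  set M : Matrix (Fin 2) (Fin 2) F := (Y : Matrix (Fin 2) (Fin 2) F)
  set v : Fin 2 → F := Pi.single 0 1 with hv
  have hv0 : v ≠ 0 := fun h => by simpa [hv] using congrFun h 0
  have hli : LinearIndependent F ![v, M.mulVec v] := by
    rw [LinearIndependent.pair_iff' hv0]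
    exact fun a ha => hY _ ((act_fix_iff Y v hv0).mpr ⟨a, ha⟩)
  have hspan : Submodule.span F (Set.range ![v, M.mulVec v]) = ⊤ :=
    hli.span_eq_top_of_card_eq_finrank (by simp)
  have hrep : ∀ w, ∃ c : Fin 2 → F, ∑ i, c i • ![v, M.mulVec v] i = w := fun w =>
    (Submodule.mem_span_range_iff_exists_fun F).mp (hspan ▸ Submodule.mem_top)
  obtain ⟨c, hc⟩ := hrep (H.mulVec v)
  refine ⟨c 0, c 1, ?_⟩
  rw [Fin.sum_univ_two] at hc
  simp only [Matrix.cons_val_zero, Matrix.cons_val_one] at hc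
  set H' := c 0 • (1 : Matrix (Fin 2) (Fin 2) F) + c 1 • M with hH'
  have h1 : H.mulVec v = H'.mulVec v := by
    rw [hH', Matrix.add_mulVec, Matrix.smul_mulVec, Matrix.smul_mulVec, Matrix.one_mulVec, hc]
  have hH'c : Commute H' M := ((Commute.one_left M).smul_left _).add_left ((Commute.refl M).smul_left _)
  apply Matrix.toLin'.injective
  apply LinearMap.ext
  intro w
  obtain ⟨d, hd⟩ := hrep w
  rw [← hd, Fin.sum_univ_two]
  simp only [Matrix.cons_val_zero, Matrix.cons_val_one, Matrix.toLin'_apply, Matrix.mulVec_add, Matrix.mulVec_smul,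
    Matrix.mulVec_mulVec]
  rw [hH.eq, hH'c.eq, ← Matrix.mulVec_mulVec, ← Matrix.mulVec_mulVec, h1]

theorem centralizer_comm {Y H H' : GL (Fin 2) F} (hY : ∀ e, act (proj Y) e ≠ e) (h : Commute H Y)
    (h' : Commute H' Y) : Commute H H' := by
  obtain ⟨a, b, hab⟩ := exists_poly hY
    (congrArg (fun M : GL (Fin 2) F => (M : Matrix (Fin 2) (Fin 2) F)) h.eq)
  have hc : Commute (H : Matrix (Fin 2) (Fin 2) F) H' := by
    rw [hab]
    exact ((Commute.one_left _).smul_left _).add_left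
      ((show Commute (Y : Matrix (Fin 2) (Fin 2) F) H' from
        (congrArg (fun M : GL (Fin 2) F => (M : Matrix (Fin 2) (Fin 2) F)) h'.eq).symm).smul_left _)
  exact Units.ext hc.eq

theorem card_centralizer {Y : GL (Fin 2) F} (hY : ∀ e, act (proj Y) e ≠ e) :
    Fintype.card F ^ 2 - 1 = Nat.card ↥(centralizer ({Y} : Set (GL (Fin 2) F))) := by
  classical
  set M : Matrix (Fin 2) (Fin 2) F := (Y : Matrix (Fin 2) (Fin 2) F)
  let P : F × F → Matrix (Fin 2) (Fin 2) F := fun ab => ab.1 • 1 + ab.2 • M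
  have hker : ∀ ab : F × F, ab ≠ 0 → ∀ w, w ≠ 0 → (P ab).mulVec w ≠ 0 := by
    intro ab hab w hw h0
    simp only [P, Matrix.add_mulVec, Matrix.smul_mulVec, Matrix.one_mulVec] at h0
    by_cases hb : ab.2 = 0
    · rw [hb, zero_smul, add_zero, smul_eq_zero] at h0
      exact hab (Prod.ext (h0.resolve_right hw) hb)
    · refine hY _ ((act_fix_iff Y w hw).mpr ⟨-(ab.2⁻¹ * ab.1), ?_⟩)
      have h1 : ab.2 • M.mulVec w = -(ab.1 • w) := eq_neg_of_add_eq_zero_right h0
      rw [show M.mulVec w = ab.2⁻¹ • (ab.2 • M.mulVec w) by rw [smul_smul, inv_mul_cancel₀ hb, one_smul], h1,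
        smul_neg, smul_smul, neg_smul]
  have hdet : ∀ ab : {ab : F × F // ab ≠ 0}, (P ab.1).det ≠ 0 := by
    intro ab h0
    obtain ⟨w, hw, hw0⟩ := Matrix.exists_mulVec_eq_zero_iff.mpr h0
    exact hker ab.1 ab.2 w hw hw0
  have hcomm : ∀ ab : F × F, Commute (P ab) M := fun ab =>
    ((Commute.one_left M).smul_left _).add_left ((Commute.refl M).smul_left _)
  let f : {ab : F × F // ab ≠ 0} → ↥(centralizer ({Y} : Set (GL (Fin 2) F))) := fun ab =>
    ⟨Matrix.GeneralLinearGroup.mkOfDetNeZero (P ab.1) (hdet ab),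
      mem_centralizer_singleton_iff.mpr (Units.ext (hcomm ab.1).eq)⟩
  have hf : Function.Bijective f := by
    constructor
    · rintro ⟨⟨a, b⟩, h1⟩ ⟨⟨a', b'⟩, h2⟩ he
      have e : P (a, b) = P (a', b') :=
        congrArg (fun t : ↥(centralizer ({Y} : Set (GL (Fin 2) F))) =>
          ((t : GL (Fin 2) F) : Matrix (Fin 2) (Fin 2) F)) he
      apply Subtype.ext
      show (a, b) = (a', b')
      by_contra hne
      have e' : P (a - a', b - b') = 0 := by
        simp only [P] at e ⊢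
        rw [sub_smul, sub_smul, sub_add_sub_comm, e, sub_self]
      refine hker (a - a', b - b') (fun h0 => hne ?_) (Pi.single 0 1) (fun h => by simpa using congrFun h 0)
        (by rw [e', Matrix.zero_mulVec])
      simpa [Prod.ext_iff, sub_eq_zero] using h0
    · rintro ⟨H, hH⟩
      obtain ⟨a, b, hab⟩ := exists_poly hY
        (congrArg (fun M : GL (Fin 2) F => (M : Matrix (Fin 2) (Fin 2) F)) (mem_centralizer_singleton_iff.mp hH))
      refine ⟨⟨(a, b), fun h0 => H.ne_zero ?_⟩, Subtype.ext (Units.ext hab.symm)⟩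
      rw [Prod.mk_eq_zero] at h0
      rw [hab, h0.1, h0.2, zero_smul, zero_smul,
        add_zero]
  rw [← Nat.card_eq_of_bijective f hf, Nat.card_eq_fintype_card, Fintype.card_subtype_compl,
    Fintype.card_subtype_eq, Fintype.card_prod, pow_two]

/-- `n = 2`, an odd prime divides `q + 1` but not `q - 1`, and `4 ∣ q - 1`. -/
theorem no_cover_nonsplit (G : Subgroup (Quot' 2 F)) (hG : psl 2 F ≤ G) {r : ℕ} [Fact r.Prime] (hr2 : r ≠ 2)
    (hrp : r ∣ Fintype.card F + 1) (hrq : ¬ r ∣ Fintype.card F - 1) (h4 : 4 ∣ Fintype.card F - 1)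
    {𝓐 : Finset (Subgroup ↥G)} (h : FG38.NilMinCover 𝓐) : False := by
  classical
  have hr : r.Prime := Fact.out
  have hrodd : Odd r := hr.odd_of_ne_two hr2
  haveI : Fact (Nat.Prime 2) := ⟨Nat.prime_two⟩
  set p := ringChar F
  haveI : Fact p.Prime := ⟨CharP.char_is_prime F p⟩
  haveI : CharP F p := ringChar.charP F
  have hq2 : 2 ≤ Fintype.card F := Fintype.one_lt_card
  obtain ⟨kk, hkk, hcard⟩ := FiniteField.card F p
  have hpq : p ∣ Fintype.card F := by rw [hcard]; exact dvd_pow_self p kk.ne_zero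
  have hp2 : p ≠ 2 := by intro e; rw [e] at hpq; omega
  have hpr : p ≠ r := by
    intro e
    rw [e] at hpq
    exact hr.not_dvd_one ((Nat.dvd_add_right hpq).mp hrp)
  have hrsq : r ∣ Fintype.card F ^ 2 - 1 := by
    rw [show Fintype.card F ^ 2 - 1 = (Fintype.card F + 1) * (Fintype.card F - 1) by rw [← Nat.sq_sub_sq, one_pow]]
    exact hrp.mul_right _
  -- elements of order `r` of `G` coming from a commuting lift
  have key : ∀ (Y : GL (Fin 2) F) (H : GL (Fin 2) F), orderOf H = r →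
      Commute H Y → ∃ s : ↥G, orderOf s = r ∧ Commute (s : Quot' 2 F) (proj Y) := by
    intro Y H hH hHY
    have hHr : H ^ r = 1 := hH ▸ pow_orderOf_eq_one H
    have hdet : Matrix.GeneralLinearGroup.det H = 1 :=
      pow_eq_one_of_coprime hr hrq (by rw [← map_pow, hHr, map_one])
    have hmem : proj H ∈ psl 2 F := proj_mem_psl (congrArg (fun t : Fˣ => (t : F)) hdet)
    refine ⟨⟨proj H, hG hmem⟩, ?_, hHY.map proj⟩
    rw [Subgroup.orderOf_mk]
    refine orderOf_eq_prime (by rw [← map_pow, hHr, map_one]) fun h1 => ?_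
    have hc : H ∈ Subgroup.center (GL (Fin 2) F) := (QuotientGroup.eq_one_iff H).mp h1
    rw [Matrix.GeneralLinearGroup.center_eq_range_scalar] at hc
    obtain ⟨l, rfl⟩ := hc
    have hl : l ^ r = 1 := by
      have := congrArg (fun M : GL (Fin 2) F => ((M : Matrix (Fin 2) (Fin 2) F) 0 0)) hHr
      apply Units.ext
      simpa [← map_pow, Matrix.scalar_apply] using this
    rw [pow_eq_one_of_coprime hr hrq hl, map_one, orderOf_one] at hH
    exact hr.ne_one hH.symm
  obtain ⟨s₀, hs₀⟩ : ∃ s : ↥G, orderOf s = r := by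
    obtain ⟨S, hS⟩ := exists_prime_orderOf_dvd_card' (G := Matrix.SpecialLinearGroup (Fin 2) F) r
      (by rw [LinearGroup.card_SL_two, Nat.card_eq_fintype_card]; exact hrsq.mul_left _)
    obtain ⟨s, hs, -⟩ := key 1 (Matrix.SpecialLinearGroup.toGL S)
      ((orderOf_injective _ Matrix.SpecialLinearGroup.toGL_injective S).trans hS) (Commute.one_right _)
    exact ⟨s, hs⟩
  have hfpf : ∀ s : ↥G, orderOf s = r → ∀ e, act (s : Quot' 2 F) e ≠ e := fun s hs e =>
    fpf_of_order hr2 hrp hs e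
  have habel : ∀ s : ↥G, orderOf s = r → ∀ a b : ↥G, Commute a s → Commute b s → Commute a b := by
    intro s hs a b ha hb
    obtain ⟨Y, hY⟩ := QuotientGroup.mk'_surjective (Subgroup.center (GL (Fin 2) F)) (s : Quot' 2 F)
    obtain ⟨A, hA⟩ := QuotientGroup.mk'_surjective (Subgroup.center (GL (Fin 2) F)) (a : Quot' 2 F)
    obtain ⟨B, hB⟩ := QuotientGroup.mk'_surjective (Subgroup.center (GL (Fin 2) F)) (b : Quot' 2 F)
    have hYr : Y ^ r ∈ Subgroup.center (GL (Fin 2) F) := by
      refine (QuotientGroup.eq_one_iff _).mp ?_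
      show QuotientGroup.mk' (Subgroup.center (GL (Fin 2) F)) (Y ^ r) = 1
      rw [map_pow, hY, ← SubgroupClass.coe_pow, ← hs, pow_orderOf_eq_one]
      rfl
    have hca := congrArg (fun g : ↥G => (g : Quot' 2 F)) ha.eq
    have hcb := congrArg (fun g : ↥G => (g : Quot' 2 F)) hb.eq
    simp only [Subgroup.coe_mul, ← hA, ← hB, ← hY] at hca hcb
    have hYf : ∀ e, act (proj Y) e ≠ e := fun e => by
      show act (QuotientGroup.mk' (Subgroup.center (GL (Fin 2) F)) Y) e ≠ e
      rw [hY]; exact hfpf s hs e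
    apply Subtype.ext
    show (a : Quot' 2 F) * b = b * a
    rw [← hA, ← hB]
    exact ((centralizer_comm hYf (lift_commute hrodd hYr hca) (lift_commute hrodd hYr hcb)).map
      (QuotientGroup.mk' _)).eq
  -- members attached to the points
  have hx : ∀ e : Pts 2 F, ∃ (A : Subgroup ↥G) (x : ↥G), A ∈ 𝓐 ∧ x ∈ A ∧ A ≤ fixer (gact G) e ∧
      IsPGroup p ↥(zpowers x) ∧ ∀ z, act (x : Quot' 2 F) z = z ↔ z = e := by
    intro e
    obtain ⟨X, x, k, hx, hpow, hfix⟩ := exists_unipotent_at le_rfl hG p e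
    obtain ⟨A, hA, hxA⟩ := h.1.2 x
    exact ⟨A, x, hA, hxA, member_le le_rfl p h hx hpow hfix hA hxA,
      isPGroup_zpowers (N := k) (by rw [hx, ← map_pow, hpow, map_one]), fun z => by rw [hx]; exact hfix z⟩
  choose Am xm hAm hxm hAle hxp hxfix using hx
  have hs_p : ∀ s : ↥G, orderOf s = r → IsPGroup r ↥(zpowers s) := fun s hs =>
    IsPGroup.of_card (n := 1) (by rw [Nat.card_zpowers, hs, pow_one])
  -- commuting elements permute fixed points
  have hperm : ∀ a b : ↥G, Commute a b → ∀ z, act (b : Quot' 2 F) z = z →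
      act (b : Quot' 2 F) (act (a : Quot' 2 F) z) = act (a : Quot' 2 F) z := by
    intro a b hab z hz
    rw [← Equiv.Perm.mul_apply, ← map_mul, ← Subgroup.coe_mul, ← hab.eq, Subgroup.coe_mul, map_mul,
      Equiv.Perm.mul_apply, hz]
  have hnoXS : ∀ e, ∀ s : ↥G, orderOf s = r → s ∈ Am e → False := by
    intro e s hs hsA
    exact hfpf s hs e ((hxfix e _).mp
      (hperm s (xm e) (commute_of_nilpotent (h.2.2 _ (hAm e)) hpr (hxm e) hsA (hxp e) (hs_p s hs)).symm e
        ((hxfix e e).mpr rfl)))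
  -- the split element
  obtain ⟨b, hb⟩ := exists_order_pow (U := Fˣ) (r := 2) (v := 2)
    (by rw [Nat.card_units, Nat.card_eq_fintype_card]; exact h4)
  set u : (F × F)ˣ := MulEquiv.prodUnits.symm (b⁻¹, b) with hu
  have hne : (u : F × F).2 ≠ (u : F × F).1 := by
    show (b : F) ≠ ((b⁻¹ : Fˣ) : F)
    intro e
    have h1 : b ^ 2 = 1 := by rw [pow_two]; nth_rw 2 [Units.ext e]; rw [mul_inv_cancel]
    have := Nat.le_of_dvd two_pos (hb ▸ orderOf_dvd_of_pow_eq_one h1)
    omega
  obtain ⟨t, ht⟩ : ∃ t : ↥G, (t : Quot' 2 F) = proj (reg (twoBasis F) u) :=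
    ⟨⟨_, hG (proj_mem_psl (by
      rw [det_reg]
      show ((b⁻¹ : Fˣ) : F) * Algebra.norm F (b : F) = 1
      rw [Algebra.norm_self, MonoidHom.id_apply, Units.inv_mul]))⟩, rfl⟩
  have htp : IsPGroup 2 ↥(zpowers t) := isPGroup_zpowers (N := 2) (by
    rw [ht, ← map_pow, ← map_pow, hu, ← map_pow, Prod.pow_mk, inv_pow,
      show b ^ 2 ^ 2 = 1 from hb ▸ pow_orderOf_eq_one b, inv_one, show ((1 : Fˣ), (1 : Fˣ)) = 1 from rfl,
      map_one, map_one, map_one])
  obtain ⟨Bm, hBm, htB⟩ := h.1.2 t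
  set e1 := axisPt (twoBasis F)
  set e2 := (secondPt : Pts 2 F)
  -- an element of odd order commuting with `t` fixes both points
  have htfix : ∀ a : ↥G, Commute a t → Odd (orderOf a) → act (a : Quot' 2 F) e1 = e1 ∧ act (a : Quot' 2 F) e2 = e2 := by
    intro a hat hodd
    have ht1 : act (t : Quot' 2 F) e1 = e1 := by rw [ht]; exact act_axis _ u
    have ht2 : act (t : Quot' 2 F) e2 = e2 := by rw [ht]; exact fix_second u
    have hm : ∀ z, act (t : Quot' 2 F) z = z → z = e1 ∨ z = e2 := fun z hz => by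
      rw [ht] at hz; exact two_fix hne hz
    set σ := act (a : Quot' 2 F) with hσ
    have hsq : ∀ z, (z = e1 ∨ z = e2) → σ (σ z) = z := by
      intro z hz
      have h1 := hm _ (hperm a t hat e1 ht1)
      have h2 := hm _ (hperm a t hat e2 ht2)
      rw [← hσ] at h1 h2
      have hne' : σ e1 ≠ σ e2 := fun e => axis_ne_second (σ.injective e)
      rcases h1 with h1 | h1 <;> rcases h2 with h2 | h2
      · exact absurd (h1.trans h2.symm) hne'
      · rcases hz with rfl | rfl
        · rw [h1, h1]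
        · rw [h2, h2]
      · rcases hz with rfl | rfl
        · rw [h1, h2]
        · rw [h2, h1]
      · exact absurd (h1.trans h2.symm) hne'
    obtain ⟨j, hj⟩ := hodd
    have hord : σ ^ orderOf a = 1 := by
      rw [hσ, ← map_pow, ← SubgroupClass.coe_pow, pow_orderOf_eq_one, Subgroup.coe_one, map_one]
    have hfix : ∀ z, (z = e1 ∨ z = e2) → σ z = z := by
      intro z hz
      have hiter : ∀ i : ℕ, ((σ ^ 2) ^ i) z = z := by
        intro i
        induction i with
        | zero => rfl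
        | succ i ih => rw [pow_succ, Equiv.Perm.mul_apply, pow_two, Equiv.Perm.mul_apply, hsq z hz, ← pow_two, ih]
      have := hiter j
      have e : σ ^ orderOf a = σ * (σ ^ 2) ^ j := by rw [hj, pow_succ', pow_mul]
      rw [hord] at e
      have e' := congrArg (fun τ : Equiv.Perm (Pts 2 F) => τ z) e
      simp only [Equiv.Perm.one_apply, Equiv.Perm.mul_apply, this] at e'
      exact e'.symm
    exact ⟨hfix e1 (Or.inl rfl), hfix e2 (Or.inr rfl)⟩
  have hodd_p : ∀ e, Odd (orderOf (xm e)) := by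
    intro e
    obtain ⟨i, hi⟩ := IsPGroup.iff_card.mp (hxp e)
    rw [Nat.card_zpowers] at hi
    rw [hi]
    exact ((Fact.out : p.Prime).odd_of_ne_two hp2).pow
  have hBX : ∀ e, Bm ≠ Am e := by
    intro e he
    have hc := commute_of_nilpotent (h.2.2 _ (hAm e)) hp2 (hxm e) (he ▸ htB) (hxp e) htp
    obtain ⟨h1, h2⟩ := htfix (xm e) hc (hodd_p e)
    exact axis_ne_second (((hxfix e e1).mp h1).trans ((hxfix e e2).mp h2).symm)
  -- tori
  set T : Finset (Subgroup ↥G) := (Finset.univ.filter fun C : Subgroup ↥G =>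
    ∃ s : ↥G, orderOf s = r ∧ centralizer {s} = C) with hT
  have hTmem : ∀ C ∈ T, ∃ (s : ↥G) (A : Subgroup ↥G), orderOf s = r ∧ centralizer {s} = C ∧ A ∈ 𝓐 ∧ s ∈ A := by
    intro C hC
    obtain ⟨s, hs, hsC⟩ := (Finset.mem_filter.mp hC).2
    obtain ⟨A, hA, hsA⟩ := h.1.2 s
    exact ⟨s, A, hs, hsC, hA, hsA⟩
  choose sT AT hsT hsTC hAT hsAT using hTmem
  have hsame : ∀ (s z : ↥G), orderOf s = r → orderOf z = r → Commute s z → centralizer {s} ≤ centralizer {z} := by
    intro s z hs hz hsz a ha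
    exact mem_centralizer_singleton_iff.mpr
      (habel s hs a z (mem_centralizer_singleton_iff.mp ha) hsz.symm).eq
  have hinj : ∀ C hC D hD, AT C hC = AT D hD → C = D := by
    intro C hC D hD he
    set A := AT C hC
    haveI := h.2.2 _ (hAT C hC)
    have hsA := hsAT C hC
    have hs'A : sT D hD ∈ A := he ▸ hsAT D hD
    obtain ⟨R⟩ := (inferInstance : Nonempty (Sylow r ↥A))
    haveI : Subsingleton (Sylow r ↥A) := (Sylow.unique_of_normal R inferInstance).instSubsingleton
    have hinR : ∀ s : ↥G, ∀ hs : s ∈ A, orderOf s = r → (⟨s, hs⟩ : ↥A) ∈ (R : Subgroup ↥A) := by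
      intro s hs hso
      obtain ⟨R', hR'⟩ := (IsPGroup.of_card (n := 1) (show Nat.card (zpowers (⟨s, hs⟩ : ↥A)) = r ^ 1 by
        rw [Nat.card_zpowers, Subgroup.orderOf_mk, hso, pow_one])).exists_le_sylow
      rw [Subsingleton.elim R' R] at hR'
      exact hR' (mem_zpowers _)
    haveI : Nontrivial ↥(R : Subgroup ↥A) := ⟨⟨⟨_, hinR _ hsA (hsT C hC)⟩, 1, fun e => hr.ne_one (by
      rw [← hsT C hC, show sT C hC = 1 from congrArg (fun w : ↥(R : Subgroup ↥A) => ((w : ↥A) : ↥G)) e,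
        orderOf_one])⟩⟩
    haveI := R.isPGroup'.center_nontrivial
    obtain ⟨i, hi, hi'⟩ := (R.isPGroup'.to_subgroup (center ↥(R : Subgroup ↥A))).nontrivial_iff_card.mp this
    obtain ⟨z, hz⟩ := exists_prime_orderOf_dvd_card' (G := ↥(center ↥(R : Subgroup ↥A))) r
      (hi' ▸ dvd_pow_self r hi.ne')
    set zz : ↥G := (((z : ↥(R : Subgroup ↥A)) : ↥A) : ↥G)
    have hzo : orderOf zz = r := by simp only [zz, Subgroup.orderOf_coe, hz]
    have hcz : ∀ s : ↥G, ∀ hs : s ∈ A, orderOf s = r → Commute s zz := fun s hs hso =>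
      congrArg (fun w : ↥(R : Subgroup ↥A) => ((w : ↥A) : ↥G)) (mem_center_iff.mp z.2 ⟨_, hinR s hs hso⟩)
    have hCz : ∀ s : ↥G, ∀ hs : s ∈ A, orderOf s = r → centralizer {s} = centralizer {zz} := fun s hs hso =>
      le_antisymm (hsame s zz hso hzo (hcz s hs hso)) (hsame zz s hzo hso (hcz s hs hso).symm)
    rw [← hsTC C hC, ← hsTC D hD, hCz _ hsA (hsT C hC), hCz _ hs'A (hsT D hD)]
  -- counting
  haveI := Fintype.ofFinite (Pts 2 F)
  set S1 : Finset (Subgroup ↥G) := Finset.univ.image Am with hS1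
  set S2 : Finset (Subgroup ↥G) := T.attach.image fun C => AT C.1 C.2 with hS2
  have hc1 : S1.card = Fintype.card (Pts 2 F) := by
    rw [hS1, Finset.card_image_of_injective, Finset.card_univ]
    intro e e' he
    have : gact G (xm e) e' = e' := (mem_fixer _ _).mp (hAle e' (he ▸ hxm e))
    exact ((hxfix e e').mp this).symm
  have hc2 : S2.card = T.card := by
    rw [hS2, Finset.card_image_of_injective, Finset.card_attach]
    intro C D he
    exact Subtype.ext (hinj _ _ _ _ he)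
  have hd12 : Disjoint S1 S2 := by
    rw [Finset.disjoint_left]
    intro A hA hA'
    obtain ⟨e, -, rfl⟩ := Finset.mem_image.mp hA
    obtain ⟨C, -, hC⟩ := Finset.mem_image.mp hA'
    exact hnoXS e _ (hsT C.1 C.2) (hC ▸ hsAT C.1 C.2)
  have hB : Bm ∉ S1 ∪ S2 := by
    rw [Finset.mem_union, not_or]
    refine ⟨fun hm => ?_, fun hm => ?_⟩
    · obtain ⟨e, -, he⟩ := Finset.mem_image.mp hm
      exact hBX e he.symm
    · obtain ⟨C, -, hC⟩ := Finset.mem_image.mp hm
      have hs := hsT C.1 C.2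
      have hc := commute_of_nilpotent (h.2.2 _ hBm) hr2 (hC ▸ hsAT C.1 C.2) htB (hs_p _ hs) htp
      exact hfpf _ hs e1 (htfix _ hc (hs ▸ hrodd)).1
  have hlow : Fintype.card (Pts 2 F) + T.card + 1 ≤ 𝓐.card := by
    have h1 : insert Bm (S1 ∪ S2) ⊆ 𝓐 := by
      intro A hA
      rcases Finset.mem_insert.mp hA with rfl | hA
      · exact hBm
      rcases Finset.mem_union.mp hA with hA | hA
      · obtain ⟨e, -, rfl⟩ := Finset.mem_image.mp hA; exact hAm e
      · obtain ⟨C, -, rfl⟩ := Finset.mem_image.mp hA; exact hAT _ _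
    have h2 := Finset.card_le_card h1
    rw [Finset.card_insert_of_notMem hB, Finset.card_union_of_disjoint hd12, hc1, hc2] at h2
    exact h2
  have hup := h.2.1 ((Finset.univ.image fun e => fixer (gact G) e) ∪ T) ⟨?_, ?_⟩
  · have h1 := (hup.trans (Finset.card_union_le _ _))
    have h2 := Finset.card_image_le (s := (Finset.univ : Finset (Pts 2 F))) (f := fun e => fixer (gact G) e)
    rw [Finset.card_univ] at h2
    omega
  · intro A hA
    rcases Finset.mem_union.mp hA with hA | hA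
    · obtain ⟨e, -, rfl⟩ := Finset.mem_image.mp hA
      exact fixer_ne_top le_rfl hG e
    · obtain ⟨s, hs, rfl⟩ := (Finset.mem_filter.mp hA).2
      intro htop
      set e := (axisPt (twoBasis F))
      have hc : Commute (xm e) s := mem_centralizer_singleton_iff.mp (htop.ge (mem_top (xm e)))
      exact hfpf s hs e ((hxfix e _).mp (hperm s (xm e) hc.symm e ((hxfix e e).mpr rfl)))
  · intro g
    by_cases hg : ∃ e, act (g : Quot' 2 F) e = e
    · obtain ⟨e, he⟩ := hg
      exact ⟨_, Finset.mem_union_left _ (Finset.mem_image_of_mem _ (Finset.mem_univ e)), (mem_fixer _ _).mpr he⟩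
    push Not at hg
    obtain ⟨Y, hY⟩ := QuotientGroup.mk'_surjective (Subgroup.center (GL (Fin 2) F)) (g : Quot' 2 F)
    have hYf : ∀ e, act (proj Y) e ≠ e := fun e => by
      show act (QuotientGroup.mk' (Subgroup.center (GL (Fin 2) F)) Y) e ≠ e
      rw [hY]; exact hg e
    obtain ⟨H, hH⟩ := exists_prime_orderOf_dvd_card' (G := ↥(centralizer ({Y} : Set (GL (Fin 2) F)))) r
      (card_centralizer hYf ▸ hrsq)
    obtain ⟨s, hs, hsc⟩ := key Y (H : GL (Fin 2) F) (by rw [Subgroup.orderOf_coe, hH])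
      (mem_centralizer_singleton_iff.mp H.2)
    refine ⟨centralizer {s}, Finset.mem_union_right _ (Finset.mem_filter.mpr ⟨Finset.mem_univ _, s, hs, rfl⟩), ?_⟩
    rw [mem_centralizer_singleton_iff]
    apply Subtype.ext
    show (g : Quot' 2 F) * s = s * g
    rw [← hY]
    exact hsc.eq.symm

end Two

theorem exists_odd_prime_or {q : ℕ} (hq : 4 ≤ q) (heven : Even q → ∃ k, q = 2 ^ k) :
    (∃ r, r.Prime ∧ r ≠ 2 ∧ r ∣ q - 1) ∨
    (4 ∣ q - 1 ∧ ∃ r, r.Prime ∧ r ≠ 2 ∧ r ∣ q + 1 ∧ ¬ r ∣ q - 1) := by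
  by_cases hall : ∃ r, r.Prime ∧ r ≠ 2 ∧ r ∣ q - 1
  · exact Or.inl hall
  push Not at hall
  obtain ⟨a, ha⟩ : ∃ a, q - 1 = 2 ^ a :=
    ⟨_, Nat.eq_prime_pow_of_unique_prime_dvd (by omega) fun {d} hd hdq => by
      by_contra hne; exact hall d hd hne hdq⟩
  have ha2 : 2 ≤ a := by
    by_contra hlt
    interval_cases a <;> omega
  obtain ⟨b, rfl⟩ := Nat.exists_eq_add_of_le ha2
  have h4 : 4 ∣ q - 1 := ⟨2 ^ b, by rw [ha, pow_add]; norm_num⟩
  refine Or.inr ⟨h4, ?_⟩
  obtain ⟨c, hc⟩ := h4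
  obtain ⟨r, hr, hrd⟩ := Nat.exists_prime_and_dvd (show (q + 1) / 2 ≠ 1 by omega)
  have hr2 : r ≠ 2 := by rintro rfl; omega
  have hrq : r ∣ q + 1 := hrd.trans (Nat.div_dvd_of_dvd (by omega))
  refine ⟨r, hr, hr2, hrq, fun hd => ?_⟩
  have := Nat.dvd_sub hrq hd
  rw [show q + 1 - (q - 1) = 2 by omega] at this
  exact hr2 ((Nat.prime_dvd_prime_iff_eq hr Nat.prime_two).mp this)


/-- A cover of a group is a finite set of proper subgroups whose union is the whole group; it is minimal when no cover has fewer members, and nilpotent when all its members are nilpotent. Let F be a finite field with q elements and n ≥ 3, or n = 2 and q ≥ 4. Then no subgroup of PGL_n(F) = GL_n(F)/Z(GL_n(F)) containing the image of SL_n(F) has a nilpotent minimal cover. -/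
theorem result {F : Type*} [Field F] [Fintype F] (n : ℕ) (hn : 3 ≤ n ∨ (n = 2 ∧ 4 ≤ Fintype.card F))
    (G : Subgroup (GL (Fin n) F ⧸ Subgroup.center (GL (Fin n) F)))
    (hG : ((Matrix.SpecialLinearGroup.toGL : Matrix.SpecialLinearGroup (Fin n) F →* GL (Fin n) F).range).map
      (QuotientGroup.mk' (Subgroup.center (GL (Fin n) F))) ≤ G) :
    ¬ ∃ 𝓐 : Finset (Subgroup ↥G), ((∀ A ∈ 𝓐, A ≠ ⊤) ∧ (∀ g : ↥G, ∃ A ∈ 𝓐, g ∈ A)) ∧ (∀ 𝓑 : Finset (Subgroup ↥G), (∀ A ∈ 𝓑, A ≠ ⊤) ∧ (∀ g : ↥G, ∃ A ∈ 𝓑, g ∈ A) → 𝓐.card ≤ 𝓑.card) ∧ (∀ A ∈ 𝓐, Group.IsNilpotent ↥A) := by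
  rintro ⟨𝓐, h⟩
  rcases hn with hn | ⟨rfl, hq⟩
  · exact no_cover_three hn G hG h
  · have heven : Even (Fintype.card F) → ∃ k, Fintype.card F = 2 ^ k := by
      intro he
      haveI : CharP F (ringChar F) := ringChar.charP F
      obtain ⟨k, hk, hcard⟩ := FiniteField.card F (ringChar F)
      rw [hcard] at he
      have := (Nat.prime_dvd_prime_iff_eq Nat.prime_two hk).mp (Nat.prime_two.dvd_of_dvd_pow (even_iff_two_dvd.mp he))
      exact ⟨k, by rw [hcard, ← this]⟩
    rcases exists_odd_prime_or hq heven with ⟨r, hr, hr2, hrd⟩ | ⟨h4, r, hr, hr2, hrp, hrq⟩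
    · haveI := Fact.mk hr
      exact no_cover_split G hG hr2 hrd h
    · haveI := Fact.mk hr
      exact no_cover_nonsplit G hG hr2 hrp hrq h4 h

end Cfsg.Agent.S3894
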