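import Cfsg.Statements.S3895
import Cfsg.Agent.Lib.Transfer.PClasses
import Cfsg.Agent.Lib.Transfer.Abelian
import Cfsg.Agent.FG78.PiClasses
import Cfsg.Agent.Lib.CharCore.Linear
import Cfsg.Agent.Lib.CharCore.Complete

set_option autoImplicit false
open Cfsg

namespace Cfsg.Agent.S3895

open Cfsg.Agent.Transfer

/-- `4 k(H) ≤ |H| + 3 |H : H'|`. -/
theorem four_mul_card_conjClasses_le (H : Type*) [Group H] [Finite H] :
    4 * Nat.card (ConjClasses H) ≤ Nat.card H + 3 * (commutator H).index := by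
  classical
  have : Fintype H := Fintype.ofFinite H
  have hd : ∀ χ : Cfsg.IrrCharacter H, ∃ d : ℕ, 0 < d ∧ (χ : H → ℂ) 1 = d :=
    fun χ => CharCore.IsIrrCharacter.exists_degree χ.2
  choose d hd0 hd using hd
  have hsq : ∑ χ, d χ ^ 2 = Nat.card H := by
    have h := CharCore.sum_degree_sq (G := H)
    simp only [hd] at h
    exact_mod_cast h
  have hlin : (Finset.univ.filter fun χ => d χ = 1).card = (commutator H).index := by
    rw [← CharCore.card_linearCharacters, Nat.card_eq_fintype_card, Fintype.card_subtype]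
    congr 1
    ext χ
    simp [hd χ]
  have hle : ∀ χ, 4 ≤ d χ ^ 2 + if d χ = 1 then 3 else 0 := by
    intro χ
    by_cases h1 : d χ = 1
    · rw [if_pos h1, h1]; norm_num
    · rw [if_neg h1, add_zero]
      have := hd0 χ
      have h2 : 2 ≤ d χ := by omega
      calc 4 = 2 ^ 2 := by norm_num
        _ ≤ d χ ^ 2 := Nat.pow_le_pow_left h2 2
  have := Finset.sum_le_sum (s := Finset.univ) fun χ _ => hle χ
  rw [Finset.sum_const, smul_eq_mul, Finset.sum_add_distrib, hsq, ← Finset.sum_filter,
    Finset.sum_const, smul_eq_mul, hlin, Finset.card_univ, ← Nat.card_eq_fintype_card,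
    CharCore.card_irr] at this
  omega

noncomputable abbrev K2 (G : Type*) [Group G] : ℕ :=
  Nat.card {c : ConjClasses G // ∀ x ∈ c.carrier, ∃ k : ℕ, orderOf x = 2 ^ k}

theorem k2_le_mul (G : Type*) [Group G] [Finite G] (N : Subgroup G) [N.Normal] :
    K2 G ≤ K2 N * K2 (G ⧸ N) := by
  have key : ∀ (H : Type _) [Group H] [Finite H] (C : ConjClasses H),
      (∀ x ∈ C.carrier, ∃ k : ℕ, orderOf x = 2 ^ k) ↔
        ∀ q : ℕ, q.Prime → (∃ g : H, ConjClasses.mk g = C ∧ q ∣ orderOf g) → q ∈ ({2} : Set ℕ) := by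
    intro H _ _ C
    constructor
    · rintro h q hq ⟨g, rfl, hqg⟩
      obtain ⟨k, hk⟩ := h g ConjClasses.mem_carrier_mk
      rw [hk] at hqg
      exact (Nat.prime_dvd_prime_iff_eq hq Nat.prime_two).mp (hq.dvd_of_dvd_pow hqg)
    · intro h x hx
      refine ⟨(orderOf x).primeFactorsList.length, Nat.eq_prime_pow_of_unique_prime_dvd
        (orderOf_pos x).ne' fun {q} hq hqx => ?_⟩
      exact h q hq ⟨x, ConjClasses.mem_carrier_iff_mk_eq.mp hx, hqx⟩
  unfold K2
  rw [Nat.card_congr (Equiv.subtypeEquivRight (key G)), Nat.card_congr (Equiv.subtypeEquivRight (key N)),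
    Nat.card_congr (Equiv.subtypeEquivRight (key (G ⧸ N)))]
  exact FG78.card_piClasses_le_mul {2} N

theorem k2_le_card (G : Type*) [Group G] [Finite G] : K2 G ≤ Nat.card G :=
  (Nat.card_le_card_of_injective Subtype.val Subtype.val_injective).trans
    (Nat.card_le_card_of_surjective _ ConjClasses.mk_surjective)

variable {G : Type*} [Group G] [Finite G]

/-- Class bound for a `2`-perfect group with abelian normal Sylow `2`-subgroup `A ≠ 1`. -/
theorem two_mul_k2_le_of_abelian_normal (P : Sylow 2 G) [(P : Subgroup G).Normal]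
    (hab : IsMulCommutative ↥(P : Subgroup G)) (hperf : Cfsg.pResidual 2 G = ⊤)
    (hne : (P : Subgroup G) ≠ ⊥) : 2 * K2 G ≤ Nat.card ↥(P : Subgroup G) := by
  have hPc : (P : Subgroup G) ≤ commutator G := by
    have := sylow_inf_pResidual_le_commutator P
    rw [hperf, inf_top_eq] at this
    exact this.trans inf_le_left
  have hbot := inf_commutator_inf_center_eq_bot hab P.card_coprime_index
  rw [inf_eq_left.mpr hPc] at hbot
  set A : Subgroup (MulAut (P : Subgroup G)) :=
    (MulAut.conjNormal : G →* MulAut (P : Subgroup G)).range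
  have h1 := card_pClasses_le_orbits P A (by
    rintro _ ⟨g, rfl⟩
    exact ⟨g, fun x => MulAut.conjNormal_apply g x⟩)
  have hfix : ∀ x : (P : Subgroup G), x ∈ MulAction.fixedPoints A (P : Subgroup G) → x = 1 := by
    intro x hx
    refine Subtype.ext (Subgroup.mem_bot.mp (hbot.le ⟨x.2, ?_⟩))
    show (x : G) ∈ Subgroup.center G
    rw [Subgroup.mem_center_iff]
    intro g
    have h2 : g * (x : G) * g⁻¹ = x := by
      rw [← MulAut.conjNormal_apply g x]
      exact congrArg Subtype.val (hx ⟨MulAut.conjNormal g, g, rfl⟩)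
    rwa [mul_inv_eq_iff_eq_mul] at h2
  have hAodd : ¬ 2 ∣ Nat.card A := by
    intro hd
    have hker : (P : Subgroup G) ≤ (MulAut.conjNormal : G →* MulAut (P : Subgroup G)).ker := by
      intro u hu
      refine MonoidHom.mem_ker.mpr (MulEquiv.ext fun x => Subtype.ext ?_)
      rw [MulAut.conjNormal_apply, MulAut.one_apply]
      have := congrArg Subtype.val (hab.is_comm.comm ⟨u, hu⟩ x)
      simp only [Subgroup.coe_mul] at this
      rw [this, mul_inv_cancel_right]
    refine P.not_dvd_index (hd.trans ?_)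
    rw [← Subgroup.index_ker]
    exact Subgroup.index_dvd_of_le hker
  have h2 := mul_card_orbits_le (M := A) (X := ↥(P : Subgroup G)) 3 fun x hx => by
    have hd : Nat.card (MulAction.orbit A x) ∣ Nat.card A := by
      have hos := MulAction.orbitEquivQuotientStabilizer A x
      rw [Nat.card_congr hos, ← Subgroup.index_eq_card]
      exact Subgroup.index_dvd_card _
    have hne1 : Nat.card (MulAction.orbit A x) ≠ 1 := by
      intro h1
      apply hx
      have := (Nat.card_eq_one_iff_unique.mp h1).1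
      intro a
      exact congrArg Subtype.val (Subsingleton.elim (⟨a • x, a, rfl⟩ : MulAction.orbit A x)
        ⟨x, MulAction.mem_orbit_self x⟩)
    have hne0 : Nat.card (MulAction.orbit A x) ≠ 0 := fun h0 => by
      rw [h0, zero_dvd_iff] at hd
      exact Nat.card_pos.ne' hd
    have hne2 : Nat.card (MulAction.orbit A x) ≠ 2 := fun h2 => hAodd (by rw [h2] at hd; exact hd)
    omega
  have h3 : Nat.card (MulAction.fixedPoints A (P : Subgroup G)) ≤ 1 := by
    have : Subsingleton (MulAction.fixedPoints A (P : Subgroup G)) :=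
      ⟨fun a b => Subtype.ext ((hfix a a.2).trans (hfix b b.2).symm)⟩
    exact Finite.card_le_one_iff_subsingleton.mpr this
  obtain ⟨n, hn⟩ := IsPGroup.iff_card.mp P.2
  have hn2 : 2 ≤ n := by
    by_contra hlt
    rcases (by omega : n = 0 ∨ n = 1) with rfl | rfl
    · exact hne (Subgroup.card_eq_one.mp (by simpa using hn))
    · -- a subgroup of order two is central
      obtain ⟨⟨u, hu⟩, hu1⟩ := (Subgroup.ne_bot_iff_exists_ne_one).mp hne
      refine hu1 (Subtype.ext ?_)
      refine Subgroup.mem_bot.mp (hbot.le ⟨hu, ?_⟩)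
      show u ∈ Subgroup.center G
      rw [Subgroup.mem_center_iff]
      intro g
      have hsub : ∀ a : (P : Subgroup G), a = 1 ∨ a = ⟨u, hu⟩ := by
        intro a
        have hc : Nat.card ↥(P : Subgroup G) = 2 := by simpa using hn
        obtain ⟨y, z, hyz, huniv⟩ := Nat.card_eq_two_iff.mp hc
        have hmem : ∀ b : (P : Subgroup G), b = y ∨ b = z := fun b => by
          have : b ∈ ({y, z} : Set _) := huniv ▸ Set.mem_univ b
          simpa using this
        have hu' : (1 : (P : Subgroup G)) ≠ ⟨u, hu⟩ := fun h => hu1 (Subtype.ext (congrArg Subtype.val h).symm)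
        rcases hmem a with rfl | rfl <;> rcases hmem 1 with h | h <;>
          rcases hmem ⟨u, hu⟩ with h' | h' <;> simp_all
      rcases hsub ⟨g * u * g⁻¹, ‹(P : Subgroup G).Normal›.conj_mem u hu g⟩ with h | h
      · have h4 : g * u * g⁻¹ = 1 := congrArg Subtype.val h
        rw [mul_inv_eq_one, mul_eq_left] at h4
        rw [h4, mul_one, one_mul]
      · have h4 : g * u * g⁻¹ = u := congrArg Subtype.val h
        rwa [mul_inv_eq_iff_eq_mul] at h4
  have h4 : 4 ≤ Nat.card ↥(P : Subgroup G) := by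
    rw [hn]
    exact (by norm_num : 4 = 2 ^ 2).le.trans (Nat.pow_le_pow_right (by norm_num) hn2)
  unfold K2
  omega

/-- Class bound for a `2`-perfect group with normal Sylow `2`-subgroup `P` with `|P'| ≤ 2`. -/
theorem two_mul_k2_le_of_normal (P : Sylow 2 G) [(P : Subgroup G).Normal]
    (hder : Nat.card (commutator ↥(P : Subgroup G)) ≤ 2) (hperf : Cfsg.pResidual 2 G = ⊤)
    (hne : (P : Subgroup G) ≠ ⊥) : 2 * K2 G ≤ Nat.card ↥(P : Subgroup G) := by
  set D : Subgroup G := (commutator ↥(P : Subgroup G)).map (P : Subgroup G).subtype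
  have hDn : D.Normal := inferInstance
  have hDP : D ≤ (P : Subgroup G) := Subgroup.map_subtype_le _
  have hsurj : Function.Surjective (QuotientGroup.mk' D) := QuotientGroup.mk'_surjective D
  let P' : Sylow 2 (G ⧸ D) := P.mapSurjective hsurj
  have hP' : (P' : Subgroup (G ⧸ D)) = (P : Subgroup G).map (QuotientGroup.mk' D) :=
    Sylow.coe_mapSurjective hsurj P
  have : (P' : Subgroup (G ⧸ D)).Normal := hP' ▸ Subgroup.Normal.map inferInstance _ hsurj
  have hab : IsMulCommutative ↥(P' : Subgroup (G ⧸ D)) := by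
    refine ⟨⟨fun a b => Subtype.ext ?_⟩⟩
    obtain ⟨x, hx, hxa⟩ := Subgroup.mem_map.mp (hP'.le a.2)
    obtain ⟨y, hy, hyb⟩ := Subgroup.mem_map.mp (hP'.le b.2)
    simp only [Subgroup.coe_mul, ← hxa, ← hyb, ← map_mul]
    refine (QuotientGroup.eq).mpr (Subgroup.mem_map.mpr
      ⟨((⟨x, hx⟩ : ↥(P : Subgroup G)) * ⟨y, hy⟩)⁻¹ * ((⟨y, hy⟩ : ↥(P : Subgroup G)) * ⟨x, hx⟩), ?_, rfl⟩)
    have hc := Subgroup.commutator_mem_commutator (Subgroup.mem_top (⟨y, hy⟩ : ↥(P : Subgroup G))⁻¹)
      (Subgroup.mem_top (⟨x, hx⟩ : ↥(P : Subgroup G))⁻¹)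
    rw [commutator_def]
    convert hc using 1
    rw [commutatorElement_def]
    group
  have hne' : (P' : Subgroup (G ⧸ D)) ≠ ⊥ := by
    intro h
    rw [hP', Subgroup.map_eq_bot_iff, QuotientGroup.ker_mk'] at h
    have : Group.IsNilpotent ↥(P : Subgroup G) := P.2.isNilpotent
    refine hne (eq_bot_of_le_commutator le_rfl ?_)
    refine h.trans (le_of_eq ?_)
    rw [← Subgroup.map_subtype_commutator]
  have h1 := two_mul_k2_le_of_abelian_normal P' hab
    (by rw [← map_pResidual_of_surjective _ hsurj, hperf, Subgroup.map_top_of_surjective _ hsurj])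
    hne'
  have h2 := k2_le_mul G D
  have h3 : K2 D ≤ Nat.card D := k2_le_card D
  have hcardD : Nat.card D = Nat.card (commutator ↥(P : Subgroup G)) :=
    (Nat.card_congr (Subgroup.equivMapOfInjective _ _ (Subgroup.subtype_injective _)).toEquiv).symm
  have h4 : Nat.card D * Nat.card ↥(P' : Subgroup (G ⧸ D)) = Nat.card ↥(P : Subgroup G) := by
    have h5 : Nat.card ↥(P' : Subgroup (G ⧸ D)) = D.relIndex (P : Subgroup G) := by
      rw [hP', ← Subgroup.relIndex_bot_left, ← Subgroup.relIndex_comap, MonoidHom.comap_bot,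
        QuotientGroup.ker_mk']
    rw [h5, ← Subgroup.relIndex_bot_left D, Subgroup.relIndex_mul_relIndex _ _ _ bot_le hDP,
      Subgroup.relIndex_bot_left]
  calc 2 * K2 G ≤ 2 * (K2 D * K2 (G ⧸ D)) := Nat.mul_le_mul_left 2 h2
    _ ≤ Nat.card D * (2 * K2 (G ⧸ D)) := by rw [← mul_assoc, mul_comm 2, mul_assoc]; exact Nat.mul_le_mul_right _ h3
    _ ≤ Nat.card D * Nat.card ↥(P' : Subgroup (G ⧸ D)) := Nat.mul_le_mul_left _ h1
    _ = _ := h4

/-- Class bound when `P` has a normal `2`-subgroup `Q` with `2`-nilpotent quotient. -/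
theorem two_mul_k2_le_of_normal_two_subgroup (P : Sylow 2 G)
    (hder : Nat.card (commutator ↥(P : Subgroup G)) ≤ 2) {Q : Subgroup G} [Q.Normal]
    (hQ : IsPGroup 2 Q) (hq : Cfsg.HasNormalPComplement 2 (G ⧸ Q))
    (hnot : ¬ Cfsg.HasNormalPComplement 2 G) : 2 * K2 G ≤ Nat.card ↥(P : Subgroup G) := by
  set K := Cfsg.pResidual 2 G
  obtain ⟨R, hR⟩ := exists_sylow_subgroupOf_normal P K
  have hQP : Q ≤ (P : Subgroup G) := hQ.le_sylow_of_normal P
  have hRQ : (P : Subgroup G) ⊓ K ≤ Q := by
    intro x hx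
    have hxK : QuotientGroup.mk' Q x ∈ Cfsg.pResidual 2 (G ⧸ Q) := map_pResidual_le _ ⟨x, hx.2, rfl⟩
    have hco := (mem_pResidual_iff_coprime hq).mp hxK
    have := eq_one_of_coprime_of_mem (P.2.map (QuotientGroup.mk' Q)) ⟨x, hx.1, rfl⟩ hco
    exact (QuotientGroup.eq_one_iff x).mp this
  have hPK : (P : Subgroup G) ⊓ K = Q ⊓ K :=
    le_antisymm (le_inf hRQ inf_le_right) (inf_le_inf_right _ hQP)
  have hRn : (R : Subgroup K).Normal := by
    rw [hR]
    have : (P : Subgroup G).subgroupOf K = Q.subgroupOf K := by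
      rw [← Subgroup.inf_subgroupOf_right (P : Subgroup G), hPK, Subgroup.inf_subgroupOf_right]
    rw [this]
    infer_instance
  have hRne : (R : Subgroup K) ≠ ⊥ := by
    intro h
    rw [hR, Subgroup.subgroupOf_eq_bot] at h
    exact hnot ((hasNormalPComplement_iff_inf_eq_bot P).mpr (disjoint_iff.mp h))
  have hderR : Nat.card (commutator ↥(R : Subgroup K)) ≤ 2 := by
    let ι : ↥(R : Subgroup K) →* ↥(P : Subgroup G) :=
      ((K.subtype.comp (R : Subgroup K).subtype)).codRestrict (P : Subgroup G) fun r => by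
        have : ((r : K) : G) ∈ (P : Subgroup G) := by
          have h2 : (r : K) ∈ (P : Subgroup G).subgroupOf K := hR ▸ r.2
          exact h2
        exact this
    have hinj : Function.Injective ι := fun a b h =>
      Subtype.ext (Subtype.ext (congrArg (fun u : ↥(P : Subgroup G) => (u : G)) h))
    refine le_trans (le_of_eq (Nat.card_congr ((commutator ↥(R : Subgroup K)).equivMapOfInjective
      ι hinj).toEquiv)) ((Subgroup.card_le_of_le ?_).trans hder)
    rw [commutator_def, commutator_def, Subgroup.map_commutator]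
    exact Subgroup.commutator_mono le_top le_top
  have h1 := two_mul_k2_le_of_normal R hderR pResidual_pResidual hRne
  have h2 := k2_le_mul G K
  have hcardR : Nat.card ↥(R : Subgroup K) * Nat.card (G ⧸ K) = Nat.card ↥(P : Subgroup G) := by
    have h3 : Nat.card ↥(R : Subgroup K) = Nat.card ((P : Subgroup G) ⊓ K : Subgroup G) := by
      rw [hR, ← Subgroup.subgroupOf_map_subtype (P : Subgroup G) K]
      exact Nat.card_congr (Subgroup.equivMapOfInjective _ _ K.subtype_injective).toEquiv
    have h4 : Nat.card (G ⧸ K) = K.relIndex (P : Subgroup G) := by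
      rw [← Subgroup.index_eq_card, ← Subgroup.relIndex_top_right, ← sylow_sup_pResidual_eq_top P]
      exact Subgroup.relIndex_sup_right _ _
    rw [h3, h4, ← Subgroup.inf_relIndex_left, ← Subgroup.relIndex_bot_left (((P : Subgroup G) ⊓ K)),
      Subgroup.relIndex_mul_relIndex _ _ _ bot_le inf_le_left, Subgroup.relIndex_bot_left]
  calc 2 * K2 G ≤ 2 * (K2 K * K2 (G ⧸ K)) := Nat.mul_le_mul_left 2 h2
    _ = (2 * K2 K) * K2 (G ⧸ K) := by rw [mul_assoc]
    _ ≤ Nat.card ↥(R : Subgroup K) * Nat.card (G ⧸ K) := Nat.mul_le_mul h1 (k2_le_card _)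
    _ = _ := hcardR

/-- A non-`2`-nilpotent group with `|P'| ≤ 2` has at most `|P|/2` classes of `2`-elements. -/
theorem two_mul_k2_le (P : Sylow 2 G) (hder : Nat.card (commutator ↥(P : Subgroup G)) ≤ 2)
    (hnot : ¬ Cfsg.HasNormalPComplement 2 G) : 2 * K2 G ≤ Nat.card ↥(P : Subgroup G) := by
  -- it suffices to find a suitable local subgroup containing `P`
  suffices ∃ Q : Subgroup G, IsPGroup 2 Q ∧ (P : Subgroup G) ≤ Subgroup.normalizer (Q : Set G) ∧
      ¬ Cfsg.HasNormalPComplement 2 ↥(Subgroup.normalizer (Q : Set G)) ∧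
      ∀ [(Q.subgroupOf (Subgroup.normalizer (Q : Set G))).Normal], Cfsg.HasNormalPComplement 2
        (↥(Subgroup.normalizer (Q : Set G)) ⧸ Q.subgroupOf (Subgroup.normalizer (Q : Set G))) by
    obtain ⟨Q, hQ, hPN, hnN, hqN⟩ := this
    set N := Subgroup.normalizer (Q : Set G)
    have hQn : (Q.subgroupOf N).Normal := Subgroup.normal_in_normalizer
    have hQn' : (Q.comap N.subtype).Normal := hQn
    let PN : Sylow 2 N := P.subtype hPN
    have e : ↥(PN : Subgroup N) ≃* ↥(P : Subgroup G) := Subgroup.subgroupOfEquivOfLe hPN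
    have hderN : Nat.card (commutator ↥(PN : Subgroup N)) ≤ 2 := by
      refine le_trans (le_of_eq ?_) hder
      rw [Nat.card_congr ((commutator ↥(PN : Subgroup N)).equivMapOfInjective e.toMonoidHom
        e.injective).toEquiv, commutator_def, Subgroup.map_commutator,
        Subgroup.map_top_of_surjective _ e.surjective, ← commutator_def]
    have h1 := two_mul_k2_le_of_normal_two_subgroup PN hderN hQ.comap_subtype hqN hnN
    rw [Nat.card_congr e.toEquiv] at h1
    refine le_trans (Nat.mul_le_mul_left 2 ?_) h1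
    classical
    let Y := {c : ConjClasses N // ∀ x ∈ c.carrier, ∃ k : ℕ, orderOf x = 2 ^ k}
    refine card_pClasses_le_of_fibres P (fun u => (⟨ConjClasses.mk ⟨u, hPN u.2⟩, ?_⟩ : Y)) ?_
    · intro y hy
      rw [ConjClasses.mem_carrier_iff_mk_eq, ConjClasses.mk_eq_mk_iff_isConj, isConj_comm,
        isConj_iff] at hy
      obtain ⟨g, rfl⟩ := hy
      obtain ⟨k, hk⟩ := IsPGroup.iff_orderOf.mp P.2 u
      refine ⟨k, ?_⟩
      rw [← hk, ← Subgroup.orderOf_coe u, ← Subgroup.orderOf_mk (u : G) (hPN u.2)]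
      exact MulEquiv.orderOf_eq (MulAut.conj g) _
    · intro a b hab
      obtain ⟨g, hg⟩ := isConj_iff.mp (ConjClasses.mk_eq_mk_iff_isConj.mp (congrArg Subtype.val hab))
      exact ConjClasses.mk_eq_mk_iff_isConj.mpr (isConj_iff.mpr ⟨g, congrArg Subtype.val hg⟩)
  by_cases hNP : Cfsg.HasNormalPComplement 2 ↥(Subgroup.normalizer ((P : Subgroup G) : Set G))
  swap
  · refine ⟨P, P.2, Subgroup.le_normalizer, hNP, fun {_} => hasNormalPComplement_of_not_dvd ?_⟩
    rw [← Subgroup.index_eq_card]
    exact (P.subtype Subgroup.le_normalizer).not_dvd_index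
  -- choose a largest subgroup whose normalizer induces odd automorphisms
  let Bad : Subgroup G → Prop := fun Q => IsPGroup 2 Q ∧ ∃ g ∈ Subgroup.normalizer (Q : Set G),
    Nat.Coprime (orderOf g) 2 ∧ g ∉ Subgroup.centralizer (Q : Set G)
  obtain ⟨Q0, hQ0⟩ : ∃ Q, Bad Q := by
    by_contra h
    push Not at h
    refine hnot (hasNormalPComplement_of_normalizer_centralizer P fun Q hQ _ g hg hgp => ?_)
    by_contra hC
    exact h Q ⟨P.2.to_le hQ, g, hg, hgp, hC⟩
  obtain ⟨Qm, hQm, hmax⟩ := Set.Finite.exists_maximalFor (fun Q : Subgroup G => Nat.card Q)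
    {Q | Bad Q} (Set.toFinite _) ⟨Q0, hQ0⟩
  -- move it so that `P` contains a Sylow subgroup of its normalizer
  obtain ⟨T, hT⟩ := IsPGroup.exists_le_sylow (hQm.1.comap_subtype (K := Subgroup.normalizer (Qm : Set G)))
  obtain ⟨S, hS⟩ := IsPGroup.exists_le_sylow (T.2.map (Subgroup.normalizer (Qm : Set G)).subtype)
  obtain ⟨r, hr⟩ := MulAction.exists_smul_eq G S P
  set e := MulAut.conj r
  set Q := Qm.map e.toMonoidHom
  obtain ⟨hQ2, g0, hg0N, hg0c, hg0C⟩ := hQm
  have hQp : IsPGroup 2 Q := hQ2.map _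
  have hgN : e g0 ∈ Subgroup.normalizer (Q : Set G) := Subgroup.le_normalizer_map _ ⟨g0, hg0N, rfl⟩
  have hgc : Nat.Coprime (orderOf (e g0)) 2 := by rwa [MulEquiv.orderOf_eq]
  have hgC : e g0 ∉ Subgroup.centralizer (Q : Set G) := by
    intro h
    refine hg0C (Subgroup.mem_centralizer_iff.mpr fun x hx => e.injective ?_)
    rw [map_mul, map_mul]
    exact Subgroup.mem_centralizer_iff.mp h _ ⟨x, hx, rfl⟩
  have hmaxQ : ∀ Q' : Subgroup G, Bad Q' → Q ≤ Q' → Q' ≤ Q := by
    intro Q' hQ' hle
    have hcard : Nat.card Qm = Nat.card Q :=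
      Nat.card_congr (Qm.equivMapOfInjective _ e.injective).toEquiv
    have h1 : Nat.card Q' ≤ Nat.card Qm := by
      rcases le_total (Nat.card Q') (Nat.card Qm) with h | h
      · exact h
      · exact hmax hQ' h
    exact (Subgroup.eq_of_le_of_card_ge hle (h1.trans hcard.le)).ge
  set N := Subgroup.normalizer (Q : Set G)
  -- `P ∩ N` is a Sylow subgroup of `N`
  obtain ⟨PN, hPN⟩ : ∃ PN : Sylow 2 N, (PN : Subgroup N) = (P : Subgroup G).subgroupOf N := by
    let T' := (T : Subgroup _).map (Subgroup.normalizer (Qm : Set G)).subtype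
    have hT'P : T'.map e.toMonoidHom ≤ (P : Subgroup G) := by
      rintro _ ⟨x, hx, rfl⟩
      rw [← hr]
      exact Subgroup.smul_mem_pointwise_smul x e _ (hS hx)
    have hp : IsPGroup 2 ((P : Subgroup G).subgroupOf N) := P.2.comap_subtype
    refine ⟨hp.toSylow ?_, rfl⟩
    obtain ⟨U, hU⟩ := hp.exists_le_sylow
    have hNmap : (Subgroup.normalizer (Qm : Set G)).map e.toMonoidHom ≤ N :=
      Subgroup.le_normalizer_map _
    have hcard : Nat.card (U : Subgroup N) ≤ Nat.card ((P : Subgroup G).subgroupOf N) := by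
      have h1 : ((U : Subgroup N).map N.subtype).map e.symm.toMonoidHom ≤ Subgroup.normalizer (Qm : Set G) := by
        rintro _ ⟨_, ⟨x, hx, rfl⟩, rfl⟩
        have h2 := Subgroup.le_normalizer_map e.symm.toMonoidHom ⟨(x : G), x.2, rfl⟩
        have h3 : Q.map e.symm.toMonoidHom = Qm := by
          rw [Subgroup.map_map]
          convert Subgroup.map_id Qm
          ext y
          simp
        rwa [h3] at h2
      have hUp : IsPGroup 2 ((((U : Subgroup N).map N.subtype).map e.symm.toMonoidHom).subgroupOf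
          (Subgroup.normalizer (Qm : Set G))) := ((U.2.map _).map _).comap_subtype
      obtain ⟨W, hW⟩ := hUp.exists_le_sylow
      calc Nat.card (U : Subgroup N)
          = Nat.card ((((U : Subgroup N).map N.subtype).map e.symm.toMonoidHom).subgroupOf
              (Subgroup.normalizer (Qm : Set G))) := by
            rw [Nat.card_congr (Subgroup.subgroupOfEquivOfLe h1).toEquiv,
              ← Nat.card_congr (Subgroup.equivMapOfInjective _ _ e.symm.injective).toEquiv,
              ← Nat.card_congr (Subgroup.equivMapOfInjective _ _ N.subtype_injective).toEquiv]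
        _ ≤ Nat.card (W : Subgroup _) := Subgroup.card_le_of_le hW
        _ = Nat.card (T'.map e.toMonoidHom) := by
            rw [← Nat.card_congr (Subgroup.equivMapOfInjective _ _ e.injective).toEquiv,
              ← Nat.card_congr (Subgroup.equivMapOfInjective _ _ (Subgroup.subtype_injective _)).toEquiv]
            exact Nat.card_congr (W.equiv T).toEquiv
        _ = Nat.card ((T'.map e.toMonoidHom).subgroupOf N) := by
            rw [Nat.card_congr (Subgroup.subgroupOfEquivOfLe
              ((Subgroup.map_mono (Subgroup.map_subtype_le _)).trans hNmap)).toEquiv]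
        _ ≤ _ := Subgroup.card_le_of_le (Subgroup.comap_mono hT'P)
    rw [Subgroup.eq_of_le_of_card_ge hU hcard]
    exact U.not_dvd_index
  set C := (Subgroup.centralizer (Q : Set G)).subgroupOf N
  have hCn : C.Normal := Subgroup.normal_subgroupOf_centralizer_normalizer _
  obtain ⟨TC, hTC⟩ := exists_sylow_subgroupOf_normal PN C
  set T2 : Subgroup N := (TC : Subgroup C).map C.subtype
  have hFr : Subgroup.normalizer (T2 : Set N) ⊔ C = ⊤ := Sylow.normalizer_sup_eq_top TC
  obtain ⟨n, hn, c, hc, hnc⟩ := Subgroup.mem_sup_of_normal_right.mp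
    (hFr.ge (Subgroup.mem_top (⟨e g0, hgN⟩ : N)))
  -- `T2 ≤ Q` by maximality
  have hT2Q : T2.map N.subtype ≤ Q := by
    obtain ⟨k, m, hm, hkm⟩ := Nat.exists_eq_pow_mul_and_not_dvd (orderOf_pos n).ne' 2 (by norm_num)
    set Q' := Q ⊔ T2.map N.subtype
    have hT2N : T2.map N.subtype ≤ N := Subgroup.map_subtype_le _
    have hQ'p : IsPGroup 2 Q' := hQp.to_sup_of_normal_left' ((TC.2.map _).map _) hT2N
    have hn' : ((n ^ 2 ^ k : N) : G) ∈ Subgroup.normalizer (Q' : Set G) := by
      refine (Subgroup.normalizer (Q' : Set G)).pow_mem ?_ _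
      rw [Subgroup.mem_normalizer_iff_map_conj_eq, Subgroup.map_sup,
        Subgroup.mem_normalizer_iff_map_conj_eq.mp n.2]
      congr 1
      rw [Subgroup.map_map]
      conv_rhs => rw [← Subgroup.mem_normalizer_iff_map_conj_eq.mp hn, Subgroup.map_map]
      rfl
    have hn'c : Nat.Coprime (orderOf ((n ^ 2 ^ k : N) : G)) 2 := by
      rw [Subgroup.orderOf_coe, orderOf_pow, hkm, Nat.gcd_eq_right (dvd_mul_right _ _),
        Nat.mul_div_cancel_left _ (by positivity)]
      exact ((Nat.Prime.coprime_iff_not_dvd Nat.prime_two).mpr hm).symm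
    refine le_sup_right.trans (hmaxQ Q' ⟨hQ'p, _, hn', hn'c, fun hC => hgC ?_⟩ le_sup_left)
    -- otherwise an odd power of `g` centralizes `Q`
    have hnC : (n ^ 2 ^ k) ∈ C := Subgroup.mem_subgroupOf.mpr
      (Subgroup.centralizer_le (le_sup_left : Q ≤ Q') hC)
    have hgC2 : (⟨e g0, hgN⟩ : N) ^ 2 ^ k ∈ C := by
      rw [← QuotientGroup.eq_one_iff] at hnC ⊢
      rw [QuotientGroup.mk_pow, ← hnc, QuotientGroup.mk_mul, (QuotientGroup.eq_one_iff c).mpr hc,
        mul_one, ← QuotientGroup.mk_pow, hnC]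
    have hcop : Nat.Coprime (orderOf (⟨e g0, hgN⟩ : N)) (2 ^ k) := by
      rw [Subgroup.orderOf_mk]; exact hgc.pow_right k
    obtain ⟨j, hj⟩ := exists_pow_eq_self_of_coprime hcop.symm
    have := C.pow_mem hgC2 j
    rwa [hj] at this
  have hT2eq : ∀ x ∈ (P : Subgroup G), x ∈ Subgroup.centralizer (Q : Set G) → x ∈ Q := by
    intro x hxP hxC
    have hxN : x ∈ N := Subgroup.centralizer_le_normalizer _ hxC
    refine hT2Q ⟨⟨x, hxN⟩, ⟨⟨⟨x, hxN⟩, hxC⟩, ?_, rfl⟩, rfl⟩
    rw [SetLike.mem_coe, hTC, Subgroup.mem_subgroupOf, hPN]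
    exact hxP
  have hQP : Q ≤ (P : Subgroup G) := by
    intro x hx
    have hxN : x ∈ N := Subgroup.le_normalizer hx
    have : (Q.comap N.subtype).Normal := Subgroup.normal_in_normalizer
    have h1 := (hQp.comap_subtype (K := N)).le_sylow_of_normal PN (show (⟨x, hxN⟩ : N) ∈ Q.subgroupOf N from hx)
    rw [hPN] at h1
    exact h1
  have hDQ : ∀ a ∈ (P : Subgroup G), ∀ b ∈ (P : Subgroup G), a * b * a⁻¹ * b⁻¹ ∈ Q := by
    intro a ha b hb
    have hmem : (⟨a, ha⟩ * ⟨b, hb⟩ * ⟨a, ha⟩⁻¹ * ⟨b, hb⟩⁻¹ : ↥(P : Subgroup G)) ∈ commutator ↥(P : Subgroup G) := by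
      rw [commutator_def, ← commutatorElement_def]
      exact Subgroup.commutator_mem_commutator trivial trivial
    refine hT2eq _ ((P : Subgroup G).mul_mem ((P : Subgroup G).mul_mem ((P : Subgroup G).mul_mem ha hb)
      ((P : Subgroup G).inv_mem ha)) ((P : Subgroup G).inv_mem hb)) ?_
    rw [Subgroup.mem_centralizer_iff]
    intro q hq
    have hcen : commutator ↥(P : Subgroup G) ≤ Subgroup.center ↥(P : Subgroup G) := by
      intro z hz
      rw [Subgroup.mem_center_iff]
      intro u
      by_cases hz1 : z = 1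
      · rw [hz1, mul_one, one_mul]
      have hconj : u * z * u⁻¹ ∈ commutator ↥(P : Subgroup G) := Subgroup.Normal.conj_mem inferInstance z hz u
      have hcard2 : Nat.card (commutator ↥(P : Subgroup G)) = 2 := by
        refine le_antisymm hder (Nat.succ_le_of_lt ?_)
        refine (Subgroup.one_lt_card_iff_ne_bot _).mpr fun hbot => hz1 ?_
        rwa [hbot, Subgroup.mem_bot] at hz
      obtain ⟨y, w, hyw, huniv⟩ := Nat.card_eq_two_iff.mp hcard2
      have hcl : ∀ t : commutator ↥(P : Subgroup G), t = y ∨ t = w := fun t => by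
        have : t ∈ ({y, w} : Set _) := huniv ▸ Set.mem_univ t
        simpa using this
      have h1 : (⟨z, hz⟩ : commutator ↥(P : Subgroup G)) ≠ 1 := fun h => hz1 (congrArg Subtype.val h)
      have h2 : (⟨u * z * u⁻¹, hconj⟩ : commutator ↥(P : Subgroup G)) ≠ 1 := fun h => hz1 (by
        have h5 : u * z * u⁻¹ = 1 := congrArg Subtype.val h
        rwa [mul_inv_eq_one, mul_eq_left] at h5)
      have h3 : (⟨u * z * u⁻¹, hconj⟩ : commutator ↥(P : Subgroup G)) = ⟨z, hz⟩ := by
        rcases hcl 1 with h | h <;> rcases hcl ⟨z, hz⟩ with h' | h' <;>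
          rcases hcl ⟨u * z * u⁻¹, hconj⟩ with h'' | h'' <;> simp_all
      have h4 : u * z * u⁻¹ = z := congrArg Subtype.val h3
      rwa [mul_inv_eq_iff_eq_mul] at h4
    exact congrArg Subtype.val (Subgroup.mem_center_iff.mp (hcen hmem) ⟨q, hQP hq⟩)
  have hPleN : (P : Subgroup G) ≤ N := by
    intro u hu
    rw [Subgroup.mem_normalizer_iff_map_conj_eq]
    refine Subgroup.eq_of_le_of_card_ge ?_
      (le_of_eq (Nat.card_congr (Q.equivMapOfInjective _ (MulAut.conj u).injective).toEquiv))
    rintro _ ⟨q, hq, rfl⟩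
    have := Q.mul_mem (hDQ u hu q (hQP hq)) hq
    simpa [mul_assoc] using this
  refine ⟨Q, hQp, hPleN, fun hc => hgC ?_, ?_⟩
  · have hgn : (⟨e g0, hgN⟩ : N) ∈ Subgroup.normalizer ((Q.subgroupOf N : Subgroup N) : Set N) :=
      (Subgroup.normalizer_eq_top_iff.mpr Subgroup.normal_in_normalizer).ge (Subgroup.mem_top _)
    have := mem_centralizer_of_hasNormalPComplement hc hQp.comap_subtype hgn (by rwa [Subgroup.orderOf_mk])
    rw [Subgroup.mem_centralizer_iff] at this ⊢
    intro q hq
    exact congrArg Subtype.val (this ⟨q, Subgroup.le_normalizer hq⟩ hq)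
  · -- the quotient has an abelian Sylow subgroup central in its normalizer
    intro _
    set q := QuotientGroup.mk' (Q.subgroupOf N)
    have hsurj : Function.Surjective q := QuotientGroup.mk'_surjective _
    let PQ : Sylow 2 (↥N ⧸ Q.subgroupOf N) := (P.subtype hPleN).mapSurjective hsurj
    have hPQ : (PQ : Subgroup _) = ((P : Subgroup G).subgroupOf N).map q :=
      Sylow.coe_mapSurjective hsurj _
    have hcomm : ∀ a b : N, (a : G) * b * (a : G)⁻¹ * (b : G)⁻¹ ∈ Q → q a * q b = q b * q a := by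
      intro a b h
      rw [← map_mul, ← map_mul]
      refine ((QuotientGroup.eq).mpr ?_).symm
      show (((b * a)⁻¹ * (a * b) : N) : G) ∈ Q
      have h' : ((a * b * a⁻¹ * b⁻¹ : N)) ∈ Q.subgroupOf N := h
      have := (Subgroup.normal_in_normalizer (H := Q)).conj_mem _ h' (b * a)⁻¹
      simpa [Subgroup.mem_subgroupOf, mul_assoc] using this
    refine ⟨PQ, _, inferInstance, MonoidHom.ker_transferSylow_isComplement' PQ fun y hy => ?_⟩
    rw [Subgroup.mem_centralizer_iff]
    intro w hw
    obtain ⟨x, rfl⟩ := hsurj y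
    obtain ⟨u, hu, rfl⟩ := Subgroup.mem_map.mp (hPQ.le hw)
    -- `x` normalizes `P`
    have hxP : (x : G) ∈ Subgroup.normalizer ((P : Subgroup G) : Set G) := by
      rw [Subgroup.mem_normalizer_iff_map_conj_eq]
      refine Subgroup.eq_of_le_of_card_ge ?_
        (le_of_eq (Nat.card_congr (Subgroup.equivMapOfInjective _ _ (MulAut.conj (x : G)).injective).toEquiv))
      rintro _ ⟨v, hv, rfl⟩
      have hm : q (x * ⟨v, hPleN hv⟩ * x⁻¹) ∈ (PQ : Subgroup _) := by
        rw [map_mul, map_mul, map_inv]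
        refine ((Subgroup.mem_normalizer_iff.mp hy) _).mp ?_
        rw [hPQ]
        exact ⟨⟨v, hPleN hv⟩, hv, rfl⟩
      rw [hPQ] at hm
      obtain ⟨s, hs, hsq⟩ := hm
      have hdiff : s⁻¹ * (x * ⟨v, hPleN hv⟩ * x⁻¹) ∈ Q.subgroupOf N := (QuotientGroup.eq).mp hsq
      have := (P : Subgroup G).mul_mem hs (hQP hdiff)
      simpa [mul_assoc] using this
    -- so it is a `P`-element times an element centralizing `P`
    set NP := Subgroup.normalizer ((P : Subgroup G) : Set G)
    obtain ⟨s, hs, v, hv, hsv⟩ := Subgroup.mem_sup_of_normal_right.mp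
      ((sylow_sup_pResidual_eq_top (P.subtype (N := NP) Subgroup.le_normalizer)).ge
        (Subgroup.mem_top (⟨x, hxP⟩ : NP)))
    have hvc : (v : G) * (u : G) = (u : G) * v := by
      have h1 := mem_centralizer_of_hasNormalPComplement hNP (Q := (P : Subgroup G).subgroupOf NP)
        P.2.comap_subtype (g := v)
        ((Subgroup.normalizer_eq_top_iff.mpr Subgroup.normal_in_normalizer).ge (Subgroup.mem_top _))
        ((mem_pResidual_iff_coprime hNP).mp hv)
      exact (congrArg Subtype.val
        (Subgroup.mem_centralizer_iff.mp h1 ⟨u, Subgroup.le_normalizer hu⟩ hu)).symm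
    refine (hcomm x u ?_).symm
    have hxsv : (x : G) = s * v := (congrArg Subtype.val hsv).symm
    have : (x : G) * u * (x : G)⁻¹ * (u : G)⁻¹ = (s : G) * u * (s : G)⁻¹ * (u : G)⁻¹ := by
      rw [hxsv]
      calc (s : G) * v * u * ((s : G) * v)⁻¹ * (u : G)⁻¹
          = (s : G) * ((v : G) * u) * (v : G)⁻¹ * (s : G)⁻¹ * (u : G)⁻¹ := by group
        _ = _ := by rw [hvc]; group
    rw [this]
    exact hDQ _ hs _ hu

/-- Let G be a finite group with Sylow 2-subgroup P, and write k₂(G) for the number of conjugacy classes of G consisting of 2-elements (elements of 2-power order, the identity included). Then k₂(G) > |P|/2 if and only if G has a normal 2-complement and P has more than |P|/2 conjugacy classes. -/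
theorem result {G : Type*} [Group G] [Finite G] (P : Sylow 2 G) :
    Nat.card ↥(P : Subgroup G) < 2 * Nat.card {c : ConjClasses G // ∀ x ∈ c.carrier, ∃ k : ℕ, orderOf x = 2 ^ k} ↔
      Cfsg.HasNormalPComplement 2 G ∧ Nat.card ↥(P : Subgroup G) < 2 * Nat.card (ConjClasses ↥(P : Subgroup G)) := by
  constructor
  · intro hk
    have hPk := card_pClasses_le_card_conjClasses P
    have h4 := four_mul_card_conjClasses_le ↥(P : Subgroup G)
    have hder : Nat.card (commutator ↥(P : Subgroup G)) ≤ 2 := by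
      have hc := (commutator ↥(P : Subgroup G)).card_mul_index
      by_contra hlt
      have h3 : 3 * (commutator ↥(P : Subgroup G)).index ≤ Nat.card ↥(P : Subgroup G) := by
        rw [← hc]; exact Nat.mul_le_mul_right _ (by omega)
      omega
    refine ⟨?_, by omega⟩
    by_contra hnot
    have := two_mul_k2_le P hder hnot
    unfold K2 at this
    omega
  · rintro ⟨hc, hk⟩
    have := card_conjClasses_le_pClasses hc P
    omega

end Cfsg.Agent.S3895
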