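import Cfsg.Statements.S3897
import Cfsg.Agent.Lib.Transfer.PClasses
import Cfsg.Agent.Lib.Transfer.Focal

set_option autoImplicit false
open Cfsg

namespace Cfsg.Agent.S3897

/-- Let p be an odd prime and G a finite group with Sylow p-subgroup P, and write k_p(G) for the number of conjugacy classes of G consisting of p-elements (elements of p-power order, the identity included). Then k_p(G) > (p + 1)|P|/(2p) if and only if G has a normal p-complement and P is abelian. -/
theorem result {G : Type*} [Group G] [Finite G] {p : ℕ} [Fact p.Prime] (hp : p ≠ 2) (P : Sylow p G) :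
    (p + 1) * Nat.card ↥(P : Subgroup G) < 2 * p * Nat.card {c : ConjClasses G // ∀ x ∈ c.carrier, ∃ k : ℕ, orderOf x = p ^ k} ↔
      Cfsg.HasNormalPComplement p G ∧ IsMulCommutative ↥(P : Subgroup G) := by
  classical
  have hp1 := (Fact.out : p.Prime).one_lt
  have hPpos : 0 < Nat.card ↥(P : Subgroup G) := Nat.card_pos
  constructor
  · intro hk
    -- orbit bound for a group of induced automorphisms with few fixed points
    have key : ∀ A : Subgroup (MulAut (P : Subgroup G)),
        (∀ a ∈ A, ∃ g : G, ∀ x : (P : Subgroup G), ((a x : (P : Subgroup G)) : G) = g * x * g⁻¹) →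
        ∀ C : Subgroup (P : Subgroup G), C ≠ ⊤ →
        MulAction.fixedPoints A (P : Subgroup G) ⊆ (C : Set (P : Subgroup G)) → False := by
      intro A hA C hC hfix
      have h1 := Cfsg.Agent.Transfer.card_pClasses_le_orbits P A hA
      have h2 := Cfsg.Agent.Transfer.two_mul_card_orbits_le (M := A) (X := ↥(P : Subgroup G))
      have h3 : Nat.card (MulAction.fixedPoints A (P : Subgroup G)) ≤ Nat.card C :=
        Nat.card_mono (Set.toFinite _) hfix
      have h4 : p * Nat.card C ≤ Nat.card ↥(P : Subgroup G) := by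
        rw [← C.index_mul_card]
        refine Nat.mul_le_mul_right _ ?_
        obtain ⟨n, hn⟩ := P.2.index C
        rcases n with _ | n
        · exact absurd (Subgroup.index_eq_one.mp (by simpa using hn)) hC
        · rw [hn]; exact Nat.le_self_pow (Nat.succ_ne_zero n) p
      nlinarith
    have hab : IsMulCommutative ↥(P : Subgroup G) := by
      by_contra hnc
      refine key (MulAut.conj : ↥(P : Subgroup G) →* MulAut (P : Subgroup G)).range ?_
        (Subgroup.center (P : Subgroup G)) ?_ ?_
      · rintro _ ⟨u, rfl⟩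
        exact ⟨u, fun x => rfl⟩
      · intro htop
        exact hnc ⟨⟨fun a b => Subgroup.mem_center_iff.mp (htop ▸ Subgroup.mem_top b) a⟩⟩
      · intro x hx
        rw [SetLike.mem_coe, Subgroup.mem_center_iff]
        intro u
        have h1 : u * x * u⁻¹ = x := hx ⟨MulAut.conj u, u, rfl⟩
        rwa [mul_inv_eq_iff_eq_mul] at h1
    refine ⟨?_, hab⟩
    by_contra hnot
    obtain ⟨g, hgN, hgC⟩ : ∃ g ∈ Subgroup.normalizer ((P : Subgroup G) : Set G),
        g ∉ Subgroup.centralizer ((P : Subgroup G) : Set G) := by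
      by_contra hall
      push Not at hall
      exact hnot ⟨P, _, inferInstance, MonoidHom.ker_transferSylow_isComplement' P hall⟩
    set φ : MulAut (P : Subgroup G) := Subgroup.normalizerMonoidHom (P : Subgroup G) ⟨g, hgN⟩
    let C : Subgroup (P : Subgroup G) :=
      { carrier := {x | φ x = x}
        one_mem' := map_one φ
        mul_mem' := fun {a b} (ha : φ a = a) (hb : φ b = b) => by
          show φ (a * b) = a * b
          rw [map_mul, ha, hb]
        inv_mem' := fun {a} (ha : φ a = a) => by
          show φ a⁻¹ = a⁻¹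
          rw [map_inv, ha] }
    refine key (Subgroup.zpowers φ) ?_ C ?_ fun x hx => hx ⟨φ, Subgroup.mem_zpowers φ⟩
    · rintro _ ⟨n, rfl⟩
      refine ⟨g ^ n, fun x => ?_⟩
      show ((φ ^ n : MulAut (P : Subgroup G)) x : G) = _
      rw [← map_zpow]
      rfl
    · intro htop
      refine hgC (Subgroup.mem_centralizer_iff.mpr fun x hx => ?_)
      have h1 : φ ⟨x, hx⟩ = ⟨x, hx⟩ := (htop ▸ Subgroup.mem_top _ : (⟨x, hx⟩ : ↥(P : Subgroup G)) ∈ C)
      have h2 : g * x * g⁻¹ = x := congrArg Subtype.val h1
      rwa [mul_inv_eq_iff_eq_mul, eq_comm] at h2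
  · rintro ⟨hc, hab⟩
    have h1 := Cfsg.Agent.Transfer.card_conjClasses_le_pClasses hc P
    have h2 : Nat.card (ConjClasses ↥(P : Subgroup G)) = Nat.card ↥(P : Subgroup G) := by
      refine (Nat.card_congr (Equiv.ofBijective ConjClasses.mk ⟨fun a b hab' => ?_,
        ConjClasses.mk_surjective⟩)).symm
      obtain ⟨u, hu⟩ := isConj_iff.mp (ConjClasses.mk_eq_mk_iff_isConj.mp hab')
      rw [← hu, hab.is_comm.comm u a, mul_inv_cancel_right]
    rw [h2] at h1
    nlinarith

end Cfsg.Agent.S3897
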