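import Cfsg.Statements.S3898
import Cfsg.Agent.Lib.Transfer.PiClassBound
import Cfsg.Agent.S3895

set_option autoImplicit false
open Cfsg

namespace Cfsg.Agent.S3898

open Cfsg.Agent.Transfer

/-- In a group of odd order, `k_r(G) > |R|/2` forces an abelian, `r`-nilpotent situation. -/
theorem odd_case {K : Type*} [Group K] [Finite K] (hK : ¬ 2 ∣ Nat.card K) {r : ℕ} [Fact r.Prime]
    (hr : r ≠ 2) (R : Sylow r K)
    (h : Nat.card ↥(R : Subgroup K) < 2 * Nat.card {c : ConjClasses K // ∀ x ∈ c.carrier, ∃ k : ℕ, orderOf x = r ^ k}) :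
    Cfsg.HasNormalPComplement r K ∧ IsMulCommutative ↥(R : Subgroup K) := by
  classical
  have hr3 : 3 ≤ r := by have := (Fact.out : r.Prime).two_le; omega
  obtain ⟨n, hn⟩ := IsPGroup.iff_card.mp R.2
  have hsub : ∀ C : Subgroup ↥(R : Subgroup K), C ≠ ⊤ →
      r * Nat.card C ≤ Nat.card ↥(R : Subgroup K) := by
    intro C hC
    rw [← C.index_mul_card]
    refine Nat.mul_le_mul_right _ ?_
    obtain ⟨m, hm⟩ := R.2.index C
    rcases m with _ | m
    · exact absurd (Subgroup.index_eq_one.mp (by simpa using hm)) hC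
    · rw [hm]; exact Nat.le_self_pow (Nat.succ_ne_zero m) r
  have hab : IsMulCommutative ↥(R : Subgroup K) := by
    by_contra hnc
    have hZ : r * (r * Nat.card (Subgroup.center ↥(R : Subgroup K))) ≤ Nat.card ↥(R : Subgroup K) := by
      obtain ⟨m, hm⟩ := R.2.index (Subgroup.center ↥(R : Subgroup K))
      rw [← (Subgroup.center ↥(R : Subgroup K)).index_mul_card, hm, ← mul_assoc]
      refine Nat.mul_le_mul_right _ ?_
      rw [← pow_two]
      refine Nat.pow_le_pow_right (by omega) ?_
      by_contra hlt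
      have : IsCyclic (↥(R : Subgroup K) ⧸ Subgroup.center ↥(R : Subgroup K)) := by
        rcases (by omega : m = 0 ∨ m = 1) with rfl | rfl
        · rw [pow_zero, Subgroup.index_eq_card] at hm
          have := (Nat.card_eq_one_iff_unique.mp hm).1
          exact isCyclic_of_subsingleton
        · rw [pow_one, Subgroup.index_eq_card] at hm
          exact isCyclic_of_prime_card hm
      exact hnc (isMulCommutative_of_isCyclic_quotient_center_self ↥(R : Subgroup K))
    have h1 := card_pClasses_le_orbits R (MulAut.conj : ↥(R : Subgroup K) →* MulAut ↥(R : Subgroup K)).range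
      (by rintro _ ⟨u, rfl⟩; exact ⟨u, fun x => rfl⟩)
    have h2 := mul_card_orbits_le
      (M := (MulAut.conj : ↥(R : Subgroup K) →* MulAut ↥(R : Subgroup K)).range)
      (X := ↥(R : Subgroup K)) r fun x hx => by
        obtain ⟨j, hj⟩ := (R.2.of_surjective
          (MulAut.conj : ↥(R : Subgroup K) →* MulAut ↥(R : Subgroup K)).rangeRestrict
          (MonoidHom.rangeRestrict_surjective _)).card_orbit x
        rcases j with _ | j
        · exfalso
          apply hx
          intro a
          have := (Nat.card_eq_one_iff_unique.mp (hj.trans (pow_zero r))).1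
          exact congrArg Subtype.val (Subsingleton.elim
            (⟨a • x, a, rfl⟩ : MulAction.orbit _ x) ⟨x, MulAction.mem_orbit_self x⟩)
        · rw [hj]; exact Nat.le_self_pow (Nat.succ_ne_zero j) r
    have h3 : Nat.card (MulAction.fixedPoints
        (MulAut.conj : ↥(R : Subgroup K) →* MulAut ↥(R : Subgroup K)).range ↥(R : Subgroup K)) ≤
        Nat.card (Subgroup.center ↥(R : Subgroup K)) := by
      refine Nat.card_mono (Set.toFinite _) fun x hx => ?_
      rw [SetLike.mem_coe, Subgroup.mem_center_iff]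
      intro u
      have h1 : u * x * u⁻¹ = x := hx ⟨MulAut.conj u, u, rfl⟩
      rwa [mul_inv_eq_iff_eq_mul] at h1
    generalize hk : Nat.card {c : ConjClasses K // ∀ x ∈ c.carrier, ∃ k : ℕ, orderOf x = r ^ k} = k at *
    generalize Nat.card ↥(R : Subgroup K) = N at *
    generalize Nat.card (Subgroup.center ↥(R : Subgroup K)) = z at *
    -- `r k ≤ N + (r - 1) z`
    have h4 : r * k ≤ N + (r - 1) * z :=
      (Nat.mul_le_mul_left r h1).trans (h2.trans (by gcongr))
    obtain ⟨s, rfl⟩ : ∃ s, r = s + 3 := ⟨r - 3, by omega⟩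
    simp only [show s + 3 - 1 = s + 2 from rfl] at h4
    have a := Nat.mul_le_mul_left ((s + 3) * (s + 3)) h4
    have b := Nat.mul_le_mul_left (s + 2) hZ
    have : 2 * ((s + 3) * (s + 3) + (s + 2)) ≤ (s + 3) * (s + 3) * (s + 3) := by nlinarith
    have := Nat.mul_le_mul_right N this
    nlinarith
  refine ⟨?_, hab⟩
  by_contra hnot
  obtain ⟨g, hgN, hgc, hgC⟩ : ∃ g ∈ Subgroup.normalizer ((R : Subgroup K) : Set K),
      Nat.Coprime (orderOf g) r ∧ g ∉ Subgroup.centralizer ((R : Subgroup K) : Set K) := by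
    by_contra hall
    push Not at hall
    refine hnot ⟨R, _, inferInstance, MonoidHom.ker_transferSylow_isComplement' R ?_⟩
    refine Subgroup.subgroupOf_eq_top.mp (top_le_iff.mp ?_)
    rw [← sylow_sup_eq_top_of_coprime_mem (R.subtype Subgroup.le_normalizer)
      (C := (Subgroup.centralizer ((R : Subgroup K) : Set K)).subgroupOf
        (Subgroup.normalizer ((R : Subgroup K) : Set K)))
      fun z hz => hall z z.2 (by rwa [Subgroup.orderOf_coe])]
    exact sup_le (Subgroup.comap_mono R.le_centralizer) le_rfl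
  set φ : MulAut (R : Subgroup K) := Subgroup.normalizerMonoidHom (R : Subgroup K) ⟨g, hgN⟩
  let C : Subgroup (R : Subgroup K) :=
    { carrier := {x | φ x = x}
      one_mem' := map_one φ
      mul_mem' := fun {a b} (ha : φ a = a) (hb : φ b = b) => by
        show φ (a * b) = a * b
        rw [map_mul, ha, hb]
      inv_mem' := fun {a} (ha : φ a = a) => by
        show φ a⁻¹ = a⁻¹
        rw [map_inv, ha] }
  have hC : C ≠ ⊤ := by
    intro htop
    refine hgC (Subgroup.mem_centralizer_iff.mpr fun x hx => ?_)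
    have h1 : φ ⟨x, hx⟩ = ⟨x, hx⟩ := (htop ▸ Subgroup.mem_top _ : (⟨x, hx⟩ : ↥(R : Subgroup K)) ∈ C)
    have h2 : g * x * g⁻¹ = x := congrArg Subtype.val h1
    rwa [mul_inv_eq_iff_eq_mul, eq_comm] at h2
  have hord : orderOf φ ∣ orderOf g := by
    rw [← Subgroup.orderOf_mk g hgN]; exact orderOf_map_dvd _ _
  have horb : ∀ x : (R : Subgroup K), x ∉ MulAction.fixedPoints (Subgroup.zpowers φ) (R : Subgroup K) →
      3 ≤ Nat.card (MulAction.orbit (Subgroup.zpowers φ) x) ∧
      Nat.card (MulAction.orbit (Subgroup.zpowers φ) x) ≠ r ∧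
      ¬ 2 ∣ Nat.card (MulAction.orbit (Subgroup.zpowers φ) x) := by
    intro x hx
    have hd : Nat.card (MulAction.orbit (Subgroup.zpowers φ) x) ∣ orderOf g := by
      rw [Nat.card_congr (MulAction.orbitEquivQuotientStabilizer (Subgroup.zpowers φ) x),
        ← Subgroup.index_eq_card]
      exact ((Subgroup.index_dvd_card _).trans (Nat.card_zpowers φ).dvd).trans hord
    have hodd : ¬ 2 ∣ Nat.card (MulAction.orbit (Subgroup.zpowers φ) x) :=
      fun h => hK (h.trans (hd.trans (orderOf_dvd_natCard g)))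
    refine ⟨?_, ?_, hodd⟩
    · have hne1 : Nat.card (MulAction.orbit (Subgroup.zpowers φ) x) ≠ 1 := by
        intro h1
        apply hx
        have := (Nat.card_eq_one_iff_unique.mp h1).1
        intro a
        exact congrArg Subtype.val (Subsingleton.elim (⟨a • x, a, rfl⟩ : MulAction.orbit _ x)
          ⟨x, MulAction.mem_orbit_self x⟩)
      omega
    · intro he
      rw [he] at hd
      exact (Fact.out : r.Prime).ne_one (Nat.eq_one_of_dvd_coprimes hgc hd dvd_rfl)
  have hA : ∀ a ∈ Subgroup.zpowers φ, ∃ g' : K, ∀ x : (R : Subgroup K),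
      ((a x : (R : Subgroup K)) : K) = g' * x * g'⁻¹ := by
    rintro _ ⟨i, rfl⟩
    refine ⟨g ^ i, fun x => ?_⟩
    show ((φ ^ i : MulAut (R : Subgroup K)) x : K) = _
    rw [← map_zpow]
    rfl
  have h1 := card_pClasses_le_orbits R (Subgroup.zpowers φ) hA
  have h3 : Nat.card (MulAction.fixedPoints (Subgroup.zpowers φ) (R : Subgroup K)) ≤ Nat.card C :=
    Nat.card_mono (Set.toFinite _) fun x hx => hx ⟨φ, Subgroup.mem_zpowers φ⟩
  have h4 := hsub C hC
  by_cases hr5 : 5 ≤ r
  · have h2 := mul_card_orbits_le (M := Subgroup.zpowers φ) (X := ↥(R : Subgroup K)) 3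
      fun x hx => (horb x hx).1
    have h5 : 5 * Nat.card C ≤ Nat.card ↥(R : Subgroup K) := (Nat.mul_le_mul_right _ hr5).trans h4
    omega
  · have hr4 : r ≠ 4 := fun h4 => by
      have := (Fact.out : r.Prime)
      rw [h4] at this
      norm_num at this
    obtain rfl : r = 3 := by omega
    have h2 := mul_card_orbits_le (M := Subgroup.zpowers φ) (X := ↥(R : Subgroup K)) 5
      fun x hx => by
        obtain ⟨ha, hb, hc⟩ := horb x hx
        omega
    omega

/-- Let π be a finite set of primes containing 2 and G a finite group. Write k_π(G) for the number of conjugacy classes of G consisting of π-elements (elements all of whose order's prime divisors lie in π) and |G|_π for the π-part of the order of G. If k_π(G) > |G|_π/2, then G has a normal π-complement (a normal subgroup of order prime to π whose index is a π-number) and an abelian Hall subgroup for the set of odd primes in π. -/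
theorem result {G : Type*} [Group G] [Finite G] (π : Finset ℕ) (hπ : ∀ r ∈ π, r.Prime) (h2 : 2 ∈ π)
    (hk : π.prod (fun r => r ^ (Nat.card G).factorization r) < 2 * Nat.card {c : ConjClasses G // ∀ x ∈ c.carrier, ∀ r : ℕ, r.Prime → r ∣ orderOf x → r ∈ π}) :
    (∃ N : Subgroup G, N.Normal ∧ (∀ r : ℕ, r.Prime → r ∣ Nat.card ↥N → r ∉ π) ∧ ∀ r : ℕ, r.Prime → r ∣ N.index → r ∈ π) ∧ ∃ H : Subgroup G, Cfsg.IsPiHall ((↑π : Set ℕ) \ {2}) H ∧ IsMulCommutative ↥H := by
  classical
  rw [card_piClasses_eq, ← one_mul (π.prod _)] at hk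
  have h2n : Cfsg.HasNormalPComplement 2 G := by
    have h1 := mul_card_sylow_lt_of_mem hπ h2 (default : Sylow 2 G) hk
    rw [one_mul] at h1
    exact ((Cfsg.Agent.S3895.result (default : Sylow 2 G)).mp h1).1
  rw [one_mul] at hk
  set K := Cfsg.pResidual 2 G
  have hK2 : ¬ 2 ∣ Nat.card K := hasNormalPComplement_iff_not_dvd.mp h2n
  set π' := π.erase 2
  have hπ' : ∀ q ∈ π', q.Prime := fun q hq => hπ q (Finset.mem_of_mem_erase hq)
  have hkK : ∏ q ∈ π, q ^ (Nat.card G).factorization q <
      2 * (Nat.card (FG78.PiClasses (↑π : Set ℕ) K) * Nat.card (G ⧸ K)) := by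
    refine hk.trans_le (Nat.mul_le_mul_left 2 ((FG78.card_piClasses_le_mul (↑π : Set ℕ) K).trans ?_))
    refine Nat.mul_le_mul_left _ ((Nat.card_le_card_of_injective Subtype.val Subtype.val_injective).trans ?_)
    exact Nat.card_le_card_of_surjective _ ConjClasses.mk_surjective
  obtain ⟨m, hm⟩ := IsPGroup.iff_card.mp (isPGroup_quotient_pResidual (p := 2) (G := G))
  have hG : Nat.card G = Nat.card K * 2 ^ m := by
    rw [← hm, mul_comm]; exact Subgroup.card_eq_card_quotient_mul_card_subgroup K
  have hprod : ∏ q ∈ π, q ^ (Nat.card G).factorization q =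
      (∏ q ∈ π', q ^ (Nat.card K).factorization q) * 2 ^ m := by
    rw [← Finset.prod_erase_mul π _ h2, hG, Nat.factorization_mul Nat.card_pos.ne' (by positivity)]
    congr 1
    · refine Finset.prod_congr rfl fun q hq => ?_
      rw [Finsupp.add_apply, Nat.factorization_pow, Finsupp.smul_apply,
        Nat.Prime.factorization Nat.prime_two, Finsupp.single_eq_of_ne (Finset.ne_of_mem_erase hq)]
      simp
    · rw [Finsupp.add_apply, Nat.factorization_eq_zero_of_not_dvd hK2, zero_add,
        Nat.Prime.factorization_pow Nat.prime_two, Finsupp.single_eq_same]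
  rw [hprod, hm] at hkK
  have hkK' : ∏ q ∈ π', q ^ (Nat.card K).factorization q <
      2 * Nat.card (FG78.PiClasses (↑π' : Set ℕ) K) := by
    have heq : Nat.card (FG78.PiClasses (↑π : Set ℕ) K) = Nat.card (FG78.PiClasses (↑π' : Set ℕ) K) := by
      refine Nat.card_congr (Equiv.subtypeEquivRight fun C => ⟨fun h q hq hg => ?_, fun h q hq hg => ?_⟩)
      · refine Finset.mem_coe.mpr (Finset.mem_erase.mpr ⟨fun h2q => ?_, Finset.mem_coe.mp (h q hq hg)⟩)
        obtain ⟨g, -, hd⟩ := hg
        exact hK2 (h2q ▸ hd.trans (orderOf_dvd_natCard g))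
      · exact Finset.mem_coe.mpr (Finset.mem_of_mem_erase (Finset.mem_coe.mp (h q hq hg)))
    rw [heq] at hkK
    exact Nat.lt_of_mul_lt_mul_right (a := 2 ^ m) (by rw [mul_assoc]; exact hkK)
  have key : ∀ (r : ℕ) [Fact r.Prime], r ∈ π' →
      Cfsg.HasNormalPComplement r K ∧ ∀ R : Sylow r K, IsMulCommutative R := by
    intro r _ hr
    suffices ∀ R : Sylow r K, Cfsg.HasNormalPComplement r K ∧ IsMulCommutative R from
      ⟨(this default).1, fun R => (this R).2⟩
    intro R
    refine odd_case hK2 (Finset.ne_of_mem_erase hr) R ?_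
    have h1 := mul_card_sylow_lt_of_mem hπ' hr R (a := 1) (b := 2) (by rw [one_mul]; exact hkK')
    rwa [one_mul] at h1
  obtain ⟨N, hN, hcard, hidx, H, hH, hHab⟩ := exists_abelian_pi_complement π' hπ' key
  have hKn : K.Normal := pResidual_normal
  have hcardN : Nat.card (N.map K.subtype) = Nat.card N :=
    (Nat.card_congr (N.equivMapOfInjective _ K.subtype_injective).toEquiv).symm
  refine ⟨⟨N.map K.subtype, inferInstance, ?_, ?_⟩, H.map K.subtype, ⟨?_, ?_⟩, ?_⟩
  · intro r hr hd hrπ
    rw [hcardN] at hd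
    refine hcard r hr hd (Finset.mem_erase.mpr ⟨fun h => ?_, hrπ⟩)
    exact hK2 (h ▸ hd.trans (Subgroup.card_subgroup_dvd_card N))
  · intro r hr hd
    rw [Subgroup.index_map_subtype] at hd
    rcases hr.dvd_mul.mp hd with h | h
    · exact Finset.mem_of_mem_erase (hidx r hr h)
    · rw [Subgroup.index_eq_card, hm] at h
      exact (Nat.prime_dvd_prime_iff_eq hr Nat.prime_two).mp (hr.dvd_of_dvd_pow h) ▸ h2
  · intro q hq hd
    rw [← Nat.card_congr (H.equivMapOfInjective _ K.subtype_injective).toEquiv,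
      ← hH.symm.index_eq_card] at hd
    exact ⟨Finset.mem_coe.mpr (Finset.mem_of_mem_erase (hidx q hq hd)),
      Finset.ne_of_mem_erase (hidx q hq hd)⟩
  · rintro q hq ⟨hqπ, hq2⟩ hd
    rw [Subgroup.index_map_subtype] at hd
    rcases hq.dvd_mul.mp hd with h | h
    · exact hcard q hq (hH.index_eq_card ▸ h) (Finset.mem_erase.mpr ⟨hq2, Finset.mem_coe.mp hqπ⟩)
    · rw [Subgroup.index_eq_card, hm] at h
      exact hq2 ((Nat.prime_dvd_prime_iff_eq hq Nat.prime_two).mp (hq.dvd_of_dvd_pow h))
  · refine ⟨⟨?_⟩⟩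
    rintro ⟨_, a, ha, rfl⟩ ⟨_, b, hb, rfl⟩
    exact Subtype.ext (congrArg (fun z : H => ((z : K) : G)) (hHab.is_comm.comm ⟨a, ha⟩ ⟨b, hb⟩))

end Cfsg.Agent.S3898
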