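import Cfsg.Statements.S3899
import Cfsg.Agent.Lib.Transfer.PiClassBound
import Cfsg.Agent.S3897

set_option autoImplicit false
open Cfsg

namespace Cfsg.Agent.S3899

/-- Let π be a finite non-empty set of odd primes with smallest member p and G a finite group. Write k_π(G) for the number of conjugacy classes of G consisting of π-elements (elements all of whose order's prime divisors lie in π) and |G|_π for the π-part of the order of G. If k_π(G) > (p + 1)|G|_π/(2p), then G has a normal π-complement (a normal subgroup of order prime to π whose index is a π-number) and an abelian Hall π-subgroup. -/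
theorem result {G : Type*} [Group G] [Finite G] (π : Finset ℕ) (hπ : ∀ r ∈ π, r.Prime) (h2 : 2 ∉ π) (p : ℕ) (hp : p ∈ π)
    (hmin : ∀ r ∈ π, p ≤ r) (hk : (p + 1) * π.prod (fun r => r ^ (Nat.card G).factorization r) < 2 * p * Nat.card {c : ConjClasses G // ∀ x ∈ c.carrier, ∀ r : ℕ, r.Prime → r ∣ orderOf x → r ∈ π}) :
    (∃ N : Subgroup G, N.Normal ∧ (∀ r : ℕ, r.Prime → r ∣ Nat.card ↥N → r ∉ π) ∧ ∀ r : ℕ, r.Prime → r ∣ N.index → r ∈ π) ∧ ∃ H : Subgroup G, Cfsg.IsPiHall (↑π : Set ℕ) H ∧ IsMulCommutative ↥H := by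
  classical
  rw [Cfsg.Agent.Transfer.card_piClasses_eq] at hk
  have key : ∀ (r : ℕ) [Fact r.Prime], r ∈ π →
      Cfsg.HasNormalPComplement r G ∧ ∀ R : Sylow r G, IsMulCommutative R := by
    intro r _ hr
    suffices ∀ R : Sylow r G, Cfsg.HasNormalPComplement r G ∧ IsMulCommutative R from
      ⟨(this default).1, fun R => (this R).2⟩
    intro R
    refine (Cfsg.Agent.S3897.result (fun h => h2 (h ▸ hr)) R).mp ?_
    have h1 := Cfsg.Agent.Transfer.mul_card_sylow_lt_of_mem hπ hr R hk
    have hle : p ≤ r := hmin r hr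
    have hp0 := (hπ p hp).pos
    have hr0 := (hπ r hr).pos
    by_contra hcon
    rw [not_lt] at hcon
    have := Nat.mul_le_mul_left p hcon
    have := (Nat.mul_lt_mul_left hr0).mpr h1
    nlinarith
  obtain ⟨N, hN, hcard, hidx, H, hH, hHab⟩ :=
    Cfsg.Agent.Transfer.exists_abelian_pi_complement π hπ key
  refine ⟨⟨N, inferInstance, hcard, hidx⟩, H, ⟨?_, ?_⟩, hHab⟩
  · intro q hq hd
    exact Finset.mem_coe.mpr (hidx q hq (hH.symm.index_eq_card ▸ hd))
  · intro q hq hqπ hd
    exact hcard q hq (hH.index_eq_card ▸ hd) (Finset.mem_coe.mp hqπ)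

end Cfsg.Agent.S3899
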