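import Cfsg.Statements.S3901
import Cfsg.Agent.S0071
import Cfsg.Agent.S0144
import Mathlib.GroupTheory.Perm.Cycle.Type
import Mathlib.GroupTheory.Abelianization.Defs

set_option autoImplicit false
open Cfsg

namespace Cfsg.Agent.S3901


open Subgroup

variable {G : Type*} [Group G] [Finite G] {N : Subgroup G}

/-- A `p`-element and an `r`-element that commute have a product of mixed order. -/
theorem mem_of_commute (h : ∀ x : G, x ∉ N → IsPrimePow (orderOf x)) {p r : ℕ} (hp : p.Prime)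
    (hr : r.Prime) (hpr : p ≠ r) {a b : G} (hab : Commute a b) (ha : ∃ i, orderOf a = p ^ i)
    (hb : ∃ j, orderOf b = r ^ j) (ha1 : a ≠ 1) (hb1 : b ≠ 1) : a ∈ N ∧ b ∈ N := by
  obtain ⟨i, hi⟩ := ha
  obtain ⟨j, hj⟩ := hb
  have hcop : (orderOf a).Coprime (orderOf b) := by
    rw [hi, hj]
    exact Nat.Coprime.pow _ _ ((Nat.coprime_primes hp hr).mpr hpr)
  have hmem : a * b ∈ N := by
    by_contra hn
    obtain ⟨s, k, hs, -, hsk⟩ := h _ hn
    rw [hab.orderOf_mul_eq_mul_orderOf_of_coprime hcop, hi, hj] at hsk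
    have hi0 : i ≠ 0 := fun h0 => ha1 (orderOf_eq_one_iff.mp (by rw [hi, h0, pow_zero]))
    have hj0 : j ≠ 0 := fun h0 => hb1 (orderOf_eq_one_iff.mp (by rw [hj, h0, pow_zero]))
    have h1 := (Nat.prime_dvd_prime_iff_eq hp (Nat.prime_iff.mpr hs)).mp (hp.dvd_of_dvd_pow
      (hsk ▸ dvd_mul_of_dvd_left (dvd_pow_self p hi0) _))
    have h2 := (Nat.prime_dvd_prime_iff_eq hr (Nat.prime_iff.mpr hs)).mp (hr.dvd_of_dvd_pow
      (hsk ▸ dvd_mul_of_dvd_right (dvd_pow_self r hj0) _))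
    exact hpr (h1.trans h2.symm)
  have hsep : ∀ c d : G, Commute c d → (orderOf c).Coprime (orderOf d) → c * d ∈ N → c ∈ N := by
    intro c d hcd hc hm
    obtain ⟨m, hm'⟩ := exists_pow_eq_self_of_coprime (x := c) hc.symm
    rw [← hm']
    refine pow_mem ?_ m
    have := pow_mem hm (orderOf d)
    rwa [hcd.mul_pow, pow_orderOf_eq_one, mul_one] at this
  exact ⟨hsep a b hab hcop hmem, hsep b a hab.symm hcop.symm (hab.eq ▸ hmem)⟩

/-- A fixed-point-free pair cannot act fixed-point-freely on an abelian group of coprime order: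
the norm argument for Frobenius groups. -/
theorem eq_bot_of_norm (P E : Subgroup G) (hE : E ≤ normalizer (P : Set G))
    (hfpf : ∀ k ∈ E, k ≠ 1 → ∀ y ∈ P, Commute k y → y = 1) {V : Type*} [CommGroup V] [Finite V]
    (f : (P ⊔ E : Subgroup G) →* MulAut V)
    (hP : ∀ v : V, (∀ y : (P ⊔ E : Subgroup G), (y : G) ∈ P → f y v = v) → v = 1)
    (hEV : ∀ v : V, (∀ k : (P ⊔ E : Subgroup G), (k : G) ∈ E → f k v = v) → v = 1)
    (hcop : (Nat.card P).Coprime (Nat.card V)) (v : V) : v = 1 := by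
  classical
  haveI := Fintype.ofFinite P
  haveI := Fintype.ofFinite E
  set ι : P →* (P ⊔ E : Subgroup G) := Subgroup.inclusion le_sup_left with hι
  set κ : E →* (P ⊔ E : Subgroup G) := Subgroup.inclusion le_sup_right with hκ
  have hnP : ∀ w : V, ∏ y : P, f (ι y) w = 1 := fun w => hP _ fun z hz => by
    rw [map_prod]
    exact Fintype.prod_equiv (Equiv.mulLeft (⟨z, hz⟩ : P)) _ _ fun y => by
      rw [← MulAut.mul_apply, ← map_mul]
      rfl
  have hnE : ∀ w : V, ∏ k : E, f (κ k) w = 1 := fun w => hEV _ fun z hz => by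
    rw [map_prod]
    exact Fintype.prod_equiv (Equiv.mulLeft (⟨z, hz⟩ : E)) _ _ fun k => by
      rw [← MulAut.mul_apply, ← map_mul]
      rfl
  -- the conjugates of a nontrivial element of `E` fill its coset
  have hcoset : ∀ k : E, k ≠ 1 → ∏ y : P, f (ι y * κ k * (ι y)⁻¹) v = 1 := by
    intro k hk
    have hk1 : (k : G) ≠ 1 := fun h => hk (Subtype.ext h)
    have hmem : ∀ y : P, (y : G) * k * (y : G)⁻¹ * (k : G)⁻¹ ∈ P := fun y => by
      rw [mul_assoc, mul_assoc]
      refine mul_mem y.2 ?_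
      rw [← mul_assoc]
      exact (mem_normalizer_iff.mp (hE k.2) _).mp (inv_mem y.2)
    have hbij : Function.Bijective fun y : P => (⟨_, hmem y⟩ : P) := by
      refine Finite.injective_iff_bijective.mp fun y z hyz => ?_
      have h1 : (y : G) * k * (y : G)⁻¹ = (z : G) * k * (z : G)⁻¹ :=
        mul_right_cancel (congrArg Subtype.val hyz)
      have h2 : Commute (k : G) ((z : G)⁻¹ * y) := by
        show (k : G) * ((z : G)⁻¹ * y) = (z : G)⁻¹ * y * k
        calc (k : G) * ((z : G)⁻¹ * y) = (z : G)⁻¹ * ((z : G) * k * (z : G)⁻¹) * y := by group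
          _ = (z : G)⁻¹ * ((y : G) * k * (y : G)⁻¹) * y := by rw [h1]
          _ = (z : G)⁻¹ * y * k := by group
      exact (Subtype.ext (inv_mul_eq_one.mp (hfpf k k.2 hk1 _ (mul_mem (inv_mem z.2) y.2) h2))).symm
    refine (Fintype.prod_bijective _ hbij _ (fun y => f (ι y) (f (κ k) v)) fun y => ?_).trans
      (hnP _)
    rw [← MulAut.mul_apply, ← map_mul]
    congr 2
    refine Subtype.ext ?_
    simp [hι, hκ]
  have hall : ∏ k : E, ∏ y : P, f (ι y * κ k * (ι y)⁻¹) v = 1 := by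
    rw [Finset.prod_comm]
    refine Finset.prod_eq_one fun y _ => ?_
    simp only [map_mul, MulAut.mul_apply]
    rw [← map_prod, hnE, map_one]
  rw [Finset.prod_eq_single 1 (fun k _ hk => hcoset k hk) (fun h => absurd (Finset.mem_univ _) h)]
    at hall
  simp only [map_one, mul_one, mul_inv_cancel, MulAut.one_apply, Finset.prod_const,
    Finset.card_univ, ← Nat.card_eq_fintype_card] at hall
  exact orderOf_eq_one_iff.mp (Nat.eq_one_of_dvd_coprimes hcop
    (orderOf_dvd_of_pow_eq_one hall) (orderOf_dvd_natCard v))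

theorem le_normalizer_center_map {Q0 : Subgroup G} :
    normalizer (Q0 : Set G) ≤ normalizer ((center Q0).map Q0.subtype : Set G) := by
  intro g hg
  have key : ∀ c ∈ normalizer (Q0 : Set G), ∀ y ∈ (center Q0).map Q0.subtype,
      c * y * c⁻¹ ∈ (center Q0).map Q0.subtype := by
    rintro c hc _ ⟨a, ha, rfl⟩
    refine ⟨⟨c * a * c⁻¹, (mem_normalizer_iff.mp hc _).mp a.2⟩, mem_center_iff.mpr fun b => ?_, rfl⟩
    have hb : c⁻¹ * b * c ∈ Q0 := (mem_normalizer_iff''.mp hc _).mp b.2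
    have h1 := congrArg Subtype.val (mem_center_iff.mp ha ⟨_, hb⟩)
    refine Subtype.ext ?_
    simp only [Subgroup.coe_mul] at h1 ⊢
    calc (b : G) * (c * a * c⁻¹) = c * ((c⁻¹ * b * c) * a) * c⁻¹ := by group
      _ = c * (a * (c⁻¹ * b * c)) * c⁻¹ := by rw [h1]
      _ = c * a * c⁻¹ * b := by group
  rw [mem_normalizer_iff]
  intro y
  refine ⟨key g hg y, fun hy => ?_⟩
  have := key g⁻¹ (inv_mem hg) _ hy
  simpa [mul_assoc] using this

theorem exists_other_prime (hns : ¬ Group.IsSolvable ↥N) {p r : ℕ} (hp : p.Prime) (hr : r.Prime)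
    (hpr : p ≠ r) : ∃ q, q.Prime ∧ q ∣ Nat.card N ∧ q ≠ p ∧ q ≠ r := by
  by_contra hall
  push Not at hall
  refine hns (S0144.result p r ((Nat.card N).factorization p) ((Nat.card N).factorization r) hp hr ?_)
  refine Nat.eq_of_factorization_eq Nat.card_pos.ne'
    (mul_ne_zero (pow_ne_zero _ hp.ne_zero) (pow_ne_zero _ hr.ne_zero)) fun s => ?_
  rw [Nat.factorization_mul (pow_ne_zero _ hp.ne_zero) (pow_ne_zero _ hr.ne_zero),
    hp.factorization_pow, hr.factorization_pow]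
  simp only [Finsupp.coe_add, Pi.add_apply, Finsupp.single_apply]
  by_cases h1 : p = s
  · subst h1; simp [Ne.symm hpr]
  by_cases h2 : r = s
  · subst h2; simp [hpr]
  simp only [if_neg h1, if_neg h2, add_zero]
  by_contra h0
  have hs : s.Prime ∧ s ∣ Nat.card N := by
    have := Nat.mem_primeFactors.mp (Nat.support_factorization (Nat.card N) ▸
      Finsupp.mem_support_iff.mpr h0)
    exact ⟨this.1, this.2.1⟩
  exact h2 (hall s hs.1 hs.2 (Ne.symm h1)).symm

variable [N.Normal]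

theorem conj_mem_of_fixed (h : ∀ x : G, x ∉ N → IsPrimePow (orderOf x)) {p r : ℕ} (hp : p.Prime)
    (hr : r.Prime) (hpr : p ≠ r) {P : Subgroup G} (hP : IsPGroup p P) (hPN : ¬ P ≤ N) {k : G}
    (hkP : k ∈ normalizer (P : Set G)) (hkr : ∃ j, orderOf k = r ^ j) (hkN : k ∈ N) : k = 1 := by
  classical
  haveI := Fact.mk hp
  haveI := Fact.mk hr
  by_contra hk1
  obtain ⟨y₀, hy₀, hy₀N⟩ := SetLike.not_le_iff_exists.mp hPN
  let S : Type _ := {y : G // y ∈ P ∧ y * y₀⁻¹ ∈ N}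
  have hconj : ∀ {c : G}, c ∈ normalizer (P : Set G) → c ∈ N → ∀ y : S,
      c * y.1 * c⁻¹ ∈ P ∧ c * y.1 * c⁻¹ * y₀⁻¹ ∈ N := by
    intro c hc hcN y
    refine ⟨(mem_normalizer_iff.mp hc _).mp y.2.1, ?_⟩
    have h1 : c * (y.1 * c⁻¹ * y.1⁻¹) ∈ N :=
      N.mul_mem hcN (Normal.conj_mem inferInstance _ (N.inv_mem hcN) _)
    have h2 := N.mul_mem h1 y.2.2
    convert h2 using 1
    group
  let σ : Equiv.Perm S :=
    { toFun := fun y => ⟨k * y.1 * k⁻¹, hconj hkP hkN y⟩
      invFun := fun y => ⟨k⁻¹ * y.1 * k⁻¹⁻¹, hconj (inv_mem hkP) (inv_mem hkN) y⟩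
      left_inv := fun y => Subtype.ext (by simp [mul_assoc])
      right_inv := fun y => Subtype.ext (by simp [mul_assoc]) }
  have hpow : ∀ (m : ℕ) (y : S), ((σ ^ m) y).1 = k ^ m * y.1 * (k ^ m)⁻¹ := by
    intro m
    induction m with
    | zero => intro y; simp
    | succ m ih =>
      intro y
      rw [pow_succ', Equiv.Perm.mul_apply]
      show k * ((σ ^ m) y).1 * k⁻¹ = _
      rw [ih, pow_succ']
      group
  obtain ⟨j, hj⟩ := hkr
  haveI := Fintype.ofFinite S
  have hS : ¬ r ∣ Fintype.card S := by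
    rw [← Nat.card_eq_fintype_card]
    have e : S ≃ (N ⊓ P : Subgroup G) :=
      { toFun := fun y => ⟨y.1 * y₀⁻¹, y.2.2, P.mul_mem y.2.1 (P.inv_mem hy₀)⟩
        invFun := fun d => ⟨d.1 * y₀, mul_mem d.2.2 hy₀, by
          rw [mul_assoc, mul_inv_cancel, mul_one]; exact d.2.1⟩
        left_inv := fun y => Subtype.ext (by simp [mul_assoc])
        right_inv := fun d => Subtype.ext (by simp [mul_assoc]) }
    rw [Nat.card_congr e]
    intro hd
    obtain ⟨i, hi⟩ := IsPGroup.iff_card.mp (hP.to_le (inf_le_right : N ⊓ P ≤ P))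
    rw [hi] at hd
    exact hpr ((Nat.prime_dvd_prime_iff_eq hr hp).mp (hr.dvd_of_dvd_pow hd)).symm
  obtain ⟨y, hy⟩ := Equiv.Perm.exists_fixed_point_of_prime (p := r) (n := j) hS (σ := σ)
    (Equiv.ext fun y => Subtype.ext (by rw [hpow, ← hj, pow_orderOf_eq_one]; simp))
  have hcomm : Commute y.1 k := (mul_inv_eq_iff_eq_mul.mp (congrArg Subtype.val hy)).symm
  have hyN : y.1 ∉ N := fun hyN => hy₀N (by
    have := N.mul_mem (N.inv_mem y.2.2) hyN
    simpa [mul_assoc] using this)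
  obtain ⟨i, hi⟩ := hP.exists_orderOf_eq_pow ⟨y.1, y.2.1⟩
  exact hyN (mem_of_commute h hp hr hpr hcomm ⟨i, by rw [← hi, orderOf_mk]⟩ ⟨j, hj⟩
    (fun h1 => hyN (h1 ▸ N.one_mem)) hk1).1

/-- In `G ⧸ N` no nontrivial element of `r`-power order normalizes a nontrivial `p`-subgroup. -/
theorem key (h : ∀ x : G, x ∉ N → IsPrimePow (orderOf x)) (hns : ¬ Group.IsSolvable ↥N) {p r : ℕ}
    (hp : p.Prime) (hr : r.Prime) (hpr : p ≠ r) (R : Subgroup (G ⧸ N)) (hR : IsPGroup p R)
    (hR1 : R ≠ ⊥) (e : G ⧸ N) (he : e ∈ normalizer (R : Set (G ⧸ N)))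
    (her : ∃ j, orderOf e = r ^ j) : e = 1 := by
  classical
  haveI := Fact.mk hp
  haveI := Fact.mk hr
  obtain ⟨q, hq, hqN, hqp, hqr⟩ := exists_other_prime hns hp hr hpr
  haveI := Fact.mk hq
  by_contra he1
  obtain ⟨Q⟩ : Nonempty (Sylow q N) := Sylow.nonempty
  set Q0 : Subgroup G := (Q : Subgroup N).map N.subtype with hQ0
  have hQ0p : IsPGroup q Q0 := Q.2.map _
  have hQ01 : Q0 ≠ ⊥ := by
    rw [hQ0, Ne, Subgroup.map_eq_bot_iff_of_injective _ N.subtype_injective]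
    exact Q.ne_bot_of_dvd_card hqN
  set H := normalizer (Q0 : Set G) with hH
  set π := QuotientGroup.mk' N with hπ
  have hHN : H ⊔ N = ⊤ := Sylow.normalizer_sup_eq_top Q
  have hlift : ∀ c : G ⧸ N, ∃ x ∈ H, π x = c := by
    intro c
    obtain ⟨x, rfl⟩ := QuotientGroup.mk'_surjective N c
    obtain ⟨a, ha, b, hb, rfl⟩ := mem_sup_of_normal_right.mp (hHN.symm ▸ mem_top x)
    exact ⟨a, ha, by rw [map_mul, show π b = 1 from (QuotientGroup.eq_one_iff b).mpr hb, mul_one]⟩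
  -- a `p`-subgroup of `H` over `R`
  set A := R.comap π ⊓ H with hA
  obtain ⟨P⟩ : Nonempty (Sylow p A) := Sylow.nonempty
  set P0 : Subgroup G := (P : Subgroup A).map A.subtype with hP0
  have hP0p : IsPGroup p P0 := P.2.map _
  have hP0A : P0 ≤ A := map_subtype_le _
  let φ : A →* R := (π.comp A.subtype).codRestrict R fun x => x.2.1
  have hφ : Function.Surjective φ := by
    rintro ⟨c, hc⟩
    obtain ⟨x, hx, rfl⟩ := hlift c
    exact ⟨⟨x, hc, hx⟩, rfl⟩
  have hsurj : ∀ c ∈ R, ∃ y ∈ P0, π y = c := by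
    intro c hc
    have h1 : (P.mapSurjective hφ : Subgroup R) = ⊤ := by
      have hf : IsPGroup p (⊤ : Subgroup R) := hR.to_subgroup _
      exact ((P.mapSurjective hφ).3 hf le_top).symm
    rw [Sylow.coe_mapSurjective] at h1
    obtain ⟨y, hy, hy'⟩ := (h1.symm ▸ mem_top (⟨c, hc⟩ : R) : (⟨c, hc⟩ : R) ∈ (P : Subgroup A).map φ)
    exact ⟨y, ⟨y, hy, rfl⟩, congrArg Subtype.val hy'⟩
  have hP0N : ¬ P0 ≤ N := by
    intro hle
    refine hR1 ((eq_bot_iff_forall R).mpr fun c hc => ?_)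
    obtain ⟨y, hy, rfl⟩ := hsurj c hc
    exact (QuotientGroup.eq_one_iff y).mpr (hle hy)
  -- lift `e`
  set B := (normalizer (R : Set (G ⧸ N))).comap π ⊓ H with hB
  have hAB : A ≤ B := inf_le_inf_right H (comap_mono le_normalizer)
  haveI : (A.subgroupOf B).Normal := by
    rw [normal_subgroupOf_iff hAB]
    rintro a b ha ⟨hb, hbH⟩
    refine ⟨?_, H.mul_mem (H.mul_mem hbH ha.2) (H.inv_mem hbH)⟩
    show π (b * a * b⁻¹) ∈ R
    rw [map_mul, map_mul, map_inv]
    exact (mem_normalizer_iff.mp hb _).mp ha.1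
  obtain ⟨x, hxH, hx⟩ := hlift e
  obtain ⟨m, hmP, hmx⟩ : ∃ m ∈ normalizer (P0 : Set G) ⊓ H, π m = π x := by
    let eA : A.subgroupOf B ≃* A := Subgroup.subgroupOfEquivOfLe hAB
    obtain ⟨P', hP'⟩ : ∃ P' : Sylow p (A.subgroupOf B),
        ((P' : Subgroup _).map (A.subgroupOf B).subtype).map B.subtype = P0 := by
      refine ⟨P.comapOfInjective eA.toMonoidHom eA.injective (fun y _ => ⟨eA.symm y, by simp⟩), ?_⟩
      rw [show ((P.comapOfInjective eA.toMonoidHom eA.injective (fun y _ => ⟨eA.symm y, by simp⟩) :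
        Sylow p (A.subgroupOf B)) : Subgroup _) = (P : Subgroup A).comap eA.toMonoidHom from rfl,
        Subgroup.map_map]
      ext y
      constructor
      · rintro ⟨z, hz, rfl⟩
        exact ⟨eA z, hz, rfl⟩
      · rintro ⟨z, hz, rfl⟩
        exact ⟨eA.symm z, by simpa using hz, rfl⟩
    have htop := Sylow.normalizer_sup_eq_top P'
    have hxB : x ∈ B := ⟨show π x ∈ normalizer (R : Set (G ⧸ N)) from hx.symm ▸ he, hxH⟩
    obtain ⟨c, hc, a, ha, hca⟩ := mem_sup_of_normal_right.mp (htop.symm ▸ mem_top (⟨x, hxB⟩ : B))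
    obtain ⟨y, hy, hy'⟩ := hsurj (π a) (mem_subgroupOf.mp ha).1
    have hyA := hP0A hy
    refine ⟨(c : G) * y, ⟨mul_mem ?_ (le_normalizer hy), mul_mem c.2.2 hyA.2⟩, ?_⟩
    · rw [← hP']
      exact le_normalizer_map _ ⟨c, hc, rfl⟩
    · rw [map_mul, hy', ← map_mul]
      exact congrArg π (congrArg Subtype.val hca)
  -- the `r`-part of `m`
  obtain ⟨j, hj⟩ := her
  set t := orderOf m with ht
  set m' := m ^ (t / r ^ t.factorization r) with hm'
  have hm'r : orderOf m' = r ^ t.factorization r := by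
    rw [hm', orderOf_pow, ← ht, Nat.gcd_eq_right (Nat.div_dvd_of_dvd (Nat.ordProj_dvd t r)),
      Nat.div_div_self (Nat.ordProj_dvd t r) (orderOf_pos m).ne']
  have hm'N : m' ∉ N := by
    intro hmem
    have h1 : π m' = 1 := (QuotientGroup.eq_one_iff m').mpr hmem
    rw [hm', map_pow, hmx, hx, ← orderOf_dvd_iff_pow_eq_one, hj] at h1
    have hj0 : j ≠ 0 := fun h0 => he1 (orderOf_eq_one_iff.mp (by rw [hj, h0, pow_zero]))
    exact Nat.not_dvd_ordCompl hr (orderOf_pos m).ne' ((dvd_pow_self r hj0).trans h1)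
  have hmH : m' ∈ normalizer (P0 : Set G) ⊓ H := pow_mem hmP _
  set E := zpowers m' with hE
  have hEle : E ≤ normalizer (P0 : Set G) ⊓ H := zpowers_le.mpr hmH
  have hEr : ∀ k ∈ E, ∃ j, orderOf k = r ^ j := fun k hk => by
    obtain ⟨i, -, hi⟩ := (Nat.dvd_prime_pow hr).mp (hm'r ▸ orderOf_dvd_of_mem_zpowers hk)
    exact ⟨i, hi⟩
  have hEN : ∀ k ∈ E, k ≠ 1 → k ∉ N := fun k hk hk1 hkN =>
    hk1 (conj_mem_of_fixed h hp hr hpr hP0p hP0N (hEle hk).1 (hEr k hk) hkN)
  have hfpf : ∀ k ∈ E, k ≠ 1 → ∀ y ∈ P0, Commute k y → y = 1 := by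
    intro k hk hk1 y hy hky
    by_contra hy1
    obtain ⟨i, hi⟩ := hP0p.exists_orderOf_eq_pow ⟨y, hy⟩
    exact hEN k hk hk1 (mem_of_commute h hr hp hpr.symm hky (hEr k hk)
      ⟨i, by rw [← hi, orderOf_mk]⟩ hk1 hy1).1
  -- the centre of `Q0`
  set V0 : Subgroup G := (center Q0).map Q0.subtype with hV0
  have hV0Q : V0 ≤ Q0 := map_subtype_le _
  have hnorm : P0 ⊔ E ≤ normalizer (V0 : Set G) :=
    (sup_le (hP0A.trans inf_le_right) (hEle.trans inf_le_right)).trans
      le_normalizer_center_map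
  have hV0c : ∀ a b : V0, a * b = b * a := fun a b => by
    obtain ⟨a', ha', ha''⟩ := a.2
    obtain ⟨b', hb', hb''⟩ := b.2
    refine Subtype.ext ?_
    show (a : G) * b = b * a
    rw [← ha'', ← hb'', ← map_mul, ← map_mul, mem_center_iff.mp hb' a']
  letI : CommGroup V0 := { (inferInstance : Group V0) with mul_comm := hV0c }
  let f : (P0 ⊔ E : Subgroup G) →* MulAut V0 :=
    (normalizerMonoidHom V0).comp (Subgroup.inclusion hnorm)
  have hfix : ∀ (y : (P0 ⊔ E : Subgroup G)) (v : V0), f y v = v → Commute (v : G) y := fun y v hyv => by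
    have h1 : (y : G) * v * (y : G)⁻¹ = v := congrArg Subtype.val hyv
    exact (mul_inv_eq_iff_eq_mul.mp h1).symm
  have hv1 : ∀ (v : V0) (y : G) (s : ℕ), s.Prime → q ≠ s → (∃ i, orderOf y = s ^ i) → y ∉ N →
      Commute (v : G) y → v = 1 := by
    intro v y s hs hqs hys hyN hcomm
    by_contra hv
    obtain ⟨i, hi⟩ := (hQ0p.to_le hV0Q).exists_orderOf_eq_pow v
    exact hyN (mem_of_commute h hq hs hqs hcomm ⟨i, by rw [← hi, Subgroup.orderOf_coe]⟩ hys
      (fun h0 => hv (Subtype.ext h0)) fun h1 => hyN (h1 ▸ N.one_mem)).2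
  have hVall : ∀ v : V0, v = 1 := by
    refine eq_bot_of_norm P0 E (hEle.trans inf_le_left) hfpf f (fun v hv => ?_) (fun v hv => ?_) ?_
    · obtain ⟨y, hy, hyN⟩ := SetLike.not_le_iff_exists.mp hP0N
      obtain ⟨i, hi⟩ := hP0p.exists_orderOf_eq_pow ⟨y, hy⟩
      exact hv1 v y p hp hqp ⟨i, by rw [← hi, orderOf_mk]⟩ hyN
        (hfix ⟨y, mem_sup_left hy⟩ v (hv _ hy))
    · exact hv1 v m' r hr hqr ⟨_, hm'r⟩ hm'N
        (hfix ⟨m', mem_sup_right (mem_zpowers m')⟩ v (hv _ (mem_zpowers m')))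
    · obtain ⟨a, ha⟩ := IsPGroup.iff_card.mp hP0p
      obtain ⟨b, hb⟩ := IsPGroup.iff_card.mp (hQ0p.to_le hV0Q)
      rw [ha, hb]
      exact Nat.Coprime.pow _ _ ((Nat.coprime_primes hp hq).mpr (Ne.symm hqp))
  -- but the centre of `Q0` is nontrivial
  haveI : Nontrivial Q0 := (nontrivial_iff_ne_bot Q0).mpr hQ01
  haveI := hQ0p.center_nontrivial
  obtain ⟨z, hz⟩ := exists_ne (1 : center Q0)
  exact hz (Subtype.ext (Subtype.ext
    (by simpa using congrArg Subtype.val (hVall ⟨_, z.1, z.2, rfl⟩))))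

/-- Let N be a non-trivial normal subgroup of the finite group G such that every element of G outside N has prime power order. If N is not solvable, then G/N is solvable. -/
theorem result {G : Type*} [Group G] [Finite G] (N : Subgroup G) [N.Normal] (hN : N ≠ ⊥) (hns : ¬ Group.IsSolvable ↥N)
    (h : ∀ x : G, x ∉ N → IsPrimePow (orderOf x)) : Group.IsSolvable (G ⧸ N) := by
  classical
  have hkey := fun {p r : ℕ} (hp : p.Prime) (hr : r.Prime) (hpr : p ≠ r) =>
    key h hns hp hr hpr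
  -- every prime has a normal complement
  have hcomp : ∀ p : ℕ, [Fact p.Prime] → ∀ P : Sylow p (G ⧸ N),
      ∃ K : Subgroup (G ⧸ N), K.Normal ∧ K.IsComplement' (P : Subgroup (G ⧸ N)) := by
    intro p hp P
    refine (S0071.result P).mpr fun Q hQ g hg hgp => ?_
    by_cases hQ1 : Q = ⊥
    · rw [mem_centralizer_iff]
      intro y hy
      rw [hQ1, SetLike.mem_coe, mem_bot] at hy
      simp [hy]
    have hg1 : g = 1 := by
      by_contra hg1
      obtain ⟨r, hr, hrg⟩ := Nat.exists_prime_and_dvd (fun h0 => hg1 (orderOf_eq_one_iff.mp h0))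
      have hpr : p ≠ r := by
        rintro rfl
        exact hr.ne_one (Nat.eq_one_of_dvd_coprimes hgp hrg dvd_rfl)
      have hord : orderOf (g ^ (orderOf g / r)) = r := by
        rw [orderOf_pow, Nat.gcd_eq_right (Nat.div_dvd_of_dvd hrg),
          Nat.div_div_self hrg (orderOf_pos g).ne']
      have := hkey hp.out hr hpr Q (P.2.to_le hQ) hQ1 _ (pow_mem hg _) ⟨1, by rw [hord, pow_one]⟩
      rw [this, orderOf_one] at hord
      exact hr.one_lt.ne hord
    rw [hg1]
    exact one_mem _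
  -- so the quotient has prime power order
  suffices hpp : ∀ p r : ℕ, p.Prime → r.Prime → p ∣ Nat.card (G ⧸ N) → r ∣ Nat.card (G ⧸ N) →
      p = r by
    by_cases h1 : Nat.card (G ⧸ N) = 1
    · haveI := (Nat.card_eq_one_iff_unique.mp h1).1
      infer_instance
    obtain ⟨p, hp, hpd⟩ := Nat.exists_prime_and_dvd h1
    haveI := Fact.mk hp
    have : IsPGroup p (G ⧸ N) := IsPGroup.of_card (Nat.eq_prime_pow_of_unique_prime_dvd
      Nat.card_pos.ne' fun {d} hd hdd => hpp d p hd hp hdd hpd)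
    haveI := this.isNilpotent
    infer_instance
  intro p r hp hr hpd hrd
  by_contra hpr
  haveI := Fact.mk hp
  haveI := Fact.mk hr
  obtain ⟨P⟩ : Nonempty (Sylow p (G ⧸ N)) := Sylow.nonempty
  obtain ⟨K, hK, hKP⟩ := hcomp p P
  obtain ⟨i, hi⟩ := IsPGroup.iff_card.mp P.2
  have hidx : K.index = Nat.card (P : Subgroup (G ⧸ N)) := hKP.symm.index_eq_card
  have hpP : p ∣ Nat.card (P : Subgroup (G ⧸ N)) := P.dvd_card_of_dvd_card hpd
  have hrK : r ∣ Nat.card K := by
    rw [← hKP.card_mul, hi] at hrd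
    refine (hr.dvd_mul.mp hrd).resolve_right fun h0 => hpr ?_
    exact ((Nat.prime_dvd_prime_iff_eq hr hp).mp (hr.dvd_of_dvd_pow h0)).symm
  obtain ⟨R⟩ : Nonempty (Sylow r K) := Sylow.nonempty
  set R0 : Subgroup (G ⧸ N) := (R : Subgroup K).map K.subtype with hR0
  have hR01 : R0 ≠ ⊥ := by
    rw [hR0, Ne, Subgroup.map_eq_bot_iff_of_injective _ K.subtype_injective]
    exact R.ne_bot_of_dvd_card hrK
  have hpN : p ∣ Nat.card (normalizer (R0 : Set (G ⧸ N))) := by
    have h1 : K.relIndex (normalizer (R0 : Set (G ⧸ N))) = K.index := by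
      have h2 := relIndex_sup_left (normalizer (R0 : Set (G ⧸ N))) K
      rw [← h2, sup_comm, Sylow.normalizer_sup_eq_top R, relIndex_top_right]
    have h3 : p ∣ K.index := hidx.symm ▸ hpP
    rw [← h1] at h3
    exact h3.trans (relIndex_dvd_card _ _)
  obtain ⟨g, hg⟩ := exists_prime_orderOf_dvd_card' p hpN
  have hg1 := hkey hr hp (Ne.symm hpr) R0 (R.2.map _) hR01 (g : G ⧸ N) g.2
    ⟨1, by rw [Subgroup.orderOf_coe, hg, pow_one]⟩
  rw [← Subgroup.orderOf_coe, hg1, orderOf_one] at hg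
  exact hp.one_lt.ne hg

end Cfsg.Agent.S3901
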