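import Cfsg.Statements.S3903
import Mathlib.GroupTheory.Transfer
import Mathlib.GroupTheory.Nilpotent
import Mathlib.GroupTheory.Solvable

set_option autoImplicit false
open Cfsg

namespace Cfsg.Agent.S3903

open Subgroup

variable {G : Type*} [Group G] [Finite G]

/-- If all elements outside the normal subgroup `N` have prime power order, the centralizer of an
element of `p`-power order outside `N` is a `p`-group. -/
theorem centralizer_pgroup {p : ℕ} [hp : Fact p.Prime] (N : Subgroup G) [N.Normal]
    (h : ∀ x : G, x ∉ N → IsPrimePow (orderOf x)) {x : G} (hx : x ∉ N) {k : ℕ}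
    (hk : orderOf x = p ^ k) : IsPGroup p ↥(centralizer ({x} : Set G)) := by
  set C := centralizer ({x} : Set G)
  apply IsPGroup.of_card (n := (Nat.card C).factorization p)
  have hu : ∀ {q : ℕ}, q.Prime → q ∣ Nat.card C → q = p := by
    intro q hq hdvd
    by_contra hqp
    haveI : Fact q.Prime := ⟨hq⟩
    obtain ⟨y, hy⟩ := exists_prime_orderOf_dvd_card' (G := C) q hdvd
    have hyo : orderOf (y : G) = q := by rw [Subgroup.orderOf_coe, hy]
    have hcomm : Commute x (y : G) := mem_centralizer_iff.mp y.2 x rfl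
    have hcop : (orderOf x).Coprime (orderOf (y : G)) := by
      rw [hk, hyo]
      exact Nat.Coprime.pow_left _ ((Nat.coprime_primes hp.out hq).mpr (Ne.symm hqp))
    have hxy : x * (y : G) ∉ N := by
      intro hmem
      apply hx
      have h1 : (x : G ⧸ N) * ((y : G) : G ⧸ N) = 1 := by
        rw [← QuotientGroup.mk_mul, QuotientGroup.eq_one_iff]; exact hmem
      have h2 : orderOf (x : G ⧸ N) ∣ orderOf x := orderOf_map_dvd (QuotientGroup.mk' N) x
      have h3 : orderOf (x : G ⧸ N) ∣ orderOf (y : G) := by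
        rw [eq_inv_of_mul_eq_one_left h1, orderOf_inv]
        exact orderOf_map_dvd (QuotientGroup.mk' N) (y : G)
      have h4 : orderOf (x : G ⧸ N) = 1 := Nat.eq_one_of_dvd_coprimes hcop h2 h3
      rw [orderOf_eq_one_iff, QuotientGroup.eq_one_iff] at h4
      exact h4
    obtain ⟨r, m, hr, hm, hrm⟩ := (isPrimePow_nat_iff _).mp (h _ hxy)
    rw [hcomm.orderOf_mul_eq_mul_orderOf_of_coprime hcop, hk, hyo] at hrm
    have hq' : q = r := (Nat.prime_dvd_prime_iff_eq hq hr).mp
      (hq.dvd_of_dvd_pow (hrm ▸ Dvd.intro_left _ rfl))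
    rcases Nat.eq_zero_or_pos k with rfl | hkpos
    · rw [pow_zero, orderOf_eq_one_iff] at hk
      exact hx (hk ▸ N.one_mem)
    · have hp' : p = r := (Nat.prime_dvd_prime_iff_eq hp.out hr).mp
        (hp.out.dvd_of_dvd_pow (hrm ▸ dvd_mul_of_dvd_left (dvd_pow_self p hkpos.ne') q))
      exact hqp (hq'.trans hp'.symm)
  obtain ⟨e, he⟩ : ∃ e, Nat.card C = p ^ e :=
    ⟨_, Nat.eq_prime_pow_of_unique_prime_dvd Nat.card_pos.ne' hu⟩
  rw [he, hp.out.factorization_pow, Finsupp.single_eq_same]

theorem isSolvable_of_abelian_maximal {p : ℕ} [Fact p.Prime] (P : Sylow p G)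
    (hQco : ∀ Q : Sylow p G, IsCoatom (Q : Subgroup G))
    (hab : ∀ a ∈ (P : Subgroup G), ∀ b ∈ (P : Subgroup G), a * b = b * a) :
    Group.IsSolvable G := by
  haveI hPab : Group.IsSolvable ↥(P : Subgroup G) :=
    Group.isSolvable_of_comm (fun a b => Subtype.ext (hab a a.2 b b.2))
  rcases (le_normalizer : (P : Subgroup G) ≤ normalizer ((P : Subgroup G) : Set G)).lt_or_eq with
    hlt | heq
  · -- P normal
    have htop := (hQco P).2 _ hlt
    haveI hn : (P : Subgroup G).Normal := normalizer_eq_top_iff.mp htop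
    obtain ⟨y, -, hy⟩ := SetLike.exists_of_lt (lt_top_iff_ne_top.mpr (hQco P).1)
    have hgen : (P : Subgroup G) ⊔ zpowers y = ⊤ :=
      (hQco P).2 _ (lt_of_le_of_ne le_sup_left fun heq => hy (heq ▸ le_sup_right (a := (P : Subgroup G))
        (b := zpowers y) (mem_zpowers y)))
    have hcyc : (zpowers y).map (QuotientGroup.mk' (P : Subgroup G)) = ⊤ := by
      have := congrArg (Subgroup.map (QuotientGroup.mk' (P : Subgroup G))) hgen
      rw [Subgroup.map_sup, Subgroup.map_top_of_surjective _ (QuotientGroup.mk'_surjective _),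
        QuotientGroup.map_mk'_self, bot_sup_eq] at this
      exact this
    haveI : Group.IsSolvable (G ⧸ (P : Subgroup G)) := by
      refine Group.isSolvable_of_comm (fun a b => ?_)
      rw [MonoidHom.map_zpowers] at hcyc
      obtain ⟨i, rfl⟩ := mem_zpowers_iff.mp (hcyc.symm ▸ mem_top a : a ∈ zpowers _)
      obtain ⟨j, rfl⟩ := mem_zpowers_iff.mp (hcyc.symm ▸ mem_top b : b ∈ zpowers _)
      exact zpow_mul_comm _ i j
    exact Group.isSolvable_of_ker_le_range (P : Subgroup G).subtype
      (QuotientGroup.mk' (P : Subgroup G)) (by simp)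
  · have hNC : normalizer ((P : Subgroup G) : Set G) ≤ centralizer ((P : Subgroup G) : Set G) := by
      rw [← heq]
      exact fun a ha => mem_centralizer_iff.mpr fun b hb => hab b hb a ha
    set K := (MonoidHom.transferSylow P hNC).ker with hK
    haveI : K.Normal := MonoidHom.normal_ker _
    have hKnd : ¬ p ∣ Nat.card K := MonoidHom.not_dvd_card_ker_transferSylow P hNC
    haveI : Group.IsNilpotent ↥K := by
      apply ((Group.isNilpotent_of_finite_tfae (G := ↥K)).out 0 3).mpr
      intro q hq Q
      set Qg := (Q : Subgroup K).map K.subtype with hQg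
      have hsup : normalizer (Qg : Set G) ⊔ K = ⊤ := Sylow.normalizer_sup_eq_top Q
      have hidx : (normalizer (Qg : Set G)).index ∣ Nat.card K := by
        rw [← relIndex_top_right, ← hsup, sup_comm]
        have h1 : (normalizer (Qg : Set G)).relIndex (K ⊔ normalizer (Qg : Set G)) =
            (normalizer (Qg : Set G)).relIndex K := by
          apply Nat.eq_of_mul_eq_mul_left (n := Nat.card (normalizer (Qg : Set G)))
            Nat.card_pos
          rw [sup_comm, hsup, relIndex_top_right, card_mul_index]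
          have h2 : K.relIndex (normalizer (Qg : Set G)) = K.index := by
            rw [← relIndex_sup_right, hsup, relIndex_top_right]
          have h3 := card_mul_index (K.subgroupOf (normalizer (Qg : Set G)))
          have h4 := card_mul_index ((normalizer (Qg : Set G)).subgroupOf K)
          have h5 : Nat.card ↥(K.subgroupOf (normalizer (Qg : Set G))) =
              Nat.card ↥((normalizer (Qg : Set G)).subgroupOf K) := by
            rw [← Subgroup.card_map_of_injective
                (normalizer (Qg : Set G)).subtype_injective,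
              ← Subgroup.card_map_of_injective (K := (normalizer (Qg : Set G)).subgroupOf K) K.subtype_injective,
              subgroupOf_map_subtype, subgroupOf_map_subtype, inf_comm]
          change _ * K.relIndex (normalizer (Qg : Set G)) = _ at h3
          rw [h2] at h3
          change _ * (normalizer (Qg : Set G)).relIndex K = _ at h4
          rw [← h3, h5]
          calc Nat.card G = Nat.card K * K.index := (card_mul_index K).symm
            _ = _ := by rw [← h4]; ring
        rw [h1]
        exact relIndex_dvd_card _ _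
      have hPdvd : Nat.card (P : Subgroup G) ∣ Nat.card (normalizer (Qg : Set G)) := by
        have hcop : (Nat.card (P : Subgroup G)).Coprime (normalizer (Qg : Set G)).index := by
          rw [P.card_eq_multiplicity]
          exact Nat.Coprime.pow_left _ ((Fact.out : p.Prime).coprime_iff_not_dvd.mpr
            fun hd => hKnd (hd.trans hidx))
        apply hcop.dvd_of_dvd_mul_right
        rw [card_mul_index]
        exact Subgroup.card_subgroup_dvd_card _
      rw [P.card_eq_multiplicity] at hPdvd
      obtain ⟨R, hR⟩ := Sylow.exists_subgroup_card_pow_prime p hPdvd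
      have hR' : Nat.card ↥(R.map (normalizer (Qg : Set G)).subtype) = p ^ (Nat.card G).factorization p := by
        rw [Subgroup.card_map_of_injective (normalizer (Qg : Set G)).subtype_injective, hR]
      set R' := Sylow.ofCard _ hR'
      have hle : (R' : Subgroup G) ≤ normalizer (Qg : Set G) := map_subtype_le R
      rcases hle.lt_or_eq with hlt | heqR
      · have htop := (hQco R').2 _ hlt
        haveI hQn : Qg.Normal := normalizer_eq_top_iff.mp htop
        have : (Q : Subgroup K) = Qg.subgroupOf K := by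
          rw [hQg, subgroupOf, comap_map_eq_self_of_injective K.subtype_injective]
        rw [this]
        exact hQn.subgroupOf K
      · have hQle : Qg ≤ (R' : Subgroup G) := heqR.symm ▸ le_normalizer
        obtain ⟨a, ha⟩ := IsPGroup.iff_card.mp (R'.isPGroup'.to_le hQle)
        have hc : Nat.card (Q : Subgroup K) = p ^ a := by
          rw [← ha, hQg, Subgroup.card_map_of_injective K.subtype_injective]
        have ha0 : a = 0 := by
          by_contra ha0
          exact hKnd ((dvd_pow_self p ha0).trans (hc ▸ Subgroup.card_subgroup_dvd_card _))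
        rw [Subgroup.card_eq_one.mp (by rw [hc, ha0, pow_zero] : Nat.card (Q : Subgroup K) = 1)]
        infer_instance
    haveI : Group.IsSolvable (MonoidHom.transferSylow P hNC).range := inferInstance
    exact Group.isSolvable_of_ker_le_range K.subtype (MonoidHom.transferSylow P hNC)
      (by rw [range_subtype])

theorem main (N : Subgroup G) [N.Normal] (hN : N ≠ ⊤)
    (h : ∀ x : G, x ∉ N → IsPrimePow (orderOf x) ∧ IsCoatom (Subgroup.centralizer ({x} : Set G))) :
    Group.IsSolvable ↥N := by
  classical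
  obtain ⟨x₀, -, hx₀⟩ := SetLike.exists_of_lt (lt_top_iff_ne_top.mpr hN)
  obtain ⟨p, k₀, hp, -, hord₀⟩ := (isPrimePow_nat_iff _).mp (h x₀ hx₀).1
  haveI : Fact p.Prime := ⟨hp⟩
  have hC₀ := centralizer_pgroup (p := p) N (fun x hx => (h x hx).1) hx₀ hord₀.symm
  by_cases hG : IsPGroup p G
  · haveI := hG.isNilpotent
    infer_instance
  have hne : ∀ Q : Sylow p G, (Q : Subgroup G) ≠ ⊤ := by
    intro Q hT
    apply hG
    have h' := Q.isPGroup'
    rw [hT] at h'
    exact h'.of_equiv Subgroup.topEquiv
  obtain ⟨P, hP⟩ := hC₀.exists_le_sylow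
  have hPC : (P : Subgroup G) = centralizer ({x₀} : Set G) := by
    rcases hP.lt_or_eq with hlt | heq
    · exact absurd ((h x₀ hx₀).2.2 _ hlt) (hne P)
    · exact heq.symm
  have hPco : IsCoatom (P : Subgroup G) := hPC ▸ (h x₀ hx₀).2
  have hQco : ∀ Q : Sylow p G, IsCoatom (Q : Subgroup G) := by
    intro Q
    obtain ⟨g, rfl⟩ := MulAction.exists_smul_eq G P Q
    exact ((MulAut.conj g).mapSubgroup.isCoatom_iff (P : Subgroup G)).mpr hPco
  by_cases hNQ : ∃ Q : Sylow p G, N ≤ Q
  · obtain ⟨Q, hQ⟩ := hNQ
    haveI := (Q.isPGroup'.to_le hQ).isNilpotent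
    infer_instance
  push Not at hNQ
  have hQN : ∀ Q : Sylow p G, (Q : Subgroup G) ⊔ N = ⊤ := fun Q =>
    (hQco Q).2 _ (left_lt_sup.mpr (hNQ Q))
  -- orders outside N are p-powers
  have hpow : ∀ x : G, x ∉ N → ∃ k, orderOf x = p ^ k := by
    intro x hx
    obtain ⟨r, m, hr, -, hrm⟩ := (isPrimePow_nat_iff _).mp (h x hx).1
    by_cases hrp : r = p
    · exact ⟨m, hrp ▸ hrm.symm⟩
    exfalso
    apply hx
    obtain ⟨a, ha, b, hb, rfl⟩ := (Subgroup.mem_sup_of_normal_right (s := (P : Subgroup G))).mp
      ((hQN P).symm ▸ mem_top x)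
    obtain ⟨j, hj⟩ := IsPGroup.iff_orderOf.mp P.isPGroup' ⟨a, ha⟩
    rw [Subgroup.orderOf_mk] at hj
    have h1 : ((a * b : G) : G ⧸ N) = (a : G ⧸ N) := by
      rw [QuotientGroup.eq]; simpa using N.inv_mem hb
    have h2 : orderOf ((a * b : G) : G ⧸ N) ∣ r ^ m := hrm ▸ orderOf_map_dvd (QuotientGroup.mk' N) _
    have h3 : orderOf ((a * b : G) : G ⧸ N) ∣ p ^ j := by
      rw [h1]; exact hj ▸ orderOf_map_dvd (QuotientGroup.mk' N) a
    have h4 := Nat.eq_one_of_dvd_coprimes
      (Nat.Coprime.pow _ _ ((Nat.coprime_primes hr hp).mpr hrp)) h2 h3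
    rwa [orderOf_eq_one_iff, QuotientGroup.eq_one_iff] at h4
  have hsyl : ∀ x : {x : G // x ∉ N}, ∃ Q : Sylow p G,
      (Q : Subgroup G) = centralizer ({(x : G)} : Set G) := by
    rintro ⟨x, hx⟩
    obtain ⟨k, hk⟩ := hpow x hx
    obtain ⟨Q, hQ⟩ := (centralizer_pgroup (p := p) N (fun x hx => (h x hx).1) hx hk).exists_le_sylow
    rcases hQ.lt_or_eq with hlt | heq
    · exact absurd ((h x hx).2.2 _ hlt) (hne Q)
    · exact ⟨Q, heq.symm⟩
  choose s hs using hsyl
  let f : {x : G // x ∉ N} → (Σ Q : Sylow p G, {y : ↥(Q : Subgroup G) // (y : G) ∉ N}) := fun x =>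
    ⟨s x, ⟨⟨x, hs x ▸ mem_centralizer_singleton_iff.mpr rfl⟩, x.2⟩⟩
  have hfinj : Function.Injective f := by
    intro x y hxy
    have := congrArg (fun z => ((z.2.1 : ↥(z.1 : Subgroup G)) : G)) hxy
    exact Subtype.ext this
  haveI : Fintype (Sylow p G) := Fintype.ofFinite _
  have hcard : Nat.card (Σ Q : Sylow p G, {y : ↥(Q : Subgroup G) // (y : G) ∉ N}) ≤
      Nat.card {x : G // x ∉ N} := by
    have hcompl : ∀ (H : Type _) [Finite H] (q : H → Prop),
        Nat.card {y : H // q y} + Nat.card {y : H // ¬ q y} = Nat.card H := by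
      intro H _ q
      rw [← Nat.card_sum, Nat.card_congr (Equiv.sumCompl q)]
    have hdom : Nat.card N + Nat.card {x : G // x ∉ N} = Nat.card G := hcompl G (· ∈ N)
    have hidx : Nat.card N * N.index = Nat.card G := card_mul_index N
    have hQ : ∀ Q : Sylow p G, ∃ m, m * N.index = Nat.card (P : Subgroup G) ∧
        m + Nat.card {y : ↥(Q : Subgroup G) // (y : G) ∉ N} = Nat.card (P : Subgroup G) := by
      intro Q
      have hc : Nat.card (Q : Subgroup G) = Nat.card (P : Subgroup G) := by
        rw [Q.card_eq_multiplicity, P.card_eq_multiplicity]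
      refine ⟨Nat.card (N.subgroupOf (Q : Subgroup G)), ?_, ?_⟩
      · rw [← hc, ← relIndex_top_right (H := N), ← hQN Q, relIndex_sup_right]
        exact card_mul_index _
      · rw [← hc]; exact hcompl _ (fun y : ↥(Q : Subgroup G) => (y : G) ∈ N)
    obtain ⟨m, hm1, -⟩ := hQ P
    have hi : 0 < N.index := Nat.pos_of_ne_zero Subgroup.index_ne_zero_of_finite
    have hall : ∀ Q : Sylow p G,
        Nat.card {y : ↥(Q : Subgroup G) // (y : G) ∉ N} = Nat.card (P : Subgroup G) - m := by
      intro Q
      obtain ⟨m', h1, h2⟩ := hQ Q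
      have : m' = m := Nat.eq_of_mul_eq_mul_right hi (h1.trans hm1.symm)
      omega
    rw [Nat.card_sigma, Finset.sum_congr rfl (fun Q _ => hall Q), Finset.sum_const, smul_eq_mul,
      Finset.card_univ, ← Nat.card_eq_fintype_card]
    have hn : Nat.card (Sylow p G) * Nat.card (P : Subgroup G) ≤ Nat.card G := by
      rw [← card_mul_index (P : Subgroup G), mul_comm]
      exact Nat.mul_le_mul_left _ (Nat.le_of_dvd
        (Nat.pos_of_ne_zero Subgroup.index_ne_zero_of_finite) P.card_dvd_index)
    have hnm : Nat.card (Sylow p G) * m ≤ Nat.card N := by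
      rw [← hm1, ← hidx, ← mul_assoc] at hn
      exact Nat.le_of_mul_le_mul_right hn hi
    obtain ⟨i, hi'⟩ : ∃ i, N.index = i + 1 := ⟨N.index - 1, by omega⟩
    rw [hi', Nat.mul_add, mul_one] at hm1 hidx
    have h1 : Nat.card (P : Subgroup G) - m = m * i := by omega
    have h2 : Nat.card {x : G // x ∉ N} = Nat.card N * i := by omega
    rw [h1, h2, ← mul_assoc]
    exact Nat.mul_le_mul_right i hnm
  have hfsurj : Function.Surjective f :=
    ((Nat.bijective_iff_injective_and_card f).mpr
      ⟨hfinj, le_antisymm (Nat.card_le_card_of_injective f hfinj) hcard⟩).2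
  have hcentral : ∀ a ∈ (P : Subgroup G), a ∉ N → ∀ b ∈ (P : Subgroup G), a * b = b * a := by
    intro a ha haN b hb
    obtain ⟨x, hx⟩ := hfsurj ⟨P, ⟨⟨a, ha⟩, haN⟩⟩
    have hxa : (x : G) = a := congrArg (fun z => ((z.2.1 : ↥(z.1 : Subgroup G)) : G)) hx
    have hsP : s x = P := congrArg Sigma.fst hx
    rw [← hsP, hs x, hxa] at hb
    exact (mem_centralizer_singleton_iff.mp hb).symm
  have hxP : x₀ ∈ (P : Subgroup G) := hPC ▸ mem_centralizer_singleton_iff.mpr rfl
  have hab : ∀ a ∈ (P : Subgroup G), ∀ b ∈ (P : Subgroup G), a * b = b * a := by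
    intro a ha b hb
    by_cases haN : a ∈ N
    · have hax : a * x₀ ∉ N := fun hc => hx₀ (by simpa using N.mul_mem (N.inv_mem haN) hc)
      have e1 : (a * x₀) * b = b * (a * x₀) := hcentral _ (mul_mem ha hxP) hax b hb
      have e2 : x₀ * b = b * x₀ := hcentral _ hxP hx₀ b hb
      rw [mul_assoc, e2, ← mul_assoc, ← mul_assoc] at e1
      exact mul_right_cancel e1
    · exact hcentral a ha haN b hb
  haveI := isSolvable_of_abelian_maximal P hQco hab
  infer_instance

/-- Let N be a proper normal subgroup of the finite group G such that every element x of G outside N has prime power order and has centralizer C_G(x) a maximal subgroup of G. Then N is solvable. -/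
theorem result {G : Type*} [Group G] [Finite G] (N : Subgroup G) [N.Normal] (hN : N ≠ ⊤)
    (h : ∀ x : G, x ∉ N → IsPrimePow (orderOf x) ∧ IsCoatom (Subgroup.centralizer ({x} : Set G))) : Group.IsSolvable ↥N :=
  main N hN h

end Cfsg.Agent.S3903
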