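import Cfsg.Statements.S3904
import Cfsg.Agent.FG38.MaxCentralizerFinal
import Cfsg.Agent.S3857
import Cfsg.Agent.Lib.Frobenius.Basic
open Subgroup Cfsg.Agent.FG38 Cfsg.Agent.FG38.MaxCent Cfsg.Agent
open scoped commutatorElement Pointwise

set_option autoImplicit false
open Cfsg

namespace Cfsg.Agent.S3904

/-- Let G be a non-abelian finite group in which the centralizer of every non-central element is a maximal subgroup. Then G/Z(G) is either an elementary abelian p-group for some prime p, or a minimal non-abelian group (non-abelian with all proper subgroups abelian) of order p^a · q for distinct primes p, q with a normal Sylow p-subgroup. -/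
theorem result {G : Type*} [Group G] [Finite G] (hna : ¬ IsMulCommutative G)
    (h : ∀ x : G, x ∉ Subgroup.center G → IsCoatom (Subgroup.centralizer ({x} : Set G))) :
    (∃ p : ℕ, p.Prime ∧ Cfsg.IsElementaryAbelian p (⊤ : Subgroup (G ⧸ Subgroup.center G))) ∨
    (¬ IsMulCommutative (G ⧸ Subgroup.center G) ∧ (∀ H : Subgroup (G ⧸ Subgroup.center G), H ≠ ⊤ → IsMulCommutative ↥H) ∧
      ∃ p q a : ℕ, p.Prime ∧ q.Prime ∧ p ≠ q ∧ Nat.card (G ⧸ Subgroup.center G) = p ^ a * q ∧
        ∀ P : Subgroup (G ⧸ Subgroup.center G), Nat.card ↥P = p ^ a → P.Normal) := by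
  classical
  have hH : Hyp (⊤ : Subgroup G) := fun x _ hx => h x (by rwa [coe_top, centralizer_univ] at hx)
  have hz : zOf (⊤ : Subgroup G) = Subgroup.center G := by rw [zOf, top_inf_eq, coe_top, centralizer_univ]
  have hN : ¬ (⊤ : Subgroup G) ≤ centralizer ((⊤ : Subgroup G) : Set G) := fun hle => hna
    ⟨⟨fun a b => (mem_centralizer_iff.mp (hle (mem_top b)) a (mem_top a))⟩⟩
  let π := QuotientGroup.mk' (Subgroup.center G)
  have hπ1 : ∀ v : G, π v = 1 ↔ v ∈ Subgroup.center G := fun v => QuotientGroup.eq_one_iff v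
  have hπs : Function.Surjective π := QuotientGroup.mk'_surjective _
  by_cases hnil : Group.IsNilpotent ↥(⊤ : Subgroup G)
  · obtain ⟨p, hp, hab⟩ := nilpotent_case hH hN hnil
    refine Or.inl ⟨p, hp, ⟨⟨fun a b => Subtype.ext ?_⟩⟩, fun a _ => ?_⟩
    · obtain ⟨v, hv⟩ := hπs (a : G ⧸ Subgroup.center G)
      obtain ⟨w, hw⟩ := hπs (b : G ⧸ Subgroup.center G)
      simp only [Subgroup.coe_mul, ← hv, ← hw]
      rw [← commutatorElement_eq_one_iff_mul_comm, ← map_commutatorElement, hπ1, ← hz]
      exact (hab v (mem_top _) w (mem_top _)).1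
    · obtain ⟨v, rfl⟩ := hπs a
      rw [← map_pow, hπ1, ← hz]
      exact (hab v (mem_top _) v (mem_top _)).2
  obtain ⟨p, q, E, y, hp, hq, hqp, hEn, -, hEp, hEz, -, hyz, hyq, hEE, hgen, hfpf⟩ :=
    not_nilpotent_case hH hN hnil
  rw [hz] at hEz hyz hyq hEE hgen hfpf
  set K := E.map π with hK
  haveI hKn : K.Normal := hEn.map π hπs
  obtain ⟨hc, hcard, hff⟩ := frobenius_quotient hp hq hqp K (hEp.map π) (π y)
    (fun e => hyz ((hπ1 _).mp e)) (by rw [← map_pow]; exact (hπ1 _).mpr hyq)
    (fun v => by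
      obtain ⟨v, rfl⟩ := hπs v
      obtain ⟨e, he, c, hc, i, rfl⟩ := hgen v (mem_top _)
      exact ⟨π e, mem_map_of_mem π he, i, by rw [map_mul, map_mul, map_zpow, (hπ1 c).mpr hc, mul_one]⟩)
    (by
      rintro _ ⟨e, he, rfl⟩ hc
      refine (hπ1 e).mpr (hfpf e he ((hπ1 _).mp ?_))
      rw [map_commutatorElement]
      exact commutatorElement_eq_one_iff_mul_comm.mpr hc)
  have hKb : K ≠ ⊥ := fun e => hEz fun a ha => (hπ1 a).mp (mem_bot.mp (e ▸ mem_map_of_mem π ha))
  set Q := zpowers (π y) with hQ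
  have hy1 : π y ≠ 1 := fun e => hyz ((hπ1 y).mp e)
  have hQb : Q ≠ ⊥ := fun e => hy1 (zpowers_eq_bot.mp e)
  obtain ⟨hF, hker⟩ := S3857.frobenius_of_fpf K Q hc hKb hQb hff
  -- `Q` is maximal
  have hQmax : IsCoatom Q := by
    have hMc : IsCoatom (centralizer ({y} : Set G)) := h y hyz
    have hQeq : Q.comap π = centralizer ({y} : Set G) := by
      refine le_antisymm (fun g hg => ?_) (fun g hg => ?_)
      · obtain ⟨i, hi⟩ := mem_zpowers_iff.mp (mem_comap.mp hg)
        have hd : g * (y ^ i)⁻¹ ∈ Subgroup.center G := (hπ1 _).mp (by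
          rw [map_mul, map_inv, map_zpow, hi, mul_inv_cancel])
        have h1 : Commute (g * (y ^ i)⁻¹) y := (mem_center_iff.mp hd y).symm
        have h2 := h1.mul_left ((Commute.refl y).zpow_left i)
        rw [inv_mul_cancel_right] at h2
        exact mem_centralizer_singleton_iff.mpr h2.eq
      · obtain ⟨e, he, c, hcz, i, rfl⟩ := hgen g (mem_top _)
        have h1 : Commute (e * c * y ^ i) y := mem_centralizer_singleton_iff.mp hg
        have h2 := h1.mul_left ((Commute.refl y).zpow_left (-i))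
        rw [mul_assoc, ← zpow_add, add_neg_cancel, zpow_zero, mul_one] at h2
        have h3 := h2.mul_left (show Commute c⁻¹ y from ((mem_center_iff.mp (inv_mem hcz) y).symm))
        rw [mul_inv_cancel_right] at h3
        have h4 : e ∈ Subgroup.center G := hfpf e he (by
          rw [commutatorElement_eq_one_iff_mul_comm.mpr h3.eq]; exact one_mem _)
        rw [mem_comap, map_mul, map_mul, map_zpow, (hπ1 e).mpr h4, (hπ1 c).mpr hcz, one_mul, one_mul]
        exact zpow_mem (mem_zpowers _) i
    refine ⟨fun e => hMc.1 (by rw [← hQeq, e, comap_top]), fun H hlt => ?_⟩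
    have := hMc.2 (H.comap π) (hQeq ▸ (comap_lt_comap_of_surjective hπs).mpr hlt)
    rwa [← comap_top π, (comap_injective hπs).eq_iff] at this
  refine Or.inr ⟨fun hab => ?_, fun H hH' => ?_, ?_⟩
  · obtain ⟨k, hk, hk1⟩ : ∃ k ∈ K, k ≠ 1 := by
      by_contra hall
      push Not at hall
      exact hKb ((eq_bot_iff_forall _).mpr hall)
    rcases hff k hk (π y) (mem_zpowers _) (hab.is_comm.comm k (π y)) with e | e
    · exact hk1 e
    · exact hy1 e
  · by_cases hHK : H ≤ K
    · refine ⟨⟨fun a b => Subtype.ext ?_⟩⟩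
      obtain ⟨v, hv, hve⟩ := hHK a.2
      obtain ⟨w, hw, hwe⟩ := hHK b.2
      simp only [Subgroup.coe_mul, ← hve, ← hwe]
      rw [← commutatorElement_eq_one_iff_mul_comm, ← map_commutatorElement]
      exact (hπ1 _).mpr (hEE v hv w hw).1
    · obtain ⟨x, hxH, hxK⟩ := SetLike.not_le_iff_exists.mp hHK
      obtain ⟨hx1, g, hg⟩ := Frobenius.exists_conj_of_not_mem_frobeniusKernel (H := Q) (x := x)
        (by rw [hker]; exact hxK)
      have hcardg : Nat.card ↥(MulAut.conj g • Q) = q := by
        rw [← hcard]; exact (Nat.card_congr (equivSMul (MulAut.conj g) Q).toEquiv).symm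
      have hle : MulAut.conj g • Q ≤ H := by
        rw [← MaxCent.frobenius_quotient.zpowers_eq_of_prime_card hq hcardg hg hx1]
        exact zpowers_le.mpr hxH
      have hco : IsCoatom (MulAut.conj g • Q) := by
        refine ⟨fun e => hQmax.1 ?_, fun J hJ => ?_⟩
        · have := congrArg ((MulAut.conj g)⁻¹ • ·) e
          simp only [inv_smul_smul] at this
          rw [this]
          ext v
          simp [mem_pointwise_smul_iff_inv_smul_mem]
        · have := hQmax.2 ((MulAut.conj g)⁻¹ • J) (lt_of_le_of_ne (by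
              rw [← pointwise_smul_le_pointwise_smul_iff (a := MulAut.conj g), smul_inv_smul]; exact hJ.le)
            fun e => hJ.ne (by rw [e, smul_inv_smul]))
          ext v
          simp only [mem_top, iff_true]
          have h2 : (MulAut.conj g)⁻¹ • v ∈ (MulAut.conj g)⁻¹ • J := this ▸ mem_top _
          exact (smul_mem_pointwise_smul_iff).mp h2
      have hHeq : MulAut.conj g • Q = H := ((hco.le_iff.mp hle).resolve_left hH').symm
      haveI := Fact.mk hq
      haveI : IsCyclic ↥H := isCyclic_of_prime_card (p := q) (by rw [← hHeq, hcardg])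
      exact IsCyclic.isMulCommutative
  · haveI := Fact.mk hp
    obtain ⟨a, ha⟩ := IsPGroup.iff_card.mp (hEp.map π)
    rw [← hK] at ha
    refine ⟨p, q, a, hp, hq, hqp.symm, by rw [← hc.card_mul, ha, hcard], fun P hP => ?_⟩
    have hPK : P ≤ K := by
      intro x hx
      by_contra hxK
      obtain ⟨hx1, g, hg⟩ := Frobenius.exists_conj_of_not_mem_frobeniusKernel (H := Q) (x := x)
        (by rw [hker]; exact hxK)
      have h1 : orderOf x ∣ p ^ a := hP ▸ Subgroup.orderOf_dvd_natCard P hx
      have h2 : orderOf x ∣ q := by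
        have := Subgroup.orderOf_dvd_natCard _ hg
        rwa [show Nat.card ↥(MulAut.conj g • Q) = q by
          rw [← hcard]; exact (Nat.card_congr (equivSMul (MulAut.conj g) Q).toEquiv).symm] at this
      exact hx1 (orderOf_eq_one_iff.mp (Nat.eq_one_of_dvd_coprimes
        (((Nat.coprime_primes hp hq).mpr hqp.symm).pow_left a) h1 h2))
    rw [eq_of_le_of_card_ge hPK (by rw [hP, ha])]
    exact hKn

end Cfsg.Agent.S3904
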