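import Cfsg.Statements.S3905
import Cfsg.Agent.FG38.MaxCentralizerFinal
import Cfsg.Agent.S3857
open Subgroup Cfsg.Agent.FG38.MaxCent
open scoped commutatorElement

set_option autoImplicit false
open Cfsg

namespace Cfsg.Agent.S3905

/-- Let N be a normal subgroup of the finite group G such that for every element x of N outside the center of N the centralizer C_G(x) is a maximal subgroup of G. Then N/Z(N) is either an elementary abelian p-group for some prime p, or a Frobenius group whose kernel is an elementary abelian normal subgroup and whose complement has prime order. -/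
theorem result {G : Type*} [Group G] [Finite G] (N : Subgroup G) [N.Normal]
    (h : ∀ x : G, x ∈ N → x ∉ Subgroup.centralizer (N : Set G) → IsCoatom (Subgroup.centralizer ({x} : Set G))) :
    (∃ p : ℕ, p.Prime ∧ Cfsg.IsElementaryAbelian p (⊤ : Subgroup (↥N ⧸ Subgroup.center ↥N))) ∨
    (∃ (Q K : Subgroup (↥N ⧸ Subgroup.center ↥N)) (p : ℕ), p.Prime ∧ Cfsg.IsFrobeniusComplement Q ∧ (Nat.card ↥Q).Prime ∧
      K.Normal ∧ (K : Set (↥N ⧸ Subgroup.center ↥N)) = Cfsg.frobeniusKernel Q ∧ Cfsg.IsElementaryAbelian p K) := by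
  classical
  have hmem : ∀ v : ↥N, v ∈ Subgroup.center ↥N ↔ (v : G) ∈ zOf N := fun v =>
    ⟨fun hv => mem_zOf.mpr ⟨v.2, fun a ha => congrArg Subtype.val (mem_center_iff.mp hv ⟨a, ha⟩)⟩,
     fun hv => mem_center_iff.mpr fun w => Subtype.ext ((mem_zOf.mp hv).2 w w.2)⟩
  by_cases hN : N ≤ centralizer (N : Set G)
  · refine Or.inl ⟨2, Nat.prime_two, ?_⟩
    have hc : Subgroup.center ↥N = ⊤ := eq_top_iff.mpr fun v _ => (hmem v).mpr (mem_inf.mpr ⟨v.2, hN v.2⟩)
    have hs : ∀ a : ↥N ⧸ Subgroup.center ↥N, a = 1 := fun a => QuotientGroup.induction_on a fun v =>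
      (QuotientGroup.eq_one_iff v).mpr (hc ▸ mem_top v)
    exact ⟨⟨⟨fun a b => Subtype.ext (by simp [hs])⟩⟩, fun a _ => by rw [hs a, one_pow]⟩
  · by_cases hnil : Group.IsNilpotent ↥N
    · obtain ⟨p, hp, hab⟩ := nilpotent_case h hN hnil
      refine Or.inl ⟨p, hp, ⟨⟨fun a b => Subtype.ext ?_⟩⟩, fun a _ => QuotientGroup.induction_on a fun v => ?_⟩
      · obtain ⟨v, hv⟩ := QuotientGroup.mk_surjective (a : ↥N ⧸ Subgroup.center ↥N)
        obtain ⟨w, hw⟩ := QuotientGroup.mk_surjective (b : ↥N ⧸ Subgroup.center ↥N)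
        simp only [Subgroup.coe_mul, ← hv, ← hw]
        rw [← commutatorElement_eq_one_iff_mul_comm]
        exact (QuotientGroup.eq_one_iff ⁅v, w⁆).mpr ((hmem _).mpr (hab v v.2 w w.2).1)
      · exact (QuotientGroup.eq_one_iff (v ^ p)).mpr ((hmem _).mpr (hab v v.2 v v.2).2)
    · obtain ⟨p, q, E, y, hp, hq, hqp, hEn, hEN, hEp, hEz, hy, hyz, hyq, hEE, hgen, hfpf⟩ :=
        not_nilpotent_case h hN hnil
      let π := QuotientGroup.mk' (Subgroup.center ↥N)
      have hπ1 : ∀ v : ↥N, π v = 1 ↔ (v : G) ∈ zOf N := fun v => (QuotientGroup.eq_one_iff v).trans (hmem v)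
      set K := (E.subgroupOf N).map π with hK
      haveI hKn : K.Normal := (inferInstance : (E.subgroupOf N).Normal).map π (QuotientGroup.mk'_surjective _)
      obtain ⟨hc, hcard, hff⟩ := frobenius_quotient hp hq hqp K
        ((hEp.of_equiv (subgroupOfEquivOfLe hEN).symm).map π) (π ⟨y, hy⟩)
        (fun e => hyz ((hπ1 _).mp e)) (by rw [← map_pow]; exact (hπ1 _).mpr hyq)
        (fun v => QuotientGroup.induction_on v fun v => by
          obtain ⟨e, he, c, hc, i, hi⟩ := hgen v v.2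
          refine ⟨π ⟨e, hEN he⟩, mem_map_of_mem π (mem_subgroupOf.mpr he), i, ?_⟩
          have hv : v = ⟨e, hEN he⟩ * ⟨c, hc.1⟩ * (⟨y, hy⟩ : ↥N) ^ i := Subtype.ext hi
          show π v = _
          rw [hv, map_mul, map_mul, map_zpow, (hπ1 ⟨c, hc.1⟩).mpr hc, mul_one])
        (by
          rintro _ ⟨e, he, rfl⟩ hc
          refine (hπ1 e).mpr (hfpf e (mem_subgroupOf.mp he) ?_)
          exact (hπ1 ⁅e, ⟨y, hy⟩⁆).mp (by rw [map_commutatorElement]; exact commutatorElement_eq_one_iff_mul_comm.mpr hc))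
      have hKb : K ≠ ⊥ := fun e => hEz fun a ha => (hπ1 ⟨a, hEN ha⟩).mp
        (mem_bot.mp (e ▸ mem_map_of_mem π (mem_subgroupOf.mpr ha)))
      have hQb : zpowers (π ⟨y, hy⟩) ≠ ⊥ := fun e => hyz ((hπ1 ⟨y, hy⟩).mp (zpowers_eq_bot.mp e))
      obtain ⟨hF, hker⟩ := S3857.frobenius_of_fpf K _ hc hKb hQb hff
      refine Or.inr ⟨_, K, p, hp, hF, hcard ▸ hq, hKn, hker.symm, ⟨⟨?_⟩⟩, ?_⟩
      · rintro ⟨_, v, hv, rfl⟩ ⟨_, w, hw, rfl⟩
        refine Subtype.ext ?_
        show π v * π w = π w * π v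
        rw [← commutatorElement_eq_one_iff_mul_comm, ← map_commutatorElement]
        exact (hπ1 ⁅v, w⁆).mpr (hEE v hv w hw).1
      · rintro _ ⟨v, hv, rfl⟩
        rw [← map_pow]
        exact (hπ1 (v ^ p)).mpr (hEE v hv v hv).2

end Cfsg.Agent.S3905
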