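import Cfsg.Statements.S3906
import Cfsg.Agent.KS24.Main

set_option autoImplicit false
open Cfsg

namespace Cfsg.Agent.S3906

/-- Let p be a prime and let k ≥ 3, c ≥ 0 and d ≥ 0 be integers with 2^d + 2 ≤ k. There is a bound B depending only on p, k, c and d such that the following holds for every finite group G of order prime to p and every elementary abelian subgroup A of order p^k of the automorphism group of G: if, for every non-identity a ∈ A, the d-th derived subgroup of the fixed-point subgroup C_G(a) (the 0-th derived subgroup of a group being the group itself) is nilpotent of class at most c, then the d-th derived subgroup of G is nilpotent of class at most B. -/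
theorem result (p k c d : ℕ) (hp : p.Prime) (hk : 3 ≤ k) (hd : 2 ^ d + 2 ≤ k) :
    ∃ B : ℕ, ∀ (G : Type) [Group G] [Finite G], (Nat.card G).Coprime p →
      ∀ A : Subgroup (MulAut G), Cfsg.IsElementaryAbelian p A → Nat.card ↥A = p ^ k →
        (∀ a ∈ A, a ≠ 1 → (derivedSeries ↥((a : MulAut G).toMonoidHom.eqLocus (MonoidHom.id G)) d).lowerCentralSeries c = ⊥) →
        (derivedSeries G d).lowerCentralSeries B = ⊥ := by
  haveI := Fact.mk hp
  refine ⟨KS24.bnd p (p ^ k) c (d + c), fun G _ _ hG A hA hcard h => ?_⟩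
  haveI := hA.1
  open scoped IsMulCommutative in
  have key : (KS24.dser (⊤ : Subgroup G) d).lowerCentralSeries (KS24.bnd p (Nat.card A) c (d + c)) = ⊥ := by
    let φ : ↥A →* MulAut G := A.subtype
    have hexp : ∀ a : A, a ^ p = 1 := fun a => Subtype.ext (by simpa using hA.2 a a.2)
    have hlcs : ∀ a : A, a ≠ 1 → (KS24.dser (KS24.Cel φ a) d).lowerCentralSeries c = ⊥ := by
      intro a ha
      have h0 : (derivedSeries (KS24.Cel φ a) d).lowerCentralSeries c = ⊥ :=
        h (a : MulAut G) a.2 fun h1 => ha (Subtype.ext h1)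
      have h1 := congrArg (Subgroup.map (KS24.Cel φ a).subtype) h0
      rwa [KS24.map_lcs, KS24.map_subtype_derivedSeries, Subgroup.map_bot] at h1
    have hE : KS24.Sys φ c (fun a => KS24.dser (KS24.Cel φ a) d) := by
      refine ⟨fun a _ => ?_, fun a _ g hg x hx => ?_, hlcs⟩
      · rw [← KS24.map_subtype_derivedSeries]; exact Subgroup.map_subtype_le _
      · rw [← KS24.map_subtype_derivedSeries] at hx ⊢
        obtain ⟨y, hy, rfl⟩ := hx
        exact ⟨_, (derivedSeries_normal (↥(KS24.Cel φ a)) d).conj_mem y hy ⟨g, hg⟩, rfl⟩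
    haveI : (KS24.dser (⊤ : Subgroup G) d).Normal := by
      rw [KS24.dser_top]; exact derivedSeries_normal G d
    refine KS24.main_bound hexp (hcard ▸ Nat.pow_le_pow_right hp.pos hk) hG _ hE (fun a ha => ?_)
      _ ((KS24.inv_top (φ := φ)).dser d) (KS24.SD φ p d) (KS24.sd_gen hexp hG d)
      ⟨KS24.sd_inv d, fun J hJ => ?_, KS24.sd_closed d⟩
    · rw [← KS24.dser_add, eq_bot_iff, ← hlcs a ha]
      exact KS24.dser_le_lcs _ c
    · obtain ⟨R, hR, hle⟩ := KS24.sd_rank d J hJ
      exact ⟨R, KS24.card_of_index hcard hR hd, fun a ha _ => hle a ha⟩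
  rw [← KS24.dser_top, ← hcard]
  exact key

end Cfsg.Agent.S3906
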