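import Cfsg.Statements.S3907
import Cfsg.Agent.KS24.Main

set_option autoImplicit false
open Cfsg

namespace Cfsg.Agent.S3907

/-- Let p be a prime and let k ≥ 3 and c ≥ 0 be integers. There is a bound B depending only on p, k and c such that the following holds for every finite group G of order prime to p and every elementary abelian subgroup A of order p^k of the automorphism group of G: if, for every non-identity a ∈ A, the (k−2)-th term of the lower central series of the fixed-point subgroup C_G(a) (the first term being the whole group) is nilpotent of class at most c, then the (k−2)-th term of the lower central series of G is nilpotent of class at most B. -/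
theorem result (p k c : ℕ) (hp : p.Prime) (hk : 3 ≤ k) :
    ∃ B : ℕ, ∀ (G : Type) [Group G] [Finite G], (Nat.card G).Coprime p →
      ∀ A : Subgroup (MulAut G), Cfsg.IsElementaryAbelian p A → Nat.card ↥A = p ^ k →
        (∀ a ∈ A, a ≠ 1 → ((⊤ : Subgroup ↥((a : MulAut G).toMonoidHom.eqLocus (MonoidHom.id G))).lowerCentralSeries (k - 3)).lowerCentralSeries c = ⊥) →
        ((⊤ : Subgroup G).lowerCentralSeries (k - 3)).lowerCentralSeries B = ⊥ := by
  haveI := Fact.mk hp
  refine ⟨KS24.bnd p (p ^ k) c (k - 3 + c), fun G _ _ hG A hA hcard h => ?_⟩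
  haveI := hA.1
  open scoped IsMulCommutative in
  have key : ((⊤ : Subgroup G).lowerCentralSeries (k - 3)).lowerCentralSeries
      (KS24.bnd p (Nat.card A) c (k - 3 + c)) = ⊥ := by
    let φ : ↥A →* MulAut G := A.subtype
    have hexp : ∀ a : A, a ^ p = 1 := fun a => Subtype.ext (by simpa using hA.2 a a.2)
    have hmap : ∀ a : A, ((⊤ : Subgroup (KS24.Cel φ a)).lowerCentralSeries (k - 3)).map
        (KS24.Cel φ a).subtype = (KS24.Cel φ a).lowerCentralSeries (k - 3) := fun a => by
      rw [KS24.map_lcs, ← MonoidHom.range_eq_map, Subgroup.range_subtype]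
    have hlcs : ∀ a : A, a ≠ 1 →
        ((KS24.Cel φ a).lowerCentralSeries (k - 3)).lowerCentralSeries c = ⊥ := by
      intro a ha
      have h0 : ((⊤ : Subgroup (KS24.Cel φ a)).lowerCentralSeries (k - 3)).lowerCentralSeries c = ⊥ :=
        h (a : MulAut G) a.2 fun h1 => ha (Subtype.ext h1)
      have h1 := congrArg (Subgroup.map (KS24.Cel φ a).subtype) h0
      rwa [KS24.map_lcs, hmap, Subgroup.map_bot] at h1
    have hE : KS24.Sys φ c (fun a => (KS24.Cel φ a).lowerCentralSeries (k - 3)) := by
      refine ⟨fun a _ => ?_, fun a _ g hg x hx => ?_, hlcs⟩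
      · exact Subgroup.lowerCentralSeries_antitone _ (Nat.zero_le _)
      · rw [← hmap a] at hx ⊢
        obtain ⟨y, hy, rfl⟩ := hx
        exact ⟨_, (Subgroup.lowerCentralSeries_normal (⊤ : Subgroup (KS24.Cel φ a)) _).conj_mem
          y hy ⟨g, hg⟩, rfl⟩
    refine KS24.main_bound hexp (hcard ▸ Nat.pow_le_pow_right hp.pos hk) hG _ hE (fun a ha => ?_)
      _ ((KS24.inv_top (φ := φ)).lcs (k - 3)) (KS24.SG φ p (k - 3)) (KS24.sg_gen hexp hG _)
      ⟨KS24.sg_inv _, fun J hJ => ?_, KS24.sg_closed _⟩
    · rw [← KS24.dser_add, eq_bot_iff, ← hlcs a ha]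
      exact (KS24.dser_mono (KS24.dser_le_lcs _ _) c).trans (KS24.dser_le_lcs _ c)
    · obtain ⟨R, hR, hle⟩ := KS24.sg_rank _ J hJ
      exact ⟨R, KS24.card_of_index hcard hR (by omega), fun a ha _ => hle a ha⟩
  rw [← hcard]
  exact key

end Cfsg.Agent.S3907
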