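import Cfsg.Statements.S3913
import Cfsg.Agent.FG38.ConjAbSubgroups
-- import your own Cfsg.Agent.* helpers here

set_option autoImplicit false
open Cfsg

namespace Cfsg.Agent.S3913

open Subgroup Cfsg.Agent.FG38

/-- `r` has a non-cyclic Sylow subgroup of exponent `r`. -/
def IsExpPrime (G : Type*) [Group G] (r : ℕ) : Prop :=
  r.Prime ∧ ∃ P : Sylow r G, (∀ x ∈ (P : Subgroup G), x ^ r = 1) ∧ ¬ IsCyclic ↥(P : Subgroup G)

theorem card_sup_of_commute {G : Type*} [Group G] [Finite G] (A B : Subgroup G)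
    (hcomm : ∀ a ∈ A, ∀ b ∈ B, Commute a b) (hcop : (Nat.card A).Coprime (Nat.card B)) :
    Nat.card ↥(A ⊔ B) = Nat.card A * Nat.card B := by
  set f := MonoidHom.noncommCoprod A.subtype B.subtype (fun a b => hcomm a a.2 b b.2) with hf
  have hinj : Function.Injective f := by
    rw [injective_iff_map_eq_one]
    rintro ⟨a, b⟩ hab
    have h1 : (a : G) * b = 1 := hab
    have ha : (a : G) ∈ A ⊓ B := ⟨a.2, by rw [eq_inv_of_mul_eq_one_left h1]; exact B.inv_mem b.2⟩
    rw [inf_eq_bot_of_coprime hcop, mem_bot] at ha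
    rw [ha, one_mul] at h1
    exact Prod.ext (Subtype.ext ha) (Subtype.ext h1)
  have hr : f.range = A ⊔ B := (MonoidHom.noncommCoprod_range _ _ _).trans (by rw [range_subtype, range_subtype])
  rw [← hr, ← Nat.card_congr (MonoidHom.ofInjective hinj).toEquiv, Nat.card_prod]

/-- The normal abelian Hall subgroup generated by the non-cyclic Sylow subgroups of prime exponent. -/
theorem exists_hall {G : Type*} [Group G] [Finite G] (hB : ConjAb G) (hsol : Group.IsSolvable G) :
    ∃ V : Subgroup G, V.Normal ∧ IsMulCommutative ↥V ∧ (Nat.card V).Coprime V.index ∧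
      (∀ r, r.Prime → r ∣ Nat.card V → IsExpPrime G r) ∧
      ∀ r, IsExpPrime G r → ∀ P : Sylow r G, (P : Subgroup G) ≤ V := by
  set S : Set (Subgroup G) := {R | ∃ r, r.Prime ∧ ∃ P : Sylow r G, (∀ x ∈ (P : Subgroup G), x ^ r = 1) ∧
    ¬ IsCyclic ↥(P : Subgroup G) ∧ R = P} with hS
  have hmem : ∀ R ∈ S, R.Normal ∧ IsMulCommutative ↥R := by
    rintro R ⟨r, hr, P, hP, hc, rfl⟩
    haveI := Fact.mk hr
    exact normal_abelian_of_exponent hB hsol P hP hc
  haveI hVn : (sSup S).Normal := Subgroup.sSup_normal _ fun R hR => (hmem R hR).1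
  have hcomm : ∀ R ∈ S, ∀ R' ∈ S, R ≤ centralizer (R' : Set G) := by
    intro R hR R' hR'
    have h1 := hmem R hR
    have h2 := hmem R' hR'
    obtain ⟨r, hr, P, -, -, rfl⟩ := hR
    obtain ⟨r', hr', P', -, -, rfl⟩ := hR'
    haveI := Fact.mk hr
    haveI := Fact.mk hr'
    intro x hx
    rw [mem_centralizer_iff]
    intro y hy
    by_cases hrr : r = r'
    · subst hrr
      haveI := h1.1
      haveI : Subsingleton (Sylow r G) := (Sylow.unique_of_normal P h1.1).instSubsingleton
      haveI := h1.2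
      have h : P' = P := Subsingleton.elim _ _
      subst h
      have := mul_comm' (⟨y, hy⟩ : ↥(P' : Subgroup G)) ⟨x, hx⟩
      exact congrArg (fun t : ↥(P' : Subgroup G) => (t : G)) this
    · exact (commute_of_normal_of_disjoint _ _ h1.1 h2.1
        (IsPGroup.disjoint_of_ne r r' hrr _ _ P.isPGroup' P'.isPGroup') x y hx hy).symm.eq
  have hVc : sSup S ≤ centralizer ((sSup S : Subgroup G) : Set G) := by
    refine sSup_le fun R hR => le_centralizer_iff.mp (sSup_le fun R' hR' => hcomm R' hR' R hR)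
  have hVab : IsMulCommutative ↥(sSup S) := ⟨⟨fun a b => Subtype.ext (mem_centralizer_iff.mp (hVc b.2) a a.2)⟩⟩
  have hcom' : ∀ {a b : G}, a ∈ sSup S → b ∈ sSup S → Commute a b := fun {a b} ha hb =>
    mem_centralizer_iff.mp (hVc hb) a ha
  let D : Subgroup G :=
    { carrier := {v | v ∈ sSup S ∧ ∀ s, s.Prime → s ∣ orderOf v → IsExpPrime G s}
      one_mem' := ⟨one_mem _, fun s hs hd => absurd (orderOf_one (G := G) ▸ hd) hs.not_dvd_one⟩
      mul_mem' := by
        rintro a b ⟨ha, ha'⟩ ⟨hb, hb'⟩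
        refine ⟨mul_mem ha hb, fun s hs hd => ?_⟩
        rcases (hs.dvd_mul).mp (hd.trans ((hcom' ha hb).orderOf_mul_dvd_lcm.trans (Nat.lcm_dvd_mul _ _))) with h | h
        · exact ha' s hs h
        · exact hb' s hs h
      inv_mem' := by
        rintro a ⟨ha, ha'⟩
        exact ⟨inv_mem ha, fun s hs hd => ha' s hs (orderOf_inv a ▸ hd)⟩ }
  have hVD : sSup S ≤ D := by
    refine sSup_le fun R hR v hv => ⟨le_sSup hR hv, fun s hs hd => ?_⟩
    obtain ⟨r, hr, P, hP, hc, rfl⟩ := hR
    have := (Nat.prime_dvd_prime_iff_eq hs hr).mp (hd.trans (orderOf_dvd_of_pow_eq_one (hP v hv)))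
    exact this ▸ ⟨hr, P, hP, hc⟩
  have hprimes : ∀ r, r.Prime → r ∣ Nat.card ↥(sSup S) → IsExpPrime G r := by
    intro r hr hd
    haveI := Fact.mk hr
    obtain ⟨v, hv⟩ := exists_prime_orderOf_dvd_card' (G := ↥(sSup S)) r hd
    exact (hVD v.2).2 r hr (by rw [Subgroup.orderOf_coe, hv])
  have hle : ∀ r, IsExpPrime G r → ∀ P : Sylow r G, (P : Subgroup G) ≤ sSup S := by
    rintro r ⟨hr, P₀, hP, hc⟩ P
    haveI := Fact.mk hr
    haveI : Subsingleton (Sylow r G) :=
      (Sylow.unique_of_normal P₀ (normal_abelian_of_exponent hB hsol P₀ hP hc).1).instSubsingleton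
    rw [Subsingleton.elim P P₀]
    exact le_sSup ⟨r, hr, P₀, hP, hc, rfl⟩
  refine ⟨sSup S, hVn, hVab, ?_, hprimes, hle⟩
  refine Nat.coprime_of_dvd fun r hr h1 h2 => ?_
  haveI := Fact.mk hr
  obtain ⟨P⟩ := (inferInstance : Nonempty (Sylow r G))
  exact P.not_dvd_index (h2.trans (index_dvd_of_le (hle r (hprimes r hr h1) P)))

theorem conj_all {G : Type*} [Group G] [Finite G] (hB : ConjAb G) (hsol : Group.IsSolvable G) (A B : Subgroup G)
    (h : Nat.card A = Nat.card B) : ∃ g : G, B = A.map (MulAut.conj g).toMonoidHom := by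
  haveI := hsol
  obtain ⟨V, hVn, hVab, hcop, hπ, hle⟩ := exists_hall hB hsol
  haveI := hVn
  haveI := hVab
  have hVcom : ∀ {a b : G}, a ∈ V → b ∈ V → Commute a b := fun {a b} ha hb =>
    congrArg (fun t : V => (t : G)) (mul_comm' (⟨a, ha⟩ : V) ⟨b, hb⟩)
  have hab : ∀ C : Subgroup G, IsMulCommutative ↥(C ⊓ V) := fun C =>
    ⟨⟨fun a b => Subtype.ext (hVcom a.2.2 b.2.2).eq⟩⟩
  obtain ⟨g₀, hg₀⟩ := hB (A ⊓ V) (B ⊓ V) (hab A) (hab B) (by
    rw [card_inf_eq_gcd V hcop, card_inf_eq_gcd V hcop, h])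
  set A' := A.map (MulAut.conj g₀).toMonoidHom with hA'
  have hA'c : Nat.card A' = Nat.card A := Subgroup.card_map_of_injective (MulAut.conj g₀).injective
  have hVg : V.map (MulAut.conj g₀).toMonoidHom = V :=
    mem_normalizer_iff_map_conj_eq.mp (show g₀ ∈ normalizer (V : Set G) by
      rw [normalizer_eq_top_iff.mpr hVn]; trivial)
  have hI : A' ⊓ V = B ⊓ V := by
    rw [hg₀, hA', Subgroup.map_inf _ _ _ (MulAut.conj g₀).injective, hVg]
  suffices hk : ∃ k, B = A'.map (MulAut.conj k).toMonoidHom by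
    obtain ⟨k, hk⟩ := hk
    exact ⟨k * g₀, by rw [map_conj_mul, ← hA', hk]⟩
  refine conj_of_hall V hcop (hA'c.trans h) hI ?_
  set C := A' ⊓ V with hC
  set NN := normalizer (C : Set G) with hNN
  have hCV : C ≤ V := inf_le_right
  have hVN : V ≤ NN := Coprime.le_normalizer_of_conj_mem fun v hv c hc => by
    rw [(hVcom hv (hCV hc)).eq, mul_inv_cancel_right]; exact hc
  have hno4 : ∀ P : Sylow 2 G, ∀ n, Nonempty (↥(P : Subgroup G) ≃* QuaternionGroup (2 ^ (n + 1))) →
      ¬ 2 ∣ Nat.card V := by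
    rintro P n ⟨e⟩ hd
    obtain ⟨-, P₀, hP₀, -⟩ := hπ 2 Nat.prime_two hd
    haveI : NeZero (2 ^ (n + 1)) := ⟨pow_ne_zero _ two_ne_zero⟩
    set u := ((e.symm.trans (Sylow.equiv P P₀)) (QuaternionGroup.xa 0) : ↥(P₀ : Subgroup G))
    have h1 : orderOf u = 4 := by rw [MulEquiv.orderOf_eq, QuaternionGroup.orderOf_xa]
    have h2 : u ^ 2 = 1 := Subtype.ext (by simpa using hP₀ u u.2)
    have := Nat.le_of_dvd two_pos (h1 ▸ orderOf_dvd_of_pow_eq_one h2)
    omega
  -- the quotient `X = N(C) / V`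
  set V' := V.subgroupOf NN with hV'
  set f := QuotientGroup.mk' V' with hf
  have hker : f.ker = V' := QuotientGroup.ker_mk' V'
  have hXS : SmallSylow (↥NN ⧸ V') := by
    intro p hp Pb
    haveI := Fact.mk hp
    obtain ⟨P, rfl⟩ := Sylow.mapSurjective_surjective (QuotientGroup.mk'_surjective V') p Pb
    rw [Sylow.coe_mapSurjective]
    obtain ⟨PG, hPG⟩ := (P.isPGroup'.map NN.subtype).exists_le_sylow
    have himg : IsCyclic ↥(P : Subgroup ↥NN) → IsCyclic ↥((P : Subgroup ↥NN).map f) := fun hc =>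
      isCyclic_of_surjective (f.subgroupMap (P : Subgroup ↥NN)) (f.subgroupMap_surjective _)
    let ι : ↥(P : Subgroup ↥NN) →* ↥(PG : Subgroup G) :=
      (NN.subtype.comp (P : Subgroup ↥NN).subtype).codRestrict _ fun x => hPG (mem_map_of_mem _ x.2)
    have hι : Function.Injective ι := fun a b hab =>
      Subtype.ext (Subtype.ext (congrArg (fun t : ↥(PG : Subgroup G) => (t : G)) hab))
    by_cases hPc : IsCyclic ↥(PG : Subgroup G)
    · exact Or.inl (himg (isCyclic_of_injective ι hι))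
    rcases sylow_cases hB PG with hc | ⟨rfl, n, ⟨e⟩⟩ | he
    · exact absurd hc hPc
    · obtain rfl := quaternion_small hB PG e
      have h2 := hno4 PG 0 ⟨e⟩
      have hd : Nat.card ↥(P : Subgroup ↥NN) ∣ 2 ^ 3 := by
        refine (card_dvd_of_injective ι hι).trans (dvd_of_eq ?_)
        rw [Nat.card_congr e.toEquiv, Nat.card_eq_fintype_card, QuaternionGroup.card]; rfl
      obtain ⟨i, hi, hi'⟩ := (Nat.dvd_prime_pow Nat.prime_two).mp hd
      by_cases hi3 : i = 3
      · refine Or.inr ⟨rfl, ⟨?_⟩⟩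
        have hbij : Function.Bijective ι := (Nat.bijective_iff_injective_and_card ι).mpr ⟨hι, by
          rw [hi', hi3, Nat.card_congr e.toEquiv, Nat.card_eq_fintype_card, QuaternionGroup.card]; rfl⟩
        have hinj : Function.Injective (f.comp (P : Subgroup ↥NN).subtype) := by
          rw [injective_iff_map_eq_one]
          intro x hx
          have hxV : ((x : ↥NN) : G) ∈ V := (QuotientGroup.eq_one_iff (x : ↥NN)).mp hx
          have : ((x : ↥NN) : G) ∈ (P : Subgroup ↥NN).map NN.subtype ⊓ V := ⟨mem_map_of_mem _ x.2, hxV⟩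
          rw [Thompson.inf_eq_bot_of_isPGroup_of_coprime (P.isPGroup'.map _)
            ((Nat.prime_two.coprime_iff_not_dvd.mpr h2).symm), mem_bot] at this
          exact Subtype.ext (Subtype.ext this)
        exact ((MonoidHom.ofInjective hinj).trans (MulEquiv.subgroupCongr (by
          rw [MonoidHom.range_comp, range_subtype]))).symm.trans ((MulEquiv.ofBijective ι hbij).trans e)
      · refine Or.inl (himg (isCyclic_of_dvd_four (by rw [hi']; exact pow_dvd_pow 2 (show i ≤ 2 by omega)) ?_))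
        intro u v hu hv
        exact hι (quaternion_involution_unique e (by rw [orderOf_injective ι hι, hu])
          (by rw [orderOf_injective ι hι, hv]))
    · refine Or.inl ?_
      have : (P : Subgroup ↥NN).map f = ⊥ := by
        rw [Subgroup.map_eq_bot_iff, hker]
        intro x hx
        exact hle p ⟨hp, PG, he, hPc⟩ PG (hPG (mem_map_of_mem _ hx))
      rw [this]; infer_instance
  have hXC : C4Conj (↥NN ⧸ V') := by
    by_cases h2 : 2 ∣ Nat.card V
    · intro x y hx _
      exfalso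
      have h1 : 2 ∣ V.index := by
        refine (show 2 ∣ orderOf x by rw [hx]; norm_num).trans ((orderOf_dvd_natCard x).trans ?_)
        rw [← index_eq_card]
        exact relIndex_dvd_index_of_normal (H := V) (K := NN)
      exact Nat.prime_two.not_dvd_one ((hcop.gcd_eq_one) ▸ Nat.dvd_gcd h2 h1)
    refine c4Conj_of_surjective f (QuotientGroup.mk'_surjective V') ?_ ?_
    · rw [hker, Nat.card_congr (subgroupOfEquivOfLe hVN).toEquiv]; exact h2
    intro x y hx hy
    -- move both elements into one Sylow subgroup of `N(C)`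
    haveI : Fact (Nat.Prime 2) := ⟨Nat.prime_two⟩
    obtain ⟨T, hT⟩ := (IsPGroup.of_card (n := 2) (show Nat.card (zpowers x) = 2 ^ 2 by
      rw [Nat.card_zpowers, hx]; rfl)).exists_le_sylow
    obtain ⟨T', hT'⟩ := (IsPGroup.of_card (n := 2) (show Nat.card (zpowers y) = 2 ^ 2 by
      rw [Nat.card_zpowers, hy]; rfl)).exists_le_sylow
    obtain ⟨c, hc⟩ := MulAction.exists_smul_eq ↥NN T' T
    have hyT : (MulAut.conj c).toMonoidHom y ∈ (T : Subgroup ↥NN) := by
      rw [← hc]; exact ⟨y, hT' (mem_zpowers y), rfl⟩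
    set y' := (MulAut.conj c).toMonoidHom y with hy'
    have hy'4 : orderOf y' = 4 := (orderOf_injective _ (MulAut.conj c).injective y).trans hy
    suffices hk : ∃ g, zpowers y' = (zpowers x).map (MulAut.conj g).toMonoidHom by
      obtain ⟨g, hg⟩ := hk
      refine ⟨c⁻¹ * g, ?_⟩
      rw [map_conj_mul, ← hg, hy', ← MonoidHom.map_zpowers, ← map_conj_mul, inv_mul_cancel]
      symm
      convert (zpowers y).map_id using 2; ext z; simp
    obtain ⟨Q, hQ⟩ := (T.isPGroup'.map NN.subtype).exists_le_sylow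
    have hxQ : (x : G) ∈ (Q : Subgroup G) := hQ (mem_map_of_mem _ (hT (mem_zpowers x)))
    have hyQ : (y' : G) ∈ (Q : Subgroup G) := hQ (mem_map_of_mem _ hyT)
    let ι : ↥(T : Subgroup ↥NN) →* ↥(Q : Subgroup G) :=
      (NN.subtype.comp (T : Subgroup ↥NN).subtype).codRestrict _ fun t => hQ (mem_map_of_mem _ t.2)
    have hι : Function.Injective ι := fun a b hab =>
      Subtype.ext (Subtype.ext (congrArg (fun t : ↥(Q : Subgroup G) => (t : G)) hab))
    have hcyc : IsCyclic ↥(T : Subgroup ↥NN) → ∃ g, zpowers y' = (zpowers x).map (MulAut.conj g).toMonoidHom := by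
      intro hTc
      haveI := hTc
      refine ⟨1, ?_⟩
      have heq : zpowers y' = zpowers x := by
        have hxT : zpowers x ≤ (T : Subgroup ↥NN) := hT
        have hyT' : zpowers y' ≤ (T : Subgroup ↥NN) := zpowers_le.mpr hyT
        have h1 := le_of_card_dvd_cyclic (A := (zpowers y').subgroupOf (T : Subgroup ↥NN))
          (B := (zpowers x).subgroupOf (T : Subgroup ↥NN)) (by
          rw [Nat.card_congr (subgroupOfEquivOfLe hxT).toEquiv, Nat.card_congr (subgroupOfEquivOfLe hyT').toEquiv,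
            Nat.card_zpowers, Nat.card_zpowers, hx, hy'4])
        refine eq_of_le_of_card_ge (fun z hz => h1 (show (⟨z, hyT' hz⟩ : ↥(T : Subgroup ↥NN)) ∈ _ from hz)) ?_
        rw [Nat.card_zpowers, Nat.card_zpowers, hx, hy'4]
      rw [heq]
      symm
      convert (zpowers x).map_id using 2; ext z; simp
    by_cases hQc : IsCyclic ↥(Q : Subgroup G)
    · exact hcyc (isCyclic_of_injective ι hι)
    rcases sylow_cases hB Q with hq | ⟨-, n, ⟨e⟩⟩ | he
    · exact absurd hq hQc
    swap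
    · exfalso
      have := Nat.le_of_dvd two_pos (hx ▸ orderOf_dvd_of_pow_eq_one
        (show x ^ 2 = 1 from Subtype.ext (by simpa using he x hxQ)))
      omega
    obtain rfl := quaternion_small hB Q e
    have hQ8 : Nat.card ↥(Q : Subgroup G) = 8 := by
      rw [Nat.card_congr e.toEquiv, Nat.card_eq_fintype_card, QuaternionGroup.card]; rfl
    by_cases hT8 : Nat.card ↥(T : Subgroup ↥NN) = 8
    swap
    · refine hcyc (isCyclic_of_dvd_four ?_ ?_)
      · obtain ⟨i, hi, hi'⟩ := (Nat.dvd_prime_pow Nat.prime_two).mp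
          (show Nat.card ↥(T : Subgroup ↥NN) ∣ 2 ^ 3 from (card_dvd_of_injective ι hι).trans (dvd_of_eq hQ8))
        rw [hi'] at hT8 ⊢
        exact pow_dvd_pow 2 (show i ≤ 2 by by_contra h; exact hT8 (by rw [show i = 3 by omega]; rfl))
      · intro u v hu hv
        exact hι (quaternion_involution_unique e (by rw [orderOf_injective ι hι, hu])
          (by rw [orderOf_injective ι hι, hv]))
    have hQN : (Q : Subgroup G) ≤ NN := by
      intro s hs
      obtain ⟨t, ht⟩ := ((Nat.bijective_iff_injective_and_card ι).mpr ⟨hι, hT8.trans hQ8.symm⟩).2 ⟨s, hs⟩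
      rw [← show ((ι t : ↥(Q : Subgroup G)) : G) = s from congrArg (fun u : ↥(Q : Subgroup G) => (u : G)) ht]
      exact (t : ↥NN).2
    set C₀ := C ⊓ centralizer ((Q : Subgroup G) : Set G) with hC₀
    have hC₀odd : ¬ 2 ∣ Nat.card C₀ := fun hd => h2 (hd.trans (card_dvd_of_le (inf_le_left.trans hCV)))
    have hcm : ∀ z : G, z ∈ (Q : Subgroup G) → ∀ a ∈ C₀, ∀ b ∈ zpowers z, Commute a b := by
      intro z hz a ha b hb
      exact (mem_centralizer_iff.mp ha.2 b (zpowers_le.mpr hz hb)).symm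
    have hA0 : ∀ z : G, z ∈ (Q : Subgroup G) → orderOf z = 4 →
        IsMulCommutative ↥(C₀ ⊔ zpowers z) ∧ Nat.card ↥(C₀ ⊔ zpowers z) = Nat.card C₀ * 4 := by
      intro z hz hz4
      refine ⟨?_, ?_⟩
      · have hsup : C₀ ⊔ zpowers z = Subgroup.closure ((C₀ : Set G) ∪ {z}) := by
          rw [Subgroup.closure_union, Subgroup.closure_eq, zpowers_eq_closure]
        rw [hsup]
        refine isMulCommutative_closure ?_
        rintro a (ha | rfl) b (hb | rfl)
        · exact (hVcom (hCV ha.1) (hCV hb.1)).eq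
        · exact (hcm b hz a ha b (mem_zpowers b)).eq
        · exact (hcm a hz b hb a (mem_zpowers a)).eq.symm
        · rfl
      · rw [card_sup_of_commute C₀ (zpowers z) (hcm z hz) (by
          rw [Nat.card_zpowers, hz4, show (4 : ℕ) = 2 ^ 2 from rfl]
          exact ((Nat.prime_two.coprime_iff_not_dvd.mpr hC₀odd).symm).pow_right _), Nat.card_zpowers, hz4]
    have hx4 : orderOf (x : G) = 4 := by rw [Subgroup.orderOf_coe, hx]
    have hy4 : orderOf (y' : G) = 4 := by rw [Subgroup.orderOf_coe, hy'4]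
    obtain ⟨g, hg⟩ := hB _ _ (hA0 x hxQ hx4).1 (hA0 y' hyQ hy4).1
      (by rw [(hA0 x hxQ hx4).2, (hA0 y' hyQ hy4).2])
    have hsplit : ∀ z ∈ C₀ ⊔ zpowers (x : G), ∃ a ∈ C₀, ∃ b ∈ zpowers (y' : G),
        Commute a b ∧ g * z * g⁻¹ = a * b := by
      intro z hz
      have hz' : g * z * g⁻¹ ∈ C₀ ⊔ zpowers (y' : G) := by rw [hg]; exact ⟨z, hz, rfl⟩
      have hle : zpowers (y' : G) ≤ normalizer (C₀ : Set G) :=
        Coprime.le_normalizer_of_conj_mem fun b hb a ha => by
          rw [← (hcm _ hyQ a ha b hb).eq, mul_inv_cancel_right]; exact ha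
      rw [← SetLike.mem_coe, Subgroup.coe_mul_of_right_le_normalizer_left _ _ hle] at hz'
      obtain ⟨a, ha, b, hb, hab⟩ := hz'
      exact ⟨a, ha, b, hb, hcm _ hyQ a ha b hb, hab.symm⟩
    have hgx : g * (x : G) * g⁻¹ ∈ zpowers (y' : G) := by
      obtain ⟨a, ha, b, hb, hcab, he⟩ := hsplit (x : G) (mem_sup_right (mem_zpowers _))
      have h4 : (g * (x : G) * g⁻¹) ^ 4 = 1 := by
        rw [conj_pow, ← hx4, pow_orderOf_eq_one, mul_one, mul_inv_cancel]
      have hb4 : b ^ 4 = 1 := orderOf_dvd_iff_pow_eq_one.mp (hy4 ▸ orderOf_dvd_of_mem_zpowers hb)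
      rw [he, hcab.mul_pow, hb4, mul_one] at h4
      have ha1 : a = 1 := by
        rw [← orderOf_eq_one_iff]
        have d1 : orderOf a ∣ Nat.gcd 4 (Nat.card C₀) :=
          Nat.dvd_gcd (orderOf_dvd_of_pow_eq_one h4) (Subgroup.orderOf_dvd_natCard C₀ ha)
        rwa [show (4 : ℕ) = 2 ^ 2 from rfl,
          ((Nat.prime_two.coprime_iff_not_dvd.mpr hC₀odd).pow_left 2).gcd_eq_one, Nat.dvd_one] at d1
      rw [he, ha1, one_mul]; exact hb
    have hgC₀ : ∀ a ∈ C₀, g * a * g⁻¹ ∈ C := by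
      intro c0 hc0
      obtain ⟨a, ha, b, hb, hcab, he⟩ := hsplit c0 (mem_sup_left hc0)
      have hm : (g * c0 * g⁻¹) ^ Nat.card C₀ = 1 := by
        rw [conj_pow, show c0 ^ Nat.card C₀ = 1 from
          orderOf_dvd_iff_pow_eq_one.mp (Subgroup.orderOf_dvd_natCard C₀ hc0), mul_one, mul_inv_cancel]
      have ha' : a ^ Nat.card C₀ = 1 := orderOf_dvd_iff_pow_eq_one.mp (Subgroup.orderOf_dvd_natCard C₀ ha)
      rw [he, hcab.mul_pow, ha', one_mul] at hm
      have hb1 : b = 1 := by
        rw [← orderOf_eq_one_iff]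
        have d1 : orderOf b ∣ Nat.gcd 4 (Nat.card C₀) :=
          Nat.dvd_gcd (hy4 ▸ orderOf_dvd_of_mem_zpowers hb) (orderOf_dvd_of_pow_eq_one hm)
        rwa [show (4 : ℕ) = 2 ^ 2 from rfl,
          ((Nat.prime_two.coprime_iff_not_dvd.mpr hC₀odd).pow_left 2).gcd_eq_one, Nat.dvd_one] at d1
      rw [he, hb1, mul_one]; exact ha.1
    have hgN : g ∈ NN := by
      rw [hNN, mem_normalizer_iff_map_conj_eq]
      refine eq_of_le_of_card_ge ?_ (Subgroup.card_map_of_injective (MulAut.conj g).injective).ge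
      rw [map_le_iff_le_comap]
      -- reduce to the Sylow parts of `C`
      set E := C.comap (MulAut.conj g).toMonoidHom ⊓ C
      suffices hCE : C ≤ E from hCE.trans inf_le_left
      refine (eq_of_le_of_card_ge (inf_le_right : E ≤ C) (Nat.le_of_dvd Nat.card_pos ?_)).ge
      refine (Nat.dvd_iff_prime_pow_dvd_dvd _ _).mpr fun r k hr hk => ?_
      rcases Nat.eq_zero_or_pos k with hk0 | hk0
      · simp [hk0]
      haveI := Fact.mk hr
      have hrV : r ∣ Nat.card V := ((dvd_pow_self r hk0.ne').trans hk).trans (card_dvd_of_le hCV)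
      have hr2 : r ≠ 2 := fun h => h2 (h ▸ hrV)
      obtain ⟨-, R, hRe, hRc⟩ := hπ r hr hrV
      obtain ⟨hRn, hRab⟩ := normal_abelian_of_exponent hB hsol R hRe hRc
      haveI := hRn
      haveI := hRab
      obtain ⟨Ck, hCk⟩ := Sylow.exists_subgroup_card_pow_prime r (G := C) (n := k) hk
      have hCkR : Ck.map C.subtype ≤ (R : Subgroup G) := by
        have hp : IsPGroup r ↥(Ck.map C.subtype) :=
          IsPGroup.of_card (n := k) (by rw [Subgroup.card_map_of_injective C.subtype_injective, hCk])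
        obtain ⟨R', hR'⟩ := hp.exists_le_sylow
        haveI : Subsingleton (Sylow r G) := (Sylow.unique_of_normal R hRn).instSubsingleton
        exact hR'.trans (by rw [Subsingleton.elim R' R])
      rw [← hCk, ← Subgroup.card_map_of_injective C.subtype_injective (K := Ck)]
      refine card_dvd_of_le ((le_inf (map_subtype_le Ck) hCkR).trans ?_)
      refine le_inf ?_ inf_le_left
      intro c hc
      show g * c * g⁻¹ ∈ C
      by_cases hfull : C ⊓ (R : Subgroup G) = (R : Subgroup G)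
      · exact (hfull.ge (hRn.conj_mem c hc.2 g)).1
      · refine hgC₀ c ⟨hc.1, ?_⟩
        by_cases hbot : C ⊓ (R : Subgroup G) = ⊥
        · rw [show c = 1 from mem_bot.mp (hbot ▸ hc)]; exact one_mem _
        have hQR := quaternion_centralizes hB hsol hr2 (R : Subgroup G) hRe Q e (C ⊓ (R : Subgroup G))
          inf_le_right hbot hfull (fun s hs v hv =>
            ⟨(mem_normalizer_iff.mp (hQN hs) v).mp hv.1, hRn.conj_mem v hv.2 s⟩)
        show c ∈ centralizer ((Q : Subgroup G) : Set G)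
        rw [mem_centralizer_iff]
        intro s hs
        exact (mem_centralizer_iff.mp (hQR hs) c hc.2).symm
    refine ⟨⟨g, hgN⟩, ?_⟩
    refine (eq_of_le_of_card_ge ?_ (by
      rw [Subgroup.card_map_of_injective (MulAut.conj (⟨g, hgN⟩ : ↥NN)).injective, Nat.card_zpowers,
        Nat.card_zpowers, hx, hy'4])).symm
    rw [map_le_iff_le_comap, zpowers_le, mem_comap]
    obtain ⟨i, hi⟩ := mem_zpowers_iff.mp hgx
    exact ⟨i, Subtype.ext (by simpa using hi)⟩
  intro D₁ D₂ h1 h2 hDc hD1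
  have hXsol : Group.IsSolvable (↥NN ⧸ V') := Group.isSolvable_of_surjective (QuotientGroup.mk'_surjective V')
  have hcopD : ∀ D : Subgroup G, Nat.card D = Nat.card D₁ → (Nat.card D).Coprime (Nat.card V) := fun D hD =>
    hD ▸ (hcop.coprime_dvd_right hD1).symm
  have hmapc : ∀ D : Subgroup G, D ≤ NN → Nat.card D = Nat.card D₁ →
      Nat.card ↥((D.subgroupOf NN).map f) = Nat.card D := by
    intro D hD hDc'
    have h := card_map_mul f (D.subgroupOf NN)
    rw [Nat.card_congr (subgroupOfEquivOfLe hD).toEquiv] at h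
    have hbot : D.subgroupOf NN ⊓ f.ker = ⊥ := by
      rw [hker]
      have h' : D ⊓ V = ⊥ := inf_eq_bot_of_coprime (hcopD D hDc')
      rw [eq_bot_iff]
      rintro z ⟨hz1, hz2⟩
      have : (z : G) ∈ D ⊓ V := ⟨hz1, hz2⟩
      rw [h', mem_bot] at this
      exact Subtype.ext this
    rwa [hbot, card_bot, one_mul] at h
  obtain ⟨gb, hgb⟩ := conj_of_small hXsol hXS hXC ((D₁.subgroupOf NN).map f) ((D₂.subgroupOf NN).map f)
    (by rw [hmapc D₁ h1 rfl, hmapc D₂ h2 hDc.symm, hDc])
  obtain ⟨g, rfl⟩ := QuotientGroup.mk'_surjective V' gb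
  set D₁' := D₁.map (MulAut.conj (g : G)).toMonoidHom with hD₁'
  have hD1c : Nat.card D₁' = Nat.card D₁ := Subgroup.card_map_of_injective (MulAut.conj (g : G)).injective
  have hle' : D₁' ≤ V ⊔ D₂ := by
    rintro _ ⟨d, hd, rfl⟩
    have hmem : f (g * ⟨d, h1 hd⟩ * g⁻¹) ∈ (D₂.subgroupOf NN).map f := by
      rw [hgb]
      exact ⟨f ⟨d, h1 hd⟩, mem_map_of_mem _ hd, by simp [hf]⟩
    obtain ⟨e, he, hfe⟩ := hmem
    have hv : ((g * ⟨d, h1 hd⟩ * g⁻¹ * e⁻¹ : ↥NN) : G) ∈ V := by
      have : (g * ⟨d, h1 hd⟩ * g⁻¹ * e⁻¹ : ↥NN) ∈ f.ker := by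
        rw [MonoidHom.mem_ker, map_mul, map_inv, hfe, mul_inv_cancel]
      rwa [hker] at this
    have := mul_mem_sup hv (he : (e : G) ∈ D₂)
    simpa [mul_assoc] using this
  obtain ⟨k, hk, hkD⟩ := Coprime.exists_conj_le_of_le_sup D₁' V D₂
    (by rw [normalizer_eq_top_iff.mpr hVn]; exact le_top) (by rw [normalizer_eq_top_iff.mpr hVn]; exact le_top)
    (hcopD D₁' hD1c) (Or.inl inferInstance) hle'
  refine ⟨k * g, mul_mem (hVN hk) g.2, ?_⟩
  rw [map_conj_mul, ← hD₁']
  refine (eq_of_le_of_card_ge ?_ (by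
    rw [Subgroup.card_map_of_injective (MulAut.conj k).injective, hD1c, hDc])).symm
  rintro _ ⟨a, ha, rfl⟩
  exact hkD a ha


/-- If G is a finite solvable group in which any two abelian subgroups of the same order are conjugate, then any two subgroups of G of the same order are conjugate. -/
theorem result {G : Type*} [Group G] [Finite G] (hB : ∀ A B : Subgroup G, IsMulCommutative ↥A → IsMulCommutative ↥B → Nat.card ↥A = Nat.card ↥B → ∃ g : G, B = A.map (MulAut.conj g).toMonoidHom) (hsol : Group.IsSolvable G) (A B : Subgroup G)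
    (h : Nat.card ↥A = Nat.card ↥B) : ∃ g : G, B = A.map (MulAut.conj g).toMonoidHom := by
  exact conj_all hB hsol A B h

end Cfsg.Agent.S3913
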