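import Cfsg.Statements.S3917
import Cfsg.Agent.Lib.Coprime.Generation

set_option autoImplicit false
set_option linter.all false
open Cfsg

namespace Cfsg.Agent.S3917

/-- Say that a group has self-centralizing non-cyclic subgroups when every non-cyclic subgroup H satisfies C_G(H) ≤ H. A finite abelian group with self-centralizing non-cyclic subgroups is cyclic or elementary abelian of order p² for a prime p. -/
theorem result {G : Type*} [CommGroup G] [Finite G] (hX : (∀ H : Subgroup G, ¬ IsCyclic ↥H → Subgroup.centralizer (H : Set G) ≤ H)) :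
    IsCyclic G ∨ ∃ p : ℕ, p.Prime ∧ Nat.card G = p ^ 2 ∧ Monoid.exponent G = p := by
  classical
  by_cases hc : IsCyclic G
  · exact Or.inl hc
  right
  haveI : IsMulCommutative (⊤ : Subgroup G) := ⟨⟨fun a b => mul_comm a b⟩⟩
  have htop : ¬ IsCyclic (⊤ : Subgroup G) := fun h => hc (Subgroup.topEquiv.isCyclic.1 h)
  obtain ⟨r, hr, -, a, -, b, -, ha, hb, ha1, hb1⟩ :=
    Coprime.exists_independent_of_not_isCyclic (⊤ : Subgroup G) htop
  refine ⟨r, hr, ?_⟩
  haveI : Fact r.Prime := ⟨hr⟩
  have hoa : orderOf a = r := orderOf_eq_prime ha ha1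
  have hob : orderOf b = r := orderOf_eq_prime hb fun h => hb1 (h ▸ one_mem _)
  let K : Subgroup G := Subgroup.zpowers a ⊔ Subgroup.zpowers b
  have hKker : K ≤ (powMonoidHom r : G →* G).ker :=
    sup_le (Subgroup.zpowers_le.2 ha) (Subgroup.zpowers_le.2 hb)
  have hexpK : ∀ x : K, x ^ r = 1 := fun x => Subtype.ext (hKker x.2)
  have hnc : ¬ IsCyclic K := fun h => by
    have h1 : Monoid.exponent K ∣ r := Monoid.exponent_dvd_of_forall_pow_eq_one hexpK
    rw [IsCyclic.exponent_eq_card] at h1
    have h2 : Subgroup.zpowers a = K := Subgroup.eq_of_le_of_card_ge le_sup_left (by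
      rw [Nat.card_zpowers, hoa]; exact Nat.le_of_dvd hr.pos h1)
    exact hb1 (h2 ▸ (le_sup_right : Subgroup.zpowers b ≤ K) (Subgroup.mem_zpowers b))
  have hK : K = ⊤ := by
    refine eq_top_iff.2 fun x _ => hX K hnc ?_
    rw [Subgroup.mem_centralizer_iff]
    intro y _
    exact mul_comm y x
  have hexp : ∀ x : G, x ^ r = 1 := fun x => hKker (hK ▸ Subgroup.mem_top x)
  refine ⟨?_, ?_⟩
  · have hdisj : Disjoint (Subgroup.zpowers a) (Subgroup.zpowers b) := by
      rw [disjoint_iff]
      have hd : Nat.card (Subgroup.zpowers a ⊓ Subgroup.zpowers b : Subgroup G) ∣ r := by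
        have := Subgroup.card_dvd_of_le (inf_le_right : Subgroup.zpowers a ⊓ Subgroup.zpowers b ≤ _)
        rwa [Nat.card_zpowers, hob] at this
      rcases (Nat.dvd_prime hr).1 hd with h | h
      · exact Subgroup.eq_bot_of_card_eq _ h
      · exfalso
        have h' : Subgroup.zpowers a ⊓ Subgroup.zpowers b = Subgroup.zpowers b :=
          Subgroup.eq_of_le_of_card_ge inf_le_right (by rw [Nat.card_zpowers, hob, h])
        exact hb1 (inf_eq_right.1 h' (Subgroup.mem_zpowers b))
    have hcompl : Subgroup.IsComplement' (Subgroup.zpowers a) (Subgroup.zpowers b) :=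
      Subgroup.isComplement'_of_disjoint_and_mul_eq_univ hdisj (by
        rw [← Subgroup.mul_normal, show Subgroup.zpowers a ⊔ Subgroup.zpowers b = ⊤ from hK]; rfl)
    rw [← hcompl.card_mul, Nat.card_zpowers, Nat.card_zpowers, hoa, hob, pow_two]
  · rcases (Nat.dvd_prime hr).1 (Monoid.exponent_dvd_of_forall_pow_eq_one hexp) with h | h
    · exact absurd (Monoid.exp_eq_one_iff.1 h) fun hs => ha1 (Subsingleton.elim a 1)
    · exact h

end Cfsg.Agent.S3917
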