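import Cfsg.Statements.S3919
import Cfsg.Agent.FG75.SelfCentral

set_option autoImplicit false
set_option linter.all false
open Cfsg

namespace Cfsg.Agent.S3919

/-- Say that a group has self-centralizing non-cyclic subgroups when every non-cyclic subgroup H satisfies C_G(H) ≤ H. A finite non-abelian 2-group G of order 2^n has self-centralizing non-cyclic subgroups if and only if G has nilpotency class n − 1 (that is, G is dihedral, semidihedral or generalized quaternion). -/
theorem result {G : Type*} [Group G] [Finite G] (hna : ¬ IsMulCommutative G) (n : ℕ) (hG : Nat.card G = 2 ^ n) :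
    (∀ H : Subgroup G, ¬ IsCyclic ↥H → Subgroup.centralizer (H : Set G) ≤ H) ↔ (⊤ : Subgroup G).lowerCentralSeries (n - 2) ≠ ⊥ := by
  haveI : Fact (Nat.Prime 2) := ⟨Nat.prime_two⟩
  refine ⟨fun h => FG75.SelfCentral.two_forward n hG hna h, fun h => ?_⟩
  obtain ⟨h4, h8⟩ := FG75.SelfCentral.index_commutator_four n hG hna h
  exact FG75.SelfCentral.mc_backward
    (FGS82.taussky (Nat.card G) le_rfl (IsPGroup.of_card hG) h4 h8)

end Cfsg.Agent.S3919
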