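import Cfsg.Statements.S3921
import Cfsg.Agent.SelfCentNC.Forward
import Cfsg.Agent.SelfCentNC.PSL

set_option autoImplicit false
open Cfsg

namespace Cfsg.Agent.S3921

/-- Say that a group has self-centralizing non-cyclic subgroups when every non-cyclic subgroup H satisfies C_G(H) ≤ H. A non-abelian finite simple group has self-centralizing non-cyclic subgroups if and only if it is isomorphic to PSL₂(q) with q = 4, q = 9, or q a prime of the form 2^k + 1 or 2^k − 1. -/
theorem result {G : Type*} [Group G] [Finite G] [IsSimpleGroup G] (hna : ¬ IsMulCommutative G) :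
    (∀ H : Subgroup G, ¬ IsCyclic ↥H → Subgroup.centralizer (H : Set G) ≤ H) ↔ ∃ (F : Type) (_ : Field F) (_ : Fintype F),
      (Fintype.card F = 4 ∨ Fintype.card F = 9 ∨ ((Fintype.card F).Prime ∧ ∃ k : ℕ, Fintype.card F = 2 ^ k + 1 ∨ Fintype.card F = 2 ^ k - 1)) ∧
      Nonempty (G ≃* Matrix.ProjectiveSpecialLinearGroup (Fin 2) F) := by
  constructor
  · intro h
    obtain ⟨z, hz, ⟨k, hk⟩, F, hFi, hFt, hodd, ⟨e⟩⟩ := SelfCentNC.exists_psl h hna
    refine ⟨F, hFi, hFt, ?_, ⟨e⟩⟩
    have hz' : orderOf (e z) = 2 := by rw [MulEquiv.orderOf_eq, hz]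
    have h2 : (2 : F) ≠ 0 := SelfCentNC.two_ne_zero_iff.mpr hodd
    obtain ⟨n, hn2, hneven, hkind, ⟨f⟩⟩ := SelfCentNC.involution_cent h2 hz'
    have hcard : Nat.card (Subgroup.centralizer ({z} : Set G)) =
        Nat.card (Subgroup.centralizer
          ({e z} : Set (Matrix.ProjectiveSpecialLinearGroup (Fin 2) F))) := by
      refine Nat.card_congr (e.toEquiv.subtypeEquiv fun x => ?_)
      rw [Subgroup.mem_centralizer_singleton_iff, Subgroup.mem_centralizer_singleton_iff,
        MulEquiv.toEquiv_eq_coe, MulEquiv.coe_toEquiv, ← map_mul, ← map_mul, e.injective.eq_iff]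
    rw [hk, Nat.card_congr f.toEquiv, DihedralGroup.nat_card] at hcard
    obtain ⟨p, hp⟩ := CharP.exists F
    obtain ⟨m, hpp, hq⟩ := FiniteField.card F p
    have hp2 : p ≠ 2 := by
      rintro rfl
      rw [hq] at hodd
      exact Nat.not_even_iff_odd.mpr hodd (Nat.even_pow.mpr ⟨even_two, m.ne_zero⟩)
    rw [hq] at hkind ⊢
    exact Or.inr (SelfCentNC.prime_or_nine hpp hp2 hneven hcard.symm hkind)
  · rintro ⟨F, _, _, hF, ⟨e⟩⟩
    exact SelfCentNC.SCN.of_mulEquiv e (SelfCentNC.scn_psl hF)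

end Cfsg.Agent.S3921
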