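import Cfsg.Statements.S3930
import Cfsg.Agent.Pyr45.Reduce
import Cfsg.Agent.Pyr45.Example

set_option autoImplicit false
open Cfsg

namespace Cfsg.Agent.S3930

/-- Call a finite group m-pyramidal when it has exactly m involutions and they form a single conjugacy class. Let p be an odd prime and k ≥ 1. Then every p^k-pyramidal finite group is solvable if and only if k is odd or p^k = 9. -/
theorem result (p k : ℕ) (hp : p.Prime) (hp2 : p ≠ 2) (hk : 1 ≤ k) :
    (∀ (G : Type) [Group G] [Finite G], Nat.card {x : G // orderOf x = 2} = p ^ k →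
      (∀ x y : G, orderOf x = 2 → orderOf y = 2 → ∃ g : G, g * x * g⁻¹ = y) → Group.IsSolvable G) ↔ (Odd k ∨ p ^ k = 9) := by
  constructor
  · intro h
    by_contra hcase
    push Not at hcase
    obtain ⟨hodd, h9⟩ := hcase
    obtain ⟨m, rfl⟩ := Nat.not_odd_iff_even.1 hodd
    haveI : Fact p.Prime := ⟨hp⟩
    have hm : m ≠ 0 := by omega
    have hcard : Nat.card (GaloisField p m) = p ^ m := GaloisField.card p m hm
    have h2 : (2 : GaloisField p m) ≠ 0 := by
      intro h2
      rw [show (2 : GaloisField p m) = ((2 : ℕ) : GaloisField p m) by norm_num,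
        CharP.cast_eq_zero_iff (GaloisField p m) p] at h2
      exact hp2 ((Nat.prime_dvd_prime_iff_eq hp Nat.prime_two).1 h2)
    haveI : Finite (GaloisField p m) := Nat.finite_of_card_ne_zero (by rw [hcard]; exact (pow_pos hp.pos m).ne')
    refine Pyr45.Aff.not_solvable (F := GaloisField p m) ?_ (h (Pyr45.Aff (GaloisField p m)) ?_ (Pyr45.Aff.one_class h2))
    · rw [hcard]
      by_contra h4
      have h3 : 3 ≤ p ^ m := le_trans (by have := hp.two_le; omega : 3 ≤ p) (Nat.le_self_pow hm p)
      have h5 : p ^ m = 3 := by omega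
      exact h9 (by rw [pow_add, h5]; rfl)
    · rw [Pyr45.Aff.card_involutions h2, hcard, pow_two, pow_add]
  · intro hcase G _ _ hcount hclass
    exact Pyr45.solvable_of_pyramidal hp hp2 hcase hcount hclass

end Cfsg.Agent.S3930
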