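import Cfsg.Statements.S3939
import Mathlib.GroupTheory.Nilpotent
import Cfsg.Agent.Lib.Transfer.Hall
import Cfsg.Agent.Lib.Solvable.Conj
import Cfsg.Agent.Lib.Fitting.Minimal

set_option autoImplicit false
open Cfsg

namespace Cfsg.Agent.S3939

open Subgroup
open scoped commutatorElement

variable {G : Type*} [Group G] [Finite G]

/-- A `p`-element commuting with all `p'`-elements lies in the hypercentre. -/
theorem mem_of_commute_coprime {p : ℕ} [hp : Fact p.Prime] {a : G} {j : ℕ}
    (ha : a ^ p ^ j = 1)
    (hc : ∀ x : G, (orderOf x).Coprime p → Commute a x) (n : ℕ)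
    (hn : Subgroup.upperCentralSeries G (n + 1) = Subgroup.upperCentralSeries G n) :
    a ∈ Subgroup.upperCentralSeries G n := by
  classical
  set Z := Subgroup.upperCentralSeries G n with hZ
  haveI : Z.Normal := inferInstance
  -- the subgroup of `p`-elements of `Q = G ⧸ Z` commuting with all images of `p'`-elements
  set π := QuotientGroup.mk' Z
  have hπ : Function.Surjective π := QuotientGroup.mk'_surjective Z
  obtain ⟨P, hP⟩ := (IsPGroup.of_card (p := p) (G := zpowers a) (n := Nat.find
      ((Nat.dvd_prime_pow hp.out).1 (orderOf_dvd_of_pow_eq_one ha))) (by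
    rw [Nat.card_zpowers]
    exact (Nat.find_spec ((Nat.dvd_prime_pow hp.out).1 (orderOf_dvd_of_pow_eq_one ha))).2)).exists_le_sylow
  have gen : ∀ S : Subgroup G, (P : Subgroup G) ≤ S → (∀ x : G, (orderOf x).Coprime p → x ∈ S) →
      S = ⊤ := by
    intro S hS hx
    rw [← card_eq_iff_eq_top]
    refine Nat.dvd_antisymm (card_subgroup_dvd_card _) ?_
    rw [Nat.dvd_iff_prime_pow_dvd_dvd]
    intro q k hq hk
    haveI := Fact.mk hq
    by_cases hqp : q = p
    · subst hqp
      exact (P.pow_dvd_card_of_pow_dvd_card hk).trans (card_dvd_of_le hS)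
    · obtain ⟨Q⟩ : Nonempty (Sylow q G) := inferInstance
      refine (Q.pow_dvd_card_of_pow_dvd_card hk).trans (card_dvd_of_le fun y hy => hx y ?_)
      obtain ⟨i, hi⟩ := IsPGroup.iff_orderOf.1 Q.isPGroup' ⟨y, hy⟩
      rw [Subgroup.orderOf_mk] at hi
      rw [hi]; exact ((Nat.coprime_primes hq hp.out).2 hqp).pow_left i
  set C : Set G := {x : G | (orderOf x).Coprime p}
  set W := (P : Subgroup G) ⊓ centralizer C with hW
  have haW : a ∈ W := ⟨hP (mem_zpowers a), mem_centralizer_iff.2 fun x hx => (hc x hx).eq.symm⟩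
  haveI hWn : W.Normal := by
    rw [← normalizer_eq_top_iff]
    refine gen _ (fun u hu => ?_) (fun x hx => ?_)
    · rw [mem_normalizer_iff]
      have hinv : ∀ u ∈ (P : Subgroup G), ∀ w ∈ W, u * w * u⁻¹ ∈ W := fun u hu w hw => by
        refine ⟨Subgroup.mul_mem _ (Subgroup.mul_mem _ hu hw.1) (Subgroup.inv_mem _ hu), mem_centralizer_iff.2 fun x hx => ?_⟩
        have hx' : (orderOf (u⁻¹ * x * u)).Coprime p := by
          have h := orderOf_injective (MulAut.conj u⁻¹).toMonoidHom (MulEquiv.injective _) x
          simp only [MulEquiv.coe_toMonoidHom, MulAut.conj_apply, inv_inv] at h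
          rwa [h]
        have := mem_centralizer_iff.1 hw.2 _ hx'
        calc x * (u * w * u⁻¹) = u * ((u⁻¹ * x * u) * w) * u⁻¹ := by group
          _ = u * (w * (u⁻¹ * x * u)) * u⁻¹ := by rw [this]
          _ = u * w * u⁻¹ * x := by group
      refine fun w => ⟨hinv u hu w, fun hw => ?_⟩
      simpa [mul_assoc] using hinv u⁻¹ (inv_mem hu) _ hw
    · refine centralizer_le_normalizer _ (mem_centralizer_iff.2 fun w hw => ?_)
      exact (mem_centralizer_iff.1 hw.2 x hx).symm
  by_contra haZ
  set A := W.map π with hA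
  haveI : A.Normal := hWn.map π hπ
  have hAne : A ≠ ⊥ := by
    intro hb
    rw [hA, Subgroup.map_eq_bot_iff, QuotientGroup.ker_mk'] at hb
    exact haZ (hb haW)
  set B := (P : Subgroup G).map π
  have hBp : IsPGroup p B := P.isPGroup'.map π
  haveI := hBp.isNilpotent
  have hAB : A ≤ B := map_mono inf_le_left
  -- a nontrivial central element
  obtain ⟨c, hcA, hc1, hcB⟩ : ∃ c ∈ A, c ≠ 1 ∧ ∀ b ∈ B, b * c = c * b := by
    have hne : A.subgroupOf B ≠ ⊥ := fun hb => hAne (by
      rw [← map_subgroupOf_eq_of_le hAB, hb, Subgroup.map_bot])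
    obtain ⟨⟨c, hcB⟩, ⟨hcA, hcz⟩, hc1⟩ : ∃ c : B, c ∈ A.subgroupOf B ⊓ center B ∧ c ≠ 1 := by
      by_contra hall
      push Not at hall
      exact Cfsg.Agent.Fitting.inf_center_ne_bot hne (eq_bot_iff.2 fun x hx => mem_bot.2 (hall x hx))
    exact ⟨c, hcA, fun h => hc1 (Subtype.ext h), fun b hb =>
      congrArg Subtype.val (mem_center_iff.1 hcz ⟨b, hb⟩)⟩
  obtain ⟨c', hc', rfl⟩ := hcA
  have hcent : π c' ∈ center (G ⧸ Z) := by
    have : (centralizer {π c'}).comap π = ⊤ := by
      refine gen _ (fun u hu => ?_) (fun x hx => ?_)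
      · refine mem_centralizer_iff.2 ?_
        rintro _ rfl
        exact (hcB _ (mem_map_of_mem π hu)).symm
      · refine mem_centralizer_iff.2 ?_
        rintro _ rfl
        rw [← map_mul, ← map_mul, mem_centralizer_iff.1 hc'.2 x hx]
    rw [mem_center_iff]
    intro q
    obtain ⟨x, rfl⟩ := hπ q
    have hx : x ∈ (centralizer {π c'}).comap π := this ▸ mem_top x
    exact (mem_centralizer_iff.1 hx (π c') rfl).symm
  apply hc1
  have : c' ∈ Subgroup.upperCentralSeries G (n + 1) := by
    rw [Subgroup.mem_upperCentralSeries_succ_iff]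
    intro y
    rw [← hZ, ← QuotientGroup.eq_one_iff, ← QuotientGroup.mk'_apply]
    show π (c' * y * c'⁻¹ * y⁻¹) = 1
    rw [map_mul, map_mul, map_mul, map_inv, map_inv, ← (mem_center_iff.1 hcent (π y))]
    group
  rw [hn] at this
  exact (QuotientGroup.eq_one_iff c').2 this

theorem hypercenter_iff (g : G) :
    (∀ x : G, Group.IsNilpotent ↥(Subgroup.closure ({x, g} : Set G))) ↔
      g ∈ ⨆ n : ℕ, Subgroup.upperCentralSeries G n := by
  classical
  constructor
  · intro h
    obtain ⟨N, hN⟩ : ∃ n, Subgroup.upperCentralSeries G (n + 1) = Subgroup.upperCentralSeries G n := by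
      by_contra hcon
      push Not at hcon
      have hlt : ∀ n, n < Nat.card (Subgroup.upperCentralSeries G n) := by
        intro n
        induction n with
        | zero => exact Nat.card_pos
        | succ n ih =>
          have hs : Subgroup.upperCentralSeries G n < Subgroup.upperCentralSeries G (n + 1) :=
            lt_of_le_of_ne (Subgroup.upperCentralSeries_mono G (Nat.le_succ n)) (hcon n).symm
          have hne : Nat.card (Subgroup.upperCentralSeries G n) < Nat.card (Subgroup.upperCentralSeries G (n + 1)) :=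
            lt_of_not_ge fun hge => hs.ne (Cfsg.Agent.Solvable.eq_of_le_of_card_le hs.le hge)
          omega
      exact absurd (card_le_card_group (Subgroup.upperCentralSeries G (Nat.card G)))
        (not_le.2 (hlt _))
    refine mem_iSup_of_mem N ?_
    -- every prime power part lies in `Z_N`
    have key : ∀ (m : ℕ) (b : G), b ∈ zpowers g → orderOf b = m → b ∈ Subgroup.upperCentralSeries G N := by
      intro m
      induction m using Nat.recOnPrimeCoprime with
      | zero => intro b _ hb; exact absurd hb (orderOf_pos b).ne'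
      | prime_pow p i hp =>
        intro b hbg hb
        haveI := Fact.mk hp
        refine mem_of_commute_coprime (p := p) (j := i) (hb ▸ pow_orderOf_eq_one b) (fun x hx => ?_) N hN
        have hbm : b ∈ Subgroup.closure ({x, g} : Set G) :=
          zpowers_le.2 (subset_closure (by simp)) hbg
        have := Cfsg.Agent.Transfer.nilpotent_commute_of_coprime (h x)
          (x := ⟨b, hbm⟩) (y := ⟨x, subset_closure (by simp)⟩) (by
            simp only [Subgroup.orderOf_mk]; rw [hb]; exact hx.symm.pow_left i)
        exact congrArg Subtype.val this.eq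
      | coprime a b ha hb hab iha ihb =>
        intro c hcg hc
        have h1 : orderOf (c ^ a) = b := by
          rw [orderOf_pow' _ (by omega), hc, Nat.gcd_eq_right (dvd_mul_right a b),
            Nat.mul_div_cancel_left _ (by omega)]
        have h2 : orderOf (c ^ b) = a := by
          rw [orderOf_pow' _ (by omega), hc, Nat.gcd_eq_right (dvd_mul_left b a),
            Nat.mul_div_cancel _ (by omega)]
        have hm1 := ihb _ (pow_mem hcg a) h1
        have hm2 := iha _ (pow_mem hcg b) h2
        obtain ⟨s, t, hst⟩ : ∃ s t : ℤ, (a : ℤ) * s + (b : ℤ) * t = 1 :=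
          ⟨a.gcdA b, a.gcdB b, by rw [← Nat.gcd_eq_gcd_ab, hab]; rfl⟩
        have : c = (c ^ a) ^ s * (c ^ b) ^ t := by
          rw [← zpow_natCast c a, ← zpow_natCast c b, ← zpow_mul, ← zpow_mul, ← zpow_add,
            hst, zpow_one]
        rw [this]
        exact mul_mem (zpow_mem hm1 s) (zpow_mem hm2 t)
    exact key _ g (mem_zpowers g) rfl
  · intro hg x
    rw [mem_iSup_of_directed (Monotone.directed_le (Subgroup.upperCentralSeries_mono G))] at hg
    obtain ⟨n, hn⟩ := hg
    set K := Subgroup.closure ({x, g} : Set G) with hK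
    have hgK : g ∈ K := subset_closure (by simp)
    have hxK : x ∈ K := subset_closure (by simp)
    have hsub : ∀ m, ∀ y : K, (y : G) ∈ Subgroup.upperCentralSeries G m → y ∈ Subgroup.upperCentralSeries K m := by
      intro m
      induction m with
      | zero =>
        intro y hy
        simp only [Subgroup.upperCentralSeries_zero, mem_bot, OneMemClass.coe_eq_one] at hy ⊢
        exact hy
      | succ m ih =>
        intro y hy
        rw [Subgroup.mem_upperCentralSeries_succ_iff] at hy ⊢
        intro z
        exact ih _ (hy z)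
    have hgen : K ≤ ((Subgroup.upperCentralSeries K n).map K.subtype) ⊔ zpowers x := by
      rw [hK, closure_le]
      rintro y (rfl | rfl)
      · exact mem_sup_right (mem_zpowers _)
      · exact mem_sup_left ⟨⟨_, hgK⟩, hsub n _ hn, rfl⟩
    refine ⟨⟨n + 1, ?_⟩⟩
    rw [eq_top_iff]
    rintro y -
    rw [Subgroup.mem_upperCentralSeries_succ_iff]
    intro z
    have htop : Subgroup.upperCentralSeries K n ⊔ zpowers (⟨x, hxK⟩ : K) = ⊤ := by
      apply map_injective (f := K.subtype) K.subtype_injective
      rw [Subgroup.map_sup, MonoidHom.map_zpowers, ← MonoidHom.range_eq_map, range_subtype]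
      exact le_antisymm (sup_le (map_subtype_le _) (zpowers_le.2 hxK)) hgen
    set π := QuotientGroup.mk' (Subgroup.upperCentralSeries K n)
    have hcyc : ∀ w : K, π w ∈ zpowers (π ⟨x, hxK⟩) := fun w => by
      have hw := mem_map_of_mem π (htop ▸ mem_top w : w ∈ Subgroup.upperCentralSeries K n ⊔ zpowers ⟨x, hxK⟩)
      rwa [Subgroup.map_sup, (Subgroup.map_eq_bot_iff _).2 (QuotientGroup.ker_mk' _).ge,
        bot_sup_eq, MonoidHom.map_zpowers] at hw
    obtain ⟨i, hi⟩ := hcyc y
    obtain ⟨j, hj⟩ := hcyc z
    rw [← QuotientGroup.eq_one_iff, ← QuotientGroup.mk'_apply]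
    show π (y * z * y⁻¹ * z⁻¹) = 1
    rw [map_mul, map_mul, map_mul, map_inv, map_inv, ← hi, ← hj]
    simp only
    group

/-- In a finite group G the set of elements g such that the subgroup generated by g and x is nilpotent for every x ∈ G is exactly the hypercenter of G (the last term of the upper central series). -/
theorem result {G : Type*} [Group G] [Finite G] (g : G) :
    (∀ x : G, Group.IsNilpotent ↥(Subgroup.closure ({x, g} : Set G))) ↔ g ∈ ⨆ n : ℕ, Subgroup.upperCentralSeries G n := by
  exact hypercenter_iff g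

end Cfsg.Agent.S3939
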