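import Cfsg.Statements.S3940
import Cfsg.Agent.PN72.SEFalse
import Cfsg.Agent.PN72.Exists
-- import your own Cfsg.Agent.* helpers here

set_option autoImplicit false
open Cfsg

namespace Cfsg.Agent.S3940

universe u

open Subgroup in
/-- Induction on the group order. -/
theorem solvable_aux (p : ℕ) (hp : p.Prime) (hp3 : 3 < p) : ∀ (n : ℕ) (G : Type u) [Group G]
    [Finite G], Nat.card G ≤ n →
    (∀ H : Subgroup G, (Nat.card ↥H).Coprime p → Group.IsNilpotent ↥H) → Group.IsSolvable G := by
  intro n
  induction n with
  | zero => intro G _ _ hn; exact absurd hn (not_le.2 Nat.card_pos)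
  | succ n ih =>
    intro G _ _ hn h
    have hsub : ∀ (X : Subgroup G) (H : Subgroup ↥X), (Nat.card ↥H).Coprime p →
        Group.IsNilpotent ↥H := fun X H hH => by
      have e := H.equivMapOfInjective X.subtype X.subtype_injective
      have := h (H.map X.subtype) (by rwa [← Nat.card_congr e.toEquiv])
      exact Group.nilpotent_of_mulEquiv e.symm
    have hsol : ∀ X : Subgroup G, X ≠ ⊤ → Group.IsSolvable ↥X := fun X hX => by
      refine ih _ ?_ (hsub X)
      have h2 : Nat.card ↥X < Nat.card G := by
        refine lt_of_le_of_ne (Subgroup.card_le_card_group X) fun e => hX ?_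
        exact Subgroup.eq_top_of_card_eq X e
      omega
    by_contra hns
    have hnt : Nontrivial G := by
      rcases subsingleton_or_nontrivial G with hs | hs
      · exact absurd (inferInstance : Group.IsSolvable G) hns
      · exact hs
    by_cases hsimp : IsSimpleGroup G
    · have hM : PN72.Minimal p G := ⟨hp, hp3, h, hsimp, hns, hsol⟩
      obtain ⟨H, hH⟩ := PN72.exists_stronglyEmbedded hM
      exact PN72.false_of_se hM hH
    obtain ⟨N, hNn, hN, hNt⟩ : ∃ N : Subgroup G, N.Normal ∧ N ≠ ⊥ ∧ N ≠ ⊤ := by
      by_contra hcon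
      push Not at hcon
      exact hsimp ⟨fun N hNn => or_iff_not_imp_left.2 (hcon N hNn)⟩
    have := hsol N hNt
    set q := QuotientGroup.mk' N
    have hq : Function.Surjective q := QuotientGroup.mk'_surjective N
    have hlift : ∀ H : Subgroup (G ⧸ N), H ≠ ⊤ → (Nat.card ↥H).Coprime p →
        Group.IsNilpotent ↥H := by
      intro H hH hcop
      have hK : H.comap q ≠ ⊤ := fun e => hH (by
        rw [← map_comap_eq_self_of_surjective hq H, e, map_top_of_surjective q hq])
      exact PN72.nilpotent_image hp (hsol _ hK) (hsub _) (q.subgroupComap H)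
        (q.subgroupComap_surjective_of_surjective H hq) hcop
    have hQ : Group.IsSolvable (G ⧸ N) := by
      by_cases hc : (Nat.card (G ⧸ N)).Coprime p
      · exact Cfsg.Agent.Solvable.isSolvable_of_proper_nilpotent fun H hH =>
          hlift H hH (hc.coprime_dvd_left (card_subgroup_dvd_card H))
      · refine ih _ ?_ fun H hH => hlift H (fun e => hc (by rwa [e, card_top] at hH)) hH
        have h1 := N.card_eq_card_quotient_mul_card_subgroup
        have h2 : 1 < Nat.card ↥N := N.one_lt_card_iff_ne_bot.2 hN
        have h3 : 0 < Nat.card (G ⧸ N) := Nat.card_pos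
        have h4 := Nat.mul_le_mul_left (Nat.card (G ⧸ N)) h2
        omega
    exact hns (Group.isSolvable_of_ker_le_range N.subtype q (by simp [q]))

/-- Let p > 3 be a prime and G a finite group in which every subgroup of order prime to p is nilpotent. Then G is solvable. -/
theorem result {G : Type*} [Group G] [Finite G] (p : ℕ) (hp : p.Prime) (hp3 : 3 < p)
    (h : ∀ H : Subgroup G, (Nat.card ↥H).Coprime p → Group.IsNilpotent ↥H) : Group.IsSolvable G := by
  exact solvable_aux p hp hp3 (Nat.card G) G le_rfl h

end Cfsg.Agent.S3940
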