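import Cfsg.Statements.S3941

set_option autoImplicit false
set_option linter.all false
open Cfsg

namespace Cfsg.Agent.S3941

/-- Let n ≥ 5 and p an odd prime with p ≤ n, and suppose that every proper subgroup of the alternating group of degree n whose order is divisible by p has a normal Sylow p-subgroup. Then n = p. -/
theorem result (n p : ℕ) (hn : 5 ≤ n) [Fact p.Prime] (hp : p ≠ 2) (hpn : p ≤ n)
    (h : ∀ H : Subgroup ↥(alternatingGroup (Fin n)), H ≠ ⊤ → p ∣ Nat.card ↥H → Cfsg.IsPClosed p ↥H) : n = p := by
  by_contra hne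
  have hplt : p < n := lt_of_le_of_ne hpn (Ne.symm hne)
  have hp3 : 3 ≤ p := by
    have := (Fact.out : p.Prime).two_le
    omega
  obtain ⟨m, rfl⟩ : ∃ m, n = m + 1 := ⟨n - 1, by omega⟩
  let e : Fin m → Fin (m + 1) := Fin.castSucc
  let φ : alternatingGroup (Fin m) →* alternatingGroup (Fin (m + 1)) :=
    ((Equiv.Perm.extendDomainHom (p := fun x : Fin (m + 1) => x ≠ Fin.last m)
      (finSuccAboveEquiv (Fin.last m))).comp (alternatingGroup (Fin m)).subtype).codRestrict _
      fun x => by
        simp only [MonoidHom.coe_comp, Function.comp_apply, Equiv.Perm.mem_alternatingGroup,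
          Equiv.Perm.extendDomainHom_apply, Equiv.Perm.sign_extendDomain, Subgroup.coe_subtype]
        exact x.2
  have hinj : Function.Injective φ := fun a b hab =>
    Subtype.ext (Equiv.Perm.extendDomainHom_injective _ (congrArg Subtype.val hab))
  haveI : Nontrivial (Fin m) := Fin.nontrivial_iff_two_le.2 (by omega)
  have hcard : 2 * Nat.card (alternatingGroup (Fin m)) = m.factorial := by
    have := two_mul_card_alternatingGroup (α := Fin m)
    rw [Fintype.card_perm, Fintype.card_fin] at this
    rwa [Nat.card_eq_fintype_card]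
  have hdvd : p ∣ Nat.card (alternatingGroup (Fin m)) := by
    have h1 : p ∣ m.factorial := Nat.dvd_factorial (by omega) (by omega)
    rw [← hcard] at h1
    exact (Nat.Coprime.dvd_of_dvd_mul_left
      ((Nat.coprime_primes (Fact.out : p.Prime) Nat.prime_two).2 hp) h1)
  have hne_top : φ.range ≠ ⊤ := fun htop => by
    have h1 : Nat.card (alternatingGroup (Fin (m + 1))) = Nat.card (alternatingGroup (Fin m)) := by
      rw [← Subgroup.card_top, ← htop]
      exact (Nat.card_congr (MonoidHom.ofInjective hinj).toEquiv).symm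
    haveI : Nontrivial (Fin (m + 1)) := Fin.nontrivial_iff_two_le.2 (by omega)
    have h2 := two_mul_card_alternatingGroup (α := Fin (m + 1))
    rw [Fintype.card_perm, Fintype.card_fin, ← Nat.card_eq_fintype_card, h1, hcard,
      Nat.factorial_succ] at h2
    have := Nat.factorial_pos m
    nlinarith
  have hcl := h φ.range hne_top
    (by rwa [← Nat.card_congr (MonoidHom.ofInjective hinj).toEquiv])
  -- transport to `A_m`
  have hnorm : ∀ P : Sylow p (alternatingGroup (Fin m)),
      (P : Subgroup (alternatingGroup (Fin m))).Normal := by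
    intro P
    let eqv := MonoidHom.ofInjective hinj
    have := hcl (P.mapSurjective (f := eqv.toMonoidHom) eqv.surjective)
    have h2 : ((P : Subgroup (alternatingGroup (Fin m))).map eqv.toMonoidHom).comap eqv.toMonoidHom
        = P := Subgroup.comap_map_eq_self_of_injective eqv.injective _
    rw [← h2]
    exact Subgroup.Normal.comap this _
  obtain ⟨P⟩ : Nonempty (Sylow p (alternatingGroup (Fin m))) := inferInstance
  have hPbot : (P : Subgroup (alternatingGroup (Fin m))) ≠ ⊥ := P.ne_bot_of_dvd_card hdvd
  rcases Nat.lt_or_ge m 5 with hm | hm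
  · obtain rfl : m = 4 := by omega
    obtain rfl : p = 3 := by
      have : p = 3 ∨ p = 4 := by omega
      rcases this with rfl | rfl
      · rfl
      · exact absurd (Fact.out : (4 : ℕ).Prime) (by decide)
    haveI := hnorm P
    haveI : Unique (Sylow 3 (alternatingGroup (Fin 4))) := Sylow.unique_of_normal P (hnorm P)
    have hmem : ∀ x : alternatingGroup (Fin 4), x ^ 3 = 1 → x ∈ (P : Subgroup (alternatingGroup (Fin 4))) := by
      intro x hx
      have hpg : IsPGroup 3 (Subgroup.zpowers x) := by
        intro y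
        obtain ⟨k, hk⟩ := y.2
        refine ⟨1, Subtype.ext ?_⟩
        show ((y : alternatingGroup (Fin 4))) ^ (3 ^ 1) = 1
        rw [← hk, pow_one, ← zpow_natCast, ← zpow_mul, mul_comm, zpow_mul, zpow_natCast, hx,
          one_zpow]
      obtain ⟨Q, hQ⟩ := hpg.exists_le_sylow
      rw [Subsingleton.elim Q P] at hQ
      exact hQ (Subgroup.mem_zpowers x)
    obtain ⟨a, b, ha, hb, hab, hab2⟩ : ∃ a b : alternatingGroup (Fin 4),
        a ^ 3 = 1 ∧ b ^ 3 = 1 ∧ a * b ≠ 1 ∧ (a * b) ^ 2 = 1 := by decide +kernel
    obtain ⟨k, hk⟩ := P.2 ⟨a * b, mul_mem (hmem a ha) (hmem b hb)⟩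
    have hk' : (a * b) ^ 3 ^ k = 1 := congrArg Subtype.val hk
    have h1 := Nat.dvd_gcd (orderOf_dvd_of_pow_eq_one hk') (orderOf_dvd_of_pow_eq_one hab2)
    rw [show Nat.gcd (3 ^ k) 2 = 1 from Nat.Coprime.pow_left k (by decide)] at h1
    exact hab (orderOf_eq_one_iff.1 (Nat.dvd_one.1 h1))
  · haveI : IsSimpleGroup (alternatingGroup (Fin m)) :=
      alternatingGroup.isSimpleGroup (by rw [Nat.card_eq_fintype_card, Fintype.card_fin]; exact hm)
    rcases (hnorm P).eq_bot_or_eq_top with hP | hP
    · exact hPbot hP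
    · have hpg := P.2
      rw [hP] at hpg
      obtain ⟨k, hk⟩ := IsPGroup.iff_card.1 hpg
      rw [Subgroup.card_top] at hk
      have h2 : 2 ∣ Nat.card (alternatingGroup (Fin m)) := by
        have h4 : 4 ∣ m.factorial := Nat.dvd_factorial (by norm_num) (by omega)
        rw [← hcard] at h4
        omega
      rw [hk] at h2
      exact hp ((Nat.prime_dvd_prime_iff_eq Nat.prime_two (Fact.out : p.Prime)).1
        (Nat.prime_two.dvd_of_dvd_pow h2)).symm

end Cfsg.Agent.S3941
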