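import Cfsg.Statements.S3946
import Cfsg.Agent.FGS80.Kegel
import Mathlib.GroupTheory.SemidirectProduct

set_option autoImplicit false
open Cfsg

namespace Cfsg.Agent.S3946


/-- Call an automorphism α of order n of a group G splitting when x · α(x) · α²(x) ⋯ α^(n−1)(x) = 1 for every x ∈ G. A finite group admitting a splitting automorphism of prime order is nilpotent (this contains the case of a fixed-point-free automorphism of prime order). -/
theorem result {G : Type*} [Group G] [Finite G] (α : MulAut G) (hp : (orderOf α).Prime)
    (hsplit : ∀ x : G, (((List.range (orderOf α)).map (fun i : ℕ => (α ^ i) x)).prod = 1)) : Group.IsNilpotent G := by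
  classical
  set n := orderOf α with hn
  let φ : Subgroup.zpowers α →* MulAut G := (Subgroup.zpowers α).subtype
  let a : Subgroup.zpowers α := ⟨α, Subgroup.mem_zpowers α⟩
  let X := G ⋊[φ] Subgroup.zpowers α
  have : Finite (Subgroup.zpowers α) :=
    Nat.finite_of_card_ne_zero (by rw [Nat.card_zpowers]; exact hp.ne_zero)
  have : Finite X := Finite.of_equiv _ SemidirectProduct.equivProd.symm
  have ha : a ^ n = 1 := Subtype.ext (pow_orderOf_eq_one α)
  have key : ∀ (x : G) (k : ℕ), ((SemidirectProduct.inl x * SemidirectProduct.inr a : X) ^ k).left =
      (((List.range k).map (fun i : ℕ => (α ^ i) x)).prod) ∧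
      ((SemidirectProduct.inl x * SemidirectProduct.inr a : X) ^ k).right = a ^ k := by
    intro x k
    induction k with
    | zero => simp
    | succ k ih =>
      refine ⟨?_, ?_⟩
      · rw [pow_succ, SemidirectProduct.mul_left, ih.1, ih.2, List.range_succ, List.map_append,
          List.prod_append]
        have h1 : (SemidirectProduct.inl x * SemidirectProduct.inr a : X).left = x := by
          rw [SemidirectProduct.mul_left, SemidirectProduct.left_inl, SemidirectProduct.left_inr,
            SemidirectProduct.right_inl, map_one, mul_one]
        rw [h1]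
        simp [φ, a]
      · rw [pow_succ, SemidirectProduct.mul_right, ih.2, pow_succ, SemidirectProduct.mul_right,
          SemidirectProduct.right_inl, SemidirectProduct.right_inr, one_mul]
  have hrange : (SemidirectProduct.inl : G →* X).range.Normal := by
    rw [SemidirectProduct.range_inl_eq_ker_rightHom]
    infer_instance
  have hs : FGS80.Kegel.Splits n (SemidirectProduct.inl : G →* X).range
      (SemidirectProduct.inr a) := by
    refine ⟨?_, ?_, ?_⟩
    · rw [Subgroup.normalizer_eq_top]; exact Subgroup.mem_top _
    · rw [← map_pow, ha, map_one]
    · rintro _ ⟨x, rfl⟩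
      apply SemidirectProduct.ext
      · rw [(key x n).1, hsplit x]; rfl
      · rw [(key x n).2, ha]; rfl
  exact Group.nilpotent_of_mulEquiv (_h := FGS80.Kegel.isNilpotent_of_splits hp _ X _ _ hs rfl)
    (MonoidHom.ofInjective SemidirectProduct.inl_injective).symm

end Cfsg.Agent.S3946
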