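import Cfsg.Statements.S3949
import Mathlib.GroupTheory.OrderOfElement
import Mathlib.Logic.Function.Iterate
import Mathlib.Algebra.Group.End

set_option autoImplicit false
open Cfsg

namespace Cfsg.Agent.S3949

/-- Let G be a finite group and α an automorphism of G of order 2 such that the elements g·α(g)⁻¹ generate G. Let j be a positive integer such that 2^j divides the order of no element inverted by α. Then the set of values of the j-th iterate of the map c ↦ c·α(c)⁻¹ is exactly the set of elements of odd order inverted by α. -/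
theorem result {G : Type*} [Group G] [Finite G] (α : MulAut G) (hα : orderOf α = 2) (hG : Subgroup.closure (Set.range (fun c : G => c * (α c)⁻¹)) = ⊤)
    (j : ℕ) (hj : ∀ g : G, α g = g⁻¹ → ¬ 2 ^ j ∣ orderOf g) :
    Set.range ((fun c : G => c * (α c)⁻¹)^[j]) = {g : G | Odd (orderOf g) ∧ α g = g⁻¹} := by
  set f : G → G := fun c => c * (α c)⁻¹ with hf
  have hα2 : ∀ c, α (α c) = c := fun c => by
    have h1 : α * α = 1 := by rw [← pow_two, ← hα, pow_orderOf_eq_one]
    exact DFunLike.congr_fun h1 c
  have hfi : ∀ c, α (f c) = (f c)⁻¹ := fun c => by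
    simp only [hf, map_mul, map_inv, hα2, mul_inv_rev, inv_inv]
  have hstep : ∀ (i : ℕ) (u : G), α u = u⁻¹ → f^[i] u = u ^ (2 ^ i) := by
    intro i u hu
    induction i with
    | zero => simp
    | succ i ih =>
      rw [Function.iterate_succ_apply', ih]
      show u ^ (2 ^ i) * (α (u ^ (2 ^ i)))⁻¹ = _
      rw [map_pow, hu, inv_pow, inv_inv, ← pow_add]
      congr 1
      ring
  ext u
  constructor
  · rintro ⟨c, rfl⟩
    cases j with
    | zero => exact absurd (one_dvd _) (hj 1 (by simp))
    | succ i =>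
      rw [Function.iterate_succ_apply, hstep i _ (hfi c)]
      refine ⟨?_, by rw [map_pow, hfi, inv_pow]⟩
      have hnd := hj (f c) (hfi c)
      rw [orderOf_pow, ← Nat.not_even_iff_odd, even_iff_two_dvd]
      intro h2
      obtain ⟨a, -, ha⟩ := (Nat.dvd_prime_pow Nat.prime_two).mp (Nat.gcd_dvd_right (orderOf (f c)) (2 ^ i))
      rw [ha] at h2
      have h3 : 2 ^ (a + 1) ∣ orderOf (f c) := by
        rw [pow_succ]
        exact Nat.mul_dvd_of_dvd_div (ha ▸ Nat.gcd_dvd_left _ _) h2
      have h4 : 2 ^ (a + 1) ∣ Nat.gcd (orderOf (f c)) (2 ^ i) := by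
        refine Nat.dvd_gcd h3 (pow_dvd_pow 2 ?_)
        by_contra hai
        exact hnd ((pow_dvd_pow 2 (by omega)).trans h3)
      rw [ha] at h4
      have := Nat.pow_dvd_pow_iff_le_right (show 1 < 2 by norm_num) |>.mp h4
      omega
  · rintro ⟨hodd, hu⟩
    obtain ⟨k, hk⟩ := exists_pow_eq_self_of_coprime (x := u) (n := 2 ^ j)
      (Nat.Coprime.pow_left _ (Nat.coprime_two_left.mpr hodd))
    refine ⟨u ^ k, ?_⟩
    rw [hstep j _ (by rw [map_pow, hu, inv_pow]), ← pow_mul, mul_comm, pow_mul]
    exact hk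

end Cfsg.Agent.S3949
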