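import Cfsg.Statements.S3951
import Cfsg.Agent.Lib.Schur.Product

set_option autoImplicit false
set_option linter.all false
open Cfsg

namespace Cfsg.Agent.S3951

/-- For positive integers `m` and `n` with `n` dividing `m`, the Schur multiplier of the abelian group `ZMod m × ZMod n` (written multiplicatively) is cyclic of order `n`. In particular the elementary abelian group of order `p ^ 2` has multiplier of order `p`. -/
theorem result (m n : ℕ) [NeZero m] [NeZero n] (hnm : n ∣ m) : Cfsg.HasCyclicSchurMultiplier (Multiplicative (ZMod m × ZMod n)) n := by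
  have hm : Cfsg.HasCyclicSchurMultiplier (Multiplicative (ZMod m)) 1 :=
    Schur.hasCyclicSchurMultiplier_of_isCyclic
  have hn : Cfsg.HasCyclicSchurMultiplier (Multiplicative (ZMod n)) 1 :=
    Schur.hasCyclicSchurMultiplier_of_isCyclic
  have h := Schur.hasSchurMultiplier_congr (MulEquiv.prodMultiplicative (ZMod m) (ZMod n)).symm
    (Schur.hasSchurMultiplier_prod hm hn)
  refine Schur.hasSchurMultiplier_of_equiv h ?_
  haveI : Subsingleton (Multiplicative (ZMod 1)) := Multiplicative.toAdd.subsingleton
  haveI : Unique (Multiplicative (ZMod 1)) := uniqueOfSubsingleton 1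
  refine (MulEquiv.uniqueProd.trans MulEquiv.uniqueProd).trans (AddEquiv.toMultiplicative ?_)
  let eₘ : Additive (Abelianization (Multiplicative (ZMod m))) ≃+ ZMod m :=
    (MulEquiv.toAdditive (Abelianization.equivOfComm (H := Multiplicative (ZMod m))).symm).trans
      (AddEquiv.additiveMultiplicative (ZMod m))
  let eₙ : Additive (Abelianization (Multiplicative (ZMod n))) ≃+ ZMod n :=
    (MulEquiv.toAdditive (Abelianization.equivOfComm (H := Multiplicative (ZMod n))).symm).trans
      (AddEquiv.additiveMultiplicative (ZMod n))
  refine (TensorProduct.congr eₘ.toIntLinearEquiv eₙ.toIntLinearEquiv).toAddEquiv.trans ?_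
  let f : TensorProduct ℤ (ZMod m) (ZMod n) →+ ZMod n := TensorProduct.liftAddHom
    (AddMonoidHom.mk' (fun a => AddMonoidHom.mulLeft (ZMod.castHom hnm (ZMod n) a)) fun a b => by
      ext c
      show ZMod.castHom hnm (ZMod n) (a + b) * c = _
      rw [map_add, add_mul]
      rfl) fun r a b => by
        show ZMod.castHom hnm (ZMod n) (r • a) * b = ZMod.castHom hnm (ZMod n) a * (r • b)
        rw [map_zsmul, smul_mul_assoc, mul_smul_comm]
  let g : ZMod n →+ TensorProduct ℤ (ZMod m) (ZMod n) :=
    (TensorProduct.mk ℤ (ZMod m) (ZMod n) 1).toAddMonoidHom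
  exact
    { toFun := f
      invFun := g
      left_inv := fun t => by
        induction t using TensorProduct.induction_on with
        | zero => simp
        | tmul a b =>
          obtain ⟨k, rfl⟩ := ZMod.intCast_surjective a
          show (1 : ZMod m) ⊗ₜ[ℤ] (ZMod.castHom hnm (ZMod n) ((k : ℤ) : ZMod m) * b) = _
          rw [map_intCast, ← zsmul_eq_mul, TensorProduct.tmul_smul, TensorProduct.smul_tmul', zsmul_one]
        | add x y hx hy => rw [map_add, map_add, hx, hy]
      right_inv := fun c => by
        show ZMod.castHom hnm (ZMod n) 1 * c = c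
        rw [map_one, one_mul]
      map_add' := map_add f }

end Cfsg.Agent.S3951
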