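import Cfsg.Statements.S3952
import Cfsg.Agent.Lib.Schur.Projective

set_option autoImplicit false
set_option linter.all false
open Cfsg
open scoped IsMulCommutative

namespace Cfsg.Agent.S3952

/-- If `A` is the Schur multiplier of the finite group `Q`, then the square of the exponent of `A` divides the order of `Q`. -/
theorem result {Q : Type*} [Group Q] [Finite Q] {A : Type*} [CommGroup A] (hA : Cfsg.HasSchurMultiplier Q A) : Monoid.exponent A ^ 2 ∣ Nat.card Q := by
  haveI : Finite A := Schur.finite_multiplier hA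
  obtain ⟨eA⟩ := Schur.nonempty_mulEquiv_mult hA
  have he : Monoid.exponent A ≠ 0 := Monoid.exponent_ne_zero_of_finite
  have hQ : Nat.card Q ≠ 0 := Nat.card_pos.ne'
  rw [← Nat.factorization_le_iff_dvd (pow_ne_zero 2 he) hQ]
  intro p
  by_cases hp : p.Prime
  swap
  · simp [Nat.factorization_eq_zero_of_not_prime _ hp]
  haveI := Fact.mk hp
  rw [Nat.factorization_pow, Finsupp.smul_apply, smul_eq_mul]
  set a := (Monoid.exponent A).factorization p with ha
  obtain ⟨g, hg⟩ := Monoid.exists_orderOf_eq_exponent (Monoid.ExponentExists.of_finite (G := A))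
  -- an element of order `p ^ a` in the `p`-part
  obtain ⟨x, hx⟩ : ∃ x : A, orderOf x = p ^ a :=
    ⟨g ^ (Monoid.exponent A / p ^ a), by
      rw [← hg]
      exact orderOf_pow_orderOf_div (hg ▸ he) (hg ▸ Nat.ordProj_dvd _ _)⟩
  have hxp : x ∈ CommGroup.primaryComponent A p := ⟨a, by rw [← hx]; exact pow_orderOf_eq_one x⟩
  let P : Sylow p Q := default
  letI : CommGroup (Schur.Mult (P : Subgroup Q)) :=
    { (inferInstance : Group (Schur.Mult (P : Subgroup Q))) with
      mul_comm := fun a b => Subtype.ext (Subgroup.mem_center_iff.1 (Schur.mult_le_center _ b.2) a.1) }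
  obtain ⟨C, D, -, -, ⟨e⟩⟩ := Schur.exists_primaryComponent_retract p (P : Subgroup Q) P.not_dvd_index
    eA (MulEquiv.refl (Schur.Mult (P : Subgroup Q)))
  let y : Schur.Mult (P : Subgroup Q) := (e ⟨x, hxp⟩ : C)
  have hy : orderOf y = p ^ a := by
    have h1 : orderOf (⟨x, hxp⟩ : CommGroup.primaryComponent A p) = p ^ a :=
      (orderOf_injective (CommGroup.primaryComponent A p).subtype Subtype.val_injective ⟨x, hxp⟩).symm.trans hx
    rw [show y = C.subtype (e ⟨x, hxp⟩) from rfl, orderOf_injective C.subtype Subtype.val_injective,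
      MulEquiv.orderOf_eq, h1]
  obtain ⟨Γ, _, _, σ, hσ, ⟨eσ⟩⟩ := Schur.exists_cover (P : Subgroup Q)
  obtain ⟨n, hn⟩ := IsPGroup.iff_card.1 P.isPGroup'
  have hna : n ≤ (Nat.card Q).factorization p :=
    (hp.pow_dvd_iff_le_factorization hQ).1 (hn ▸ Subgroup.card_subgroup_dvd_card (P : Subgroup Q))
  rcases Nat.eq_zero_or_pos a with h0 | h0
  · simp [h0]
  haveI : IsMulCommutative σ.ker :=
    ⟨⟨fun a b => Subtype.ext (Subgroup.mem_center_iff.1 (hσ.2.1 b.2) a.1)⟩⟩
  let z : σ.ker := eσ.symm y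
  have hz : orderOf z = p ^ a := by rw [MulEquiv.orderOf_eq, hy]
  have hz1 : z ^ p ^ (a - 1) ≠ 1 := fun h => by
    have h2 := Nat.le_of_dvd (pow_pos hp.pos _) (hz ▸ orderOf_dvd_of_pow_eq_one h)
    exact absurd h2 (not_le.2 (Nat.pow_lt_pow_right hp.one_lt (by omega)))
  haveI : NeZero (Monoid.exponent σ.ker) := ⟨Monoid.exponent_ne_zero_of_finite⟩
  obtain ⟨μ, hμ⟩ := CommGroup.exists_apply_ne_one_of_hasEnoughRootsOfUnity σ.ker ℂ hz1
  rw [map_pow] at hμ
  obtain ⟨d, hd0, hd2, ρ, hρ⟩ := Schur.exists_rep_central_char σ.ker hσ.2.1 μ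
  have hμz : (μ z) ^ d = 1 := by
    have h1 : Matrix.GeneralLinearGroup.det (ρ z) = 1 :=
      (MonoidHom.mem_ker (f := (Matrix.GeneralLinearGroup.det).comp ρ)).1
        (Abelianization.commutator_subset_ker _ (hσ.2.2 z.2))
    rw [hρ z] at h1
    refine Units.ext ?_
    have h2 := congrArg Units.val h1
    simpa [Matrix.GeneralLinearGroup.det, Matrix.GeneralLinearGroup.scalar] using h2
  have hord : orderOf (μ z) = p ^ a := by
    have h1 : orderOf (μ z) ∣ p ^ a := hz ▸ orderOf_map_dvd μ z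
    obtain ⟨k, hk, hk'⟩ := (Nat.dvd_prime_pow hp).1 h1
    rw [hk']
    by_contra hne
    have hlt : k ≤ a - 1 := by
      rcases hk.lt_or_eq with h | h
      · omega
      · exact absurd (by rw [h]) hne
    exact hμ (orderOf_dvd_iff_pow_eq_one.1 (hk' ▸ pow_dvd_pow p hlt))
  have hda : p ^ a ≤ d := Nat.le_of_dvd hd0 (hord ▸ orderOf_dvd_of_pow_eq_one hμz)
  have hidx : σ.ker.index = p ^ n := by
    rw [Subgroup.index_ker, MonoidHom.range_eq_top_of_surjective σ hσ.1, Subgroup.card_top, hn]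
  have h3 : p ^ (2 * a) ≤ p ^ n := by
    rw [← hidx, two_mul, pow_add]
    exact (Nat.mul_le_mul hda hda).trans hd2
  exact ((Nat.pow_le_pow_iff_right hp.one_lt).1 h3).trans hna

end Cfsg.Agent.S3952
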