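import Cfsg.Statements.S3954
import Cfsg.Agent.Lib.Schur.Transfer

set_option autoImplicit false
set_option linter.all false
open Cfsg

namespace Cfsg.Agent.S3954

/-- Let `U` be a subgroup of index `m` in the finite group `G`, let `A` be the Schur multiplier of `G` and `B` that of `U`. Then the subgroup of `m`-th powers of `A` is isomorphic to a subgroup of `B`. -/
theorem result {G : Type*} [Group G] [Finite G] (U : Subgroup G) {A B : Type*} [CommGroup A] [CommGroup B] (hA : Cfsg.HasSchurMultiplier G A) (hB : Cfsg.HasSchurMultiplier U B) : ∃ C : Subgroup B, Nonempty ((powMonoidHom U.index : A →* A).range ≃* C) := by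
  haveI := Schur.finite_of_hasSchurMultiplier hA
  obtain ⟨eA⟩ := Schur.nonempty_mulEquiv_mult hA
  obtain ⟨eB⟩ := Schur.nonempty_mulEquiv_mult hB
  obtain ⟨i, hi⟩ := Schur.exists_embedding_pow_range U
  let f : (powMonoidHom U.index : A →* A).range →* B :=
    eB.symm.toMonoidHom.comp (i.comp
      ((eA.toMonoidHom.comp (powMonoidHom U.index : A →* A).range.subtype).codRestrict _ fun x => by
        obtain ⟨y, hy⟩ := x.2
        refine ⟨eA y, ?_⟩
        show (eA y) ^ U.index = eA (x : A)
        rw [← map_pow]
        exact congrArg eA hy))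
  have hf : Function.Injective f := eB.symm.injective.comp (hi.comp fun a b h =>
    Subtype.ext (eA.injective (congrArg Subtype.val h)))
  exact ⟨f.range, ⟨MonoidHom.ofInjective hf⟩⟩

end Cfsg.Agent.S3954
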