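import Cfsg.Statements.S3957
import Cfsg.Agent.Lib.Schur.Basic

set_option autoImplicit false
set_option linter.all false
universe u v
open Cfsg

namespace Cfsg.Agent.S3957

/-- Let `Q` be a finite group with Schur multiplier `A` and let `τ : Δ →* Q` be a finite stem extension, `Δ` in the universe of `Q`. Then there is a finite stem extension `σ : Γ →* Q` with kernel isomorphic to `A` (a Schur covering group) and a surjective homomorphism `β : Γ →* Δ` with `τ ∘ β = σ`. -/
theorem result {Q : Type u} [Group Q] [Finite Q] {A : Type v} [CommGroup A] (hA : Cfsg.HasSchurMultiplier Q A) {Δ : Type u} [Group Δ] [Finite Δ] (τ : Δ →* Q) (hτ : Cfsg.IsStemExtension τ) : ∃ (Γ : Type u) (_ : Group Γ) (_ : Finite Γ) (σ : Γ →* Q), Cfsg.IsStemExtension σ ∧ Nonempty (σ.ker ≃* A) ∧ ∃ β : Γ →* Δ, Function.Surjective β ∧ τ.comp β = σ := by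
  haveI : Finite A := Schur.finite_multiplier hA
  obtain ⟨e⟩ := Schur.nonempty_mulEquiv_mult hA
  obtain ⟨ψ, hψ⟩ := Schur.exists_preLift (Schur.stdPres Q) τ hτ.1 hτ.2.1
  have hm := Schur.map_mult (Schur.stdPres Q) Schur.stdPres_surjective τ hτ.2.1 ψ hψ
  rw [inf_eq_left.2 hτ.2.2] at hm
  let D : Subgroup (Schur.Pre (Schur.stdPres Q)) := ψ.ker
  have hD : D ≤ (Schur.preHom (Schur.stdPres Q)).ker := fun x hx => by
    rw [MonoidHom.mem_ker, ← hψ, MonoidHom.comp_apply, hx, map_one]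
  have hD2 : (Schur.preHom (Schur.stdPres Q)).ker ≤ D ⊔ Schur.mult (Schur.stdPres Q) := by
    intro x hx
    have h1 : ψ x ∈ τ.ker := by
      rw [MonoidHom.mem_ker, ← MonoidHom.comp_apply, hψ]; exact hx
    rw [← hm] at h1
    obtain ⟨m, hm', hmx⟩ := h1
    rw [show x = (x * m⁻¹) * m by group]
    exact Subgroup.mul_mem_sup (by simp [D, MonoidHom.mem_ker, hmx]) hm'
  obtain ⟨C, hC, hinf, hsup⟩ := Schur.exists_complement (Schur.stdPres Q) D hD hD2
  have hC' := hC.trans hD
  haveI := Schur.normal_of_le_center _ hC'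
  obtain ⟨h1, h2, ⟨e'⟩⟩ := Schur.isStemExtension_cover _ Schur.stdPres_surjective C hC' hinf hsup
  refine ⟨_, inferInstance, h2, _, h1, ⟨e'.trans e.symm⟩, QuotientGroup.lift C ψ hC, ?_, ?_⟩
  · intro d
    obtain ⟨x, hx⟩ := Schur.preHom_surjective _ (Schur.stdPres_surjective (G := Q)) (τ d)
    have h3 : (ψ x)⁻¹ * d ∈ τ.ker := by
      rw [MonoidHom.mem_ker, map_mul, map_inv, ← MonoidHom.comp_apply, hψ, hx, inv_mul_cancel]
    rw [← hm] at h3
    obtain ⟨m, -, hmd⟩ := h3
    exact ⟨QuotientGroup.mk (x * m), by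
      rw [QuotientGroup.lift_mk, map_mul, hmd, mul_inv_cancel_left]⟩
  · apply MonoidHom.ext
    intro y
    obtain ⟨x, rfl⟩ := QuotientGroup.mk_surjective y
    exact DFunLike.congr_fun hψ x

end Cfsg.Agent.S3957
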