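import Cfsg.Statements.S3958
import Cfsg.Agent.Lib.Schur.Basic

set_option autoImplicit false
set_option linter.all false
universe u v
open Cfsg

namespace Cfsg.Agent.S3958

/-- Let `σ : Γ →* Q` be a finite stem extension of the finite group `Q` with `Γ` of trivial Schur multiplier. Then `σ` is a Schur covering group of `Q`: for every finite stem extension `τ : Δ →* Q` with `Δ` in the same universe as `Q`, the kernel of `τ` is a homomorphic image of the kernel of `σ`. -/
theorem result {Q : Type u} [Group Q] [Finite Q] {Γ : Type v} [Group Γ] [Finite Γ] (σ : Γ →* Q) (hσ : Cfsg.IsStemExtension σ) (hΓ : Cfsg.HasCyclicSchurMultiplier Γ 1) (Δ : Type u) [Group Δ] [Finite Δ] (τ : Δ →* Q) (hτ : Cfsg.IsStemExtension τ) : ∃ π : σ.ker →* τ.ker, Function.Surjective π := by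
  obtain ⟨π, hπ⟩ := Schur.exists_surjective_of_stem τ hτ
  obtain ⟨ψ, hψ⟩ := Schur.exists_preLift (Schur.stdPres Q) σ hσ.1 hσ.2.1
  have hm := Schur.map_mult (Schur.stdPres Q) Schur.stdPres_surjective σ hσ.2.1 ψ hψ
  rw [inf_eq_left.2 hσ.2.2] at hm
  -- the pull-back of the free central extension along σ
  let P : Subgroup (Γ × Schur.Pre (Schur.stdPres Q)) :=
    (σ.comp (MonoidHom.fst _ _)).eqLocus ((Schur.preHom _).comp (MonoidHom.snd _ _))
  let ρ : P →* Γ := (MonoidHom.fst _ _).comp P.subtype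
  have hρ : Function.Surjective ρ := fun γ => by
    obtain ⟨x, hx⟩ := Schur.preHom_surjective _ (Schur.stdPres_surjective (G := Q)) (σ γ)
    exact ⟨⟨(γ, x), hx.symm⟩, rfl⟩
  have hρc : ρ.ker ≤ Subgroup.center P := by
    rintro ⟨⟨γ, x⟩, hx⟩ h
    have hγ : γ = 1 := h
    subst hγ
    have hx' : x ∈ (Schur.preHom (Schur.stdPres Q)).ker := by
      have : σ 1 = Schur.preHom (Schur.stdPres Q) x := hx
      rw [MonoidHom.mem_ker, ← this, map_one]
    rw [Subgroup.mem_center_iff]
    rintro ⟨⟨γ', x'⟩, hx''⟩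
    refine Subtype.ext (Prod.ext ?_ ?_)
    · show γ' * 1 = 1 * γ'
      simp
    · exact Subgroup.mem_center_iff.1 (Schur.preHom_ker_le_center _ hx') x'
  have hbot := Schur.ker_inf_commutator_eq_bot hΓ ρ hρ hρc
  let ι : Schur.Pre (Schur.stdPres Q) →* P :=
    (ψ.prod (MonoidHom.id _)).codRestrict P fun x => DFunLike.congr_fun hψ x
  have hinj : Function.Injective (ψ.subgroupMap (Schur.mult (Schur.stdPres Q))) := by
    rw [injective_iff_map_eq_one]
    intro x hx
    have h1 : ψ x = 1 := congrArg Subtype.val hx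
    have h2 : ι x ∈ (⊥ : Subgroup P) := by
      rw [← hbot]
      refine Subgroup.mem_inf.2 ⟨h1, ?_⟩
      have : (commutator (Schur.Pre (Schur.stdPres Q))).map ι ≤ commutator P := by
        rw [commutator_def, Subgroup.map_commutator, commutator_def]
        exact Subgroup.commutator_mono le_top le_top
      exact this (Subgroup.mem_map_of_mem _ x.2.2)
    have h3 := congrArg (fun y : P => (y : Γ × Schur.Pre (Schur.stdPres Q)).2) (Subgroup.mem_bot.1 h2)
    exact Subtype.ext h3
  let e := (MulEquiv.ofBijective _ ⟨hinj, ψ.subgroupMap_surjective (Schur.mult (Schur.stdPres Q))⟩).trans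
    (MulEquiv.subgroupCongr hm)
  exact ⟨π.comp e.symm.toMonoidHom, hπ.comp e.symm.surjective⟩

end Cfsg.Agent.S3958
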