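import Cfsg.Statements.S3961
import Cfsg.Agent.Lib.Schur.Perfect

set_option autoImplicit false
set_option linter.all false
universe u v
open Cfsg
open scoped commutatorElement

namespace Cfsg.Agent.S3961

/-- Let `π : G →* Q` be a surjective homomorphism with central kernel from a finite perfect group `G` (a perfect cover of `Q`). Then `π` is universal, in the sense that every surjective homomorphism `ξ : X →* Q` with central kernel from a group `X` in the universe of `G` admits a homomorphism `η : G →* X` with `ξ ∘ η = π`, if and only if `G` has trivial Schur multiplier. -/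
theorem result {G : Type u} {Q : Type v} [Group G] [Group Q] [Finite G] (hG : Group.IsPerfect G) (π : G →* Q) (hπ : Function.Surjective π) (hker : π.ker ≤ Subgroup.center G) : (∀ (X : Type u) [Group X] (ξ : X →* Q), Function.Surjective ξ → ξ.ker ≤ Subgroup.center X → ∃ η : G →* X, ξ.comp η = π) ↔ Cfsg.HasCyclicSchurMultiplier G 1 := by
  constructor
  · intro h
    refine Schur.hasCyclicSchurMultiplier_one_of_forall fun Γ _ _ σ hσ => ?_
    have hΓ := Schur.isPerfect_of_stem hG σ hσ
    have hc : (π.comp σ).ker ≤ Subgroup.center Γ := fun x hx =>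
      Schur.mem_center_of_perfect hΓ x fun g => hσ.2.1 (by
        rw [MonoidHom.mem_ker, map_commutatorElement, commutatorElement_eq_one_iff_mul_comm]
        exact (Subgroup.mem_center_iff.1 (hker hx) (σ g)).symm)
    obtain ⟨η, hη⟩ := h Γ (π.comp σ) (hπ.comp hσ.1) hc
    have h1 : ∀ g, σ (η g) = g := DFunLike.congr_fun
      (Schur.hom_ext_of_perfect hG π hker (σ.comp η) (MonoidHom.id G) hη)
    have h2 := Schur.commutator_eq_map σ hσ.2.1 η fun g => ⟨g, h1 g⟩
    rw [eq_bot_iff]
    intro x hx
    have h3 : x ∈ commutator Γ := hσ.2.2 hx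
    rw [h2] at h3
    obtain ⟨g, -, rfl⟩ := h3
    rw [MonoidHom.mem_ker, h1] at hx
    simp [hx]
  · intro h X _ ξ hξ hξc
    exact Schur.exists_lift_of_trivial hG h π ξ hξ hξc

end Cfsg.Agent.S3961
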