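import Cfsg.Statements.S3966
import Mathlib

set_option autoImplicit false
set_option linter.all false
open Cfsg
open scoped commutatorElement

namespace Cfsg.Agent.S3966

/-- For even `n ≥ 2` the dicyclic group of order `4 n` is a stem extension of the dihedral group of order `2 n` with kernel of order `2`: there is a surjective homomorphism `QuaternionGroup n →* DihedralGroup n` whose kernel is central, lies in the commutator subgroup and has two elements. Together with the order of the multiplier this exhibits the dicyclic group as a Schur covering group of the dihedral group. -/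
theorem result (n : ℕ) [NeZero n] (hn : Even n) : ∃ σ : QuaternionGroup n →* DihedralGroup n, Cfsg.IsStemExtension σ ∧ Nat.card σ.ker = 2 := by
  let c : ZMod (2 * n) →+* ZMod n := ZMod.castHom (dvd_mul_left n 2) (ZMod n)
  let σ : QuaternionGroup n →* DihedralGroup n := MonoidHom.mk' (fun x => match x with
    | QuaternionGroup.a i => DihedralGroup.r (c i)
    | QuaternionGroup.xa i => DihedralGroup.sr (c i)) (by
      rintro (i | i) (j | j) <;> simp [c, map_sub, map_add])
  have hn2 : (c (n : ZMod (2 * n))) = 0 := by rw [map_natCast, ZMod.natCast_self]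
  have hker : ∀ x, σ x = 1 ↔ x = 1 ∨ x = QuaternionGroup.a (n : ZMod (2 * n)) := by
    rintro (i | i)
    · constructor
      · intro h
        have hi : c i = 0 := DihedralGroup.r.inj (h.trans DihedralGroup.one_def)
        obtain ⟨k, rfl⟩ := ZMod.intCast_surjective i
        rw [map_intCast, ZMod.intCast_zmod_eq_zero_iff_dvd] at hi
        obtain ⟨q, rfl⟩ := hi
        obtain ⟨w, rfl⟩ | ⟨w, rfl⟩ := Int.even_or_odd q
        · left
          rw [QuaternionGroup.one_def]
          congr 1
          rw [ZMod.intCast_zmod_eq_zero_iff_dvd]
          exact ⟨w, by push_cast; ring⟩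
        · right
          congr 1
          have : ((2 * n : ℕ) : ZMod (2 * n)) = 0 := ZMod.natCast_self _
          push_cast at this ⊢
          linear_combination (w : ZMod (2 * n)) * this
      · rintro (h | h)
        · rw [h, map_one]
        · rw [h]
          show DihedralGroup.r (c (n : ZMod (2 * n))) = 1
          rw [hn2]; rfl
    · constructor
      · intro h
        have h' : DihedralGroup.sr (c i) = DihedralGroup.r 0 := h
        exact absurd h' (fun h' => nomatch h')
      · rintro (h | h)
        · exact absurd (h.trans QuaternionGroup.one_def) (fun h' => nomatch h')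
        · exact absurd h (fun h' => nomatch h')
  have hne : QuaternionGroup.a (n : ZMod (2 * n)) ≠ 1 := by
    rw [QuaternionGroup.one_def]
    intro h
    have := QuaternionGroup.a.inj h
    rw [ZMod.natCast_eq_zero_iff] at this
    have := Nat.le_of_dvd (Nat.pos_of_ne_zero (NeZero.ne n)) this
    have := NeZero.ne n
    omega
  refine ⟨σ, ⟨?_, ?_, ?_⟩, ?_⟩
  · rintro (i | i)
    · obtain ⟨k, rfl⟩ := ZMod.intCast_surjective i
      exact ⟨QuaternionGroup.a k, by show DihedralGroup.r (c _) = _; rw [map_intCast]⟩
    · obtain ⟨k, rfl⟩ := ZMod.intCast_surjective i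
      exact ⟨QuaternionGroup.xa k, by show DihedralGroup.sr (c _) = _; rw [map_intCast]⟩
  · intro x hx
    rw [Subgroup.mem_center_iff]
    have h2 : -(n : ZMod (2 * n)) = n := by
      have : ((2 * n : ℕ) : ZMod (2 * n)) = 0 := ZMod.natCast_self _
      push_cast at this
      linear_combination -this
    rcases (hker x).1 hx with rfl | rfl
    · simp
    · rintro (j | j)
      · simp [add_comm]
      · simp [sub_eq_add_neg, h2, add_comm]
  · intro x hx
    rcases (hker x).1 hx with rfl | rfl
    · exact one_mem _
    · obtain ⟨w, hw⟩ := hn
      have h : QuaternionGroup.a (n : ZMod (2 * n)) =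
          ⁅QuaternionGroup.xa (0 : ZMod (2 * n)), QuaternionGroup.a (w : ZMod (2 * n))⁆ := by
        have : ((2 * n : ℕ) : ZMod (2 * n)) = 0 := ZMod.natCast_self _
        push_cast at this
        have hn' : (n : ZMod (2 * n)) = (w : ZMod (2 * n)) + w := by
          rw [← Nat.cast_add, ← hw]
        rw [commutatorElement_def, eq_mul_inv_iff_mul_eq, eq_mul_inv_iff_mul_eq]
        simp only [QuaternionGroup.a_mul_a, QuaternionGroup.a_mul_xa, QuaternionGroup.xa_mul_a]
        congr 1
        linear_combination (-1 : ZMod (2 * n)) * this + hn'
      rw [h]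
      exact Subgroup.commutator_mem_commutator (Subgroup.mem_top _) (Subgroup.mem_top _)
  · have e : σ.ker ≃ ({1, QuaternionGroup.a (n : ZMod (2 * n))} : Set (QuaternionGroup n)) :=
      Equiv.subtypeEquivRight fun x => by simp [MonoidHom.mem_ker, hker]
    rw [Nat.card_congr e, Nat.card_coe_set_eq, Set.ncard_pair hne.symm]

end Cfsg.Agent.S3966
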