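import Cfsg.Statements.S3967
import Cfsg.Agent.Lib.Schur.Metacyclic

set_option autoImplicit false
set_option linter.all false
open Cfsg

namespace Cfsg.Agent.S3967

/-- Let `m, n ≥ 1`, `r ≥ 1` with `r ^ n ≡ 1 (mod m)`, and `l` a natural number; put `d = gcd(m, r - 1)`, `t = m l / d` and `h = d · gcd(m, 1 + r + ⋯ + r^(n-1)) / m`. The group presented by generators `a, b` and relations `a ^ m = 1`, `b ^ n = a ^ t`, `b a b⁻¹ = a ^ r` (a metacyclic group of order `m n`) has Schur multiplier cyclic of order `gcd(l, h)`. -/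
theorem result (m n r l : ℕ) (hm : 0 < m) (hn : 0 < n) (hr : 0 < r) (hrn : r ^ n ≡ 1 [MOD m]) : Cfsg.HasCyclicSchurMultiplier (PresentedGroup ({FreeGroup.of true ^ m, (FreeGroup.of false) ^ n * (FreeGroup.of true ^ (m * l / Nat.gcd m (r - 1)))⁻¹, FreeGroup.of false * FreeGroup.of true * (FreeGroup.of false)⁻¹ * (FreeGroup.of true ^ r)⁻¹} : Set (FreeGroup Bool))) (Nat.gcd l (Nat.gcd m (r - 1) * Nat.gcd m (∑ i ∈ Finset.range n, r ^ i) / m)) := by
  set d := Nat.gcd m (r - 1) with hd
  have hd0 : 0 < d := Nat.gcd_pos_of_pos_left _ hm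
  obtain ⟨k, hk⟩ : d ∣ m := Nat.gcd_dvd_left _ _
  obtain ⟨ρ, hρ⟩ : d ∣ r - 1 := Nat.gcd_dvd_right _ _
  have hk0 : 0 < k := Nat.pos_of_ne_zero fun h => by simp [h] at hk; omega
  have hcop : Nat.Coprime ρ k := by
    have h : Nat.gcd (d * k) (d * ρ) = d := by rw [← hk, ← hρ]
    rw [Nat.gcd_mul_left] at h
    exact (Nat.gcd_comm ρ k).trans ((Nat.mul_eq_left hd0.ne').1 h)
  set S := ∑ i ∈ Finset.range n, r ^ i with hS
  obtain ⟨s, hs⟩ : k ∣ S := by
    have h1 : S * (r - 1) + 1 = r ^ n := by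
      have := geom_sum_mul_add (r - 1) n
      rwa [show r - 1 + 1 = r from Nat.sub_add_cancel hr, ← hS] at this
    have h2 : m ∣ S * (r - 1) := by
      have := (Nat.modEq_iff_dvd' (Nat.one_le_pow n r hr)).1 hrn.symm
      rwa [← h1, Nat.add_sub_cancel] at this
    rw [hk, hρ, show S * (d * ρ) = d * (S * ρ) by ring] at h2
    exact hcop.symm.dvd_of_dvd_mul_right (Nat.dvd_of_mul_dvd_mul_left hd0 h2)
  have ht : m * l / d = k * l := by rw [hk, mul_assoc, Nat.mul_div_cancel_left _ hd0]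
  have hh : d * Nat.gcd m S / m = Nat.gcd d s := by
    rw [hk, hs, mul_comm d k, Nat.gcd_mul_left, ← mul_assoc, mul_comm d k,
      Nat.mul_div_cancel_left _ (Nat.mul_pos hk0 hd0)]
  obtain ⟨u, v, huv⟩ : ∃ u v : ℤ, u * ρ + v * k = 1 :=
    ⟨Nat.gcdA ρ k, Nat.gcdB ρ k, by
      have := Nat.gcd_eq_gcd_ab ρ k
      rw [hcop.gcd_eq_one] at this
      push_cast at this
      linarith⟩
  let D : Schur.MetaData :=
    { m := m, n := n, r := r, t := m * l / d, d := d, k := k, ρ := ρ, s := s, l := l, u := u, v := v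
      hm := hm, hn := hn
      hmk := by rw [hk, mul_comm]
      hr := by rw [mul_comm, ← hρ]; omega
      hS := hs
      ht := ht
      huv := huv }
  rw [hh]
  let rels : Set (FreeGroup Bool) := {FreeGroup.of true ^ m, (FreeGroup.of false) ^ n * (FreeGroup.of true ^ (m * l / d))⁻¹, FreeGroup.of false * FreeGroup.of true * (FreeGroup.of false)⁻¹ * (FreeGroup.of true ^ r)⁻¹}
  refine D.hasCyclicSchurMultiplier (PresentedGroup.of (rels := rels) true)
    (PresentedGroup.of (rels := rels) false) ?_ ?_ ?_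
  · rw [eq_top_iff, ← PresentedGroup.closure_range_of (rels := rels), Subgroup.closure_le]
    rintro _ ⟨(_ | _), rfl⟩
    · exact Subgroup.subset_closure (Set.mem_insert_of_mem _ rfl)
    · exact Subgroup.subset_closure (Set.mem_insert _ _)
  · have h : ∀ x ∈ rels, PresentedGroup.mk rels x = 1 := fun x hx => PresentedGroup.one_of_mem hx
    refine ⟨?_, ?_, ?_⟩
    · have := h (FreeGroup.of true ^ m) (by simp [rels])
      rwa [map_pow] at this
    · have := h _ (Set.mem_insert_of_mem _ (Set.mem_insert _ _))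
      rw [map_mul, map_inv, map_pow, map_pow] at this
      exact mul_inv_eq_one.1 this
    · have := h _ (Set.mem_insert_of_mem _ (Set.mem_insert_of_mem _ rfl))
      rw [map_mul, map_mul, map_mul, map_inv, map_inv, map_pow] at this
      exact mul_inv_eq_one.1 this
  · intro H _ a b hab
    obtain ⟨h1, h2, h3⟩ : a ^ m = 1 ∧ b ^ n = a ^ (m * l / d) ∧ b * a * b⁻¹ = a ^ r := hab
    let f : Bool → H := fun i => if i then a else b
    have hf : ∀ x ∈ rels, FreeGroup.lift f x = 1 := by
      intro x hx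
      rcases hx with rfl | rfl | rfl <;> simp [f, h1, h2, h3]
    exact ⟨PresentedGroup.toGroup hf, by simp [f], by simp [f]⟩

end Cfsg.Agent.S3967
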