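import Cfsg.Statements.S3968
import Cfsg.Agent.FG75.DegreeP

set_option autoImplicit false
set_option linter.all false
open Cfsg

namespace Cfsg.Agent.S3968

/-- Let `p` be a prime and `G` a finite group with a faithful irreducible complex character of degree `p` (so `G` is an irreducible linear group in `p` variables). If `p ^ 2` divides the order of `G`, then the centre of `G` is nontrivial. -/
theorem result {G : Type*} [Group G] [Finite G] (p : ℕ) (hp : p.Prime) (χ : Cfsg.IrrCharacter G) (hdeg : χ.1 1 = p) (hfaith : ∀ g : G, χ.1 g = χ.1 1 → g = 1) (hdiv : p ^ 2 ∣ Nat.card G) : Subgroup.center G ≠ ⊥ := by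
  haveI := Fact.mk hp
  obtain ⟨n, ρ, hirr, hρ⟩ := χ.2
  haveI := hirr
  have h1 := congrFun hρ 1
  rw [Representation.char_one, hdeg, Module.finrank_fin_fun] at h1
  refine FG75.center_ne_bot_of_degree_prime ρ (by exact_mod_cast h1) ?_ hdiv
  intro a b hab
  have h2 : ρ (b⁻¹ * a) = LinearMap.id := by
    rw [map_mul, hab, ← map_mul, inv_mul_cancel, map_one]; rfl
  have h3 := (CharCore.character_eq_finrank_iff ρ _).2 h2
  have h4 : χ.1 (b⁻¹ * a) = χ.1 1 := by rw [← hρ, h3, Representation.char_one]
  exact (inv_mul_eq_one.1 (hfaith _ h4)).symm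

end Cfsg.Agent.S3968
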