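import Cfsg.Statements.S3971
import Cfsg.Agent.FG75.FrattiniAction

set_option autoImplicit false
set_option linter.all false
open Cfsg

namespace Cfsg.Agent.S3971

/-- Let `G` be a finite group of order `2 ^ a * n` with `n` odd and not divisible by `3`, and suppose `G` has an element of order `2 ^ (a - 1)` (so a Sylow `2`-subgroup has a cyclic subgroup of index at most `2`). Then `G` has a normal subgroup of order `n`. -/
theorem result {G : Type*} [Group G] [Finite G] (a n : ℕ) (hG : Nat.card G = 2 ^ a * n) (hn : Odd n) (h3 : ¬ 3 ∣ n) (hx : ∃ x : G, orderOf x = 2 ^ (a - 1)) : ∃ N : Subgroup G, N.Normal ∧ Nat.card N = n := by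
  classical
  haveI : Fact (Nat.Prime 2) := ⟨Nat.prime_two⟩
  obtain ⟨x, hx⟩ := hx
  have hxp : IsPGroup 2 (Subgroup.zpowers x) := IsPGroup.of_card (n := a - 1) (by rw [Nat.card_zpowers, hx])
  obtain ⟨P, hxP⟩ := hxp.exists_le_sylow
  have hfac : (Nat.card G).factorization 2 = a := by
    rw [hG, Nat.factorization_mul (by positivity) hn.pos.ne', Finsupp.add_apply,
      Nat.Prime.factorization_pow Nat.prime_two, Finsupp.single_eq_same,
      Nat.factorization_eq_zero_of_not_dvd hn.not_two_dvd_nat, add_zero]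
  have hcP : Nat.card (P : Subgroup G) = 2 ^ a := by rw [P.card_eq_multiplicity, hfac]
  have hrel : (Subgroup.zpowers x).relIndex (P : Subgroup G) ≤ 2 := by
    have h1 := Subgroup.relIndex_mul_relIndex ⊥ (Subgroup.zpowers x) (P : Subgroup G) bot_le hxP
    rw [Subgroup.relIndex_bot_left, Subgroup.relIndex_bot_left, mul_comm] at h1
    rw [Nat.card_zpowers, hx, hcP] at h1
    rcases Nat.eq_zero_or_pos a with ha | ha
    · subst ha; rw [Nat.zero_sub, pow_zero, mul_one] at h1; omega
    · rw [show 2 ^ a = 2 * 2 ^ (a - 1) by rw [← pow_succ']; congr 1; omega] at h1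
      exact (Nat.eq_of_mul_eq_mul_right (by positivity) h1).le
  have hcompl : HasNormalPComplement 2 G := by
    refine Transfer.hasNormalPComplement_of_normalizer_centralizer P fun Q hQP hQ g hg hgp => ?_
    refine FG75.mem_centralizer_of_prime_powers (p := 2) (fun q hq hq2 g k hk hg => ?_) hg hgp
    rcases Nat.eq_zero_or_pos k with hk0 | hk0
    · rw [hk0, pow_zero, orderOf_eq_one_iff] at hk
      rw [hk]; exact one_mem _
    have hQ2 : IsPGroup 2 Q := P.2.to_le hQP
    haveI : IsCyclic ((Subgroup.zpowers x).subgroupOf Q) :=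
      isCyclic_of_injective
        (({ toFun := fun y => ⟨((y : Q) : G), y.2⟩, map_one' := rfl, map_mul' := fun _ _ => rfl } :
          (Subgroup.zpowers x).subgroupOf Q →* Subgroup.zpowers x))
        fun y z hyz => Subtype.ext (Subtype.ext (congrArg (Subtype.val : Subgroup.zpowers x → G) hyz :))
    have hi : ((Subgroup.zpowers x).subgroupOf Q).index ≤ 2 :=
      (Subgroup.relIndex_le_of_le_right hQP Subgroup.index_ne_zero_of_finite).trans hrel
    refine FG75.mem_centralizer_of_frattini_index hQ2 (FG75.frattini_index_dvd_four hQ2 _ hi) hq hq2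
      (fun i hi1 hi2 hdvd => ?_) hk hg
    obtain rfl | rfl : i = 1 ∨ i = 2 := by omega
    · exact hq.not_dvd_one (by simpa using hdvd)
    · have hq3 : q = 3 := (Nat.prime_dvd_prime_iff_eq hq Nat.prime_three).1 (by simpa using hdvd)
      subst hq3
      have h1 : 3 ∣ Nat.card G := (dvd_pow_self 3 hk0.ne').trans (hk ▸ orderOf_dvd_natCard g)
      rw [hG] at h1
      rcases Nat.prime_three.dvd_mul.1 h1 with h2 | h2
      · exact absurd (Nat.prime_three.dvd_of_dvd_pow h2) (by norm_num)
      · exact h3 h2
  obtain ⟨P', N, hN, hc⟩ := hcompl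
  refine ⟨N, hN, ?_⟩
  have h1 := hc.card_mul
  rw [P'.card_eq_multiplicity, hfac, hG, mul_comm] at h1
  exact Nat.eq_of_mul_eq_mul_left (by positivity) h1

end Cfsg.Agent.S3971
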