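import Cfsg.Statements.S3973
import Cfsg.Agent.Lib.Schur.Basic

set_option autoImplicit false
set_option linter.all false
open Cfsg
open scoped IsMulCommutative

namespace Cfsg.Agent.S3973

/-- If a finite group is presented by `n` generators and a finite set of `r` relators, then its Schur multiplier can be generated by `r - n` elements. In particular a finite group with a presentation having as many relators as generators has trivial Schur multiplier. -/
theorem result (n : ℕ) (rels : Finset (FreeGroup (Fin n))) [Finite (PresentedGroup (rels : Set (FreeGroup (Fin n))))] {A : Type*} [CommGroup A] [Finite A] (hA : Cfsg.HasSchurMultiplier (PresentedGroup (rels : Set (FreeGroup (Fin n)))) A) : Group.rank A ≤ rels.card - n := by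
  classical
  let G := PresentedGroup (rels : Set (FreeGroup (Fin n)))
  let f : FreeGroup (Fin n) →* G := PresentedGroup.mk (rels : Set (FreeGroup (Fin n)))
  have hf : Function.Surjective f := QuotientGroup.mk_surjective
  have hfk : f.ker = Subgroup.normalClosure (rels : Set (FreeGroup (Fin n))) := QuotientGroup.ker_mk' _
  obtain ⟨eA⟩ := Schur.nonempty_mulEquiv_mult hA
  obtain ⟨eM⟩ := Schur.nonempty_mult_pres f hf
  let R : Subgroup (Schur.Pre f) := (Schur.preHom f).ker
  haveI hRc : IsMulCommutative R :=
    ⟨⟨fun a b => Subtype.ext (Subgroup.mem_center_iff.1 (Schur.preHom_ker_le_center f b.2) a.1)⟩⟩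
  have hrel : ∀ x : rels, (QuotientGroup.mk (x : FreeGroup (Fin n)) : Schur.Pre f) ∈ R := fun x => by
    show f (x : FreeGroup (Fin n)) = 1
    rw [← MonoidHom.mem_ker, hfk]
    exact Subgroup.subset_normalClosure x.2
  let g : rels → Additive R := fun x => Additive.ofMul ⟨_, hrel x⟩
  let L : (rels → ℤ) →ₗ[ℤ] Additive R := Fintype.linearCombination ℤ g
  have hgen : ∀ y : R, ∃ v, L v = Additive.ofMul y := by
    have hS : R ≤ Subgroup.closure (Set.range fun x : rels => (QuotientGroup.mk (x : FreeGroup (Fin n)) : Schur.Pre f)) := by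
      intro y hy
      obtain ⟨w, rfl⟩ := QuotientGroup.mk_surjective y
      set S := Subgroup.closure (Set.range fun x : rels => (QuotientGroup.mk (x : FreeGroup (Fin n)) : Schur.Pre f)) with hSdef
      have hSR : S ≤ R := by
        rw [hSdef, Subgroup.closure_le]
        rintro _ ⟨x, rfl⟩
        exact hrel x
      haveI : S.Normal := Schur.normal_of_le_center f hSR
      have h1 : f.ker ≤ S.comap (QuotientGroup.mk' (Schur.rel f)) :=
        hfk.le.trans (Subgroup.normalClosure_le_normal fun x hx =>
          Subgroup.subset_closure ⟨⟨x, hx⟩, rfl⟩)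
      exact h1 hy
    intro y
    have hy : (y : Schur.Pre f) ∈ _ := hS y.2
    have key : Subgroup.closure (Set.range fun x : rels => (QuotientGroup.mk (x : FreeGroup (Fin n)) : Schur.Pre f)) ≤
        ((L.range.toAddSubgroup.toSubgroup'.map R.subtype)) := by
      rw [Subgroup.closure_le]
      rintro _ ⟨x, rfl⟩
      exact ⟨⟨_, hrel x⟩, ⟨Pi.single x 1, by rw [Fintype.linearCombination_apply_single, one_smul]; rfl⟩, rfl⟩
    obtain ⟨y', ⟨v, hv⟩, hyy⟩ := key hy
    exact ⟨v, hv.trans (congrArg Additive.ofMul (Subtype.ext hyy))⟩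
  obtain ⟨e, hemk, hek⟩ := Schur.exists_expSum f
  let r : Additive R →ₗ[ℤ] (Fin n → ℤ) :=
    (MonoidHom.toAdditiveLeft (e.comp R.subtype)).toIntLinearMap
  let T := r.comp L
  -- the image of `T` has full rank
  have hrange : n ≤ Module.finrank ℤ (LinearMap.range T) := by
    let N : ℤ := (Nat.card G : ℤ)
    have hmem : ∀ v : Fin n → ℤ, N • v ∈ LinearMap.range T := by
      intro v
      obtain ⟨w, hw⟩ : ∃ w : FreeGroup (Fin n), Schur.expSum (Fin n) w = Multiplicative.ofAdd v := by
        refine ⟨(List.ofFn fun i => FreeGroup.of i ^ v i).prod, ?_⟩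
        rw [map_list_prod, List.map_ofFn, List.prod_ofFn]
        apply Multiplicative.toAdd.injective
        rw [toAdd_prod, toAdd_ofAdd]
        simp only [Function.comp_apply, map_zpow, toAdd_zpow, Schur.expSum, FreeGroup.lift_apply_of, toAdd_ofAdd]
        funext j
        rw [Finset.sum_apply, Finset.sum_eq_single j]
        · simp [Pi.single, Function.update]
        · intro i _ hi
          simp [Pi.single, Function.update, Ne.symm hi]
        · simp
      have hwR : (QuotientGroup.mk (w ^ Nat.card G) : Schur.Pre f) ∈ R := by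
        show f (w ^ Nat.card G) = 1
        rw [map_pow]; exact pow_card_eq_one'
      obtain ⟨u, hu⟩ := hgen ⟨_, hwR⟩
      refine ⟨u, ?_⟩
      show r (L u) = _
      rw [hu]
      show Multiplicative.toAdd (e (QuotientGroup.mk (w ^ Nat.card G))) = _
      rw [hemk, map_pow, hw, toAdd_pow, toAdd_ofAdd, natCast_zsmul]
    let i : (Fin n → ℤ) →ₗ[ℤ] LinearMap.range T :=
      LinearMap.codRestrict _ (N • LinearMap.id) hmem
    have hi : Function.Injective i := fun a b hab => by
      have h := congrArg Subtype.val hab
      have hN : N ≠ 0 := Int.natCast_ne_zero.2 Nat.card_pos.ne'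
      funext j
      exact mul_left_cancel₀ hN (by simpa [i] using congrFun h j)
    have := LinearMap.finrank_le_finrank_of_injective hi
    rwa [Module.finrank_pi, Fintype.card_fin] at this
  have hk : Module.finrank ℤ (LinearMap.ker T) ≤ rels.card - n := by
    have h1 := (LinearMap.ker T).finrank_quotient_add_finrank
    rw [T.quotKerEquivRange.finrank_eq] at h1
    rw [Module.finrank_pi, Fintype.card_coe] at h1
    omega
  let b := Module.finBasis ℤ (LinearMap.ker T)
  -- generators of the multiplier
  have hcmem : ∀ i, ((Additive.toMul (L (b i : rels → ℤ)) : R) : Schur.Pre f) ∈ Schur.mult f := fun i => by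
    refine Subgroup.mem_inf.2 ⟨(Additive.toMul (L (b i : rels → ℤ))).2, ?_⟩
    rw [← hek, MonoidHom.mem_ker]
    apply Multiplicative.toAdd.injective
    exact (b i).2
  let s : Finset A := Finset.univ.image fun i => eA.symm (eM ⟨_, hcmem i⟩)
  have hs : Subgroup.closure (s : Set A) = ⊤ := by
    rw [eq_top_iff]
    intro a _
    let m : Schur.mult f := eM.symm (eA a)
    obtain ⟨v, hv⟩ := hgen ⟨(m : Schur.Pre f), m.2.1⟩
    have hvk : v ∈ LinearMap.ker T := by
      show r (L v) = 0
      rw [hv]
      show Multiplicative.toAdd (e (m : Schur.Pre f)) = 0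
      rw [← toAdd_one]
      congr 1
      rw [← MonoidHom.mem_ker, hek]
      exact m.2.2
    let φ : LinearMap.ker T →+ Additive A :=
      AddMonoidHom.mk' (fun w => Additive.ofMul (eA.symm (eM ⟨((Additive.toMul (L (w : rels → ℤ)) : R) : Schur.Pre f),
        Subgroup.mem_inf.2 ⟨(Additive.toMul (L (w : rels → ℤ))).2, by
          rw [← hek, MonoidHom.mem_ker]
          exact Multiplicative.toAdd.injective w.2⟩⟩))) fun w w' => by
        rw [← ofMul_mul, ← map_mul, ← map_mul]
        congr 3
        apply Subtype.ext
        simp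
    have hφ : φ ⟨v, hvk⟩ = Additive.ofMul a := by
      show Additive.ofMul (eA.symm (eM _)) = _
      congr 1
      rw [MulEquiv.symm_apply_eq, ← MulEquiv.eq_symm_apply]
      apply Subtype.ext
      show ((Additive.toMul (L v) : R) : Schur.Pre f) = _
      rw [hv]
      rfl
    have hx : φ ⟨v, hvk⟩ ∈ Subgroup.toAddSubgroup (Subgroup.closure (s : Set A)) := by
      rw [← b.sum_repr ⟨v, hvk⟩, map_sum]
      refine AddSubgroup.sum_mem _ fun i _ => ?_
      rw [map_zsmul]
      refine AddSubgroup.zsmul_mem _ ?_ _
      show Additive.toMul (φ (b i)) ∈ Subgroup.closure (s : Set A)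
      exact Subgroup.subset_closure (Finset.mem_image.2 ⟨i, Finset.mem_univ i, rfl⟩)
    rw [hφ] at hx
    exact hx
  refine (Group.rank_le hs).trans ((Finset.card_image_le).trans ?_)
  simpa using hk

end Cfsg.Agent.S3973
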