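import Cfsg.Statements.S3976
import Cfsg.Agent.FG75.SubgroupCount

set_option autoImplicit false
open Cfsg
open scoped Pointwise

namespace Cfsg.Agent.S3976

/-- Let `p` be a prime and `G` a group of order `p ^ m`. For every `s ≤ m` the number of normal subgroups of `G` of order `p ^ s` is congruent to `1` modulo `p`. -/
theorem result {G : Type*} [Group G] [Finite G] (p m s : ℕ) (hp : p.Prime) (hG : Nat.card G = p ^ m) (hs : s ≤ m) : Nat.card {H : Subgroup G // H.Normal ∧ Nat.card H = p ^ s} ≡ 1 [MOD p] := by
  haveI := Fact.mk hp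
  let S : SubMulAction (ConjAct G) (Subgroup G) :=
    { carrier := {H | Nat.card H = p ^ s}
      smul_mem' := fun g H hH => by
        show Nat.card (g • H : Subgroup G) = p ^ s
        rw [← hH]
        exact (Nat.card_congr (Subgroup.equivSMul g H).toEquiv).symm }
  have hP : IsPGroup p (ConjAct G) := IsPGroup.of_card (n := m) (by
    rw [Nat.card_congr ConjAct.ofConjAct.toEquiv, hG])
  have h1 := hP.card_modEq_card_fixedPoints (α := S)
  have h2 := FG75.SubgroupCount.card_subgroups_modEq_one G p s (hG ▸ pow_dvd_pow p hs)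
  have hS : Nat.card S = Nat.card {H : Subgroup G // Nat.card H = p ^ s} := rfl
  have hF : Nat.card (MulAction.fixedPoints (ConjAct G) S) =
      Nat.card {H : Subgroup G // H.Normal ∧ Nat.card H = p ^ s} := by
    refine Nat.card_congr ⟨fun H => ⟨H.1.1, ⟨?_⟩, H.1.2⟩,
      fun H => ⟨⟨H.1, H.2.2⟩, fun g => ?_⟩, fun H => rfl, fun H => rfl⟩
    · intro x hx g
      have h3 : (ConjAct.toConjAct g • H.1.1 : Subgroup G) = H.1.1 :=
        congrArg (fun K : S => (K : Subgroup G)) (H.2 (ConjAct.toConjAct g))
      rw [← h3]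
      have := Subgroup.smul_mem_pointwise_smul x (ConjAct.toConjAct g) H.1.1 hx
      rwa [ConjAct.smul_def, ConjAct.ofConjAct_toConjAct] at this
    · apply Subtype.ext
      show (g • H.1 : Subgroup G) = H.1
      haveI := H.2.1
      exact Subgroup.Normal.conjAct ‹_› g
  rw [← hF]
  exact h1.symm.trans (hS ▸ h2)

end Cfsg.Agent.S3976
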