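import Cfsg.Statements.S3978
import Cfsg.Agent.Lib.Schur.Projective

set_option autoImplicit false
set_option linter.all false
open Cfsg

namespace Cfsg.Agent.S3978

/-- A finite group `Q` has trivial Schur multiplier if and only if, for every `n`, every homomorphism from `Q` to the projective general linear group (the quotient of `GL n ℂ` by its centre) lifts to a homomorphism into `GL n ℂ`. -/
theorem result {Q : Type*} [Group Q] [Finite Q] : Cfsg.HasCyclicSchurMultiplier Q 1 ↔ ∀ (n : ℕ) (γ : Q →* (GL (Fin n) ℂ ⧸ Subgroup.center (GL (Fin n) ℂ))), ∃ ρ : Q →* GL (Fin n) ℂ, (QuotientGroup.mk' (Subgroup.center (GL (Fin n) ℂ))).comp ρ = γ := by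
  have hid : IsStemExtension (MonoidHom.id Q) := by
    refine ⟨Function.surjective_id, ?_, ?_⟩ <;> simp [MonoidHom.ker_id]
  constructor
  · intro h n γ
    obtain ⟨-, hcard⟩ := Schur.hasCyclicSchurMultiplier_one_iff.1 h
    obtain ⟨ρ, hρ⟩ := Schur.exists_projective_lift (MonoidHom.id Q) hid
      (by rw [hcard, MonoidHom.ker_id, Subgroup.card_bot]) n γ
    exact ⟨ρ, hρ.trans (MonoidHom.comp_id γ)⟩
  · intro h
    rw [Schur.hasCyclicSchurMultiplier_one_iff]
    refine ⟨inferInstance, ?_⟩
    have key : ∀ x ∈ Schur.mult (Schur.stdPres Q), x = 1 := fun x hx =>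
      Schur.injective_of_lifts (MonoidHom.id Q) hid.2.1
        (fun n γ => by obtain ⟨ρ, hρ⟩ := h n γ; exact ⟨ρ, hρ.trans (MonoidHom.comp_id γ).symm⟩)
        (Schur.preHom (Schur.stdPres Q)) (MonoidHom.id_comp _) x hx hx.1
    haveI : Subsingleton (Schur.Mult Q) :=
      ⟨fun a b => Subtype.ext ((key a a.2).trans (key b b.2).symm)⟩
    exact Nat.card_unique

end Cfsg.Agent.S3978
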