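import Cfsg.Statements.S3981
import Cfsg.Agent.FGS76.Basic

set_option autoImplicit false
open Cfsg

namespace Cfsg.Agent.S3981

/-- Let p be an odd prime, Q a p-subgroup of the finite group G and y an involution normalizing Q. Then Q is maximal among the p-subgroups of G normalized by y if and only if the image of y in N_G(Q) ⧸ Q neither inverts nor centralizes any element of order p there; the latter is phrased inside N_G(Q): for every x in N_G(Q) outside Q with x ^ p ∈ Q, neither y x y⁻¹ x nor y x y⁻¹ x⁻¹ lies in Q. -/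
theorem result {G : Type*} [Group G] [Finite G] (p : ℕ) [Fact p.Prime] (hp2 : p ≠ 2) (Q : Subgroup G) (hQ : IsPGroup p ↥Q) (y : G) (hy : orderOf y = 2) (hyQ : y ∈ Subgroup.normalizer (Q : Set G)) : (∀ R : Subgroup G, IsPGroup p ↥R → Q ≤ R → y ∈ Subgroup.normalizer (R : Set G) → R = Q) ↔ ∀ x : G, x ∈ Subgroup.normalizer (Q : Set G) → x ∉ Q → x ^ p ∈ Q → (y * x * y⁻¹ * x ∉ Q ∧ y * x * y⁻¹ * x⁻¹ ∉ Q) := by
  have hy2 : y * y = 1 := by rw [← sq, ← hy, pow_orderOf_eq_one]
  have hyi : y⁻¹ = y := inv_eq_of_mul_eq_one_right hy2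
  constructor
  · intro hmax x hxN hxQ hxp
    suffices h : ∀ ε : G, ε ∈ Subgroup.zpowers x → y * x * y⁻¹ * ε ∉ Q from
      ⟨h x (Subgroup.mem_zpowers x), h x⁻¹ (inv_mem (Subgroup.mem_zpowers x))⟩
    intro ε hε hmem
    have hxo : ∃ k : ℕ, orderOf x = p ^ k := by
      obtain ⟨k, hk⟩ := hQ ⟨_, hxp⟩
      have h1 : x ^ p ^ (k + 1) = 1 := by
        rw [pow_succ', pow_mul]
        simpa using congrArg Subtype.val hk
      obtain ⟨l, -, hl⟩ := (Nat.dvd_prime_pow (Fact.out : p.Prime)).1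
        (orderOf_dvd_of_pow_eq_one h1)
      exact ⟨l, hl⟩
    have hR : IsPGroup p ↥(Subgroup.zpowers x ⊔ Q) :=
      (FGS76.isPGroup_zpowers hxo).to_sup_of_normal_right' hQ (Subgroup.zpowers_le.2 hxN)
    have hxR : x ∈ Subgroup.zpowers x ⊔ Q := Subgroup.mem_sup_left (Subgroup.mem_zpowers x)
    have hyR : y ∈ Subgroup.normalizer ((Subgroup.zpowers x ⊔ Q : Subgroup G) : Set G) := by
      rw [Subgroup.mem_normalizer_iff_map_conj_eq]
      refine Subgroup.eq_of_le_of_card_ge ?_ ?_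
      · rw [Subgroup.map_sup, MonoidHom.map_zpowers]
        refine sup_le (Subgroup.zpowers_le.2 ?_)
          (le_trans (le_of_eq (Subgroup.mem_normalizer_iff_map_conj_eq.1 hyQ)) le_sup_right)
        show y * x * y⁻¹ ∈ _
        rw [show y * x * y⁻¹ = y * x * y⁻¹ * ε * ε⁻¹ by group]
        exact mul_mem (Subgroup.mem_sup_right hmem) (Subgroup.mem_sup_left (inv_mem hε))
      · rw [Subgroup.card_map_of_injective (MulEquiv.injective _)]
    exact hxQ (hmax _ hR le_sup_right hyR ▸ hxR)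
  · intro hx R hR hQR hyR
    by_contra hne
    set M := R ⊓ Subgroup.normalizer (Q : Set G) with hM
    have hQM : Q ≤ M := le_inf hQR Subgroup.le_normalizer
    have hMlt : Q < M := by
      refine lt_of_le_of_ne hQM fun h => ?_
      haveI : Group.IsNilpotent R := hR.isNilpotent
      have hlt : Q.subgroupOf R < ⊤ := by
        rw [lt_top_iff_ne_top, Ne, Subgroup.subgroupOf_eq_top]
        exact fun h => hne (le_antisymm h hQR)
      have := normalizerCondition_of_isNilpotent _ hlt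
      obtain ⟨r, hr, hrn⟩ := SetLike.exists_of_lt this
      refine hrn (Subgroup.mem_subgroupOf.2 (h.ge (Subgroup.mem_inf.2 ⟨r.2, ?_⟩)))
      rw [Subgroup.mem_normalizer_iff]
      intro z
      constructor
      · intro hz
        exact ((Subgroup.mem_normalizer_iff.1 hr ⟨z, hQR hz⟩).1 hz : _)
      · intro hz
        have hzR : z ∈ R := by
          have h1 := R.mul_mem (R.mul_mem (R.inv_mem r.2) (hQR hz)) r.2
          rwa [show (r : G)⁻¹ * ((r : G) * z * (r : G)⁻¹) * r = z by group] at h1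
        exact ((Subgroup.mem_normalizer_iff.1 hr ⟨z, hzR⟩).2 hz : _)
    set Q' := Q.subgroupOf M with hQ'
    haveI : Q'.Normal := ⟨fun n hn g => Subgroup.mem_subgroupOf.2
      ((Subgroup.mem_normalizer_iff.1 g.2.2 n).1 hn)⟩
    have hMp : IsPGroup p (↥M ⧸ Q') := (hR.to_le inf_le_left).to_quotient Q'
    haveI : Nontrivial (↥M ⧸ Q') := by
      obtain ⟨m, hm, hmQ⟩ := SetLike.exists_of_lt hMlt
      exact ⟨⟨QuotientGroup.mk ⟨m, hm⟩, 1, fun h =>
        hmQ (Subgroup.mem_subgroupOf.1 ((QuotientGroup.eq_one_iff (⟨m, hm⟩ : ↥M)).1 h))⟩⟩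
    haveI := hMp.center_nontrivial
    obtain ⟨k, hk, hkc⟩ := (IsPGroup.nontrivial_iff_card
      (hMp.to_subgroup (Subgroup.center _))).1 this
    obtain ⟨c, hc⟩ := exists_prime_orderOf_dvd_card' (G := Subgroup.center (↥M ⧸ Q')) p
      (hkc ▸ dvd_pow_self p hk.ne')
    obtain ⟨⟨a, haM⟩, hac⟩ := QuotientGroup.mk_surjective (c : ↥M ⧸ Q')
    have hca : orderOf (c : ↥M ⧸ Q') = p := by rw [Subgroup.orderOf_coe]; exact hc
    have haQ : a ∉ Q := fun h => by
      rw [← hac, (QuotientGroup.eq_one_iff (⟨a, haM⟩ : ↥M)).2 (Subgroup.mem_subgroupOf.2 h),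
        orderOf_one] at hca
      exact (Fact.out : p.Prime).one_lt.ne hca
    have hpow : ∀ v : ↥M ⧸ Q', orderOf v ∣ p → ∀ (u : G) (hu : u ∈ M),
        (QuotientGroup.mk (⟨u, hu⟩ : ↥M)) = v → u ^ p ∈ Q := by
      intro v hv u hu huv
      have h1 : (QuotientGroup.mk ((⟨u, hu⟩ : ↥M) ^ p) : ↥M ⧸ Q') = 1 := by
        rw [QuotientGroup.mk_pow, huv, orderOf_dvd_iff_pow_eq_one.1 hv]
      simpa using Subgroup.mem_subgroupOf.1 ((QuotientGroup.eq_one_iff _).1 h1)
    have hap := hpow _ hca.dvd a haM hac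
    set b := y * a * y⁻¹ with hb
    have hbM : b ∈ M := by
      refine ⟨(Subgroup.mem_normalizer_iff.1 hyR a).1 haM.1, ?_⟩
      exact Subgroup.mul_mem _ (Subgroup.mul_mem _ hyQ haM.2) (Subgroup.inv_mem _ hyQ)
    have hbp : b ^ p ∈ Q := by
      rw [hb, conj_pow]
      exact (Subgroup.mem_normalizer_iff.1 hyQ _).1 hap
    set A : ↥M ⧸ Q' := QuotientGroup.mk ⟨a, haM⟩ with hA
    set B : ↥M ⧸ Q' := QuotientGroup.mk ⟨b, hbM⟩ with hB
    have hAB : A * B = B * A := by rw [show A = _ from hac]; exact (Subgroup.mem_center_iff.1 c.2 B).symm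
    have hmk : ∀ (u v : G) (hu : u ∈ M) (hv : v ∈ M),
        (QuotientGroup.mk (⟨u, hu⟩ : ↥M) : ↥M ⧸ Q') * QuotientGroup.mk ⟨v, hv⟩ =
          QuotientGroup.mk ⟨u * v, mul_mem hu hv⟩ := fun u v hu hv => rfl
    have hpM : (A * B) ^ p = 1 := by
      rw [(show Commute A B from hAB).mul_pow, hA, hB, ← QuotientGroup.mk_pow, ← QuotientGroup.mk_pow,
        (QuotientGroup.eq_one_iff _).2 (Subgroup.mem_subgroupOf.2 (by simpa using hap)),
        (QuotientGroup.eq_one_iff _).2 (Subgroup.mem_subgroupOf.2 (by simpa using hbp)), one_mul]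
    by_cases hab : a * b ∈ Q
    · refine (hx a haM.2 haQ hap).1 ?_
      have h1 : A * B = 1 := by
        rw [hA, hB, hmk]
        exact (QuotientGroup.eq_one_iff _).2 (Subgroup.mem_subgroupOf.2 hab)
      rw [hAB, hA, hB, hmk] at h1
      exact Subgroup.mem_subgroupOf.1 ((QuotientGroup.eq_one_iff _).1 h1)
    · have habp : (a * b) ^ p ∈ Q := by
        refine hpow (A * B) (orderOf_dvd_of_pow_eq_one hpM) _ (mul_mem haM hbM) ?_
        rw [hA, hB, hmk]
      refine (hx (a * b) (mul_mem haM hbM).2 hab habp).2 ?_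
      have h2 : y * (a * b) * y⁻¹ = b * a := by
        rw [hb, hyi]
        calc y * (a * (y * a * y)) * y = y * a * y * a * (y * y) := by group
          _ = y * a * y * a := by rw [hy2, mul_one]
      have h3 : (QuotientGroup.mk (⟨b * a * (a * b)⁻¹,
          mul_mem (mul_mem hbM haM) (inv_mem (mul_mem haM hbM))⟩ : ↥M) : ↥M ⧸ Q') = 1 := by
        have : (QuotientGroup.mk (⟨b * a * (a * b)⁻¹,
            mul_mem (mul_mem hbM haM) (inv_mem (mul_mem haM hbM))⟩ : ↥M) : ↥M ⧸ Q') =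
            B * A * (A * B)⁻¹ := rfl
        rw [this, hAB, mul_inv_cancel]
      rw [h2]
      exact Subgroup.mem_subgroupOf.1 ((QuotientGroup.eq_one_iff _).1 h3)

end Cfsg.Agent.S3981
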