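import Cfsg.Statements.S3982
import Cfsg.Agent.FGS76.Basic

set_option autoImplicit false
open Cfsg

namespace Cfsg.Agent.S3982

/-- Let p be an odd prime and G a finite group of even order divisible by p in which the centralizer of every non-identity p-element has odd order. If some nontrivial p-subgroup of G has a normalizer of even order, then the normalizer of every Sylow p-subgroup of G has even order. -/
theorem result {G : Type*} [Group G] [Finite G] (p : ℕ) [Fact p.Prime] (hp2 : p ≠ 2) (hpG : p ∣ Nat.card G) (h2G : 2 ∣ Nat.card G) (hC : ∀ g : G, g ≠ 1 → (∃ k : ℕ, orderOf g = p ^ k) → Odd (Nat.card ↥(Subgroup.centralizer ({g} : Set G)))) (Q : Subgroup G) (hQ : IsPGroup p ↥Q) (hQ1 : Q ≠ ⊥) (hev : Even (Nat.card ↥(Subgroup.normalizer (Q : Set G)))) (P : Sylow p G) : Even (Nat.card ↥(Subgroup.normalizer ((P : Subgroup G) : Set G))) := by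
  haveI : Fact (Nat.Prime 2) := ⟨Nat.prime_two⟩
  have hp : p.Prime := Fact.out
  obtain ⟨⟨y, hyN⟩, hy⟩ := exists_prime_orderOf_dvd_card' 2 (even_iff_two_dvd.1 hev)
  rw [Subgroup.orderOf_mk] at hy
  have hy2 : y * y = 1 := by rw [← sq, ← hy, pow_orderOf_eq_one]
  have hyi : y⁻¹ = y := inv_eq_of_mul_eq_one_right hy2
  -- a maximal `y`-invariant `p`-subgroup containing `Q`
  obtain ⟨R, hQR, hR⟩ := Finite.exists_le_maximal
    (p := fun R : Subgroup G => IsPGroup p R ∧ y ∈ Subgroup.normalizer (R : Set G)) ⟨hQ, hyN⟩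
  obtain ⟨hRp, hyR⟩ := hR.1
  have hnofix : ∀ z : G, (∃ k : ℕ, orderOf z = p ^ k) → z * y = y * z → z = 1 := by
    intro z hz hzy
    by_contra hz1
    refine (Nat.not_even_iff_odd.2 (hC z hz1 hz)) (even_iff_two_dvd.2 ?_)
    rw [← hy, ← Subgroup.orderOf_mk (H := Subgroup.centralizer ({z} : Set G)) y
      (Subgroup.mem_centralizer_singleton_iff.2 hzy.symm)]
    exact orderOf_dvd_natCard _
  -- `y` inverts `R`
  have hinv : ∀ x ∈ R, y * x * y⁻¹ = x⁻¹ := by
    let f : R → R := fun x => ⟨(x : G)⁻¹ * (y * x * y⁻¹),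
      mul_mem (inv_mem x.2) ((Subgroup.mem_normalizer_iff.1 hyR x).1 x.2)⟩
    have hf : Function.Injective f := by
      intro u v huv
      have h1 : (u : G)⁻¹ * (y * u * y⁻¹) = (v : G)⁻¹ * (y * v * y⁻¹) := congrArg Subtype.val huv
      have h2 : ((v : G) * (u : G)⁻¹) * y = y * ((v : G) * (u : G)⁻¹) := by
        calc ((v : G) * (u : G)⁻¹) * y
            = (v : G) * ((u : G)⁻¹ * (y * u * y⁻¹)) * y * (u : G)⁻¹ := by group
          _ = y * ((v : G) * (u : G)⁻¹) := by rw [h1]; group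
      exact Subtype.ext (mul_inv_eq_one.1
        (hnofix _ (FGS76.orderOf_eq_pow_of_mem hRp (mul_mem v.2 (inv_mem u.2))) h2)).symm
    intro x hx
    obtain ⟨u, hu⟩ := (Finite.injective_iff_surjective.1 hf) ⟨x, hx⟩
    have hu' : x = (u : G)⁻¹ * (y * u * y⁻¹) := (congrArg Subtype.val hu).symm
    rw [hu', hyi]
    calc y * ((u : G)⁻¹ * (y * u * y)) * y = y * (u : G)⁻¹ * y * u * (y * y) := by group
      _ = ((u : G)⁻¹ * (y * u * y))⁻¹ := by
          rw [hy2, mul_one, mul_inv_rev, mul_inv_rev, mul_inv_rev, hyi, inv_inv]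
          group
  have hR1 : R ≠ ⊥ := fun h => hQ1 (le_bot_iff.1 (h ▸ hQR))
  obtain ⟨⟨x₀, hx₀⟩, hx₀1⟩ := Subgroup.ne_bot_iff_exists_ne_one.1 hR1
  have hx₀1' : x₀ ≠ 1 := fun h => hx₀1 (Subtype.ext h)
  set C := Subgroup.centralizer (R : Set G) with hCdef
  have hCodd : Odd (Nat.card C) :=
    Odd.of_dvd_nat (hC x₀ hx₀1' (FGS76.orderOf_eq_pow_of_mem hRp hx₀))
      (Subgroup.card_dvd_of_le (Subgroup.centralizer_le (Set.singleton_subset_iff.2 hx₀)))
  have hyC : ∀ c ∈ C, y * c * y⁻¹ ∈ C := by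
    intro c hc
    rw [hCdef, Subgroup.mem_centralizer_iff]
    intro r hr
    have h1 : y * r * y⁻¹ ∈ R := (Subgroup.mem_normalizer_iff.1 hyR r).1 hr
    have h2 := Subgroup.mem_centralizer_iff.1 hc _ h1
    calc r * (y * c * y⁻¹) = y * (y * r * y⁻¹ * c) * y⁻¹ := by
          rw [show y * (y * r * y⁻¹ * c) * y⁻¹ = (y * y) * r * (y⁻¹ * c * y⁻¹) by group, hy2, hyi]
          group
      _ = y * c * y⁻¹ * r := by
          rw [h2, show y * (c * (y * r * y⁻¹)) * y⁻¹ = y * c * y * r * (y * y)⁻¹ by group, hy2, hyi]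
          group
  -- a `y`-invariant Sylow subgroup of `C`
  obtain ⟨S, hS⟩ : ∃ S : Sylow p C, ∀ s : C, s ∈ (S : Subgroup C) →
      (⟨y * s * y⁻¹, hyC s s.2⟩ : C) ∈ (S : Subgroup C) := by
    let e : C ≃* C :=
      { toFun := fun c => ⟨y * c * y⁻¹, hyC c c.2⟩
        invFun := fun c => ⟨y * c * y⁻¹, hyC c c.2⟩
        left_inv := fun c => Subtype.ext (by
          show y * (y * c * y⁻¹) * y⁻¹ = c
          rw [hyi]; simp [← mul_assoc, hy2]; simp [mul_assoc, hy2])
        right_inv := fun c => Subtype.ext (by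
          show y * (y * c * y⁻¹) * y⁻¹ = c
          rw [hyi]; simp [← mul_assoc, hy2]; simp [mul_assoc, hy2])
        map_mul' := fun c d => Subtype.ext (by
          show y * ((c : G) * d) * y⁻¹ = y * c * y⁻¹ * (y * d * y⁻¹)
          group) }
    classical
    haveI := Fintype.ofFinite (Sylow p C)
    let σ : Equiv.Perm (Sylow p C) :=
      { toFun := fun S => S.mapSurjective (f := e.toMonoidHom) e.surjective
        invFun := fun S => S.mapSurjective (f := e.toMonoidHom) e.surjective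
        left_inv := fun S => Sylow.ext (by
          show ((S : Subgroup C).map e.toMonoidHom).map e.toMonoidHom = _
          rw [Subgroup.map_map]
          conv_rhs => rw [← Subgroup.map_id (S : Subgroup C)]
          congr 1
          ext c
          exact congrArg Subtype.val (e.left_inv c))
        right_inv := fun S => Sylow.ext (by
          show ((S : Subgroup C).map e.toMonoidHom).map e.toMonoidHom = _
          rw [Subgroup.map_map]
          conv_rhs => rw [← Subgroup.map_id (S : Subgroup C)]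
          congr 1
          ext c
          exact congrArg Subtype.val (e.left_inv c)) }
    obtain ⟨S₀⟩ := (inferInstance : Nonempty (Sylow p C))
    have hodd : ¬ 2 ∣ Fintype.card (Sylow p C) := by
      rw [← Nat.card_eq_fintype_card]
      intro h
      exact (Nat.not_even_iff_odd.2 hCodd) (even_iff_two_dvd.2
        (h.trans ((Sylow.card_dvd_index S₀).trans (Subgroup.index_dvd_card _))))
    obtain ⟨S, hS⟩ := Equiv.Perm.exists_fixed_point_of_prime (n := 1) hodd
      (σ := σ) (by rw [pow_one, sq]; exact Equiv.ext fun S => σ.left_inv S)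
    refine ⟨S, fun s hs => ?_⟩
    have h1 := congrArg Sylow.toSubgroup hS
    rw [← h1]
    exact ⟨s, hs, rfl⟩
  -- it contains R, so equals it
  have hRC : R ≤ C := fun r hr => Subgroup.mem_centralizer_iff.2 fun r' hr' => by
    have h1 := hinv _ (mul_mem hr hr')
    rw [← conj_mul, hinv r hr, hinv r' hr', mul_inv_rev] at h1
    have h2 := congrArg (fun z => z⁻¹) h1
    simpa using h2
  set S' := (S : Subgroup C).map C.subtype with hS'
  have hS'p : IsPGroup p S' := S.isPGroup'.map _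
  have hRS' : R ≤ S' := by
    intro r hr
    refine ⟨⟨r, hRC hr⟩, ?_, rfl⟩
    haveI : (R.subgroupOf C).Normal := ⟨fun n hn g => Subgroup.mem_subgroupOf.2 (by
      have h1 := Subgroup.mem_centralizer_iff.1 g.2 n hn
      show (g : G) * n * (g : G)⁻¹ ∈ R
      rw [← h1, mul_inv_cancel_right]
      exact hn)⟩
    have h2 : IsPGroup p (R.subgroupOf C) := hRp.comap_subtype
    have h3 := S.is_maximal' (h2.to_sup_of_normal_left S.isPGroup') le_sup_right
    rw [← h3]
    exact Subgroup.mem_sup_left (Subgroup.mem_subgroupOf.2 hr)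
  have hyS' : y ∈ Subgroup.normalizer (S' : Set G) := by
    rw [Subgroup.mem_normalizer_iff_map_conj_eq]
    refine Subgroup.eq_of_le_of_card_ge ?_ (by
      exact (Subgroup.card_map_of_injective (MulAut.conj y).injective).ge)
    rintro _ ⟨_, ⟨s, hs, rfl⟩, rfl⟩
    exact ⟨_, hS s hs, rfl⟩
  have hSR : S' = R := le_antisymm (hR.2 ⟨hS'p, hyS'⟩ hRS') hRS'
  -- R is a Sylow subgroup
  set N := Subgroup.normalizer (R : Set G) with hNdef
  obtain ⟨P₀, hP₀⟩ := hRp.exists_le_sylow
  suffices hRP : R = (P₀ : Subgroup G) by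
    obtain ⟨g, hg⟩ := MulAction.exists_smul_eq G P₀ P
    have hgy : g * y * g⁻¹ ∈ Subgroup.normalizer ((P : Subgroup G) : Set G) := by
      rw [Subgroup.mem_normalizer_iff_map_conj_eq, ← hg, Sylow.coe_subgroup_smul, ← hRP]
      have h1 := Subgroup.mem_normalizer_iff_map_conj_eq.1 hyR
      conv_rhs => rw [← h1]
      simp only [Subgroup.pointwise_smul_def]
      erw [Subgroup.map_map, Subgroup.map_map]
      congr 1
      ext z
      simp [mul_assoc]
    rw [even_iff_two_dvd, ← hy, ← MulEquiv.orderOf_eq (MulAut.conj g), MulAut.conj_apply,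
      ← Subgroup.orderOf_mk _ hgy]
    exact orderOf_dvd_natCard _
  by_contra hne
  -- the normalizer growth
  haveI : Group.IsNilpotent (P₀ : Subgroup G) := P₀.isPGroup'.isNilpotent
  have hlt : R.subgroupOf (P₀ : Subgroup G) < ⊤ := by
    rw [lt_top_iff_ne_top, Ne, Subgroup.subgroupOf_eq_top]
    exact fun h => hne (le_antisymm hP₀ h)
  obtain ⟨⟨w, hwP⟩, hwn, hwR⟩ := SetLike.exists_of_lt (normalizerCondition_of_isNilpotent _ hlt)
  have hwN : w ∈ N := by
    rw [hNdef, Subgroup.mem_normalizer_iff]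
    intro z
    constructor
    · intro hz
      exact ((Subgroup.mem_normalizer_iff.1 hwn ⟨z, hP₀ hz⟩).1 hz : _)
    · intro hz
      have hzP : z ∈ (P₀ : Subgroup G) := by
        have h1 := mul_mem (mul_mem (inv_mem hwP) (hP₀ hz)) hwP
        rwa [show w⁻¹ * (w * z * w⁻¹) * w = z by group] at h1
      exact ((Subgroup.mem_normalizer_iff.1 hwn ⟨z, hzP⟩).2 hz : _)
  obtain ⟨k, hk⟩ := FGS76.orderOf_eq_pow_of_mem P₀.isPGroup' hwP
  -- `p` does not divide the index of `C` in `N`
  have hCN : C ≤ N := by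
    intro c hc
    rw [hNdef, Subgroup.mem_normalizer_iff]
    intro z
    constructor
    · intro hz
      rwa [← Subgroup.mem_centralizer_iff.1 hc z hz, mul_inv_cancel_right]
    · intro hz
      have h1 := Subgroup.mem_centralizer_iff.1 hc _ hz
      rw [inv_mul_cancel_right] at h1
      rwa [← (mul_left_cancel h1 : z = c * z * c⁻¹)] at hz
  have hcomm : ∀ g ∈ N, g * y * g⁻¹ * y ∈ C := by
    intro g hg
    rw [hCdef, Subgroup.mem_centralizer_iff]
    intro r hr
    have h1 : ∀ r ∈ R, (g * y * g⁻¹) * r * (g * y * g⁻¹)⁻¹ = r⁻¹ := by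
      intro r hr
      have hr' : g⁻¹ * r * g⁻¹⁻¹ ∈ R := (Subgroup.mem_normalizer_iff.1 (inv_mem hg) r).1 hr
      calc (g * y * g⁻¹) * r * (g * y * g⁻¹)⁻¹ = g * (y * (g⁻¹ * r * g⁻¹⁻¹) * y⁻¹) * g⁻¹ := by group
        _ = r⁻¹ := by rw [hinv _ hr']; group
    have h2 : g * y * g⁻¹ * y * r * (g * y * g⁻¹ * y)⁻¹ = r := by
      calc g * y * g⁻¹ * y * r * (g * y * g⁻¹ * y)⁻¹
          = (g * y * g⁻¹) * (y * r * y⁻¹) * (g * y * g⁻¹)⁻¹ := by group
        _ = r := by rw [hinv r hr, h1 _ (inv_mem hr), inv_inv]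
    exact (mul_inv_eq_iff_eq_mul.1 h2).symm
  -- Frattini: `w` agrees modulo `C` with an element centralising `y`
  set H := Subgroup.zpowers y ⊔ C with hH
  have hHmem : ∀ h ∈ H, h ∈ C ∨ y * h ∈ C := by
    let H' : Subgroup G :=
      { carrier := {h | h ∈ C ∨ y * h ∈ C}
        one_mem' := Or.inl (one_mem _)
        mul_mem' := by
          rintro u v (hu | hu) (hv | hv)
          · exact Or.inl (mul_mem hu hv)
          · refine Or.inr ?_
            have h1 := mul_mem (hyC u hu) hv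
            rwa [show y * u * y⁻¹ * (y * v) = y * (u * v) by group] at h1
          · refine Or.inr ?_
            rw [← mul_assoc]
            exact mul_mem hu hv
          · refine Or.inl ?_
            have h1 := mul_mem (hyC _ hu) hv
            rwa [show y * (y * u) * y⁻¹ * (y * v) = y * y * (u * v) by group, hy2, one_mul] at h1
        inv_mem' := by
          rintro u (hu | hu)
          · exact Or.inl (inv_mem hu)
          · refine Or.inr ?_
            have h1 := hyC _ (inv_mem hu)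
            rwa [show y * (y * u)⁻¹ * y⁻¹ = y * u⁻¹ * (y * y)⁻¹ by group, hy2, inv_one,
              mul_one] at h1 }
    intro h hh
    have : H ≤ H' := by
      refine sup_le (Subgroup.zpowers_le.2 (Or.inr ?_)) fun c hc => Or.inl hc
      rw [hy2]; exact one_mem _
    exact this hh
  have hyH : y ∈ H := Subgroup.mem_sup_left (Subgroup.mem_zpowers y)
  have hcardH : Nat.card H ∣ 2 * Nat.card C := by
    have hyn : y ∉ C := fun h => by
      have h1 := (Nat.not_even_iff_odd.2 hCodd)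
      refine h1 (even_iff_two_dvd.2 ?_)
      rw [← hy, ← Subgroup.orderOf_mk _ h]
      exact orderOf_dvd_natCard _
    have hidx : (C.subgroupOf H).index = 2 := by
      rw [Subgroup.index_eq_two_iff]
      refine ⟨⟨y, hyH⟩, fun h => ?_⟩
      simp only [Subgroup.mem_subgroupOf, Subgroup.coe_mul]
      rcases hHmem h h.2 with hh | hh
      · refine Or.inr ⟨hh, fun h' => hyn ((Subgroup.mul_mem_cancel_left _ hh).1 h')⟩
      · refine Or.inl ⟨?_, fun h' => hyn ?_⟩
        · have h1 := hyC _ hh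
          rwa [show y * (y * (h : G)) * y⁻¹ = (y * y) * ((h : G) * y⁻¹) by group, hy2, one_mul,
            hyi] at h1
        · exact (Subgroup.mul_mem_cancel_right _ h').1 hh
    have hCH : C ≤ H := le_sup_right
    rw [← Subgroup.card_mul_index (C.subgroupOf H), hidx,
      Nat.card_congr (Subgroup.subgroupOfEquivOfLe hCH).toEquiv, mul_comm]
  set T : Subgroup G := Subgroup.zpowers y with hT
  have hgH : ∀ g ∈ N, g * y * g⁻¹ ∈ H := by
    intro g hg
    have h1 := mul_mem (Subgroup.mem_sup_right (S := Subgroup.zpowers y) (hcomm g hg)) hyH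
    rwa [mul_assoc, hy2, mul_one] at h1
  have hfac : (Nat.card H).factorization 2 = 1 := by
    apply le_antisymm
    · refine (Nat.factorization_le_iff_dvd Nat.card_pos.ne'
        (mul_ne_zero two_ne_zero Nat.card_pos.ne')).2 hcardH 2 |>.trans ?_
      rw [Nat.factorization_mul two_ne_zero Nat.card_pos.ne']
      simp [Nat.prime_two.factorization_self, Nat.factorization_eq_zero_of_not_dvd
        (fun h => Nat.not_even_iff_odd.2 hCodd (even_iff_two_dvd.2 h))]
    · refine (Nat.prime_two.pow_dvd_iff_le_factorization Nat.card_pos.ne').1 ?_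
      rw [pow_one, ← hy, ← Subgroup.orderOf_mk _ hyH]
      exact orderOf_dvd_natCard _
  let U : Sylow 2 H := Sylow.ofCard (Subgroup.zpowers ⟨y, hyH⟩)
    (by rw [Nat.card_zpowers, Subgroup.orderOf_mk, hy, hfac, pow_one])
  let U' : Sylow 2 H := Sylow.ofCard (Subgroup.zpowers ⟨w * y * w⁻¹, hgH w hwN⟩)
    (by rw [Nat.card_zpowers, Subgroup.orderOf_mk, ← MulAut.conj_apply, MulEquiv.orderOf_eq, hy,
      hfac, pow_one])
  obtain ⟨⟨h₁, hh₁⟩, hh⟩ := MulAction.exists_smul_eq H U' U
  have hfix : h₁ * w * y = y * (h₁ * w) := by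
    have h3 : ((⟨h₁, hh₁⟩ : H) * ⟨w * y * w⁻¹, hgH w hwN⟩ * (⟨h₁, hh₁⟩ : H)⁻¹) ∈
        (U : Subgroup H) := by
      rw [← hh, Sylow.coe_subgroup_smul]
      exact ⟨_, Subgroup.mem_zpowers _, rfl⟩
    obtain ⟨l, hl⟩ := Subgroup.mem_zpowers_iff.1 h3
    have h4 : y ^ l = h₁ * w * y * (h₁ * w)⁻¹ := by
      have := congrArg Subtype.val hl
      simp only [SubgroupClass.coe_zpow, Subgroup.coe_mul, InvMemClass.coe_inv] at this
      rw [this]; group
    have h5 : orderOf (y ^ l) = 2 := by rw [h4, ← MulAut.conj_apply, MulEquiv.orderOf_eq, hy]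
    rcases Int.even_or_odd' l with ⟨m, hm | hm⟩
    · rw [hm, zpow_mul, show y ^ (2 : ℤ) = 1 by rw [zpow_two, hy2], one_zpow, orderOf_one] at h5
      omega
    · rw [hm, zpow_add, zpow_mul, show y ^ (2 : ℤ) = 1 by rw [zpow_two, hy2], one_zpow, one_mul,
        zpow_one] at h4
      exact (mul_inv_eq_iff_eq_mul.1 h4.symm)
  -- an element of C times w centralising y
  obtain ⟨c, hc, hcy⟩ : ∃ c ∈ C, c * w * y = y * (c * w) := by
    rcases hHmem h₁ hh₁ with h | h
    · exact ⟨h₁, h, hfix⟩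
    · refine ⟨y * h₁, h, ?_⟩
      rw [mul_assoc y h₁ w, mul_assoc y, hfix]
  -- its p-part is trivial, so w is in C
  haveI : (C.subgroupOf N).Normal := ⟨fun n hn g => Subgroup.mem_subgroupOf.2 (by
    show (g : G) * (n : G) * (g : G)⁻¹ ∈ C
    rw [hCdef, Subgroup.mem_centralizer_iff]
    intro r hr
    have hr' : (g : G)⁻¹ * r * (g : G)⁻¹⁻¹ ∈ R :=
      (Subgroup.mem_normalizer_iff.1 (inv_mem g.2) r).1 hr
    have h1 := Subgroup.mem_centralizer_iff.1 (Subgroup.mem_subgroupOf.1 hn) _ hr'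
    calc r * ((g : G) * n * (g : G)⁻¹) = g * (((g : G)⁻¹ * r * (g : G)⁻¹⁻¹) * n) * (g : G)⁻¹ := by
          group
      _ = g * n * (g : G)⁻¹ * r := by rw [h1]; group)⟩
  obtain ⟨a, b, ⟨i, ha⟩, ⟨j, hb⟩, hab, hao, hbo⟩ := FGS76.exists_split p (c * w)
  have ha1 : a = 1 := hnofix a hao (by
    rw [ha]
    exact ((show Commute (c * w) y from hcy).pow_left i).eq)
  rw [ha1, one_mul] at hab
  have hcwN : c * w ∈ N := mul_mem (hCN hc) hwN
  set π := QuotientGroup.mk' (C.subgroupOf N) with hπ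
  have hww : π ⟨c * w, hcwN⟩ = π ⟨w, hwN⟩ := by
    rw [show (⟨c * w, hcwN⟩ : N) = ⟨c, hCN hc⟩ * ⟨w, hwN⟩ from rfl, map_mul,
      show π ⟨c, hCN hc⟩ = 1 from (QuotientGroup.eq_one_iff _).2 (Subgroup.mem_subgroupOf.2 hc),
      one_mul]
  have hw1 : π ⟨w, hwN⟩ = 1 := by
    rw [← orderOf_eq_one_iff]
    refine Nat.eq_one_of_dvd_coprimes ((hp.coprime_iff_not_dvd.2 hbo).pow_left k) ?_ ?_
    · exact (orderOf_map_dvd π _).trans (by rw [Subgroup.orderOf_mk, hk])
    · rw [← hww]
      exact (orderOf_map_dvd π _).trans (by rw [Subgroup.orderOf_mk, hab])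
  have hwC : w ∈ C := Subgroup.mem_subgroupOf.1 ((QuotientGroup.eq_one_iff _).1 hw1)
  -- but then it lies in the Sylow subgroup R of C
  have hSn : (S : Subgroup C) = R.subgroupOf C := by
    rw [← hSR, hS', Subgroup.subgroupOf, Subgroup.comap_map_eq_self_of_injective C.subtype_injective]
  haveI : (R.subgroupOf C).Normal := ⟨fun n hn g => Subgroup.mem_subgroupOf.2 (by
    have h1 := Subgroup.mem_centralizer_iff.1 g.2 n hn
    show (g : G) * n * (g : G)⁻¹ ∈ R
    rw [← h1, mul_inv_cancel_right]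
    exact hn)⟩
  have hnormS : (S : Subgroup C).Normal := hSn ▸ inferInstance
  obtain ⟨S₂, hS₂⟩ := (FGS76.isPGroup_zpowers (g := (⟨w, hwC⟩ : C))
    ⟨k, by rw [Subgroup.orderOf_mk, hk]⟩).exists_le_sylow
  letI := Sylow.unique_of_normal S hnormS
  rw [Subsingleton.elim S₂ S, hSn] at hS₂
  exact hwR (Subgroup.mem_subgroupOf.2 (Subgroup.mem_subgroupOf.1
    (hS₂ (Subgroup.mem_zpowers _))))

end Cfsg.Agent.S3982
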