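import Cfsg.Statements.S3983
import Cfsg.Agent.FGS76.Basic

set_option autoImplicit false
open scoped Pointwise
open Cfsg

namespace Cfsg.Agent.S3983

/-- Let P be a Sylow p-subgroup of the finite group G that meets each conjugate g P g⁻¹ with g outside N_G(P) trivially, and let U be a subgroup of G of order divisible by p. Then a Sylow p-subgroup Q of U has the same property inside U: Q meets each conjugate u Q u⁻¹ with u ∈ U outside N_U(Q) trivially. -/
theorem result {G : Type*} [Group G] [Finite G] (p : ℕ) [Fact p.Prime] (P : Sylow p G) (hTI : ∀ g : G, g ∉ Subgroup.normalizer ((P : Subgroup G) : Set G) → (P : Subgroup G) ⊓ (MulAut.conj g • (P : Subgroup G)) = ⊥) (U : Subgroup G) (hU : p ∣ Nat.card ↥U) (Q : Sylow p ↥U) : ∀ u : ↥U, u ∉ Subgroup.normalizer ((Q : Subgroup ↥U) : Set ↥U) → (Q : Subgroup ↥U) ⊓ (MulAut.conj u • (Q : Subgroup ↥U)) = ⊥ := by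
  intro u hu
  by_contra hne
  obtain ⟨R, hR⟩ := Q.exists_comap_subtype_eq
  obtain ⟨g, hg⟩ := MulAction.exists_smul_eq G P R
  obtain ⟨x, hx, hx1⟩ := (Subgroup.ne_bot_iff_exists_ne_one).1 hne |>
    (fun ⟨⟨x, hx⟩, h⟩ => ⟨x, hx, fun e => h (Subtype.ext e)⟩ :
      _ → ∃ x : ↥U, x ∈ (Q : Subgroup ↥U) ⊓ (MulAut.conj u • (Q : Subgroup ↥U)) ∧ x ≠ 1)
  obtain ⟨hxQ, y, hyQ, hyx⟩ := hx
  have hxR : (x : G) ∈ (R : Subgroup G) := by
    rw [← hR] at hxQ
    exact hxQ
  have hyR : (y : G) ∈ (R : Subgroup G) := by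
    rw [← hR] at hyQ
    exact hyQ
  have hyx' : (u : G) * y * (u : G)⁻¹ = x := by
    rw [← hyx]
    rfl
  -- move to P
  rw [← hg, Sylow.coe_subgroup_smul] at hxR hyR
  obtain ⟨a, ha, hax⟩ := hxR
  obtain ⟨b, hb, hby⟩ := hyR
  simp only [MulDistribMulAction.toMonoidEnd_apply, MulAut.conj_apply,
    MulDistribMulAction.toMonoidHom_apply, MulAut.smul_def] at hax hby
  have hmem : g⁻¹ * u * g ∈ Subgroup.normalizer ((P : Subgroup G) : Set G) := by
    by_contra h
    have h1 := hTI _ h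
    have h2 : a ∈ (P : Subgroup G) ⊓ MulAut.conj (g⁻¹ * u * g) • (P : Subgroup G) := by
      refine ⟨ha, b, hb, ?_⟩
      show g⁻¹ * u * g * b * (g⁻¹ * u * g)⁻¹ = a
      rw [show a = g⁻¹ * (g * a * g⁻¹) * g by group, hax, ← hyx', ← hby]
      group
    rw [h1, Subgroup.mem_bot] at h2
    rw [h2, mul_one, mul_inv_cancel] at hax
    exact hx1 (Subtype.ext hax.symm)
  refine hu (Subgroup.mem_normalizer_iff.2 fun z => ?_)
  rw [← hR]
  simp only [Subgroup.mem_comap, Subgroup.coe_subtype, Subgroup.coe_mul, InvMemClass.coe_inv,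
    ← hg, Sylow.coe_subgroup_smul]
  have h3 : ∀ w : G, w ∈ MulAut.conj g • (P : Subgroup G) ↔ g⁻¹ * w * g ∈ (P : Subgroup G) := by
    intro w
    rw [Subgroup.mem_pointwise_smul_iff_inv_smul_mem]
    simp [MulAut.smul_def, mul_assoc]
  rw [h3, h3, Subgroup.mem_normalizer_iff.1 hmem]
  group

end Cfsg.Agent.S3983
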