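import Cfsg.Statements.S3984
import Cfsg.Agent.FGS76.Basic

set_option autoImplicit false
open scoped Pointwise
open Cfsg

namespace Cfsg.Agent.S3984

/-- Let P be a Sylow p-subgroup of the finite group G that meets each conjugate g P g⁻¹ with g outside N_G(P) trivially, and let N be a normal subgroup of G of order prime to p. Then every Sylow p-subgroup Q of G ⧸ N meets each conjugate x Q x⁻¹ with x outside its normalizer trivially. -/
theorem result {G : Type*} [Group G] [Finite G] (p : ℕ) [Fact p.Prime] (P : Sylow p G) (hTI : ∀ g : G, g ∉ Subgroup.normalizer ((P : Subgroup G) : Set G) → (P : Subgroup G) ⊓ (MulAut.conj g • (P : Subgroup G)) = ⊥) (N : Subgroup G) [N.Normal] (hN : (Nat.card ↥N).Coprime p) (Q : Sylow p (G ⧸ N)) : ∀ x : G ⧸ N, x ∉ Subgroup.normalizer ((Q : Subgroup (G ⧸ N)) : Set (G ⧸ N)) → (Q : Subgroup (G ⧸ N)) ⊓ (MulAut.conj x • (Q : Subgroup (G ⧸ N))) = ⊥ := by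
  have hp : p.Prime := Fact.out
  intro x hx
  by_contra hne
  have hsurj := QuotientGroup.mk'_surjective N
  obtain ⟨R, hR⟩ := Sylow.mapSurjective_surjective hsurj p Q
  obtain ⟨g, hg⟩ := MulAction.exists_smul_eq G P R
  obtain ⟨a, rfl⟩ := hsurj x
  obtain ⟨⟨y, hy1, w, hw, hwy⟩, hy⟩ := Subgroup.ne_bot_iff_exists_ne_one.1 hne
  rw [← hR, Sylow.coe_mapSurjective] at hy1 hw
  obtain ⟨r, hr, rfl⟩ := hy1
  obtain ⟨s, hs, rfl⟩ := hw
  -- both `r` and a conjugate of `s` are Sylow-contained preimages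
  set M := (Subgroup.zpowers (QuotientGroup.mk' N r)).comap (QuotientGroup.mk' N) with hM
  set c := a * s * a⁻¹ with hc
  have hcr : QuotientGroup.mk' N c = QuotientGroup.mk' N r := by
    rw [← hwy]
    simp [hc]
  obtain ⟨e, hre⟩ := FGS76.orderOf_eq_pow_of_mem R.isPGroup' hr
  obtain ⟨e', hse⟩ := FGS76.orderOf_eq_pow_of_mem R.isPGroup' hs
  have hco : orderOf c = p ^ e' := by rw [hc, ← MulAut.conj_apply, MulEquiv.orderOf_eq, hse]
  -- images of p-elements keep their order
  have hkeep : ∀ v : G, ∀ k : ℕ, orderOf v = p ^ k → orderOf (QuotientGroup.mk' N v) = orderOf v := by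
    intro v k hk
    refine Nat.dvd_antisymm (orderOf_map_dvd _ v) (orderOf_dvd_of_pow_eq_one ?_)
    set o := orderOf (QuotientGroup.mk' N v)
    have h1 : v ^ o ∈ N := by
      rw [← QuotientGroup.eq_one_iff]
      exact (map_pow (QuotientGroup.mk' N) v o).trans (pow_orderOf_eq_one _)
    rw [← orderOf_eq_one_iff]
    refine Nat.eq_one_of_dvd_coprimes (a := p ^ k) (hN.symm.pow_left k) (hk ▸ orderOf_pow_dvd o) ?_
    rw [← Subgroup.orderOf_mk _ h1]
    exact orderOf_dvd_natCard _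
  have hrM : r ∈ M := by simp only [hM, Subgroup.mem_comap, Subgroup.mem_zpowers]
  have hcM : c ∈ M := by simp only [hM, Subgroup.mem_comap, hcr, Subgroup.mem_zpowers]
  have hcard : (Nat.card M).factorization p = e := by
    have : Nat.card M = Nat.card N * p ^ e := by
      rw [← hre, ← hkeep r e hre, ← Nat.card_zpowers]
      exact (Nat.card_congr (QuotientGroup.preimageMkEquivSubgroupProdSet N
        ((Subgroup.zpowers (QuotientGroup.mk' N r) : Subgroup (G ⧸ N)) : Set (G ⧸ N)))).trans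
          (Nat.card_prod _ _)
    rw [this, Nat.factorization_mul Nat.card_pos.ne' (pow_ne_zero _ hp.ne_zero)]
    simp [Nat.factorization_eq_zero_of_not_dvd ((hp.coprime_iff_not_dvd).1 hN.symm),
      hp.factorization_pow]
  let S : Sylow p M := Sylow.ofCard (Subgroup.zpowers ⟨r, hrM⟩)
    (by rw [Nat.card_zpowers, Subgroup.orderOf_mk, hcard, hre])
  let S' : Sylow p M := Sylow.ofCard (Subgroup.zpowers ⟨c, hcM⟩)
    (by rw [Nat.card_zpowers, Subgroup.orderOf_mk, hcard, ← hre, ← hkeep r e hre, ← hcr,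
      hkeep c e' hco])
  obtain ⟨⟨m, hmM⟩, hm⟩ := MulAction.exists_smul_eq M S' S
  have hmr : m * c * m⁻¹ ∈ Subgroup.zpowers r := by
    have h3 : ((⟨m, hmM⟩ : M) * ⟨c, hcM⟩ * (⟨m, hmM⟩ : M)⁻¹) ∈ (S : Subgroup M) := by
      rw [← hm, Sylow.coe_subgroup_smul]
      exact ⟨_, Subgroup.mem_zpowers _, rfl⟩
    obtain ⟨l, hl⟩ := Subgroup.mem_zpowers_iff.1 h3
    exact Subgroup.mem_zpowers_iff.2 ⟨l, by simpa using congrArg Subtype.val hl⟩
  -- so `m * a` normalizes `R`
  have hRTI : m * a ∈ Subgroup.normalizer ((R : Subgroup G) : Set G) := by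
    by_contra h
    have hmemR : ∀ v ∈ (R : Subgroup G), g⁻¹ * v * g ∈ (P : Subgroup G) := by
      intro v hv
      rw [← hg, Sylow.coe_subgroup_smul, Subgroup.mem_pointwise_smul_iff_inv_smul_mem] at hv
      simpa [MulAut.smul_def, mul_assoc] using hv
    have hnP : g⁻¹ * (m * a) * g ∉ Subgroup.normalizer ((P : Subgroup G) : Set G) := by
      intro hcon
      refine h (Subgroup.mem_normalizer_iff.2 fun v => ?_)
      simp only [← hg, Sylow.coe_subgroup_smul, Subgroup.mem_pointwise_smul_iff_inv_smul_mem]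
      simp only [MulAut.smul_def, ← map_inv, MulAut.conj_apply, inv_inv]
      rw [Subgroup.mem_normalizer_iff.1 hcon]
      group
    have h1 : g⁻¹ * (m * c * m⁻¹) * g ∈
        (P : Subgroup G) ⊓ MulAut.conj (g⁻¹ * (m * a) * g) • (P : Subgroup G) := by
      refine ⟨hmemR _ (Subgroup.zpowers_le.2 hr hmr), g⁻¹ * s * g, hmemR s hs, ?_⟩
      show g⁻¹ * (m * a) * g * (g⁻¹ * s * g) * (g⁻¹ * (m * a) * g)⁻¹ = _
      rw [hc]
      group
    rw [hTI _ hnP, Subgroup.mem_bot] at h1
    have hc1 : c = 1 := by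
      calc c = m⁻¹ * g * (g⁻¹ * (m * c * m⁻¹) * g) * g⁻¹ * m := by group
        _ = 1 := by rw [h1]; group
    apply hy
    apply Subtype.ext
    show QuotientGroup.mk' N r = 1
    rw [← hcr, hc1, map_one]
  refine hx ?_
  have himg : QuotientGroup.mk' N (m * a) ∈
      Subgroup.normalizer ((Q : Subgroup (G ⧸ N)) : Set (G ⧸ N)) := by
    rw [← hR, Sylow.coe_mapSurjective]
    exact Subgroup.le_normalizer_map _ (Subgroup.mem_map_of_mem _ hRTI)
  have hmQ : QuotientGroup.mk' N m ∈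
      Subgroup.normalizer ((Q : Subgroup (G ⧸ N)) : Set (G ⧸ N)) := by
    apply Subgroup.le_normalizer
    refine Subgroup.zpowers_le.2 ?_ (Subgroup.mem_comap.1 hmM)
    rw [← hR, Sylow.coe_mapSurjective]
    exact Subgroup.mem_map_of_mem _ hr
  rw [map_mul] at himg
  exact (Subgroup.mul_mem_cancel_left _ hmQ).1 himg

end Cfsg.Agent.S3984
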