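import Cfsg.Statements.S3985
import Cfsg.Agent.FGS76.Basic

set_option autoImplicit false
open scoped Pointwise
open Cfsg

namespace Cfsg.Agent.S3985

/-- Let P be a cyclic Sylow p-subgroup of the finite group G. Then P meets each conjugate g P g⁻¹ with g outside N_G(P) trivially if and only if P is weakly self-centralizing: C_G(x) = C_G(P) for every non-identity x ∈ P. -/
theorem result {G : Type*} [Group G] [Finite G] (p : ℕ) [Fact p.Prime] (P : Sylow p G) (hcyc : IsCyclic ↥(P : Subgroup G)) : (∀ g : G, g ∉ Subgroup.normalizer ((P : Subgroup G) : Set G) → (P : Subgroup G) ⊓ (MulAut.conj g • (P : Subgroup G)) = ⊥) ↔ ∀ x : G, x ∈ (P : Subgroup G) → x ≠ 1 → Subgroup.centralizer ({x} : Set G) = Subgroup.centralizer ((P : Subgroup G) : Set G) := by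
  have hp : p.Prime := Fact.out
  constructor
  · intro hTI x hx hx1
    refine le_antisymm ?_ (Subgroup.centralizer_le (Set.singleton_subset_iff.2 hx))
    intro c hc
    rw [Subgroup.mem_centralizer_singleton_iff] at hc
    have hcN : c ∈ Subgroup.normalizer ((P : Subgroup G) : Set G) := by
      by_contra h
      have h1 : x ∈ (P : Subgroup G) ⊓ MulAut.conj c • (P : Subgroup G) :=
        ⟨hx, x, hx, by show c * x * c⁻¹ = x; rw [hc, mul_inv_cancel_right]⟩
      rw [hTI c h, Subgroup.mem_bot] at h1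
      exact hx1 h1
    obtain ⟨s, hs⟩ := hcyc.exists_generator
    have hgen : ∀ w ∈ (P : Subgroup G), ∃ m : ℤ, (s : G) ^ m = w := by
      intro w hw
      obtain ⟨m, hm⟩ := Subgroup.mem_zpowers_iff.1 (hs ⟨w, hw⟩)
      exact ⟨m, congrArg Subtype.val hm⟩
    obtain ⟨k, hk⟩ := hgen (c * s * c⁻¹) ((Subgroup.mem_normalizer_iff.1 hcN _).1 s.2)
    obtain ⟨n, hn⟩ : ∃ n : ℕ, orderOf (s : G) = p ^ n :=
      FGS76.orderOf_eq_pow_of_mem P.isPGroup' s.2
    -- conjugation by `c` raises to a power congruent to 1 mod p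
    obtain ⟨m, rfl⟩ := hgen x hx
    have hkm : (p : ℤ) ∣ k - 1 := by
      have h1 : ((p ^ n : ℕ) : ℤ) ∣ m * (k - 1) := by
        rw [← hn, orderOf_dvd_iff_zpow_eq_one, mul_sub, mul_one, zpow_sub, mul_inv_eq_one,
          mul_comm m k, zpow_mul, hk, conj_zpow, hc, mul_inv_cancel_right]
      have hpp : Prime (p : ℤ) := Nat.prime_iff_prime_int.1 hp
      by_contra hnd
      have h2 : ((p ^ n : ℕ) : ℤ) ∣ m := by
        push_cast at h1 ⊢
        exact (hpp.coprime_iff_not_dvd.2 hnd).pow_left.dvd_of_dvd_mul_right h1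
      rw [← hn, orderOf_dvd_iff_zpow_eq_one] at h2
      exact hx1 h2
    have hpow : ∀ j : ℕ, c ^ j * s * (c ^ j)⁻¹ = (s : G) ^ (k ^ j) := by
      intro j
      induction j with
      | zero => simp
      | succ j ih =>
        rw [pow_succ', pow_succ, zpow_mul, ← ih, conj_zpow, hk]
        group
    have hcp : c ^ p ^ n ∈ Subgroup.centralizer ((P : Subgroup G) : Set G) := by
      rw [Subgroup.mem_centralizer_iff]
      intro w hw
      obtain ⟨l, rfl⟩ := hgen w hw
      have h1 : ((p ^ n : ℕ) : ℤ) ∣ k ^ p ^ n - 1 := by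
        have := dvd_sub_pow_of_dvd_sub (a := k) (b := 1) hkm n
        push_cast at this ⊢
        rw [one_pow] at this
        exact (pow_dvd_pow _ (Nat.le_succ n)).trans this
      have h2 := hpow (p ^ n)
      generalize p ^ n = N at h1 h2 hn ⊢
      have h1' : (orderOf (s : G) : ℤ) ∣ k ^ N - 1 := by rw [hn]; exact h1
      rw [orderOf_dvd_iff_zpow_eq_one, zpow_sub, zpow_one, mul_inv_eq_one] at h1'
      have h3 : Commute (c ^ N) (s : G) := mul_inv_eq_iff_eq_mul.1 (h2.trans h1')
      exact (h3.zpow_right l).eq.symm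
    obtain ⟨a, b, ⟨i, ha⟩, ⟨j, hb⟩, hab, ⟨e, hao⟩, hbo⟩ := FGS76.exists_split p c
    have haP : a ∈ (P : Subgroup G) := by
      obtain ⟨R, hR⟩ := ((FGS76.isPGroup_zpowers ⟨e, hao⟩).to_sup_of_normal_right' P.isPGroup'
        (Subgroup.zpowers_le.2 (ha ▸ pow_mem hcN i))).exists_le_sylow
      rw [← P.is_maximal' R.isPGroup' (le_sup_right.trans hR)]
      exact hR (Subgroup.mem_sup_left (Subgroup.mem_zpowers a))
    have haC : a ∈ Subgroup.centralizer ((P : Subgroup G) : Set G) := by
      rw [Subgroup.mem_centralizer_iff]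
      intro w hw
      exact congrArg Subtype.val (hcyc.commGroup.mul_comm (⟨w, hw⟩ : (P : Subgroup G)) ⟨a, haP⟩)
    have hbC : b ∈ Subgroup.centralizer ((P : Subgroup G) : Set G) := by
      have h1 : b ^ p ^ n ∈ Subgroup.centralizer ((P : Subgroup G) : Set G) := by
        rw [hb, ← pow_mul, mul_comm, pow_mul]
        exact pow_mem hcp j
      obtain ⟨u, v, huv⟩ : ∃ u v : ℤ, u * (p ^ n : ℕ) + v * orderOf b = 1 :=
        ⟨_, _, (Nat.Coprime.isCoprime (((hp.coprime_iff_not_dvd).2 hbo).pow_left n)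
          ).choose_spec.choose_spec⟩
      have h2 : b = (b ^ p ^ n) ^ u := by
        conv_lhs => rw [← zpow_one b, ← huv, zpow_add, mul_comm u, zpow_mul, zpow_natCast,
          mul_comm v, zpow_mul, zpow_natCast, pow_orderOf_eq_one, one_zpow, mul_one]
      rw [h2]
      exact zpow_mem h1 u
    rw [← hab]
    exact mul_mem haC hbC
  · intro h g hg
    by_contra hne
    obtain ⟨⟨x, hxP, hxg⟩, hx1⟩ := Subgroup.ne_bot_iff_exists_ne_one.1 hne
    have hx1' : x ≠ 1 := fun e => hx1 (Subtype.ext e)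
    have hC := h x hxP hx1'
    have hcomm : ∀ (Q : Subgroup G), IsCyclic Q → x ∈ Q → Q ≤ Subgroup.centralizer ({x} : Set G) := by
      intro Q hQ hxQ w hw
      rw [Subgroup.mem_centralizer_singleton_iff]
      exact congrArg Subtype.val (hQ.commGroup.mul_comm (⟨w, hw⟩ : Q) ⟨x, hxQ⟩)
    have h1 : MulAut.conj g • (P : Subgroup G) ≤ Subgroup.centralizer ((P : Subgroup G) : Set G) := by
      rw [← hC]
      refine hcomm _ ?_ hxg
      exact isCyclic_of_surjective _ (Subgroup.equivSMul _ (P : Subgroup G)).surjective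
    have h2 : IsPGroup p ↥((g • P : Sylow p G) : Subgroup G) := (g • P).isPGroup'
    have h3 : IsPGroup p ↥(((g • P : Sylow p G) : Subgroup G) ⊔ (P : Subgroup G)) := by
      refine h2.to_sup_of_normal_right' P.isPGroup' ?_
      intro w hw
      rw [Subgroup.mem_normalizer_iff]
      intro z
      have hwC := h1 (Sylow.coe_subgroup_smul (g := g) (P := P) ▸ hw)
      constructor
      · intro hz
        rwa [← Subgroup.mem_centralizer_iff.1 hwC z hz, mul_inv_cancel_right]
      · intro hz
        have h4 := Subgroup.mem_centralizer_iff.1 hwC _ hz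
        rw [inv_mul_cancel_right] at h4
        rwa [← (mul_left_cancel h4 : z = w * z * w⁻¹)] at hz
    have h5 := P.is_maximal' h3 le_sup_right
    have h6 := (g • P).is_maximal' P.isPGroup' (h5 ▸ le_sup_left)
    exact hg (Sylow.smul_eq_iff_mem_normalizer.1 (Sylow.ext h6.symm))

end Cfsg.Agent.S3985
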