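import Cfsg.Statements.S3986
import Cfsg.Agent.FGS76.Basic

set_option autoImplicit false
open Cfsg

namespace Cfsg.Agent.S3986

/-- Let p be a prime and G a finite group. Then some Sylow p-subgroup of G is a direct factor of G (it is normal and has a normal complement) if and only if every element of p-power order commutes with every element whose order is a power of a prime other than p. -/
theorem result {G : Type*} [Group G] [Finite G] (p : ℕ) [Fact p.Prime] : (∃ (P : Sylow p G) (K : Subgroup G), (P : Subgroup G).Normal ∧ K.Normal ∧ (P : Subgroup G) ⊓ K = ⊥ ∧ (P : Subgroup G) ⊔ K = ⊤) ↔ ∀ x y : G, (∃ a : ℕ, orderOf x = p ^ a) → (∃ q b : ℕ, q.Prime ∧ q ≠ p ∧ orderOf y = q ^ b) → x * y = y * x := by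
  constructor
  · rintro ⟨P, K, hPn, hKn, hinf, hsup⟩ x y ⟨a, hxa⟩ ⟨q, b, hq, hqp, hyb⟩
    have hx : x ∈ (P : Subgroup G) := by
      obtain ⟨Q, hQ⟩ := (FGS76.isPGroup_zpowers (p := p) ⟨a, hxa⟩).exists_le_sylow
      letI := Sylow.unique_of_normal P hPn
      rw [Subsingleton.elim P Q]
      exact hQ (Subgroup.mem_zpowers x)
    have hy : y ∈ K := by
      rw [← QuotientGroup.eq_one_iff, ← orderOf_eq_one_iff]
      have h1 : K.index = Nat.card (P : Subgroup G) := by
        rw [← Subgroup.relIndex_top_right K, ← hsup, Subgroup.relIndex_sup_right,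
          ← Subgroup.inf_relIndex_right, inf_comm, hinf, Subgroup.relIndex_bot_left]
      obtain ⟨n, hn⟩ := IsPGroup.iff_card.1 P.isPGroup'
      have h2 : orderOf (y : G ⧸ K) ∣ p ^ n := by
        rw [← hn, ← h1, Subgroup.index_eq_card]
        exact orderOf_dvd_natCard _
      have h3 : orderOf (y : G ⧸ K) ∣ q ^ b := hyb ▸ orderOf_map_dvd (QuotientGroup.mk' K) y
      exact Nat.eq_one_of_dvd_coprimes
        (FGS76.not_dvd_of_prime_pow Fact.out hq hqp ⟨n, rfl⟩ ⟨b, rfl⟩) h2 h3
    exact Subgroup.commute_of_normal_of_disjoint (P : Subgroup G) K hPn hKn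
      (disjoint_iff.2 hinf) x y hx hy
  · intro h
    obtain ⟨P⟩ := (inferInstance : Nonempty (Sylow p G))
    have htop : (P : Subgroup G) ⊔ Subgroup.centralizer ((P : Subgroup G) : Set G) = ⊤ := by
      rw [← Subgroup.index_eq_one]
      by_contra hne
      obtain ⟨q, hq, hqd⟩ := Nat.exists_prime_and_dvd hne
      by_cases hqp : q = p
      · subst hqp
        exact P.not_dvd_index (hqd.trans (Subgroup.index_dvd_of_le le_sup_left))
      haveI : Fact q.Prime := ⟨hq⟩
      obtain ⟨Q⟩ := (inferInstance : Nonempty (Sylow q G))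
      have hQC : (Q : Subgroup G) ≤ Subgroup.centralizer ((P : Subgroup G) : Set G) := by
        intro y hy
        rw [Subgroup.mem_centralizer_iff]
        intro x hx
        obtain ⟨b, hb⟩ := FGS76.orderOf_eq_pow_of_mem Q.isPGroup' hy
        exact h x y (FGS76.orderOf_eq_pow_of_mem P.isPGroup' hx) ⟨q, b, hq, hqp, hb⟩
      exact Q.not_dvd_index (hqd.trans (Subgroup.index_dvd_of_le (hQC.trans le_sup_right)))
    obtain ⟨hPn, H, hHn, -, hinf, hsup⟩ := FGS76.direct_factor_of_sup_centralizer P htop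
    exact ⟨P, H, hPn, hHn, hinf, hsup⟩

end Cfsg.Agent.S3986
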