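import Cfsg.Statements.S3987
import Cfsg.Agent.FGS76.Basic

set_option autoImplicit false
open Cfsg

namespace Cfsg.Agent.S3987

/-- Let p be a prime and G a finite group. Then some Sylow p-subgroup of G is a direct factor of G (normal with a normal complement) if and only if for every element x of p-power order and every element y whose order is a power of a prime other than p, the conjugacy class of x y has as many elements as the product of the sizes of the classes of x and of y. -/
theorem result {G : Type*} [Group G] [Finite G] (p : ℕ) [Fact p.Prime] : (∃ (P : Sylow p G) (K : Subgroup G), (P : Subgroup G).Normal ∧ K.Normal ∧ (P : Subgroup G) ⊓ K = ⊥ ∧ (P : Subgroup G) ⊔ K = ⊤) ↔ ∀ x y : G, (∃ a : ℕ, orderOf x = p ^ a) → (∃ q b : ℕ, q.Prime ∧ q ≠ p ∧ orderOf y = q ^ b) → (Subgroup.centralizer ({x * y} : Set G)).index = (Subgroup.centralizer ({x} : Set G)).index * (Subgroup.centralizer ({y} : Set G)).index := by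
  have hcopo : ∀ x y : G, (∃ a : ℕ, orderOf x = p ^ a) →
      (∃ q b : ℕ, q.Prime ∧ q ≠ p ∧ orderOf y = q ^ b) → (orderOf x).Coprime (orderOf y) := by
    rintro x y hx ⟨q, b, hq, hqp, hy⟩
    exact FGS76.not_dvd_of_prime_pow Fact.out hq hqp hx ⟨b, hy⟩
  constructor
  · rintro ⟨P, K, hPn, hKn, hinf, hsup⟩ x y hx hy
    obtain ⟨a, hxa⟩ := hx
    obtain ⟨q, b, hq, hqp, hyb⟩ := hy
    have hx : x ∈ (P : Subgroup G) := by
      obtain ⟨Q, hQ⟩ := (FGS76.isPGroup_zpowers (p := p) ⟨a, hxa⟩).exists_le_sylow
      letI := Sylow.unique_of_normal P hPn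
      rw [Subsingleton.elim P Q]
      exact hQ (Subgroup.mem_zpowers x)
    obtain ⟨n, hn⟩ := IsPGroup.iff_card.1 P.isPGroup'
    have hKidx : K.index = Nat.card (P : Subgroup G) := by
      rw [← Subgroup.relIndex_top_right K, ← hsup, Subgroup.relIndex_sup_right,
        ← Subgroup.inf_relIndex_right, inf_comm, hinf, Subgroup.relIndex_bot_left]
    have hy : y ∈ K := by
      rw [← QuotientGroup.eq_one_iff, ← orderOf_eq_one_iff]
      have h2 : orderOf (y : G ⧸ K) ∣ p ^ n := by
        rw [← hn, ← hKidx, Subgroup.index_eq_card]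
        exact orderOf_dvd_natCard _
      exact Nat.eq_one_of_dvd_coprimes (FGS76.not_dvd_of_prime_pow Fact.out hq hqp ⟨n, rfl⟩
        ⟨b, rfl⟩) h2 (hyb ▸ orderOf_map_dvd (QuotientGroup.mk' K) y)
    have hcomm : ∀ u ∈ (P : Subgroup G), ∀ v ∈ K, Commute u v := fun u hu v hv =>
      Subgroup.commute_of_normal_of_disjoint (P : Subgroup G) K hPn hKn (disjoint_iff.2 hinf) u v hu hv
    have hC1 : (Subgroup.centralizer ({x} : Set G)).index ∣ K.index :=
      Subgroup.index_dvd_of_le fun v hv =>
        Subgroup.mem_centralizer_singleton_iff.2 (hcomm x hx v hv).eq.symm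
    have hC2 : (Subgroup.centralizer ({y} : Set G)).index ∣ (P : Subgroup G).index :=
      Subgroup.index_dvd_of_le fun v hv =>
        Subgroup.mem_centralizer_singleton_iff.2 (hcomm v hv y hy).eq
    have hcop : (Subgroup.centralizer ({x} : Set G)).index.Coprime
        (Subgroup.centralizer ({y} : Set G)).index := by
      refine Nat.Coprime.coprime_dvd_right hC2 (Nat.Coprime.coprime_dvd_left hC1 ?_)
      rw [hKidx, hn]
      exact ((Fact.out : p.Prime).coprime_iff_not_dvd.2 P.not_dvd_index).pow_left n
    have hpow : Subgroup.centralizer ({x * y} : Set G) =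
        Subgroup.centralizer ({x} : Set G) ⊓ Subgroup.centralizer ({y} : Set G) := by
      have hxy : Commute x y := hcomm x hx y hy
      apply le_antisymm
      · intro g hg
        rw [Subgroup.mem_centralizer_singleton_iff] at hg
        obtain ⟨i, hi1, hi2⟩ := Nat.chineseRemainder (hcopo x y ⟨a, hxa⟩ ⟨q, b, hq, hqp, hyb⟩) 1 0
        have h1 : (x * y) ^ i = x := by
          rw [hxy.mul_pow, pow_eq_pow_iff_modEq.2 hi1, pow_one,
            orderOf_dvd_iff_pow_eq_one.1 (Nat.modEq_zero_iff_dvd.1 hi2), mul_one]
        have h2 : Commute g x := h1 ▸ (show Commute g (x * y) from hg).pow_right i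
        refine ⟨Subgroup.mem_centralizer_singleton_iff.2 h2.eq,
          Subgroup.mem_centralizer_singleton_iff.2 ?_⟩
        have h3 : Commute g (x⁻¹ * (x * y)) := h2.inv_right.mul_right hg
        rw [inv_mul_cancel_left] at h3
        exact h3.eq
      · intro g hg
        exact Subgroup.mem_centralizer_singleton_iff.2 ((show Commute g x from
          Subgroup.mem_centralizer_singleton_iff.1 hg.1).mul_right
            (Subgroup.mem_centralizer_singleton_iff.1 hg.2)).eq
    rw [hpow]
    refine le_antisymm Subgroup.index_inf_le (Nat.le_of_dvd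
      (Nat.pos_of_ne_zero Subgroup.index_ne_zero_of_finite) ?_)
    exact hcop.mul_dvd_of_dvd_of_dvd (Subgroup.index_dvd_of_le inf_le_left)
      (Subgroup.index_dvd_of_le inf_le_right)
  · intro h
    obtain ⟨P⟩ := (inferInstance : Nonempty (Sylow p G))
    have hcomm : ∀ x y : G, (∃ a : ℕ, orderOf x = p ^ a) →
        (∃ q b : ℕ, q.Prime ∧ q ≠ p ∧ orderOf y = q ^ b) → x * y = y * x := by
      intro x y hx hy
      set A := Subgroup.centralizer ({x} : Set G) with hA
      set B := Subgroup.centralizer ({y} : Set G) with hB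
      have hle : A ⊓ B ≤ Subgroup.centralizer ({x * y} : Set G) := fun g hg =>
        Subgroup.mem_centralizer_singleton_iff.2 ((show Commute g x from
          Subgroup.mem_centralizer_singleton_iff.1 hg.1).mul_right
            (Subgroup.mem_centralizer_singleton_iff.1 hg.2)).eq
      have h1 : Subgroup.centralizer ({x * y} : Set G) = A ⊓ B := by
        refine (Subgroup.eq_of_le_of_card_ge hle ?_).symm
        have h2 := Subgroup.card_mul_index (Subgroup.centralizer ({x * y} : Set G))
        have h3 := Subgroup.card_mul_index (A ⊓ B)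
        have h4 : (A ⊓ B).index ≤ (Subgroup.centralizer ({x * y} : Set G)).index := by
          rw [h x y hx hy]; exact Subgroup.index_inf_le
        have h5 : 0 < (Subgroup.centralizer ({x * y} : Set G)).index :=
          Nat.pos_of_ne_zero Subgroup.index_ne_zero_of_finite
        nlinarith
      have h6 : x * y ∈ Subgroup.centralizer ({x * y} : Set G) :=
        Subgroup.mem_centralizer_singleton_iff.2 rfl
      rw [h1] at h6
      have h7 := Subgroup.mem_centralizer_singleton_iff.1 h6.1
      rw [mul_assoc] at h7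
      exact (mul_left_cancel h7).symm
    have htop : (P : Subgroup G) ⊔ Subgroup.centralizer ((P : Subgroup G) : Set G) = ⊤ := by
      rw [← Subgroup.index_eq_one]
      by_contra hne
      obtain ⟨q, hq, hqd⟩ := Nat.exists_prime_and_dvd hne
      by_cases hqp : q = p
      · subst hqp
        exact P.not_dvd_index (hqd.trans (Subgroup.index_dvd_of_le le_sup_left))
      haveI : Fact q.Prime := ⟨hq⟩
      obtain ⟨Q⟩ := (inferInstance : Nonempty (Sylow q G))
      have hQC : (Q : Subgroup G) ≤ Subgroup.centralizer ((P : Subgroup G) : Set G) := by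
        intro y hy
        rw [Subgroup.mem_centralizer_iff]
        intro x hx
        obtain ⟨b, hb⟩ := FGS76.orderOf_eq_pow_of_mem Q.isPGroup' hy
        exact hcomm x y (FGS76.orderOf_eq_pow_of_mem P.isPGroup' hx) ⟨q, b, hq, hqp, hb⟩
      exact Q.not_dvd_index (hqd.trans (Subgroup.index_dvd_of_le (hQC.trans le_sup_right)))
    obtain ⟨hPn, H, hHn, -, hinf, hsup⟩ := FGS76.direct_factor_of_sup_centralizer P htop
    exact ⟨P, H, hPn, hHn, hinf, hsup⟩

end Cfsg.Agent.S3987
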