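import Cfsg.Statements.S3989
import Cfsg.Agent.Lib.Thompson.PSolvable
import Cfsg.Agent.Lib.Transfer.Frobenius

/-!
If conjugates of a `p`-element times a `p'`-element of prime power order stay in one class, the
group is `p`-solvable: a `p`-element `x = [u, y]` makes the class of `y` stable under left
multiplication by the normal closure of `x`.
-/

set_option autoImplicit false
open Cfsg

namespace Cfsg.Agent.S3989

universe u

/-- Conjugating the first factor does not change the class of the product. -/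
def ClassMul (p : ℕ) (G : Type*) [Group G] : Prop :=
  ∀ x y a : G, (∃ k : ℕ, x ^ p ^ k = 1) → (∃ q k : ℕ, q.Prime ∧ q ≠ p ∧ y ^ q ^ k = 1) →
    IsConj (x * y) (a * x * a⁻¹ * y)

theorem exists_lift {G H : Type*} [Group G] [Finite G] [Group H] (f : G →* H)
    (hf : Function.Surjective f) {r : ℕ} (hr : r.Prime) {x : H} {a : ℕ} (hx : x ^ r ^ a = 1) :
    ∃ g : G, f g = x ∧ ∃ k : ℕ, g ^ r ^ k = 1 := by
  obtain ⟨g, rfl⟩ := hf x
  obtain ⟨k, m, hm, hkm⟩ :=
    Nat.exists_eq_pow_mul_and_not_dvd (orderOf_pos g).ne' r hr.ne_one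
  have hcop : m.Coprime (orderOf (f g)) :=
    Nat.Coprime.coprime_dvd_right (orderOf_dvd_of_pow_eq_one hx)
      (Nat.Coprime.pow_right a (hr.coprime_iff_not_dvd.mpr hm).symm)
  obtain ⟨t, ht⟩ := exists_pow_eq_self_of_coprime hcop
  refine ⟨(g ^ m) ^ t, by rw [map_pow, map_pow]; exact ht, k, ?_⟩
  rw [← pow_mul, ← pow_mul, show m * (t * r ^ k) = r ^ k * m * t by ring, ← hkm, pow_mul,
    pow_orderOf_eq_one, one_pow]

theorem classMul_quotient {p : ℕ} [hp : Fact p.Prime] {G : Type*} [Group G] [Finite G]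
    (N : Subgroup G) [N.Normal] (h : ClassMul p G) : ClassMul p (G ⧸ N) := by
  rintro x y a ⟨k, hk⟩ ⟨q, j, hq, hqp, hj⟩
  have hf := QuotientGroup.mk'_surjective N
  obtain ⟨x', rfl, hx'⟩ := exists_lift _ hf hp.out hk
  obtain ⟨y', rfl, hy'⟩ := exists_lift _ hf hq hj
  obtain ⟨a', rfl⟩ := hf a
  obtain ⟨j', hj'⟩ := hy'
  have := (QuotientGroup.mk' N).map_isConj (h x' y' a' hx' ⟨q, j', hq, hqp, hj'⟩)
  simpa only [map_mul, map_inv] using this

/-- A minimal normal subgroup is a `p`-group or has order prime to `p`. -/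
theorem minimal_case {p : ℕ} [hp : Fact p.Prime] {G : Type*} [Group G] [Finite G]
    (h : ClassMul p G) (N : Subgroup G) [N.Normal]
    (hmin : ∀ M : Subgroup G, M.Normal → M ≤ N → M = ⊥ ∨ M = N) :
    IsPGroup p N ∨ (Nat.card N).Coprime p := by
  by_cases hc : HasNormalPComplement p ↥N
  · set S : Set G := {g | g ∈ N ∧ (orderOf g).Coprime p} with hS
    have hconj : ∀ g ∈ S, ∀ a : G, a * g * a⁻¹ ∈ S := by
      rintro g ⟨hg, hgp⟩ a
      refine ⟨(inferInstance : N.Normal).conj_mem g hg a, ?_⟩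
      rwa [show a * g * a⁻¹ = MulAut.conj a g from rfl, MulEquiv.orderOf_eq]
    have hn : (Subgroup.closure S).Normal := by
      refine ⟨fun g hg a => ?_⟩
      have hle : Subgroup.closure S ≤ (Subgroup.closure S).comap (MulAut.conj a).toMonoidHom := by
        rw [Subgroup.closure_le]
        exact fun s hs => Subgroup.subset_closure (hconj s hs a)
      exact hle hg
    have hres : Subgroup.closure S ≤ (pResidual p ↥N).map N.subtype := by
      rw [Subgroup.closure_le]
      rintro g ⟨hg, hgp⟩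
      exact ⟨⟨g, hg⟩, Transfer.mem_pResidual_of_coprime (by rwa [Subgroup.orderOf_mk]), rfl⟩
    rcases hmin _ hn ((Subgroup.closure_le N).2 fun g hg => hg.1) with h0 | h1
    · left
      intro g
      obtain ⟨k, m, hm, hkm⟩ :=
        Nat.exists_eq_pow_mul_and_not_dvd (orderOf_pos g).ne' p hp.out.ne_one
      refine ⟨k, ?_⟩
      have hord : (orderOf (g ^ p ^ k)).Coprime p := by
        refine Nat.Coprime.coprime_dvd_left (orderOf_dvd_of_pow_eq_one ?_)
          (hp.out.coprime_iff_not_dvd.mpr hm).symm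
        rw [← pow_mul, ← hkm, pow_orderOf_eq_one]
      have : ((g ^ p ^ k : ↥N) : G) ∈ Subgroup.closure S :=
        Subgroup.subset_closure ⟨(g ^ p ^ k).2, by rwa [Subgroup.orderOf_coe]⟩
      rw [h0, Subgroup.mem_bot] at this
      exact Subtype.ext this
    · right
      rw [Nat.coprime_comm, hp.out.coprime_iff_not_dvd]
      intro hdvd
      obtain ⟨g, hg⟩ := exists_prime_orderOf_dvd_card' p hdvd
      obtain ⟨g', hg', hgg⟩ := hres (h1.ge g.2)
      have hcop := (Transfer.mem_pResidual_iff_coprime hc).mp hg'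
      rw [Subtype.ext hgg] at hcop
      rw [hg, Nat.coprime_self] at hcop
      exact hp.out.ne_one hcop
  exfalso
  apply hc
  refine Transfer.hasNormalPComplement_of_normalizer_centralizer (default : Sylow p ↥N)
    fun Q hQ _ g hg hgp => ?_
  by_contra hgc
  -- a prime power part of `g` moves `Q`
  obtain ⟨y, hyn, hyc, q, j, hq, hqp, hyq⟩ : ∃ y : ↥N, y ∈ Subgroup.normalizer (Q : Set ↥N) ∧
      y ∉ Subgroup.centralizer (Q : Set ↥N) ∧
      ∃ q j : ℕ, q.Prime ∧ q ≠ p ∧ y ^ q ^ j = 1 := by
    by_contra hno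
    push Not at hno
    apply hgc
    have htop : (Subgroup.centralizer (Q : Set ↥N)).subgroupOf (Subgroup.zpowers g) = ⊤ := by
      refine Transfer.eq_top_of_prime_pow_orderOf_mem fun q hq z hz => ?_
      obtain ⟨j, hz⟩ := hz
      rw [Subgroup.mem_subgroupOf]
      by_cases hqp : q = p
      · subst hqp
        have hd : orderOf z ∣ orderOf g := by
          rw [← Subgroup.orderOf_coe]
          exact orderOf_dvd_of_mem_zpowers z.2
        rw [hz] at hd
        have h1 : orderOf z = 1 := by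
          rw [hz]
          exact Nat.eq_one_of_dvd_coprimes (Nat.Coprime.pow_right j hgp) hd dvd_rfl
        rw [orderOf_eq_one_iff.mp h1]
        exact Subgroup.one_mem _
      · by_contra hzc
        refine hno (z : ↥N) (Subgroup.zpowers_le.2 hg z.2) hzc q j hq hqp ?_
        rw [← Subgroup.coe_pow, ← hz, pow_orderOf_eq_one, Subgroup.coe_one]
    exact Subgroup.mem_subgroupOf.mp (htop.ge (Subgroup.mem_top
      (⟨g, Subgroup.mem_zpowers g⟩ : Subgroup.zpowers g)))
  obtain ⟨u, hu, huy⟩ : ∃ u ∈ Q, u * y ≠ y * u := by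
    by_contra hno
    push Not at hno
    exact hyc (Subgroup.mem_centralizer_iff.mpr hno)
  set x : ↥N := u * (y * u⁻¹ * y⁻¹) with hx
  have hxQ : x ∈ Q :=
    Q.mul_mem hu ((Subgroup.mem_normalizer_iff.mp hyn u⁻¹).mp (Q.inv_mem hu))
  have hx1 : (x : G) ≠ 1 := by
    intro he
    apply huy
    have h2 : u * (y * u⁻¹ * y⁻¹) = 1 := Subtype.ext he
    rw [← mul_assoc, ← mul_assoc, mul_inv_eq_one, mul_inv_eq_iff_eq_mul] at h2
    exact h2
  obtain ⟨k, hk⟩ := (default : Sylow p ↥N).2.to_le hQ ⟨x, hxQ⟩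
  have hxk : (x : G) ^ p ^ k = 1 := by
    simpa using congrArg (fun w : ↥Q => ((w : ↥N) : G)) hk
  have hbase : ∀ a : G, IsConj (y : G) (a * x * a⁻¹ * y) := by
    intro a
    refine IsConj.trans ?_ (h x y a ⟨k, hxk⟩ ⟨q, j, hq, hqp, by
      rw [← Subgroup.coe_pow, hyq, Subgroup.coe_one]⟩)
    exact isConj_iff.mpr ⟨(u : G), by simp [hx, mul_assoc]⟩
  -- the class of `y` is stable under the normal closure of `x`
  have hstab : ∀ m ∈ Subgroup.normalClosure ({(x : G)} : Set G), ∀ z : G,
      IsConj (y : G) z → IsConj (y : G) (m * z) := by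
    have hmon : ∀ m ∈ Submonoid.closure (Group.conjugatesOfSet ({(x : G)} : Set G)), ∀ z : G,
        IsConj (y : G) z → IsConj (y : G) (m * z) := by
      intro m hm
      induction hm using Submonoid.closure_induction with
      | mem m hm =>
        intro z hz
        obtain ⟨w, hw, hm⟩ := Group.mem_conjugatesOfSet_iff.mp hm
        rw [Set.mem_singleton_iff] at hw
        subst hw
        obtain ⟨a, rfl⟩ := isConj_iff.mp hm
        obtain ⟨b, rfl⟩ := isConj_iff.mp hz
        refine (hbase (b⁻¹ * a)).trans (isConj_iff.mpr ⟨b, ?_⟩)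
        group
      | one => intro z hz; simpa using hz
      | mul m n _ _ h1 h2 => intro z hz; rw [mul_assoc]; exact h1 _ (h2 z hz)
    intro m hm
    apply hmon
    rw [← Subgroup.closure_toSubmonoid_of_finite]
    exact hm
  have hxcl : (x : G) ∈ Subgroup.normalClosure ({(x : G)} : Set G) :=
    Subgroup.subset_normalClosure rfl
  rcases hmin _ inferInstance (Subgroup.normalClosure_le_normal
      (Set.singleton_subset_iff.mpr x.2)) with h0 | h1
  · rw [h0] at hxcl
    exact hx1 (Subgroup.mem_bot.mp hxcl)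
  · have hy1 := hstab (y : G)⁻¹ (h1.symm ▸ N.inv_mem y.2) y (IsConj.refl _)
    rw [inv_mul_cancel, isConj_one_left] at hy1
    rw [show y = 1 from Subtype.ext hy1] at hyc
    exact hyc (Subgroup.one_mem _)

theorem isPSolvable_of_classMul {p : ℕ} [hp : Fact p.Prime] (n : ℕ) :
    ∀ (G : Type u) [Group G] [Finite G], Nat.card G = n → ClassMul p G → IsPSolvable p G := by
  induction n using Nat.strong_induction_on with
  | _ n ih =>
    intro G _ _ hn h
    rcases subsingleton_or_nontrivial G with hG | hG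
    · exact Thompson.isPSolvable_of_coprime (by simp [Nat.card_unique])
    obtain ⟨N, hN⟩ := exists_minimal_of_wellFoundedLT
      (P := fun N : Subgroup G => N.Normal ∧ N ≠ ⊥) ⟨⊤, inferInstance, top_ne_bot⟩
    haveI := hN.prop.1
    have hmin : ∀ M : Subgroup G, M.Normal → M ≤ N → M = ⊥ ∨ M = N := fun M hM hle => by
      by_contra hne
      push Not at hne
      exact hne.2 (le_antisymm hle (hN.2 ⟨hM, hne.1⟩ hle))
    refine Thompson.isPSolvable_of_quotient N (minimal_case h N hmin)
      (ih _ ?_ _ rfl (classMul_quotient N h))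
    rw [← hn, Subgroup.card_eq_card_quotient_mul_card_subgroup N]
    exact lt_mul_of_one_lt_right Nat.card_pos
      ((Subgroup.one_lt_card_iff_ne_bot N).mpr hN.prop.2)

/-- Let p be a prime and G a finite group such that for every element x of p-power order and every element y whose order is a power of a prime other than p, the conjugacy class of x y is the set of all products of a conjugate of x with a conjugate of y. Then G is p-solvable. -/
theorem result {G : Type*} [Group G] [Finite G] (p : ℕ) [Fact p.Prime] (h : ∀ x y : G, (∃ a : ℕ, orderOf x = p ^ a) → (∃ q b : ℕ, q.Prime ∧ q ≠ p ∧ orderOf y = q ^ b) → ∀ z : G, IsConj (x * y) z ↔ ∃ a b : G, z = a * x * a⁻¹ * (b * y * b⁻¹)) : Cfsg.IsPSolvable p G := by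
  refine isPSolvable_of_classMul _ G rfl fun x y a hx hy => ?_
  obtain ⟨k, hk⟩ := hx
  obtain ⟨q, j, hq, hqp, hj⟩ := hy
  haveI : Fact q.Prime := ⟨hq⟩
  obtain ⟨i, -, hi⟩ := (Nat.dvd_prime_pow (Fact.out : p.Prime)).mp (orderOf_dvd_of_pow_eq_one hk)
  obtain ⟨l, -, hl⟩ := (Nat.dvd_prime_pow hq).mp (orderOf_dvd_of_pow_eq_one hj)
  exact (h x y ⟨i, hi⟩ ⟨q, l, hq, hqp, hl⟩ _).mpr ⟨a, 1, by group⟩

end Cfsg.Agent.S3989
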