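import Cfsg.Statements.S3994
import Cfsg.Agent.FGS76.CountPow

set_option autoImplicit false
open Cfsg

namespace Cfsg.Agent.S3994

/-- Let G be a finite group and n a positive integer. The number of elements of G whose order is divisible by n is either 0 or divisible by the largest divisor of the order of G that is coprime to n. -/
theorem result {G : Type*} [Group G] [Finite G] (n : ℕ) (hn : 0 < n) :
    Nat.card {g : G // n ∣ orderOf g} = 0 ∨
      (Nat.card G / Nat.gcd (Nat.card G) (n ^ Nat.card G)) ∣ Nat.card {g : G // n ∣ orderOf g} := by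
  right
  set N := Nat.card G with hN
  have hN0 : N ≠ 0 := Nat.card_pos.ne'
  set P := Nat.gcd N (n ^ N) with hP
  set R := N / P with hR
  have hPN : P * R = N := Nat.mul_div_cancel' (Nat.gcd_dvd_left _ _)
  have hnR : n.Coprime R := by
    refine Nat.coprime_of_dvd fun q hq hqn hqR => ?_
    have h1 : P * q ∣ N := hPN ▸ Nat.mul_dvd_mul_left P hqR
    have hP0 : P ≠ 0 := fun h => hN0 (by rw [← hPN, h, zero_mul])
    have h2 := ((Nat.factorization_le_iff_dvd (Nat.mul_ne_zero hP0 hq.ne_zero) hN0).2 h1) q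
    rw [Nat.factorization_mul hP0 hq.ne_zero, hP, Nat.factorization_gcd hN0 (by positivity),
      Nat.factorization_pow, Finsupp.add_apply, Finsupp.inf_apply, Finsupp.smul_apply,
      hq.factorization, Finsupp.single_eq_same, smul_eq_mul] at h2
    have h3 : 1 ≤ n.factorization q := (Nat.Prime.dvd_iff_one_le_factorization hq hn.ne').1 hqn
    have h4 : N.factorization q < N := Nat.factorization_lt q hN0
    have h5 : N ≤ N * n.factorization q := Nat.le_mul_of_pos_right N h3
    rw [inf_of_le_left (by omega)] at h2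
    omega
  have hPR : P.Coprime R :=
    Nat.Coprime.coprime_dvd_left (Nat.gcd_dvd_right _ _) (hnR.pow_left N)
  obtain ⟨e, he1, he0⟩ := Nat.chineseRemainder hPR 1 0
  have hiff : ∀ x : G, (n ∣ orderOf x) ↔ x ^ (P * R) = 1 ∧ n ∣ orderOf (x ^ e) := by
    intro x
    have hxN : x ^ (P * R) = 1 := by rw [hPN, hN]; exact pow_card_eq_one'
    rw [and_iff_right hxN]
    refine ⟨fun h => ?_, fun h => h.trans (orderOf_pow_dvd e)⟩
    have h1 : orderOf x ∣ orderOf (x ^ e) * R := by
      apply orderOf_dvd_of_pow_eq_one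
      have h2 : orderOf (x ^ e) * R * e ≡ orderOf (x ^ e) * R [MOD P * R] := by
        refine (Nat.modEq_and_modEq_iff_modEq_mul hPR).1 ⟨?_, ?_⟩
        · simpa using he1.mul_left (orderOf (x ^ e) * R)
        · exact (Nat.modEq_zero_iff_dvd.2 ((dvd_mul_left R _).mul_right e)).trans
            (Nat.modEq_zero_iff_dvd.2 (dvd_mul_left R _)).symm
      rw [← pow_eq_pow_iff_modEq.2 (h2.of_dvd (orderOf_dvd_of_pow_eq_one hxN)),
        mul_comm (orderOf (x ^ e) * R) e, ← mul_assoc, pow_mul, pow_mul, pow_orderOf_eq_one,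
        one_pow]
    exact hnR.dvd_of_dvd_mul_right (h.trans h1)
  rw [Nat.card_congr (Equiv.subtypeEquivRight hiff)]
  refine FGS76.dvd_card_split hPR e he1 he0 (fun y : G => n ∣ orderOf y) (fun g y hy => ?_) (fun y _ _ => ?_)
  · rwa [← MulAut.conj_apply, MulEquiv.orderOf_eq]
  · exact FGS76.dvd_index_mul_centCount ⟨P, by rw [← hN, ← hPN, mul_comm]⟩ y

end Cfsg.Agent.S3994
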