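import Cfsg.Statements.S3995
import Cfsg.Agent.FGS76.CountTypes
import Cfsg.Agent.S0016

set_option autoImplicit false
set_option linter.style.haveILetI false
open Cfsg
open Cfsg.Agent.FGS76

namespace Cfsg.Agent.S3995

theorem result {G : Type*} [Group G] [Finite G] (n : ℕ) (hn : n ≠ 1) (h : ((fun m : ℕ => Nat.card {g : G // orderOf g = m}) '' Set.range (orderOf : G → ℕ)) = {1, n}) :
    (∃ p : ℕ, p.Prime ∧ IsPGroup p G ∧ 3 ≤ Nat.card G ∧ Monoid.exponent G = p) ∨
      Nonempty (G ≃* QuaternionGroup 2) ∨ (IsCyclic G ∧ Nat.card G = 4) ∨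
      (∃ (p : ℕ) (P : Type) (_ : Group P) (_ : Finite P), p.Prime ∧ p ≠ 2 ∧ IsPGroup p P ∧ Monoid.exponent P = p ∧
        Nonempty (G ≃* Multiplicative (ZMod 2) × P)) := by
  classical
  rw [range_image_eq] at h
  set S := ordSet G with hS
  -- values
  have hval : ∀ m ∈ S, (ordCount G) m = 1 ∨ (ordCount G) m = n := fun m hm => by
    have h1 : (ordCount G) m ∈ ((S.image (ordCount G) : Finset ℕ) : Set ℕ) := by
      rw [Finset.mem_coe]; exact Finset.mem_image_of_mem _ hm
    rw [h] at h1
    simpa using h1
  obtain ⟨m₀, hm₀, hm₀n⟩ : ∃ m ∈ S, (ordCount G) m = n := by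
    have h1 : n ∈ ((S.image (ordCount G) : Finset ℕ) : Set ℕ) := by rw [h]; simp
    rw [Finset.mem_coe] at h1
    exact Finset.mem_image.1 h1
  have hn0 : 0 < n := hm₀n ▸ ordCount_pos hm₀
  have hc3 : ∀ m ∈ S, 3 ≤ m → (ordCount G) m = n := fun m hm h3 => (hval m hm).resolve_left fun h1 => by
    have h2 : 2 ∣ (ordCount G) m := even_ordCount h3
    omega
  have hm₀1 : m₀ ≠ 1 := fun h1 => hn (by rw [← hm₀n, h1]; exact ordCount_one)
  have hdvdG : ∀ m ∈ S, m ∣ Nat.card G := fun m hm => by
    obtain ⟨g, hg⟩ := mem_ordSet.1 hm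
    exact hg ▸ orderOf_dvd_natCard g
  have hm₀2 : 2 ≤ m₀ := by
    have := Nat.pos_of_ne_zero (n := m₀) (fun h0 => (Nat.card_pos (α := G)).ne' (Nat.eq_zero_of_zero_dvd (by have hz := hdvdG _ hm₀; rwa [h0] at hz)))
    omega
  by_cases hE : 2 ∈ S ∧ (ordCount G) 2 = n
  · -- exponent two
    left
    have hodd : ¬ 2 ∣ n := by
      intro h2
      have h1 := dvd_sum_ordCount (G := G) (hdvdG 2 hE.1)
      have hset : S.filter (· ∣ 2) = {1, 2} := by
        ext m
        simp only [Finset.mem_filter, Finset.mem_insert, Finset.mem_singleton]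
        refine ⟨fun hm => (Nat.dvd_prime Nat.prime_two).1 hm.2, ?_⟩
        rintro (rfl | rfl)
        · exact ⟨one_mem_ordSet, one_dvd _⟩
        · exact ⟨hE.1, dvd_rfl⟩
      rw [hset, Finset.sum_pair (by norm_num), ordCount_one, show ordCount G 2 = n from hE.2] at h1
      omega
    have hexp : ∀ g : G, g ^ 2 = 1 := by
      intro g
      have hg : orderOf g ∈ S := mem_ordSet.2 ⟨g, rfl⟩
      have h1 : orderOf g < 3 := by
        by_contra h3
        have h2 : 2 ∣ (ordCount G) (orderOf g) := even_ordCount (by omega)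
        rw [hc3 _ hg (by omega)] at h2
        exact hodd h2
      have h2 := orderOf_pos g
      have h3 : orderOf g ∣ 2 := by interval_cases orderOf g <;> norm_num
      exact orderOf_dvd_iff_pow_eq_one.1 h3
    haveI := Fact.mk Nat.prime_two
    have hcard : 3 ≤ Nat.card G := by
      rw [card_eq_sum_ordCount, ← hS]
      have hsub : ({1, 2} : Finset ℕ) ⊆ S := by
        intro m hm
        rw [Finset.mem_insert, Finset.mem_singleton] at hm
        rcases hm with rfl | rfl
        · exact one_mem_ordSet
        · exact hE.1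
      have h1 := Finset.sum_le_sum_of_subset (f := (ordCount G)) hsub
      rw [Finset.sum_pair (by norm_num), show (ordCount G) 1 = 1 from ordCount_one, hE.2] at h1
      omega
    haveI : Nontrivial G := Finite.one_lt_card_iff_nontrivial.1 (by omega)
    exact ⟨2, Nat.prime_two, fun g => ⟨1, by rw [pow_one]; exact hexp g⟩, hcard,
      (Monoid.exponent_eq_prime_iff Nat.prime_two).2 fun g hg => orderOf_eq_prime (hexp g) hg⟩
  have hc2 : 2 ∈ S → (ordCount G) 2 = 1 := fun h2 => (hval 2 h2).resolve_right fun h' => hE ⟨h2, h'⟩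
  obtain ⟨hm₀3, hneven⟩ : 3 ≤ m₀ ∧ 2 ∣ n := by
    have h1 : m₀ ≠ 2 := fun h2 => by subst h2; exact hn (hm₀n.symm.trans (hc2 hm₀))
    exact ⟨by omega, hm₀n ▸ even_ordCount (by omega)⟩
  -- odd primes
  have hP1 : ∀ p, p.Prime → p ≠ 2 → p ∈ S → p ∣ n + 1 := by
    intro p hp hp2 hpS
    have h1 := dvd_sum_ordCount (G := G) (hdvdG p hpS)
    have hset : S.filter (· ∣ p) = {1, p} := by
      ext m
      simp only [Finset.mem_filter, Finset.mem_insert, Finset.mem_singleton]
      refine ⟨fun hm => (Nat.dvd_prime hp).1 hm.2, ?_⟩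
      rintro (rfl | rfl)
      · exact ⟨one_mem_ordSet, one_dvd _⟩
      · exact ⟨hpS, dvd_rfl⟩
    have := hp.two_le
    rw [hset, Finset.sum_pair hp.ne_one.symm, ordCount_one, show ordCount G p = n from
      hc3 p hpS (by omega), add_comm] at h1
    exact h1
  have hP2 : ∀ p, p.Prime → p ≠ 2 → p * p ∉ S := by
    intro p hp hp2 hS2
    have hpS := ordSet_closed hS2 (dvd_mul_right p p)
    have h1 := dvd_sum_ordCount (G := G) (hdvdG _ hS2)
    have hset : S.filter (· ∣ p * p) = {1, p, p * p} := by
      ext m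
      simp only [Finset.mem_filter, Finset.mem_insert, Finset.mem_singleton]
      refine ⟨fun hm => ?_, ?_⟩
      · obtain ⟨i, hi, rfl⟩ := (Nat.dvd_prime_pow (i := m) (m := 2) hp).1 (by rw [pow_two]; exact hm.2)
        interval_cases i <;> simp [pow_two]
      · rintro (rfl | rfl | rfl)
        · exact ⟨one_mem_ordSet, one_dvd _⟩
        · exact ⟨hpS, dvd_mul_right _ _⟩
        · exact ⟨hS2, dvd_rfl⟩
    have := hp.two_le
    have h4 : p * 2 ≤ p * p := Nat.mul_le_mul_left p this
    rw [hset, Finset.sum_insert (by simp; omega), Finset.sum_pair (by omega), ordCount_one,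
      show ordCount G p = n from hc3 p hpS (by omega),
      show ordCount G (p * p) = n from hc3 _ hS2 (by omega)] at h1
    have h2 : p ∣ 1 + (n + n) := (dvd_mul_right p p).trans h1
    have h3 : p ∣ (n + 1) + (n + 1) := dvd_add (hP1 p hp hp2 hpS) (hP1 p hp hp2 hpS)
    rw [show (n + 1) + (n + 1) = (1 + (n + n)) + 1 by omega] at h3
    exact hp.ne_one (Nat.dvd_one.1 ((Nat.dvd_add_right h2).1 h3))
  have hP3 : ∀ p q, p.Prime → q.Prime → p ≠ 2 → q ≠ 2 → p ≠ q → p * q ∉ S := by
    intro p q hp hq hp2 hq2 hpq hS2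
    have hpS := ordSet_closed hS2 (dvd_mul_right p q)
    have hqS := ordSet_closed hS2 (dvd_mul_left q p)
    have h1 := dvd_sum_ordCount (G := G) (hdvdG _ hS2)
    have hset : S.filter (· ∣ p * q) = {1, p, q, p * q} := by
      ext m
      simp only [Finset.mem_filter, Finset.mem_insert, Finset.mem_singleton]
      refine ⟨fun hm => ?_, ?_⟩
      · obtain ⟨a, b, ha, hb, rfl⟩ := Nat.dvd_mul.1 hm.2
        rcases (Nat.dvd_prime hp).1 ha with rfl | rfl <;>
          rcases (Nat.dvd_prime hq).1 hb with rfl | rfl <;> simp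
      · rintro (rfl | rfl | rfl | rfl)
        · exact ⟨one_mem_ordSet, one_dvd _⟩
        · exact ⟨hpS, dvd_mul_right _ _⟩
        · exact ⟨hqS, dvd_mul_left _ _⟩
        · exact ⟨hS2, dvd_rfl⟩
    have := hp.two_le
    have := hq.two_le
    have h4 : p * 2 ≤ p * q := Nat.mul_le_mul_left p this
    have h4' : 2 * q ≤ p * q := Nat.mul_le_mul_right q hp.two_le
    rw [hset, Finset.sum_insert (by simp; omega), Finset.sum_insert (by simp; omega),
      Finset.sum_pair (by omega), ordCount_one,
      show ordCount G p = n from hc3 p hpS (by omega), show ordCount G q = n from hc3 q hqS (by omega),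
      show ordCount G (p * q) = n from hc3 _ hS2 (by omega)] at h1
    have h2 : p ∣ 1 + (n + (n + n)) := (dvd_mul_right p q).trans h1
    have h3 := dvd_add (dvd_add (hP1 p hp hp2 hpS) (hP1 p hp hp2 hpS)) (hP1 p hp hp2 hpS)
    rw [show (n + 1) + (n + 1) + (n + 1) = (1 + (n + (n + n))) + 2 by omega] at h3
    exact hp2 ((Nat.prime_dvd_prime_iff_eq hp Nat.prime_two).1 ((Nat.dvd_add_right h2).1 h3))
  have h8 : 8 ∉ S := by
    intro hS8
    have h1 := dvd_sum_ordCount (G := G) (hdvdG _ hS8)
    have hset : S.filter (· ∣ 8) = {1, 2, 4, 8} := by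
      ext m
      simp only [Finset.mem_filter, Finset.mem_insert, Finset.mem_singleton]
      refine ⟨fun hm => ?_, ?_⟩
      · obtain ⟨i, hi, rfl⟩ := (Nat.dvd_prime_pow (i := m) (m := 3) Nat.prime_two).1 (by norm_num; exact hm.2)
        interval_cases i <;> simp
      · rintro (rfl | rfl | rfl | rfl) <;> exact ⟨ordSet_closed hS8 (by norm_num), by norm_num⟩
    rw [hset, Finset.sum_insert (by simp), Finset.sum_insert (by simp), Finset.sum_pair (by norm_num),
      ordCount_one, show ordCount G 2 = 1 from hc2 (ordSet_closed hS8 (by norm_num)),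
      show ordCount G 4 = n from hc3 _ (ordSet_closed hS8 (by norm_num)) (by norm_num),
      show ordCount G 8 = n from hc3 _ hS8 (by norm_num)] at h1
    omega
  have h4p : ∀ p, p.Prime → p ≠ 2 → 4 * p ∉ S := by
    intro p hp hp2 hS4
    have hmem : ∀ m, m ∣ 4 * p → m ∈ S := fun m hm => ordSet_closed hS4 hm
    have hpS := hmem p (dvd_mul_left _ _)
    have h1 := dvd_sum_ordCount (G := G) (hdvdG _ hS4)
    have hset : S.filter (· ∣ 4 * p) = {1, 2, 4, p, 2 * p, 4 * p} := by
      ext m
      simp only [Finset.mem_filter, Finset.mem_insert, Finset.mem_singleton]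
      refine ⟨fun hm => ?_, ?_⟩
      · obtain ⟨a, b, ha, hb, rfl⟩ := Nat.dvd_mul.1 hm.2
        obtain ⟨i, hi, rfl⟩ := (Nat.dvd_prime_pow (i := a) (m := 2) Nat.prime_two).1 (by norm_num; exact ha)
        rcases (Nat.dvd_prime hp).1 hb with rfl | rfl <;> interval_cases i <;> simp
      · intro hm
        have : m ∣ 4 * p := by
          rcases hm with rfl | rfl | rfl | rfl | rfl | rfl
          · exact one_dvd _
          · exact dvd_mul_of_dvd_left (by norm_num) _
          · exact dvd_mul_right _ _
          · exact dvd_mul_left _ _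
          · exact mul_dvd_mul_right (by norm_num) _
          · exact dvd_rfl
        exact ⟨hmem m this, this⟩
    have hp3 : 3 ≤ p := by have := hp.two_le; omega
    have hp4 : p ≠ 4 := fun e => by subst e; norm_num at hp
    rw [hset, Finset.sum_insert (by simp; omega), Finset.sum_insert (by simp; omega),
      Finset.sum_insert (by simp; omega), Finset.sum_insert (by simp; omega),
      Finset.sum_pair (by omega), ordCount_one,
      show ordCount G 2 = 1 from hc2 (hmem 2 (dvd_mul_of_dvd_left (by norm_num) _)),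
      show ordCount G 4 = n from hc3 4 (hmem 4 (dvd_mul_right _ _)) (by norm_num),
      show ordCount G p = n from hc3 p hpS hp3,
      show ordCount G (2 * p) = n from hc3 _ (hmem _ (mul_dvd_mul_right (by norm_num) _)) (by omega),
      show ordCount G (4 * p) = n from hc3 _ hS4 (by omega)] at h1
    have h2 : p ∣ 1 + (1 + (n + (n + (n + n)))) := (dvd_mul_left p 4).trans h1
    have h3 := dvd_add (dvd_add (dvd_add (hP1 p hp hp2 hpS) (hP1 p hp hp2 hpS)) (hP1 p hp hp2 hpS))
      (hP1 p hp hp2 hpS)
    rw [show (n + 1) + (n + 1) + (n + 1) + (n + 1) = (1 + (1 + (n + (n + (n + n))))) + 2 by omega] at h3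
    exact hp2 ((Nat.prime_dvd_prime_iff_eq hp Nat.prime_two).1 ((Nat.dvd_add_right h2).1 h3))
  -- the shape of the orders
  set Pset := S.filter (fun p => p.Prime ∧ p ≠ 2) with hPset
  set r := Pset.card
  have hshape : ∀ m ∈ S, m = 1 ∨ m = 2 ∨ m = 4 ∨ m ∈ Pset ∨ ∃ p ∈ Pset, m = 2 * p := by
    intro m hm
    have hm0 : m ≠ 0 := fun h0 => by
      obtain ⟨g, hg⟩ := mem_ordSet.1 hm
      exact (orderOf_pos g).ne' (hg.trans h0)
    obtain ⟨k, o, ho, hko⟩ := Nat.exists_eq_pow_mul_and_not_dvd hm0 2 (by norm_num)
    have hk : k ≤ 2 := by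
      by_contra hk
      exact h8 (ordSet_closed hm (hko ▸ dvd_mul_of_dvd_left (pow_dvd_pow 2 (show 3 ≤ k by omega)) _))
    by_cases ho1 : o = 1
    · subst ho1
      interval_cases k <;> simp [hko]
    obtain ⟨p, hp, hpo⟩ := Nat.exists_prime_and_dvd ho1
    have hp2 : p ≠ 2 := fun e => ho (e ▸ hpo)
    obtain ⟨o', rfl⟩ := hpo
    have ho' : o' = 1 := by
      by_contra hne
      obtain ⟨q, hq, hqo⟩ := Nat.exists_prime_and_dvd hne
      have hq2 : q ≠ 2 := fun e => ho (e ▸ dvd_mul_of_dvd_right hqo p)
      have hmem : p * q ∈ S :=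
        ordSet_closed hm (hko ▸ dvd_mul_of_dvd_right (mul_dvd_mul_left p hqo) _)
      by_cases hpq : p = q
      · exact hP2 p hp hp2 (by rw [← hpq] at hmem; exact hmem)
      · exact hP3 p q hp hq hp2 hq2 hpq hmem
    subst ho'
    rw [mul_one] at hko ho
    have hpP : p ∈ Pset := Finset.mem_filter.2 ⟨ordSet_closed hm (hko ▸ dvd_mul_left _ _), hp, hp2⟩
    interval_cases k
    · right; right; right; left; simpa [hko] using hpP
    · right; right; right; right; exact ⟨p, hpP, by simpa using hko⟩
    · exact absurd hm (by rw [hko]; exact h4p p hp hp2)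
  -- the odd part
  haveI : Fintype G := Fintype.ofFinite G
  obtain ⟨a, O, hO, haO⟩ := Nat.exists_eq_pow_mul_and_not_dvd (Nat.card_pos (α := G)).ne' 2 (by norm_num)
  have hPdvd : ∀ p ∈ Pset, p ∣ O := fun p hp => by
    rw [hPset, Finset.mem_filter] at hp
    exact (((Nat.coprime_primes hp.2.1 Nat.prime_two).2 hp.2.2).pow_right a).dvd_of_dvd_mul_left
      (haO ▸ hdvdG p hp.1)
  have hO0 : 0 < O := Nat.pos_of_ne_zero fun h0 => hO (by simp [h0])
  have hOn : O ∣ n + 1 := by
    refine (Nat.factorization_le_iff_dvd hO0.ne' (Nat.succ_ne_zero n)).1 fun p => ?_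
    by_cases hp : p ∈ O.primeFactors
    swap
    · rw [Finsupp.notMem_support_iff.1 (by rwa [Nat.support_factorization])]
      exact Nat.zero_le _
    have hpp := Nat.prime_of_mem_primeFactors hp
    have hp2 : p ≠ 2 := fun e => hO (e ▸ Nat.dvd_of_mem_primeFactors hp)
    have hdv : p ^ O.factorization p ∣ Nat.card G := by
      rw [haO]
      exact dvd_mul_of_dvd_right (Nat.ordProj_dvd O p) _
    have h1 := dvd_sum_ordCount (G := G) hdv
    haveI := Fact.mk hpp
    have hpS : p ∈ S := by
      obtain ⟨g, hg⟩ := exists_prime_orderOf_dvd_card' (G := G) p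
        (haO ▸ dvd_mul_of_dvd_right (Nat.dvd_of_mem_primeFactors hp) _)
      exact mem_ordSet.2 ⟨g, hg⟩
    have hv1 : 1 ≤ O.factorization p :=
      (Nat.Prime.dvd_iff_one_le_factorization hpp hO0.ne').1
        (Nat.dvd_of_mem_primeFactors hp)
    have hset : S.filter (· ∣ p ^ O.factorization p) = {1, p} := by
      ext m
      simp only [Finset.mem_filter, Finset.mem_insert, Finset.mem_singleton]
      refine ⟨fun hm => ?_, ?_⟩
      · obtain ⟨i, -, rfl⟩ := (Nat.dvd_prime_pow hpp).1 hm.2
        have hi : i ≤ 1 := by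
          by_contra hi
          exact hP2 p hpp hp2 (ordSet_closed hm.1 (by
            rw [← pow_two]; exact pow_dvd_pow p (by omega)))
        interval_cases i <;> simp
      · rintro (rfl | rfl)
        · exact ⟨one_mem_ordSet, one_dvd _⟩
        · exact ⟨hpS, dvd_pow_self _ (by omega)⟩
    have := hpp.two_le
    rw [hset, Finset.sum_pair hpp.ne_one.symm, ordCount_one, show ordCount G p = n from
      hc3 p hpS (by omega), add_comm] at h1
    exact (hpp.pow_dvd_iff_le_factorization (Nat.succ_ne_zero n)).1 h1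
  have hbound : 3 ^ r ≤ O := by
    calc 3 ^ r ≤ ∏ p ∈ Pset, p := Finset.pow_card_le_prod _ _ _ fun p hp => by
          rw [hPset, Finset.mem_filter] at hp
          have := hp.2.1.two_le
          have := hp.2.2
          omega
      _ ≤ O := Nat.le_of_dvd hO0 (Finset.prod_primes_dvd O
          (fun x hx => (Finset.mem_filter.1 hx).2.1.prime) hPdvd)
  have hrlt : 2 * r + 1 ≤ 3 ^ r := by
    clear_value r
    clear hbound
    induction r with
    | zero => simp
    | succ k ih => rw [pow_succ]; omega
  have hPn : ∀ p ∈ Pset, (ordCount G) p = n := fun p hp => by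
    rw [hPset, Finset.mem_filter] at hp
    refine hc3 p hp.1 ?_
    have := hp.2.1.two_le
    have := hp.2.2
    omega
  by_cases h2S : 2 ∈ S
  · -- even order
    obtain ⟨t, ht⟩ := mem_ordSet.1 h2S
    have hcen : ∀ g : G, Commute g t := by
      intro g
      have h1 := hc2 h2S
      have h2 : g * t * g⁻¹ = t := by
        haveI := (Nat.card_eq_one_iff_unique.1 h1).1
        exact congrArg Subtype.val (Subsingleton.elim
          (⟨g * t * g⁻¹, by rw [← MulAut.conj_apply, MulEquiv.orderOf_eq, ht]⟩ : {x : G // orderOf x = 2})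
          ⟨t, ht⟩)
      exact mul_inv_eq_iff_eq_mul.1 h2
    have hdouble : ∀ p ∈ Pset, 2 * p ∈ S := by
      intro p hp
      rw [hPset, Finset.mem_filter] at hp
      obtain ⟨g, hg⟩ := mem_ordSet.1 hp.1
      refine mem_ordSet.2 ⟨t * g, ?_⟩
      rw [(hcen g).symm.orderOf_mul_eq_mul_orderOf_of_coprime (by
        rw [ht, hg]; exact (Nat.coprime_primes Nat.prime_two hp.2.1).2 (Ne.symm hp.2.2)), ht, hg]
    set E : Finset ℕ := if 4 ∈ S then {4} else ∅ with hE'
    have hSeq : S = {1, 2} ∪ (E ∪ (Pset ∪ Pset.image (2 * ·))) := by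
      ext m
      simp only [Finset.mem_union, Finset.mem_insert, Finset.mem_singleton, Finset.mem_image]
      constructor
      · intro hm
        rcases hshape m hm with h1 | h1 | h1 | h1 | ⟨p, hp, h1⟩
        · exact Or.inl (Or.inl h1)
        · exact Or.inl (Or.inr h1)
        · subst h1
          exact Or.inr (Or.inl (by simp [hE', hm]))
        · exact Or.inr (Or.inr (Or.inl h1))
        · exact Or.inr (Or.inr (Or.inr ⟨p, hp, h1.symm⟩))
      · rintro ((rfl | rfl) | h1 | h1 | ⟨p, hp, rfl⟩)
        · exact one_mem_ordSet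
        · exact h2S
        · rw [hE'] at h1; split_ifs at h1 with h4 <;> simp at h1; subst h1; exact h4
        · exact (Finset.mem_filter.1 h1).1
        · exact hdouble p hp
    have hPp : ∀ p ∈ Pset, p.Prime ∧ p ≠ 2 := fun p hp => (Finset.mem_filter.1 hp).2
    have hEmem : ∀ m ∈ E, m = 4 := fun m hm => by
      rw [hE'] at hm; split_ifs at hm <;> simp at hm; exact hm
    set e := E.card with he
    have hsum : Nat.card G = 2 + n * (e + 2 * r) := by
      rw [card_eq_sum_ordCount, ← hS, hSeq, Finset.sum_union, Finset.sum_union, Finset.sum_union,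
        Finset.sum_pair (by norm_num), Finset.sum_image (fun x _ y _ h => by omega),
        show (ordCount G) 1 = 1 from ordCount_one, hc2 h2S,
        Finset.sum_const_nat (s := E) (m := n), Finset.sum_const_nat (s := Pset) (m := n),
        Finset.sum_const_nat (s := Pset) (m := n)]
      · ring
      · exact fun p hp => hc3 _ (hdouble p hp) (by have := (hPp p hp).1.two_le; omega)
      · exact hPn
      · intro m hm
        obtain rfl := hEmem m hm
        exact hc3 4 (by rw [hE'] at hm; split_ifs at hm with h4 <;> simp at hm; exact h4) (by norm_num)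
      · rw [Finset.disjoint_left]
        intro m hm hm'
        obtain ⟨p, hp, rfl⟩ := Finset.mem_image.1 hm'
        have h1 := ((Nat.prime_dvd_prime_iff_eq Nat.prime_two (hPp _ hm).1).1 (dvd_mul_right 2 p))
        exact (hPp _ hm).2 h1.symm
      · rw [Finset.disjoint_left]
        intro m hm hm'
        obtain rfl := hEmem m hm
        rcases Finset.mem_union.1 hm' with h1 | h1
        · exact absurd (hPp _ h1).1 (by norm_num)
        · obtain ⟨p, hp, h2⟩ := Finset.mem_image.1 h1
          exact (hPp p hp).2 (by omega)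
      · rw [Finset.disjoint_left]
        intro m hm hm'
        rw [Finset.mem_insert, Finset.mem_singleton] at hm
        rcases Finset.mem_union.1 hm' with h1 | h1
        · have := hEmem m h1; omega
        rcases Finset.mem_union.1 h1 with h1 | h1
        · obtain ⟨h3, h4⟩ := hPp m h1
          have := h3.two_le
          omega
        · obtain ⟨p, hp, rfl⟩ := Finset.mem_image.1 h1
          have := (hPp p hp).1.two_le
          omega
    have he1 : e ≤ 1 := by rw [he, hE']; split_ifs <;> simp
    have hdiv : 1 ≤ r → O ∣ e + 2 * r - 2 := by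
      intro hr
      have h1 : O ∣ (n + 1) * (e + 2 * r) := hOn.mul_right _
      have h2 : O ∣ Nat.card G := ⟨2 ^ a, by rw [haO, mul_comm]⟩
      rw [hsum] at h2
      have h3 : (n + 1) * (e + 2 * r) = (2 + n * (e + 2 * r)) + (e + 2 * r - 2) := by
        rw [add_mul, one_mul]; omega
      rw [h3] at h1
      exact (Nat.dvd_add_right h2).1 h1
    have hr1 : r ≤ 1 ∧ (e = 1 → r = 0) := by
      constructor
      · by_contra hr
        have h1 := Nat.le_of_dvd (by omega) (hdiv (by omega))
        omega
      · intro he1' 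
        by_contra hr
        have h1 := Nat.le_of_dvd (by omega) (hdiv (by omega))
        omega
    rcases Nat.eq_zero_or_pos r with hr0 | hrpos
    · -- a `2`-group with a unique involution
      have hP0 : Pset = ∅ := Finset.card_eq_zero.1 hr0
      have h4 : 4 ∈ S := by
        rcases hshape m₀ hm₀ with h1 | h1 | h1 | h1 | ⟨p, hp, -⟩
        · omega
        · omega
        · exact h1 ▸ hm₀
        · exact absurd h1 (by simp [hP0])
        · exact absurd hp (by simp [hP0])
      have hord : ∀ g : G, orderOf g ∣ 4 := by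
        intro g
        rcases hshape _ (mem_ordSet.2 ⟨g, rfl⟩) with h1 | h1 | h1 | h1 | ⟨p, hp, -⟩
        · rw [h1]; norm_num
        · rw [h1]; norm_num
        · rw [h1]
        · exact absurd h1 (by simp [hP0])
        · exact absurd hp (by simp [hP0])
      haveI := Fact.mk Nat.prime_two
      have hG2 : IsPGroup 2 G := fun g => ⟨2, orderOf_dvd_iff_pow_eq_one.1 (by norm_num; exact hord g)⟩
      have huniq : ∀ H K : Subgroup G, Nat.card H = 2 → Nat.card K = 2 → H = K := by
        have key : ∀ H : Subgroup G, Nat.card H = 2 → H = Subgroup.zpowers t := by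
          intro H hH
          obtain ⟨x, hx⟩ := exists_prime_orderOf_dvd_card' (G := H) 2 (by rw [hH])
          rw [← Subgroup.orderOf_coe] at hx
          haveI := (Nat.card_eq_one_iff_unique.1 (hc2 h2S)).1
          have hxt : (x : G) = t := congrArg Subtype.val
            (Subsingleton.elim (⟨x, hx⟩ : {g : G // orderOf g = 2}) ⟨t, ht⟩)
          exact (Subgroup.eq_of_le_of_card_ge (Subgroup.zpowers_le.2 (hxt ▸ x.2))
            (by rw [hH, Nat.card_zpowers, ht])).symm
        exact fun H K hH hK => (key H hH).trans (key K hK).symm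
      have hcyc : IsCyclic G → Nat.card G = 4 := by
        intro hc
        obtain ⟨g, hg⟩ := hc.exists_ofOrder_eq_natCard
        exact Nat.dvd_antisymm (hg ▸ hord g) (hdvdG 4 h4)
      rcases S0016.result 2 hG2 huniq with hc | ⟨-, k, ⟨e'⟩⟩
      · exact Or.inr (Or.inr (Or.inl ⟨hc, hcyc hc⟩))
      · have hk : k ≤ 1 := by
          have h1 := hord (e'.symm (QuaternionGroup.a 1))
          rw [MulEquiv.orderOf_eq, QuaternionGroup.orderOf_a_one] at h1
          by_contra hk
          have : 2 ^ 2 ≤ 2 ^ k := Nat.pow_le_pow_right (by norm_num) (by omega)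
          have := Nat.le_of_dvd (by norm_num) h1
          omega
        interval_cases k
        · have hc : IsCyclic G := isCyclic_of_orderOf_eq_card (e'.symm (QuaternionGroup.xa 0)) (by
            rw [MulEquiv.orderOf_eq, QuaternionGroup.orderOf_xa, Nat.card_congr e'.toEquiv,
              Nat.card_eq_fintype_card, QuaternionGroup.card]; norm_num)
          exact Or.inr (Or.inr (Or.inl ⟨hc, hcyc hc⟩))
        · exact Or.inr (Or.inl ⟨e'⟩)
    · -- `Z₂ × P`
      have hr : r = 1 := by omega
      obtain ⟨p, hp⟩ := Finset.card_eq_one.1 hr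
      have hpP : p ∈ Pset := by rw [hp]; exact Finset.mem_singleton_self p
      obtain ⟨hpp, hp2⟩ := hPp p hpP
      haveI := Fact.mk hpp
      have he0 : e = 0 := by
        by_contra h'
        have := hr1.2 (by omega)
        omega
      have hcard : Nat.card G = 2 * (n + 1) := by rw [hsum, he0, hr]; ring
      have h4 : 4 ∉ S := fun h4 => by
        rw [he, hE', if_pos h4] at he0
        simp at he0
      have hnoP : ∀ q ∈ Pset, q = p := fun q hq => by rw [hp] at hq; exact Finset.mem_singleton.1 hq
      obtain ⟨P⟩ := (inferInstance : Nonempty (Sylow p G))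
      -- elements of odd order
      have hodd : ∀ g : G, g ^ p = 1 ↔ orderOf g = 1 ∨ orderOf g = p := fun g => by
        rw [← orderOf_dvd_iff_pow_eq_one, Nat.dvd_prime hpp]
      have hcount : Nat.card {g : G // g ^ p = 1} = n + 1 := by
        rw [card_pow_eq_one_eq_sum]
        have hset : S.filter (· ∣ p) = {1, p} := by
          ext m
          simp only [Finset.mem_filter, Finset.mem_insert, Finset.mem_singleton]
          refine ⟨fun hm => (Nat.dvd_prime hpp).1 hm.2, ?_⟩
          rintro (rfl | rfl)
          · exact ⟨one_mem_ordSet, one_dvd _⟩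
          · exact ⟨(Finset.mem_filter.1 hpP).1, dvd_rfl⟩
        rw [hset, Finset.sum_pair hpp.ne_one.symm, ordCount_one,
          show ordCount G p = n from hPn p hpP, add_comm]
      have hPexp : ∀ g ∈ (P : Subgroup G), g ^ p = 1 := by
        intro g hg
        obtain ⟨i, hi⟩ := IsPGroup.iff_orderOf.1 P.2 ⟨g, hg⟩
        rw [Subgroup.orderOf_mk] at hi
        rw [← orderOf_dvd_iff_pow_eq_one, hi]
        have hi1 : i ≤ 1 := by
          by_contra hi1
          exact hP2 p hpp hp2 (ordSet_closed (mem_ordSet.2 ⟨g, hi⟩)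
            (by rw [← pow_two]; exact pow_dvd_pow p (by omega)))
        exact (pow_dvd_pow p hi1).trans (pow_one p).dvd
      have hPcard : Nat.card (P : Subgroup G) = n + 1 := by
        have hfac : n + 1 = p ^ (n + 1).factorization p := by
          have h1 : n + 1 = p ^ (n + 1).primeFactorsList.length :=
            Nat.eq_prime_pow_of_unique_prime_dvd (Nat.succ_ne_zero n) fun {q} hq hqd => by
              haveI := Fact.mk hq
              obtain ⟨g, hg⟩ := exists_prime_orderOf_dvd_card' (G := G) q
                (hcard ▸ dvd_mul_of_dvd_right hqd 2)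
              have hq2 : q ≠ 2 := fun e => by subst e; omega
              exact hnoP q (Finset.mem_filter.2 ⟨mem_ordSet.2 ⟨g, hg⟩, hq, hq2⟩)
          conv_rhs => rw [h1, Nat.factorization_pow_self hpp]
          exact h1
        rw [P.card_eq_multiplicity, hcard, Nat.factorization_mul (by norm_num) (Nat.succ_ne_zero n),
          Finsupp.add_apply, Nat.factorization_eq_zero_of_not_dvd (fun hd => hp2
            ((Nat.prime_dvd_prime_iff_eq hpp Nat.prime_two).1 hd)), zero_add]
        exact hfac.symm
      haveI : Finite (P : Subgroup G) := inferInstance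
      obtain ⟨P₀, iG, iF, ⟨eP⟩⟩ := Finite.exists_type_univ_nonempty_mulEquiv.{_, 0} (P : Subgroup G)
      refine Or.inr (Or.inr (Or.inr ⟨p, P₀, iG, Finite.of_fintype P₀, hpp, hp2, P.2.of_equiv eP, ?_, ?_⟩))
      · rw [← Monoid.exponent_eq_of_mulEquiv eP]
        haveI : Nontrivial (P : Subgroup G) := Finite.one_lt_card_iff_nontrivial.1 (by omega)
        refine (Monoid.exponent_eq_prime_iff hpp).2 fun g hg => orderOf_eq_prime (Subtype.ext ?_) hg
        rw [SubmonoidClass.coe_pow]
        exact hPexp g g.2
      · have ht1 : Nat.card (Subgroup.zpowers t) = 2 := by rw [Nat.card_zpowers, ht]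
        haveI := Fact.mk Nat.prime_two
        let e2 : Multiplicative (ZMod 2) ≃* Subgroup.zpowers t :=
          mulEquivOfPrimeCardEq (p := 2) (by simp) ht1
        let f1 : Multiplicative (ZMod 2) →* G := (Subgroup.zpowers t).subtype.comp e2.toMonoidHom
        let f2 : P₀ →* G := (P : Subgroup G).subtype.comp eP.symm.toMonoidHom
        have hcomm : ∀ x y, Commute (f1 x) (f2 y) := fun x y => by
          obtain ⟨i, hi⟩ := Subgroup.mem_zpowers_iff.1 (e2 x).2
          show Commute ((e2 x : Subgroup.zpowers t) : G) _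
          rw [← hi]
          exact ((hcen _).zpow_right i).symm
        let f := f1.noncommCoprod f2 hcomm
        have hinj : Function.Injective f := by
          refine (injective_iff_map_eq_one f).2 ?_
          rintro ⟨x, y⟩ hxy
          have h1 : f1 x = (f2 y)⁻¹ := eq_inv_of_mul_eq_one_left hxy
          have h2 : f1 x ∈ (P : Subgroup G) := h1 ▸ inv_mem (eP.symm y).2
          have h3 : f1 x = 1 := by
            rw [← orderOf_eq_one_iff]
            refine Nat.eq_one_of_dvd_coprimes ((Nat.coprime_primes Nat.prime_two hpp).2 hp2.symm)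
              ?_ (orderOf_dvd_of_pow_eq_one (hPexp _ h2))
            rw [show f1 x = ((e2 x : Subgroup.zpowers t) : G) from rfl, Subgroup.orderOf_coe]
            exact (orderOf_dvd_natCard (e2 x)).trans ht1.dvd
          have h4 : f2 y = 1 := by rwa [h3, eq_comm, inv_eq_one] at h1
          rw [Prod.mk_eq_one]
          exact ⟨e2.injective (Subtype.ext (by rw [map_one]; exact h3)),
            eP.symm.injective (Subtype.ext (by rw [map_one]; exact h4))⟩
        refine ⟨(MulEquiv.ofBijective f ((Nat.bijective_iff_injective_and_card _).2 ⟨hinj, ?_⟩)).symm⟩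
        rw [Nat.card_prod, ← Nat.card_congr eP.toEquiv, hPcard, hcard]
        simp
  · -- odd order
    left
    have hSeq : S = {1} ∪ Pset := by
      ext m
      simp only [Finset.mem_union, Finset.mem_singleton]
      constructor
      · intro hm
        rcases hshape m hm with h1 | h1 | h1 | h1 | ⟨p, hp, h1⟩
        · exact Or.inl h1
        · exact absurd (h1 ▸ hm) h2S
        · exact absurd (ordSet_closed hm (h1 ▸ (by norm_num : (2 : ℕ) ∣ 4))) h2S
        · exact Or.inr h1
        · exact absurd (ordSet_closed hm (h1 ▸ dvd_mul_right 2 p)) h2S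
      · rintro (rfl | h1)
        · exact one_mem_ordSet
        · exact (Finset.mem_filter.1 h1).1
    have hsum : Nat.card G = 1 + r * n := by
      rw [card_eq_sum_ordCount, ← hS, hSeq, Finset.sum_union, Finset.sum_singleton,
        show (ordCount G) 1 = 1 from ordCount_one, Finset.sum_const_nat hPn]
      rw [Finset.disjoint_left]
      intro m hm hm'
      rw [Finset.mem_singleton] at hm
      exact (Finset.mem_filter.1 hm').2.1.ne_one hm
    have hOG : Nat.card G = O := by
      rw [haO]
      have : a = 0 := by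
        by_contra ha
        haveI := Fact.mk Nat.prime_two
        obtain ⟨g, hg⟩ := exists_prime_orderOf_dvd_card' (G := G) 2
          (haO ▸ dvd_mul_of_dvd_left (dvd_pow_self 2 ha) O)
        exact h2S (mem_ordSet.2 ⟨g, hg⟩)
      rw [this, pow_zero, one_mul]
    have hr : r = 1 := by
      have h1 : 1 ≤ r := by
        rw [Nat.one_le_iff_ne_zero]
        intro h0
        have hmem : m₀ ∈ ({1} ∪ Pset : Finset ℕ) := hSeq ▸ hm₀
        rw [Finset.card_eq_zero.1 h0] at hmem
        simp at hmem
        omega
      by_contra hne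
      have h2 := Nat.le_of_dvd (by omega) hOn
      rw [← hOG, hsum] at h2
      have : 2 * n ≤ r * n := Nat.mul_le_mul_right n (by omega)
      omega
    obtain ⟨p, hp⟩ := Finset.card_eq_one.1 hr
    have hpP : p ∈ Pset := by rw [hp]; exact Finset.mem_singleton_self p
    obtain ⟨hpp, -⟩ := (Finset.mem_filter.1 hpP).2
    have hexp : ∀ g : G, g ^ p = 1 := by
      intro g
      have h1 : orderOf g ∈ ({1} ∪ Pset : Finset ℕ) := hSeq ▸ mem_ordSet.2 ⟨g, rfl⟩
      rw [hp] at h1
      simp only [Finset.mem_union, Finset.mem_singleton] at h1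
      rw [← orderOf_dvd_iff_pow_eq_one]
      rcases h1 with h1 | h1 <;> simp [h1]
    haveI : Nontrivial G := Finite.one_lt_card_iff_nontrivial.1 (by rw [hsum, hr]; omega)
    refine ⟨p, hpp, fun g => ⟨1, by rw [pow_one]; exact hexp g⟩, by rw [hsum, hr]; omega,
      (Monoid.exponent_eq_prime_iff hpp).2 fun g hg => ?_⟩
    haveI := Fact.mk hpp
    exact orderOf_eq_prime (hexp g) hg

end Cfsg.Agent.S3995
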