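import Cfsg.Statements.S3996
import Cfsg.Agent.FGS76.CountThree

set_option autoImplicit false
set_option linter.style.haveILetI false
open Cfsg
open Cfsg.Agent.FGS76

namespace Cfsg.Agent.S3996

theorem isSolvable_two (K : Type*) [Group K] [Finite K] (h : (Nat.card K).primeFactors.card ≤ 2) :
    Group.IsSolvable K := by
  have h0 : Nat.card K ≠ 0 := Nat.card_pos.ne'
  have hprod := Nat.prod_factorization_pow_eq_self h0
  rw [Finsupp.prod, Nat.support_factorization] at hprod
  rcases Nat.lt_or_ge (Nat.card K).primeFactors.card 1 with hc | hc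
  · rw [Finset.card_eq_zero.mp (by omega : (Nat.card K).primeFactors.card = 0), Finset.prod_empty] at hprod
    exact S0144.result 2 3 0 0 Nat.prime_two Nat.prime_three (by simpa using hprod.symm)
  rcases Nat.lt_or_ge (Nat.card K).primeFactors.card 2 with hc' | hc'
  · obtain ⟨p, hp⟩ := Finset.card_eq_one.mp (by omega : (Nat.card K).primeFactors.card = 1)
    rw [hp, Finset.prod_singleton] at hprod
    exact S0144.result p p ((Nat.card K).factorization p) 0
      (Nat.prime_of_mem_primeFactors (hp ▸ Finset.mem_singleton_self p))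
      (Nat.prime_of_mem_primeFactors (hp ▸ Finset.mem_singleton_self p))
      (by simpa using hprod.symm)
  · obtain ⟨p, q, hne, hpq⟩ := Finset.card_eq_two.mp (le_antisymm h hc')
    rw [hpq, Finset.prod_pair hne] at hprod
    exact S0144.result p q _ _
      (Nat.prime_of_mem_primeFactors (hpq ▸ Finset.mem_insert_self p {q}))
      (Nat.prime_of_mem_primeFactors (hpq ▸ Finset.mem_insert_of_mem (Finset.mem_singleton_self q)))
      hprod.symm

/-- A finite group in which the numbers of elements of each order that occurs (the numbers #{g : o(g) = m}, m ranging over the element orders) take exactly three different values is solvable. -/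
theorem result {G : Type*} [Group G] [Finite G] (h : (((fun m : ℕ => Nat.card {g : G // orderOf g = m}) '' Set.range (orderOf : G → ℕ))).ncard = 3) : Group.IsSolvable G := by
  classical
  rw [range_image_eq, Set.ncard_coe_finset] at h
  set V := (ordSet G).image (ordCount G) with hV
  have h1V : 1 ∈ V := Finset.mem_image.2 ⟨1, one_mem_ordSet, ordCount_one⟩
  obtain ⟨A, B, -, hAB⟩ := Finset.card_eq_two.1
    (show (V.erase 1).card = 2 by rw [Finset.card_erase_of_mem h1V, h])
  have hT : TwoVal G A B := by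
    intro m hm h3
    have h1 : ordCount G m ∈ V.erase 1 := Finset.mem_erase.2 ⟨fun e => by
      have := even_ordCount (G := G) h3
      omega, Finset.mem_image_of_mem _ hm⟩
    rw [hAB, Finset.mem_insert, Finset.mem_singleton] at h1
    exact h1
  have hmem : ∀ u ∈ (Nat.card G).primeFactors, u.Prime ∧ u ∈ ordSet G := fun u hu => by
    have hup := Nat.prime_of_mem_primeFactors hu
    haveI := Fact.mk hup
    obtain ⟨g, hg⟩ := exists_prime_orderOf_dvd_card' (G := G) u (Nat.dvd_of_mem_primeFactors hu)
    exact ⟨hup, mem_ordSet.2 ⟨g, hg⟩⟩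
  by_cases hev : 2 ∣ Nat.card G
  swap
  · exact isSolvable_two G (hT.primeFactors_le_two
      (Nat.odd_iff.2 (Nat.two_dvd_ne_zero.1 hev)))
  by_cases hfew : (Nat.card G).primeFactors.card ≤ 2
  · exact isSolvable_two G hfew
  -- two odd primes
  obtain ⟨p, hp, q, hq, hpq⟩ : ∃ p ∈ (Nat.card G).primeFactors.erase 2,
      ∃ q ∈ (Nat.card G).primeFactors.erase 2, p ≠ q := by
    refine Finset.one_lt_card.1 ?_
    rw [Finset.card_erase_of_mem (Nat.mem_primeFactors.2 ⟨Nat.prime_two, hev, Nat.card_pos.ne'⟩)]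
    omega
  rw [Finset.mem_erase] at hp hq
  obtain ⟨hp', hpS⟩ := hmem p hp.2
  obtain ⟨hq', hqS⟩ := hmem q hq.2
  have hp2 := hp.1
  have hq2 := hq.1
  have h2S : 2 ∈ ordSet G :=
    (hmem 2 (Nat.mem_primeFactors.2 ⟨Nat.prime_two, hev, Nat.card_pos.ne'⟩)).2
  -- the number of involutions is odd
  have hodd2 : ¬ 2 ∣ ordCount G 2 := by
    intro h2
    have h3 := dvd_sum_ordCount (G := G) hev
    rw [ordSet_filter_eq_divisors h2S, Nat.prime_two.divisors, Finset.sum_pair (by norm_num),
      ordCount_one] at h3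
    omega
  by_cases hc2 : ordCount G 2 = 1
  swap
  · -- a single value on the orders `≥ 3`
    exfalso
    have hn2 : ordCount G 2 ∈ ({A, B} : Finset ℕ) := hAB ▸
      Finset.mem_erase.2 ⟨hc2, Finset.mem_image_of_mem _ h2S⟩
    obtain ⟨C, hTC⟩ : ∃ C, TwoVal G C C := by
      rw [Finset.mem_insert, Finset.mem_singleton] at hn2
      rcases hn2 with e | e
      · refine ⟨B, fun m hm h3 => Or.inl ((hT m hm h3).resolve_left fun e' => hodd2 ?_)⟩
        rw [e, ← e']; exact even_ordCount h3
      · refine ⟨A, fun m hm h3 => Or.inl ((hT m hm h3).resolve_right fun e' => hodd2 ?_)⟩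
        rw [e, ← e']; exact even_ordCount h3
    have hcp := (hTC p hpS (three_le_odd_prime hp' hp2)).elim id id
    have hcq := (hTC q hqS (three_le_odd_prime hq' hq2)).elim id id
    obtain ⟨-, -, hC⟩ := hTC.same_pair hp' hq' hp2 hpq hpS hqS hcp hcq
    have h' := cast_ordCount_prime hp' hpS
    rw [hcp, hC] at h'
    exact two_ne_zero_zmod hp' hp2 (by linear_combination h')
  by_cases h4 : 4 ∈ ordSet G
  · exact (hT.four_two_primes hc2 h4 hp' hq' hp2 hq2 hpq hpS hqS).elim
  obtain ⟨t, ht⟩ := mem_ordSet.1 h2S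
  have ha : ¬ 4 ∣ Nat.card G := by
    intro h4G
    have h3 := dvd_sum_ordCount (G := G) h4G
    have hset : (ordSet G).filter (· ∣ 4) = {1, 2} := by
      ext m
      simp only [Finset.mem_filter, Finset.mem_insert, Finset.mem_singleton]
      refine ⟨fun hm => ?_, ?_⟩
      · obtain ⟨i, hi, rfl⟩ := (Nat.dvd_prime_pow (i := m) (m := 2) Nat.prime_two).1 (by norm_num; exact hm.2)
        interval_cases i
        · simp
        · simp
        · exact absurd hm.1 (by norm_num; exact h4)
      · rintro (rfl | rfl)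
        · exact ⟨one_mem_ordSet, one_dvd _⟩
        · exact ⟨h2S, by norm_num⟩
    rw [hset, Finset.sum_pair (by norm_num), ordCount_one, hc2] at h3
    norm_num at h3
  obtain ⟨O, hO⟩ := hev
  have hO2 : ¬ 2 ∣ O := fun h2 => ha (hO ▸ by rw [show (4 : ℕ) = 2 * 2 by norm_num]; exact Nat.mul_dvd_mul_left 2 h2)
  have hOdvd : O ∣ Nat.card G := ⟨2, by rw [hO, mul_comm]⟩
  -- all odd primes cannot share their count
  have hnot : ∀ A' B', TwoVal G A' B' →
      (∀ u : ℕ, u.Prime → u ≠ 2 → u ∈ ordSet G → ordCount G u = A') → False := by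
    intro A' B' hT' hall
    have h1 := hT'.odd_dvd_succ hall hp' hq' hp2 hq2 hpq hpS hqS hOdvd hO2
    have hA0 : 0 < A' := hall p hp' hp2 hpS ▸ ordCount_pos hpS
    have hcpe : ordCount G (2 * p) = A' := by
      rw [ordCount_two_mul hc2 ht (fun hd => hp2 ((Nat.prime_dvd_prime_iff_eq Nat.prime_two hp').1 hd).symm),
        hall p hp' hp2 hpS]
    have h2pS : 2 * p ∈ ordSet G := by
      by_contra hno
      have h0 : ordCount G (2 * p) = 0 :=
        Nat.card_eq_zero.2 (Or.inl ⟨fun g => hno (mem_ordSet.2 ⟨g.1, g.2⟩)⟩)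
      omega
    have := three_le_odd_prime hp' hp2
    have := three_le_odd_prime hq' hq2
    have hne : q ≠ 2 * p := fun e => hq2 ((Nat.prime_dvd_prime_iff_eq Nat.prime_two hq').1
      (e ▸ dvd_mul_right 2 p)).symm
    have hsub : ({1, 2, p, q, 2 * p} : Finset ℕ) ⊆ ordSet G := by
      intro m hm
      simp only [Finset.mem_insert, Finset.mem_singleton] at hm
      rcases hm with rfl | rfl | rfl | rfl | rfl
      · exact one_mem_ordSet
      · exact h2S
      · exact hpS
      · exact hqS
      · exact h2pS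
    have h4' := Finset.sum_le_sum_of_subset (f := ordCount G) hsub
    rw [← card_eq_sum_ordCount, Finset.sum_insert (by simp; omega), Finset.sum_insert (by simp; omega),
      Finset.sum_insert (by simp; omega), Finset.sum_pair hne, ordCount_one, hc2,
      hall p hp' hp2 hpS, hall q hq' hq2 hqS, hcpe] at h4'
    have h5 := Nat.le_of_dvd (Nat.succ_pos A') h1
    omega
  by_cases hthree : ∃ s ∈ (Nat.card G).primeFactors, s ≠ 2 ∧ s ≠ p ∧ s ≠ q
  · obtain ⟨s, hs, hs2, hsp, hsq⟩ := hthree
    obtain ⟨hs', hsS⟩ := hmem s hs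
    obtain ⟨A', B', hT', hall⟩ :=
      hT.all_same hp' hq' hs' hp2 hq2 hs2 hpq hsp.symm hsq.symm hpS hqS hsS
    exact (hnot A' B' hT' hall).elim
  push Not at hthree
  -- quotient by the central involution
  haveI := (Nat.card_eq_one_iff_unique.1 hc2).1
  have hcen : ∀ g : G, g * t * g⁻¹ = t := fun g => congrArg Subtype.val
    (Subsingleton.elim (⟨g * t * g⁻¹, by rw [← MulAut.conj_apply, MulEquiv.orderOf_eq, ht]⟩ :
      {g : G // orderOf g = 2}) ⟨t, ht⟩)
  set Z := Subgroup.zpowers t
  haveI : Z.Normal := ⟨fun z hz g => by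
    obtain ⟨i, rfl⟩ := hz
    rw [← conj_zpow, hcen]
    exact zpow_mem (Subgroup.mem_zpowers t) i⟩
  have hQ : Nat.card (G ⧸ Z) = O := by
    have h1 := Subgroup.card_eq_card_quotient_mul_card_subgroup Z
    rw [Nat.card_zpowers, ht, hO] at h1
    omega
  haveI : Group.IsSolvable (G ⧸ Z) := by
    refine isSolvable_two _ ((Finset.card_le_card (t := {p, q}) fun s hs => ?_).trans
      (Finset.card_le_two))
    rw [hQ] at hs
    have hsG : s ∈ (Nat.card G).primeFactors :=
      Nat.primeFactors_mono hOdvd Nat.card_pos.ne' hs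
    rw [Finset.mem_insert, Finset.mem_singleton]
    by_cases hsp : s = p
    · exact Or.inl hsp
    · exact Or.inr (hthree s hsG (fun e => hO2 (e ▸ Nat.dvd_of_mem_primeFactors hs)) hsp)
  haveI : Group.IsSolvable Z := Group.isSolvable_of_comm fun a b =>
    Subtype.ext (by
      obtain ⟨i, hi⟩ := a.2
      obtain ⟨j, hj⟩ := b.2
      show (a : G) * b = b * a
      rw [← hi, ← hj]
      exact ((Commute.refl t).zpow_zpow i j).eq)
  exact Group.isSolvable_of_ker_le_range Z.subtype (QuotientGroup.mk' Z)
    (by rw [QuotientGroup.ker_mk', Subgroup.range_subtype])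

end Cfsg.Agent.S3996
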