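import Cfsg.Statements.S3997
import Cfsg.Agent.FGS76.Basic

set_option autoImplicit false
open Cfsg

namespace Cfsg.Agent.S3997

/-- Let G and H be finite groups with the same order type: for every m they have the same number of elements of order m. If G is nilpotent then so is H. -/
theorem result {G H : Type*} [Group G] [Finite G] [Group H] [Finite H] (hT : (∀ m : ℕ, Nat.card {g : G // orderOf g = m} = Nat.card {h : H // orderOf h = m})) (hG : Group.IsNilpotent G) :
    Group.IsNilpotent H := by
  suffices key : ∀ (p : ℕ) (_ : Fact p.Prime) (Q : Sylow p H), (Q : Subgroup H).Normal from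
    (Group.isNilpotent_of_finite_tfae.out 0 3 rfl rfl).2 key
  intro p _ Q
  have h1 : ∀ m : ℕ, Nonempty ({g : G // orderOf g = m} ≃ {h : H // orderOf h = m}) :=
    fun m => ⟨Finite.equivFinOfCardEq (hT m) |>.trans (Finite.equivFin _).symm⟩
  let e : G ≃ H := Equiv.ofFiberEquiv fun m => (h1 m).some
  have he : ∀ g, orderOf (e g) = orderOf g := fun g => Equiv.ofFiberEquiv_map _ g
  obtain ⟨P⟩ := (inferInstance : Nonempty (Sylow p G))
  have hPn : (P : Subgroup G).Normal :=
    (Group.isNilpotent_of_finite_tfae.out 0 3 rfl rfl).1 hG p inferInstance P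
  have hmem : ∀ g : G, g ∈ (P : Subgroup G) ↔ ∃ k : ℕ, orderOf g = p ^ k := by
    refine fun g => ⟨FGS76.orderOf_eq_pow_of_mem P.isPGroup', fun hg => ?_⟩
    obtain ⟨R, hR⟩ := (FGS76.isPGroup_zpowers hg).exists_le_sylow
    letI := Sylow.unique_of_normal P hPn
    rw [Subsingleton.elim P R]
    exact hR (Subgroup.mem_zpowers g)
  let S : Set H := {h | ∃ k : ℕ, orderOf h = p ^ k}
  have hcard : Nat.card S = Nat.card (Q : Subgroup H) := by
    rw [Sylow.card_eq_multiplicity, ← Nat.card_congr e, ← Sylow.card_eq_multiplicity P]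
    exact (Nat.card_congr (e.subtypeEquiv fun g => by rw [hmem]; simp [S, he])).symm
  have hQS : ((Q : Subgroup H) : Set H) = S := by
    refine Set.eq_of_subset_of_ncard_le (fun x hx => FGS76.orderOf_eq_pow_of_mem Q.isPGroup' hx)
      ?_ (Set.toFinite _)
    rw [← Nat.card_coe_set_eq, ← Nat.card_coe_set_eq, hcard]
    rfl
  constructor
  intro x hx g
  have h2 : g * x * g⁻¹ ∈ S := by
    show ∃ k : ℕ, orderOf (g * x * g⁻¹) = p ^ k
    rw [← MulAut.conj_apply, MulEquiv.orderOf_eq]
    exact FGS76.orderOf_eq_pow_of_mem Q.isPGroup' hx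
  rwa [← hQS] at h2

end Cfsg.Agent.S3997
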