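import Cfsg.Statements.S3998
import Cfsg.Agent.FGS76.OrderType

set_option autoImplicit false
open Cfsg

namespace Cfsg.Agent.S3998

open Cfsg.Agent.FGS76

/-- a nontrivial supersolvable group has a normal subgroup of prime order, and supersolvable quotient -/
theorem exists_prime_normal {G : Type*} [Group G] [Finite G] [Nontrivial G]
    (hG : Cfsg.IsSupersolvable G) :
    ∃ N : Subgroup G, N.Normal ∧ (Nat.card N).Prime := by
  obtain ⟨n, H, h0, hl, hn, hs⟩ := hG
  suffices h : ∀ i : Fin (n + 1), H i = ⊥ ∨ ∃ N : Subgroup G, N.Normal ∧ (Nat.card N).Prime by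
    rcases h (Fin.last n) with h | h
    · rw [hl] at h
      exact absurd h top_ne_bot
    · exact h
  intro i
  induction i using Fin.induction with
  | zero => exact Or.inl h0
  | succ i ih =>
    rcases ih with ih | ih
    swap
    · exact Or.inr ih
    obtain ⟨g, hg⟩ := hs i
    rw [ih, bot_sup_eq] at hg
    by_cases hg1 : g = 1
    · exact Or.inl (by rw [hg, hg1, Subgroup.zpowers_one_eq_bot])
    right
    obtain ⟨r, hr, hrd⟩ := Nat.exists_prime_and_dvd (mt orderOf_eq_one_iff.1 hg1)
    refine ⟨Subgroup.zpowers (g ^ (orderOf g / r)), ⟨?_⟩, ?_⟩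
    · intro x hx y
      obtain ⟨m, rfl⟩ := Subgroup.mem_zpowers_iff.1 hx
      have h1 : y * g * y⁻¹ ∈ H i.succ :=
        (hn i.succ).conj_mem g (hg ▸ Subgroup.mem_zpowers g) y
      rw [hg] at h1
      obtain ⟨c, hc⟩ := Subgroup.mem_zpowers_iff.1 h1
      refine Subgroup.mem_zpowers_iff.2 ⟨c * m, ?_⟩
      rw [← conj_zpow, ← conj_pow, ← hc, ← zpow_natCast (g ^ c), ← zpow_mul, ← zpow_mul,
        ← zpow_natCast g, ← zpow_mul]
      congr 1
      ring
    · rw [Nat.card_zpowers, orderOf_pow_orderOf_div (orderOf_pos g).ne' hrd]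
      exact hr

theorem isSupersolvable_quotient {G : Type*} [Group G] (N : Subgroup G) [N.Normal]
    (hG : Cfsg.IsSupersolvable G) : Cfsg.IsSupersolvable (G ⧸ N) := by
  obtain ⟨n, H, h0, hl, hn, hs⟩ := hG
  have hsurj := QuotientGroup.mk'_surjective N
  refine ⟨n, fun i => (H i).map (QuotientGroup.mk' N), ?_, ?_, fun i => (hn i).map _ hsurj, ?_⟩
  · simp [h0]
  · simp only [hl]
    exact Subgroup.map_top_of_surjective _ hsurj
  · intro i
    obtain ⟨g, hg⟩ := hs i
    refine ⟨QuotientGroup.mk' N g, ?_⟩
    simp only [hg, Subgroup.map_sup, MonoidHom.map_zpowers]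

theorem hasTop_of_isSupersolvable (t : ℕ) : ∀ (n : ℕ) (G : Type*) [Group G] [Finite G],
    Nat.card G = n → Cfsg.IsSupersolvable G → HasTop t G := by
  intro n
  induction n using Nat.strong_induction_on with
  | h n ih =>
    intro G _ _ hn hG
    rcases subsingleton_or_nontrivial G with hsub | hnt
    · refine ⟨⊥, inferInstance, by simpa using big_one t, ?_⟩
      rw [Subgroup.index_bot, Nat.card_of_subsingleton (1 : G)]
      exact small_one t
    obtain ⟨N, hN, hp⟩ := exists_prime_normal hG
    have hlt : Nat.card (G ⧸ N) < n := by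
      rw [← hn, Subgroup.card_eq_card_quotient_mul_card_subgroup N]
      exact lt_mul_of_one_lt_right Nat.card_pos hp.one_lt
    have h := ih _ hlt (G ⧸ N) rfl (isSupersolvable_quotient N hG)
    rcases Nat.lt_or_ge (Nat.card N) t with hpt | hpt
    · haveI : Fact (Nat.card N).Prime := ⟨hp⟩
      haveI : IsCyclic N := isCyclic_of_prime_card rfl
      refine hasTop_step N ?_ ?_ h
      · intro r hr hd
        exact ((Nat.prime_dvd_prime_iff_eq hr hp).1 hd).trans_lt hpt
      · rw [IsCyclic.card_mulAut, Nat.totient_prime hp]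
        intro r hr hd
        have := Nat.le_of_dvd (by have := hp.two_le; omega) hd
        omega
    · obtain ⟨Mb, hMn, hMb, hMs⟩ := h
      refine ⟨Mb.comap (QuotientGroup.mk' N), hMn.comap _, ?_, ?_⟩
      · rw [show Nat.card (Mb.comap (QuotientGroup.mk' N)) = Nat.card N * Nat.card Mb from
          (Nat.card_congr (QuotientGroup.preimageMkEquivSubgroupProdSet N
            (Mb : Set (G ⧸ N)))).trans (Nat.card_prod _ _)]
        refine Big.mul ?_ hMb
        intro r hr hd
        exact ((Nat.prime_dvd_prime_iff_eq hr hp).1 hd).ge.trans' hpt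
      · rwa [Subgroup.index_comap_of_surjective _ (QuotientGroup.mk'_surjective N)]

/-- Let G and H be finite groups with the same order type (for every m the same number of elements of order m). If G is supersolvable then H is solvable. -/
theorem result {G H : Type*} [Group G] [Finite G] [Group H] [Finite H] (hT : (∀ m : ℕ, Nat.card {g : G // orderOf g = m} = Nat.card {h : H // orderOf h = m})) (hG : Cfsg.IsSupersolvable G) :
    Group.IsSolvable H := by
  obtain ⟨e, he⟩ := exists_equiv_orderOf hT
  obtain ⟨M, hMn, hMsol, hMb, hMs⟩ := tower_of_count e he 0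
    (fun t _ => hasTop_of_isSupersolvable t _ G rfl hG) (Nat.card H + 1) 0 le_rfl (by omega)
  have h1 : M.index = 1 := by
    by_contra h
    obtain ⟨r, hr, hd⟩ := Nat.exists_prime_and_dvd h
    exact Nat.not_lt_zero r (hMs r hr hd)
  rw [Subgroup.index_eq_one] at h1
  subst h1
  exact Group.isSolvable_of_isSolvable_injective (f := (Subgroup.topEquiv (G := H)).symm.toMonoidHom)
    (Subgroup.topEquiv (G := H)).symm.injective

end Cfsg.Agent.S3998
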