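import Cfsg.Statements.S3999
import Cfsg.Agent.FGS76.FrobType
import Cfsg.Agent.Lib.Frobenius.Nilpotent
import Cfsg.Agent.Lib.Solvable.Conj

set_option autoImplicit false
set_option linter.style.haveILetI false
open Cfsg
open scoped Pointwise

namespace Cfsg.Agent.S3999

open Cfsg.Agent.Frobenius Cfsg.Agent.FGS76

section
variable {F : Type*} [Group F] [Finite F]

/-- data of a Frobenius group `K ⋊ C` -/
structure FrobData (K C : Subgroup F) : Prop where
  normal : K.Normal
  compl : Subgroup.IsComplement' K C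
  frob : IsFrobeniusComplement C
  sol : Group.IsSolvable K

theorem FrobData.card {K C : Subgroup F} (h : FrobData K C) :
    Nat.card K * Nat.card C = Nat.card F := h.compl.card_mul

theorem FrobData.coprime {K C : Subgroup F} (h : FrobData K C) :
    (Nat.card K).Coprime (Nat.card C) := by
  rw [← h.compl.index_eq_card]
  exact (coprime_card_index h.frob).symm

theorem FrobData.mem_iff {K C : Subgroup F} (h : FrobData K C) (g : F) :
    g ∈ K ↔ orderOf g ∣ Nat.card K := by
  haveI := h.normal
  constructor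
  · intro hg
    rw [← Subgroup.orderOf_mk g hg]
    exact orderOf_dvd_natCard _
  · intro hg
    rw [← QuotientGroup.eq_one_iff, ← orderOf_eq_one_iff]
    refine Nat.eq_one_of_dvd_one ?_
    rw [← h.coprime, Nat.dvd_gcd_iff]
    refine ⟨(orderOf_map_dvd (QuotientGroup.mk' K) g).trans hg, ?_⟩
    rw [← h.compl.symm.index_eq_card, Subgroup.index_eq_card]
    exact orderOf_dvd_natCard _

theorem FrobData.dvd_or {K C : Subgroup F} (h : FrobData K C) (g : F) :
    orderOf g ∣ Nat.card K ∨ orderOf g ∣ Nat.card C := by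
  by_cases hg : g ∈ K
  · exact Or.inl ((h.mem_iff g).1 hg)
  · right
    haveI := h.normal
    have hk : g ∉ frobeniusKernel C := by
      rw [← coe_eq_frobeniusKernel h.compl h.frob]
      exact hg
    obtain ⟨-, a, ha⟩ := exists_conj_of_not_mem_frobeniusKernel hk
    rw [mem_conj_smul] at ha
    have h1 : orderOf g = orderOf (a⁻¹ * g * a) := by
      conv_lhs => rw [← MulEquiv.orderOf_eq (MulAut.conj a⁻¹) g]
      simp
    rw [h1, ← Subgroup.orderOf_mk _ ha]
    exact orderOf_dvd_natCard _

theorem FrobData.card_orderOf {K C : Subgroup F} (h : FrobData K C) {m : ℕ} (hm : m ∣ Nat.card C)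
    (hm1 : m ≠ 1) :
    Nat.card {g : F // orderOf g = m} = Nat.card K * Nat.card {c : C // orderOf c = m} := by
  haveI := h.normal
  rw [← h.compl.index_eq_card, Subgroup.index_eq_card, ← Nat.card_prod]
  symm
  have hord : ∀ (a c : F), orderOf (a * c * a⁻¹) = orderOf c := fun a c => by
    rw [← MulAut.conj_apply, MulEquiv.orderOf_eq]
  refine Nat.card_congr (Equiv.ofBijective (fun x => ⟨x.1.out * (x.2.1 : F) * x.1.out⁻¹,
    by rw [hord, Subgroup.orderOf_coe, x.2.2]⟩) ⟨?_, ?_⟩)
  · rintro ⟨q, c, hc⟩ ⟨q', c', hc'⟩ hxy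
    simp only [Subtype.mk.injEq] at hxy
    have hne : q.out * (c : F) * q.out⁻¹ ≠ 1 := by
      intro h0
      have := hord q.out (c : F)
      rw [h0, orderOf_one, Subgroup.orderOf_coe, hc] at this
      exact hm1 this.symm
    have h1 : q.out * (c : F) * q.out⁻¹ ∈ MulAut.conj q'.out • C := by
      rw [hxy]
      exact conj_mem_conj_smul c'.2
    have h2 := inv_mul_mem_of_mem_conj h.frob hne (conj_mem_conj_smul c.2) h1
    have h3 : q = q' := by
      rw [← QuotientGroup.out_eq' q, ← QuotientGroup.out_eq' q']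
      exact QuotientGroup.eq.2 h2
    subst h3
    have h4 : c = c' := Subtype.ext (mul_left_cancel (mul_right_cancel hxy))
    subst h4
    rfl
  · rintro ⟨g, hg⟩
    have hgK : g ∉ K := by
      intro hgK
      have h1 := Nat.dvd_gcd ((h.mem_iff g).1 hgK) (hg.symm ▸ hm)
      rw [h.coprime, hg, Nat.dvd_one] at h1
      exact hm1 h1
    have hk : g ∉ frobeniusKernel C := by
      rw [← coe_eq_frobeniusKernel h.compl h.frob]
      exact hgK
    obtain ⟨-, a, ha⟩ := exists_conj_of_not_mem_frobeniusKernel hk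
    obtain ⟨c₀, hc₀⟩ : ∃ c₀ : C, (a : F ⧸ C).out = a * c₀ :=
      QuotientGroup.mk_out_eq_mul C a
    rw [mem_conj_smul] at ha
    have hmem : (c₀ : F)⁻¹ * (a⁻¹ * g * a) * c₀ ∈ C := mul_mem (mul_mem (inv_mem c₀.2) ha) c₀.2
    have heq : (a : F ⧸ C).out * ((c₀ : F)⁻¹ * (a⁻¹ * g * a) * c₀) * (a : F ⧸ C).out⁻¹ = g := by
      rw [hc₀]
      group
    refine ⟨⟨(a : F ⧸ C), ⟨⟨_, hmem⟩, ?_⟩⟩, Subtype.ext heq⟩
    rw [← Subgroup.orderOf_coe, ← hord (a : F ⧸ C).out]
    dsimp only
    rw [heq, hg]

theorem FrobData.isSolvable_iff {K C : Subgroup F} (h : FrobData K C) :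
    Group.IsSolvable F ↔ Group.IsSolvable C := by
  haveI := h.normal
  haveI := h.sol
  constructor
  · intro hF
    infer_instance
  · intro hC
    haveI : Group.IsSolvable (F ⧸ K) :=
      Group.isSolvable_of_surjective (f := (QuotientGroup.mk' K).comp C.subtype) (by
        intro q
        obtain ⟨g, rfl⟩ := QuotientGroup.mk'_surjective K q
        obtain ⟨⟨⟨k, hk⟩, c⟩, hx⟩ := h.compl.2 g
        refine ⟨c, ?_⟩
        dsimp only at hx
        rw [← hx]
        simp [(QuotientGroup.eq_one_iff k).2 hk])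
    exact Group.isSolvable_of_ker_le_range K.subtype (QuotientGroup.mk' K)
      (by rw [QuotientGroup.ker_mk', Subgroup.range_subtype])

theorem FrobData.thin {K C : Subgroup F} (h : FrobData K C) : Thin C ∧ K ≠ ⊥ := by
  haveI := h.normal
  have hK : K ≠ ⊥ := by
    intro h0
    exact h.frob.2.1 (Subgroup.eq_top_of_card_eq C (by rw [← h.card, h0]; simp))
  exact ⟨thin_of_isFPF (isFPF_of_normal (fixedPointFree_of_isFrobeniusComplement h.compl h.frob))
    hK, hK⟩

end

theorem exists_frobData {F : Type*} [Group F] [Finite F] {C : Subgroup F}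
    (hC : IsFrobeniusComplement C) : ∃ K, FrobData K C ∧ Group.IsNilpotent K := by
  obtain ⟨K, hK, hKn, hc⟩ := exists_frobeniusKernel_subgroup hC
  obtain ⟨K', hK', -, hKnil⟩ := frobeniusKernel_isNilpotent hC
  have : K' = K := SetLike.coe_injective (hK'.trans hK.symm)
  subst this
  haveI := hKnil
  exact ⟨K', ⟨hKn, hc, hC, inferInstance⟩, hKnil⟩

/-- the normal Sylow subgroups transfer -/
theorem exists_normal_of_sylow_count {G : Type*} [Group G] [Finite G] (s : Finset ℕ)
    (hs : ∀ r ∈ s, r.Prime)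
    (hc : ∀ r ∈ s, Nat.card {g : G // ∃ n, orderOf g = r ^ n} = r ^ (Nat.card G).factorization r) :
    ∃ N : Subgroup G, N.Normal ∧ Nat.card N = ∏ r ∈ s, r ^ (Nat.card G).factorization r := by
  classical
  induction s using Finset.induction with
  | empty => exact ⟨⊥, inferInstance, by simp⟩
  | @insert r s hr ih =>
    obtain ⟨N, hN, hNc⟩ := ih (fun q hq => hs q (Finset.mem_insert_of_mem hq))
      (fun q hq => hc q (Finset.mem_insert_of_mem hq))
    have hrp := hs r (Finset.mem_insert_self r s)
    haveI := Fact.mk hrp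
    obtain ⟨P⟩ := (inferInstance : Nonempty (Sylow r G))
    have hsub : ((P : Subgroup G) : Set G) ⊆ {g | ∃ n, orderOf g = r ^ n} := by
      intro g hg
      obtain ⟨n, hn⟩ := IsPGroup.iff_orderOf.1 P.isPGroup' ⟨g, hg⟩
      exact ⟨n, by rw [← hn, Subgroup.orderOf_mk]⟩
    have hPS : ((P : Subgroup G) : Set G) = {g | ∃ n, orderOf g = r ^ n} := by
      refine Set.eq_of_subset_of_ncard_le hsub ?_ (Set.toFinite _)
      rw [← Nat.card_coe_set_eq, ← Nat.card_coe_set_eq]
      show Nat.card {g : G // ∃ n, orderOf g = r ^ n} ≤ Nat.card (P : Subgroup G)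
      rw [hc r (Finset.mem_insert_self r s), P.card_eq_multiplicity]
    have hPn : (P : Subgroup G).Normal := by
      constructor
      intro g hg x
      rw [← SetLike.mem_coe, hPS] at hg ⊢
      obtain ⟨n, hn⟩ := hg
      exact ⟨n, by rw [← hn, ← MulAut.conj_apply, MulEquiv.orderOf_eq]⟩
    refine ⟨N ⊔ P, Subgroup.sup_normal N P, ?_⟩
    have hcop : (Nat.card N).Coprime (Nat.card (P : Subgroup G)) := by
      rw [hNc, P.card_eq_multiplicity]
      refine Nat.Coprime.prod_left fun q hq => Nat.Coprime.pow _ _ ?_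
      exact (Nat.coprime_primes (hs q (Finset.mem_insert_of_mem hq)) hrp).2
        (fun e => hr (e ▸ hq))
    have h1 : Nat.card (N ⊓ (P : Subgroup G) : Subgroup G) = 1 :=
      Nat.eq_one_of_dvd_coprimes hcop (Subgroup.card_dvd_of_le inf_le_left)
        (Subgroup.card_dvd_of_le inf_le_right)
    have h2 := Solvable.card_sup_mul_card_inf N (P : Subgroup G)
    rw [h1, mul_one] at h2
    rw [h2, hNc, P.card_eq_multiplicity, Finset.prod_insert hr, mul_comm]

theorem result {F G : Type*} [Group F] [Finite F] [Group G] [Finite G] (hF : (∃ C : Subgroup F, Cfsg.IsFrobeniusComplement C)) (hT : (∀ m : ℕ, Nat.card {g : F // orderOf g = m} = Nat.card {h : G // orderOf h = m})) :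
    (∃ C : Subgroup G, Cfsg.IsFrobeniusComplement C) ∧ (Group.IsSolvable G ↔ Group.IsSolvable F) := by
  classical
  obtain ⟨C, hC⟩ := hF
  obtain ⟨K, hD, hKnil⟩ := exists_frobData hC
  obtain ⟨hKn, hcK, -, -⟩ := id hD
  haveI := hKn
  obtain ⟨e, he⟩ := exists_equiv_orderOf hT
  have hcard : Nat.card F = Nat.card G := Nat.card_congr e
  set k := Nat.card K with hk
  set h := Nat.card C with hh
  have hkh : k * h = Nat.card G := hD.card.trans hcard
  have hcop : k.Coprime h := hD.coprime
  -- the counts of prime power elements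
  have hfac : ∀ r ∈ k.primeFactors, (Nat.card G).factorization r = k.factorization r := by
    intro r hr
    rw [← hkh, Nat.factorization_mul Nat.card_pos.ne' Nat.card_pos.ne', Finsupp.add_apply]
    have : h.factorization r = 0 := by
      apply Nat.factorization_eq_zero_of_not_dvd
      intro hd
      exact (Nat.prime_of_mem_primeFactors hr).ne_one
        (Nat.eq_one_of_dvd_coprimes hcop (Nat.dvd_of_mem_primeFactors hr) hd)
    rw [this, add_zero]
  have hcnt : ∀ r ∈ k.primeFactors,
      Nat.card {g : G // ∃ n, orderOf g = r ^ n} = r ^ (Nat.card G).factorization r := by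
    intro r hr
    haveI := Fact.mk (Nat.prime_of_mem_primeFactors hr)
    rw [← Nat.card_congr (e.subtypeEquiv (p := fun g => ∃ n, orderOf g = r ^ n)
      (fun g => by rw [he])), hfac r hr]
    obtain ⟨P⟩ := (inferInstance : Nonempty (Sylow r K))
    haveI hPn : (P : Subgroup K).Normal :=
      inferInstance
    rw [hk, ← P.card_eq_multiplicity]
    letI := Sylow.unique_of_normal P hPn
    refine Nat.card_congr ⟨fun g => ⟨⟨g.1, ?_⟩, ?_⟩, fun g => ⟨((g.1 : K) : F), ?_⟩, ?_, ?_⟩
    · obtain ⟨g, n, hn⟩ := g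
      rw [hD.mem_iff, hn]
      rcases hD.dvd_or g with h1 | h1
      · rwa [hn] at h1
      · rw [hn] at h1
        rcases n.eq_zero_or_pos with h0 | h0
        · simp [h0]
        · exfalso
          exact (Nat.prime_of_mem_primeFactors hr).ne_one
            (Nat.eq_one_of_dvd_coprimes hcop (Nat.dvd_of_mem_primeFactors hr)
              ((dvd_pow_self r h0.ne').trans h1))
    · obtain ⟨g, n, hn⟩ := g
      have hgK : g ∈ K := by
        rw [hD.mem_iff, hn]
        rcases hD.dvd_or g with h1 | h1
        · rwa [hn] at h1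
        · rw [hn] at h1
          rcases n.eq_zero_or_pos with h0 | h0
          · simp [h0]
          · exfalso
            exact (Nat.prime_of_mem_primeFactors hr).ne_one
              (Nat.eq_one_of_dvd_coprimes hcop (Nat.dvd_of_mem_primeFactors hr)
                ((dvd_pow_self r h0.ne').trans h1))
      have hp : IsPGroup r (Subgroup.zpowers (⟨g, hgK⟩ : K)) :=
        IsPGroup.of_card (n := n) (by rw [Nat.card_zpowers, Subgroup.orderOf_mk, hn])
      obtain ⟨Q, hQ⟩ := hp.exists_le_sylow
      rw [Subsingleton.elim Q P] at hQ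
      exact hQ (Subgroup.mem_zpowers _)
    · obtain ⟨n, hn⟩ := IsPGroup.iff_orderOf.1 P.isPGroup' g
      exact ⟨n, by rw [← hn, Subgroup.orderOf_coe, Subgroup.orderOf_coe]⟩
    · exact fun g => rfl
    · exact fun g => rfl
  obtain ⟨K', hK'n, hK'c⟩ := exists_normal_of_sylow_count k.primeFactors
    (fun r hr => Nat.prime_of_mem_primeFactors hr) hcnt
  have hK'k : Nat.card K' = k := by
    rw [hK'c, Finset.prod_congr rfl fun r hr => by rw [hfac r hr]]
    conv_rhs => rw [← Nat.prod_factorization_pow_eq_self (n := k) Nat.card_pos.ne']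
    rw [Finsupp.prod, Nat.support_factorization]
  haveI := hK'n
  have hidx : K'.index = h := by
    have h1 := Subgroup.card_mul_index K'
    rw [hK'k, ← hkh] at h1
    exact Nat.eq_of_mul_eq_mul_left Nat.card_pos h1
  obtain ⟨C', hC'⟩ := Subgroup.exists_right_complement'_of_coprime (N := K')
    (by rw [hK'k, hidx]; exact hcop)
  have hC'h : Nat.card C' = h := hC'.symm.index_eq_card.symm.trans hidx
  have hne : K' ≠ ⊥ := by
    intro h0
    have := hD.thin.2
    apply this
    apply Subgroup.eq_bot_of_card_eq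
    rw [← hk, ← hK'k, h0, Subgroup.card_bot]
  have hC'ne : C' ≠ ⊥ := by
    intro h0
    apply hC.1
    apply Subgroup.eq_bot_of_card_eq
    rw [← hh, ← hC'h, h0, Subgroup.card_bot]
  have hfpf : ∀ c ∈ C', c ≠ 1 → K' ⊓ Subgroup.centralizer {c} = ⊥ := by
    intro c hc hc1
    rw [Subgroup.eq_bot_iff_forall]
    rintro x ⟨hx, hxc⟩
    by_contra hx1
    have hox : orderOf x ∣ k := by
      rw [← Subgroup.orderOf_mk x hx, ← hK'k]
      exact orderOf_dvd_natCard _
    have hoc : orderOf c ∣ h := by
      rw [← Subgroup.orderOf_mk c hc, ← hC'h]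
      exact orderOf_dvd_natCard _
    have hcomm : Commute x c := Subgroup.mem_centralizer_singleton_iff.1 hxc
    have hxc' : orderOf (x * c) = orderOf x * orderOf c :=
      hcomm.orderOf_mul_eq_mul_orderOf_of_coprime (hcop.of_dvd hox hoc)
    obtain ⟨g, hg⟩ := e.surjective (x * c)
    have h1 := hD.dvd_or g
    rw [← he, hg, hxc'] at h1
    rcases h1 with h1 | h1
    · exact hc1 (orderOf_eq_one_iff.1 (Nat.eq_one_of_dvd_coprimes hcop
        ((dvd_mul_left _ _).trans h1) hoc))
    · exact hx1 (orderOf_eq_one_iff.1 (Nat.eq_one_of_dvd_coprimes hcop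
        hox ((dvd_mul_right _ _).trans h1)))
  have hCf : IsFrobeniusComplement C' :=
    isFrobeniusComplement_of_fixedPointFree hC' hne hC'ne hfpf
  obtain ⟨L, hD'', hLnil⟩ := exists_frobData hCf
  have hLk : L = K' := SetLike.coe_injective
    (((haveI := hD''.normal; coe_eq_frobeniusKernel (K := L) hD''.compl hCf)).trans
      (coe_eq_frobeniusKernel hC' hCf).symm)
  subst hLk
  have hTC : ∀ m : ℕ,
      Nat.card {c : C // orderOf c = m} = Nat.card {c : C' // orderOf c = m} := by
    intro m
    by_cases hm : m ∣ h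
    · by_cases hm1 : m = 1
      · subst hm1
        exact Nat.card_congr ((Equiv.subtypeEquivRight fun c => orderOf_eq_one_iff).trans
          ((Equiv.ofUnique _ _).trans (Equiv.subtypeEquivRight fun c => orderOf_eq_one_iff).symm))
      · have h1 := hD.card_orderOf hm hm1
        have h2 := hD''.card_orderOf (m := m) (hC'h.symm ▸ hm) hm1
        rw [← hk] at h1
        rw [hK'k, ← hT m, h1] at h2
        exact Nat.eq_of_mul_eq_mul_left Nat.card_pos h2
    · haveI : IsEmpty {c : C // orderOf c = m} := ⟨fun c => hm (c.2 ▸ orderOf_dvd_natCard c.1)⟩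
      haveI : IsEmpty {c : C' // orderOf c = m} :=
        ⟨fun c => hm (hC'h ▸ c.2 ▸ orderOf_dvd_natCard c.1)⟩
      rw [Nat.card_of_isEmpty, Nat.card_of_isEmpty]
  refine ⟨⟨C', hCf⟩, ?_⟩
  rw [hD.isSolvable_iff, hD''.isSolvable_iff]
  constructor
  · intro hs
    exact isSolvable_of_thin hD''.thin.1 fun m => (hTC m).symm
  · intro hs
    exact isSolvable_of_thin hD.thin.1 hTC

end Cfsg.Agent.S3999
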