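import Cfsg.Statements.S4002
import Cfsg.Agent.Recog71.ThreePrimes
import Cfsg.Agent.FG78.ThreePrimes

set_option autoImplicit false
open Cfsg

namespace Cfsg.Agent.S4002

/-- If the set of element orders of a finite group G is {1, 2, …, n} with n ≥ 7, then G is not solvable. -/
theorem result {G : Type*} [Group G] [Finite G] (n : ℕ) (hn : 7 ≤ n) (h : Set.range (orderOf : G → ℕ) = {k : ℕ | 1 ≤ k ∧ k ≤ n}) : ¬ Group.IsSolvable G := by
  intro hs
  obtain ⟨a, b, c, ha, hb, hc, hab, hbc, hcn, habn⟩ : ∃ a b c : ℕ, a.Prime ∧ b.Prime ∧ c.Prime ∧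
      a < b ∧ b < c ∧ c ≤ n ∧ n < a * b := by
    by_cases h1 : n < 15
    · exact ⟨3, 5, 7, by norm_num, by norm_num, by norm_num, by omega, by omega, hn, by omega⟩
    by_cases h2 : n < 18
    · exact ⟨5, 7, 11, by norm_num, by norm_num, by norm_num, by omega, by omega, by omega, by omega⟩
    obtain ⟨a, b, c, ha, hb, hc, h3, h4, h5, h6⟩ :=
      FG78.Primes.exists_three_primes (n := n / 2) (by omega)
    refine ⟨a, b, c, ha, hb, hc, h4, h5, by omega, ?_⟩
    have := Nat.mul_le_mul_left a (show 2 ≤ b by omega)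
    omega
  have hno : ∀ u v : ℕ, a ≤ u → b ≤ v → ¬ ∃ x : G, orderOf x = u * v := by
    rintro u v hu hv ⟨x, hx⟩
    have h3 : u * v ∈ Set.range (orderOf : G → ℕ) := ⟨x, hx⟩
    rw [h] at h3
    have := Nat.mul_le_mul hu hv
    have h4 : u * v ≤ n := h3.2
    omega
  have hdvd : ∀ u : ℕ, u.Prime → u ≤ n → u ∣ Nat.card G := by
    intro u hu hun
    have h3 : u ∈ Set.range (orderOf : G → ℕ) := by rw [h]; exact ⟨hu.one_lt.le, hun⟩
    obtain ⟨x, hx⟩ := h3
    exact hx ▸ orderOf_dvd_natCard x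
  haveI : Group.IsSolvable (⊤ : Subgroup G) := inferInstance
  exact Recog71.at_most_one_in_solvable (⊤ : Subgroup G) this ha hb hc hab.ne (hab.trans hbc).ne
    hbc.ne (hno a b le_rfl le_rfl) (hno a c le_rfl hbc.le) (hno b c hab.le hbc.le)
    (by rw [Subgroup.card_top]; exact hdvd a ha (by omega))
    (by rw [Subgroup.card_top]; exact hdvd b hb (by omega)) (hdvd c hc hcn)

end Cfsg.Agent.S4002
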