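import Cfsg.Statements.S4003
import Cfsg.Agent.FGS76.Miller

set_option autoImplicit false
set_option linter.style.haveILetI false
open Cfsg
open Cfsg.Agent.FGS76

namespace Cfsg.Agent.S4003

/-- Let G be a finite group, p an odd prime dividing the order of G whose Sylow p-subgroups are not cyclic, and n = p^s·m with s > 1 and m coprime to p. Then the number of elements of G of order n is a multiple of p^s. -/
theorem result {G : Type*} [Group G] [Finite G] (p : ℕ) [Fact p.Prime] (hodd : p ≠ 2) (hpG : p ∣ Nat.card G)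
    (P : Sylow p G) (hP : ¬ IsCyclic ↥(P : Subgroup G)) (s m : ℕ) (hs : 1 < s) (hm : Nat.Coprime p m) :
    p ^ s ∣ Nat.card {g : G // orderOf g = p ^ s * m} := by
  classical
  haveI := Fintype.ofFinite G
  obtain ⟨t, rfl⟩ : ∃ t, s = t + 2 := ⟨s - 2, by omega⟩
  rw [mul_comm (p ^ (t + 2)) m, card_orderOf_split (hm.symm.pow_right _), Nat.card_sigma,
    ← Finset.sum_subtype (Finset.univ.filter fun y : G => orderOf y = m) (fun y => by simp)
      (fun y : G => Nat.card {z : G // Commute z y ∧ orderOf z = p ^ (t + 2)})]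
  refine dvd_sum_of_conj_inv _ ?_ _ ?_ ?_
  · intro g y hy
    simp only [Finset.mem_filter, Finset.mem_univ, true_and] at hy ⊢
    rwa [← MulAut.conj_apply, MulEquiv.orderOf_eq]
  · intro g y
    refine (Nat.card_congr ((MulAut.conj g).toEquiv.subtypeEquiv fun z => ?_)).symm
    simp only [MulEquiv.toEquiv_eq_coe, EquivLike.coe_coe]
    show _ ↔ Commute ((MulAut.conj g) z) ((MulAut.conj g) y) ∧ _
    rw [MulEquiv.orderOf_eq]
    exact and_congr_left fun _ => ⟨fun h => h.map _,
      fun h => (MulAut.conj g).injective (by rw [map_mul, map_mul]; exact h.eq)⟩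
  intro y _
  set C := Subgroup.centralizer ({y} : Set G) with hC
  by_cases hpC : p ∣ C.index
  · rw [pow_succ']
    refine Nat.mul_dvd_mul hpC (dvd_card_of_dvd_totient _ ?_ ?_)
    · intro a b hab ha
      refine ⟨?_, by rw [← Nat.card_zpowers, ← hab, Nat.card_zpowers, ha.2]⟩
      obtain ⟨i, rfl⟩ := Subgroup.mem_zpowers_iff.1 (hab.symm ▸ Subgroup.mem_zpowers b)
      exact ha.1.zpow_left i
    · intro a ha
      rw [ha.2, ← pow_succ', Nat.totient_prime_pow_succ Fact.out]
      exact dvd_mul_right _ _
  · obtain ⟨Q⟩ := (inferInstance : Nonempty (Sylow p C))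
    have hQc : Nat.card ((Q : Subgroup C).map C.subtype) = p ^ (Nat.card G).factorization p := by
      rw [Subgroup.card_map_of_injective C.subtype_injective, Q.card_eq_multiplicity,
        ← C.card_mul_index, Nat.factorization_mul Nat.card_pos.ne' Subgroup.index_ne_zero_of_finite,
        Finsupp.add_apply, Nat.factorization_eq_zero_of_not_dvd hpC, add_zero]
    set Q' : Sylow p G := Sylow.ofCard _ hQc
    have hnc : ¬ IsCyclic Q := by
      intro hc
      apply hP
      have h1 : IsCyclic ((Q : Subgroup C).map C.subtype) :=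
        ((Q : Subgroup C).equivMapOfInjective _ C.subtype_injective).isCyclic.1 hc
      obtain ⟨g, hg⟩ := MulAction.exists_smul_eq G Q' P
      have h2 : IsCyclic Q' := h1
      rw [← hg, Sylow.coe_subgroup_smul]
      exact (Subgroup.equivSMul (MulAut.conj g) (Q' : Subgroup G)).isCyclic.1 h2
    refine dvd_mul_of_dvd_right ?_ _
    have h3 : Nat.card {z : G // Commute z y ∧ orderOf z = p ^ (t + 2)} =
        Nat.card {z : C // orderOf z = p ^ (t + 2)} :=
      Nat.card_congr ⟨fun z => ⟨⟨z.1, Subgroup.mem_centralizer_singleton_iff.2 z.2.1⟩,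
        by rw [Subgroup.orderOf_mk]; exact z.2.2⟩,
        fun z => ⟨z.1.1, Subgroup.mem_centralizer_singleton_iff.1 z.1.2,
          by rw [Subgroup.orderOf_coe]; exact z.2⟩, fun _ => rfl, fun _ => rfl⟩
    rw [h3]
    exact miller hodd Q hnc t

end Cfsg.Agent.S4003
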