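import Cfsg.Statements.S4004
import Cfsg.Agent.FGS76.CountThree
import Cfsg.Agent.FGS76.Miller
import Cfsg.Agent.Lib.Solvable.Basic
import Cfsg.Agent.Lib.Frobenius.Complement
import Cfsg.Agent.Lib.Frobenius.Basic
import Cfsg.Agent.S0016

set_option autoImplicit false
set_option linter.style.haveILetI false
set_option linter.unusedSectionVars false
set_option linter.unusedVariables false
open Cfsg
open Cfsg.Agent.FGS76
open scoped Pointwise

namespace Cfsg.Agent.S4004

variable {G : Type*} [Group G] [Finite G]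

theorem commute_false {p q : ℕ} (hp : p.Prime) (hq : q.Prime) (hpq : p ≠ q)
    (h : p * q ∉ ordSet G) {a b : G} (ha : orderOf a = p) (hb : orderOf b = q) : ¬ Commute a b :=
  fun hc => h (mem_ordSet.2 ⟨a * b, by
    rw [hc.orderOf_mul_eq_mul_orderOf_of_coprime (by rw [ha, hb]; exact (Nat.coprime_primes hp hq).2 hpq),
      ha, hb]⟩)

/-- no element of order `p * q` can share the count of those of order `p` -/
theorem not_mem_mul {p q : ℕ} (hp : p.Prime) (hq : q.Prime) (hp2 : p ≠ 2) (hq2 : q ≠ 2)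
    (hpq : p ≠ q) (hmem : p * q ∈ ordSet G) : ordCount G (p * q) ≠ ordCount G p := by
  classical
  intro he
  haveI := Fact.mk hp
  haveI := Fact.mk hq
  have hpS := ordSet_closed hmem (dvd_mul_right p q)
  have hBp : (ordCount G q : ZMod p) = 1 := by
    have := cast_sum_pq hp hq hpq hmem (dvd_mul_right p q)
    rw [he, cast_ordCount_prime hp hpS] at this
    linear_combination this
  obtain ⟨P⟩ := (inferInstance : Nonempty (Sylow p G))
  let Q : Subgroup (ConjAct G) := (P : Subgroup G).map ConjAct.toConjAct.toMonoidHom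
  have hQ : IsPGroup p Q := P.2.map _
  let X : SubMulAction Q G :=
    { carrier := {g | orderOf g = q}
      smul_mem' := fun g y hy => by
        show orderOf (g • y) = q
        rw [Subgroup.smul_def, ConjAct.smul_def, ← MulAut.conj_apply, MulEquiv.orderOf_eq]
        exact hy }
  obtain ⟨y, hy⟩ : ∃ y : X, y ∈ MulAction.fixedPoints Q X := by
    by_contra hc
    push Not at hc
    have h0 : Nat.card (MulAction.fixedPoints Q X) = 0 :=
      Nat.card_eq_zero.2 (Or.inl ⟨fun y => hc y.1 y.2⟩)
    have h1 := hQ.card_modEq_card_fixedPoints (α := X)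
    rw [h0, show Nat.card X = ordCount G q from rfl, ← ZMod.natCast_eq_natCast_iff, hBp,
      Nat.cast_zero] at h1
    exact one_ne_zero_zmod hp h1
  have hyc : ∀ a ∈ (P : Subgroup G), Commute a (y : G) := by
    intro a ha
    have h1 := congrArg (fun z : X => (z : G)) (hy ⟨ConjAct.toConjAct a, a, ha, rfl⟩)
    simp only [SubMulAction.val_smul, Subgroup.smul_def, ConjAct.smul_def,
      ConjAct.ofConjAct_toConjAct] at h1
    exact mul_inv_eq_iff_eq_mul.1 h1
  -- every element of order `p` commutes with an element of order `q`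
  have hev : ∀ x : G, orderOf x = p → 2 ≤ Nat.card {z : G // Commute z x ∧ orderOf z = q} := by
    intro x hx
    obtain ⟨R, hR⟩ := (IsPGroup.of_card (n := 1) (show Nat.card (Subgroup.zpowers x) = p ^ 1 by
      rw [Nat.card_zpowers, hx, pow_one])).exists_le_sylow
    obtain ⟨g, hg⟩ := MulAction.exists_smul_eq G P R
    have hxR := hR (Subgroup.mem_zpowers x)
    rw [← hg, Sylow.coe_subgroup_smul, Frobenius.mem_conj_smul] at hxR
    have hz : orderOf (g * (y : G) * g⁻¹) = q := by
      rw [← MulAut.conj_apply, MulEquiv.orderOf_eq]; exact y.2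
    have hc : Commute (g * (y : G) * g⁻¹) x := by
      have := ((hyc _ hxR).symm).map (MulAut.conj g).toMonoidHom
      simpa [mul_assoc] using this
    have hne : g * (y : G) * g⁻¹ ≠ (g * (y : G) * g⁻¹)⁻¹ := by
      intro e
      have h2 : (g * (y : G) * g⁻¹) ^ 2 = 1 := by rw [sq]; conv_lhs => arg 2; rw [e]
                                                  rw [mul_inv_cancel]
      have := Nat.le_of_dvd two_pos (orderOf_dvd_of_pow_eq_one h2)
      rw [hz] at this
      have := three_le_odd_prime hq hq2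
      omega
    haveI : Nontrivial {z : G // Commute z x ∧ orderOf z = q} :=
      ⟨⟨⟨_, hc, hz⟩, ⟨_, hc.inv_left, by rw [orderOf_inv]; exact hz⟩,
        fun e => hne (congrArg Subtype.val e)⟩⟩
    exact Finite.one_lt_card
  have hsplit : ordCount G (p * q) = _ := card_orderOf_split ((Nat.coprime_primes hp hq).2 hpq)
  haveI := Fintype.ofFinite {x : G // orderOf x = p}
  rw [Nat.card_sigma] at hsplit
  have h2 : 2 * ordCount G p ≤ ordCount G (p * q) := by
    rw [hsplit, ordCount, Nat.card_eq_fintype_card, mul_comm, ← smul_eq_mul, ← Finset.card_univ]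
    exact Finset.card_nsmul_le_sum _ _ _ fun x _ => hev x x.2
  have h3 := ordCount_pos hpS
  omega

theorem conj_pow_eq (V : Subgroup G) [V.Normal] [IsMulCommutative V] (v : V) (s : G) (n : ℕ) :
    ((v : G) * s) ^ n =
      (((List.range n).map fun i => (MulAut.conjNormal (s ^ i) : MulAut V) v).prod : V) * s ^ n := by
  induction n with
  | zero => simp
  | succ n ih =>
    rw [pow_succ, ih, List.range_succ, List.map_append, List.prod_append, List.map_singleton,
      List.prod_singleton, Subgroup.coe_mul, MulAut.conjNormal_apply, pow_succ]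
    group

/-- the partition argument -/
theorem no_partition (V : Subgroup G) [V.Normal] [IsMulCommutative V] (hV : V ≠ ⊥) {p q : ℕ}
    (hp : p.Prime) (hq : q.Prime) (hpq : p ≠ q) (hVp : IsPGroup p V) {y s : G}
    (hy : orderOf y = q) (hs : orderOf s = p) (hnorm : s * y * s⁻¹ ∈ Subgroup.zpowers y)
    (hno : p * q ∉ ordSet G) (hnosq : p ^ 2 ∉ ordSet G)
    (hord : ∀ g : G, orderOf g = 1 ∨ orderOf g = p ∨ orderOf g = q) : False := by
  classical
  haveI := Fact.mk hp
  haveI := Fact.mk hq
  letI : CommGroup V := { (inferInstance : Group V) with mul_comm := IsMulCommutative.is_comm.comm }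
  set Z := Subgroup.zpowers y with hZ
  haveI := Fintype.ofFinite Z
  have hVe : ∀ a ∈ V, a = 1 ∨ orderOf a = p := by
    intro a ha
    rcases hord a with h1 | h1 | h1
    · exact Or.inl (orderOf_eq_one_iff.1 h1)
    · exact Or.inr h1
    · exfalso
      obtain ⟨i, hi⟩ := IsPGroup.iff_orderOf.1 hVp ⟨a, ha⟩
      rw [Subgroup.orderOf_mk, h1] at hi
      exact hpq ((Nat.prime_dvd_prime_iff_eq hq hp).1 (hq.dvd_of_dvd_pow hi.dvd)).symm
  have hcy : ∀ z ∈ Z, ∀ b : G, orderOf b = p → Commute z b → z = 1 := by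
    intro z hz b hb hc
    by_contra hz1
    have hzo : orderOf z = q := by
      refine ((Nat.dvd_prime hq).1 ?_).resolve_left (fun e => hz1 (orderOf_eq_one_iff.1 e))
      have h1 := orderOf_dvd_natCard (⟨z, hz⟩ : Z)
      rw [Subgroup.orderOf_mk, hZ, Nat.card_zpowers, hy] at h1
      exact h1
    exact commute_false hp hq hpq hno hb hzo hc.symm
  have hsV : s ∉ V := by
    intro hsV
    have h1 : s * y * s⁻¹ * y⁻¹ ∈ V := by
      rw [mul_assoc, mul_assoc]
      refine V.mul_mem hsV ?_
      rw [← mul_assoc]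
      exact Subgroup.Normal.conj_mem inferInstance _ (V.inv_mem hsV) y
    have h2 : s * y * s⁻¹ * y⁻¹ ∈ Z := Z.mul_mem hnorm (Z.inv_mem (Subgroup.mem_zpowers y))
    have h3 : s * y * s⁻¹ * y⁻¹ = 1 := by
      rcases hVe _ h1 with h | h
      · exact h
      · exact hcy _ h2 _ h (Commute.refl _)
    exact commute_false hp hq hpq hno hs hy (mul_inv_eq_iff_eq_mul.1 (mul_inv_eq_one.1 h3))
  have hnormk : ∀ (i : ℕ) (z : G), z ∈ Z → s ^ i * z * (s ^ i)⁻¹ ∈ Z := by
    intro i
    induction i with
    | zero => intro z hz; simpa using hz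
    | succ i ih =>
      intro z hz
      obtain ⟨k, rfl⟩ := hz
      have h1 : s * y ^ k * s⁻¹ ∈ Z := by rw [← conj_zpow]; exact zpow_mem hnorm k
      have := ih _ h1
      rwa [pow_succ, mul_inv_rev, show s ^ i * s * y ^ k * (s⁻¹ * (s ^ i)⁻¹) =
        s ^ i * (s * y ^ k * s⁻¹) * (s ^ i)⁻¹ by group]
  -- every conjugate of `s` has trivial norm
  have hnorm1 : ∀ (z : Z) (v : V),
      ∏ i ∈ Finset.range p, (MulAut.conjNormal ((z : G) * s ^ i * (z : G)⁻¹) : MulAut V) v = 1 := by
    intro z v
    set s' := (z : G) * s * (z : G)⁻¹ with hs'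
    have hs'o : orderOf s' = p := by rw [hs', ← MulAut.conj_apply, MulEquiv.orderOf_eq, hs]
    have hs'V : s' ∉ V := fun h1 => hsV (by
      have := Subgroup.Normal.conj_mem inferInstance _ h1 (z : G)⁻¹
      simpa [hs', mul_assoc] using this)
    have hpow : ((v : G) * s') ^ p = 1 := by
      rcases hord ((v : G) * s') with h1 | h1 | h1
      · rw [orderOf_eq_one_iff.1 h1, one_pow]
      · rw [← h1, pow_orderOf_eq_one]
      · exfalso
        have hmk : QuotientGroup.mk' V ((v : G) * s') = QuotientGroup.mk' V s' := by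
          rw [map_mul, show QuotientGroup.mk' V (v : G) = 1 from (QuotientGroup.eq_one_iff _).2 v.2,
            one_mul]
        have h2 : orderOf (QuotientGroup.mk' V s') ∣ q := by
          rw [← hmk, ← h1]; exact orderOf_map_dvd _ _
        have h3 : orderOf (QuotientGroup.mk' V s') ∣ p := hs'o ▸ orderOf_map_dvd _ s'
        exact hs'V ((QuotientGroup.eq_one_iff _).1 (orderOf_eq_one_iff.1
          (Nat.eq_one_of_dvd_coprimes ((Nat.coprime_primes hp hq).2 hpq) h3 h2)))
    rw [conj_pow_eq V v s' p, show s' ^ p = 1 from hs'o ▸ pow_orderOf_eq_one s', mul_one,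
      OneMemClass.coe_eq_one] at hpow
    rw [Finset.prod_eq_multiset_prod, Finset.range_val, ← Multiset.coe_range, Multiset.map_coe,
      Multiset.prod_coe]
    rw [← hpow]
    congr 1
    refine List.map_congr_left fun i _ => ?_
    rw [hs', conj_pow]
  obtain ⟨v, hv, hv1⟩ : ∃ v ∈ V, v ≠ 1 := by
    by_contra hc
    push Not at hc
    exact hV ((Subgroup.eq_bot_iff_forall _).2 hc)
  set w : V := ⟨v, hv⟩
  have hall : ∏ z : Z, ∏ i ∈ Finset.range p,
      (MulAut.conjNormal ((z : G) * s ^ i * (z : G)⁻¹) : MulAut V) w = 1 :=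
    Finset.prod_eq_one fun z _ => hnorm1 z w
  rw [Finset.prod_comm, show p = (p - 1) + 1 by have := hp.two_le; omega,
    Finset.prod_range_succ'] at hall
  have hrest : ∀ i ∈ Finset.range (p - 1), ∏ z : Z,
      (MulAut.conjNormal ((z : G) * s ^ (i + 1) * (z : G)⁻¹) : MulAut V) w = 1 := by
    intro i hi
    rw [Finset.mem_range] at hi
    have hso : orderOf (s ^ (i + 1)) = p := by
      rw [orderOf_pow, hs, ((hp.coprime_iff_not_dvd).2 fun hd =>
        absurd (Nat.le_of_dvd (Nat.succ_pos i) hd) (by omega)).gcd_eq_one, Nat.div_one]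
    let φ : Z → Z := fun z => ⟨(z : G) * (s ^ (i + 1) * (z : G)⁻¹ * (s ^ (i + 1))⁻¹),
      Z.mul_mem z.2 (hnormk _ _ (Z.inv_mem z.2))⟩
    have hφ : Function.Injective φ := by
      intro a b hab
      have h1 : (a : G) * (s ^ (i + 1) * (a : G)⁻¹ * (s ^ (i + 1))⁻¹) =
          (b : G) * (s ^ (i + 1) * (b : G)⁻¹ * (s ^ (i + 1))⁻¹) := congrArg Subtype.val hab
      have h2 : Commute ((b : G)⁻¹ * a) (s ^ (i + 1)) := by
        have h3 : (a : G) * s ^ (i + 1) * (a : G)⁻¹ = (b : G) * s ^ (i + 1) * (b : G)⁻¹ := by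
          rw [← mul_assoc, ← mul_assoc, ← mul_assoc, ← mul_assoc] at h1
          exact mul_right_cancel h1
        show (b : G)⁻¹ * a * s ^ (i + 1) = s ^ (i + 1) * ((b : G)⁻¹ * a)
        calc (b : G)⁻¹ * a * s ^ (i + 1) = (b : G)⁻¹ * ((a : G) * s ^ (i + 1) * (a : G)⁻¹) * a := by group
          _ = s ^ (i + 1) * ((b : G)⁻¹ * a) := by rw [h3]; group
      exact Subtype.ext (inv_mul_eq_one.1 (hcy _ (Z.mul_mem (Z.inv_mem b.2) a.2) _ hso h2)).symm
    set w' : V := (MulAut.conjNormal (s ^ (i + 1)) : MulAut V) w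
    have heq : ∀ z : Z, (MulAut.conjNormal ((z : G) * s ^ (i + 1) * (z : G)⁻¹) : MulAut V) w =
        (MulAut.conjNormal (φ z : G) : MulAut V) w' := fun z => by
      show _ = (MulAut.conjNormal (φ z : G) * MulAut.conjNormal (s ^ (i + 1)) : MulAut V) w
      rw [← map_mul]
      simp only [φ]
      congr 2
      group
    rw [Finset.prod_congr rfl fun z _ => heq z,
      (Finite.injective_iff_bijective.1 hφ).prod_comp (fun z : Z => (MulAut.conjNormal (z : G) : MulAut V) w')]
    set u : V := ∏ z : Z, (MulAut.conjNormal (z : G) : MulAut V) w'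
    have hfix : (MulAut.conjNormal y : MulAut V) u = u := by
      rw [map_prod]
      refine Fintype.prod_equiv (Equiv.mulLeft (⟨y, Subgroup.mem_zpowers y⟩ : Z)) _ _ fun z => ?_
      show (MulAut.conjNormal y * MulAut.conjNormal (z : G) : MulAut V) w' = _
      rw [← map_mul]
      rfl
    rcases hVe u u.2 with h1 | h1
    · exact Subtype.ext h1
    · exfalso
      have h2 := congrArg (fun t : V => (t : G)) hfix
      simp only [MulAut.conjNormal_apply] at h2
      exact commute_false hp hq hpq hno h1 hy (mul_inv_eq_iff_eq_mul.1 h2).symm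
  rw [Finset.prod_eq_one hrest, one_mul] at hall
  simp only [pow_zero, mul_one, mul_inv_cancel, map_one, MulAut.one_apply, Finset.prod_const,
    Finset.card_univ, ← Nat.card_eq_fintype_card] at hall
  rw [hZ, Nat.card_zpowers, hy] at hall
  have hwq : orderOf v ∣ q := orderOf_dvd_of_pow_eq_one (congrArg Subtype.val hall)
  rcases hVe v hv with h1 | h1
  · exact hv1 h1
  · rw [h1] at hwq
    exact hpq ((Nat.prime_dvd_prime_iff_eq hp hq).1 hwq)

theorem result {G : Type*} [Group G] [Finite G] (hodd : Odd (Nat.card G)) (h : (((fun m : ℕ => Nat.card {g : G // orderOf g = m}) '' Set.range (orderOf : G → ℕ))).ncard = 3) :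
    (Nat.card G).primeFactors.card ≤ 2 ∧
      ((Nat.card G).primeFactors.card = 2 →
        (∀ (p : ℕ) [Fact p.Prime] (P : Sylow p G), p ∣ Nat.card G → Monoid.exponent ↥(P : Subgroup G) = p) ∧
        ∃ C : Subgroup G, Cfsg.IsFrobeniusComplement C ∧ (Nat.card ↥C).Prime) := by
  classical
  rw [range_image_eq, Set.ncard_coe_finset] at h
  set V := (ordSet G).image (ordCount G) with hV
  have h1V : 1 ∈ V := Finset.mem_image.2 ⟨1, one_mem_ordSet, ordCount_one⟩
  obtain ⟨A, B, -, hAB⟩ := Finset.card_eq_two.1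
    (show (V.erase 1).card = 2 by rw [Finset.card_erase_of_mem h1V, h])
  have hT : TwoVal G A B := by
    intro m hm h3
    have h1 : ordCount G m ∈ V.erase 1 := Finset.mem_erase.2 ⟨fun e => by
      have := even_ordCount (G := G) h3
      omega, Finset.mem_image_of_mem _ hm⟩
    rw [hAB, Finset.mem_insert, Finset.mem_singleton] at h1
    exact h1
  refine ⟨hT.primeFactors_le_two hodd, fun htwo => ?_⟩
  obtain ⟨p, q, hpq, hfac⟩ := Finset.card_eq_two.1 htwo
  have h2G : ¬ 2 ∣ Nat.card G := hodd.not_two_dvd_nat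
  have hpr : ∀ u ∈ ({p, q} : Finset ℕ), u.Prime ∧ u ≠ 2 ∧ u ∈ ordSet G := fun u hu => by
    rw [← hfac] at hu
    have hup := Nat.prime_of_mem_primeFactors hu
    haveI := Fact.mk hup
    refine ⟨hup, fun e => h2G (e ▸ Nat.dvd_of_mem_primeFactors hu), ?_⟩
    obtain ⟨g, hg⟩ := exists_prime_orderOf_dvd_card' (G := G) u (Nat.dvd_of_mem_primeFactors hu)
    exact mem_ordSet.2 ⟨g, hg⟩
  obtain ⟨hp, hp2, hpS⟩ := hpr p (by simp)
  obtain ⟨hq, hq2, hqS⟩ := hpr q (by simp)
  have honly : ∀ u : ℕ, u.Prime → u ∣ Nat.card G → u = p ∨ u = q := fun u hu hud => by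
    have : u ∈ (Nat.card G).primeFactors := Nat.mem_primeFactors.2 ⟨hu, hud, Nat.card_pos.ne'⟩
    rw [hfac] at this
    simpa using this
  have hne : ordCount G p ≠ ordCount G q := by
    intro he
    rcases hT p hpS (three_le_odd_prime hp hp2) with e | e
    · refine hT.odd_not_all_same hodd (fun u hu _ huS => ?_) hp hq hpq hpS hqS
      rcases honly u hu (dvd_card_of_mem_ordSet huS) with rfl | rfl
      exacts [e, he ▸ e]
    · refine hT.symm.odd_not_all_same hodd (fun u hu _ huS => ?_) hp hq hpq hpS hqS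
      rcases honly u hu (dvd_card_of_mem_ordSet huS) with rfl | rfl
      exacts [e, he ▸ e]
  have hvals : ∀ m ∈ ordSet G, 3 ≤ m → ordCount G m = ordCount G p ∨ ordCount G m = ordCount G q := by
    intro m hm h3
    rcases hT p hpS (three_le_odd_prime hp hp2) with a | a <;>
      rcases hT q hqS (three_le_odd_prime hq hq2) with b | b <;>
      rcases hT m hm h3 with c | c <;> omega
  have hno : p * q ∉ ordSet G := by
    intro hmem
    rcases hvals _ hmem ((three_le_odd_prime hp hp2).trans (Nat.le_mul_of_pos_right p hq.pos)) with e | e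
    · exact not_mem_mul hp hq hp2 hq2 hpq hmem e
    · rw [mul_comm] at hmem e
      exact not_mem_mul hq hp hq2 hp2 hpq.symm hmem e
  have hnosq : ∀ u v : ℕ, u.Prime → v.Prime → u ≠ 2 → v ≠ 2 → u ≠ v → u ∈ ordSet G → v ∈ ordSet G →
      u * v ∉ ordSet G →
      (∀ m ∈ ordSet G, 3 ≤ m → ordCount G m = ordCount G u ∨ ordCount G m = ordCount G v) →
      u ^ 2 ∉ ordSet G := by
    intro u v hu hv hu2 hv2 huv huS hvS huvS hval hS
    have h3 : 3 ≤ u ^ 2 := (three_le_odd_prime hu hu2).trans (Nat.le_self_pow two_ne_zero u)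
    have hno' : u ^ 2 * v ∉ ordSet G := fun hm =>
      huvS (ordSet_closed hm (Nat.mul_dvd_mul_right (dvd_pow_self u two_ne_zero) v))
    have hd := prime_dvd_ordCount hv (dvd_card_of_mem_ordSet hvS)
      (fun hd => huv ((Nat.prime_dvd_prime_iff_eq hv hu).1 (hv.dvd_of_dvd_pow hd)).symm) hno'
    rw [← ZMod.natCast_eq_zero_iff] at hd
    rcases hval _ hS h3 with e | e
    · have h1 := cast_sum_divisors_eq_zero hS (dvd_pow_self u two_ne_zero)
      rw [Nat.sum_divisors_prime_pow hu, Finset.sum_range_succ, Finset.sum_range_succ,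
        Finset.sum_range_one, pow_zero, pow_one, ordCount_one, e, Nat.cast_one,
        cast_ordCount_prime hu huS] at h1
      exact one_ne_zero_zmod hu (by linear_combination (-1 : ZMod u) * h1)
    · rw [e, cast_ordCount_prime hv hvS, neg_eq_zero] at hd
      exact one_ne_zero_zmod hv hd
  have hp2' := hnosq p q hp hq hp2 hq2 hpq hpS hqS hno hvals
  have hq2' := hnosq q p hq hp hq2 hp2 hpq.symm hqS hpS (by rwa [mul_comm] at hno)
    (fun m hm h3 => (hvals m hm h3).symm)
  have hord : ∀ g : G, orderOf g = 1 ∨ orderOf g = p ∨ orderOf g = q := by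
    intro g
    have hg : orderOf g ∈ ordSet G := mem_ordSet.2 ⟨g, rfl⟩
    by_contra hc
    push Not at hc
    obtain ⟨u, hu, m, hm⟩ := Nat.exists_prime_and_dvd hc.1
    have hm1 : m ≠ 1 := fun e => by
      rw [e, mul_one] at hm
      rcases honly u hu (hm ▸ orderOf_dvd_natCard g) with rfl | rfl
      exacts [hc.2.1 hm, hc.2.2 hm]
    obtain ⟨v, hv, hvm⟩ := Nat.exists_prime_and_dvd hm1
    have huv : u * v ∈ ordSet G := ordSet_closed hg (hm ▸ Nat.mul_dvd_mul_left u hvm)
    have hd := dvd_card_of_mem_ordSet huv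
    rcases honly u hu ((dvd_mul_right u v).trans hd) with rfl | rfl <;>
      rcases honly v hv ((dvd_mul_left v u).trans hd) with rfl | rfl
    · exact hp2' (by rwa [sq])
    · exact hno huv
    · exact hno (by rwa [mul_comm] at huv)
    · exact hq2' (by rwa [sq])
  refine ⟨fun r hr R hrG => ?_, ?_⟩
  · have hr' := hr.out
    haveI : Nontrivial (R : Subgroup G) := Finite.one_lt_card_iff_nontrivial.1
      (lt_of_lt_of_le hr'.one_lt (Nat.le_of_dvd Nat.card_pos (R.dvd_card_of_dvd_card hrG)))
    refine (Monoid.exponent_eq_prime_iff hr').2 fun g hg => ?_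
    obtain ⟨i, hi⟩ := IsPGroup.iff_orderOf.1 R.2 g
    have h1 := hord g
    rw [Subgroup.orderOf_coe] at h1
    rcases h1 with h1 | h1 | h1
    · exact absurd (orderOf_eq_one_iff.1 h1) hg
    · rw [h1] at hi ⊢
      exact ((Nat.prime_dvd_prime_iff_eq hp hr').1 (hp.dvd_of_dvd_pow hi.dvd))
    · rw [h1] at hi ⊢
      exact ((Nat.prime_dvd_prime_iff_eq hq hr').1 (hq.dvd_of_dvd_pow hi.dvd))
  · -- a minimal normal subgroup
    haveI : Group.IsSolvable G := by
      have hprod := Nat.prod_factorization_pow_eq_self (Nat.card_pos (α := G)).ne'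
      rw [Finsupp.prod, Nat.support_factorization, hfac, Finset.prod_pair hpq] at hprod
      exact S0144.result p q _ _ hp hq hprod.symm
    haveI : Nontrivial G := Finite.one_lt_card_iff_nontrivial.1
      (lt_of_lt_of_le hp.one_lt (Nat.le_of_dvd Nat.card_pos (dvd_card_of_mem_ordSet hpS)))
    obtain ⟨M, r, hMn, hM0, -, hr, hMr, hMc, -, d, hd, hMcard⟩ :=
      Solvable.exists_minimal_normal_elementary G
    have hrG : r ∣ Nat.card G := ((hMcard ▸ dvd_pow_self r hd.ne') : r ∣ Nat.card M).trans
      (Subgroup.card_subgroup_dvd_card M)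
    wlog hrp : r = p generalizing p q
    · exact this q p hpq.symm (by rw [hfac, Finset.pair_comm]) (fun u hu => hpr u (by
        rw [Finset.pair_comm]; exact hu)) hq hq2 hqS hp hp2 hpS (fun u hu hd => (honly u hu hd).symm)
        hne.symm (fun m hm h3 => (hvals m hm h3).symm) (by rwa [mul_comm] at hno) hq2' hp2'
        (fun g => (hord g).imp_right Or.symm) ((honly r hr hrG).resolve_left hrp)
    subst hrp
    haveI := hMn
    haveI := Fact.mk hp
    haveI := Fact.mk hq
    obtain ⟨Q⟩ := (inferInstance : Nonempty (Sylow q G))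
    have hfpf : Frobenius.IsFPF (Q : Subgroup G) M := Frobenius.isFPF_of_normal fun a ha ha1 => by
      rw [Subgroup.eq_bot_iff_forall]
      rintro v ⟨hv, hva⟩
      by_contra hv1
      have hao : orderOf a = q := by
        obtain ⟨i, hi⟩ := IsPGroup.iff_orderOf.1 Q.2 ⟨a, ha⟩
        rw [Subgroup.orderOf_mk] at hi
        rcases hord a with h1 | h1 | h1
        · exact absurd (orderOf_eq_one_iff.1 h1) ha1
        · rw [h1] at hi
          exact absurd ((Nat.prime_dvd_prime_iff_eq hp hq).1 (hp.dvd_of_dvd_pow hi.dvd)) hpq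
        · exact h1
      have hvo : orderOf v = r := by
        obtain ⟨i, hi⟩ := IsPGroup.iff_orderOf.1 hMr ⟨v, hv⟩
        rw [Subgroup.orderOf_mk] at hi
        rcases hord v with h1 | h1 | h1
        · exact absurd (orderOf_eq_one_iff.1 h1) hv1
        · exact h1
        · rw [h1] at hi
          exact absurd ((Nat.prime_dvd_prime_iff_eq hq hp).1 (hq.dvd_of_dvd_pow hi.dvd)).symm hpq
      exact commute_false hp hq hpq hno hvo hao (Subgroup.mem_centralizer_singleton_iff.1 hva)
    have hqQ : q ∣ Nat.card (Q : Subgroup G) :=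
      Q.dvd_card_of_dvd_card (dvd_card_of_mem_ordSet hqS)
    have hQq : Nat.card (Q : Subgroup G) = q := by
      rcases S0016.result (G := (Q : Subgroup G)) q Q.2 (hfpf.eq_of_card_prime hM0 Q.2) with h1 | ⟨h2, -⟩
      · obtain ⟨g, hg⟩ := h1.exists_ofOrder_eq_natCard
        rw [← hg, ← Subgroup.orderOf_coe]
        obtain ⟨i, hi⟩ := IsPGroup.iff_orderOf.1 Q.2 g
        rw [← Subgroup.orderOf_coe] at hi
        rcases hord (g : G) with e | e | e
        · rw [← hg, ← Subgroup.orderOf_coe, e] at hqQ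
          exact absurd (Nat.dvd_one.1 hqQ) hq.ne_one
        · rw [e] at hi
          exact absurd ((Nat.prime_dvd_prime_iff_eq hp hq).1 (hp.dvd_of_dvd_pow hi.dvd)) hpq
        · exact e
      · exact absurd h2 hq2
    obtain ⟨y, hy⟩ := exists_prime_orderOf_dvd_card' (G := (Q : Subgroup G)) q hqQ
    rw [← Subgroup.orderOf_coe] at hy
    have hQy : (Q : Subgroup G) = Subgroup.zpowers (y : G) :=
      (Subgroup.eq_of_le_of_card_ge (Subgroup.zpowers_le.2 y.2) (by rw [hQq, Nat.card_zpowers, hy])).symm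
    set N := Subgroup.normalizer ((Q : Subgroup G) : Set G) with hN
    have hpN : ¬ r ∣ Nat.card N := by
      intro hpN
      obtain ⟨s, hs⟩ := exists_prime_orderOf_dvd_card' (G := N) r hpN
      rw [← Subgroup.orderOf_coe] at hs
      haveI := hMc
      refine no_partition M hM0 hp hq hpq hMr hy hs ?_ hno hp2' hord
      rw [← hQy]
      exact (Subgroup.mem_normalizer_iff.1 s.2 _).1 y.2
    have hNQ : N = (Q : Subgroup G) := by
      refine (Subgroup.eq_of_le_of_card_ge Subgroup.le_normalizer ?_).symm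
      rw [hQq]
      have h1 : Nat.card N = q ^ (Nat.card N).primeFactorsList.length :=
        Nat.eq_prime_pow_of_unique_prime_dvd Nat.card_pos.ne' fun {u} hu hud => by
          rcases honly u hu (hud.trans (Subgroup.card_subgroup_dvd_card _)) with rfl | rfl
          · exact absurd hud hpN
          · rfl
      have h2 : q ^ (Nat.card N).primeFactorsList.length ∣ Nat.card (Q : Subgroup G) :=
        Q.pow_dvd_card_of_pow_dvd_card (h1.symm.dvd.trans (Subgroup.card_subgroup_dvd_card N))
      rw [← h1, hQq] at h2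
      exact Nat.le_of_dvd hq.pos h2
    refine ⟨Q, ⟨?_, ?_, fun g hg => ?_⟩, hQq.symm ▸ hq⟩
    · intro h0
      rw [h0, Subgroup.card_bot] at hQq
      exact hq.ne_one hQq.symm
    · intro h0
      have h1 : Nat.card G = q := by rw [← hQq, h0, Subgroup.card_top]
      have h2 := dvd_card_of_mem_ordSet hpS
      rw [h1] at h2
      exact hpq ((Nat.prime_dvd_prime_iff_eq hp hq).1 h2)
    · by_contra hne'
      apply hg
      rw [← hNQ, hN, Subgroup.mem_normalizer_iff_map_conj_eq]
      have h1 : Nat.card ((Q : Subgroup G) ⊓ MulAut.conj g • (Q : Subgroup G) : Subgroup G) = q := by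
        refine ((Nat.dvd_prime hq).1 ((Subgroup.card_dvd_of_le (inf_le_left : (Q : Subgroup G) ⊓ MulAut.conj g • (Q : Subgroup G) ≤ _)).trans hQq.dvd)).resolve_left
          fun h1 => hne' (Subgroup.card_eq_one.1 h1)
      have h2 : (Q : Subgroup G) ≤ MulAut.conj g • (Q : Subgroup G) := by
        exact (Subgroup.eq_of_le_of_card_ge inf_le_left (by rw [h1, hQq] :
          Nat.card (Q : Subgroup G) ≤ Nat.card ((Q : Subgroup G) ⊓ MulAut.conj g • (Q : Subgroup G) : Subgroup G))).symm.le.trans inf_le_right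
      exact (Subgroup.eq_of_le_of_card_ge h2 (le_of_eq
        (Nat.card_congr (Subgroup.equivSMul (MulAut.conj g) (Q : Subgroup G)).toEquiv).symm)).symm

end Cfsg.Agent.S4004
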