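import Cfsg.Statements.S4005
import Cfsg.Agent.FGS76.SmallOrders

set_option autoImplicit false
set_option linter.style.haveILetI false
open Cfsg
open Cfsg.Agent.FGS76

namespace Cfsg.Agent.S4005

/-- A finite group whose set of element orders is exactly {1, 2, 3} has either a normal elementary abelian 3-subgroup of index 2 or a normal elementary abelian 2-subgroup of index 3. -/
theorem result {G : Type*} [Group G] [Finite G] (h : Set.range (orderOf : G → ℕ) = {k : ℕ | 1 ≤ k ∧ k ≤ 3}) :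
    (∃ N : Subgroup G, N.Normal ∧ Cfsg.IsElementaryAbelian 3 N ∧ N.index = 2) ∨
      (∃ N : Subgroup G, N.Normal ∧ Cfsg.IsElementaryAbelian 2 N ∧ N.index = 3) := by
  haveI := Fact.mk Nat.prime_two
  haveI := Fact.mk Nat.prime_three
  have hle : ∀ g : G, orderOf g ≤ 3 := fun g => by
    have : orderOf g ∈ Set.range (orderOf : G → ℕ) := ⟨g, rfl⟩
    rw [h] at this
    exact this.2
  have hex : ∀ k, 1 ≤ k → k ≤ 3 → k ∣ Nat.card G := fun k h1 h2 => by
    have : k ∈ Set.range (orderOf : G → ℕ) := by rw [h]; exact ⟨h1, h2⟩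
    obtain ⟨g, hg⟩ := this
    exact hg ▸ orderOf_dvd_natCard g
  have hS : SmallOrd G := ⟨fun g => (hle g).trans (by norm_num), hex 2 (by norm_num) (by norm_num),
    hex 3 (by norm_num) le_rfl⟩
  have hno : ∀ g : G, orderOf g ≠ 4 := fun g hg => by have := hle g; omega
  by_cases hT : pCore 3 G = ⊥
  · right
    obtain ⟨-, ⟨hcl, hidx⟩ | ⟨-, -, g, hg⟩⟩ := hS.two_case hT
    · have hexp : ∀ a ∈ pCore 2 G, a ^ 2 = 1 := by
        intro a ha
        obtain ⟨j, hj⟩ := IsPGroup.iff_orderOf.1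
          (Thompson.isPGroup_pCore (p := 2) (G := G)) ⟨a, ha⟩
        rw [Subgroup.orderOf_mk] at hj
        have h1 := hle a
        have hj1 : j ≤ 1 := by
          by_contra hj1
          have : 2 ^ 2 ≤ 2 ^ j := Nat.pow_le_pow_right (by norm_num) (by omega)
          omega
        rw [← orderOf_dvd_iff_pow_eq_one, hj]
        exact (pow_dvd_pow 2 hj1).trans (pow_one 2).dvd
      refine ⟨pCore 2 G, inferInstance, ⟨⟨⟨fun a b => ?_⟩⟩, hexp⟩, hidx⟩
      have hinv : ∀ t : pCore 2 G, t⁻¹ = t := fun t => inv_eq_of_mul_eq_one_right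
        (Subtype.ext (by rw [Subgroup.coe_mul, ← sq]; exact hexp t t.2))
      conv_lhs => rw [← hinv (a * b), mul_inv_rev, hinv, hinv]
    · exact absurd hg (hno g)
  · left
    obtain ⟨hel, P, ⟨e⟩, ⟨hc, hP⟩ | ⟨⟨e'⟩⟩⟩ := hS.three_case hT
    · refine ⟨pCore 3 G, inferInstance, hel, ?_⟩
      rw [Subgroup.index_eq_card, Nat.card_congr e.toEquiv]
      refine hP.resolve_right fun h4 => ?_
      obtain ⟨g, hg⟩ := hc.exists_ofOrder_eq_natCard
      exact hno g (by rw [Subgroup.orderOf_coe, hg, h4])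
    · exact absurd (show orderOf ((e'.symm (QuaternionGroup.xa 0) : P) : G) = 4 by
        rw [Subgroup.orderOf_coe, MulEquiv.orderOf_eq, QuaternionGroup.orderOf_xa]) (hno _)

end Cfsg.Agent.S4005
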