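import Cfsg.Statements.S4006
import Cfsg.Agent.FGS76.SmallOrders

set_option autoImplicit false
set_option linter.style.haveILetI false
open Cfsg
open Cfsg.Agent.FGS76
open scoped commutatorElement

namespace Cfsg.Agent.S4006

/-- A finite group whose set of element orders is exactly {1, 2, 3, 4} has a normal subgroup N such that either N is a 2-group of exponent 4 and nilpotency class at most 2 with G/N of order 3, or N is an elementary abelian 2-group with G/N isomorphic to the symmetric group of degree 3, or N is an elementary abelian 3-group with G/N cyclic of order 4 or quaternion of order 8. -/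
theorem result {G : Type*} [Group G] [Finite G] (h : Set.range (orderOf : G → ℕ) = {k : ℕ | 1 ≤ k ∧ k ≤ 4}) :
    ∃ (N : Subgroup G) (_ : N.Normal),
      (IsPGroup 2 ↥N ∧ Monoid.exponent ↥N = 4 ∧ Group.nilpotencyClass ↥N ≤ 2 ∧ N.index = 3) ∨
      (Cfsg.IsElementaryAbelian 2 N ∧ Nonempty (G ⧸ N ≃* Equiv.Perm (Fin 3))) ∨
      (Cfsg.IsElementaryAbelian 3 N ∧ ((IsCyclic (G ⧸ N) ∧ N.index = 4) ∨ Nonempty (G ⧸ N ≃* QuaternionGroup 2))) := by
  haveI := Fact.mk Nat.prime_two
  haveI := Fact.mk Nat.prime_three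
  have hle : ∀ g : G, orderOf g ≤ 4 := fun g => by
    have : orderOf g ∈ Set.range (orderOf : G → ℕ) := ⟨g, rfl⟩
    rw [h] at this
    exact this.2
  have hex : ∀ k, 1 ≤ k → k ≤ 4 → ∃ g : G, orderOf g = k := fun k h1 h2 => by
    have : k ∈ Set.range (orderOf : G → ℕ) := by rw [h]; exact ⟨h1, h2⟩
    exact this
  have hd : ∀ k, 1 ≤ k → k ≤ 4 → k ∣ Nat.card G := fun k h1 h2 => by
    obtain ⟨g, hg⟩ := hex k h1 h2
    exact hg ▸ orderOf_dvd_natCard g
  have hS : SmallOrd G := ⟨hle, hd 2 (by norm_num) (by norm_num), hd 3 (by norm_num) (by norm_num)⟩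
  by_cases hT : pCore 3 G = ⊥
  · refine ⟨pCore 2 G, inferInstance, ?_⟩
    obtain ⟨-, ⟨hcl, hidx⟩ | ⟨hel, hiso, -⟩⟩ := hS.two_case hT
    · left
      set T := pCore 2 G
      have hTp : IsPGroup 2 T := Thompson.isPGroup_pCore
      haveI := hTp.isNilpotent
      obtain ⟨g, hg⟩ := hex 4 (by norm_num) le_rfl
      have hgT : g ∈ T := by
        rw [← QuotientGroup.eq_one_iff, ← orderOf_eq_one_iff]
        refine Nat.eq_one_of_dvd_coprimes (show Nat.Coprime 4 3 by norm_num)
          (hg ▸ orderOf_map_dvd (QuotientGroup.mk' T) g) ?_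
        rw [← hidx, Subgroup.index_eq_card]
        exact orderOf_dvd_natCard _
      refine ⟨hTp, Nat.dvd_antisymm (Monoid.exponent_dvd_of_forall_pow_eq_one fun a => ?_) ?_, ?_, hidx⟩
      · obtain ⟨j, hj⟩ := IsPGroup.iff_orderOf.1 hTp a
        have h1 : orderOf a ≤ 4 := by rw [← Subgroup.orderOf_coe]; exact hle _
        have hj2 : j ≤ 2 := by
          by_contra hj2
          have : 2 ^ 3 ≤ 2 ^ j := Nat.pow_le_pow_right (by norm_num) (by omega)
          omega
        rw [← orderOf_dvd_iff_pow_eq_one, hj]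
        exact (pow_dvd_pow 2 hj2).trans (by norm_num)
      · have := Monoid.order_dvd_exponent (⟨g, hgT⟩ : T)
        rwa [Subgroup.orderOf_mk, hg] at this
      · rw [← Subgroup.upperCentralSeries_eq_top_iff_nilpotencyClass_le, eq_top_iff]
        intro a _
        rw [Subgroup.mem_upperCentralSeries_succ_iff]
        intro b
        rw [Subgroup.upperCentralSeries_one, Subgroup.mem_center_iff]
        intro c
        exact (hcl a b c).symm
    · exact Or.inr (Or.inl ⟨hel, hiso⟩)
  · refine ⟨pCore 3 G, inferInstance, Or.inr (Or.inr ?_)⟩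
    obtain ⟨hel, P, ⟨e⟩, ⟨hc, hP⟩ | ⟨⟨e'⟩⟩⟩ := hS.three_case hT
    · refine ⟨hel, Or.inl ⟨e.isCyclic.2 hc, ?_⟩⟩
      rw [Subgroup.index_eq_card, Nat.card_congr e.toEquiv]
      refine hP.resolve_left fun h2 => ?_
      obtain ⟨g, hg⟩ := hex 4 (by norm_num) le_rfl
      have h4 : 4 ∣ Nat.card (P : Subgroup G) :=
        P.pow_dvd_card_of_pow_dvd_card (n := 2) (by have := orderOf_dvd_natCard g; rwa [hg] at this)
      rw [h2] at h4
      norm_num at h4
    · exact ⟨hel, Or.inr ⟨e.trans e'⟩⟩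

end Cfsg.Agent.S4006
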