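import Cfsg.Statements.S4009
import Cfsg.Agent.FGS76.MannBound

set_option autoImplicit false
open Cfsg

namespace Cfsg.Agent.S4009

/-- Let P be a finite p-group of order p^n whose derived length is exactly k + 1 (the k-th derived subgroup is nontrivial and the (k+1)-st is trivial). Then n ≥ 2^k + 2k − 2. -/
theorem result {P : Type*} [Group P] [Finite P] (p : ℕ) [Fact p.Prime] (n k : ℕ) (hcard : Nat.card P = p ^ n) (hk : derivedSeries P k ≠ ⊥) (hk' : derivedSeries P (k + 1) = ⊥) : 2 ^ k + 2 * k ≤ n + 2 := by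
  classical
  obtain ⟨e, he, hb⟩ := FGS76.Mann.card_bound (IsPGroup.of_card hcard) k hk
  have h2 := FGS76.Mann.card_exc_le (G := P) k
  have h3 : e + 1 ≤ n := by
    have hpos : 1 < Nat.card (derivedSeries P k) := (Subgroup.one_lt_card_iff_ne_bot _).2 hk
    have h4 : p ^ e < p ^ n := by
      rw [← hcard]
      exact lt_of_lt_of_le (lt_mul_of_one_lt_right (pow_pos (Fact.out : p.Prime).pos e) hpos) he
    have := (Nat.pow_lt_pow_iff_right (Fact.out : p.Prime).one_lt).1 h4
    omega
  omega

end Cfsg.Agent.S4009
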