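import Cfsg.Statements.S4010
import Cfsg.Agent.FGS76.Unipotent

set_option autoImplicit false
open Cfsg

namespace Cfsg.Agent.S4010

/-- Let F be a field, n ≥ 1, and P a finite p-group (p a prime) admitting an injective homomorphism into the general linear group of degree n over F. Then the derived length of P is at most ⌊log₂ n⌋ + 1: that term of the derived series of P is trivial. -/
theorem result {P : Type*} [Group P] [Finite P] (p : ℕ) [Fact p.Prime] (hP : IsPGroup p P) (F : Type*) [Field F] (n : ℕ) (hn : 1 ≤ n) (ρ : P →* Matrix.GeneralLinearGroup (Fin n) F) (hρ : Function.Injective ρ) : derivedSeries P (Nat.log 2 n + 1) = ⊥ := by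
  let θ : GL (Fin n) F →* ((Fin n → F) ≃ₗ[F] (Fin n → F)) :=
    (LinearMap.GeneralLinearGroup.generalLinearEquiv F (Fin n → F)).toMonoidHom.comp
      Matrix.GeneralLinearGroup.toLin.toMonoidHom
  have hθ : Function.Injective θ :=
    (LinearMap.GeneralLinearGroup.generalLinearEquiv F (Fin n → F)).injective.comp
      Matrix.GeneralLinearGroup.toLin.injective
  let f := θ.comp ρ
  have hf : Function.Injective f := hθ.comp hρ
  refine FGS76.DerivedP.derived_eq_bot_of_injective (f := f.rangeRestrict)
    (MonoidHom.rangeRestrict_injective_iff.2 hf) ?_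
  haveI : Finite f.range := Finite.of_surjective _ f.rangeRestrict_surjective
  have hR : IsPGroup p f.range := hP.of_surjective f.rangeRestrict f.rangeRestrict_surjective
  suffices h : ∀ g ∈ derivedSeries f.range (Nat.log 2 n + 1), ∀ v,
      (g : (Fin n → F) ≃ₗ[F] (Fin n → F)) v = v from
    (Subgroup.eq_bot_iff_forall _).2 fun g hg => Subtype.ext (LinearEquiv.ext (h g hg))
  intro g hg
  by_cases hp : (p : F) = 0
  · haveI : CharP F p := by
      obtain ⟨r, hr⟩ := CharP.exists F
      haveI := hr
      rw [CharP.cast_eq_zero_iff F r] at hp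
      rcases (Nat.dvd_prime (Fact.out : p.Prime)).1 hp with h | h
      · exact absurd h (CharP.char_ne_one F r)
      · exact h ▸ hr
    refine FGS76.Unipotent.derived_trivial (p := p) n hR f.range.subtype (Module.finrank_fin_fun F) g
      (derivedSeries_antitone _ ?_ hg)
    exact (Nat.clog_le_iff_le_pow one_lt_two).2 (Nat.lt_pow_succ_log_self one_lt_two n).le
  · refine FGS82.LinDL.main_gen (p := p) hp (e := 1) (fun _ => rfl) (fun _ _ _ _ => one_dvd _) n
      f.range.subtype (Module.finrank_fin_fun F) hR g ?_
    simpa [FGS82.LinDL.L] using hg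

end Cfsg.Agent.S4010
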