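import Cfsg.Statements.S4013
import Cfsg.Agent.FGS76.Basic

set_option autoImplicit false
open Cfsg

namespace Cfsg.Agent.S4013

/-- Let G be a finite p-group (p prime) and N < M normal subgroups of G such that for some g ∈ M ∖ N the conjugacy class of g is exactly M ∖ N. Then p = 2 and N has index 2 in M. -/
theorem result {G : Type*} [Group G] [Finite G] (p : ℕ) [Fact p.Prime] (hG : IsPGroup p G) (N M : Subgroup G) [N.Normal] [M.Normal] (hNM : N < M) (g : G) (hgM : g ∈ M) (hgN : g ∉ N) (hcl : {h : G | IsConj g h} = (M : Set G) \ (N : Set G)) : p = 2 ∧ N.relIndex M = 2 := by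
  have hfin := Set.toFinite (M : Set G)
  have hsub : (N : Set G) ⊆ M := hNM.le
  have h1 : ((M : Set G) \ N).ncard + Nat.card N = Nat.card M := by
    rw [Set.ncard_sdiff hsub (Set.toFinite _)]
    have h2 := Set.ncard_le_ncard hsub hfin
    rw [← Nat.card_coe_set_eq, ← Nat.card_coe_set_eq] at h2 ⊢
    exact Nat.sub_add_cancel h2
  obtain ⟨n, hn⟩ := IsPGroup.iff_card.1 hG
  have hp : p.Prime := Fact.out
  obtain ⟨a, -, ha⟩ : ∃ a ≤ n, ((M : Set G) \ N).ncard = p ^ a := by
    apply (Nat.dvd_prime_pow hp).1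
    rw [← hcl, ← hn]
    have : {h : G | IsConj g h} = (ConjClasses.mk g).carrier := by
      ext h
      rw [ConjClasses.mem_carrier_iff_mk_eq, ConjClasses.mk_eq_mk_iff_isConj]
      exact isConj_comm
    rw [this, FGS76.ncard_carrier]
    exact Subgroup.index_dvd_card _
  obtain ⟨b, -, hb⟩ : ∃ b ≤ n, Nat.card N = p ^ b :=
    (Nat.dvd_prime_pow hp).1 (hn ▸ Subgroup.card_subgroup_dvd_card N)
  obtain ⟨c, -, hc⟩ : ∃ c ≤ n, N.relIndex M = p ^ c := by
    apply (Nat.dvd_prime_pow hp).1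
    rw [← hn]
    exact (Subgroup.index_dvd_card _).trans (Subgroup.card_subgroup_dvd_card M)
  have h2 : Nat.card N * N.relIndex M = Nat.card M := by
    rw [← Subgroup.relIndex_bot_left, ← Subgroup.relIndex_bot_left]
    exact Subgroup.relIndex_mul_relIndex _ _ _ bot_le hNM.le
  have hr : 1 < N.relIndex M := by
    refine lt_of_le_of_ne (Nat.one_le_iff_ne_zero.2 ?_) (fun h => ?_)
    · rw [hc]
      exact pow_ne_zero _ hp.ne_zero
    · exact hNM.not_ge (Subgroup.relIndex_eq_one.1 h.symm)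
  rw [ha, hb, ← h2, hb] at h1
  have hdvd : N.relIndex M - 1 ∣ p ^ a := ⟨p ^ b, by
    rw [Nat.sub_mul, one_mul, mul_comm]
    omega⟩
  obtain ⟨d, -, hd⟩ := (Nat.dvd_prime_pow hp).1 hdvd
  have hc0 : c ≠ 0 := fun h => by rw [hc, h] at hr; simp at hr
  have hd0 : d = 0 := by
    by_contra hd0
    have h3 : p ∣ p ^ c := dvd_pow_self _ hc0
    have h4 : p ∣ p ^ d := dvd_pow_self _ hd0
    rw [← hc] at h3
    rw [← hd] at h4
    have h5 := Nat.dvd_sub h3 h4
    rw [Nat.sub_sub_self hr.le] at h5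
    exact hp.one_lt.ne' (Nat.dvd_one.1 h5)
  rw [hd0, pow_zero] at hd
  have h6 : N.relIndex M = 2 := by omega
  refine ⟨?_, h6⟩
  rw [h6] at hc
  exact (Nat.prime_dvd_prime_iff_eq hp Nat.prime_two).1 (hc ▸ dvd_pow_self _ hc0)

end Cfsg.Agent.S4013
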