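import Cfsg.Statements.S4014
import Cfsg.Agent.FGS76.DerivedPGroup

set_option autoImplicit false
open Cfsg

namespace Cfsg.Agent.S4014

/-- Let p be a prime, n ≥ 1, and P a Sylow p-subgroup of the symmetric group on n letters. Then the derived length of P is exactly k = ⌊log_p n⌋ (the largest k with p^k ≤ n): the k-th derived subgroup of P is trivial and, when k ≥ 1, the (k−1)-st is not. -/
theorem result (p : ℕ) [Fact p.Prime] (n : ℕ) (hn : 1 ≤ n) (P : Sylow p (Equiv.Perm (Fin n))) : derivedSeries ↥(P : Subgroup (Equiv.Perm (Fin n))) (Nat.log p n) = ⊥ ∧ (1 ≤ Nat.log p n → derivedSeries ↥(P : Subgroup (Equiv.Perm (Fin n))) (Nat.log p n - 1) ≠ ⊥) := by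
  have hp : p.Prime := Fact.out
  refine ⟨?_, fun hL hbot => ?_⟩
  · rw [Subgroup.eq_bot_iff_forall]
    intro g hg
    refine Subtype.ext (Equiv.ext fun x => ?_)
    let S := MulAction.stabilizer (↥(P : Subgroup (Equiv.Perm (Fin n)))) x
    have hS : S.index ≤ p ^ Nat.log p n := by
      obtain ⟨m, hm⟩ := P.isPGroup'.index S
      have hle : p ^ m ≤ n := by
        rw [← hm, MulAction.index_stabilizer]
        exact (Nat.card_le_card_of_injective _ Subtype.val_injective).trans (Nat.card_fin n).le
      rw [hm]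
      exact Nat.pow_le_pow_right hp.pos ((Nat.le_log_iff_pow_le hp.one_lt (by omega)).2 hle)
    exact FGS76.DerivedP.derived_le_of_index_le _ P.isPGroup' S hS hg
  · obtain ⟨k, hk⟩ : ∃ k, Nat.log p n = k + 1 := ⟨Nat.log p n - 1, by omega⟩
    rw [hk, Nat.add_sub_cancel] at hbot
    let G := Multiplicative (ZMod p)
    have hG : Nat.card G = p := Nat.card_zmod p
    have hcard : Nat.card (Fin (k + 1) → G) ≤ n := by
      rw [Nat.card_fun, Nat.card_fin, hG]
      exact (Nat.le_log_iff_pow_le hp.one_lt (by omega)).1 hk.ge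
    let e : (Fin (k + 1) → G) ↪ Fin n :=
      (Finite.equivFin _).toEmbedding.trans (Fin.castLEEmb hcard)
    let f : IteratedWreathProduct G (k + 1) →* Equiv.Perm (Fin n) :=
      (Equiv.Perm.viaEmbeddingHom e).comp (iteratedWreathToPermHom G (k + 1))
    have hf : Function.Injective f :=
      (Equiv.Perm.viaEmbeddingHom_injective e).comp (iteratedWreathToPermHomInj G (k + 1))
    have hW : IsPGroup p (IteratedWreathProduct G (k + 1)) :=
      IsPGroup.of_card (n := ∑ i ∈ Finset.range (k + 1), p ^ i)
        (by rw [IteratedWreathProduct.card, hG])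
    obtain ⟨Q, hQ⟩ :=
      (hW.of_surjective f.rangeRestrict f.rangeRestrict_surjective).exists_le_sylow
    refine FGS76.DerivedP.derived_iterated_ne_bot G k
      (FGS76.DerivedP.derived_eq_bot_of_injective
        (f := (Q.equiv P).toMonoidHom.comp ((Subgroup.inclusion hQ).comp f.rangeRestrict)) ?_ hbot)
    exact (Q.equiv P).injective.comp
      ((Subgroup.inclusion_injective hQ).comp (MonoidHom.rangeRestrict_injective_iff.2 hf))

end Cfsg.Agent.S4014
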