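import Cfsg.Statements.S4015
import Cfsg.Agent.FGS76.LinearOdd
import Cfsg.Agent.FGS76.WreathLinear

set_option autoImplicit false
open Cfsg

namespace Cfsg.Agent.S4015

/-- Let p be an odd prime, F a finite field with q elements where p does not divide q, and e the multiplicative order of q modulo p. Let n ≥ e and write w = ⌊n/e⌋ and k = ⌊log_p w⌋. Then a Sylow p-subgroup of GL(n, F) has derived length exactly k + 1: its (k+1)-st derived subgroup is trivial and its k-th is not. -/
theorem result (p : ℕ) [Fact p.Prime] (hp : p ≠ 2) (F : Type*) [Field F] [Fintype F] (q : ℕ) (hq : Fintype.card F = q) (hpq : ¬ p ∣ q) (n : ℕ) (hn : orderOf (q : ZMod p) ≤ n) (P : Sylow p (Matrix.GeneralLinearGroup (Fin n) F)) : derivedSeries ↥(P : Subgroup (Matrix.GeneralLinearGroup (Fin n) F)) (Nat.log p (n / orderOf (q : ZMod p)) + 1) = ⊥ ∧ derivedSeries ↥(P : Subgroup (Matrix.GeneralLinearGroup (Fin n) F)) (Nat.log p (n / orderOf (q : ZMod p))) ≠ ⊥ := by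
  have hpp : p.Prime := Fact.out
  have hpF : (p : F) ≠ 0 := by
    intro h
    obtain ⟨r, hr⟩ := CharP.exists F
    haveI := hr
    obtain ⟨m, hrp, hm⟩ := FiniteField.card F r
    rw [CharP.cast_eq_zero_iff F r] at h
    refine hpq ?_
    rw [← hq, hm, ← (Nat.prime_dvd_prime_iff_eq hrp hpp).1 h]
    exact dvd_pow_self r m.ne_zero
  set e := orderOf (q : ZMod p) with he
  have hqz : (q : ZMod p) ≠ 0 := fun h => hpq ((ZMod.natCast_eq_zero_iff q p).1 h)
  have he0 : 0 < e := IsOfFinOrder.orderOf_pos (isOfFinOrder_iff_pow_eq_one.2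
    ⟨p - 1, by have := hpp.two_le; omega, ZMod.pow_card_sub_one_eq_one hqz⟩)
  let θ : GL (Fin n) F ≃* ((Fin n → F) ≃ₗ[F] (Fin n → F)) :=
    Matrix.GeneralLinearGroup.toLin.trans
      (LinearMap.GeneralLinearGroup.generalLinearEquiv F (Fin n → F))
  constructor
  · have h := FGS76.LinOdd.main (p := p) hpF hp (e := e) (by rw [he, hq]) n
      (θ.toMonoidHom.comp (P : Subgroup (GL (Fin n) F)).subtype) (Module.finrank_fin_fun F) P.isPGroup'
    rw [Subgroup.eq_bot_iff_forall]
    intro g hg
    refine Subtype.ext (θ.injective ?_)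
    rw [Subgroup.coe_one, map_one]
    exact LinearEquiv.ext fun v => h g hg v
  · intro hbot
    -- an element of order `p` in dimension `e`
    have hdvd : p ∣ Nat.card (GL (Fin e) F) := by
      rw [Matrix.card_GL_field, hq]
      refine dvd_trans ?_ (Finset.dvd_prod_of_mem _ (Finset.mem_univ (⟨0, he0⟩ : Fin e)))
      rw [pow_zero, ← ZMod.natCast_eq_zero_iff,
        Nat.cast_sub (Nat.one_le_pow _ _ (hq ▸ Fintype.card_pos)), Nat.cast_pow, Nat.cast_one, he,
        pow_orderOf_eq_one, sub_self]
    obtain ⟨g, hg⟩ := exists_prime_orderOf_dvd_card' p hdvd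
    let G := Multiplicative (ZMod p)
    have hG : Nat.card G = p := Nat.card_zmod p
    let j : G →* GL (Fin e) F := (Subgroup.zpowers g).subtype.comp
      (mulEquivOfPrimeCardEq (p := p) hG (by rw [Nat.card_zpowers, hg])).toMonoidHom
    have hj : Function.Injective j :=
      (Subgroup.subtype_injective _).comp (MulEquiv.injective _)
    let θe : GL (Fin e) F ≃* ((Fin e → F) ≃ₗ[F] (Fin e → F)) :=
      Matrix.GeneralLinearGroup.toLin.trans
        (LinearMap.GeneralLinearGroup.generalLinearEquiv F (Fin e → F))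
    set L := Nat.log p (n / e) with hL
    have hw : 1 ≤ n / e := (Nat.one_le_div_iff he0).2 hn
    obtain ⟨f, hf⟩ := FGS76.WreathLin.exists_iterated G he0 (θe.toMonoidHom.comp j)
      (θe.injective.comp hj) L
    have hle : e * Nat.card G ^ L ≤ n := by
      rw [hG, mul_comm, ← Nat.le_div_iff_mul_le he0, hL]
      exact Nat.pow_log_le_self p (by omega)
    obtain ⟨f', hf'⟩ := FGS76.WreathLin.exists_embedding_of_le hle f hf
    let φ : IteratedWreathProduct G (L + 1) →* GL (Fin n) F := θ.symm.toMonoidHom.comp f'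
    have hφ : Function.Injective φ := θ.symm.injective.comp hf'
    have hW : IsPGroup p (IteratedWreathProduct G (L + 1)) :=
      IsPGroup.of_card (n := ∑ i ∈ Finset.range (L + 1), p ^ i)
        (by rw [IteratedWreathProduct.card, hG])
    obtain ⟨Q, hQ⟩ := (hW.of_surjective φ.rangeRestrict φ.rangeRestrict_surjective).exists_le_sylow
    refine FGS76.DerivedP.derived_iterated_ne_bot G L
      (FGS76.DerivedP.derived_eq_bot_of_injective
        (f := (Q.equiv P).toMonoidHom.comp ((Subgroup.inclusion hQ).comp φ.rangeRestrict)) ?_ hbot)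
    exact (Q.equiv P).injective.comp
      ((Subgroup.inclusion_injective hQ).comp (MonoidHom.rangeRestrict_injective_iff.2 hφ))

end Cfsg.Agent.S4015
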