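import Cfsg.Statements.S4017
import Cfsg.Agent.FGS76.MixCount

set_option autoImplicit false
open Cfsg

namespace Cfsg.Agent.S4017

/-- Let G be a finite group and let p and q be distinct primes dividing the order of G, with p odd. Suppose that p divides the order of every proper subgroup of G that is neither a q-group nor of order prime to q. Let q^a be the q-part of the order of G. If p > q^a − 1, or if p = q^a − 1 and the Sylow p-subgroups of G are abelian, then p and q are the only primes dividing the order of G. -/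
theorem result {G : Type*} [Group G] [Finite G]
    {p q : ℕ} (hp : p.Prime) (hq : q.Prime) (hpq : p ≠ q) (hp2 : p ≠ 2)
    (hpG : p ∣ Nat.card G) (hqG : q ∣ Nat.card G)
    (hmix : ∀ H : Subgroup G, H ≠ ⊤ → ¬ IsPGroup q H → q ∣ Nat.card H → p ∣ Nat.card H)
    (hlarge : q ^ (Nat.card G).factorization q - 1 < p ∨
      (p = q ^ (Nat.card G).factorization q - 1 ∧ ∀ P : Sylow p G, IsMulCommutative P)) :
    ∀ r : ℕ, r.Prime → r ∣ Nat.card G → r = p ∨ r = q := by
  haveI := Fact.mk hp
  haveI := Fact.mk hq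
  have hm : FGS76.Mix.Mix q p G := by
    intro H hqH hpH
    by_contra hg
    exact hpH (hmix H (fun h => hpH (by rw [h, Subgroup.card_top]; exact hpG)) hg hqH)
  set a := (Nat.card G).factorization q with ha
  have hle : ∀ V : Subgroup G, IsPGroup q V → Nat.card V ≤ q ^ a := by
    intro V hV
    obtain ⟨Q, hQ⟩ := hV.exists_le_sylow
    have h := Subgroup.card_le_of_le hQ
    rwa [Q.card_eq_multiplicity] at h
  by_cases hc : FGS76.Mix.Control q p G
  · exact (FGS76.Mix.of_control hm hpq hc hqG).1
  unfold FGS76.Mix.Control at hc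
  push Not at hc
  obtain ⟨V, hV, g, hg, hgp, hgc⟩ := hc
  obtain ⟨m, hm', hpm, -⟩ := FGS76.Mix.act hV hg hgp hgc
  have hma : q ^ m ≤ q ^ a := hm' ▸ hle V hV
  rcases hlarge with h | ⟨h, hab⟩
  · omega
  have hq2 : q = 2 := by
    have hdvd : 2 ∣ q ^ a := by
      have := hp.eq_two_or_odd.resolve_left hp2
      omega
    exact ((Nat.prime_dvd_prime_iff_eq Nat.prime_two hq).1 (Nat.prime_two.dvd_of_dvd_pow hdvd)).symm
  subst hq2
  refine FGS76.Mix.two_primes hp2 _ le_rfl ⟨hm, fun R hR => ?_, fun W hW => ?_⟩ hqG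
  · obtain ⟨P, hP⟩ := hR.exists_le_sylow
    haveI := hab P
    exact ⟨⟨fun x y => Subtype.ext (congrArg (fun t : (P : Subgroup G) => (t : G))
      (mul_comm' (⟨x, hP x.2⟩ : (P : Subgroup G)) ⟨y, hP y.2⟩))⟩⟩
  · have := hle W hW
    omega

end Cfsg.Agent.S4017
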