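import Cfsg.Statements.S4018
import Cfsg.Agent.FGS76.ThreeTICount
import Cfsg.Agent.FGS76.TIBound
import Cfsg.Agent.CharDeep.Expand

set_option autoImplicit false
open Cfsg

namespace Cfsg.Agent.S4018

open scoped ComplexConjugate
open Cfsg.Agent.FGS76

variable {G : Type*} [Group G]

theorem conj_iff [Finite G] (cfg : Config G) (hall : ∀ c ∈ cfg.C, cfg.s * c * cfg.s = c⁻¹)
    (c : G) (hc : c ∈ cfg.C) (hc1 : c ≠ 1) (d : G) (hd : d ∈ cfg.C) :
    IsConj c d ↔ d = c ∨ d = c⁻¹ := by
  have hsi : cfg.s⁻¹ = cfg.s := inv_eq_of_mul_eq_one_right cfg.s_inv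
  constructor
  · intro h
    obtain ⟨g, hg⟩ := isConj_iff.1 h
    have hgN : g ∈ cfg.N := cfg.ti g c hc hc1 (hg ▸ hd)
    by_cases hgC : g ∈ cfg.C
    · left
      rw [← hg, cfg.comm g hgC c hc, mul_inv_cancel_right]
    · right
      have h1 := cfg.nmul g hgN hgC
      have hg' : g = cfg.s * (cfg.s * g) := by rw [← mul_assoc, cfg.s_inv, one_mul]
      rw [← hg, hg', mul_inv_rev, hsi]
      calc cfg.s * (cfg.s * g) * c * ((cfg.s * g)⁻¹ * cfg.s)
          = cfg.s * ((cfg.s * g) * c * (cfg.s * g)⁻¹) * cfg.s := by group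
        _ = cfg.s * c * cfg.s := by rw [cfg.comm _ h1 c hc, mul_inv_cancel_right]
        _ = c⁻¹ := hall c hc
  · rintro (rfl | rfl)
    · exact IsConj.refl _
    · exact isConj_iff.2 ⟨cfg.s, by rw [hsi]; exact hall c hc⟩

open Classical in
theorem card_centralizer [Finite G] (cfg : Config G)
    (hall : ∀ c ∈ cfg.C, cfg.s * c * cfg.s = c⁻¹) (c : G) (hc : c ∈ cfg.C) (hc1 : c ≠ 1) :
    Nat.card (Subgroup.centralizer ({c} : Set G)) = if c = cfg.t then 4 * cfg.q else 2 * cfg.q := by
  split_ifs with h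
  · subst h
    rw [← cfg.hcardN]
    congr 1
    have : Subgroup.centralizer ({cfg.t} : Set G) = cfg.N := by
      ext g
      rw [Subgroup.mem_centralizer_singleton_iff, cfg.centt]
    rw [this]
  · rw [← cfg.hcardC]
    have : Subgroup.centralizer ({c} : Set G) = cfg.C := by
      ext g
      rw [Subgroup.mem_centralizer_singleton_iff]
      refine ⟨fun hg => ?_, fun hg => cfg.comm g hg c hc⟩
      have hgN : g ∈ cfg.N := cfg.ti g c hc hc1 (by rw [hg, mul_inv_cancel_right]; exact hc)
      by_contra hgC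
      have hd := cfg.nmul g hgN hgC
      have h2 : cfg.s * c * cfg.s = c := by
        calc cfg.s * c * cfg.s = cfg.s * ((cfg.s * g) * c * (cfg.s * g)⁻¹) * cfg.s := by
              rw [cfg.comm _ hd c hc, mul_inv_cancel_right]
          _ = (cfg.s * cfg.s) * (g * c * g⁻¹) * (cfg.s⁻¹ * cfg.s) := by group
          _ = c := by rw [cfg.s_inv, inv_mul_cancel, hg, mul_inv_cancel_right, one_mul, mul_one]
      rw [hall c hc] at h2
      rcases cfg.t_uniq c hc (by nth_rewrite 1 [← h2]; exact inv_mul_cancel c) with h' | h'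
      · exact hc1 h'
      · exact h h'
    rw [this]

/-- the large case, by the exceptional characters -/
theorem false_of_large [Finite G] [IsSimpleGroup G] (hna : ¬ ∀ a b : G, a * b = b * a)
    (cfg : Config G) (hall : ∀ c ∈ cfg.C, cfg.s * c * cfg.s = c⁻¹) (hq : 9 ≤ cfg.q)
    (hn : Nat.card {u : G // orderOf u = 2} + 2 * cfg.q = 2 * cfg.q * (2 * cfg.q) + 1) : False := by
  classical
  haveI := Fintype.ofFinite G
  haveI : IsMulCommutative cfg.C :=
    ⟨⟨fun a b => Subtype.ext (cfg.comm a a.2 b b.2)⟩⟩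
  letI : CommGroup cfg.C := { (inferInstance : Group cfg.C) with
    mul_comm := fun a b => Subtype.ext (cfg.comm a a.2 b b.2) }
  haveI := Fintype.ofFinite cfg.C
  set q := cfg.q with hqdef
  have hcard : Fintype.card cfg.C = 2 * q := by rw [← Nat.card_eq_fintype_card, cfg.hcardC]
  let t : cfg.C := ⟨cfg.t, cfg.t_mem⟩
  have hinv : ∀ c : cfg.C, c * c = 1 → c = 1 ∨ c = t := by
    intro c hc
    rcases cfg.t_uniq c c.2 (by simpa using congrArg Subtype.val hc) with h | h
    · exact Or.inl (Subtype.ext h)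
    · exact Or.inr (Subtype.ext h)
  obtain ⟨a, ha1, hqa⟩ := cfg.hq
  have hqodd : Odd q := by rw [hqdef, hqa]; exact (by decide : Odd 3).pow
  have hsq : ∀ c : cfg.C, c ^ q = 1 ∨ c ^ q = t := fun c => hinv _ (by
    rw [← pow_add, ← two_mul, ← hcard]; exact pow_card_eq_one)
  have htq : t ^ q = t := by
    obtain ⟨k, hk⟩ := hqodd
    have : t * t = 1 := Subtype.ext (Config.t_mul_self cfg)
    rw [hk, pow_succ, pow_mul, sq, this, one_pow, one_mul]
  have ht1 : t ≠ 1 := fun h => Config.t_ne_one cfg (congrArg Subtype.val h)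
  -- the sign character
  have htne : (cfg.t : G) ≠ 1 := Config.t_ne_one cfg
  let ε : cfg.C →* ℂˣ :=
    { toFun := fun c => if c ^ q = 1 then 1 else -1
      map_one' := by simp
      map_mul' := fun c d => by
        rw [mul_pow]
        rcases hsq c with hc | hc <;> rcases hsq d with hd | hd <;> simp [hc, hd, ht1]
        exact Subtype.ext (Config.t_mul_self cfg) }
  have hεt : (ε t : ℂ) = -1 := by simp [ε, htq, ht1]
  have hε2 : ε * ε = 1 := by
    ext c
    rcases hsq c with hc | hc <;> simp [ε, hc, ht1]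
  have hεuniq : ∀ l : cfg.C →* ℂˣ, l * l = 1 → l = 1 ∨ l = ε := by
    intro l hl
    have h2 : ∀ c, l c = l (c ^ q) := by
      intro c
      have h := DFunLike.congr_fun hl c
      simp only [MonoidHom.mul_apply, MonoidHom.one_apply] at h
      obtain ⟨k, hk⟩ := hqodd
      rw [map_pow, hk, pow_succ, pow_mul, sq, h, one_pow, one_mul]
    have hlt : l t = 1 ∨ l t = -1 := by
      have h := congrArg Units.val (DFunLike.congr_fun hl t)
      simp only [MonoidHom.mul_apply, Units.val_mul, MonoidHom.one_apply, Units.val_one] at h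
      exact (mul_self_eq_one_iff.1 h).imp (fun h => Units.ext h) (fun h => Units.ext (by simpa using h))
    rcases hlt with h | h
    · left
      refine MonoidHom.ext fun c => ?_
      rw [h2]
      rcases hsq c with hc | hc <;> simp [hc, h]
    · right
      refine MonoidHom.ext fun c => ?_
      rw [h2]
      rcases hsq c with hc | hc <;> simp [ε, hc, h, ht1]
  have hcol : ∀ c d : cfg.C, c ≠ 1 → d ≠ 1 →
      ∑ χ : Cfsg.IrrCharacter G, (χ : G → ℂ) (cfg.C.subtype c) *
        conj ((χ : G → ℂ) (cfg.C.subtype d)) =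
        (2 * q : ℂ) * ((if d = c then 1 else 0) + (if d = c⁻¹ then 1 else 0)) := by
    intro c d hc hd
    have hc' : (c : G) ≠ 1 := fun h => hc (Subtype.ext h)
    rw [CharCore.sum_apply_mul_conj]
    have hiff : IsConj (c : G) d ↔ d = c ∨ d = c⁻¹ := by
      rw [conj_iff cfg hall c c.2 hc' d d.2, Subtype.ext_iff, Subtype.ext_iff, InvMemClass.coe_inv]
    rw [Subgroup.coe_subtype, card_centralizer cfg hall c c.2 hc']
    by_cases hct : (c : G) = cfg.t
    · have hci : c⁻¹ = c := inv_eq_of_mul_eq_one_right (Subtype.ext (by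
        show (c : G) * c = 1
        rw [hct, Config.t_mul_self cfg]))
      rw [if_pos hct, hci]
      by_cases hdc : d = c
      · rw [if_pos (hiff.2 (Or.inl hdc)), if_pos hdc]
        push_cast
        ring
      · rw [if_neg (fun h => hdc ((hiff.1 h).elim id (fun h => hci ▸ h))), if_neg hdc]
        ring
    · have hci : c ≠ c⁻¹ := by
        intro h
        rcases hinv c (by nth_rewrite 2 [h]; exact mul_inv_cancel c) with h' | h'
        · exact hc h'
        · exact hct (congrArg Subtype.val h')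
      rw [if_neg hct]
      by_cases hdc : d = c
      · rw [if_pos (hiff.2 (Or.inl hdc)), if_pos hdc, if_neg (hdc ▸ hci)]
        push_cast
        ring
      by_cases hdi : d = c⁻¹
      · rw [if_pos (hiff.2 (Or.inr hdi)), if_neg hdc, if_pos hdi]
        push_cast
        ring
      · rw [if_neg (fun h => (hiff.1 h).elim hdc hdi), if_neg hdc, if_neg hdi]
        ring
  have hcol1 : ∀ c : cfg.C, c ≠ 1 →
      ∑ χ : Cfsg.IrrCharacter G, (χ : G → ℂ) 1 * (χ : G → ℂ) (cfg.C.subtype c) = 0 := by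
    intro c hc
    rw [CharCore.sum_degree_mul_apply, if_neg]
    exact fun h => hc (Subtype.ext h)
  have hperf : ∀ f : G →* ℂˣ, f = 1 := by
    intro f
    rcases IsSimpleGroup.eq_bot_or_eq_top_of_normal f.ker inferInstance with h | h
    · refine absurd (fun a b => (f.ker_eq_bot_iff).1 h ?_) hna
      rw [map_mul, map_mul, mul_comm]
    · exact MonoidHom.ker_eq_top_iff.1 h
  -- choose y of odd order
  obtain ⟨y, hy3⟩ := exists_prime_orderOf_dvd_card' (G := cfg.C) 3
    (by rw [cfg.hcardC, hqa]; exact (dvd_pow_self 3 (by omega)).trans (dvd_mul_left _ 2))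
  have hy1 : y ≠ 1 := fun h => by rw [h, orderOf_one] at hy3; omega
  have hyq : y ^ q = 1 := by
    rw [← orderOf_dvd_iff_pow_eq_one, hy3, hqdef, hqa]
    exact dvd_pow_self 3 (by omega)
  have hεy : (ε y : ℂ) = 1 := by simp [ε, hyq]
  have hbound := ti_bound cfg.C.subtype q hq hcard t hinv ε hε2 hεt hεuniq (fun c d hc hd => by convert hcol c d hc hd) hcol1 hperf y hεy hy1
  simp only [Subgroup.coe_subtype] at hbound
  -- the class multiplication coefficient
  set n := Nat.card {u : G // orderOf u = 2} with hndef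
  have hIconj : ∀ u : G, IsConj cfg.t u ↔ orderOf u = 2 := by
    intro u
    refine ⟨fun h => ?_, fun h => cfg.fused _ _ cfg.t_inv h⟩
    obtain ⟨g, hg⟩ := isConj_iff.1 h
    rw [← hg, ← MulAut.conj_apply, MulEquiv.orderOf_eq, cfg.t_inv]
  have hclass : Nat.card {u : G // IsConj cfg.t u} = n :=
    Nat.card_congr (Equiv.subtypeEquivRight hIconj)
  have hyCm : (y : G) ∈ cfg.Cm := ⟨y.2, hall y y.2⟩
  have hCm : Nat.card cfg.Cm = 2 * q := by
    rw [hqdef, ← cfg.hcardC]
    exact Nat.card_congr (Equiv.subtypeEquivRight fun c => ⟨fun h => h.1, fun h => ⟨h, hall c h⟩⟩)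
  have hpairs : Nat.card {p : G × G // IsConj cfg.t p.1 ∧ IsConj cfg.t p.2 ∧ p.1 * p.2 = y} =
      2 * q := by
    rw [← hCm, ← cfg.invPairs_eq hyCm (fun h => hy1 (Subtype.ext h))]
    refine Nat.card_congr
      { toFun := fun p => ⟨p.1.1, (hIconj _).1 p.2.1, ?_⟩
        invFun := fun u => ⟨(u.1, u.1 * y), (hIconj _).2 u.2.1, (hIconj _).2 u.2.2, ?_⟩
        left_inv := ?_
        right_inv := fun u => rfl }
    · have h1 := (FGS76.orderOf_two_iff.1 ((hIconj _).1 p.2.1)).1
      have h2 : p.1.1 * (y : G) = p.1.2 := by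
        calc p.1.1 * (y : G) = p.1.1 * (p.1.1 * p.1.2) := by rw [p.2.2.2]
          _ = p.1.2 := by rw [← mul_assoc, h1, one_mul]
      rw [h2]
      exact (hIconj _).1 p.2.2.1
    · rw [← mul_assoc, (FGS76.orderOf_two_iff.1 u.2.1).1, one_mul]
    · rintro ⟨⟨u, v⟩, h1, h2, h3⟩
      have h4 := (FGS76.orderOf_two_iff.1 ((hIconj _).1 h1)).1
      simp only [Subtype.mk.injEq, Prod.mk.injEq, true_and]
      rw [← h3, ← mul_assoc, h4, one_mul]
  have hformula := CharDeep.classFun_eq_sum (BlocksCore.isClassFunction_conv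
    (BlocksCore.isClassFunction_classInd cfg.t) (BlocksCore.isClassFunction_classInd cfg.t)) (y : G)
  rw [CharDeep.conv_classInd_apply, hpairs] at hformula
  simp only [CharDeep.sum_conv_mul, hclass] at hformula
  have hreal : ∀ χ : Cfsg.IrrCharacter G, conj ((χ : G → ℂ) y) = (χ : G → ℂ) y := by
    intro χ
    rw [← CharCore.irr_apply_inv, ← hall y y.2]
    nth_rewrite 2 [← inv_eq_of_mul_eq_one_right cfg.s_inv]
    exact CharCore.irr_isClassFunction χ _ _
  simp only [hreal] at hformula
  set Sum := ∑ χ : Cfsg.IrrCharacter G,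
    (χ : G → ℂ) cfg.t ^ 2 * (χ : G → ℂ) y / (χ : G → ℂ) 1 with hSum
  have hG : (Nat.card G : ℂ) = (n : ℂ) * (4 * q) := by
    rw [hndef, hqdef]
    exact_mod_cast (Config.card_involutions cfg).symm
  have hn0 : (n : ℂ) ≠ 0 := by
    have : 0 < n := Finite.card_pos_iff.2 ⟨⟨cfg.t, cfg.t_inv⟩⟩
    exact_mod_cast this.ne'
  have hq0 : (q : ℂ) ≠ 0 := Nat.cast_ne_zero.2 (by omega)
  have hval : Sum = (8 * q ^ 2 : ℂ) / n := by
    have h1 : (2 * q : ℂ) = (n : ℂ) ^ 2 / (Nat.card G : ℂ) * Sum := by
      push_cast at hformula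
      rw [hformula, hSum, Finset.mul_sum]
      refine Finset.sum_congr rfl fun χ _ => ?_
      ring
    rw [hG] at h1
    rw [eq_div_iff hn0]
    field_simp at h1
    linear_combination -(1 : ℂ) * h1
  -- contradiction
  have hre : ((8 * q ^ 2 : ℝ) / n - 1) = (Sum - 1).re := by
    rw [hval, Complex.sub_re, Complex.one_re]
    congr 1
    rw [show ((8 * q ^ 2 : ℂ) / n) = (((8 * q ^ 2 : ℝ) / n : ℝ) : ℂ) by push_cast; rfl,
      Complex.ofReal_re]
  have hle := Complex.re_le_norm (Sum - 1)
  have hnR : (n : ℝ) + 2 * q = 2 * q * (2 * q) + 1 := by exact_mod_cast hn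
  have hq9 : (9 : ℝ) ≤ q := by exact_mod_cast hq
  have hn0R : (0 : ℝ) < n := by nlinarith
  have h2 : (2 : ℝ) ≤ (8 * q ^ 2 : ℝ) / n := by
    rw [le_div_iff₀ hn0R]
    nlinarith
  linarith


/-- Let G be a finite group with an abelian Sylow 3-subgroup P such that the normalizer of P has order 4·#P, the centralizer C of P has order 2·#P, C meets each of its conjugates by elements outside its normalizer trivially, and every proper subgroup of G of even order has order dividing 4·#P. Then G is not simple. -/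
theorem result {G : Type*} [Group G] [Finite G]
    (P : Sylow 3 G) (hab : IsMulCommutative P)
    (hN : Nat.card (Subgroup.normalizer ((P : Subgroup G) : Set G)) = 4 * Nat.card P)
    (hC : Nat.card (Subgroup.centralizer (P : Set G)) = 2 * Nat.card P)
    (hTI : Cfsg.IsTISubset (Subgroup.centralizer (P : Set G) : Set G))
    (heven : ∀ H : Subgroup G, H ≠ ⊤ → 2 ∣ Nat.card H → Nat.card H ∣ 4 * Nat.card P) :
    ¬ IsSimpleGroup G := by
  intro hsimple
  obtain ⟨⟨S, hS⟩, hna, cfg, hqP, heven', h3P, h3N⟩ :=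
    FGS76.exists_config P hab hN hC hTI heven
  obtain ⟨hsq, -⟩ := FGS76.involutions_of_sylow_four hna S hS
  have hcount := cfg.count_eq hna heven' h3P h3N hsq
  have hord := Config.card_involutions cfg
  obtain ⟨a, ha1, hqa⟩ := cfg.hq
  have hq3 : 3 ≤ cfg.q := hqa ▸ Nat.le_self_pow (by omega) 3
  rcases cfg.all_inverted hcount with h3 | hall
  · -- index three
    rw [h3] at hord
    have hidx : cfg.N.index = 3 := by
      have h1 := Subgroup.card_mul_index cfg.N
      rw [cfg.hcardN, ← hord, mul_comm 3] at h1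
      exact Nat.eq_of_mul_eq_mul_left (by omega) h1
    have hcore : cfg.N.normalCore = ⊥ := by
      refine (IsSimpleGroup.eq_bot_or_eq_top_of_normal _ cfg.N.normalCore_normal).resolve_right
        fun h => ?_
      have h1 : cfg.N = ⊤ := top_le_iff.1 (h ▸ cfg.N.normalCore_le)
      rw [h1, Subgroup.index_top] at hidx
      omega
    have hinj : Function.Injective (MulAction.toPermHom G (G ⧸ cfg.N)) := by
      rw [← MonoidHom.ker_eq_bot_iff, ← Subgroup.normalCore_eq_ker, hcore]
    have h2 := Nat.card_le_card_of_injective _ hinj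
    rw [Nat.card_perm, ← Subgroup.index_eq_card, hidx, ← hord] at h2
    simp [Nat.factorial] at h2
    omega
  have hCm : Nat.card cfg.Cm = 2 * cfg.q := by
    rw [← cfg.hcardC]
    exact Nat.card_congr (Equiv.subtypeEquivRight fun c => ⟨fun h => h.1, fun h => ⟨h, hall c h⟩⟩)
  rw [hCm] at hcount
  by_cases hq9 : 9 ≤ cfg.q
  · exact false_of_large hna cfg hall hq9 hcount
  -- order 372
  have hq : cfg.q = 3 := by
    rcases Nat.lt_or_ge a 2 with h | h
    · rw [hqa, show a = 1 by omega, pow_one]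
    · exact absurd (hqa ▸ (Nat.pow_le_pow_right (by norm_num : 0 < 3) h : 3 ^ 2 ≤ 3 ^ a)) hq9
  rw [hq] at hcount hord
  have hn31 : Nat.card {u : G // orderOf u = 2} = 31 := by omega
  rw [hn31] at hord
  haveI : Fact (Nat.Prime 31) := ⟨by norm_num⟩
  obtain ⟨R⟩ := (inferInstance : Nonempty (Sylow 31 G))
  have h31 : 31 ^ 1 ∣ Nat.card G := by rw [← hord]; norm_num
  have hRne : (R : Subgroup G) ≠ ⊥ := by
    intro h
    apply R.not_dvd_index
    rw [h, Subgroup.index_bot, ← hord]
    norm_num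
  have hRi : 31 ∣ Nat.card (R : Subgroup G) := by
    obtain ⟨k, hk⟩ := IsPGroup.iff_card.1 R.isPGroup'
    rw [hk]
    refine dvd_pow_self 31 fun h => hRne (Subgroup.eq_bot_of_card_eq _ ?_)
    rw [hk, h, pow_zero]
  have h1 : (R : Subgroup G).index ∣ 12 := by
    obtain ⟨c, hc⟩ := hRi
    have h2 := Subgroup.card_mul_index (R : Subgroup G)
    rw [hc, ← hord, mul_assoc] at h2
    have h3 : c * (R : Subgroup G).index = 12 := by omega
    exact ⟨c, by rw [← h3, mul_comm]⟩
  have hnR : Nat.card (Sylow 31 G) = 1 := by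
    have h2 := (Sylow.card_dvd_index R).trans h1
    have h3 := Nat.le_of_dvd (by norm_num) h2
    have h4 := card_sylow_modEq_one 31 G
    rw [Nat.ModEq, Nat.mod_eq_of_lt (by omega)] at h4
    simpa using h4
  haveI : Subsingleton (Sylow 31 G) := (Nat.card_eq_one_iff_unique.1 hnR).1
  rcases IsSimpleGroup.eq_bot_or_eq_top_of_normal _ R.normal_of_subsingleton with h | h
  · exact hRne h
  · have hp : IsPGroup 31 (⊤ : Subgroup G) := h ▸ R.isPGroup'
    obtain ⟨k, hk⟩ := IsPGroup.iff_card.1 hp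
    rw [Subgroup.card_top, ← hord] at hk
    have : 2 ∣ 31 ^ k := hk ▸ (by norm_num)
    exact absurd (Nat.prime_two.dvd_of_dvd_pow this) (by norm_num)

end Cfsg.Agent.S4018
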