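import Cfsg.Statements.S4023
import Cfsg.Agent.FGS76.SameOrderConj

set_option autoImplicit false
open Cfsg

namespace Cfsg.Agent.S4023

/-- Let p be a prime and G a finite group in which any two p-subgroups of the same order are conjugate, with Sylow p-subgroup P. Then P is cyclic, or elementary abelian, or p = 2 and P is a quaternion group of order 8, or p is odd and P is non-abelian of order p³ and exponent p. -/
theorem result {G : Type*} [Group G] [Finite G]
    {p : ℕ} [Fact p.Prime] (hC : ∀ H K : Subgroup G, IsPGroup p H → IsPGroup p K → Nat.card H = Nat.card K →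
      ∃ g : G, K = H.map (MulAut.conj g).toMonoidHom) (P : Sylow p G) :
    IsCyclic P ∨ Cfsg.IsElementaryAbelian p (P : Subgroup G) ∨
      (p = 2 ∧ Nonempty ((P : Subgroup G) ≃* QuaternionGroup 2)) ∨
      (p ≠ 2 ∧ ¬ IsMulCommutative P ∧ Nat.card P = p ^ 3 ∧ Monoid.exponent P = p) := by
  have hI := FGS76.SameOrder.isoOrder_sylow hC P
  rcases FGS76.SameOrder.cases_exponent P.isPGroup' hI with hexp | h | ⟨h2, n, ⟨e⟩⟩
  · by_cases hab : IsMulCommutative P
    · exact Or.inr (Or.inl ⟨hab, fun a ha => congrArg Subtype.val (hexp ⟨a, ha⟩)⟩)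
    · have hp2 : p ≠ 2 := by
        intro h2
        subst h2
        refine hab ⟨⟨fun a b => ?_⟩⟩
        have hinv : ∀ x : (P : Subgroup G), x⁻¹ = x := fun x =>
          inv_eq_of_mul_eq_one_right (by rw [← sq]; exact hexp x)
        calc a * b = (a * b)⁻¹ := (hinv _).symm
          _ = b * a := by rw [mul_inv_rev, hinv, hinv]
      refine Or.inr (Or.inr (Or.inr ⟨hp2, hab,
        (FGS76.SameOrder.comm_or_cube P.isPGroup' hI hexp).resolve_left hab, ?_⟩))
      rcases (Nat.dvd_prime Fact.out).1 (Monoid.exponent_dvd_of_forall_pow_eq_one hexp) with h | h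
      · haveI := Monoid.exp_eq_one_iff.1 h
        exact absurd ⟨⟨fun a b => Subsingleton.elim _ _⟩⟩ hab
      · exact h
  · exact Or.inl h
  · have hn := FGS76.SameOrder.quaternion_eight hI e
    subst hn
    exact Or.inr (Or.inr (Or.inl ⟨h2, ⟨e⟩⟩))

end Cfsg.Agent.S4023
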