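import Cfsg.Statements.S4024
import Cfsg.Agent.FGS76.SameOrderConj
import Cfsg.Agent.Lib.Thompson.PSolvable

set_option autoImplicit false
open Cfsg

namespace Cfsg.Agent.S4024

/-- Let p be an odd prime and G a finite group in which any two p-subgroups of the same order are conjugate, with Sylow p-subgroup P. If H is a normal p-solvable subgroup of G whose order is divisible by p, then P is abelian, and either P ≤ H or P is cyclic. -/
theorem result {G : Type*} [Group G] [Finite G]
    {p : ℕ} [Fact p.Prime] (hp : p ≠ 2) (hC : ∀ H K : Subgroup G, IsPGroup p H → IsPGroup p K → Nat.card H = Nat.card K →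
      ∃ g : G, K = H.map (MulAut.conj g).toMonoidHom) (P : Sylow p G)
    (H : Subgroup G) [H.Normal] (hsolv : Cfsg.IsPSolvable p H) (hdiv : p ∣ Nat.card H) :
    IsMulCommutative P ∧ ((P : Subgroup G) ≤ H ∨ IsCyclic P) := by
  have hP := P.isPGroup'
  rcases FGS76.SameOrder.cases_exponent hP (FGS76.SameOrder.isoOrder_sylow hC P) with hexp | h | ⟨h2, -⟩
  swap
  · exact ⟨IsCyclic.isMulCommutative, Or.inr h⟩
  swap
  · exact absurd h2 hp
  have hord : ∀ (N : Subgroup G) [N.Normal], p ∣ Nat.card N → (P : Subgroup G) ≤ N := by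
    intro N hN hd x hx
    by_cases hx1 : x = 1
    · exact hx1 ▸ N.one_mem
    obtain ⟨m, hm⟩ := exists_prime_orderOf_dvd_card' (G := N) p hd
    have hxo : orderOf x = p := orderOf_eq_prime
      (congrArg Subtype.val (hexp ⟨x, hx⟩)) hx1
    have hmo : orderOf (m : G) = p := by rw [Subgroup.orderOf_coe, hm]
    have hpg : ∀ y : G, orderOf y = p → IsPGroup p (Subgroup.zpowers y) := fun y hy =>
      IsPGroup.of_card (n := 1) (by rw [Nat.card_zpowers, hy, pow_one])
    obtain ⟨g, hg⟩ := hC _ _ (hpg _ hmo) (hpg _ hxo) (by rw [Nat.card_zpowers, Nat.card_zpowers, hmo, hxo])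
    have hmem : x ∈ (Subgroup.zpowers (m : G)).map (MulAut.conj g).toMonoidHom :=
      hg ▸ Subgroup.mem_zpowers x
    obtain ⟨y, hy, rfl⟩ := hmem
    exact hN.conj_mem y (Subgroup.zpowers_le.2 m.2 hy) g
  refine ⟨?_, Or.inl (hord H hdiv)⟩
  haveI hKn : (pPrimeCore p G).Normal := Thompson.sSup_normal fun N hN => hN.1
  set K := pPrimeCore p G
  let π := QuotientGroup.mk' K
  have hπ : Function.Surjective π := QuotientGroup.mk'_surjective K
  haveI : (H.map π).Normal := Subgroup.Normal.map inferInstance π hπ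
  haveI : Nontrivial (H.map π) := by
    rw [Subgroup.nontrivial_iff_ne_bot, Ne, Subgroup.map_eq_bot_iff, QuotientGroup.ker_mk']
    intro hle
    exact (Nat.Prime.coprime_iff_not_dvd Fact.out).1 Thompson.card_pPrimeCore_coprime.symm
      (hdiv.trans (Subgroup.card_dvd_of_le hle))
  have hcore : pCore p (G ⧸ K) ≠ ⊥ := by
    intro hb
    rcases Thompson.pCore_ne_bot_or_pPrimeCore_ne_bot
      (Thompson.isPSolvable_of_surjective (π.subgroupMap H) (π.subgroupMap_surjective H) hsolv) with h | h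
    · apply h
      have h1 := Thompson.map_pCore_normal_le (p := p) (H.map π)
      rw [hb, le_bot_iff, Subgroup.map_eq_bot_iff_of_injective _ (Subgroup.subtype_injective _)] at h1
      exact h1
    · apply h
      have h1 := Thompson.map_pPrimeCore_normal_le (p := p) (H.map π)
      rw [Thompson.pPrimeCore_quotient_pPrimeCore, le_bot_iff,
        Subgroup.map_eq_bot_iff_of_injective _ (Subgroup.subtype_injective _)] at h1
      exact h1
  haveI : (pCore p (G ⧸ K)).Normal := Thompson.sSup_normal fun N hN => hN.1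
  have hdvd : p ∣ Nat.card ((pCore p (G ⧸ K)).comap π) := by
    haveI : Nontrivial (pCore p (G ⧸ K)) := (Subgroup.nontrivial_iff_ne_bot _).2 hcore
    obtain ⟨n, hn0, hn⟩ := (Thompson.isPGroup_pCore (p := p)).nontrivial_iff_card.1
      (inferInstance : Nontrivial (pCore p (G ⧸ K)))
    have h1 : Nat.card (pCore p (G ⧸ K)) ∣ Nat.card ((pCore p (G ⧸ K)).comap π) := by
      conv_lhs => rw [← Subgroup.map_comap_eq_self_of_surjective hπ (pCore p (G ⧸ K))]
      exact Subgroup.card_map_dvd _ _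
    exact (hn ▸ dvd_pow_self p hn0.ne').trans h1
  have hPL : (P : Subgroup G).map π = pCore p (G ⧸ K) := by
    refine le_antisymm ?_ ?_
    · rw [Subgroup.map_le_iff_le_comap]
      exact hord _ hdvd
    · have h1 := Thompson.pCore_le_sylow (p := p) (P.mapSurjective hπ)
      rwa [Sylow.coe_mapSurjective] at h1
  haveI hPn : ((P : Subgroup G).map π).Normal := hPL ▸ (inferInstance : (pCore p (G ⧸ K)).Normal)
  rcases subsingleton_or_nontrivial ↥(P : Subgroup G) with h | h
  · exact ⟨⟨fun a b => Subsingleton.elim _ _⟩⟩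
  haveI := hP.center_nontrivial
  obtain ⟨⟨z, hzc⟩, hz1⟩ := exists_ne (1 : Subgroup.center (P : Subgroup G))
  have hz1' : (z : G) ≠ 1 := fun h => hz1 (Subtype.ext (Subtype.ext h))
  refine ⟨⟨fun a b => ?_⟩⟩
  by_cases ha1 : (a : G) = 1
  · have : a = 1 := Subtype.ext ha1
    rw [this, one_mul, mul_one]
  have hpg : ∀ y : (P : Subgroup G), (y : G) ≠ 1 → orderOf (y : G) = p := fun y hy =>
    orderOf_eq_prime (congrArg Subtype.val (hexp y)) hy
  have hpz : ∀ y : G, orderOf y = p → IsPGroup p (Subgroup.zpowers y) := fun y hy =>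
    IsPGroup.of_card (n := 1) (by rw [Nat.card_zpowers, hy, pow_one])
  obtain ⟨g, hg⟩ := hC _ _ (hpz _ (hpg z hz1')) (hpz _ (hpg a ha1))
    (by rw [Nat.card_zpowers, Nat.card_zpowers, hpg z hz1', hpg a ha1])
  have hmem : (a : G) ∈ (Subgroup.zpowers (z : G)).map (MulAut.conj g).toMonoidHom :=
    hg ▸ Subgroup.mem_zpowers (a : G)
  obtain ⟨y, hy, hya⟩ := hmem
  obtain ⟨i, rfl⟩ := Subgroup.mem_zpowers_iff.1 hy
  have hzy : ∀ u ∈ (P : Subgroup G).map π, u * π ((z : G) ^ i) = π ((z : G) ^ i) * u := by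
    rintro _ ⟨v, hv, rfl⟩
    rw [← map_mul, ← map_mul]
    exact congrArg π (congrArg Subtype.val
      (Subgroup.mem_center_iff.1 (zpow_mem hzc i) ⟨v, hv⟩))
  have hb' : (π g)⁻¹ * π (b : G) * π g ∈ (P : Subgroup G).map π := by
    simpa using hPn.conj_mem _ (Subgroup.mem_map_of_mem π b.2) (π g)⁻¹
  have hcm : π (a : G) * π (b : G) = π (b : G) * π (a : G) := by
    have e := hzy _ hb'
    rw [show (a : G) = g * (z : G) ^ i * g⁻¹ from hya.symm, map_mul, map_mul, map_inv]
    calc π g * π ((z : G) ^ i) * (π g)⁻¹ * π (b : G)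
        = π g * (π ((z : G) ^ i) * ((π g)⁻¹ * π (b : G) * π g)) * (π g)⁻¹ := by group
      _ = π g * (((π g)⁻¹ * π (b : G) * π g) * π ((z : G) ^ i)) * (π g)⁻¹ := by rw [e]
      _ = π (b : G) * (π g * π ((z : G) ^ i) * (π g)⁻¹) := by group
  have hK : ((a * b) * (b * a)⁻¹ : (P : Subgroup G)).1 ∈ K ⊓ (P : Subgroup G) := by
    refine ⟨?_, SetLike.coe_mem _⟩
    show (a : G) * b * ((b : G) * a)⁻¹ ∈ K
    rw [← QuotientGroup.eq_one_iff]
    show π ((a : G) * b * ((b : G) * a)⁻¹) = 1
    rw [map_mul, map_inv, map_mul, map_mul, hcm, mul_inv_cancel]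
  have hdisj : K ⊓ (P : Subgroup G) = ⊥ := by
    refine Subgroup.inf_eq_bot_of_coprime ?_
    obtain ⟨n, hn⟩ := IsPGroup.iff_card.1 hP
    rw [hn]
    exact Thompson.card_pPrimeCore_coprime.pow_right n
  rw [hdisj, Subgroup.mem_bot] at hK
  exact mul_inv_eq_one.1 (Subtype.ext hK)

end Cfsg.Agent.S4024
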