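import Cfsg.Statements.S4025
import Cfsg.Agent.FGS76.NormalizerAffine

set_option autoImplicit false
open Cfsg

namespace Cfsg.Agent.S4025

/-- Let p be a prime and G a finite group in which any two p-subgroups of the same order are conjugate, and suppose a Sylow p-subgroup P of G is elementary abelian of order pⁿ with n ≥ 3. Let N be the normalizer of P and K the largest normal subgroup of N of order prime to p, and assume N/K is solvable. Then either n = 3 and N/K embeds in the one-dimensional semi-affine group over the field with p³ elements (and for p = 2 it is isomorphic to the affine or the semi-affine group over the field with 8 elements), or n = 5, p = 2 and N/K is isomorphic to the one-dimensional semi-affine group over the field with 32 elements. -/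
theorem result {G : Type*} [Group G] [Finite G]
    {p : ℕ} [Fact p.Prime] (hC : ∀ H K : Subgroup G, IsPGroup p H → IsPGroup p K → Nat.card H = Nat.card K →
      ∃ g : G, K = H.map (MulAut.conj g).toMonoidHom) (P : Sylow p G) (n : ℕ) (hn : 3 ≤ n)
    (hel : Cfsg.IsElementaryAbelian p (P : Subgroup G)) (hcard : Nat.card P = p ^ n)
    (N : Subgroup G) (hN : N = Subgroup.normalizer ((P : Subgroup G) : Set G))
    (hsolv : Group.IsSolvable (↥N ⧸ Cfsg.pPrimeCore p ↥N)) :
    (n = 3 ∧ (∃ f : ↥N ⧸ Cfsg.pPrimeCore p ↥N →* ↥(Cfsg.semiaffineGroup (GaloisField p 3)), Function.Injective f) ∧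
      (p = 2 → Nonempty (↥N ⧸ Cfsg.pPrimeCore p ↥N ≃* Cfsg.semiaffineGroup (GaloisField 2 3)) ∨
               Nonempty (↥N ⧸ Cfsg.pPrimeCore p ↥N ≃* Cfsg.affineGroup (GaloisField 2 3)))) ∨
    (n = 5 ∧ p = 2 ∧ Nonempty (↥N ⧸ Cfsg.pPrimeCore p ↥N ≃* Cfsg.semiaffineGroup (GaloisField 2 5))) := by
  classical
  subst hN
  have hc : ∀ x ∈ (P : Subgroup G), ∀ y ∈ (P : Subgroup G), x * y = y * x := fun x hx y hy => by
    haveI := hel.1
    exact congrArg Subtype.val (IsMulCommutative.is_comm.comm (⟨x, hx⟩ : (P : Subgroup G)) ⟨y, hy⟩)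
  set N := Subgroup.normalizer ((P : Subgroup G) : Set G) with hNdef
  have hPN : (P : Subgroup G) ≤ N := Subgroup.le_normalizer
  set E : Subgroup N := (P : Subgroup G).subgroupOf N with hEdef
  haveI hEn : E.Normal := Subgroup.normal_in_normalizer
  have hEcard : Nat.card E = p ^ n := by
    rw [hEdef, Nat.card_congr (Subgroup.subgroupOfEquivOfLe hPN).toEquiv]; exact hcard
  have hEc : ∀ x ∈ E, ∀ y ∈ E, x * y = y * x := fun x hx y hy => Subtype.ext (hc _ hx _ hy)
  have hmem : ∀ x : E, ((x : N) : G) ∈ (P : Subgroup G) := fun x => x.2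
  letI : CommGroup E :=
    { (inferInstance : Group E) with mul_comm := fun x y => Subtype.ext (hEc x x.2 y y.2) }
  have he : ∀ x : E, x ^ p = 1 := fun x => Subtype.ext (Subtype.ext (by
    rw [SubgroupClass.coe_pow, SubgroupClass.coe_pow, OneMemClass.coe_one, OneMemClass.coe_one]
    exact hel.2 _ (hmem x)))
  have hco : E.index.Coprime p := by
    refine ((Nat.Prime.coprime_iff_not_dvd (Fact.out : p.Prime)).2 ?_).symm
    haveI : ((P.subtype hPN : Sylow p N) : Subgroup N).Normal := hEn
    exact (P.subtype hPN).not_dvd_index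
  let ψ : N →* MulAut E := MulAut.conjNormal
  let φ : E →* G := N.subtype.comp E.subtype
  have hφ : Function.Injective φ := Subtype.coe_injective.comp Subtype.coe_injective
  have himg : ∀ A : Subgroup E, A.map φ ≤ (P : Subgroup G) := by
    rintro A _ ⟨x, -, rfl⟩
    exact hmem x
  have hconj : ∀ (A : Subgroup E) (x : N),
      (A.map (ψ x).toMonoidHom).map φ = (A.map φ).map (MulAut.conj (x : G)).toMonoidHom := by
    intro A x
    rw [Subgroup.map_map, Subgroup.map_map]
    rfl
  have hfus : ∀ A B : Subgroup E, Nat.card A = Nat.card B →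
      ∃ x : N, A.map (ψ x).toMonoidHom = B := by
    intro A B hAB
    obtain ⟨g, hg⟩ := hC (A.map φ) (B.map φ) (P.isPGroup'.to_le (himg A)) (P.isPGroup'.to_le (himg B))
      (by rw [Subgroup.card_map_of_injective hφ, Subgroup.card_map_of_injective hφ, hAB])
    obtain ⟨x, hx, hx'⟩ := FGS76.NormAff.fusion P hc (himg A) (himg B) hg
    exact ⟨⟨x, hx⟩, Subgroup.map_injective hφ ((hconj A ⟨x, hx⟩).trans hx'.symm)⟩
  have h1 : ∀ v w : E, v ≠ 1 → w ≠ 1 → ∃ (m : N) (k : ℕ), ψ m v ^ k = w := by
    intro v w hv hw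
    obtain ⟨x, hx⟩ := hfus (Subgroup.zpowers v) (Subgroup.zpowers w)
      (by rw [Nat.card_zpowers, Nat.card_zpowers, orderOf_eq_prime (he v) hv,
        orderOf_eq_prime (he w) hw])
    rw [MonoidHom.map_zpowers] at hx
    have h2 : w ∈ Subgroup.zpowers (ψ x v) := by
      have h3 := Subgroup.mem_zpowers w
      rw [← hx] at h3
      exact h3
    obtain ⟨k, hk⟩ := mem_powers_iff_mem_zpowers.2 h2
    exact ⟨x, k, hk⟩
  have hKψ : Cfsg.pPrimeCore p N ≤ ψ.ker := fun k hk => by
    rw [MonoidHom.mem_ker]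
    refine MulEquiv.ext fun y => Subtype.ext ?_
    rw [MulAut.conjNormal_apply, (FGS76.NormAff.pPrimeCore_commute E hEcard hk y.2).eq,
      mul_inv_cancel_right]
    rfl
  have hsolψ : Group.IsSolvable ψ.range := by
    refine solvable_of_surjective (f := QuotientGroup.lift (Cfsg.pPrimeCore p N) ψ.rangeRestrict
      (by rw [MonoidHom.ker_rangeRestrict]; exact hKψ)) ?_
    intro z
    obtain ⟨g, hg⟩ := ψ.rangeRestrict_surjective z
    exact ⟨QuotientGroup.mk g, hg⟩
  obtain ⟨hcases, pl, hpl, hpldvd, hdvd, F, fF, ftF, e, hF, hadd, hsl, hlin⟩ :=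
    FGS76.NormAff.semilinear he hn hEcard ψ hsolψ h1
      (fun A B hA hB => hfus A B (hA.trans hB.symm))
  obtain ⟨f, hker, hcardf, hsemi, haff⟩ :=
    FGS76.NormAff.embed E (by omega) hEcard hco F hF e hadd hsl hEc
  let iso : N ⧸ Cfsg.pPrimeCore p N ≃* f.range :=
    (QuotientGroup.quotientMulEquivOfEq hker.symm).trans (QuotientGroup.quotientKerEquivRange f)
  rcases hcases with rfl | ⟨rfl, rfl⟩
  · refine Or.inl ⟨rfl, ⟨(Subgroup.inclusion hsemi).comp iso.toMonoidHom,
      (Subgroup.inclusion_injective hsemi).comp iso.injective⟩, ?_⟩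
    rintro rfl
    norm_num at hpl
    obtain rfl : pl = 7 := by omega
    replace hdvd : Nat.card ψ.range ∣ 7 * 3 := hdvd.trans (by norm_num)
    obtain ⟨j, hj⟩ := hpldvd
    have hj3 : j ∣ 3 := Nat.dvd_of_mul_dvd_mul_left (show 0 < 7 by norm_num)
      (by rw [← hj]; exact hdvd)
    have hψc : Nat.card (MulAut.conjNormal (H := E)).range = 7 * j := hj
    rcases (Nat.dvd_prime Nat.prime_three).1 hj3 with rfl | rfl
    · right
      have hle := haff (hlin (by rw [hj]; norm_num))
      refine ⟨iso.trans (MulEquiv.subgroupCongr (Subgroup.eq_of_le_of_card_ge hle ?_))⟩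
      rw [hcardf, hψc]
      exact (FGS76.NormAff.card_affine_le (by norm_num)).trans (by norm_num)
    · left
      refine ⟨iso.trans (MulEquiv.subgroupCongr (Subgroup.eq_of_le_of_card_ge hsemi ?_))⟩
      rw [hcardf, hψc]
      exact (FGS76.NormAff.card_semiaffine_le (by norm_num)).trans (by norm_num)
  · refine Or.inr ⟨rfl, rfl, ⟨iso.trans (MulEquiv.subgroupCongr
      (Subgroup.eq_of_le_of_card_ge hsemi ?_))⟩⟩
    norm_num at hpl
    obtain rfl : pl = 155 := by omega
    replace hdvd : Nat.card ψ.range ∣ 155 := hdvd.trans (by norm_num)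
    have hψc : Nat.card (MulAut.conjNormal (H := E)).range = 155 := Nat.dvd_antisymm hdvd hpldvd
    rw [hcardf, hψc]
    exact (FGS76.NormAff.card_semiaffine_le (by norm_num)).trans (by norm_num)

end Cfsg.Agent.S4025
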