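import Cfsg.Statements.S4027
import Cfsg.Agent.FGS76.Rational
import Cfsg.Agent.Lib.Involution.BaerSuzuki
import Cfsg.Agent.Lib.Involution.Dihedral

set_option autoImplicit false
open Cfsg

namespace Cfsg.Agent.S4027

/-- Let G be a finite group in which every element x of odd order satisfies N_G(⟨x⟩) = C_G(x). Then the Sylow 2-subgroups of G are normal. -/
theorem result {G : Type*} [Group G] [Finite G]
    (hirr : ∀ x : G, (∀ r : ℕ, r.Prime → r ∣ orderOf x → r ≠ 2) →
      Subgroup.normalizer ((Subgroup.zpowers x : Subgroup G) : Set G) ≤ Subgroup.centralizer {x}) (P : Sylow 2 G) :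
    (P : Subgroup G).Normal := by
  obtain ⟨n, hn⟩ : ∃ n, Nat.card G = n := ⟨_, rfl⟩
  induction n using Nat.strong_induction_on generalizing G with
  | h n ih =>
    by_cases heven : 2 ∣ Nat.card G
    swap
    · have : (P : Subgroup G) = ⊥ := by
        apply Subgroup.eq_bot_of_card_eq
        rw [Sylow.card_eq_multiplicity, Nat.factorization_eq_zero_of_not_dvd heven, pow_zero]
      rw [this]
      infer_instance
    obtain ⟨t, ht⟩ := exists_prime_orderOf_dvd_card' 2 heven
    have ht2 := Involution.mul_self_of_orderOf ht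
    obtain ⟨N, hNn, hNp, htN⟩ := Involution.baerSuzuki (p := 2) t (fun g => by
      set s := g * t * g⁻¹ with hs
      have hs2 : s * s = 1 := by rw [hs, conj_mul, ht2, mul_one, mul_inv_cancel]
      obtain ⟨a, b, ⟨i, ha⟩, ⟨j, hb⟩, hab, ⟨k, hao⟩, hbo⟩ := FGS76.exists_split 2 (t * s)
      have hinv : t * b * t⁻¹ = b⁻¹ := by
        rw [hb, ← conj_pow, ← inv_pow]
        congr 1
        rw [← mul_assoc, ht2, one_mul, mul_inv_rev, inv_eq_of_mul_eq_one_right ht2,
          inv_eq_of_mul_eq_one_right hs2]
      have hcomm := Subgroup.mem_centralizer_singleton_iff.1 (hirr b (fun r hr hd h2 =>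
        hbo (h2 ▸ hd)) (show t ∈ Subgroup.normalizer
            ((Subgroup.zpowers b : Subgroup G) : Set G) by
          rw [Subgroup.mem_normalizer_iff_map_conj_eq, MonoidHom.map_zpowers]
          show Subgroup.zpowers (t * b * t⁻¹) = _
          rw [hinv, Subgroup.zpowers_inv]))
      have hb1 : b = 1 := by
        rw [hcomm, mul_inv_cancel_right] at hinv
        have h2 : orderOf b ∣ 2 := by
          apply orderOf_dvd_of_pow_eq_one
          rw [sq]
          nth_rewrite 1 [hinv]
          exact inv_mul_cancel b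
        rcases (Nat.dvd_prime Nat.prime_two).1 h2 with h | h
        · exact orderOf_eq_one_iff.1 h
        · exact absurd (h.symm ▸ dvd_rfl) hbo
      rw [hb1, mul_one] at hab
      rw [hab] at hao
      intro d
      obtain ⟨l, hl | hl⟩ := (Involution.mem_closure_pair_involutions ht2 hs2).1 d.2
      · refine ⟨k, Subtype.ext ?_⟩
        simp only [SubgroupClass.coe_pow, Subgroup.coe_one, hl]
        rw [← zpow_natCast, ← zpow_mul, mul_comm, zpow_mul, zpow_natCast, ← hao,
          pow_orderOf_eq_one, one_zpow]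
      · refine ⟨1, Subtype.ext ?_⟩
        simp only [pow_one, sq, Subgroup.coe_mul, Subgroup.coe_one, hl]
        exact Involution.left_mul_zpow_sq ht2 hs2 l)
    haveI := hNn
    have hN1 : N ≠ ⊥ := fun h => Involution.ne_one_of_orderOf ht (Subgroup.mem_bot.1 (h ▸ htN))
    obtain ⟨e, he⟩ := IsPGroup.iff_card.1 hNp
    have hlt : Nat.card (G ⧸ N) < n := by
      rw [← hn, Subgroup.card_eq_card_quotient_mul_card_subgroup N]
      exact lt_mul_of_one_lt_right Nat.card_pos (Subgroup.one_lt_card_iff_ne_bot _ |>.2 hN1)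
    have hsurj := QuotientGroup.mk'_surjective N
    have hNP : N ≤ (P : Subgroup G) := by
      obtain ⟨Q, hQ⟩ := hNp.exists_le_sylow
      obtain ⟨g, hg⟩ := MulAction.exists_smul_eq G Q P
      intro x hx
      rw [← hg, Sylow.coe_subgroup_smul]
      exact ⟨g⁻¹ * x * g⁻¹⁻¹, hQ (hNn.conj_mem x hx _), by simp [mul_assoc]⟩
    have hnorm : ((P.mapSurjective hsurj : Sylow 2 (G ⧸ N)) : Subgroup (G ⧸ N)).Normal := by
      refine ih _ hlt ?_ _ rfl
      refine FGS76.irr_quotient {r | r ≠ 2} hirr N ?_
      intro r hr hd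
      rw [he] at hd
      simpa using (Nat.prime_dvd_prime_iff_eq hr Nat.prime_two).1 (hr.dvd_of_dvd_pow hd)
    have h := hnorm.comap (QuotientGroup.mk' N)
    rwa [Sylow.coe_mapSurjective, Subgroup.comap_map_eq_self
      (by rwa [QuotientGroup.ker_mk'])] at h

end Cfsg.Agent.S4027
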