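import Cfsg.Statements.S4028
import Cfsg.Agent.FGS76.Basic

set_option autoImplicit false
open Cfsg

namespace Cfsg.Agent.S4028

/-- Let G be a finite group with Sylow 2-subgroup P. Then N_G(⟨x⟩) = C_G(x) holds for every 2-element x of G if and only if N_P(⟨y⟩) = C_P(y) holds for every y ∈ P (computed inside P). -/
theorem result {G : Type*} [Group G] [Finite G] (P : Sylow 2 G) :
    (∀ x : G, (∀ r : ℕ, r.Prime → r ∣ orderOf x → r = 2) →
      Subgroup.normalizer ((Subgroup.zpowers x : Subgroup G) : Set G) ≤ Subgroup.centralizer {x}) ↔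
    (∀ y : ↥(P : Subgroup G), Subgroup.normalizer ((Subgroup.zpowers y : Subgroup ↥(P : Subgroup G)) : Set ↥(P : Subgroup G)) ≤
        Subgroup.centralizer {y}) := by
  constructor
  · intro h y z hz
    rw [Subgroup.mem_centralizer_singleton_iff]
    obtain ⟨k, hk⟩ := FGS76.orderOf_eq_pow_of_mem P.isPGroup' y.2
    have h1 : (z : G) ∈ Subgroup.normalizer ((Subgroup.zpowers (y : G) : Subgroup G) : Set G) := by
      rw [Subgroup.mem_normalizer_iff_map_conj_eq, MonoidHom.map_zpowers] at hz ⊢
      have h2 := congrArg (Subgroup.map (P : Subgroup G).subtype) hz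
      rw [MonoidHom.map_zpowers, MonoidHom.map_zpowers] at h2
      simpa using h2
    have h2 := Subgroup.mem_centralizer_singleton_iff.1
      (h (y : G) (fun r hr hd => (Nat.prime_dvd_prime_iff_eq hr Nat.prime_two).1
        (hr.dvd_of_dvd_pow (hk ▸ hd))) h1)
    exact Subtype.ext h2
  · intro h x hx z hz
    rw [Subgroup.mem_centralizer_singleton_iff]
    have hxo : ∃ n : ℕ, orderOf x = 2 ^ n :=
      ⟨_, Nat.eq_prime_pow_of_unique_prime_dvd (orderOf_pos x).ne' fun hd hdd => hx _ hd hdd⟩
    obtain ⟨n, hn⟩ := hxo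
    obtain ⟨a, b, ⟨i, ha⟩, ⟨j, hb⟩, hab, hao, hbo⟩ := FGS76.exists_split 2 z
    have hnorm : ∀ w ∈ Subgroup.zpowers z,
        w ∈ Subgroup.normalizer ((Subgroup.zpowers x : Subgroup G) : Set G) :=
      fun w hw => Subgroup.zpowers_le.2 hz hw
    -- the part of odd order acts trivially
    have hb' : b * x = x * b := by
      haveI : (Subgroup.zpowers x).Normal → True := fun _ => trivial
      set N := Subgroup.normalizer ((Subgroup.zpowers x : Subgroup G) : Set G) with hN
      set X := (Subgroup.zpowers x).subgroupOf N with hX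
      haveI : IsCyclic X := isCyclic_of_surjective _
        (Subgroup.subgroupOfEquivOfLe (G := G) Subgroup.le_normalizer).symm.surjective
      let φ : N →* MulAut X := MulAut.conjNormal
      have hbN : b ∈ N := hnorm b (hb ▸ Subgroup.npow_mem_zpowers z j)
      have h1 : φ ⟨b, hbN⟩ = 1 := by
        rw [← orderOf_eq_one_iff]
        refine Nat.eq_one_of_dvd_coprimes (a := orderOf b) (b := Nat.card (MulAut X)) ?_ ?_
          (orderOf_dvd_natCard _)
        · rw [IsCyclic.card_mulAut, Nat.card_congr (Subgroup.subgroupOfEquivOfLe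
            (G := G) Subgroup.le_normalizer).toEquiv, Nat.card_zpowers, hn]
          refine Nat.Coprime.coprime_dvd_right (k := orderOf b) ?_
            (((Nat.prime_two.coprime_iff_not_dvd).2 hbo).pow_left n).symm
          rcases n with _ | m
          · simp
          · rw [Nat.totient_prime_pow_succ Nat.prime_two]
            simpa using pow_dvd_pow 2 (Nat.le_succ m)
        · exact (orderOf_map_dvd φ _).trans (Subgroup.orderOf_mk b hbN).dvd
      have h2 := congrArg (fun f : MulAut X => f ⟨⟨x, Subgroup.le_normalizer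
        (Subgroup.mem_zpowers x)⟩, Subgroup.mem_subgroupOf.2 (Subgroup.mem_zpowers x)⟩) h1
      have h3 := congrArg (fun u : X => ((u : N) : G)) h2
      simp only [φ, MulAut.conjNormal_apply, MulAut.one_apply, Subgroup.coe_mul,
        InvMemClass.coe_inv] at h3
      exact mul_inv_eq_iff_eq_mul.1 h3
    -- the 2-part lies with `x` in a Sylow subgroup
    have hapg : IsPGroup 2 ↥(Subgroup.zpowers a ⊔ Subgroup.zpowers x) := by
      refine (FGS76.isPGroup_zpowers hao).to_sup_of_normal_right'
        (FGS76.isPGroup_zpowers ⟨n, hn⟩) ?_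
      exact Subgroup.zpowers_le.2 (hnorm a (ha ▸ Subgroup.npow_mem_zpowers z i))
    obtain ⟨Q, hQ⟩ := hapg.exists_le_sylow
    obtain ⟨g, hg⟩ := MulAction.exists_smul_eq G Q P
    have hmem : ∀ r ∈ Subgroup.zpowers a ⊔ Subgroup.zpowers x, g * r * g⁻¹ ∈ (P : Subgroup G) := by
      intro r hr
      rw [← hg, Sylow.coe_subgroup_smul]
      exact ⟨r, hQ hr, rfl⟩
    have haP := hmem a (Subgroup.mem_sup_left (Subgroup.mem_zpowers a))
    have hxP := hmem x (Subgroup.mem_sup_right (Subgroup.mem_zpowers x))
    have h4 := h ⟨_, hxP⟩ (x := (⟨_, haP⟩ : (P : Subgroup G))) (by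
      rw [Subgroup.mem_normalizer_iff_map_conj_eq, MonoidHom.map_zpowers]
      have h5 := Subgroup.mem_normalizer_iff_map_conj_eq.1
        (hnorm a (ha ▸ Subgroup.npow_mem_zpowers z i))
      apply Subgroup.map_injective (f := (P : Subgroup G).subtype)
        (P : Subgroup G).subtype_injective
      rw [MonoidHom.map_zpowers, MonoidHom.map_zpowers]
      have h6 := congrArg (Subgroup.map (MulAut.conj g).toMonoidHom) h5
      rw [MonoidHom.map_zpowers, MonoidHom.map_zpowers, MonoidHom.map_zpowers] at h6
      simpa [mul_assoc] using h6)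
    have h7 := congrArg Subtype.val (Subgroup.mem_centralizer_singleton_iff.1 h4)
    simp only [Subgroup.coe_mul, conj_mul, mul_left_inj, mul_right_inj] at h7
    calc z * x = a * (b * x) := by rw [← hab, mul_assoc]
      _ = a * x * b := by rw [hb', mul_assoc]
      _ = x * z := by rw [h7, mul_assoc, hab]

end Cfsg.Agent.S4028
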