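import Cfsg.Statements.S4029
import Cfsg.Agent.S0160
import Cfsg.Agent.Lib.CharCore.Linear
import Cfsg.Agent.Lib.PGroup.Basic

set_option autoImplicit false
open Cfsg

namespace Cfsg.Agent.S4029

/-- Let P be a finite 2-group in which N_P(⟨y⟩) = C_P(y) for every y ∈ P. If s is the number of conjugacy classes of involutions of P, then #(P/Φ(P)) ≤ s + 1; in particular the subgroup generated by the involutions of P has order at least #(P/Φ(P)). -/
theorem result {P : Type*} [Group P] [Finite P] (hP : IsPGroup 2 P)
    (hirr : ∀ y : P, Subgroup.normalizer ((Subgroup.zpowers y : Subgroup P) : Set P) ≤ Subgroup.centralizer {y}) :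
    Nat.card (P ⧸ frattini P) ≤ Nat.card {c : ConjClasses P // ∃ y : P, ConjClasses.mk y = c ∧ orderOf y = 2} + 1 ∧
    Nat.card (P ⧸ frattini P) ≤ Nat.card (Subgroup.closure {y : P | orderOf y = 2}) := by
  classical
  haveI : Fact (Nat.Prime 2) := ⟨Nat.prime_two⟩
  set X := {c : ConjClasses P // ∃ y : P, ConjClasses.mk y = c ∧ orderOf y = 2}
  -- real elements have order at most two
  have hreal : ∀ y : P, IsConj y y⁻¹ → y = 1 ∨ orderOf y = 2 := by
    intro y hy
    obtain ⟨c, hc⟩ := isConj_iff.mp hy
    have hcN : c ∈ Subgroup.normalizer ((Subgroup.zpowers y : Subgroup P) : Set P) := by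
      rw [Subgroup.mem_normalizer_iff_map_conj_eq, MonoidHom.map_zpowers]
      show Subgroup.zpowers (c * y * c⁻¹) = _
      rw [hc, Subgroup.zpowers_inv]
    have hcy := Subgroup.mem_centralizer_singleton_iff.mp (hirr y hcN)
    rw [hcy, mul_inv_cancel_right] at hc
    have h2 : y ^ 2 = 1 := by rw [pow_two]; exact mul_eq_one_iff_eq_inv.mpr hc
    rcases (Nat.dvd_prime Nat.prime_two).mp (orderOf_dvd_of_pow_eq_one h2) with h | h
    · exact Or.inl (orderOf_eq_one_iff.mp h)
    · exact Or.inr h
  have hclasses : Nat.card {C : ConjClasses P // ∀ g : P, ConjClasses.mk g = C → IsConj g g⁻¹} ≤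
      Nat.card (Option X) := by
    refine Nat.card_le_card_of_injective (fun C => if h : ∃ y : P, ConjClasses.mk y = C.1 ∧
      orderOf y = 2 then some ⟨C.1, h⟩ else none) ?_
    intro C D hCD
    dsimp only at hCD
    have hone : ∀ E : {C : ConjClasses P // ∀ g : P, ConjClasses.mk g = C → IsConj g g⁻¹},
        (¬ ∃ y : P, ConjClasses.mk y = E.1 ∧ orderOf y = 2) → E.1 = ConjClasses.mk 1 := by
      intro E hE
      obtain ⟨y, hy⟩ := ConjClasses.exists_rep E.1
      rcases hreal y (E.2 y hy) with h | h
      · rw [← hy, h]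
      · exact absurd ⟨y, hy, h⟩ hE
    split_ifs at hCD with h1 h2 h2
    · exact Subtype.ext (Subtype.mk.inj (Option.some.inj hCD))
    · exact Subtype.ext ((hone C h1).trans (hone D h2).symm)
  -- the characters of the Frattini quotient are real
  letI : CommGroup (P ⧸ frattini P) :=
    { (inferInstance : Group (P ⧸ frattini P)) with
      mul_comm := fun a b => PGroup.quotient_frattini_commute hP a b }
  haveI : NeZero ((Monoid.exponent (P ⧸ frattini P) : ℕ) : ℂ) :=
    ⟨by exact_mod_cast Monoid.exponent_ne_zero_of_finite⟩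
  have hchars : Nat.card (P ⧸ frattini P) ≤
      Nat.card {χ : Cfsg.IrrCharacter P // ∀ g : P, ((χ : P → ℂ) g).im = 0} := by
    rw [← CommGroup.card_monoidHom_of_hasEnoughRootsOfUnity (P ⧸ frattini P) ℂ]
    haveI := Fintype.ofFinite P
    refine Nat.card_le_card_of_injective (fun f => ⟨⟨fun g => ((f (g : P ⧸ frattini P) : ℂˣ) : ℂ),
      CharCore.isIrrCharacter_hom (f.comp (QuotientGroup.mk' (frattini P)))⟩, fun g => ?_⟩) ?_
    · have h2 : ((f (g : P ⧸ frattini P) : ℂˣ) : ℂ) ^ 2 = 1 := by
        rw [← Units.val_pow_eq_pow_val, ← map_pow, PGroup.quotient_frattini_pow hP, map_one,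
          Units.val_one]
      rcases sq_eq_one_iff.mp h2 with h | h <;> simp [h]
    · intro f f' h
      refine MonoidHom.ext fun q => ?_
      obtain ⟨g, rfl⟩ := QuotientGroup.mk_surjective q
      exact Units.ext (congrFun (congrArg Subtype.val (congrArg Subtype.val h)) g)
  have hfirst : Nat.card (P ⧸ frattini P) ≤ Nat.card X + 1 := by
    calc Nat.card (P ⧸ frattini P) ≤ _ := hchars
      _ = _ := S0160.result
      _ ≤ Nat.card (Option X) := hclasses
      _ = Nat.card X + 1 := Finite.card_option
  refine ⟨hfirst, hfirst.trans ?_⟩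
  -- representatives of the involution classes and `1` lie in the generated subgroup
  choose r hr hr2 using fun x : X => x.2
  rw [← Finite.card_option]
  refine Nat.card_le_card_of_injective (fun o => o.elim (1 : Subgroup.closure {y : P | orderOf y = 2})
    fun x => ⟨r x, Subgroup.subset_closure (hr2 x)⟩) ?_
  rintro (_ | x) (_ | x') h
  · rfl
  · exfalso
    have h' : (1 : P) = r x' := congrArg Subtype.val h
    have := hr2 x'
    rw [← h', orderOf_one] at this
    omega
  · exfalso
    have h' : r x = (1 : P) := congrArg Subtype.val h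
    have := hr2 x
    rw [h', orderOf_one] at this
    omega
  · have h' : r x = r x' := congrArg Subtype.val h
    exact congrArg some (Subtype.ext (by rw [← hr x, ← hr x', h']))

end Cfsg.Agent.S4029
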