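import Cfsg.Statements.S4034
import Cfsg.Agent.FGS76.PRegularClass

set_option autoImplicit false
open Cfsg
open scoped Pointwise

namespace Cfsg.Agent.S4034

/-- Let G be a finite group and p a prime. Every conjugacy class of p-regular elements of G (elements of order prime to p) has p-power size if and only if G has an abelian p-complement, i.e. an abelian subgroup of order prime to p and p-power index. -/
theorem result {G : Type*} [Group G] [Finite G] {p : ℕ} (hp : p.Prime) :
    (∀ x : G, (orderOf x).Coprime p → ∃ k : ℕ, (ConjClasses.mk x).carrier.ncard = p ^ k) ↔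
    (∃ H : Subgroup G, IsMulCommutative H ∧ ¬ p ∣ Nat.card H ∧ ∃ k : ℕ, H.index = p ^ k) := by
  haveI : Fact p.Prime := ⟨hp⟩
  obtain ⟨k, m, hm, hkm⟩ := Nat.exists_eq_pow_mul_and_not_dvd (Nat.card_pos (α := G)).ne' p
    hp.ne_one
  rw [mul_comm] at hkm
  have hcop : m.Coprime (p ^ k) := (((hp.coprime_iff_not_dvd).2 hm).pow_left k).symm
  constructor
  · intro h
    have hQ : FGS76.PRegClasses p G := fun x hx => by
      obtain ⟨l, hl⟩ := h x hx
      exact ⟨l, FGS76.ncard_carrier x ▸ hl⟩
    haveI := FGS76.isSolvable_of_pRegClasses hp hQ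
    obtain ⟨H, hH⟩ := Solvable.exists_hall hkm hcop
    refine ⟨H, ⟨⟨?_⟩⟩, hH ▸ hm, k, ?_⟩
    · intro a b
      apply Subtype.ext
      haveI : (Cfsg.pCore p G).Normal := Fitting.pCore_normal p
      have hreg : ∀ c : H, (orderOf (c : G)).Coprime p := fun c => by
        rw [Subgroup.orderOf_coe]
        exact (hp.coprime_iff_not_dvd.2 fun hd => hm (hH ▸ hd.trans (orderOf_dvd_natCard c))).symm
      have hcomm := FGS76.commute_of_pRegClasses hp (FGS76.pRegClasses_quotient hp (Cfsg.pCore p G) hQ)
        (Thompson.pCore_quotient_pCore)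
        (x := QuotientGroup.mk' _ (a : G)) (y := QuotientGroup.mk' _ (b : G))
        ((hreg a).of_dvd_left (orderOf_map_dvd _ _)) ((hreg b).of_dvd_left (orderOf_map_dvd _ _))
      rw [← map_mul, ← map_mul, QuotientGroup.mk'_eq_mk'] at hcomm
      obtain ⟨z, hz, hzab⟩ := hcomm
      have hzH : z ∈ H := by
        have : z = ((a : G) * b)⁻¹ * ((b : G) * a) := by rw [← hzab, inv_mul_cancel_left]
        rw [this]
        exact mul_mem (inv_mem (mul_mem a.2 b.2)) (mul_mem b.2 a.2)
      have hz1 : z = 1 := by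
        rw [← orderOf_eq_one_iff]
        obtain ⟨e, he⟩ := FGS76.orderOf_eq_pow_of_mem Thompson.isPGroup_pCore hz
        exact Nat.eq_one_of_dvd_coprimes ((hreg ⟨z, hzH⟩).pow_right e) dvd_rfl (dvd_of_eq he)
      rw [hz1, mul_one] at hzab
      exact hzab
    · have h1 := H.card_mul_index
      rw [hH, hkm] at h1
      exact Nat.eq_of_mul_eq_mul_left (Nat.pos_of_ne_zero fun h0 => hm (by rw [h0]; exact dvd_zero p)) h1
  · rintro ⟨H, hcomm, hpH, l, hl⟩ x hx
    haveI := FGS76.isSolvable_of_hasAbelianPCompl hp ⟨H, hcomm, hpH, l, hl⟩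
    have hG : Nat.card G = Nat.card H * p ^ l := by rw [← hl, H.card_mul_index]
    have hcopH : (Nat.card H).Coprime (p ^ l) := (((hp.coprime_iff_not_dvd).2 hpH).pow_left l).symm
    obtain ⟨g, hg⟩ := Solvable.le_conj_hall hG hcopH H (Subgroup.zpowers x) rfl
      (by rw [Nat.card_zpowers]; exact hx.pow_right l)
    have hle : MulAut.conj g • H ≤ Subgroup.centralizer ({x} : Set G) := by
      intro y hy
      rw [Subgroup.mem_centralizer_singleton_iff]
      obtain ⟨c, hc, rfl⟩ := hy
      obtain ⟨d, hd, hdx⟩ := hg (Subgroup.mem_zpowers x)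
      rw [← hdx]
      simp only [MulDistribMulAction.toMonoidEnd_apply, MulDistribMulAction.toMonoidHom_apply,
        MulAut.smul_def, MulAut.conj_apply]
      rw [conj_mul, conj_mul,
        show c * d = d * c from congrArg Subtype.val (hcomm.is_comm.comm ⟨c, hc⟩ ⟨d, hd⟩)]
    rw [FGS76.ncard_carrier]
    have h2 := Subgroup.index_dvd_of_le hle
    rw [Solvable.index_conj_smul, hl] at h2
    exact FGS76.dvd_prime_pow' hp h2

end Cfsg.Agent.S4034
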