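import Cfsg.Statements.S4035
import Cfsg.Agent.FGS76.Basic

set_option autoImplicit false
open Cfsg

namespace Cfsg.Agent.S4035

/-- Let G be a finite group and p a prime such that p divides the size of no conjugacy class of p-regular elements (elements of order prime to p). Then G is the internal direct product of a Sylow p-subgroup P and a normal subgroup H of order prime to p: P is normal, P ⊓ H = 1 and PH = G. -/
theorem result {G : Type*} [Group G] [Finite G] {p : ℕ} [Fact p.Prime]
    (h : ∀ x : G, (orderOf x).Coprime p → ¬ p ∣ (ConjClasses.mk x).carrier.ncard) (P : Sylow p G) :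
    (P : Subgroup G).Normal ∧ ∃ H : Subgroup G, H.Normal ∧ ¬ p ∣ Nat.card H ∧
      (P : Subgroup G) ⊓ H = ⊥ ∧ (P : Subgroup G) ⊔ H = ⊤ := by
  refine FGS76.direct_factor_of_sup_centralizer P ?_
  refine FGS76.eq_top_of_forall_exists_conj _ fun g => ?_
  obtain ⟨a, b, ⟨i, ha⟩, ⟨j, hb⟩, hab, hao, hbo⟩ := FGS76.exists_split p g
  have hidx : ¬ p ∣ (Subgroup.centralizer ({b} : Set G)).index := by
    rw [← FGS76.ncard_carrier]
    exact h b ((Fact.out : p.Prime).coprime_iff_not_dvd.2 hbo).symm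
  have haC : Subgroup.zpowers a ≤ Subgroup.centralizer ({b} : Set G) := by
    rw [Subgroup.zpowers_le, Subgroup.mem_centralizer_singleton_iff, ha, hb]
    exact pow_mul_comm g i j
  obtain ⟨R, haR, hRC⟩ := FGS76.exists_sylow_between (FGS76.isPGroup_zpowers hao) haC hidx
  obtain ⟨x, hx⟩ := MulAction.exists_smul_eq G R P
  refine ⟨x, ?_⟩
  have hmem : ∀ r ∈ (R : Subgroup G), x * r * x⁻¹ ∈ (P : Subgroup G) := by
    intro r hr
    rw [← hx, Sylow.coe_subgroup_smul]
    exact ⟨r, hr, rfl⟩
  rw [← hab, ← conj_mul]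
  refine mul_mem (Subgroup.mem_sup_left (hmem a (haR (Subgroup.mem_zpowers a))))
    (Subgroup.mem_sup_right ?_)
  rw [Subgroup.mem_centralizer_iff]
  intro q hq
  rw [← hx, Sylow.coe_subgroup_smul] at hq
  obtain ⟨r, hr, rfl⟩ := hq
  have h1 := Subgroup.mem_centralizer_singleton_iff.1 (hRC hr)
  show x * r * x⁻¹ * (x * b * x⁻¹) = x * b * x⁻¹ * (x * r * x⁻¹)
  rw [conj_mul, conj_mul, h1]

end Cfsg.Agent.S4035
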