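import Cfsg.Statements.S4036
import Mathlib.GroupTheory.PGroup
import Mathlib.GroupTheory.Perm.Cycle.Type

set_option autoImplicit false
open Cfsg

namespace Cfsg.Agent.S4036

/-- Let P be a finite abelian p-group and K a group of automorphisms of P (a subgroup of Aut P) whose order is divisible by p. If all non-identity elements of K have the same fixed-point subgroup on P, then K has no non-trivial normal subgroup of order prime to p. -/
theorem result {P : Type*} [CommGroup P] [Finite P] {p : ℕ}
    [Fact p.Prime] (hP : IsPGroup p P) (K : Subgroup (MulAut P)) (hK : p ∣ Nat.card K)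
    (hfix : ∀ x y : MulAut P, x ∈ K → y ∈ K → x ≠ 1 → y ≠ 1 → ∀ v : P, x v = v ↔ y v = v) :
    ∀ N : Subgroup ↥K, N.Normal → ¬ p ∣ Nat.card N → N = ⊥ := by
  classical
  intro N hN hp
  by_contra hne
  obtain ⟨x, hx⟩ := exists_prime_orderOf_dvd_card' p hK
  have hx1 : x ≠ 1 := fun h => by
    rw [h, orderOf_one] at hx
    exact (Fact.out : p.Prime).one_lt.ne hx
  haveI : Fintype N := Fintype.ofFinite N
  let T : P →* P :=
    { toFun := fun v => ∏ n : N, ((n : K) : MulAut P) v
      map_one' := by simp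
      map_mul' := fun v w => by rw [← Finset.prod_mul_distrib]; simp }
  have hTn : ∀ (n : N) (v : P), T (((n : K) : MulAut P) v) = T v := fun n v => by
    show ∏ m : N, ((m : K) : MulAut P) (((n : K) : MulAut P) v) = ∏ m : N, ((m : K) : MulAut P) v
    exact Fintype.prod_equiv (Equiv.mulRight n) _ _ fun m => rfl
  -- invariance of the kernel under elements normalizing `N`
  have hinv : ∀ (g : K) (v : P), T v = 1 → T ((g : MulAut P) v) = 1 := by
    intro g v hv
    let e : N ≃ N :=
      { toFun := fun m => ⟨g⁻¹ * (m : K) * g, by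
          have := hN.conj_mem (m : K) m.2 g⁻¹
          rwa [inv_inv] at this⟩
        invFun := fun m => ⟨g * (m : K) * g⁻¹, hN.conj_mem (m : K) m.2 g⟩
        left_inv := fun m => Subtype.ext (by simp [mul_assoc])
        right_inv := fun m => Subtype.ext (by simp [mul_assoc]) }
    have h1 : ∏ m : N, ((m : K) : MulAut P) ((g : MulAut P) v) =
        ∏ m : N, (g : MulAut P) (((m : K) : MulAut P) v) := by
      refine Fintype.prod_equiv e _ _ fun m => ?_
      have h2 : (m : K) * g = g * ((e m : N) : K) := by simp [e, mul_assoc]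
      exact congrArg (fun k : K => (k : MulAut P) v) h2
    show ∏ m : N, ((m : K) : MulAut P) ((g : MulAut P) v) = 1
    rw [h1, ← map_prod, show ∏ m : N, ((m : K) : MulAut P) v = 1 from hv, map_one]
  -- the kernel is nontrivial
  obtain ⟨n, hn⟩ : ∃ n : N, n ≠ 1 := (Subgroup.ne_bot_iff_exists_ne_one).mp hne
  have hn1 : ((n : K) : MulAut P) ≠ 1 := fun h => hn (Subtype.ext (Subtype.ext h))
  obtain ⟨w, hw⟩ : ∃ w : P, ((n : K) : MulAut P) w ≠ w := by
    by_contra h
    push Not at h
    exact hn1 (MulEquiv.ext h)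
  let u : T.ker := ⟨((n : K) : MulAut P) w * w⁻¹, by
    rw [MonoidHom.mem_ker, map_mul, map_inv, hTn, mul_inv_cancel]⟩
  have hu : u ≠ 1 := fun h => hw (mul_inv_eq_one.mp (congrArg Subtype.val h))
  letI : MulAction (Subgroup.zpowers x) T.ker :=
    { smul := fun g v => ⟨((g : K) : MulAut P) v, hinv _ _ v.2⟩
      one_smul := fun v => rfl
      mul_smul := fun g h v => rfl }
  have hpg : IsPGroup p (Subgroup.zpowers x) :=
    IsPGroup.of_card (n := 1) (by rw [Nat.card_zpowers, hx, pow_one])
  haveI : Nontrivial T.ker := ⟨⟨u, 1, hu⟩⟩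
  have hdvd : p ∣ Nat.card T.ker := by
    obtain ⟨k, hk, hcard⟩ := (hP.to_subgroup T.ker).nontrivial_iff_card.mp inferInstance
    rw [hcard]; exact dvd_pow_self p hk.ne'
  obtain ⟨v, hv, hv1⟩ := hpg.exists_fixed_point_of_prime_dvd_card_of_fixed_point (α := T.ker) hdvd
    (a := 1) (fun g => Subtype.ext (map_one ((g : K) : MulAut P)))
  have hxv : (x : MulAut P) (v : P) = v :=
    congrArg Subtype.val (hv ⟨x, Subgroup.mem_zpowers x⟩)
  have hfixN : ∀ m : N, ((m : K) : MulAut P) (v : P) = v := by
    intro m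
    by_cases hm : ((m : K) : MulAut P) = 1
    · rw [hm]; rfl
    · exact (hfix _ _ x.2 (m : K).2 (fun h => hx1 (Subtype.ext h)) hm _).mp hxv
  have h2 : (v : P) ^ Nat.card N = 1 := by
    have h3 : T (v : P) = 1 := v.2
    change ∏ m : N, ((m : K) : MulAut P) (v : P) = 1 at h3
    simp only [hfixN, Finset.prod_const, Finset.card_univ] at h3
    rwa [Nat.card_eq_fintype_card]
  obtain ⟨k, hk⟩ := hP (v : P)
  have h4 : orderOf (v : P) = 1 := Nat.eq_one_of_dvd_coprimes
    (Nat.Coprime.pow_left k ((Fact.out : p.Prime).coprime_iff_not_dvd.mpr hp))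
    (orderOf_dvd_of_pow_eq_one hk) (orderOf_dvd_of_pow_eq_one h2)
  exact hv1 (Subtype.ext (orderOf_eq_one_iff.mp h4).symm)

end Cfsg.Agent.S4036
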