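import Cfsg.Statements.S4043
import Cfsg.Agent.FGS77.Basic
import Cfsg.Agent.Lib.Coprime.SchurZassenhaus
import Cfsg.Agent.Lib.Coprime.Action

set_option autoImplicit false
open Cfsg
open scoped commutatorElement

namespace Cfsg.Agent.S4043

/-- Let G be a finite group that is the semidirect product of a normal p-subgroup N by a subgroup A, and also of N by a subgroup A₁, where p is a prime and A and A₁ both have normal p-complements. If C_N(A) = C_N(A₁) = 1, then A₁ is conjugate to A by an element of N. -/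
theorem result {G : Type*} [Group G] [Finite G] {p : ℕ}
    [Fact p.Prime] (N : Subgroup G) [N.Normal] (hN : IsPGroup p N) (A A₁ : Subgroup G)
    (hA : A.IsComplement' N) (hA₁ : A₁.IsComplement' N)
    (hAp : Cfsg.HasNormalPComplement p A) (hA₁p : Cfsg.HasNormalPComplement p A₁)
    (hC : ∀ n : G, n ∈ N → (∀ a : G, a ∈ A → a * n * a⁻¹ = n) → n = 1)
    (hC₁ : ∀ n : G, n ∈ N → (∀ a : G, a ∈ A₁ → a * n * a⁻¹ = n) → n = 1) :
    ∃ n : G, n ∈ N ∧ A₁ = A.map (MulAut.conj n).toMonoidHom := by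
  obtain ⟨P, K, hKn, hKP⟩ := hAp
  obtain ⟨P₁, K₁, hK₁n, hK₁P⟩ := hA₁p
  haveI := hKn
  haveI := hK₁n
  have hinf : A ⊓ N = ⊥ := disjoint_iff.mp hA.disjoint
  have hdec : ∀ x : G, ∃ n ∈ N, ∃ a ∈ A, x = n * a := fun x =>
    Coprime.exists_mul_of_mem_sup Subgroup.le_normalizer_of_normal
      (by rw [sup_comm, hA.sup_eq_top]; trivial)
  set Kg := K.map A.subtype with hKg
  have hKA : Kg ≤ A := Subgroup.map_subtype_le _
  have hAnorm : A ≤ Subgroup.normalizer (Kg : Set G) :=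
    Coprime.le_normalizer_of_conj_mem fun a ha => by
      rintro _ ⟨k, hk, rfl⟩
      exact ⟨⟨a, ha⟩ * k * ⟨a, ha⟩⁻¹, hKn.conj_mem k hk _, rfl⟩
  -- cardinalities
  have hcardA : Nat.card A₁ = Nat.card A :=
    Nat.eq_of_mul_eq_mul_right Nat.card_pos (hA₁.card_mul_card.trans hA.card_mul_card.symm)
  have hK1 : Nat.card Kg = Nat.card K := (Subgroup.card_map_of_injective A.subtype_injective)
  have hK₁1 : Nat.card (K₁.map A₁.subtype) = Nat.card K₁ :=
    Subgroup.card_map_of_injective A₁.subtype_injective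
  have hpK : ¬ p ∣ Nat.card K := by
    have := P.not_dvd_index
    rwa [hKP.index_eq_card] at this
  have hpK₁ : ¬ p ∣ Nat.card K₁ := by
    have := P₁.not_dvd_index
    rwa [hK₁P.index_eq_card] at this
  obtain ⟨e, he⟩ := IsPGroup.iff_card.mp hN
  have hcopN : ∀ {m : ℕ}, ¬ p ∣ m → m.Coprime (Nat.card N) := fun {m} hm => by
    rw [he]
    exact Nat.Coprime.pow_right e (((Fact.out : p.Prime).coprime_iff_not_dvd.mpr hm).symm)
  have hle : K₁.map A₁.subtype ≤ N ⊔ Kg := by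
    rintro _ ⟨k, hk, rfl⟩
    obtain ⟨n, hn, a, ha, hna⟩ := hdec (k : G)
    have hpk : ¬ p ∣ orderOf (k : G) := fun hd => hpK₁ (hd.trans (by
      rw [Subgroup.orderOf_coe]; exact Subgroup.orderOf_dvd_natCard K₁ hk))
    have haN : (a : G ⧸ N) = ((k : G) : G ⧸ N) := by
      rw [hna, QuotientGroup.mk_mul, (QuotientGroup.eq_one_iff n).mpr hn, one_mul]
    have hpow : a ^ orderOf (k : G) = 1 := by
      have h1 : (a ^ orderOf (k : G) : G) ∈ N := by
        rw [← QuotientGroup.eq_one_iff, QuotientGroup.mk_pow, haN, ← QuotientGroup.mk_pow,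
          pow_orderOf_eq_one, QuotientGroup.mk_one]
      exact Subgroup.mem_bot.mp (hinf ▸ Subgroup.mem_inf.mpr ⟨A.pow_mem ha _, h1⟩)
    have haK : (⟨a, ha⟩ : A) ∈ K := by
      have hdvd : orderOf ((⟨a, ha⟩ : A) : ↥A ⧸ K) ∣ orderOf (k : G) := orderOf_dvd_of_pow_eq_one (by
        rw [← QuotientGroup.mk_pow, show (⟨a, ha⟩ : A) ^ orderOf (k : G) = 1 from Subtype.ext hpow,
          QuotientGroup.mk_one])
      have h2 : orderOf ((⟨a, ha⟩ : A) : ↥A ⧸ K) ∣ Nat.card (P : Subgroup A) := by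
        have := orderOf_dvd_natCard ((⟨a, ha⟩ : A) : ↥A ⧸ K)
        rwa [← Subgroup.index, hKP.symm.index_eq_card] at this
      obtain ⟨m, hm⟩ := IsPGroup.iff_card.mp P.isPGroup'
      rw [hm] at h2
      obtain ⟨i, _, hi⟩ := (Nat.dvd_prime_pow Fact.out).mp h2
      rw [← QuotientGroup.eq_one_iff, ← orderOf_eq_one_iff, hi]
      rcases i with _ | i
      · rfl
      · exact absurd ((dvd_pow_self p i.succ_ne_zero).trans (hi ▸ hdvd)) hpk
    show (k : G) ∈ N ⊔ Kg
    rw [hna]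
    exact Subgroup.mul_mem_sup hn ⟨⟨a, ha⟩, haK, rfl⟩
  have hsolv : Group.IsSolvable N := by
    haveI : Group.IsNilpotent N := hN.isNilpotent
    infer_instance
  obtain ⟨n, hn, hnK⟩ := Coprime.exists_conj_le_of_normal_solvable N (K₁.map A₁.subtype) Kg
    inferInstance hsolv hle (hK₁1.symm ▸ hcopN hpK₁) (hK1.symm ▸ hcopN hpK)
  -- equality of complements
  have hcardK : Nat.card K₁ = Nat.card K := by
    have h1 := hKP.card_mul_card
    have h2 := hK₁P.card_mul_card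
    rw [hcardA] at h2
    obtain ⟨i, hi⟩ := IsPGroup.iff_card.mp P.isPGroup'
    obtain ⟨j, hj⟩ := IsPGroup.iff_card.mp P₁.isPGroup'
    rw [hi] at h1
    rw [hj] at h2
    have hc : ∀ {m : ℕ} (l : ℕ), ¬ p ∣ m → m.Coprime (p ^ l) := fun {m} l hm =>
      Nat.Coprime.pow_right l (((Fact.out : p.Prime).coprime_iff_not_dvd.mpr hm).symm)
    exact Nat.dvd_antisymm
      ((hc i hpK₁).dvd_of_dvd_mul_right (Dvd.intro _ (h2.trans h1.symm)))
      ((hc j hpK).dvd_of_dvd_mul_right (Dvd.intro _ (h1.trans h2.symm)))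
  set φ : G →* G := (MulAut.conj n).toMonoidHom with hφ
  have hφK : (K₁.map A₁.subtype).map φ = Kg := by
    refine Subgroup.eq_of_le_of_card_ge ?_ (le_of_eq ?_)
    · rintro _ ⟨x, hx, rfl⟩
      exact hnK x hx
    · rw [hK1, ← hcardK, ← hK₁1]
      exact (Subgroup.card_map_of_injective (MulAut.conj n).injective).symm
  set A₂ := A₁.map φ with hA₂
  have hA₂norm : A₂ ≤ Subgroup.normalizer (Kg : Set G) := by
    refine Coprime.le_normalizer_of_conj_mem ?_
    rintro _ ⟨a, ha, rfl⟩ x hx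
    rw [← hφK] at hx ⊢
    obtain ⟨_, ⟨k, hk, rfl⟩, rfl⟩ := hx
    refine ⟨(⟨a, ha⟩ * k * ⟨a, ha⟩⁻¹ : A₁), ⟨_, hK₁n.conj_mem k hk _, rfl⟩, ?_⟩
    simp [φ, mul_assoc]
  -- the fixed points of `Kg` in `N`
  set C := N ⊓ Subgroup.normalizer (Kg : Set G) with hCdef
  have hcent : ∀ c ∈ C, ∀ k ∈ Kg, k * c * k⁻¹ = c := by
    intro c hc k hk
    have h1 : c * k * c⁻¹ * k⁻¹ ∈ Kg :=
      Kg.mul_mem (Coprime.conj_mem_of_mem_normalizer hc.2 hk) (Kg.inv_mem hk)
    have h2 : c * k * c⁻¹ * k⁻¹ ∈ N := by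
      rw [show c * k * c⁻¹ * k⁻¹ = c * (k * c⁻¹ * k⁻¹) by group]
      exact N.mul_mem hc.1 ((inferInstance : N.Normal).conj_mem _ (N.inv_mem hc.1) k)
    have h3 := Subgroup.mem_bot.mp (hinf ▸ Subgroup.mem_inf.mpr ⟨hKA h1, h2⟩)
    have h4 : c * k = k * c := mul_inv_eq_iff_eq_mul.mp (mul_inv_eq_one.mp h3)
    rw [← h4, mul_inv_cancel_right]
  have hCbot : C = ⊥ := by
    by_contra hne
    have hPc : ∀ g : A, ∀ c ∈ C, (g : G) * c * (g : G)⁻¹ ∈ C := fun g c hc =>
      ⟨(inferInstance : N.Normal).conj_mem c hc.1 g,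
        Subgroup.mul_mem _ (Subgroup.mul_mem _ (hAnorm g.2) hc.2)
          (Subgroup.inv_mem _ (hAnorm g.2))⟩
    letI : MulAction (P : Subgroup A) C :=
      { smul := fun g c => ⟨((g : A) : G) * c * ((g : A) : G)⁻¹, hPc g c c.2⟩
        one_smul := fun c => Subtype.ext (by
          show ((1 : A) : G) * (c : G) * ((1 : A) : G)⁻¹ = c
          simp)
        mul_smul := fun g h c => Subtype.ext (by
          show (((g * h : (P : Subgroup A)) : A) : G) * (c : G) * (((g * h : (P : Subgroup A)) : A) : G)⁻¹ =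
            ((g : A) : G) * (((h : A) : G) * c * ((h : A) : G)⁻¹) * ((g : A) : G)⁻¹
          simp [mul_assoc]) }
    have hfix : (1 : C) ∈ MulAction.fixedPoints (P : Subgroup A) C := fun g => Subtype.ext (by
      show ((g : A) : G) * ((1 : C) : G) * ((g : A) : G)⁻¹ = ((1 : C) : G)
      simp)
    have hCp : IsPGroup p C := hN.to_le inf_le_left
    obtain ⟨d, hd⟩ := IsPGroup.iff_card.mp hCp
    have hd0 : d ≠ 0 := by
      rintro rfl
      rw [pow_zero] at hd
      exact hne (Subgroup.card_eq_one.mp hd)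
    obtain ⟨c, hcfix, hc1⟩ := P.isPGroup'.exists_fixed_point_of_prime_dvd_card_of_fixed_point C
      (hd ▸ dvd_pow_self p hd0) hfix
    refine hc1 (Subtype.ext (hC c c.2.1 fun a ha => ?_)).symm
    obtain ⟨⟨k, q⟩, hkq⟩ := hKP.2 ⟨a, ha⟩
    have h1 : ((q : A) : G) * (c : G) * ((q : A) : G)⁻¹ = c := congrArg Subtype.val (hcfix q)
    have h2 := hcent c c.2 (k : A) ⟨k, k.2, rfl⟩
    rw [show a = ((k : A) : G) * ((q : A) : G) from (congrArg Subtype.val hkq).symm]
    calc _ = ((k : A) : G) * (((q : A) : G) * c * ((q : A) : G)⁻¹) * ((k : A) : G)⁻¹ := by group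
      _ = c := by rw [h1, h2]
  have hle2 : A₂ ≤ A := by
    intro x hx
    obtain ⟨m, hm, a, ha, rfl⟩ := hdec x
    have : m ∈ C := ⟨hm, by
      have := Subgroup.mul_mem _ (hA₂norm hx) (Subgroup.inv_mem _ (hAnorm ha))
      simpa using this⟩
    rw [hCbot, Subgroup.mem_bot] at this
    rwa [this, one_mul]
  have heq : A₂ = A := Subgroup.eq_of_le_of_card_ge hle2 (le_of_eq (by
    rw [Subgroup.card_map_of_injective (MulAut.conj n).injective, hcardA]))
  refine ⟨n⁻¹, N.inv_mem hn, ?_⟩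
  rw [← heq, hA₂, Subgroup.map_map]
  ext x
  simp [φ, Subgroup.mem_map, mul_assoc]

end Cfsg.Agent.S4043
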