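import Cfsg.Statements.S4049
import Cfsg.Agent.Lib.Involution.BaerSuzuki
import Cfsg.Agent.Lib.Thompson.Cores

set_option autoImplicit false
open Cfsg
open scoped commutatorElement

namespace Cfsg.Agent.S4049
theorem two_dvd_relIndex {G : Type*} [Group G] [Finite G] (H : Subgroup G) {n : G}
    (hn : n ∈ Subgroup.normalizer (H : Set G)) (h2 : n * n ∈ Subgroup.centralizer (H : Set G))
    (hc : n ∉ Subgroup.centralizer (H : Set G)) :
    2 ∣ (Subgroup.centralizer (H : Set G)).relIndex (Subgroup.normalizer (H : Set G)) := by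
  set N := Subgroup.normalizer (H : Set G)
  set C := (Subgroup.centralizer (H : Set G)).subgroupOf N with hC
  haveI : C.Normal := by
    rw [hC, ← Subgroup.normalizerMonoidHom_ker]; infer_instance
  have h : orderOf (QuotientGroup.mk' C ⟨n, hn⟩) = 2 := by
    rw [orderOf_eq_prime_iff]
    refine ⟨?_, fun h1 => hc ((QuotientGroup.eq_one_iff (⟨n, hn⟩ : N)).mp h1)⟩
    rw [← map_pow]
    refine (QuotientGroup.eq_one_iff _).mpr ?_
    rw [hC, Subgroup.mem_subgroupOf]
    simpa [pow_two] using h2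
  exact h ▸ orderOf_dvd_natCard _

/-- Let G be a finite group such that N_G(H)/C_G(H) has odd order for every nontrivial subgroup H of odd order. Then the Sylow 2-subgroups of G are normal. -/
theorem result {G : Type*} [Group G] [Finite G]
    (hhom : ∀ H : Subgroup G, H ≠ ⊥ → ¬ 2 ∣ Nat.card ↥H →
        ¬ 2 ∣ (Subgroup.centralizer (H : Set G)).relIndex (Subgroup.normalizer (H : Set G))) (P : Sylow 2 G) :
    (P : Subgroup G).Normal := by
  classical
  haveI : Fact (Nat.Prime 2) := ⟨Nat.prime_two⟩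
  set O := Cfsg.pCore 2 G with hO
  have hOP : O ≤ (P : Subgroup G) := Thompson.pCore_le_sylow P
  have hOp : IsPGroup 2 O := Thompson.isPGroup_pCore
  haveI : O.Normal := inferInstance
  by_contra hP
  have hev : 2 ∣ Nat.card (G ⧸ O) := by
    by_contra h
    refine hP ?_
    have : (P : Subgroup G) = O := by
      refine le_antisymm (fun g hg => ?_) hOP
      obtain ⟨k, hk⟩ := P.isPGroup' ⟨g, hg⟩
      have h1 : orderOf ((g : G) : G ⧸ O) ∣ 2 ^ k := orderOf_dvd_of_pow_eq_one (by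
        rw [← QuotientGroup.mk_pow]; simpa using congrArg (fun x : (P : Subgroup G) => ((x : G) : G ⧸ O)) hk)
      have h2 : Nat.Coprime (2 ^ k) (Nat.card (G ⧸ O)) :=
        Nat.Coprime.pow_left k (Nat.prime_two.coprime_iff_not_dvd.mpr h)
      have h3 : orderOf ((g : G) : G ⧸ O) = 1 :=
        Nat.dvd_one.mp (h2 ▸ Nat.dvd_gcd h1 (orderOf_dvd_natCard _))
      exact (QuotientGroup.eq_one_iff g).mp (orderOf_eq_one_iff.mp h3)
    rw [this]; infer_instance
  obtain ⟨a, ha⟩ := exists_prime_orderOf_dvd_card' 2 hev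
  -- a dihedral section not a `2`-group
  obtain ⟨g, hg⟩ : ∃ g : G ⧸ O, ¬ IsPGroup 2 (Subgroup.closure ({a, g * a * g⁻¹} : Set (G ⧸ O))) := by
    by_contra h
    push Not at h
    obtain ⟨N, hN, hNp, haN⟩ := Involution.baerSuzuki a h
    have := Thompson.le_pCore hN hNp haN
    have h0 : Cfsg.pCore 2 (G ⧸ O) = ⊥ := Thompson.pCore_quotient_pCore
    rw [h0] at this
    rw [Subgroup.mem_bot.mp this, orderOf_one] at ha
    norm_num at ha
  set b := g * a * g⁻¹ with hb
  have haa : a * a = 1 := by rw [← pow_two, ← ha, pow_orderOf_eq_one]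
  have hbb : b * b = 1 := by
    rw [hb]; simp [mul_assoc, ← mul_assoc a a, haa]
  have hai : a⁻¹ = a := inv_eq_of_mul_eq_one_right haa
  have hbi : b⁻¹ = b := inv_eq_of_mul_eq_one_right hbb
  set u := a * b with hu
  have hau : a * u * a⁻¹ = u⁻¹ := by
    rw [hu, mul_inv_rev, hai, hbi, ← mul_assoc, haa, one_mul]
  -- an odd prime divisor of the order of `u`
  obtain ⟨r, hr, hr2, hru⟩ : ∃ r, r.Prime ∧ r ≠ 2 ∧ r ∣ orderOf u := by
    by_contra h
    push Not at h
    have hm0 : orderOf u ≠ 0 := (orderOf_pos u).ne'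
    obtain ⟨k, hk⟩ : ∃ k, orderOf u = 2 ^ k := ⟨_, Nat.eq_prime_pow_of_unique_prime_dvd hm0
      (fun {d} hd hdd => by_contra fun hne => h d hd hne hdd)⟩
    refine hg ?_
    have hU : IsPGroup 2 (Subgroup.zpowers u) := IsPGroup.of_card (n := k) (by rw [Nat.card_zpowers, hk])
    have hA : IsPGroup 2 (Subgroup.zpowers a) :=
      IsPGroup.of_card (n := 1) (by rw [Nat.card_zpowers, ha, pow_one])
    refine (hA.to_sup_of_normal_right' hU (Subgroup.zpowers_le.mpr ?_)).to_le ((Subgroup.closure_le _).mpr ?_)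
    · rw [Subgroup.mem_normalizer_iff]
      intro x
      have key : ∀ x ∈ Subgroup.zpowers u, a * x * a⁻¹ ∈ Subgroup.zpowers u := by
        rintro _ ⟨i, rfl⟩
        exact ⟨-i, by
          show u ^ (-i) = a * u ^ i * a⁻¹
          rw [← conj_zpow, hau, inv_zpow, zpow_neg]⟩
      refine ⟨key x, fun hx => ?_⟩
      have := key _ hx
      simpa [mul_assoc, hai, ← mul_assoc a a, haa] using this
    · intro x hx
      rcases hx with rfl | hx
      · exact Subgroup.mem_sup_left (Subgroup.mem_zpowers _)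
      · rw [Set.mem_singleton_iff.mp hx, show b = a⁻¹ * u by rw [hu, inv_mul_cancel_left]]
        exact mul_mem (Subgroup.mem_sup_left ((Subgroup.zpowers a).inv_mem (Subgroup.mem_zpowers a)))
          (Subgroup.mem_sup_right (Subgroup.mem_zpowers u))
  haveI : Fact r.Prime := ⟨hr⟩
  obtain ⟨e, he⟩ := hru
  set x' := u ^ e with hx'
  have hx'o : orderOf x' = r := by
    rw [hx', orderOf_pow_of_dvd (fun h0 => (orderOf_pos u).ne' (by rw [he, h0, mul_zero])) (Dvd.intro_left _ he.symm),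
      he, Nat.mul_div_cancel _ (Nat.pos_of_ne_zero fun h0 => (orderOf_pos u).ne' (by rw [he, h0, mul_zero]))]
  have hax' : a * x' * a⁻¹ = x'⁻¹ := by rw [hx', ← conj_pow, hau, inv_pow]
  -- lifts
  obtain ⟨t, rfl⟩ := QuotientGroup.mk_surjective a
  obtain ⟨x0, hx0⟩ := QuotientGroup.mk_surjective x'
  have hx0r : x0 ^ r ∈ O := by
    rw [← QuotientGroup.eq_one_iff, QuotientGroup.mk_pow, hx0, ← hx'o, pow_orderOf_eq_one]
  obtain ⟨k, hk⟩ := hOp ⟨_, hx0r⟩
  set x := x0 ^ (2 ^ k) with hx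
  have hcop : Nat.Coprime (2 ^ k) r := Nat.Coprime.pow_left k ((Nat.coprime_primes Nat.prime_two hr).mpr hr2.symm)
  have hxr : x ^ r = 1 := by
    rw [hx, ← pow_mul, mul_comm, pow_mul]; exact congrArg Subtype.val hk
  have hxq : ((x : G) : G ⧸ O) = x' ^ (2 ^ k) := by rw [hx, QuotientGroup.mk_pow, hx0]
  have hxo : orderOf (x : G ⧸ O) = r := by
    rw [hxq, Nat.Coprime.orderOf_pow (by rw [hx'o]; exact hcop.symm), hx'o]
  have hxne : (x : G ⧸ O) ≠ 1 := fun h => hr.ne_one (by rw [← hxo, h, orderOf_one])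
  have hxo' : orderOf x = r := orderOf_eq_prime hxr fun h => hxne (by rw [h]; rfl)
  have htx : (t : G ⧸ O) * (x : G ⧸ O) * (t : G ⧸ O)⁻¹ = (x : G ⧸ O)⁻¹ := by
    rw [hxq, ← conj_pow, hax', inv_pow]
  -- the preimage of `⟨x⟩` and its Sylow subgroups
  set L := (Subgroup.zpowers (x : G ⧸ O)).comap (QuotientGroup.mk' O) with hL
  have hxL : Subgroup.zpowers x ≤ L := Subgroup.zpowers_le.mpr (Subgroup.mem_zpowers _)
  set x2 := t * x * t⁻¹ with hx2
  have hx2L : Subgroup.zpowers x2 ≤ L := Subgroup.zpowers_le.mpr (by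
    show ((t * x * t⁻¹ : G) : G ⧸ O) ∈ Subgroup.zpowers (x : G ⧸ O)
    rw [QuotientGroup.mk_mul, QuotientGroup.mk_mul, QuotientGroup.mk_inv, htx]
    exact (Subgroup.zpowers _).inv_mem (Subgroup.mem_zpowers _))
  have hcardL : Nat.card L = Nat.card O * r := by
    have h1 := Subgroup.card_eq_card_quotient_mul_card_subgroup (O.subgroupOf L)
    have hOL : O ≤ L := fun o ho => by
      show (o : G ⧸ O) ∈ Subgroup.zpowers (x : G ⧸ O)
      rw [(QuotientGroup.eq_one_iff o).mpr ho]; exact Subgroup.one_mem _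
    rw [Nat.card_congr (Subgroup.subgroupOfEquivOfLe hOL).toEquiv] at h1
    have h2 : Nat.card (L ⧸ O.subgroupOf L) = r := by
      rw [← hxo, ← Nat.card_zpowers]
      have hmap : L.map (QuotientGroup.mk' O) = Subgroup.zpowers (x : G ⧸ O) :=
        Subgroup.map_comap_eq_self_of_surjective (QuotientGroup.mk'_surjective O) _
      have e := (QuotientGroup.quotientKerEquivRange ((QuotientGroup.mk' O).comp L.subtype)).toEquiv
      rw [← hmap]
      have hker : ((QuotientGroup.mk' O).comp L.subtype).ker = O.subgroupOf L := by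
        rw [← MonoidHom.comap_ker, QuotientGroup.ker_mk']; rfl
      have hrange : ((QuotientGroup.mk' O).comp L.subtype).range = L.map (QuotientGroup.mk' O) := by
        rw [MonoidHom.range_comp, Subgroup.range_subtype]
      rw [hker, hrange] at e
      exact Nat.card_congr e
    rw [h1, h2, mul_comm]
  obtain ⟨j, hj⟩ := IsPGroup.iff_card.mp hOp
  have hv : (Nat.card L).factorization r = 1 := by
    rw [hcardL, hj, Nat.factorization_mul (pow_ne_zero _ two_ne_zero) hr.ne_zero, Finsupp.add_apply,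
      Nat.Prime.factorization_pow Nat.prime_two, Finsupp.single_apply, if_neg hr2.symm,
      hr.factorization_self]
  have hcz : ∀ y : G, orderOf y = r → Subgroup.zpowers y ≤ L →
      Nat.card ((Subgroup.zpowers y).subgroupOf L) = r ^ (Nat.card L).factorization r := fun y hy hyL => by
    rw [Nat.card_congr (Subgroup.subgroupOfEquivOfLe hyL).toEquiv, Nat.card_zpowers, hy, hv, pow_one]
  have hx2o : orderOf x2 = r := by
    rw [hx2, show t * x * t⁻¹ = MulAut.conj t x from rfl, MulEquiv.orderOf_eq, hxo']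
  let S1 : Sylow r L := Sylow.ofCard _ (hcz x hxo' hxL)
  let S2 : Sylow r L := Sylow.ofCard _ (hcz x2 hx2o hx2L)
  obtain ⟨q, hq⟩ := MulAction.exists_smul_eq L S2 S1
  set n := (q : G) * t with hn
  have hqconj : (q : G) * x2 * (q : G)⁻¹ ∈ Subgroup.zpowers x := by
    have h : q • S2 = S1 := hq
    have hmem : MulAut.conj q • (⟨x2, hx2L (Subgroup.mem_zpowers x2)⟩ : L) ∈
        (q • S2 : Sylow r L) :=
      Subgroup.smul_mem_pointwise_smul _ _ _ (show (⟨x2, _⟩ : L) ∈ (Subgroup.zpowers x2).subgroupOf L from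
        Subgroup.mem_zpowers x2)
    rw [h] at hmem
    exact hmem
  have hnx : n * x * n⁻¹ = x⁻¹ := by
    have hnm : n * x * n⁻¹ ∈ Subgroup.zpowers x := by
      rw [hn, mul_inv_rev]
      simpa [hx2, mul_assoc] using hqconj
    obtain ⟨i, hi⟩ := hnm
    have hqc : Commute (q : G ⧸ O) (x : G ⧸ O)⁻¹ := by
      obtain ⟨l, hl⟩ := (q.2 : ((q : G) : G ⧸ O) ∈ Subgroup.zpowers (x : G ⧸ O))
      change (x : G ⧸ O) ^ l = (((q : L) : G) : G ⧸ O) at hl
      rw [← hl]
      exact ((Commute.refl (x : G ⧸ O)).inv_right).zpow_left l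
    have h1 : (x : G ⧸ O) ^ i = (x : G ⧸ O) ^ (-1 : ℤ) := by
      rw [← QuotientGroup.mk_zpow, show x ^ i = n * x * n⁻¹ from hi, zpow_neg_one, hn]
      simp only [QuotientGroup.mk_mul, QuotientGroup.mk_inv, mul_inv_rev]
      calc (q : G ⧸ O) * t * x * ((t : G ⧸ O)⁻¹ * (q : G ⧸ O)⁻¹)
          = q * ((t : G ⧸ O) * x * (t : G ⧸ O)⁻¹) * (q : G ⧸ O)⁻¹ := by group
        _ = (x : G ⧸ O)⁻¹ := by rw [htx, hqc.eq, mul_inv_cancel_right]
    have h2 := zpow_eq_zpow_iff_modEq.mp h1
    rw [hxo, ← hxo'] at h2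
    rw [← show x ^ i = n * x * n⁻¹ from hi, zpow_eq_zpow_iff_modEq.mpr h2, zpow_neg_one]
  set H := Subgroup.zpowers x with hH
  refine hhom H (fun h => hxne ?_) ?_ (two_dvd_relIndex H (n := n) ?_ ?_ ?_)
  · rw [Subgroup.zpowers_eq_bot] at h; rw [h]; rfl
  · rw [hH, Nat.card_zpowers, hxo']
    exact fun h => hr2 ((Nat.prime_dvd_prime_iff_eq Nat.prime_two hr).mp h).symm
  · have key : ∀ y : G, ∀ i : ℤ, y = x ^ i → n * y * n⁻¹ = x ^ (-i) := by
      rintro _ i rfl
      rw [← conj_zpow, hnx, inv_zpow, zpow_neg]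
    rw [Subgroup.mem_normalizer_iff]
    refine fun y => ⟨fun ⟨i, hi⟩ => ⟨-i, (key y i hi.symm).symm⟩, fun ⟨i, hi⟩ => ⟨-i, ?_⟩⟩
    have h := key (x ^ (-i)) (-i) rfl
    rw [neg_neg, show x ^ i = n * y * n⁻¹ from hi] at h
    exact mul_left_cancel (mul_right_cancel h)
  · rw [Subgroup.mem_centralizer_iff]
    rintro _ ⟨i, rfl⟩
    have h1 : n * n * x * (n * n)⁻¹ = x := by
      calc n * n * x * (n * n)⁻¹ = n * (n * x * n⁻¹) * n⁻¹ := by group
        _ = (n * x * n⁻¹)⁻¹ := by rw [hnx, ← conj_inv, hnx]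
        _ = x := by rw [hnx, inv_inv]
    exact ((show Commute x (n * n) from (mul_inv_eq_iff_eq_mul.mp h1).symm).zpow_left i).eq
  · intro h
    have hc := Subgroup.mem_centralizer_iff.mp h x (Subgroup.mem_zpowers x)
    rw [← hc, mul_inv_cancel_right] at hnx
    have h2 : x ^ 2 = 1 := by rw [pow_two]; exact eq_inv_iff_mul_eq_one.mp hnx
    have := orderOf_dvd_of_pow_eq_one h2
    rw [hxo'] at this
    exact hr2 ((Nat.prime_dvd_prime_iff_eq hr Nat.prime_two).mp this)

end Cfsg.Agent.S4049
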