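import Cfsg.Statements.S4056
import Cfsg.Agent.FGS77.Basic

set_option autoImplicit false
open Cfsg
open scoped commutatorElement

namespace Cfsg.Agent.S4056

/-- In a finite 2-group of nilpotency class at most 2 and exponent dividing 4, the Frattini subgroup lies in the centre and is elementary abelian. -/
theorem result {P : Type*} [Group P] [Finite P] (hP : IsPGroup 2 P)
    (hcl : Group.nilpotencyClass P ≤ 2) (hexp : Monoid.exponent P ∣ 4) :
    frattini P ≤ Subgroup.center P ∧ Cfsg.IsElementaryAbelian 2 (frattini P) := by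
  haveI : Group.IsNilpotent P := hP.isNilpotent
  have hcl2 : Subgroup.lowerCentralSeries (⊤ : Subgroup P) 2 = ⊥ :=
    Subgroup.lowerCentralSeries_eq_bot_iff_nilpotencyClass_le.mpr hcl
  have hc : ∀ x y : P, ⁅x, y⁆ ∈ Subgroup.center P := by
    intro x y
    rw [Subgroup.mem_center_iff]
    intro z
    have h1 : ⁅⁅x, y⁆, z⁆ = 1 := by
      rw [← Subgroup.mem_bot, ← hcl2]
      exact Subgroup.commutator_mem_commutator
        (Subgroup.commutator_mem_commutator (Subgroup.mem_top x) (Subgroup.mem_top y))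
        (Subgroup.mem_top z)
    exact (commutatorElement_eq_one_iff_mul_comm.mp h1).symm
  have h4 : ∀ x : P, x ^ 4 = 1 := fun x => Monoid.exponent_dvd_iff_forall_pow_eq_one.mp hexp x
  have hsq : ∀ x y : P, ⁅x, y⁆ ^ 2 = 1 := by
    intro x y
    have hyx : y * x = ⁅y, x⁆ * (x * y) := by group
    have key : ∀ n : ℕ, (x * y) ^ n = x ^ n * y ^ n * ⁅y, x⁆ ^ (n.choose 2) := by
      intro n
      have hz := Subgroup.mem_center_iff.mp (hc y x)
      have hyn : ∀ m : ℕ, y ^ m * x = x * y ^ m * ⁅y, x⁆ ^ m := by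
        intro m
        induction m with
        | zero => simp
        | succ m ih =>
          calc y ^ (m + 1) * x = y * (y ^ m * x) := by rw [pow_succ', mul_assoc]
            _ = (y * x) * y ^ m * ⁅y, x⁆ ^ m := by rw [ih]; simp [mul_assoc]
            _ = x * (y * y ^ m) * (⁅y, x⁆ * ⁅y, x⁆ ^ m) := by
              rw [hyx, ← hz (x * y)]
              simp only [mul_assoc]
              rw [← mul_assoc ⁅y, x⁆, ← hz (y ^ m), mul_assoc]
            _ = x * y ^ (m + 1) * ⁅y, x⁆ ^ (m + 1) := by rw [← pow_succ', ← pow_succ']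
      induction n with
      | zero => simp
      | succ n ih =>
        have hzp : ∀ (a : P) (j : ℕ), Commute a (⁅y, x⁆ ^ j) := fun a j =>
          Commute.pow_right (hz a) j
        calc (x * y) ^ (n + 1) = x ^ n * y ^ n * ⁅y, x⁆ ^ (n.choose 2) * (x * y) := by
              rw [pow_succ, ih]
          _ = x ^ n * (y ^ n * x) * y * ⁅y, x⁆ ^ (n.choose 2) := by
              rw [mul_assoc _ (⁅y, x⁆ ^ _) (x * y), ← (hzp (x * y) _).eq]
              simp [mul_assoc]
          _ = x ^ n * x * (y ^ n * y) * (⁅y, x⁆ ^ n * ⁅y, x⁆ ^ (n.choose 2)) := by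
              rw [hyn]
              simp only [mul_assoc]
              rw [← mul_assoc (⁅y, x⁆ ^ n) y, ← (hzp y n).eq, mul_assoc]
          _ = _ := by
              rw [← pow_succ, ← pow_succ, ← pow_add, Nat.choose_succ_succ' n 1, Nat.choose_one_right]
    have h := key 4
    rw [h4, h4, h4, one_mul, one_mul] at h
    have h6 : ⁅y, x⁆ ^ 6 = 1 := by simpa [Nat.choose] using h.symm
    have h2 : ⁅y, x⁆ ^ 2 = 1 := by
      have h' : ⁅y, x⁆ ^ 4 * ⁅y, x⁆ ^ 2 = 1 := by rw [← pow_add]; exact h6
      rwa [h4, one_mul] at h'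
    rw [← commutatorElement_inv y x, inv_pow, h2, inv_one]
  have hsqc : ∀ x : P, x ^ 2 ∈ Subgroup.center P := by
    intro x
    rw [Subgroup.mem_center_iff]
    intro y
    have hz := Subgroup.mem_center_iff.mp (hc x y)
    have h1 : x * y = ⁅x, y⁆ * y * x := by group
    have h2 : x * x * y = (⁅x, y⁆ * ⁅x, y⁆) * y * (x * x) := by
      calc x * x * y = x * (x * y) := by rw [mul_assoc]
        _ = (x * ⁅x, y⁆) * y * x := by conv_lhs => rw [h1]
                                       simp [mul_assoc]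
        _ = ⁅x, y⁆ * (x * y) * x := by rw [hz x]; simp [mul_assoc]
        _ = _ := by rw [h1]; simp [mul_assoc]
    rw [← pow_two, ← pow_two, hsq, one_mul] at h2
    exact h2.symm
  let K : Subgroup P :=
    { carrier := {a | a ∈ Subgroup.center P ∧ a ^ 2 = 1}
      one_mem' := ⟨Subgroup.one_mem _, one_pow 2⟩
      mul_mem' := fun {a b} ha hb => ⟨Subgroup.mul_mem _ ha.1 hb.1, by
        rw [Commute.mul_pow (Subgroup.mem_center_iff.mp hb.1 a), ha.2, hb.2, one_mul]⟩
      inv_mem' := fun {a} ha => ⟨Subgroup.inv_mem _ ha.1, by rw [inv_pow, ha.2, inv_one]⟩ }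
  have hle : frattini P ≤ K := FGS77.frattini_le_of_comm_pow (p := 2)
    (fun x y => ⟨hc x y, hsq x y⟩) (fun x => ⟨hsqc x, by rw [← pow_mul]; exact h4 x⟩)
  exact ⟨hle.trans fun a ha => ha.1,
    ⟨⟨fun a b => Subtype.ext (Subgroup.mem_center_iff.mp (hle b.2).1 a)⟩⟩, fun a ha => (hle ha).2⟩

end Cfsg.Agent.S4056
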