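import Cfsg.Statements.S4059
import Cfsg.Agent.FGS77.Basic

set_option autoImplicit false
open Cfsg
open scoped commutatorElement

namespace Cfsg.Agent.S4059

/-- Let G be a finite group in which every element is conjugate to its inverse. Then: every non-identity element commuting with all elements of some Sylow 2-subgroup is an involution; the centre of G is an elementary abelian 2-group; the commutator quotient G/G' is an elementary abelian 2-group; and G is generated by its 2-elements. -/
theorem result {G : Type*} [Group G] [Finite G] (hamb : ∀ x : G, IsConj x x⁻¹) :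
    (∀ (S : Sylow 2 G) (x : G), x ∈ Subgroup.centralizer ((S : Subgroup G) : Set G) → x ≠ 1 → orderOf x = 2) ∧
    (∀ z : G, z ∈ Subgroup.center G → z ^ 2 = 1) ∧
    (∀ x : G, x ^ 2 ∈ commutator G) ∧
    Subgroup.closure {x : G | ∃ k : ℕ, orderOf x = 2 ^ k} = ⊤ := by
  haveI : Fact (Nat.Prime 2) := ⟨Nat.prime_two⟩
  refine ⟨fun S x hx hx1 => orderOf_eq_prime
    (FGS77.sq_eq_one_of_real_of_centralizes_sylow S (hamb x) hx) hx1, ?_, ?_, ?_⟩
  · intro z hz
    obtain ⟨g, hg⟩ := isConj_iff.mp (hamb z)
    rw [Subgroup.mem_center_iff.mp hz g, mul_inv_cancel_right] at hg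
    rw [pow_two]
    exact eq_inv_iff_mul_eq_one.mp hg
  · intro x
    obtain ⟨g, hg⟩ := isConj_iff.mp (hamb x)
    have : x ^ 2 = ⁅x, g⁆ := by
      rw [pow_two, commutatorElement_def, show x * g * x⁻¹ * g⁻¹ = x * (g * x * g⁻¹)⁻¹ by group,
        hg, inv_inv]
    rw [this]
    exact Subgroup.commutator_mem_commutator (Subgroup.mem_top x) (Subgroup.mem_top g)
  · set T := Subgroup.closure {x : G | ∃ k : ℕ, orderOf x = 2 ^ k} with hT
    rw [eq_top_iff]
    intro x _
    haveI : T.Normal := by
      rw [hT]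
      refine ⟨fun a ha g => ?_⟩
      have hle : Subgroup.closure {x : G | ∃ k : ℕ, orderOf x = 2 ^ k} ≤
          (Subgroup.closure {x : G | ∃ k : ℕ, orderOf x = 2 ^ k}).comap
            (MulAut.conj g).toMonoidHom := by
        rw [Subgroup.closure_le]
        rintro y ⟨k, hk⟩
        refine Subgroup.subset_closure ⟨k, ?_⟩
        rw [MulEquiv.coe_toMonoidHom, MulEquiv.orderOf_eq, hk]
      exact hle ha
    by_contra hxT
    obtain ⟨g, hg⟩ := isConj_iff.mp (hamb x)
    -- in the quotient of odd order every element is real, hence trivial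
    have hodd : ∀ v : G ⧸ T, ∀ k : ℕ, orderOf v = 2 ^ k → v = 1 := by
      intro v k hk
      induction v using QuotientGroup.induction_on with
      | H y =>
        obtain ⟨m, j, hm, hj⟩ := FGS77.exists_pow_pPart 2 y
        have hym : ((y : G) : G ⧸ T) ^ m = 1 := by
          rw [← QuotientGroup.mk_pow, QuotientGroup.eq_one_iff]
          exact Subgroup.subset_closure ⟨j, hj⟩
        have hdvd : orderOf (y : G ⧸ T) ∣ m := orderOf_dvd_of_pow_eq_one hym
        rw [hk] at hdvd
        rcases Nat.eq_zero_or_pos k with rfl | hkpos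
        · rw [pow_zero, orderOf_eq_one_iff] at hk; exact hk
        · exact absurd ((dvd_pow_self 2 hkpos.ne').trans hdvd) hm
    obtain ⟨m, j, hm, hj⟩ := FGS77.exists_pow_pPart 2 g
    have hgm : ((g : G) : G ⧸ T) ^ m = 1 := by
      rw [← QuotientGroup.mk_pow, QuotientGroup.eq_one_iff]
      exact Subgroup.subset_closure ⟨j, hj⟩
    have hinv : ((g : G) : G ⧸ T) * (x : G ⧸ T) * ((g : G) : G ⧸ T)⁻¹ = (x : G ⧸ T)⁻¹ := by
      rw [← QuotientGroup.mk_inv, ← QuotientGroup.mk_inv, ← QuotientGroup.mk_mul,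
        ← QuotientGroup.mk_mul, hg]
    have h2 := FGS77.odd_pow_inverts hinv (n := m) (Nat.odd_iff.mpr (by omega))
    rw [hgm, inv_one, one_mul, mul_one] at h2
    have hx2 : (x : G ⧸ T) ^ 2 = 1 := by rw [pow_two]; exact eq_inv_iff_mul_eq_one.mp h2
    obtain ⟨k, _, hk⟩ := (Nat.dvd_prime_pow Nat.prime_two (m := 1) (i := orderOf (x : G ⧸ T))).mp
      (by rw [pow_one]; exact orderOf_dvd_of_pow_eq_one hx2)
    exact hxT ((QuotientGroup.eq_one_iff x).mp (hodd _ k hk))

end Cfsg.Agent.S4059
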