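import Cfsg.Statements.S4060
import Cfsg.Agent.FGS77.Basic
import Cfsg.Agent.Lib.Solvable.Basic

set_option autoImplicit false
open Cfsg
open scoped commutatorElement

namespace Cfsg.Agent.S4060

/-- Induction step of `result`. -/
theorem aux : ∀ (n : ℕ) {G : Type*} [Group G] [Finite G] [Group.IsSolvable G],
    Nat.card G ≤ n → ∀ (S : Sylow 2 G) (x : G), x ≠ 1 → Odd (orderOf x) →
    x ∈ Subgroup.normalizer ((S : Subgroup G) : Set G) → ¬ IsConj x x⁻¹ := by
  intro n
  induction n with
  | zero => intro G _ _ _ h; exact absurd Nat.card_pos (Nat.not_lt.mpr h)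
  | succ n ih =>
    intro G _ _ _ hcard S x hx hodd hnorm hr
    haveI : Fact (Nat.Prime 2) := ⟨Nat.prime_two⟩
    haveI : Nontrivial G := ⟨x, 1, hx⟩
    obtain ⟨M, r, hMn, hMne, -, hr', hMp, -, -, d, -, hd⟩ :=
      Solvable.exists_minimal_normal_elementary G
    haveI := hMn
    by_cases hxM : x ∈ M
    · have hrodd : r ≠ 2 := by
        rintro rfl
        obtain ⟨i, hi⟩ := IsPGroup.iff_orderOf.mp hMp ⟨x, hxM⟩
        rw [← Subgroup.orderOf_coe] at hi
        rw [hi] at hodd
        rcases Nat.eq_zero_or_pos i with rfl | hi0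
        · exact hx (orderOf_eq_one_iff.mp (by simpa using hi))
        · rw [Nat.odd_iff, Nat.pow_mod] at hodd
          simp [hi0.ne'] at hodd
      have hinf : (S : Subgroup G) ⊓ M = ⊥ := by
        haveI : Fact r.Prime := ⟨hr'⟩
        exact disjoint_iff.mp (IsPGroup.disjoint_of_ne 2 r (Ne.symm hrodd) _ _ S.isPGroup' hMp)
      have hcen : x ∈ Subgroup.centralizer ((S : Subgroup G) : Set G) := by
        rw [Subgroup.mem_centralizer_iff]
        intro s hs
        have h1 : s * x * s⁻¹ * x⁻¹ ∈ (S : Subgroup G) := by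
          rw [show s * x * s⁻¹ * x⁻¹ = s * (x * s⁻¹ * x⁻¹) by group]
          exact Subgroup.mul_mem _ hs ((Subgroup.mem_normalizer_iff.mp hnorm s⁻¹).mp
            (Subgroup.inv_mem _ hs))
        have h2 : s * x * s⁻¹ * x⁻¹ ∈ M := M.mul_mem (hMn.conj_mem x hxM s) (M.inv_mem hxM)
        have h3 : s * x * s⁻¹ * x⁻¹ = 1 := Subgroup.mem_bot.mp (hinf ▸ Subgroup.mem_inf.mpr ⟨h1, h2⟩)
        exact mul_inv_eq_iff_eq_mul.mp (mul_inv_eq_one.mp h3)
      have h2 := FGS77.sq_eq_one_of_real_of_centralizes_sylow S hr hcen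
      rcases (Nat.dvd_prime Nat.prime_two).mp (orderOf_dvd_of_pow_eq_one h2) with h | h
      · exact hx (orderOf_eq_one_iff.mp h)
      · rw [h] at hodd; exact absurd hodd (by decide)
    · have hlt : Nat.card (G ⧸ M) ≤ n := by
        have h1 := Subgroup.card_eq_card_quotient_mul_card_subgroup M
        have h2 : 1 < Nat.card M := M.one_lt_card_iff_ne_bot.mpr hMne
        have h3 : Nat.card (G ⧸ M) < Nat.card G := by
          rw [h1]; exact lt_mul_of_one_lt_right Nat.card_pos h2
        omega
      refine ih hlt (S.mapSurjective (QuotientGroup.mk'_surjective M)) (x : G ⧸ M)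
        (fun h => hxM ((QuotientGroup.eq_one_iff x).mp h)) ?_ ?_ ?_
      · exact hodd.of_dvd_nat (orderOf_map_dvd (QuotientGroup.mk' M) x)
      · rw [Sylow.coe_mapSurjective]
        exact Subgroup.le_normalizer_map _ (Subgroup.mem_map_of_mem _ hnorm)
      · have := MonoidHom.map_isConj (QuotientGroup.mk' M) hr
        simpa using this


/-- Let G be a finite solvable group with Sylow 2-subgroup S, and let x ≠ 1 be an element of odd order normalizing S. Then x is not conjugate to its inverse in G. -/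
theorem result {G : Type*} [Group G] [Finite G] [Group.IsSolvable G]
    (S : Sylow 2 G) (x : G) (hx : x ≠ 1) (hodd : Odd (orderOf x))
    (hnorm : x ∈ Subgroup.normalizer ((S : Subgroup G) : Set G)) : ¬ IsConj x x⁻¹ := by
  exact aux _ le_rfl S x hx hodd hnorm

end Cfsg.Agent.S4060
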