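import Cfsg.Statements.S4062
import Cfsg.Agent.FGS77.AmbivalentSolvable

set_option autoImplicit false
open Cfsg
open scoped commutatorElement

namespace Cfsg.Agent.S4062

/-- A finite solvable group in which any two elements of the same order are conjugate has order 1 or 2 or is isomorphic to the symmetric group of degree 3. -/
theorem result {G : Type*} [Group G] [Finite G] [Group.IsSolvable G]
    (h : ∀ x y : G, orderOf x = orderOf y → IsConj x y) :
    Nat.card G = 1 ∨ Nat.card G = 2 ∨ Nonempty (G ≃* Equiv.Perm (Fin 3)) := by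
  classical
  haveI : Fact (Nat.Prime 2) := ⟨Nat.prime_two⟩
  have hamb : ∀ x : G, IsConj x x⁻¹ := fun x => h x x⁻¹ (orderOf_inv x).symm
  have hone : ∀ s t : G, orderOf s = 2 → orderOf t = 2 → IsConj s t := fun s t hs ht => h s t (hs.trans ht.symm)
  by_cases heven : 2 ∣ Nat.card G
  swap
  · left
    exact Nat.card_eq_one_iff_unique.mpr ⟨⟨fun a b => (FGS77.eq_one_of_real_of_odd hamb heven a).trans
      (FGS77.eq_one_of_real_of_odd hamb heven b).symm⟩, ⟨1⟩⟩
  obtain ⟨S⟩ : Nonempty (Sylow 2 G) := inferInstance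
  rcases FGS77.sylow_two_or_quaternion hamb heven hone S with hS | ⟨n, ⟨e⟩⟩
  · obtain ⟨hc, -, hinv⟩ := FGS77.oddCore_of_card_two hamb S hS
    set O := Cfsg.pPrimeCore 2 G
    have hOc : (Nat.card O).Coprime 2 := Thompson.card_pPrimeCore_coprime
    obtain ⟨⟨t, ht⟩, ht1⟩ := exists_prime_orderOf_dvd_card' (G := (S : Subgroup G)) 2 (by rw [hS])
    have ht1' : t ≠ 1 := fun h => by
      subst h
      rw [← Subgroup.orderOf_coe, orderOf_one] at ht1
      norm_num at ht1
    have hti : ∀ x ∈ O, t * x * t⁻¹ = x⁻¹ := hinv t ht ht1'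
    have hcomm : ∀ x ∈ O, ∀ y ∈ O, x * y = y * x := by
      intro x hx y hy
      have h1 := hti _ (O.mul_mem hx hy)
      rw [show t * (x * y) * t⁻¹ = (t * x * t⁻¹) * (t * y * t⁻¹) by group, hti x hx, hti y hy,
        ← mul_inv_rev, inv_inj] at h1
      exact h1.symm
    -- conjugates of `x ∈ O` are `x` and `x⁻¹`
    have hcl : ∀ x ∈ O, ∀ y ∈ O, orderOf x = orderOf y → y = x ∨ y = x⁻¹ := by
      intro x hx y hy hxy
      obtain ⟨g, rfl⟩ := isConj_iff.mp (h x y hxy)
      obtain ⟨⟨⟨s, hs⟩, ⟨o, ho⟩⟩, hso⟩ := hc.2 g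
      have hg : g = s * o := hso.symm
      have h1 : g * x * g⁻¹ = s * x * s⁻¹ := by
        rw [hg, show s * o * x * (s * o)⁻¹ = s * (o * x * o⁻¹) * s⁻¹ by group, hcomm o ho x hx,
          mul_inv_cancel_right]
      rcases eq_or_ne s 1 with rfl | hs1
      · left; rw [h1]; simp
      · right; rw [h1, hinv s hs hs1 x hx]
    have hmul : Nat.card G = 2 * Nat.card O := by rw [← hS]; exact hc.card_mul.symm
    rcases eq_or_ne O ⊥ with hO | hO
    · right; left
      rw [hmul, hO, Subgroup.card_bot, mul_one]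
    right; right
    obtain ⟨x, hx, hx1⟩ := (Subgroup.bot_or_exists_ne_one O).resolve_left hO
    have hodd : ¬ 2 ∣ orderOf x := fun hd => Nat.prime_two.coprime_iff_not_dvd.mp hOc.symm
      (hd.trans (Subgroup.orderOf_dvd_natCard O hx))
    have hthree : ∀ y ∈ O, y ≠ 1 → orderOf y = 3 := by
      intro y hy hy1
      have hyodd : ¬ 2 ∣ orderOf y := fun hd => Nat.prime_two.coprime_iff_not_dvd.mp hOc.symm
        (hd.trans (Subgroup.orderOf_dvd_natCard O hy))
      have h2 : orderOf (y ^ 2) = orderOf y :=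
        Nat.Coprime.orderOf_pow (Nat.prime_two.coprime_iff_not_dvd.mpr hyodd).symm
      rcases hcl y hy _ (O.pow_mem hy 2) h2.symm with h3 | h3
      · exact absurd (by rw [pow_two] at h3; exact mul_eq_left.mp h3) hy1
      · exact orderOf_eq_prime (by rw [pow_succ, h3, inv_mul_cancel]) hy1
    have hsub : (Set.univ : Set O) ⊆ {1, ⟨x, hx⟩, ⟨x, hx⟩⁻¹} := by
      rintro ⟨y, hy⟩ -
      by_cases hy1 : y = 1
      · exact Or.inl (Subtype.ext hy1)
      · rcases hcl x hx y hy ((hthree x hx hx1).trans (hthree y hy hy1).symm) with e | e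
        · exact Or.inr (Or.inl (Subtype.ext e))
        · exact Or.inr (Or.inr (Subtype.ext e))
    have hO3 : Nat.card O = 3 := by
      refine le_antisymm ?_ (Nat.le_of_dvd Nat.card_pos (by
        rw [← hthree x hx hx1]; exact Subgroup.orderOf_dvd_natCard O hx))
      rw [← Set.ncard_univ]
      refine (Set.ncard_le_ncard hsub (Set.toFinite _)).trans ?_
      exact (Set.ncard_insert_le _ _).trans (Nat.succ_le_succ
        ((Set.ncard_insert_le _ _).trans (by rw [Set.ncard_singleton])))
    have hcard : Nat.card G = 6 := by rw [hmul, hO3]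
    have hidx : (S : Subgroup G).index = 3 := by
      have := (S : Subgroup G).card_mul_index
      rw [hcard] at this
      have h2 : Nat.card (S : Subgroup G) = 2 := hS
      rw [h2] at this
      omega
    let f : G →* Equiv.Perm (G ⧸ (S : Subgroup G)) := MulAction.toPermHom G (G ⧸ (S : Subgroup G))
    have hker : f.ker = ⊥ := by
      rw [← Subgroup.normalCore_eq_ker, Subgroup.eq_bot_iff_forall]
      intro y hy
      by_contra hy1
      have hyS := (S : Subgroup G).normalCore_le hy
      have h2 : x * y * x⁻¹ ∈ (S : Subgroup G) :=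
        (S : Subgroup G).normalCore_le (Subgroup.Normal.conj_mem inferInstance y hy x)
      have h3 : x * (y * x⁻¹ * y⁻¹) ∈ (S : Subgroup G) ⊓ O := by
        refine ⟨?_, ?_⟩
        · rw [show x * (y * x⁻¹ * y⁻¹) = x * y * x⁻¹ * y⁻¹ by group]
          exact (S : Subgroup G).mul_mem h2 ((S : Subgroup G).inv_mem hyS)
        · exact O.mul_mem hx (Subgroup.Normal.conj_mem inferInstance _ (O.inv_mem hx) y)
      rw [hc.disjoint.eq_bot, Subgroup.mem_bot, hinv y hyS hy1 _ (O.inv_mem hx), inv_inv] at h3
      refine hodd ?_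
      rw [orderOf_eq_prime (show x ^ 2 = 1 by rw [pow_two]; exact h3) hx1]
    haveI : Finite (G ⧸ (S : Subgroup G)) := Quotient.finite _
    letI : Fintype (G ⧸ (S : Subgroup G)) := Fintype.ofFinite _
    have hc3 : Fintype.card (G ⧸ (S : Subgroup G)) = 3 := by rw [← Nat.card_eq_fintype_card]; exact hidx
    have hbij : Function.Bijective f := by
      letI : Fintype G := Fintype.ofFinite G
      refine (Fintype.bijective_iff_injective_and_card f).mpr ⟨(MonoidHom.ker_eq_bot_iff f).mp hker, ?_⟩
      rw [Fintype.card_perm, hc3, ← Nat.card_eq_fintype_card, hcard]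
      rfl
    exact ⟨(MulEquiv.ofBijective f hbij).trans (Fintype.equivFinOfCardEq hc3).permCongrHom⟩
  · exfalso
    set m := 2 ^ (n + 1) with hm
    haveI : NeZero m := ⟨by rw [hm]; exact pow_ne_zero _ two_ne_zero⟩
    haveI : Nontrivial G := by
      obtain ⟨g, hg⟩ := exists_prime_orderOf_dvd_card' 2 heven
      exact nontrivial_of_ne g 1 fun h' => by rw [h', orderOf_one] at hg; norm_num at hg
    have hlt := Group.IsSolvable.commutator_lt_top_of_nontrivial G
    set φ := QuotientGroup.mk' (commutator G)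
    have hconj : ∀ a b : G, IsConj a b → φ a = φ b := by
      intro a b hab
      obtain ⟨c, rfl⟩ := isConj_iff.mp hab
      rw [map_mul, map_mul, map_inv]
      have hcm : φ c * φ a = φ a * φ c := by
        rw [← commutatorElement_eq_one_iff_mul_comm, ← map_commutatorElement]
        exact (QuotientGroup.eq_one_iff _).mpr
          (commutator_def G ▸ Subgroup.commutator_mem_commutator (Subgroup.mem_top c) (Subgroup.mem_top a))
      rw [hcm, mul_inv_cancel_right]
    have hexp : ∀ a : G ⧸ commutator G, a ^ 2 = 1 := by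
      intro a
      obtain ⟨g, rfl⟩ := QuotientGroup.mk'_surjective _ a
      rw [pow_two]
      nth_rewrite 2 [show φ g = φ g⁻¹ from hconj g g⁻¹ (hamb g)]
      rw [map_inv, mul_inv_cancel]
    set ψ : QuaternionGroup m →* G ⧸ commutator G :=
      φ.comp ((S : Subgroup G).subtype.comp e.symm.toMonoidHom)
    have hord : ∀ u v : QuaternionGroup m, orderOf u = orderOf v → ψ u = ψ v := by
      intro u v huv
      refine hconj _ _ (h _ _ ?_)
      show orderOf ((S : Subgroup G).subtype (e.symm u)) = orderOf ((S : Subgroup G).subtype (e.symm v))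
      rw [orderOf_injective _ (S : Subgroup G).subtype_injective,
        orderOf_injective _ (S : Subgroup G).subtype_injective, e.symm.orderOf_eq, e.symm.orderOf_eq, huv]
    set c := ψ (QuaternionGroup.xa 0) with hc
    have hxa : ∀ i, ψ (QuaternionGroup.xa i) = c := fun i =>
      hord _ _ ((QuaternionGroup.orderOf_xa i).trans (QuaternionGroup.orderOf_xa 0).symm)
    have ha : ∀ i, ψ (QuaternionGroup.a i) = 1 := by
      intro i
      have h1 : QuaternionGroup.xa 0 * QuaternionGroup.xa (i - (m : ZMod (2 * m))) =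
          (QuaternionGroup.a i : QuaternionGroup m) := by
        rw [QuaternionGroup.xa_mul_xa]; congr 1; ring
      rw [← h1, map_mul, hxa, hxa, ← pow_two]
      exact hexp c
    have hc1 : c = 1 := by
      have h4 : orderOf (QuaternionGroup.a ((2 ^ n : ℕ) : ZMod (2 * m)) : QuaternionGroup m) = 4 := by
        have hm2 : (2 ^ n : ℕ) + 2 ^ n = m := by rw [hm, pow_succ]; ring
        have hp : (QuaternionGroup.a ((2 ^ n : ℕ) : ZMod (2 * m)) : QuaternionGroup m) ^ 2 =
            QuaternionGroup.a ((m : ℕ) : ZMod (2 * m)) := by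
          rw [pow_two, QuaternionGroup.a_mul_a, ← Nat.cast_add, hm2]
        refine orderOf_eq_prime_pow (p := 2) (n := 1) ?_ ?_
        · rw [pow_one, hp, QuaternionGroup.one_def]
          intro h'
          have h'' := QuaternionGroup.a.inj h'
          rw [ZMod.natCast_eq_zero_iff] at h''
          have := Nat.le_of_dvd (NeZero.pos m) h''
          have := NeZero.pos m
          omega
        · rw [show (2 : ℕ) ^ (1 + 1) = 2 * 2 from rfl, pow_mul, hp, pow_two, QuaternionGroup.a_mul_a,
            ← Nat.cast_add, ← two_mul, ZMod.natCast_self, QuaternionGroup.a_zero]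
      rw [hc, hord _ _ ((QuaternionGroup.orderOf_xa 0).trans h4.symm), ha]
    have htriv : ∀ u, ψ u = 1 := by
      rintro (i | i)
      · exact ha i
      · rw [hxa, hc1]
    -- `S` covers `G / G'`
    have hidx : Nat.Coprime ((S : Subgroup G).index) (Nat.card (G ⧸ commutator G)) := by
      have hp : IsPGroup 2 (G ⧸ commutator G) := fun a => ⟨1, by rw [pow_one]; exact hexp a⟩
      obtain ⟨k, hk⟩ := IsPGroup.iff_card.mp hp
      rw [hk]
      exact Nat.Coprime.pow_right k (Nat.prime_two.coprime_iff_not_dvd.mpr S.not_dvd_index).symm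
    have hmap : (S : Subgroup G).map φ = ⊤ := by
      rw [← Subgroup.index_eq_one]
      exact Nat.eq_one_of_dvd_coprimes hidx
        (Subgroup.index_map_dvd _ (QuotientGroup.mk'_surjective _)) (Subgroup.index_dvd_card _)
    refine hlt.ne ((Subgroup.eq_top_iff' _).mpr fun g => (QuotientGroup.eq_one_iff g).mp ?_)
    obtain ⟨s, hs, hsg⟩ := (hmap ▸ Subgroup.mem_top (φ g) : φ g ∈ (S : Subgroup G).map φ)
    have := htriv (e ⟨s, hs⟩)
    show φ g = 1
    rw [← hsg, ← this]
    show φ s = φ ((S : Subgroup G).subtype (e.symm (e ⟨s, hs⟩)))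
    rw [e.symm_apply_apply]
    rfl

end Cfsg.Agent.S4062
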