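import Cfsg.Statements.S4065

set_option autoImplicit false
open Cfsg
open scoped commutatorElement

namespace Cfsg.Agent.S4065
theorem eq_smul_add_smul {K : Type*} [Field K] (X Y : Matrix (Fin 2) (Fin 2) K)
    (hX : ∀ r : K, X ≠ r • (1 : Matrix (Fin 2) (Fin 2) K)) (h : X * Y = Y * X) :
    ∃ t s : K, Y = t • X + s • 1 := by
  have e00 := congrFun (congrFun h 0) 0
  have e01 := congrFun (congrFun h 0) 1
  have e10 := congrFun (congrFun h 1) 0
  simp only [Matrix.mul_apply, Fin.sum_univ_two] at e00 e01 e10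
  by_cases hb : X 0 1 = 0
  · by_cases hc : X 1 0 = 0
    · have had : X 0 0 - X 1 1 ≠ 0 := by
        intro h0
        refine hX (X 0 0) ?_
        ext i j
        fin_cases i <;> fin_cases j <;> simp [hb, hc, sub_eq_zero.mp h0]
      refine ⟨(Y 0 0 - Y 1 1) / (X 0 0 - X 1 1), Y 1 1 - (Y 0 0 - Y 1 1) / (X 0 0 - X 1 1) * X 1 1, ?_⟩
      have h01 : Y 0 1 = 0 := (mul_eq_zero.mp (show (X 0 0 - X 1 1) * Y 0 1 = 0 by
        rw [hb] at e01; linear_combination e01)).resolve_left had
      have h10 : Y 1 0 = 0 := (mul_eq_zero.mp (show (X 0 0 - X 1 1) * Y 1 0 = 0 by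
        rw [hc] at e10; linear_combination -e10)).resolve_left had
      ext i j
      fin_cases i <;> fin_cases j <;> simp [hb, hc, h01, h10] <;> field_simp <;> ring
    · refine ⟨Y 1 0 / X 1 0, Y 1 1 - Y 1 0 / X 1 0 * X 1 1, ?_⟩
      have h01 : Y 0 1 = 0 := (mul_eq_zero.mp (show X 1 0 * Y 0 1 = 0 by
        rw [hb] at e00; linear_combination -e00)).resolve_left hc
      ext i j
      fin_cases i <;> fin_cases j <;> simp [hb, h01] <;> field_simp <;> linear_combination e10
  · refine ⟨Y 0 1 / X 0 1, Y 1 1 - Y 0 1 / X 0 1 * X 1 1, ?_⟩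
    ext i j
    fin_cases i <;> fin_cases j <;> simp <;> field_simp
    · linear_combination -e01
    · linear_combination e00

theorem commute_of_commute_nonscalar {K : Type*} [Field K] (X Y Z : Matrix (Fin 2) (Fin 2) K)
    (hX : ∀ r : K, X ≠ r • (1 : Matrix (Fin 2) (Fin 2) K)) (hY : X * Y = Y * X) (hZ : X * Z = Z * X) :
    Y * Z = Z * Y := by
  obtain ⟨t, s, rfl⟩ := eq_smul_add_smul X Y hX hY
  simp only [add_mul, mul_add, smul_mul_assoc, mul_smul_comm, one_mul, mul_one, hZ]

/-- Abelian centralizers are trivial intersection sets. -/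
theorem isTISubset_centralizer {G : Type*} [Group G]
    (hC : ∀ x y z : G, x ≠ 1 → Commute x y → Commute x z → Commute y z) (x : G) :
    Cfsg.IsTISubset (Subgroup.centralizer ({x} : Set G) : Set G) := by
  intro g hg y hy hgy
  by_contra hy1
  refine hg ?_
  rcases eq_or_ne x 1 with rfl | hx1
  · rw [Subgroup.mem_normalizer_iff]
    intro a
    simp [Subgroup.mem_centralizer_singleton_iff]
  have hgy1 : g * y * g⁻¹ ≠ 1 := fun h => hy1 (conj_eq_one_iff.mp h)
  have hy' : Commute x y := (Subgroup.mem_centralizer_singleton_iff.mp hy).symm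
  have hgy' : Commute x (g * y * g⁻¹) := (Subgroup.mem_centralizer_singleton_iff.mp hgy).symm
  have key : ∀ u a : G, u ≠ 1 → Commute x u → (Commute x a ↔ Commute u a) := fun u a hu hxu =>
    ⟨fun h => hC x u a hx1 hxu h, fun h => hC u x a hu hxu.symm h⟩
  rw [Subgroup.mem_normalizer_iff]
  intro a
  simp only [Subgroup.mem_centralizer_singleton_iff]
  have h1 := key y a hy1 hy'
  have h2 := key (g * y * g⁻¹) (g * a * g⁻¹) hgy1 hgy'
  have h3 : Commute y a ↔ Commute (g * y * g⁻¹) (g * a * g⁻¹) :=
    ⟨fun h => h.map (MulAut.conj g).toMonoidHom, fun h => by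
      have := h.map (MulAut.conj g⁻¹).toMonoidHom
      simpa [mul_assoc] using this⟩
  rw [show a * x = x * a ↔ Commute x a from eq_comm, show g * a * g⁻¹ * x = x * (g * a * g⁻¹) ↔
    Commute x (g * a * g⁻¹) from eq_comm, h1, h2, h3]

/-- Let F be a finite field with 2ⁿ elements, n ≥ 2. In PSL₂(F) the centralizer of every element meets each of its conjugates by elements outside its normalizer trivially. -/
theorem result (n : ℕ) (hn : 2 ≤ n)
    (x : Matrix.ProjectiveSpecialLinearGroup (Fin 2) (GaloisField 2 n)) :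
    Cfsg.IsTISubset (Subgroup.centralizer ({x} : Set (Matrix.ProjectiveSpecialLinearGroup (Fin 2) (GaloisField 2 n))) :
      Set (Matrix.ProjectiveSpecialLinearGroup (Fin 2) (GaloisField 2 n))) := by
  classical
  haveI : CharP (GaloisField 2 n) 2 := inferInstance
  let q := QuotientGroup.mk' (Subgroup.center (Matrix.SpecialLinearGroup (Fin 2) (GaloisField 2 n)))
  have hscal : ∀ (r : GaloisField 2 n) (A : Matrix.SpecialLinearGroup (Fin 2) (GaloisField 2 n)),
      (A : Matrix (Fin 2) (Fin 2) (GaloisField 2 n)) = r • 1 → A = 1 := by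
    intro r A hA
    have hd := A.2
    rw [hA, Matrix.det_smul, Matrix.det_one, mul_one, Fintype.card_fin] at hd
    have hr : r = 1 := by
      have h2 : (2 : GaloisField 2 n) = 0 := CharTwo.two_eq_zero
      have h0 : (r - 1) ^ 2 = 0 := by linear_combination hd + (1 - r) * h2
      exact sub_eq_zero.mp (pow_eq_zero_iff (two_ne_zero) |>.mp h0)
    exact Subtype.ext (by rw [hA, hr, one_smul]; rfl)
  have hq : Function.Injective q := by
    rw [← MonoidHom.ker_eq_bot_iff, QuotientGroup.ker_mk', Subgroup.eq_bot_iff_forall]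
    intro A hA
    obtain ⟨r, -, hr⟩ := Matrix.SpecialLinearGroup.mem_center_iff.mp hA
    exact hscal r A (by rw [← hr, Matrix.scalar_apply, Matrix.smul_one_eq_diagonal])
  refine isTISubset_centralizer (fun a b c ha hab hac => ?_) x
  obtain ⟨A, rfl⟩ := QuotientGroup.mk'_surjective _ a
  obtain ⟨B, rfl⟩ := QuotientGroup.mk'_surjective _ b
  obtain ⟨C, rfl⟩ := QuotientGroup.mk'_surjective _ c
  have hAB : A * B = B * A := hq (by rw [map_mul, map_mul]; exact hab.eq)
  have hAC : A * C = C * A := hq (by rw [map_mul, map_mul]; exact hac.eq)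
  have hA : ∀ r : GaloisField 2 n, (A : Matrix (Fin 2) (Fin 2) (GaloisField 2 n)) ≠ r • 1 :=
    fun r h => ha (by rw [hscal r A h]; exact map_one _)
  have h := commute_of_commute_nonscalar _ _ _ hA (congrArg Subtype.val hAB) (congrArg Subtype.val hAC)
  exact (show Commute B C from Subtype.ext h).map q

end Cfsg.Agent.S4065
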