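import Cfsg.Statements.S4066
import Cfsg.Agent.Lib.Fitting
import Cfsg.Agent.Lib.PGroup.Basic
import Cfsg.Agent.Lib.Coprime.Hall

set_option autoImplicit false
open Cfsg

namespace Cfsg.Agent.S4066

/-- Let G be a finite group in which the centralizer of every element meets each of its conjugates by elements outside its normalizer trivially. Then any two distinct Sylow p-subgroups of G, for any prime p, intersect trivially. -/
theorem result {G : Type*} [Group G] [Finite G] (hTI : ∀ x : G, Cfsg.IsTISubset (Subgroup.centralizer ({x} : Set G) : Set G))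
    {p : ℕ} [Fact p.Prime] (P Q : Sylow p G) (hPQ : P ≠ Q) : (P : Subgroup G) ⊓ (Q : Subgroup G) = ⊥ := by
  classical
  by_contra hD
  set C : G → Subgroup G := fun x => Subgroup.centralizer ({x} : Set G) with hC
  have hmem : ∀ {x y : G}, y ∈ C x ↔ y * x = x * y := Subgroup.mem_centralizer_singleton_iff
  -- an element moving `y ∈ C x` to an element of `C x` normalizes `C x`
  have hN : ∀ (x y g : G), y ≠ 1 → y ∈ C x → g * y * g⁻¹ ∈ C x →
      g ∈ Subgroup.normalizer (C x : Set G) := fun x y g hy h1 h2 => by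
    by_contra hg
    exact hy (hTI x g hg y h1 h2)
  have hnil : ∀ x : G, x ≠ 1 → Group.IsNilpotent (C x) := by
    intro x hx
    have hnorm : ∀ a : C x, (Subgroup.centralizer ({a} : Set (C x))).Normal := fun a => by
      refine ⟨fun n hn g => ?_⟩
      have hg : (g : G) ∈ Subgroup.normalizer (C (a : G) : Set G) := by
        refine hN a x g hx (hmem.mpr (hmem.mp a.2).symm) ?_
        have h1 : (g : G) * x * (g : G)⁻¹ = x := by rw [hmem.mp g.2]; group
        rw [h1]; exact hmem.mpr (hmem.mp a.2).symm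
      have hn' : (n : G) ∈ C (a : G) :=
        hmem.mpr (congrArg Subtype.val (Subgroup.mem_centralizer_singleton_iff.mp hn))
      refine Subgroup.mem_centralizer_singleton_iff.mpr (Subtype.ext ?_)
      exact hmem.mp ((Subgroup.mem_normalizer_iff.mp hg n).mp hn')
    rw [← Cfsg.Agent.Fitting.fitting_eq_top_iff, eq_top_iff]
    intro a _
    set B := Subgroup.centralizer ({a} : Set (C x)) with hB
    haveI := hnorm a
    let A : Subgroup (C x) := B ⊓ Subgroup.centralizer (B : Set (C x))
    have hAc : IsMulCommutative A := ⟨⟨fun u v => Subtype.ext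
      ((Subgroup.mem_centralizer_iff.mp u.2.2 v v.2.1).symm)⟩⟩
    have hAn : A.Normal := inferInstanceAs (B ⊓ Subgroup.centralizer (B : Set (C x))).Normal
    have hle : A ≤ Cfsg.fittingSubgroup (C x) := le_sSup ⟨hAn,
      (by letI : CommGroup A := { mul_comm := hAc.is_comm.comm }; infer_instance)⟩
    exact hle ⟨Subgroup.mem_centralizer_singleton_iff.mpr rfl,
      Subgroup.mem_centralizer_iff.mpr fun b hb => Subgroup.mem_centralizer_singleton_iff.mp hb⟩
  -- a nontrivial element of the intersection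
  obtain ⟨x, hx, hx1⟩ := (Subgroup.ne_bot_iff_exists_ne_one).mp hD |> fun ⟨x, hx⟩ =>
    (⟨(x : G), x.2, fun h => hx (Subtype.ext h)⟩ :
      ∃ x : G, x ∈ (P : Subgroup G) ⊓ (Q : Subgroup G) ∧ x ≠ 1)
  have hM : ∀ R : Sylow p G, x ∈ (R : Subgroup G) →
      (R : Subgroup G) ≤ Subgroup.normalizer (C x : Set G) := by
    intro R hxR g hg
    haveI : Nontrivial (R : Subgroup G) := ⟨⟨⟨x, hxR⟩, 1, fun h => hx1 (congrArg Subtype.val h)⟩⟩
    haveI := R.2.center_nontrivial
    obtain ⟨z, hz⟩ := exists_ne (1 : Subgroup.center (R : Subgroup G))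
    have hzc : ∀ r ∈ (R : Subgroup G), r * ((z : (R : Subgroup G)) : G) = (z : (R : Subgroup G)) * r :=
      fun r hr => congrArg Subtype.val (Subgroup.mem_center_iff.mp z.2 ⟨r, hr⟩)
    refine hN x ((z : (R : Subgroup G)) : G) g (fun h => hz (Subtype.ext (Subtype.ext h)))
      (hmem.mpr (hzc x hxR).symm) ?_
    rw [hzc g hg, mul_inv_cancel_right]
    exact hmem.mpr (hzc x hxR).symm
  set M := Subgroup.normalizer (C x : Set G) with hMdef
  have hPM : (P : Subgroup G) ≤ M := hM P hx.1
  have hQM : (Q : Subgroup G) ≤ M := hM Q hx.2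
  -- the normal subgroup `E = O_p(C x)`
  have hnilx := hnil x hx1
  let S : Sylow p (C x) := default
  have hSn : ((S : Subgroup (C x))).Normal := inferInstance
  have hxS : (⟨x, hmem.mpr rfl⟩ : C x) ∈ (S : Subgroup (C x)) := by
    obtain ⟨k, hk⟩ := P.2 ⟨x, hx.1⟩
    have hp : IsPGroup p (Subgroup.zpowers (⟨x, hmem.mpr rfl⟩ : C x)) := by
      obtain ⟨j, hj⟩ := P.2.exists_orderOf_eq_pow (⟨x, hx.1⟩ : (P : Subgroup G))
      refine IsPGroup.of_card (n := j) ?_
      rw [Nat.card_zpowers, ← Subgroup.orderOf_coe]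
      rw [← Subgroup.orderOf_coe] at hj
      exact hj
    obtain ⟨T, hT⟩ := hp.exists_le_sylow
    haveI := Sylow.unique_of_normal S hSn
    rw [Subsingleton.elim S T]
    exact hT (Subgroup.mem_zpowers _)
  set E := (S : Subgroup (C x)).map (C x).subtype with hE
  haveI hEc : (S : Subgroup (C x)).Characteristic := Sylow.characteristic_of_normal S hSn
  have hEM : M ≤ Subgroup.normalizer (E : Set G) := by
    rw [hMdef, hE]
    exact Cfsg.Agent.Coprime.normalizer_le_normalizer_map (C x) (S : Subgroup (C x))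
  have hEP : E ≤ (P : Subgroup G) := by
    have hp := IsPGroup.to_sup_of_normal_left' (S.2.map (C x).subtype) P.2
      (hPM.trans hEM)
    exact le_sup_left.trans (P.3 hp le_sup_right).le
  have hxE : x ∈ E := ⟨⟨x, hmem.mpr rfl⟩, hxS, rfl⟩
  -- a central element of `P` in `E`
  obtain ⟨z, hz1, hzE, hzP⟩ : ∃ z : G, z ≠ 1 ∧ z ∈ E ∧ ∀ r ∈ (P : Subgroup G), r * z = z * r := by
    haveI : (E.subgroupOf (P : Subgroup G)).Normal :=
      (Subgroup.normal_subgroupOf_iff_le_normalizer hEP).mpr (hPM.trans hEM)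
    obtain ⟨z, hz, hz1⟩ := Cfsg.Agent.PGroup.inf_center_ne_bot P.2 (N := E.subgroupOf (P : Subgroup G))
      (fun h => hx1 (congrArg Subtype.val ((Subgroup.eq_bot_iff_forall _).mp h ⟨x, hx.1⟩ hxE)))
      |> (Subgroup.ne_bot_iff_exists_ne_one).mp |> fun ⟨z, hz⟩ =>
        (⟨_, z.2, fun h => hz (Subtype.ext h)⟩ :
          ∃ z : (P : Subgroup G), z ∈ E.subgroupOf (P : Subgroup G) ⊓ Subgroup.center _ ∧ z ≠ 1)
    exact ⟨z, fun h => hz1 (Subtype.ext h), hz.1, fun r hr =>
      congrArg Subtype.val (Subgroup.mem_center_iff.mp hz.2 ⟨r, hr⟩)⟩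
  have hPz : (P : Subgroup G) ≤ C z := fun r hr => hmem.mpr (hzP r hr)
  -- a nontrivial element of the centre of `E`
  have hMz : M ≤ Subgroup.normalizer (C z : Set G) := by
    intro g hg
    haveI : Nontrivial E := ⟨⟨⟨x, hxE⟩, 1, fun h => hx1 (congrArg Subtype.val h)⟩⟩
    haveI : Nontrivial (Subgroup.center E) := (S.2.map (C x).subtype).center_nontrivial
    obtain ⟨w, hw⟩ := exists_ne (1 : Subgroup.center E)
    have hwc : ∀ e ∈ E, e * ((w : E) : G) = (w : E) * e := fun e he =>
      congrArg Subtype.val (Subgroup.mem_center_iff.mp w.2 ⟨e, he⟩)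
    refine hN z ((w : E) : G) g (fun h => hw (Subtype.ext (Subtype.ext h)))
      (hmem.mpr (hwc z hzE).symm) (hmem.mpr ?_)
    have hge : g⁻¹ * z * g⁻¹⁻¹ ∈ E :=
      (Subgroup.mem_normalizer_iff.mp (hEM (M.inv_mem hg)) z).mp hzE
    have h2 := hwc _ hge
    rw [inv_inv] at h2
    calc g * ((w : E) : G) * g⁻¹ * z = g * (((w : E) : G) * (g⁻¹ * z * g)) * g⁻¹ := by group
      _ = g * ((g⁻¹ * z * g) * ((w : E) : G)) * g⁻¹ := by rw [h2]
      _ = z * (g * ((w : E) : G) * g⁻¹) := by group
  -- `Q` normalizes `P`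
  have hQP : (Q : Subgroup G) ≤ Subgroup.normalizer ((P : Subgroup G) : Set G) := by
    intro g hg
    haveI := hnil z hz1
    have hgn := hMz (hQM hg)
    have hle : ((g • P : Sylow p G) : Subgroup G) ≤ C z := by
      rw [Sylow.coe_subgroup_smul]
      intro y hy
      rw [Subgroup.mem_pointwise_smul_iff_inv_smul_mem, MulAut.smul_def, MulAut.conj_inv_apply] at hy
      have h2 := (Subgroup.mem_normalizer_iff.mp hgn _).mp (hPz hy)
      simpa [mul_assoc] using h2
    haveI := Sylow.unique_of_normal (P.subtype hPz) inferInstance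
    have h3 : P.subtype hPz = (g • P : Sylow p G).subtype hle := Subsingleton.elim _ _
    exact Sylow.smul_eq_iff_mem_normalizer.mp (Sylow.subtype_injective h3).symm
  have hp := IsPGroup.to_sup_of_normal_left' P.2 Q.2 hQP
  exact hPQ (Sylow.ext ((P.3 hp le_sup_left).symm.trans (Q.3 hp le_sup_right)))

end Cfsg.Agent.S4066
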