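import Cfsg.Statements.S4067
import Cfsg.Agent.FGS77.Basic

set_option autoImplicit false
open Cfsg
open scoped commutatorElement

namespace Cfsg.Agent.S4067
open scoped Pointwise

noncomputable section

variable {G : Type*} [Group G] [Finite G]

/-- Counting orbits from a supply of large orbits. -/
theorem count_orbits {p t : ℕ} (hp : (Nat.card G).minFac = p) (hpt : p < t) (S : Set G)
    (hS : ∀ g ∈ S, t ≤ Nat.card (MulAction.orbit (MulAut G) g))
    (hbig : t * (p - 1) * Nat.card (Subgroup.center G) ≤ S.ncard * (t - p)) :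
    Nat.card (MulAction.orbitRel.Quotient (MulAut G) G) ≤ Nat.card G / p := by
  classical
  rcases Nat.eq_zero_or_pos p with rfl | hp0
  · exact absurd hp (Nat.minFac_pos _).ne'
  rw [Nat.le_div_iff_mul_le hp0]
  haveI : Finite (MulAction.orbitRel.Quotient (MulAut G) G) := Quotient.finite _
  letI : Fintype (MulAction.orbitRel.Quotient (MulAut G) G) := Fintype.ofFinite _
  letI : Fintype G := Fintype.ofFinite G
  let f : G → MulAction.orbitRel.Quotient (MulAut G) G := fun g => Quotient.mk'' g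
  let O : MulAction.orbitRel.Quotient (MulAut G) G → Finset G := fun ω => Finset.univ.filter (f · = ω)
  have hO : ∀ g, (O (f g)).card = Nat.card (MulAction.orbit (MulAut G) g) := fun g => by
    rw [← Fintype.card_subtype, ← Nat.card_eq_fintype_card]
    refine Nat.card_congr (Equiv.subtypeEquivRight fun a => ?_)
    exact Quotient.eq''
  have hpO : ∀ g, g ∉ Subgroup.center G → p ≤ (O (f g)).card := by
    intro g hg
    rw [hO]
    have h1 : Nat.card (MulAction.orbit (ConjAct G) g) ≤ Nat.card (MulAction.orbit (MulAut G) g) := by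
      refine Nat.card_mono (Set.toFinite _) ?_
      rintro _ ⟨c, rfl⟩
      exact ⟨MulAut.conj (ConjAct.ofConjAct c), rfl⟩
    refine le_trans ?_ h1
    rw [← hp]
    refine Nat.minFac_le_of_dvd ?_ ?_
    · by_contra h
      have hpos : 0 < Nat.card (MulAction.orbit (ConjAct G) g) :=
        Finite.card_pos_iff.mpr ⟨⟨g, MulAction.mem_orbit_self g⟩⟩
      have h1' : Nat.card (MulAction.orbit (ConjAct G) g) = 1 := by omega
      haveI := (Nat.card_eq_one_iff_unique.mp h1').1
      refine hg (Subgroup.mem_center_iff.mpr fun c => ?_)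
      have h2 : ConjAct.toConjAct c • g = g := congrArg Subtype.val (Subsingleton.elim
        (⟨_, MulAction.mem_orbit g (ConjAct.toConjAct c)⟩ : MulAction.orbit (ConjAct G) g)
        ⟨g, MulAction.mem_orbit_self g⟩)
      rw [ConjAct.toConjAct_smul] at h2
      exact mul_inv_eq_iff_eq_mul.mp h2
    · rw [Nat.card_congr (MulAction.orbitEquivQuotientStabilizer (ConjAct G) g)]
      exact (Subgroup.index_dvd_card (MulAction.stabilizer (ConjAct G) g)).trans
          (dvd_of_eq (Nat.card_congr ConjAct.ofConjAct.toEquiv))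
  have hsum : ∑ ω, (O ω).card = Nat.card G := by
    rw [Nat.card_eq_fintype_card, ← Finset.card_univ]
    exact (Finset.card_eq_sum_card_fiberwise (fun g _ => Finset.mem_univ (f g))).symm
  have hSsum : ∑ ω, ((O ω).filter (· ∈ S)).card = S.ncard := by
    rw [Set.ncard_eq_toFinset_card' S,
      Finset.card_eq_sum_card_fiberwise (s := S.toFinset) (fun g _ => Finset.mem_univ (f g))]
    refine Finset.sum_congr rfl fun ω _ => ?_
    congr 1
    ext a
    simp [O, and_comm]
  have hZsum : ∑ ω, ((O ω).filter (· ∈ Subgroup.center G)).card = Nat.card (Subgroup.center G) := by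
    rw [Nat.card_eq_fintype_card, Fintype.card_subtype,
      Finset.card_eq_sum_card_fiberwise (s := Finset.univ.filter (· ∈ Subgroup.center G))
        (fun g _ => Finset.mem_univ (f g))]
    refine Finset.sum_congr rfl fun ω _ => ?_
    congr 1
    ext a
    simp [O, and_comm]
  have key : ∀ ω, t * p + (t - p) * ((O ω).filter (· ∈ S)).card ≤
      t * (O ω).card + t * (p - 1) * ((O ω).filter (· ∈ Subgroup.center G)).card := by
    intro ω
    obtain ⟨g0, rfl⟩ := Quotient.exists_rep ω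
    by_cases hne : ((O (f g0)).filter (· ∈ S)).Nonempty
    · obtain ⟨a, ha⟩ := hne
      rw [Finset.mem_filter] at ha
      have hfa : f a = f g0 := (Finset.mem_filter.mp ha.1).2
      have htc : t ≤ (O (f g0)).card := by rw [← hfa, hO]; exact hS a ha.2
      have h1 : ((O (f g0)).filter (· ∈ S)).card ≤ (O (f g0)).card := Finset.card_filter_le _ _
      show t * p + (t - p) * ((O (f g0)).filter (· ∈ S)).card ≤ t * (O (f g0)).card + _
      have e : t * (O (f g0)).card = p * (O (f g0)).card + (t - p) * (O (f g0)).card := by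
        rw [← Nat.add_mul, Nat.add_sub_cancel' hpt.le]
      have h2 : t * p ≤ p * (O (f g0)).card := by rw [mul_comm]; exact Nat.mul_le_mul_left p htc
      have h3 := Nat.mul_le_mul_left (t - p) h1
      omega
    · show t * p + (t - p) * ((O (f g0)).filter (· ∈ S)).card ≤
        t * (O (f g0)).card + t * (p - 1) * ((O (f g0)).filter (· ∈ Subgroup.center G)).card
      rw [Finset.not_nonempty_iff_eq_empty.mp hne, Finset.card_empty, mul_zero, add_zero, mul_assoc, ← mul_add]
      refine Nat.mul_le_mul_left t ?_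
      by_cases hg : g0 ∈ Subgroup.center G
      · have h1 : 1 ≤ ((O (f g0)).filter (· ∈ Subgroup.center G)).card :=
          Finset.card_pos.mpr ⟨g0, by simp [O, hg]⟩
        have h2 : 1 ≤ (O (f g0)).card := Finset.card_pos.mpr ⟨g0, by simp [O]⟩
        have h3 := Nat.mul_le_mul_left (p - 1) h1
        omega
      · exact (hpO g0 hg).trans (Nat.le_add_right _ _)
  have htot := Finset.sum_le_sum fun ω (_ : ω ∈ (Finset.univ : Finset _)) => key ω
  rw [Finset.sum_add_distrib, Finset.sum_add_distrib, Finset.sum_const, Finset.card_univ, smul_eq_mul,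
    ← Finset.mul_sum, ← Finset.mul_sum, ← Finset.mul_sum, hsum, hSsum, hZsum,
    ← Nat.card_eq_fintype_card, mul_comm (t - p)] at htot
  have : t * (Nat.card (MulAction.orbitRel.Quotient (MulAut G) G) * p) ≤ t * Nat.card G := by
    have e : t * (Nat.card (MulAction.orbitRel.Quotient (MulAut G) G) * p) =
      Nat.card (MulAction.orbitRel.Quotient (MulAut G) G) * (t * p) := by ring
    omega
  exact Nat.le_of_mul_le_mul_left this (by omega)

/-- The conjugacy class as a lower bound for the orbit. -/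
theorem index_centralizer_le (g : G) :
    (Subgroup.centralizer ({g} : Set G)).index ≤ Nat.card (MulAction.orbit (MulAut G) g) := by
  classical
  let f : G ⧸ Subgroup.centralizer ({g} : Set G) → MulAction.orbit (MulAut G) g :=
    Quotient.lift (fun c => ⟨c * g * c⁻¹, MulAut.conj c, rfl⟩) (fun a b hab => by
      have h : a⁻¹ * b * g = g * (a⁻¹ * b) :=
        Subgroup.mem_centralizer_singleton_iff.mp (QuotientGroup.leftRel_apply.mp hab)
      apply Subtype.ext
      show a * g * a⁻¹ = b * g * b⁻¹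
      calc a * g * a⁻¹ = a * (g * (a⁻¹ * b)) * b⁻¹ := by group
        _ = a * (a⁻¹ * b * g) * b⁻¹ := by rw [h]
        _ = b * g * b⁻¹ := by group)
  refine Nat.card_le_card_of_injective f fun u v huv => ?_
  induction u using Quotient.inductionOn with
  | h a =>
  induction v using Quotient.inductionOn with
  | h b =>
  have h : a * g * a⁻¹ = b * g * b⁻¹ := congrArg Subtype.val huv
  refine Quotient.sound (QuotientGroup.leftRel_apply.mpr (Subgroup.mem_centralizer_singleton_iff.mpr ?_))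
  calc a⁻¹ * b * g = a⁻¹ * (b * g * b⁻¹) * b := by group
    _ = a⁻¹ * (a * g * a⁻¹) * b := by rw [h]
    _ = g * (a⁻¹ * b) := by group

theorem le_index_of_ne {p : ℕ} (hp : (Nat.card G).minFac = p) (H : Subgroup G) (hH : H ≠ ⊤) :
    p ≤ H.index :=
  hp ▸ Nat.minFac_le_of_dvd (by
    have h0 := H.index_ne_zero_of_finite
    have h1 : H.index ≠ 1 := fun h => hH (Subgroup.index_eq_one.mp h)
    omega) H.index_dvd_card

theorem index_center_ne (hna : ¬ IsMulCommutative G) : ∀ q : ℕ, q.Prime →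
    (Subgroup.center G).index ≠ q := by
  intro q hq h
  haveI : IsCyclic (G ⧸ Subgroup.center G) := by
    haveI : Fact q.Prime := ⟨hq⟩
    exact isCyclic_of_prime_card h
  exact hna ⟨⟨fun a b => commutative_of_cyclic_center_quotient (QuotientGroup.mk' (Subgroup.center G))
    (by rw [QuotientGroup.ker_mk']) a b⟩⟩

theorem index_center_ge {p : ℕ} (hp : (Nat.card G).minFac = p) (hna : ¬ IsMulCommutative G) :
    p * p ≤ (Subgroup.center G).index ∧
      ((Subgroup.center G).index = p * p ∨ p * (p + 1) ≤ (Subgroup.center G).index) := by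
  set q := (Subgroup.center G).index with hq
  have hq0 : q ≠ 0 := (Subgroup.center G).index_ne_zero_of_finite
  have hq1 : q ≠ 1 := fun h => by
    have h1 := Subgroup.index_eq_one.mp h
    exact hna ⟨⟨fun a b => (Subgroup.mem_center_iff.mp (h1 ▸ Subgroup.mem_top a) b).symm⟩⟩
  obtain ⟨r, hr, hrq⟩ := Nat.exists_prime_and_dvd hq1
  obtain ⟨m, hm⟩ := hrq
  have hm2 : 2 ≤ m := by
    rcases m with _ | _ | m
    · simp at hm; exact absurd hm hq0
    · exact absurd (hm.trans (mul_one r)) (index_center_ne hna r hr)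
    · omega
  have hdvd : q ∣ Nat.card G := (Subgroup.center G).index_dvd_card
  have hpr : p ≤ r := hp ▸ Nat.minFac_le_of_dvd hr.two_le ((Dvd.intro _ hm.symm).trans hdvd)
  have hpm : p ≤ m := hp ▸ Nat.minFac_le_of_dvd hm2 ((Dvd.intro_left _ hm.symm).trans hdvd)
  rcases eq_or_lt_of_le hpr with h | h
  · rcases eq_or_lt_of_le hpm with h' | h'
    · rw [hm, ← h, ← h']; exact ⟨le_rfl, Or.inl rfl⟩
    · rw [hm, ← h]
      exact ⟨Nat.mul_le_mul_left p hpm, Or.inr (Nat.mul_le_mul_left p h')⟩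
  · rw [hm]
    refine ⟨Nat.mul_le_mul hpr hpm, Or.inr ?_⟩
    rw [mul_comm p]
    exact Nat.mul_le_mul h hpm

/-- Orbits are large outside a proper subgroup and `[G : Z]` is big enough. -/
theorem count_outside {p t : ℕ} (hp : (Nat.card G).minFac = p) (hp2 : 2 ≤ p) (hpt : p < t) (H : Subgroup G)
    (hH : H ≠ ⊤) (hS : ∀ g ∉ H, t ≤ Nat.card (MulAction.orbit (MulAut G) g))
    (hq : t * p ≤ (Subgroup.center G).index * (t - p)) :
    Nat.card (MulAction.orbitRel.Quotient (MulAut G) G) ≤ Nat.card G / p := by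
  classical
  refine count_orbits hp hpt ((H : Set G)ᶜ) (fun g hg => hS g hg) ?_
  have h1 : ((H : Set G)ᶜ).ncard + Nat.card H = Nat.card G := by
    rw [add_comm]; exact Set.ncard_add_ncard_compl _
  have h2 : p * Nat.card H ≤ Nat.card G := by
    rw [← H.index_mul_card]; exact Nat.mul_le_mul_right _ (le_index_of_ne hp H hH)
  have h3 : (p - 1) * Nat.card G ≤ p * ((H : Set G)ᶜ).ncard := by
    have e : p * ((H : Set G)ᶜ).ncard + p * Nat.card H = p * Nat.card G := by rw [← mul_add, h1]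
    have e2 : p * Nat.card G = (p - 1) * Nat.card G + Nat.card G := by
      rw [← Nat.succ_mul]; congr 1; omega
    omega
  suffices h : p * (t * (p - 1) * Nat.card (Subgroup.center G)) ≤ p * (((H : Set G)ᶜ).ncard * (t - p)) from
    Nat.le_of_mul_le_mul_left h (by omega)
  calc p * (t * (p - 1) * Nat.card (Subgroup.center G))
      = (p - 1) * (Nat.card (Subgroup.center G)) * (t * p) := by ring
    _ ≤ (p - 1) * (Nat.card (Subgroup.center G)) * ((Subgroup.center G).index * (t - p)) :=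
        Nat.mul_le_mul_left _ hq
    _ = (p - 1) * Nat.card G * (t - p) := by rw [← (Subgroup.center G).index_mul_card]; ring
    _ ≤ p * ((H : Set G)ᶜ).ncard * (t - p) := Nat.mul_le_mul_right _ h3
    _ = p * (((H : Set G)ᶜ).ncard * (t - p)) := mul_assoc _ _ _

/-- Central automorphisms. -/
theorem mem_orbit_mul (φ : G →* G) (hφ : ∀ g, φ g ∈ Subgroup.center G) (hφ2 : ∀ g, φ (φ g) = 1) (g : G) :
    g * φ g ∈ MulAction.orbit (MulAut G) g := by
  let f : G →* G :=
    { toFun := fun a => a * φ a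
      map_one' := by simp
      map_mul' := fun a b => by
        show a * b * φ (a * b) = a * φ a * (b * φ b)
        rw [map_mul]
        calc a * b * (φ a * φ b) = a * (b * φ a) * φ b := by group
          _ = a * (φ a * b) * φ b := by rw [Subgroup.mem_center_iff.mp (hφ a) b]
          _ = a * φ a * (b * φ b) := by group }
  have hf : Function.Injective f := by
    rw [← MonoidHom.ker_eq_bot_iff, Subgroup.eq_bot_iff_forall]
    intro a ha
    have ha' : a * φ a = 1 := ha
    have h1 : a = (φ a)⁻¹ := eq_inv_of_mul_eq_one_left ha'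
    have h2 : φ a = 1 := by rw [h1, map_inv, hφ2, inv_one]
    rwa [h2, mul_one] at ha'
  exact ⟨MulEquiv.ofBijective f ⟨hf, Finite.injective_iff_surjective.mp hf⟩, rfl⟩

end

/-- Let G be a finite non-abelian group and p the least prime dividing its order. Then the automorphism group of G has at most #G/p orbits on G. -/
theorem result {G : Type*} [Group G] [Finite G] (hna : ¬ IsMulCommutative G) :
    Nat.card (MulAction.orbitRel.Quotient (MulAut G) G) ≤ Nat.card G / (Nat.card G).minFac := by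
  classical
  obtain ⟨p, hp⟩ : ∃ p, (Nat.card G).minFac = p := ⟨_, rfl⟩
  rw [hp]
  have hn1 : Nat.card G ≠ 1 := fun h => by
    haveI := (Nat.card_eq_one_iff_unique.mp h).1
    exact hna ⟨⟨fun a b => Subsingleton.elim _ _⟩⟩
  have hpp : p.Prime := hp ▸ Nat.minFac_prime hn1
  haveI : Fact p.Prime := ⟨hpp⟩
  obtain ⟨hq2, hqcase⟩ := index_center_ge hp hna
  set Z := Subgroup.center G with hZ
  have hcl : ∀ g : G, (Subgroup.centralizer ({g} : Set G)).index ≠ p → g ∉ Z →
      p + 1 ≤ Nat.card (MulAction.orbit (MulAut G) g) := by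
    intro g hne hg
    refine le_trans ?_ (index_centralizer_le g)
    refine lt_of_le_of_ne (le_index_of_ne hp _ fun h => hg ?_) (Ne.symm hne)
    rw [hZ, Subgroup.mem_center_iff]
    exact fun c => Subgroup.mem_centralizer_singleton_iff.mp (h ▸ Subgroup.mem_top c)
  have hnorm : ∀ g : G, (Subgroup.centralizer ({g} : Set G)).index = p →
      ∀ a b : G, a * b * a⁻¹ * b⁻¹ ∈ Subgroup.centralizer ({g} : Set G) ∧
        a ^ p ∈ Subgroup.centralizer ({g} : Set G) := by
    intro g hg a b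
    set C := Subgroup.centralizer ({g} : Set G)
    haveI : C.Normal := Subgroup.normal_of_index_eq_minFac_card (by rw [hp]; exact hg)
    have hc : Nat.card (G ⧸ C) = p := hg
    haveI : IsCyclic (G ⧸ C) := isCyclic_of_prime_card hc
    refine ⟨?_, ?_⟩
    · rw [← QuotientGroup.eq_one_iff]
      simp only [QuotientGroup.mk_mul, QuotientGroup.mk_inv]
      rw [(IsCyclic.isMulCommutative (α := G ⧸ C)).is_comm.comm (a : G ⧸ C) (b : G ⧸ C), mul_inv_cancel_right,
        mul_inv_cancel]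
    · rw [← QuotientGroup.eq_one_iff, QuotientGroup.mk_pow]
      exact orderOf_dvd_iff_pow_eq_one.mp (hc ▸ orderOf_dvd_natCard (a : G ⧸ C))
  have htp : p * (p + 1) ≤ (Subgroup.center G).index →
      (p + 1) * p ≤ (Subgroup.center G).index * (p + 1 - p) := fun h => by
    rw [Nat.add_sub_cancel_left, mul_one, mul_comm]; exact h
  -- case 1: `G'` is not central
  by_cases h2 : ∃ a b : G, a * b * a⁻¹ * b⁻¹ ∉ Z
  · obtain ⟨a, b, hab⟩ := h2
    have hq : p * (p + 1) ≤ (Subgroup.center G).index := by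
      refine hqcase.resolve_left fun h => hab ?_
      have hc : Nat.card (G ⧸ Subgroup.center G) = p ^ 2 := by rw [pow_two]; exact h
      have hcomm := IsPGroup.commutative_of_card_eq_prime_sq hc
      rw [hZ, ← QuotientGroup.eq_one_iff]
      simp only [QuotientGroup.mk_mul, QuotientGroup.mk_inv]
      rw [hcomm (a : G ⧸ Subgroup.center G) (b : G ⧸ Subgroup.center G), mul_inv_cancel_right, mul_inv_cancel]
    refine count_outside hp hpp.two_le (Nat.lt_succ_self p)
      (Subgroup.centralizer ({a * b * a⁻¹ * b⁻¹} : Set G)) (fun h => hab ?_) (fun g hg => ?_) (htp hq)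
    · rw [hZ, Subgroup.mem_center_iff]
      exact fun c => Subgroup.mem_centralizer_singleton_iff.mp (h ▸ Subgroup.mem_top c)
    · refine hcl g (fun h => hg ?_) fun h => hg ?_
      · exact Subgroup.mem_centralizer_singleton_iff.mpr
          (Subgroup.mem_centralizer_singleton_iff.mp (hnorm g h a b).1).symm
      · exact Subgroup.mem_centralizer_singleton_iff.mpr (Subgroup.mem_center_iff.mp h _).symm
  push Not at h2
  have hcen : ∀ a b c : G, c * (a * b * a⁻¹ * b⁻¹) = (a * b * a⁻¹ * b⁻¹) * c := fun a b c =>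
    Subgroup.mem_center_iff.mp (h2 a b) c
  have hcmul : ∀ a a' b : G, (a * a') * b * (a * a')⁻¹ * b⁻¹ =
      (a * b * a⁻¹ * b⁻¹) * (a' * b * a'⁻¹ * b⁻¹) := by
    intro a a' b
    calc (a * a') * b * (a * a')⁻¹ * b⁻¹
        = a * (a' * b * a'⁻¹ * b⁻¹) * (b * a⁻¹ * b⁻¹) := by group
      _ = (a' * b * a'⁻¹ * b⁻¹) * a * (b * a⁻¹ * b⁻¹) := by rw [hcen a' b a]
      _ = (a' * b * a'⁻¹ * b⁻¹) * (a * b * a⁻¹ * b⁻¹) := by group
      _ = _ := (hcen a' b _).symm
  have hcpow : ∀ (a b : G) (n : ℕ), a ^ n * b * (a ^ n)⁻¹ * b⁻¹ = (a * b * a⁻¹ * b⁻¹) ^ n := by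
    intro a b n
    induction n with
    | zero => simp
    | succ n ih => rw [pow_succ, hcmul, ih, pow_succ]
  have hmemZ : ∀ a : G, (∀ b, a * b * a⁻¹ * b⁻¹ = 1) → a ∈ Z := fun a h => by
    rw [hZ, Subgroup.mem_center_iff]
    intro b
    exact (mul_inv_eq_iff_eq_mul.mp (mul_inv_eq_one.mp (h b))).symm
  -- case 2: `G / Z` does not have exponent `p`
  by_cases h3 : ∃ x : G, x ^ p ∉ Z
  · obtain ⟨x, hx⟩ := h3
    let E : Subgroup G :=
      { carrier := {a | a ^ p ∈ Z}
        mul_mem' := fun {a b} ha hb => by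
          show (a * b) ^ p ∈ Z
          rw [Set.mem_setOf_eq, ← QuotientGroup.eq_one_iff, QuotientGroup.mk_pow] at ha hb
          rw [← QuotientGroup.eq_one_iff, QuotientGroup.mk_pow, QuotientGroup.mk_mul]
          have hc : Commute (a : G ⧸ Z) (b : G ⧸ Z) := by
            refine commutatorElement_eq_one_iff_mul_comm.mp ?_
            rw [commutatorElement_def, ← QuotientGroup.mk_inv, ← QuotientGroup.mk_inv, ← QuotientGroup.mk_mul,
              ← QuotientGroup.mk_mul, ← QuotientGroup.mk_mul, QuotientGroup.eq_one_iff]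
            exact h2 a b
          rw [hc.mul_pow, ha, hb, mul_one]
        one_mem' := by show (1 : G) ^ p ∈ Z; rw [one_pow]; exact Z.one_mem
        inv_mem' := fun {a} ha => by show a⁻¹ ^ p ∈ Z; rw [inv_pow]; exact Z.inv_mem ha }
    have hq : p * (p + 1) ≤ (Subgroup.center G).index := by
      refine hqcase.resolve_left fun h => hx ?_
      set y : G ⧸ Subgroup.center G := ((x : G) : G ⧸ Subgroup.center G)
      have hd : orderOf y ∣ p ^ 2 := by
        rw [pow_two, ← h]; exact orderOf_dvd_natCard y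
      obtain ⟨i, hi, hy⟩ := (Nat.dvd_prime_pow hpp).mp hd
      rcases eq_or_lt_of_le hi with rfl | hi'
      · exfalso
        haveI : IsCyclic (G ⧸ Subgroup.center G) := isCyclic_of_orderOf_eq_card y (by
          rw [hy, pow_two]; exact h.symm)
        exact hna ⟨⟨fun a b => commutative_of_cyclic_center_quotient
          (QuotientGroup.mk' (Subgroup.center G)) (by rw [QuotientGroup.ker_mk']) a b⟩⟩
      · rw [hZ, ← QuotientGroup.eq_one_iff, QuotientGroup.mk_pow]
        refine orderOf_dvd_iff_pow_eq_one.mp ((dvd_of_eq hy).trans ?_)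
        exact (pow_dvd_pow p (show i ≤ 1 by omega)).trans (dvd_of_eq (pow_one p))
    refine count_outside hp hpp.two_le (Nat.lt_succ_self p) E
      (fun h => hx (show x ∈ E from h ▸ Subgroup.mem_top x)) (fun g hg => ?_) (htp hq)
    refine hcl g (fun h => hg ?_) fun h => hg (Z.pow_mem h p)
    show g ^ p ∈ Z
    refine hmemZ _ fun b => ?_
    rw [hcpow]
    have hb : b ^ p * g = g * b ^ p := Subgroup.mem_centralizer_singleton_iff.mp (hnorm g h b b).2
    have e : (g * b * g⁻¹ * b⁻¹) = (b * g * b⁻¹ * g⁻¹)⁻¹ := by group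
    rw [e, inv_pow, inv_eq_one, ← hcpow, hb, mul_inv_cancel_right, mul_inv_cancel]
  push Not at h3
  have hcp : ∀ a b : G, (a * b * a⁻¹ * b⁻¹) ^ p = 1 := fun a b => by
    rw [← hcpow, ← Subgroup.mem_center_iff.mp (h3 a) b, mul_inv_cancel_right, mul_inv_cancel]
  let Ω : Subgroup G :=
    { carrier := {u | u ∈ Z ∧ u ^ p = 1}
      mul_mem' := fun {a b} ha hb => ⟨Z.mul_mem ha.1 hb.1, by
        rw [(show Commute a b from (Subgroup.mem_center_iff.mp hb.1 a)).mul_pow, ha.2, hb.2, mul_one]⟩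
      one_mem' := ⟨Z.one_mem, one_pow p⟩
      inv_mem' := fun {a} ha => ⟨Z.inv_mem ha.1, by rw [inv_pow, ha.2, inv_one]⟩ }
  have hΩp : IsPGroup p Ω := fun u => ⟨1, Subtype.ext (by rw [pow_one]; exact u.2.2)⟩
  have hGΩ : ∀ a b : G, a * b * a⁻¹ * b⁻¹ ∈ Ω := fun a b => ⟨h2 a b, hcp a b⟩
  obtain ⟨x₀, y₀, hxy₀⟩ : ∃ a b : G, a * b * a⁻¹ * b⁻¹ ≠ 1 := by
    by_contra h
    push Not at h
    exact hna ⟨⟨fun a b => mul_inv_eq_iff_eq_mul.mp (mul_inv_eq_one.mp (h a b))⟩⟩
  obtain ⟨j, hj⟩ := IsPGroup.iff_card.mp hΩp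
  have htsq : p < p * p := lt_mul_of_one_lt_right hpp.pos hpp.one_lt
  by_cases hΩ : 2 ≤ j
  · -- case 3: `Ω₁(Z)` is not cyclic
    refine count_outside hp hpp.two_le (t := p * p) htsq Z (fun h => hxy₀ ?_) (fun g hg => ?_) ?_
    · rw [← Subgroup.mem_center_iff.mp (h ▸ Subgroup.mem_top x₀ : x₀ ∈ Z) y₀, mul_inv_cancel_right,
        mul_inv_cancel]
    swap
    · calc p * p * p ≤ p * p * (p * p - p) := Nat.mul_le_mul_left _ (by
            rw [← Nat.sub_one_mul]; exact Nat.le_mul_of_pos_left p (by have := hpp.two_le; omega))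
        _ ≤ (Subgroup.center G).index * (p * p - p) := Nat.mul_le_mul_right _ hq2
    -- a maximal subgroup above `Z` avoiding `g`
    obtain ⟨M, ⟨hZM, hgM⟩, hMmax⟩ := Set.Finite.exists_maximalFor (fun N : Subgroup G => Nat.card N)
      {N : Subgroup G | Z ≤ N ∧ g ∉ N} (Set.toFinite _) ⟨Z, le_rfl, hg⟩
    haveI hMn : M.Normal := ⟨fun m hm c => by
      rw [show c * m * c⁻¹ = (c * m * c⁻¹ * m⁻¹) * m by group]
      exact M.mul_mem (hZM (h2 c m)) hm⟩
    have hgen : ∀ c : G ⧸ M, c ∈ Subgroup.zpowers ((g : G) : G ⧸ M) := by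
      intro c
      obtain ⟨a, rfl⟩ := QuotientGroup.mk_surjective c
      by_cases haM : a ∈ M
      · rw [(QuotientGroup.eq_one_iff a).mpr haM]; exact Subgroup.one_mem _
      have hgN : g ∈ Subgroup.zpowers a ⊔ M := by
        by_contra hgN
        exact haM ((Subgroup.eq_of_le_of_card_ge le_sup_right (hMmax (j := Subgroup.zpowers a ⊔ M)
          ⟨hZM.trans le_sup_right, hgN⟩ (Subgroup.card_le_of_le le_sup_right))).ge
          (Subgroup.mem_sup_left (Subgroup.mem_zpowers a)))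
      rw [← SetLike.mem_coe, Subgroup.mul_normal _ M] at hgN
      obtain ⟨_, ⟨i, rfl⟩, m, hm, hgeq⟩ := hgN
      have hge : (g : G ⧸ M) = (a : G ⧸ M) ^ i := by
        rw [← hgeq]; simp [(QuotientGroup.eq_one_iff m).mpr hm]
      have hap : (a : G ⧸ M) ^ p = 1 := by
        rw [← QuotientGroup.mk_pow]; exact (QuotientGroup.eq_one_iff _).mpr (hZM (h3 a))
      have hi : ¬ (p : ℤ) ∣ i := by
        rintro ⟨d, rfl⟩
        rw [zpow_mul, zpow_natCast, hap, one_zpow] at hge
        exact hgM ((QuotientGroup.eq_one_iff g).mp hge)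
      obtain ⟨s, r, hsr⟩ := ((Nat.prime_iff_prime_int.mp hpp).coprime_iff_not_dvd.mpr hi).symm
      refine ⟨s, ?_⟩
      show (g : G ⧸ M) ^ s = (a : G ⧸ M)
      rw [hge, ← zpow_mul, show i * s = 1 - r * (p : ℤ) by linarith, zpow_sub, zpow_one, mul_comm r,
        zpow_mul, zpow_natCast, hap, one_zpow, inv_one, mul_one]
    have hgp : orderOf ((g : G) : G ⧸ M) = p := orderOf_eq_prime
      (by rw [← QuotientGroup.mk_pow]; exact (QuotientGroup.eq_one_iff _).mpr (hZM (h3 g)))
      (fun h => hgM ((QuotientGroup.eq_one_iff g).mp h))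
    let F : Ω → MulAction.orbit (MulAut G) g := fun u => ⟨g * u, by
      have hu : orderOf (u : G) ∣ orderOf ((g : G) : G ⧸ M) := by
        rw [hgp]; exact orderOf_dvd_of_pow_eq_one u.2.2
      let φ : G →* G := (monoidHomOfForallMemZpowers hgen hu).comp (QuotientGroup.mk' M)
      have hφg : φ g = u := monoidHomOfForallMemZpowers_apply_gen hgen hu
      have hval : ∀ c, φ c ∈ Subgroup.zpowers (u : G) := fun c => by
        obtain ⟨i, hi⟩ := hgen ((c : G) : G ⧸ M)
        refine ⟨i, ?_⟩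
        show (u : G) ^ i = monoidHomOfForallMemZpowers hgen hu ((c : G) : G ⧸ M)
        rw [← hi, map_zpow, monoidHomOfForallMemZpowers_apply_gen]
      have hmem := mem_orbit_mul φ (fun c => (Subgroup.zpowers_le.mpr u.2.1) (hval c)) (fun c => by
        have hM' : φ c ∈ M := hZM ((Subgroup.zpowers_le.mpr u.2.1) (hval c))
        show monoidHomOfForallMemZpowers hgen hu ((φ c : G) : G ⧸ M) = 1
        rw [(QuotientGroup.eq_one_iff _).mpr hM', map_one]) g
      rwa [hφg] at hmem⟩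
    calc p * p = p ^ 2 := (pow_two p).symm
      _ ≤ p ^ j := Nat.pow_le_pow_right hpp.pos hΩ
      _ = Nat.card Ω := hj.symm
      _ ≤ _ := Nat.card_le_card_of_injective F fun a b hab =>
          Subtype.ext (mul_left_cancel (congrArg Subtype.val hab))
  -- case 4: `Ω₁(Z) = G'` has order `p`
  set c₀ := x₀ * y₀ * x₀⁻¹ * y₀⁻¹ with hc₀
  have hc₀p : c₀ ^ p = 1 := hcp x₀ y₀
  have hc₀o : orderOf c₀ = p := orderOf_eq_prime hc₀p hxy₀
  have hΩc : ∀ u : G, u ∈ Z → u ^ p = 1 → u ∈ Subgroup.zpowers c₀ := by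
    intro u hu hup
    have hle : Subgroup.zpowers c₀ ≤ Ω := Subgroup.zpowers_le.mpr (hGΩ x₀ y₀)
    have heq : Subgroup.zpowers c₀ = Ω := Subgroup.eq_of_le_of_card_ge hle (by
      rw [hj, Nat.card_zpowers, hc₀o]
      calc p ^ j ≤ p ^ 1 := Nat.pow_le_pow_right hpp.pos (by omega)
        _ = p := pow_one p)
    rw [heq]; exact ⟨hu, hup⟩
  -- central `p`-elements form a cyclic group
  have hcyc : ∀ (n : ℕ) (a b : G), a ∈ Z → b ∈ Z → a ^ p ^ n = 1 → b ^ p ^ n = 1 →
      b ∈ Subgroup.zpowers a ∨ a ∈ Subgroup.zpowers b := by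
    intro n
    induction n with
    | zero =>
      intro a b ha hb ha' hb'
      rw [pow_zero, pow_one] at hb'
      exact Or.inl (hb' ▸ one_mem _)
    | succ n ih =>
      have key : ∀ a b : G, a ∈ Z → b ∈ Z → a ^ p ^ (n + 1) = 1 → ∀ i : ℤ, b ^ p = (a ^ p) ^ i →
          b ∈ Subgroup.zpowers a ∨ a ∈ Subgroup.zpowers b := by
        intro a b ha hb ha' i hi
        rcases eq_or_ne (a ^ p) 1 with hap | hap
        · rw [hap, one_zpow] at hi
          rcases eq_or_ne a 1 with rfl | ha1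
          · exact Or.inr (one_mem _)
          left
          have h1 := hΩc b hb hi
          have h4 : Subgroup.zpowers a = Subgroup.zpowers c₀ := Subgroup.eq_of_le_of_card_ge
            (Subgroup.zpowers_le.mpr (hΩc a ha hap)) (by
              rw [Nat.card_zpowers, Nat.card_zpowers, hc₀o, orderOf_eq_prime hap ha1])
          rwa [h4]
        · left
          have hcomm : Commute b (a ^ (-i)) := Subgroup.mem_center_iff.mp (Z.zpow_mem ha (-i)) b
          have h1 : (b * a ^ (-i)) ^ p = 1 := by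
            rw [hcomm.mul_pow, hi, ← zpow_natCast (a ^ (-i)), ← zpow_mul, ← zpow_natCast a p, ← zpow_mul,
              ← zpow_add]
            rw [show (p : ℤ) * i + -i * p = 0 by ring, zpow_zero]
          have h2 := hΩc _ (Z.mul_mem hb (Z.zpow_mem ha _)) h1
          obtain ⟨s, hs⟩ : p ∣ orderOf a := by
            obtain ⟨l, -, hl⟩ := (Nat.dvd_prime_pow hpp).mp (orderOf_dvd_of_pow_eq_one ha')
            rcases Nat.eq_zero_or_pos l with rfl | hl0
            · rw [pow_zero, orderOf_eq_one_iff] at hl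
              exact absurd (by rw [hl, one_pow]) hap
            · exact hl ▸ dvd_pow_self p hl0.ne'
          have hu : c₀ ∈ Subgroup.zpowers a := by
            have hos : orderOf (a ^ s) = p := by
              rw [orderOf_pow_of_dvd (fun h => (orderOf_pos a).ne' (by rw [hs, h, mul_zero]))
                (Dvd.intro_left _ hs.symm), hs, Nat.mul_div_cancel _ (Nat.pos_of_ne_zero fun h =>
                (orderOf_pos a).ne' (by rw [hs, h, mul_zero]))]
            have h3 := hΩc (a ^ s) (Z.pow_mem ha s) (hos ▸ pow_orderOf_eq_one _)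
            have h4 : Subgroup.zpowers (a ^ s) = Subgroup.zpowers c₀ := Subgroup.eq_of_le_of_card_ge
              (Subgroup.zpowers_le.mpr h3) (by rw [Nat.card_zpowers, Nat.card_zpowers, hc₀o, hos])
            exact Subgroup.zpowers_le.mpr (Subgroup.pow_mem _ (Subgroup.mem_zpowers a) s)
              (h4 ▸ Subgroup.mem_zpowers c₀)
          rw [show b = b * a ^ (-i) * a ^ i by rw [mul_assoc, ← zpow_add, neg_add_cancel, zpow_zero, mul_one]]
          exact mul_mem (Subgroup.zpowers_le.mpr hu h2) (Subgroup.zpow_mem _ (Subgroup.mem_zpowers a) i)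
      intro a b ha hb ha' hb'
      rcases ih (a ^ p) (b ^ p) (Z.pow_mem ha p) (Z.pow_mem hb p)
        (by rw [← pow_mul, ← pow_succ']; exact ha') (by rw [← pow_mul, ← pow_succ']; exact hb')
        with ⟨i, hi⟩ | ⟨i, hi⟩
      · exact key a b ha hb ha' i hi.symm
      · exact (key b a hb ha hb' i hi.symm).symm
  have hsw : ∀ a b : G, a * b * a⁻¹ * b⁻¹ = (b * a * b⁻¹ * a⁻¹)⁻¹ := fun a b => by group
  -- powers of a product
  have hpowmul : ∀ (a b : G) (n : ℕ), (a * b) ^ n = a ^ n * b ^ n * (b * a * b⁻¹ * a⁻¹) ^ n.choose 2 := by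
    intro a b n
    induction n with
    | zero => simp
    | succ n ih =>
      set d := b * a * b⁻¹ * a⁻¹ with hd
      have hdc : ∀ (k : ℕ) (c : G), Commute c (d ^ k) := fun k c => Commute.pow_right (hcen b a c) k
      have h1 : b ^ n * a = d ^ n * a * b ^ n := by
        rw [← hcpow b a n]; group
      calc (a * b) ^ (n + 1) = a ^ n * b ^ n * d ^ n.choose 2 * (a * b) := by rw [pow_succ, ih]
        _ = a ^ n * (b ^ n * a) * b * d ^ n.choose 2 := by
            rw [mul_assoc _ _ (a * b), ← (hdc _ (a * b)).eq]; simp only [mul_assoc]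
        _ = a ^ n * (d ^ n * a) * (b ^ n * b) * d ^ n.choose 2 := by rw [h1]; simp only [mul_assoc]
        _ = a ^ (n + 1) * d ^ n * (b ^ (n + 1) * d ^ n.choose 2) := by
            rw [← (hdc n a).eq, pow_succ, pow_succ]; simp only [mul_assoc]
        _ = a ^ (n + 1) * (b ^ (n + 1) * d ^ n) * d ^ n.choose 2 := by
            rw [(hdc n (b ^ (n + 1))).eq]; simp only [mul_assoc]
        _ = a ^ (n + 1) * b ^ (n + 1) * d ^ (n + 1).choose 2 := by
            rw [show (n + 1).choose 2 = n + n.choose 2 by rw [Nat.choose_succ_succ', Nat.choose_one_right],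
              pow_add d]
            simp only [mul_assoc]
  have hpart : ∀ x y : G, x * y * x⁻¹ * y⁻¹ ≠ 1 → ∃ g : G, (∃ k, g ^ p ^ k = 1) ∧ g * y * g⁻¹ * y⁻¹ ≠ 1 := by
    intro x y hxy
    obtain ⟨m, k, hm, hk⟩ := FGS77.exists_pow_pPart p x
    refine ⟨x ^ m, ⟨k, hk ▸ pow_orderOf_eq_one _⟩, ?_⟩
    rw [hcpow]
    intro h
    exact hm ((orderOf_eq_prime (hcp x y) hxy) ▸ orderOf_dvd_of_pow_eq_one h)
  obtain ⟨g, ⟨kg, hg⟩, hgy⟩ := hpart x₀ y₀ hxy₀
  obtain ⟨h, ⟨kh, hh⟩, hgh⟩ := hpart y₀ g (fun e => hgy (by rw [hsw, e, inv_one]))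
  have hpk : ∀ (a : G) (k : ℕ), a ^ p ^ k = 1 → ∀ l, (a ^ p) ^ p ^ (k + l) = 1 := fun a k ha l => by
    rw [← pow_mul, mul_comm, pow_mul, pow_add, pow_mul, ha, one_pow, one_pow]
  obtain ⟨g, w₀, u, hgw₀, hw₀⟩ : ∃ g w₀ u : G, g * w₀ * g⁻¹ * w₀⁻¹ ≠ 1 ∧ w₀ ^ p = u ^ p.choose 2 ∧ u ∈ Ω ∧
      (∃ k, g ^ p ^ k = 1) := by
    have main : ∀ g h : G, (∃ k, g ^ p ^ k = 1) → g * h * g⁻¹ * h⁻¹ ≠ 1 → h ^ p ∈ Subgroup.zpowers (g ^ p) →
        ∃ g w₀ u : G, g * w₀ * g⁻¹ * w₀⁻¹ ≠ 1 ∧ w₀ ^ p = u ^ p.choose 2 ∧ u ∈ Ω ∧ (∃ k, g ^ p ^ k = 1) := by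
      rintro g h hg hgh ⟨i, hi⟩
      refine ⟨g, h * g ^ (-i), _, ?_, ?_, hGΩ (g ^ (-i)) h, hg⟩
      · intro e
        refine hgh ?_
        calc g * h * g⁻¹ * h⁻¹ = g * (h * g ^ (-i)) * g⁻¹ * (h * g ^ (-i))⁻¹ := by group
          _ = 1 := e
      · have h1 : (g ^ p) ^ i = h ^ p := hi
        rw [hpowmul]
        have h2 : h ^ p * (g ^ (-i)) ^ p = 1 := by
          rw [← h1, ← zpow_natCast (g ^ (-i)), ← zpow_natCast g p, ← zpow_mul, ← zpow_mul, ← zpow_add]
          rw [show (p : ℤ) * i + -i * p = 0 by ring, zpow_zero]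
        rw [h2, one_mul]
    rcases hcyc (kg + kh) (g ^ p) (h ^ p) (h3 g) (h3 h) (hpk g kg hg kh)
      (add_comm kh kg ▸ hpk h kh hh kg) with hm | hm
    · exact main g h ⟨kg, hg⟩ (fun e => hgh (by rw [hsw, e, inv_one])) hm
    · exact main h g ⟨kh, hh⟩ hgh hm
  obtain ⟨hu, kg, hg⟩ := hw₀.2
  replace hw₀ := hw₀.1
  obtain ⟨w, g₁, hwg, hw⟩ : ∃ w g₁ : G, w * g₁ * w⁻¹ * g₁⁻¹ ≠ 1 ∧ w ^ p * c₀ ^ p.choose 2 = 1 := by
    have hwg₀ : w₀ * g * w₀⁻¹ * g⁻¹ ≠ 1 := fun e => hgw₀ (by rw [hsw, e, inv_one])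
    rcases hpp.eq_two_or_odd with h2p | hodd
    swap
    · have hd : p ∣ p.choose 2 := hpp.dvd_choose_self two_ne_zero (by have := hpp.two_le; omega)
      obtain ⟨d, hd⟩ := hd
      refine ⟨w₀, g, hwg₀, ?_⟩
      rw [hw₀, hd, pow_mul, pow_mul, hu.2, hc₀p, one_pow, one_mul]
    · have hC : p.choose 2 = 1 := by rw [h2p]; rfl
      rw [hC, pow_one] at hw₀ ⊢
      have hcc : c₀ * c₀ = 1 := by rw [← pow_two]; rw [h2p] at hc₀p; exact hc₀p
      have hsplit : ∀ v : G, v ∈ Z → v ^ p = 1 → v = 1 ∨ v = c₀ := by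
        intro v hv hvp
        obtain ⟨i, rfl⟩ := hΩc v hv hvp
        rcases Int.even_or_odd i with ⟨d, rfl⟩ | ⟨d, rfl⟩
        · left
          show c₀ ^ (d + d) = 1
          rw [zpow_add, ← (Commute.refl c₀).mul_zpow, hcc, one_zpow]
        · right
          show c₀ ^ (2 * d + 1) = c₀
          rw [zpow_add_one, two_mul, zpow_add, ← (Commute.refl c₀).mul_zpow, hcc, one_zpow, one_mul]
      rcases hsplit u hu.1 hu.2 with hu1 | hu1
      swap
      · exact ⟨w₀, g, hwg₀, by rw [hw₀, hu1]; exact hcc⟩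
      rw [hu1] at hw₀
      have hw02 : w₀ * w₀ = 1 := by rw [h2p, pow_two] at hw₀; exact hw₀
      suffices hsuff : ∃ w g₁ : G, w * g₁ * w⁻¹ * g₁⁻¹ ≠ 1 ∧ w * w = c₀ by
        obtain ⟨w, g₁, h1, h2⟩ := hsuff
        exact ⟨w, g₁, h1, by rw [h2p, pow_two, h2]; exact hcc⟩
      by_cases hg2 : g * g = 1
      · refine ⟨g * w₀, w₀, ?_, ?_⟩
        · intro e
          refine hgw₀ ?_
          calc g * w₀ * g⁻¹ * w₀⁻¹ = g * w₀ * w₀ * (g * w₀)⁻¹ * w₀⁻¹ := by group
            _ = 1 := e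
        · rcases hsplit (w₀ * g * w₀⁻¹ * g⁻¹) (h2 w₀ g) (hcp _ _) with e | e
          · exact absurd e hwg₀
          · have hgi : g⁻¹ = g := inv_eq_of_mul_eq_one_right hg2
            have hwi : w₀⁻¹ = w₀ := inv_eq_of_mul_eq_one_right hw02
            calc g * w₀ * (g * w₀) = g * (w₀ * g * w₀⁻¹ * g⁻¹) * g := by
                  rw [hgi, hwi]; simp [mul_assoc, hg2]
              _ = (w₀ * g * w₀⁻¹ * g⁻¹) * (g * g) := by rw [hcen w₀ g g]; simp only [mul_assoc]
              _ = c₀ := by rw [hg2, e, mul_one]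
      · have hgZ : g * g ∈ Z := by have := h3 g; rwa [h2p, pow_two] at this
        have hgk : (g * g) ^ p ^ kg = 1 := by
          rw [(Commute.refl g).mul_pow, hg, one_mul]
        rcases hcyc (kg + 1) (g * g) c₀ hgZ (h2 x₀ y₀) (by rw [pow_succ, pow_mul, hgk, one_pow])
          (by rw [pow_succ', pow_mul, hc₀p, one_pow]) with ⟨j, hj⟩ | hm
        · have hj' : (g * g) ^ j = c₀ := hj
          rcases Int.even_or_odd j with ⟨d, rfl⟩ | ⟨d, rfl⟩
          · have hv : g ^ (d + d) ∈ Z := by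
              rw [zpow_add, ← (Commute.refl g).mul_zpow]; exact Z.zpow_mem hgZ d
            refine ⟨w₀ * g ^ (d + d), g, ?_, ?_⟩
            · intro e
              refine hwg₀ ?_
              calc w₀ * g * w₀⁻¹ * g⁻¹ = w₀ * g ^ (d + d) * g * (w₀ * g ^ (d + d))⁻¹ * g⁻¹ := by group
                _ = 1 := e
            · calc w₀ * g ^ (d + d) * (w₀ * g ^ (d + d))
                  = w₀ * (g ^ (d + d) * w₀) * g ^ (d + d) := by simp only [mul_assoc]
                _ = w₀ * w₀ * (g ^ (d + d) * g ^ (d + d)) := by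
                    rw [← Subgroup.mem_center_iff.mp hv w₀]; simp only [mul_assoc]
                _ = c₀ := by rw [hw02, one_mul, ← (Commute.refl g).mul_zpow]; exact hj'
          · refine ⟨g ^ (2 * d + 1), w₀, ?_, ?_⟩
            · intro e
              refine hgw₀ ?_
              have hgd : g ^ (2 * d) ∈ Z := by
                rw [two_mul, zpow_add, ← (Commute.refl g).mul_zpow]; exact Z.zpow_mem hgZ d
              calc g * w₀ * g⁻¹ * w₀⁻¹ = g * w₀ * (g ^ (2 * d) * (g ^ (2 * d))⁻¹) * g⁻¹ * w₀⁻¹ := by group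
                _ = g * (w₀ * g ^ (2 * d)) * ((g ^ (2 * d))⁻¹ * g⁻¹ * w₀⁻¹) := by group
                _ = g * (g ^ (2 * d) * w₀) * ((g ^ (2 * d))⁻¹ * g⁻¹ * w₀⁻¹) := by
                    rw [Subgroup.mem_center_iff.mp hgd w₀]
                _ = g ^ (2 * d + 1) * w₀ * (g ^ (2 * d + 1))⁻¹ * w₀⁻¹ := by group
                _ = 1 := e
            · rw [← (Commute.refl g).mul_zpow]; exact hj'
        · have hg2' : (g * g) ^ p = 1 := by
            obtain ⟨i, hi⟩ := hm
            have hi' : c₀ ^ i = g * g := hi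
            rw [← hi', ← zpow_natCast (c₀ ^ i), ← zpow_mul, mul_comm, zpow_mul, zpow_natCast, hc₀p, one_zpow]
          exact ⟨g, w₀, hgw₀, (hsplit _ hgZ hg2').resolve_left hg2⟩
  -- the transvection
  have ha : ∀ a : G, ∃ n : ℕ, w⁻¹ * a⁻¹ * w * a = c₀ ^ n := fun a => by
    have hmem : w⁻¹ * a⁻¹ * w * a ∈ Ω := by
      rw [show w⁻¹ * a⁻¹ * w * a = w⁻¹ * a⁻¹ * w⁻¹⁻¹ * a⁻¹⁻¹ by group]; exact hGΩ _ _
    obtain ⟨n, hn⟩ := (mem_powers_iff_mem_zpowers (x := c₀)).mpr (hΩc _ hmem.1 hmem.2)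
    exact ⟨n, hn.symm⟩
  choose α hα using ha
  let F : ℕ → G := fun n => w ^ n * c₀ ^ n.choose 2
  have hcc₀ : ∀ (k : ℕ) (c : G), Commute c (c₀ ^ k) := fun k c => Commute.pow_right (hcen x₀ y₀ c) k
  have hFadd : ∀ a b : ℕ, F (a + b) = F a * F b * c₀ ^ (a * b) := by
    intro a b
    show w ^ (a + b) * c₀ ^ (a + b).choose 2 =
      w ^ a * c₀ ^ a.choose 2 * (w ^ b * c₀ ^ b.choose 2) * c₀ ^ (a * b)
    have e : (a + b).choose 2 = a.choose 2 + b.choose 2 + a * b := by
      induction b with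
      | zero => simp
      | succ b ih =>
        rw [← add_assoc, Nat.choose_succ_succ', Nat.choose_succ_succ' b, Nat.choose_one_right,
          Nat.choose_one_right, ih]
        ring
    rw [e, pow_add, pow_add, pow_add]
    calc w ^ a * w ^ b * (c₀ ^ a.choose 2 * c₀ ^ b.choose 2 * c₀ ^ (a * b))
        = w ^ a * (w ^ b * c₀ ^ a.choose 2) * (c₀ ^ b.choose 2 * c₀ ^ (a * b)) := by simp only [mul_assoc]
      _ = _ := by rw [(hcc₀ _ (w ^ b)).eq]; simp only [mul_assoc]
  have hFp : ∀ a, F (a + p) = F a := fun a => by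
    rw [hFadd, show F p = 1 from hw, mul_one, mul_comm a p, pow_mul, hc₀p, one_pow, mul_one]
  have hFmod : ∀ a, F (a % p) = F a := by
    intro a
    induction a using Nat.strong_induction_on with
    | _ a ih =>
      rcases lt_or_ge a p with hlt | hge
      · rw [Nat.mod_eq_of_lt hlt]
      · rw [Nat.mod_eq_sub_mod hge, ih _ (by have := hpp.pos; omega), ← hFp (a - p), Nat.sub_add_cancel hge]
  have hFeq : ∀ a b : ℕ, c₀ ^ a = c₀ ^ b → F a = F b := fun a b e => by
    rw [← hFmod a, ← hFmod b]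
    congr 1
    have := pow_eq_pow_iff_modEq.mp e
    rwa [hc₀o] at this
  have hαmul : ∀ a b, c₀ ^ α (a * b) = c₀ ^ (α a + α b) := fun a b => by
    rw [← hα, pow_add, mul_inv_rev]
    calc w⁻¹ * (b⁻¹ * a⁻¹) * w * (a * b) = w⁻¹ * b⁻¹ * w * (w⁻¹ * a⁻¹ * w * a) * b := by group
      _ = w⁻¹ * b⁻¹ * w * (c₀ ^ α a * b) := by rw [hα a, mul_assoc]
      _ = w⁻¹ * b⁻¹ * w * b * c₀ ^ α a := by rw [← (hcc₀ (α a) b).eq, ← mul_assoc]
      _ = c₀ ^ α a * c₀ ^ α b := by rw [hα b, ← pow_add, ← pow_add, add_comm]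
  have hFconj : ∀ (n : ℕ) (b : G), b⁻¹ * F n * b = F n * c₀ ^ (n * α b) := by
    intro n b
    have h1 : b⁻¹ * w * b = w * c₀ ^ α b := by rw [← hα]; group
    calc b⁻¹ * (w ^ n * c₀ ^ n.choose 2) * b = b⁻¹ * w ^ n * (c₀ ^ n.choose 2 * b) := by simp only [mul_assoc]
      _ = b⁻¹ * w ^ n * b⁻¹⁻¹ * c₀ ^ n.choose 2 := by rw [← (hcc₀ _ b).eq, inv_inv]; simp only [mul_assoc]
      _ = (b⁻¹ * w * b) ^ n * c₀ ^ n.choose 2 := by rw [← conj_pow, inv_inv]
      _ = w ^ n * c₀ ^ (α b * n) * c₀ ^ n.choose 2 := by rw [h1, (hcc₀ _ w).mul_pow, ← pow_mul]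
      _ = _ := by
          rw [mul_comm (α b) n]
          show _ = w ^ n * c₀ ^ n.choose 2 * c₀ ^ (n * α b)
          rw [mul_assoc, mul_assoc, ← pow_add, ← pow_add, add_comm]
  let ψ₀ : G →* G := MonoidHom.mk' (fun a => a * F (α a)) fun a b => by
    show a * b * F (α (a * b)) = a * F (α a) * (b * F (α b))
    rw [hFeq _ _ (hαmul a b), hFadd]
    calc a * b * (F (α a) * F (α b) * c₀ ^ (α a * α b))
        = a * b * (F (α a) * c₀ ^ (α a * α b)) * F (α b) := by
          rw [mul_assoc (F (α a)), (hcc₀ _ (F (α b))).eq]; simp only [mul_assoc]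
      _ = a * b * (b⁻¹ * F (α a) * b) * F (α b) := by rw [hFconj]
      _ = _ := by group
  have hFw : ∀ n, Commute (F n) w := fun n =>
    ((Commute.refl w).pow_left n).mul_left ((hcc₀ _ w).symm)
  have hψinj : Function.Injective ψ₀ := by
    rw [← MonoidHom.ker_eq_bot_iff, Subgroup.eq_bot_iff_forall]
    intro a ha'
    have ha1 : a * F (α a) = 1 := ha'
    have h1 : w⁻¹ * a⁻¹ * w * a = 1 := by
      rw [eq_inv_of_mul_eq_one_left ha1, inv_inv, mul_assoc w⁻¹, (hFw _).eq]
      group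
    rw [hα] at h1
    have h2 : F (α a) = 1 := by
      rw [hFeq (α a) 0 (by rw [h1, pow_zero])]; simp [F]
    rwa [h2, mul_one] at ha1
  let ψ : MulAut G := MulEquiv.ofBijective ψ₀ ⟨hψinj, Finite.injective_iff_surjective.mp hψinj⟩
  have hwZ : w ∉ Z := fun hwz => hwg (by
    rw [← Subgroup.mem_center_iff.mp hwz g₁, mul_inv_cancel_right, mul_inv_cancel])
  refine count_outside hp hpp.two_le (t := p * p) htsq (Subgroup.centralizer ({w} : Set G)) (fun e => hwg ?_)
    (fun a ha' => ?_) ?_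
  · rw [← Subgroup.mem_centralizer_singleton_iff.mp (e ▸ Subgroup.mem_top g₁ :
      g₁ ∈ Subgroup.centralizer ({w} : Set G)), mul_inv_cancel_right, mul_inv_cancel]
  swap
  · calc p * p * p ≤ p * p * (p * p - p) := Nat.mul_le_mul_left _ (by
          rw [← Nat.sub_one_mul]; exact Nat.le_mul_of_pos_left p (by have := hpp.two_le; omega))
      _ ≤ (Subgroup.center G).index * (p * p - p) := Nat.mul_le_mul_right _ hq2
  -- the orbit of `a` meets `p` cosets of `Z` in `p` points each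
  have hna' : ¬ p ∣ α a := fun ⟨d, hd⟩ => ha' (by
    have e := hα a
    rw [hd, pow_mul, hc₀p, one_pow, mul_assoc, mul_assoc, inv_mul_eq_one] at e
    rw [Subgroup.mem_centralizer_singleton_iff]
    calc a * w = a * (a⁻¹ * (w * a)) := congrArg (a * ·) e
      _ = w * a := mul_inv_cancel_left _ _)
  set v := F (α a) with hv
  have hiter : ∀ n : ℕ, a * v ^ n ∈ MulAction.orbit (MulAut G) a := by
    intro n
    induction n with
    | zero => rw [pow_zero, mul_one]; exact MulAction.mem_orbit_self a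
    | succ n ih =>
      obtain ⟨φ, hφ⟩ := ih
      refine ⟨ψ * φ, ?_⟩
      show ψ (φ a) = _
      rw [show φ a = a * v ^ n from hφ]
      show a * v ^ n * F (α (a * v ^ n)) = _
      have hc : c₀ ^ α (a * v ^ n) = c₀ ^ α a := by
        rw [hαmul, pow_add]
        have hv0 : c₀ ^ α (v ^ n) = 1 := by
          rw [← hα, hv, mul_assoc w⁻¹, (((hFw (α a)).pow_left n).inv_left).eq]
          group
        rw [hv0, mul_one]
      rw [hFeq _ _ hc, mul_assoc, ← pow_succ]
  -- inner automorphisms move by `c₀`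
  have hinner : ∀ (n i : ℕ), a * v ^ n * c₀ ^ i ∈ MulAction.orbit (MulAut G) a := by
    intro n i
    obtain ⟨φ, hφ⟩ := hiter n
    obtain ⟨b, hb⟩ : ∃ b, a * b * a⁻¹ * b⁻¹ ≠ 1 := by
      refine ⟨w, fun e => ha' (Subgroup.mem_centralizer_singleton_iff.mpr ?_)⟩
      exact mul_inv_eq_iff_eq_mul.mp (mul_inv_eq_one.mp e)
    -- a conjugating element
    have hvb : ∃ y : G, (a * v ^ n) * y * (a * v ^ n)⁻¹ * y⁻¹ ≠ 1 := by
      refine ⟨w, ?_⟩
      rw [hcmul, show v ^ n * w * (v ^ n)⁻¹ * w⁻¹ = 1 by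
        rw [((hFw (α a)).pow_left n).eq, mul_inv_cancel_right, mul_inv_cancel], mul_one]
      exact fun e => ha' (Subgroup.mem_centralizer_singleton_iff.mpr
        (mul_inv_eq_iff_eq_mul.mp (mul_inv_eq_one.mp e)))
    obtain ⟨y, hy⟩ := hvb
    set d := (a * v ^ n) * y * (a * v ^ n)⁻¹ * y⁻¹ with hd
    have hdo : Subgroup.zpowers d = Subgroup.zpowers c₀ := Subgroup.eq_of_le_of_card_ge
      (Subgroup.zpowers_le.mpr (hΩc d (h2 _ _) (hcp _ _)))
      (by rw [Nat.card_zpowers, Nat.card_zpowers, hc₀o, orderOf_eq_prime (hcp (a * v ^ n) y) hy])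
    obtain ⟨l, hl⟩ : c₀ ^ i ∈ Submonoid.powers d :=
      (mem_powers_iff_mem_zpowers (x := d)).mpr (hdo ▸ Subgroup.pow_mem _ (Subgroup.mem_zpowers c₀) i)
    have hl' : d ^ l = c₀ ^ i := hl
    refine ⟨MulAut.conj (y ^ l)⁻¹ * φ, ?_⟩
    show (y ^ l)⁻¹ * φ a * (y ^ l)⁻¹⁻¹ = _
    rw [show φ a = a * v ^ n from hφ, inv_inv, ← hl']
    have e : (a * v ^ n) * y ^ l = d ^ l * y ^ l * (a * v ^ n) := by
      have h1 := hcpow y (a * v ^ n) l
      rw [hsw y (a * v ^ n), ← hd, inv_pow] at h1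
      calc (a * v ^ n) * y ^ l = (y ^ l * (a * v ^ n) * (y ^ l)⁻¹ * (a * v ^ n)⁻¹)⁻¹ * y ^ l * (a * v ^ n) := by group
        _ = _ := by rw [h1, inv_inv]
    rw [mul_assoc, e, ← mul_assoc, ← mul_assoc]
    have hdc : (y ^ l)⁻¹ * d ^ l = d ^ l * (y ^ l)⁻¹ :=
      (Commute.pow_right (hcen (a * v ^ n) y (y ^ l)⁻¹) l).eq
    rw [← mul_assoc (y ^ l)⁻¹ (d ^ l) (y ^ l), hdc, inv_mul_cancel_right, mul_assoc (d ^ l)]
    exact (Commute.pow_right (hcen (a * v ^ n) y (a * v ^ n)) l).eq.symm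
  let Φ : Fin p × Fin p → MulAction.orbit (MulAut G) a := fun ni => ⟨_, hinner ni.1 ni.2⟩
  have hΦ : Function.Injective Φ := by
    rintro ⟨n, i⟩ ⟨n', i'⟩ e
    have e' : a * v ^ (n : ℕ) * c₀ ^ (i : ℕ) = a * v ^ (n' : ℕ) * c₀ ^ (i' : ℕ) := congrArg Subtype.val e
    rw [mul_assoc, mul_assoc, mul_right_inj] at e'
    have hvo : orderOf ((v : G) : G ⧸ Z) = p := by
      refine orderOf_eq_prime ?_ fun e1 => ?_
      · rw [← QuotientGroup.mk_pow]; exact (QuotientGroup.eq_one_iff _).mpr (h3 v)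
      · have hwq : ((v : G) : G ⧸ Z) = (w : G ⧸ Z) ^ α a := by
          show ((w ^ α a * c₀ ^ (α a).choose 2 : G) : G ⧸ Z) = _
          rw [QuotientGroup.mk_mul, (QuotientGroup.eq_one_iff _).mpr (Z.pow_mem (h2 x₀ y₀) _), mul_one,
            QuotientGroup.mk_pow]
        rw [hwq] at e1
        have hwo : orderOf ((w : G) : G ⧸ Z) = p := orderOf_eq_prime
          (by rw [← QuotientGroup.mk_pow]; exact (QuotientGroup.eq_one_iff _).mpr (h3 w))
          (fun e2 => hwZ ((QuotientGroup.eq_one_iff w).mp e2))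
        exact hna' (hwo ▸ orderOf_dvd_of_pow_eq_one e1)
    have hn : n = n' := by
      have e2 := congrArg (fun t : G => (t : G ⧸ Z)) e'
      have hc1 : ((c₀ : G) : G ⧸ Z) = 1 := (QuotientGroup.eq_one_iff c₀).mpr (h2 x₀ y₀)
      simp only [QuotientGroup.mk_mul, QuotientGroup.mk_pow, hc1, one_pow, mul_one] at e2
      exact Fin.ext (pow_injOn_Iio_orderOf (by rw [hvo]; exact n.2) (by rw [hvo]; exact n'.2) e2)
    subst hn
    have e3 : c₀ ^ (i : ℕ) = c₀ ^ (i' : ℕ) := mul_left_cancel e'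
    exact Prod.ext rfl (Fin.ext (pow_injOn_Iio_orderOf (by rw [hc₀o]; exact i.2) (by rw [hc₀o]; exact i'.2) e3))
  have := Nat.card_le_card_of_injective Φ hΦ
  simpa using this

end Cfsg.Agent.S4067
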