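import Cfsg.Statements.S4068
import Cfsg.Agent.FGS77.FourOrbitsCount
import Cfsg.Agent.S0494

set_option autoImplicit false
open Cfsg
open scoped commutatorElement

namespace Cfsg.Agent.S4068
open scoped Pointwise

/-- There is no group with the local data of the order `504` case in which every order is 2, 3 or 7. -/
theorem no_504 {G : Type*} [Group G] [Finite G] {M P : Subgroup G} {c0 w : G}
    (hP2 : IsPGroup 2 P) (hM : M = Subgroup.normalizer (P : Set G))
    (hP : Nat.card P = 8) (hcardM : Nat.card M = 56) (hidx : M.index = 9) (hc0M : c0 ∈ M)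
    (hc0 : orderOf c0 = 7) (hw : orderOf w = 2) (hwc0 : w * c0 * w = c0⁻¹)
    (hord : ∀ g : G, g ≠ 1 → orderOf g = 2 ∨ orderOf g = 3 ∨ orderOf g = 7)
    (hM2 : ∀ g ∈ M, orderOf g = 2 → g ∈ P)
    (hCd : ∀ d ∈ P, d ≠ 1 → Subgroup.centralizer ({d} : Set G) = P)
    (hTI : ∀ u ∈ P, u ≠ 1 → w * u * w ∈ P → w ∈ M) : False := by
  classical
  have hw1 : w ≠ 1 := fun h => by rw [h, orderOf_one] at hw; norm_num at hw
  have hww : w * w = 1 := by rw [← pow_two, ← hw, pow_orderOf_eq_one]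
  have hwi : w⁻¹ = w := inv_eq_of_mul_eq_one_right hww
  have hPM : P ≤ M := hM ▸ Subgroup.le_normalizer
  have hPc : ∀ g ∈ P, ∀ h ∈ P, g * h = h * g := fun g hg h hh => by
    rcases eq_or_ne h 1 with rfl | hh1
    · simp
    · exact Subgroup.mem_centralizer_singleton_iff.mp ((hCd h hh hh1).symm ▸ hg)
  have hP2' : ∀ g ∈ P, g * g = 1 := fun g hg => by
    rcases eq_or_ne g 1 with rfl | hg1
    · simp
    · obtain ⟨k, hk⟩ := hP2 ⟨g, hg⟩
      have hk' : g ^ 2 ^ k = 1 := congrArg Subtype.val hk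
      have h : orderOf g ∣ 2 ^ k := orderOf_dvd_of_pow_eq_one hk'
      rcases hord g hg1 with h' | h' | h' <;> rw [h'] at h
      · rw [← pow_two, ← h', pow_orderOf_eq_one]
      · exact absurd (Nat.prime_three.dvd_of_dvd_pow h) (by norm_num)
      · exact absurd ((by norm_num : Nat.Prime 7).dvd_of_dvd_pow h) (by norm_num)
  have hwM : w ∉ M := fun h => by
    have hwP := hM2 w h hw
    have h1 : c0⁻¹ * w * c0 ∈ P := by
      have := (Subgroup.mem_normalizer_iff.mp (hM ▸ M.inv_mem hc0M) w).mp hwP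
      simpa using this
    have h2 : c0⁻¹ * c0⁻¹ ∈ P := by
      have : c0⁻¹ * c0⁻¹ = c0⁻¹ * w * c0 * w := by
        calc c0⁻¹ * c0⁻¹ = c0⁻¹ * (w * c0 * w) := by rw [hwc0]
          _ = _ := by simp [mul_assoc]
      exact this ▸ P.mul_mem h1 hwP
    have h3 := hP2' _ h2
    have h4 : (c0⁻¹) ^ 4 = 1 := by rw [← h3]; simp [pow_succ, mul_assoc]
    have h5 := orderOf_dvd_of_pow_eq_one h4
    rw [orderOf_inv, hc0] at h5
    norm_num at h5
  let pt : G → G ⧸ M := fun x => ((x * w : G) : G ⧸ M)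
  let inf' : G ⧸ M := ((1 : G) : G ⧸ M)
  have hptinf : ∀ x ∈ P, pt x ≠ inf' := fun x hx h => hwM (by
    have h' : (x * w)⁻¹ * 1 ∈ M := QuotientGroup.eq.mp h
    rw [mul_one] at h'
    have h'' := M.inv_mem h'
    rw [inv_inv] at h''
    simpa using M.mul_mem (M.inv_mem (hPM hx)) h'')
  have hinj : ∀ x ∈ P, ∀ y ∈ P, pt x = pt y → x = y := fun x hx y hy h => by
    by_contra hne
    have h' : (x * w)⁻¹ * (y * w) ∈ M := QuotientGroup.eq.mp h
    have hu : x⁻¹ * y ≠ 1 := fun h1 => hne (inv_mul_eq_one.mp h1)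
    have h2 : w * (x⁻¹ * y) * w ∈ M := by simpa [mul_assoc, mul_inv_rev, hwi] using h'
    have huP : x⁻¹ * y ∈ P := P.mul_mem (P.inv_mem hx) hy
    have ho : orderOf (w * (x⁻¹ * y) * w) = 2 := by
      rw [show w * (x⁻¹ * y) * w = MulAut.conj w (x⁻¹ * y) by rw [MulAut.conj_apply, hwi],
        MulEquiv.orderOf_eq, orderOf_eq_prime_iff]
      exact ⟨by rw [pow_two]; exact hP2' _ huP, hu⟩
    exact hwM (hTI _ huP hu (hM2 _ h2 ho))
  letI : Fintype (G ⧸ M) := Fintype.ofFinite _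
  have hcq : Fintype.card (G ⧸ M) = 9 := by rw [← Nat.card_eq_fintype_card]; exact hidx
  have hinf1 : inf' ≠ pt 1 := (hptinf 1 P.one_mem).symm
  have hsurj : ∀ z : G ⧸ M, z ≠ inf' → ∃ x ∈ P, pt x = z := by
    letI : Fintype P := Fintype.ofFinite _
    let f : P → {z : G ⧸ M // z ≠ inf'} := fun x => ⟨pt x, hptinf x x.2⟩
    have hf : Function.Bijective f := by
      refine (Fintype.bijective_iff_injective_and_card f).mpr ⟨fun a b h =>
        Subtype.ext (hinj a a.2 b b.2 (congrArg Subtype.val h)), ?_⟩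
      rw [← Nat.card_eq_fintype_card, hP, Fintype.card_subtype_compl, Fintype.card_subtype_eq, hcq]
    intro z hz
    obtain ⟨x, hx⟩ := hf.2 ⟨z, hz⟩
    exact ⟨x, x.2, congrArg Subtype.val hx⟩
  have hw_inf : w • inf' = pt 1 := by simp [inf', pt, MulAction.Quotient.smul_mk]
  have hw_pt1 : w • pt 1 = inf' := by rw [← hw_inf, smul_smul, hww, one_smul]
  -- a fixed point of `w`
  obtain ⟨d, hdP, hd1, hwd⟩ : ∃ d ∈ P, d ≠ 1 ∧ w • pt d = pt d := by
    have hne : ∀ z : G ⧸ M, (z ≠ inf' ∧ z ≠ pt 1) ↔ (w • z ≠ inf' ∧ w • z ≠ pt 1) := fun z => by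
      constructor <;> rintro ⟨h1, h2⟩ <;> refine ⟨fun h => ?_, fun h => ?_⟩
      · exact h2 (smul_left_cancel w (h.trans hw_pt1.symm))
      · exact h1 (smul_left_cancel w (h.trans hw_inf.symm))
      · exact h2 (by rw [h, hw_inf])
      · exact h1 (by rw [h, hw_pt1])
    let σ : Equiv.Perm {z : G ⧸ M // z ≠ inf' ∧ z ≠ pt 1} :=
      (MulAction.toPerm w : Equiv.Perm (G ⧸ M)).subtypePerm (fun z => by exact (hne z).symm)
    have hcard : Fintype.card {z : G ⧸ M // z ≠ inf' ∧ z ≠ pt 1} = 7 := by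
      rw [Fintype.card_subtype,
        show (Finset.univ.filter fun z : G ⧸ M => z ≠ inf' ∧ z ≠ pt 1) =
          ({inf', pt 1} : Finset (G ⧸ M))ᶜ by ext; simp,
        Finset.card_compl, Finset.card_pair hinf1, hcq]
    haveI : Fact (Nat.Prime 2) := ⟨Nat.prime_two⟩
    obtain ⟨⟨z, hz, hz'⟩, hfix⟩ := Equiv.Perm.exists_fixed_point_of_prime (p := 2) (n := 1)
      (by rw [hcard]; norm_num) (σ := σ) (by
        ext z
        simp only [σ, pow_one, pow_two, Equiv.Perm.coe_mul, Equiv.Perm.coe_one, Function.comp_apply,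
          Equiv.Perm.subtypePerm_apply, MulAction.toPerm_apply, id_eq]
        show w • w • (z : G ⧸ M) = (z : G ⧸ M)
        rw [smul_smul, hww, one_smul])
    obtain ⟨d, hd, rfl⟩ := hsurj z hz
    exact ⟨d, hd, fun h => hz' (h ▸ rfl), congrArg Subtype.val hfix⟩
  -- the seven conjugates of `d`
  have hconjP : ∀ g ∈ M, ∀ x ∈ P, g * x * g⁻¹ ∈ P := fun g hg x hx =>
    (Subgroup.mem_normalizer_iff.mp (hM ▸ hg) x).mp hx
  suffices main : ∀ c : G, c ∈ M → orderOf c = 7 → w * c * w = c⁻¹ →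
      ∀ l : ℕ, l < 7 → d * (c * d * c⁻¹) = c ^ l * d * (c ^ l)⁻¹ → l = 5 by
    have hex : ∀ c : G, c ∈ M → orderOf c = 7 →
        ∃ l : ℕ, l < 7 ∧ d * (c * d * c⁻¹) = c ^ l * d * (c ^ l)⁻¹ := by
      intro c hcM hc
      have hne : d * (c * d * c⁻¹) ≠ 1 := fun h => by
        have h1 : d = c * d * c⁻¹ := by
          have h2 := hP2' d hdP
          exact (mul_left_cancel (h2.trans h.symm))
        have h3 : c ∈ P := hCd d hdP hd1 ▸ Subgroup.mem_centralizer_singleton_iff.mpr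
          (eq_mul_inv_iff_mul_eq.mp h1).symm
        have h4 := hP2' c h3
        have h5 : orderOf c ∣ 2 := orderOf_dvd_of_pow_eq_one (by rw [pow_two]; exact h4)
        rw [hc] at h5; norm_num at h5
      letI : Fintype P := Fintype.ofFinite _
      let f : Fin 7 → {x : P // x ≠ 1} := fun i => ⟨⟨c ^ (i : ℕ) * d * (c ^ (i : ℕ))⁻¹,
        hconjP _ (M.pow_mem hcM _) d hdP⟩, fun h => hd1 (by simpa using congrArg Subtype.val h)⟩
      have hf : Function.Bijective f := by
        refine (Fintype.bijective_iff_injective_and_card f).mpr ⟨fun a b h => ?_, ?_⟩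
        · have h' : c ^ (a : ℕ) * d * (c ^ (a : ℕ))⁻¹ = c ^ (b : ℕ) * d * (c ^ (b : ℕ))⁻¹ :=
            congrArg (fun t => ((t : P) : G)) (congrArg Subtype.val h)
          have h3 : (c ^ (a : ℕ))⁻¹ * c ^ (b : ℕ) ∈ P := hCd d hdP hd1 ▸
            Subgroup.mem_centralizer_singleton_iff.mpr (by
              calc (c ^ (a : ℕ))⁻¹ * c ^ (b : ℕ) * d
                  = (c ^ (a : ℕ))⁻¹ * (c ^ (b : ℕ) * d * (c ^ (b : ℕ))⁻¹) * c ^ (b : ℕ) := by group
                _ = (c ^ (a : ℕ))⁻¹ * (c ^ (a : ℕ) * d * (c ^ (a : ℕ))⁻¹) * c ^ (b : ℕ) := by rw [h']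
                _ = d * ((c ^ (a : ℕ))⁻¹ * c ^ (b : ℕ)) := by group)
          have h4 : ((c ^ (a : ℕ))⁻¹ * c ^ (b : ℕ)) ∈ Subgroup.zpowers c :=
            mul_mem (inv_mem (Subgroup.npow_mem_zpowers _ _)) (Subgroup.npow_mem_zpowers _ _)
          have h5 : orderOf ((c ^ (a : ℕ))⁻¹ * c ^ (b : ℕ)) ∣ Nat.gcd 7 2 := Nat.dvd_gcd
            ((orderOf_dvd_of_mem_zpowers h4).trans (dvd_of_eq hc))
            (orderOf_dvd_of_pow_eq_one (by rw [pow_two]; exact hP2' _ h3))
          have h6 : c ^ (a : ℕ) = c ^ (b : ℕ) :=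
            inv_mul_eq_one.mp (orderOf_eq_one_iff.mp (Nat.dvd_one.mp (by simpa using h5)))
          exact Fin.ext (pow_injOn_Iio_orderOf (by rw [hc]; exact a.2) (by rw [hc]; exact b.2) h6)
        · rw [Fintype.card_fin, Fintype.card_subtype_compl, Fintype.card_subtype_eq,
            ← Nat.card_eq_fintype_card, hP]
      obtain ⟨i, hi⟩ := hf.2 ⟨⟨_, P.mul_mem hdP (hconjP c hcM d hdP)⟩,
        fun h => hne (congrArg Subtype.val h)⟩
      exact ⟨i, i.2, (congrArg (fun t => ((t : P) : G)) (congrArg Subtype.val hi)).symm⟩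
    obtain ⟨l, hl, hrel⟩ := hex c0 hc0M hc0
    obtain ⟨l', hl', hrel'⟩ := hex c0⁻¹ (M.inv_mem hc0M) (by rw [orderOf_inv, hc0])
    have h5 := main c0 hc0M hc0 hwc0 l hl hrel
    have h5' := main c0⁻¹ (M.inv_mem hc0M) (by rw [orderOf_inv, hc0])
      (by rw [inv_inv]
          have := congrArg Inv.inv hwc0
          simpa [mul_assoc, hwi] using this) l' hl' hrel'
    subst h5 h5'
    -- conjugate the second relation by `c0`
    have h7 : c0 ^ 7 = 1 := hc0 ▸ pow_orderOf_eq_one c0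
    have h8 : c0 * d * c0⁻¹ * d = c0 ^ 3 * d * (c0 ^ 3)⁻¹ := by
      have h := congrArg (fun t => c0 * t * c0⁻¹) hrel'
      have he : c0 * (c0⁻¹) ^ 5 = c0 ^ 3 := by
        rw [inv_pow, mul_inv_eq_iff_eq_mul, ← pow_add, show 3 + 5 = 7 + 1 from rfl, pow_succ, h7,
          one_mul]
      calc c0 * d * c0⁻¹ * d = c0 * (d * (c0⁻¹ * d * (c0⁻¹)⁻¹)) * c0⁻¹ := by group
        _ = c0 * ((c0⁻¹) ^ 5 * d * ((c0⁻¹) ^ 5)⁻¹) * c0⁻¹ := h
        _ = c0 * (c0⁻¹) ^ 5 * d * (c0 * (c0⁻¹) ^ 5)⁻¹ := by group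
        _ = _ := by rw [he]
    have h9 : c0 * d * c0⁻¹ * d = d * (c0 * d * c0⁻¹) := hPc _ (hconjP c0 hc0M d hdP) d hdP
    rw [h8, hrel] at h9
    -- `D 3 = D 5`
    have h10 : c0 ^ 2 ∈ P := hCd d hdP hd1 ▸ Subgroup.mem_centralizer_singleton_iff.mpr (by
      calc c0 ^ 2 * d = (c0 ^ 3)⁻¹ * (c0 ^ 5 * d * (c0 ^ 5)⁻¹) * c0 ^ 5 := by
            rw [show (5 : ℕ) = 3 + 2 from rfl, pow_add]; group
        _ = (c0 ^ 3)⁻¹ * (c0 ^ 3 * d * (c0 ^ 3)⁻¹) * c0 ^ 5 := by rw [h9]
        _ = d * c0 ^ 2 := by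
            rw [show (5 : ℕ) = 3 + 2 from rfl, pow_add]; group)
    have h11 : orderOf c0 ∣ 4 := orderOf_dvd_of_pow_eq_one (by
      rw [show (4 : ℕ) = 2 + 2 from rfl, pow_add]; exact hP2' _ h10)
    rw [hc0] at h11; norm_num at h11
  intro c hcM hc hwc l hl hrel
  by_contra hl5
  -- notation
  let D : ℕ → G := fun i => c ^ i * d * (c ^ i)⁻¹
  have hDP : ∀ i, D i ∈ P := fun i => hconjP _ (M.pow_mem hcM i) d hdP
  have h7 : c ^ 7 = 1 := hc ▸ pow_orderOf_eq_one c
  have hD7 : ∀ i, D (i + 7) = D i := fun i => by simp [D, pow_add, h7]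
  have hD0 : D 0 = d := by simp [D]
  have hR : ∀ k, D k * D (k + 1) = D (k + l) := fun k => by
    calc D k * D (k + 1) = c ^ k * (d * (c * d * c⁻¹)) * (c ^ k)⁻¹ := by
          simp [D, pow_succ, mul_assoc]
      _ = c ^ k * (c ^ l * d * (c ^ l)⁻¹) * (c ^ k)⁻¹ := by rw [hrel]
      _ = D (k + l) := by simp [D, pow_add, mul_assoc]
  have hDne : ∀ i j, i < 7 → j < 7 → i ≠ j → D i ≠ D j := fun i j hi hj hij h => by
    have h3 : (c ^ i)⁻¹ * c ^ j ∈ P := hCd d hdP hd1 ▸ Subgroup.mem_centralizer_singleton_iff.mpr (by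
      calc (c ^ i)⁻¹ * c ^ j * d = (c ^ i)⁻¹ * D j * c ^ j := by simp [D, mul_assoc]
        _ = (c ^ i)⁻¹ * D i * c ^ j := by rw [h]
        _ = d * ((c ^ i)⁻¹ * c ^ j) := by simp [D, mul_assoc])
    have h4 : ((c ^ i)⁻¹ * c ^ j) ∈ Subgroup.zpowers c :=
      mul_mem (inv_mem (Subgroup.npow_mem_zpowers _ _)) (Subgroup.npow_mem_zpowers _ _)
    have h5 : orderOf ((c ^ i)⁻¹ * c ^ j) ∣ Nat.gcd 7 2 := Nat.dvd_gcd
      ((orderOf_dvd_of_mem_zpowers h4).trans (dvd_of_eq hc))
      (orderOf_dvd_of_pow_eq_one (by rw [pow_two]; exact hP2' _ h3))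
    have h6 : c ^ i = c ^ j :=
      inv_mul_eq_one.mp (orderOf_eq_one_iff.mp (Nat.dvd_one.mp (by simpa using h5)))
    exact hij (pow_injOn_Iio_orderOf (by rw [hc]; exact hi) (by rw [hc]; exact hj) h6)
  have hDsq : ∀ i, D i * D i = 1 := fun i => hP2' _ (hDP i)
  have hDc : ∀ i j, D i * D j = D j * D i := fun i j => hPc _ (hDP i) _ (hDP j)
  have hDl : ∀ i j k, D i * D j = D k → D i * D k = D j := fun i j k h => by
    rw [← h, ← mul_assoc, hDsq, one_mul]
  interval_cases l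
  · -- `l = 0`
    have h := hDl _ _ _ (hR 0)
    rw [hDsq] at h
    exact hd1 (by simpa [D] using h.symm)
  · have h := hR 0
    rw [hD0] at h
    exact hd1 (mul_eq_right.mp h)
  · have h1 := hR 1
    have h2 : D 1 * D 2 = D 0 := by
      have := hDl _ _ _ ((hDc 1 0).trans (hR 0))
      simpa using this
    exact hDne 3 0 (by norm_num) (by norm_num) (by norm_num) (h1.symm.trans h2)
  · -- `l = 3`: the orbit of `w * D 1`
    have hwD : ∀ i j, i + j = 7 → w • pt (D i) = pt (D j) := fun i j hij => by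
      have hcj : c ^ j = (c ^ i)⁻¹ := eq_inv_of_mul_eq_one_right (by rw [← pow_add, hij, h7])
      have hwck : w * c ^ i = c ^ j * w := by
        rw [hcj, ← inv_pow, ← hwc]
        have : (w * c * w) ^ i = w * c ^ i * w := by
          rw [show w * c * w = w * c * w⁻¹ by rw [hwi], conj_pow, hwi]
        rw [this, mul_assoc _ w w, hww, mul_one]
      have hd' : ((w * d * w : G) : G ⧸ M) = ((d * w : G) : G ⧸ M) := by
        simpa [pt, MulAction.Quotient.smul_mk, mul_assoc] using hwd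
      have hcw : ∀ (a : G), (((a * w * c ^ i : G) : G ⧸ M)) = ((a * w : G) : G ⧸ M) := fun a =>
        QuotientGroup.mk_mul_of_mem _ (M.pow_mem hcM i)
      have hwci : (c ^ i)⁻¹ * w = w * c ^ i := by rw [hwck, hcj]
      show w • ((c ^ i * d * (c ^ i)⁻¹ * w : G) : G ⧸ M) = ((c ^ j * d * (c ^ j)⁻¹ * w : G) : G ⧸ M)
      rw [MulAction.Quotient.smul_mk, smul_eq_mul]
      have e1 : w * (c ^ i * d * (c ^ i)⁻¹ * w) = c ^ j * (w * d * w) * c ^ i := by
        rw [mul_assoc (c ^ i * d), hwci, ← mul_assoc, ← mul_assoc, ← mul_assoc, hwck]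
        simp [mul_assoc]
      have e2 : c ^ j * d * (c ^ j)⁻¹ * w = c ^ j * (d * w) * (c ^ j) := by
        have : (c ^ j)⁻¹ * w = w * c ^ j := by
          rw [hcj, inv_inv]
          calc c ^ i * w = c ^ i * (w * c ^ i) * (c ^ i)⁻¹ := by group
            _ = c ^ i * ((c ^ i)⁻¹ * w) * (c ^ i)⁻¹ := by rw [hwci]
            _ = w * (c ^ i)⁻¹ := by group
        simp [mul_assoc, this]
      rw [e1, e2, QuotientGroup.mk_mul_of_mem _ (M.pow_mem hcM i),
        QuotientGroup.mk_mul_of_mem _ (M.pow_mem hcM j)]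
      exact congrArg (c ^ j • ·) hd'
    set h := w * D 1 with hh
    have hstep : ∀ a, h • pt a = w • pt (D 1 * a) := fun a => by
      rw [hh, mul_smul]; simp [pt, MulAction.Quotient.smul_mk, mul_assoc]
    have s1 : h • inf' = pt 1 := by
      rw [hh, mul_smul, ← hw_inf]
      congr 1
      simp only [inf', MulAction.Quotient.smul_mk, smul_eq_mul, mul_one]
      exact QuotientGroup.eq.mpr (by simpa using M.inv_mem (hPM (hDP 1)))
    have r6 : D 5 * D 6 = D 1 := by
      have := hR 5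
      rwa [show 5 + 3 = 1 + 7 from rfl, hD7] at this
    have s2 : h • pt 1 = pt (D 6) := by rw [hstep, mul_one, hwD 1 6 rfl]
    have s3 : h • pt (D 6) = pt (D 2) := by
      rw [hstep, (hDc 1 6).trans (hDl _ _ _ ((hDc 6 5).trans r6)), hwD 5 2 rfl]
    have s4 : h • pt (D 2) = pt (D 3) := by rw [hstep, hR 1, hwD 4 3 rfl]
    have s5 : h • pt (D 3) = pt (D 0) := by
      rw [hstep, hDl _ _ _ ((hDc 1 0).trans (hR 0)), hD0]
      exact hwd
    have s6 : h • pt (D 0) = pt (D 4) := by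
      rw [hstep, show D 1 * D 0 = D 3 from (hDc 1 0).trans (hR 0), hwD 3 4 rfl]
    have s7 : h • pt (D 4) = pt (D 5) := by rw [hstep, hDl _ _ _ (hR 1), hwD 2 5 rfl]
    have hh1 : h ≠ 1 := fun e => by
      rw [e, one_smul] at s1
      exact hptinf 1 P.one_mem s1.symm
    have hfix : h ^ orderOf h • inf' = inf' := by rw [pow_orderOf_eq_one, one_smul]
    rcases hord h hh1 with e | e | e <;> rw [e] at hfix
    · refine hptinf (D 6) (hDP 6) (hfix.symm.trans ?_).symm
      simp only [pow_succ, pow_zero, one_mul, mul_smul, s1, s2]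
    · refine hptinf (D 2) (hDP 2) (hfix.symm.trans ?_).symm
      simp only [pow_succ, pow_zero, one_mul, mul_smul, s1, s2, s3]
    · refine hptinf (D 5) (hDP 5) (hfix.symm.trans ?_).symm
      simp only [pow_succ, pow_zero, one_mul, mul_smul, s1, s2, s3, s4, s5, s6, s7]
  · have h12 := hR 1
    have h45 := hR 4
    have e : D 0 * D 2 = D 1 := by
      have h := hR 4
      rw [show (4 : ℕ) + 4 = 1 + 7 from rfl, hD7, ← hR 0, ← hR 1] at h
      calc D 0 * D 2 = D 0 * (D 1 * D 1) * D 2 := by rw [hDsq, mul_one]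
        _ = D 0 * D 1 * (D 1 * D 2) := by simp [mul_assoc]
        _ = D 1 := by rw [show 1 + 1 = 2 from rfl] at h; rw [show (0:ℕ) + 1 = 1 from rfl] at h; exact h
    have e2 := hDl _ _ _ e
    exact hDne 2 4 (by norm_num) (by norm_num) (by norm_num) (e2.symm.trans (hR 0))
  · exact hl5 rfl
  · have h1 : D 1 * D 2 = D 0 := by
      have := hR 1
      rwa [show 1 + 6 = 0 + 7 from rfl, hD7] at this
    have e2 : D 1 * D 0 = D 2 := hDl _ _ _ h1
    exact hDne 2 6 (by norm_num) (by norm_num) (by norm_num) (e2.symm.trans ((hDc 1 0).trans (hR 0)))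

/-- A finite non-solvable group on which its automorphism group has exactly four orbits is isomorphic to the alternating group of degree 5. -/
theorem result {G : Type*} [Group G] [Finite G] (hns : ¬ Group.IsSolvable G)
    (h4 : Nat.card (MulAction.orbitRel.Quotient (MulAut G) G) = 4) : Nonempty (G ≃* alternatingGroup (Fin 5)) := by
  classical
  obtain ⟨T, hG⟩ := FGS77.exists_fourOrbits hns h4
  haveI := hG.isSimpleGroup hns
  rcases hG.card_eq with h | ⟨M, P, c, x, hP2, hM, hP, hcM, hidx, hc, hc7, hx, hxc, hord⟩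
  · exact Cfsg.Agent.S0494.result h
  exfalso
  haveI : Fact (Nat.Prime 2) := ⟨Nat.prime_two⟩
  have hn : Nat.card G = 504 := by rw [← Subgroup.index_mul_card M, hidx, hcM]
  have hv : (Nat.card G).factorization 2 = 3 := by
    rw [hn, show (504 : ℕ) = 2 ^ 3 * 63 by norm_num, Nat.factorization_mul (by norm_num) (by norm_num),
      Finsupp.add_apply, Nat.Prime.factorization_pow Nat.prime_two, Finsupp.single_eq_same,
      Nat.factorization_eq_zero_of_not_dvd (by norm_num)]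
  let S : Sylow 2 G := Sylow.ofCard P (by rw [hP, hv]; norm_num)
  have hS : (S : Subgroup G) = P := rfl
  refine no_504 hP2 hM hP hcM hidx hc hc7 hx hxc hord (fun g hg hg2 => ?_) (fun d hd hd1 => ?_)
    (fun u hu hu1 huw => ?_)
  · -- involutions of `M` lie in `P`
    obtain ⟨A, hA⟩ := (IsPGroup.of_card (p := 2) (n := 1)
      (by rw [Nat.card_zpowers, hg2, pow_one]) : IsPGroup 2 (Subgroup.zpowers g)).exists_le_sylow
    have : (Subgroup.zpowers g ⊔ P : Subgroup G) ≤ (S : Subgroup G) := by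
      have hp : IsPGroup 2 (Subgroup.zpowers g ⊔ P : Subgroup G) :=
        ((IsPGroup.of_card (p := 2) (n := 1) (by rw [Nat.card_zpowers, hg2, pow_one]) :
          IsPGroup 2 (Subgroup.zpowers g))).to_sup_of_normal_right' hP2
          (Subgroup.zpowers_le.mpr (hM ▸ hg))
      exact (S.is_maximal' hp (hS ▸ le_sup_right)).le
    exact this (Subgroup.mem_sup_left (Subgroup.mem_zpowers g))
  · exact hG.centralizer_eq S hd1 hd
  · -- `P` meets `w P w` only in `1`
    rw [hM, Subgroup.mem_normalizer_iff]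
    have hxx : x * x = 1 := by rw [← pow_two, ← hx, pow_orderOf_eq_one]
    have hxi : x⁻¹ = x := inv_eq_of_mul_eq_one_right hxx
    have hxu1 : x * u * x ≠ 1 := fun h => hu1 (by
      have h' : x * (x * u * x) * x = x * 1 * x := by rw [h]
      simpa [mul_assoc, hxx, ← mul_assoc x x] using h')
    let S' : Sylow 2 G := Sylow.ofCard (P.map (MulAut.conj x).toMonoidHom) (by
      rw [Subgroup.card_map_of_injective (f := (MulAut.conj x).toMonoidHom) (MulAut.conj x).injective,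
        hP, hv]; norm_num)
    have hmap : P.map (MulAut.conj x).toMonoidHom = P := congrArg Sylow.toSubgroup
      (hG.sylow_ti S' S hxu1
        (⟨u, hu, by simp [MulAut.conj_apply, hxi]⟩ : x * u * x ∈ P.map (MulAut.conj x).toMonoidHom) huw)
    intro a
    constructor
    · intro ha; rw [← hmap]; exact ⟨a, ha, rfl⟩
    · intro ha
      rw [← hmap] at ha
      obtain ⟨b, hb, hba⟩ := ha
      rwa [← (MulAut.conj x).injective (show MulAut.conj x b = MulAut.conj x a from hba)]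

end Cfsg.Agent.S4068
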