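import Cfsg.Statements.S4071
import Cfsg.Agent.FGS77.Basic
import Cfsg.Agent.Lib.Solvable.Basic

set_option autoImplicit false
open Cfsg
open scoped commutatorElement

namespace Cfsg.Agent.S4071
open scoped Pointwise

theorem backward {G : Type*} [Group G] [Finite G] {x : G} {A : Subgroup G} {p : ℕ} (hp : p.Prime)
    (hAn : A.Normal) (hAc : IsMulCommutative A) (hxk : ∃ k : ℕ, orderOf x = p ^ k)
    (hcomp : (Subgroup.zpowers x).IsComplement' A)
    (hxp : x ^ p ∈ Subgroup.center G) (hfix : ∀ a : G, a ∈ A → a ≠ 1 → x * a * x⁻¹ ≠ a)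
    (H : Subgroup G) (hH : ¬ IsMulCommutative H) : Subgroup.normalizer (H : Set G) = H := by
  haveI := hAn
  obtain ⟨k, hk⟩ := hxk
  have hAcomm : ∀ a ∈ A, ∀ b ∈ A, a * b = b * a := fun a ha b hb =>
    congrArg Subtype.val (mul_comm' (⟨a, ha⟩ : A) ⟨b, hb⟩)
  have hdec : ∀ g : G, ∃ i : ℤ, ∃ a ∈ A, g = x ^ i * a := by
    intro g
    obtain ⟨⟨⟨y, hy⟩, ⟨a, ha⟩⟩, hya⟩ := hcomp.2 g
    obtain ⟨i, rfl⟩ := hy
    exact ⟨i, a, ha, hya.symm⟩
  -- an element of `H` generating `G` modulo `A`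
  obtain ⟨g, hgH, i, a0, ha0, hg, hi⟩ : ∃ g ∈ H, ∃ i : ℤ, ∃ a ∈ A, g = x ^ i * a ∧ ¬ (p : ℤ) ∣ i := by
    by_contra hcon
    push Not at hcon
    refine hH ⟨⟨fun u v => Subtype.ext ?_⟩⟩
    obtain ⟨i, a, ha, hu⟩ := hdec (u : G)
    obtain ⟨j, b, hb, hv⟩ := hdec (v : G)
    have hcen : ∀ l : ℤ, (p : ℤ) ∣ l → x ^ l ∈ Subgroup.center G := by
      rintro l ⟨c, rfl⟩
      rw [zpow_mul, zpow_natCast]
      exact Subgroup.zpow_mem _ hxp c
    have hi' := hcen i (hcon u u.2 i a ha hu)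
    have hj' := hcen j (hcon v v.2 j b hb hv)
    show (u : G) * v = v * u
    rw [hu, hv]
    calc x ^ i * a * (x ^ j * b) = x ^ i * (a * x ^ j) * b := by group
      _ = x ^ i * x ^ j * (a * b) := by rw [Subgroup.mem_center_iff.mp hj' a]; group
      _ = x ^ j * x ^ i * (b * a) := by rw [hAcomm a ha b hb, ← zpow_add, ← zpow_add, add_comm]
      _ = x ^ j * (x ^ i * b) * a := by group
      _ = x ^ j * b * (x ^ i * a) := by rw [← Subgroup.mem_center_iff.mp hi' b]; group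
  -- `g` acts on `A` fixed-point-freely and generates `G` modulo `A`
  obtain ⟨s, t, hst⟩ : IsCoprime i ((p : ℤ) ^ k) :=
    ((Nat.prime_iff_prime_int.mp hp).coprime_iff_not_dvd.mpr hi).symm.pow_right
  have hxi : (x ^ i) ^ s = x := by
    have h1 : x ^ ((p : ℤ) ^ k) = 1 := by
      rw [← Nat.cast_pow, zpow_natCast, ← hk, pow_orderOf_eq_one]
    rw [← zpow_mul, show i * s = 1 - (p : ℤ) ^ k * t by linarith [hst], zpow_sub, zpow_mul, h1, one_zpow,
      zpow_one, inv_one, mul_one]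
  have hgconj : ∀ a ∈ A, g * a * g⁻¹ = x ^ i * a * (x ^ i)⁻¹ := by
    intro a ha
    rw [hg, mul_inv_rev]
    calc x ^ i * a0 * a * (a0⁻¹ * (x ^ i)⁻¹) = x ^ i * (a0 * a * a0⁻¹) * (x ^ i)⁻¹ := by group
      _ = x ^ i * a * (x ^ i)⁻¹ := by rw [hAcomm a0 ha0 a ha, mul_inv_cancel_right]
  have hgfix : ∀ a ∈ A, g * a * g⁻¹ = a → a = 1 := by
    intro a ha h
    by_contra ha1
    refine hfix a ha ha1 ?_
    rw [hgconj a ha] at h
    have hc : Commute (x ^ i) a := mul_inv_eq_iff_eq_mul.mp h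
    have := hc.zpow_left s
    rw [hxi] at this
    rw [this.eq, mul_inv_cancel_right]
  refine le_antisymm (fun n hn => ?_) Subgroup.le_normalizer
  -- split `n`
  obtain ⟨j, b, hb, rfl⟩ : ∃ j : ℤ, ∃ b ∈ A, n = g ^ j * b := by
    obtain ⟨l, a, ha, hl⟩ := hdec n
    refine ⟨s * l, (g ^ (s * l))⁻¹ * n, ?_, (mul_inv_cancel_left _ _).symm⟩
    rw [← QuotientGroup.eq_one_iff (N := A), QuotientGroup.mk_mul, QuotientGroup.mk_inv,
      QuotientGroup.mk_zpow, hg, hl, QuotientGroup.mk_mul, QuotientGroup.mk_mul,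
      (QuotientGroup.eq_one_iff a0).mpr ha0, (QuotientGroup.eq_one_iff a).mpr ha, mul_one, mul_one,
      ← QuotientGroup.mk_zpow, ← QuotientGroup.mk_inv, ← QuotientGroup.mk_mul, zpow_mul (x ^ i), hxi,
      inv_mul_cancel, QuotientGroup.mk_one]
  have hbn : b ∈ Subgroup.normalizer (H : Set G) := by
    have := mul_mem (inv_mem (Subgroup.le_normalizer (H.zpow_mem hgH j))) hn
    rwa [inv_mul_cancel_left] at this
  refine H.mul_mem (H.zpow_mem hgH j) ?_
  -- the map `c ↦ [g, c]` on `H ∩ A`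
  set B := H ⊓ A
  have hθ : ∀ c : B, g * c * g⁻¹ * (c : G)⁻¹ ∈ B := fun c =>
    ⟨H.mul_mem (H.mul_mem (H.mul_mem hgH c.2.1) (H.inv_mem hgH)) (H.inv_mem c.2.1),
      A.mul_mem (hAn.conj_mem _ c.2.2 g) (A.inv_mem c.2.2)⟩
  let θ : B → B := fun c => ⟨_, hθ c⟩
  have hinj : Function.Injective θ := by
    intro c d hcd
    have h : g * c * g⁻¹ * (c : G)⁻¹ = g * d * g⁻¹ * (d : G)⁻¹ := congrArg Subtype.val hcd
    apply Subtype.ext
    rw [← mul_inv_eq_one]
    refine hgfix _ (A.mul_mem c.2.2 (A.inv_mem d.2.2)) ?_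
    calc g * ((c : G) * (d : G)⁻¹) * g⁻¹
        = (g * c * g⁻¹ * (c : G)⁻¹) * c * (g * (d : G)⁻¹ * g⁻¹) := by group
      _ = (g * d * g⁻¹ * (d : G)⁻¹) * c * (g * (d : G)⁻¹ * g⁻¹) := by rw [h]
      _ = (g * d * g⁻¹) * ((d : G)⁻¹ * c) * (g * (d : G)⁻¹ * g⁻¹) := by group
      _ = ((d : G)⁻¹ * c) * (g * d * g⁻¹) * (g * (d : G)⁻¹ * g⁻¹) := by
          rw [hAcomm _ (hAn.conj_mem _ d.2.2 g) _ (A.mul_mem (A.inv_mem d.2.2) c.2.2)]
      _ = (d : G)⁻¹ * c := by group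
      _ = c * (d : G)⁻¹ := hAcomm _ (A.inv_mem d.2.2) _ c.2.2
  have hmem : g * b * g⁻¹ * b⁻¹ ∈ B := by
    refine ⟨?_, A.mul_mem (hAn.conj_mem _ hb g) (A.inv_mem hb)⟩
    rw [SetLike.mem_coe, mul_assoc g b, mul_assoc g]
    exact H.mul_mem hgH ((Subgroup.mem_normalizer_iff.mp hbn _).mp (H.inv_mem hgH))
  obtain ⟨c, hc⟩ := (Finite.injective_iff_surjective.mp hinj) ⟨_, hmem⟩
  have h : g * c * g⁻¹ * (c : G)⁻¹ = g * b * g⁻¹ * b⁻¹ := congrArg Subtype.val hc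
  have hbc : b * (c : G)⁻¹ = 1 := by
    refine hgfix _ (A.mul_mem hb (A.inv_mem c.2.2)) ?_
    calc g * (b * (c : G)⁻¹) * g⁻¹
        = (g * b * g⁻¹ * b⁻¹) * b * (g * (c : G)⁻¹ * g⁻¹) := by group
      _ = (g * c * g⁻¹ * (c : G)⁻¹) * b * (g * (c : G)⁻¹ * g⁻¹) := by rw [h]
      _ = (g * c * g⁻¹) * ((c : G)⁻¹ * b) * (g * (c : G)⁻¹ * g⁻¹) := by group
      _ = ((c : G)⁻¹ * b) * (g * c * g⁻¹) * (g * (c : G)⁻¹ * g⁻¹) := by
          rw [hAcomm _ (hAn.conj_mem _ c.2.2 g) _ (A.mul_mem (A.inv_mem c.2.2) hb)]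
      _ = (c : G)⁻¹ * b := by group
      _ = b * (c : G)⁻¹ := hAcomm _ (A.inv_mem c.2.2) _ hb
  rw [mul_inv_eq_one] at hbc
  rw [hbc]
  exact c.2.1

theorem forward {G : Type*} [Group G] [Finite G] [Group.IsSolvable G] (hnn : ¬ Group.IsNilpotent G)
    (hS : ∀ H : Subgroup G, ¬ IsMulCommutative H → Subgroup.normalizer (H : Set G) = H) :
    ∃ (x : G) (A : Subgroup G) (p : ℕ), p.Prime ∧ A.Normal ∧ IsMulCommutative A ∧ (∃ k : ℕ, orderOf x = p ^ k) ∧
      ¬ p ∣ Nat.card A ∧ (Subgroup.zpowers x).IsComplement' A ∧ x ^ p ∈ Subgroup.center G ∧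
      ∀ a : G, a ∈ A → a ≠ 1 → x * a * x⁻¹ ≠ a := by
  classical
  haveI : Nontrivial G := by
    by_contra h
    rw [not_nontrivial_iff_subsingleton] at h
    exact hnn inferInstance
  obtain ⟨B, ⟨hBn, hBtop⟩, hBmax⟩ := Set.Finite.exists_maximalFor (fun N : Subgroup G => Nat.card N)
    {N : Subgroup G | N.Normal ∧ N ≠ ⊤} (Set.toFinite _) ⟨⊥, inferInstance, bot_ne_top⟩
  haveI := hBn
  have hnormc : ∀ N : Subgroup G, N.Normal → N ≠ ⊤ → IsMulCommutative N := fun N hN hne => by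
    by_contra hc
    exact hne ((hS N hc).symm.trans (Subgroup.normalizer_eq_top (H := N)))
  haveI hBc : IsMulCommutative B := hnormc B hBn hBtop
  haveI : Nontrivial (G ⧸ B) := QuotientGroup.nontrivial_iff.mpr hBtop
  obtain ⟨F, p, hFn, hFne, -, hp, -, hFc, hFexp, -⟩ := Solvable.exists_minimal_normal_elementary (G ⧸ B)
  haveI := hFn
  haveI : Fact p.Prime := ⟨hp⟩
  have hFtop : F.comap (QuotientGroup.mk' B) = ⊤ := by
    by_contra hne
    have hle : B ≤ F.comap (QuotientGroup.mk' B) := by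
      intro a ha
      rw [Subgroup.mem_comap, QuotientGroup.mk'_apply, (QuotientGroup.eq_one_iff a).mpr ha]
      exact F.one_mem
    have h1 := Subgroup.eq_of_le_of_card_ge hle
      (hBmax (j := F.comap (QuotientGroup.mk' B)) ⟨hFn.comap _, hne⟩ (Subgroup.card_le_of_le hle))
    refine hFne ?_
    rw [← Subgroup.map_comap_eq_self_of_surjective (QuotientGroup.mk'_surjective B) F, ← h1,
      Subgroup.map_eq_bot_iff, QuotientGroup.ker_mk']
  have hexp : ∀ g : G, g ^ p ∈ B := fun g => by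
    rw [← QuotientGroup.eq_one_iff, QuotientGroup.mk_pow]
    exact hFexp _ (hFtop ▸ Subgroup.mem_top g : g ∈ F.comap (QuotientGroup.mk' B))
  have hcB : ∀ g h : G, g * h * g⁻¹ * h⁻¹ ∈ B := fun g h => by
    rw [← QuotientGroup.eq_one_iff]
    simp only [QuotientGroup.mk_mul, QuotientGroup.mk_inv]
    have := congrArg Subtype.val (hFc.is_comm.comm
      (⟨_, (hFtop ▸ Subgroup.mem_top g : g ∈ F.comap (QuotientGroup.mk' B))⟩ : F)
      ⟨_, (hFtop ▸ Subgroup.mem_top h : h ∈ F.comap (QuotientGroup.mk' B))⟩)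
    change ((g : G ⧸ B)) * (h : G ⧸ B) = (h : G ⧸ B) * (g : G ⧸ B) at this
    rw [this, mul_inv_cancel_right, mul_inv_cancel]
  obtain ⟨g0, hg0⟩ : ∃ g, g ∉ B := by
    by_contra h
    push Not at h
    exact hBtop ((Subgroup.eq_top_iff' B).mpr h)
  obtain ⟨m, k, hm, hk⟩ := FGS77.exists_pow_pPart p g0
  set x := g0 ^ m
  have hxB : x ∉ B := fun h => hg0 (by
    have h1 : orderOf ((g0 : G) : G ⧸ B) ∣ Nat.gcd m p := Nat.dvd_gcd
      (orderOf_dvd_of_pow_eq_one (by rw [← QuotientGroup.mk_pow]; exact (QuotientGroup.eq_one_iff _).mpr h))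
      (orderOf_dvd_of_pow_eq_one (by rw [← QuotientGroup.mk_pow]; exact (QuotientGroup.eq_one_iff _).mpr (hexp g0)))
    rw [Nat.Coprime.gcd_eq_one ((hp.coprime_iff_not_dvd.mpr hm).symm), Nat.dvd_one, orderOf_eq_one_iff] at h1
    exact (QuotientGroup.eq_one_iff _).mp h1)
  have hsup : Subgroup.zpowers x ⊔ B = ⊤ := by
    by_contra hne
    have hn : (Subgroup.zpowers x ⊔ B).Normal := ⟨fun n hn g => by
      rw [show g * n * g⁻¹ = (g * n * g⁻¹ * n⁻¹) * n by group]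
      exact mul_mem (Subgroup.mem_sup_right (hcB g n)) hn⟩
    exact hxB ((Subgroup.eq_of_le_of_card_ge le_sup_right
      (hBmax (j := Subgroup.zpowers x ⊔ B) ⟨hn, hne⟩ (Subgroup.card_le_of_le le_sup_right))).ge
      (Subgroup.mem_sup_left (Subgroup.mem_zpowers x)))
  have hdecB : ∀ g : G, ∃ i : ℤ, ∃ b ∈ B, g = x ^ i * b := by
    intro g
    have hg : g ∈ Subgroup.zpowers x ⊔ B := hsup ▸ Subgroup.mem_top g
    rw [← SetLike.mem_coe, Subgroup.mul_normal _ B] at hg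
    obtain ⟨_, ⟨i, rfl⟩, b, hb, rfl⟩ := hg
    exact ⟨i, b, hb, rfl⟩
  have hBcomm : ∀ a ∈ B, ∀ b ∈ B, a * b = b * a := fun a ha b hb =>
    congrArg Subtype.val (mul_comm' (⟨a, ha⟩ : B) ⟨b, hb⟩)
  -- the `p'`-part and the `p`-part of `B`
  let A : Subgroup G :=
    { carrier := {a | a ∈ B ∧ ¬ p ∣ orderOf a}
      mul_mem' := fun {a b} ha hb => ⟨B.mul_mem ha.1 hb.1, fun h => by
        rcases hp.dvd_mul.mp (h.trans (Commute.orderOf_mul_dvd_mul_orderOf (hBcomm a ha.1 b hb.1))) with h1 | h1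
        · exact ha.2 h1
        · exact hb.2 h1⟩
      one_mem' := ⟨B.one_mem, by rw [orderOf_one]; exact hp.not_dvd_one⟩
      inv_mem' := fun {a} ha => ⟨B.inv_mem ha.1, by rw [orderOf_inv]; exact ha.2⟩ }
  let Bp : Subgroup G :=
    { carrier := {a | a ∈ B ∧ ∃ j, a ^ p ^ j = 1}
      mul_mem' := fun {a b} ha hb => ⟨B.mul_mem ha.1 hb.1, by
        obtain ⟨i, hi⟩ := ha.2
        obtain ⟨j, hj⟩ := hb.2
        refine ⟨i + j, ?_⟩
        rw [(show Commute a b from hBcomm a ha.1 b hb.1).mul_pow, pow_add, pow_mul, hi, one_pow, one_mul,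
          mul_comm (p ^ i), pow_mul, hj, one_pow]⟩
      one_mem' := ⟨B.one_mem, 0, by simp⟩
      inv_mem' := fun {a} ha => ⟨B.inv_mem ha.1, by
        obtain ⟨i, hi⟩ := ha.2
        exact ⟨i, by rw [inv_pow, hi, inv_one]⟩⟩ }
  have hmemA : ∀ a, a ∈ A ↔ a ∈ B ∧ ¬ p ∣ orderOf a := fun a => Iff.rfl
  have hmemP : ∀ a, a ∈ Bp ↔ a ∈ B ∧ ∃ j, a ^ p ^ j = 1 := fun a => Iff.rfl
  haveI hAn : A.Normal := ⟨fun a ha g => ⟨hBn.conj_mem a ha.1 g, by
    rw [show g * a * g⁻¹ = MulAut.conj g a from rfl, MulEquiv.orderOf_eq]; exact ha.2⟩⟩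
  haveI hPn : Bp.Normal := ⟨fun a ha g => ⟨hBn.conj_mem a ha.1 g, by
    obtain ⟨j, hj⟩ := ha.2
    exact ⟨j, by rw [conj_pow, hj, mul_one, mul_inv_cancel]⟩⟩⟩
  have hAc : IsMulCommutative A := ⟨⟨fun a b => Subtype.ext (hBcomm a a.2.1 b b.2.1)⟩⟩
  have hBsplit : ∀ b ∈ B, ∃ a ∈ A, ∃ c ∈ Bp, b = a * c := by
    intro b hb
    set e := (orderOf b).factorization p
    set n' := ordCompl[p] (orderOf b)
    have hn' : orderOf b = p ^ e * n' := (Nat.ordProj_mul_ordCompl_eq_self _ p).symm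
    have hn'p : ¬ p ∣ n' := Nat.not_dvd_ordCompl hp (orderOf_pos b).ne'
    obtain ⟨u, v, huv⟩ : IsCoprime ((p ^ e : ℕ) : ℤ) (n' : ℤ) :=
      Int.isCoprime_iff_nat_coprime.mpr (by
        simpa using Nat.Coprime.pow_left e (hp.coprime_iff_not_dvd.mpr hn'p))
    refine ⟨b ^ (u * ((p ^ e : ℕ) : ℤ)), ⟨B.zpow_mem hb _, fun h => ?_⟩,
      b ^ (v * (n' : ℤ)), ⟨B.zpow_mem hb _, e, ?_⟩, by rw [← zpow_add, huv, zpow_one]⟩
    · refine hn'p (h.trans (orderOf_dvd_of_pow_eq_one ?_))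
      rw [← zpow_natCast, ← zpow_mul, mul_assoc, ← Nat.cast_mul, ← hn', mul_comm, zpow_mul,
        zpow_natCast, pow_orderOf_eq_one, one_zpow]
    · rw [← zpow_natCast, ← zpow_mul, mul_assoc, ← Nat.cast_mul, mul_comm n', ← hn', mul_comm, zpow_mul,
        zpow_natCast, pow_orderOf_eq_one, one_zpow]
  have hxk : x ^ p ^ k = 1 := hk ▸ pow_orderOf_eq_one x
  -- commutators with `x`
  have hθmem : ∀ a ∈ A, x * a * x⁻¹ * a⁻¹ ∈ A := fun a ha => A.mul_mem (hAn.conj_mem a ha x) (A.inv_mem ha)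
  let θ : A →* A :=
    { toFun := fun a => ⟨_, hθmem a a.2⟩
      map_one' := Subtype.ext (by simp)
      map_mul' := fun a b => Subtype.ext (by
        show x * ((a : G) * b) * x⁻¹ * ((a : G) * b)⁻¹ =
          x * a * x⁻¹ * (a : G)⁻¹ * (x * b * x⁻¹ * (b : G)⁻¹)
        have h := hBcomm (x * b * x⁻¹ * (b : G)⁻¹) (hθmem b b.2).1 ((a : G)⁻¹) (B.inv_mem a.2.1)
        calc x * ((a : G) * b) * x⁻¹ * ((a : G) * b)⁻¹
            = x * a * x⁻¹ * ((x * b * x⁻¹ * (b : G)⁻¹) * (a : G)⁻¹) := by group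
          _ = x * a * x⁻¹ * ((a : G)⁻¹ * (x * b * x⁻¹ * (b : G)⁻¹)) := by rw [h]
          _ = _ := by group) }
  set T := θ.range.map A.subtype
  have hmemT : ∀ t, t ∈ T ↔ ∃ a ∈ A, x * a * x⁻¹ * a⁻¹ = t := by
    intro t
    constructor
    · rintro ⟨_, ⟨a, rfl⟩, rfl⟩; exact ⟨a, a.2, rfl⟩
    · rintro ⟨a, ha, rfl⟩; exact ⟨_, ⟨⟨a, ha⟩, rfl⟩, rfl⟩
  have hTA : T ≤ A := Subgroup.map_subtype_le _
  haveI hTn : T.Normal := ⟨fun t ht g => by
    obtain ⟨i, b, hb, rfl⟩ := hdecB g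
    obtain ⟨a, ha, rfl⟩ := (hmemT t).mp ht
    have h1 : x ^ i * b * (x * a * x⁻¹ * a⁻¹) * (x ^ i * b)⁻¹ =
        x ^ i * (x * a * x⁻¹ * a⁻¹) * (x ^ i)⁻¹ := by
      rw [mul_inv_rev, mul_assoc (x ^ i) b, hBcomm b hb _ (hθmem a ha).1]; group
    rw [h1, hmemT]
    exact ⟨x ^ i * a * (x ^ i)⁻¹, hAn.conj_mem a ha _, by
      rw [show x * (x ^ i * a * (x ^ i)⁻¹) * x⁻¹ = x ^ i * (x * a * x⁻¹) * (x ^ i)⁻¹ by group]; group⟩⟩
  have hfix : ∀ t ∈ T, x * t * x⁻¹ = t → t = 1 := by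
    intro t ht hc
    obtain ⟨a, ha, rfl⟩ := (hmemT t).mp ht
    set c := x * a * x⁻¹ * a⁻¹ with hcdef
    have hc' : Commute x c := mul_inv_eq_iff_eq_mul.mp hc
    have hiter : ∀ n : ℕ, x ^ n * a * (x ^ n)⁻¹ = c ^ n * a := by
      intro n
      induction n with
      | zero => simp
      | succ n ih =>
        calc x ^ (n + 1) * a * (x ^ (n + 1))⁻¹ = x * (x ^ n * a * (x ^ n)⁻¹) * x⁻¹ := by rw [pow_succ']; group
          _ = (x * c ^ n) * a * x⁻¹ := by rw [ih]; group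
          _ = (c ^ n * x) * a * x⁻¹ := by rw [(hc'.pow_right n).eq]
          _ = c ^ n * (x * a * x⁻¹ * a⁻¹) * a := by group
          _ = c ^ (n + 1) * a := by rw [← hcdef, pow_succ]
    have h1 := hiter (p ^ k)
    rw [hxk, one_mul, inv_one, mul_one] at h1
    have h2 : c ^ p ^ k = 1 := mul_eq_right.mp h1.symm
    have h3 : orderOf c ∣ p ^ k := orderOf_dvd_of_pow_eq_one h2
    obtain ⟨j, -, hj⟩ := (Nat.dvd_prime_pow hp).mp h3
    rcases Nat.eq_zero_or_pos j with rfl | hj0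
    · rw [pow_zero] at hj; exact orderOf_eq_one_iff.mp hj
    · exact absurd (hj ▸ dvd_pow_self p hj0.ne') (hTA ht).2
  set H := Subgroup.zpowers x ⊔ T with hH
  have hHdec : ∀ h ∈ H, ∃ i : ℤ, ∃ t ∈ T, h = x ^ i * t := by
    intro h hh
    rw [hH, ← SetLike.mem_coe, Subgroup.mul_normal _ T] at hh
    obtain ⟨_, ⟨i, rfl⟩, t, ht, rfl⟩ := hh
    exact ⟨i, t, ht, rfl⟩
  -- `x` does not centralize `A`
  obtain ⟨a1, ha1, hxa1⟩ : ∃ a ∈ A, x * a * x⁻¹ ≠ a := by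
    by_contra hcon
    push Not at hcon
    have hAz : A ≤ Subgroup.center G := fun a ha => by
      rw [Subgroup.mem_center_iff]
      intro g
      obtain ⟨i, b, hb, rfl⟩ := hdecB g
      rw [mul_assoc, hBcomm b hb a ha.1, ← mul_assoc,
        ((show Commute x a from mul_inv_eq_iff_eq_mul.mp (hcon a ha)).zpow_left i).eq, mul_assoc]
    refine hnn ?_
    have hker : (QuotientGroup.mk' A).ker ≤ Subgroup.center G := by rwa [QuotientGroup.ker_mk']
    haveI : Group.IsNilpotent (G ⧸ A) := by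
      refine IsPGroup.isNilpotent (p := p) fun q => ?_
      obtain ⟨g, rfl⟩ := QuotientGroup.mk_surjective q
      obtain ⟨a, ha, c, ⟨-, j, hj⟩, hac⟩ := hBsplit _ (hexp g)
      refine ⟨1 + j, ?_⟩
      rw [pow_add, pow_one, pow_mul, ← QuotientGroup.mk_pow, hac, QuotientGroup.mk_mul,
        (QuotientGroup.eq_one_iff a).mpr ha, one_mul, ← QuotientGroup.mk_pow, hj, QuotientGroup.mk_one]
    exact Subgroup.isNilpotent_of_ker_le_center (QuotientGroup.mk' A) hker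
  have hHna : ¬ IsMulCommutative H := fun hc => by
    have ht : x * a1 * x⁻¹ * a1⁻¹ ∈ T := (hmemT _).mpr ⟨a1, ha1, rfl⟩
    have h : x * (x * a1 * x⁻¹ * a1⁻¹) = (x * a1 * x⁻¹ * a1⁻¹) * x :=
      congrArg Subtype.val (hc.is_comm.comm (⟨x, Subgroup.mem_sup_left (Subgroup.mem_zpowers x)⟩ : H)
        ⟨_, Subgroup.mem_sup_right ht⟩)
    have := hfix _ ht (mul_inv_eq_iff_eq_mul.mpr h)
    exact hxa1 (mul_inv_eq_one.mp this)
  have hself := hS H hHna
  -- normalizing elements of `B` lie in `H`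
  have hnH : ∀ y : G, y * x * y⁻¹ ∈ H → y ∈ H := by
    intro y hy
    have hy1 : y ∈ Subgroup.normalizer (H : Set G) := by
      have hmap : H.map (MulAut.conj y).toMonoidHom ≤ H := by
        rw [hH, Subgroup.map_sup]
        refine sup_le ?_ ?_
        · rw [MonoidHom.map_zpowers, Subgroup.zpowers_le]; exact hy
        · rintro _ ⟨t, ht, rfl⟩; exact Subgroup.mem_sup_right (hTn.conj_mem t ht y)
      have heq := Subgroup.eq_of_le_of_card_ge hmap
        (Subgroup.card_map_of_injective (f := (MulAut.conj y).toMonoidHom) (MulAut.conj y).injective).ge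
      rw [Subgroup.mem_normalizer_iff]
      intro a
      constructor
      · intro ha; rw [← heq]; exact ⟨a, ha, rfl⟩
      · intro ha
        rw [← heq] at ha
        obtain ⟨b, hb, hba⟩ := ha
        rwa [← (MulAut.conj y).injective (show MulAut.conj y b = MulAut.conj y a from hba)]
    rwa [hself] at hy1
  have hfixA : ∀ a : G, a ∈ A → a ≠ 1 → x * a * x⁻¹ ≠ a := by
    intro a ha hane hfa
    have hc : Commute x a := mul_inv_eq_iff_eq_mul.mp hfa
    have haH : a ∈ H := hnH a (by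
      rw [← hc.eq, mul_inv_cancel_right]; exact Subgroup.mem_sup_left (Subgroup.mem_zpowers x))
    obtain ⟨i, t, ht, hat⟩ := hHdec a haH
    have hxi : x ^ i = 1 := by
      have hmem : x ^ i ∈ A := by
        rw [show x ^ i = a * t⁻¹ by rw [hat, mul_inv_cancel_right]]
        exact A.mul_mem ha (A.inv_mem (hTA ht))
      have h1 : orderOf (x ^ i) ∣ p ^ k := by
        rw [← hk]; exact orderOf_dvd_of_mem_zpowers (Subgroup.zpow_mem _ (Subgroup.mem_zpowers x) i)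
      obtain ⟨j, -, hj⟩ := (Nat.dvd_prime_pow hp).mp h1
      rcases Nat.eq_zero_or_pos j with rfl | hj0
      · rw [pow_zero] at hj; exact orderOf_eq_one_iff.mp hj
      · exact absurd (hj ▸ dvd_pow_self p hj0.ne') hmem.2
    rw [hxi, one_mul] at hat
    exact hane (hfix a (hat ▸ ht) hfa)
  -- the `p`-part of `B` lies in `⟨x⟩`
  set P := Subgroup.zpowers x ⊔ Bp with hPdef
  have hBpp : IsPGroup p Bp := fun c => by
    obtain ⟨j, hj⟩ := c.2.2
    exact ⟨j, Subtype.ext hj⟩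
  have hPp : IsPGroup p P := (IsPGroup.of_card (n := k)
    (by rw [Nat.card_zpowers, hk]) : IsPGroup p (Subgroup.zpowers x)).to_sup_of_normal_right hBpp
  have hPx : Subgroup.zpowers x = P := by
    by_contra hne
    haveI : Group.IsNilpotent P := hPp.isNilpotent
    have hlt : (Subgroup.zpowers x).subgroupOf P < ⊤ :=
      lt_top_iff_ne_top.mpr fun h => hne (le_antisymm le_sup_left (Subgroup.subgroupOf_eq_top.mp h))
    obtain ⟨y, hyn, hyx⟩ := SetLike.exists_of_lt (normalizerCondition_of_isNilpotent (G := P) _ hlt)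
    have hyH : (y : G) ∈ H := hnH y (Subgroup.mem_sup_left
      ((Subgroup.mem_normalizer_iff.mp hyn ⟨x, Subgroup.mem_sup_left (Subgroup.mem_zpowers x)⟩).mp
        (Subgroup.mem_zpowers x)))
    obtain ⟨i, t, ht, hyt⟩ := hHdec y hyH
    have htP : t ∈ P := by
      rw [show t = (x ^ i)⁻¹ * (y : G) by rw [hyt, inv_mul_cancel_left]]
      exact P.mul_mem (P.inv_mem (P.zpow_mem (Subgroup.mem_sup_left (Subgroup.mem_zpowers x)) i)) y.2
    obtain ⟨j, hj⟩ := IsPGroup.iff_orderOf.mp hPp ⟨t, htP⟩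
    rw [← Subgroup.orderOf_coe] at hj
    have ht1 : t = 1 := by
      rcases Nat.eq_zero_or_pos j with rfl | hj0
      · rw [pow_zero] at hj; exact orderOf_eq_one_iff.mp hj
      · exact absurd (hj ▸ dvd_pow_self p hj0.ne') (hTA ht).2
    refine hyx ?_
    show (y : G) ∈ Subgroup.zpowers x
    rw [hyt, ht1, mul_one]
    exact Subgroup.zpow_mem _ (Subgroup.mem_zpowers x) i
  have hBpx : Bp ≤ Subgroup.zpowers x := hPx ▸ le_sup_right
  have hAcard : ¬ p ∣ Nat.card A := fun h => by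
    obtain ⟨a, ha⟩ := exists_prime_orderOf_dvd_card' (G := A) p h
    exact a.2.2 (by rw [Subgroup.orderOf_coe, ha])
  refine ⟨x, A, p, hp, hAn, hAc, ⟨k, hk⟩, hAcard, ?_, ?_, hfixA⟩
  · refine Subgroup.isComplement'_of_disjoint_and_mul_eq_univ ?_ ?_
    · rw [disjoint_iff]
      refine Subgroup.inf_eq_bot_of_coprime ?_
      rw [Nat.card_zpowers, hk]
      exact Nat.Coprime.pow_left k (hp.coprime_iff_not_dvd.mpr hAcard)
    · refine Set.eq_univ_of_forall fun g => ?_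
      obtain ⟨i, b, hb, rfl⟩ := hdecB g
      obtain ⟨a, ha, c, hc, rfl⟩ := hBsplit b hb
      refine ⟨x ^ i * c, mul_mem (Subgroup.zpow_mem _ (Subgroup.mem_zpowers x) i) (hBpx hc), a, ha, ?_⟩
      show x ^ i * c * a = x ^ i * (a * c)
      rw [hBcomm a ha.1 c hc.1, mul_assoc]
  · rw [Subgroup.mem_center_iff]
    intro g
    obtain ⟨i, b, hb, rfl⟩ := hdecB g
    have h1 : b * x ^ p = x ^ p * b := hBcomm b hb _ (hexp x)
    rw [mul_assoc, h1, ← mul_assoc, ← zpow_natCast x p, ← zpow_add, add_comm, zpow_add, mul_assoc]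

/-- Let G be a finite solvable non-nilpotent group. Every non-abelian subgroup of G is self-normalizing if and only if G is a semidirect product ⟨x⟩ ⋉ A in which ⟨x⟩ is a p-group for some prime p, A is a normal abelian subgroup of order prime to p, x^p is central in G, and x acts fixed-point-freely on A (no non-identity element of A commutes with x). -/
theorem result {G : Type*} [Group G] [Finite G]
    [Group.IsSolvable G] (hnn : ¬ Group.IsNilpotent G) :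
    (∀ H : Subgroup G, ¬ IsMulCommutative H → Subgroup.normalizer (H : Set G) = H) ↔
    ∃ (x : G) (A : Subgroup G) (p : ℕ), p.Prime ∧ A.Normal ∧ IsMulCommutative A ∧ (∃ k : ℕ, orderOf x = p ^ k) ∧
      ¬ p ∣ Nat.card A ∧ (Subgroup.zpowers x).IsComplement' A ∧ x ^ p ∈ Subgroup.center G ∧
      ∀ a : G, a ∈ A → a ≠ 1 → x * a * x⁻¹ ≠ a := by
  refine ⟨fun h => forward hnn h, ?_⟩
  rintro ⟨x, A, p, hp, hAn, hAc, hxk, -, hcomp, hxp, hfix⟩ H hH
  exact backward hp hAn hAc hxk hcomp hxp hfix H hH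

end Cfsg.Agent.S4071
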