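import Cfsg.Statements.S4072
import Cfsg.Agent.FGS77.Basic
import Cfsg.Agent.Lib.Transfer.Frobenius
import Cfsg.Agent.Lib.Transfer.Abelian
import Cfsg.Agent.Lib.Solvable.Basic

set_option autoImplicit false
open Cfsg
open scoped commutatorElement

namespace Cfsg.Agent.S4072
open scoped Pointwise

universe u

/-- The hypothesis. -/
def SelfNorm (G : Type u) [Group G] : Prop :=
  ∀ H : Subgroup G, ¬ IsMulCommutative H → Subgroup.normalizer (H : Set G) = H

theorem selfNorm_subgroup {G : Type u} [Group G] (h : SelfNorm G) (K : Subgroup G) : SelfNorm K := by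
  intro H hH
  have hH' : ¬ IsMulCommutative (H.map K.subtype) := fun hc => hH ⟨⟨fun a b => by
    have h1 := congrArg Subtype.val
      (hc.is_comm.comm ⟨((a : K) : G), a, a.2, rfl⟩ ⟨((b : K) : G), b, b.2, rfl⟩)
    exact Subtype.ext (Subtype.ext h1)⟩⟩
  refine le_antisymm (fun x hx => ?_) Subgroup.le_normalizer
  have hx' : (x : G) ∈ Subgroup.normalizer ((H.map K.subtype : Subgroup G) : Set G) :=
    Subgroup.le_normalizer_map _ ⟨x, hx, rfl⟩
  rw [h _ hH'] at hx'
  obtain ⟨y, hy, hyx⟩ := hx'
  rwa [← K.subtype_injective hyx]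

/-- A normal subgroup is abelian or everything. -/
theorem selfNorm_normal {G : Type u} [Group G] (h : SelfNorm G) (N : Subgroup G) [N.Normal]
    (hN : N ≠ ⊤) : IsMulCommutative N := by
  by_contra hc
  exact hN ((h N hc).symm.trans (Subgroup.normalizer_eq_top (H := N)))

theorem main : ∀ (n : ℕ) (G : Type u) [Group G] [Finite G], Nat.card G = n → SelfNorm G →
    Group.IsSolvable G ∨ IsSimpleGroup G := by
  intro n
  induction n using Nat.strong_induction_on with
  | _ n ih =>
  intro G _ _ hn hS
  classical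
  by_contra hcon
  obtain ⟨hns, hnsimple⟩ := not_or.mp hcon
  haveI : Nontrivial G := by
    by_contra h
    rw [not_nontrivial_iff_subsingleton] at h
    exact hns inferInstance
  have hnormal : ∀ N : Subgroup G, N.Normal → N ≠ ⊤ → Group.IsSolvable N := fun N hN hne => by
    haveI := selfNorm_normal hS N hne
    exact Group.isSolvable_of_comm fun a b => mul_comm' a b
  have hperf : commutator G = ⊤ := by
    by_contra hne
    haveI : Group.IsSolvable (commutator G) := hnormal (commutator G) inferInstance hne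
    haveI : Group.IsSolvable (G ⧸ commutator G) :=
      Group.isSolvable_of_comm (CommGroup.mul_comm (G := Abelianization G))
    exact hns (Group.isSolvable_of_ker_le_range (commutator G).subtype (QuotientGroup.mk' (commutator G))
      (by rw [QuotientGroup.ker_mk', Subgroup.range_subtype]))
  -- a maximal proper normal subgroup
  obtain ⟨A, ⟨hAn, hAtop⟩, hAmax⟩ := Set.Finite.exists_maximalFor (fun N : Subgroup G => Nat.card N)
    {N : Subgroup G | N.Normal ∧ N ≠ ⊤} (Set.toFinite _) ⟨⊥, inferInstance, bot_ne_top⟩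
  haveI := hAn
  haveI hAc : IsMulCommutative A := selfNorm_normal hS A hAtop
  have hmaxle : ∀ N : Subgroup G, N.Normal → A ≤ N → N ≠ ⊤ → N = A := fun N hN hle hne => by
    refine (Subgroup.eq_of_le_of_card_ge hle ?_).symm
    exact hAmax (j := N) ⟨hN, hne⟩ (Subgroup.card_le_of_le hle)
  haveI : Nontrivial (G ⧸ A) := QuotientGroup.nontrivial_iff.mpr hAtop
  haveI hsimpQ : IsSimpleGroup (G ⧸ A) := ⟨fun H hH => by
    have hle : A ≤ H.comap (QuotientGroup.mk' A) := by
      intro a ha
      rw [Subgroup.mem_comap, QuotientGroup.mk'_apply, (QuotientGroup.eq_one_iff a).mpr ha]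
      exact H.one_mem
    by_cases htop : H.comap (QuotientGroup.mk' A) = ⊤
    · right
      rw [← Subgroup.map_comap_eq_self_of_surjective (QuotientGroup.mk'_surjective A) H, htop,
        Subgroup.map_top_of_surjective _ (QuotientGroup.mk'_surjective A)]
    · left
      rw [← Subgroup.map_comap_eq_self_of_surjective (QuotientGroup.mk'_surjective A) H,
        hmaxle _ (hH.comap _) hle htop, Subgroup.map_eq_bot_iff, QuotientGroup.ker_mk']⟩
  have hQns : ¬ Group.IsSolvable (G ⧸ A) := fun h => by
    haveI := h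
    haveI := hnormal A hAn hAtop
    exact hns (Group.isSolvable_of_ker_le_range A.subtype (QuotientGroup.mk' A)
      (by rw [QuotientGroup.ker_mk', Subgroup.range_subtype]))
  by_cases hAZ : A ≤ Subgroup.center G
  · -- the central case
    have hAne : A ≠ ⊥ := by
      intro h
      refine hnsimple ⟨fun N hN => or_iff_not_imp_right.mpr fun hne => ?_⟩
      rw [← h]
      exact hmaxle N hN (h ▸ bot_le) hne
    obtain ⟨p, hp, hpA⟩ := Nat.exists_prime_and_dvd (n := Nat.card A)
      (fun h => hAne (Subgroup.card_eq_one.mp h))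
    haveI : Fact p.Prime := ⟨hp⟩
    obtain ⟨P⟩ : Nonempty (Sylow p G) := inferInstance
    obtain ⟨⟨z, hzA⟩, hz⟩ := exists_prime_orderOf_dvd_card' p hpA
    have hz' : orderOf z = p := by rw [← hz, ← Subgroup.orderOf_coe]
    have hzZ := hAZ hzA
    have hzP : z ∈ (P : Subgroup G) := by
      refine FGS77.mem_sylow_of_normalizes (k := 1) P (by rw [hz', pow_one]) ?_
      rw [Subgroup.mem_normalizer_iff]
      intro a
      rw [← Subgroup.mem_center_iff.mp hzZ a, mul_inv_cancel_right]
    have hPna : ¬ IsMulCommutative (P : Subgroup G) := fun hc => by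
      have hb := Transfer.inf_commutator_inf_center_eq_bot (G := G) hc P.card_coprime_index
      have : z ∈ (⊥ : Subgroup G) := hb ▸ ⟨⟨hzP, hperf ▸ Subgroup.mem_top z⟩, hzZ⟩
      rw [Subgroup.mem_bot.mp this, orderOf_one] at hz'
      exact hp.ne_one hz'.symm
    -- proper subgroups of `P` are abelian
    have hgrow : ∀ (R : Sylow p G) (D : Subgroup G), D < (R : Subgroup G) →
        ∃ y ∈ (R : Subgroup G), y ∈ Subgroup.normalizer (D : Set G) ∧ y ∉ D := by
      intro R D hD
      haveI : Group.IsNilpotent (R : Subgroup G) := R.isPGroup'.isNilpotent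
      have hlt : D.subgroupOf (R : Subgroup G) < ⊤ :=
        lt_top_iff_ne_top.mpr fun h => hD.not_ge (Subgroup.subgroupOf_eq_top.mp h)
      obtain ⟨y, hyn, hyD⟩ := SetLike.exists_of_lt
        (normalizerCondition_of_isNilpotent (G := (R : Subgroup G)) _ hlt)
      refine ⟨y, y.2, ?_, hyD⟩
      rw [Subgroup.mem_normalizer_iff]
      intro d
      constructor
      · intro hd
        exact (Subgroup.mem_normalizer_iff.mp hyn ⟨d, hD.le hd⟩).mp hd
      · intro hd
        have hdR : d ∈ (R : Subgroup G) := by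
          have := (R : Subgroup G).mul_mem ((R : Subgroup G).mul_mem ((R : Subgroup G).inv_mem y.2) (hD.le hd)) y.2
          simpa [mul_assoc] using this
        exact (Subgroup.mem_normalizer_iff.mp hyn ⟨d, hdR⟩).mpr hd
    have hnpc : Cfsg.HasNormalPComplement p G := by
      refine Transfer.hasNormalPComplement_of_normalizer_centralizer P fun D0 hD0 hD0ne g hg hgp => ?_
      by_contra hgc
      set bad : Set (Subgroup G) := {D | IsPGroup p D ∧ ∃ g ∈ Subgroup.normalizer (D : Set G),
        Nat.Coprime (orderOf g) p ∧ g ∉ Subgroup.centralizer (D : Set G)}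
      obtain ⟨D, ⟨hDp, x, hx, hxp, hxc⟩, hDmax⟩ := Set.Finite.exists_maximalFor
        (fun D : Subgroup G => Nat.card D) bad (Set.toFinite _)
        ⟨D0, P.isPGroup'.to_le hD0, g, hg, hgp, hgc⟩
      set K := Subgroup.normalizer (D : Set G)
      by_cases hDc : IsMulCommutative D
      swap
      · have hxD : x ∈ D := hS D hDc ▸ hx
        have hx1 : x = 1 := by
          obtain ⟨k, hk⟩ := IsPGroup.iff_orderOf.mp hDp ⟨x, hxD⟩
          rw [← Subgroup.orderOf_coe] at hk
          exact orderOf_eq_one_iff.mp (Nat.dvd_one.mp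
            ((hxp.pow_right k).eq_one_of_dvd (dvd_of_eq hk) ▸ dvd_refl _))
        exact hxc (hx1 ▸ Subgroup.one_mem _)
      have hDlek : D ≤ K := Subgroup.le_normalizer
      have hKtop : K ≠ ⊤ := by
        intro h
        haveI : D.Normal := Subgroup.normalizer_eq_top_iff.mp h
        by_cases hDA : D ≤ A
        · exact hxc (Subgroup.mem_centralizer_iff.mpr fun d hd =>
            (Subgroup.mem_center_iff.mp (hAZ (hDA hd)) x).symm)
        · have htop : D ⊔ A = ⊤ := by
            by_contra hne
            exact hDA (le_sup_left.trans (hmaxle _ inferInstance le_sup_right hne).le)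
          refine hns ?_
          haveI := hDc
          haveI := hnormal A hAn hAtop
          haveI : Group.IsSolvable (G ⧸ A) := by
            refine Group.isSolvable_of_comm ?_
            intro a b
            have hrep : ∀ c : G ⧸ A, ∃ d : D, ((d : G) : G ⧸ A) = c := by
              intro c
              obtain ⟨c, rfl⟩ := QuotientGroup.mk_surjective c
              have hc : c ∈ (D ⊔ A : Subgroup G) := htop ▸ Subgroup.mem_top c
              rw [← SetLike.mem_coe, Subgroup.mul_normal D A] at hc
              obtain ⟨d, hd, a, ha, rfl⟩ := hc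
              exact ⟨⟨d, hd⟩, by simp [(QuotientGroup.eq_one_iff a).mpr ha]⟩
            obtain ⟨d, rfl⟩ := hrep a
            obtain ⟨d', rfl⟩ := hrep b
            rw [← QuotientGroup.mk_mul, ← QuotientGroup.mk_mul,
              show (d : G) * d' = d' * d from congrArg Subtype.val (mul_comm' d d')]
          exact absurd (inferInstance : Group.IsSolvable (G ⧸ A)) hQns
      have hcardK : Nat.card K < n := by
        rw [← hn]
        refine lt_of_le_of_ne K.card_le_card_group fun h => hKtop ?_
        exact Subgroup.eq_top_of_card_eq K h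
      haveI : Nontrivial K := nontrivial_of_ne ⟨x, hx⟩ 1 fun h => hxc (by
        rw [show x = 1 from congrArg Subtype.val h]; exact Subgroup.one_mem _)
      haveI hDn : (D.subgroupOf K).Normal := Subgroup.normal_in_normalizer
      have hKns : ¬ IsSimpleGroup K := by
        intro h
        rcases h.eq_bot_or_eq_top_of_normal _ hDn with h' | h'
        · refine hxc (Subgroup.mem_centralizer_iff.mpr fun d hd => ?_)
          have hd1 : (⟨d, hDlek hd⟩ : K) = 1 := (Subgroup.eq_bot_iff_forall _).mp h' _ hd
          rw [show d = 1 from congrArg Subtype.val hd1, one_mul, mul_one]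
        · have hxD : x ∈ D := by
            have : (⟨x, hx⟩ : K) ∈ D.subgroupOf K := h' ▸ Subgroup.mem_top _
            exact this
          exact hxc (D.le_centralizer hxD)
      haveI : Group.IsSolvable K := (ih _ hcardK K rfl (selfNorm_subgroup hS K)).resolve_right hKns
      -- a maximal normal subgroup of `K`
      obtain ⟨B, ⟨hBn, hBtop⟩, hBmax⟩ := Set.Finite.exists_maximalFor (fun N : Subgroup K => Nat.card N)
        {N : Subgroup K | N.Normal ∧ N ≠ ⊤} (Set.toFinite _) ⟨⊥, inferInstance, bot_ne_top⟩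
      haveI := hBn
      haveI hBc : IsMulCommutative B := selfNorm_normal (selfNorm_subgroup hS K) B hBtop
      haveI : Nontrivial (K ⧸ B) := QuotientGroup.nontrivial_iff.mpr hBtop
      obtain ⟨F, r, hFn, hFne, -, hr, hFr, -, hFexp, -⟩ :=
        Solvable.exists_minimal_normal_elementary (K ⧸ B)
      haveI := hFn
      have hFtop : F.comap (QuotientGroup.mk' B) = ⊤ := by
        by_contra hne
        have hle : B ≤ F.comap (QuotientGroup.mk' B) := by
          intro a ha
          rw [Subgroup.mem_comap, QuotientGroup.mk'_apply, (QuotientGroup.eq_one_iff a).mpr ha]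
          exact F.one_mem
        have h1 := Subgroup.eq_of_le_of_card_ge hle
          (hBmax (j := F.comap (QuotientGroup.mk' B)) ⟨hFn.comap _, hne⟩ (Subgroup.card_le_of_le hle))
        refine hFne ?_
        rw [← Subgroup.map_comap_eq_self_of_surjective (QuotientGroup.mk'_surjective B) F, ← h1,
          Subgroup.map_eq_bot_iff, QuotientGroup.ker_mk']
      have hexp : ∀ k : K, k ^ r ∈ B := fun k => by
        rw [← QuotientGroup.eq_one_iff, QuotientGroup.mk_pow]
        exact hFexp _ (hFtop ▸ Subgroup.mem_top k : k ∈ F.comap (QuotientGroup.mk' B))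
      have hxK : (⟨x, hx⟩ : K) ∉ Subgroup.centralizer ((D.subgroupOf K : Subgroup K) : Set K) := fun h =>
        hxc (Subgroup.mem_centralizer_iff.mpr fun d hd =>
          congrArg Subtype.val (Subgroup.mem_centralizer_iff.mp h ⟨d, hDlek hd⟩ hd))
      -- `p`-elements of `K` lie in `B` unless `r = p`
      have hDB : D.subgroupOf K ≤ B := by
        by_contra hDB
        have htop : D.subgroupOf K ⊔ B = ⊤ := by
          by_contra hne
          exact hDB (le_sup_left.trans (Subgroup.eq_of_le_of_card_ge le_sup_right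
            (hBmax (j := D.subgroupOf K ⊔ B) ⟨inferInstance, hne⟩ (Subgroup.card_le_of_le le_sup_right))).ge)
        -- then `K / B` is a `p`-group and `x ∈ B`
        have hxB : (⟨x, hx⟩ : K) ∈ B := by
          obtain ⟨d, hd, b, hb, hdb⟩ : (⟨x, hx⟩ : K) ∈
              ((D.subgroupOf K : Subgroup K) : Set K) * (B : Set K) := by
            rw [← Subgroup.mul_normal, SetLike.mem_coe, htop]; exact Subgroup.mem_top _
          have h1 : orderOf ((⟨x, hx⟩ : K) : K ⧸ B) ∣ orderOf x := by
            rw [show orderOf x = orderOf (⟨x, hx⟩ : K) from Subgroup.orderOf_coe (⟨x, hx⟩ : K)]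
            exact orderOf_map_dvd (QuotientGroup.mk' B) _
          have h2 : ((⟨x, hx⟩ : K) : K ⧸ B) = (d : K ⧸ B) := by
            rw [← hdb]; simp [(QuotientGroup.eq_one_iff b).mpr hb]
          obtain ⟨k, hk⟩ := IsPGroup.iff_orderOf.mp hDp ⟨d, hd⟩
          have h3 : orderOf (d : K ⧸ B) ∣ p ^ k := by
            rw [← hk, ← Subgroup.orderOf_coe]
            exact (orderOf_map_dvd (QuotientGroup.mk' B) d).trans (dvd_of_eq (Subgroup.orderOf_coe d).symm)
          rw [h2] at h1
          rw [← QuotientGroup.eq_one_iff, h2, ← orderOf_eq_one_iff]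
          exact Nat.dvd_one.mp ((Nat.Coprime.pow_right k hxp) ▸ Nat.dvd_gcd h1 h3)
        refine hxK (Subgroup.mem_centralizer_iff.mpr fun d hd => ?_)
        by_contra hne
        have hcm : d * (⟨x, hx⟩ : K) * d⁻¹ * (⟨x, hx⟩ : K)⁻¹ ∈ D.subgroupOf K ⊓ B := by
          refine ⟨?_, ?_⟩
          · rw [SetLike.mem_coe, mul_assoc d, mul_assoc d]
            exact mul_mem hd (hDn.conj_mem _ (inv_mem hd) _)
          · exact B.mul_mem (hBn.conj_mem _ hxB d) (B.inv_mem hxB)
        -- `x` centralizes `D ∩ B` and `d ↦ [d, x]` has values there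
        have hc2 : Commute (⟨x, hx⟩ : K) (d * (⟨x, hx⟩ : K) * d⁻¹ * (⟨x, hx⟩ : K)⁻¹) :=
          congrArg Subtype.val (mul_comm' (⟨_, hxB⟩ : B) ⟨_, hcm.2⟩)
        set c := d * (⟨x, hx⟩ : K) * d⁻¹ * (⟨x, hx⟩ : K)⁻¹ with hc
        set x' : K := ⟨x, hx⟩
        have hconj : d * x' * d⁻¹ = c * x' := by rw [hc, inv_mul_cancel_right]
        have hcop : c = 1 := by
          have h4 : (d * x' * d⁻¹) ^ orderOf x' = 1 := by
            rw [conj_pow, pow_orderOf_eq_one, mul_one, mul_inv_cancel]
          rw [hconj, hc2.symm.mul_pow, pow_orderOf_eq_one, mul_one] at h4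
          have h5 : orderOf c ∣ orderOf x' := orderOf_dvd_of_pow_eq_one h4
          obtain ⟨k, hk⟩ := IsPGroup.iff_orderOf.mp hDp ⟨(c : G), hcm.1⟩
          rw [← Subgroup.orderOf_coe] at hk
          rw [← Subgroup.orderOf_coe c, ← Subgroup.orderOf_coe x'] at h5
          rw [← orderOf_eq_one_iff, ← Subgroup.orderOf_coe]
          exact Nat.dvd_one.mp ((Nat.Coprime.pow_right k hxp) ▸ Nat.dvd_gcd h5 (dvd_of_eq hk))
        rw [hcop, one_mul] at hconj
        exact hne (mul_inv_eq_iff_eq_mul.mp hconj)
      have hrp : r ≠ p := by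
        intro h
        refine hxK (Subgroup.mem_centralizer_iff.mpr fun d hd => ?_)
        have hxB : (⟨x, hx⟩ : K) ∈ B := by
          obtain ⟨m, hm⟩ := exists_pow_eq_self_of_coprime (x := (⟨x, hx⟩ : K)) (n := r)
            (by rw [h, ← Subgroup.orderOf_coe]; exact hxp.symm)
          rw [← hm]
          exact B.pow_mem (hexp _) m
        exact congrArg Subtype.val (mul_comm' (⟨d, hDB hd⟩ : B) ⟨_, hxB⟩)
      -- the Sylow `p`-subgroup of `B`
      obtain ⟨E0⟩ := (inferInstance : Nonempty (Sylow p B))
      haveI hE0n : (E0 : Subgroup B).Normal := inferInstance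
      haveI : (E0 : Subgroup B).Characteristic := E0.characteristic_of_normal hE0n
      set E1 := (E0 : Subgroup B).map B.subtype
      haveI : E1.Normal := ConjAct.normal_of_characteristic_of_normal
      set E := E1.map K.subtype with hE
      have hEp : IsPGroup p E := (E0.isPGroup'.map _).map _
      have hmemE : ∀ y : K, y ∈ B → (∃ k, orderOf y = p ^ k) → (y : G) ∈ E := by
        rintro y hy ⟨k, hk⟩
        refine ⟨y, ⟨⟨y, hy⟩, ?_, rfl⟩, rfl⟩
        exact FGS77.mem_sylow_of_normalizes (k := k) E0 (by rw [← hk, ← Subgroup.orderOf_coe])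
          (Subgroup.normalizer_eq_top (H := (E0 : Subgroup B)) ▸ Subgroup.mem_top _)
      have hDE : D ≤ E := by
        intro d hd
        obtain ⟨k, hk⟩ := IsPGroup.iff_orderOf.mp hDp ⟨d, hd⟩
        exact hmemE ⟨d, hDlek hd⟩ (hDB hd) ⟨k, by rw [← Subgroup.orderOf_coe]; rwa [← Subgroup.orderOf_coe] at hk⟩
      obtain ⟨R, hR⟩ := hDp.exists_le_sylow
      have hDR : D ≠ (R : Subgroup G) := by
        intro h
        refine hPna ?_
        obtain ⟨c, rfl⟩ := MulAction.exists_smul_eq G R P
        haveI : IsMulCommutative (R : Subgroup G) := h ▸ hDc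
        refine ⟨⟨?_⟩⟩
        rintro ⟨a, ha⟩ ⟨b, hb⟩
        apply Subtype.ext
        rw [Sylow.coe_subgroup_smul, Subgroup.mem_pointwise_smul_iff_inv_smul_mem] at ha hb
        have h1 := congrArg Subtype.val (mul_comm' (⟨_, ha⟩ : (R : Subgroup G)) ⟨_, hb⟩)
        refine (MulAut.conj c)⁻¹.injective ?_
        show (MulAut.conj c)⁻¹ (a * b) = (MulAut.conj c)⁻¹ (b * a)
        rw [map_mul, map_mul]; exact h1
      obtain ⟨y, hyR, hyK, hyD⟩ := hgrow R D (lt_of_le_of_ne hR hDR)
      have hyE : y ∈ E := by
        obtain ⟨k, hk⟩ := IsPGroup.iff_orderOf.mp R.isPGroup' ⟨y, hyR⟩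
        rw [← Subgroup.orderOf_coe] at hk
        refine hmemE ⟨y, hyK⟩ ?_ ⟨k, by rw [← Subgroup.orderOf_coe]; exact hk⟩
        obtain ⟨m, hm⟩ := exists_pow_eq_self_of_coprime (x := (⟨y, hyK⟩ : K)) (n := r) (by
          rw [← Subgroup.orderOf_coe, hk]
          exact Nat.Coprime.pow_right k ((Nat.coprime_primes hr hp).mpr hrp))
        rw [← hm]
        exact B.pow_mem (hexp _) m
      have hEn : x ∈ Subgroup.normalizer (E : Set G) :=
        Subgroup.le_normalizer_map _ ⟨⟨x, hx⟩, (Subgroup.normalizer_eq_top (H := E1)).ge (Subgroup.mem_top _), rfl⟩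
      have hlt : Nat.card D < Nat.card E :=
        lt_of_le_of_ne (Subgroup.card_le_of_le hDE) fun h => hyD (Subgroup.eq_of_le_of_card_ge hDE h.ge ▸ hyE)
      have := hDmax (j := E) ⟨hEp, x, hEn, hxp, fun h => hxc (Subgroup.centralizer_le hDE h)⟩ hlt.le
      exact absurd this (not_le.mpr hlt)
    obtain ⟨P', N, hN, hc⟩ := hnpc
    haveI := hN
    have hNtop : N ≠ ⊤ := by
      intro h
      rw [h, Subgroup.isComplement'_top_left] at hc
      refine P'.ne_bot_of_dvd_card ?_ hc
      rw [← hz']; exact orderOf_dvd_natCard z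
    haveI : Nontrivial (G ⧸ N) := QuotientGroup.nontrivial_iff.mpr hNtop
    have hpg : IsPGroup p (G ⧸ N) := by
      obtain ⟨k, hk⟩ := IsPGroup.iff_card.mp P'.isPGroup'
      refine IsPGroup.of_card (n := k) ?_
      rw [← hk]
      exact hc.symm.index_eq_card
    haveI := hpg.isNilpotent
    refine (Group.IsSolvable.commutator_lt_top_of_nontrivial (G ⧸ N)).ne ?_
    rw [eq_top_iff, ← Subgroup.map_top_of_surjective _ (QuotientGroup.mk'_surjective N), ← hperf,
      commutator_def, commutator_def, Subgroup.map_commutator]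
    exact Subgroup.commutator_mono le_top le_top
  · -- the noncentral case
    have hCA : Subgroup.centralizer (A : Set G) = A := by
      refine hmaxle _ inferInstance A.le_centralizer fun h => hAZ fun a ha => ?_
      rw [Subgroup.mem_center_iff]
      intro g
      exact (Subgroup.mem_centralizer_iff.mp (h ▸ Subgroup.mem_top g) a ha).symm
    -- subgroups of `G ⧸ A` are self-normalizing
    have hself : ∀ X : Subgroup (G ⧸ A), X ≠ ⊥ → Subgroup.normalizer (X : Set (G ⧸ A)) = X := by
      intro X hX
      have hle : A ≤ X.comap (QuotientGroup.mk' A) := by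
        intro a ha
        rw [Subgroup.mem_comap, QuotientGroup.mk'_apply, (QuotientGroup.eq_one_iff a).mpr ha]
        exact X.one_mem
      have hna : ¬ IsMulCommutative (X.comap (QuotientGroup.mk' A)) := by
        intro hc
        refine hX ?_
        rw [← Subgroup.map_comap_eq_self_of_surjective (QuotientGroup.mk'_surjective A) X,
          Subgroup.map_eq_bot_iff, QuotientGroup.ker_mk']
        intro g hg
        rw [← hCA, Subgroup.mem_centralizer_iff]
        intro a ha
        exact congrArg Subtype.val (hc.is_comm.comm ⟨a, hle ha⟩ ⟨g, hg⟩)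
      have h1 := hS _ hna
      rw [← Subgroup.comap_normalizer_eq_of_surjective _ (QuotientGroup.mk'_surjective A)] at h1
      exact Subgroup.comap_injective (QuotientGroup.mk'_surjective A) h1
    obtain ⟨p, hp, hpc⟩ := Nat.exists_prime_and_dvd (n := Nat.card (G ⧸ A))
      (Finite.one_lt_card).ne'
    haveI : Fact p.Prime := ⟨hp⟩
    obtain ⟨P⟩ : Nonempty (Sylow p (G ⧸ A)) := inferInstance
    have hPne : (P : Subgroup (G ⧸ A)) ≠ ⊥ := P.ne_bot_of_dvd_card hpc
    haveI : Nontrivial (P : Subgroup (G ⧸ A)) := (Subgroup.nontrivial_iff_ne_bot _).mpr hPne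
    haveI := P.isPGroup'.center_nontrivial
    obtain ⟨⟨⟨z, hzP⟩, hzc⟩, hz1⟩ := exists_ne (1 : Subgroup.center (P : Subgroup (G ⧸ A)))
    have hz1' : z ≠ 1 := fun h => hz1 (Subtype.ext (Subtype.ext h))
    have hPz : (P : Subgroup (G ⧸ A)) ≤ Subgroup.zpowers z := by
      intro y hy
      rw [← hself (Subgroup.zpowers z) (by rwa [Ne, Subgroup.zpowers_eq_bot])]
      have hyz : Commute y z := congrArg Subtype.val (Subgroup.mem_center_iff.mp hzc ⟨y, hy⟩)
      rw [Subgroup.mem_normalizer_iff]
      intro w
      constructor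
      · rintro ⟨i, rfl⟩
        exact ⟨i, by show z ^ i = _; rw [(hyz.zpow_right i).eq, mul_inv_cancel_right]⟩
      · rintro ⟨i, hi⟩
        refine ⟨i, ?_⟩
        have hi' : z ^ i = y * w * y⁻¹ := hi
        have h2 : y⁻¹ * z ^ i * y = z ^ i := by
          rw [mul_assoc, ← (hyz.zpow_right i).eq, inv_mul_cancel_left]
        rw [hi'] at h2
        show z ^ i = w
        rw [hi', ← h2]
        group
    have hcomm : ∀ a ∈ (P : Subgroup (G ⧸ A)), ∀ b ∈ (P : Subgroup (G ⧸ A)), a * b = b * a := by
      intro a ha b hb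
      obtain ⟨i, rfl⟩ := hPz ha
      obtain ⟨j, rfl⟩ := hPz hb
      exact ((Commute.refl z).zpow_zpow i j).eq
    have hnc : Subgroup.normalizer ((P : Subgroup (G ⧸ A)) : Set (G ⧸ A)) ≤
        Subgroup.centralizer ((P : Subgroup (G ⧸ A)) : Set (G ⧸ A)) := fun y hy =>
      Subgroup.mem_centralizer_iff.mpr fun q hq => hcomm q hq y (hself _ hPne ▸ hy)
    have hc := MonoidHom.ker_transferSylow_isComplement' P hnc
    rcases Subgroup.Normal.eq_bot_or_eq_top (H := (MonoidHom.transferSylow P hnc).ker) inferInstance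
      with hk | hk
    · rw [hk, Subgroup.isComplement'_bot_left] at hc
      exact hQns (Group.isSolvable_of_comm fun a b => hcomm a (hc ▸ Subgroup.mem_top a) b (hc ▸ Subgroup.mem_top b))
    · rw [hk, Subgroup.isComplement'_top_left] at hc
      exact hPne hc

/-- A finite group in which every non-abelian subgroup is self-normalizing is solvable or simple. -/
theorem result {G : Type*} [Group G] [Finite G] (hS : ∀ H : Subgroup G, ¬ IsMulCommutative H → Subgroup.normalizer (H : Set G) = H) :
    Group.IsSolvable G ∨ IsSimpleGroup G := by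
  exact main _ G rfl hS

end Cfsg.Agent.S4072
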