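import Cfsg.Statements.S4073
import Cfsg.Agent.CharDeep.CA.SelfNormConv
import Cfsg.Agent.Lib.LinearGroup.Card

set_option autoImplicit false
open Cfsg

namespace Cfsg.Agent.S4073

open Cfsg.Agent.CharDeep

theorem slEquiv {F K : Type*} [Field F] [Field K] (e : F ≃+* K) :
    Nonempty (Matrix.SpecialLinearGroup (Fin 2) F ≃* Matrix.SpecialLinearGroup (Fin 2) K) :=
  ⟨{ toFun := Matrix.SpecialLinearGroup.map e.toRingHom
     invFun := Matrix.SpecialLinearGroup.map e.symm.toRingHom
     left_inv := fun x => by ext i j; simp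
     right_inv := fun x => by ext i j; simp
     map_mul' := fun x y => map_mul _ x y }⟩

/-- Let G be a finite non-abelian simple group. Every non-abelian subgroup of G is self-normalizing if and only if G is isomorphic to PSL₂(2ⁿ) for some n ≥ 2 with 2ⁿ − 1 prime (this includes the alternating group of degree 5 as PSL₂(4)). -/
theorem result {G : Type*} [Group G] [Finite G] [IsSimpleGroup G]
    (hna : ¬ IsMulCommutative G) :
    (∀ H : Subgroup G, ¬ IsMulCommutative H → Subgroup.normalizer (H : Set G) = H) ↔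
    ∃ n : ℕ, 2 ≤ n ∧ (2 ^ n - 1).Prime ∧ Nonempty (G ≃* Matrix.ProjectiveSpecialLinearGroup (Fin 2) (GaloisField 2 n)) := by
  constructor
  · intro h
    obtain ⟨t, H, hA, F, iF, iFF, f, hf, hF, hAf, ⟨e⟩⟩ :=
      CA.exists_psl_data (CA.isCA_of_SN h hna) hna
    have hp := CA.relIndex_prime h H
    refine ⟨f, hf, ?_, ?_⟩
    · rwa [show 2 ^ f - 1 = (CA.cent t).relIndex (CA.nrm t) by omega]
    · haveI := Fintype.ofFinite (GaloisField 2 f)
      have hG : Fintype.card (GaloisField 2 f) = 2 ^ f := by
        rw [← Nat.card_eq_fintype_card, GaloisField.card 2 f (by omega)]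
      obtain ⟨ψ⟩ := OrderP.nonempty_psl_equiv_sl hF
      obtain ⟨φ⟩ := OrderP.nonempty_psl_equiv_sl hG
      obtain ⟨χ⟩ := slEquiv (FiniteField.ringEquivOfCardEq (K := F) (K' := GaloisField 2 f) (hF.trans hG.symm))
      exact ⟨e.trans (ψ.trans (χ.trans φ.symm))⟩
  · rintro ⟨n, hn, hp, ⟨e⟩⟩
    haveI := Fintype.ofFinite (GaloisField 2 n)
    have hGF : Fintype.card (GaloisField 2 n) = 2 ^ n := by
      rw [← Nat.card_eq_fintype_card, GaloisField.card 2 n (by omega)]
    haveI : CharP (GaloisField 2 n) 2 := OrderP.charP_two_of_card hGF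
    obtain ⟨φ⟩ := OrderP.nonempty_psl_equiv_sl hGF
    let E := e.trans φ
    have hca : CA.IsCA G := fun a b c _ hb _ hab hbc => by
      have := CA.sl_two_isCA (fun he => hb (E.injective (he.trans E.map_one.symm)))
        (hab.map E.toMonoidHom) (hbc.map E.toMonoidHom)
      exact E.injective (by rw [map_mul, map_mul]; exact this.eq)
    obtain ⟨t, H, hA, F, iF, iFF, f, hf, hF, hAf, ⟨e'⟩⟩ := CA.exists_psl_data hca hna
    obtain ⟨ψ⟩ := OrderP.nonempty_psl_equiv_sl hF
    have hcard := (Nat.card_congr E.toEquiv).symm.trans (Nat.card_congr (e'.trans ψ).toEquiv)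
    rw [LinearGroup.card_SL_two, LinearGroup.card_SL_two, Nat.card_eq_fintype_card, hGF,
      Nat.card_eq_fintype_card, hF] at hcard
    have hfn : f = n := by
      by_contra hne
      have key : ∀ a b : ℕ, 1 ≤ a → a < b → 2 ^ a * ((2 ^ a) ^ 2 - 1) < 2 ^ b * ((2 ^ b) ^ 2 - 1) :=
        fun a b ha hab => by
          have h1 := Nat.pow_lt_pow_right (show 1 < 2 by norm_num) hab
          have h2 := Nat.pow_lt_pow_left h1 (show 2 ≠ 0 by norm_num)
          have h3 : 1 < (2 ^ b) ^ 2 := by
            have := Nat.one_le_two_pow (n := a)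
            nlinarith
          exact Nat.mul_lt_mul_of_lt_of_lt h1 (by omega)
      rcases Nat.lt_or_gt_of_ne hne with hl | hl
      · exact absurd hcard.symm (key f n (by omega) hl).ne
      · exact absurd hcard (key n f (by omega) hl).ne
    subst hfn
    have hi : (CA.cent t).relIndex (CA.nrm t) = 2 ^ f - 1 := by omega
    refine CA.sn_of_data H (hi ▸ hp) hA hca (fun x hx1 hx2 y hy => E.injective ?_) (fun y z hz h => ?_)
    · rw [map_mul, map_one]
      exact CA.sl_two_sq_of_commute (fun he => hx1 (E.injective (he.trans E.map_one.symm)))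
        (by rw [← map_mul, hx2, map_one]) (hy.map E.toMonoidHom)
    · have := CA.sl_two_conj_eq (y := E y) (z := E z)
        (fun he => hz (E.injective (by rw [map_mul, he, map_one])))
        (by have h' := h.map E.toMonoidHom
            simpa using h')
      rcases this with h1 | h1
      · exact Or.inl (E.injective (by simpa using h1))
      · exact Or.inr (E.injective (by simpa using h1))

end Cfsg.Agent.S4073
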