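import Cfsg.Statements.S4074
import Cfsg.Agent.FGS77.Basic

set_option autoImplicit false
open Cfsg
open scoped commutatorElement

namespace Cfsg.Agent.S4074

/-- For n > 2, every non-abelian subgroup of the dihedral group of order 2n is self-normalizing if and only if n = 4 or n is odd. -/
theorem result (n : ℕ) (hn : 2 < n) :
    (∀ H : Subgroup (DihedralGroup n), ¬ IsMulCommutative H → Subgroup.normalizer (H : Set (DihedralGroup n)) = H) ↔
    (n = 4 ∨ Odd n) := by
  haveI : NeZero n := ⟨by omega⟩
  constructor
  · intro h
    by_contra hc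
    push Not at hc
    obtain ⟨h4, hev⟩ := hc
    rw [Nat.not_odd_iff_even] at hev
    obtain ⟨m, hm⟩ := hev
    have hm2 : (2 : ℕ) ∣ n := ⟨m, by omega⟩
    let φ : ZMod n →+* ZMod 2 := ZMod.castHom hm2 (ZMod 2)
    let f : DihedralGroup n → ZMod 2 := fun g => match g with
      | .r i => φ i
      | .sr i => φ i
    have hf : ∀ a b, f (a * b) = f a + f b := by
      have two : ∀ a : ZMod 2, -a = a := fun a => neg_eq_of_add_eq_zero_left (CharTwo.add_self_eq_zero a)
      rintro (a | a) (b | b) <;>
        simp [f, DihedralGroup.r_mul_r, DihedralGroup.r_mul_sr, DihedralGroup.sr_mul_r,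
          DihedralGroup.sr_mul_sr, map_add, map_sub, sub_eq_add_neg, two, add_comm]
    let H : Subgroup (DihedralGroup n) :=
      { carrier := {g | f g = 0}
        one_mem' := by show φ 0 = 0; exact map_zero φ
        mul_mem' := fun {a b} ha hb => by
          simp only [Set.mem_setOf_eq] at ha hb ⊢
          rw [hf, ha, hb, add_zero]
        inv_mem' := fun {a} ha => by
          simp only [Set.mem_setOf_eq] at ha ⊢
          have := hf a a⁻¹
          rw [mul_inv_cancel, show f 1 = 0 from map_zero φ, ha, zero_add] at this
          exact this.symm }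
    haveI : H.Normal := ⟨fun a ha g => by
      show f (g * a * g⁻¹) = 0
      rw [hf, hf, show f a = 0 from ha, add_zero, ← hf, mul_inv_cancel]
      exact map_zero φ⟩
    have hna : ¬ IsMulCommutative H := by
      intro hab
      have h1 : DihedralGroup.r ((2 : ℕ) : ZMod n) ∈ H := by
        show φ ((2 : ℕ) : ZMod n) = 0
        rw [map_natCast]; rfl
      have h2 : DihedralGroup.sr (0 : ZMod n) ∈ H := by
        show φ 0 = 0
        rw [map_zero]
      have := congrArg Subtype.val (hab.1.1 ⟨_, h1⟩ ⟨_, h2⟩)
      simp only [Subgroup.coe_mul, DihedralGroup.r_mul_sr, DihedralGroup.sr_mul_r,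
        DihedralGroup.sr.injEq] at this
      have h3 : ((4 : ℕ) : ZMod n) = 0 := by
        push_cast at this ⊢
        linear_combination -this
      rw [ZMod.natCast_eq_zero_iff] at h3
      have := Nat.le_of_dvd (by norm_num) h3
      omega
    have h1 := h H hna
    rw [Subgroup.normalizer_eq_top_iff.mpr ‹_›] at h1
    have h5 : DihedralGroup.r (1 : ZMod n) ∈ H := h1 ▸ Subgroup.mem_top _
    have h6 : φ (1 : ZMod n) = 0 := h5
    simp at h6
  · intro h H hH
    refine le_antisymm ?_ Subgroup.le_normalizer
    obtain ⟨i, hi⟩ : ∃ i, DihedralGroup.sr i ∈ H := by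
      by_contra hc
      push Not at hc
      refine hH ⟨⟨fun a b => Subtype.ext ?_⟩⟩
      obtain ⟨a, ha⟩ := a
      obtain ⟨b, hb⟩ := b
      rcases a with a | a
      · rcases b with b | b
        · simp [add_comm]
        · exact absurd hb (hc b)
      · exact absurd ha (hc a)
    rcases h with rfl | hodd
    · -- order eight: a proper subgroup is abelian
      by_contra hne
      apply hH
      have hlt : H ≠ ⊤ := fun ht => hne (ht ▸ le_top)
      have hdvd : Nat.card H ∣ 2 ^ 3 := by
        have := Subgroup.card_subgroup_dvd_card H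
        rwa [DihedralGroup.nat_card] at this
      obtain ⟨k, hk, hcard⟩ := (Nat.dvd_prime_pow Nat.prime_two).mp hdvd
      haveI : Fact (Nat.Prime 2) := ⟨Nat.prime_two⟩
      have hk3 : k ≠ 3 := fun h3 => hlt (Subgroup.card_eq_iff_eq_top H |>.mp (by
        rw [hcard, h3, DihedralGroup.nat_card]; norm_num))
      interval_cases k
      · haveI : Subsingleton H := (Nat.card_eq_one_iff_unique.mp (by simpa using hcard)).1
        exact ⟨⟨fun a b => Subsingleton.elim _ _⟩⟩
      · haveI : IsCyclic H := isCyclic_of_prime_card (by simpa using hcard)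
        exact IsCyclic.isMulCommutative
      · exact IsPGroup.isMulCommutative_of_card_eq_prime_sq (p := 2) hcard
      · exact absurd rfl hk3
    · intro g hg
      obtain ⟨m, hm⟩ := hodd
      have key : ∀ k, DihedralGroup.r k ∈ Subgroup.normalizer (H : Set (DihedralGroup n)) →
          DihedralGroup.r k ∈ H := by
        intro k hk
        have h1 := H.mul_mem hi ((Subgroup.mem_normalizer_iff.mp hk _).mp hi)
        simp only [DihedralGroup.inv_r, DihedralGroup.r_mul_sr, DihedralGroup.sr_mul_r,
          DihedralGroup.sr_mul_sr] at h1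
        have h2 := H.pow_mem (H.inv_mem h1) (m + 1)
        rw [DihedralGroup.inv_r, DihedralGroup.r_pow] at h2
        convert h2 using 2
        have h0 : ((2 * m + 1 : ℕ) : ZMod n) = 0 := by rw [← hm, ZMod.natCast_self]
        push_cast at h0 ⊢
        linear_combination (-k) * h0
      rcases g with k | k
      · exact key k hg
      · have h1 := key (i - k) (by
          have := Subgroup.mul_mem _ hg (Subgroup.le_normalizer hi)
          simpa using this)
        have h2 := H.mul_mem h1 (H.inv_mem hi)
        have h3 : DihedralGroup.sr k = DihedralGroup.sr i * (DihedralGroup.r (i - k))⁻¹ := by simp [← sub_eq_add_neg]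
        rw [h3]
        exact H.mul_mem hi (H.inv_mem h1)

end Cfsg.Agent.S4074
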