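import Cfsg.Statements.S4075
import Cfsg.Agent.FGS77.Basic

set_option autoImplicit false
open Cfsg
open scoped commutatorElement

namespace Cfsg.Agent.S4075

/-- Let G be a finite nilpotent group. Every non-abelian subgroup of G is self-normalizing if and only if G is abelian or G is a minimal non-abelian p-group for some prime p (non-abelian of prime-power order with every proper subgroup abelian). -/
theorem result {G : Type*} [Group G] [Finite G]
    [Group.IsNilpotent G] :
    (∀ H : Subgroup G, ¬ IsMulCommutative H → Subgroup.normalizer (H : Set G) = H) ↔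
    (IsMulCommutative G ∨ (IsPrimePow (Nat.card G) ∧ ¬ IsMulCommutative G ∧ ∀ H : Subgroup G, H ≠ ⊤ → IsMulCommutative H)) := by
  constructor
  · intro h
    have hall : ∀ H : Subgroup G, H ≠ ⊤ → IsMulCommutative H := by
      intro H hH
      by_contra hna
      have h1 := Group.normalizerCondition_of_isNilpotent H (lt_top_iff_ne_top.mpr hH)
      rw [h H hna] at h1
      exact lt_irrefl _ h1
    by_cases hab : IsMulCommutative G
    · exact Or.inl hab
    refine Or.inr ⟨?_, hab, hall⟩
    by_contra hnp
    apply hab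
    suffices hc : Subgroup.center G = ⊤ by
      refine ⟨⟨fun a b => ?_⟩⟩
      exact (Subgroup.mem_center_iff.mp (hc ▸ Subgroup.mem_top b) a)
    rw [← Subgroup.card_eq_iff_eq_top]
    refine Nat.dvd_antisymm (Subgroup.card_subgroup_dvd_card _) ?_
    rw [Nat.dvd_iff_prime_pow_dvd_dvd]
    intro q k hq hqk
    haveI : Fact q.Prime := ⟨hq⟩
    obtain ⟨P⟩ := (inferInstance : Nonempty (Sylow q G))
    refine (P.pow_dvd_card_of_pow_dvd_card hqk).trans (Subgroup.card_dvd_of_le ?_)
    intro x hx
    haveI hnP : (P : Subgroup G).Normal := P.normal_of_normalizerCondition Group.normalizerCondition_of_isNilpotent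
    have hPtop : (P : Subgroup G) ≠ ⊤ := fun he => hnp (by
      obtain ⟨j, hj⟩ := IsPGroup.iff_card.mp P.isPGroup'
      rw [he, Subgroup.card_top] at hj
      refine ⟨q, j, hq.prime, Nat.pos_of_ne_zero fun h0 => hab ?_, hj.symm⟩
      rw [h0, pow_zero] at hj
      haveI : Subsingleton G := (Nat.card_eq_one_iff_unique.mp hj).1
      exact ⟨⟨fun a b => Subsingleton.elim _ _⟩⟩)
    suffices (⊤ : Subgroup G) ≤ Subgroup.centralizer ({x} : Set G) by
      rw [Subgroup.mem_center_iff]
      intro g
      exact (Subgroup.mem_centralizer_iff.mp (this (Subgroup.mem_top g)) x rfl).symm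
    rw [top_le_iff, ← Subgroup.card_eq_iff_eq_top]
    refine Nat.dvd_antisymm (Subgroup.card_subgroup_dvd_card _) ?_
    rw [Nat.dvd_iff_prime_pow_dvd_dvd]
    intro r l hr hrl
    haveI : Fact r.Prime := ⟨hr⟩
    obtain ⟨Q⟩ := (inferInstance : Nonempty (Sylow r G))
    refine (Q.pow_dvd_card_of_pow_dvd_card hrl).trans (Subgroup.card_dvd_of_le ?_)
    intro y hy
    rw [Subgroup.mem_centralizer_iff]
    rintro _ rfl
    rcases eq_or_ne q r with rfl | hqr
    · haveI := Sylow.unique_of_normal P hnP
      rw [Subsingleton.elim Q P] at hy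
      exact congrArg Subtype.val ((hall _ hPtop).1.1 ⟨_, hx⟩ ⟨_, hy⟩)
    · haveI hnQ : (Q : Subgroup G).Normal := Q.normal_of_normalizerCondition Group.normalizerCondition_of_isNilpotent
      exact Subgroup.commute_of_normal_of_disjoint _ _ hnP hnQ
        (IsPGroup.disjoint_of_ne q r hqr _ _ P.isPGroup' Q.isPGroup') _ _ hx hy
  · rintro (hab | ⟨-, -, hall⟩) H hH
    · exact absurd ⟨⟨fun a b => Subtype.ext (hab.1.1 (a : G) b)⟩⟩ hH
    · have : H = ⊤ := by_contra fun hne => hH (hall H hne)
      subst this
      exact top_le_iff.mp Subgroup.le_normalizer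

end Cfsg.Agent.S4075
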