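import Cfsg.Statements.S4079
import Cfsg.Agent.FGS77.MetacyclicAut
import Cfsg.Agent.FG78.MaximalClass
import Cfsg.Agent.PLocalB.MaximalClassNormal

set_option autoImplicit false
open Cfsg
open scoped commutatorElement

namespace Cfsg.Agent.S4079
open Subgroup FGS77.Metacyclic

/-- Let p be an odd prime and L a finite metacyclic p-group with no cyclic subgroup of index p, and let a be an automorphism of L of order p. Then a moves some element of order p of L if and only if p = 3 and the semidirect product L ⋊ ⟨a⟩ (of order 3·#L) has maximal class, i.e. nilpotency class m where #L = 3^m. -/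
theorem result {L : Type*} [Group L] [Finite L] {p : ℕ} [Fact p.Prime]
    (hp : p ≠ 2) (hL : IsPGroup p L) (hmc : Cfsg.IsMetacyclic L) (hnc : ∀ C : Subgroup L, IsCyclic C → C.index ≠ p)
    (a : MulAut L) (ha : orderOf a = p) (m : ℕ) (hm : Nat.card L = p ^ m) :
    (∃ x : L, orderOf x = p ∧ a x ≠ x) ↔
    (p = 3 ∧ Group.nilpotencyClass (SemidirectProduct L ↥(Subgroup.zpowers a) (Subgroup.zpowers a).subtype) = m) := by
  have ha1 : a ^ p = 1 := orderOf_dvd_iff_pow_eq_one.mp (dvd_of_eq ha)
  have hap : ∀ x, (⇑a)^[p] x = x := by
    have hit : ∀ (n : ℕ) (x : L), (a ^ n) x = (⇑a)^[n] x := by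
      intro n
      induction n with
      | zero => intro x; rfl
      | succ n ih => intro x; rw [pow_succ', MulAut.mul_apply, ih, Function.iterate_succ_apply']
    intro x
    rw [← hit, ha1]; rfl
  have h : Ctx p L := ⟨hL, hp, hmc, hnc⟩
  have hne : a ≠ 1 := fun e => (Fact.out : p.Prime).ne_one (by rw [← ha, e, orderOf_one])
  have hnt : Nontrivial L := by
    by_contra hn
    rw [not_nontrivial_iff_subsingleton] at hn
    exact hne (MulEquiv.ext fun x => Subsingleton.elim _ _)
  obtain ⟨E, -, hEp, hEcard⟩ := OddLocal43.exists_elementary_of_not_isCyclic (G := L) (R := ⊤)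
    hp (hL.to_subgroup ⊤) (fun e => h.not_cyclic ((topEquiv (G := L)).isCyclic.mp e))
  have horder : ∀ x : L, orderOf x = p → x ∈ frattini L := fun x hx =>
    h.mem_frattini_of_pow (by rw [orderOf_dvd_iff_pow_eq_one.mp (dvd_of_eq hx)]; exact one_mem _)
  set P := SemidirectProduct L ↥(zpowers a) (zpowers a).subtype
  have : Finite P := Finite.of_equiv _ SemidirectProduct.equivProd.symm
  have hPcard : Nat.card P = p ^ (m + 1) := by
    rw [SemidirectProduct.card, hm, Nat.card_zpowers, ha, pow_succ]
  set α : ↥(zpowers a) := ⟨a, mem_zpowers a⟩ with hα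
  constructor
  · rintro ⟨x₀, hx₀, hmove⟩
    have hU : dSub a (frattini L) ≠ ⊤ := fun e =>
      hmove (fixes_frattini hL hp hmc a hap (fun x => e.ge (mem_top x)) (horder x₀ hx₀))
    obtain ⟨x, hx⟩ : ∃ x, x ∉ dSub a (frattini L) := by
      by_contra! hall
      exact hU ((eq_top_iff' _).mpr hall)
    refine ⟨(moved_main h a hap hU hx).1, ?_⟩
    have hC := card_fixed_aux _ le_rfl h a hap hU
    have hfix : ∀ (g : ↥(zpowers a)) (c : L), a c = c → (g : MulAut L) c = c := by
      intro g c hc
      obtain ⟨k, hk⟩ := mem_zpowers_iff.mp g.2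
      rw [← hk]
      have hs : a ∈ MulAction.stabilizer (MulAut L) c := hc
      exact MulAction.mem_stabilizer_iff.mp (zpow_mem hs k)
    let A0 : Subgroup P :=
      { carrier := {q | a q.left = q.left}
        one_mem' := by show a (1 : L) = 1; exact map_one a
        mul_mem' := fun {q r} hq hr => by
          show a (q.left * (q.right : MulAut L) r.left) = q.left * (q.right : MulAut L) r.left
          rw [map_mul, hfix q.right r.left hr]
          exact congrArg₂ (· * ·) hq hr
        inv_mem' := fun {q} hq => by
          show a (((q.right⁻¹ : ↥(zpowers a)) : MulAut L) q.left⁻¹) =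
            ((q.right⁻¹ : ↥(zpowers a)) : MulAut L) q.left⁻¹
          have : a q.left⁻¹ = q.left⁻¹ := by rw [map_inv, show a q.left = q.left from hq]
          rw [hfix _ _ this, this] }
    have hA0 : Nat.card A0 = p ^ 2 := by
      rw [pow_two]
      conv_rhs => enter [2]; rw [← ha, ← Nat.card_zpowers a]
      rw [← hC, ← Nat.card_prod]
      refine Nat.card_congr
        { toFun := fun q => (⟨(q : P).left, mem_dSub_iff_fixed.mpr q.2⟩, (q : P).right)
          invFun := fun z => ⟨⟨(z.1 : L), z.2⟩, mem_dSub_iff_fixed.mp z.1.2⟩
          left_inv := fun q => rfl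
          right_inv := fun z => rfl }
    have hcent : centralizer (A0 : Set P) = A0 := by
      have hcomm : IsMulCommutative A0 := IsPGroup.isMulCommutative_of_card_eq_prime_sq hA0
      refine le_antisymm (fun q hq => ?_) (le_centralizer A0)
      have hi : (SemidirectProduct.inr α : P) ∈ A0 := by
        show a (SemidirectProduct.inr α : P).left = (SemidirectProduct.inr α : P).left
        rw [SemidirectProduct.left_inr, map_one]
      have := congrArg SemidirectProduct.left (mem_centralizer_iff.mp hq _ hi)
      change (1 : L) * a q.left = q.left * (q.right : MulAut L) 1 at this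
      rw [one_mul, map_one, mul_one] at this
      exact this
    have := FG78.suzuki_maximal_class (m + 1) hPcard A0 hA0 hcent
    simpa using this
  · rintro ⟨-, hcl⟩
    have hm3 : 3 ≤ m + 1 := by
      have h1 := card_eq_card_quotient_mul_card_subgroup (frattini L)
      rw [h.card_quotient, hm] at h1
      have : p ^ 2 ≤ p ^ m := by rw [h1]; exact Nat.le_mul_of_pos_right _ Nat.card_pos
      have := (Nat.pow_le_pow_iff_right (Fact.out : p.Prime).one_lt).mp this
      omega
    have hU : dSub a (frattini L) ≠ ⊤ := by
      intro htop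
      have htriv : ∀ (g : ↥(zpowers a)) (y : L),
          ((((g : MulAut L) y : L)) : L ⧸ frattini L) = (y : L ⧸ frattini L) := by
        intro g y
        obtain ⟨k, hk⟩ := mem_zpowers_iff.mp g.2
        rw [← hk]
        clear hk g
        induction k using Int.induction_on generalizing y with
        | zero => rfl
        | succ i ih =>
          rw [zpow_add_one, MulAut.mul_apply, ih]
          exact (QuotientGroup.eq.mpr (htop.ge (mem_top y) : y⁻¹ * a y ∈ frattini L)).symm
        | pred i ih =>
          rw [zpow_sub_one, MulAut.mul_apply, ih]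
          have h1 : (a⁻¹ y)⁻¹ * a (a⁻¹ y) ∈ frattini L := htop.ge (mem_top (a⁻¹ y))
          rw [MulAut.apply_inv_self] at h1
          exact QuotientGroup.eq.mpr h1
      let ρ : P →* (L ⧸ frattini L) × ↥(zpowers a) :=
        { toFun := fun q => ((q.left : L ⧸ frattini L), q.right)
          map_one' := rfl
          map_mul' := fun q r => by
            refine Prod.ext ?_ rfl
            show ((q.left * (q.right : MulAut L) r.left : L) : L ⧸ frattini L) = _
            rw [QuotientGroup.mk_mul, htriv]
            rfl }
      set ψ := (MonoidHom.fst (L ⧸ frattini L) ↥(zpowers a)).comp ρ with hψ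
      have hψs : Function.Surjective ψ := fun y => by
        obtain ⟨y, rfl⟩ := QuotientGroup.mk_surjective y
        exact ⟨SemidirectProduct.inl y, rfl⟩
      have hidx : ψ.ker.index = p ^ 2 := by
        rw [index_ker, MonoidHom.range_eq_top.mpr hψs, card_top, h.card_quotient]
      have hγ : (⊤ : Subgroup P).lowerCentralSeries 1 ≤ ρ.ker := by
        refine commutator_le.mpr fun q _ r _ => ?_
        rw [MonoidHom.mem_ker, map_commutatorElement, commutatorElement_eq_one_iff_mul_comm]
        exact Prod.ext (PGroup.quotient_frattini_commute hL _ _).eq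
          (mul_comm' (ρ q).2 (ρ r).2)
      have heq := (PLocalB.maximal_class_main (m + 1) hPcard (by simpa using hcl) hm3).1 ψ.ker 2 le_rfl hidx
      have hi : (SemidirectProduct.inr α : P) ∈ ψ.ker := by
        rw [MonoidHom.mem_ker]; rfl
      rw [heq] at hi
      have h2 := hγ hi
      rw [MonoidHom.mem_ker] at h2
      exact hne (congrArg Subtype.val (congrArg Prod.snd h2))
    by_contra hcon
    push Not at hcon
    have hC := card_fixed_aux _ le_rfl h a hap hU
    have hle : E ≤ dSub a (⊥ : Subgroup L) := fun e he => by
      refine mem_dSub_iff_fixed.mpr ?_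
      by_cases he1 : e = 1
      · rw [he1, map_one]
      · exact hcon e (orderOf_eq_prime (hEp e he) he1)
    have := card_le_of_le hle
    rw [hC, hEcard] at this
    nlinarith [(Fact.out : p.Prime).two_le]

end Cfsg.Agent.S4079
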