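import Cfsg.Statements.S4080

set_option autoImplicit false
open Cfsg
open scoped commutatorElement

namespace Cfsg.Agent.S4080
theorem sq_eq_zero_of_isNilpotent {K : Type*} [Field K] (M : Matrix (Fin 2) (Fin 2) K)
    (h : IsNilpotent M) : M ^ 2 = 0 := by
  have h1 := Matrix.isNilpotent_charpoly_sub_pow_of_isNilpotent h
  have h2 : M.charpoly = Polynomial.X ^ 2 := by
    have := h1.eq_zero
    rw [sub_eq_zero] at this
    simpa using this
  have := Matrix.aeval_self_charpoly M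
  rwa [h2, map_pow, Polynomial.aeval_X] at this

theorem nsmul_eq_zero_of_pow {p : ℕ} [Fact p.Prime] (hp : 3 < p)
    (N : Matrix (Fin 2) (Fin 2) (ZMod (p ^ 2))) (h : (N + 1) ^ p = 1) :
    (p : Matrix (Fin 2) (Fin 2) (ZMod (p ^ 2))) * N = 0 := by
  classical
  set π : ZMod (p ^ 2) →+* ZMod p := ZMod.castHom (dvd_pow_self p two_ne_zero) (ZMod p)
  set Nb := π.mapMatrix N with hNb
  have hb : (Nb + 1) ^ p = 1 := by rw [hNb, ← map_one π.mapMatrix, ← map_add, ← map_pow, h]
  rw [add_pow_char_of_commute p (Commute.one_right Nb), one_pow, add_eq_right] at hb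
  have hN2 := sq_eq_zero_of_isNilpotent Nb ⟨p, hb⟩
  rw [hNb, ← map_pow] at hN2
  have hentry : ∀ i j, ∃ b : ZMod (p ^ 2), (N ^ 2) i j = (p : ZMod (p ^ 2)) * b := by
    intro i j
    have h0 : π ((N ^ 2) i j) = 0 := by
      have := congrFun (congrFun hN2 i) j
      simpa using this
    haveI : NeZero (p ^ 2) := ⟨pow_ne_zero _ (Fact.out : p.Prime).ne_zero⟩
    set x := (N ^ 2) i j with hx
    have h1 : ((x.val : ℕ) : ZMod p) = 0 := by rw [← map_natCast π, ZMod.natCast_zmod_val]; exact h0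
    rw [ZMod.natCast_eq_zero_iff] at h1
    obtain ⟨c, hc⟩ := h1
    exact ⟨c, by rw [← Nat.cast_mul, ← hc, ZMod.natCast_zmod_val]⟩
  choose B hB using hentry
  have hNB : N ^ 2 = (p : Matrix (Fin 2) (Fin 2) (ZMod (p ^ 2))) * Matrix.of B := by
    ext i j
    simp only [← nsmul_eq_mul, Matrix.smul_apply, Matrix.of_apply]
    rw [hB i j, nsmul_eq_mul]
  have hp2 : (p : Matrix (Fin 2) (Fin 2) (ZMod (p ^ 2))) * (p : Matrix (Fin 2) (Fin 2) (ZMod (p ^ 2))) = 0 := by
    have : (p : ZMod (p ^ 2)) * (p : ZMod (p ^ 2)) = 0 := by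
      rw [← Nat.cast_mul, ← pow_two, ZMod.natCast_self]
    rw [← map_natCast (algebraMap (ZMod (p ^ 2)) (Matrix (Fin 2) (Fin 2) (ZMod (p ^ 2)))), ← map_mul, this, map_zero]
  have hz : ∀ k, 2 ≤ k → (p : Matrix (Fin 2) (Fin 2) (ZMod (p ^ 2))) * N ^ k = 0 := fun k hk => by
    obtain ⟨j, rfl⟩ := Nat.exists_eq_add_of_le hk
    rw [pow_add, hNB, ← mul_assoc, ← mul_assoc, hp2, zero_mul, zero_mul]
  rw [(Commute.one_right N).add_pow, Finset.sum_eq_add (a := 0) (b := 1) (by omega)] at h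
  · simp only [pow_zero, one_mul, one_pow, mul_one, Nat.choose_zero_right, Nat.cast_one, pow_one,
      Nat.choose_one_right, add_eq_left] at h
    rwa [(Nat.cast_commute p N).eq]
  · intro k hk hne
    have hk' : k ≤ p := by simpa [Nat.lt_succ_iff] using hk
    have hk2 : 2 ≤ k := by omega
    rw [one_pow, mul_one]
    rcases eq_or_lt_of_le hk' with heq | hlt
    · obtain ⟨j, hj⟩ := Nat.exists_eq_add_of_le (show 4 ≤ k by omega)
      have h4 : N ^ 4 = 0 := by
        calc N ^ 4 = N ^ 2 * N ^ 2 := by rw [← pow_add]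
          _ = (p : Matrix (Fin 2) (Fin 2) (ZMod (p ^ 2))) * Matrix.of B * ((p : Matrix (Fin 2) (Fin 2) (ZMod (p ^ 2))) * Matrix.of B) := by rw [← hNB]
          _ = (p : Matrix (Fin 2) (Fin 2) (ZMod (p ^ 2))) * (p : Matrix (Fin 2) (Fin 2) (ZMod (p ^ 2))) * (Matrix.of B * Matrix.of B) :=
              by rw [(Nat.cast_commute p (Matrix.of B)).symm.mul_mul_mul_comm]
          _ = 0 := by rw [hp2, zero_mul]
      rw [hj, pow_add, h4, zero_mul, zero_mul]
    · obtain ⟨c, hc⟩ := (Fact.out : p.Prime).dvd_choose_self (by omega) hlt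
      rw [hc, Nat.cast_mul, ← mul_assoc, ← (Nat.cast_commute p (N ^ k)).eq, hz k hk2, zero_mul]
  all_goals intro hcon; simp at hcon; try omega

/-- Let p > 3 be a prime and L the direct product of two cyclic groups of order p². Every automorphism of L of order p fixes every element of order p of L. -/
theorem result {p : ℕ} [Fact p.Prime] (hp : 3 < p)
    (a : MulAut (Multiplicative (ZMod (p ^ 2) × ZMod (p ^ 2)))) (ha : orderOf a = p)
    (x : Multiplicative (ZMod (p ^ 2) × ZMod (p ^ 2))) (hx : orderOf x = p) : a x = x := by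
  classical
  let φ : MulAut (Multiplicative (ZMod (p ^ 2) × ZMod (p ^ 2))) →*
      Module.End (ZMod (p ^ 2)) (ZMod (p ^ 2) × ZMod (p ^ 2)) :=
    { toFun := fun b =>
        AddMonoidHom.toZModLinearMap (p ^ 2)
          ({ toFun := fun v => Multiplicative.toAdd (b (Multiplicative.ofAdd v))
             map_zero' := by simp
             map_add' := fun u v => by simp [ofAdd_add] } :
            (ZMod (p ^ 2) × ZMod (p ^ 2)) →+ (ZMod (p ^ 2) × ZMod (p ^ 2)))
      map_one' := LinearMap.ext fun v => rfl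
      map_mul' := fun b c => LinearMap.ext fun v => rfl }
  set e := LinearMap.toMatrixAlgEquiv (Module.Basis.finTwoProd (ZMod (p ^ 2))) with he
  have ha1 : φ a ^ p = 1 := by
    have h1 : a ^ p = 1 := orderOf_dvd_iff_pow_eq_one.mp (dvd_of_eq ha)
    rw [← map_pow, h1, map_one]
  have hpow : (e (φ a) - 1 + 1) ^ p = 1 := by rw [sub_add_cancel, ← map_pow, ha1, map_one]
  have hN := nsmul_eq_zero_of_pow hp (e (φ a) - 1) hpow
  have hlin : ∀ v, (p : ℕ) • (φ a v - v) = 0 := by
    intro v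
    have h1 : (p : Module.End (ZMod (p ^ 2)) (ZMod (p ^ 2) × ZMod (p ^ 2))) * (φ a - 1) = 0 := by
      apply e.injective
      rw [map_mul, map_natCast, map_sub, map_one, map_zero]
      exact hN
    have h2 := LinearMap.congr_fun h1 v
    simpa [← nsmul_eq_mul] using h2
  -- every element of order `p` is a multiple of `p`
  set v := Multiplicative.toAdd x with hv
  have hpv : (p : ℕ) • v = 0 := by
    have h1 : x ^ p = 1 := orderOf_dvd_iff_pow_eq_one.mp (dvd_of_eq hx)
    rw [hv, ← toAdd_pow, h1, toAdd_one]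
  haveI : NeZero (p ^ 2) := ⟨pow_ne_zero _ (Fact.out : p.Prime).ne_zero⟩
  have hdiv : ∀ c : ZMod (p ^ 2), (p : ℕ) • c = 0 → ∃ d : ZMod (p ^ 2), c = (p : ℕ) • d := by
    intro c hc
    rw [nsmul_eq_mul, ← ZMod.natCast_zmod_val c, ← Nat.cast_mul, ZMod.natCast_eq_zero_iff] at hc
    obtain ⟨d, hd⟩ := Nat.dvd_of_mul_dvd_mul_left (Fact.out : p.Prime).pos ((pow_two p).symm.dvd.trans hc)
    exact ⟨d, by rw [nsmul_eq_mul, ← Nat.cast_mul, ← hd, ZMod.natCast_zmod_val]⟩
  obtain ⟨d1, h1⟩ := hdiv v.1 (by rw [← Prod.smul_fst, hpv]; rfl)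
  obtain ⟨d2, h2⟩ := hdiv v.2 (by rw [← Prod.smul_snd, hpv]; rfl)
  have hvd : v = (p : ℕ) • (d1, d2) := Prod.ext h1 h2
  have h3 := hlin (d1, d2)
  rw [smul_sub, sub_eq_zero, ← map_nsmul, ← hvd] at h3
  exact Multiplicative.toAdd.injective h3

end Cfsg.Agent.S4080
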