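import Cfsg.Statements.S4081
import Cfsg.Agent.FGS77.CycGroup
import Cfsg.Agent.Lib.Frobenius.FixedPointFree
import Cfsg.Agent.Lib.CharCore.Burnside

set_option autoImplicit false
open Cfsg
open scoped commutatorElement

namespace Cfsg.Agent.S4081

open scoped IsMulCommutative

theorem orbit_mk_eq_iff {G : Type*} [Group G] (x y : G) :
    (Quotient.mk'' x : MulAction.orbitRel.Quotient (MulAut G) G) = Quotient.mk'' y ↔
      ∃ σ : MulAut G, σ y = x := by
  rw [Quotient.eq'', MulAction.orbitRel_apply]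
  rfl

/-- Structure of a group in which every element has order `1`, `p` or `q` and elements of equal
order are conjugate under automorphisms, assuming a characteristic abelian subgroup contains an
element of order `p`. -/
theorem forward_core {G : Type*} [Group G] [Finite G] {p q : ℕ} [Fact p.Prime] [Fact q.Prime]
    (hpq : p ≠ q) (hord : ∀ g : G, g = 1 ∨ orderOf g = p ∨ orderOf g = q)
    (htrans : ∀ g h : G, orderOf g = orderOf h → ∃ σ : MulAut G, σ g = h)
    (hqG : q ∣ Nat.card G)
    (A : Subgroup G) [hAc : A.Characteristic] [IsMulCommutative A]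
    (a : G) (haA : a ∈ A) (hap : orderOf a = p) :
    ∃ n, 1 ≤ n ∧ Nat.card G = p ^ n * q ∧
      (∀ P : Sylow p G, (P : Subgroup G).Normal ∧ Cfsg.IsElementaryAbelian p (P : Subgroup G)) ∧
      orderOf (p : ZMod q) = q - 1 ∧
      ∀ x y : G, orderOf x = q → orderOf y = p → x * y * x⁻¹ ≠ y := by
  classical
  have hp : p.Prime := Fact.out
  have hq : q.Prime := Fact.out
  have hcp : (Nat.Coprime p q) := (Nat.coprime_primes hp hq).mpr hpq
  have hnpq : ∀ g : G, orderOf g ≠ p * q := by
    intro g hg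
    rcases hord g with h | h | h
    · rw [h, orderOf_one] at hg
      have := hp.two_le; have := hq.two_le; nlinarith
    · rw [h] at hg
      have := hp.two_le; have := hq.two_le; nlinarith
    · rw [h] at hg
      have := hp.two_le; have := hq.two_le; nlinarith
  have hcomm : ∀ x y : G, orderOf x = p → orderOf y = q → ¬ Commute x y := fun x y hx hy hc =>
    hnpq (x * y) (by rw [hc.orderOf_mul_eq_mul_orderOf_of_coprime (by rw [hx, hy]; exact hcp), hx, hy])
  have hAp : ∀ g : G, orderOf g = p → g ∈ A := by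
    intro g hg
    obtain ⟨σ, rfl⟩ := htrans a g (hap.trans hg.symm)
    have := Subgroup.characteristic_iff_map_eq.mp hAc σ
    rw [← this]
    exact ⟨a, haA, rfl⟩
  have hAq : ∀ g ∈ A, orderOf g ≠ q := fun g hg hgq =>
    hcomm a g hap hgq (congrArg Subtype.val (mul_comm' (⟨a, haA⟩ : A) ⟨g, hg⟩))
  have hA : ∀ g ∈ A, g = 1 ∨ orderOf g = p := fun g hg =>
    (hord g).imp_right (fun h => h.resolve_right (hAq g hg))
  have hexp : ∀ g ∈ A, g ^ p = 1 := fun g hg => by
    rcases hA g hg with h | h
    · rw [h, one_pow]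
    · rw [← h, pow_orderOf_eq_one]
  have hApg : IsPGroup p A := fun g => ⟨1, Subtype.ext (by simpa using hexp g g.2)⟩
  have hPA : ∀ P : Sylow p G, (P : Subgroup G) = A := by
    intro P
    have hle : (P : Subgroup G) ≤ A := by
      intro g hg
      rcases hord g with h | h | h
      · rw [h]; exact A.one_mem
      · exact hAp g h
      · obtain ⟨k, hk⟩ := IsPGroup.iff_orderOf.mp P.isPGroup' ⟨g, hg⟩
        rw [Subgroup.orderOf_mk, h] at hk
        exact absurd ((Nat.prime_dvd_prime_iff_eq hq hp).mp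
          (hq.dvd_of_dvd_pow (dvd_of_eq hk))) hpq.symm
    exact (P.is_maximal' hApg hle).symm
  haveI hAn : A.Normal := inferInstance
  obtain ⟨n, hn⟩ := IsPGroup.iff_card.mp hApg
  have hn1 : 1 ≤ n := by
    rcases Nat.eq_zero_or_pos n with rfl | h
    · rw [pow_zero] at hn
      have h1 : a = 1 := Subgroup.mem_bot.mp ((Subgroup.card_eq_one.mp hn) ▸ haA)
      rw [h1, orderOf_one] at hap
      exact absurd hap.symm hp.ne_one
    · exact h
  have hquot : IsPGroup q (G ⧸ A) := by
    intro v
    induction v using QuotientGroup.induction_on with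
    | H g =>
      refine ⟨1, ?_⟩
      rw [pow_one, ← QuotientGroup.mk_pow, QuotientGroup.eq_one_iff]
      rcases hord g with h | h | h
      · rw [h, one_pow]; exact A.one_mem
      · exact A.pow_mem (hAp g h) q
      · rw [← h, pow_orderOf_eq_one]; exact A.one_mem
  obtain ⟨b, hb⟩ := IsPGroup.iff_card.mp hquot
  have hG : Nat.card G = q ^ b * p ^ n := by
    rw [Subgroup.card_eq_card_quotient_mul_card_subgroup A, hb, hn]
  obtain ⟨Q⟩ := (inferInstance : Nonempty (Sylow q G))
  have hQord : ∀ y ∈ (Q : Subgroup G), y ≠ 1 → orderOf y = q := by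
    intro y hy hy1
    rcases hord y with h | h | h
    · exact absurd h hy1
    · obtain ⟨k, hk⟩ := IsPGroup.iff_orderOf.mp Q.isPGroup' ⟨y, hy⟩
      rw [Subgroup.orderOf_mk, h] at hk
      exact absurd ((Nat.prime_dvd_prime_iff_eq hp hq).mp (hp.dvd_of_dvd_pow (dvd_of_eq hk))) hpq
    · exact h
  have hQne : (Q : Subgroup G) ≠ ⊥ := Q.ne_bot_of_dvd_card hqG
  have hAne : A ≠ ⊥ := fun h => by
    rw [h, Subgroup.card_bot] at hn
    exact (Nat.one_lt_pow (show n ≠ 0 by omega) hp.one_lt).ne hn
  have hF : Frobenius.IsFPF (Q : Subgroup G) A := Frobenius.isFPF_of_normal fun y hy hy1 => by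
    rw [Subgroup.eq_bot_iff_forall]
    rintro v ⟨hv, hvy⟩
    rcases hA v hv with h | h
    · exact h
    · exact absurd (Subgroup.mem_centralizer_singleton_iff.mp hvy) (hcomm v y h (hQord y hy hy1))
  haveI : Nontrivial (Q : Subgroup G) := (Subgroup.nontrivial_iff_ne_bot _).mpr hQne
  haveI := Q.isPGroup'.center_nontrivial
  obtain ⟨⟨z, hzc⟩, hz1⟩ := exists_ne (1 : Subgroup.center (Q : Subgroup G))
  obtain ⟨z, hzQ⟩ := z
  have hz1' : z ≠ 1 := fun h => hz1 (Subtype.ext (Subtype.ext h))
  have hzq : orderOf z = q := hQord z hzQ hz1'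
  have hQz : (Q : Subgroup G) ≤ Subgroup.zpowers z := fun y hy => by
    refine hF.mem_zpowers_of_commute hAne hzQ hy hzq ?_ ?_
    · rcases eq_or_ne y 1 with h | h
      · rw [h, one_pow]
      · rw [← hQord y hy h, pow_orderOf_eq_one]
    · exact (congrArg Subtype.val (Subgroup.mem_center_iff.mp hzc ⟨y, hy⟩)).symm
  have hQcard : Nat.card (Q : Subgroup G) ∣ q := by
    have := Subgroup.card_dvd_of_le hQz
    rwa [Nat.card_zpowers, hzq] at this
  have hb1 : b = 1 := by
    have h1 : q ^ b ∣ q := (Q.pow_dvd_card_of_pow_dvd_card (hG ▸ dvd_mul_right _ _)).trans hQcard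
    have h2 : b ≤ 1 := (Nat.pow_dvd_pow_iff_le_right hq.one_lt).mp (by rwa [pow_one])
    have h3 : b ≠ 0 := fun h => by
      rw [h, pow_zero, one_mul] at hG
      rw [hG] at hqG
      exact hpq ((Nat.prime_dvd_prime_iff_eq hq hp).mp (hq.dvd_of_dvd_pow hqG)).symm
    omega
  rw [hb1, pow_one] at hG
  refine ⟨n, hn1, by rw [hG, mul_comm], fun P => ?_, ?_, fun x y hx hy h => hcomm y x hy hx ?_⟩
  · rw [hPA P]
    exact ⟨hAn, inferInstance, hexp⟩
  · -- the module
    have hexpA : ∀ u : A, u ^ p = 1 := fun u => Subtype.ext (by simpa using hexp u u.2)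
    set f : MulAut A := MulAut.conjNormal z with hfdef
    have hfi : ∀ (i : ℕ) (u : A), (((f ^ i) u : A) : G) = z ^ i * (u : G) * (z ^ i)⁻¹ := by
      intro i u
      rw [hfdef, ← map_pow, MulAut.conjNormal_apply]
    have hfq : f ^ q = 1 := MulEquiv.ext fun u => Subtype.ext (by
      rw [hfi, ← hzq, pow_orderOf_eq_one]; simp)
    have hfix : ∀ u, f u = u → u = 1 := fun u hu => by
      have h := hfi 1 u
      rw [pow_one, pow_one, hu] at h
      exact Subtype.ext (hF.eq_one_of_commute hzQ hz1' u.2 (eq_mul_inv_iff_mul_eq.mp h).symm)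
    have hmemA : ∀ (σ : MulAut G) (g : G), g ∈ A → σ g ∈ A := fun σ g hg => by
      rw [← Subgroup.characteristic_iff_map_eq.mp hAc σ]; exact ⟨g, hg, rfl⟩
    let res : MulAut G → MulAut A := fun σ =>
      { toFun := fun u => ⟨σ u, hmemA σ _ u.2⟩
        invFun := fun u => ⟨σ.symm u, hmemA σ.symm _ u.2⟩
        left_inv := fun u => Subtype.ext (by simp)
        right_inv := fun u => Subtype.ext (by simp)
        map_mul' := fun u v => Subtype.ext (by simp) }
    have hc : A.IsComplement' (Subgroup.zpowers z) := by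
      refine Subgroup.isComplement'_of_coprime ?_ ?_
      · rw [Nat.card_zpowers, hzq, hn, hG, mul_comm]
      · rw [Nat.card_zpowers, hzq, hn]
        exact Nat.Coprime.pow_left n hcp
    have hdec : ∀ g : G, ∃ c ∈ A, ∃ i : ℕ, g = c * z ^ i := by
      intro g
      obtain ⟨⟨c, k, hk⟩, hck⟩ := hc.2 g
      obtain ⟨i, rfl⟩ := mem_powers_iff_mem_zpowers.mpr hk
      exact ⟨c, c.2, i, hck.symm⟩
    have hsemi : ∀ σ : MulAut G, ∃ i : ℕ, res σ * f = f ^ i * res σ := by
      intro σ
      obtain ⟨c, hc, i, hci⟩ := hdec (σ z)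
      refine ⟨i, MulEquiv.ext fun u => Subtype.ext ?_⟩
      rw [MulAut.mul_apply, MulAut.mul_apply, hfi]
      show σ (z * (u : G) * z⁻¹) = z ^ i * σ (u : G) * (z ^ i)⁻¹
      rw [map_mul, map_mul, map_inv, hci]
      have h1 : z ^ i * σ (u : G) * (z ^ i)⁻¹ ∈ A := hAn.conj_mem _ (hmemA σ _ u.2) _
      have h2 : c * (z ^ i * σ (u : G) * (z ^ i)⁻¹) = (z ^ i * σ (u : G) * (z ^ i)⁻¹) * c :=
        congrArg Subtype.val (mul_comm' (⟨c, hc⟩ : A) ⟨_, h1⟩)
      calc c * z ^ i * σ (u : G) * (c * z ^ i)⁻¹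
          = c * (z ^ i * σ (u : G) * (z ^ i)⁻¹) * c⁻¹ := by group
        _ = _ := by rw [h2, mul_inv_cancel_right]
    haveI : Nontrivial A := (Subgroup.nontrivial_iff_ne_bot A).mpr hAne
    refine FGS77.orderOf_prime_of_semilinear_mul hexpA hpq f hfq hfix ?_ ?_
    · intro v w hv hw
      have ho : ∀ u : A, u ≠ 1 → orderOf (u : G) = p := fun u hu =>
        (hA _ u.2).resolve_left fun h => hu (Subtype.ext h)
      obtain ⟨σ, hσ⟩ := htrans _ _ ((ho v hv).trans (ho w hw).symm)
      obtain ⟨i, hi⟩ := hsemi σ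
      obtain ⟨j, hj⟩ := hsemi σ.symm
      have hinv : (res σ)⁻¹ = res σ.symm := MulEquiv.ext fun u => Subtype.ext rfl
      exact ⟨res σ, i, j, Subtype.ext hσ, hi, hinv.symm ▸ hj⟩
    · intro i hi
      have hzi : orderOf (z ^ i) = q := by
        rw [orderOf_pow, hzq]
        rw [(hq.coprime_iff_not_dvd.mpr hi).gcd_eq_one, Nat.div_one]
      obtain ⟨σ, hσ⟩ := htrans z (z ^ i) (hzq.trans hzi.symm)
      refine ⟨res σ, MulEquiv.ext fun u => Subtype.ext ?_⟩
      rw [MulAut.mul_apply, MulAut.mul_apply, hfi]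
      show σ (z * (u : G) * z⁻¹) = z ^ i * σ (u : G) * (z ^ i)⁻¹
      rw [map_mul, map_mul, map_inv, hσ]
  · exact (mul_inv_eq_iff_eq_mul.mp h).symm

/-- The forward direction. -/
theorem forward {G : Type*} [Group G] [Finite G] (hnpp : ¬ IsPrimePow (Nat.card G))
    (hnt : Nat.card G ≠ 1) (h3 : Nat.card (MulAction.orbitRel.Quotient (MulAut G) G) = 3) :
    ∃ (p q n : ℕ) (_ : Fact p.Prime) (_ : Fact q.Prime), p ≠ q ∧ 1 ≤ n ∧ Nat.card G = p ^ n * q ∧
      (∀ P : Sylow p G, (P : Subgroup G).Normal ∧ Cfsg.IsElementaryAbelian p (P : Subgroup G)) ∧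
      orderOf (p : ZMod q) = q - 1 ∧
      ∀ x y : G, orderOf x = q → orderOf y = p → x * y * x⁻¹ ≠ y := by
  classical
  obtain ⟨p, hp, hpd⟩ := Nat.exists_prime_and_dvd hnt
  obtain ⟨q, hq, hqd, hqp⟩ : ∃ q, q.Prime ∧ q ∣ Nat.card G ∧ q ≠ p := by
    by_contra hcon
    push Not at hcon
    exact hnpp (isPrimePow_iff_unique_prime_dvd.mpr ⟨p, ⟨hp, hpd⟩, fun q hq => hcon q hq.1 hq.2⟩)
  haveI : Fact p.Prime := ⟨hp⟩
  haveI : Fact q.Prime := ⟨hq⟩
  obtain ⟨a, ha⟩ := exists_prime_orderOf_dvd_card' (G := G) p hpd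
  obtain ⟨b, hb⟩ := exists_prime_orderOf_dvd_card' (G := G) q hqd
  let mk : G → MulAction.orbitRel.Quotient (MulAut G) G := Quotient.mk''
  have hinv : ∀ x y, mk x = mk y → orderOf x = orderOf y := fun x y h => by
    obtain ⟨σ, rfl⟩ := (orbit_mk_eq_iff x y).mp h
    exact MulEquiv.orderOf_eq σ y
  haveI : Finite (MulAction.orbitRel.Quotient (MulAut G) G) := Quotient.finite _
  letI := Fintype.ofFinite (MulAction.orbitRel.Quotient (MulAut G) G)
  have h1a : mk 1 ≠ mk a := fun h => by
    have := hinv _ _ h; rw [orderOf_one, ha] at this; exact hp.ne_one this.symm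
  have h1b : mk 1 ≠ mk b := fun h => by
    have := hinv _ _ h; rw [orderOf_one, hb] at this; exact hq.ne_one this.symm
  have hab : mk a ≠ mk b := fun h => by
    have := hinv _ _ h; rw [ha, hb] at this; exact hqp this.symm
  have huniv : ({mk 1, mk a, mk b} : Finset _) = Finset.univ := by
    refine Finset.eq_univ_of_card _ ?_
    rw [← Nat.card_eq_fintype_card, h3]
    simp [h1a, h1b, hab]
  have hall : ∀ g : G, mk g = mk 1 ∨ mk g = mk a ∨ mk g = mk b := fun g => by
    have := Finset.mem_univ (mk g)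
    rw [← huniv] at this
    simpa using this
  have hord : ∀ g : G, g = 1 ∨ orderOf g = p ∨ orderOf g = q := fun g => by
    rcases hall g with h | h | h
    · left; rw [← orderOf_eq_one_iff, hinv _ _ h, orderOf_one]
    · right; left; rw [hinv _ _ h, ha]
    · right; right; rw [hinv _ _ h, hb]
  have htrans : ∀ g h : G, orderOf g = orderOf h → ∃ σ : MulAut G, σ g = h := by
    intro g h hgh
    have key : ∀ x : G, mk x = if orderOf x = p then mk a else if orderOf x = q then mk b else mk 1 := by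
      intro x
      rcases hall x with hx | hx | hx
      · rw [hx, hinv _ _ hx, orderOf_one, if_neg hp.ne_one.symm, if_neg hq.ne_one.symm]
      · rw [hx, hinv _ _ hx, ha, if_pos rfl]
      · rw [hx, hinv _ _ hx, hb, if_neg hqp, if_pos rfl]
    exact (orbit_mk_eq_iff h g).mp (by
      show mk h = mk g
      rw [key h, key g, hgh])
  have hsolv : Group.IsSolvable G := by
    have hpf : (Nat.card G).primeFactors ⊆ {p, q} := by
      intro r hr
      obtain ⟨hr1, hr2, -⟩ := Nat.mem_primeFactors.mp hr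
      haveI : Fact r.Prime := ⟨hr1⟩
      obtain ⟨c, hc⟩ := exists_prime_orderOf_dvd_card' (G := G) r hr2
      rcases hord c with h | h | h
      · rw [h, orderOf_one] at hc; exact absurd hc.symm hr1.ne_one
      · rw [hc] at h; simp [h]
      · rw [hc] at h; simp [h]
    have hcard : Nat.card G = p ^ (Nat.card G).factorization p * q ^ (Nat.card G).factorization q := by
      conv_lhs => rw [← Nat.prod_factorization_pow_eq_self (Nat.card_pos (α := G)).ne']
      rw [Nat.prod_factorization_eq_prod_primeFactors,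
        Finset.prod_subset hpf (fun r _ hr => by
          rw [← Nat.support_factorization, Finsupp.notMem_support_iff] at hr
          rw [hr, pow_zero]), Finset.prod_pair hqp.symm]
    exact CharCore.isSolvable_of_card_eq_prime_pow_mul hp hq _ G _ _ rfl hcard
  obtain ⟨A, hAc, hAab, hAne⟩ : ∃ A : Subgroup G,
      A.Characteristic ∧ IsMulCommutative A ∧ A ≠ ⊥ := by
    have hex := hsolv.solvable
    let k := Nat.find hex
    have hk : derivedSeries G k = ⊥ := Nat.find_spec hex
    have hk0 : k ≠ 0 := fun h0 => by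
      rw [h0, derivedSeries_zero] at hk
      exact hnt (by rw [← Subgroup.card_top, hk, Subgroup.card_bot])
    refine ⟨derivedSeries G (k - 1), Subgroup.characteristic_iff_map_eq.mpr fun σ =>
      map_derivedSeries_eq (f := σ.toMonoidHom) σ.surjective _, ⟨⟨fun x y => Subtype.ext ?_⟩⟩,
      fun h => Nat.find_min hex (show k - 1 < k by omega) h⟩
    have h1 : ⁅(x : G), (y : G)⁆ ∈ derivedSeries G (k - 1 + 1) := by
      rw [derivedSeries_succ]
      exact Subgroup.commutator_mem_commutator x.2 y.2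
    rw [show k - 1 + 1 = k by omega, hk, Subgroup.mem_bot] at h1
    exact commutatorElement_eq_one_iff_mul_comm.mp h1
  haveI := hAc
  haveI := hAab
  obtain ⟨c, hcA, hc1⟩ := (Subgroup.bot_or_exists_ne_one A).resolve_left hAne
  rcases (hord c).resolve_left hc1 with hc | hc
  · obtain ⟨n, h⟩ := forward_core hqp.symm hord htrans hqd A c hcA hc
    exact ⟨p, q, n, inferInstance, inferInstance, hqp.symm, h⟩
  · obtain ⟨n, h⟩ := forward_core hqp (fun g => (hord g).imp_right Or.symm) htrans hpd A c hcA hc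
    exact ⟨q, p, n, inferInstance, inferInstance, hqp, h⟩

/-- The backward direction. -/
theorem backward {G : Type*} [Group G] [Finite G] {p q n : ℕ} [Fact p.Prime] [Fact q.Prime]
    (hpq : p ≠ q) (hn : 1 ≤ n) (hG : Nat.card G = p ^ n * q)
    (hP : ∀ P : Sylow p G, (P : Subgroup G).Normal ∧ Cfsg.IsElementaryAbelian p (P : Subgroup G))
    (hord : orderOf (p : ZMod q) = q - 1)
    (hfpf : ∀ x y : G, orderOf x = q → orderOf y = p → x * y * x⁻¹ ≠ y) :
    Nat.card (MulAction.orbitRel.Quotient (MulAut G) G) = 3 := by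
  classical
  have hp : p.Prime := Fact.out
  have hq : q.Prime := Fact.out
  have hcp : (Nat.Coprime p q) := (Nat.coprime_primes hp hq).mpr hpq
  obtain ⟨P⟩ := (inferInstance : Nonempty (Sylow p G))
  obtain ⟨hAn, hAab, hexp⟩ := hP P
  haveI := hAn
  haveI := hAab
  set A : Subgroup G := (P : Subgroup G) with hAdef
  have hn' : Nat.card A = p ^ n := by
    rw [hAdef, P.card_eq_multiplicity, hG, Nat.factorization_mul (pow_ne_zero n hp.ne_zero) hq.ne_zero,
      Finsupp.add_apply, Nat.Prime.factorization_pow hp, Nat.Prime.factorization hq]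
    simp [hpq.symm]
  obtain ⟨z, hzq⟩ := exists_prime_orderOf_dvd_card' (G := G) q (hG ▸ dvd_mul_left _ _)
  have hzA : ∀ v : G, v ∈ A → v ≠ 1 → orderOf v = p := fun v hv h1 => orderOf_eq_prime (hexp v hv) h1
  have hc : A.IsComplement' (Subgroup.zpowers z) := by
    refine Subgroup.isComplement'_of_coprime ?_ ?_
    · rw [Nat.card_zpowers, hzq, hn', hG]
    · rw [Nat.card_zpowers, hzq, hn']
      exact Nat.Coprime.pow_left n hcp
  have hquot : Nat.card (G ⧸ A) = q := by
    have h := Subgroup.card_eq_card_quotient_mul_card_subgroup A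
    rw [hG, hn', mul_comm (Nat.card _)] at h
    exact (Nat.eq_of_mul_eq_mul_left (pow_pos hp.pos n) h).symm
  have hout : ∀ g : G, g ∉ A → orderOf g = q := by
    intro g hg
    have h1 : g ^ q ∈ A := by
      rw [← QuotientGroup.eq_one_iff, QuotientGroup.mk_pow, ← hquot]
      exact pow_card_eq_one'
    have h2 : g ^ (q * p) = 1 := by rw [pow_mul]; exact hexp _ h1
    have h3 : orderOf g ∣ q * p := orderOf_dvd_of_pow_eq_one h2
    rcases eq_or_ne (g ^ q) 1 with hgq | hgq
    · exact orderOf_eq_prime hgq (fun h => hg (h ▸ A.one_mem))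
    · exfalso
      have hgp : g ^ p ≠ 1 := fun h => hg (by
        have hd : orderOf g ∣ p := orderOf_dvd_of_pow_eq_one h
        have h4 : ((g : G) : G ⧸ A) = 1 := by
          have ha : ((g : G) : G ⧸ A) ^ p = 1 := by
            rw [← QuotientGroup.mk_pow, h, QuotientGroup.mk_one]
          have hb : ((g : G) : G ⧸ A) ^ q = 1 := by
            rw [← QuotientGroup.mk_pow, QuotientGroup.eq_one_iff]; exact h1
          have := (pow_gcd_eq_one (a := ((g : G) : G ⧸ A)) (m := p) (n := q)).mpr ⟨ha, hb⟩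
          rwa [hcp.gcd_eq_one, pow_one] at this
        exact (QuotientGroup.eq_one_iff g).mp h4)
      refine hfpf (g ^ p) (g ^ q) ?_ (hzA _ h1 hgq) ?_
      · exact orderOf_eq_prime (by rw [← pow_mul, mul_comm]; exact h2) hgp
      · rw [mul_inv_eq_iff_eq_mul, ← pow_add, ← pow_add, add_comm]
  -- the module
  have hexpA : ∀ u : A, u ^ p = 1 := fun u => Subtype.ext (by simpa using hexp u u.2)
  set f : MulAut A := MulAut.conjNormal z with hfdef
  have hfi : ∀ (i : ℕ) (u : A), (((f ^ i) u : A) : G) = z ^ i * (u : G) * (z ^ i)⁻¹ := by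
    intro i u
    rw [hfdef, ← map_pow, MulAut.conjNormal_apply]
  have hfq : f ^ q = 1 := MulEquiv.ext fun u => Subtype.ext (by
    rw [hfi, ← hzq, pow_orderOf_eq_one]; simp)
  have hfix : ∀ u, f u = u → u = 1 := fun u hu => by
    by_contra h0
    have h := hfi 1 u
    rw [pow_one, pow_one, hu] at h
    exact hfpf z (u : G) hzq (hzA _ u.2 fun h1 => h0 (Subtype.ext h1)) h.symm
  -- automorphisms
  have hauto : ∀ v w : A, v ≠ 1 → w ≠ 1 → ∀ i : ℕ, ¬ q ∣ i →
      ∃ σ : MulAut G, σ (v : G) = (w : G) ∧ σ z = z ^ i := by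
    intro v w hv hw i hi
    obtain ⟨fn, hev, he⟩ := FGS77.exists_semilinear_mul hexpA hpq hord f hfq hfix hv hw hi
    have hk : Nat.Coprime (Nat.card (Subgroup.zpowers z)) i := by
      rw [Nat.card_zpowers, hzq]; exact hq.coprime_iff_not_dvd.mpr hi
    let fg : Subgroup.zpowers z ≃* Subgroup.zpowers z :=
      MulEquiv.ofBijective (powMonoidHom i) (powCoprime hk).bijective
    have key : ∀ k : ℕ, fn * f ^ k = f ^ (i * k) * fn := by
      intro k
      induction k with
      | zero => simp
      | succ k ih => rw [pow_succ, ← mul_assoc, ih, mul_assoc, he, ← mul_assoc, ← pow_add, mul_add, mul_one]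
    have hcond : ∀ g : Subgroup.zpowers z,
        (((A.normalizerMonoidHom).comp (Subgroup.inclusion (A.normalizer_eq_top ▸ le_top))) g).trans fn =
        fn.trans (((A.normalizerMonoidHom).comp (Subgroup.inclusion (A.normalizer_eq_top ▸ le_top))) (fg g)) := by
      intro g
      obtain ⟨g, hg⟩ := g
      obtain ⟨k, rfl⟩ := mem_powers_iff_mem_zpowers.mpr hg
      ext u
      have h1 := congrArg (fun t : A => (t : G)) (congrArg (fun s : MulAut A => s u) (key k))
      simp only [MulAut.mul_apply, hfi] at h1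
      have e1 : (⟨z ^ k * (u : G) * (z ^ k)⁻¹, hAn.conj_mem _ u.2 _⟩ : A) = (f ^ k) u :=
        Subtype.ext (hfi k u).symm
      rw [← e1, mul_comm i k, pow_mul] at h1
      exact h1
    refine ⟨((SemidirectProduct.mulEquivSubgroup hc).symm.trans
      (SemidirectProduct.congr fn fg hcond)).trans (SemidirectProduct.mulEquivSubgroup hc), ?_, ?_⟩
    · have h1 : SemidirectProduct.mulEquivSubgroup hc (SemidirectProduct.inl v) = (v : G) := by simp
      rw [← h1]
      simp only [MulEquiv.trans_apply, MulEquiv.symm_apply_apply]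
      simp [hev]
    · have h1 : SemidirectProduct.mulEquivSubgroup hc
          (SemidirectProduct.inr (⟨z, Subgroup.mem_zpowers z⟩ : Subgroup.zpowers z)) = z := by simp
      refine (congrArg _ h1.symm).trans ?_
      simp only [MulEquiv.trans_apply, MulEquiv.symm_apply_apply]
      simp [fg]
      rfl
  obtain ⟨a, haA, ha1⟩ := (Subgroup.bot_or_exists_ne_one A).resolve_left (fun h => by
    rw [h, Subgroup.card_bot] at hn'
    exact (Nat.one_lt_pow (show n ≠ 0 by omega) hp.one_lt).ne hn')
  have hne0 : ∀ u : A, (u : G) ≠ 1 → u ≠ 1 := fun u hu h => hu (congrArg Subtype.val h)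
  have hAord : ∀ g : G, orderOf g = p → g ∈ A := fun g hg => by
    by_contra hgA
    exact hpq (hg.symm.trans (hout g hgA))
  have htrans : ∀ g h : G, orderOf g = orderOf h → ∃ σ : MulAut G, σ g = h := by
    intro g h hgh
    by_cases hg1 : g = 1
    · refine ⟨1, ?_⟩
      rw [hg1, orderOf_one] at hgh
      rw [hg1, orderOf_eq_one_iff.mp hgh.symm]; rfl
    have hh1 : h ≠ 1 := fun he => hg1 (orderOf_eq_one_iff.mp (by rw [hgh, he, orderOf_one]))
    by_cases hgA : g ∈ A
    · have hhA : h ∈ A := hAord h (by rw [← hgh]; exact hzA g hgA hg1)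
      obtain ⟨σ, hσ, -⟩ := hauto _ _ (hne0 ⟨g, hgA⟩ hg1) (hne0 ⟨h, hhA⟩ hh1) 1
        (fun hd => hq.one_lt.not_ge (Nat.le_of_dvd one_pos hd))
      exact ⟨σ, hσ⟩
    · -- both have order `q`; move each to a power of `z`
      have hgq := hout g hgA
      have key : ∀ x : G, orderOf x = q → ∃ σ : MulAut G, σ z = x := by
        intro x hx
        have hSz : IsPGroup q (Subgroup.zpowers z) := IsPGroup.of_card (n := 1) (by rw [Nat.card_zpowers, hzq, pow_one])
        have hSx : IsPGroup q (Subgroup.zpowers x) := IsPGroup.of_card (n := 1) (by rw [Nat.card_zpowers, hx, pow_one])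
        have hidx : ∀ y : G, orderOf y = q → ¬ q ∣ (Subgroup.zpowers y).index := by
          intro y hy hd
          have := Subgroup.card_mul_index (Subgroup.zpowers y)
          rw [Nat.card_zpowers, hy, hG, mul_comm (p ^ n)] at this
          rw [Nat.eq_of_mul_eq_mul_left hq.pos this] at hd
          exact hpq ((Nat.prime_dvd_prime_iff_eq hq hp).mp (hq.dvd_of_dvd_pow hd)).symm
        obtain ⟨c, hcc⟩ := MulAction.exists_smul_eq G (hSz.toSylow (hidx z hzq)) (hSx.toSylow (hidx x hx))
        have hx' : x ∈ ((c • hSz.toSylow (hidx z hzq) : Sylow q G) : Subgroup G) := by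
          rw [hcc]; exact Subgroup.mem_zpowers x
        rw [Sylow.coe_subgroup_smul, Subgroup.mem_pointwise_smul_iff_inv_smul_mem] at hx'
        obtain ⟨i, hi⟩ := mem_powers_iff_mem_zpowers.mpr hx'
        have hxe : x = c * z ^ i * c⁻¹ := by
          have : z ^ i = c⁻¹ * x * c := by simpa using hi
          rw [this]; group
        have hiq : ¬ q ∣ i := by
          rintro ⟨d, rfl⟩
          rw [pow_mul, ← hzq, pow_orderOf_eq_one, one_pow, mul_one, mul_inv_cancel] at hxe
          rw [hxe, orderOf_one] at hx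
          exact hq.ne_one hx.symm
        obtain ⟨σ, -, hσ⟩ := hauto _ _ (hne0 ⟨a, haA⟩ ha1) (hne0 ⟨a, haA⟩ ha1) i hiq
        refine ⟨(MulAut.conj c) * σ, ?_⟩
        rw [MulAut.mul_apply, hσ, hxe]
        simp
      obtain ⟨σ₁, h₁⟩ := key g hgq
      obtain ⟨σ₂, h₂⟩ := key h (hgh ▸ hgq)
      exact ⟨σ₂ * σ₁⁻¹, by rw [MulAut.mul_apply, ← h₁, MulAut.inv_apply_self, h₂]⟩
  -- three orbits
  let f : MulAction.orbitRel.Quotient (MulAut G) G → ℕ := Quotient.lift orderOf (fun x y h => by
    obtain ⟨σ, rfl⟩ := h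
    exact MulEquiv.orderOf_eq σ y)
  have hfinj : Function.Injective f := by
    intro u v huv
    induction u using Quotient.inductionOn' with
    | h x =>
      induction v using Quotient.inductionOn' with
      | h y => exact (orbit_mk_eq_iff x y).mpr (htrans y x huv.symm)
  have hrange : Set.range f = {1, p, q} := by
    ext k
    constructor
    · rintro ⟨u, rfl⟩
      induction u using Quotient.inductionOn' with
      | h x =>
        show orderOf x ∈ ({1, p, q} : Set ℕ)
        by_cases h1 : x = 1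
        · simp [h1]
        by_cases hxA : x ∈ A
        · simp [hzA x hxA h1]
        · simp [hout x hxA]
    · rintro (rfl | rfl | rfl)
      · exact ⟨Quotient.mk'' 1, orderOf_one⟩
      · exact ⟨Quotient.mk'' a, hzA a haA ha1⟩
      · exact ⟨Quotient.mk'' z, hzq⟩
  rw [Nat.card_congr (Equiv.ofInjective f hfinj), Nat.card_coe_set_eq, hrange]
  exact Set.ncard_eq_three.mpr ⟨1, p, q, hp.ne_one.symm, hq.ne_one.symm, hpq, rfl⟩


/-- Let G be a finite group whose order is not a prime power. Then the automorphism group of G has exactly three orbits on G if and only if there are distinct primes p, q with #G = pⁿ·q (n ≥ 1) such that G has a normal elementary abelian Sylow p-subgroup P, p is a primitive root modulo q (the multiplicative order of p mod q is q − 1), and every element of order q of G acts on P without non-identity fixed points. -/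
theorem result {G : Type*} [Group G] [Finite G] (hnpp : ¬ IsPrimePow (Nat.card G)) (hnt : Nat.card G ≠ 1) :
    Nat.card (MulAction.orbitRel.Quotient (MulAut G) G) = 3 ↔
    ∃ (p q n : ℕ) (_ : Fact p.Prime) (_ : Fact q.Prime), p ≠ q ∧ 1 ≤ n ∧ Nat.card G = p ^ n * q ∧
      (∀ P : Sylow p G, (P : Subgroup G).Normal ∧ Cfsg.IsElementaryAbelian p (P : Subgroup G)) ∧
      orderOf (p : ZMod q) = q - 1 ∧
      ∀ x y : G, orderOf x = q → orderOf y = p → x * y * x⁻¹ ≠ y := by
  constructor
  · exact forward hnpp hnt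
  · rintro ⟨p, q, n, hpf, hqf, hpq, hn, hG, hP, hord, hfpf⟩
    exact backward hpq hn hG hP hord hfpf

end Cfsg.Agent.S4081
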