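import Cfsg.Statements.S4082
import Cfsg.Agent.FGS77.PByCyclic

set_option autoImplicit false
open Cfsg
open scoped commutatorElement

namespace Cfsg.Agent.S4082
open Subgroup FGS77

theorem unique_order_p {G : Type*} [Group G] [Finite G] {p : ℕ} [Fact p.Prime] {P Q : Subgroup G}
    (hP : IsCyclic P) (hQP : Q ≤ P) (hQ : Nat.card Q = p) {x : G} (hx : x ∈ P) (hxp : x ^ p = 1) :
    x ∈ Q := by
  classical
  have : Fintype P := Fintype.ofFinite P
  have h1 := IsCyclic.card_pow_eq_one_le (α := P) (n := p) (Nat.Prime.pos Fact.out)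
  by_contra hxQ
  set A : Finset P := Finset.univ.filter (fun a => a ^ p = 1)
  set B : Finset P := Finset.univ.filter (fun a : P => (a : G) ∈ Q)
  have hB : B.card = p := by
    rw [← hQ, ← Nat.card_congr (subgroupOfEquivOfLe hQP).toEquiv, Nat.card_eq_fintype_card,
      Fintype.card_subtype]
    exact congrArg Finset.card (Finset.filter_congr fun a _ => mem_subgroupOf.symm)
  have hsub : insert (⟨x, hx⟩ : P) B ⊆ A := by
    intro a ha
    rcases Finset.mem_insert.mp ha with rfl | ha
    · simpa [A, Subtype.ext_iff] using hxp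
    · have haQ : (a : G) ∈ Q := by simpa [B] using ha
      have h2 : (⟨(a : G), haQ⟩ : Q) ^ Nat.card Q = 1 := pow_card_eq_one'
      rw [hQ] at h2
      simpa [A, Subtype.ext_iff] using congrArg Subtype.val h2
  have h3 := (Finset.card_le_card hsub).trans h1
  rw [Finset.card_insert_of_notMem (by simpa [B] using hxQ), hB] at h3
  omega

theorem backward {G : Type*} [Group G] [Finite G] {p : ℕ} [Fact p.Prime] (hp : p ≠ 2)
    (P : Sylow p G) (hP : IsCyclic P)
    (hcase : normalizer ((P : Subgroup G) : Set G) = centralizer ((P : Subgroup G) : Set G) ∨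
      ∀ Q : Subgroup G, Q ≤ P → Nat.card Q = p →
        IsMulCommutative (centralizer (Q : Set G)) ∧
        ∀ x : G, x ∈ normalizer (Q : Set G) → x ∉ centralizer (Q : Set G) →
          orderOf x = 2 ∧ ∀ c : G, c ∈ centralizer (Q : Set G) → x * c * x⁻¹ = c⁻¹)
    {H : Type*} [Group H] [Finite H] (S : Sylow p H) [(S : Subgroup H).Normal]
    (hQ : IsCyclic (H ⧸ (S : Subgroup H))) (f : H →* G) (hf : Function.Injective f)
    (hfS : (S : Subgroup H).map f ≤ P) :
    IsCyclic H ∨ ∃ n : ℕ, Nonempty (H ≃* DihedralGroup (p ^ n)) := by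
  let fS : (S : Subgroup H) →* (P : Subgroup G) :=
    (f.comp (S : Subgroup H).subtype).codRestrict _ fun s => hfS ⟨s, s.2, rfl⟩
  have hSc : IsCyclic (S : Subgroup H) :=
    isCyclic_of_injective fS fun a b h => Subtype.ext (hf (congrArg Subtype.val h))
  have hcommP : ∀ a ∈ (P : Subgroup G), ∀ b ∈ (P : Subgroup G), a * b = b * a := fun a ha b hb =>
    congrArg Subtype.val (hP.isMulCommutative.is_comm.comm ⟨a, ha⟩ ⟨b, hb⟩)
  have hSsub : ∀ h : H, ∀ s ∈ (S : Subgroup H), h * s * h⁻¹ ∈ (S : Subgroup H) := fun h s hs =>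
    Normal.conj_mem inferInstance s hs h
  have central : (∀ h : H, ∀ s ∈ (S : Subgroup H), f h * f s = f s * f h) →
      IsCyclic H ∨ ∃ n : ℕ, Nonempty (H ≃* DihedralGroup (p ^ n)) := fun hc => Or.inl
    (isCyclic_of_central_sylow S hSc hQ fun s hs => mem_center_iff.mpr fun h => hf (by
      rw [map_mul, map_mul]; exact hc h s hs))
  by_cases hbot : (S : Subgroup H) = ⊥
  · refine central fun h s hs => ?_
    rw [hbot, mem_bot] at hs
    simp [hs]
  rcases hcase with hNC | hQc
  · refine central fun h s hs => ?_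
    have hφ := MonoidHom.ker_transferSylow_isComplement' P hNC.le
    have : IsMulCommutative (P : Subgroup G) := hP.isMulCommutative
    set φ := MonoidHom.transferSylow P hNC.le
    have h1 : f (h * s * h⁻¹ * s⁻¹) ∈ φ.ker := by
      rw [MonoidHom.mem_ker, map_mul, map_mul, map_mul, map_inv, map_inv, map_mul, map_mul, map_mul,
        map_inv, map_inv, mul_comm' (φ (f h)), mul_assoc, mul_assoc]
      simp
    have h2 : f (h * s * h⁻¹ * s⁻¹) ∈ (P : Subgroup G) :=
      hfS ⟨_, mul_mem (hSsub h s hs) (inv_mem hs), rfl⟩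
    have h3 := disjoint_def.mp hφ.disjoint h1 h2
    rw [map_mul, map_mul, map_mul, map_inv, map_inv] at h3
    exact mul_inv_eq_iff_eq_mul.mp (mul_inv_eq_one.mp h3)
  · -- the subgroup of order `p`
    have : Nontrivial (S : Subgroup H) := (nontrivial_iff_ne_bot _).mpr hbot
    obtain ⟨n, hn0, hn⟩ := S.2.nontrivial_iff_card.mp this
    obtain ⟨s₀, hs₀⟩ := exists_prime_orderOf_dvd_card' p
      (G := (S : Subgroup H)) (hn ▸ dvd_pow_self p hn0.ne')
    set q : G := f (s₀ : H) with hqdef
    have hqP : q ∈ (P : Subgroup G) := hfS ⟨_, s₀.2, rfl⟩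
    have hqo : orderOf q = p := by rw [hqdef, orderOf_injective f hf, orderOf_coe, hs₀]
    have hQP : zpowers q ≤ (P : Subgroup G) := zpowers_le.mpr hqP
    have hQcard : Nat.card (zpowers q) = p := by rw [Nat.card_zpowers, hqo]
    obtain ⟨hab, hinv⟩ := hQc _ hQP hQcard
    set K : Subgroup H := (centralizer ((zpowers q) : Set G)).comap f with hK
    have hSK : (S : Subgroup H) ≤ K := fun s hs => by
      rw [hK, mem_comap, mem_centralizer_iff]
      exact fun z hz => hcommP z (hQP hz) _ (hfS ⟨s, hs, rfl⟩)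
    have hnorm : ∀ h : H, f h ∈ normalizer ((zpowers q) : Set G) := by
      intro h
      refine Subgroup.mem_normalizer_iff.mpr ?_
      have key : ∀ h : H, ∀ z ∈ zpowers q, f h * z * (f h)⁻¹ ∈ zpowers q := by
        intro h z hz
        obtain ⟨k, rfl⟩ := mem_zpowers_iff.mp hz
        refine unique_order_p hP hQP hQcard (hfS ⟨h * (s₀ : H) ^ k * h⁻¹,
          hSsub h _ (zpow_mem s₀.2 k), ?_⟩) ?_
        · rw [map_mul, map_mul, map_zpow, map_inv]
        · have hqp : q ^ p = 1 := orderOf_dvd_iff_pow_eq_one.mp (dvd_of_eq hqo)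
          rw [conj_pow, ← zpow_natCast, ← zpow_mul, mul_comm, zpow_mul, zpow_natCast, hqp, one_zpow,
            mul_one, mul_inv_cancel]
      refine fun z => ⟨key h z, fun hz => ?_⟩
      have := key h⁻¹ _ hz
      simpa [mul_assoc] using this
    by_cases hall : ∀ h : H, h ∈ K
    · exact central fun h s hs => congrArg Subtype.val
        (hab.is_comm.comm ⟨f h, hall h⟩ ⟨f s, hSK hs⟩)
    push Not at hall
    obtain ⟨x, hx⟩ := hall
    obtain ⟨hx2, hxinv⟩ := hinv (f x) (hnorm x) hx
    have hxx : x * x = 1 := hf (by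
      rw [map_mul, map_one, ← pow_two]; exact orderOf_dvd_iff_pow_eq_one.mp (dvd_of_eq hx2))
    have hKS : K ≤ (S : Subgroup H) := by
      intro k hk
      have h1 : x * k * x⁻¹ = k⁻¹ := hf (by
        rw [map_mul, map_mul, map_inv, map_inv]; exact hxinv _ hk)
      have hk2 : (k : H ⧸ (S : Subgroup H)) * k = 1 := by
        have h2 := congrArg (QuotientGroup.mk' (S : Subgroup H)) h1
        rw [map_mul, map_mul, map_inv, map_inv,
          hQ.isMulCommutative.is_comm.comm (QuotientGroup.mk' (S : Subgroup H) x), mul_inv_cancel_right] at h2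
        exact mul_eq_one_iff_eq_inv.mpr h2
      have hxS : (x : H ⧸ (S : Subgroup H)) ≠ 1 := fun h => hx (hSK ((QuotientGroup.eq_one_iff x).mp h))
      by_contra hkS
      have hk1 : (k : H ⧸ (S : Subgroup H)) ≠ 1 := fun h => hkS ((QuotientGroup.eq_one_iff k).mp h)
      have hxk : (x : H ⧸ (S : Subgroup H)) ≠ k := fun h => hx (by
        have hm : x⁻¹ * k ∈ K := hSK (QuotientGroup.eq.mp h)
        have := K.mul_mem hk (K.inv_mem hm)
        rwa [mul_inv_rev, inv_inv, mul_inv_cancel_left] at this)
      classical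
      have := Fintype.ofFinite (H ⧸ (S : Subgroup H))
      have h3 := IsCyclic.card_pow_eq_one_le (α := H ⧸ (S : Subgroup H)) (n := 2) two_pos
      have h4 : ({1, (x : H ⧸ (S : Subgroup H)), (k : H ⧸ (S : Subgroup H))} : Finset _) ⊆
          Finset.univ.filter (fun a => a ^ 2 = 1) := by
        intro a ha
        simp only [Finset.mem_insert, Finset.mem_singleton] at ha
        rcases ha with rfl | rfl | rfl <;> simp [pow_two, hk2, ← QuotientGroup.mk_mul, hxx]
      have h5 := (Finset.card_le_card h4).trans h3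
      rw [Finset.card_insert_of_notMem (by simp [hxS.symm, hk1.symm]),
        Finset.card_insert_of_notMem (by simp [hxk]), Finset.card_singleton] at h5
      omega
    have hpair : DihPair (⊤ : Subgroup H) (S : Subgroup H) := by
      refine ⟨le_top, hSc, fun s _ hs => ?_, fun s _ hs t _ ht => hKS ?_⟩
      · obtain ⟨h2, -⟩ := hinv (f s) (hnorm s) (fun h => hs (hKS h))
        exact hf (by
          rw [map_mul, map_one, ← pow_two]; exact orderOf_dvd_iff_pow_eq_one.mp (dvd_of_eq h2))
      · rw [hK, mem_comap, mem_centralizer_iff]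
        intro z hz
        have hzc : z ∈ centralizer ((zpowers q) : Set G) :=
          mem_centralizer_iff.mpr fun w hw => hcommP w (hQP hw) z (hQP hz)
        have e1 := (hinv (f t) (hnorm t) (fun h => ht (hKS h))).2 z hzc
        have e2 := (hinv (f s) (hnorm s) (fun h => hs (hKS h))).2 z⁻¹ (inv_mem hzc)
        rw [inv_inv, ← e1] at e2
        refine (mul_inv_eq_iff_eq_mul.mp ?_).symm
        rw [map_mul, mul_inv_rev]
        simpa [mul_assoc] using e2
    obtain ⟨e⟩ := hpair.mulEquiv (fun h => hx (hSK (h ▸ mem_top x)))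
    rw [hn] at e
    exact Or.inr ⟨n, ⟨topEquiv.symm.trans e⟩⟩

/-- Let p be an odd prime and G a finite group with Sylow p-subgroup P. Say that G has restricted p-by-cyclic subgroups when every subgroup H of G whose Sylow p-subgroup is normal in H with cyclic quotient is itself cyclic or dihedral of order 2pⁿ for some n. Then G has restricted p-by-cyclic subgroups if and only if P is cyclic and one of the following holds: (1) N_G(P) = C_G(P); or (2) N_G(P)/C_G(P) has order 2 and, for the subgroup Q of order p of P, the centralizer C_G(Q) is abelian and every element of N_G(Q) outside C_G(Q) is an involution inverting every element of C_G(Q). -/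
theorem result {G : Type*} [Group G] [Finite G] {p : ℕ}
    [Fact p.Prime] (hp : p ≠ 2) (P : Sylow p G) :
    (∀ H : Subgroup G, (∀ S : Sylow p ↥H, (S : Subgroup ↥H).Normal) →
        (∀ (S : Sylow p ↥H) [(S : Subgroup ↥H).Normal], IsCyclic (↥H ⧸ (S : Subgroup ↥H))) →
        IsCyclic H ∨ (∃ n : ℕ, Nonempty (H ≃* DihedralGroup (p ^ n)))) ↔
    (IsCyclic P ∧
      (Subgroup.normalizer ((P : Subgroup G) : Set G) = Subgroup.centralizer ((P : Subgroup G) : Set G) ∨
       ((Subgroup.centralizer ((P : Subgroup G) : Set G)).relIndex (Subgroup.normalizer ((P : Subgroup G) : Set G)) = 2 ∧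
        ∀ Q : Subgroup G, Q ≤ P → Nat.card Q = p →
          IsMulCommutative ↥(Subgroup.centralizer (Q : Set G)) ∧
          ∀ x : G, x ∈ Subgroup.normalizer (Q : Set G) → x ∉ Subgroup.centralizer (Q : Set G) →
            orderOf x = 2 ∧ ∀ c : G, c ∈ Subgroup.centralizer (Q : Set G) → x * c * x⁻¹ = c⁻¹))) := by
  constructor
  · intro h
    have apply_h : ∀ (Q : Subgroup G), IsPGroup p Q → ∀ g ∈ normalizer (Q : Set G),
        IsCyclic ↥(Q ⊔ zpowers g) ∨ ∃ n : ℕ, Nonempty (↥(Q ⊔ zpowers g) ≃* DihedralGroup (p ^ n)) :=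
      fun Q hQ g hg => h _ (sup_zpowers_pByCyclic hQ hg).1 (sup_zpowers_pByCyclic hQ hg).2
    have hp0 : p ≠ 0 := (Fact.out : p.Prime).ne_zero
    have hodd : Odd p := (Fact.out : p.Prime).odd_of_ne_two hp
    -- elements of odd order lie in the rotation subgroup
    have odd_mem : ∀ {T C : Subgroup G}, DihPair T C → ∀ q ∈ T, Odd (orderOf q) → q ∈ C := by
      intro T C hTC q hq hoq
      by_contra hqC
      have h2 : orderOf q ∣ 2 := orderOf_dvd_of_pow_eq_one (by rw [pow_two]; exact hTC.invol q hq hqC)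
      rcases (Nat.dvd_prime Nat.prime_two).mp h2 with h1 | h1
      · exact hqC (by rw [orderOf_eq_one_iff.mp h1]; exact one_mem C)
      · rw [h1] at hoq; exact (by decide : ¬ Odd 2) hoq
    -- a non-centralising element of the normaliser is an involution inverting `Q`
    have key : ∀ (Q : Subgroup G), IsPGroup p Q → ∀ g ∈ normalizer (Q : Set G),
        g ∉ centralizer (Q : Set G) → g * g = 1 ∧ ∀ q ∈ Q, g * q * g⁻¹ = q⁻¹ := by
      intro Q hQ g hg hgC
      have hgT : g ∈ Q ⊔ zpowers g := mem_sup_right (mem_zpowers g)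
      rcases apply_h Q hQ g hg with hc | ⟨n, ⟨e⟩⟩
      · exact absurd (mem_centralizer_iff.mpr fun q hq => congrArg Subtype.val
          (hc.isMulCommutative.is_comm.comm ⟨q, mem_sup_left hq⟩ ⟨g, hgT⟩)) hgC
      obtain ⟨C, hTC, -, -⟩ := exists_dihPair_of_mulEquiv (pow_ne_zero n hp0) e
      have hQC : Q ≤ C := fun q hq => odd_mem hTC q (mem_sup_left hq) (by
        obtain ⟨k, hk⟩ := hQ ⟨q, hq⟩
        have hd : orderOf q ∣ p ^ k := orderOf_dvd_of_pow_eq_one (congrArg Subtype.val hk)
        exact (hodd.pow).of_dvd_nat hd)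
      have hgnC : g ∉ C := fun hgc => hgC (mem_centralizer_iff.mpr fun q hq => congrArg Subtype.val
        (hTC.cyclic.isMulCommutative.is_comm.comm ⟨q, hQC hq⟩ ⟨g, hgc⟩))
      exact ⟨hTC.invol g hgT hgnC, fun q hq => hTC.inverts hgT hgnC (hQC hq)⟩
    have hPc : IsCyclic (P : Subgroup G) := by
      have e1 : (P : Subgroup G) ⊔ zpowers (1 : G) = P :=
        le_antisymm (sup_le le_rfl (zpowers_le.mpr (one_mem _))) le_sup_left
      have h1 := apply_h P P.2 1 (one_mem _)
      rw [e1] at h1
      refine h1.resolve_right ?_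
      rintro ⟨n, ⟨e⟩⟩
      have hc := Nat.card_congr e.toEquiv
      rw [DihedralGroup.nat_card] at hc
      obtain ⟨k, hk⟩ := IsPGroup.iff_card.mp P.2
      rw [hk] at hc
      exact (Nat.not_even_iff_odd.mpr (hodd.pow (n := k))) (hc ▸ even_two_mul _)
    refine ⟨hPc, ?_⟩
    by_cases hNC : normalizer ((P : Subgroup G) : Set G) = centralizer ((P : Subgroup G) : Set G)
    · exact Or.inl hNC
    right
    obtain ⟨g, hg, hgC⟩ : ∃ g, g ∈ normalizer ((P : Subgroup G) : Set G) ∧
        g ∉ centralizer ((P : Subgroup G) : Set G) := by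
      by_contra! hall
      exact hNC (le_antisymm hall (centralizer_le_normalizer _))
    obtain ⟨-, hginv⟩ := key P P.2 g hg hgC
    constructor
    · rw [relIndex_eq_two_iff]
      refine ⟨g, hg, fun b hb => ?_⟩
      by_cases hbC : b ∈ centralizer ((P : Subgroup G) : Set G)
      · exact Or.inr ⟨hbC, fun h' => hgC ((Subgroup.mul_mem_cancel_left _ hbC).mp h')⟩
      · refine Or.inl ⟨?_, hbC⟩
        obtain ⟨-, hbinv⟩ := key P P.2 b hb hbC
        rw [mem_centralizer_iff]
        intro z hz
        refine (mul_inv_eq_iff_eq_mul.mp ?_).symm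
        calc b * g * z * (b * g)⁻¹ = b * (g * z * g⁻¹) * b⁻¹ := by group
          _ = z := by rw [hginv z hz, hbinv _ (inv_mem hz), inv_inv]
    · intro Q hQP hQ
      have hQp : IsPGroup p Q := P.2.to_le hQP
      have hgN : g ∈ normalizer (Q : Set G) := Subgroup.mem_normalizer_iff.mpr fun z => ⟨fun hz => by
        rw [hginv z (hQP hz)]; exact inv_mem hz, fun hz => by
        have hzP : z ∈ (P : Subgroup G) := (Subgroup.mem_normalizer_iff.mp hg z).mpr (hQP hz)
        rw [hginv z hzP] at hz
        exact inv_mem_iff.mp hz⟩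
      have hgCQ : g ∉ centralizer (Q : Set G) := by
        intro hgc
        obtain ⟨q, hqo⟩ := exists_prime_orderOf_dvd_card' p (G := Q) (dvd_of_eq hQ.symm)
        have e1 := hginv q (hQP q.2)
        rw [← mem_centralizer_iff.mp hgc q q.2, mul_inv_cancel_right] at e1
        have : q ^ 2 = 1 := Subtype.ext (by
          rw [pow_two, coe_mul, coe_one]; exact mul_eq_one_iff_eq_inv.mpr e1)
        have := orderOf_dvd_of_pow_eq_one this
        rw [hqo] at this
        exact hp ((Nat.prime_dvd_prime_iff_eq Fact.out Nat.prime_two).mp this)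
      have hout : ∀ x, x ∈ normalizer (Q : Set G) → x ∉ centralizer (Q : Set G) →
          ∀ c, c ∈ centralizer (Q : Set G) → x * c * x⁻¹ = c⁻¹ := by
        intro x hx hxC c hc
        have h1 := (key Q hQp x hx hxC).1
        have h2 := (key Q hQp (x * c) (mul_mem hx (centralizer_le_normalizer _ hc))
          (fun h' => hxC ((Subgroup.mul_mem_cancel_right _ hc).mp h'))).1
        refine eq_inv_of_mul_eq_one_left ?_
        rw [inv_eq_of_mul_eq_one_right h1]
        simpa [mul_assoc] using h2
      refine ⟨⟨⟨fun a b => Subtype.ext ?_⟩⟩, fun x hx hxC => ⟨?_, hout x hx hxC⟩⟩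
      · have e := hout g hgN hgCQ _ (mul_mem (inv_mem a.2) (inv_mem b.2))
        rw [show g * ((a : G)⁻¹ * (b : G)⁻¹) * g⁻¹ = (g * (a : G)⁻¹ * g⁻¹) * (g * (b : G)⁻¹ * g⁻¹) by group,
          hout g hgN hgCQ _ (inv_mem a.2), hout g hgN hgCQ _ (inv_mem b.2), mul_inv_rev, inv_inv,
          inv_inv] at e
        simpa using e
      · refine orderOf_eq_prime (by rw [pow_two]; exact (key Q hQp x hx hxC).1) ?_
        rintro rfl
        exact hxC (one_mem _)
  · rintro ⟨hP, hcase⟩ H hN hQ
    obtain ⟨S⟩ : Nonempty (Sylow p ↥H) := inferInstance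
    have := hN S
    obtain ⟨T, hT⟩ := (S.2.map H.subtype).exists_le_sylow
    obtain ⟨g, hg⟩ := MulAction.exists_smul_eq G T P
    refine backward hp P hP (hcase.imp_right fun h => h.2) S (hQ S)
      ((MulAut.conj g).toMonoidHom.comp H.subtype)
      ((MulAut.conj g).injective.comp H.subtype_injective) ?_
    rw [← Subgroup.map_map, ← hg, Sylow.coe_subgroup_smul]
    exact Subgroup.map_mono hT

end Cfsg.Agent.S4082
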