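import Cfsg.Statements.S4083
import Cfsg.Agent.FGS77.PByCyclic
import Cfsg.Agent.S0228

set_option autoImplicit false
open Cfsg
open scoped commutatorElement

namespace Cfsg.Agent.S4083
open Subgroup FGS77

theorem sq_eq_one_of_fixed {α : Type*} [Finite α] (hα : Nat.card α = 3) (σ : Equiv.Perm α) {a : α}
    (ha : σ a = a) : σ ^ 2 = 1 := by
  classical
  have := Fintype.ofFinite α
  let e : α ≃ Fin 3 := Fintype.equivFinOfCardEq (by rw [← Nat.card_eq_fintype_card, hα])
  have key : ∀ τ : Equiv.Perm (Fin 3), ∀ i, τ i = i → τ ^ 2 = 1 := by decide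
  have h := key (e.permCongr σ) (e a) (by simp [Equiv.permCongr_apply, ha])
  ext x
  have h2 := congrArg (fun τ : Equiv.Perm (Fin 3) => τ (e x)) h
  simp [pow_two, Equiv.permCongr_apply] at h2
  simpa [pow_two] using h2

theorem backward {G : Type*} [Group G] [Finite G] (P : Sylow 2 G)
    (hcase : IsCyclic (P : Subgroup G) ∨
      ((∃ n : ℕ, 1 ≤ n ∧ Nonempty ((P : Subgroup G) ≃* DihedralGroup (2 ^ n))) ∧
        ∀ K : Subgroup G, K ≤ P → Nat.card K = 4 → (∀ k ∈ K, k ^ 2 = 1) →
          centralizer (K : Set G) = K))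
    {H : Type*} [Group H] [Finite H] (S : Sylow 2 H) [(S : Subgroup H).Normal]
    (hQ : IsCyclic (H ⧸ (S : Subgroup H))) (f : H →* G) (hf : Function.Injective f)
    (hfS : (S : Subgroup H).map f ≤ P) :
    IsCyclic H ∨ (∃ n : ℕ, Nonempty (H ≃* DihedralGroup (2 ^ n))) ∨
      Nonempty (H ≃* alternatingGroup (Fin 4)) := by
  have : Fact (Nat.Prime 2) := ⟨Nat.prime_two⟩
  obtain ⟨a, ha⟩ := IsPGroup.iff_card.mp S.2
  set m := (S : Subgroup H).index with hm
  have hmodd : Odd m := by
    rw [← Nat.not_even_iff_odd, even_iff_two_dvd]; exact S.not_dvd_index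
  have hcop : Nat.Coprime (2 ^ a) m := Nat.Coprime.pow_left _ (Nat.coprime_two_left.mpr hmodd)
  have hpm : ∀ h : H, h ^ m ∈ (S : Subgroup H) := fun h => pow_index_mem _ h
  have hoddpow : ∀ h : H, Odd (orderOf (h ^ 2 ^ a)) := fun h => by
    refine hmodd.of_dvd_nat (orderOf_dvd_of_pow_eq_one ?_)
    rw [← pow_mul, mul_comm, pow_mul, ← ha]
    exact congrArg Subtype.val (pow_card_eq_one' (x := (⟨h ^ m, hpm h⟩ : (S : Subgroup H))))
  have hSnorm : ∀ h : H, h ∈ normalizer ((S : Subgroup H) : Set H) := fun h => by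
    rw [normalizer_eq_top]; exact mem_top h
  by_cases hScyc : IsCyclic (S : Subgroup H)
  · refine Or.inl (isCyclic_of_central_sylow S hScyc hQ fun s hs => mem_center_iff.mpr fun h => ?_)
    have h1 : h ^ 2 ^ a ∈ centralizer ((S : Subgroup H) : Set H) := mem_centralizer_iff.mpr
      fun c hc => (commute_of_odd_normalizing_cyclic S.2 hScyc (hoddpow h) (hSnorm _) hc).symm
    have h2 : h ^ m ∈ centralizer ((S : Subgroup H) : Set H) := mem_centralizer_iff.mpr
      fun c hc => congrArg Subtype.val
        (hScyc.isMulCommutative.is_comm.comm ⟨c, hc⟩ ⟨_, hpm h⟩)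
    exact (mem_centralizer_iff.mp (mem_of_pow_mem_of_coprime h1 h2 hcop) s hs).symm
  rcases hcase with hP | ⟨⟨n, -, ⟨e⟩⟩, hK⟩
  · exact absurd (isCyclic_of_injective
      ((f.comp (S : Subgroup H).subtype).codRestrict _ fun s => hfS ⟨s, s.2, rfl⟩)
      (fun x y h => Subtype.ext (hf (congrArg Subtype.val h)))) hScyc
  obtain ⟨C, hPC, -, -⟩ := exists_dihPair_of_mulEquiv (pow_ne_zero n two_ne_zero) e
  set C₁ : Subgroup H := C.comap f ⊓ (S : Subgroup H) with hC₁
  have hpair : DihPair (S : Subgroup H) C₁ := by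
    refine ⟨inf_le_right, ?_, fun s hs hsC => ?_, fun s hs hsC t ht htC => ?_⟩
    · have := hPC.cyclic
      exact isCyclic_of_injective ((f.comp C₁.subtype).codRestrict C fun c => (mem_inf.mp c.2).1)
        fun x y h => Subtype.ext (hf (congrArg Subtype.val h))
    · exact hf (by
        rw [map_mul, map_one]
        exact hPC.invol _ (hfS ⟨s, hs, rfl⟩) fun h => hsC (mem_inf.mpr ⟨h, hs⟩))
    · refine mem_inf.mpr ⟨?_, mul_mem hs ht⟩
      rw [mem_comap, map_mul]
      exact hPC.prod _ (hfS ⟨s, hs, rfl⟩) (fun h => hsC (mem_inf.mpr ⟨h, hs⟩)) _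
        (hfS ⟨t, ht, rfl⟩) fun h => htC (mem_inf.mpr ⟨h, ht⟩)
  have hne : C₁ ≠ (S : Subgroup H) := fun h => hScyc (h ▸ hpair.cyclic)
  obtain ⟨s, hs, hsC⟩ := SetLike.exists_of_lt (lt_of_le_of_ne hpair.le hne)
  have hss := hpair.invol s hs hsC
  have hout : ∀ t ∈ (S : Subgroup H), t ∉ C₁ → ∃ c ∈ C₁, t = s * c := fun t ht htC =>
    ⟨s * t, hpair.prod s hs hsC t ht htC, by rw [← mul_assoc, hss, one_mul]⟩
  have hC1p : IsPGroup 2 C₁ := S.2.to_le hpair.le
  have hC1ne : C₁ ≠ ⊥ := by
    intro hb
    refine hScyc ?_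
    have : (S : Subgroup H) = zpowers s := by
      refine le_antisymm (fun t ht => ?_) (zpowers_le.mpr hs)
      by_cases htC : t ∈ C₁
      · rw [hb, mem_bot] at htC; rw [htC]; exact one_mem _
      · obtain ⟨c, hc, rfl⟩ := hout t ht htC
        rw [hb, mem_bot] at hc; rw [hc, mul_one]; exact mem_zpowers s
    rw [this]; infer_instance
  have : Nontrivial C₁ := (nontrivial_iff_ne_bot _).mpr hC1ne
  obtain ⟨b, hb0, hb⟩ := hC1p.nontrivial_iff_card.mp this
  obtain ⟨⟨z, hzC⟩, hzo⟩ := exists_prime_orderOf_dvd_card' 2 (G := C₁) (hb ▸ dvd_pow_self 2 hb0.ne')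
  rw [Subgroup.orderOf_mk] at hzo
  have hzz : z * z = 1 := by rw [← pow_two]; exact orderOf_dvd_iff_pow_eq_one.mp (dvd_of_eq hzo)
  have hz1 : z ≠ 1 := fun h => by simp [h] at hzo
  have hzs : z * s = s * z := by
    have := hpair.inverts hs hsC hzC
    rw [inv_eq_of_mul_eq_one_right hzz] at this
    exact (mul_inv_eq_iff_eq_mul.mp this).symm
  let K₁ : Subgroup H :=
    { carrier := {1, z, s, z * s}
      one_mem' := Or.inl rfl
      inv_mem' := fun {x} hx => by
        have e1 := inv_eq_of_mul_eq_one_right hzz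
        have e2 := inv_eq_of_mul_eq_one_right hss
        rcases hx with rfl | rfl | rfl | rfl <;> simp [e1, e2, hzs]
      mul_mem' := fun {x y} hx hy => by
        have e1 : ∀ w, z * (z * w) = w := fun w => by rw [← mul_assoc, hzz, one_mul]
        have e2 : ∀ w, s * (s * w) = w := fun w => by rw [← mul_assoc, hss, one_mul]
        have e3 : ∀ w, s * (z * w) = z * (s * w) := fun w => by rw [← mul_assoc, ← hzs, mul_assoc]
        rcases hx with rfl | rfl | rfl | rfl <;> rcases hy with rfl | rfl | rfl | rfl <;>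
          simp [mul_assoc, hzz, hss, ← hzs, e1, e2, e3] }
  have hK1S : K₁ ≤ (S : Subgroup H) := by
    rintro x (rfl | rfl | rfl | rfl)
    · exact one_mem _
    · exact hpair.le hzC
    · exact hs
    · exact mul_mem (hpair.le hzC) hs
  have hs1 : s ≠ 1 := fun h => hsC (h ▸ one_mem _)
  have hK4 : Nat.card K₁ = 4 := by
    have h1 : z * s ≠ 1 := fun h => hsC (by
      rw [← inv_eq_of_mul_eq_one_right h]; exact inv_mem hzC)
    have h2 : z * s ≠ z := fun h => hs1 (by simpa using h)
    have h3 : z * s ≠ s := fun h => hz1 (by simpa using h)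
    have h4 : z ≠ s := fun h => hsC (h ▸ hzC)
    show Nat.card ({1, z, s, z * s} : Set H) = 4
    rw [Nat.card_coe_set_eq, Set.ncard_insert_of_notMem (by simp [hz1.symm, hs1.symm, h1.symm]),
      Set.ncard_insert_of_notMem (by simp [h4, h2.symm]),
      Set.ncard_insert_of_notMem (by simp [h3.symm]), Set.ncard_singleton]
  have hzS := hpair.le hzC
  have hcentK : ∀ h : H, h * z = z * h → h * s = s * h → h ∈ K₁ := by
    intro h h1 h2
    have h3 : f h ∈ centralizer ((K₁.map f : Subgroup G) : Set G) := mem_centralizer_iff.mpr (by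
      rintro _ ⟨k, hk, rfl⟩
      rw [← map_mul, ← map_mul]
      congr 1
      rcases hk with rfl | rfl | rfl | rfl
      · rw [one_mul, mul_one]
      · exact h1.symm
      · exact h2.symm
      · rw [mul_assoc, ← h2, ← mul_assoc, ← h1, mul_assoc])
    rw [hK _ ((map_mono hK1S).trans hfS) (by rw [card_map_of_injective hf, hK4]) (by
      rintro _ ⟨k, hk, rfl⟩
      rw [← map_pow, ← map_one f]
      congr 1
      have e3 : ∀ w, s * (z * w) = z * (s * w) := fun w => by rw [← mul_assoc, ← hzs, mul_assoc]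
      rcases hk with rfl | rfl | rfl | rfl <;> simp [pow_two, hzz, hss, mul_assoc, e3])] at h3
    obtain ⟨k, hk, hkh⟩ := h3
    rwa [← hf hkh]
  by_cases hb1 : b = 1
  · -- `S` is a four group
    rw [hb1, pow_one] at hb
    have hC1z : ∀ c ∈ C₁, c = 1 ∨ c = z := by
      intro c hc
      by_contra! hcon
      have h3 : ({1, z, c} : Set H) ⊆ (C₁ : Set H) := by
        rintro x (rfl | rfl | rfl)
        exacts [one_mem _, hzC, hc]
      have := Set.ncard_le_ncard h3
      rw [Set.ncard_insert_of_notMem (by simp [hz1.symm, hcon.1.symm]),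
        Set.ncard_insert_of_notMem (by simp [hcon.2.symm]), Set.ncard_singleton,
        ← Nat.card_coe_set_eq] at this
      simp only [SetLike.coe_sort_coe, hb] at this
      omega
    have hSK : (S : Subgroup H) ≤ K₁ := by
      intro t ht
      by_cases htC : t ∈ C₁
      · rcases hC1z t htC with rfl | rfl
        exacts [one_mem _, Or.inr (Or.inl rfl)]
      · obtain ⟨c, hc, rfl⟩ := hout t ht htC
        rcases hC1z c hc with rfl | rfl
        · rw [mul_one]; exact Or.inr (Or.inr (Or.inl rfl))
        · rw [← hzs]; exact Or.inr (Or.inr (Or.inr rfl))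
    have hS4 : Nat.card (S : Subgroup H) = 4 := by rw [le_antisymm hSK hK1S, hK4]
    classical
    let χ : H →* Equiv.Perm {x : (S : Subgroup H) // x ≠ 1} :=
      { toFun := fun h => Equiv.Perm.subtypePerm (MulAut.conjNormal h : MulAut (S : Subgroup H)).toEquiv fun x => by simp
        map_one' := by ext x; simp
        map_mul' := fun g h => by ext x; simp [mul_assoc] }
    have h3 : Nat.card {x : (S : Subgroup H) // x ≠ 1} = 3 := by
      have := Fintype.ofFinite (S : Subgroup H)
      rw [Nat.card_eq_fintype_card, Fintype.card_subtype_compl, ← Nat.card_eq_fintype_card, hS4]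
      simp
    have hker : ∀ h : H, χ h = 1 → h ∈ (S : Subgroup H) := by
      intro h hh
      have key : ∀ t ∈ (S : Subgroup H), t ≠ 1 → h * t = t * h := by
        intro t ht ht1
        have := congrArg (fun (σ : Equiv.Perm {x : (S : Subgroup H) // x ≠ 1}) =>
          ((σ ⟨⟨t, ht⟩, fun e => ht1 (congrArg Subtype.val e)⟩).1 : H)) hh
        exact mul_inv_eq_iff_eq_mul.mp (by simpa [χ] using this)
      exact hK1S (hcentK h (key z hzS hz1) (key s hs hs1))
    have h6 : ∀ h : H, h ^ 3 ∈ (S : Subgroup H) := by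
      intro h
      refine mem_of_pow_mem_of_coprime (a := 2) (b := m) ?_ ?_ (Nat.coprime_two_left.mpr hmodd)
      · rw [← pow_mul]
        refine hker _ ?_
        rw [map_pow]
        have hP6 : Nat.card (Equiv.Perm {x : (S : Subgroup H) // x ≠ 1}) = 6 := by
          rw [Nat.card_perm, h3]; rfl
        rw [show (3 * 2 : ℕ) = 6 by rfl, ← hP6]
        exact pow_card_eq_one'
      · exact hpm _
    obtain ⟨q, hq⟩ := IsCyclic.exists_ofOrder_eq_natCard (α := H ⧸ (S : Subgroup H))
    obtain ⟨y, rfl⟩ := QuotientGroup.mk_surjective q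
    have hdvd : m ∣ 3 := by
      rw [hm, index_eq_card, ← hq]
      exact orderOf_dvd_of_pow_eq_one (by
        rw [← QuotientGroup.mk_pow]; exact (QuotientGroup.eq_one_iff _).mpr (h6 y))
    rcases (Nat.dvd_prime Nat.prime_three).mp hdvd with hm1 | hm3
    · -- a four group
      have hStop : (S : Subgroup H) = ⊤ := index_eq_one.mp hm1
      obtain ⟨ψ⟩ := hpair.mulEquiv hne
      rw [hb] at ψ
      have ψ' := (topEquiv.symm.trans (MulEquiv.subgroupCongr hStop.symm)).trans ψ
      exact Or.inr (Or.inl ⟨1, ⟨ψ'⟩⟩)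
    · refine Or.inr (Or.inr (Cfsg.Agent.S0228.result ?_ fun w hw hwZ => ?_))
      · rw [← (S : Subgroup H).card_mul_index, hS4, ← hm, hm3]
      · have hwS : w ∈ (S : Subgroup H) := mem_of_pow_mem_of_coprime (a := 2) (b := 3)
          (by rw [orderOf_dvd_iff_pow_eq_one.mp (dvd_of_eq hw)]; exact one_mem _) (h6 w) (by norm_num)
        have hw1 : w ≠ 1 := fun h => by simp [h] at hw
        let w' : {x : (S : Subgroup H) // x ≠ 1} := ⟨⟨w, hwS⟩, fun e => hw1 (congrArg Subtype.val e)⟩
        have hfix : χ y w' = w' :=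
          Subtype.ext (Subtype.ext (by simp [χ, w', mem_center_iff.mp hwZ y]))
        have h2 := sq_eq_one_of_fixed h3 (χ y) hfix
        have hyS : y ∈ (S : Subgroup H) := mem_of_pow_mem_of_coprime (a := 2) (b := 3)
          (hker _ (by rw [map_pow]; exact h2)) (h6 y) (by norm_num)
        rw [(QuotientGroup.eq_one_iff y).mpr hyS, orderOf_one, ← index_eq_card, ← hm, hm3] at hq
        omega
  · -- rotations of order at least four
    obtain ⟨⟨x, hxC⟩, hxg⟩ := hpair.cyclic.exists_generator
    have hxo : orderOf x = 2 ^ b := by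
      rw [← hb, ← orderOf_eq_card_of_forall_mem_zpowers hxg, Subgroup.orderOf_mk]
    have key : ∀ h : H, ∀ c ∈ C₁, h * c * h⁻¹ ∈ C₁ := by
      intro h c hc
      obtain ⟨k, hk⟩ := mem_zpowers_iff.mp (hxg ⟨c, hc⟩)
      have hk' : x ^ k = c := by simpa using congrArg Subtype.val hk
      have hxh : h * x * h⁻¹ ∈ C₁ := by
        by_contra hcon
        have h1 := hpair.invol _ (Normal.conj_mem (inferInstance : (S : Subgroup H).Normal) x
          (hpair.le hxC) h) hcon
        have h2 : orderOf (h * x * h⁻¹) = 2 ^ b := by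
          rw [← hxo]; exact (MulAut.conj h).orderOf_eq x
        have h3 := orderOf_dvd_of_pow_eq_one (show (h * x * h⁻¹) ^ 2 = 1 by rw [pow_two]; exact h1)
        rw [h2] at h3
        have := Nat.le_of_dvd two_pos h3
        have h4 : 2 ^ 2 ≤ 2 ^ b := Nat.pow_le_pow_right two_pos (by omega)
        omega
      rw [← hk', show h * x ^ k * h⁻¹ = (h * x * h⁻¹) ^ k from map_zpow (MulAut.conj h) x k]
      exact zpow_mem hxh k
    have hC1norm : ∀ h : H, h ∈ normalizer (C₁ : Set H) := fun h => Subgroup.mem_normalizer_iff.mpr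
      fun c => ⟨key h c, fun hc => by simpa [mul_assoc] using key h⁻¹ _ hc⟩
    have hodd1 : ∀ y : H, Odd (orderOf y) → y = 1 := by
      intro y hy
      have hcy : ∀ c ∈ C₁, y * c = c * y := fun c hc =>
        commute_of_odd_normalizing_cyclic hC1p hpair.cyclic hy (hC1norm y) hc
      set s' := y * s * y⁻¹
      have hs'S : s' ∈ (S : Subgroup H) := Normal.conj_mem inferInstance s hs y
      have hs'C : s' ∉ C₁ := fun h' => hsC ((Subgroup.mem_normalizer_iff.mp (hC1norm y) s).mpr h')
      set c := s' * s with hc'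
      have hc : c ∈ C₁ := hpair.prod s' hs'S hs'C s hs hsC
      have hk : ∀ k : ℕ, y ^ k * s * (y ^ k)⁻¹ = c ^ k * s := by
        intro k
        induction k with
        | zero => simp
        | succ k ih =>
          have hcp : y * c ^ k * y⁻¹ = c ^ k := by
            rw [hcy _ (pow_mem hc k), mul_inv_cancel_right]
          calc y ^ (k + 1) * s * (y ^ (k + 1))⁻¹ = y * (y ^ k * s * (y ^ k)⁻¹) * y⁻¹ := by
                rw [pow_succ' y k]; group
            _ = (y * c ^ k * y⁻¹) * (y * s * y⁻¹) := by rw [ih]; group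
            _ = c ^ k * (c * s) := by
                rw [hcp, show c * s = y * s * y⁻¹ by rw [hc', mul_assoc, hss, mul_one]]
            _ = c ^ (k + 1) * s := by rw [pow_succ, mul_assoc (c ^ k) c s]
      have h1 := hk (orderOf y)
      rw [pow_orderOf_eq_one, one_mul, inv_one, mul_one] at h1
      have h2 : c ^ orderOf y = 1 := by
        have := h1.symm
        rwa [mul_eq_right] at this
      have hc1 : c = 1 := by
        have h3 : c ^ 2 ^ b = 1 := by
          rw [← hb]; exact congrArg Subtype.val (pow_card_eq_one' (x := (⟨c, hc⟩ : C₁)))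
        rw [← mem_bot (G := H)]
        exact mem_of_pow_mem_of_coprime (a := 2 ^ b) (b := orderOf y) (mem_bot.mpr h3)
          (mem_bot.mpr h2) (Nat.Coprime.pow_left _ (Nat.coprime_two_left.mpr hy))
      have hys : y * s = s * y := by
        have h4 : s' = s := by
          rw [hc'] at hc1
          rw [eq_inv_of_mul_eq_one_left hc1, inv_eq_of_mul_eq_one_right hss]
        exact mul_inv_eq_iff_eq_mul.mp h4
      have hyK := hcentK y (hcy z hzC) hys
      have hd : orderOf y ∣ 2 := orderOf_dvd_of_pow_eq_one (by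
        have e3 : ∀ w, s * (z * w) = z * (s * w) := fun w => by rw [← mul_assoc, ← hzs, mul_assoc]
        rcases hyK with rfl | rfl | rfl | rfl <;> simp [pow_two, hzz, hss, mul_assoc, e3])
      rcases (Nat.dvd_prime Nat.prime_two).mp hd with h5 | h5
      · exact orderOf_eq_one_iff.mp h5
      · rw [h5] at hy; exact absurd hy (by decide)
    have hStop : (S : Subgroup H) = ⊤ := (eq_top_iff' _).mpr fun h =>
      mem_of_pow_mem_of_coprime (by rw [hodd1 _ (hoddpow h)]; exact one_mem _) (hpm h) hcop
    obtain ⟨ψ⟩ := hpair.mulEquiv hne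
    rw [hb] at ψ
    exact Or.inr (Or.inl ⟨b, ⟨(topEquiv.symm.trans (MulEquiv.subgroupCongr hStop.symm)).trans ψ⟩⟩)

/-- Let G be a finite group with Sylow 2-subgroup P. Every subgroup H of G whose Sylow 2-subgroup is normal in H with cyclic quotient is cyclic, dihedral of 2-power order, or isomorphic to the alternating group of degree 4, if and only if either P is cyclic, or P is dihedral (of order at least 4) and every elementary abelian subgroup K of order 4 of P satisfies C_G(K) = K. -/
theorem result {G : Type*} [Group G] [Finite G] (P : Sylow 2 G) :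
    (∀ H : Subgroup G, (∀ S : Sylow 2 ↥H, (S : Subgroup ↥H).Normal) →
        (∀ (S : Sylow 2 ↥H) [(S : Subgroup ↥H).Normal], IsCyclic (↥H ⧸ (S : Subgroup ↥H))) →
        IsCyclic H ∨ (∃ n : ℕ, Nonempty (H ≃* DihedralGroup (2 ^ n))) ∨ Nonempty (H ≃* alternatingGroup (Fin 4))) ↔
    (IsCyclic P ∨
      ((∃ n : ℕ, 1 ≤ n ∧ Nonempty ((P : Subgroup G) ≃* DihedralGroup (2 ^ n))) ∧
        ∀ K : Subgroup G, K ≤ P → Nat.card K = 4 → (∀ k ∈ K, k ^ 2 = 1) → Subgroup.centralizer (K : Set G) = K)) := by
  have : Fact (Nat.Prime 2) := ⟨Nat.prime_two⟩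
  constructor
  · intro h
    have apply_h : ∀ (Q : Subgroup G), IsPGroup 2 Q → ∀ g ∈ normalizer (Q : Set G),
        IsCyclic ↥(Q ⊔ zpowers g) ∨
        (∃ n : ℕ, Nonempty (↥(Q ⊔ zpowers g) ≃* DihedralGroup (2 ^ n))) ∨
        Nonempty (↥(Q ⊔ zpowers g) ≃* alternatingGroup (Fin 4)) :=
      fun Q hQ g hg => h _ (sup_zpowers_pByCyclic hQ hg).1 (sup_zpowers_pByCyclic hQ hg).2
    have h1 := apply_h P P.2 1 (one_mem _)
    have e1 : (P : Subgroup G) ⊔ zpowers (1 : G) = P :=
      le_antisymm (sup_le le_rfl (zpowers_le.mpr (one_mem _))) le_sup_left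
    rw [e1] at h1
    obtain ⟨k, hk⟩ := IsPGroup.iff_card.mp P.2
    rcases h1 with h1 | ⟨n, ⟨e⟩⟩ | h1
    · exact Or.inl h1
    · by_cases hn : n = 0
      · subst hn
        left
        have hc := Nat.card_congr e.toEquiv
        rw [DihedralGroup.nat_card] at hc
        exact isCyclic_of_prime_card (p := 2) (by rw [hc]; rfl)
      refine Or.inr ⟨⟨n, by omega, ⟨e⟩⟩, fun K hKP hK4 hK2 => ?_⟩
      have hKp : IsPGroup 2 K := P.2.to_le hKP
      have hKcomm : ∀ a ∈ K, ∀ b ∈ K, a * b = b * a := by
        intro a ha b hb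
        have h2 : ∀ w ∈ K, w * w = 1 := fun w hw => by rw [← pow_two]; exact hK2 w hw
        rw [← inv_eq_of_mul_eq_one_right (h2 _ (mul_mem ha hb)), mul_inv_rev,
          inv_eq_of_mul_eq_one_right (h2 a ha), inv_eq_of_mul_eq_one_right (h2 b hb)]
      refine le_antisymm (fun x hx => ?_) (fun a ha => mem_centralizer_iff.mpr fun b hb => hKcomm b hb a ha)
      have hxN : x ∈ normalizer (K : Set G) := centralizer_le_normalizer _ hx
      set T := K ⊔ zpowers x with hT
      have hTc : ∀ a ∈ T, ∀ b ∈ T, a * b = b * a := by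
        have hX : zpowers x ≤ centralizer (K : Set G) := zpowers_le.mpr hx
        have hXX : zpowers x ≤ centralizer (zpowers x : Set G) := zpowers_le.mpr (by
          rw [mem_centralizer_iff]
          intro z hz
          obtain ⟨j, rfl⟩ := mem_zpowers_iff.mp hz
          exact ((Commute.refl x).zpow_left j).eq)
        have hKK : K ≤ centralizer (K : Set G) := fun a ha =>
          mem_centralizer_iff.mpr fun b hb => hKcomm b hb a ha
        have hTT : T ≤ centralizer (T : Set G) :=
          sup_le (le_centralizer_iff.mp (sup_le hKK hX))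
            (le_centralizer_iff.mp (sup_le (le_centralizer_iff.mp hX) hXX))
        exact fun a ha b hb => mem_centralizer_iff.mp (hTT hb) a ha
      have hK4T : 4 ≤ Nat.card T := hK4 ▸ card_le_of_le le_sup_left
      rcases apply_h K hKp x hxN with hc | ⟨j, ⟨ε⟩⟩ | hA4
      · exfalso
        classical
        have := Fintype.ofFinite T
        have h2 := IsCyclic.card_pow_eq_one_le (α := T) (n := 2) two_pos
        have h3 : Nat.card (K.subgroupOf T) ≤ 2 := by
          rw [Nat.card_eq_fintype_card, Fintype.card_subtype]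
          refine le_trans (Finset.card_le_card fun a ha => ?_) h2
          simp only [Finset.mem_filter, Finset.mem_univ, true_and, mem_subgroupOf] at ha ⊢
          exact Subtype.ext (by rw [coe_pow, coe_one]; exact hK2 _ ha)
        rw [Nat.card_congr (subgroupOfEquivOfLe le_sup_left).toEquiv, hK4] at h3
        omega
      · have hj : j ≤ 1 := by
          have hcc := congrArg ε (Subtype.ext (hTc _ (ε.symm (DihedralGroup.r 1)).2 _
            (ε.symm (DihedralGroup.sr 0)).2) : ε.symm (DihedralGroup.r 1) * ε.symm (DihedralGroup.sr 0)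
              = ε.symm (DihedralGroup.sr 0) * ε.symm (DihedralGroup.r 1))
          rw [map_mul, map_mul, ε.apply_symm_apply, ε.apply_symm_apply, DihedralGroup.r_mul_sr,
            DihedralGroup.sr_mul_r, DihedralGroup.sr.injEq, zero_sub, zero_add,
            neg_eq_iff_add_eq_zero] at hcc
          have h2 : ((2 : ℕ) : ZMod (2 ^ j)) = 0 := by rw [← hcc]; norm_num
          rw [ZMod.natCast_eq_zero_iff] at h2
          exact (Nat.pow_dvd_pow_iff_le_right (x := 2) (l := 1) one_lt_two).mp (by simpa using h2)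
        have hc : Nat.card T = Nat.card (DihedralGroup (2 ^ j)) := Nat.card_congr ε.toEquiv
        rw [DihedralGroup.nat_card] at hc
        have h2j : (2 : ℕ) ^ j ≤ 2 := by simpa using Nat.pow_le_pow_right two_pos hj
        have hKT : K = T := eq_of_le_of_card_ge le_sup_left (by rw [hK4]; omega)
        rw [hKT]; exact mem_sup_right (mem_zpowers x)
      · exfalso
        obtain ⟨ε⟩ := hA4
        have hA : ∃ a b : alternatingGroup (Fin 4), a * b ≠ b * a := by decide
        obtain ⟨a, b, hab⟩ := hA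
        exact hab (ε.symm.injective (by
          rw [map_mul, map_mul]; exact Subtype.ext (hTc _ (ε.symm a).2 _ (ε.symm b).2)))
    · exfalso
      obtain ⟨e⟩ := h1
      have hc := Nat.card_congr e.toEquiv
      rw [hk, nat_card_alternatingGroup, Nat.card_fin] at hc
      have h12 : (3 : ℕ) ∣ 2 ^ k := by rw [hc]; decide
      have := Nat.Prime.dvd_of_dvd_pow Nat.prime_three h12
      omega
  · intro hcase H hN hQ
    obtain ⟨S⟩ : Nonempty (Sylow 2 ↥H) := inferInstance
    have := hN S
    obtain ⟨T, hT⟩ := (S.2.map H.subtype).exists_le_sylow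
    obtain ⟨g, hg⟩ := MulAction.exists_smul_eq G T P
    refine backward P hcase S (hQ S) ((MulAut.conj g).toMonoidHom.comp H.subtype)
      ((MulAut.conj g).injective.comp H.subtype_injective) ?_
    rw [← Subgroup.map_map, ← hg, Sylow.coe_subgroup_smul]
    exact Subgroup.map_mono hT

end Cfsg.Agent.S4083
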