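import Cfsg.Statements.S4084
import Cfsg.Agent.FGS77.Basic

set_option autoImplicit false
open Cfsg
open scoped commutatorElement

namespace Cfsg.Agent.S4084

theorem one_direction {G H : Type*} [Group G] [Finite G] [Group H] [Finite H] (e : G ≃ H)
    (he : ∀ x y : G, Commute x y ↔ Commute (e x) (e y))
    {p q : ℕ} (hp : p.Prime) (hq : q.Prime) (hpq : p ≠ q) (g : G) (hg : orderOf g = p * q) :
    ∃ h : H, orderOf h = p * q := by
  haveI : Fact p.Prime := ⟨hp⟩
  haveI : Fact q.Prime := ⟨hq⟩
  obtain ⟨A, hA⟩ := (Set.toFinite {K : Subgroup G | Subgroup.zpowers g ≤ K ∧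
    ∀ a ∈ K, ∀ b ∈ K, Commute a b}).exists_maximal ⟨Subgroup.zpowers g, le_rfl, by
      rintro _ ⟨i, rfl⟩ _ ⟨j, rfl⟩
      exact (Commute.refl g).zpow_zpow i j⟩
  set B := Subgroup.closure (e '' (A : Set G)) with hB
  have hBc : ∀ a ∈ B, ∀ b ∈ B, Commute a b := by
    have : IsMulCommutative B := Subgroup.isMulCommutative_closure (by
      rintro _ ⟨a, ha, rfl⟩ _ ⟨b, hb, rfl⟩
      exact ((he a b).mp (hA.1.2 a ha b hb)).eq)
    intro a ha b hb
    exact congrArg Subtype.val (this.1.1 ⟨a, ha⟩ ⟨b, hb⟩)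
  set C := Subgroup.closure (e ⁻¹' (B : Set H)) with hC
  have hAC : A ≤ C := fun a ha => Subgroup.subset_closure (Subgroup.subset_closure ⟨a, ha, rfl⟩)
  have hCc : ∀ a ∈ C, ∀ b ∈ C, Commute a b := by
    have : IsMulCommutative C := Subgroup.isMulCommutative_closure (fun a ha b hb =>
      ((he a b).mpr (hBc _ ha _ hb)).eq)
    intro a ha b hb
    exact congrArg Subtype.val (this.1.1 ⟨a, ha⟩ ⟨b, hb⟩)
  have hCA : C ≤ A := hA.2 ⟨hA.1.1.trans hAC, hCc⟩ hAC
  have hcard : Nat.card B = Nat.card A := by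
    refine Nat.card_congr (Equiv.subtypeEquiv e.symm fun b => ?_)
    constructor
    · intro hb
      exact hCA (Subgroup.subset_closure (by simpa using hb))
    · intro hb
      exact Subgroup.subset_closure ⟨_, hb, by simp⟩
  have hdvd : p * q ∣ Nat.card B := by
    rw [hcard, ← hg, ← Nat.card_zpowers]
    exact Subgroup.card_dvd_of_le hA.1.1
  obtain ⟨a, ha⟩ := exists_prime_orderOf_dvd_card' p ((Dvd.intro q rfl).trans hdvd)
  obtain ⟨b, hb⟩ := exists_prime_orderOf_dvd_card' q ((Dvd.intro_left p rfl).trans hdvd)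
  refine ⟨(a : H) * b, ?_⟩
  rw [(hBc a a.2 b b.2).orderOf_mul_eq_mul_orderOf_of_coprime]
  · rw [Subgroup.orderOf_coe, Subgroup.orderOf_coe, ha, hb]
  · rw [Subgroup.orderOf_coe, Subgroup.orderOf_coe, ha, hb]
    exact (Nat.coprime_primes hp hq).mpr hpq


/-- Let G and H be finite groups whose commuting graphs are isomorphic: there is a bijection e : G → H with x, y commuting exactly when e(x), e(y) commute. Then G and H have the same prime graph: for distinct primes p, q, G has an element of order pq if and only if H does (and #G = #H, so the prime divisors agree). -/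
theorem result {G H : Type*} [Group G] [Finite G] [Group H] [Finite H] (e : G ≃ H)
    (he : ∀ x y : G, Commute x y ↔ Commute (e x) (e y))
    {p q : ℕ} (hp : p.Prime) (hq : q.Prime) (hpq : p ≠ q) :
    (∃ g : G, orderOf g = p * q) ↔ (∃ h : H, orderOf h = p * q) := by
  constructor
  · rintro ⟨g, hg⟩; exact one_direction e he hp hq hpq g hg
  · rintro ⟨h, hh⟩
    exact one_direction e.symm (fun x y => by simpa using (he (e.symm x) (e.symm y)).symm) hp hq hpq h hh

end Cfsg.Agent.S4084
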