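import Cfsg.Statements.S4085
import Mathlib

set_option autoImplicit false
open Cfsg
open scoped commutatorElement

namespace Cfsg.Agent.S4085
noncomputable section

variable {G H : Type*} [Group G] [Finite G] [Group H] [Finite H]

/-- Adjacency in the power graph (loops included). -/
def Adj {G : Type*} [Group G] (x y : G) : Prop :=
  x ∈ Subgroup.zpowers y ∨ y ∈ Subgroup.zpowers x

theorem adj_one {G : Type*} [Group G] (x : G) : Adj 1 x := Or.inl (one_mem _)

theorem Adj.symm {G : Type*} [Group G] {x y : G} (h : Adj x y) : Adj y x := Or.symm h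

theorem adj_of_le {G : Type*} [Group G] {x y : G} (h : x ∈ Subgroup.zpowers y) {z : G}
    (hz : y ∈ Subgroup.zpowers z) : x ∈ Subgroup.zpowers z :=
  Subgroup.zpowers_le.mpr hz h

omit [Finite H] in
theorem not_adj {x y : G} (h1 : ¬ orderOf x ∣ orderOf y) (h2 : ¬ orderOf y ∣ orderOf x) : ¬ Adj x y := by
  rintro (h | h)
  · exact h1 (orderOf_dvd_of_mem_zpowers h)
  · exact h2 (orderOf_dvd_of_mem_zpowers h)

theorem exists_order_of_dvd (x : G) {d : ℕ} (hd : d ∣ orderOf x) :
    ∃ z ∈ Subgroup.zpowers x, orderOf z = d :=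
  ⟨x ^ (orderOf x / d), Subgroup.npow_mem_zpowers _ _, orderOf_pow_orderOf_div (orderOf_pos x).ne' hd⟩

theorem zpowers_eq_of_orderOf_eq {x y : G} (h : y ∈ Subgroup.zpowers x) (ho : orderOf y = orderOf x) :
    x ∈ Subgroup.zpowers y := by
  rw [Subgroup.eq_of_le_of_card_ge (Subgroup.zpowers_le.mpr h)
    (by rw [Nat.card_zpowers, Nat.card_zpowers, ho])]
  exact Subgroup.mem_zpowers x

/-- In a cyclic group, divisibility of orders gives containment. -/
theorem mem_zpowers_of_dvd {k a b : G} (ha : a ∈ Subgroup.zpowers k) (hb : b ∈ Subgroup.zpowers k)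
    (hab : orderOf a ∣ orderOf b) : a ∈ Subgroup.zpowers b := by
  classical
  letI : Fintype (Subgroup.zpowers k) := Fintype.ofFinite _
  set T : Finset (Subgroup.zpowers k) := Finset.univ.filter (fun v => (v : G) ∈ Subgroup.zpowers b) with hT
  set S : Finset (Subgroup.zpowers k) := Finset.univ.filter (fun v => v ^ orderOf b = 1) with hS
  have hsub : T ⊆ S := by
    intro v hv
    rw [hT, Finset.mem_filter] at hv
    rw [hS, Finset.mem_filter]
    refine ⟨Finset.mem_univ _, Subtype.ext ?_⟩
    show (v : G) ^ orderOf b = 1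
    exact orderOf_dvd_iff_pow_eq_one.mp (orderOf_dvd_of_mem_zpowers hv.2)
  have hcard : T.card = orderOf b := by
    rw [hT, ← Fintype.card_subtype, ← Nat.card_eq_fintype_card, ← Nat.card_zpowers b]
    exact Nat.card_congr
      { toFun := fun v => ⟨v.1.1, v.2⟩
        invFun := fun v => ⟨⟨v.1, Subgroup.zpowers_le.mpr hb v.2⟩, v.2⟩
        left_inv := fun v => rfl
        right_inv := fun v => rfl }
  have heq := Finset.eq_of_subset_of_card_le hsub
    ((IsCyclic.card_pow_eq_one_le (orderOf_pos b)).trans hcard.ge)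
  have hmem : (⟨a, ha⟩ : Subgroup.zpowers k) ∈ T := by
    rw [heq, hS, Finset.mem_filter]
    exact ⟨Finset.mem_univ _, Subtype.ext (orderOf_dvd_iff_pow_eq_one.mp hab)⟩
  exact (Finset.mem_filter.mp hmem).2

/-- Inside a cyclic group of order not a prime power, a proper nontrivial element is not universal. -/
theorem exists_incomparable {x y : G} (hy : y ∈ Subgroup.zpowers x) (hy1 : y ≠ 1)
    (hlt : orderOf y ≠ orderOf x) (hnp : ¬ IsPrimePow (orderOf x)) :
    ∃ z ∈ Subgroup.zpowers x, ¬ Adj z y := by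
  set N := orderOf x
  set m := orderOf y
  have hmN : m ∣ N := orderOf_dvd_of_mem_zpowers hy
  have hm1 : m ≠ 1 := fun h => hy1 (orderOf_eq_one_iff.mp h)
  have hN0 : N ≠ 0 := (orderOf_pos x).ne'
  have hm0 : m ≠ 0 := (orderOf_pos y).ne'
  obtain ⟨p, hp, hpv⟩ : ∃ p, p.Prime ∧ m.factorization p < N.factorization p := by
    by_contra h
    push Not at h
    refine hlt (Nat.dvd_antisymm hmN ((Nat.factorization_le_iff_dvd hN0 hm0).mp fun p => ?_))
    by_cases hp : p.Prime
    · exact h p hp
    · simp [Nat.factorization_eq_zero_of_not_prime _ hp]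
  have key : ∀ r : ℕ, r.Prime → ¬ m ∣ r ^ N.factorization r → ¬ r ^ N.factorization r ∣ m →
      ∃ z ∈ Subgroup.zpowers x, ¬ Adj z y := by
    intro r _ h1 h2
    obtain ⟨z, hz, hzo⟩ := exists_order_of_dvd x (Nat.ordProj_dvd N r)
    exact ⟨z, hz, not_adj (by rw [hzo]; exact h2) (by rw [hzo]; exact h1)⟩
  have hpm : ¬ p ^ N.factorization p ∣ m := fun h =>
    absurd ((hp.pow_dvd_iff_le_factorization hm0).mp h) (not_le.mpr hpv)
  by_cases hmp : m ∣ p ^ N.factorization p
  · obtain ⟨a, -, ha⟩ := (Nat.dvd_prime_pow hp).mp hmp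
    have ha0 : a ≠ 0 := fun h => hm1 (by rw [ha, h, pow_zero])
    obtain ⟨r, hr, hrp, hrN⟩ : ∃ r, r.Prime ∧ r ≠ p ∧ r ∣ N := by
      by_contra h
      push Not at h
      refine hnp ⟨p, N.factorization p, hp.prime, Nat.pos_of_ne_zero ?_, ?_⟩
      · omega
      · refine (Nat.eq_of_factorization_eq hN0 (pow_ne_zero _ hp.ne_zero) fun r => ?_).symm
        rw [hp.factorization_pow, Finsupp.single_apply]
        by_cases hr : p = r
        · subst hr; simp
        · rw [if_neg hr]
          by_cases hr' : r.Prime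
          · exact Nat.factorization_eq_zero_of_not_dvd (h r hr' (Ne.symm hr))
          · exact Nat.factorization_eq_zero_of_not_prime _ hr'
    refine key r hr ?_ ?_
    · intro h
      rw [ha] at h
      exact hrp ((Nat.prime_dvd_prime_iff_eq hp hr).mp (hp.dvd_of_dvd_pow ((dvd_pow_self p ha0).trans h))).symm
    · intro h
      rw [ha] at h
      have h1 : r ∣ r ^ N.factorization r :=
        dvd_pow_self r (hr.factorization_pos_of_dvd hN0 hrN).ne'
      exact hrp ((Nat.prime_dvd_prime_iff_eq hr hp).mp (hr.dvd_of_dvd_pow (h1.trans h)))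
  · exact key p hp hmp hpm

/-- Elements with the same neighbours inside the cyclic group of `g`. -/
def twinsIn {G : Type*} [Group G] (g y : G) : Set G :=
  {v | v ∈ Subgroup.zpowers g ∧ ∀ z ∈ Subgroup.zpowers g, (Adj v z ↔ Adj y z)}

theorem ncard_orderOf (x : G) {d : ℕ} (hd : d ∣ orderOf x) :
    Set.ncard {v : G | v ∈ Subgroup.zpowers x ∧ orderOf v = d} = d.totient := by
  classical
  letI : Fintype (Subgroup.zpowers x) := Fintype.ofFinite _
  have h := IsCyclic.card_orderOf_eq_totient (α := Subgroup.zpowers x) (d := d)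
    (by rw [← Nat.card_eq_fintype_card, Nat.card_zpowers]; exact hd)
  rw [← h, ← Nat.card_coe_set_eq, ← Fintype.card_subtype, ← Nat.card_eq_fintype_card]
  exact Nat.card_congr
    { toFun := fun v => ⟨⟨v.1, v.2.1⟩, by rw [← Subgroup.orderOf_coe]; exact v.2.2⟩
      invFun := fun v => ⟨v.1.1, v.1.2, by rw [Subgroup.orderOf_coe]; exact v.2⟩
      left_inv := fun v => rfl
      right_inv := fun v => rfl }

/-- Small twin classes in a cyclic group of order not a prime power. -/
theorem small_twins {g y : G} (hn : ¬ IsPrimePow (orderOf g)) (hg1 : g ≠ 1) (hy : y ∈ Subgroup.zpowers g)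
    (hy1 : y ≠ 1) (hlt : orderOf y ≠ orderOf g) :
    (twinsIn g y).ncard < (orderOf g).totient ∨
      ∃ z ∈ Subgroup.zpowers g, z ≠ 1 ∧ orderOf z ≠ orderOf g ∧
        (twinsIn g z).ncard < (orderOf g).totient ∧ ¬ Adj z y := by
  classical
  set n := orderOf g with hndef
  have hn0 : n ≠ 0 := (orderOf_pos g).ne'
  have hn1 : n ≠ 1 := fun h => hg1 (orderOf_eq_one_iff.mp h)
  have hn2 : 3 ≤ n := by
    have h2 : n ≠ 2 := fun h => hn (h ▸ Nat.prime_two.isPrimePow)
    omega
  have hφ2 : 2 ≤ n.totient := by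
    have h1 := Nat.totient_pos.mpr (Nat.pos_of_ne_zero hn0)
    have := Nat.totient_even (n := n) (by omega)
    obtain ⟨c, hc⟩ := this
    omega
  -- members of a twin class
  have hmem : ∀ y ∈ Subgroup.zpowers g, y ≠ 1 → orderOf y ≠ n → ∀ v ∈ twinsIn g y,
      v ≠ 1 ∧ (¬ IsPrimePow (orderOf y) → orderOf v = orderOf y) ∧
        (∀ q i, q.Prime → orderOf y = q ^ i → ∃ j, orderOf v = q ^ j) := by
    intro y hy hy1 hlt v ⟨hv, hvy⟩
    have hv1 : v ≠ 1 := by
      rintro rfl
      obtain ⟨z, hz, hza⟩ := exists_incomparable hy hy1 hlt hn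
      exact hza ((hvy z hz).mp (adj_one z)).symm
    have hcomp : Adj v y := (hvy y hy).mpr (Or.inl (Subgroup.mem_zpowers y))
    have habove : ∀ a b : G, a ∈ Subgroup.zpowers g → b ∈ Subgroup.zpowers g → b ∈ Subgroup.zpowers a →
        b ≠ 1 → (∀ z ∈ Subgroup.zpowers g, Adj a z → Adj b z) → ¬ IsPrimePow (orderOf a) →
        orderOf b = orderOf a := by
      intro a b ha _ hba hb1 hab hna
      by_contra hne
      obtain ⟨z, hz, hzb⟩ := exists_incomparable hba hb1 hne hna
      exact hzb (hab z (adj_of_le hz ha) (Or.inr hz)).symm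
    refine ⟨hv1, fun hny => ?_, fun q i hq hqi => ?_⟩
    · rcases hcomp with h | h
      · exact habove y v hy hv h hv1 (fun z hz => (hvy z hz).mpr) hny
      · by_cases hpv : IsPrimePow (orderOf v)
        · obtain ⟨q, k, hq, -, hk⟩ := hpv
          have hq' : q.Prime := Nat.prime_iff.mpr hq
          have hd := orderOf_dvd_of_mem_zpowers h
          rw [← hk] at hd
          obtain ⟨j, -, hj⟩ := (Nat.dvd_prime_pow hq').mp hd
          refine absurd ⟨q, j, hq, Nat.pos_of_ne_zero fun hj0 => hy1 ?_, hj.symm⟩ hny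
          rw [hj0, pow_zero] at hj; exact orderOf_eq_one_iff.mp hj
        · exact (habove v y hv hy h hy1 (fun z hz => (hvy z hz).mp) hpv).symm
    · rcases hcomp with h | h
      · obtain ⟨j, -, hj⟩ := (Nat.dvd_prime_pow hq).mp (hqi ▸ orderOf_dvd_of_mem_zpowers h)
        exact ⟨j, hj⟩
      · by_cases hpv : IsPrimePow (orderOf v)
        · obtain ⟨r, k, hr, -, hk⟩ := hpv
          have hr' : r.Prime := Nat.prime_iff.mpr hr
          refine ⟨k, ?_⟩
          have hd := orderOf_dvd_of_mem_zpowers h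
          rw [hqi, ← hk] at hd
          rcases Nat.eq_zero_or_pos i with rfl | hi
          · exact absurd (orderOf_eq_one_iff.mp (by rw [hqi, pow_zero])) hy1
          rw [(Nat.prime_dvd_prime_iff_eq hq hr').mp (hq.dvd_of_dvd_pow ((dvd_pow_self q hi.ne').trans hd))]
          exact hk.symm
        · exact ⟨i, (habove v y hv hy h hy1 (fun z hz => (hvy z hz).mp) hpv).symm.trans hqi⟩
  -- bound for prime power orders
  have hbound : ∀ y ∈ Subgroup.zpowers g, y ≠ 1 → orderOf y ≠ n → ∀ q i, q.Prime → orderOf y = q ^ i →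
      (twinsIn g y).ncard ≤ q ^ n.factorization q - 1 := by
    intro y hy hy1 hlt q i hq hqi
    obtain ⟨a, ha, hao⟩ := exists_order_of_dvd g (Nat.ordProj_dvd n q)
    have hsub : twinsIn g y ⊆ (Subgroup.zpowers a : Set G) \ {1} := by
      intro v hv
      obtain ⟨hv1, -, hvq⟩ := hmem y hy hy1 hlt v hv
      obtain ⟨j, hj⟩ := hvq q i hq hqi
      refine ⟨?_, hv1⟩
      have hdvd : orderOf v ∣ q ^ n.factorization q := by
        rw [hj]
        refine pow_dvd_pow q ((hq.pow_dvd_iff_le_factorization hn0).mp ?_)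
        rw [← hj]; exact orderOf_dvd_of_mem_zpowers hv.1
      exact mem_zpowers_of_dvd hv.1 ha (hdvd.trans hao.symm.dvd)
    refine (Set.ncard_le_ncard hsub (Set.toFinite _)).trans (le_of_eq ?_)
    rw [Set.ncard_sdiff (by simp) (Set.toFinite _), Set.ncard_singleton, ← Nat.card_coe_set_eq]
    show Nat.card (Subgroup.zpowers a) - 1 = _
    rw [Nat.card_zpowers, hao]
  by_cases h : (twinsIn g y).ncard < n.totient
  · exact Or.inl h
  right
  -- then `n = 2 * odd` and `y` has odd order
  have hyn : orderOf y ∣ n := orderOf_dvd_of_mem_zpowers hy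
  obtain ⟨h2n, hyodd⟩ : 2 ∣ n ∧ ¬ 2 ∣ orderOf y ∧ n.factorization 2 = 1 := by
    by_cases hyp : IsPrimePow (orderOf y)
    · obtain ⟨q, i, hq, hi, hqi⟩ := hyp
      have hq' : q.Prime := Nat.prime_iff.mpr hq
      have hle := hbound y hy hy1 hlt q i hq' hqi.symm
      set b := n.factorization q
      set c := ordCompl[q] n with hc
      have hnbc : n = q ^ b * c := (Nat.ordProj_mul_ordCompl_eq_self n q).symm
      have hcop : Nat.Coprime (q ^ b) c :=
        Nat.Coprime.pow_left b (hq'.coprime_iff_not_dvd.mpr (Nat.not_dvd_ordCompl hq' hn0))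
      have hb : b ≠ 0 := by
        have : q ∣ n := (dvd_pow_self q hi.ne').trans ((dvd_of_eq hqi).trans hyn)
        exact (hq'.factorization_pos_of_dvd hn0 this).ne'
      have hc2 : c.totient ≤ 1 := by
        by_contra hc2
        refine h (lt_of_le_of_lt hle ?_)
        obtain ⟨b', hb'⟩ : ∃ b', b = b' + 1 := ⟨b - 1, by omega⟩
        rw [hnbc, Nat.totient_mul hcop, hb', Nat.totient_prime_pow_succ hq']
        have h1 : q ^ b' * (q - 1) * 2 ≤ q ^ b' * (q - 1) * c.totient := Nat.mul_le_mul_left _ (by omega)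
        have h2 : q ^ (b' + 1) ≤ q ^ b' * (q - 1) * 2 := by
          rw [pow_succ, mul_assoc]
          exact Nat.mul_le_mul_left _ (by have := hq'.two_le; omega)
        have h3 : 0 < q ^ (b' + 1) := pow_pos hq'.pos _
        omega
      have hc0 : c ≠ 0 := (Nat.ordCompl_pos q hn0).ne'
      have hc12 : c = 1 ∨ c = 2 := by
        have := Nat.totient_pos.mpr (Nat.pos_of_ne_zero hc0)
        exact Nat.totient_eq_one_iff.mp (by omega)
      rcases hc12 with hc1 | hc1
      · exact absurd ⟨q, b, hq, Nat.pos_of_ne_zero hb, by rw [hnbc, hc1, mul_one]⟩ hn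
      have hq2 : q ≠ 2 := by
        rintro rfl
        rw [hc1] at hcop
        exact absurd (Nat.Coprime.eq_one_of_dvd hcop.symm (dvd_pow_self 2 hb)) (by norm_num)
      have hodd : ∀ k, ¬ 2 ∣ q ^ k := fun k hd =>
        hq2 ((Nat.prime_dvd_prime_iff_eq Nat.prime_two hq').mp (Nat.prime_two.dvd_of_dvd_pow hd)).symm
      refine ⟨hnbc ▸ hc1 ▸ Dvd.intro_left _ rfl, hqi ▸ hodd i, ?_⟩
      rw [hnbc, hc1, Nat.factorization_mul (pow_ne_zero _ hq'.ne_zero) two_ne_zero, Finsupp.add_apply,
        Nat.factorization_eq_zero_of_not_dvd (hodd b), Nat.prime_two.factorization_self]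
    · have hsub : twinsIn g y ⊆ {v | v ∈ Subgroup.zpowers y ∧ orderOf v = orderOf y} := by
        intro v hv
        have ho := (hmem y hy hy1 hlt v hv).2.1 hyp
        refine ⟨?_, ho⟩
        rcases (hv.2 y hy).mpr (Or.inl (Subgroup.mem_zpowers y)) with h' | h'
        · exact h'
        · exact zpowers_eq_of_orderOf_eq h' ho.symm
      have hle : (twinsIn g y).ncard ≤ (orderOf y).totient :=
        (Set.ncard_le_ncard hsub (Set.toFinite _)).trans (ncard_orderOf y dvd_rfl).le
      set d := orderOf y with hd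
      have hdvd := Nat.totient_dvd_of_dvd hyn
      have heq : d.totient = n.totient :=
        le_antisymm (Nat.le_of_dvd (by omega) hdvd) (by omega)
      have hd0 : d ≠ 0 := (orderOf_pos y).ne'
      obtain ⟨k, hk⟩ := hyn
      have hk0 : k ≠ 0 := fun hk0 => hn0 (by rw [hk, hk0, mul_zero])
      have hsm := Nat.totient_super_multiplicative d k
      rw [← hk, ← heq] at hsm
      have hkφ : k.totient = 1 := le_antisymm
        (Nat.le_of_mul_le_mul_left (by rw [mul_one]; exact hsm) (Nat.totient_pos.mpr (Nat.pos_of_ne_zero hd0)))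
        (Nat.totient_pos.mpr (Nat.pos_of_ne_zero hk0))
      rcases Nat.totient_eq_one_iff.mp hkφ with hk1 | hk2
      · exact absurd (by rw [hk, hk1, mul_one]) hlt
      have hdodd : ¬ 2 ∣ d := fun h2 => by
        have h3 := Nat.totient_mul_of_prime_of_dvd Nat.prime_two h2
        rw [mul_comm, ← hk2, ← hk, ← heq, hk2] at h3
        have := Nat.totient_pos.mpr (Nat.pos_of_ne_zero hd0)
        omega
      refine ⟨hk ▸ hk2 ▸ Dvd.intro_left _ rfl, hdodd, ?_⟩
      rw [hk, hk2, Nat.factorization_mul hd0 two_ne_zero, Finsupp.add_apply,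
        Nat.factorization_eq_zero_of_not_dvd hdodd, Nat.prime_two.factorization_self]
  obtain ⟨hyodd, hv2⟩ := hyodd
  obtain ⟨z, hz, hzo⟩ := exists_order_of_dvd g h2n
  have hz1 : z ≠ 1 := fun h => by rw [h, orderOf_one] at hzo; norm_num at hzo
  have hzn : orderOf z ≠ n := by omega
  refine ⟨z, hz, hz1, hzn, ?_, not_adj (by rw [hzo]; exact hyodd) (fun hd => ?_)⟩
  · have := hbound z hz hz1 hzn 2 1 Nat.prime_two (by rw [hzo, pow_one])
    rw [hv2] at this
    omega
  · rw [hzo] at hd
    rcases (Nat.dvd_prime Nat.prime_two).mp hd with e | e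
    · exact hy1 (orderOf_eq_one_iff.mp e)
    · exact hyodd (e ▸ dvd_rfl)

/-- The image of a maximal cyclic subgroup of order not a prime power. -/
theorem orderOf_apply (e : G ≃ H) (he : ∀ x y : G, Adj x y ↔ Adj (e x) (e y)) {g : G}
    (hnp : ¬ IsPrimePow (orderOf g)) (hg1 : g ≠ 1) (hmax : ∀ x, Adj x g → x ∈ Subgroup.zpowers g) :
    ∃ h : H, orderOf h = orderOf g := by
  classical
  set n := orderOf g with hndef
  have hN : ∀ x, Adj x g ↔ x ∈ Subgroup.zpowers g := fun x => ⟨hmax x, Or.inl⟩
  set gens : Set G := {v | v ∈ Subgroup.zpowers g ∧ orderOf v = n} with hgens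
  have hgn : gens.ncard = n.totient := ncard_orderOf g dvd_rfl
  have hgenN : ∀ v ∈ gens, ∀ z, Adj z v ↔ Adj z g := by
    rintro v ⟨hv, hvo⟩ z
    have h1 := zpowers_eq_of_orderOf_eq hv hvo
    have heq : Subgroup.zpowers v = Subgroup.zpowers g :=
      le_antisymm (Subgroup.zpowers_le.mpr hv) (Subgroup.zpowers_le.mpr h1)
    unfold Adj
    rw [heq]
    constructor
    · rintro (h | h)
      · exact Or.inl h
      · exact Or.inr (Subgroup.zpowers_le.mpr h h1)
    · rintro (h | h)
      · exact Or.inl h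
      · exact Or.inr (Subgroup.zpowers_le.mpr h hv)
  set UG : Set G := insert 1 gens with hUG
  have hUG' : ∀ y, (y ∈ Subgroup.zpowers g ∧ ∀ z ∈ Subgroup.zpowers g, Adj z y) ↔ y ∈ UG := by
    intro y
    constructor
    · rintro ⟨hy, hall⟩
      by_cases hy1 : y = 1
      · exact Or.inl hy1
      by_cases hlt : orderOf y = n
      · exact Or.inr ⟨hy, hlt⟩
      obtain ⟨z, hz, hzy⟩ := exists_incomparable hy hy1 hlt hnp
      exact absurd (hall z hz) hzy
    · rintro (rfl | hy)
      · exact ⟨one_mem _, fun z _ => (adj_one z).symm⟩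
      · exact ⟨hy.1, fun z hz => (hgenN y hy z).mpr (Or.inl hz)⟩
  -- twins of `e g`
  have htwin : ∀ v ∈ UG, e v = 1 ∨ ∀ z, Adj z (e v) ↔ Adj z (e g) := by
    intro v hv
    rcases hv with rfl | hv
    · rcases Classical.em (e 1 = 1) with h | h
      · exact Or.inl h
      right
      intro z
      have hu : ∀ z, Adj z (e 1) := fun z => by
        obtain ⟨z, rfl⟩ := e.surjective z
        exact (he z 1).mp (adj_one z).symm
      -- `1` is the image of a generator
      have hpre : e.symm 1 ∈ UG := by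
        rw [← hUG']
        refine ⟨hmax _ ?_, fun w hw => ?_⟩
        · rw [he, e.apply_symm_apply]; exact adj_one _
        · rw [he, e.apply_symm_apply]; exact (adj_one _).symm
      have hgen : e.symm 1 ∈ gens := hpre.resolve_left fun h1 => h (by rw [← h1, e.apply_symm_apply])
      have hgu : Adj z (e g) := by
        obtain ⟨z, rfl⟩ := e.surjective z
        rw [← he]
        refine (hgenN _ hgen z).mp ?_
        rw [he, e.apply_symm_apply]; exact (adj_one _).symm
      exact ⟨fun _ => hgu, fun _ => hu z⟩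
    · right
      intro z
      obtain ⟨z, rfl⟩ := e.surjective z
      rw [← he, ← he]
      exact hgenN v hv z
  set U : Set H := e '' UG with hU
  have hUcard : U.ncard = n.totient + 1 := by
    rw [hU, Set.ncard_image_of_injective _ e.injective, hUG, Set.ncard_insert_of_notMem ?_ (Set.toFinite _), hgn]
    exact fun h1 => hg1 (orderOf_eq_one_iff.mp (h1.2.symm.trans orderOf_one))
  have hUchar : ∀ w, Adj w (e g) → (∀ z, Adj z (e g) → Adj z w) → w ∈ U := by
    intro w hw hall
    refine ⟨e.symm w, (hUG' _).mp ⟨hmax _ (by rw [he, e.apply_symm_apply]; exact hw), fun z hz => ?_⟩,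
      e.apply_symm_apply w⟩
    rw [he, e.apply_symm_apply]
    exact hall _ ((he z g).mp (Or.inl hz))
  have hUadj : ∀ w ∈ U, Adj w (e g) ∧ ∀ z, Adj z (e g) → Adj z w := by
    rintro _ ⟨v, hv, rfl⟩
    obtain ⟨hv1, hv2⟩ := (hUG' v).mpr hv
    refine ⟨(he v g).mp (Or.inl hv1), fun z hz => ?_⟩
    obtain ⟨z, rfl⟩ := e.surjective z
    exact (he z v).mp (hv2 z (hmax z ((he z g).mpr hz)))
  have h1U : (1 : H) ∈ U := hUchar 1 (adj_one _) fun z _ => (adj_one z).symm
  -- small elements
  have hsmall : ∀ y ∈ Subgroup.zpowers g, (twinsIn g y).ncard < n.totient →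
      (orderOf (e y)).totient < n.totient := by
    intro y hy h
    refine lt_of_le_of_lt ?_ h
    rw [← ncard_orderOf (e y) dvd_rfl]
    refine (Set.ncard_le_ncard (t := e '' twinsIn g y) ?_ (Set.toFinite _)).trans
      (Set.ncard_image_le (Set.toFinite _))
    rintro w ⟨hw, hwo⟩
    have h1 := zpowers_eq_of_orderOf_eq hw hwo
    have heq : Subgroup.zpowers w = Subgroup.zpowers (e y) :=
      le_antisymm (Subgroup.zpowers_le.mpr hw) (Subgroup.zpowers_le.mpr h1)
    have htw : ∀ z, Adj w z ↔ Adj (e y) z := fun z => by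
      unfold Adj
      rw [heq]
      refine or_congr ⟨fun h' => ?_, fun h' => ?_⟩ Iff.rfl
      · exact Subgroup.zpowers_le.mpr h' h1
      · exact Subgroup.zpowers_le.mpr h' hw
    refine ⟨e.symm w, ⟨hmax _ ?_, fun z _ => ?_⟩, e.apply_symm_apply w⟩
    · rw [he, e.apply_symm_apply, htw, ← he]; exact Or.inl hy
    · rw [he, e.apply_symm_apply, htw, ← he]
  -- a small element exists
  obtain ⟨y0, hy0, hy01, hy0n, hy0s⟩ : ∃ y ∈ Subgroup.zpowers g, y ≠ 1 ∧ orderOf y ≠ n ∧
      (twinsIn g y).ncard < n.totient := by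
    obtain ⟨p, hp, hpn⟩ := Nat.exists_prime_and_dvd (n := n) fun h => hg1 (orderOf_eq_one_iff.mp h)
    obtain ⟨y, hy, hyo⟩ := exists_order_of_dvd g hpn
    have hy1 : y ≠ 1 := fun h => hp.ne_one (by rw [← hyo, h, orderOf_one])
    have hyn : orderOf y ≠ n := fun h => hnp (by show IsPrimePow n; rw [← h, hyo]; exact hp.isPrimePow)
    rcases small_twins hnp hg1 hy hy1 hyn with h | ⟨z, hz, hz1, hzn, hzs, -⟩
    · exact ⟨y, hy, hy1, hyn, h⟩
    · exact ⟨z, hz, hz1, hzn, hzs⟩
  have hnotU : ∀ y, y ≠ 1 → orderOf y ≠ n → e y ∉ U := by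
    rintro y h1 h2 ⟨v, hv, hvy⟩
    rw [e.injective hvy] at hv
    rcases hv with hv | hv
    · exact h1 hv
    · exact h2 hv.2
  set h := e g with hh
  have hhU : h ∈ U := ⟨g, Or.inr ⟨Subgroup.mem_zpowers g, rfl⟩, rfl⟩
  obtain ⟨k, hk, hk1, hkmax⟩ : ∃ k ∈ U, k ≠ 1 ∧ ∀ w ∈ U, orderOf w ≤ orderOf k := by
    obtain ⟨k, hk, hkmax⟩ := Set.exists_max_image U orderOf (Set.toFinite _) ⟨1, h1U⟩
    refine ⟨k, hk, fun h1 => ?_, hkmax⟩
    have : U ⊆ {1} := fun w hw => by
      have := hkmax w hw
      rw [h1, orderOf_one] at this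
      exact orderOf_eq_one_iff.mp (le_antisymm this (orderOf_pos w))
    have h2 := Set.ncard_le_ncard this (Set.toFinite _)
    rw [hUcard, Set.ncard_singleton] at h2
    have := Nat.totient_pos.mpr (orderOf_pos g)
    omega
  have hktwin : ∀ z, Adj z k ↔ Adj z h := by
    obtain ⟨v, hv, rfl⟩ := hk
    exact (htwin v hv).resolve_left hk1
  have hUk : U ⊆ (Subgroup.zpowers k : Set H) := fun w hw => by
    obtain ⟨hw1, -⟩ := hUadj w hw
    rcases (hktwin w).mpr hw1 with h' | h'
    · exact h'
    · have h2 := Nat.le_of_dvd (orderOf_pos w) (orderOf_dvd_of_mem_zpowers h')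
      exact zpowers_eq_of_orderOf_eq h' (le_antisymm h2 (hkmax w hw))
  by_cases hkp : IsPrimePow (orderOf k)
  · exfalso
    obtain ⟨p, s, hp, hs, hps⟩ := hkp
    have hp' : p.Prime := Nat.prime_iff.mpr hp
    have hkU : (Subgroup.zpowers k : Set H) ⊆ U := by
      intro w hw
      refine hUchar w ((hktwin w).mp (Or.inl hw)) fun z hz => ?_
      rcases (hktwin z).mpr hz with h' | h'
      · -- two elements of a cyclic `p`-group
        obtain ⟨i, -, hi⟩ := (Nat.dvd_prime_pow hp').mp ((orderOf_dvd_of_mem_zpowers h').trans hps.symm.dvd)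
        obtain ⟨j, -, hj⟩ := (Nat.dvd_prime_pow hp').mp ((orderOf_dvd_of_mem_zpowers hw).trans hps.symm.dvd)
        have key : ∀ a b : H, a ∈ Subgroup.zpowers k → b ∈ Subgroup.zpowers k → orderOf a ∣ orderOf b →
            a ∈ Subgroup.zpowers b := fun a b => mem_zpowers_of_dvd
        rcases le_total i j with hij | hij
        · exact Or.inl (key z w h' hw (by rw [hi, hj]; exact pow_dvd_pow p hij))
        · exact Or.inr (key w z hw h' (by rw [hi, hj]; exact pow_dvd_pow p hij))
      · exact Or.inr (adj_of_le hw h')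
    have hM : orderOf k = n.totient + 1 := by
      rw [← hUcard, Set.Subset.antisymm hUk hkU, ← Nat.card_coe_set_eq]
      exact (Nat.card_zpowers k).symm
    -- every other neighbour has a large class
    have hw := hnotU y0 hy01 hy0n
    set w := e y0
    have hwadj : Adj w k := (hktwin w).mpr ((he y0 g).mp (Or.inl hy0))
    rcases hwadj with h' | h'
    · exact hw (hkU h')
    have hne : orderOf w ≠ orderOf k := fun heq =>
      hw (hkU (zpowers_eq_of_orderOf_eq h' heq.symm))
    have hlt : (orderOf w).totient < n.totient := hsmall y0 hy0 hy0s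
    have hdvd : orderOf k ∣ orderOf w := orderOf_dvd_of_mem_zpowers h'
    by_cases hs1 : s = 1
    · have h1 := Nat.le_of_dvd (Nat.totient_pos.mpr (orderOf_pos w)) (Nat.totient_dvd_of_dvd hdvd)
      rw [← hps, hs1, pow_one, Nat.totient_prime hp'] at h1
      rw [← hps, hs1, pow_one] at hM
      omega
    · -- `w` is a `p`-element
      obtain ⟨t, ht⟩ : ∃ t, orderOf w = p ^ t := by
        refine ⟨_, Nat.eq_prime_pow_of_unique_prime_dvd (orderOf_pos w).ne' fun {r} hr hrd => ?_⟩
        by_contra hrp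
        obtain ⟨a, ha, hao⟩ := exists_order_of_dvd k (show p ∣ orderOf k from hps ▸ dvd_pow_self p hs.ne')
        have hpw : p ∣ orderOf w := (hps ▸ dvd_pow_self p hs.ne' : p ∣ orderOf k).trans hdvd
        obtain ⟨v, hv, hvo⟩ := exists_order_of_dvd w
          (Nat.Coprime.mul_dvd_of_dvd_of_dvd ((Nat.coprime_primes hp' hr).mpr (Ne.symm hrp)) hpw hrd)
        -- the element of order `p` below `k` is a twin of `k`
        have haU : a ∈ U := hkU ha
        obtain ⟨v', hv', rfl⟩ := haU
        have htw := (htwin v' hv').resolve_left fun h1 => hp'.ne_one (by rw [← hao, h1, orderOf_one])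
        have hav : Adj v (e v') :=
          Or.inr (mem_zpowers_of_dvd (adj_of_le ha h') hv (by rw [hao, hvo]; exact Dvd.intro r rfl))
        have hvk : Adj v k := (hktwin v).mpr ((htw v).mp hav)
        refine not_adj ?_ ?_ hvk
        · rw [hvo, ← hps]
          intro hd
          exact hrp ((Nat.prime_dvd_prime_iff_eq hr hp').mp (hr.dvd_of_dvd_pow ((Dvd.intro_left p rfl).trans hd)))
        · rw [hvo, ← hps]
          intro hd
          have h2 : p ^ 2 ∣ p * r := (pow_dvd_pow p (by omega)).trans hd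
          rw [pow_two] at h2
          exact hrp ((Nat.prime_dvd_prime_iff_eq hp' hr).mp (Nat.dvd_of_mul_dvd_mul_left hp'.pos h2)).symm
      have hst : s < t := by
        rw [← hps, ht] at hdvd
        have h1 := (Nat.pow_dvd_pow_iff_le_right hp'.one_lt).mp hdvd
        exact lt_of_le_of_ne h1 fun h2 => hne (by rw [ht, ← hps, h2])
      rw [ht] at hlt
      obtain ⟨t', rfl⟩ : ∃ t', t = t' + 1 := ⟨t - 1, by omega⟩
      rw [Nat.totient_prime_pow_succ hp'] at hlt
      have h1 : p ^ s ≤ p ^ t' * (p - 1) :=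
        (Nat.pow_le_pow_right hp'.pos (by omega)).trans (Nat.le_mul_of_pos_right _ (by have := hp'.two_le; omega))
      rw [← hps] at hM
      omega
  · -- the nonprime power case
    have hgenU : ∀ w ∈ U, w ≠ 1 → orderOf w = orderOf k := by
      intro w hw hw1
      by_contra hne
      obtain ⟨z, hz, hzw⟩ := exists_incomparable (hUk hw) hw1 hne hkp
      exact hzw ((hUadj w hw).2 z ((hktwin z).mp (Or.inl hz)))
    have hUeq : U = insert 1 {v | v ∈ Subgroup.zpowers k ∧ orderOf v = orderOf k} := by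
      refine Set.Subset.antisymm (fun w hw => ?_) ?_
      · by_cases hw1 : w = 1
        · exact Or.inl hw1
        · exact Or.inr ⟨hUk hw, hgenU w hw hw1⟩
      · rintro w (rfl | ⟨hwk, hwo⟩)
        · exact h1U
        · have h' := zpowers_eq_of_orderOf_eq hwk hwo
          refine hUchar w ((hktwin w).mp (Or.inl hwk)) fun z hz => ?_
          rcases (hktwin z).mpr hz with hz' | hz'
          · exact Or.inl (adj_of_le hz' h')
          · exact Or.inr (adj_of_le hwk hz')
    have hφ : (orderOf k).totient = n.totient := by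
      have h1 := hUcard
      rw [hUeq, Set.ncard_insert_of_notMem ?_ (Set.toFinite _), ncard_orderOf k dvd_rfl] at h1
      · omega
      · exact fun h1 => hk1 (orderOf_eq_one_iff.mp (h1.2.symm.trans orderOf_one))
    have hbelow : ∀ y ∈ Subgroup.zpowers g, y ≠ 1 → orderOf y ≠ n →
        (twinsIn g y).ncard < n.totient → e y ∈ Subgroup.zpowers k := by
      intro y hy hy1 hyn hys
      rcases (hktwin _).mpr ((he y g).mp (Or.inl hy)) with h' | h'
      · exact h'
      · have := Nat.le_of_dvd (Nat.totient_pos.mpr (orderOf_pos _))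
          (Nat.totient_dvd_of_dvd (orderOf_dvd_of_mem_zpowers h'))
        have := hsmall y hy hys
        omega
    have hall : ∀ w, Adj w h → w ∈ Subgroup.zpowers k := by
      intro w hw
      obtain ⟨y, rfl⟩ := e.surjective w
      have hy : y ∈ Subgroup.zpowers g := hmax y ((he y g).mpr hw)
      by_cases hyU : e y ∈ U
      · exact hUk hyU
      have hy1 : y ≠ 1 := fun h1 => hyU ⟨1, Or.inl rfl, by rw [h1]⟩
      have hyn : orderOf y ≠ n := fun h1 => hyU ⟨y, Or.inr ⟨hy, h1⟩, rfl⟩
      rcases small_twins hnp hg1 hy hy1 hyn with hs' | ⟨z, hz, hz1, hzn, hzs, hzy⟩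
      · exact hbelow y hy hy1 hyn hs'
      · rcases (hktwin _).mpr hw with h' | h'
        · exact h'
        · exact absurd ((he z y).mpr (Or.inl (adj_of_le (hbelow z hz hz1 hzn hzs) h'))) hzy
    refine ⟨k, ?_⟩
    have himg : e '' (Subgroup.zpowers g : Set G) = (Subgroup.zpowers k : Set H) := by
      refine Set.Subset.antisymm ?_ fun w hw => ?_
      · rintro _ ⟨y, hy, rfl⟩; exact hall _ ((he y g).mp (Or.inl hy))
      · refine ⟨e.symm w, hmax _ ?_, e.apply_symm_apply w⟩
        rw [he, e.apply_symm_apply]; exact (hktwin w).mp (Or.inl hw)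
    rw [hndef, ← Nat.card_zpowers, ← Nat.card_zpowers g]
    show Nat.card (Subgroup.zpowers k : Set H) = Nat.card (Subgroup.zpowers g : Set G)
    rw [← himg, Nat.card_coe_set_eq, Nat.card_coe_set_eq, Set.ncard_image_of_injective _ e.injective]

theorem transfer (e : G ≃ H) (he : ∀ x y : G, Adj x y ↔ Adj (e x) (e y)) {p q : ℕ} (hp : p.Prime)
    (hq : q.Prime) (hpq : p ≠ q) {g0 : G} (hg0 : orderOf g0 = p * q) : ∃ h : H, orderOf h = p * q := by
  obtain ⟨g, hgg, hgmax⟩ := Set.exists_max_image {x : G | g0 ∈ Subgroup.zpowers x} orderOf (Set.toFinite _)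
    ⟨g0, Subgroup.mem_zpowers g0⟩
  have hdvd : p * q ∣ orderOf g := hg0 ▸ orderOf_dvd_of_mem_zpowers hgg
  have hg1 : g ≠ 1 := fun h => by
    rw [h, orderOf_one, Nat.dvd_one] at hdvd
    exact hp.ne_one (Nat.eq_one_of_mul_eq_one_right hdvd)
  have hnp : ¬ IsPrimePow (orderOf g) := by
    rintro ⟨r, k, hr, -, hk⟩
    have hr' : r.Prime := Nat.prime_iff.mpr hr
    have h1 := (Nat.prime_dvd_prime_iff_eq hp hr').mp
      (hp.dvd_of_dvd_pow (((Dvd.intro q rfl).trans hdvd).trans hk.symm.dvd))
    have h2 := (Nat.prime_dvd_prime_iff_eq hq hr').mp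
      (hq.dvd_of_dvd_pow (((Dvd.intro_left p rfl).trans hdvd).trans hk.symm.dvd))
    exact hpq (h1.trans h2.symm)
  obtain ⟨h, hh⟩ := orderOf_apply e he hnp hg1 (fun x hx => by
    rcases hx with h | h
    · exact h
    · have h2 := hgmax x (adj_of_le hgg h)
      have h3 := Nat.le_of_dvd (orderOf_pos x) (orderOf_dvd_of_mem_zpowers h)
      exact zpowers_eq_of_orderOf_eq h (le_antisymm h3 h2))
  obtain ⟨z, -, hz⟩ := exists_order_of_dvd h (hh.symm ▸ hdvd)
  exact ⟨z, hz⟩

end

/-- Let G and H be finite groups whose power graphs are isomorphic: there is a bijection e : G → H such that, for all x, y, one of x, y is a power of the other exactly when one of e(x), e(y) is a power of the other. Then G and H have the same prime graph: for distinct primes p, q, G has an element of order pq if and only if H does. -/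
theorem result {G H : Type*} [Group G] [Finite G] [Group H] [Finite H] (e : G ≃ H)
    (he : ∀ x y : G, (x ∈ Subgroup.zpowers y ∨ y ∈ Subgroup.zpowers x) ↔
      (e x ∈ Subgroup.zpowers (e y) ∨ e y ∈ Subgroup.zpowers (e x)))
    {p q : ℕ} (hp : p.Prime) (hq : q.Prime) (hpq : p ≠ q) :
    (∃ g : G, orderOf g = p * q) ↔ (∃ h : H, orderOf h = p * q) := by
  constructor
  · rintro ⟨g, hg⟩
    exact transfer e he hp hq hpq hg
  · rintro ⟨h, hh⟩
    refine transfer e.symm (fun x y => ?_) hp hq hpq hh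
    have h' := he (e.symm x) (e.symm y)
    rw [e.apply_symm_apply, e.apply_symm_apply] at h'
    exact h'.symm

end Cfsg.Agent.S4085
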