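import Cfsg.Statements.S4086
import Cfsg.Agent.FGS77.Basic

set_option autoImplicit false
open Cfsg
open scoped commutatorElement

namespace Cfsg.Agent.S4086

/-- For a finite group G the following are equivalent: every non-identity element has prime-power order; whenever two elements generate a cyclic subgroup, one of them is a power of the other (the enhanced power graph of G coincides with its power graph). -/
theorem result {G : Type*} [Group G] [Finite G] :
    (∀ g : G, g ≠ 1 → IsPrimePow (orderOf g)) ↔
    (∀ x y : G, IsCyclic ↥(Subgroup.closure ({x, y} : Set G)) → (x ∈ Subgroup.zpowers y ∨ y ∈ Subgroup.zpowers x)) := by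
  classical
  constructor
  · intro h x y hc
    set C := Subgroup.closure ({x, y} : Set G) with hC
    obtain ⟨z, hz⟩ := IsCyclic.exists_zpow_surjective (G := C)
    have hxC : x ∈ C := Subgroup.subset_closure (by simp)
    have hyC : y ∈ C := Subgroup.subset_closure (by simp)
    suffices ∀ a b : C, orderOf a ∣ orderOf b → a ∈ Subgroup.zpowers b by
      have hord : orderOf (⟨x, hxC⟩ : C) ∣ orderOf (⟨y, hyC⟩ : C) ∨
          orderOf (⟨y, hyC⟩ : C) ∣ orderOf (⟨x, hxC⟩ : C) := by
        by_cases hz1 : (z : G) = 1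
        · left
          have : ∀ a : C, a = 1 := fun a => by
            obtain ⟨k, rfl⟩ := hz a
            show z ^ k = 1
            rw [show z = 1 from Subtype.ext hz1, one_zpow]
          rw [this ⟨x, hxC⟩, this ⟨y, hyC⟩]
        · obtain ⟨r, k, hr, -, hk⟩ := h _ hz1
          have hd : ∀ a : C, orderOf a ∣ r ^ k := fun a => by
            obtain ⟨j, rfl⟩ := hz a
            rw [hk, Subgroup.orderOf_coe]
            exact orderOf_dvd_of_mem_zpowers ⟨j, rfl⟩
          obtain ⟨i, -, hi⟩ := (Nat.dvd_prime_pow hr.nat_prime).mp (hd ⟨x, hxC⟩)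
          obtain ⟨j, -, hj⟩ := (Nat.dvd_prime_pow hr.nat_prime).mp (hd ⟨y, hyC⟩)
          rw [hi, hj]
          rcases le_total i j with hij | hij
          · exact Or.inl (pow_dvd_pow r hij)
          · exact Or.inr (pow_dvd_pow r hij)
      rcases hord with h1 | h1
      · obtain ⟨k, hk⟩ := this _ _ h1
        exact Or.inl ⟨k, congrArg Subtype.val hk⟩
      · obtain ⟨k, hk⟩ := this _ _ h1
        exact Or.inr ⟨k, congrArg Subtype.val hk⟩
    intro a b hab
    haveI : Fintype C := Fintype.ofFinite C
    by_contra ha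
    have hsub : insert a (Finset.univ.filter fun c => c ∈ Subgroup.zpowers b) ⊆
        Finset.univ.filter fun c : C => c ^ orderOf b = 1 := by
      intro c hc
      simp only [Finset.mem_insert, Finset.mem_filter, Finset.mem_univ, true_and] at hc ⊢
      rcases hc with rfl | ⟨k, rfl⟩
      · exact orderOf_dvd_iff_pow_eq_one.mp hab
      · rw [← zpow_natCast, ← zpow_mul, mul_comm, zpow_mul, zpow_natCast, pow_orderOf_eq_one, one_zpow]
    have h1 := (Finset.card_le_card hsub).trans (IsCyclic.card_pow_eq_one_le (orderOf_pos b))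
    rw [Finset.card_insert_of_notMem (by simpa using ha)] at h1
    have h2 : (Finset.univ.filter fun c => c ∈ Subgroup.zpowers b).card = orderOf b := by
      rw [← Fintype.card_subtype, ← Nat.card_eq_fintype_card]
      exact Nat.card_zpowers b
    omega
  · intro h g hg
    by_contra hnp
    have hn1 : orderOf g ≠ 1 := by rwa [ne_eq, orderOf_eq_one_iff]
    obtain ⟨p, hp, hpd⟩ := Nat.exists_prime_and_dvd hn1
    obtain ⟨q, hq, hqd, hqp⟩ : ∃ q, q.Prime ∧ q ∣ orderOf g ∧ q ≠ p := by
      by_contra hcon
      push Not at hcon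
      exact hnp (isPrimePow_iff_unique_prime_dvd.mpr ⟨p, ⟨hp, hpd⟩, fun q hq => hcon q hq.1 hq.2⟩)
    have hcyc : IsCyclic ↥(Subgroup.closure
        ({g ^ (orderOf g / p), g ^ (orderOf g / q)} : Set G)) := by
      refine Subgroup.isCyclic_of_le (?_ : _ ≤ Subgroup.zpowers g)
      rw [Subgroup.closure_le]
      rintro _ (rfl | rfl) <;> exact Subgroup.pow_mem _ (Subgroup.mem_zpowers g) _
    have ho : ∀ r : ℕ, r.Prime → r ∣ orderOf g → orderOf (g ^ (orderOf g / r)) = r := fun r hr hrd => by
      rw [orderOf_pow_of_dvd (Nat.div_pos (Nat.le_of_dvd (orderOf_pos g) hrd) hr.pos).ne'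
        (Nat.div_dvd_of_dvd hrd), Nat.div_div_self hrd (orderOf_pos g).ne']
    rcases h _ _ hcyc with hxy | hxy
    · have := orderOf_dvd_of_mem_zpowers hxy
      rw [ho p hp hpd, ho q hq hqd] at this
      exact hqp ((Nat.prime_dvd_prime_iff_eq hp hq).mp this).symm
    · have := orderOf_dvd_of_mem_zpowers hxy
      rw [ho p hp hpd, ho q hq hqd] at this
      exact hqp ((Nat.prime_dvd_prime_iff_eq hq hp).mp this)

end Cfsg.Agent.S4086
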