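import Cfsg.Statements.S4089
import Cfsg.Agent.SolvableStructure.Zipper
import Cfsg.Agent.Lib.Thompson.Cores
import Cfsg.Agent.Lib.Solvable.Conj

set_option autoImplicit false
open Cfsg

namespace Cfsg.Agent.S4089

open Subgroup
open scoped Pointwise

variable {G : Type*} [Group G] [Finite G] {p : ℕ} [Fact p.Prime]

theorem mem_normalizer_of_conj {R : Subgroup G} {g : G} (h : ∀ x ∈ R, g * x * g⁻¹ ∈ R) :
    g ∈ normalizer (R : Set G) := by
  have hle : MulAut.conj g • R ≤ R := by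
    rintro _ ⟨x, hx, rfl⟩; exact h x hx
  have := Cfsg.Agent.Solvable.eq_of_le_of_card_le hle (Cfsg.Agent.Solvable.card_conj_smul g R).ge
  rw [mem_normalizer_iff'']
  intro y
  rw [← Cfsg.Agent.Solvable.mem_conj_smul, this]

theorem isSubnormal_iff_exists {H : Subgroup G} (hH : IsPGroup p H) (g : G) :
    (H.subgroupOf (H ⊔ zpowers g)).IsSubnormal ↔
      ∃ R : Subgroup G, IsPGroup p R ∧ H ≤ R ∧ g ∈ normalizer (R : Set G) := by
  set K := H ⊔ zpowers g with hKdef
  have hHK : H ≤ K := le_sup_left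
  have hgK : g ∈ K := le_sup_right (a := H) (mem_zpowers g)
  constructor
  · intro h
    have hle := Cfsg.Agent.Thompson.le_pCore_of_isSubnormal (p := p) h
      (hH.comap_of_injective K.subtype K.subtype_injective)
    refine ⟨(Cfsg.pCore p K).map K.subtype, (Cfsg.Agent.Thompson.isPGroup_pCore).map _,
      fun x hx => ⟨⟨x, hHK hx⟩, hle hx, rfl⟩, mem_normalizer_of_conj ?_⟩
    rintro _ ⟨y, hy, rfl⟩
    exact ⟨⟨g, hgK⟩ * y * ⟨g, hgK⟩⁻¹, Normal.conj_mem inferInstance y hy _, rfl⟩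
  · rintro ⟨R, hR, hHR, hg⟩
    have hKN : K ≤ normalizer (R : Set G) :=
      sup_le (hHR.trans le_normalizer) (zpowers_le.2 hg)
    haveI : (R.subgroupOf K).Normal := ⟨fun r hr k =>
      (mem_normalizer_iff.1 (hKN k.2) r).1 hr⟩
    have hR' : IsPGroup p (R.subgroupOf K) := hR.comap_of_injective K.subtype K.subtype_injective
    haveI := hR'.isNilpotent
    exact IsSubnormal.trans (subgroupOf_mono hHR)
      (Cfsg.Agent.SolvableStructure.isSubnormal_of_isNilpotent _)
      (Normal.isSubnormal inferInstance)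
where
  subgroupOf_mono {A B K : Subgroup G} (h : A ≤ B) : A.subgroupOf K ≤ B.subgroupOf K :=
    fun _ hx => h hx

/-- The intersection of the Sylow `p`-subgroups containing `A`. -/
def sylowMeet (p : ℕ) (A : Subgroup G) : Subgroup G :=
  sInf {K : Subgroup G | ∃ Q : Sylow p G, A ≤ (Q : Subgroup G) ∧ K = (Q : Subgroup G)}

theorem le_sylowMeet (A : Subgroup G) : A ≤ sylowMeet p A :=
  le_sInf fun _ ⟨_, h, hK⟩ => hK ▸ h

theorem isPGroup_sylowMeet {A : Subgroup G} (hA : IsPGroup p A) :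
    IsPGroup p (sylowMeet p A) := by
  obtain ⟨Q, hQ⟩ := hA.exists_le_sylow
  exact Q.isPGroup'.to_le (sInf_le ⟨Q, hQ, rfl⟩)

theorem sylowMeet_mono {A B : Subgroup G} (h : A ≤ B) : sylowMeet p A ≤ sylowMeet p B :=
  le_sInf fun _ ⟨Q, hQ, hK⟩ => sInf_le ⟨Q, h.trans hQ, hK⟩

theorem mem_normalizer_sylowMeet {R : Subgroup G} {g : G} (hg : g ∈ normalizer (R : Set G)) :
    g ∈ normalizer (sylowMeet p R : Set G) := by
  refine mem_normalizer_of_conj fun x hx => ?_
  simp only [sylowMeet, mem_sInf, Set.mem_setOf_eq] at hx ⊢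
  rintro _ ⟨Q, hQ, rfl⟩
  have hR : R ≤ ((g⁻¹ • Q : Sylow p G) : Subgroup G) := fun r hr => by
    rw [Sylow.coe_subgroup_smul]
    refine Cfsg.Agent.Solvable.mem_conj_smul.2 ?_
    simpa using hQ ((mem_normalizer_iff.1 hg r).1 hr)
  have := hx _ ⟨g⁻¹ • Q, hR, rfl⟩
  rw [Sylow.coe_subgroup_smul] at this
  simpa using Cfsg.Agent.Solvable.mem_conj_smul.1 this

theorem main_aux (p : ℕ) [Fact p.Prime] (H : Subgroup G) (hH : IsPGroup p H) :
    {g : G | ((H).subgroupOf (H ⊔ Subgroup.zpowers g)).IsSubnormal} =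
      {g : G | ∃ R : Subgroup G, H ≤ R ∧ (Cfsg.pCore p (Subgroup.normalizer (R : Set G))).map (Subgroup.normalizer (R : Set G)).subtype = R ∧ g ∈ Subgroup.normalizer (R : Set G)} ∧
    ∀ g : G, (((H).subgroupOf (H ⊔ Subgroup.zpowers g)).IsSubnormal ↔
      ((sylowMeet p H).subgroupOf (sylowMeet p H ⊔ Subgroup.zpowers g)).IsSubnormal) := by
  constructor
  · ext g
    simp only [Set.mem_setOf_eq]
    rw [isSubnormal_iff_exists hH]
    constructor
    · rintro ⟨R₀, hR₀, hHR₀, hg₀⟩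
      obtain ⟨R, hle, ⟨hR, hg⟩, hmax⟩ := Finite.exists_le_maximal
        (p := fun R : Subgroup G => IsPGroup p R ∧ g ∈ normalizer (R : Set G))
        (a := R₀) ⟨hR₀, hg₀⟩
      refine ⟨R, hHR₀.trans hle, ?_, hg⟩
      set N := normalizer (R : Set G) with hN
      have hRn : (R.subgroupOf N).Normal := ⟨fun r hr k =>
        (mem_normalizer_iff.1 k.2 r).1 hr⟩
      have h1 : R ≤ (Cfsg.pCore p N).map N.subtype := fun x hx => by
        refine ⟨⟨x, le_normalizer hx⟩, Cfsg.Agent.Thompson.le_pCore hRn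
          (hR.comap_of_injective N.subtype N.subtype_injective) hx, rfl⟩
      refine le_antisymm (hmax ⟨(Cfsg.Agent.Thompson.isPGroup_pCore).map _,
        mem_normalizer_of_conj ?_⟩ h1) h1
      rintro _ ⟨y, hy, rfl⟩
      exact ⟨⟨g, hg⟩ * y * ⟨g, hg⟩⁻¹, Normal.conj_mem inferInstance y hy _, rfl⟩
    · rintro ⟨R, hHR, hR, hg⟩
      refine ⟨R, ?_, hHR, hg⟩
      rw [← hR]
      exact (Cfsg.Agent.Thompson.isPGroup_pCore).map _
  · intro g
    rw [isSubnormal_iff_exists hH, isSubnormal_iff_exists (isPGroup_sylowMeet hH)]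
    constructor
    · rintro ⟨R, hR, hHR, hg⟩
      exact ⟨_, isPGroup_sylowMeet hR, sylowMeet_mono hHR, mem_normalizer_sylowMeet hg⟩
    · rintro ⟨R, hR, hHR, hg⟩
      exact ⟨R, hR, (le_sylowMeet H).trans hHR, hg⟩

/-- Let G be a finite group, p a prime and H a p-subgroup of G. Then the set of elements g of G such that H is subnormal in the subgroup generated by H and g is the union of the normalizers N_G(R) over the subgroups R of G containing H with R = O_p(N_G(R)); and this set does not change when H is replaced by the intersection of all Sylow p-subgroups of G containing H. -/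
theorem result {G : Type*} [Group G] [Finite G] (p : ℕ) [Fact p.Prime]
    (H : Subgroup G) (hH : IsPGroup p H) :
    {g : G | ((H).subgroupOf (H ⊔ Subgroup.zpowers g)).IsSubnormal} =
      {g : G | ∃ R : Subgroup G, H ≤ R ∧ (Cfsg.pCore p (Subgroup.normalizer (R : Set G))).map (Subgroup.normalizer (R : Set G)).subtype = R ∧ g ∈ Subgroup.normalizer (R : Set G)} ∧
    ∀ g : G, (((H).subgroupOf (H ⊔ Subgroup.zpowers g)).IsSubnormal ↔
      (((sInf {K : Subgroup G | ∃ Q : Sylow p G, H ≤ (Q : Subgroup G) ∧ K = (Q : Subgroup G)})).subgroupOf ((sInf {K : Subgroup G | ∃ Q : Sylow p G, H ≤ (Q : Subgroup G) ∧ K = (Q : Subgroup G)}) ⊔ Subgroup.zpowers g)).IsSubnormal) := by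
  exact main_aux p H hH

end Cfsg.Agent.S4089
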