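import Cfsg.Statements.S4088
import Cfsg.Agent.Lib.Solvable.Subnormalizer
import Cfsg.Agent.S4089

set_option autoImplicit false
open Cfsg

namespace Cfsg.Agent.S4088

open Subgroup
open scoped Pointwise

theorem casolo {G : Type*} [Group G] [Finite G] (p : ℕ) [Fact p.Prime]
    (H : Subgroup G) (hH : IsPGroup p H) (P : Sylow p G) :
    Nat.card {g : G // ((H).subgroupOf (H ⊔ Subgroup.zpowers g)).IsSubnormal} =
        Nat.card {Q : Sylow p G // H ≤ (Q : Subgroup G)} * Nat.card (Subgroup.normalizer ((P : Subgroup G) : Set G)) ∧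
    Nat.card {g : G // ((H).subgroupOf (H ⊔ Subgroup.zpowers g)).IsSubnormal} =
        Nat.card {K : Subgroup G // K ≤ (P : Subgroup G) ∧ ∃ g : G, K = H.map (MulAut.conj g).toMonoidHom} *
          Nat.card (Subgroup.normalizer (H : Set G)) := by
  classical
  have h1 : Nat.card {g : G // ((H).subgroupOf (H ⊔ Subgroup.zpowers g)).IsSubnormal} =
      Cfsg.Agent.Solvable.sylCount p P H := by
    rw [← Cfsg.Agent.Solvable.normCount_eq_sylCount P H]
    exact Nat.card_congr (Equiv.subtypeEquivRight fun g =>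
      Cfsg.Agent.S4089.isSubnormal_iff_exists hH g)
  refine ⟨h1, h1.trans ?_⟩
  -- double counting of pairs (conjugate, Sylow subgroup)
  set C := {K : Subgroup G // ∃ g : G, K = MulAut.conj g • H} with hC
  haveI : Finite (Subgroup G) := Finite.of_injective _ SetLike.coe_injective
  have key : ∀ (g : G) (Q : Sylow p G) (K : Subgroup G),
      MulAut.conj g • K ≤ ((g • Q : Sylow p G) : Subgroup G) ↔ K ≤ (Q : Subgroup G) :=
    fun g Q K => by rw [Sylow.coe_subgroup_smul]; exact pointwise_smul_le_pointwise_smul_iff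
  have hα : ∀ Q : Sylow p G, Nat.card {K : C // K.1 ≤ (Q : Subgroup G)} =
      Nat.card {K : Subgroup G // K ≤ (P : Subgroup G) ∧ ∃ g : G, K = MulAut.conj g • H} := by
    intro Q
    obtain ⟨g, rfl⟩ := MulAction.exists_smul_eq G P Q
    refine Nat.card_congr ⟨fun K => ⟨MulAut.conj g⁻¹ • K.1.1, ?_, ?_⟩,
      fun K => ⟨⟨MulAut.conj g • K.1, ?_⟩, (key g P K.1).2 K.2.1⟩, fun K => ?_, fun K => ?_⟩
    · rw [← key g P, ← Cfsg.Agent.Solvable.conj_smul_mul, mul_inv_cancel, map_one, one_smul]
      exact K.2
    · obtain ⟨h, hh⟩ := K.1.2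
      exact ⟨g⁻¹ * h, by rw [hh, Cfsg.Agent.Solvable.conj_smul_mul]⟩
    · obtain ⟨h, hh⟩ := K.2.2
      exact ⟨g * h, by rw [hh, Cfsg.Agent.Solvable.conj_smul_mul]⟩
    · apply Subtype.ext; apply Subtype.ext
      simp only [← Cfsg.Agent.Solvable.conj_smul_mul, mul_inv_cancel, map_one, one_smul]
    · apply Subtype.ext
      simp only [← Cfsg.Agent.Solvable.conj_smul_mul, inv_mul_cancel, map_one, one_smul]
  have hlam : ∀ K : C, Nat.card {Q : Sylow p G // K.1 ≤ (Q : Subgroup G)} =
      Nat.card {Q : Sylow p G // H ≤ (Q : Subgroup G)} := by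
    rintro ⟨_, g, rfl⟩
    refine (Nat.card_congr (Equiv.subtypeEquiv (MulAction.toPerm g) fun Q => ?_)).symm
    exact (key g Q H).symm
  have hswap : Nat.card (Σ K : C, {Q : Sylow p G // K.1 ≤ (Q : Subgroup G)}) =
      Nat.card (Σ Q : Sylow p G, {K : C // K.1 ≤ (Q : Subgroup G)}) :=
    Nat.card_congr ⟨fun x => ⟨x.2.1, x.1, x.2.2⟩, fun x => ⟨x.2.1, x.1, x.2.2⟩,
      fun _ => rfl, fun _ => rfl⟩
  haveI := Fintype.ofFinite C
  haveI := Fintype.ofFinite (Sylow p G)
  rw [Nat.card_sigma, Nat.card_sigma, Finset.sum_congr rfl (fun K _ => hlam K),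
    Finset.sum_congr rfl (fun Q _ => hα Q), Finset.sum_const, Finset.sum_const, smul_eq_mul,
    smul_eq_mul, Finset.card_univ, Finset.card_univ, ← Nat.card_eq_fintype_card,
    ← Nat.card_eq_fintype_card] at hswap
  have hCc : Nat.card C = (normalizer (H : Set G)).index := by
    refine (Nat.card_eq_of_bijective
      (Quotient.lift (fun g : G => (⟨MulAut.conj g • H, g, rfl⟩ : C)) ?_) ⟨?_, ?_⟩).symm
    · intro a b hab
      apply Subtype.ext
      have h := mem_norm_iff.1 (QuotientGroup.leftRel_apply.1 hab)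
      calc MulAut.conj a • H = MulAut.conj a • MulAut.conj (a⁻¹ * b) • H := by rw [h]
        _ = MulAut.conj b • H := by rw [← Cfsg.Agent.Solvable.conj_smul_mul, mul_inv_cancel_left]
    · rintro ⟨a⟩ ⟨b⟩ hab
      refine Quotient.sound (QuotientGroup.leftRel_apply.2 (mem_norm_iff.2 ?_))
      have h : MulAut.conj a • H = MulAut.conj b • H := congrArg Subtype.val hab
      rw [Cfsg.Agent.Solvable.conj_smul_mul, ← h, ← Cfsg.Agent.Solvable.conj_smul_mul,
        inv_mul_cancel, map_one, one_smul]
    · rintro ⟨_, g, rfl⟩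
      exact ⟨Quotient.mk'' g, rfl⟩
  have hP := card_mul_index (normalizer ((P : Subgroup G) : Set G))
  have hH' := card_mul_index (normalizer (H : Set G))
  rw [← Cfsg.Agent.Solvable.card_sylow P] at hP
  rw [← hCc] at hH'
  change _ = Nat.card {K : Subgroup G // K ≤ (P : Subgroup G) ∧ ∃ g : G, K = MulAut.conj g • H} * _
  unfold Cfsg.Agent.Solvable.sylCount
  set lam := Nat.card {Q : Sylow p G // H ≤ (Q : Subgroup G)}
  set al := Nat.card {K : Subgroup G // K ≤ (P : Subgroup G) ∧ ∃ g : G, K = MulAut.conj g • H}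
  set nP := Nat.card (normalizer ((P : Subgroup G) : Set G))
  set nH := Nat.card (normalizer (H : Set G))
  refine Nat.eq_of_mul_eq_mul_right (Nat.card_pos (α := G)) ?_
  calc lam * nP * Nat.card G = lam * nP * (nH * Nat.card C) := by rw [hH']
    _ = Nat.card C * lam * (nP * nH) := by ring
    _ = Nat.card (Sylow p G) * al * (nP * nH) := by rw [hswap]
    _ = al * nH * (nP * Nat.card (Sylow p G)) := by ring
    _ = al * nH * Nat.card G := by rw [hP]
where
  mem_norm_iff {G : Type _} [Group G] {H : Subgroup G} {g : G} :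
      g ∈ normalizer (H : Set G) ↔ MulAut.conj g • H = H := by
    constructor
    · intro hg
      ext y
      rw [Cfsg.Agent.Solvable.mem_conj_smul]
      exact (mem_normalizer_iff''.1 hg y).symm
    · intro hg
      rw [mem_normalizer_iff'']
      intro y
      rw [← Cfsg.Agent.Solvable.mem_conj_smul, hg]

/-- Let G be a finite group, p a prime dividing the order of G, H a p-subgroup of G and P a Sylow p-subgroup of G. Call the subnormalizer of H the set of elements g of G such that H is subnormal in the subgroup generated by H and g. Then the number of elements of the subnormalizer of H equals the number of Sylow p-subgroups of G containing H times the order of N_G(P), and also equals the number of conjugates of H contained in P times the order of N_G(H). -/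
theorem result {G : Type*} [Group G] [Finite G] (p : ℕ) [Fact p.Prime]
    (hp : p ∣ Nat.card G) (H : Subgroup G) (hH : IsPGroup p H) (P : Sylow p G) :
    Nat.card {g : G // ((H).subgroupOf (H ⊔ Subgroup.zpowers g)).IsSubnormal} =
        Nat.card {Q : Sylow p G // H ≤ (Q : Subgroup G)} * Nat.card (Subgroup.normalizer ((P : Subgroup G) : Set G)) ∧
    Nat.card {g : G // ((H).subgroupOf (H ⊔ Subgroup.zpowers g)).IsSubnormal} =
        Nat.card {K : Subgroup G // K ≤ (P : Subgroup G) ∧ ∃ g : G, K = H.map (MulAut.conj g).toMonoidHom} *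
          Nat.card (Subgroup.normalizer (H : Set G)) := by
  exact casolo p H hH P

end Cfsg.Agent.S4088
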