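import Cfsg.Statements.S4091
import Cfsg.Agent.Lib.Solvable.FixedProductGeneral
import Mathlib.Analysis.MeanInequalities

set_option autoImplicit false
open Cfsg

namespace Cfsg.Agent.S4091

open Subgroup
open scoped Pointwise
open Cfsg.Agent.Solvable

/-- The number of Sylow subgroups containing an element. -/
noncomputable def lam {G : Type*} [Group G] (p : ℕ) (x : G) : ℕ :=
  Nat.card {Q : Sylow p G // x ∈ (Q : Subgroup G)}

theorem lam_eq {G : Type*} [Group G] (p : ℕ) (x : G) :
    Nat.card {Q : Sylow p G // zpowers x ≤ (Q : Subgroup G)} = lam p x :=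
  Nat.card_congr (Equiv.subtypeEquivRight fun Q => zpowers_le)

theorem layer_product_le {G : Type*} [Group G] [Finite G] {p : ℕ} [Fact p.Prime] (P : Sylow p G)
    [Fintype (P : Subgroup G)] {K L : Subgroup G} [K.Normal] [L.Normal] (hKL : K ≤ L) :
    (∏ x : (P : Subgroup G), layerFactor p K L (zpowers (x : G))) ^ p ≤
      K.relIndex L ^ Nat.card (P : Subgroup G) *
        layerFactor p K L (P : Subgroup G) ^ ((p - 1) * Nat.card (P : Subgroup G)) := by
  unfold layerFactor
  by_cases hc : (K.relIndex L).Coprime p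
  · simp only [if_pos hc]
    have hn : (L.map (QuotientGroup.mk' K)).Normal :=
      (inferInstance : L.Normal).map _ (QuotientGroup.mk'_surjective K)
    have h := centralizer_product_le P.isPGroup'
      ((QuotientGroup.mk' K).comp (P : Subgroup G).subtype) (L.map (QuotientGroup.mk' K))
      (by rwa [card_map_relIndex hKL])
    rw [card_map_relIndex hKL, MonoidHom.range_comp, range_subtype] at h
    refine le_of_eq_of_le ?_ (le_of_le_of_eq h ?_)
    · congr 1
      refine Finset.prod_congr rfl fun x _ => ?_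
      rw [card_centralizer_layer hKL, MonoidHom.map_zpowers, zpowers_eq_closure, centralizer_closure]
      rfl
    · rw [card_centralizer_layer hKL]
  · simp only [if_neg hc]
    have hp : p.Prime := Fact.out
    rw [Finset.prod_const, Finset.card_univ, ← Nat.card_eq_fintype_card, ← pow_mul, ← pow_add]
    refine le_of_eq (congrArg (K.relIndex L ^ ·) ?_)
    obtain ⟨p', rfl⟩ := Nat.exists_eq_add_of_le hp.one_le
    rw [Nat.add_sub_cancel_left]
    ring

theorem lam_product_le {G : Type*} [Group G] [Finite G] {p : ℕ} [Fact p.Prime]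
    (hG : Cfsg.IsPSolvable p G) (P : Sylow p G) [Fintype (P : Subgroup G)] :
    (∏ x : (P : Subgroup G), lam p (x : G)) ^ p ≤
      Nat.card (Sylow p G) ^ Nat.card (P : Subgroup G) := by
  obtain ⟨k, M, h0, hn, hmono, hnormal, hfac⟩ := hG
  haveI := hnormal
  set m := Nat.card (P : Subgroup G)
  have hseries := fun H hH => normCount_series (p := p) M h0 hn hmono hnormal hfac H hH
  have hmain : (∏ x : (P : Subgroup G), normCount p (zpowers (x : G))) ^ p ≤
      Nat.card G ^ m * normCount p (P : Subgroup G) ^ ((p - 1) * m) := by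
    rw [Finset.prod_congr rfl fun (x : ↥(P : Subgroup G)) _ => hseries (zpowers (x : G))
      (P.isPGroup'.to_le (zpowers_le.2 x.2)), hseries _ P.isPGroup', Finset.prod_comm,
      ← Finset.prod_pow, ← Finset.prod_pow]
    have hGr : Nat.card G = ∏ i : Fin k, (M i.castSucc).relIndex (M i.succ) := by
      have := fin_prod_telescope (fun i => (M i).index)
        (fun i : Fin k => (M i.castSucc).relIndex (M i.succ))
        (fun i => (relIndex_mul_index (hmono (Fin.castSucc_le_succ i))).symm)
      rwa [h0, hn, index_bot, index_top, mul_one] at this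
    rw [hGr, ← Finset.prod_pow, ← Finset.prod_mul_distrib]
    exact Finset.prod_le_prod' fun i _ => layer_product_le P (hmono (Fin.castSucc_le_succ i))
  set nP := Nat.card (normalizer ((P : Subgroup G) : Set G)) with hnP
  have h1 : ∀ x : (P : Subgroup G), normCount p (zpowers (x : G)) = lam p (x : G) * nP := fun x => by
    rw [normCount_eq_sylCount P, sylCount, lam_eq]
  have h2 : normCount p (P : Subgroup G) = nP := by
    have hone : Nat.card {Q : Sylow p G // (P : Subgroup G) ≤ (Q : Subgroup G)} = 1 :=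
      Nat.card_eq_one_iff_exists.2
        ⟨⟨P, le_rfl⟩, fun R => Subtype.ext (Sylow.ext (P.is_maximal' R.1.isPGroup' R.2))⟩
    rw [count_of_maximal P P, sylCount, hone, one_mul]
  have h3 : Nat.card G = Nat.card (Sylow p G) * nP := by
    rw [card_sylow P, hnP, index_mul_card]
  rw [Finset.prod_congr rfl fun x _ => h1 x, h2, h3, Finset.prod_mul_distrib, Finset.prod_const,
    Finset.card_univ, ← Nat.card_eq_fintype_card, mul_pow, mul_pow, ← pow_mul, mul_assoc,
    ← pow_add] at hmain
  have hp : p.Prime := Fact.out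
  have he : m + (p - 1) * m = m * p := by
    obtain ⟨p', rfl⟩ := Nat.exists_eq_add_of_le hp.one_le
    rw [Nat.add_sub_cancel_left]; ring
  rw [he] at hmain
  exact Nat.le_of_mul_le_mul_right hmain (pow_pos Nat.card_pos _)

theorem main_aux {G : Type*} [Group G] [Finite G] (p : ℕ) [Fact p.Prime]
    (hG : Cfsg.IsPSolvable p G) (P : Sylow p G) :
    Nat.card (P : Subgroup G) ^ p * Nat.card (Sylow p G) ^ (p - 1) ≤
      Nat.card {g : G // ∃ k : ℕ, orderOf g = p ^ k} ^ p := by
  classical
  haveI := Fintype.ofFinite G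
  haveI := Fintype.ofFinite (Sylow p G)
  set n := Nat.card (Sylow p G) with hn
  set m := Nat.card (P : Subgroup G) with hm
  set u := Nat.card {g : G // ∃ k : ℕ, orderOf g = p ^ k} with hu
  have hpos : ∀ (Q : Sylow p G) (x : G), x ∈ (Q : Subgroup G) → 0 < lam p x := fun Q x hx => by
    haveI : Nonempty {Q : Sylow p G // x ∈ (Q : Subgroup G)} := ⟨⟨Q, hx⟩⟩
    exact Nat.card_pos
  have hiff : ∀ x : G, lam p x ≠ 0 ↔ ∃ k : ℕ, orderOf x = p ^ k := fun x => by
    constructor
    · intro h
      haveI := (Nat.card_ne_zero.1 h).1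
      obtain ⟨Q, hQ⟩ := Classical.arbitrary {Q : Sylow p G // x ∈ (Q : Subgroup G)}
      obtain ⟨k, hk⟩ := IsPGroup.iff_orderOf.1 Q.isPGroup' ⟨x, hQ⟩
      exact ⟨k, by rwa [Subgroup.orderOf_mk] at hk⟩
    · rintro ⟨k, hk⟩
      have hx : IsPGroup p (zpowers x) := IsPGroup.of_card (n := k) (by rw [Nat.card_zpowers, hk])
      obtain ⟨Q, hQ⟩ := hx.exists_le_sylow
      exact (hpos Q x (hQ (mem_zpowers x))).ne'
  -- double count
  set F : Sylow p G → ℝ := fun Q => ∑ x : G, if x ∈ (Q : Subgroup G) then (lam p x : ℝ)⁻¹ else 0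
  have hFconst : ∀ Q, F Q = F P := by
    intro Q
    obtain ⟨g, rfl⟩ := MulAction.exists_smul_eq G P Q
    have hconj : ∀ (R : Sylow p G) (x : G),
        g * x * g⁻¹ ∈ ((g • R : Sylow p G) : Subgroup G) ↔ x ∈ (R : Subgroup G) := fun R x => by
      rw [Sylow.coe_subgroup_smul, mem_conj_smul]
      simp [mul_assoc]
    refine (Fintype.sum_equiv (MulAut.conj g).toEquiv _ _ fun x => ?_).symm
    have hl : lam p (g * x * g⁻¹) = lam p x :=
      (Nat.card_congr (Equiv.subtypeEquiv (MulAction.toPerm g) fun R => (hconj R x).symm)).symm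
    change _ = if g * x * g⁻¹ ∈ ((g • P : Sylow p G) : Subgroup G) then
      (lam p (g * x * g⁻¹) : ℝ)⁻¹ else 0
    rw [hl]
    simp only [hconj]
  have hsum : (u : ℝ) = n * F P := by
    have h1 : ∑ Q, F Q = (n : ℝ) * F P := by
      rw [Finset.sum_congr rfl fun Q _ => hFconst Q, Finset.sum_const, Finset.card_univ, nsmul_eq_mul,
        hn, Nat.card_eq_fintype_card]
    rw [← h1, Finset.sum_comm, hu, Nat.card_eq_fintype_card, Fintype.card_subtype,
      ← Finset.sum_boole]
    refine Finset.sum_congr rfl fun x _ => ?_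
    rw [← Finset.sum_filter, Finset.sum_const, nsmul_eq_mul,
      show (Finset.univ.filter fun Q : Sylow p G => x ∈ (Q : Subgroup G)).card = lam p x by
        rw [lam, Nat.card_eq_fintype_card, Fintype.card_subtype]]
    by_cases hx : lam p x = 0
    · rw [if_neg (fun h => (hiff x).2 h hx), hx]; simp
    · rw [if_pos ((hiff x).1 hx), mul_inv_cancel₀ (by exact_mod_cast hx)]
  have hFP : F P = ∑ x : (P : Subgroup G), (lam p (x : G) : ℝ)⁻¹ := by
    change (∑ x : G, _) = _
    rw [← Finset.sum_filter]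
    exact Finset.sum_subtype _ (by simp) (fun x : G => (lam p x : ℝ)⁻¹)
  -- arithmetic-geometric mean
  set z : ↥(P : Subgroup G) → ℝ := fun x => (n : ℝ) * (lam p (x : G) : ℝ)⁻¹ with hz
  have hznn : ∀ x, 0 ≤ z x := fun x => by positivity
  have hmpos : (0 : ℝ) < m := by exact_mod_cast Nat.card_pos
  have hsumz : ∑ x, z x = u := by rw [hsum, hFP, Finset.mul_sum]
  have hamgm := Real.geom_mean_le_arith_mean Finset.univ (fun _ => (1 : ℝ)) z
    (fun _ _ => zero_le_one) (by simp [Fintype.card_pos]) (fun x _ => hznn x)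
  simp only [Real.rpow_one, one_mul, Finset.sum_const, Finset.card_univ, nsmul_eq_mul, mul_one,
    ← Nat.card_eq_fintype_card, ← hm, hsumz] at hamgm
  have hprodnn : 0 ≤ ∏ x, z x := Finset.prod_nonneg fun x _ => hznn x
  have h4 : ∏ x, z x ≤ ((u : ℝ) / m) ^ m := by
    have := pow_le_pow_left₀ (Real.rpow_nonneg hprodnn _) hamgm m
    rwa [Real.rpow_inv_natCast_pow hprodnn Nat.card_pos.ne'] at this
  have hp : p.Prime := Fact.out
  have hlam : (∏ x : (P : Subgroup G), (lam p (x : G) : ℝ)) ^ p ≤ (n : ℝ) ^ m := by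
    exact_mod_cast lam_product_le hG P
  have hlampos : 0 < ∏ x : (P : Subgroup G), (lam p (x : G) : ℝ) :=
    Finset.prod_pos fun x _ => by exact_mod_cast hpos P x x.2
  have hnpos : (0 : ℝ) < n := by exact_mod_cast Nat.card_pos
  have h5 : ((n : ℝ) ^ (p - 1)) ^ m ≤ (((u : ℝ) / m) ^ p) ^ m := by
    rw [← pow_mul ((u : ℝ) / m), mul_comm p m, pow_mul ((u : ℝ) / m)]
    refine le_trans ?_ (pow_le_pow_left₀ hprodnn h4 p)
    rw [hz]
    simp only [Finset.prod_mul_distrib, Finset.prod_const, Finset.card_univ,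
      ← Nat.card_eq_fintype_card, Finset.prod_inv_distrib, ← hm]
    rw [mul_pow, inv_pow, ← div_eq_mul_inv, le_div_iff₀ (pow_pos hlampos p)]
    refine (mul_le_mul_of_nonneg_left hlam (by positivity)).trans_eq ?_
    rw [← pow_mul, ← pow_mul, ← pow_add]
    congr 1
    obtain ⟨p', rfl⟩ := Nat.exists_eq_add_of_le hp.one_le
    rw [Nat.add_sub_cancel_left]; ring
  have h6 := (pow_le_pow_iff_left₀ (by positivity) (by positivity) Nat.card_pos.ne').1 h5
  rw [div_pow, le_div_iff₀ (by positivity)] at h6
  rw [mul_comm] at h6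
  exact_mod_cast h6

/-- Let G be a finite p-solvable group, P a Sylow p-subgroup of G, u the number of p-elements of G (elements of p-power order, the identity included) and n the number of Sylow p-subgroups of G. Then u/#P ≥ n^((p−1)/p), stated as u^p ≥ #P^p · n^(p−1). -/
theorem result {G : Type*} [Group G] [Finite G] (p : ℕ) [Fact p.Prime]
    (hG : Cfsg.IsPSolvable p G) (P : Sylow p G) :
    Nat.card (P : Subgroup G) ^ p * Nat.card (Sylow p G) ^ (p - 1) ≤ Nat.card {g : G // ∃ k : ℕ, orderOf g = p ^ k} ^ p := by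
  exact main_aux p hG P

end Cfsg.Agent.S4091
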