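import Cfsg.Statements.S4092
import Mathlib.GroupTheory.Sylow
import Mathlib.GroupTheory.Nilpotent
import Mathlib.Data.Finset.Max

set_option autoImplicit false
open Cfsg

namespace Cfsg.Agent.S4092

/-- Let G be a finite group, p a prime and P a Sylow p-subgroup of G that is not normal in G. Then G has at least p·#P elements of p-power order (the identity included). -/
theorem result {G : Type*} [Group G] [Finite G] (p : ℕ) [Fact p.Prime]
    (P : Sylow p G) (hP : ¬ (P : Subgroup G).Normal) :
    p * Nat.card (P : Subgroup G) ≤ Nat.card {g : G // ∃ k : ℕ, orderOf g = p ^ k} := by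
  classical
  have hp : p.Prime := Fact.out
  obtain ⟨Q0, hQ0⟩ : ∃ Q : Sylow p G, Q ≠ P := by
    by_contra h
    push Not at h
    haveI : Subsingleton (Sylow p G) := ⟨fun a b => (h a).trans (h b).symm⟩
    exact hP inferInstance
  haveI : Fintype (Sylow p G) := Fintype.ofFinite _
  obtain ⟨⟨A, B⟩, hAB, hmax⟩ := Finset.exists_max_image
    (Finset.univ.filter fun r : Sylow p G × Sylow p G => r.1 ≠ r.2)
    (fun r => Nat.card ↥((r.1 : Subgroup G) ⊓ (r.2 : Subgroup G)))
    ⟨(P, Q0), by simpa using hQ0.symm⟩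
  simp only [Finset.mem_filter, Finset.mem_univ, true_and, ne_eq, Prod.forall] at hAB hmax
  set D : Subgroup G := (A : Subgroup G) ⊓ (B : Subgroup G) with hD
  have hpair : ∀ R S : Sylow p G, R ≠ S → D ≤ (R : Subgroup G) → D ≤ (S : Subgroup G) →
      (R : Subgroup G) ⊓ (S : Subgroup G) = D := fun R S h h1 h2 =>
    (Subgroup.eq_of_le_of_card_ge (le_inf h1 h2) (hmax R S h)).symm
  set M := Subgroup.normalizer (D : Set G) with hM
  have hDM : D ≤ M := Subgroup.le_normalizer
  have hgrow : ∀ R : Sylow p G, D < (R : Subgroup G) → ∃ y ∈ (R : Subgroup G), y ∈ M ∧ y ∉ D := by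
    intro R hR
    haveI : Group.IsNilpotent (R : Subgroup G) := R.2.isNilpotent
    have h1 : D.subgroupOf (R : Subgroup G) < ⊤ := lt_top_iff_ne_top.mpr fun h =>
      not_le_of_gt hR (Subgroup.subgroupOf_eq_top.mp h)
    obtain ⟨y, hy, hyD⟩ := SetLike.exists_of_lt
      (Group.normalizerCondition_of_isNilpotent (G := (R : Subgroup G)) _ h1)
    refine ⟨y, y.2, ?_, fun h => hyD h⟩
    rw [hM, Subgroup.mem_normalizer_iff]
    rw [Subgroup.mem_normalizer_iff] at hy
    refine fun z => ⟨fun hz => (hy ⟨z, hR.le hz⟩).mp hz, fun hz => ?_⟩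
    have hzR : z ∈ (R : Subgroup G) := by
      have := mul_mem (mul_mem (inv_mem y.2) (hR.le hz)) y.2
      simpa [mul_assoc] using this
    exact (hy ⟨z, hzR⟩).mpr hz
  -- over every Sylow subgroup of `M` a Sylow subgroup of `G`
  have hchoose : ∀ S : Sylow p M, ∃ R : Sylow p G, (S : Subgroup M).map M.subtype ≤ R := fun S =>
    (S.2.map M.subtype).exists_le_sylow
  choose R hR using hchoose
  have hcomap : ∀ S : Sylow p M, (R S : Subgroup G).comap M.subtype = S := fun S =>
    S.3 ((R S).2.comap_of_injective M.subtype M.subtype_injective)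
      (fun y hy => hR S (Subgroup.mem_map_of_mem M.subtype hy))
  have hRinj : Function.Injective R := fun S T h => Sylow.ext (by rw [← hcomap S, h, hcomap T])
  have hDp : IsPGroup p D := A.2.to_le inf_le_left
  have hDle : ∀ S : Sylow p M, D ≤ (R S : Subgroup G) := by
    intro S d hd
    haveI : (D.subgroupOf M).Normal := Subgroup.normal_in_normalizer
    have h1 : IsPGroup p ↥((S : Subgroup M) ⊔ D.subgroupOf M) :=
      S.2.to_sup_of_normal_right (hDp.comap_of_injective M.subtype M.subtype_injective)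
    have h2 : D.subgroupOf M ≤ (S : Subgroup M) := le_sup_right.trans (S.3 h1 le_sup_left).le
    exact hR S (Subgroup.mem_map_of_mem M.subtype (h2 (show (⟨d, hDM hd⟩ : M) ∈ D.subgroupOf M from hd)))
  have hAlt : D < (A : Subgroup G) := lt_of_le_of_ne inf_le_left fun h => hAB
    (Sylow.ext (A.3 B.2 (inf_eq_left.mp h)).symm)
  have hBlt : D < (B : Subgroup G) := lt_of_le_of_ne inf_le_right fun h => hAB
    (Sylow.ext (B.3 A.2 (inf_eq_right.mp h)))
  -- `M` has more than one Sylow subgroup
  have hns : p + 1 ≤ Nat.card (Sylow p M) := by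
    have hmod := card_sylow_modEq_one p M
    have h0 : Nat.card (Sylow p M) ≠ 1 := by
      intro h1
      haveI := (Nat.card_eq_one_iff_unique.mp h1).1
      obtain ⟨S⟩ : Nonempty (Sylow p M) := inferInstance
      have key : ∀ T : Sylow p G, D < (T : Subgroup G) → R S = T := by
        intro T hT
        by_contra hne
        obtain ⟨y, hyT, hyM, hyD⟩ := hgrow T hT
        obtain ⟨S', hS'⟩ := (T.2.comap_of_injective M.subtype M.subtype_injective).exists_le_sylow
        have h2 : y ∈ (R S : Subgroup G) := by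
          rw [Subsingleton.elim S S']
          exact hR S' (Subgroup.mem_map_of_mem M.subtype (hS' (show (⟨y, hyM⟩ : M) ∈
            (T : Subgroup G).comap M.subtype from hyT)))
        exact hyD (hpair _ _ hne (hDle S) hT.le ▸ (⟨h2, hyT⟩ : y ∈ (R S : Subgroup G) ⊓ (T : Subgroup G)))
      exact hAB ((key A hAlt).symm.trans (key B hBlt))
    have hpos : 0 < Nat.card (Sylow p M) := Nat.card_pos
    have hd := (Nat.modEq_iff_dvd' hpos).mp hmod.symm
    have := Nat.le_of_dvd (by omega) hd
    omega
  obtain ⟨ι, hι⟩ : ∃ ι : Fin (p + 1) → Sylow p M, Function.Injective ι := by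
    haveI : Fintype (Sylow p M) := Fintype.ofFinite _
    rw [Nat.card_eq_fintype_card] at hns
    obtain ⟨e⟩ := Function.Embedding.nonempty_of_card_le (α := Fin (p + 1)) (β := Sylow p M)
      (by simpa using hns)
    exact ⟨e, e.injective⟩
  let T : Fin (p + 1) → Sylow p G := fun i => R (ι i)
  have hT : Function.Injective T := hRinj.comp hι
  let f : D ⊕ (Σ i : Fin (p + 1), {y : (T i : Subgroup G) // (y : G) ∉ D}) →
      {g : G // ∃ k : ℕ, orderOf g = p ^ k} := fun o => o.elim
    (fun d : D => ⟨(d : G), by rw [Subgroup.orderOf_coe]; exact hDp.exists_orderOf_eq_pow d⟩)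
    (fun y : (Σ i : Fin (p + 1), {y : (T i : Subgroup G) // (y : G) ∉ D}) => ⟨(y.2.1 : G), by
      rw [Subgroup.orderOf_coe]; exact (T y.1).2.exists_orderOf_eq_pow y.2.1⟩)
  have hf : Function.Injective f := by
    rintro (d | ⟨i, y, hy⟩) (d' | ⟨j, y', hy'⟩) he
    · have he' : (d : G) = d' := congrArg (fun z : {g : G // ∃ k : ℕ, orderOf g = p ^ k} => z.1) he
      exact congrArg Sum.inl (Subtype.ext he')
    · exact absurd ((congrArg Subtype.val he : (d : G) = y') ▸ d.2) hy'
    · exact absurd ((congrArg Subtype.val he : (y : G) = d') ▸ d'.2) hy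
    · have he' : (y : G) = y' := congrArg Subtype.val he
      have hij : i = j := by
        by_contra hne
        exact hy (hpair _ _ (fun h => hne (hT h)) (hDle _) (hDle _) ▸
          (⟨y.2, he' ▸ y'.2⟩ : (y : G) ∈ (T i : Subgroup G) ⊓ (T j : Subgroup G)))
      subst hij
      obtain rfl : y = y' := Subtype.ext he'
      rfl
  have hle := Nat.card_le_card_of_injective f hf
  rw [Nat.card_sum, Nat.card_sigma] at hle
  have hcard : ∀ i, Nat.card {y : (T i : Subgroup G) // (y : G) ∉ D} + Nat.card D =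
      Nat.card (P : Subgroup G) := by
    intro i
    have e1 : Nat.card {y : (T i : Subgroup G) // (y : G) ∈ D} = Nat.card D :=
      Nat.card_congr ((Equiv.subtypeSubtypeEquivSubtypeInter (· ∈ (T i : Subgroup G)) (· ∈ D)).trans
        (Equiv.subtypeEquivRight fun g => ⟨And.right, fun h => ⟨hDle _ h, h⟩⟩))
    rw [← e1, add_comm, ← Nat.card_sum, Nat.card_congr (Equiv.sumCompl _)]
    exact Nat.card_congr (Sylow.equiv (T i) P).toEquiv
  have hDdvd : p * Nat.card D ≤ Nat.card (P : Subgroup G) := by
    rw [Nat.card_congr (Sylow.equiv P A).toEquiv]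
    have hlt : Nat.card D < Nat.card (A : Subgroup G) :=
      not_le.mp fun h => hAlt.ne (Subgroup.eq_of_le_of_card_ge inf_le_left h)
    obtain ⟨a, ha⟩ := IsPGroup.iff_card.mp hDp
    obtain ⟨b, hb⟩ := IsPGroup.iff_card.mp A.2
    rw [ha, hb] at hlt
    rw [ha, hb, ← pow_succ']
    exact Nat.pow_le_pow_right hp.pos ((Nat.pow_lt_pow_iff_right hp.one_lt).mp hlt)
  have hsum : (p + 1) * Nat.card (P : Subgroup G) =
      (∑ i, Nat.card {y : (T i : Subgroup G) // (y : G) ∉ D}) + (p + 1) * Nat.card D := by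
    have h := Finset.sum_congr (Eq.refl (Finset.univ : Finset (Fin (p + 1)))) (fun i _ => hcard i)
    rw [Finset.sum_add_distrib] at h
    simp only [Finset.sum_const, Finset.card_univ, Fintype.card_fin, smul_eq_mul] at h
    exact h.symm
  nlinarith

end Cfsg.Agent.S4092
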