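import Cfsg.Statements.S4093
import Mathlib.GroupTheory.Sylow
import Mathlib.GroupTheory.GroupAction.Quotient
import Mathlib.GroupTheory.Complement

set_option autoImplicit false
open scoped BigOperators
open Cfsg
open scoped Pointwise

namespace Cfsg.Agent.S4093

/-- Let G be a finite group with a normal subgroup N complementing a Sylow p-subgroup P (a normal p-complement). Then the number of elements of G of p-power order equals the sum over x ∈ P of the index of C_N(x) in N. -/
theorem result {G : Type*} [Group G] [Finite G] (p : ℕ) [Fact p.Prime]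
    (P : Sylow p G) (N : Subgroup G) [N.Normal] (hNP : N.IsComplement' (P : Subgroup G)) :
    Nat.card {g : G // ∃ k : ℕ, orderOf g = p ^ k} =
      ∑ᶠ x : (P : Subgroup G), Nat.card N / Nat.card ↥(N ⊓ Subgroup.centralizer ({(x : G)} : Set G)) := by
  classical
  haveI : Fintype (P : Subgroup G) := Fintype.ofFinite _
  rw [finsum_eq_sum_of_fintype]
  let O : ↥(P : Subgroup G) → Set G := fun x => Set.range fun n : N => (n : G) * x * (n : G)⁻¹
  have hO : ∀ x : (P : Subgroup G), Nat.card (O x) =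
      Nat.card N / Nat.card ↥(N ⊓ Subgroup.centralizer ({(x : G)} : Set G)) := by
    intro x
    letI act : MulAction N G :=
      { smul := fun n g => (n : G) * g * (n : G)⁻¹
        one_smul := fun g => by show ((1 : N) : G) * g * ((1 : N) : G)⁻¹ = g; simp
        mul_smul := fun m n g => by
          show ((m * n : N) : G) * g * ((m * n : N) : G)⁻¹ =
            (m : G) * ((n : G) * g * (n : G)⁻¹) * (m : G)⁻¹
          simp [mul_assoc] }
    have hs : (MulAction.stabilizer N (x : G)).map N.subtype =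
        N ⊓ Subgroup.centralizer ({(x : G)} : Set G) := by
      ext g
      constructor
      · rintro ⟨n, hn, rfl⟩
        refine ⟨n.2, Subgroup.mem_centralizer_singleton_iff.mpr ?_⟩
        have h1 : (n : G) * x * (n : G)⁻¹ = x := hn
        exact mul_inv_eq_iff_eq_mul.mp h1
      · rintro ⟨h1, h2⟩
        refine ⟨⟨g, h1⟩, ?_, rfl⟩
        show g * x * g⁻¹ = x
        rw [Subgroup.mem_centralizer_singleton_iff.mp h2, mul_inv_cancel_right]
    have h3 : O x = MulAction.orbit N (x : G) := rfl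
    rw [h3, Nat.card_coe_set_eq, ← MulAction.index_stabilizer, ← hs,
      Subgroup.card_map_of_injective N.subtype_injective]
    exact (Nat.div_eq_of_eq_mul_left Nat.card_pos
      (by rw [mul_comm, Subgroup.card_mul_index])).symm
  simp only [← hO]
  rw [← Nat.card_sigma]
  have hmem : ∀ (x : (P : Subgroup G)) (g : O x), ∃ k : ℕ, orderOf (g : G) = p ^ k := by
    rintro x ⟨_, n, rfl⟩
    obtain ⟨k, hk⟩ := P.2.exists_orderOf_eq_pow x
    refine ⟨k, ?_⟩
    show orderOf ((n : G) * x * (n : G)⁻¹) = p ^ k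
    rw [show orderOf ((n : G) * x * (n : G)⁻¹) = orderOf (x : G) from
      MulEquiv.orderOf_eq (MulAut.conj (n : G)) (x : G), Subgroup.orderOf_coe, hk]
  refine (Nat.card_congr (Equiv.ofBijective
    (fun z : Σ x, O x => (⟨(z.2 : G), hmem z.1 z.2⟩ : {g : G // ∃ k : ℕ, orderOf g = p ^ k})) ⟨?_, ?_⟩)).symm
  · rintro ⟨x, _, n, rfl⟩ ⟨y, _, m, rfl⟩ he
    have he' : (n : G) * x * (n : G)⁻¹ = (m : G) * y * (m : G)⁻¹ := congrArg Subtype.val he
    have hπ : QuotientGroup.mk' N ((n : G) * x * (n : G)⁻¹) = QuotientGroup.mk' N ((m : G) * y * (m : G)⁻¹) :=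
      congrArg _ he'
    simp only [map_mul, map_inv, show ∀ k : N, QuotientGroup.mk' N (k : G) = 1 from
      fun k => (QuotientGroup.eq_one_iff _).mpr k.2, one_mul, inv_one, mul_one] at hπ
    have h1 : (x : G)⁻¹ * y ∈ N := (QuotientGroup.eq).mp hπ
    have h2 : (x : G)⁻¹ * y ∈ (P : Subgroup G) := (P : Subgroup G).mul_mem (inv_mem x.2) y.2
    have h3 : (x : G)⁻¹ * y = 1 := Subgroup.mem_bot.mp (hNP.disjoint.le_bot ⟨h1, h2⟩)
    obtain rfl : x = y := Subtype.ext (inv_mul_eq_one.mp h3)
    exact Sigma.ext rfl (heq_of_eq (Subtype.ext he'))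
  · rintro ⟨g, k, hk⟩
    obtain ⟨Q, hQ⟩ := (IsPGroup.of_card (p := p) (n := k)
      (by rw [Nat.card_zpowers, hk] : Nat.card (Subgroup.zpowers g) = p ^ k)).exists_le_sylow
    obtain ⟨c, hc⟩ := MulAction.exists_smul_eq G P Q
    have hgc : c⁻¹ * g * c ∈ (P : Subgroup G) := by
      have h1 := hQ (Subgroup.mem_zpowers g)
      rw [← hc, Sylow.coe_subgroup_smul, Subgroup.mem_pointwise_smul_iff_inv_smul_mem,
        MulAut.smul_def, MulAut.conj_inv_apply] at h1
      exact h1
    have hcm : c ∈ (N : Set G) * ((P : Subgroup G) : Set G) := by rw [hNP.mul_eq]; trivial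
    obtain ⟨n, hn, r, hr, rfl⟩ := hcm
    have hx : n⁻¹ * g * n ∈ (P : Subgroup G) := by
      have h1 := (P : Subgroup G).mul_mem ((P : Subgroup G).mul_mem hr hgc) (inv_mem hr)
      simpa [mul_assoc] using h1
    exact ⟨⟨⟨_, hx⟩, ⟨g, ⟨n, hn⟩, by simp [mul_assoc]⟩⟩, rfl⟩

end Cfsg.Agent.S4093
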