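import Cfsg.Statements.S4097
import Cfsg.Agent.FGS77.SolvSup
import Cfsg.Agent.Lib.Frobenius.Kernel
import Cfsg.Agent.Lib.Coprime.Action

set_option autoImplicit false
open Cfsg
open scoped commutatorElement

namespace Cfsg.Agent.S4097

open scoped Pointwise

/-- `result` by induction on the order of the group. -/
theorem aux : ∀ (n : ℕ) {G : Type*} [Group G] [Finite G], Nat.card G ≤ n →
    ∀ A : Subgroup G, Group.IsSolvable A →
    (∀ S : Subgroup G, A ≤ S → Group.IsSolvable S → ∀ a ∈ A, ∀ s ∈ S, a * s = s * a) →
    A ≤ Subgroup.center G := by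
  intro n
  induction n with
  | zero => intro G _ _ h; exact absurd Nat.card_pos (Nat.not_lt.mpr h)
  | succ n ih =>
    intro G _ _ hcard A hA hc
    by_contra hne
    haveI := hA
    haveI hAc : IsMulCommutative A :=
      ⟨⟨fun a b => Subtype.ext (hc A le_rfl hA a a.2 b b.2)⟩⟩
    set C := Subgroup.centralizer (A : Set G) with hCdef
    have hAC : A ≤ C := fun a ha => Subgroup.mem_centralizer_iff.mpr fun b hb =>
      hc A le_rfl hA b hb a ha
    -- proper overgroups centralise `A`
    have hprop : ∀ M : Subgroup G, A ≤ M → M ≠ ⊤ → M ≤ C := by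
      intro M hAM hM
      have hlt : Nat.card M ≤ n := by
        have h2 : Nat.card M < Nat.card G := lt_of_le_of_ne (Subgroup.card_le_card_group M)
          (fun h => hM ((Subgroup.card_eq_iff_eq_top M).mp h))
        omega
      have h := ih hlt (A.subgroupOf M)
        (Group.isSolvable_of_isSolvable_injective (Subgroup.subgroupOfEquivOfLe hAM).injective
          (f := (Subgroup.subgroupOfEquivOfLe hAM).toMonoidHom))
        (fun S hS hSs a ha s hs => by
          have hmap : Group.IsSolvable (S.map M.subtype) :=
            Group.isSolvable_of_surjective (f := (S.equivMapOfInjective _ M.subtype_injective).toMonoidHom)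
              (S.equivMapOfInjective _ M.subtype_injective).surjective
          exact Subtype.ext (hc (S.map M.subtype) (fun x hx => ⟨⟨x, hAM hx⟩, hS hx, rfl⟩) hmap
            _ ha _ ⟨s, hs, rfl⟩))
      intro m hm
      refine Subgroup.mem_centralizer_iff.mpr fun a ha => ?_
      exact (congrArg Subtype.val (Subgroup.mem_center_iff.mp
        (h (show (⟨a, hAM ha⟩ : M) ∈ A.subgroupOf M from ha)) ⟨m, hm⟩)).symm
    -- an element normalizing a solvable overgroup of `A` centralizes `A`
    have hnorm : ∀ T : Subgroup G, A ≤ T → Group.IsSolvable T →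
        ∀ g ∈ Subgroup.normalizer (T : Set G), g ∈ C := by
      intro T hAT hT g hg
      have hz : Group.IsSolvable (Subgroup.zpowers g) := inferInstance
      have hsol := FGS77.isSolvable_sup_of_normalizes hT hz (Subgroup.zpowers_le.mpr hg)
      exact Subgroup.mem_centralizer_iff.mpr fun a ha =>
        hc _ (hAT.trans le_sup_left) hsol a ha g
          ((le_sup_right : Subgroup.zpowers g ≤ T ⊔ Subgroup.zpowers g) (Subgroup.mem_zpowers g))
    have hCtop : C ≠ ⊤ := fun h => hne fun a ha => Subgroup.mem_center_iff.mpr fun g =>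
      (Subgroup.mem_centralizer_iff.mp (h ▸ Subgroup.mem_top g : g ∈ C) a ha).symm
    have hZ : Subgroup.center G = ⊥ := by
      by_contra hZne
      set Z := Subgroup.center G
      have hlt : Nat.card (G ⧸ Z) ≤ n := by
        have h1 := Subgroup.card_eq_card_quotient_mul_card_subgroup Z
        have h2 : Nat.card (G ⧸ Z) < Nat.card G := by
          rw [h1]
          exact lt_mul_of_one_lt_right Nat.card_pos (Z.one_lt_card_iff_ne_bot.mpr hZne)
        omega
      haveI : Group.IsSolvable (Subgroup.center G) :=
        Group.isSolvable_of_comm fun a b => Subtype.ext (Subgroup.mem_center_iff.mp b.2 a)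
      have h := ih hlt (A.map (QuotientGroup.mk' Z))
        (Group.isSolvable_of_surjective (f := (QuotientGroup.mk' Z).subgroupMap A)
          ((QuotientGroup.mk' Z).subgroupMap_surjective A))
        (fun S hS hSs => by
          rintro _ ⟨a, ha, rfl⟩ s hs
          obtain ⟨s, rfl⟩ := QuotientGroup.mk'_surjective Z s
          have hsol : Group.IsSolvable (S.comap (QuotientGroup.mk' Z)) := by
            refine Group.isSolvable_of_ker_le_range (Subgroup.inclusion
                (show Z ≤ S.comap (QuotientGroup.mk' Z) from fun z hz => by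
                  simp [(QuotientGroup.eq_one_iff z).mpr hz]))
              ((QuotientGroup.mk' Z).subgroupComap S) ?_
            intro x hx
            have hx1 : ((QuotientGroup.mk' Z).subgroupComap S x : G ⧸ Z) = 1 :=
              congrArg Subtype.val hx
            exact ⟨⟨x, (QuotientGroup.eq_one_iff (x : G)).mp hx1⟩, rfl⟩
          have := hc (S.comap (QuotientGroup.mk' Z))
            (fun x hx => hS ⟨x, hx, rfl⟩) hsol a ha s hs
          rw [← map_mul, this, map_mul])
      set T := A ⊔ Z with hTdef
      have hTn : ∀ g : G, g ∈ Subgroup.normalizer (T : Set G) := by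
        intro g
        have key : ∀ g : G, ∀ t ∈ T, g * t * g⁻¹ ∈ T := by
          intro g t ht
          have htZ : ((t : G) : G ⧸ Z) ∈ Subgroup.center (G ⧸ Z) := by
            have hle : T ≤ (Subgroup.center (G ⧸ Z)).comap (QuotientGroup.mk' Z) := by
              refine sup_le (fun a ha => h ⟨a, ha, rfl⟩) fun z hz => ?_
              show ((z : G) : G ⧸ Z) ∈ Subgroup.center (G ⧸ Z)
              rw [(QuotientGroup.eq_one_iff z).mpr hz]
              exact Subgroup.one_mem _
            exact hle ht
          have h2 : t⁻¹ * (g * t * g⁻¹) ∈ Z := by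
            rw [← QuotientGroup.eq]
            simp only [QuotientGroup.mk_mul, QuotientGroup.mk_inv]
            rw [Subgroup.mem_center_iff.mp htZ (g : G ⧸ Z), mul_inv_cancel_right]
          have := T.mul_mem ht ((le_sup_right : Z ≤ T) h2)
          simpa using this
        exact Subgroup.mem_normalizer_iff.mpr fun t => ⟨key g t, fun ht => by
          simpa [mul_assoc] using key g⁻¹ _ ht⟩
      have hT : Group.IsSolvable T := by
        rw [hTdef, sup_comm]
        exact FGS77.isSolvable_sup_of_normalizes inferInstance hA
          Subgroup.le_normalizer_of_normal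
      exact hCtop (eq_top_iff.mpr fun g _ => hnorm T le_sup_left hT g (hTn g))
    have hAne : A ≠ ⊥ := fun h => hne (h ▸ bot_le)
    -- `C` is a CC-subgroup
    have hCC : ∀ x ∈ C, x ≠ 1 → Subgroup.centralizer ({x} : Set G) ≤ C := by
      intro x hx hx1
      refine hprop _ (fun a ha => ?_) fun htop => hx1 (Subgroup.mem_bot.mp (hZ ▸ ?_))
      · refine Subgroup.mem_centralizer_iff.mpr ?_
        rintro _ rfl
        exact (Subgroup.mem_centralizer_iff.mp hx a ha).symm
      · refine Subgroup.mem_center_iff.mpr fun g => ?_
        have hg : g ∈ Subgroup.centralizer ({x} : Set G) := by rw [htop]; exact Subgroup.mem_top g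
        exact (Subgroup.mem_centralizer_iff.mp hg x rfl).symm
    have hCnorm : ∀ g ∈ Subgroup.normalizer (C : Set G), g ∈ C := by
      intro g hg
      let T : Subgroup G := (Subgroup.center C).map C.subtype
      have hAT : A ≤ T := fun a ha => ⟨⟨a, hAC ha⟩, Subgroup.mem_center_iff.mpr fun c =>
        Subtype.ext (Subgroup.mem_centralizer_iff.mp c.2 a ha).symm, rfl⟩
      have hTsol : Group.IsSolvable T := Group.isSolvable_of_comm fun ⟨a, a', ha', hea⟩ ⟨b, b', hb', heb⟩ => by
        apply Subtype.ext
        show a * b = b * a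
        rw [← hea, ← heb]
        exact congrArg Subtype.val (Subgroup.mem_center_iff.mp hb' a')
      refine hnorm T hAT hTsol g ?_
      have key : ∀ h ∈ Subgroup.normalizer (C : Set G), ∀ t ∈ T, h * t * h⁻¹ ∈ T := by
        rintro h hh _ ⟨t, ht, rfl⟩
        have htC : h * (t : G) * h⁻¹ ∈ C := (Subgroup.mem_normalizer_iff.mp hh t).mp t.2
        refine ⟨⟨_, htC⟩, Subgroup.mem_center_iff.mpr fun c => Subtype.ext ?_, rfl⟩
        have hc' : h⁻¹ * (c : G) * h ∈ C := by
          refine (Subgroup.mem_normalizer_iff.mp hh _).mpr ?_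
          simp [mul_assoc]
        have h1 : h⁻¹ * (c : G) * h * t = t * (h⁻¹ * c * h) :=
          congrArg Subtype.val (Subgroup.mem_center_iff.mp ht ⟨_, hc'⟩)
        show (c : G) * (h * t * h⁻¹) = h * t * h⁻¹ * c
        calc (c : G) * (h * t * h⁻¹) = h * (h⁻¹ * c * h * t) * h⁻¹ := by group
          _ = _ := by rw [h1]; group
      exact Subgroup.mem_normalizer_iff.mpr fun t => ⟨key g hg t, fun ht => by
        simpa [mul_assoc] using key g⁻¹ (Subgroup.inv_mem _ hg) _ ht⟩
    -- so it is a Frobenius complement
    have hF : Cfsg.IsFrobeniusComplement C := by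
      refine ⟨fun h => hAne (le_bot_iff.mp (h ▸ hAC)), hCtop, fun g hg => ?_⟩
      by_contra hne'
      obtain ⟨x, hx, hx1⟩ := (Subgroup.bot_or_exists_ne_one _).resolve_left hne'
      set D := C ⊓ (MulAut.conj g • C) with hDdef
      have hmemD : ∀ y, y ∈ MulAut.conj g • C ↔ g⁻¹ * y * g ∈ C := fun y => Frobenius.mem_conj_smul
      have hcd : ∀ y ∈ D, y ≠ 1 → Subgroup.centralizer ({y} : Set G) ≤ D := by
        intro y hy hy1 z hz
        refine ⟨hCC y hy.1 hy1 hz, (hmemD z).mpr (hCC _ ((hmemD y).mp hy.2) ?_ ?_)⟩
        · intro h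
          exact hy1 (by
            calc y = g * (g⁻¹ * y * g) * g⁻¹ := by group
              _ = 1 := by rw [h]; simp)
        · refine Subgroup.mem_centralizer_iff.mpr ?_
          rintro _ rfl
          have hzy := Subgroup.mem_centralizer_iff.mp hz y rfl
          calc g⁻¹ * y * g * (g⁻¹ * z * g) = g⁻¹ * (y * z) * g := by group
            _ = _ := by rw [hzy]; group
      have hAD : A ≤ D := fun a ha => hcd x hx hx1 (Subgroup.mem_centralizer_iff.mpr (by
        rintro _ rfl
        exact (Subgroup.mem_centralizer_iff.mp hx.1 a ha).symm))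
      obtain ⟨a, ha, ha1⟩ := (Subgroup.bot_or_exists_ne_one A).resolve_left hAne
      have hCle : C ≤ MulAut.conj g • C := fun c hc' => (hcd a (hAD ha) ha1
        (Subgroup.mem_centralizer_iff.mpr (by
          intro h hh
          rw [Set.mem_singleton_iff.mp hh]
          exact Subgroup.mem_centralizer_iff.mp hc' a ha))).2
      have hfwd : C.map (MulAut.conj g⁻¹).toMonoidHom ≤ C := by
        rintro _ ⟨c, hc', rfl⟩
        simpa using (hmemD c).mp (hCle hc')
      have heq : C.map (MulAut.conj g⁻¹).toMonoidHom = C := Subgroup.eq_of_le_of_card_ge hfwd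
        (le_of_eq (Subgroup.card_map_of_injective (MulAut.conj g⁻¹).injective).symm)
      apply hg
      have : g⁻¹ ∈ C := hCnorm _ (Subgroup.mem_normalizer_iff.mpr fun c => ⟨fun hc' => by
          rw [← heq]; exact ⟨c, hc', by simp⟩, fun hc' => by
          rw [← heq] at hc'
          obtain ⟨d, hd, hde⟩ := hc'
          have : d = c := by simpa using hde
          rwa [← this]⟩)
      simpa using C.inv_mem this
    obtain ⟨K, -, hKn, hKC⟩ := Frobenius.exists_frobeniusKernel_subgroup hF
    haveI := hKn
    have hKne : K ≠ ⊥ := by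
      rintro rfl
      exact hCtop (Subgroup.isComplement'_bot_left.mp hKC)
    have hcop : (Nat.card A).Coprime (Nat.card K) := by
      have h := Frobenius.coprime_card_index hF
      rw [hKC.index_eq_card] at h
      exact h.coprime_dvd_left (Subgroup.card_dvd_of_le hAC)
    obtain ⟨r, hr, hrK⟩ := Nat.exists_prime_and_dvd (fun h => hKne (Subgroup.card_eq_one.mp h))
    haveI : Fact r.Prime := ⟨hr⟩
    obtain ⟨R, hR⟩ := Coprime.exists_invariant_sylow A K Subgroup.le_normalizer_of_normal hcop
      (Or.inl hA) r
    set R' := (R : Subgroup K).map K.subtype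
    haveI : Group.IsNilpotent (R : Subgroup K) := R.isPGroup'.isNilpotent
    have hR's : Group.IsSolvable R' := Group.isSolvable_of_surjective
      (f := ((R : Subgroup K).equivMapOfInjective _ K.subtype_injective).toMonoidHom)
      ((R : Subgroup K).equivMapOfInjective _ K.subtype_injective).surjective
    have hsol := FGS77.isSolvable_sup_of_normalizes hR's hA hR
    have hRC : R' ≤ C := fun x hx => Subgroup.mem_centralizer_iff.mpr fun a ha =>
      hc _ le_sup_right hsol a ha x ((le_sup_left : R' ≤ R' ⊔ A) hx)
    have hbot : R' = ⊥ := le_bot_iff.mp (by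
      rw [← disjoint_iff.mp hKC.disjoint]
      exact le_inf (Subgroup.map_subtype_le _) hRC)
    rw [Subgroup.map_eq_bot_iff_of_injective _ K.subtype_injective] at hbot
    have := R.ne_bot_of_dvd_card hrK
    exact this hbot


/-- Let A be a solvable subgroup of a finite group G such that A lies in the centre of every solvable subgroup of G containing A. Then A lies in the centre of G. -/
theorem result {G : Type*} [Group G] [Finite G]
    (A : Subgroup G) (hA : Group.IsSolvable A)
    (hc : ∀ S : Subgroup G, A ≤ S → Group.IsSolvable S → ∀ a ∈ A, ∀ s ∈ S, a * s = s * a) : A ≤ Subgroup.center G := by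
  exact aux _ le_rfl A hA hc

end Cfsg.Agent.S4097
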