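import Cfsg.Statements.S4104
import Cfsg.Agent.PiMany.Final
-- import your own Cfsg.Agent.* helpers here

set_option autoImplicit false
open Cfsg

namespace Cfsg.Agent.S4104

/-- Let G be a finite group, π a set of primes with least member p, m the π-part of the order of G and k the number of conjugacy classes of G consisting of π-elements (elements whose order is divisible only by primes in π). If k > m/p, then G has a nilpotent Hall π-subgroup (a nilpotent subgroup of order m) whose derived subgroup has order at most p. -/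
theorem result {G : Type*} [Group G] [Finite G]
    (π : Set ℕ) (hπ : ∀ q ∈ π, q.Prime) (p : ℕ) (hp : p ∈ π) (hmin : ∀ q ∈ π, p ≤ q)
    (m : ℕ) (hm : m ∣ Nat.card G) (hmπ : ∀ q : ℕ, q.Prime → q ∣ m → q ∈ π)
    (hm' : ∀ q ∈ π, ¬ q ∣ Nat.card G / m)
    (k : ℕ) (hk : k = Nat.card {C : ConjClasses G // ∀ q : ℕ, q.Prime → (∃ g : G, ConjClasses.mk g = C ∧ q ∣ orderOf g) → q ∈ π})
    (hmany : m < p * k) :
    ∃ H : Subgroup G, Nat.card H = m ∧ Group.IsNilpotent H ∧ Nat.card (commutator H) ≤ p := by
  obtain ⟨s, P, W, hW, hWP, hcop, hcard, hkle, -⟩ :=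
    PiMany.many_classes_data π hπ p hp hmin m hm hmπ hm' k hk hmany
  haveI : Fact p.Prime := ⟨hπ p hp⟩
  refine ⟨(P : Subgroup G) ⊔ W, ?_, PiMany.isNilpotent_sup P.isPGroup'.isNilpotent hW hWP,
    (PiMany.card_commutator_sup_le hW hWP).trans ?_⟩
  · rw [PiMany.card_sup_of_commute_coprime (Subgroup.le_centralizer_iff.mp hWP) hcop.symm, hcard]
  · by_contra! hlt
    have h := PiMany.card_conjClasses_le_of_commutator_large P.isPGroup' hlt
    refine absurd hmany (not_lt.mpr ?_)
    calc p * k ≤ p * (Nat.card (ConjClasses ↥(P : Subgroup G)) * Nat.card W) :=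
          Nat.mul_le_mul_left p hkle
      _ = (p * Nat.card (ConjClasses ↥(P : Subgroup G))) * Nat.card W := (mul_assoc _ _ _).symm
      _ ≤ Nat.card (P : Subgroup G) * Nat.card W := Nat.mul_le_mul_right _ h
      _ = m := hcard

end Cfsg.Agent.S4104
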