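import Cfsg.Statements.S4105
import Cfsg.Agent.PiMany.Final
-- import your own Cfsg.Agent.* helpers here

set_option autoImplicit false
open Cfsg

namespace Cfsg.Agent.S4105

/-- Let G be a finite group, π a set of primes with least member p, m the π-part of the order of G and k the number of conjugacy classes of G consisting of π-elements. If k > m·(p² + p − 1)/p³, then G has an abelian Hall π-subgroup (an abelian subgroup of order m). -/
theorem result {G : Type*} [Group G] [Finite G]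
    (π : Set ℕ) (hπ : ∀ q ∈ π, q.Prime) (p : ℕ) (hp : p ∈ π) (hmin : ∀ q ∈ π, p ≤ q)
    (m : ℕ) (hm : m ∣ Nat.card G) (hmπ : ∀ q : ℕ, q.Prime → q ∣ m → q ∈ π)
    (hm' : ∀ q ∈ π, ¬ q ∣ Nat.card G / m)
    (k : ℕ) (hk : k = Nat.card {C : ConjClasses G // ∀ q : ℕ, q.Prime → (∃ g : G, ConjClasses.mk g = C ∧ q ∣ orderOf g) → q ∈ π})
    (hmany : m * (p ^ 2 + p - 1) < p ^ 3 * k) :
    ∃ H : Subgroup G, Nat.card H = m ∧ IsMulCommutative H := by
  have hp2 := (hπ p hp).two_le
  have hmany' : m < p * k := by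
    refine Nat.lt_of_mul_lt_mul_left (a := p ^ 2) ?_
    calc p ^ 2 * m ≤ m * (p ^ 2 + p - 1) := by
          rw [mul_comm]; exact Nat.mul_le_mul_left m (by omega)
      _ < p ^ 3 * k := hmany
      _ = p ^ 2 * (p * k) := by ring
  obtain ⟨s, P, W, hW, hWP, hcop, hcard, hkle, -⟩ :=
    PiMany.many_classes_data π hπ p hp hmin m hm hmπ hm' k hk hmany'
  haveI : Fact p.Prime := ⟨hπ p hp⟩
  have hP : commutator ↥(P : Subgroup G) = ⊥ := by
    by_contra hne
    have h := PiMany.card_conjClasses_le_of_not_comm P.isPGroup' hne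
    refine absurd hmany (not_lt.mpr ?_)
    calc p ^ 3 * k ≤ p ^ 3 * (Nat.card (ConjClasses ↥(P : Subgroup G)) * Nat.card W) :=
          Nat.mul_le_mul_left _ hkle
      _ = (p ^ 3 * Nat.card (ConjClasses ↥(P : Subgroup G))) * Nat.card W := (mul_assoc _ _ _).symm
      _ ≤ Nat.card (P : Subgroup G) * (p ^ 2 + p - 1) * Nat.card W := Nat.mul_le_mul_right _ h
      _ = m * (p ^ 2 + p - 1) := by rw [mul_right_comm, hcard]
  rw [commutator_def] at hP
  have hPc : ∀ a ∈ (P : Subgroup G), ∀ b ∈ (P : Subgroup G), a * b = b * a := fun a ha b hb => by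
    have h := Subgroup.commutator_eq_bot_iff_le_centralizer.mp hP
      (Subgroup.mem_top (⟨a, ha⟩ : (P : Subgroup G)))
    exact (congrArg Subtype.val
      (Subgroup.mem_centralizer_iff.mp h ⟨b, hb⟩ (Subgroup.mem_top _))).symm
  refine ⟨(P : Subgroup G) ⊔ W, ?_, ⟨⟨fun a b => Subtype.ext
    (PiMany.mul_eq_mul_of_mem_sup hPc hW (Subgroup.le_centralizer_iff.mp hWP) a a.2 b b.2)⟩⟩⟩
  rw [PiMany.card_sup_of_commute_coprime (Subgroup.le_centralizer_iff.mp hWP) hcop.symm, hcard]

end Cfsg.Agent.S4105
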