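import Cfsg.Statements.S4107
import Cfsg.Agent.FG78.Basic

set_option autoImplicit false
open Cfsg

namespace Cfsg.Agent.S4107

/-- Let G be a finite group and N a proper non-trivial normal subgroup such that for every x outside N all elements of the coset xN have the same order as x. Then N ≤ F(G) or F(G) ≤ N, where F(G) is the Fitting subgroup; and if N is properly contained in F(G) then F(G) has prime-power order. -/
theorem result {G : Type*} [Group G] [Finite G] (N : Subgroup G) [N.Normal] (hN1 : N ≠ ⊥) (hN2 : N ≠ ⊤)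
    (heq : ∀ x : G, x ∉ N → ∀ n ∈ N, orderOf (x * n) = orderOf x) :
    (N ≤ Cfsg.fittingSubgroup G ∨ Cfsg.fittingSubgroup G ≤ N) ∧
    (N < Cfsg.fittingSubgroup G → IsPrimePow (Nat.card (Cfsg.fittingSubgroup G))) := by
  classical
  have key : ∀ (p : ℕ) (R : Subgroup G), p.Prime → R.Normal → IsPGroup p R → ¬ R ≤ N →
      IsPGroup p N := by
    intro p R hp hRn hR hRN n
    haveI := Fact.mk hp
    obtain ⟨x, hx, hxN⟩ := SetLike.not_le_iff_exists.mp hRN
    obtain ⟨k, hk⟩ := Cfsg.Agent.FG78.orderOf_eq_prime_pow_of_mem hR hx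
    have h1 := heq x hxN (n : G) n.2
    have h2 : (x * (n : G)) ^ p ^ k = 1 := by rw [← hk, ← h1, pow_orderOf_eq_one]
    have h3 : ((n : G) ^ p ^ k) ∈ R := by
      have := congrArg (QuotientGroup.mk' R) h2
      simp only [map_pow, map_mul, map_one, QuotientGroup.mk'_apply,
        (QuotientGroup.eq_one_iff x).mpr hx, one_mul] at this
      rwa [← QuotientGroup.mk_pow, QuotientGroup.eq_one_iff] at this
    obtain ⟨j, hj⟩ := hR ⟨_, h3⟩
    refine ⟨k + j, Subtype.ext ?_⟩
    have := congrArg Subtype.val hj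
    simp only [SubmonoidClass.coe_pow, Subgroup.coe_one] at this ⊢
    rw [pow_add, pow_mul]; exact this
  have hNF : (∃ p : ℕ, p.Prime ∧ IsPGroup p N) → N ≤ Cfsg.fittingSubgroup G := by
    rintro ⟨p, hp, h⟩
    haveI := Fact.mk hp
    exact le_sSup ⟨inferInstance, h.isNilpotent⟩
  have hF : ¬ Cfsg.fittingSubgroup G ≤ N →
      ∃ (p : ℕ), p.Prime ∧ IsPGroup p N := by
    intro h
    rw [Cfsg.fittingSubgroup, sSup_le_iff] at h
    simp only [Set.mem_setOf_eq, not_forall] at h
    obtain ⟨K, ⟨hKn, hK⟩, hKN⟩ := h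
    haveI := hKn
    obtain ⟨q, R, hq, -, hRn, hR, -, hRN⟩ := Cfsg.Agent.FG78.exists_normal_pGroup_not_le hK hKN
    exact ⟨q, hq, key q R hq hRn hR hRN⟩
  refine ⟨or_iff_not_imp_right.mpr fun h => hNF (hF h), fun hlt => ?_⟩
  obtain ⟨p, hp, hNp⟩ := hF hlt.not_ge
  haveI := Fact.mk hp
  obtain ⟨P⟩ := (inferInstance : Nonempty (Sylow p G))
  have hnorm : ∀ R : Subgroup G, R.Normal → IsPGroup p R → R ≤ (P : Subgroup G) := by
    intro R hRn hR
    obtain ⟨Q, hQ⟩ := hR.exists_le_sylow
    obtain ⟨c, hc⟩ := MulAction.exists_smul_eq G Q P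
    rw [← hc, Sylow.coe_subgroup_smul]
    intro x hx
    have := Subgroup.smul_mem_pointwise_smul _ (MulAut.conj c) _ (hQ (hRn.conj_mem x hx c⁻¹))
    simpa [MulAut.smul_def, mul_assoc] using this
  have hFP : Cfsg.fittingSubgroup G ≤ (P : Subgroup G) := by
    refine sSup_le fun K ⟨hKn, hK⟩ => hnorm K hKn ?_
    haveI := hKn
    obtain ⟨n, hn⟩ : ∃ n, Nat.card K = p ^ n := by
      refine ⟨_, Nat.eq_prime_pow_of_unique_prime_dvd Nat.card_pos.ne' fun {q} hq hd => ?_⟩
      haveI := Fact.mk hq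
      obtain ⟨Q⟩ := (inferInstance : Nonempty (Sylow q K))
      haveI := hK
      haveI := Sylow.characteristic_of_normal Q inferInstance
      by_contra hne
      have hdis : ∀ {R : Subgroup G}, IsPGroup q R → IsPGroup p R → R = ⊥ := fun h1 h2 =>
        disjoint_self.mp (IsPGroup.disjoint_of_ne q p hne _ _ h1 h2)
      have hQp : IsPGroup q ↥((Q : Subgroup K).map K.subtype) := Q.2.map _
      by_cases hle : (Q : Subgroup K).map K.subtype ≤ N
      · refine Q.ne_bot_of_dvd_card hd ?_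
        exact Subgroup.map_injective K.subtype_injective
          ((hdis hQp (hNp.to_le hle)).trans (Subgroup.map_bot _).symm)
      · exact hN1 (hdis (key q _ hq inferInstance hQp hle) hNp)
    exact IsPGroup.of_card hn
  obtain ⟨n, hn⟩ := (P.2.to_le hFP).exists_card_eq
  refine hn ▸ hp.isPrimePow.pow ?_
  intro h0
  rw [h0, pow_zero, Subgroup.card_eq_one] at hn
  exact absurd (hn ▸ hlt) not_lt_bot

end Cfsg.Agent.S4107
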