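import Cfsg.Statements.S4108
import Cfsg.Agent.FG78.Basic

set_option autoImplicit false
open Cfsg

namespace Cfsg.Agent.S4108

/-- Let G be a finite group, p a prime and N a proper non-trivial normal p-subgroup such that for every x outside N all elements of the coset xN have the same order as x. Then every non-trivial subgroup H of G of order prime to p acts fixed-point-freely on N: NH is a Frobenius group with complement H and kernel N. -/
theorem result {G : Type*} [Group G] [Finite G] (N : Subgroup G) [N.Normal] (hN1 : N ≠ ⊥) (hN2 : N ≠ ⊤)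
    (heq : ∀ x : G, x ∉ N → ∀ n ∈ N, orderOf (x * n) = orderOf x)
    (p : ℕ) [Fact p.Prime] (hNp : IsPGroup p N) :
    ∀ H : Subgroup G, H ≠ ⊥ → (Nat.card H).Coprime p →
      Cfsg.IsFrobeniusComplement (H.subgroupOf (N ⊔ H)) ∧ Cfsg.frobeniusKernel (H.subgroupOf (N ⊔ H)) = (N.subgroupOf (N ⊔ H) : Set ↥(N ⊔ H)) := by
  intro H hH hcop
  have hp := (Fact.out : p.Prime)
  have hdisj : ∀ x : G, x ∈ N → x ∈ H → x = 1 := by
    intro x hx hx'
    obtain ⟨k, hk⟩ := Cfsg.Agent.FG78.orderOf_eq_prime_pow_of_mem hNp hx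
    have : orderOf x ∣ Nat.card H := by
      have := orderOf_dvd_natCard (⟨x, hx'⟩ : H)
      rwa [Subgroup.orderOf_mk] at this
    rw [← orderOf_eq_one_iff]
    exact Nat.eq_one_of_dvd_coprimes (hcop.pow_right k) this (dvd_of_eq hk)
  refine Cfsg.Agent.FG78.frobenius_of_fpf (N.subgroupOf (N ⊔ H)) (H.subgroupOf (N ⊔ H)) ?_ ?_ ?_ ?_ ?_
  · rw [Ne, Subgroup.subgroupOf_eq_bot]
    exact fun e => hN1 (disjoint_self.mp (e.mono_right (le_sup_left : N ≤ N ⊔ H)))
  · rw [Ne, Subgroup.subgroupOf_eq_bot]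
    exact fun e => hH (disjoint_self.mp (e.mono_right (le_sup_right : H ≤ N ⊔ H)))
  · rw [eq_bot_iff]
    intro x hx
    exact Subgroup.mem_bot.mpr (Subtype.ext (hdisj x hx.1 hx.2))
  · rw [← Subgroup.subgroupOf_sup le_sup_left le_sup_right, Subgroup.subgroupOf_self]
  · intro h hh hh1 n hn hc
    apply Subtype.ext
    have hc' : Commute (h : G) (n : G) := congrArg Subtype.val hc.eq
    have hhN : (h : G) ∉ N := fun e => hh1 (Subtype.ext (hdisj _ e hh))
    have e := heq h hhN n hn
    obtain ⟨k, hk⟩ := Cfsg.Agent.FG78.orderOf_eq_prime_pow_of_mem hNp (show (n : G) ∈ N from hn)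
    have hco : (orderOf (h : G)).Coprime (orderOf (n : G)) := by
      rw [hk]
      refine (Nat.Coprime.coprime_dvd_left ?_ hcop).pow_right k
      exact (dvd_of_eq (Subgroup.orderOf_coe (⟨(h : G), hh⟩ : H))).trans (orderOf_dvd_natCard _)
    rw [hc'.orderOf_mul_eq_mul_orderOf_of_coprime hco, Nat.mul_eq_left (orderOf_pos _).ne',
      orderOf_eq_one_iff] at e
    exact e

end Cfsg.Agent.S4108
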