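import Cfsg.Statements.S4112
import Cfsg.Agent.FG78.PiParts

set_option autoImplicit false
open Cfsg

namespace Cfsg.Agent.S4112

/-- Let G be a finite group and M ≤ N non-trivial proper normal subgroups such that for every g outside N the conjugacy class of g is a union of cosets of M (equivalently gm is conjugate to g for every m ∈ M). Then (1) and (2) below are equivalent, and they imply (3): (1) every g outside N acts fixed-point-freely on M, that is C_G(x) ≤ N for every x ∈ M, x ≠ 1; (2) the index of N in G is coprime to the order of M; (3) there is a subgroup H of G with HN = G and H ∩ M = 1. -/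
theorem result {G : Type*} [Group G] [Finite G] (N M : Subgroup G) [N.Normal] [M.Normal] (hMN : M ≤ N) (hM1 : M ≠ ⊥) (hN2 : N ≠ ⊤)
    (hcam : ∀ g : G, g ∉ N → ∀ m ∈ M, ∃ x : G, x * g * x⁻¹ = g * m) :
    ((∀ x ∈ M, x ≠ 1 → Subgroup.centralizer ({x} : Set G) ≤ N) ↔ N.index.Coprime (Nat.card M)) ∧
    ((∀ x ∈ M, x ≠ 1 → Subgroup.centralizer ({x} : Set G) ≤ N) → ∃ H : Subgroup G, H ⊔ N = ⊤ ∧ H ⊓ M = ⊥) := by
  classical
  have fwd : (∀ x ∈ M, x ≠ 1 → Subgroup.centralizer ({x} : Set G) ≤ N) →
      N.index.Coprime (Nat.card M) := by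
    intro h
    refine Nat.coprime_of_dvd fun p hp h1 h2 => ?_
    haveI := Fact.mk hp
    obtain ⟨P⟩ := (inferInstance : Nonempty (Sylow p G))
    obtain ⟨m, hm⟩ := exists_prime_orderOf_dvd_card' (G := M) p h2
    have hmG : orderOf (m : G) = p := by rw [Subgroup.orderOf_coe]; exact hm
    obtain ⟨Q, hQ⟩ := (IsPGroup.of_card (n := 1)
      (by rw [Nat.card_zpowers, hmG, pow_one]) : IsPGroup p (Subgroup.zpowers (m : G))).exists_le_sylow
    obtain ⟨c, hc⟩ := MulAction.exists_smul_eq G Q P
    have hcm : c * (m : G) * c⁻¹ ∈ (P : Subgroup G) := by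
      rw [← hc, Sylow.coe_subgroup_smul]
      exact Subgroup.smul_mem_pointwise_smul _ (MulAut.conj c) _ (hQ (Subgroup.mem_zpowers _))
    let R : Subgroup ↥(P : Subgroup G) := M.subgroupOf (P : Subgroup G)
    haveI : Nontrivial R := by
      refine ⟨⟨⟨⟨_, hcm⟩, Subgroup.Normal.conj_mem ‹M.Normal› _ m.2 c⟩, 1, fun e => ?_⟩⟩
      have e1 : c * (m : G) * c⁻¹ = 1 :=
        congrArg (fun z : R => ((z : ↥(P : Subgroup G)) : G)) e
      rw [conj_eq_one_iff] at e1
      rw [e1, orderOf_one] at hmG
      exact hp.one_lt.ne hmG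
    obtain ⟨x, hxR, hx1, hxc⟩ :
        ∃ x : ↥(P : Subgroup G), x ∈ R ∧ x ≠ 1 ∧ x ∈ Subgroup.center ↥(P : Subgroup G) := by
      have hne : (R ⊓ Subgroup.center ↥(P : Subgroup G)) ≠ ⊥ := by
        haveI : (M.subgroupOf (P : Subgroup G)).Normal := inferInstance
        haveI : Fact p.Prime := ⟨hp⟩
        intro hbot
        have hpR : IsPGroup p R := P.2.to_subgroup R
        obtain ⟨k, hk⟩ := hpR.exists_card_eq
        have hk0 : k ≠ 0 := fun e => by
          rw [e, pow_zero] at hk
          exact absurd hk (Finite.one_lt_card.ne')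
        letI : MulAction ↥(P : Subgroup G) R := MulAction.compHom R
          (MulAut.conjNormal (H := R) : ↥(P : Subgroup G) →* MulAut R)
        have hfix : (1 : R) ∈ MulAction.fixedPoints ↥(P : Subgroup G) R := fun g =>
          map_one (MulAut.conjNormal g : MulAut R)
        have hd : p ∣ Nat.card R := hk ▸ dvd_pow_self p hk0
        obtain ⟨b, hb, hb1⟩ :=
          P.2.exists_fixed_point_of_prime_dvd_card_of_fixed_point R hd hfix
        apply hb1
        have hbc : (b : ↥(P : Subgroup G)) ∈ R ⊓ Subgroup.center ↥(P : Subgroup G) := by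
          refine ⟨b.2, Subgroup.mem_center_iff.mpr fun g => ?_⟩
          have := congrArg (fun z : R => (z : ↥(P : Subgroup G))) (hb g)
          change ((MulAut.conjNormal g b : R) : ↥(P : Subgroup G)) = _ at this
          rw [MulAut.conjNormal_apply] at this
          exact mul_inv_eq_iff_eq_mul.mp this
        rw [hbot, Subgroup.mem_bot] at hbc
        exact Subtype.ext hbc.symm
      obtain ⟨x, hx⟩ := (Subgroup.ne_bot_iff_exists_ne_one.mp hne)
      exact ⟨x.1, x.2.1, fun e => hx (Subtype.ext e), x.2.2⟩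
    have hle : (P : Subgroup G) ≤ N := by
      intro y hy
      refine h (x : G) hxR (fun e => hx1 (Subtype.ext e)) ?_
      rw [Subgroup.mem_centralizer_singleton_iff]
      exact congrArg (fun z : ↥(P : Subgroup G) => (z : G)) (Subgroup.mem_center_iff.mp hxc ⟨y, hy⟩)
    exact P.not_dvd_index (h1.trans (Subgroup.index_dvd_of_le hle))
  refine ⟨⟨fwd, fun hcop x hx hx1 g hg => ?_⟩, fun h => ?_⟩
  · by_contra hgN
    let π : Set ℕ := {q | q ∣ N.index}
    have hπ : Cfsg.Agent.FG78.IsPiElem π (g : G ⧸ N) := fun q hq hd =>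
      hd.trans ((orderOf_dvd_natCard _).trans (dvd_of_eq (Subgroup.index_eq_card N).symm))
    set a := Cfsg.Agent.FG78.piPart π g with ha
    have hb : Cfsg.Agent.FG78.piPart' π g ∈ N := (QuotientGroup.eq_one_iff _).mp
      (Cfsg.Agent.FG78.map_piPart'_eq_one (QuotientGroup.mk' N) hπ)
    have haN : a ∉ N := fun e => hgN <| by
      rw [← Cfsg.Agent.FG78.piPart_mul_piPart' π g]; exact mul_mem e hb
    have hcx : Commute a x := by
      rw [Subgroup.mem_centralizer_singleton_iff] at hg
      exact (Cfsg.Agent.FG78.commute_piPart π g (h := x) (Commute.symm hg)).symm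
    have hxπ : Cfsg.Agent.FG78.IsPiElem πᶜ x := fun q hq hd hq' => by
      have : q ∣ Nat.card M := hd.trans (by
        have := orderOf_dvd_natCard (⟨x, hx⟩ : M)
        rwa [Subgroup.orderOf_mk] at this)
      exact hq.not_dvd_one (hcop ▸ Nat.dvd_gcd hq' this)
    obtain ⟨c, hc⟩ := hcam a haN x hx
    have haπ := Cfsg.Agent.FG78.isPiElem_piPart π g
    have hax : Cfsg.Agent.FG78.IsPiElem π (a * x) :=
      hc ▸ (Cfsg.Agent.FG78.isPiElem_conj_iff c a).mpr haπ
    have h1 := (Cfsg.Agent.FG78.piPart_unique hcx haπ hxπ rfl).1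
    rw [Cfsg.Agent.FG78.piPart_of_isPiElem hax] at h1
    exact hx1 (mul_eq_left.mp h1)
  · have hcop := fwd h
    obtain ⟨H, hH, hmin⟩ := wellFounded_lt.has_min {H : Subgroup G | H ⊔ N = ⊤} ⟨⊤, top_sup_eq N⟩
    refine ⟨H, hH, ?_⟩
    rw [← Subgroup.card_eq_one]
    by_contra hne
    obtain ⟨p, hp, hd⟩ := Nat.exists_prime_and_dvd hne
    haveI := Fact.mk hp
    have hpM : p ∣ Nat.card M := hd.trans (Subgroup.card_dvd_of_le inf_le_right)
    have hpi : ¬ p ∣ N.index := fun e => hp.not_dvd_one (hcop ▸ Nat.dvd_gcd e hpM)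
    let NH := N.subgroupOf H
    haveI : NH.Normal := inferInstance
    obtain ⟨P⟩ := (inferInstance : Nonempty (Sylow p NH))
    have hfr := Sylow.normalizer_sup_eq_top P
    set Q : Subgroup H := (P : Subgroup NH).map NH.subtype with hQ
    have hidx : ¬ p ∣ Q.index := by
      intro e
      rw [hQ, Subgroup.index_map_subtype] at e
      rcases hp.dvd_mul.mp e with e | e
      · exact P.not_dvd_index e
      · exact hpi (e.trans (Subgroup.relIndex_dvd_index_of_normal N H))
    have hQp : IsPGroup p Q := P.2.map _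
    have hQnorm : Q.Normal := by
      rw [← Subgroup.normalizer_eq_top_iff]
      set W := Subgroup.normalizer (Q : Set H)
      have hW : W.map H.subtype ⊔ N = ⊤ := by
        rw [eq_top_iff, ← hH]
        refine sup_le (fun y hy => ?_) le_sup_right
        have : (⟨y, hy⟩ : H) ∈ W ⊔ NH := hfr ▸ Subgroup.mem_top _
        have h2 := Subgroup.mem_map_of_mem H.subtype this
        rw [Subgroup.map_sup] at h2
        exact (sup_le_sup le_rfl (fun z ⟨w, hw, e⟩ => e ▸ Subgroup.mem_subgroupOf.mp hw) :
          W.map H.subtype ⊔ NH.map H.subtype ≤ W.map H.subtype ⊔ N) h2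
      have hle : W.map H.subtype ≤ H := Subgroup.map_subtype_le W
      have heq : W.map H.subtype = H := by
        by_contra hne'
        exact hmin _ hW (lt_of_le_of_ne hle hne')
      apply Subgroup.map_injective H.subtype_injective
      rw [heq, ← MonoidHom.range_eq_map, Subgroup.range_subtype]
    obtain ⟨k, hk⟩ := hQp.exists_card_eq
    have hcopQ : (Nat.card Q).Coprime Q.index := by
      rw [hk]; exact (hp.coprime_iff_not_dvd.mpr hidx).pow_left _
    obtain ⟨K, hK⟩ := Subgroup.exists_right_complement'_of_coprime hcopQ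
    have hKN : K.map H.subtype ⊔ N = ⊤ := by
      rw [eq_top_iff, ← hH]
      refine sup_le (fun y hy => ?_) le_sup_right
      have : (⟨y, hy⟩ : H) ∈ Q ⊔ K := hK.sup_eq_top ▸ Subgroup.mem_top _
      have h2 := Subgroup.mem_map_of_mem H.subtype this
      rw [Subgroup.map_sup] at h2
      refine (sup_le ?_ le_sup_left : Q.map H.subtype ⊔ K.map H.subtype ≤ K.map H.subtype ⊔ N) h2
      refine le_trans ?_ le_sup_right
      rintro z ⟨w, hw, rfl⟩
      obtain ⟨v, -, rfl⟩ := hw
      exact Subgroup.mem_subgroupOf.mp v.2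
    have hKH : K.map H.subtype = H := by
      by_contra hne'
      exact hmin _ hKN (lt_of_le_of_ne (Subgroup.map_subtype_le K) hne')
    have hKtop : K = ⊤ := Subgroup.map_injective H.subtype_injective
      (by rw [hKH, ← MonoidHom.range_eq_map, Subgroup.range_subtype])
    have hQ1 : Q = ⊥ := by
      have := hK.disjoint
      rwa [hKtop, disjoint_top] at this
    rw [hQ1, Subgroup.index_bot] at hidx
    exact hidx (hd.trans (Subgroup.card_dvd_of_le inf_le_left))

end Cfsg.Agent.S4112
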