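import Cfsg.Statements.S4113
-- (no helpers)

set_option autoImplicit false
open Cfsg

namespace Cfsg.Agent.S4113

/-- Let G be a finite group, M ≤ N non-trivial proper normal subgroups, and H a subgroup with HM = G and H ∩ M = 1. Then every element of G outside N acts fixed-point-freely on M (C_G(x) ≤ N for every x ∈ M, x ≠ 1) if and only if H ∩ gHg⁻¹ ≤ H ∩ N for every g outside H, with H proper and non-trivial and H ∩ N proper in H. -/
theorem result {G : Type*} [Group G] [Finite G] (N M : Subgroup G) [N.Normal] [M.Normal] (hMN : M ≤ N) (hM1 : M ≠ ⊥) (hN2 : N ≠ ⊤)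
    (H : Subgroup G) (hHM : H ⊔ M = ⊤) (hHM' : H ⊓ M = ⊥) :
    (∀ x ∈ M, x ≠ 1 → Subgroup.centralizer ({x} : Set G) ≤ N) ↔
      (H ≠ ⊥ ∧ H ≠ ⊤ ∧ H ⊓ N < H ∧ ∀ g : G, g ∉ H → H ⊓ H.map (MulAut.conj g).toMonoidHom ≤ N) := by
  classical
  have hHtop : H ≠ ⊤ := fun e => hM1 (by rwa [e, top_inf_eq] at hHM')
  have hdec : ∀ g : G, ∃ h ∈ H, ∃ m ∈ M, g = m * h := by
    intro g
    have : g ∈ M ⊔ H := by rw [sup_comm, hHM]; trivial
    rw [← SetLike.mem_coe, Subgroup.normal_mul] at this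
    obtain ⟨m, hm, h, hh, rfl⟩ := this
    exact ⟨h, hh, m, hm, rfl⟩
  have hHN : ¬ H ≤ N := fun e => hN2 (top_le_iff.mp (hHM ▸ sup_le e hMN))
  have memc : ∀ (g y : G), y ∈ H.map (MulAut.conj g).toMonoidHom ↔ g⁻¹ * y * g ∈ H := by
    intro g y
    constructor
    · rintro ⟨h, hh, rfl⟩; simpa [mul_assoc] using hh
    · exact fun hy => ⟨_, hy, by simp [mul_assoc]⟩
  constructor
  · intro hC
    refine ⟨fun e => hHN (e ▸ bot_le), hHtop, lt_of_le_of_ne inf_le_left fun e =>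
      hHN (inf_eq_left.mp e), fun g hg y hy => ?_⟩
    obtain ⟨hyH, hyc⟩ := Subgroup.mem_inf.mp hy
    obtain ⟨h, hh, m, hm, rfl⟩ := hdec g
    have hm1 : m ≠ 1 := fun e => hg (by simpa [e] using hh)
    rw [memc] at hyc
    have hz : m⁻¹ * y * m ∈ H := by
      have := mul_mem (mul_mem hh hyc) (inv_mem hh)
      simpa [mul_assoc] using this
    have e1 : y⁻¹ * (m⁻¹ * y * m) ∈ H ⊓ M := ⟨H.mul_mem (H.inv_mem hyH) hz, by
      have := Subgroup.Normal.conj_mem ‹M.Normal› _ (inv_mem hm) y⁻¹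
      rw [inv_inv] at this
      simpa [mul_assoc] using mul_mem this hm⟩
    rw [hHM', Subgroup.mem_bot, inv_mul_eq_one] at e1
    refine hC m hm hm1 ?_
    rw [Subgroup.mem_centralizer_singleton_iff]
    calc y * m = m * (m⁻¹ * y * m) := by group
      _ = m * y := by rw [← e1]
  · rintro ⟨-, -, -, hTI⟩ x hx hx1 y hy
    by_contra hyN
    rw [Subgroup.mem_centralizer_singleton_iff] at hy
    have hkey : ∀ m ∈ M, m ≠ 1 → ∀ h ∈ H, m * h * m⁻¹ ∈ H → h ∈ N := by
      intro m hm hm1 h hh hmh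
      have hmH : m⁻¹ ∉ H := fun e => hm1 (inv_eq_one.mp (Subgroup.mem_bot.mp
        (hHM' ▸ (⟨e, M.inv_mem hm⟩ : m⁻¹ ∈ H ⊓ M))))
      exact hTI m⁻¹ hmH ⟨hh, (memc _ _).mpr (by simpa using hmh)⟩
    let φ : M × {h : H // (h : G) ∉ N} → {g : G // g ∉ N} := fun mh =>
      ⟨(mh.1 : G) * (mh.2.1 : G) * (mh.1 : G)⁻¹, fun e => mh.2.2 (by
        have := Subgroup.Normal.conj_mem ‹N.Normal› _ e (mh.1 : G)⁻¹
        simpa [mul_assoc] using this)⟩
    have hφ : Function.Injective φ := by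
      rintro ⟨m, h, hh⟩ ⟨m', h', hh'⟩ e
      have e' : (m : G) * (h : G) * (m : G)⁻¹ = (m' : G) * (h' : G) * (m' : G)⁻¹ :=
        congrArg Subtype.val e
      by_cases hmm : m = m'
      · subst hmm
        simp only [mul_left_inj, mul_right_inj, SetLike.coe_eq_coe] at e'
        subst e'; rfl
      · refine absurd (hkey ((m' : G)⁻¹ * m) (mul_mem (inv_mem m'.2) m.2)
          (fun e2 => hmm (Subtype.ext (inv_mul_eq_one.mp e2).symm)) (h : G) h.2 ?_) hh
        have : (m' : G)⁻¹ * m * (h : G) * ((m' : G)⁻¹ * m)⁻¹ =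
            (m' : G)⁻¹ * ((m : G) * (h : G) * (m : G)⁻¹) * m' := by group
        rw [this, e']; simp [mul_assoc]
    have hsur : ∀ g : G, g ∉ N → ∃ mh, (φ mh).1 = g := by
      let ψ : {g : G // g ∉ N} → M × {h : H // (h : G) ∉ N} := fun g =>
        ⟨⟨(hdec g.1).choose_spec.2.choose, (hdec g.1).choose_spec.2.choose_spec.1⟩,
         ⟨⟨(hdec g.1).choose, (hdec g.1).choose_spec.1⟩, fun e => g.2 <| by
          rw [(hdec g.1).choose_spec.2.choose_spec.2]
          exact mul_mem (hMN (hdec g.1).choose_spec.2.choose_spec.1) e⟩⟩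
      have hψ : Function.Injective ψ := fun a b e => Subtype.ext <| by
        rw [(hdec a.1).choose_spec.2.choose_spec.2, (hdec b.1).choose_spec.2.choose_spec.2]
        exact congrArg (fun mh : M × {h : H // (h : G) ∉ N} => (mh.1 : G) * (mh.2.1 : G)) e
      have hs := ((Nat.bijective_iff_injective_and_card φ).mpr
        ⟨hφ, le_antisymm (Nat.card_le_card_of_injective φ hφ) (Nat.card_le_card_of_injective ψ hψ)⟩).2
      exact fun g hg => (hs ⟨g, hg⟩).imp fun mh e => congrArg Subtype.val e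
    obtain ⟨⟨m, h, hh⟩, he⟩ := hsur y hyN
    have he' : (m : G) * (h : G) * (m : G)⁻¹ = y := he
    refine hh (hkey ((m : G)⁻¹ * x * m) ?_ ?_ (h : G) h.2 ?_)
    · simpa using Subgroup.Normal.conj_mem ‹M.Normal› _ hx (m : G)⁻¹
    · intro e
      rw [mul_assoc, inv_mul_eq_one, eq_comm, mul_eq_right] at e
      exact hx1 e
    · have hhx : (m : G)⁻¹ * x * m * (h : G) * ((m : G)⁻¹ * x * m)⁻¹ = (h : G) := by
        have : (m : G)⁻¹ * x * m * (h : G) * ((m : G)⁻¹ * x * m)⁻¹ =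
          (m : G)⁻¹ * (x * ((m : G) * (h : G) * (m : G)⁻¹) * x⁻¹) * m := by group
        rw [this, he', ← hy, mul_inv_cancel_right, ← he']; group
      rw [hhx]; exact h.2

end Cfsg.Agent.S4113
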