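import Cfsg.Statements.S4115
import Cfsg.Agent.FG42b.TIHall

set_option autoImplicit false
universe u
open Cfsg

namespace Cfsg.Agent.S4115


open scoped Pointwise

theorem aux {G : Type u} [Group G] [Finite G] {H : Subgroup G}
    {π : ↥(Subgroup.normalizer (H : Set G)) →* H} (D : TIHall.Data H π) {M : Subgroup G} [M.Normal]
    (hc : M.IsComplement' H) (hMN : M ⊓ Subgroup.normalizer (H : Set G) = TIHall.kerG π)
    (hH : ¬ H.Normal) :
    ∃ (F : Type u) (_ : Group F) (_ : Finite F) (C : Subgroup F),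
      Cfsg.IsFrobeniusComplement C ∧ Nonempty (H ≃* C) := by
  classical
  have hHb : H ≠ ⊥ := fun h => hH (h ▸ inferInstance)
  haveI : Nontrivial H := (Subgroup.nontrivial_iff_ne_bot H).2 hHb
  suffices hQ : ∃ (q : ℕ) (_ : Fact q.Prime) (P : Sylow q M),
      H ≤ Subgroup.normalizer ((P : Subgroup M).map M.subtype : Set G) ∧
        ¬ (P : Subgroup M).map M.subtype ≤ TIHall.kerG π by
    obtain ⟨q, hq, P, hP, hPK⟩ := hQ
    obtain ⟨L, _, _, C, V, hVn, hV, hfpf, ⟨e⟩⟩ :=
      D.exists_fpf hc hMN le_rfl (Subgroup.map_subtype_le _) (P.2.map _) hP hPK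
    haveI := hVn
    haveI : Nontrivial V := (Subgroup.nontrivial_iff_ne_bot V).2 hV
    haveI : Nontrivial C := e.symm.toEquiv.nontrivial
    let φ : C →* MulAut V := MulAut.conjNormal.comp C.subtype
    obtain ⟨F, _, _, C', hC', ⟨e'⟩⟩ :=
      Frobenius.exists_frobenius_of_fixedPointFree_hom φ fun a ha v hv => by
        have h1 : (a : L) * v * (a : L)⁻¹ = v := congrArg Subtype.val hv
        exact Subtype.ext (hfpf.eq_one_of_commute a.2 (fun he => ha (Subtype.ext he)) v.2
          (mul_inv_eq_iff_eq_mul.1 h1))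
    exact ⟨F, inferInstance, inferInstance, C', hC', ⟨e.trans e'⟩⟩
  by_cases hs : Group.IsSolvable H
  · exact D.exists_invariant hc hMN hH le_rfl hs
  have hfpf : ∀ A : Subgroup G, A ≤ H → Group.IsSolvable A →
      ∃ (L : Type u) (_ : Group L) (_ : Finite L) (C V : Subgroup L),
        V.Normal ∧ V ≠ ⊥ ∧ Frobenius.IsFPF C V ∧ Nonempty (A ≃* C) := fun A hA hsA => by
    obtain ⟨q, hq, P, hP, hPK⟩ := D.exists_invariant hc hMN hH hA hsA
    exact D.exists_fpf hc hMN hA (Subgroup.map_subtype_le _) (P.2.map _) hP hPK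
  have heven : 2 ∣ Nat.card H := by
    by_contra hodd
    apply hs
    haveI : IsZGroup H := ⟨fun p hp P => by
      haveI := Fact.mk hp
      let A : Subgroup G := (P : Subgroup H).map H.subtype
      let eA : (P : Subgroup H) ≃* A := Subgroup.equivMapOfInjective _ _ H.subtype_injective
      haveI : Group.IsNilpotent (P : Subgroup H) := P.2.isNilpotent
      have hsA : Group.IsSolvable A :=
        Group.isSolvable_of_surjective (f := eA.toMonoidHom) eA.surjective
      obtain ⟨L, _, _, C, V, -, hV, hCV, ⟨e⟩⟩ := hfpf A (Subgroup.map_subtype_le _) hsA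
      have hC : IsPGroup p C := (P.2.of_equiv eA).of_equiv e
      let S : Sylow p C := default
      have hS : (S : Subgroup C) = ⊤ :=
        S.is_maximal' (hC.to_subgroup ⊤) le_top ▸ rfl
      rcases hCV.sylow_isCyclic_or_quaternion hV S with hcy | ⟨rfl, n, ⟨f⟩⟩
      · haveI : IsCyclic C := by
          rw [hS] at hcy
          exact (Subgroup.topEquiv (G := C)).isCyclic.1 hcy
        exact ((eA.trans e).isCyclic).2 inferInstance
      · exfalso
        apply hodd
        have h1 : 2 ∣ Nat.card S := by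
          rw [Nat.card_congr f.toEquiv, Nat.card_eq_fintype_card, QuaternionGroup.card]
          exact dvd_mul_of_dvd_left (by norm_num) _
        exact (h1.trans (Subgroup.card_subgroup_dvd_card _)).trans
          ((Nat.card_congr (eA.trans e).toEquiv) ▸ Subgroup.card_subgroup_dvd_card _)⟩
    infer_instance
  haveI := Fact.mk Nat.prime_two
  obtain ⟨z, hz⟩ := exists_prime_orderOf_dvd_card' (G := H) 2 heven
  have hzG : orderOf (z : G) = 2 := by rw [Subgroup.orderOf_coe]; exact hz
  have huniq : ∀ w ∈ H, orderOf w = 2 → w = (z : G) := by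
    intro w hw hwo
    let A : Subgroup G := Subgroup.closure {(z : G), w}
    have hA : A ≤ H := (Subgroup.closure_le _).2 (by
      rintro x (rfl | rfl)
      · exact z.2
      · exact hw)
    obtain ⟨L, _, _, C, V, -, hV, hCV, ⟨e⟩⟩ := hfpf A hA (TIHall.isSolvable_closure_pair hzG hwo)
    let za : A := ⟨(z : G), Subgroup.subset_closure (Set.mem_insert _ _)⟩
    let wa : A := ⟨w, Subgroup.subset_closure (Set.mem_insert_of_mem _ rfl)⟩
    have hza : orderOf ((e za : C) : L) = 2 := by
      rw [Subgroup.orderOf_coe, MulEquiv.orderOf_eq, ← Subgroup.orderOf_coe]; exact hzG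
    have hwa : orderOf ((e wa : C) : L) = 2 := by
      rw [Subgroup.orderOf_coe, MulEquiv.orderOf_eq, ← Subgroup.orderOf_coe]; exact hwo
    have h2 : 2 ∣ Nat.card C := by
      rw [← hza, Subgroup.orderOf_coe]; exact orderOf_dvd_natCard _
    obtain ⟨⟨s, -, -, hu, -⟩, -⟩ := hCV.unique_involution hV h2
    have := e.injective (Subtype.ext ((hu _ (e wa).2 hwa).trans (hu _ (e za).2 hza).symm))
    exact congrArg Subtype.val this
  have hcent : ∀ x ∈ H, Commute (z : G) x := fun x hx => by
    have := huniq (x * z * x⁻¹) (mul_mem (mul_mem hx z.2) (inv_mem hx)) (by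
      rw [← hzG]
      exact orderOf_injective (MulAut.conj x).toMonoidHom (MulAut.conj x).injective (z : G))
    exact (mul_inv_eq_iff_eq_mul.1 this).symm
  let Z : Subgroup G := Subgroup.zpowers (z : G)
  have hZH : Z ≤ H := Subgroup.zpowers_le.2 z.2
  have hZs : Group.IsSolvable Z := inferInstance
  obtain ⟨q, hq, P, hP, hPK⟩ := D.exists_invariant hc hMN hH hZH hZs
  refine ⟨q, hq, P, fun x hx => ?_, hPK⟩
  set Q := (P : Subgroup M).map M.subtype with hQ
  let cx : MulAut M := MulAut.conjNormal x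
  let P2 : Sylow q M := P.comapOfInjective cx.symm.toMonoidHom cx.symm.injective
    (fun y _ => ⟨cx y, cx.symm_apply_apply y⟩)
  have hmem2 : ∀ y : G, y ∈ (P2 : Subgroup M).map M.subtype ↔ x⁻¹ * y * x ∈ Q := by
    intro y
    constructor
    · rintro ⟨m, hm, rfl⟩
      exact ⟨cx.symm m, hm, by simp [cx, MulAut.conjNormal_symm_apply]⟩
    · rintro ⟨m, hm, he⟩
      refine ⟨cx m, ?_, ?_⟩
      · show cx.symm (cx m) ∈ (P : Subgroup M)
        rwa [MulEquiv.symm_apply_apply]
      · simp only [Subgroup.coe_subtype] at he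
        simp [cx, MulAut.conjNormal_apply, he, mul_assoc]
  have hP2 : Z ≤ Subgroup.normalizer ((P2 : Subgroup M).map M.subtype : Set G) :=
    Coprime.le_normalizer_of_conj_mem fun a ha y hy => by
      rw [hmem2] at hy ⊢
      have hax : Commute a x := by
        obtain ⟨i, rfl⟩ := Subgroup.mem_zpowers_iff.1 ha
        exact (hcent x hx).zpow_left i
      have h1 := (Subgroup.mem_normalizer_iff.1 (hP ha) _).1 hy
      have h2 : a * (x⁻¹ * y * x) * a⁻¹ = x⁻¹ * (a * y * a⁻¹) * x := by
        calc a * (x⁻¹ * y * x) * a⁻¹ = (a * x⁻¹) * y * (a * x⁻¹)⁻¹ := by group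
          _ = (x⁻¹ * a) * y * (x⁻¹ * a)⁻¹ := by rw [hax.inv_right.eq]
          _ = _ := by group
      rwa [h2] at h1
  have hcop : (Nat.card Z).Coprime (Nat.card M) :=
    Nat.Coprime.coprime_dvd_left (Subgroup.card_dvd_of_le hZH)
      (hc.index_eq_card ▸ D.coprime_index)
  obtain ⟨c, hcZ, hcP⟩ := Coprime.exists_invariant_sylow_conj Z M
    (by simp [Subgroup.normalizer_eq_top]) hcop (Or.inl hZs) q P P2 hP hP2
  have hz1 : (z : G) ≠ 1 := fun he => by rw [he, orderOf_one] at hzG; omega
  have hcK : (c : G) ∈ TIHall.kerG π := by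
    rw [← hMN]
    exact ⟨c.2, D.mem_of_commute z.2 hz1
      ((Subgroup.mem_centralizer_iff.1 hcZ) _ (Subgroup.mem_zpowers _))⟩
  have hxc : Commute x (c : G) := D.commute_kerG hx hcK
  -- `c⁻¹ x` normalises `Q`
  have hconj : ∀ y ∈ Q, ((c : G)⁻¹ * x) * y * ((c : G)⁻¹ * x)⁻¹ ∈ Q := by
    intro y hy
    have h1 : x * y * x⁻¹ ∈ (P2 : Subgroup M).map M.subtype := by
      rw [hmem2]; simpa [mul_assoc] using hy
    rw [← hcP] at h1
    obtain ⟨m, hm, he⟩ := h1
    obtain ⟨m', hm', rfl⟩ := hm
    refine ⟨m', hm', ?_⟩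
    simp only [Subgroup.coe_subtype] at he
    simp only [Subgroup.coe_subtype]
    have he' : (c : G) * m' * (c : G)⁻¹ = x * y * x⁻¹ := he
    calc (m' : G) = (c : G)⁻¹ * ((c : G) * m' * (c : G)⁻¹) * c := by group
      _ = _ := by rw [he']; group
  have hnorm : (c : G)⁻¹ * x ∈ Subgroup.normalizer (Q : Set G) := by
    rw [Subgroup.mem_normalizer_iff_map_conj_eq]
    refine Subgroup.eq_of_le_of_card_ge ?_ (Nat.card_congr
      (Subgroup.equivMapOfInjective _ _ (MulAut.conj ((c : G)⁻¹ * x)).injective).toEquiv).le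
    rintro _ ⟨y, hy, rfl⟩
    exact hconj y hy
  have hcm : Commute ((c : G)⁻¹) x := hxc.symm.inv_left
  obtain ⟨e, he1, he2⟩ := Nat.chineseRemainder (hc.index_eq_card ▸ D.coprime_index :
    (Nat.card H).Coprime (Nat.card M)) 1 0
  have h1 := pow_mem hnorm e
  rw [hcm.mul_pow] at h1
  have hxe : x ^ e = x := by
    have : (⟨x, hx⟩ : H) ^ e = (⟨x, hx⟩ : H) ^ 1 :=
      pow_eq_pow_iff_modEq.2 (he1.of_dvd (orderOf_dvd_natCard _))
    simpa using congrArg Subtype.val this
  have hce : ((c : G)⁻¹) ^ e = 1 := by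
    have : (c⁻¹ : M) ^ e = (c⁻¹ : M) ^ 0 :=
      pow_eq_pow_iff_modEq.2 (he2.of_dvd (orderOf_dvd_natCard _))
    simpa using congrArg Subtype.val this
  rwa [hxe, hce, one_mul] at h1

/-- Let G be a finite group and H a subgroup that meets each of its conjugates by elements outside N_G(H) trivially and whose order is coprime to its index in N_G(H). Then H has a normal complement in N_G(H) if and only if H has a normal complement in G. Moreover, if H is not normal in G and has a normal complement in N_G(H), then H is isomorphic to a Frobenius complement of some finite Frobenius group. -/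
theorem result {G : Type u} [Group G] [Finite G] (H : Subgroup G)
    (hTI : Cfsg.IsTISubset (H : Set G)) (hHall : (Nat.card H).Coprime (H.subgroupOf (Subgroup.normalizer (H : Set G))).index) :
    ((∃ K : Subgroup (Subgroup.normalizer (H : Set G)), K.Normal ∧ K.IsComplement' (H.subgroupOf (Subgroup.normalizer (H : Set G)))) ↔
      (∃ N : Subgroup G, N.Normal ∧ N.IsComplement' H)) ∧
    (¬ H.Normal → (∃ K : Subgroup (Subgroup.normalizer (H : Set G)), K.Normal ∧ K.IsComplement' (H.subgroupOf (Subgroup.normalizer (H : Set G)))) →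
      ∃ (F : Type u) (_ : Group F) (_ : Finite F) (C : Subgroup F), Cfsg.IsFrobeniusComplement C ∧ Nonempty (H ≃* C)) := by
  refine ⟨⟨fun h => ?_, fun ⟨M, hMn, hc⟩ => ?_⟩, fun hH h => ?_⟩
  · obtain ⟨π, D⟩ := TIHall.exists_data hTI hHall h
    obtain ⟨M, hMn, hc, -⟩ := D.exists_complement
    exact ⟨M, hMn, hc⟩
  · haveI := hMn
    refine ⟨M.subgroupOf (Subgroup.normalizer (H : Set G)), inferInstance,
      Subgroup.isComplement'_of_disjoint_and_mul_eq_univ ?_ ?_⟩
    · exact disjoint_iff_inf_le.2 fun x hx => Subgroup.mem_bot.2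
        (Subtype.ext (Subgroup.mem_bot.1 (hc.disjoint.le_bot ⟨hx.1, hx.2⟩)))
    · rw [Set.eq_univ_iff_forall]
      intro n
      obtain ⟨m, hm, x, hx, he⟩ : (n : G) ∈ (M : Set G) * (H : Set G) := hc.mul_eq ▸ Set.mem_univ _
      have hm' : m ∈ Subgroup.normalizer (H : Set G) := by
        rw [show m = (n : G) * x⁻¹ by rw [← he]; simp]
        exact mul_mem n.2 (inv_mem (Subgroup.le_normalizer hx))
      exact ⟨⟨m, hm'⟩, hm, ⟨x, Subgroup.le_normalizer hx⟩, hx, Subtype.ext he⟩
  obtain ⟨π, D⟩ := TIHall.exists_data hTI hHall h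
  obtain ⟨M, hMn, hc, hMN⟩ := D.exists_complement
  haveI := hMn
  exact aux D hc hMN hH

end Cfsg.Agent.S4115
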