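import Cfsg.Statements.S4116
-- (no helpers)

set_option autoImplicit false
open Cfsg

namespace Cfsg.Agent.S4116

/-- Let G be a finite group with a subgroup H whose order is coprime to its index (a Hall subgroup) and which meets each of its conjugates by elements outside N_G(H) trivially. Then every subgroup of G whose order is divisible only by primes dividing the order of H lies in a conjugate of H. -/
theorem result {G : Type*} [Group G] [Finite G] (H : Subgroup G)
    (hHall : (Nat.card H).Coprime H.index) (hTI : Cfsg.IsTISubset (H : Set G))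
    (K : Subgroup G) (hK : ∀ q : ℕ, q.Prime → q ∣ Nat.card K → q ∣ Nat.card H) :
    ∃ g : G, K ≤ H.map (MulAut.conj g).toMonoidHom := by
  classical
  have memc : ∀ (g y : G), y ∈ H.map (MulAut.conj g).toMonoidHom ↔ g⁻¹ * y * g ∈ H := by
    intro g y
    constructor
    · rintro ⟨h, hh, rfl⟩; simpa [mul_assoc] using hh
    · exact fun hy => ⟨_, hy, by simp [mul_assoc]⟩
  have same : ∀ (a b x : G), x ≠ 1 → x ∈ H.map (MulAut.conj a).toMonoidHom →
      x ∈ H.map (MulAut.conj b).toMonoidHom →
      H.map (MulAut.conj a).toMonoidHom = H.map (MulAut.conj b).toMonoidHom := by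
    intro a b x hx ha hb
    rw [memc] at ha hb
    have hn : a⁻¹ * b ∈ Subgroup.normalizer (H : Set G) := by
      by_contra h
      have h1 := hTI _ h (b⁻¹ * x * b) hb (by
        have e : a⁻¹ * b * (b⁻¹ * x * b) * (a⁻¹ * b)⁻¹ = a⁻¹ * x * a := by group
        rw [e]; exact ha)
      have : x = b * (b⁻¹ * x * b) * b⁻¹ := by group
      rw [h1] at this
      exact hx (by simpa using this)
    ext y
    rw [memc, memc, Subgroup.mem_normalizer_iff.mp hn (b⁻¹ * y * b)]
    simp [mul_assoc]
  suffices main : ∀ (n : ℕ) (K : Subgroup G), Nat.card K ≤ n →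
      (∀ q : ℕ, q.Prime → q ∣ Nat.card K → q ∣ Nat.card H) →
      ∃ g : G, K ≤ H.map (MulAut.conj g).toMonoidHom from main _ K le_rfl hK
  clear hK K
  intro n
  induction n using Nat.strong_induction_on with
  | _ n ih =>
  intro K hKn hK
  have small : ∀ M : Subgroup K, M ≠ ⊤ →
      ∃ g : G, M.map K.subtype ≤ H.map (MulAut.conj g).toMonoidHom := by
    intro M hM
    have hcard : Nat.card (M.map K.subtype) = Nat.card M :=
      Subgroup.card_map_of_injective K.subtype_injective
    have hlt : Nat.card M < Nat.card K :=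
      lt_of_le_of_ne (Subgroup.card_le_card_group M)
        (fun e => hM (Subgroup.eq_top_of_card_eq M e))
    exact ih _ (lt_of_lt_of_le hlt hKn) _ hcard.le fun q hq hd =>
      hK q hq ((hcard ▸ hd).trans (Subgroup.card_subgroup_dvd_card M))
  by_contra hno
  simp only [not_exists] at hno
  -- `K` normalising a conjugate lies in it
  have hnormal : ∀ g : G, (∀ k : K, H.map (MulAut.conj ((k : G) * g)).toMonoidHom =
      H.map (MulAut.conj g).toMonoidHom) → False := by
    intro g hk
    set H' := H.map (MulAut.conj g).toMonoidHom with hH'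
    have hcH : Nat.card H' = Nat.card H :=
      Subgroup.card_map_of_injective (MulAut.conj g).injective
    have hiH : H'.index = H.index :=
      Subgroup.index_map_equiv H (MulAut.conj g)
    have hKn' : K ≤ Subgroup.normalizer (H' : Set G) := by
      intro k hk'
      rw [Subgroup.mem_normalizer_iff]
      intro y
      have e := hk ⟨k, hk'⟩
      constructor
      · intro hy
        rw [← e, memc]
        rw [memc] at hy
        simpa [mul_assoc] using hy
      · intro hy
        rw [← e, memc] at hy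
        rw [memc]
        simpa [mul_assoc] using hy
    haveI : (H'.subgroupOf (K ⊔ H')).Normal :=
      Subgroup.normal_subgroupOf_of_le_normalizer (sup_le hKn' Subgroup.le_normalizer)
    have hrel : H'.relIndex K = 1 := by
      by_contra hne
      obtain ⟨q, hq, hd⟩ := Nat.exists_prime_and_dvd hne
      have h1 : H'.relIndex K ∣ H'.index := by
        rw [← Subgroup.relIndex_subgroupOf (le_sup_left : K ≤ K ⊔ H')]
        refine (Subgroup.relIndex_dvd_index_of_normal _ _).trans ?_
        exact (dvd_mul_right (H'.relIndex (K ⊔ H')) _).trans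
          (dvd_of_eq (Subgroup.relIndex_mul_index (le_sup_right : H' ≤ K ⊔ H')))
      have h2 := hK q hq (hd.trans (Subgroup.relIndex_dvd_card _ _))
      exact hq.not_dvd_one (hHall ▸ Nat.dvd_gcd h2 (hiH ▸ hd.trans h1))
    exact hno g (Subgroup.relIndex_eq_one.mp hrel)
  have hK1 : ¬ ∀ x : K, x = 1 := fun h => hno 1 fun x hx => by
    have : x = 1 := congrArg Subtype.val (h ⟨x, hx⟩)
    rw [this]; exact one_mem _
  haveI : Nontrivial K := by
    simp only [not_forall] at hK1
    obtain ⟨x, hx⟩ := hK1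
    exact ⟨⟨x, 1, hx⟩⟩
  -- every proper subgroup is self-normalising if nontrivial
  have selfnorm : ∀ M : Subgroup K, M ≠ ⊤ → M ≠ ⊥ → ¬ M.Normal := by
    intro M hM hM1 hMn
    obtain ⟨g, hg⟩ := small M hM
    obtain ⟨x, hx⟩ := Subgroup.ne_bot_iff_exists_ne_one.mp hM1
    refine hnormal g fun k => same _ _ ((k : G) * (x : K) * (k : G)⁻¹) ?_ ?_ ?_
    · intro e
      rw [conj_eq_one_iff] at e
      exact hx (Subtype.ext (Subtype.ext e))
    · rw [memc]
      have := (memc _ _).mp (hg (Subgroup.mem_map_of_mem K.subtype x.2))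
      simpa [mul_assoc] using this
    · exact hg ⟨k * x * k⁻¹, hMn.conj_mem _ x.2 k, rfl⟩
  -- K is not of prime power order
  have notpp : ∀ q : ℕ, q.Prime → ¬ IsPGroup q K := by
    intro q hq hp
    haveI := Fact.mk hq
    obtain ⟨i, hi⟩ := hp.exists_card_eq
    have hi0 : i ≠ 0 := fun e => by
      rw [e, pow_zero] at hi
      exact absurd hi Finite.one_lt_card.ne'
    have hqH : q ∣ Nat.card H := hK q hq (hi ▸ dvd_pow_self q hi0)
    obtain ⟨P⟩ := (inferInstance : Nonempty (Sylow q H))
    have hPmap : Nat.card ((P : Subgroup H).map H.subtype) = q ^ (Nat.card G).factorization q := by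
      rw [Subgroup.card_map_of_injective H.subtype_injective, P.card_eq_multiplicity]
      congr 1
      have e := Subgroup.card_mul_index H
      rw [← e, Nat.factorization_mul Nat.card_pos.ne' Subgroup.index_ne_zero_of_finite,
        Finsupp.add_apply, Nat.factorization_eq_zero_of_not_dvd
          (fun h => hq.not_dvd_one (hHall ▸ Nat.dvd_gcd hqH h)), add_zero]
    let P' : Sylow q G := Sylow.ofCard _ hPmap
    obtain ⟨Q, hQ⟩ := hp.exists_le_sylow
    obtain ⟨g, hg⟩ := MulAction.exists_smul_eq G P' Q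
    refine hno g fun x hx => ?_
    have := hQ hx
    rw [← hg, Sylow.coe_subgroup_smul, Subgroup.mem_pointwise_smul_iff_inv_smul_mem] at this
    rw [memc]
    have h2 := Subgroup.map_subtype_le (P : Subgroup H) this
    simpa [MulAut.smul_def] using h2
  have coat : ∀ M : Subgroup K, IsCoatom M → M ≠ ⊥ := by
    intro M hM e
    subst e
    obtain ⟨q, hq, hd⟩ := Nat.exists_prime_and_dvd (Finite.one_lt_card (α := K)).ne'
    haveI := Fact.mk hq
    obtain ⟨x, hx⟩ := exists_prime_orderOf_dvd_card' q hd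
    have htop : Subgroup.zpowers x = ⊤ := hM.2 _ (bot_lt_iff_ne_bot.mpr fun e => by
      rw [Subgroup.zpowers_eq_bot] at e
      rw [e, orderOf_one] at hx
      exact hq.one_lt.ne hx)
    have hcard : Nat.card K = q := by
      rw [← hx, ← Nat.card_zpowers, htop, Subgroup.card_top]
    exact notpp q hq (IsPGroup.of_card (n := 1) (hcard.trans (pow_one q).symm))
  have tinter : ∀ M₁ M₂ : Subgroup K, IsCoatom M₁ → IsCoatom M₂ → M₁ ≠ M₂ → M₁ ⊓ M₂ = ⊥ := by
    intro M₁ M₂ h₁ h₂ hne
    by_contra hb
    obtain ⟨g₁, hg₁⟩ := small M₁ h₁.1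
    obtain ⟨g₂, hg₂⟩ := small M₂ h₂.1
    obtain ⟨x, hx⟩ := Subgroup.ne_bot_iff_exists_ne_one.mp hb
    have e := same g₁ g₂ ((x : K) : G) (fun e => hx (Subtype.ext (Subtype.ext e)))
      (hg₁ (Subgroup.mem_map_of_mem K.subtype x.2.1)) (hg₂ (Subgroup.mem_map_of_mem K.subtype x.2.2))
    have htop : M₁ ⊔ M₂ = ⊤ := h₁.2 _ (lt_of_le_of_ne le_sup_left fun e' => by
      have hle : M₂ ≤ M₁ := e'.symm ▸ le_sup_right
      exact h₁.1 (h₂.2 M₁ (lt_of_le_of_ne hle hne.symm)))
    refine hno g₁ ?_
    calc K = (⊤ : Subgroup K).map K.subtype := by rw [← MonoidHom.range_eq_map, Subgroup.range_subtype]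
      _ = M₁.map K.subtype ⊔ M₂.map K.subtype := by rw [← htop, Subgroup.map_sup]
      _ ≤ _ := sup_le hg₁ (e ▸ hg₂)
  have conjco : ∀ M : Subgroup K, IsCoatom M → ∀ k : K,
      IsCoatom (M.map (MulAut.conj k).toMonoidHom) := by
    intro M hM k
    have e : M.map (MulAut.conj k).toMonoidHom = (MulAut.conj k).mapSubgroup M := rfl
    rw [e, OrderIso.isCoatom_iff]
    exact hM
  have memc' : ∀ (M : Subgroup K) (k y : K), y ∈ M.map (MulAut.conj k).toMonoidHom ↔
      k⁻¹ * y * k ∈ M := by
    intro M k y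
    constructor
    · rintro ⟨h, hh, rfl⟩; simpa [mul_assoc] using hh
    · exact fun hy => ⟨_, hy, by simp [mul_assoc]⟩
  have hnorm : ∀ M : Subgroup K, IsCoatom M → ∀ k : K,
      M.map (MulAut.conj k).toMonoidHom = M → k ∈ M := by
    intro M hM k hk
    by_contra hkM
    have hle : M ≤ Subgroup.normalizer (M : Set K) := Subgroup.le_normalizer
    have hkn : k ∈ Subgroup.normalizer (M : Set K) := by
      rw [Subgroup.mem_normalizer_iff]
      intro y
      conv_rhs => rw [← hk, memc']
      simp [mul_assoc]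
    have := hM.2 _ (lt_of_le_of_ne hle fun e => hkM (e ▸ hkn))
    exact selfnorm M hM.1 (coat M hM) (Subgroup.normalizer_eq_top_iff.mp this)
  let X : Subgroup K → Type _ := fun M => {x : K // x ≠ 1 ∧ ∃ k : K, k⁻¹ * x * k ∈ M}
  have hX : ∀ M : Subgroup K, IsCoatom M →
      Nat.card (K ⧸ M) * Nat.card {m : M // m ≠ 1} ≤ Nat.card (X M) := by
    intro M hM
    rw [← Nat.card_prod]
    refine Nat.card_le_card_of_injective (fun cm => ⟨cm.1.out * (cm.2.1 : K) * cm.1.out⁻¹,
      fun e => cm.2.2 (Subtype.ext (conj_eq_one_iff.mp e)), cm.1.out, by simp [mul_assoc]⟩) ?_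
    rintro ⟨c, m, hm⟩ ⟨d, m', hm'⟩ h
    have h' : c.out * (m : K) * c.out⁻¹ = d.out * (m' : K) * d.out⁻¹ := congrArg Subtype.val h
    have hcd : c = d := by
      rw [← QuotientGroup.out_eq' c, ← QuotientGroup.out_eq' d, QuotientGroup.eq]
      by_contra hne
      have hne' : M.map (MulAut.conj (c.out⁻¹ * d.out)).toMonoidHom ≠ M := fun e => hne (hnorm M hM _ e)
      have hmem : (m : K) ∈ M.map (MulAut.conj (c.out⁻¹ * d.out)).toMonoidHom := by
        rw [memc']
        have e : (c.out⁻¹ * d.out)⁻¹ * (m : K) * (c.out⁻¹ * d.out) =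
            d.out⁻¹ * (c.out * (m : K) * c.out⁻¹) * d.out := by group
        rw [e, h']
        simp [mul_assoc]
      have := tinter _ M (conjco M hM _) hM hne'
      exact hm (Subtype.ext (Subgroup.mem_bot.mp (this ▸ Subgroup.mem_inf.mpr ⟨hmem, m.2⟩)))
    subst hcd
    have : m = m' := Subtype.ext (mul_left_cancel (mul_right_cancel h'))
    subst this; rfl
  obtain ⟨M, hM, -⟩ := (eq_top_or_exists_le_coatom (⊥ : Subgroup K)).resolve_left bot_ne_top
  have hcnt : ∀ L : Subgroup K, IsCoatom L →
      Nat.card K ≤ 2 * Nat.card (X L) := by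
    intro L hL
    have h2 : 2 ≤ Nat.card L := Finite.one_lt_card_iff_nontrivial.mpr (Subgroup.nontrivial_iff_ne_bot L |>.mpr (coat L hL))
    have h1 : Nat.card {m : L // m ≠ 1} + 1 = Nat.card L := by
      have := Finite.card_option (α := {m : L // m ≠ 1})
      rw [Nat.card_congr (Equiv.optionSubtypeNe (1 : L))] at this
      exact this.symm
    have e := Subgroup.card_eq_card_quotient_mul_card_subgroup L
    refine le_trans ?_ (Nat.mul_le_mul_left 2 (hX L hL))
    rw [e, mul_comm 2, mul_assoc]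
    exact Nat.mul_le_mul_left _ (by omega)
  have hneX : ∃ y : K, y ≠ 1 ∧ ∀ k : K, k⁻¹ * y * k ∉ M := by
    by_contra h
    simp only [not_exists, not_and, not_forall, not_not] at h
    have h1 : Nat.card {y : K // y ≠ 1} ≤ Nat.card (K ⧸ M) * Nat.card {m : M // m ≠ 1} := by
      rw [← Nat.card_prod]
      refine Nat.card_le_card_of_surjective (fun cm => (⟨cm.1.out * (cm.2.1 : K) * cm.1.out⁻¹,
        fun e => cm.2.2 (Subtype.ext (conj_eq_one_iff.mp e))⟩ : {y : K // y ≠ 1})) fun y => ?_
      obtain ⟨k, hk⟩ := h y.1 y.2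
      obtain ⟨m, hm⟩ := QuotientGroup.mk_out_eq_mul M k
      refine ⟨(k, ⟨⟨(m : K)⁻¹ * (k⁻¹ * y.1 * k) * m, mul_mem (mul_mem (inv_mem m.2) hk) m.2⟩, ?_⟩),
        Subtype.ext ?_⟩
      · intro e
        refine y.2 ?_
        have e' : (m : K)⁻¹ * (k⁻¹ * y.1 * k) * m = 1 := congrArg Subtype.val e
        have : y.1 = k * m * ((m : K)⁻¹ * (k⁻¹ * y.1 * k) * m) * (m : K)⁻¹ * k⁻¹ := by group
        rw [this, e']; group
      · show (k : K ⧸ M).out * _ * _ = y.1
        rw [hm]; simp [mul_assoc]
    have e := Subgroup.card_eq_card_quotient_mul_card_subgroup M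
    have e2 : Nat.card {y : K // y ≠ 1} + 1 = Nat.card K := by
      have := Finite.card_option (α := {y : K // y ≠ 1})
      rw [Nat.card_congr (Equiv.optionSubtypeNe (1 : K))] at this
      exact this.symm
    have e3 : Nat.card {m : M // m ≠ 1} + 1 = Nat.card M := by
      have := Finite.card_option (α := {m : M // m ≠ 1})
      rw [Nat.card_congr (Equiv.optionSubtypeNe (1 : M))] at this
      exact this.symm
    have e4 : 1 < Nat.card (K ⧸ M) := by
      rw [← Subgroup.index_eq_card]
      exact Subgroup.one_lt_index_of_ne_top hM.1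
    rw [← e3, mul_add, mul_one] at e
    omega
  obtain ⟨y, hy1, hy⟩ := hneX
  have hycyc : Subgroup.zpowers y ≠ ⊤ := by
    intro e
    refine selfnorm M hM.1 (coat M hM) ⟨fun m hm k => ?_⟩
    obtain ⟨i, rfl⟩ := Subgroup.mem_zpowers_iff.mp (e ▸ Subgroup.mem_top m : m ∈ Subgroup.zpowers y)
    obtain ⟨j, rfl⟩ := Subgroup.mem_zpowers_iff.mp (e ▸ Subgroup.mem_top k : k ∈ Subgroup.zpowers y)
    rwa [← zpow_neg, ← zpow_add, ← zpow_add, add_neg_cancel_comm]
  obtain ⟨L, hL, hyL⟩ := (eq_top_or_exists_le_coatom (Subgroup.zpowers y)).resolve_left hycyc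
  have hdisj : Nat.card (X M ⊕ X L) ≤ Nat.card {x : K // x ≠ 1} := by
    refine Nat.card_le_card_of_injective
      (Sum.elim (fun x => ⟨x.1, x.2.1⟩) (fun x => ⟨x.1, x.2.1⟩)) ?_
    rintro (⟨a, ha1, k, hk⟩ | ⟨a, ha1, k, hk⟩) (⟨b, hb1, l, hl⟩ | ⟨b, hb1, l, hl⟩) h <;>
      simp only [Sum.elim_inl, Sum.elim_inr, Subtype.mk.injEq] at h <;> subst h
    · rfl
    · exfalso
      have hne : M.map (MulAut.conj k).toMonoidHom ≠ L.map (MulAut.conj l).toMonoidHom := by
        intro e
        refine hy (l⁻¹ * k) ?_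
        have : l * y * l⁻¹ ∈ M.map (MulAut.conj k).toMonoidHom := by
          rw [e, memc']; simpa [mul_assoc] using hyL (Subgroup.mem_zpowers y)
        rw [memc'] at this
        simpa [mul_assoc] using this
      exact ha1 (Subgroup.mem_bot.mp (tinter _ _ (conjco M hM k) (conjco L hL l) hne ▸
        Subgroup.mem_inf.mpr ⟨(memc' _ _ _).mpr hk, (memc' _ _ _).mpr hl⟩))
    · exfalso
      have hne : M.map (MulAut.conj l).toMonoidHom ≠ L.map (MulAut.conj k).toMonoidHom := by
        intro e
        refine hy (k⁻¹ * l) ?_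
        have : k * y * k⁻¹ ∈ M.map (MulAut.conj l).toMonoidHom := by
          rw [e, memc']; simpa [mul_assoc] using hyL (Subgroup.mem_zpowers y)
        rw [memc'] at this
        simpa [mul_assoc] using this
      exact ha1 (Subgroup.mem_bot.mp (tinter _ _ (conjco M hM l) (conjco L hL k) hne ▸
        Subgroup.mem_inf.mpr ⟨(memc' _ _ _).mpr hl, (memc' _ _ _).mpr hk⟩))
    · rfl
  rw [Nat.card_sum] at hdisj
  have hlt : Nat.card {x : K // x ≠ 1} < Nat.card K := Finite.card_subtype_lt (x := (1 : K)) (by simp)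
  have := hcnt M hM
  have := hcnt L hL
  omega

end Cfsg.Agent.S4116
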