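import Cfsg.Statements.S4117
import Cfsg.Agent.Lib.Coprime.Hom
import Mathlib.GroupTheory.SpecificGroups.ZGroup

set_option autoImplicit false
open Cfsg
open scoped commutatorElement

namespace Cfsg.Agent.S4117

/-- Let A be a finite group acting on the finite group G by automorphisms with the orders of A and G coprime, and suppose every Sylow subgroup of G is cyclic. Then the fixed-point subgroup C_G(A) is a Hall subgroup of G (its order is coprime to its index), the subgroup [G, A] generated by the elements g⁻¹·a(g) is cyclic and normal with [G, A] ∩ C_G(A) = 1 and [G, A]·C_G(A) = G. -/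
theorem result {G A : Type*} [Group G] [Finite G] [Group A] [Finite A]
    [MulDistribMulAction A G] (hcop : (Nat.card A).Coprime (Nat.card G))
    (hcyc : ∀ (p : ℕ) [Fact p.Prime] (P : Sylow p G), IsCyclic (P : Subgroup G)) :
    (Nat.card (MulAction.fixedPoints A G : Set G)).Coprime (Nat.card G / Nat.card (MulAction.fixedPoints A G : Set G)) ∧
    IsCyclic (Subgroup.closure {y : G | ∃ (a : A) (g : G), y = g⁻¹ * a • g}) ∧
    (Subgroup.closure {y : G | ∃ (a : A) (g : G), y = g⁻¹ * a • g}).Normal ∧
    (Subgroup.closure {y : G | ∃ (a : A) (g : G), y = g⁻¹ * a • g} : Set G) ∩ MulAction.fixedPoints A G = {1} ∧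
    Subgroup.closure {y : G | ∃ (a : A) (g : G), y = g⁻¹ * a • g} ⊔ Subgroup.closure (MulAction.fixedPoints A G) = ⊤ := by
  classical
  haveI hZ : IsZGroup G := ⟨fun p hp P => haveI := Fact.mk hp; hcyc p P⟩
  set L := Subgroup.closure {y : G | ∃ (a : A) (g : G), y = g⁻¹ * a • g} with hLdef
  let φ := MulDistribMulAction.toMulAut A G
  have hgen : ∀ (a : A) (g : G), g⁻¹ * a • g ∈ L := fun a g => Subgroup.subset_closure ⟨a, g, rfl⟩
  have hA : ∀ b : A, ∀ x ∈ L, b • x ∈ L := fun b x hx => by
    induction hx using Subgroup.closure_induction with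
    | mem x hx =>
      obtain ⟨a, g, rfl⟩ := hx
      have : b • (g⁻¹ * a • g) = (b • g)⁻¹ * (b * a * b⁻¹) • (b • g) := by
        simp [smul_mul', smul_inv', smul_smul, mul_assoc]
      rw [this]
      exact hgen _ _
    | one => simp
    | mul x y _ _ hx hy => simpa [smul_mul'] using mul_mem hx hy
    | inv x _ hx => simpa [smul_inv'] using inv_mem hx
  have hLn : L.Normal := ⟨fun x hx h => by
    induction hx using Subgroup.closure_induction with
    | mem x hx =>
      obtain ⟨a, g, rfl⟩ := hx
      have : h * (g⁻¹ * a • g) * h⁻¹ =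
          ((g * h⁻¹)⁻¹ * a • (g * h⁻¹)) * ((h⁻¹)⁻¹ * a • h⁻¹)⁻¹ := by
        simp [smul_mul', smul_inv', mul_assoc]
      rw [this]
      exact mul_mem (hgen _ _) (inv_mem (hgen _ _))
    | one => simp
    | mul x y _ _ hx hy => simpa [mul_assoc] using mul_mem hx hy
    | inv x _ hx => simpa [mul_assoc] using inv_mem hx⟩
  -- `L` centralises the cyclic derived subgroup
  have hcentr : L ≤ Subgroup.centralizer (commutator G : Set G) := by
    refine (Subgroup.closure_le _).mpr ?_
    rintro _ ⟨a, g, rfl⟩
    refine Subgroup.mem_centralizer_iff.mpr fun n hn => ?_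
    haveI : IsCyclic (commutator G) := IsZGroup.isCyclic_commutator G
    obtain ⟨z, hz⟩ := IsCyclic.exists_generator (α := commutator G)
    have hn' : ∀ y ∈ commutator G, ∃ i : ℤ, y = (z : G) ^ i := fun y hy => by
      obtain ⟨i, hi⟩ := hz ⟨y, hy⟩
      exact ⟨i, by simpa using (congrArg Subtype.val hi).symm⟩
    obtain ⟨k, hk⟩ := hn' (g * z * g⁻¹) ((inferInstance : (commutator G).Normal).conj_mem _ z.2 g)
    have hchar : ∀ (b : A) (y : G), y ∈ commutator G → b • y ∈ commutator G := fun b y hy => by
      rw [← Subgroup.characteristic_iff_map_eq.mp (inferInstance : (commutator G).Characteristic) (φ b)]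
      exact Subgroup.mem_map_of_mem _ hy
    obtain ⟨i, rfl⟩ := hn' n hn
    obtain ⟨j, hj⟩ := hn' (a⁻¹ • (z : G) ^ i) (hchar _ _ hn)
    have h1 : ∀ l : ℤ, g * (z : G) ^ l * g⁻¹ = (z : G) ^ (l * k) := fun l => by
      rw [mul_comm, zpow_mul, ← hk, conj_zpow]
    have h2 : a • g * (z : G) ^ i * (a • g)⁻¹ = (z : G) ^ (i * k) := by
      have h3 : a • (g * (a⁻¹ • (z : G) ^ i) * g⁻¹) = a • g * (z : G) ^ i * (a • g)⁻¹ := by
        simp [smul_mul', smul_inv']
      rw [← h3, hj, h1, zpow_mul, smul_zpow', ← hj, smul_inv_smul, ← zpow_mul]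
    have h4 : (z : G) ^ i = (g⁻¹ * a • g) * (z : G) ^ i * (g⁻¹ * a • g)⁻¹ := by
      calc (z : G) ^ i = g⁻¹ * (g * (z : G) ^ i * g⁻¹) * g := by group
        _ = g⁻¹ * (a • g * (z : G) ^ i * (a • g)⁻¹) * g := by rw [h1, h2]
        _ = _ := by group
    exact eq_mul_inv_iff_mul_eq.mp h4
  haveI : Group.IsNilpotent L := by
    have hmemc : ∀ x y : L, ((⁅x, y⁆ : L) : G) ∈ commutator G := fun x y =>
      Subgroup.commutator_mem_commutator (Subgroup.mem_top (x : G)) (Subgroup.mem_top (y : G))
    have : commutator L ≤ Subgroup.center L := Subgroup.commutator_le.mpr fun x _ y _ =>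
      Subgroup.mem_center_iff.mpr fun l => Subtype.ext
        ((Subgroup.mem_centralizer_iff.mp (hcentr l.2) _ (hmemc x y)).symm)
    exact Subgroup.nilpotent_iff_lowerCentralSeries.mpr ⟨2, le_bot_iff.mp (by
      rw [Subgroup.lowerCentralSeries_succ, Subgroup.lowerCentralSeries_one,
        Subgroup.commutator_le]
      intro x hx y _
      rw [Subgroup.mem_bot, commutatorElement_eq_one_iff_mul_comm]
      exact (Subgroup.mem_center_iff.mp (this hx) y).symm)⟩
  haveI hLcyc : IsCyclic L := inferInstance
  have hsolvG : Group.IsSolvable G := inferInstance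
  -- decomposition `g = c l`
  have hdec : ∀ g : G, ∃ c, (∀ a : A, a • c = c) ∧ c⁻¹ * g ∈ L := fun g => by
    obtain ⟨n, hn, hc⟩ := Coprime.exists_fixed_in_coset_hom φ L hA
      (hcop.coprime_dvd_right (Subgroup.card_subgroup_dvd_card L)) (Or.inr inferInstance) g
      (fun a => hgen a g)
    exact ⟨g * n, hc, by simpa using inv_mem hn⟩
  have hfix : ∀ x ∈ L, (∀ a : A, a • x = x) → x = 1 := by
    intro x hx hax
    cases nonempty_fintype A
    letI : CommGroup L := IsCyclic.commGroup
    let σ : A → L →* L := fun a =>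
      { toFun := fun y => ⟨a • (y : G), hA a y y.2⟩
        map_one' := by ext; simp
        map_mul' := fun y z => by ext; simp [smul_mul'] }
    let ν : L →* L := ∏ a : A, σ a
    have hν : ∀ y, ν y = ∏ a : A, σ a y := fun y => MonoidHom.finsetProd_apply _ _ _
    have hinv : ∀ (b : A) (y : L), ν (σ b y) = ν y := fun b y => by
      rw [hν, hν]
      exact Fintype.prod_equiv (Equiv.mulRight b) _ _ fun a => by ext; simp [σ, smul_smul]
    have hker : L ≤ ν.ker.map L.subtype := by
      refine (Subgroup.closure_le _).mpr ?_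
      rintro _ ⟨a, g, rfl⟩
      obtain ⟨c, hc, hl⟩ := hdec g
      refine ⟨⟨_, hl⟩⁻¹ * σ a ⟨_, hl⟩, ?_, ?_⟩
      · show ν _ = 1
        rw [map_mul, map_inv, hinv, inv_mul_cancel]
      · simp [σ, smul_mul', smul_inv', hc a, mul_assoc]
    obtain ⟨y, hy, rfl⟩ := hker hx
    have hy' : y ^ Nat.card A = 1 := by
      rw [← show ν y = 1 from hy, hν]
      have : ∀ a : A, σ a y = y := fun a => Subtype.ext (hax a)
      simp [this]
    have : y = 1 := (powCoprime ((hcop.coprime_dvd_right
      (Subgroup.card_subgroup_dvd_card L)).symm)).injective (by simpa using hy')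
    simp [this]
  let C : Subgroup G := FixedPoints.subgroup A G
  have hCset : (C : Set G) = MulAction.fixedPoints A G := rfl
  have hinf : ∀ x ∈ L, x ∈ C → x = 1 := fun x h1 h2 => hfix x h1 h2
  have hcardG : Nat.card C * Nat.card L = Nat.card G := by
    rw [← Nat.card_prod]
    refine Nat.card_eq_of_bijective (fun x : C × L => (x.1 : G) * x.2) ⟨?_, ?_⟩
    · exact Subgroup.mul_injective_of_disjoint (disjoint_iff.mpr (eq_bot_iff.mpr fun x hx =>
        Subgroup.mem_bot.mpr (hinf x hx.2 hx.1)))
    · intro g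
      obtain ⟨c, hc, hl⟩ := hdec g
      exact ⟨(⟨c, hc⟩, ⟨_, hl⟩), by simp⟩
  refine ⟨?_, hLcyc, hLn, ?_, ?_⟩
  · show (Nat.card C).Coprime (Nat.card G / Nat.card C)
    rw [← hcardG, Nat.mul_div_cancel_left _ Nat.card_pos]
    refine Nat.coprime_of_dvd fun p hp hpC hpL => ?_
    haveI := Fact.mk hp
    obtain ⟨x, hx⟩ := exists_prime_orderOf_dvd_card' (G := C) p hpC
    obtain ⟨y, hy⟩ := exists_prime_orderOf_dvd_card' (G := L) p hpL
    have hx' : Nat.card (Subgroup.zpowers (x : G)) = p := by
      rw [Nat.card_zpowers, Subgroup.orderOf_coe, hx]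
    have hy' : Nat.card (Subgroup.zpowers (y : G)) = p := by
      rw [Nat.card_zpowers, Subgroup.orderOf_coe, hy]
    obtain ⟨P, hP⟩ := (IsPGroup.of_card (G := Subgroup.zpowers (x : G)) (n := 1)
      (by simpa using hx')).exists_le_sylow
    obtain ⟨Q, hQ⟩ := (IsPGroup.of_card (G := Subgroup.zpowers (y : G)) (n := 1)
      (by simpa using hy')).exists_le_sylow
    obtain ⟨g, rfl⟩ := MulAction.exists_smul_eq G Q P
    have hyP : g * (y : G) * g⁻¹ ∈ ((g • Q : Sylow p G) : Subgroup G) :=
      Subgroup.mem_map.mpr ⟨y, hQ (Subgroup.mem_zpowers _), rfl⟩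
    haveI : IsCyclic ((g • Q : Sylow p G) : Subgroup G) := inferInstance
    have hy2 : Nat.card (Subgroup.zpowers (g * (y : G) * g⁻¹)) = p := by
      rw [Nat.card_zpowers, show g * (y : G) * g⁻¹ = MulAut.conj g (y : G) from rfl,
        MulEquiv.orderOf_eq, Subgroup.orderOf_coe, hy]
    have heq : (Subgroup.zpowers (x : G)).subgroupOf ((g • Q : Sylow p G) : Subgroup G) =
        (Subgroup.zpowers (g * (y : G) * g⁻¹)).subgroupOf ((g • Q : Sylow p G) : Subgroup G) := by
      have huniq : ∀ (C : Type _) [CommGroup C] [Finite C] [IsCyclic C] (U V : Subgroup C),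
          Nat.card U = p → Nat.card V = p → U = V := by
        intro C _ _ _ U V hU hV
        classical
        cases nonempty_fintype C
        have key : ∀ W : Subgroup C, Nat.card W = p →
            (W : Set C).toFinset = Finset.univ.filter fun z => z ^ p = 1 := by
          intro W hW
          refine Finset.eq_of_subset_of_card_le (fun z hz => ?_) ?_
          · simp only [Set.mem_toFinset, SetLike.mem_coe] at hz
            simp only [Finset.mem_filter, Finset.mem_univ, true_and]
            rw [← hW]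
            exact congrArg Subtype.val (pow_card_eq_one' (x := (⟨z, hz⟩ : W)))
          · refine (IsCyclic.card_pow_eq_one_le hp.pos).trans ?_
            rw [Set.toFinset_card, ← Nat.card_eq_fintype_card]
            exact hW.ge
        exact SetLike.coe_injective (Set.toFinset_inj.mp ((key U hU).trans (key V hV).symm))
      letI : CommGroup ((g • Q : Sylow p G) : Subgroup G) := IsCyclic.commGroup
      exact huniq _ _ _ ((Nat.card_congr (Subgroup.subgroupOfEquivOfLe hP).toEquiv).trans hx')
        ((Nat.card_congr (Subgroup.subgroupOfEquivOfLe (Subgroup.zpowers_le.mpr hyP)).toEquiv).trans hy2)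
    have hxL : (x : G) ∈ L := by
      have h1 : (⟨x, hP (Subgroup.mem_zpowers _)⟩ : ((g • Q : Sylow p G) : Subgroup G)) ∈
          (Subgroup.zpowers (g * (y : G) * g⁻¹)).subgroupOf ((g • Q : Sylow p G) : Subgroup G) := by
        rw [← heq]; exact Subgroup.mem_zpowers (x : G)
      exact Subgroup.zpowers_le.mpr (hLn.conj_mem _ y.2 g) h1
    have := hinf _ hxL x.2
    rw [show x = 1 from Subtype.ext this, orderOf_one] at hx
    exact hp.ne_one hx.symm
  · ext x
    simp only [Set.mem_inter_iff, SetLike.mem_coe, Set.mem_singleton_iff]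
    exact ⟨fun h => hfix x h.1 h.2, by rintro rfl; exact ⟨one_mem L, fun a => smul_one a⟩⟩
  · refine eq_top_iff.mpr fun g _ => ?_
    obtain ⟨c, hc, hl⟩ := hdec g
    have : g = c * (c⁻¹ * g) := by simp
    rw [this]
    exact mul_mem (Subgroup.mem_sup_right (Subgroup.subset_closure hc)) (Subgroup.mem_sup_left hl)

end Cfsg.Agent.S4117
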