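import Cfsg.Statements.S4126
import Cfsg.Agent.T51.SmallElements

set_option autoImplicit false
open Cfsg

namespace Cfsg.Agent.S4126

/-- Let G be a finite group and p a prime. Suppose every element of order p, and when p = 2 also every element of order 4, has a conjugacy class of p-power size. Then G has a normal p-complement. -/
theorem result {G : Type*} [Group G] [Finite G] (p : ℕ) [Fact p.Prime]
    (h : ∀ x : G, (orderOf x = p ∨ (p = 2 ∧ orderOf x = 4)) → ∃ a : ℕ, (Subgroup.centralizer ({x} : Set G)).index = p ^ a) :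
    Cfsg.HasNormalPComplement p G := by
  have hp : p.Prime := Fact.out
  obtain ⟨P⟩ := (inferInstance : Nonempty (Sylow p G))
  refine Cfsg.Agent.T51.hasNormalPComplement_of_small_fusion P fun a _ ha g _ => ?_
  set C := Subgroup.centralizer ({a} : Set G) with hC
  obtain ⟨k, hk⟩ : ∃ k : ℕ, C.index = p ^ k := by
    by_cases ha1 : a = 1
    · refine ⟨0, ?_⟩
      rw [pow_zero, Subgroup.index_eq_one, hC, eq_top_iff]
      intro x _
      rw [Subgroup.mem_centralizer_singleton_iff, ha1, mul_one, one_mul]
    · refine h a ?_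
      rcases ha with h1 | ⟨rfl, h4⟩
      · exact Or.inl (orderOf_eq_prime h1 ha1)
      · by_cases h2 : a ^ 2 = 1
        · exact Or.inl (orderOf_eq_prime h2 ha1)
        · exact Or.inr ⟨rfl, orderOf_eq_prime_pow (p := 2) (n := 1) (by simpa using h2) (by simpa using h4)⟩
  let f : (P : Subgroup G) ⧸ C.subgroupOf (P : Subgroup G) → G ⧸ C :=
    Quotient.lift (fun x : (P : Subgroup G) => ((x : G) : G ⧸ C)) fun x y hxy =>
      QuotientGroup.eq.mpr (by
        have := QuotientGroup.leftRel_apply.mp hxy
        simpa [Subgroup.mem_subgroupOf] using this)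
  have hf : Function.Injective f := by
    intro x y
    induction x using QuotientGroup.induction_on with | H x => ?_
    induction y using QuotientGroup.induction_on with | H y => ?_
    intro hxy
    exact QuotientGroup.eq.mpr (by
      have := (QuotientGroup.eq (s := C)).mp hxy
      simpa [Subgroup.mem_subgroupOf] using this)
  have hsurj : Function.Surjective f := by
    refine ((Nat.bijective_iff_injective_and_card f).mpr ⟨hf, le_antisymm
      (Nat.card_le_card_of_injective f hf) ?_⟩).2
    show C.index ≤ (C.subgroupOf (P : Subgroup G)).index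
    refine Nat.le_of_mul_le_mul_left ?_
      (Nat.card_pos (α := C.subgroupOf (P : Subgroup G)))
    rw [Subgroup.card_mul_index, hk]
    obtain ⟨j, hj⟩ := (P.2.to_subgroup (C.subgroupOf (P : Subgroup G))).exists_card_eq
    rw [hj, ← pow_add, Sylow.card_eq_multiplicity]
    refine Nat.pow_le_pow_right hp.pos ((hp.pow_dvd_iff_le_factorization Nat.card_pos.ne').mp ?_)
    rw [pow_add, ← hj, ← Subgroup.card_mul_index C, hk]
    refine Nat.mul_dvd_mul ?_ dvd_rfl
    rw [← Subgroup.card_map_of_injective (Subgroup.subtype_injective _),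
      Subgroup.subgroupOf_map_subtype]
    exact Subgroup.card_dvd_of_le inf_le_left
  obtain ⟨q, hq⟩ := hsurj (g : G ⧸ C)
  induction q using QuotientGroup.induction_on with | H x => ?_
  refine ⟨x, x.2, ?_⟩
  have h1 : (x : G)⁻¹ * g ∈ C := (QuotientGroup.eq (s := C)).mp hq
  rw [hC, Subgroup.mem_centralizer_singleton_iff] at h1
  calc g * a * g⁻¹ = (x : G) * ((x : G)⁻¹ * g * a) * g⁻¹ := by group
    _ = (x : G) * (a * ((x : G)⁻¹ * g)) * g⁻¹ := by rw [h1]
    _ = _ := by group

end Cfsg.Agent.S4126
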