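import Cfsg.Statements.S4127
import Cfsg.Agent.FG78.IndexLemmas
import Cfsg.Agent.Lib.Coprime.Action

set_option autoImplicit false
open Cfsg

namespace Cfsg.Agent.S4127

/-- Let G be a finite group, p a prime and p^a the largest power of p dividing the size of any conjugacy class of G. If some element of p-power order has a conjugacy class of size exactly p^a, then G has a normal p-complement. -/
theorem result {G : Type*} [Group G] [Finite G] (p : ℕ) [Fact p.Prime]
    (a : ℕ) (hmax : ∀ y : G, ¬ p ^ (a + 1) ∣ (Subgroup.centralizer ({y} : Set G)).index)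
    (hx : ∃ x : G, (∃ k : ℕ, orderOf x = p ^ k) ∧ (Subgroup.centralizer ({x} : Set G)).index = p ^ a) :
    Cfsg.HasNormalPComplement p G := by
  classical
  have hp := (Fact.out : p.Prime)
  obtain ⟨x, ⟨k, hk⟩, hxi⟩ := hx
  set C := Subgroup.centralizer ({x} : Set G) with hC
  have hxC : x ∈ C := Cfsg.Agent.FG78.mem_cent_iff.mpr (Commute.refl x)
  -- indices inside `C`
  have hreg : ∀ z : C, ¬ p ∣ orderOf z → ¬ p ∣ (Subgroup.centralizer ({z} : Set C)).index := by
    intro z hz hd
    rw [← Subgroup.orderOf_coe] at hz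
    have hcz : Commute x (z : G) := (Cfsg.Agent.FG78.mem_cent_iff.mp z.2).symm
    have e := Cfsg.Agent.FG78.centralizer_mul_eq {p} hcz
      (Cfsg.Agent.FG78.isPiElem_singleton_of_pow hp hk)
      (Cfsg.Agent.FG78.isPiElem_compl_singleton_iff.mpr hz)
    have e2 : Subgroup.centralizer ({z} : Set C) =
        (Subgroup.centralizer ({(z : G)} : Set G)).subgroupOf C := by
      ext w
      rw [Subgroup.mem_subgroupOf, Cfsg.Agent.FG78.mem_cent_iff, Cfsg.Agent.FG78.mem_cent_iff]
      exact ⟨fun h => congrArg Subtype.val h.eq, fun h => Subtype.ext h.eq⟩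
    refine hmax (x * (z : G)) ?_
    have e3 := Subgroup.relIndex_mul_index (inf_le_left : C ⊓ Subgroup.centralizer ({(z : G)} : Set G) ≤ C)
    rw [e, ← hC, ← e3, hxi, pow_succ', Subgroup.inf_relIndex_left]
    rw [e2] at hd
    exact mul_dvd_mul_right hd _
  obtain ⟨P0⟩ := (inferInstance : Nonempty (Sylow p C))
  obtain ⟨hP0n, A, hAn, hA, hAC, hAall⟩ := Cfsg.Agent.FG78.direct_factor_of_p_regular_index hreg P0
  haveI := hP0n
  set A' := A.map C.subtype with hA'
  have hAcard : ¬ p ∣ Nat.card A := by rw [← hA.index_eq_card]; exact P0.not_dvd_index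
  have hA'card : Nat.card A' = Nat.card A := Subgroup.card_map_of_injective C.subtype_injective
  have hAcop : (Nat.card A).Coprime p := (hp.coprime_iff_not_dvd.mpr hAcard).symm
  -- the normal closure of `x` is a `p`-group
  obtain ⟨P, hxP⟩ := (IsPGroup.of_card (n := k) ((Nat.card_zpowers x).trans hk) :
    IsPGroup p (Subgroup.zpowers x)).exists_le_sylow
  have hcover : ∀ g : G, ∃ c ∈ C, ∃ u ∈ (P : Subgroup G), g = c * u := by
    intro g
    let f : C × (P : Subgroup G) → G := fun cu => (cu.1 : G) * cu.2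
    suffices hf : Function.Surjective f by
      obtain ⟨⟨c, u⟩, h⟩ := hf g
      exact ⟨c, c.2, u, u.2, h.symm⟩
    intro g
    have hdvd : Nat.card G ∣ Nat.card C * Nat.card (P : Subgroup G) := by
      rw [← Subgroup.card_mul_index C, hxi]
      refine mul_dvd_mul_left _ ?_
      rw [P.card_eq_multiplicity]
      have : p ^ a ∣ Nat.card G := hxi ▸ Subgroup.index_dvd_card C
      exact pow_dvd_pow _ ((hp.pow_dvd_iff_le_factorization Nat.card_pos.ne').mp this)
    set I := C ⊓ (P : Subgroup G)
    have hrange : Nat.card C * Nat.card (P : Subgroup G) = Nat.card (Set.range f) * Nat.card I := by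
      rw [← Nat.card_prod, ← Nat.card_prod]
      let r : Set.range f → C × (P : Subgroup G) := fun t => t.2.choose
      have hr : ∀ t, f (r t) = t.1 := fun t => t.2.choose_spec
      let φ : Set.range f × I → C × (P : Subgroup G) := fun ti =>
        (⟨(r ti.1).1 * (ti.2 : G), C.mul_mem (r ti.1).1.2 ti.2.2.1⟩,
          ⟨(ti.2 : G)⁻¹ * (r ti.1).2, (P : Subgroup G).mul_mem ((P : Subgroup G).inv_mem ti.2.2.2) (r ti.1).2.2⟩)
      refine (Nat.card_congr (Equiv.ofBijective φ ⟨?_, ?_⟩)).symm
      · rintro ⟨t, i⟩ ⟨t', i'⟩ h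
        have hf' : f (φ (t, i)) = f (φ (t', i')) := congrArg f h
        have key : ∀ ti, f (φ ti) = ti.1.1 := fun ti => by
          rw [← hr ti.1]; simp [f, φ, mul_assoc]
        rw [key, key] at hf'
        obtain rfl : t = t' := Subtype.ext hf'
        have := congrArg (fun cu : C × (P : Subgroup G) => (cu.1 : G)) h
        simp only [φ, mul_right_inj, SetLike.coe_eq_coe] at this
        rw [this]
      · intro cu
        let t : Set.range f := ⟨f cu, cu, rfl⟩
        have ht : ((r t).1 : G) * (r t).2 = (cu.1 : G) * cu.2 := hr t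
        have hi : ((r t).1 : G)⁻¹ * cu.1 = ((r t).2 : G) * (cu.2 : G)⁻¹ := by
          rw [eq_mul_inv_iff_mul_eq, mul_assoc, ← ht, inv_mul_cancel_left]
        refine ⟨(t, ⟨((r t).1 : G)⁻¹ * cu.1, C.mul_mem (C.inv_mem (r t).1.2) cu.1.2,
          hi ▸ (P : Subgroup G).mul_mem (r t).2.2 ((P : Subgroup G).inv_mem cu.2.2)⟩), ?_⟩
        refine Prod.ext (Subtype.ext (by simp [φ])) (Subtype.ext ?_)
        simp only [φ]
        rw [hi]; group
    have hle : Nat.card G ≤ Nat.card (Set.range f) := by
      refine Nat.le_of_dvd (Nat.card_pos (α := Set.range f)) ?_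
      have hIc : (Nat.card G).factorization p = (Nat.card C).factorization p + a := by
        rw [← Subgroup.card_mul_index C, hxi, Nat.factorization_mul Nat.card_pos.ne'
          (pow_ne_zero _ hp.ne_zero), Finsupp.add_apply, Nat.factorization_pow,
          Finsupp.smul_apply, hp.factorization_self, smul_eq_mul, mul_one]
      obtain ⟨i, hi⟩ := (P.2.to_le (inf_le_right : I ≤ _)).exists_card_eq
      have hIdvd : p ^ i ∣ p ^ (Nat.card C).factorization p := by
        refine pow_dvd_pow _ ((hp.pow_dvd_iff_le_factorization Nat.card_pos.ne').mp ?_)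
        exact hi ▸ Subgroup.card_dvd_of_le inf_le_left
      refine Nat.dvd_of_mul_dvd_mul_right (Nat.pow_pos hp.pos : 0 < p ^ i) ?_
      rw [← hi, ← hrange, hi, P.card_eq_multiplicity, hIc, pow_add, ← Subgroup.card_mul_index C, hxi]
      rw [mul_comm (p ^ _) (p ^ a), ← mul_assoc]
      exact mul_dvd_mul_left _ hIdvd
    have heq : Set.range f = Set.univ := Set.eq_of_subset_of_ncard_le (Set.subset_univ _)
      (by rw [Set.ncard_univ, ← Nat.card_coe_set_eq]; exact hle) Set.finite_univ
    exact (heq ▸ Set.mem_univ g : g ∈ Set.range f)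
  set R := Subgroup.normalClosure ({x} : Set G) with hR
  have hRP : R ≤ (P : Subgroup G) := by
    rw [hR, Subgroup.normalClosure, Subgroup.closure_le]
    intro y hy
    rw [Group.mem_conjugatesOfSet_iff] at hy
    obtain ⟨z, hz, hzy⟩ := hy
    rw [Set.mem_singleton_iff] at hz
    rw [hz] at hzy
    obtain ⟨g, hg⟩ := isConj_iff.mp hzy
    obtain ⟨c, hc, u, hu, hcu⟩ := hcover g⁻¹
    rw [← hg, show g = u⁻¹ * c⁻¹ by rw [← inv_inv g, hcu, mul_inv_rev]]
    have hcx := (Cfsg.Agent.FG78.mem_cent_iff.mp hc).eq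
    have e : u⁻¹ * c⁻¹ * x * (u⁻¹ * c⁻¹)⁻¹ = u⁻¹ * x * u := by
      calc u⁻¹ * c⁻¹ * x * (u⁻¹ * c⁻¹)⁻¹ = u⁻¹ * c⁻¹ * (x * c) * u := by group
        _ = u⁻¹ * c⁻¹ * (c * x) * u := by rw [hcx]
        _ = u⁻¹ * x * u := by group
    rw [e]
    exact mul_mem (mul_mem (inv_mem hu) (hxP (Subgroup.mem_zpowers x))) hu
  have hRp : IsPGroup p R := P.2.to_le hRP
  haveI : R.Normal := Subgroup.normalClosure_normal
  have hxR : x ∈ R := Subgroup.subset_normalClosure rfl
  have hA'R : R ⊓ C ≤ Subgroup.centralizer (A' : Set G) := by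
    intro y hy
    rw [Subgroup.mem_centralizer_iff]
    rintro _ ⟨b, hb, rfl⟩
    obtain ⟨j, hj⟩ := Cfsg.Agent.FG78.orderOf_eq_prime_pow_of_mem hRp hy.1
    obtain ⟨Q, hQ⟩ := (IsPGroup.of_card (n := j)
      (by rw [Nat.card_zpowers, Subgroup.orderOf_mk, hj]) :
        IsPGroup p (Subgroup.zpowers (⟨y, hy.2⟩ : C))).exists_le_sylow
    have hyP0 : (⟨y, hy.2⟩ : C) ∈ (P0 : Subgroup C) := by
      obtain ⟨c, hc⟩ := MulAction.exists_smul_eq C Q P0
      have : Q = P0 := by
        rw [← hc]
        haveI : ((Q : Subgroup C)).Normal := by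
          have h1 : (Q : Subgroup C) ≤ (P0 : Subgroup C) := by
            intro w hw
            have hcw : c * w * c⁻¹ ∈ (P0 : Subgroup C) := by
              rw [← hc, Sylow.coe_subgroup_smul]
              exact Subgroup.smul_mem_pointwise_smul _ (MulAut.conj c) _ hw
            simpa [mul_assoc] using hP0n.conj_mem' _ hcw c
          rw [Subgroup.eq_of_le_of_card_ge h1 (by rw [Q.card_eq_multiplicity, P0.card_eq_multiplicity])]
          exact hP0n
        exact (Sylow.smul_eq_of_normal (g := c) (P := Q)).symm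
      exact this ▸ hQ (Subgroup.mem_zpowers _)
    exact congrArg Subtype.val (Subgroup.mem_centralizer_iff.mp (hAC hb) _ hyP0).symm
  have hAR : A' ≤ Subgroup.centralizer (R : Set G) := by
    refine Cfsg.Agent.Coprime.thompson_pxq p (R ⊓ C) A' R (hRp.to_le inf_le_left)
      (hA'card.symm ▸ hAcop) hRp hA'R ?_ ?_ ?_
    · exact inf_le_left.trans Subgroup.le_normalizer
    · rw [Subgroup.normalizer_eq_top_iff.mpr ‹R.Normal›]; exact le_top
    · intro y hy
      refine hA'R ⟨hy.1, Cfsg.Agent.FG78.mem_cent_iff.mpr ?_⟩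
      exact (Subgroup.mem_centralizer_iff.mp hy.2 x ⟨hxR, hxC⟩).symm
  have hA'n : A'.Normal := by
    constructor
    intro y hy g
    have h1 := Subgroup.Normal.conj_mem (inferInstance : (Subgroup.centralizer (R : Set G)).Normal)
      y (hAR hy) g
    have h2 : g * y * g⁻¹ ∈ C := Cfsg.Agent.FG78.mem_cent_iff.mpr
      (Subgroup.mem_centralizer_iff.mp h1 x hxR).symm
    refine ⟨⟨_, h2⟩, hAall _ ?_, rfl⟩
    rw [Subgroup.orderOf_mk]
    have e : orderOf (g * y * g⁻¹) = orderOf y :=
      orderOf_injective (MulAut.conj g).toMonoidHom (MulAut.conj g).injective y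
    rw [e]
    intro hd
    apply hAcard
    rw [← hA'card]
    exact hd.trans ((dvd_of_eq (Subgroup.orderOf_mk y hy).symm).trans (orderOf_dvd_natCard _))
  refine ⟨P, A', hA'n, ?_⟩
  have hmul : Nat.card A' * Nat.card (P : Subgroup G) = Nat.card G := by
    rw [hA'card, P.card_eq_multiplicity, ← Subgroup.card_mul_index C, hxi,
      Nat.factorization_mul Nat.card_pos.ne' (pow_ne_zero _ hp.ne_zero), Finsupp.add_apply,
      Nat.factorization_pow, Finsupp.smul_apply, hp.factorization_self, smul_eq_mul, mul_one,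
      pow_add, ← mul_assoc, ← P0.card_eq_multiplicity, hA.card_mul]
  refine Subgroup.isComplement'_of_coprime hmul ?_
  rw [P.card_eq_multiplicity, hA'card]
  exact hAcop.pow_right _

end Cfsg.Agent.S4127
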