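import Cfsg.Statements.S4130
import Cfsg.Agent.FG78.SquareFreeStructure

set_option autoImplicit false
open Cfsg

namespace Cfsg.Agent.S4130

/-- Let G be a finite group all of whose conjugacy class sizes are square-free. Then G is supersolvable, G/F(G) and the derived subgroup G′ are cyclic of square-free order (F(G) the Fitting subgroup, which is normal), F(G) has nilpotency class at most 2, and G is metabelian. -/
theorem result {G : Type*} [Group G] [Finite G]
    (h : ∀ x : G, Squarefree (Subgroup.centralizer ({x} : Set G)).index) :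
    Cfsg.IsSupersolvable G ∧ (Cfsg.fittingSubgroup G).Normal ∧
    (∀ _h : (Cfsg.fittingSubgroup G).Normal, IsCyclic (G ⧸ Cfsg.fittingSubgroup G) ∧ Squarefree (Cfsg.fittingSubgroup G).index) ∧
    IsCyclic (commutator G) ∧ Squarefree (Nat.card (commutator G)) ∧
    Subgroup.upperCentralSeries ↥(Cfsg.fittingSubgroup G) 2 = ⊤ ∧ commutator ↥(commutator G) = ⊥ := by
  have hs := Cfsg.Agent.FG78.SqFree.supersolvable G h
  have hle : commutator G ≤ Cfsg.fittingSubgroup G :=
    Cfsg.Agent.Fitting.le_fitting inferInstance hs.2
  haveI := Cfsg.Agent.FG78.SqFree.isCyclic_commutator h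
  refine ⟨hs.1, Cfsg.Agent.Fitting.fitting_normal,
    fun _ => ⟨?_, Cfsg.Agent.FG78.SqFree.squarefree_index_fitting h⟩, inferInstance,
    Cfsg.Agent.FG78.SqFree.squarefree_card_commutator h,
    Cfsg.Agent.FG78.SqFree.upperCentralSeries_fitting h, ?_⟩
  · have hc : ∀ a b : G ⧸ Cfsg.fittingSubgroup G, a * b = b * a := by
      intro a b
      obtain ⟨a, rfl⟩ := QuotientGroup.mk_surjective a
      obtain ⟨b, rfl⟩ := QuotientGroup.mk_surjective b
      refine commutatorElement_eq_one_iff_mul_comm.mp ?_
      refine (map_commutatorElement (QuotientGroup.mk' (Cfsg.fittingSubgroup G)) a b).symm.trans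
        ((QuotientGroup.eq_one_iff _).mpr (hle ?_))
      rw [commutator_def]
      exact Subgroup.commutator_mem_commutator trivial trivial
    haveI := IsZGroup.of_squarefree (G := G ⧸ Cfsg.fittingSubgroup G)
      (Subgroup.index_eq_card (Cfsg.fittingSubgroup G) ▸
        Cfsg.Agent.FG78.SqFree.squarefree_index_fitting h)
    haveI : Group.IsNilpotent (G ⧸ Cfsg.fittingSubgroup G) :=
      @CommGroup.isNilpotent _
        { (inferInstance : Group (G ⧸ Cfsg.fittingSubgroup G)) with mul_comm := hc }
    infer_instance
  · rw [eq_bot_iff, commutator_def ↥(commutator G), Subgroup.commutator_le]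
    intro a _ b _
    rw [Subgroup.mem_bot, commutatorElement_eq_one_iff_mul_comm]
    letI := IsCyclic.commGroup (α := commutator G)
    exact mul_comm a b

end Cfsg.Agent.S4130
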