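import Cfsg.Statements.S4139
import Mathlib.GroupTheory.Nilpotent
import Mathlib.GroupTheory.GroupAction.Quotient

set_option autoImplicit false
open Cfsg

namespace Cfsg.Agent.S4139

/-- The elements whose centralizer has `p`-power index. -/
def goodSet (p : ℕ) (G : Type*) [Group G] : Set G :=
  {x | ∀ q : ℕ, q.Prime → q ≠ p → ¬ q ∣ (Subgroup.centralizer ({x} : Set G)).index}

/-- The elements centralizing every element of prime power order for a prime other than `p`. -/
def primeToCentralizer (p : ℕ) (G : Type*) [Group G] : Subgroup G :=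
  Subgroup.centralizer {g : G | ∃ q k : ℕ, q.Prime ∧ q ≠ p ∧ orderOf g = q ^ k}

theorem card_carrier_mk {G : Type*} [Group G] [Finite G] (x : G) :
    Nat.card (ConjClasses.mk x).carrier = (Subgroup.centralizer ({x} : Set G)).index := by
  rw [Subgroup.centralizer_eq_comap_stabilizer]
  erw [Subgroup.index_comap_of_surjective _ ConjAct.toConjAct.surjective, MulAction.index_stabilizer,
    ConjAct.orbit_eq_carrier_conjClasses]
  rw [Nat.card_coe_set_eq]

theorem card_eq_of_classes {G H : Type*} [Group G] [Finite G] [Group H] [Finite H]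
    (h : ∀ k : ℕ, Nat.card {C : ConjClasses G // Nat.card C.carrier = k} =
      Nat.card {C : ConjClasses H // Nat.card C.carrier = k}) (P : ℕ → Prop) :
    Nat.card {x : G // P (Subgroup.centralizer ({x} : Set G)).index} =
      Nat.card {x : H // P (Subgroup.centralizer ({x} : Set H)).index} := by
  classical
  haveI : Fintype G := Fintype.ofFinite G
  haveI : Fintype H := Fintype.ofFinite H
  haveI : Fintype (ConjClasses G) := Fintype.ofFinite _
  haveI : Fintype (ConjClasses H) := Fintype.ofFinite _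
  let e : ConjClasses G ≃ ConjClasses H :=
    Equiv.ofFiberEquiv (f := fun C : ConjClasses G => Nat.card C.carrier)
      (g := fun C : ConjClasses H => Nat.card C.carrier)
      (fun k => Classical.choice (Fintype.card_eq.mp (by
        simpa only [Nat.card_eq_fintype_card] using h k)))
  have he : ∀ C, Nat.card (e C).carrier = Nat.card C.carrier := fun C =>
    Equiv.ofFiberEquiv_map (f := fun C : ConjClasses G => Nat.card C.carrier)
      (g := fun C : ConjClasses H => Nat.card C.carrier) _ C
  have hG : ∀ C : ConjClasses G, Nat.card C.carrier = Nat.card {x // ConjClasses.mk x = C} :=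
    fun C => Nat.card_congr (Equiv.subtypeEquivRight fun x => ConjClasses.mem_carrier_iff_mk_eq)
  have hH : ∀ C : ConjClasses H, Nat.card C.carrier = Nat.card {x // ConjClasses.mk x = C} :=
    fun C => Nat.card_congr (Equiv.subtypeEquivRight fun x => ConjClasses.mem_carrier_iff_mk_eq)
  let σ : (Σ C : ConjClasses G, {x // ConjClasses.mk x = C}) ≃
      Σ C : ConjClasses H, {x // ConjClasses.mk x = C} :=
    Equiv.sigmaCongr e fun C => Classical.choice (Finite.card_eq.mp (by rw [← hG, ← hH, he]))
  let f : G ≃ H := ((Equiv.sigmaFiberEquiv (ConjClasses.mk (α := G))).symm.trans σ).trans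
    (Equiv.sigmaFiberEquiv (ConjClasses.mk (α := H)))
  refine Nat.card_congr (f.subtypeEquiv fun x => ?_)
  rw [← card_carrier_mk, ← card_carrier_mk]
  have h1 : ConjClasses.mk (f x) = e (ConjClasses.mk x) :=
    (σ ((Equiv.sigmaFiberEquiv (ConjClasses.mk (α := G))).symm x)).2.2
  rw [h1, he]

section
variable {G : Type*} [Group G] [Finite G] {p : ℕ}

theorem exists_sylow_le_centralizer {x : G} (hx : x ∈ goodSet p G) (q : ℕ) [hq : Fact q.Prime]
    (hqp : q ≠ p) : ∃ Q : Sylow q G, (Q : Subgroup G) ≤ Subgroup.centralizer ({x} : Set G) := by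
  set C := Subgroup.centralizer ({x} : Set G)
  have hd : q ^ (Nat.card G).factorization q ∣ Nat.card C := by
    refine Nat.Coprime.dvd_of_dvd_mul_right (k := q ^ (Nat.card G).factorization q) (n := C.index)
      (Nat.Coprime.pow_left _ ((Nat.Prime.coprime_iff_not_dvd hq.out).mpr (hx q hq.out hqp))) ?_
    rw [C.card_mul_index]
    exact Nat.ordProj_dvd _ _
  obtain ⟨K, hK⟩ := Sylow.exists_subgroup_card_pow_prime q hd
  refine ⟨Sylow.ofCard (K.map C.subtype) ?_, Subgroup.map_subtype_le K⟩
  rw [← hK]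
  exact (Nat.card_congr (K.equivMapOfInjective _ C.subtype_injective).toEquiv).symm

theorem normal_primeToCentralizer : (primeToCentralizer p G).Normal := by
  refine ⟨fun n hn g => Subgroup.mem_centralizer_iff.mpr fun y hy => ?_⟩
  obtain ⟨q, k, hq, hqp, hk⟩ := hy
  have h1 := Subgroup.mem_centralizer_iff.mp hn (g⁻¹ * y * g) ⟨q, k, hq, hqp, by
    rw [show g⁻¹ * y * g = MulAut.conj g⁻¹ y by simp, MulEquiv.orderOf_eq, hk]⟩
  calc y * (g * n * g⁻¹) = g * ((g⁻¹ * y * g) * n) * g⁻¹ := by group
    _ = g * (n * (g⁻¹ * y * g)) * g⁻¹ := by rw [h1]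
    _ = g * n * g⁻¹ * y := by group

theorem mul_mem_goodSet {x u : G} (hx : x ∈ goodSet p G) (hu : u ∈ primeToCentralizer p G) :
    x * u ∈ goodSet p G := by
  intro q hq hqp hd
  haveI : Fact q.Prime := ⟨hq⟩
  obtain ⟨Q, hQ⟩ := exists_sylow_le_centralizer hx q hqp
  refine Q.not_dvd_index (hd.trans (Subgroup.index_dvd_of_le fun g hg => ?_))
  obtain ⟨k, hk⟩ := IsPGroup.iff_orderOf.mp Q.2 ⟨g, hg⟩
  rw [← Subgroup.orderOf_coe] at hk
  rw [Subgroup.mem_centralizer_singleton_iff]
  have h1 := Subgroup.mem_centralizer_singleton_iff.mp (hQ hg)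
  have h2 := Subgroup.mem_centralizer_iff.mp hu g ⟨q, k, hq, hqp, hk⟩
  rw [← mul_assoc, h1, mul_assoc, h2, ← mul_assoc]

theorem dvd_card_goodSet_of_commute (P : Sylow p G)
    (hP : (P : Subgroup G) ≤ primeToCentralizer p G) :
    Nat.card (P : Subgroup G) ∣ Nat.card (goodSet p G) := by
  set s : Set (G ⧸ (P : Subgroup G)) := QuotientGroup.mk '' goodSet p G
  have h1 : QuotientGroup.mk ⁻¹' s = goodSet p G := by
    refine Set.Subset.antisymm ?_ (Set.subset_preimage_image _ _)
    rintro y ⟨x, hx, hxy⟩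
    have : y = x * (x⁻¹ * y) := by group
    rw [this]
    exact mul_mem_goodSet hx (hP (QuotientGroup.eq.mp hxy))
  rw [← h1, Nat.card_congr (QuotientGroup.preimageMkEquivSubgroupProdSet _ _), Nat.card_prod]
  exact dvd_mul_right _ _

theorem le_primeToCentralizer [hp : Fact p.Prime] (P : Sylow p G)
    (hd : Nat.card (P : Subgroup G) ∣ Nat.card (goodSet p G)) :
    (P : Subgroup G) ≤ primeToCentralizer p G := by
  set C := primeToCentralizer p G with hC
  haveI : C.Normal := normal_primeToCentralizer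
  set s : Set (G ⧸ C) := QuotientGroup.mk' C '' goodSet p G with hs
  have h1 : QuotientGroup.mk' C ⁻¹' s = goodSet p G := by
    refine Set.Subset.antisymm ?_ (Set.subset_preimage_image _ _)
    rintro y ⟨x, hx, hxy⟩
    have : y = x * (x⁻¹ * y) := by group
    rw [this]
    exact mul_mem_goodSet hx (QuotientGroup.eq.mp hxy)
  have hcard : Nat.card (goodSet p G) = Nat.card C * Nat.card s := by
    rw [← h1]
    exact (Nat.card_congr (QuotientGroup.preimageMkEquivSubgroupProdSet C s)).trans
      (Nat.card_prod _ _)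
  letI : MulAction (P : Subgroup G) s :=
    { smul := fun g z => ⟨QuotientGroup.mk' C (g : G) * z * (QuotientGroup.mk' C (g : G))⁻¹, by
        obtain ⟨x, hx, hxz⟩ := z.2
        refine ⟨(g : G) * x * (g : G)⁻¹, fun q hq hqp => ?_, by simp [← hxz]⟩
        rw [← card_carrier_mk, show ConjClasses.mk ((g : G) * x * (g : G)⁻¹) = ConjClasses.mk x from
          ConjClasses.mk_eq_mk_iff_isConj.mpr (isConj_iff.mpr ⟨(g : G)⁻¹, by group⟩), card_carrier_mk]
        exact hx q hq hqp⟩
      one_smul := fun z => Subtype.ext (by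
        show QuotientGroup.mk' C (1 : G) * z * (QuotientGroup.mk' C (1 : G))⁻¹ = z
        simp)
      mul_smul := fun g h z => Subtype.ext (by
        show QuotientGroup.mk' C ((g : G) * h) * z * (QuotientGroup.mk' C ((g : G) * h))⁻¹ =
          QuotientGroup.mk' C (g : G) * (QuotientGroup.mk' C (h : G) * z *
            (QuotientGroup.mk' C (h : G))⁻¹) * (QuotientGroup.mk' C (g : G))⁻¹
        rw [map_mul]; group) }
  have hone : (1 : G ⧸ C) ∈ s := ⟨1, fun q _ _ => by
    rw [Subgroup.centralizer_eq_top_iff_subset.mpr (by simp), Subgroup.index_top]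
    exact fun hd => Nat.Prime.ne_one ‹q.Prime› (Nat.dvd_one.mp hd), map_one _⟩
  have hfix : ∀ z : s, z ∈ MulAction.fixedPoints (P : Subgroup G) s ↔ z = ⟨1, hone⟩ := by
    intro z
    refine ⟨fun hz => ?_, ?_⟩
    swap
    · rintro rfl g
      refine Subtype.ext ?_
      show QuotientGroup.mk' C (g : G) * 1 * (QuotientGroup.mk' C (g : G))⁻¹ = 1
      simp
    obtain ⟨x, hx, hxz⟩ := z.2
    set X : G ⧸ C := QuotientGroup.mk' C x with hX
    set D : Subgroup G := (Subgroup.centralizer ({X} : Set (G ⧸ C))).comap (QuotientGroup.mk' C)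
    have hPD : (P : Subgroup G) ≤ D := by
      intro g hg
      have h2 : QuotientGroup.mk' C g * z * (QuotientGroup.mk' C g)⁻¹ = z :=
        congrArg Subtype.val (hz ⟨g, hg⟩)
      rw [← hxz, mul_inv_eq_iff_eq_mul] at h2
      exact Subgroup.mem_centralizer_singleton_iff.mpr h2
    have hDtop : D = ⊤ := by
      rw [← Subgroup.index_eq_one, Nat.eq_one_iff_not_exists_prime_dvd]
      intro q hq hqd
      by_cases hqp : q = p
      · subst hqp
        exact P.not_dvd_index (hqd.trans (Subgroup.index_dvd_of_le hPD))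
      haveI : Fact q.Prime := ⟨hq⟩
      obtain ⟨Q, hQ⟩ := exists_sylow_le_centralizer hx q hqp
      refine Q.not_dvd_index (hqd.trans (Subgroup.index_dvd_of_le fun g hg => ?_))
      refine Subgroup.mem_centralizer_singleton_iff.mpr ?_
      have h2 := Subgroup.mem_centralizer_singleton_iff.mp (hQ hg)
      rw [hX, ← map_mul, h2, map_mul]
    have hxC : x ∈ C := by
      refine Subgroup.mem_centralizer_iff.mpr fun y hy => ?_
      obtain ⟨q, k, hq, hqp, hk⟩ := hy
      haveI : Fact q.Prime := ⟨hq⟩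
      obtain ⟨Q, hQ⟩ := exists_sylow_le_centralizer hx q hqp
      obtain ⟨R, hR⟩ := IsPGroup.exists_le_sylow (P := Subgroup.zpowers y)
        (IsPGroup.of_card (n := k) (by rw [Nat.card_zpowers, hk]))
      obtain ⟨t, rfl⟩ := MulAction.exists_smul_eq G Q R
      obtain ⟨y₀, hy₀, hy₀y⟩ := hR (Subgroup.mem_zpowers y)
      change t * y₀ * t⁻¹ = y at hy₀y
      have h2 : x⁻¹ * (t⁻¹ * x * t) ∈ C := by
        refine QuotientGroup.eq.mp ?_
        have h3 : QuotientGroup.mk' C t * X = X * QuotientGroup.mk' C t :=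
          Subgroup.mem_centralizer_singleton_iff.mp (show t ∈ D by simp [hDtop])
        show X = QuotientGroup.mk' C (t⁻¹ * x * t)
        rw [map_mul, map_mul, map_inv, mul_assoc, ← hX, ← h3, inv_mul_cancel_left]
      obtain ⟨j, hj⟩ := IsPGroup.iff_orderOf.mp Q.2 ⟨y₀, hy₀⟩
      rw [← Subgroup.orderOf_coe] at hj
      have hc : Commute y₀ (x⁻¹ * (t⁻¹ * x * t)) :=
        Subgroup.mem_centralizer_iff.mp h2 y₀ ⟨q, j, hq, hqp, hj⟩
      have hc2 : Commute y₀ (t⁻¹ * x * t) := by
        have h0 : Commute y₀ x := Subgroup.mem_centralizer_singleton_iff.mp (hQ hy₀)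
        have := h0.mul_right hc
        rwa [mul_inv_cancel_left] at this
      rw [← hy₀y]
      calc t * y₀ * t⁻¹ * x = t * (y₀ * (t⁻¹ * x * t)) * t⁻¹ := by group
        _ = t * ((t⁻¹ * x * t) * y₀) * t⁻¹ := by rw [hc2.eq]
        _ = x * (t * y₀ * t⁻¹) := by group
    refine Subtype.ext ?_
    show (z : G ⧸ C) = 1
    rw [← hxz]
    exact (QuotientGroup.eq_one_iff x).mpr hxC
  have hmod : Nat.card s ≡ 1 [MOD p] := by
    refine (P.2.card_modEq_card_fixedPoints s).trans ?_
    have : Nat.card (MulAction.fixedPoints (P : Subgroup G) s) = 1 := by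
      rw [Nat.card_eq_one_iff_unique]
      exact ⟨⟨fun a b => Subtype.ext (((hfix a).mp a.2).trans ((hfix b).mp b.2).symm)⟩,
        ⟨⟨_, (hfix _).mpr rfl⟩⟩⟩
    rw [this]
  obtain ⟨a, ha⟩ := IsPGroup.iff_card.mp P.2
  rw [hcard, ha] at hd
  have hPC : p ^ a ∣ Nat.card C := by
    refine (Nat.Coprime.pow_left a ((Nat.Prime.coprime_iff_not_dvd hp.out).mpr ?_)).dvd_of_dvd_mul_right hd
    intro hps
    have := (Nat.modEq_zero_iff_dvd.mpr hps).symm.trans hmod
    exact absurd (Nat.modEq_zero_iff_dvd.mp this.symm) hp.out.not_dvd_one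
  intro g hg
  obtain ⟨K, hK⟩ := Sylow.exists_subgroup_card_pow_prime p hPC
  have hcK : Nat.card (K.map C.subtype) = Nat.card (P : Subgroup G) := by
    rw [ha, ← hK]
    exact (Nat.card_congr (K.equivMapOfInjective _ C.subtype_injective).toEquiv).symm
  let P' : Sylow p G := Sylow.ofCard (K.map C.subtype) (by
    rw [hcK, P.card_eq_multiplicity])
  obtain ⟨t, ht⟩ := MulAction.exists_smul_eq G P' P
  rw [← ht] at hg
  obtain ⟨g₀, hg₀, rfl⟩ := hg
  exact Subgroup.Normal.conj_mem inferInstance g₀ (Subgroup.map_subtype_le K hg₀) t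

end

/-- Let G and H be finite groups such that for every natural number k, G and H have the same number of conjugacy classes of size k. If H is nilpotent then G is nilpotent. -/
theorem result {G H : Type*} [Group G] [Finite G] [Group H] [Finite H]
    (hH : Group.IsNilpotent H)
    (h : ∀ k : ℕ, Nat.card {C : ConjClasses G // Nat.card C.carrier = k} = Nat.card {C : ConjClasses H // Nat.card C.carrier = k}) :
    Group.IsNilpotent G := by
  have hsize : Nat.card G = Nat.card H := by
    have := card_eq_of_classes h (fun _ => True)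
    simpa [Nat.card_congr (Equiv.subtypeUnivEquiv fun _ => trivial)] using this
  refine ((Group.isNilpotent_of_finite_tfae (G := G)).out 0 3).mpr fun p hp P => ?_
  haveI := hp
  obtain ⟨R⟩ := (inferInstance : Nonempty (Sylow p H))
  have hR : (R : Subgroup H) ≤ primeToCentralizer p H := by
    intro g hg
    refine Subgroup.mem_centralizer_iff.mpr fun y hy => ?_
    obtain ⟨q, k, hq, hqp, hk⟩ := hy
    haveI : Fact q.Prime := ⟨hq⟩
    obtain ⟨S, hS⟩ := IsPGroup.exists_le_sylow (P := Subgroup.zpowers y)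
      (IsPGroup.of_card (n := k) (by rw [Nat.card_zpowers, hk]))
    exact Subgroup.commute_of_normal_of_disjoint _ _ inferInstance inferInstance
      (IsPGroup.disjoint_of_ne q p hqp _ _ S.2 R.2) y g (hS (Subgroup.mem_zpowers y)) hg
  have hd : Nat.card (P : Subgroup G) ∣ Nat.card (goodSet p G) := by
    have h1 : Nat.card (goodSet p G) = Nat.card (goodSet p H) :=
      card_eq_of_classes h (fun i => ∀ q : ℕ, q.Prime → q ≠ p → ¬ q ∣ i)
    rw [h1, show Nat.card (P : Subgroup G) = Nat.card (R : Subgroup H) by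
      rw [P.card_eq_multiplicity, R.card_eq_multiplicity, hsize]]
    exact dvd_card_goodSet_of_commute R hR
  have hPC := le_primeToCentralizer P hd
  rw [← Subgroup.normalizer_eq_top_iff, ← Subgroup.index_eq_one,
    Nat.eq_one_iff_not_exists_prime_dvd]
  intro q hq hqd
  by_cases hqp : q = p
  · subst hqp
    exact P.not_dvd_index (hqd.trans (Subgroup.index_dvd_of_le Subgroup.le_normalizer))
  haveI : Fact q.Prime := ⟨hq⟩
  obtain ⟨Q⟩ := (inferInstance : Nonempty (Sylow q G))
  refine Q.not_dvd_index (hqd.trans (Subgroup.index_dvd_of_le fun y hy => ?_))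
  obtain ⟨k, hk⟩ := IsPGroup.iff_orderOf.mp Q.2 ⟨y, hy⟩
  rw [← Subgroup.orderOf_coe] at hk
  refine Subgroup.centralizer_le_normalizer _ (Subgroup.mem_centralizer_iff.mpr fun u hu => ?_)
  exact (Subgroup.mem_centralizer_iff.mp (hPC hu) y ⟨q, k, hq, hqp, hk⟩).symm

end Cfsg.Agent.S4139
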