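import Cfsg.Statements.S4144
import Cfsg.Agent.S3806
import Cfsg.Agent.FG72.MaxClass.Periodic

set_option autoImplicit false
open Cfsg

namespace Cfsg.Agent.S4144

open Cfsg.Agent.FG38 Cfsg.Agent.SectRank81 Cfsg.Agent.FG72.MaxClass
open scoped commutatorElement

variable {G : Type*} [Group G] [Finite G] {p : ℕ} [hp : Fact p.Prime]

theorem maxCl_of_class [Group.IsNilpotent G] {n : ℕ} (hcard : Nat.card G = p ^ n) (h3 : 3 ≤ n)
    (hmax : Group.nilpotencyClass G = n - 1) : MaxCl p n G := by
  refine ⟨hcard, h3, fun i hi hin => ?_⟩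
  have hbot : (⊤ : Subgroup G).lowerCentralSeries (n - 1) = ⊥ := by
    rw [← hmax]; exact Subgroup.lowerCentralSeries_nilpotencyClass
  have hne : ∀ i, i < n - 1 → (⊤ : Subgroup G).lowerCentralSeries i ≠ ⊥ := fun i hi h => by
    have := Subgroup.lowerCentralSeries_eq_bot_iff_nilpotencyClass_le.mp h
    omega
  rw [show n - i = n - 1 - (i - 1) by omega]
  exact S3806.card_lcs (IsPGroup.of_card hcard) (n - 1)
    (by rw [hcard, show n - 1 + 1 = n by omega]) hne hbot (i - 1) (by omega) (by omega)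

/-- A group of maximal class of order `p ^ (p + 1)` does not have exponent `p`. -/
theorem exists_pow_ne_one (h : MaxCl p (p + 1) G) : ∃ g : G, g ^ p ≠ 1 := by
  by_contra hexp
  simp only [not_exists, not_not] at hexp
  have hp2 := hp.out.two_le
  obtain ⟨x, hx⟩ := h.exists_cfg
  obtain ⟨a, ha⟩ : ∃ a : G, dl x a ∉ filt G 3 := by
    by_contra! hall
    have h1 := hx.card_le_of_comm_mem ⊤ (filt G 3 : Set G) (fun g _ => by
      have := hall g⁻¹
      rwa [dl_eq, inv_inv] at this)
    rw [Subgroup.card_top, h.card] at h1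
    change p ^ (p + 1) ≤ Nat.card (filt G 3) * p ^ 2 at h1
    rw [h.layer 3 (by omega) (by omega), ← pow_add] at h1
    have := (Nat.pow_le_pow_iff_right hp.out.one_lt).1 h1
    omega
  have hE := engel_of_pow hp.out h.filt_n (fun z _ => hexp z) a x
    (fun m _ => by rw [hexp, hexp])
  have h1 := hx.dl_iter_not_mem (i := 2) le_rfl (b := dl x a)
    (dl_mem x (d := 1) (c := a) trivial) ha (p - 2) (by omega)
  rw [← Function.iterate_succ_apply, show Nat.succ (p - 2) = p - 1 by omega, hE] at h1
  exact h1 (one_mem _)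

/-- Let X be a finite p-group of order p^n, n ≥ 2, of nilpotency class n − 1 (maximal class), and H any subgroup of X. Then the index in H of the subgroup generated by the p-th powers of elements of H is at most p^p. -/
theorem result {X : Type*} [Group X] [Finite X] {p : ℕ} [Fact p.Prime] (n : ℕ) (hn : 2 ≤ n) (hX : Nat.card X = p ^ n)
    (hmax : Group.nilpotencyClass X = n - 1) (H : Subgroup X) :
    (Subgroup.closure {y : X | ∃ h ∈ H, y = h ^ p}).relIndex H ≤ p ^ p := by
  have hp := (Fact.out : p.Prime)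
  haveI : Group.IsNilpotent X := (IsPGroup.of_card hX).isNilpotent
  set D := Subgroup.closure {y : X | ∃ h ∈ H, y = h ^ p} with hD
  have hDH : D ≤ H := (Subgroup.closure_le H).2 (by rintro _ ⟨h, hh, rfl⟩; exact pow_mem hh p)
  suffices hkey : Nat.card H ≤ p ^ p * Nat.card D by
    rw [card_eq_relIndex_mul D H, inf_eq_right.2 hDH] at hkey
    exact Nat.le_of_mul_le_mul_right hkey Nat.card_pos
  by_cases hsmall : n ≤ p
  · calc Nat.card H ≤ p ^ n := hX ▸ Subgroup.card_le_card_group H
      _ ≤ p ^ p := Nat.pow_le_pow_right hp.pos hsmall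
      _ ≤ p ^ p * Nat.card D := Nat.le_mul_of_pos_right _ Nat.card_pos
  have hp2 := hp.two_le
  have h := maxCl_of_class hX (by omega) hmax
  obtain ⟨x, hx⟩ := h.exists_cfg
  set K := (H ⊓ filt X 2 : Subgroup X) with hK
  have hpow : ∀ k ∈ K, k ^ p ∈ D := fun k hk =>
    Subgroup.subset_closure ⟨k, (Subgroup.mem_inf.1 hk).1, rfl⟩
  have hc := hx.card_le_pow_mul K D hpow (n - 2) 2 (by omega) le_rfl
  rw [inf_eq_left.2 (inf_le_right : K ≤ filt X 2), show min (2 + p - 1) n = p + 1 by omega] at hc
  have hmin : p ^ min (p - 1) (n - 2) ≤ p ^ (p - 1) := Nat.pow_le_pow_right hp.pos (by omega)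
  by_cases htop : H ⊔ filt X 2 = ⊤
  · have hHtop : H = ⊤ := by
      refine frattini_nongenerating (top_le_iff.1 ?_)
      rw [← htop]
      exact sup_le_sup_left (filt_two (G := X) ▸ PGroup.commutator_le_frattini h.isPGroup) _
    obtain ⟨g, hg⟩ : ∃ g : X, g ^ p ∉ filt X (p + 1) := by
      by_contra! hall
      obtain ⟨q, hq⟩ := exists_pow_ne_one (h.quotient (m := p + 1) (by omega) (by omega))
      obtain ⟨g, rfl⟩ := QuotientGroup.mk_surjective q
      exact hq (by rw [← QuotientGroup.mk_pow]; exact (QuotientGroup.eq_one_iff _).2 (hall g))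
    have h7 : p * Nat.card (D ⊓ filt X (p + 1) : Subgroup X) ≤ Nat.card D := by
      obtain ⟨u, hu⟩ := PGroup.exists_card_eq_pow h.isPGroup (D ⊓ filt X (p + 1) : Subgroup X)
      obtain ⟨v, hv⟩ := PGroup.exists_card_eq_pow h.isPGroup D
      have hlt : Nat.card (D ⊓ filt X (p + 1) : Subgroup X) < Nat.card D := by
        refine lt_of_le_of_ne (Subgroup.card_le_of_le inf_le_left) fun he => hg ?_
        have hgD : g ^ p ∈ D := Subgroup.subset_closure ⟨g, hHtop ▸ Subgroup.mem_top g, rfl⟩
        rw [← Subgroup.eq_of_le_of_card_ge inf_le_left he.ge] at hgD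
        exact (Subgroup.mem_inf.1 hgD).2
      rw [hu, hv] at hlt ⊢
      rw [← pow_succ']
      exact Nat.pow_le_pow_right hp.pos ((Nat.pow_lt_pow_iff_right hp.one_lt).1 hlt)
    have hKc : Nat.card K = p ^ (n - 2) := by
      rw [hK, hHtop, top_inf_eq]; exact h.layer 2 le_rfl (by omega)
    calc Nat.card H = p ^ 2 * Nat.card K := by
          rw [hKc, hHtop, Subgroup.card_top, hX, ← pow_add]; congr 1; omega
      _ ≤ p ^ 2 * (p ^ (p - 1) * Nat.card (D ⊓ filt X (p + 1) : Subgroup X)) :=
          Nat.mul_le_mul_left _ (hc.trans (Nat.mul_le_mul_right _ hmin))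
      _ = p ^ p * (p * Nat.card (D ⊓ filt X (p + 1) : Subgroup X)) := by
          rw [← mul_assoc, ← mul_assoc, ← pow_add, ← pow_succ]; congr 2; omega
      _ ≤ p ^ p * Nat.card D := Nat.mul_le_mul_left _ h7
  · have hrel : (filt X 2).relIndex H ≤ p := by
      have h1 := card_eq_relIndex_mul (filt X 2) (H ⊔ filt X 2)
      rw [inf_eq_right.2 le_sup_right, Subgroup.relIndex_sup_right, h.layer 2 le_rfl (by omega)] at h1
      obtain ⟨m, hm⟩ := PGroup.exists_card_eq_pow h.isPGroup (H ⊔ filt X 2 : Subgroup X)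
      have hlt : p ^ m < p ^ n := by
        rw [← hm, ← hX]
        refine lt_of_le_of_ne (Subgroup.card_le_card_group _) fun he => htop ?_
        exact Subgroup.eq_top_of_card_eq _ he
      have hmn := (Nat.pow_lt_pow_iff_right hp.one_lt).1 hlt
      have h2 : (filt X 2).relIndex H * p ^ (n - 2) ≤ p * p ^ (n - 2) := by
        rw [← h1, hm, ← pow_succ']
        exact Nat.pow_le_pow_right hp.pos (by omega)
      exact Nat.le_of_mul_le_mul_right h2 (pow_pos hp.pos _)
    calc Nat.card H = (filt X 2).relIndex H * Nat.card K := card_eq_relIndex_mul _ _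
      _ ≤ p * (p ^ (p - 1) * Nat.card D) := Nat.mul_le_mul hrel
          (hc.trans (Nat.mul_le_mul hmin (Subgroup.card_le_of_le inf_le_left)))
      _ = p ^ p * Nat.card D := by
          rw [← mul_assoc, ← pow_succ']; congr 2; omega

end Cfsg.Agent.S4144
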