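import Cfsg.Statements.S4153
-- (no helpers)

set_option autoImplicit false
open Cfsg

namespace Cfsg.Agent.S4153

/-- Let G be a finite group, p a prime, N a normal subgroup, P a Sylow p-subgroup of G and P̄ a Sylow p-subgroup of G/N. Count the elements of p-power order, the identity included. Then (number of such elements of G/N)/#P̄ ≤ (number of such elements of G)/#P, stated as a cross-multiplied inequality, with equality when N is central. -/
theorem result {G : Type*} [Group G] [Finite G] (p : ℕ) [Fact p.Prime] (N : Subgroup G) [N.Normal]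
    (P : Sylow p G) (Pbar : Sylow p (G ⧸ N)) :
    Nat.card {g : (G ⧸ N) // ∃ k : ℕ, orderOf g = p ^ k} * Nat.card (P : Subgroup G) ≤ Nat.card {g : G // ∃ k : ℕ, orderOf g = p ^ k} * Nat.card (Pbar : Subgroup (G ⧸ N)) ∧
    (N ≤ Subgroup.center G → Nat.card {g : (G ⧸ N) // ∃ k : ℕ, orderOf g = p ^ k} * Nat.card (P : Subgroup G) = Nat.card {g : G // ∃ k : ℕ, orderOf g = p ^ k} * Nat.card (Pbar : Subgroup (G ⧸ N))) := by
  classical
  have hp := (Fact.out : p.Prime)
  let f := QuotientGroup.mk' N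
  have hf : Function.Surjective f := QuotientGroup.mk'_surjective N
  have hPN : ∀ Q : Sylow p G, Nat.card (Q : Subgroup G) =
      Nat.card ↥((Q : Subgroup G) ⊓ N) * Nat.card (Pbar : Subgroup (G ⧸ N)) := by
    intro Q
    have h1 : Nat.card (Pbar : Subgroup (G ⧸ N)) = Nat.card ↥((Q : Subgroup G).map f) := by
      rw [Pbar.card_eq_multiplicity, ← Sylow.coe_mapSurjective hf Q, Sylow.card_eq_multiplicity]
    rw [h1]
    have h2 := Subgroup.card_eq_card_quotient_mul_card_subgroup (f.subgroupMap (Q : Subgroup G)).ker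
    rw [Nat.card_congr (QuotientGroup.quotientKerEquivOfSurjective _
      (f.subgroupMap_surjective (Q : Subgroup G))).toEquiv] at h2
    have h3 : Nat.card ↥(f.subgroupMap (Q : Subgroup G)).ker = Nat.card ↥((Q : Subgroup G) ⊓ N) := by
      refine Nat.card_congr ⟨fun x => ⟨x.1.1, x.1.2, (QuotientGroup.eq_one_iff _).mp (congrArg Subtype.val x.2)⟩,
        fun x => ⟨⟨x.1, x.2.1⟩, Subtype.ext ((QuotientGroup.eq_one_iff _).mpr x.2.2)⟩,
        fun x => rfl, fun x => rfl⟩
    rw [h2, h3, mul_comm]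
  have hconst : ∀ Q : Sylow p G, Nat.card ↥((Q : Subgroup G) ⊓ N) = Nat.card ↥((P : Subgroup G) ⊓ N) := by
    intro Q
    refine Nat.eq_of_mul_eq_mul_right (Nat.card_pos (α := ↥(Pbar : Subgroup (G ⧸ N)))) ?_
    rw [← hPN Q, ← hPN P, Sylow.card_eq_multiplicity, Sylow.card_eq_multiplicity]
  have hpel : ∀ g : G, (∃ k : ℕ, orderOf g = p ^ k) → IsPGroup p (Subgroup.zpowers g) := by
    rintro g ⟨k, hk⟩
    exact IsPGroup.of_card (n := k) ((Nat.card_zpowers g).trans hk)
  have hpord : ∀ (Q : Sylow p G) (g : G), g ∈ (Q : Subgroup G) → ∃ k : ℕ, orderOf g = p ^ k := by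
    intro Q g hg
    obtain ⟨k, hk⟩ := (IsPGroup.iff_orderOf.mp Q.2) ⟨g, hg⟩
    exact ⟨k, by rw [← Subgroup.orderOf_mk g hg]; exact hk⟩
  let A := {g : G // ∃ k : ℕ, orderOf g = p ^ k}
  let B := {g : (G ⧸ N) // ∃ k : ℕ, orderOf g = p ^ k}
  let m := Nat.card ↥((P : Subgroup G) ⊓ N)
  let π' : A → B := fun a => ⟨f a.1, by
    obtain ⟨k, hk⟩ := a.2
    obtain ⟨i, -, hi⟩ := (Nat.dvd_prime_pow hp).mp (hk ▸ orderOf_map_dvd f a.1)
    exact ⟨i, hi⟩⟩
  have hfib : ∀ b : B, m ≤ Nat.card {a : A // π' a = b} := by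
    rintro ⟨b, hb⟩
    obtain ⟨k, hk⟩ := hb
    obtain ⟨Q₀, hQ₀⟩ := (IsPGroup.of_card (n := k) ((Nat.card_zpowers b).trans hk) :
      IsPGroup p (Subgroup.zpowers b)).exists_le_sylow
    obtain ⟨Q, hQ⟩ := Sylow.mapSurjective_surjective hf p Q₀
    have : b ∈ (Q : Subgroup G).map f := by
      rw [← Sylow.coe_mapSurjective hf Q, hQ]; exact hQ₀ (Subgroup.mem_zpowers b)
    obtain ⟨g, hg, hgb⟩ := this
    show Nat.card ↥((P : Subgroup G) ⊓ N) ≤ _
    rw [← hconst Q]
    refine Nat.card_le_card_of_injective (fun n => ⟨⟨g * n.1, hpord Q _ (mul_mem hg n.2.1)⟩,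
      Subtype.ext ?_⟩) fun x y h => ?_
    · show f (g * n.1) = b
      rw [map_mul, show f n.1 = 1 from (QuotientGroup.eq_one_iff _).mpr n.2.2, mul_one, hgb]
    · exact Subtype.ext (mul_left_cancel (a := g) (congrArg (fun a : {a : A // _} => a.1.1) h))
  have hsum : Nat.card A = ∑ᶠ b : B, Nat.card {a : A // π' a = b} := by
    haveI := Fintype.ofFinite B
    rw [finsum_eq_sum_of_fintype, ← Nat.card_sigma, Nat.card_congr (Equiv.sigmaFiberEquiv π')]
  haveI := Fintype.ofFinite B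
  rw [finsum_eq_sum_of_fintype] at hsum
  change Nat.card B * _ ≤ Nat.card A * _ ∧ (_ → Nat.card B * _ = Nat.card A * _)
  have hB : Nat.card B * Nat.card (P : Subgroup G) =
      (∑ _b : B, m) * Nat.card (Pbar : Subgroup (G ⧸ N)) := by
    rw [hPN P, Finset.sum_const, Finset.card_univ, smul_eq_mul, ← Nat.card_eq_fintype_card, mul_assoc]
  refine ⟨?_, fun hN => ?_⟩
  · rw [hB, hsum]
    exact Nat.mul_le_mul_right _ (Finset.sum_le_sum fun b _ => hfib b)
  · rw [hB, hsum]
    refine congrArg (· * _) (Finset.sum_congr rfl fun b _ => le_antisymm (hfib b) ?_)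
    rcases isEmpty_or_nonempty {a : A // π' a = b} with hE | ⟨⟨a₀, ha₀⟩⟩
    · rw [Nat.card_of_isEmpty]; exact Nat.zero_le _
    have hmem : ∀ a : {a : A // π' a = b}, a₀.1⁻¹ * a.1.1 ∈ N := fun a =>
      QuotientGroup.eq.mp (congrArg Subtype.val (ha₀.trans a.2.symm))
    have hin : ∀ a : {a : A // π' a = b}, a₀.1⁻¹ * a.1.1 ∈ (P : Subgroup G) := by
      intro a
      set n := a₀.1⁻¹ * a.1.1 with hn
      have hnc := hN (hmem a)
      have hn' : ∃ k, orderOf n = p ^ k := by
        obtain ⟨i, hi⟩ := a₀.2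
        obtain ⟨j, hj⟩ := a.1.2
        have hc : Commute a₀.1⁻¹ a.1.1 := by
          have h1 : Commute a₀.1⁻¹ n := (Subgroup.mem_center_iff.mp hnc a₀.1⁻¹)
          have h2 : a.1.1 = a₀.1 * n := by rw [hn, mul_inv_cancel_left]
          rw [h2]; exact ((Commute.refl a₀.1).inv_left).mul_right h1
        have hd := hc.orderOf_mul_dvd_lcm
        rw [orderOf_inv, hi, hj, ← hn] at hd
        have : orderOf n ∣ p ^ (i + j) := by
          rw [pow_add]; exact hd.trans (Nat.lcm_dvd_mul _ _)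
        obtain ⟨r, -, hr⟩ := (Nat.dvd_prime_pow hp).mp this
        exact ⟨r, hr⟩
      obtain ⟨Q, hQ⟩ := (hpel n hn').exists_le_sylow
      obtain ⟨c, hc⟩ := MulAction.exists_smul_eq G Q P
      have : c * n * c⁻¹ ∈ (P : Subgroup G) := by
        rw [← hc, Sylow.coe_subgroup_smul]
        exact Subgroup.smul_mem_pointwise_smul _ (MulAut.conj c) _ (hQ (Subgroup.mem_zpowers _))
      rwa [Subgroup.mem_center_iff.mp hnc c, mul_inv_cancel_right] at this
    refine Nat.card_le_card_of_injective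
      (fun a => (⟨a₀.1⁻¹ * a.1.1, hin a, hmem a⟩ : ↥((P : Subgroup G) ⊓ N))) fun a a' h => ?_
    exact Subtype.ext (Subtype.ext (mul_left_cancel
      (congrArg (fun z : ↥((P : Subgroup G) ⊓ N) => (z : G)) h)))

end Cfsg.Agent.S4153
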