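import Cfsg.Statements.S4154
-- (no helpers)

set_option autoImplicit false
open Cfsg

namespace Cfsg.Agent.S4154

/-- Let G be a finite group and α an automorphism of G such that every element of G is the product of an element fixed by α and an element of the form g⁻¹α(g). If N is a normal α-invariant subgroup, then the automorphism ᾱ induced on G/N has the same property, and every coset fixed by ᾱ contains an element fixed by α (so the fixed points of ᾱ are the images of the fixed points of α). -/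
theorem result {G : Type*} [Group G] [Finite G] (α : MulAut G)
    (hccp : ∀ x : G, ∃ c g : G, α c = c ∧ x = c * (g⁻¹ * α g))
    (N : Subgroup G) [N.Normal] (hN : ∀ n ∈ N, α n ∈ N) :
    (∀ x : G, ∃ c g : G, c⁻¹ * α c ∈ N ∧ x⁻¹ * (c * (g⁻¹ * α g)) ∈ N) ∧
    (∀ x : G, x⁻¹ * α x ∈ N → ∃ c : G, α c = c ∧ c⁻¹ * x ∈ N) := by
  refine ⟨fun x => ?_, fun x hx => ?_⟩
  · obtain ⟨c, g, hc, hxx⟩ := hccp x
    exact ⟨c, g, by simp [hc], by rw [← hxx]; simp⟩
  · let β : G ⧸ N →* G ⧸ N := QuotientGroup.map N N α.toMonoidHom hN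
    have hβ : ∀ g : G, β (g : G ⧸ N) = ((α g : G) : G ⧸ N) := fun g => rfl
    let C := {c : G ⧸ N // β c = c}
    let K := {k : G ⧸ N // ∃ q : G ⧸ N, q⁻¹ * β q = k}
    have hle : Nat.card (C × K) ≤ Nat.card (G ⧸ N) := by
      refine Nat.card_le_card_of_injective (fun ck => ck.1.1 * ck.2.2.choose) fun a b h => ?_
      have e : ∀ ck : C × K, (ck.1.1 * ck.2.2.choose)⁻¹ * β (ck.1.1 * ck.2.2.choose) = ck.2.1 :=
        fun ck => by
          rw [map_mul, ck.1.2, mul_inv_rev, mul_assoc, inv_mul_cancel_left]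
          exact ck.2.2.choose_spec
      have h2 : a.2 = b.2 := Subtype.ext <| by
        rw [← e a, ← e b]
        exact congrArg (fun z => z⁻¹ * β z) h
      simp only [h2, mul_left_inj] at h
      exact Prod.ext (Subtype.ext h) h2
    let μ : C × K → G ⧸ N := fun ck => ck.1.1 * ck.2.1
    have hμ : Function.Surjective μ := by
      intro q
      obtain ⟨y, rfl⟩ := QuotientGroup.mk_surjective q
      obtain ⟨c, g, hc, hy⟩ := hccp y
      refine ⟨(⟨(c : G ⧸ N), by rw [hβ, hc]⟩,
        ⟨((g⁻¹ * α g : G) : G ⧸ N), (g : G ⧸ N), by rw [hβ]; simp⟩), ?_⟩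
      simp only [μ, ← QuotientGroup.mk_mul, ← hy]
    have hinj := ((Nat.bijective_iff_surjective_and_card μ).mpr
      ⟨hμ, le_antisymm hle (Nat.card_le_card_of_surjective μ hμ)⟩).1
    obtain ⟨c, g, hc, hxx⟩ := hccp x
    refine ⟨c, hc, ?_⟩
    have hfix : β (x : G ⧸ N) = (x : G ⧸ N) := by
      rw [hβ, eq_comm, QuotientGroup.eq]; exact hx
    have key := @hinj
      (⟨(c : G ⧸ N), by rw [hβ, hc]⟩, ⟨((g⁻¹ * α g : G) : G ⧸ N), (g : G ⧸ N), by rw [hβ]; simp⟩)
      (⟨(x : G ⧸ N), hfix⟩, ⟨1, 1, by simp⟩) (by simp only [μ, ← QuotientGroup.mk_mul, ← hxx, mul_one])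
    exact QuotientGroup.eq.mp (congrArg (fun ck : C × K => ck.1.1) key)

end Cfsg.Agent.S4154
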