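import Cfsg.Statements.S4155
import Cfsg.Agent.FG78.EqualOrder
import Cfsg.Agent.S4107

set_option autoImplicit false
open Cfsg

namespace Cfsg.Agent.S4155

/-- Let G be a finite group and N a proper non-trivial normal nilpotent subgroup whose order is not a prime power, such that for every x outside N all elements of the coset xN have the same order as x. Then N is the Fitting subgroup of G, and for every prime q every Sylow q-subgroup of G/N is cyclic or generalized quaternion. -/
theorem result {G : Type*} [Group G] [Finite G] (N : Subgroup G) [N.Normal] (hN1 : N ≠ ⊥) (hN2 : N ≠ ⊤)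
    (heq : ∀ x : G, x ∉ N → ∀ n ∈ N, orderOf (x * n) = orderOf x)
    (hnil : Group.IsNilpotent N) (hnpp : ¬ IsPrimePow (Nat.card N)) :
    N = Cfsg.fittingSubgroup G ∧
    ∀ (q : ℕ) [Fact q.Prime] (Q : Sylow q (G ⧸ N)), IsCyclic (Q : Subgroup (G ⧸ N)) ∨ ∃ n : ℕ, Nonempty ((Q : Subgroup (G ⧸ N)) ≃* QuaternionGroup (2 ^ n)) := by
  classical
  refine ⟨?_, fun q _ Q => ?_⟩
  · refine le_antisymm (le_sSup ⟨inferInstance, hnil⟩) ?_
    by_contra hlt
    obtain ⟨p, k, hp, hk, hpk⟩ := (Cfsg.Agent.S4107.result N hN1 hN2 heq).2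
      (lt_of_le_not_ge (le_sSup ⟨inferInstance, hnil⟩) hlt)
    have hd : Nat.card N ∣ p ^ k := hpk ▸ Subgroup.card_dvd_of_le (le_sSup ⟨inferInstance, hnil⟩)
    obtain ⟨i, -, hi⟩ := (Nat.dvd_prime_pow hp.nat_prime).mp hd
    refine hnpp (hi ▸ hp.nat_prime.isPrimePow.pow ?_)
    rintro rfl
    rw [pow_zero, Subgroup.card_eq_one] at hi
    exact hN1 hi
  · obtain ⟨r, hr, hrN, hrq⟩ : ∃ r : ℕ, r.Prime ∧ r ∣ Nat.card N ∧ r ≠ q := by
      by_contra hne
      have h := Nat.eq_prime_pow_of_unique_prime_dvd (p := q) (n := Nat.card N) Nat.card_pos.ne'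
        (fun {r} hr hrd => by_contra fun h => hne ⟨r, hr, hrd, h⟩)
      refine hnpp (h ▸ (Fact.out : q.Prime).isPrimePow.pow ?_)
      intro h0
      rw [h0, pow_zero, Subgroup.card_eq_one] at h
      exact hN1 h
    haveI := Fact.mk hr
    exact Cfsg.Agent.FG78.EqualOrder.sylow_shape heq hnil hrq hrN Q

end Cfsg.Agent.S4155
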