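import Cfsg.Statements.S4156
-- (no helpers)

set_option autoImplicit false
open Cfsg

namespace Cfsg.Agent.S4156

/-- Let n ≥ 5 and F a finite field. Then the projective special linear group PSL_n(F) contains a subgroup isomorphic to the alternating group of degree n + 1. -/
theorem result (n : ℕ) (hn : 5 ≤ n) (F : Type*) [Field F] [Finite F] :
    ∃ f : alternatingGroup (Fin (n + 1)) →* Matrix.ProjectiveSpecialLinearGroup (Fin n) F, Function.Injective f := by
  classical
  haveI := Fintype.ofFinite F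
  have h5 : 5 ≤ Nat.card (Fin (n + 1)) := by rw [Nat.card_fin]; omega
  let l : Fin (n + 1) := Fin.last n
  let d : Fin (n + 1) → Fin (n + 1) → F := fun a b => if a = b then 1 else 0
  let M : Equiv.Perm (Fin (n + 1)) → Matrix (Fin n) (Fin n) F := fun σ i j =>
    d (σ j.castSucc) i.castSucc - d (σ l) i.castSucc
  have M1 : M 1 = 1 := by
    ext i j
    simp only [M, d, l, Equiv.Perm.coe_one, id_eq, Fin.castSucc_inj,
      (Fin.castSucc_lt_last i).ne', if_false, sub_zero, Matrix.one_apply, eq_comm (a := j)]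
  have Mmul : ∀ σ τ, M (σ * τ) = M σ * M τ := by
    intro σ τ
    ext i j
    rw [Matrix.mul_apply]
    let F' : Fin (n + 1) → F := fun k =>
      (d (σ k) i.castSucc - d (σ l) i.castSucc) * (d (τ j.castSucc) k - d (τ l) k)
    have e : ∑ k : Fin n, M σ i k * M τ k j = ∑ k, F' k := by
      rw [Fin.sum_univ_castSucc]
      simp [M, F', l]
    rw [e]
    have hsum : ∀ (u : Fin (n + 1) → F) (t : Fin (n + 1)), ∑ k, u k * d t k = u t := by
      intro u t
      rw [Finset.sum_eq_single t]
      · simp [d]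
      · intro k _ hk; simp [d, Ne.symm hk]
      · simp
    simp only [F', mul_sub, Finset.sum_sub_distrib, hsum]
    simp only [M, Equiv.Perm.mul_apply]
    ring
  let f : alternatingGroup (Fin (n + 1)) →* (Matrix (Fin n) (Fin n) F)ˣ :=
    MonoidHom.toHomUnits
      { toFun := fun σ => M σ.1, map_one' := M1, map_mul' := fun σ τ => Mmul σ.1 τ.1 }
  have hdet : ∀ σ, Matrix.det (M (σ : alternatingGroup (Fin (n + 1))).1) = 1 := by
    intro σ
    let g : alternatingGroup (Fin (n + 1)) →* Fˣ := (Units.map (Matrix.detMonoidHom)).comp f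
    have hle : commutator (alternatingGroup (Fin (n + 1))) ≤ g.ker := by
      rw [commutator_def, Subgroup.commutator_le]
      intro a _ b _
      rw [MonoidHom.mem_ker, map_commutatorElement, commutatorElement_eq_one_iff_commute]
      exact Commute.all _ _
    rw [commutator_alternatingGroup_eq_top h5] at hle
    exact congrArg Units.val (MonoidHom.mem_ker.mp (hle (Subgroup.mem_top σ)))
  let s : alternatingGroup (Fin (n + 1)) →* Matrix.SpecialLinearGroup (Fin n) F :=
    { toFun := fun σ => ⟨M σ.1, hdet σ⟩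
      map_one' := Subtype.ext M1
      map_mul' := fun σ τ => Subtype.ext (Mmul σ.1 τ.1) }
  refine ⟨(QuotientGroup.mk' _).comp s, (MonoidHom.ker_eq_bot_iff _).mp ?_⟩
  haveI := alternatingGroup.isSimpleGroup h5
  refine ((MonoidHom.normal_ker _).eq_bot_or_eq_top).resolve_right fun htop => ?_
  let a : Fin (n + 1) := ⟨0, by omega⟩
  let b : Fin (n + 1) := ⟨1, by omega⟩
  let c : Fin (n + 1) := ⟨2, by omega⟩
  have hcy : (Equiv.swap a b * Equiv.swap a c).IsThreeCycle :=
    Equiv.Perm.isThreeCycle_swap_mul_swap_same (by simp [a, b, Fin.ext_iff])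
      (by simp [a, c, Fin.ext_iff]) (by simp [b, c, Fin.ext_iff])
  let σ : alternatingGroup (Fin (n + 1)) := ⟨_, hcy.mem_alternatingGroup⟩
  have hm : σ ∈ ((QuotientGroup.mk' (Subgroup.center (Matrix.SpecialLinearGroup (Fin n) F))).comp s).ker := by
    exact htop ▸ Subgroup.mem_top σ
  rw [MonoidHom.mem_ker, MonoidHom.comp_apply, QuotientGroup.mk'_apply, QuotientGroup.eq_one_iff,
    Matrix.SpecialLinearGroup.mem_center_iff] at hm
  obtain ⟨r, -, hr⟩ := hm
  have h2 := congrFun (congrFun hr ⟨2, by omega⟩) ⟨0, by omega⟩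
  have v0 : σ.1 a = c := by
    simp [σ, a, b, c, Equiv.Perm.mul_apply, Equiv.swap_apply_def, Fin.ext_iff]
  have vl : σ.1 l = l := by
    have h3 : l ≠ a ∧ l ≠ b ∧ l ≠ c := by
      simp only [l, a, b, c, ne_eq, Fin.ext_iff, Fin.val_last]; omega
    simp [σ, Equiv.Perm.mul_apply, Equiv.swap_apply_of_ne_of_ne, h3.1, h3.2.1, h3.2.2]
  change Matrix.scalar (Fin n) r _ _ = d (σ.1 a) c - d (σ.1 l) c at h2
  rw [v0, vl] at h2
  have hlc : l ≠ c := by simp only [l, c, ne_eq, Fin.ext_iff, Fin.val_last]; omega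
  rw [Matrix.scalar_apply, Matrix.diagonal_apply_ne _ (by simp [Fin.ext_iff])] at h2
  simp [d, hlc] at h2

end Cfsg.Agent.S4156
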