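import Cfsg.Statements.S4157
import Cfsg.Agent.FGS80.KulakoffTwo
import Cfsg.Agent.Lib.PGroup.MaximalClassTwo
-- import your own Cfsg.Agent.* helpers here

set_option autoImplicit false
open Cfsg

namespace Cfsg.Agent.S4157

/-- Let G be a finite p-group of order p^m that is not cyclic and, when p = 2, not of maximal class (nilpotency class m − 1). Then for every 1 ≤ k < m the number of subgroups of G of order p^k is congruent to 1 + p modulo p². -/
theorem result {G : Type*} [Group G] [Finite G] {p : ℕ} [Fact p.Prime] (m : ℕ)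
    (hG : Nat.card G = p ^ m) (hnc : ¬ IsCyclic G) (h2 : p = 2 → Group.nilpotencyClass G ≠ m - 1)
    (k : ℕ) (hk1 : 1 ≤ k) (hk2 : k < m) :
    Nat.card {H : Subgroup G // Nat.card H = p ^ k} ≡ 1 + p [MOD p ^ 2] := by
  classical
  letI : Fintype (Subgroup G) := Fintype.ofFinite _
  have hT : Nat.card (⊤ : Subgroup G) = p ^ m := by rw [Subgroup.card_top, hG]
  have hncT : ¬ IsCyclic (⊤ : Subgroup G) := fun h => hnc (Subgroup.topEquiv.isCyclic.1 h)
  have hcount : Nat.card {H : Subgroup G // Nat.card H = p ^ k} =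
      (FGS80.Kulakoff.subs p k (⊤ : Subgroup G)).card := by
    rw [Nat.subtype_card]
    intro H
    simp [FGS80.Kulakoff.mem_subs]
  rw [hcount, ← ZMod.natCast_eq_natCast_iff, Nat.cast_add, Nat.cast_one]
  by_cases hp2 : p = 2
  · subst hp2
    rw [FGS80.Kulakoff.kulakoff_two m ⊤ k hT hk1 hk2 hncT, if_neg]
    · rfl
    rintro ⟨⟨h8, hc⟩, hkm⟩
    refine h2 rfl (Cfsg.Agent.PGroup.nilpotencyClass_of_commutator_index (by omega) hG ?_)
    have h := (commutator G).card_mul_index
    rw [Subgroup.card_top, ← commutator_def] at hc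
    rw [← hc, mul_comm 4] at h
    exact Nat.eq_of_mul_eq_mul_left Nat.card_pos h
  · exact FGS80.Kulakoff.kulakoff hp2 m ⊤ k hT hk1 hk2 hncT

end Cfsg.Agent.S4157
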