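import Cfsg.Statements.S4163
-- (no helpers)

set_option autoImplicit false
open Cfsg

namespace Cfsg.Agent.S4163

/-- Let G be a finite group with a normal abelian subgroup A satisfying C_G(A) = A. Suppose some conjugacy class of G has size greater than 1, let m be the smallest such size, and let M be the subgroup generated by the elements whose class has size 1 or m. Then M is nilpotent of class at most 3. -/
theorem result {G : Type*} [Group G] [Finite G]
    (A : Subgroup G) [A.Normal] (hA : IsMulCommutative A) (hCA : Subgroup.centralizer (A : Set G) = A)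
    (m : ℕ) (hm1 : 1 < m) (hm : ∃ x : G, (Subgroup.centralizer ({x} : Set G)).index = m) (hmin : ∀ x : G, 1 < (Subgroup.centralizer ({x} : Set G)).index → m ≤ (Subgroup.centralizer ({x} : Set G)).index) :
    Subgroup.upperCentralSeries ↥(Subgroup.closure {x : G | (Subgroup.centralizer ({x} : Set G)).index = 1 ∨ (Subgroup.centralizer ({x} : Set G)).index = m}) 3 = ⊤ := by
  classical
  set M := Subgroup.closure {x : G | (Subgroup.centralizer ({x} : Set G)).index = 1 ∨ (Subgroup.centralizer ({x} : Set G)).index = m} with hMdef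
  have hAc : ∀ a ∈ A, ∀ b ∈ A, a * b = b * a := fun a ha b hb =>
    congrArg Subtype.val (hA.1.1 ⟨a, ha⟩ ⟨b, hb⟩)
  have hcen : ∀ x : G, (Subgroup.centralizer ({x} : Set G)).index = 1 → x ∈ Subgroup.center G := by
    intro x hx
    rw [Subgroup.index_eq_one] at hx
    exact Subgroup.mem_center_iff.mpr fun g =>
      (Subgroup.mem_centralizer_singleton_iff.mp (hx ▸ Subgroup.mem_top g))
  have hgen : ∀ x ∈ {x : G | (Subgroup.centralizer ({x} : Set G)).index = 1 ∨ (Subgroup.centralizer ({x} : Set G)).index = m},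
      ∀ a ∈ A, a⁻¹ * x * a * x⁻¹ ∈ Subgroup.center G := by
    intro x hx a ha
    rcases hx with hx | hx
    · have h := Subgroup.mem_center_iff.mp (hcen x hx) a
      rw [show a⁻¹ * x * a * x⁻¹ = a⁻¹ * (x * a) * x⁻¹ by group, ← h]
      simp
    by_contra hu
    set u := a⁻¹ * x * a * x⁻¹ with hu_def
    set C := Subgroup.centralizer ({x} : Set G)
    set Cu := Subgroup.centralizer ({u} : Set G)
    let φ : A → G := fun b => (b : G)⁻¹ * x * (b : G) * x⁻¹
    let T := Set.range φ
    have huA : u ∈ A := by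
      have := mul_mem (inv_mem ha) (Subgroup.Normal.conj_mem ‹A.Normal› a ha x)
      simpa [hu_def, mul_assoc] using this
    have hAu : ∀ b ∈ A, b ∈ Cu := fun b hb =>
      Subgroup.mem_centralizer_singleton_iff.mpr (hAc b hb u huA)
    have h1 : Nat.card T * Nat.card ↥(C ⊓ Cu) ≤ Nat.card Cu := by
      rw [← Nat.card_prod]
      refine Nat.card_le_card_of_injective (fun ts => (⟨(ts.1.2.choose : G) * ts.2.1,
        mul_mem (hAu _ ts.1.2.choose.2) ts.2.2.2⟩ : Cu)) fun p q h => ?_
      have h' : (p.1.2.choose : G) * p.2.1 = (q.1.2.choose : G) * q.2.1 := congrArg Subtype.val h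
      have hc : (q.1.2.choose : G)⁻¹ * p.1.2.choose ∈ C := by
        have : (q.1.2.choose : G)⁻¹ * p.1.2.choose = q.2.1 * (p.2.1 : G)⁻¹ := by
          rw [eq_mul_inv_iff_mul_eq, mul_assoc, h', inv_mul_cancel_left]
        rw [this]; exact mul_mem q.2.2.1 (inv_mem p.2.2.1)
      rw [Subgroup.mem_centralizer_singleton_iff] at hc
      have hφ : φ p.1.2.choose = φ q.1.2.choose := by
        simp only [φ]
        set b : G := ↑(p.1.2.choose) with hb
        set b' : G := ↑(q.1.2.choose) with hb'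
        have e : b = b' * (b'⁻¹ * b) := by group
        have e2 : (b'⁻¹ * b)⁻¹ * x * (b'⁻¹ * b) = x := by
          rw [mul_assoc, ← hc, inv_mul_cancel_left]
        have e3 : (b'⁻¹ * b) * b' = b' * (b'⁻¹ * b) :=
          hAc _ (mul_mem (inv_mem q.1.2.choose.2) p.1.2.choose.2) _ q.1.2.choose.2
        have e4 : b = (b'⁻¹ * b) * b' := by rw [e3]; exact e
        calc b⁻¹ * x * b * x⁻¹ = ((b'⁻¹ * b) * b')⁻¹ * x * ((b'⁻¹ * b) * b') * x⁻¹ := by rw [← e4]
          _ = b'⁻¹ * ((b'⁻¹ * b)⁻¹ * x * (b'⁻¹ * b)) * b' * x⁻¹ := by group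
          _ = _ := by rw [e2]
      rw [p.1.2.choose_spec, q.1.2.choose_spec] at hφ
      have hp1 : p.1 = q.1 := Subtype.ext hφ
      refine Prod.ext hp1 (Subtype.ext ?_)
      rw [hp1] at h'
      exact mul_left_cancel h'
    have h2 : Nat.card C ≤ Nat.card {t : T // (t : G) ≠ 1} * Nat.card ↥(C ⊓ Cu) := by
      have hmem : ∀ c : C, (c : G) * u * (c : G)⁻¹ ∈ T := by
        intro c
        have hc := Subgroup.mem_centralizer_singleton_iff.mp c.2
        refine ⟨⟨(c : G) * a * (c : G)⁻¹, Subgroup.Normal.conj_mem ‹A.Normal› a ha c⟩, ?_⟩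
        simp only [φ, hu_def]
        have hc' : x = (c : G) * x * (c : G)⁻¹ := by rw [hc, mul_inv_cancel_right]
        conv_lhs => rw [hc']
        group
      have hne : ∀ c : C, (c : G) * u * (c : G)⁻¹ ≠ 1 := fun c e =>
        hu ((conj_eq_one_iff.mp e) ▸ one_mem _)
      let r : C → C := fun c => (⟨c, rfl⟩ :
        ∃ d : C, (d : G) * u * (d : G)⁻¹ = (c : G) * u * (c : G)⁻¹).choose
      have hr : ∀ c : C, (r c : G) * u * (r c : G)⁻¹ = (c : G) * u * (c : G)⁻¹ := fun c =>
        (⟨c, rfl⟩ : ∃ d : C, (d : G) * u * (d : G)⁻¹ = (c : G) * u * (c : G)⁻¹).choose_spec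
      rw [← Nat.card_prod]
      refine Nat.card_le_card_of_injective (fun c =>
        ((⟨⟨(c : G) * u * (c : G)⁻¹, hmem c⟩, hne c⟩ : {t : T // (t : G) ≠ 1}),
          (⟨(r c : G)⁻¹ * c, C.mul_mem (C.inv_mem (r c).2) c.2, ?_⟩ : ↥(C ⊓ Cu)))) ?_
      · show (r c : G)⁻¹ * c ∈ Cu
        rw [Subgroup.mem_centralizer_singleton_iff]
        calc (r c : G)⁻¹ * c * u = (r c : G)⁻¹ * ((c : G) * u * (c : G)⁻¹) * c := by group
          _ = (r c : G)⁻¹ * ((r c : G) * u * (r c : G)⁻¹) * c := by rw [hr]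
          _ = u * ((r c : G)⁻¹ * c) := by group
      · intro c c' h
        obtain ⟨ht, hs⟩ := Prod.ext_iff.mp h
        have ht' : (c : G) * u * (c : G)⁻¹ = (c' : G) * u * (c' : G)⁻¹ :=
          congrArg (fun t : {t : T // (t : G) ≠ 1} => (t.1 : G)) ht
        have hrr : r c = r c' := by
          simp only [r, ht']
        have hs' : (r c : G)⁻¹ * c = (r c' : G)⁻¹ * c' := congrArg Subtype.val hs
        rw [hrr] at hs'
        exact Subtype.ext (mul_left_cancel hs')
    have h3 : Nat.card {t : T // (t : G) ≠ 1} < Nat.card T :=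
      Finite.card_subtype_lt (x := (⟨1, ⟨1, one_mem A⟩, by simp [φ]⟩ : T)) (by simp)
    have h4 : Nat.card C < Nat.card Cu :=
      lt_of_le_of_lt h2 (lt_of_lt_of_le ((Nat.mul_lt_mul_right Nat.card_pos).mpr h3) h1)
    refine hu (hcen u ?_)
    have e1 := Subgroup.card_mul_index C
    have e2 := Subgroup.card_mul_index Cu
    by_contra hne1
    have hge := hmin u (lt_of_le_of_ne (Nat.pos_of_ne_zero Subgroup.index_ne_zero_of_finite) (Ne.symm hne1))
    rw [hx] at e1
    have : Nat.card C * m < Nat.card Cu * Cu.index :=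
      lt_of_lt_of_le ((Nat.mul_lt_mul_right (by omega)).mpr h4) (Nat.mul_le_mul_left _ hge)
    omega
  have hcomm : ∀ x ∈ M, ∀ a ∈ A, a⁻¹ * x * a * x⁻¹ ∈ Subgroup.center G := by
    intro x hx
    induction hx using Subgroup.closure_induction with
    | mem x hx => exact hgen x hx
    | one => intro a _; simp
    | mul x y _ _ ihx ihy =>
      intro a ha
      have hy := ihy a ha
      have : a⁻¹ * (x * y) * a * (x * y)⁻¹ =
          (a⁻¹ * x * a) * (a⁻¹ * y * a * y⁻¹) * x⁻¹ := by group
      rw [this, Subgroup.mem_center_iff.mp hy (a⁻¹ * x * a), mul_assoc]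
      exact mul_mem hy (ihx a ha)
    | inv x _ ih =>
      intro a ha
      have hz := inv_mem (ih a ha)
      have : a⁻¹ * x⁻¹ * a * x⁻¹⁻¹ = x⁻¹ * (x * a⁻¹ * x⁻¹ * a) * x := by group
      rw [this]
      have e : x * a⁻¹ * x⁻¹ * a = (a⁻¹ * x * a * x⁻¹)⁻¹ := by group
      rw [e, Subgroup.mem_center_iff.mp hz, inv_mul_cancel_right]
      exact hz
  have hAM : ⁅A, M⁆ ≤ Subgroup.center G := by
    rw [Subgroup.commutator_le]
    intro a ha x hx
    have := hcomm x hx a⁻¹ (inv_mem ha)
    rw [inv_inv] at this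
    simpa [commutatorElement_def] using this
  have hbot : ⁅⁅A, M⁆, M⁆ = ⊥ := by
    rw [Subgroup.commutator_eq_bot_iff_le_centralizer]
    exact hAM.trans (Subgroup.center_le_centralizer _)
  have hMM : ⁅M, M⁆ ≤ A := by
    have h := Subgroup.commutator_commutator_eq_bot_of_rotate (H₁ := M) (H₂ := M) (H₃ := A)
      (by rw [Subgroup.commutator_comm M A]; exact hbot) hbot
    rw [← hCA]
    exact Subgroup.commutator_eq_bot_iff_le_centralizer.mp h
  rw [← Subgroup.lowerCentralSeries_eq_bot_iff_upperCentralSeries_eq_top]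
  apply Subgroup.map_injective M.subtype_injective
  rw [Subgroup.top_subtype_lowerCentralSeries, Subgroup.map_bot, eq_bot_iff]
  simp only [Subgroup.lowerCentralSeries_succ, Subgroup.lowerCentralSeries_zero]
  exact hbot ▸ Subgroup.commutator_mono (Subgroup.commutator_mono hMM le_rfl) le_rfl

end Cfsg.Agent.S4163
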