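import Cfsg.Statements.S4168
-- (no helpers)

set_option autoImplicit false
open Cfsg

namespace Cfsg.Agent.S4168

/-- Let L be a finite quasisimple group (perfect with L/Z(L) simple). Then every prime dividing the order of the centre Z(L) also divides the order of L/Z(L). -/
theorem result {L : Type*} [Group L] [Finite L] (hL : Cfsg.IsQuasisimple L)
    (p : ℕ) (hp : p.Prime) (hdiv : p ∣ Nat.card (Subgroup.center L)) : p ∣ (Subgroup.center L).index := by
  by_contra hndvd
  haveI := hL.1
  haveI : Fact p.Prime := ⟨hp⟩
  obtain ⟨z, hz⟩ := exists_prime_orderOf_dvd_card' p hdiv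
  have h1 : (z : L) ^ (Subgroup.center L).index = 1 := by
    have hle : commutator L ≤ (MonoidHom.transferCenterPow L).ker := by
      rw [commutator_def, Subgroup.commutator_le]
      intro a _ b _
      rw [MonoidHom.mem_ker, map_commutatorElement, commutatorElement_eq_one_iff_commute]
      exact Subtype.ext ((Subgroup.mem_center_iff.mp (MonoidHom.transferCenterPow L b).2) _)
    have hk := hle (Group.IsPerfect.mem_commutator (g := (z : L)))
    have := congrArg Subtype.val hk
    simpa [MonoidHom.transferCenterPow_apply] using this
  have h2 : orderOf (z : L) ∣ (Subgroup.center L).index := orderOf_dvd_of_pow_eq_one h1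
  rw [Subgroup.orderOf_coe, hz] at h2
  exact hndvd h2

end Cfsg.Agent.S4168
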