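import Cfsg.Statements.S4169
import Mathlib
import Cfsg.Agent.Lib.PGroup.NormalAbelian

set_option autoImplicit false
open Cfsg

namespace Cfsg.Agent.S4169

open scoped commutatorElement
section
open Subgroup

variable {P : Type*} [Group P] [Finite P]

/-- Commutators of a normal abelian subgroup with an element of minimal class are central. -/
theorem comm_mem_center {A : Subgroup P} [A.Normal] (hA : IsMulCommutative A) (x : P)
    (hmin : ∀ u : P, u ∉ center P →
      (centralizer ({x} : Set P)).index ≤ (centralizer ({u} : Set P)).index)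
    (a : P) (ha : a ∈ A) : a * x * a⁻¹ * x⁻¹ ∈ center P := by
  by_contra hu
  have hc : ∀ s ∈ A, ∀ t ∈ A, Commute s t := fun s hs t ht =>
    congrArg Subtype.val (hA.is_comm.comm (⟨s, hs⟩ : A) ⟨t, ht⟩)
  have hδA : ∀ s ∈ A, s * x * s⁻¹ * x⁻¹ ∈ A := fun s hs => by
    rw [show s * x * s⁻¹ * x⁻¹ = s * (x * s⁻¹ * x⁻¹) by group]
    exact mul_mem hs ((inferInstance : A.Normal).conj_mem _ (inv_mem hs) x)
  let δ : A →* P :=
    { toFun := fun s => (s : P) * x * (s : P)⁻¹ * x⁻¹
      map_one' := by simp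
      map_mul' := fun s t => by
        set δs := (s : P) * x * (s : P)⁻¹ * x⁻¹ with hds
        set δt := (t : P) * x * (t : P)⁻¹ * x⁻¹ with hdt
        calc (↑(s * t) : P) * x * (↑(s * t) : P)⁻¹ * x⁻¹
            = ((s : P) * δt) * (x * (s : P)⁻¹ * x⁻¹) := by rw [Subgroup.coe_mul, hdt]; group
          _ = (δt * (s : P)) * (x * (s : P)⁻¹ * x⁻¹) := by rw [(hc _ s.2 δt (hδA _ t.2)).eq]
          _ = δt * δs := by rw [hds]; group
          _ = δs * δt := (hc δt (hδA _ t.2) δs (hδA _ s.2)).eq }
  set C := centralizer ({x} : Set P) with hC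
  have memC : ∀ g, g ∈ C ↔ g * x = x * g := fun g => mem_centralizer_singleton_iff
  set K := C ⊔ A with hK
  have hker : δ.ker = C.subgroupOf A := by
    ext s
    rw [MonoidHom.mem_ker, mem_subgroupOf, memC]
    show (s : P) * x * (s : P)⁻¹ * x⁻¹ = 1 ↔ _
    rw [mul_inv_eq_one, mul_inv_eq_iff_eq_mul]
  have hB : Nat.card δ.range = C.relIndex A := by
    rw [← index_ker, hker]; rfl
  have hKC : C.relIndex A ≤ C.relIndex K := relIndex_le_of_le_right le_sup_right (FiniteIndex.index_ne_zero (H := C.subgroupOf K))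
  set u := a * x * a⁻¹ * x⁻¹ with hudef
  have huB : u ∈ δ.range := ⟨⟨a, ha⟩, rfl⟩
  have hu1 : u ≠ 1 := fun h => hu (h ▸ one_mem _)
  have hconjC : ∀ g ∈ C, ∀ v ∈ δ.range, g * v * g⁻¹ ∈ δ.range := by
    rintro g hg _ ⟨s, rfl⟩
    refine ⟨⟨g * s * g⁻¹, (inferInstance : A.Normal).conj_mem _ s.2 g⟩, ?_⟩
    show g * (s : P) * g⁻¹ * x * (g * (s : P) * g⁻¹)⁻¹ * x⁻¹ = g * ((s : P) * x * (s : P)⁻¹ * x⁻¹) * g⁻¹
    have e : g⁻¹ * x = x * g⁻¹ := ((show Commute g x from (memC g).mp hg).inv_left).eq
    have e' : g⁻¹ * x⁻¹ = x⁻¹ * g⁻¹ := ((show Commute g x from (memC g).mp hg).inv_left.inv_right).eq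
    calc g * (s : P) * g⁻¹ * x * (g * (s : P) * g⁻¹)⁻¹ * x⁻¹
        = g * (s : P) * (g⁻¹ * x) * g * (s : P)⁻¹ * (g⁻¹ * x⁻¹) := by group
      _ = g * (s : P) * (x * g⁻¹) * g * (s : P)⁻¹ * (x⁻¹ * g⁻¹) := by rw [e, e']
      _ = _ := by group
  have horb : ∀ k ∈ K, k * u * k⁻¹ ∈ δ.range := by
    intro k hk
    obtain ⟨g, hg, s, hs, rfl⟩ := Subgroup.mem_sup_of_normal_right.mp hk
    have : g * s * u * (g * s)⁻¹ = g * (s * u * s⁻¹) * g⁻¹ := by group
    rw [this, (hc s hs u (hδA a ha)).eq, mul_inv_cancel_right]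
    exact hconjC g hg u huB
  set S := centralizer ({u} : Set P) with hS
  have hSK : S.relIndex K < Nat.card δ.range := by
    let f : K ⧸ S.subgroupOf K → {v : δ.range // v ≠ 1} := Quotient.lift
      (fun k : K => ⟨⟨(k : P) * u * (k : P)⁻¹, horb k k.2⟩, fun h => hu1 (by
        have := congrArg Subtype.val h
        exact conj_eq_one_iff.mp this)⟩)
      (fun k l hkl => by
        have h : (k : P)⁻¹ * l ∈ S := mem_subgroupOf.mp (QuotientGroup.leftRel_apply.mp hkl)
        rw [hS, mem_centralizer_singleton_iff] at h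
        refine Subtype.ext (Subtype.ext ?_)
        show (k : P) * u * (k : P)⁻¹ = (l : P) * u * (l : P)⁻¹
        calc (k : P) * u * (k : P)⁻¹ = (k : P) * (u * ((k : P)⁻¹ * l)) * (l : P)⁻¹ := by group
          _ = (k : P) * (((k : P)⁻¹ * l) * u) * (l : P)⁻¹ := by rw [h]
          _ = _ := by group)
    have hf : Function.Injective f := by
      intro q r hqr
      induction q using QuotientGroup.induction_on with | _ k => ?_
      induction r using QuotientGroup.induction_on with | _ l => ?_
      refine QuotientGroup.eq.mpr ?_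
      rw [mem_subgroupOf, hS, mem_centralizer_singleton_iff]
      have h : (k : P) * u * (k : P)⁻¹ = (l : P) * u * (l : P)⁻¹ :=
        congrArg Subtype.val (congrArg Subtype.val hqr)
      show (k : P)⁻¹ * l * u = u * ((k : P)⁻¹ * l)
      calc (k : P)⁻¹ * l * u = (k : P)⁻¹ * ((l : P) * u * (l : P)⁻¹) * l := by group
        _ = (k : P)⁻¹ * ((k : P) * u * (k : P)⁻¹) * l := by rw [h]
        _ = _ := by group
    calc S.relIndex K = Nat.card (K ⧸ S.subgroupOf K) := index_eq_card _
      _ ≤ Nat.card {v : δ.range // v ≠ 1} := Nat.card_le_card_of_injective f hf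
      _ < Nat.card δ.range := by
          classical
          haveI := Fintype.ofFinite δ.range
          rw [Nat.card_eq_fintype_card, Nat.card_eq_fintype_card]
          exact Fintype.card_subtype_lt (x := 1) (by simp)
  have h1 : S.index ≤ (S ⊓ K).index := Nat.le_of_dvd
    (Nat.pos_of_ne_zero FiniteIndex.index_ne_zero) (index_dvd_of_le inf_le_left)
  have h2 : (S ⊓ K).index < C.index := by
    rw [← relIndex_mul_index (inf_le_right : S ⊓ K ≤ K), inf_relIndex_right,
      ← relIndex_mul_index (le_sup_left : C ≤ K)]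
    rw [hB] at hSK
    exact Nat.mul_lt_mul_of_pos_right (hSK.trans_le hKC) (Nat.pos_of_ne_zero FiniteIndex.index_ne_zero)
  have : C.index ≤ S.index := hmin u hu
  omega
end

/-- Let P be a finite p-group whose conjugacy classes have exactly two sizes (1 and one other value). Then P has nilpotency class at most 3. -/
theorem result {P : Type*} [Group P] [Finite P] {p : ℕ} [Fact p.Prime] (hP : IsPGroup p P)
    (m : ℕ) (hm : 1 < m) (h : ∀ x : P, (Subgroup.centralizer ({x} : Set P)).index = 1 ∨ (Subgroup.centralizer ({x} : Set P)).index = m) :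
    upperCentralSeries P 3 = ⊤ := by
  obtain ⟨A, hAn, hA, hCA⟩ := Cfsg.Agent.PGroup.exists_selfCentralizing_normal_abelian hP
  haveI := hAn
  have hz : ∀ x : P, ∀ a ∈ A, a * x * a⁻¹ * x⁻¹ ∈ Subgroup.center P := by
    intro x a ha
    refine comm_mem_center hA x (fun u hu => ?_) a ha
    have hu' : (Subgroup.centralizer ({u} : Set P)).index = m := (h u).resolve_left fun h1 => hu (by
      rw [Subgroup.index_eq_one, Subgroup.eq_top_iff'] at h1
      exact Subgroup.mem_center_iff.mpr fun g => Subgroup.mem_centralizer_singleton_iff.mp (h1 g))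
    rw [hu']
    rcases h x with h1 | h1 <;> omega
  have hA2 : A ≤ Subgroup.upperCentralSeries P 2 := by
    intro a ha
    rw [show (2 : ℕ) = 1 + 1 from rfl, Subgroup.mem_upperCentralSeries_succ_iff]
    intro y
    rw [Subgroup.upperCentralSeries_one]
    exact hz y a ha
  have hcomm : commutator P ≤ A := by
    rw [commutator_def, Subgroup.commutator_le]
    intro g _ k _
    have hg : ⁅g, k⁆ ∈ Subgroup.centralizer (A : Set P) := by
      rw [Subgroup.mem_centralizer_iff]
      intro a ha
      have act : ∀ t : P, ∃ c ∈ Subgroup.center P, t * a * t⁻¹ = c * a := by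
        intro t
        refine ⟨(a * t * a⁻¹ * t⁻¹)⁻¹, inv_mem (hz t a ha), ?_⟩
        group
      obtain ⟨c, hc, e1⟩ := act g
      obtain ⟨d, hd, e2⟩ := act k
      have comc : ∀ t, c * t = t * c := fun t => (Subgroup.mem_center_iff.mp hc t).symm
      have comd : ∀ t, d * t = t * d := fun t => (Subgroup.mem_center_iff.mp hd t).symm
      have e : g * k * a * (g * k)⁻¹ = k * g * a * (k * g)⁻¹ := by
        calc g * k * a * (g * k)⁻¹ = g * (k * a * k⁻¹) * g⁻¹ := by group
          _ = g * (d * a) * g⁻¹ := by rw [e2]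
          _ = d * (g * a * g⁻¹) := by rw [← mul_assoc g, ← comd g]; group
          _ = d * (c * a) := by rw [e1]
          _ = c * (k * a * k⁻¹) := by rw [e2, ← mul_assoc, ← mul_assoc, comd c]
          _ = k * (c * a) * k⁻¹ := by rw [← mul_assoc k, ← comc k]; group
          _ = k * (g * a * g⁻¹) * k⁻¹ := by rw [e1]
          _ = _ := by group
      calc a * ⁅g, k⁆ = (k * g)⁻¹⁻¹ * ((k * g)⁻¹ * a * (k * g)) * (k * g)⁻¹ * ⁅g, k⁆ := by group
        _ = ⁅g, k⁆ * a := by
          rw [commutatorElement_def]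
          have e' : g * k * ((k * g)⁻¹ * a * (k * g)) * (g * k)⁻¹ = a := by
            obtain ⟨c', hc', e1'⟩ := act ((k * g)⁻¹)
            rw [inv_inv] at e1'
            rw [e1']
            calc g * k * (c' * a) * (g * k)⁻¹ = c' * (g * k * a * (g * k)⁻¹) := by
                  rw [← mul_assoc (g * k), Subgroup.mem_center_iff.mp hc' (g * k)]; group
              _ = c' * (k * g * a * (k * g)⁻¹) := by rw [e]
              _ = k * g * (c' * a) * (k * g)⁻¹ := by
                  rw [← mul_assoc (k * g), Subgroup.mem_center_iff.mp hc' (k * g)]; group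
              _ = _ := by rw [← e1']; group
          conv_lhs => rw [← e']
          group
    exact hCA.le hg
  refine (Subgroup.eq_top_iff' _).mpr fun g => ?_
  show g ∈ Subgroup.upperCentralSeries P 3
  rw [show (3 : ℕ) = 2 + 1 from rfl, Subgroup.mem_upperCentralSeries_succ_iff]
  intro y
  exact hA2 (hcomm (Subgroup.commutator_mem_commutator (Subgroup.mem_top g) (Subgroup.mem_top y)))

end Cfsg.Agent.S4169
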