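import Cfsg.Statements.S4170
import Cfsg.Agent.FGS80.FixBound
-- import your own Cfsg.Agent.* helpers here

set_option autoImplicit false
open scoped Pointwise
open Cfsg
open scoped Pointwise

namespace Cfsg.Agent.S4170

/-- Let p be an odd prime and G a nontrivial group of permutations of a finite set Ω that is generated by its elements of p-power order. Then Ω has two disjoint nonempty subsets Δ₁ and Δ₂ such that the index in G of the subgroup of elements mapping Δ₁ onto Δ₁ and Δ₂ onto Δ₂ (and hence also the complement of their union onto itself) is divisible by p. -/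
theorem result {Ω : Type*} [Fintype Ω] (p : ℕ) [Fact p.Prime] (hp : p ≠ 2) (G : Subgroup (Equiv.Perm Ω)) (hG : G ≠ ⊥) (hgen : Subgroup.closure {g : G | ∃ k : ℕ, orderOf g = p ^ k} = ⊤) :
    ∃ Δ₁ Δ₂ : Set Ω, Δ₁.Nonempty ∧ Δ₂.Nonempty ∧ Disjoint Δ₁ Δ₂ ∧ p ∣ (MulAction.stabilizer G Δ₁ ⊓ MulAction.stabilizer G Δ₂).index := by
  classical
  haveI := Fintype.ofFinite G
  -- a nontrivial element of `p`-power order
  obtain ⟨x, ⟨k, hk⟩, hx1⟩ : ∃ x ∈ {g : G | ∃ k : ℕ, orderOf g = p ^ k}, x ≠ 1 := by
    by_contra hall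
    push Not at hall
    refine hG ?_
    have h1 : (⊤ : Subgroup G) = ⊥ := by
      rw [← hgen, Subgroup.closure_eq_bot_iff]
      exact fun g hg => hall g hg
    rw [Subgroup.eq_bot_iff_forall]
    intro g hgG
    have : (⟨g, hgG⟩ : G) ∈ (⊥ : Subgroup G) := h1 ▸ Subgroup.mem_top _
    exact congrArg Subtype.val (Subgroup.mem_bot.1 this)
  have hp := (Fact.out : p.Prime)
  -- a point moved by `x` but fixed by its `p`th power
  obtain ⟨m, hm, hm1⟩ : ∃ m : ℕ, (∃ a : Ω, x ^ p ^ m • a ≠ a) ∧ ∀ a : Ω, x ^ p ^ (m + 1) • a = a := by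
    have hne : ∃ n : ℕ, ∀ a : Ω, x ^ p ^ n • a = a :=
      ⟨k, fun a => by rw [← hk, pow_orderOf_eq_one, one_smul]⟩
    have h0 : Nat.find hne ≠ 0 := by
      intro h
      have := Nat.find_spec hne
      rw [h] at this
      refine hx1 (Subtype.ext (Equiv.ext fun a => ?_))
      simpa [Subgroup.smul_def] using this a
    obtain ⟨m, hm⟩ := Nat.exists_eq_succ_of_ne_zero h0
    refine ⟨m, ?_, fun a => by have := Nat.find_spec hne; rw [hm] at this; exact this a⟩
    by_contra hall
    push Not at hall
    exact Nat.find_min hne (by omega) hall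
  set y : G := x ^ p ^ m with hy
  obtain ⟨a, ha⟩ := hm
  have hyp : ∀ b : Ω, y ^ p • b = b := fun b => by rw [hy, ← pow_mul, ← pow_succ]; exact hm1 b
  have hypi : ∀ (j : ℕ) (b : Ω), y ^ (p * j) • b = b := by
    intro j b
    induction j with
    | zero => simp
    | succ j ih => rw [Nat.mul_succ, pow_add, mul_smul, hyp, ih]
  have hyinj : ∀ i, 0 < i → i < p → y ^ i • a ≠ a := by
    intro i hi0 hip he
    have hco : i.Coprime p := (hp.coprime_iff_not_dvd.2 fun h => by
      have := Nat.le_of_dvd hi0 h; omega).symm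
    obtain ⟨j, -, hj⟩ := Nat.exists_mul_mod_eq_one_of_coprime hco hp.one_lt
    have h2 : y ^ (i * j) • a = a := by
      clear hj
      induction j with
      | zero => simp
      | succ j ih => rw [Nat.mul_succ, pow_add, mul_smul, he, ih]
    rw [← Nat.div_add_mod (i * j) p, hj, pow_add, pow_one, mul_smul, hypi] at h2
    exact ha h2
  -- the two sets
  refine ⟨{a}, {b | ∃ i : ℕ, 0 < i ∧ i < p ∧ y ^ i • a = b}, Set.singleton_nonempty a,
    ⟨y ^ 1 • a, 1, one_pos, hp.one_lt, rfl⟩, ?_, ?_⟩
  · rw [Set.disjoint_singleton_left]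
    rintro ⟨i, hi0, hip, he⟩
    exact hyinj i hi0 hip he
  set D : Set Ω := {b | ∃ i : ℕ, 0 < i ∧ i < p ∧ y ^ i • a = b} with hD
  by_contra hnd
  set V : Subgroup G := MulAction.stabilizer G ({a} : Set Ω) ⊓ MulAction.stabilizer G D with hV
  -- a Sylow subgroup of `V` is Sylow in `G` and fixes the cycle pointwise
  obtain ⟨S⟩ : Nonempty (Sylow p V) := inferInstance
  set Q : Subgroup G := (S : Subgroup V).map V.subtype with hQ
  have hQi : ¬ p ∣ Q.index := by
    have e : Q.index = (S : Subgroup V).index * V.index := by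
      rw [hQ, Subgroup.index_map_subtype]
    rw [e]
    exact fun h => (hp.dvd_mul.1 h).elim S.not_dvd_index hnd
  have hQp : IsPGroup p Q := S.isPGroup'.map _
  have hQV : Q ≤ V := Subgroup.map_subtype_le _
  have hqa : ∀ q ∈ Q, q • a = a := by
    intro q hq
    have h := MulAction.mem_stabilizer_iff.1 (hQV hq).1
    rwa [Set.smul_set_singleton, Set.singleton_eq_singleton_iff] at h
  have hqD : ∀ q ∈ Q, ∀ b ∈ D, q • b = b := by
    intro q hq b hb
    have hqfin : ∀ c ∈ D, q • c ∈ D := fun c hc => by
      have h := MulAction.mem_stabilizer_iff.1 (hQV hq).2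
      rw [← h]
      exact Set.smul_mem_smul_set hc
    by_contra hne
    obtain ⟨e, he⟩ := hQp ⟨q, hq⟩
    have he' : q ^ p ^ e = 1 := congrArg Subtype.val he
    have hinj : Set.InjOn (fun i : ℕ => q ^ i • b) (Finset.range p : Finset ℕ) := by
      have key : ∀ i l : ℕ, i < l → l < p → q ^ i • b ≠ q ^ l • b := by
        intro i l hil hl heq
        obtain ⟨d, rfl⟩ := Nat.exists_eq_add_of_lt hil
        rw [add_assoc, pow_add, mul_smul] at heq
        have hd : q ^ (d + 1) • b = b := (MulAction.injective (q ^ i) heq).symm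
        have hco : (d + 1).Coprime (orderOf q) :=
          (Nat.Coprime.pow_right e (hp.coprime_iff_not_dvd.2 fun h => by
            have := Nat.le_of_dvd (Nat.succ_pos _) h; omega).symm).coprime_dvd_right
            (orderOf_dvd_of_pow_eq_one he')
        obtain ⟨w, hw⟩ := exists_pow_eq_self_of_coprime hco
        refine hne ?_
        conv_lhs => rw [← hw]
        exact MulAction.mem_stabilizer_iff.1
          (Subgroup.pow_mem _ (MulAction.mem_stabilizer_iff.2 hd) w)
      intro i hi l hl heq
      simp only [Finset.coe_range, Set.mem_Iio] at hi hl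
      rcases lt_trichotomy i l with h | h | h
      · exact absurd heq (key i l h hl)
      · exact h
      · exact absurd heq.symm (key l i h hi)
    have h1 : ((Finset.range p).image fun i : ℕ => q ^ i • b) ⊆
        ((Finset.range (p - 1)).image fun i : ℕ => y ^ (i + 1) • a) := by
      intro c hc
      obtain ⟨i, -, rfl⟩ := Finset.mem_image.1 hc
      have hmem : q ^ i • b ∈ D := by
        clear hc
        induction i with
        | zero => simpa using hb
        | succ i ih => rw [pow_succ', mul_smul]; exact hqfin _ ih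
      obtain ⟨l, hl0, hlp, hl⟩ := hmem
      exact Finset.mem_image.2 ⟨l - 1, Finset.mem_range.2 (by omega),
        by rw [Nat.sub_add_cancel hl0]; exact hl⟩
    have h2 := (Finset.card_le_card h1).trans Finset.card_image_le
    rw [Finset.card_image_of_injOn hinj, Finset.card_range, Finset.card_range] at h2
    have := hp.pos
    omega
  set U : Subgroup G := MulAction.stabilizer G a ⊓ ⨅ b ∈ D, MulAction.stabilizer G b with hU
  have hmemU : ∀ u : G, u ∈ U ↔ ∀ i : ℕ, u • y ^ i • a = y ^ i • a := by
    intro u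
    simp only [hU, Subgroup.mem_inf, Subgroup.mem_iInf, MulAction.mem_stabilizer_iff]
    constructor
    · rintro ⟨h1, h2⟩ i
      have hi : y ^ i • a = y ^ (i % p) • a := by
        conv_lhs => rw [← Nat.mod_add_div i p, pow_add, mul_smul, hypi]
      rw [hi]
      rcases Nat.eq_zero_or_pos (i % p) with h | h
      · simpa [h] using h1
      · exact h2 _ ⟨_, h, Nat.mod_lt i hp.pos, rfl⟩
    · intro h
      refine ⟨by simpa using h 0, ?_⟩
      rintro b ⟨i, -, -, rfl⟩
      exact h i
  have hQU : Q ≤ U := fun q hq => (hmemU q).2 fun i => by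
    have hi : y ^ i • a = y ^ (i % p) • a := by
      conv_lhs => rw [← Nat.mod_add_div i p, pow_add, mul_smul, hypi]
    rw [hi]
    rcases Nat.eq_zero_or_pos (i % p) with h | h
    · simpa [h] using hqa q hq
    · exact hqD q hq _ ⟨_, h, Nat.mod_lt i hp.pos, rfl⟩
  have hQsyl : FGS80.FixBound.Syl p (⊤ : Subgroup G) Q := ⟨le_top, hQp, by
    rwa [Subgroup.relIndex_top_right]⟩
  have hn : y ∈ Subgroup.normalizer (U : Set G) := by
    refine FGS80.FixBound.mem_normalizer_of_le fun u hu => ?_
    rw [FGS80.FixBound.mem_cj] at hu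
    refine (hmemU u).2 fun i => ?_
    have h1 := (hmemU _).1 hu (i + (p - 1))
    have e : y • y ^ (i + (p - 1)) • a = y ^ i • a := by
      rw [← mul_smul, ← pow_succ', show i + (p - 1) + 1 = i + p by have := hp.pos; omega, pow_add,
        mul_smul, hyp]
    rw [mul_smul, mul_smul, e] at h1
    have h2 := congrArg (y • ·) h1
    simp only [smul_inv_smul, e] at h2
    exact h2
  have hyk : y ^ p ^ k = 1 := by
    rw [hy, ← pow_mul, mul_comm, pow_mul, ← hk, pow_orderOf_eq_one, one_pow]
  have hyU : y ∈ U := FGS80.FixBound.mem_of_normalizes hQsyl hQU le_top (Subgroup.mem_top y) hyk hn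
  exact ha (by simpa using (hmemU y).1 hyU 0)

end Cfsg.Agent.S4170
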