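import Cfsg.Statements.S4172
import Mathlib
import Cfsg.Agent.Lib.Components.GenFitting
import Cfsg.Agent.Lib.Components.PermuteComponents
import Cfsg.Agent.Lib.Transfer.Tate
import Cfsg.Agent.Lib.Transfer.Abelian
import Cfsg.Agent.Lib.Transfer.Focal
import Cfsg.Agent.Lib.Frobenius.Gaschuetz
import Cfsg.Agent.Lib.PGroup.Basic
import Cfsg.Agent.Lib.Thompson.Cores

set_option autoImplicit false
open Cfsg

namespace Cfsg.Agent.S4172

open Cfsg
open scoped commutatorElement

/-- In a two-generated `p`-group a normal subgroup outside `Φ(P)` has a cyclic quotient. -/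
theorem cyclic_quotient {Q : Type*} [Group Q] [Finite Q] {p : ℕ} [hp : Fact p.Prime] (hQ : IsPGroup p Q)
    (h2 : (frattini Q).index = p ^ 2) (K : Subgroup Q) [K.Normal] (hK : ¬ K ≤ frattini Q) :
    IsCyclic (Q ⧸ K) := by
  refine Cfsg.Agent.PGroup.isCyclic_of_index_frattini_le (hQ.to_quotient K) ?_
  have hle : frattini Q ⊔ K ≤ (frattini (Q ⧸ K)).comap (QuotientGroup.mk' K) := by
    refine sup_le (frattini_le_comap_frattini_of_surjective (QuotientGroup.mk'_surjective K)) ?_
    intro x hx
    rw [Subgroup.mem_comap, show QuotientGroup.mk' K x = 1 from (QuotientGroup.eq_one_iff x).mpr hx]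
    exact one_mem _
  have hlt : frattini Q < frattini Q ⊔ K := lt_of_le_of_ne le_sup_left fun h =>
    hK (h.symm ▸ le_sup_right)
  have h1 : (frattini Q ⊔ K).index ∣ p ^ 2 := h2 ▸ Subgroup.index_dvd_of_le le_sup_left
  obtain ⟨i, hi, hi'⟩ := (Nat.dvd_prime_pow hp.out).mp h1
  have hi2 : i ≠ 2 := fun h => by
    have e1 := Subgroup.relIndex_mul_index (le_sup_left : frattini Q ≤ frattini Q ⊔ K)
    rw [h2, hi', h] at e1
    have e2 : (frattini Q).relIndex (frattini Q ⊔ K) = 1 :=
      Nat.eq_of_mul_eq_mul_right (pow_pos hp.out.pos 2) (by rw [one_mul]; exact e1)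
    exact (not_le_of_gt hlt) (Subgroup.relIndex_eq_one.mp e2)
  calc (frattini (Q ⧸ K)).index
      = ((frattini (Q ⧸ K)).comap (QuotientGroup.mk' K)).index :=
        (Subgroup.index_comap_of_surjective _ (QuotientGroup.mk'_surjective K)).symm
    _ ≤ (frattini Q ⊔ K).index := Nat.le_of_dvd (Nat.pos_of_ne_zero Subgroup.FiniteIndex.index_ne_zero)
        (Subgroup.index_dvd_of_le hle)
    _ ≤ p ^ 1 := by rw [hi']; exact Nat.pow_le_pow_right hp.out.pos (by omega)
    _ = p := pow_one p

theorem commutative_of_two {Q : Type*} [Group Q] [Finite Q] {p : ℕ} [hp : Fact p.Prime] (hQ : IsPGroup p Q)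
    (h2 : (frattini Q).index = p ^ 2) (K L : Subgroup Q) [K.Normal] [L.Normal]
    (hK : ¬ K ≤ frattini Q) (hL : ¬ L ≤ frattini Q) (hKL : K ⊓ L = ⊥) : IsMulCommutative Q := by
  haveI := cyclic_quotient hQ h2 K hK
  haveI := cyclic_quotient hQ h2 L hL
  letI : CommGroup (Q ⧸ K) := IsCyclic.commGroup
  letI : CommGroup (Q ⧸ L) := IsCyclic.commGroup
  refine ⟨⟨fun a b => ?_⟩⟩
  have hK' : (a * b)⁻¹ * (b * a) ∈ K := QuotientGroup.eq.mp (by
    rw [QuotientGroup.mk_mul, QuotientGroup.mk_mul, mul_comm])
  have hL' : (a * b)⁻¹ * (b * a) ∈ L := QuotientGroup.eq.mp (by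
    rw [QuotientGroup.mk_mul, QuotientGroup.mk_mul, mul_comm])
  have : (a * b)⁻¹ * (b * a) ∈ K ⊓ L := ⟨hK', hL'⟩
  rw [hKL, Subgroup.mem_bot] at this
  exact inv_mul_eq_one.mp this

/-- A nilpotent perfect group is trivial. -/
theorem not_dvd_of_perfect {K : Type*} [Group K] [Finite K] {p : ℕ} [hp : Fact p.Prime]
    (hperf : ⁅(⊤ : Subgroup K), (⊤ : Subgroup K)⁆ = (⊤ : Subgroup K)) (h : HasNormalPComplement p K) : ¬ p ∣ Nat.card K := by
  have hR := Cfsg.Agent.Transfer.hasNormalPComplement_iff_not_dvd.mp h
  have hQ : IsPGroup p (K ⧸ pResidual p K) := Cfsg.Agent.Transfer.isPGroup_quotient_pResidual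
  haveI : Group.IsNilpotent (K ⧸ pResidual p K) := hQ.isNilpotent
  have hb : (⊤ : Subgroup (K ⧸ pResidual p K)) = ⊥ := by
    refine Cfsg.Agent.Transfer.eq_bot_of_le_commutator_top ?_
    have := congrArg (Subgroup.map (QuotientGroup.mk' (pResidual p K))) hperf
    rw [Subgroup.map_commutator,
      Subgroup.map_top_of_surjective _ (QuotientGroup.mk'_surjective _)] at this
    exact this.ge
  have htop : pResidual p K = ⊤ := by
    refine eq_top_iff.mpr fun x _ => ?_
    rw [← QuotientGroup.eq_one_iff, ← Subgroup.mem_bot, ← hb]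
    exact Subgroup.mem_top _
  rw [htop, Nat.card_congr Subgroup.topEquiv.toEquiv] at hR
  exact hR

theorem normal_orbitJoin_sup {G : Type*} [Group G] {P K : Subgroup G} :
    P ≤ Subgroup.normalizer (Components.orbitJoin P K : Set G) := by
  intro y hy
  rw [← Components.map_conj_eq_iff_mem_normalizer]
  have hn : y ∈ Subgroup.normalizer (P : Set G) := Subgroup.le_normalizer hy
  rw [Components.map_conj_orbitJoin hn]
  show sSup _ = sSup _
  rw [Components.orbitSet_eq_of_mem (show K.map (MulAut.conj y).toMonoidHom ∈ Components.orbitSet P K from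
    ⟨y, hy, rfl⟩)]

theorem main_aux {G : Type*} [Group G] [Finite G] (p : ℕ) [hp : Fact p.Prime] (P : Sylow p G) (hna : ¬ IsMulCommutative (P : Subgroup G)) (hgen : (frattini ↥(P : Subgroup G)).index = p ^ 2) (hcore : Cfsg.pPrimeCore p G = ⊥) (hfrat : ((frattini ↥(P : Subgroup G)).map (P : Subgroup G).subtype).normalCore = ⊥) (hFn : (Cfsg.generalizedFittingSubgroup G).Normal) :
    (Cfsg.generalizedFittingSubgroup G ≠ ⊥ ∧ ∀ K : Subgroup G, K.Normal → K ≠ ⊥ → Cfsg.generalizedFittingSubgroup G ≤ K) ∧
      IsCyclic ↥((P : Subgroup G).map (QuotientGroup.mk' (Cfsg.generalizedFittingSubgroup G))) ∧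
      (¬ IsMulCommutative (Cfsg.generalizedFittingSubgroup G) → ∀ K L : Subgroup G, Cfsg.IsComponent K → Cfsg.IsComponent L → ∃ x ∈ (P : Subgroup G), L = K.map (MulAut.conj x).toMonoidHom) := by
  classical
  set P₀ := (P : Subgroup G)
  set Fp := (frattini P₀).map P₀.subtype
  have small : ∀ M : Subgroup G, M.Normal → M ≤ Fp → M = ⊥ := fun M hM hle =>
    le_bot_iff.mp (hfrat ▸ Subgroup.normal_le_normalCore.mpr hle)
  have toP : ∀ M : Subgroup G, ¬ M ⊓ P₀ ≤ Fp → ¬ M.subgroupOf P₀ ≤ frattini P₀ := fun M hM hle =>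
    hM fun x hx => ⟨⟨x, hx.2⟩, hle hx.1, rfl⟩
  have notFrat : ∀ M : Subgroup G, M.Normal → M ≠ ⊥ → ¬ M ⊓ P₀ ≤ Fp := by
    intro M hM hMb hle
    haveI := hM
    have hc := Cfsg.Agent.Transfer.hasNormalPComplement_of_inf_le_frattini P M hle
    have hR := Cfsg.Agent.Transfer.hasNormalPComplement_iff_not_dvd.mp hc
    have hRle : pResidual p M ≤ pPrimeCore p M :=
      Thompson.le_pPrimeCore inferInstance ((hp.out.coprime_iff_not_dvd.mpr hR).symm)
    have hR0 : pResidual p M = ⊥ := by
      refine (Subgroup.map_eq_bot_iff_of_injective _ M.subtype_injective).mp (le_bot_iff.mp ?_)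
      exact (Subgroup.map_mono hRle).trans ((Thompson.map_pPrimeCore_normal_le M).trans hcore.le)
    have hMp : IsPGroup p M := by
      have h : IsPGroup p (M ⧸ pResidual p M) := Cfsg.Agent.Transfer.isPGroup_quotient_pResidual
      intro m
      obtain ⟨k, hk⟩ := h (QuotientGroup.mk' _ m)
      refine ⟨k, ?_⟩
      rw [← map_pow, QuotientGroup.mk'_apply, QuotientGroup.eq_one_iff, hR0, Subgroup.mem_bot] at hk
      exact hk
    exact hMb (small M hM (le_trans (le_inf le_rfl
      ((Thompson.le_pCore hM hMp).trans (Thompson.pCore_le_sylow P))) hle))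
  haveI : Nontrivial G := by
    by_contra h
    rw [not_nontrivial_iff_subsingleton] at h
    exact hna ⟨⟨fun a b => Subtype.ext (Subsingleton.elim _ _)⟩⟩
  obtain ⟨N, ⟨hNn, hNb⟩, hNmin⟩ :=
    (Set.toFinite {M : Subgroup G | M.Normal ∧ M ≠ ⊥}).exists_minimal ⟨⊤, inferInstance, top_ne_bot⟩
  haveI := hNn
  have uniq : ∀ K : Subgroup G, K.Normal → K ≠ ⊥ → N ≤ K := by
    intro K hK hKb
    by_contra hle
    haveI := hK
    have hb : N ⊓ K = ⊥ := by
      by_contra hne
      exact hle ((hNmin ⟨inferInstance, hne⟩ inf_le_left).trans inf_le_right)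
    exact hna (commutative_of_two P.2 hgen (N.subgroupOf P₀) (K.subgroupOf P₀)
      (toP N (notFrat N hNn hNb)) (toP K (notFrat K hK hKb)) (by
        rw [Subgroup.eq_bot_iff_forall]
        intro x hx
        refine Subtype.ext ?_
        have h : (x : G) ∈ N ⊓ K := hx
        rwa [hb, Subgroup.mem_bot] at h))
  haveI hcycN := cyclic_quotient P.2 hgen (N.subgroupOf P₀) (toP N (notFrat N hNn hNb))
  have hFne : generalizedFittingSubgroup G ≠ ⊥ := fun h => by
    haveI := Components.generalizedFitting_eq_bot_iff.mp h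
    exact not_subsingleton G inferInstance
  have hNF : N ≤ generalizedFittingSubgroup G := uniq _ hFn hFne
  suffices hFN : generalizedFittingSubgroup G ≤ N ∧ (¬ IsMulCommutative N → ∀ K L : Subgroup G,
      IsComponent K → IsComponent L → ∃ x ∈ P₀, L = K.map (MulAut.conj x).toMonoidHom) by
    have e : generalizedFittingSubgroup G = N := le_antisymm hFN.1 hNF
    refine ⟨⟨hFne, fun K hK hKb => e.le.trans (uniq K hK hKb)⟩, ?_, ?_⟩
    · set π := (QuotientGroup.mk' (generalizedFittingSubgroup G)).comp P₀.subtype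
      have hker : N.subgroupOf P₀ ≤ π.ker := fun x hx =>
        MonoidHom.mem_ker.mpr ((QuotientGroup.eq_one_iff _).mpr (hNF hx))
      have hrange : π.range = P₀.map (QuotientGroup.mk' (generalizedFittingSubgroup G)) := by
        rw [MonoidHom.range_eq_map, ← Subgroup.map_map, ← MonoidHom.range_eq_map, Subgroup.range_subtype]
      rw [← hrange]
      exact isCyclic_of_surjective ((QuotientGroup.lift _ π.rangeRestrict
        (fun x hx => MonoidHom.mem_ker.mpr (Subtype.ext (MonoidHom.mem_ker.mp (hker hx)) ))))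
        (fun ⟨y, x, hxy⟩ => ⟨QuotientGroup.mk x, Subtype.ext hxy⟩)
    · intro hnc
      exact hFN.2 (fun h => hnc (e.symm ▸ h))
  by_cases hNab : IsMulCommutative N
  · haveI := hNab
    refine ⟨?_, fun h => absurd hNab h⟩
    haveI : Group.IsNilpotent N := by
      letI : CommGroup N := { (inferInstance : Group N) with mul_comm := hNab.is_comm.comm }
      infer_instance
    have hNfit : N ≤ pCore p G := by
      rw [← Components.fitting_eq_pCore_of_pPrimeCore_eq_bot hcore]
      exact Fitting.le_fitting hNn inferInstance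
    set R := pCore p G with hRdef
    have hRP : R ≤ P₀ := Thompson.pCore_le_sylow P
    haveI hRn : R.Normal := Thompson.instPCoreNormal
    have hRp : IsPGroup p R := Thompson.isPGroup_pCore
    -- `R` is elementary abelian
    have hsub : ∀ T : Subgroup R, T.Characteristic →
        (∀ x ∈ T, (x : G) ∈ Fp) → T = ⊥ := fun T hT h => by
      haveI := hT
      refine (Subgroup.map_eq_bot_iff_of_injective _ R.subtype_injective).mp
        (small _ (Thompson.map_subtype_normal_of_characteristic R T) ?_)
      rintro _ ⟨x, hx, rfl⟩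
      exact h x hx
    have hRcomm : ∀ a b : R, a * b = b * a := by
      have hb : commutator R = ⊥ := hsub _ inferInstance (by
        have hle : commutator R ≤ Fp.subgroupOf R := by
          rw [commutator_def, Subgroup.commutator_le]
          intro a _ b _
          exact ⟨_, Cfsg.Agent.PGroup.comm_mem_frattini P.2 ⟨(a : G), hRP a.2⟩ ⟨(b : G), hRP b.2⟩, by
            simp [commutatorElement_def]⟩
        exact fun x hx => hle hx)
      intro a b
      rw [← commutatorElement_eq_one_iff_mul_comm, ← Subgroup.mem_bot, ← hb, commutator_def]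
      exact Subgroup.commutator_mem_commutator (Subgroup.mem_top a) (Subgroup.mem_top b)
    have hRexp : ∀ a : R, a ^ p = 1 := by
      let f : R →* R :=
        { toFun := fun x => x ^ p, map_one' := one_pow _
          map_mul' := fun a b => (show Commute a b from hRcomm a b).mul_pow p }
      have hch : f.range.Characteristic := Subgroup.characteristic_iff_map_le.mpr fun φ => by
        rintro _ ⟨_, ⟨x, rfl⟩, rfl⟩
        exact ⟨φ x, (map_pow φ.toMonoidHom x p).symm⟩
      have hb := hsub f.range hch (by
        rintro _ ⟨x, rfl⟩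
        exact ⟨_, Cfsg.Agent.PGroup.pow_mem_frattini P.2 ⟨(x : G), hRP x.2⟩, by simp [f]⟩)
      intro a
      rw [← Subgroup.mem_bot, ← hb]
      exact ⟨a, rfl⟩
    have hRN : R ≤ N := by
      by_contra hle
      obtain ⟨⟨y⟩, hy⟩ := hcycN.exists_generator
      set n := orderOf (QuotientGroup.mk' (N.subgroupOf P₀) y) with hn
      have hyn : (y : G) ^ n ∈ N := by
        have := pow_orderOf_eq_one (QuotientGroup.mk' (N.subgroupOf P₀) y)
        rw [← hn, ← map_pow, QuotientGroup.mk'_apply, QuotientGroup.eq_one_iff] at this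
        simpa [Subgroup.mem_subgroupOf] using this
      obtain ⟨r, hr, hrN⟩ := SetLike.not_le_iff_exists.mp hle
      obtain ⟨j, hj⟩ := Subgroup.mem_zpowers_iff.mp (hy (QuotientGroup.mk ⟨r, hRP hr⟩))
      obtain ⟨k, hk⟩ := IsPGroup.iff_orderOf.mp (P.2.to_quotient (N.subgroupOf P₀))
        (QuotientGroup.mk' (N.subgroupOf P₀) y)
      rw [← hn] at hk
      have hjn : ¬ (n : ℤ) ∣ j := fun h => hrN (by
        have h1 : (QuotientGroup.mk ⟨r, hRP hr⟩ : P₀ ⧸ N.subgroupOf P₀) = 1 := by
          rw [← hj]; exact orderOf_dvd_iff_zpow_eq_one.mp h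
        exact (QuotientGroup.eq_one_iff (⟨r, hRP hr⟩ : P₀)).mp h1)
      have hk0 : k ≠ 0 := fun h => hjn (by rw [hk, h, pow_zero]; exact one_dvd _)
      have hyR : (y : G) ^ j ∈ R := by
        have h1 : (⟨r, hRP hr⟩ : P₀)⁻¹ * y ^ j ∈ N.subgroupOf P₀ := QuotientGroup.eq.mp hj.symm
        have h2 := hNfit h1
        simpa using mul_mem hr h2
      have hjp : (n : ℤ) ∣ j * p := by
        refine orderOf_dvd_iff_zpow_eq_one.mpr ?_
        rw [zpow_mul, zpow_natCast]
        have h3 := congrArg (Subtype.val) (hRexp ⟨_, hyR⟩)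
        simp only [SubmonoidClass.coe_pow, OneMemClass.coe_one] at h3
        rw [QuotientGroup.mk'_apply, ← QuotientGroup.mk_zpow, ← QuotientGroup.mk_pow,
          QuotientGroup.eq_one_iff, Subgroup.mem_subgroupOf]
        simp only [SubmonoidClass.coe_pow, SubgroupClass.coe_zpow, h3]
        exact one_mem N
      obtain ⟨k', rfl⟩ : ∃ k', k = k' + 1 := ⟨k - 1, by omega⟩
      rw [hk, pow_succ, Nat.cast_mul, mul_dvd_mul_iff_right (by exact_mod_cast hp.out.ne_zero)] at hjp
      obtain ⟨c, rfl⟩ := hjp
      have hpc : ¬ (p : ℤ) ∣ c := fun ⟨d, hd⟩ => hjn ⟨d, by rw [hk, pow_succ, hd]; push_cast; ring⟩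
      obtain ⟨u, v, huv⟩ := (Nat.prime_iff_prime_int.mp hp.out).coprime_iff_not_dvd.mpr hpc
      have hyk : (y : G) ^ ((p ^ k' : ℕ) : ℤ) ∈ R := by
        have e : ((p ^ k' : ℕ) : ℤ) = ((p ^ k' : ℕ) : ℤ) * c * v + ((n : ℕ) : ℤ) * u := by
          rw [hk, pow_succ]; push_cast; linear_combination -((p : ℤ) ^ k') * huv
        rw [e, zpow_add, zpow_mul (y : G) (((p ^ k' : ℕ) : ℤ) * c) v, zpow_mul (y : G) (n : ℤ) u, zpow_natCast (y : G) n]
        exact mul_mem (zpow_mem hyR v) (zpow_mem (hNfit hyn) u)
      have hyn1 : (y : G) ^ n = 1 := by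
        rw [hk, pow_succ, pow_mul]
        have := congrArg (Subtype.val) (hRexp ⟨_, (zpow_natCast (y : G) (p ^ k')) ▸ hyk⟩)
        simpa using this
      have hNP : N ≤ P₀ := hNfit.trans hRP
      obtain ⟨H, hH⟩ := Cfsg.Agent.Frobenius.gaschuetz_exists N P₀ hNP
        (by
          obtain ⟨i, hi⟩ := (P.2.to_le hNP).exists_card_eq
          rw [hi]
          exact ((hp.out.coprime_iff_not_dvd).mpr P.not_dvd_index).pow_left i)
        (Subgroup.zpowers (y : G)) (Subgroup.zpowers_le.mpr y.2)
        (by
          rw [Subgroup.eq_bot_iff_forall]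
          rintro _ ⟨hm, hmN⟩
          obtain ⟨i, rfl⟩ := Subgroup.mem_zpowers_iff.mp hm
          have hd : (n : ℤ) ∣ i := by
            refine orderOf_dvd_iff_zpow_eq_one.mpr ?_
            rw [QuotientGroup.mk'_apply, ← QuotientGroup.mk_zpow, QuotientGroup.eq_one_iff,
              Subgroup.mem_subgroupOf, SubgroupClass.coe_zpow]
            exact hmN
          obtain ⟨d, rfl⟩ := hd
          rw [zpow_mul, zpow_natCast, hyn1, one_zpow])
        (by
          refine le_antisymm (sup_le hNP (Subgroup.zpowers_le.mpr y.2)) fun x hx => ?_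
          obtain ⟨i, hi⟩ := Subgroup.mem_zpowers_iff.mp (hy (QuotientGroup.mk ⟨x, hx⟩))
          have h1 : (y ^ i)⁻¹ * (⟨x, hx⟩ : P₀) ∈ N.subgroupOf P₀ := QuotientGroup.eq.mp hi
          have h2 : ((y : G) ^ i)⁻¹ * x ∈ N := by simpa [Subgroup.mem_subgroupOf] using h1
          rw [show x = (y : G) ^ i * (((y : G) ^ i)⁻¹ * x) by group]
          exact mul_mem (Subgroup.mem_sup_right (zpow_mem (Subgroup.mem_zpowers _) i))
            (Subgroup.mem_sup_left h2))
      have hX : (R ⊓ H).Normal := by
        rw [← Subgroup.normalizer_eq_top_iff, eq_top_iff, ← hH.sup_eq_top]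
        refine sup_le (fun a ha => ?_) (fun a ha => ?_)
        · rw [Subgroup.mem_normalizer_iff]
          have hc : ∀ b ∈ R, a * b * a⁻¹ = b := fun b hb => by
            have := congrArg Subtype.val (hRcomm ⟨a, hNfit ha⟩ ⟨b, hb⟩)
            simp only [Subgroup.coe_mul] at this
            rw [this, mul_inv_cancel_right]
          intro b
          refine ⟨fun hb => by rw [hc b hb.1]; exact hb, fun hb => ?_⟩
          have hbR : b ∈ R := by
            have := hRn.conj_mem _ hb.1 a⁻¹
            simpa [mul_assoc] using this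
          rwa [hc b hbR] at hb
        · rw [Subgroup.mem_normalizer_iff]
          intro b
          refine ⟨fun hb => ⟨hRn.conj_mem b hb.1 a, H.mul_mem (H.mul_mem ha hb.2) (H.inv_mem ha)⟩,
            fun hb => ?_⟩
          have h1 := hRn.conj_mem _ hb.1 a⁻¹
          have h2 := H.mul_mem (H.mul_mem (H.inv_mem ha) hb.2) ha
          simp only [mul_assoc, inv_inv, inv_mul_cancel_left, inv_mul_cancel, mul_one] at h1 h2
          exact ⟨h1, h2⟩
      have hXb : R ⊓ H = ⊥ := by
        by_contra hne
        refine hNb (le_bot_iff.mp (disjoint_iff.mp hH.disjoint ▸ le_inf le_rfl ?_))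
        exact (uniq _ hX hne).trans inf_le_right
      obtain ⟨m, hm, h', hh', hrm⟩ := Subgroup.mem_sup_of_normal_left.mp
        (hH.sup_eq_top ▸ Subgroup.mem_top r : r ∈ N ⊔ H)
      have : h' ∈ R ⊓ H := Subgroup.mem_inf.mpr ⟨by
        rw [show h' = m⁻¹ * r by rw [← hrm, inv_mul_cancel_left]]
        exact mul_mem (inv_mem (hNfit hm)) hr, hh'⟩
      rw [hXb, Subgroup.mem_bot] at this
      rw [this, mul_one] at hrm
      exact hrN (hrm ▸ hm)
    -- there is no component
    have hE : layer G = ⊥ := by
      by_contra hEb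
      set E := layer G
      haveI hEn : E.Normal := by
        refine ⟨fun e he g => ?_⟩
        have := Components.map_layer_equiv (MulAut.conj g)
        show g * e * g⁻¹ ∈ layer G
        rw [← this]
        exact ⟨e, he, rfl⟩
      have hNE : N ≤ E := uniq E hEn hEb
      have hcen : ∀ e ∈ E, ∀ a ∈ N, e * a = a * e := fun e he a ha =>
        ((Subgroup.mem_centralizer_iff.mp
          (Components.layer_le_centralizer_of_isSolvable N inferInstance he)) a ha).symm
      set S := P₀.subgroupOf E with hS
      haveI : IsMulCommutative S := by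
        let f : S →* P₀ ⧸ N.subgroupOf P₀ :=
          (QuotientGroup.mk' _).comp ((E.subtype.comp S.subtype).codRestrict P₀ fun x => x.2)
        haveI : IsCyclic (P₀ ⧸ N.subgroupOf P₀) := hcycN
        refine ⟨⟨?_⟩⟩
        exact commutative_of_cyclic_center_quotient f (fun x hx => by
          have hxN : ((x : E) : G) ∈ N := (QuotientGroup.eq_one_iff (⟨((x : E) : G), x.2⟩ : P₀)).mp (MonoidHom.mem_ker.mp hx)
          rw [Subgroup.mem_center_iff]
          intro z
          exact Subtype.ext (Subtype.ext (hcen _ z.1.2 _ hxN)))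
      have hHall : Nat.Coprime (Nat.card S) S.index := by
        have hSp : IsPGroup p S := P.2.comap_subtype
        obtain ⟨i, hi⟩ := hSp.exists_card_eq
        rw [hi]
        obtain ⟨Q, hQ⟩ := Cfsg.Agent.Transfer.exists_sylow_subgroupOf_normal (P := P) E
        refine ((hp.out.coprime_iff_not_dvd).mpr ?_).pow_left i
        rw [show S = (Q : Subgroup E) from hQ.symm]
        exact Q.not_dvd_index
      have hbot := Cfsg.Agent.Transfer.inf_commutator_inf_center_eq_bot (G := E) (H := S) inferInstance hHall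
      apply hNb
      rw [Subgroup.eq_bot_iff_forall]
      intro a ha
      have haE : a ∈ E := hNE ha
      have : (⟨a, haE⟩ : E) ∈ S ⊓ commutator E ⊓ Subgroup.center E := by
        refine Subgroup.mem_inf.mpr ⟨Subgroup.mem_inf.mpr ⟨hRP (hNfit ha), ?_⟩, ?_⟩
        · have := (Components.layer_isPerfect (G := G)).1
          rw [this]; trivial
        · rw [Subgroup.mem_center_iff]
          exact fun z => Subtype.ext (hcen z z.2 a ha)
      rw [hbot, Subgroup.mem_bot] at this
      exact congrArg Subtype.val this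
    rw [generalizedFittingSubgroup, hE, bot_sup_eq, Components.fitting_eq_pCore_of_pPrimeCore_eq_bot hcore]
    exact hRN
  · have hCN : Subgroup.centralizer (N : Set G) = ⊥ := by
      by_contra hne
      exact hNab (Subgroup.le_centralizer_iff_isMulCommutative.mp (uniq _ inferInstance hne))
    have hR : pCore p G = ⊥ := by
      by_contra hne
      have hNR := uniq _ Thompson.instPCoreNormal hne
      have hNp : IsPGroup p N := Thompson.isPGroup_pCore.to_le hNR
      haveI : Nontrivial N := (Subgroup.nontrivial_iff_ne_bot N).mpr hNb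
      haveI : Nontrivial (Subgroup.center N) := IsPGroup.center_nontrivial hNp
      have hZ : N ≤ (Subgroup.center N).map N.subtype := uniq _
        (Thompson.map_subtype_normal_of_characteristic N _) (fun h => by
          rw [Subgroup.map_eq_bot_iff_of_injective _ N.subtype_injective] at h
          exact (Subgroup.nontrivial_iff_ne_bot _).mp inferInstance h)
      refine hNab ⟨⟨fun a b => ?_⟩⟩
      obtain ⟨z, hz, hze⟩ := hZ a.2
      rw [show a = z from Subtype.ext hze.symm]
      exact (Subgroup.mem_center_iff.mp hz b).symm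
    have hLN : ∀ L, IsComponent L → L ≤ N := fun L hL =>
      (Components.component_le_or_commutator_eq_bot_of_normal hL N).resolve_right fun h => by
        rw [Subgroup.commutator_eq_bot_iff_le_centralizer, hCN, le_bot_iff] at h
        exact Components.component_ne_bot hL h
    have hEN : layer G ≤ N := Components.layer_le_iff.mpr hLN
    have hFN : generalizedFittingSubgroup G ≤ N := by
      rw [generalizedFittingSubgroup, Components.fitting_eq_pCore_of_pPrimeCore_eq_bot hcore, hR, sup_bot_eq]
      exact hEN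
    refine ⟨hFN, fun _ K L hK hL => ?_⟩
    by_contra hnot
    have hLnot : L ∉ Components.orbitSet P₀ K := fun ⟨x, hx, e⟩ => hnot ⟨x, hx, e⟩
    have hNE : N ≤ layer G := by
      refine hNF.trans ?_
      rw [generalizedFittingSubgroup, Components.fitting_eq_pCore_of_pPrimeCore_eq_bot hcore, hR, sup_bot_eq]
    set M₁ := Components.orbitJoin P₀ K
    set M₂ := Components.orbitJoin P₀ L
    have hc21 : M₂ ≤ Subgroup.centralizer (M₁ : Set G) :=
      Components.orbitJoin_le_centralizer_of_notMem hK hL hLnot
    have hint : M₁ ⊓ M₂ = ⊥ := by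
      rw [← le_bot_iff, ← hCN]
      intro x hx
      rw [Subgroup.mem_centralizer_iff]
      intro a ha
      have hle : layer G ≤ Subgroup.centralizer ({x} : Set G) := by
        refine Components.layer_le_iff.mpr fun J hJ j hj => ?_
        rw [Subgroup.mem_centralizer_singleton_iff]
        by_cases hJK : J ∈ Components.orbitSet P₀ K
        · exact ((Subgroup.mem_centralizer_iff.mp (hc21 hx.2)) j (le_sSup hJK hj))
        · have h := Components.orbitJoin_le_centralizer_of_notMem hK hJ hJK
            (Components.le_orbitJoin P₀ J hj)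
          exact ((Subgroup.mem_centralizer_iff.mp h) x hx.1).symm
      exact Subgroup.mem_centralizer_singleton_iff.mp (hle (hNE ha))
    have key : ∀ J, IsComponent J →
        ((Components.orbitJoin P₀ J).subgroupOf P₀).Normal ∧
          ¬ (Components.orbitJoin P₀ J).subgroupOf P₀ ≤ frattini P₀ := by
      intro J hJ
      set M := Components.orbitJoin P₀ J
      have hPn : P₀ ≤ Subgroup.normalizer (M : Set G) := normal_orbitJoin_sup
      refine ⟨Subgroup.normal_subgroupOf_of_le_normalizer hPn, fun hle => ?_⟩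
      set W := P₀ ⊔ M
      have hPW : P₀ ≤ W := le_sup_left
      have hMW : M ≤ W := le_sup_right
      let PW : Sylow p W := P.subtype hPW
      haveI : (M.subgroupOf W).Normal :=
        Subgroup.normal_subgroupOf_of_le_normalizer (sup_le hPn Subgroup.le_normalizer)
      have hcomp := Cfsg.Agent.Transfer.hasNormalPComplement_of_inf_le_frattini PW (M.subgroupOf W) (by
        intro x hx
        have hxP : (x : G) ∈ P₀ := hx.2
        have h1 : (⟨x, hxP⟩ : P₀) ∈ frattini P₀ := hle (show (x : G) ∈ M from hx.1)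
        let e : P₀ ≃* (PW : Subgroup W) := (Subgroup.subgroupOfEquivOfLe hPW).symm
        have h2 := frattini_le_comap_frattini_of_surjective (φ := e.toMonoidHom) e.surjective h1
        exact ⟨e ⟨x, hxP⟩, h2, rfl⟩)
      have hJM : J ≤ M := Components.le_orbitJoin P₀ J
      have hcM : HasNormalPComplement p M :=
        (Cfsg.Agent.Transfer.hasNormalPComplement_congr (Subgroup.subgroupOfEquivOfLe hMW)).mp hcomp
      have hcJ : HasNormalPComplement p J :=
        Cfsg.Agent.Transfer.hasNormalPComplement_mono hJM hcM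
      refine not_dvd_of_perfect ?_ hcJ (Components.dvd_card_component hcore hJ)
      have := (Components.isPerfect_of_isQuasisimple hJ.2).1
      rwa [commutator_def] at this
    obtain ⟨h1n, h1⟩ := key K hK
    obtain ⟨h2n, h2⟩ := key L hL
    refine hna (commutative_of_two P.2 hgen _ _ h1 h2 ?_)
    rw [Subgroup.eq_bot_iff_forall]
    intro x hx
    refine Subtype.ext ?_
    have h : (x : G) ∈ M₁ ⊓ M₂ := hx
    rwa [hint, Subgroup.mem_bot] at h

/-- Let p be a prime and G a finite group with a non-commutative Sylow p-subgroup P whose Frattini subgroup has index p² in P (P is generated by two elements). Suppose G has no nontrivial normal subgroup of order prime to p and the Frattini subgroup of P contains no nontrivial normal subgroup of G. Then the generalized Fitting subgroup F*(G) is the unique minimal normal subgroup of G, the image of P in G/F*(G) is cyclic, and if F*(G) is not commutative then P permutes the components of G transitively by conjugation. -/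
theorem result {G : Type*} [Group G] [Finite G] (p : ℕ) [Fact p.Prime] (P : Sylow p G) (hna : ¬ IsMulCommutative (P : Subgroup G)) (hgen : (frattini ↥(P : Subgroup G)).index = p ^ 2) (hcore : Cfsg.pPrimeCore p G = ⊥) (hfrat : ((frattini ↥(P : Subgroup G)).map (P : Subgroup G).subtype).normalCore = ⊥) [hFn : (Cfsg.generalizedFittingSubgroup G).Normal] :
    (Cfsg.generalizedFittingSubgroup G ≠ ⊥ ∧ ∀ K : Subgroup G, K.Normal → K ≠ ⊥ → Cfsg.generalizedFittingSubgroup G ≤ K) ∧
      IsCyclic ↥((P : Subgroup G).map (QuotientGroup.mk' (Cfsg.generalizedFittingSubgroup G))) ∧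
      (¬ IsMulCommutative (Cfsg.generalizedFittingSubgroup G) → ∀ K L : Subgroup G, Cfsg.IsComponent K → Cfsg.IsComponent L → ∃ x ∈ (P : Subgroup G), L = K.map (MulAut.conj x).toMonoidHom) := by
  exact main_aux p P hna hgen hcore hfrat hFn

end Cfsg.Agent.S4172
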