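import Cfsg.Statements.S4177
import Mathlib

set_option autoImplicit false
open Cfsg

namespace Cfsg.Agent.S4177

theorem fixed_mem_span {k V H : Type*} [Field k] [AddCommGroup V] [Module k V] [Group H] [Finite H]
    (ρ : Representation k H V) (a : V) (hspan : Submodule.span k {u : V | ∃ h : H, ρ h a = u} = ⊤)
    (K : Subgroup H) (hK : (Nat.card K : k) ≠ 0) (htr : ∀ h : H, ∃ x ∈ K, ρ x a = ρ h a) :
    ∃ w : V, (∀ h : H, ρ h w = w) ∧ ∀ v : V, (∀ x ∈ K, ρ x v = v) → ∃ c : k, c • w = v := by
  classical
  haveI : Fintype H := Fintype.ofFinite H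
  set O : Finset V := Finset.univ.image (fun h : H => ρ h a)
  have hmem : ∀ h u, u ∈ O → ρ h u ∈ O := by
    intro h u hu
    simp only [O, Finset.mem_image, Finset.mem_univ, true_and] at hu ⊢
    obtain ⟨g, rfl⟩ := hu
    exact ⟨h * g, by simp⟩
  set w := ∑ u ∈ O, u
  have hw : ∀ h : H, ρ h w = w := by
    intro h
    rw [map_sum]
    refine Finset.sum_bij' (fun u _ => ρ h u) (fun u _ => ρ h⁻¹ u) (fun u hu => hmem h u hu)
      (fun u hu => hmem _ u hu) (fun u _ => by simp) (fun u _ => by simp) (fun u _ => rfl)
  set n : k := (Nat.card K : k)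
  let e : V →ₗ[k] V := n⁻¹ • ∑ x : K, ρ (x : H)
  have hfix : ∀ v, (∀ x ∈ K, ρ x v = v) → e v = v := by
    intro v hv
    simp only [e, LinearMap.smul_apply, LinearMap.sum_apply]
    rw [Finset.sum_congr rfl (fun (x : K) _ => hv (x : H) x.2), Finset.sum_const, Finset.card_univ,
      ← Nat.cast_smul_eq_nsmul k, smul_smul, ← Nat.card_eq_fintype_card, inv_mul_cancel₀ hK, one_smul]
  have heq : ∀ u ∈ O, e u = e a := by
    intro u hu
    simp only [O, Finset.mem_image, Finset.mem_univ, true_and] at hu
    obtain ⟨h, rfl⟩ := hu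
    obtain ⟨x, hx, hxa⟩ := htr h
    rw [← hxa]
    simp only [e, LinearMap.smul_apply, LinearMap.sum_apply]
    congr 1
    exact Fintype.sum_equiv (Equiv.mulRight (⟨x, hx⟩ : K)) _ _ (fun y => by simp)
  have hsum : (O.card : k) • e a = w := by
    rw [← hfix w (fun x _ => hw x), map_sum, Finset.sum_congr rfl heq, Finset.sum_const, Nat.cast_smul_eq_nsmul]
  have hO : (O.card : k) ≠ 0 := by
    have hdvd : O.card ∣ Nat.card K := by
      set S : Subgroup K :=
        { carrier := {x | ρ (x : H) a = a}
          mul_mem' := fun {x y} (hx : ρ (x : H) a = a) (hy : ρ (y : H) a = a) => by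
            show ρ ((x : H) * y) a = a
            simp [hx, hy]
          one_mem' := by simp
          inv_mem' := fun {x} (hx : ρ (x : H) a = a) => by
            show ρ ((x : H)⁻¹) a = a
            conv_lhs => rw [← hx]
            simp }
      have hb : S.index = O.card := by
        rw [Subgroup.index, ← Nat.card_eq_finsetCard O]
        let f : K ⧸ S → O := fun q => Quotient.liftOn' q
          (fun x : K => (⟨ρ (x : H) a, Finset.mem_image_of_mem _ (Finset.mem_univ _)⟩ : O))
          (fun x y hxy => Subtype.ext (by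
            have h' : ρ ((x : H)⁻¹ * y) a = a := QuotientGroup.leftRel_apply.mp hxy
            have h'' := congrArg (ρ (x : H)) h'
            simpa using h''.symm))
        refine Nat.card_eq_of_bijective f ⟨?_, ?_⟩
        · intro p q
          induction p using QuotientGroup.induction_on with | _ x => ?_
          induction q using QuotientGroup.induction_on with | _ y => ?_
          intro h
          refine QuotientGroup.eq.mpr ?_
          have h' : ρ (x : H) a = ρ (y : H) a := congrArg Subtype.val h
          show ρ ((x : H)⁻¹ * y) a = a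
          simp [← h']
        · rintro ⟨u, hu⟩
          simp only [O, Finset.mem_image, Finset.mem_univ, true_and] at hu
          obtain ⟨h, rfl⟩ := hu
          obtain ⟨x, hx, hxa⟩ := htr h
          exact ⟨((⟨x, hx⟩ : K) : K ⧸ S), Subtype.ext hxa⟩
      exact hb ▸ S.index_dvd_card
    obtain ⟨c, hc⟩ := hdvd
    intro h0
    apply hK
    show (Nat.card K : k) = 0
    rw [hc, Nat.cast_mul, h0, zero_mul]
  refine ⟨w, hw, fun v hv => ?_⟩
  have hv' : e v ∈ Submodule.span k {w} := by
    have : (⊤ : Submodule k V) ≤ (Submodule.span k {w}).comap e := by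
      rw [← hspan, Submodule.span_le]
      rintro u ⟨h, rfl⟩
      rw [SetLike.mem_coe, Submodule.mem_comap, heq _ (Finset.mem_image_of_mem _ (Finset.mem_univ _))]
      refine Submodule.mem_span_singleton.mpr ⟨(O.card : k)⁻¹, ?_⟩
      rw [← hsum, smul_smul, inv_mul_cancel₀ hO, one_smul]
    exact this (Submodule.mem_top)
  rw [hfix v hv] at hv'
  exact Submodule.mem_span_singleton.mp hv'

theorem finrank_invariants_le {k V H : Type*} [Field k] [AddCommGroup V] [Module k V] [Group H]
    (ρ : Representation k H V) (w : V) (h : ∀ v : V, (∀ x : H, ρ x v = v) → ∃ c : k, c • w = v) :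
    Module.finrank k ρ.invariants ≤ 1 := by
  have hle : ρ.invariants ≤ Submodule.span k {w} := fun v hv =>
    Submodule.mem_span_singleton.mpr (h v ((ρ.mem_invariants v).mp hv))
  refine (Submodule.finrank_mono hle).trans ?_
  refine (finrank_span_le_card ({w} : Set V)).trans ?_
  simp

/-- coprime orbit lengths: the stabilizer of b is transitive on the orbit of a -/
theorem stab_transitive {k V H : Type*} [Field k] [AddCommGroup V] [Module k V] [Group H] [Finite H]
    (ρ : Representation k H V) (a b : V)
    (hcop : (Nat.card {u : V | ∃ h : H, ρ h a = u}).Coprime (Nat.card {u : V | ∃ h : H, ρ h b = u})) :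
    ∃ Ka Kb : Subgroup H, (∀ x, x ∈ Ka ↔ ρ x a = a) ∧ (∀ x, x ∈ Kb ↔ ρ x b = b) ∧
      Ka.index.Coprime Kb.index ∧ ∀ h : H, ∃ x ∈ Kb, ρ x a = ρ h a := by
  letI : MulAction H V :=
    { smul := fun h v => ρ h v
      one_smul := fun v => by show ρ 1 v = v; simp
      mul_smul := fun x y v => by show ρ (x * y) v = ρ x (ρ y v); simp }
  have hind : ∀ c : V, (MulAction.stabilizer H c).index = Nat.card {u : V | ∃ h : H, ρ h c = u} := by
    intro c; rw [MulAction.index_stabilizer, ← Nat.card_coe_set_eq]; rfl
  rw [← hind a, ← hind b] at hcop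
  refine ⟨MulAction.stabilizer H a, MulAction.stabilizer H b, fun x => Iff.rfl, fun x => Iff.rfl, hcop, ?_⟩
  set A := MulAction.stabilizer H a
  set B := MulAction.stabilizer H b
  have hle : A.relIndex B ≤ A.index := by
    rw [← Subgroup.relIndex_top_right]
    exact Subgroup.relIndex_le_of_le_right le_top (by rw [Subgroup.relIndex_top_right]; exact Subgroup.index_ne_zero_of_finite)
  have hmul : A.relIndex B * B.index = (A ⊓ B).index := by
    rw [← Subgroup.inf_relIndex_right, Subgroup.relIndex_mul_index inf_le_right]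
  have hdvd : A.index ∣ A.relIndex B := hcop.dvd_of_dvd_mul_right (hmul ▸ Subgroup.index_dvd_of_le inf_le_left)
  have heq : A.relIndex B = A.index := le_antisymm hle (Nat.le_of_dvd (Nat.pos_of_ne_zero Subgroup.index_ne_zero_of_finite) hdvd)
  intro h
  let f : B ⧸ A.subgroupOf B → H ⧸ A := Quotient.map' (fun x : B => (x : H)) (fun x y hxy => by
    rw [QuotientGroup.leftRel_apply] at hxy ⊢
    simpa [Subgroup.mem_subgroupOf] using hxy)
  have hf : Function.Injective f := by
    intro p q
    induction p using QuotientGroup.induction_on with | _ x => ?_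
    induction q using QuotientGroup.induction_on with | _ y => ?_
    intro e
    exact QuotientGroup.eq.mpr (by simpa [Subgroup.mem_subgroupOf] using QuotientGroup.eq.mp e)
  obtain ⟨q, hq⟩ := (hf.bijective_of_nat_card_le (le_of_eq heq.symm)).2 (h : H ⧸ A)
  induction q using QuotientGroup.induction_on with | _ x => ?_
  refine ⟨x, x.2, ?_⟩
  have h' : ρ ((x : H)⁻¹ * h) a = a := QuotientGroup.eq.mp hq
  have h'' := congrArg (ρ (x : H)) h'
  simpa using h''.symm

/-- Let k be a field whose characteristic does not divide the order of the finite group H (for instance a field of characteristic zero), and ρ a k-linear representation of H on V. Let a be a vector whose H-orbit spans V. Then the space of H-fixed vectors has dimension at most 1, and every vector b whose H-orbit has size coprime to the size of the orbit of a is fixed by H. -/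
theorem result {k V H : Type*} [Field k] [AddCommGroup V] [Module k V] [Group H] [Finite H]
    (hchar : ¬ ringChar k ∣ Nat.card H) (ρ : Representation k H V) (a : V)
    (hspan : Submodule.span k {u : V | ∃ h : H, ρ h a = u} = ⊤) :
    Module.finrank k ρ.invariants ≤ 1 ∧
    ∀ b : V, (Nat.card {u : V | ∃ h : H, ρ h a = u}).Coprime (Nat.card {u : V | ∃ h : H, ρ h b = u}) → ∀ h : H, ρ h b = b := by
  have hne : ∀ K : Subgroup H, (Nat.card K : k) ≠ 0 := fun K h =>
    hchar (dvd_trans ((ringChar.spec k _).mp h) K.card_subgroup_dvd_card)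
  obtain ⟨w, hw, hwspan⟩ := fixed_mem_span ρ a hspan ⊤ (hne ⊤) (fun h => ⟨h, trivial, rfl⟩)
  refine ⟨finrank_invariants_le ρ w (fun v hv => hwspan v (fun x _ => hv x)), fun b hb h => ?_⟩
  obtain ⟨Ka, Kb, -, hKb, -, htr⟩ := stab_transitive ρ a b hb
  obtain ⟨w', hw', hwspan'⟩ := fixed_mem_span ρ a hspan Kb (hne Kb) htr
  obtain ⟨c, rfl⟩ := hwspan' b (fun x hx => (hKb x).mp hx)
  rw [map_smul, hw']

end Cfsg.Agent.S4177
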