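import Cfsg.Statements.S4176
import Mathlib
import Cfsg.Agent.S4177
import Cfsg.Agent.Lib.Thompson.PSolvable

set_option autoImplicit false
open Cfsg

namespace Cfsg.Agent.S4176

theorem exists_p_complement {G : Type*} [Group G] [Finite G] {p : ℕ} [hp : Fact p.Prime]
    (h : Cfsg.IsPSolvable p G) : ∃ K : Subgroup G, (Nat.card K).Coprime p ∧ ∃ m : ℕ, K.index = p ^ m := by
  obtain ⟨n, H, h0, hn, hmono, hnorm, hstep⟩ := h
  suffices ∀ i : Fin (n+1), ∃ X : Subgroup G, H i ≤ X ∧ ((H i).relIndex X).Coprime p ∧ ∃ m : ℕ, X.index = p ^ m by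
    obtain ⟨X, -, h1, h2⟩ := this 0
    rw [h0, Subgroup.relIndex_bot_left] at h1
    exact ⟨X, h1, h2⟩
  intro i
  induction i using Fin.reverseInduction with
  | last => exact ⟨⊤, le_top, by rw [hn, Subgroup.relIndex_self]; exact Nat.coprime_one_left p, 0, by simp⟩
  | cast i ih =>
    obtain ⟨X, hX, hXc, a, ha⟩ := ih
    have hle : H i.castSucc ≤ H i.succ := hmono (Fin.castSucc_lt_succ (i := i)).le
    rcases hstep i with ⟨m, hm⟩ | hco
    swap
    · exact ⟨X, hle.trans hX, by rw [← Subgroup.relIndex_mul_relIndex _ _ _ hle hX]; exact hco.mul_left hXc, a, ha⟩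
    haveI := hnorm i.castSucc
    let π := QuotientGroup.mk' ((H i.castSucc).subgroupOf X)
    let N := ((H i.succ).subgroupOf X).map π
    haveI : N.Normal := by
      haveI := hnorm i.succ
      exact Subgroup.Normal.map inferInstance π (QuotientGroup.mk'_surjective _)
    have hcN : Nat.card N = p ^ m := by
      rw [← Subgroup.relIndex_ker, QuotientGroup.ker_mk', Subgroup.relIndex_subgroupOf hX, hm]
    have hiN : N.index = (H i.succ).relIndex X := by
      rw [Subgroup.index_map, QuotientGroup.ker_mk', sup_eq_left.mpr, (MonoidHom.range_eq_top.mpr (QuotientGroup.mk'_surjective _)), Subgroup.index_top, mul_one]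
      · rfl
      · exact Subgroup.comap_mono hle
    obtain ⟨C, hC⟩ := Subgroup.exists_right_complement'_of_coprime (N := N) (by rw [hcN, hiN]; exact hXc.symm.pow_left m)
    refine ⟨(C.comap π).map X.subtype, ?_, ?_, m + a, ?_⟩
    · intro x hx
      refine ⟨⟨x, hX (hle hx)⟩, ?_, rfl⟩
      have : π ⟨x, hX (hle hx)⟩ = 1 := (QuotientGroup.eq_one_iff _).mpr hx
      show π ⟨x, _⟩ ∈ C
      rw [this]; exact one_mem C
    · have e : (H i.castSucc).relIndex ((C.comap π).map X.subtype) = Nat.card C := by
        rw [← Subgroup.relIndex_comap]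
        show ((H i.castSucc).subgroupOf X).relIndex (C.comap π) = _
        have hk := Subgroup.relIndex_ker (K := C.comap π) π
        rw [QuotientGroup.ker_mk', Subgroup.map_comap_eq_self_of_surjective (QuotientGroup.mk'_surjective _)] at hk
        exact hk
      rw [e, ← hC.symm.index_eq_card, hiN]
      exact hXc
    · rw [Subgroup.index_map_subtype, Subgroup.index_comap_of_surjective _ (QuotientGroup.mk'_surjective _),
        hC.index_eq_card, hcN, ha, pow_add]

/-- Let k be a field of prime characteristic p, H a finite p-soluble group and ρ a k-linear representation of H on V. Let a be a vector that is fixed by some Sylow p-subgroup of H and whose H-orbit spans V. Then the space of H-fixed vectors has dimension at most 1, and every vector b whose H-orbit has size coprime to the size of the orbit of a is fixed by H. -/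
theorem result {k V H : Type*} [Field k] (p : ℕ) [Fact p.Prime] [CharP k p] [AddCommGroup V] [Module k V]
    [Group H] [Finite H] (hsol : Cfsg.IsPSolvable p H) (ρ : Representation k H V) (a : V)
    (hfix : ∃ P : Sylow p H, ∀ x : H, x ∈ (P : Subgroup H) → ρ x a = a)
    (hspan : Submodule.span k {u : V | ∃ h : H, ρ h a = u} = ⊤) :
    Module.finrank k ρ.invariants ≤ 1 ∧
    ∀ b : V, (Nat.card {u : V | ∃ h : H, ρ h a = u}).Coprime (Nat.card {u : V | ∃ h : H, ρ h b = u}) → ∀ h : H, ρ h b = b := by
  obtain ⟨P, hP⟩ := hfix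
  obtain ⟨Ha, Hb0, hHa, -, -, -⟩ := Cfsg.Agent.S4177.stab_transitive ρ a 0 (by
    have : {u : V | ∃ h : H, ρ h (0 : V) = u} = {0} := by ext; simp [eq_comm]
    rw [this]; simp)
  have hPHa : (P : Subgroup H) ≤ Ha := fun x hx => (hHa x).mpr (hP x hx)
  have hne : ∀ K : Subgroup H, (Nat.card K).Coprime p → (Nat.card K : k) ≠ 0 := fun K hK h => by
    rw [CharP.cast_eq_zero_iff k p] at h
    exact (Fact.out : p.Prime).ne_one (Nat.eq_one_of_dvd_coprimes hK h dvd_rfl)
  -- a p-complement of a transitive subgroup is still transitive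
  have main : ∀ B : Subgroup H, (∀ h : H, ∃ x ∈ B, ρ x a = ρ h a) →
      ∃ K : Subgroup H, K ≤ B ∧ (Nat.card K : k) ≠ 0 ∧ ∀ h : H, ∃ x ∈ K, ρ x a = ρ h a := by
    intro B htr
    obtain ⟨K, hK, m, hm⟩ := exists_p_complement (Cfsg.Agent.Thompson.isPSolvable_subgroup B hsol)
    refine ⟨K.map B.subtype, Subgroup.map_subtype_le K, hne _ ?_, ?_⟩
    · rwa [Subgroup.card_map_of_injective B.subtype_injective]
    intro h
    obtain ⟨x, hx, hxa⟩ := htr h
    -- B = K (Ha ∩ B)
    set A := Ha.subgroupOf B
    have hAdvd : A.index ∣ Ha.index := by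
      let f : B ⧸ A → H ⧸ Ha := Quotient.map' (fun y : B => (y : H)) (fun u v huv => by
        rw [QuotientGroup.leftRel_apply] at huv ⊢
        simpa [A, Subgroup.mem_subgroupOf] using huv)
      have hf : Function.Bijective f := by
        constructor
        · intro u v
          induction u using QuotientGroup.induction_on with | _ u => ?_
          induction v using QuotientGroup.induction_on with | _ v => ?_
          intro e
          exact QuotientGroup.eq.mpr (by simpa [A, Subgroup.mem_subgroupOf] using QuotientGroup.eq.mp e)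
        · intro q
          induction q using QuotientGroup.induction_on with | _ g => ?_
          obtain ⟨y, hy, hya⟩ := htr g
          refine ⟨((⟨y, hy⟩ : B) : B ⧸ A), QuotientGroup.eq.mpr ((hHa _).mpr ?_)⟩
          simp [← hya]
      exact (Nat.card_eq_of_bijective f hf).dvd
    have hcop : Nat.Coprime A.index K.index := by
      rw [hm]
      refine Nat.Coprime.pow_right m ((Fact.out : p.Prime).coprime_iff_not_dvd.mpr fun hd => ?_).symm
      exact P.not_dvd_index ((hd.trans hAdvd).trans (Subgroup.index_dvd_of_le hPHa))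
    have hle : A.index ≤ A.relIndex K := by
      have : A.relIndex K * K.index = (A ⊓ K).index := by
        rw [← Subgroup.inf_relIndex_right, Subgroup.relIndex_mul_index inf_le_right]
      exact Nat.le_of_dvd (Nat.pos_of_ne_zero Subgroup.index_ne_zero_of_finite)
        (hcop.dvd_of_dvd_mul_right (this ▸ Subgroup.index_dvd_of_le inf_le_left))
    let g : K ⧸ A.subgroupOf K → B ⧸ A := Quotient.map' (fun y : K => (y : B)) (fun u v huv => by
      rw [QuotientGroup.leftRel_apply] at huv ⊢
      simpa [Subgroup.mem_subgroupOf] using huv)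
    have hg : Function.Injective g := by
      intro u v
      induction u using QuotientGroup.induction_on with | _ u => ?_
      induction v using QuotientGroup.induction_on with | _ v => ?_
      intro e
      exact QuotientGroup.eq.mpr (by simpa [Subgroup.mem_subgroupOf] using QuotientGroup.eq.mp e)
    obtain ⟨q, hq⟩ := (hg.bijective_of_nat_card_le hle).2 ((⟨x, hx⟩ : B) : B ⧸ A)
    induction q using QuotientGroup.induction_on with | _ y => ?_
    refine ⟨((y : B) : H), ⟨(y : B), y.2, rfl⟩, ?_⟩
    have hmem : ((y : B) : H)⁻¹ * x ∈ Ha := by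
      have := QuotientGroup.eq.mp hq
      simpa [A, Subgroup.mem_subgroupOf] using this
    have h'' := congrArg (ρ ((y : B) : H)) ((hHa _).mp hmem)
    rw [← hxa]
    simpa using h''.symm
  obtain ⟨K, -, hK, htrK⟩ := main ⊤ (fun h => ⟨h, trivial, rfl⟩)
  obtain ⟨w, hw, hwspan⟩ := Cfsg.Agent.S4177.fixed_mem_span ρ a hspan K hK htrK
  refine ⟨Cfsg.Agent.S4177.finrank_invariants_le ρ w (fun v hv => hwspan v (fun x _ => hv x)), fun b hb h => ?_⟩
  obtain ⟨A', Kb, -, hKb, -, htr⟩ := Cfsg.Agent.S4177.stab_transitive ρ a b hb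
  obtain ⟨K', hK'le, hK', htrK'⟩ := main Kb htr
  obtain ⟨w', hw', hwspan'⟩ := Cfsg.Agent.S4177.fixed_mem_span ρ a hspan K' hK' htrK'
  obtain ⟨c, rfl⟩ := hwspan' b (fun x hx => (hKb x).mp (hK'le hx))
  rw [map_smul, hw']

end Cfsg.Agent.S4176
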