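import Cfsg.Statements.S4178
import Mathlib

set_option autoImplicit false
open Cfsg

namespace Cfsg.Agent.S4178

theorem index_lt_card {H X : Type*} [Group H] [Finite X] (K : Subgroup H) (f : H → X) (z : X)
    (hf : ∀ a b, f a = f b ↔ a⁻¹ * b ∈ K) (hz : ∀ a, f a ≠ z) : K.index < Nat.card X := by
  let φ : H ⧸ K → X := fun q => Quotient.liftOn' q f (fun a b hab => (hf a b).mpr (QuotientGroup.leftRel_apply.mp hab))
  have hφ : Function.Injective φ := by
    intro a b
    induction a using QuotientGroup.induction_on with | _ a => ?_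
    induction b using QuotientGroup.induction_on with | _ b => ?_
    intro h
    exact QuotientGroup.eq.mpr ((hf a b).mp h)
  haveI : Finite (H ⧸ K) := Finite.of_injective φ hφ
  refine lt_of_le_of_ne (Nat.card_le_card_of_injective φ hφ) fun h => ?_
  obtain ⟨q, hq⟩ := (hφ.bijective_of_nat_card_le (le_of_eq h.symm)).2 z
  induction q using QuotientGroup.induction_on with | _ a => ?_
  exact hz a hq

/-- Let F be a finite field with q elements, V a non-zero finite-dimensional F-space of dimension d, H a group of invertible linear maps of V, and R the subgroup of H generated by the elements of H that fix some non-zero vector (have eigenvalue 1). Then the index of R in H is at most q^d − 1; and if H leaves invariant some proper non-zero subspace, the index is at most q^(d/2) − 1. -/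
theorem result {F V : Type*} [Field F] [Fintype F] [AddCommGroup V] [Module F V] [FiniteDimensional F V] [Nontrivial V]
    (H : Subgroup (V ≃ₗ[F] V)) :
    (Subgroup.closure {h : ↥H | ∃ v : V, v ≠ 0 ∧ (h : V ≃ₗ[F] V) v = v}).index ≤ Fintype.card F ^ Module.finrank F V - 1 ∧
    ((∃ W : Submodule F V, W ≠ ⊥ ∧ W ≠ ⊤ ∧ ∀ h ∈ H, ∀ w ∈ W, h w ∈ W) →
      ((Subgroup.closure {h : ↥H | ∃ v : V, v ≠ 0 ∧ (h : V ≃ₗ[F] V) v = v}).index : ℝ) ≤ Real.sqrt ((Fintype.card F : ℝ) ^ Module.finrank F V) - 1) := by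
  classical
  haveI : Finite V := Module.finite_of_finite F
  haveI : Finite (V ≃ₗ[F] V) := Finite.of_injective _ DFunLike.coe_injective
  set R := Subgroup.closure {h : ↥H | ∃ v : V, v ≠ 0 ∧ (h : V ≃ₗ[F] V) v = v}
  have hmul : ∀ (a b : ↥H) (v : V), (((a⁻¹ * b : ↥H)) : V ≃ₗ[F] V) v = (a : V ≃ₗ[F] V).symm ((b : V ≃ₗ[F] V) v) :=
    fun a b v => rfl
  have horb : ∀ (v : V), v ≠ 0 → ∀ W : Submodule F V, (∀ h ∈ H, h v ∈ W) → R.index < Nat.card W := by
    intro v hv W hW
    let K : Subgroup ↥H :=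
      { carrier := {h | (h : V ≃ₗ[F] V) v = v}
        mul_mem' := fun {a b} (ha : (a : V ≃ₗ[F] V) v = v) (hb : (b : V ≃ₗ[F] V) v = v) => by
          show (a : V ≃ₗ[F] V) ((b : V ≃ₗ[F] V) v) = v
          rw [hb, ha]
        one_mem' := rfl
        inv_mem' := fun {a} (ha : (a : V ≃ₗ[F] V) v = v) => by
          show (a : V ≃ₗ[F] V).symm v = v
          rw [LinearEquiv.symm_apply_eq, ha] }
    have hK : K ≤ R := fun h hh => Subgroup.subset_closure ⟨v, hv, hh⟩
    refine lt_of_le_of_lt (Nat.le_of_dvd (Nat.pos_of_ne_zero Subgroup.index_ne_zero_of_finite) (Subgroup.index_dvd_of_le hK)) ?_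
    refine index_lt_card K (fun h => (⟨(h : V ≃ₗ[F] V) v, hW h h.2⟩ : W)) 0 (fun a b => ?_) (fun a h => ?_)
    · show _ ↔ (((a⁻¹ * b : ↥H)) : V ≃ₗ[F] V) v = v
      rw [hmul, LinearEquiv.symm_apply_eq, Subtype.mk.injEq]
      exact eq_comm
    · have := congrArg Subtype.val h
      simp at this
      exact hv this
  obtain ⟨v, hv⟩ := exists_ne (0 : V)
  have h1 := horb v hv ⊤ (fun _ _ => trivial)
  rw [Module.natCard_eq_pow_finrank (K := F), finrank_top, Nat.card_eq_fintype_card] at h1
  refine ⟨by omega, ?_⟩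
  rintro ⟨W, hW0, hWT, hW⟩
  obtain ⟨w, hw, hw0⟩ := Submodule.exists_mem_ne_zero_of_ne_bot hW0
  have h2 := horb w hw0 W (fun h hh => hW h hh w hw)
  obtain ⟨u, -, hu⟩ := SetLike.exists_of_lt (lt_top_iff_ne_top.mpr hWT)
  let K : Subgroup ↥H :=
    { carrier := {h | (h : V ≃ₗ[F] V) u - u ∈ W}
      mul_mem' := fun {a b} (ha : (a : V ≃ₗ[F] V) u - u ∈ W) (hb : (b : V ≃ₗ[F] V) u - u ∈ W) => by
        show (a : V ≃ₗ[F] V) ((b : V ≃ₗ[F] V) u) - u ∈ W
        have h := add_mem (hW a a.2 _ hb) ha
        simpa using h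
      one_mem' := by simp
      inv_mem' := fun {a} (ha : (a : V ≃ₗ[F] V) u - u ∈ W) => by
        show (a : V ≃ₗ[F] V).symm u - u ∈ W
        have := neg_mem (hW _ (inv_mem a.2) _ ha)
        simpa using this }
  have hK : K ≤ R := by
    intro h hh
    apply Subgroup.subset_closure
    by_contra hno
    simp only [Set.mem_ofPred_eq, not_exists, not_and] at hno
    let T : W →ₗ[F] W := (((h : V ≃ₗ[F] V) : V →ₗ[F] V) - LinearMap.id).restrict
      (fun x hx => sub_mem (hW h h.2 x hx) hx)
    have hT : Function.Injective T := by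
      rw [injective_iff_map_eq_zero]
      intro x hx
      have hx' : (h : V ≃ₗ[F] V) x - x = 0 := congrArg Subtype.val hx
      by_contra hne
      exact hno x (by simpa using hne) (sub_eq_zero.mp hx')
    obtain ⟨x, hx⟩ := (LinearMap.injective_iff_surjective.mp hT) ⟨_, hh⟩
    have hx' : (h : V ≃ₗ[F] V) x - x = (h : V ≃ₗ[F] V) u - u := congrArg Subtype.val hx
    have hne : u - (x : V) ≠ 0 := fun e => hu (by rw [sub_eq_zero.mp e]; exact x.2)
    refine hno _ hne ?_
    rw [map_sub, sub_eq_sub_iff_sub_eq_sub]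
    exact hx'.symm
  haveI : Finite (V ⧸ W) := Finite.of_surjective _ (Submodule.Quotient.mk_surjective W)
  have h3 : R.index < Nat.card (V ⧸ W) := by
    refine lt_of_le_of_lt (Nat.le_of_dvd (Nat.pos_of_ne_zero Subgroup.index_ne_zero_of_finite) (Subgroup.index_dvd_of_le hK)) ?_
    refine index_lt_card K (fun h => Submodule.Quotient.mk ((h : V ≃ₗ[F] V) u)) 0 (fun a b => ?_) (fun a h => ?_)
    · show _ ↔ (((a⁻¹ * b : ↥H)) : V ≃ₗ[F] V) u - u ∈ W
      rw [hmul, Submodule.Quotient.eq]
      constructor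
      · intro h
        simpa using neg_mem (hW _ (inv_mem a.2) _ h)
      · intro h
        simpa using neg_mem (hW _ a.2 _ h)
    · rw [Submodule.Quotient.mk_eq_zero] at h
      apply hu
      simpa using hW _ (inv_mem a.2) _ h
  have hprod : Nat.card V = Nat.card W * Nat.card (V ⧸ W) := by
    rw [W.card_eq_card_quotient_mul_card, mul_comm]
  rw [Module.natCard_eq_pow_finrank (K := F), Nat.card_eq_fintype_card (α := F)] at hprod
  have hsq : ((R.index : ℝ) + 1) ^ 2 ≤ (Fintype.card F : ℝ) ^ Module.finrank F V := by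
    have : (R.index + 1) ^ 2 ≤ Fintype.card F ^ Module.finrank F V := by
      rw [hprod, pow_two]
      exact Nat.mul_le_mul h2 h3
    exact_mod_cast this
  have := Real.le_sqrt_of_sq_le hsq
  linarith

end Cfsg.Agent.S4178
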