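import Cfsg.Statements.S4181
import Cfsg.Agent.FGS80.FixBound
-- import your own Cfsg.Agent.* helpers here

set_option autoImplicit false
open Cfsg

namespace Cfsg.Agent.S4181

open FGS80.FixBound

/-- Let p be a prime and G a finite group generated by its elements of p-power order, and let H be a proper subgroup of G containing a Sylow p-subgroup of G. Then 2p − 1 times the number of Sylow p-subgroups of H is at most p − 1 times the number of Sylow p-subgroups of G. -/
theorem result {G : Type*} [Group G] [Finite G] (p : ℕ) [Fact p.Prime] (hgen : Subgroup.closure {g : G | ∃ k : ℕ, orderOf g = p ^ k} = ⊤)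
    (H : Subgroup G) (hH : H ≠ ⊤) (P : Sylow p G) (hP : (P : Subgroup G) ≤ H) :
    (2 * p - 1) * Nat.card (Sylow p ↥H) ≤ (p - 1) * Nat.card (Sylow p G) := by
  classical
  haveI := Fintype.ofFinite G
  set Q : Subgroup G := (P : Subgroup G) with hQdef
  have hres : res p (⊤ : Subgroup G) = ⊤ := by
    refine top_le_iff.1 (le_trans hgen.ge ((Subgroup.closure_le _).2 ?_))
    rintro x ⟨k, hk⟩
    exact mem_res (k := k) (Subgroup.mem_top x) (by rw [← hk]; exact pow_orderOf_eq_one x)
  have hQ : Syl p (⊤ : Subgroup G) Q := ⟨le_top, P.isPGroup', by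
    rw [Subgroup.relIndex_top_right]; exact P.not_dvd_index⟩
  set H0 := res p H with hH0
  have hQH0 : Q ≤ H0 := le_res P.isPGroup' hP
  have hlt : H0 ≠ ⊤ := fun h => hH (top_le_iff.1 (h ▸ res_le H))
  have hred : Red p ⊤ H0 := ⟨le_top, res_res H, Q, hQ, hQH0⟩
  set X : Finset (Subgroup G) := Finset.univ.image fun g : G => cj g H0 with hX
  have hXi : Inv ⊤ X := by
    intro k _ B hB
    obtain ⟨g, -, rfl⟩ := Finset.mem_image.1 hB
    exact Finset.mem_image.2 ⟨k * g, Finset.mem_univ _, (cj_cj k g H0).symm⟩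
  have hXr : ∀ B ∈ X, Red p ⊤ B := by
    intro B hB
    obtain ⟨g, -, rfl⟩ := Finset.mem_image.1 hB
    exact ⟨le_top, by rw [← cj_res, hred.res_eq], cj g Q, hQ.cj (Subgroup.mem_top g),
      cj_mono g hQH0⟩
  have hXm : Mov ⊤ X := by
    intro B hB h
    have h1 : B = ⊤ := top_le_iff.1 ((hXr B hB).le_of_le_normalizer le_rfl hres h)
    obtain ⟨g, -, rfl⟩ := Finset.mem_image.1 hB
    exact hlt (Subgroup.eq_top_of_card_eq _ (by rw [← card_cj g H0, h1, Subgroup.card_top]))
  have hb := fixed_bound ⊤ hres X hXi hXm Q hQ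
  -- pairs of a Sylow subgroup and a conjugate containing it
  let r : Sylow p G → Subgroup G → Prop := fun R B => (R : Subgroup G) ≤ B
  have key := Finset.sum_card_bipartiteAbove_eq_sum_card_bipartiteBelow (s := (Finset.univ : Finset (Sylow p G))) (t := X) (r := r)
  have e1 : ∀ R ∈ (Finset.univ : Finset (Sylow p G)),
      (Finset.bipartiteAbove r X R).card = (fixP Q X).card := by
    intro R _
    have hR : Syl p (⊤ : Subgroup G) (R : Subgroup G) := ⟨le_top, R.isPGroup', by
      rw [Subgroup.relIndex_top_right]; exact R.not_dvd_index⟩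
    rw [card_fixP_eq hQ hR hXi]
    congr 1
    ext B
    simp only [Finset.mem_bipartiteAbove, mem_fixP, r]
    exact and_congr_right fun hB => ((hXr B hB).le_iff hR).symm
  have e2 : ∀ B ∈ X, (Finset.bipartiteBelow r (Finset.univ : Finset (Sylow p G)) B).card =
      Nat.card (Sylow p ↥H) := by
    intro B hB
    obtain ⟨g, -, rfl⟩ := Finset.mem_image.1 hB
    have h1 : Nat.card (Sylow p ↥H) = Nat.card {R : Sylow p G // (R : Subgroup G) ≤ H} := by
      refine Nat.card_congr (Equiv.ofBijective (fun S => ⟨Sylow.ofCard ((S : Subgroup ↥H).map H.subtype) ?_, Subgroup.map_subtype_le _⟩) ⟨?_, ?_⟩)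
      · rw [Subgroup.card_map_of_injective H.subtype_injective, S.card_eq_multiplicity,
          ← (P.subtype hP).card_eq_multiplicity, Sylow.coe_subtype,
          Nat.card_congr (Subgroup.subgroupOfEquivOfLe hP).toEquiv, P.card_eq_multiplicity]
      · intro S T h
        have h2 := congrArg (fun R : {R : Sylow p G // (R : Subgroup G) ≤ H} =>
          ((R.1 : Sylow p G) : Subgroup G)) h
        simp only [Sylow.coe_ofCard] at h2
        exact Sylow.ext (Subgroup.map_injective H.subtype_injective h2)
      · rintro ⟨R, hR⟩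
        refine ⟨R.subtype hR, Subtype.ext (Sylow.ext ?_)⟩
        simp [Sylow.coe_subtype, Subgroup.subgroupOf_map_subtype, inf_of_le_left hR]
    rw [h1, ← Fintype.card_eq_nat_card, Fintype.card_subtype]
    refine Finset.card_nbij' (fun R => g⁻¹ • R) (fun R => g • R) ?_ ?_ ?_ ?_
    · intro R hR
      simp only [Finset.mem_coe, Finset.mem_bipartiteBelow, Finset.mem_filter, Finset.mem_univ,
        true_and, r] at hR ⊢
      rw [Sylow.coe_subgroup_smul]
      refine le_trans ?_ (res_le (p := p) H)
      intro y hy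
      rw [Subgroup.mem_pointwise_smul_iff_inv_smul_mem] at hy
      have := mem_cj.1 (hR hy)
      simpa [MulAut.smul_def, mul_assoc] using this
    · intro R hR
      simp only [Finset.mem_coe, Finset.mem_bipartiteBelow, Finset.mem_filter, Finset.mem_univ,
        true_and, r] at hR ⊢
      have hR' : (R : Subgroup G) ≤ H0 := le_res R.isPGroup' hR
      rw [Sylow.coe_subgroup_smul]
      intro y hy
      rw [Subgroup.mem_pointwise_smul_iff_inv_smul_mem] at hy
      rw [mem_cj]
      have := hR' hy
      simpa [MulAut.smul_def, mul_assoc] using this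
    · intro R _; simp
    · intro R _; simp
  rw [Finset.sum_congr rfl e1, Finset.sum_congr rfl e2, Finset.sum_const, Finset.sum_const,
    smul_eq_mul, smul_eq_mul, Finset.card_univ, ← Nat.card_eq_fintype_card] at key
  have hXpos : 0 < X.card := Finset.card_pos.2 ⟨_, Finset.mem_image_of_mem _ (Finset.mem_univ 1)⟩
  refine Nat.le_of_mul_le_mul_right ?_ hXpos
  have hp1 := (Fact.out : p.Prime).pos
  obtain ⟨q, rfl⟩ : ∃ q, p = q + 1 := ⟨p - 1, by omega⟩
  unfold Bd at hb
  rw [show 2 * (q + 1) - 1 = 2 * q + 1 by omega, Nat.add_sub_cancel]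
  calc (2 * q + 1) * Nat.card (Sylow (q + 1) ↥H) * X.card
      = Nat.card (Sylow (q + 1) G) * ((2 * q + 1) * (fixP Q X).card) := by rw [mul_assoc, mul_comm (Nat.card (Sylow (q + 1) ↥H)), ← key]; ring
    _ ≤ Nat.card (Sylow (q + 1) G) * (q * X.card) := Nat.mul_le_mul_left _ (by nlinarith)
    _ = q * Nat.card (Sylow (q + 1) G) * X.card := by ring

end Cfsg.Agent.S4181
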