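import Cfsg.Statements.S4182
import Mathlib

set_option autoImplicit false
open Cfsg

namespace Cfsg.Agent.S4182

open Subgroup

/-- The set of `p`-elements. -/
def pset (p : ℕ) (G : Type*) [Group G] : Set G := {g : G | ∃ k : ℕ, orderOf g = p ^ k}

/-- The subgroup generated by the `p`-elements of a subgroup. -/
def pgen (p : ℕ) {G : Type*} [Group G] (H : Subgroup G) : Subgroup G :=
  closure {g : G | g ∈ pset p G ∧ g ∈ H}

/-- A finite group is not the union of at most `p` proper subgroups when it is a `p`-group. -/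
theorem not_cover_pgroup {Q : Type*} [Group Q] [Finite Q] {p : ℕ} [hp : Fact p.Prime]
    (hQ : IsPGroup p Q) (S : Finset (Subgroup Q)) (hS : ∀ K ∈ S, K ≠ ⊤)
    (hcov : ∀ g : Q, ∃ K ∈ S, g ∈ K) : p + 1 ≤ S.card := by
  classical
  haveI := Fintype.ofFinite Q
  have hu : (Finset.univ : Finset Q).erase 1 ⊆
      S.biUnion (fun K => ((Finset.univ.filter fun g => g ∈ K).erase 1)) := by
    intro g hg
    obtain ⟨K, hK, hgK⟩ := hcov g
    refine Finset.mem_biUnion.mpr ⟨K, hK, ?_⟩
    simp [(Finset.mem_erase.mp hg).1, hgK]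
  have hsz : ∀ K ∈ S, p * Nat.card K ≤ Nat.card Q := by
    intro K hK
    rw [← card_mul_index K, mul_comm]
    refine Nat.mul_le_mul_left _ ?_
    obtain ⟨a, ha⟩ := hQ.index K
    rw [ha]
    exact Nat.le_self_pow (fun h => hS K hK (index_eq_one.mp (by rw [ha, h, pow_zero]))) p
  have h1 := (Finset.card_le_card hu).trans Finset.card_biUnion_le
  rw [Finset.card_erase_of_mem (Finset.mem_univ _), Finset.card_univ] at h1
  have h2 : p * ∑ K ∈ S, ((Finset.univ.filter fun g => g ∈ K).erase 1).card ≤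
      S.card * (Nat.card Q - p) := by
    rw [Finset.mul_sum, ← smul_eq_mul]
    refine Finset.sum_le_card_nsmul _ _ _ fun K hK => ?_
    have e : (Finset.univ.filter fun g => g ∈ K).card = Nat.card K := by
      rw [Nat.card_eq_fintype_card, Fintype.card_subtype]
    have := hsz K hK
    rw [Finset.card_erase_of_mem (by simp), e, Nat.mul_sub, mul_one]
    omega
  rw [← Nat.card_eq_fintype_card] at h1
  by_contra hlt
  obtain ⟨K, hK, -⟩ := hcov 1
  have hKp := hsz K hK
  have hpQ : p ≤ Nat.card Q := le_trans (by nlinarith [Nat.card_pos (α := K)]) hKp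
  have h3 : p * (Nat.card Q - 1) ≤ p * (Nat.card Q - p) :=
    ((Nat.mul_le_mul_left p h1).trans h2).trans (Nat.mul_le_mul_right _ (by omega))
  have := Nat.le_of_mul_le_mul_left h3 hp.out.pos
  have := hp.out.two_le
  omega

theorem mem_pset_of_dvd {G : Type*} [Group G] {p : ℕ} (hp : p.Prime) {g : G} {k : ℕ}
    (h : g ^ p ^ k = 1) : g ∈ pset p G := by
  obtain ⟨i, -, hi⟩ := (Nat.dvd_prime_pow hp).mp (orderOf_dvd_of_pow_eq_one h)
  exact ⟨i, hi⟩

theorem pset_coe {G : Type*} [Group G] {p : ℕ} {H : Subgroup G} {g : H} :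
    g ∈ pset p H ↔ (g : G) ∈ pset p G := by
  simp [pset, orderOf_coe]

theorem cover_bound {p : ℕ} [hp : Fact p.Prime] : ∀ n : ℕ, ∀ (G : Type _) [Group G] [Finite G],
    Nat.card G = n → closure (pset p G) = ⊤ → ∀ S : Finset (Subgroup G), (∀ K ∈ S, K ≠ ⊤) →
      (∀ g ∈ pset p G, ∃ K ∈ S, g ∈ K) → p + 1 ≤ S.card := by
  classical
  intro n
  induction n using Nat.strong_induction_on with
  | _ n ih =>
  intro G _ _ hn hgen S₀ hS₀ hcov₀
  by_contra hlt
  -- maximal proper subgroups generated by p-elements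
  let Mx : Set (Subgroup G) := {M | M ≠ ⊤ ∧ pgen p M = M ∧
    ∀ N : Subgroup G, N ≠ ⊤ → pgen p N = N → M ≤ N → N = M}
  have hpg_le : ∀ H : Subgroup G, pgen p H ≤ H := fun H => (closure_le H).mpr fun g hg => hg.2
  have hpg_mono : ∀ H K : Subgroup G, H ≤ K → pgen p H ≤ pgen p K := fun H K h =>
    closure_mono fun g hg => ⟨hg.1, h hg.2⟩
  have hpg_idem : ∀ H : Subgroup G, pgen p (pgen p H) = pgen p H := fun H =>
    le_antisymm (hpg_le _) (closure_mono fun g hg => ⟨hg.1, subset_closure hg⟩)
  have hup : ∀ H ∈ S₀, ∃ M ∈ Mx, pgen p H ≤ M := by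
    intro H hH
    obtain ⟨M, ⟨h1, h2, h3⟩, hmax⟩ :=
      (Set.toFinite {M : Subgroup G | M ≠ ⊤ ∧ pgen p M = M ∧ pgen p H ≤ M}).exists_maximal
        ⟨pgen p H, fun h => hS₀ H hH (top_le_iff.mp (h ▸ hpg_le H)), hpg_idem H, le_refl _⟩
    exact ⟨M, ⟨h1, h2, fun N hN hN' hMN => le_antisymm (hmax ⟨hN, hN', h3.trans hMN⟩ hMN) hMN⟩, h3⟩
  choose! up hupM hupLe using hup
  obtain ⟨S, ⟨hSM, hScard, hcov⟩, hSmin⟩ :=
    (Set.toFinite {S : Finset (Subgroup G) | (↑S : Set (Subgroup G)) ⊆ Mx ∧ S.card ≤ p ∧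
      ∀ g ∈ pset p G, ∃ K ∈ S, g ∈ K}).exists_minimal
      ⟨S₀.image up, fun M hM => by
        obtain ⟨H, hH, rfl⟩ := Finset.mem_image.mp (Finset.mem_coe.mp hM)
        exact hupM H hH, Finset.card_image_le.trans (by omega), fun g hg => by
        obtain ⟨H, hH, hgH⟩ := hcov₀ g hg
        exact ⟨up H, Finset.mem_image_of_mem _ hH, hupLe H hH (subset_closure ⟨hg, hgH⟩)⟩⟩
  have priv : ∀ M ∈ S, ∃ x ∈ pset p G, x ∈ M ∧ ∀ K ∈ S, x ∈ K → K = M := by
    intro M hM
    by_contra hc
    push Not at hc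
    have hsub : S.erase M ≤ S := Finset.erase_subset _ _
    have := hSmin (y := S.erase M) ⟨fun K hK => hSM (Finset.mem_of_mem_erase hK),
      (Finset.card_le_card hsub).trans hScard, fun g hg => by
        obtain ⟨K, hK, hgK⟩ := hcov g hg
        rcases eq_or_ne K M with rfl | hne
        · obtain ⟨K', hK', hgK', hne⟩ := hc g hg hgK
          exact ⟨K', Finset.mem_erase.mpr ⟨hne, hK'⟩, hgK'⟩
        · exact ⟨K, Finset.mem_erase.mpr ⟨hne, hK⟩, hgK⟩⟩ hsub
    exact Finset.notMem_erase M S (this hM)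
  have two : ∀ M ∈ S, ∃ L ∈ S, L ≠ M := by
    intro M hM
    by_contra hc
    push Not at hc
    refine (hSM hM).1 (top_le_iff.mp (hgen ▸ (closure_le M).mpr fun g hg => ?_))
    obtain ⟨K, hK, hgK⟩ := hcov g hg
    exact hc K hK ▸ hgK
  have hnorm : ∀ L ∈ S, L.Normal ∧ ∃ x : G, x ∈ pset p G ∧ x ^ p ∈ L ∧ L ⊔ zpowers x = ⊤ := by
    intro L hL
    obtain ⟨M, hM, hML⟩ := two L hL
    obtain ⟨x, hxp, hxM, hxu⟩ := priv M hM
    have hxL : x ∉ L := fun h => hML (hxu L hL h).symm
    let c : Subgroup G → Subgroup G := fun K => K.map (MulAut.conj x).toMonoidHom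
    have cinj : Function.Injective c := map_injective (MulAut.conj x).injective
    have hcM : c M = M := by
      have h1 : c M ≤ M := by
        rintro _ ⟨g, hg, rfl⟩
        exact mul_mem (mul_mem hxM hg) (inv_mem hxM)
      exact eq_of_le_of_card_ge h1 (le_of_eq (card_map_of_injective (MulAut.conj x).injective).symm)
    have hcov' : ∀ g ∈ pset p G, ∃ K ∈ S.image c, g ∈ K := by
      intro g hg
      obtain ⟨K, hK, hgK⟩ := hcov (x⁻¹ * g * x) (by
        obtain ⟨k, hk⟩ := hg
        refine ⟨k, ?_⟩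
        rw [← hk]
        have := orderOf_injective (MulAut.conj x⁻¹).toMonoidHom (MulAut.conj x⁻¹).injective g
        simpa using this)
      exact ⟨c K, Finset.mem_image_of_mem _ hK, _, hgK, by simp [mul_assoc]⟩
    have hperm : ∀ A ∈ S, A ∈ S.image c := by
      intro A hA
      obtain ⟨hA1, hA2, hA3⟩ := hSM hA
      have hlt' : Nat.card A < n := by
        rw [← hn]
        exact lt_of_le_of_ne (card_le_card_group A) fun h => hA1 ((card_eq_iff_eq_top A).mp h)
      have hgenA : closure (pset p A) = ⊤ := by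
        apply map_injective A.subtype_injective
        rw [MonoidHom.map_closure, ← MonoidHom.range_eq_map, range_subtype]
        conv_rhs => rw [← hA2]
        refine congrArg Subgroup.closure (Set.ext fun g => ⟨?_, fun hg => ?_⟩)
        · rintro ⟨a, ha, rfl⟩; exact ⟨pset_coe.mp ha, a.2⟩
        · exact ⟨⟨g, hg.2⟩, pset_coe.mpr hg.1, rfl⟩
      by_contra hcon
      have hbig := ih _ hlt' A rfl hgenA (((S.image c).image fun K => K.subgroupOf A)) ?_ ?_
      · have := hbig.trans (Finset.card_image_le.trans Finset.card_image_le)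
        omega
      · intro K hK
        obtain ⟨B, hB, rfl⟩ := Finset.mem_image.mp hK
        obtain ⟨B₀, hB₀, rfl⟩ := Finset.mem_image.mp hB
        intro htop
        rw [subgroupOf_eq_top] at htop
        apply hcon
        have hne : c B₀ ≠ ⊤ := fun h => (hSM hB₀).1 (cinj (by
          rw [h]; exact (map_top_of_surjective _ (MulAut.conj x).surjective).symm))
        have hfix : pgen p (c B₀) = c B₀ := by
          refine le_antisymm (hpg_le _) ?_
          show B₀.map _ ≤ _
          conv_lhs => rw [← (hSM hB₀).2.1, pgen, MonoidHom.map_closure]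
          refine closure_mono ?_
          rintro _ ⟨g, ⟨⟨k, hk⟩, hgB⟩, rfl⟩
          exact ⟨⟨k, by rw [← hk]; exact orderOf_injective _ (MulAut.conj x).injective g⟩,
            g, hgB, rfl⟩
        rw [← hA3 _ hne hfix htop]
        exact hB
      · intro a ha
        obtain ⟨K, hK, haK⟩ := hcov' a (pset_coe.mp ha)
        exact ⟨K.subgroupOf A, Finset.mem_image_of_mem _ hK, haK⟩
    have himg : S.image c = S :=
      (Finset.eq_of_subset_of_card_le hperm Finset.card_image_le).symm
    -- orbit of `L`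
    have hcL : c L = L := by
      obtain ⟨k, hk⟩ := hxp
      by_contra hne
      have hit : ∀ i : ℕ, c^[i] L = L.map (MulAut.conj (x ^ i)).toMonoidHom := by
        intro i
        induction i with
        | zero =>
          rw [pow_zero, map_one]
          exact (map_id L).symm
        | succ i hi =>
          rw [Function.iterate_succ_apply', hi, pow_succ', map_mul]
          exact map_map _ _ _
      have hper : Function.IsPeriodicPt c (p ^ k) L := by
        show c^[p ^ k] L = L
        rw [hit, ← hk, pow_orderOf_eq_one, map_one]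
        exact map_id L
      obtain ⟨i, -, hi⟩ := (Nat.dvd_prime_pow hp.out).mp hper.minimalPeriod_dvd
      have hi0 : i ≠ 0 := fun h => hne (by
        have := Function.isPeriodicPt_minimalPeriod c L
        rw [hi, h, pow_zero] at this
        exact this)
      have hpm : p ≤ Function.minimalPeriod c L := hi ▸ Nat.le_self_pow hi0 p
      have hmem : ∀ j : ℕ, c^[j] L ∈ S.erase M := by
        intro j
        induction j with
        | zero => exact Finset.mem_erase.mpr ⟨hML.symm, hL⟩
        | succ j hj =>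
          rw [Function.iterate_succ_apply']
          obtain ⟨h1, h2⟩ := Finset.mem_erase.mp hj
          exact Finset.mem_erase.mpr ⟨fun h => h1 (cinj (h.trans hcM.symm)),
            himg ▸ Finset.mem_image_of_mem c h2⟩
      have hle : (Finset.range p).card ≤ (S.erase M).card :=
        Finset.card_le_card_of_injOn (fun j => c^[j] L) (fun j _ => hmem j) (fun a ha b hb hab =>
          Function.iterate_injOn_Iio_minimalPeriod (lt_of_lt_of_le (Finset.mem_range.mp ha) hpm)
            (lt_of_lt_of_le (Finset.mem_range.mp hb) hpm) hab)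
      rw [Finset.card_range, Finset.card_erase_of_mem hM] at hle
      have := hp.out.two_le
      omega
    have hxN : x ∈ normalizer (L : Set G) := by
      rw [mem_normalizer_iff]
      intro h
      constructor
      · intro hh; rw [← hcL]; exact ⟨h, hh, by simp⟩
      · intro hh
        obtain ⟨g, hg, hge⟩ : x * h * x⁻¹ ∈ c L := by rw [hcL]; exact hh
        exact (MulAut.conj x).injective hge ▸ hg
    have big : ∀ z, z ∈ pset p G → z ∉ L → L ⊔ zpowers z = ⊤ := by
      intro z hz hzL
      by_contra hne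
      refine hzL ((hSM hL).2.2 _ hne (le_antisymm (hpg_le _) (sup_le ?_ ?_)) le_sup_left ▸
        mem_sup_right (mem_zpowers z))
      · conv_lhs => rw [← (hSM hL).2.1]
        exact hpg_mono _ _ le_sup_left
      · exact zpowers_le.mpr (subset_closure ⟨hz, mem_sup_right (mem_zpowers z)⟩)
    have hLn : L.Normal := by
      rw [← normalizer_eq_top_iff, eq_top_iff, ← big x hxp hxL]
      exact sup_le le_normalizer (zpowers_le.mpr hxN)
    refine ⟨hLn, x, hxp, ?_, big x hxp hxL⟩
    by_contra hxpL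
    obtain ⟨k, hk⟩ := hxp
    have hz : x ^ p ∈ pset p G := mem_pset_of_dvd hp.out (k := k) (by
      rw [← pow_mul, mul_comm, pow_mul, ← hk, pow_orderOf_eq_one, one_pow])
    have hx' : x ∈ L ⊔ zpowers (x ^ p) := big _ hz hxpL ▸ mem_top x
    haveI := hLn
    obtain ⟨l, hl, w, hw, hlw⟩ := mem_sup_of_normal_left.mp hx'
    obtain ⟨t, rfl⟩ := mem_zpowers_iff.mp hw
    -- `x ^ (1 - p t)` lies in `L`, and `1 - p t` is prime to the order of `x`
    have h1 : x ^ (1 - (p : ℤ) * t) ∈ L := by
      rw [zpow_sub, zpow_one, zpow_mul, zpow_natCast]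
      rw [← eq_mul_inv_of_mul_eq hlw]
      exact hl
    have hco : IsCoprime (1 - (p : ℤ) * t) ((p : ℤ) ^ k) :=
      IsCoprime.pow_right ⟨1, t, by ring⟩
    obtain ⟨u, v, huv⟩ := hco
    apply hxL
    have : x = (x ^ (1 - (p : ℤ) * t)) ^ u := by
      rw [← zpow_mul, show (1 - (p : ℤ) * t) * u = 1 + (p : ℤ) ^ k * (-v) by linear_combination huv,
        zpow_add, zpow_mul, ← Nat.cast_pow, ← hk, zpow_natCast, pow_orderOf_eq_one, one_zpow,
        mul_one, zpow_one]
    rw [this]; exact zpow_mem h1 u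
  -- the quotient by the intersection
  set D := S.inf id with hD
  have hDle : ∀ L ∈ S, D ≤ L := fun L hL => Finset.inf_le (f := id) hL
  have memD : ∀ g, g ∈ D ↔ ∀ L ∈ S, g ∈ L := by
    intro g
    rw [hD, Finset.inf_eq_iInf]
    simp [mem_iInf]
  haveI hDn : D.Normal := ⟨fun g hg y => (memD _).mpr fun L hL =>
    (hnorm L hL).1.conj_mem g ((memD g).mp hg L hL) y⟩
  have hpow : ∀ g : G, g ^ p ∈ D := by
    intro g
    refine (memD _).mpr fun L hL => ?_
    obtain ⟨hLn, x, -, hxp, htop⟩ := hnorm L hL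
    haveI := hLn
    have hg : g ∈ L ⊔ zpowers x := htop ▸ mem_top g
    obtain ⟨l, hl, w, hw, rfl⟩ := mem_sup_of_normal_left.mp hg
    obtain ⟨t, rfl⟩ := mem_zpowers_iff.mp hw
    rw [← QuotientGroup.eq_one_iff, QuotientGroup.mk_pow, QuotientGroup.mk_mul,
      (QuotientGroup.eq_one_iff l).mpr hl, one_mul, ← QuotientGroup.mk_pow,
      QuotientGroup.eq_one_iff, ← zpow_natCast, ← zpow_mul, mul_comm, zpow_mul, zpow_natCast]
    exact zpow_mem hxp t
  have hQ : IsPGroup p (G ⧸ D) := fun q => ⟨1, by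
    induction q using QuotientGroup.induction_on with | _ g => ?_
    rw [pow_one, ← QuotientGroup.mk_pow, QuotientGroup.eq_one_iff]
    exact hpow g⟩
  have hb := not_cover_pgroup hQ (S.image fun L => L.map (QuotientGroup.mk' D)) ?_ ?_
  · have := hb.trans Finset.card_image_le
    omega
  · intro K hK
    obtain ⟨L, hL, rfl⟩ := Finset.mem_image.mp hK
    intro h
    apply (hSM hL).1
    rw [← comap_map_eq_self (f := QuotientGroup.mk' D) (H := L) (by rw [QuotientGroup.ker_mk']; exact hDle L hL),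
      h, comap_top]
  · intro q
    induction q using QuotientGroup.induction_on with | _ g => ?_
    obtain ⟨a, m, hm, he⟩ := Nat.exists_eq_pow_mul_and_not_dvd (orderOf_pos g).ne' p hp.out.ne_one
    obtain ⟨u, v, huv⟩ : IsCoprime (m : ℤ) (p : ℤ) :=
      Int.isCoprime_iff_gcd_eq_one.mpr (by
        rw [Int.gcd_natCast_natCast]; exact ((hp.out.coprime_iff_not_dvd).mpr hm).symm)
    obtain ⟨L, hL, hgL⟩ := hcov ((g ^ m) ^ u) (mem_pset_of_dvd hp.out (k := a) (by
      rw [← zpow_natCast _ (p ^ a), ← zpow_mul, mul_comm, zpow_mul, zpow_natCast, ← pow_mul,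
        mul_comm m, ← he, pow_orderOf_eq_one, one_zpow]))
    refine ⟨L.map (QuotientGroup.mk' D), Finset.mem_image_of_mem _ hL, _, hgL, ?_⟩
    show ((((g ^ m) ^ u : G)) : G ⧸ D) = g
    rw [← zpow_natCast, ← zpow_mul, show (m : ℤ) * u = 1 + (p : ℤ) * (-v) by linear_combination huv,
      zpow_add, zpow_one, zpow_mul, zpow_natCast, QuotientGroup.mk_mul, QuotientGroup.mk_zpow,
      (QuotientGroup.eq_one_iff _).mpr (hpow g), one_zpow, mul_one]

/-- Let p be a prime and G a finite group generated by its p-elements. If a finite family of proper subgroups of G covers the set of p-elements of G (every element of p-power order lies in one of them), then the family has at least p + 1 members. -/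
theorem result {G : Type*} [Group G] [Finite G] (p : ℕ) [Fact p.Prime] (hgen : Subgroup.closure {g : G | ∃ k : ℕ, orderOf g = p ^ k} = ⊤)
    {ι : Type*} [Fintype ι] (K : ι → Subgroup G) (hK : ∀ i, K i ≠ ⊤)
    (hcov : ∀ g : G, (∃ k : ℕ, orderOf g = p ^ k) → ∃ i, g ∈ K i) :
    p + 1 ≤ Fintype.card ι := by
  classical
  refine le_trans (cover_bound _ G rfl hgen (Finset.univ.image K) ?_ ?_) Finset.card_image_le
  · intro H hH
    obtain ⟨i, -, rfl⟩ := Finset.mem_image.mp hH
    exact hK i
  · intro g hg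
    obtain ⟨i, hi⟩ := hcov g hg
    exact ⟨K i, Finset.mem_image_of_mem _ (Finset.mem_univ i), hi⟩

end Cfsg.Agent.S4182
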