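import Cfsg.Statements.S4184
import Cfsg.Agent.FG78.IndexLemmas

set_option autoImplicit false
open Cfsg

namespace Cfsg.Agent.S4184

/-- `n` has the full `r`-part of `N` for every prime `r` in `A`. -/
def Full (N : ℕ) (A : Set ℕ) (n : ℕ) : Prop :=
  ∀ r : ℕ, r.Prime → r ∣ N → r ∈ A → N.factorization r ≤ n.factorization r

/-- The index of the centralizer of an element. -/
noncomputable def cs {X : Type*} [Group X] (x : X) : ℕ :=
  (Subgroup.centralizer ({x} : Set X)).index

section
variable {X : Type*} [Group X] [Finite X]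

theorem cs_dvd (x : X) : cs x ∣ Nat.card X := Subgroup.index_dvd_card _

theorem cs_ne_zero (x : X) : cs x ≠ 0 := Subgroup.FiniteIndex.index_ne_zero

theorem cs_eq_one {x : X} (hZ : Subgroup.center X = ⊥) (h : cs x = 1) : x = 1 := by
  have h' : Subgroup.centralizer ({x} : Set X) = ⊤ := Subgroup.index_eq_one.mp h
  have : x ∈ Subgroup.center X := Subgroup.mem_center_iff.mpr fun g =>
    Subgroup.mem_centralizer_singleton_iff.mp (h' ▸ Subgroup.mem_top g)
  rwa [hZ, Subgroup.mem_bot] at this

theorem cs_conj (g x : X) : cs (g * x * g⁻¹) = cs x := by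
  unfold cs
  have h : Subgroup.centralizer ({g * x * g⁻¹} : Set X) =
      (Subgroup.centralizer ({x} : Set X)).map (MulAut.conj g).toMonoidHom := by
    ext y
    constructor
    · intro hy
      refine ⟨g⁻¹ * y * g, Subgroup.mem_centralizer_singleton_iff.mpr ?_, by simp [mul_assoc]⟩
      have hy' := Subgroup.mem_centralizer_singleton_iff.mp hy
      calc g⁻¹ * y * g * x = g⁻¹ * (y * (g * x * g⁻¹)) * g := by group
        _ = g⁻¹ * (g * x * g⁻¹ * y) * g := by rw [hy']
        _ = x * (g⁻¹ * y * g) := by group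
    · rintro ⟨z, hz, rfl⟩
      refine Subgroup.mem_centralizer_singleton_iff.mpr ?_
      have hz' : z * x = x * z := Subgroup.mem_centralizer_singleton_iff.mp hz
      show g * z * g⁻¹ * (g * x * g⁻¹) = g * x * g⁻¹ * (g * z * g⁻¹)
      calc g * z * g⁻¹ * (g * x * g⁻¹) = g * (z * x) * g⁻¹ := by group
        _ = g * (x * z) * g⁻¹ := by rw [hz']
        _ = _ := by group
  rw [h]
  exact Subgroup.index_map_equiv _ (MulAut.conj g)

theorem centralizer_mul_le {x y : X} (h : Commute x y) (hc : (orderOf x).Coprime (orderOf y)) :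
    Subgroup.centralizer ({x * y} : Set X) ≤ Subgroup.centralizer ({x} : Set X) := by
  intro g hg
  obtain ⟨k, hk1, hk2⟩ := Nat.chineseRemainder hc 1 0
  have hx : x = (x * y) ^ k := by
    rw [h.mul_pow, orderOf_dvd_iff_pow_eq_one.mp (Nat.modEq_zero_iff_dvd.mp hk2), mul_one]
    conv_lhs => rw [← pow_one x]
    exact (pow_eq_pow_iff_modEq.mpr hk1).symm
  refine Subgroup.mem_centralizer_singleton_iff.mpr ?_
  have hg' : Commute g (x * y) := Subgroup.mem_centralizer_singleton_iff.mp hg
  rw [hx]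
  exact (hg'.pow_right k).eq

/-- The class size of a commuting coprime product is a multiple of both class sizes. -/
theorem cs_dvd_mul {x y : X} (h : Commute x y) (hc : (orderOf x).Coprime (orderOf y)) :
    cs x ∣ cs (x * y) ∧ cs y ∣ cs (x * y) :=
  ⟨Subgroup.index_dvd_of_le (centralizer_mul_le h hc), by
    rw [h.eq]; exact Subgroup.index_dvd_of_le (centralizer_mul_le h.symm hc.symm)⟩

theorem cs_factorization_le (x : X) (r : ℕ) :
    (cs x).factorization r ≤ (Nat.card X).factorization r :=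
  (Nat.factorization_le_iff_dvd (cs_ne_zero x) Nat.card_pos.ne').mpr (cs_dvd x) r

theorem cs_factorization_eq (x : X) (r : ℕ) :
    (Nat.card (Subgroup.centralizer ({x} : Set X))).factorization r + (cs x).factorization r =
      (Nat.card X).factorization r := by
  rw [← Subgroup.card_mul_index (Subgroup.centralizer ({x} : Set X)),
    Nat.factorization_mul Nat.card_pos.ne' Subgroup.FiniteIndex.index_ne_zero]
  rfl

/-- A non-trivial central element of a Sylow subgroup. -/
theorem exists_central {r : ℕ} [Fact r.Prime] (hr : r ∣ Nat.card X) (P : Sylow r X) :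
    ∃ z ∈ (P : Subgroup X), z ≠ 1 ∧ (∀ y ∈ (P : Subgroup X), y * z = z * y) ∧
      (cs z).factorization r = 0 := by
  have hP1 : Nontrivial (P : Subgroup X) :=
    (Subgroup.nontrivial_iff_ne_bot _).mpr (P.ne_bot_of_dvd_card hr)
  have := P.isPGroup'.center_nontrivial
  obtain ⟨⟨z, hz⟩, hz1⟩ := exists_ne (1 : Subgroup.center (P : Subgroup X))
  have hc : ∀ y ∈ (P : Subgroup X), y * z = z * y := fun y hy =>
    congrArg Subtype.val (Subgroup.mem_center_iff.mp hz ⟨y, hy⟩)
  refine ⟨z, z.2, fun e => hz1 (Subtype.ext (Subtype.ext e)), hc, ?_⟩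
  refine Nat.factorization_eq_zero_of_not_dvd fun h => P.not_dvd_index ?_
  exact h.trans (Subgroup.index_dvd_of_le fun y hy =>
    Subgroup.mem_centralizer_singleton_iff.mpr (hc y hy))

theorem orderOf_eq_pow {r : ℕ} [Fact r.Prime] {P : Subgroup X} (hP : IsPGroup r P) {g : X}
    (hg : g ∈ P) : ∃ k : ℕ, orderOf g = r ^ k := by
  obtain ⟨k, hk⟩ := IsPGroup.iff_orderOf.mp hP ⟨g, hg⟩
  exact ⟨k, by rwa [Subgroup.orderOf_mk] at hk⟩

end

open scoped Pointwise in
theorem aux {G M : Type*} [Group G] [Finite G] [Group M] [Finite M] (A : Set ℕ)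
    (hZG : Subgroup.center G = ⊥) (hZM : Subgroup.center M = ⊥)
    (h : Set.range (fun g : G => cs g) = Set.range (fun g : M => cs g))
    (hdisc : ∀ a ∈ A, ∀ b ∉ A, a.Prime → b.Prime → a ∣ Nat.card M → b ∣ Nat.card M →
      ¬ ∃ x : M, orderOf x = a * b)
    (hB : ∃ b ∉ A, b.Prime ∧ b ∣ Nat.card M) {p : ℕ} (hp : p.Prime) (hpA : p ∈ A)
    (hpM : p ∣ Nat.card M) :
    (Nat.card G).factorization p ≤ (Nat.card M).factorization p := by
  classical
  have := Fact.mk hp
  set N := Nat.card M
  have key : ∀ x : M, ∀ r s : ℕ, r.Prime → r ∣ orderOf x → s.Prime → s ∣ N → ¬ (r ∈ A ↔ s ∈ A) →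
      N.factorization s ≤ (cs x).factorization s := by
    intro x r s hr hrx hs hsN hrs
    by_contra hlt
    set x' := x ^ (orderOf x / r) with hx'
    have ho : orderOf x' = r := orderOf_pow_orderOf_div (orderOf_pos x).ne' hrx
    have hrN : r ∣ N := hrx.trans (orderOf_dvd_natCard x)
    have hd : s ∣ Nat.card (Subgroup.centralizer ({x} : Set M)) := by
      refine Nat.dvd_of_factorization_pos ?_
      have e := cs_factorization_eq x s
      change _ = N.factorization s at e
      omega
    have := Fact.mk hs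
    obtain ⟨⟨y, hy⟩, hy'⟩ := exists_prime_orderOf_dvd_card' s hd
    rw [Subgroup.orderOf_mk] at hy'
    have hcom : Commute x' y :=
      ((show Commute y x from Subgroup.mem_centralizer_singleton_iff.mp hy).pow_right _).symm
    have hne : r ≠ s := fun e => hrs (by rw [e])
    have hord : orderOf (x' * y) = r * s := by
      rw [hcom.orderOf_mul_eq_mul_orderOf_of_coprime (by
        rw [ho, hy']; exact (Nat.coprime_primes hr hs).mpr hne), ho, hy']
    by_cases hrA : r ∈ A
    · exact hdisc r hrA s (fun hsA => hrs ⟨fun _ => hsA, fun _ => hrA⟩) hr hs hrN hsN ⟨_, hord⟩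
    · refine hdisc s ?_ r hrA hs hr hsN hrN ⟨x' * y, by rw [hord, mul_comm]⟩
      by_contra hsA
      exact hrs ⟨fun h => absurd h hrA, fun h => absurd h hsA⟩
  have hside : ∀ x : M, x ≠ 1 → Full N A (cs x) ∨ Full N Aᶜ (cs x) := by
    intro x hx
    have hne : orderOf x ≠ 1 := fun e => hx (orderOf_eq_one_iff.mp e)
    have hr : (orderOf x).minFac.Prime := Nat.minFac_prime hne
    by_cases hrA : (orderOf x).minFac ∈ A
    · exact Or.inr fun s hs hsN hsA =>
        key x _ s hr (Nat.minFac_dvd _) hs hsN fun e => hsA (e.mp hrA)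
    · exact Or.inl fun s hs hsN hsA =>
        key x _ s hr (Nat.minFac_dvd _) hs hsN fun e => hrA (e.mpr hsA)
  have hGside : ∀ g : G, g ≠ 1 → Full N A (cs g) ∨ Full N Aᶜ (cs g) := by
    intro g hg
    obtain ⟨x, hx⟩ : cs g ∈ Set.range (fun y : M => cs y) := h ▸ ⟨g, rfl⟩
    dsimp only at hx
    rw [← hx]
    refine hside x fun e => hg (cs_eq_one hZG ?_)
    rw [← hx, e]
    unfold cs
    rw [Subgroup.index_eq_one, eq_top_iff]
    exact fun y _ => Subgroup.mem_centralizer_singleton_iff.mpr (by simp)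
  have hboth : ∀ g : G, Full N A (cs g) → Full N Aᶜ (cs g) → False := by
    intro g h1 h2
    obtain ⟨x, hx⟩ : cs g ∈ Set.range (fun y : M => cs y) := h ▸ ⟨g, rfl⟩
    dsimp only at hx
    have hdvd : N ∣ cs x := by
      rw [← Nat.factorization_le_iff_dvd Nat.card_pos.ne' (cs_ne_zero x)]
      intro r
      by_cases hr : r.Prime ∧ r ∣ N
      · rw [hx]
        by_cases hrA : r ∈ A
        · exact h1 r hr.1 hr.2 hrA
        · exact h2 r hr.1 hr.2 hrA
      · rw [not_and_or] at hr
        rcases hr with hr | hr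
        · rw [Nat.factorization_eq_zero_of_not_prime _ hr]; exact Nat.zero_le _
        · rw [Nat.factorization_eq_zero_of_not_dvd hr]; exact Nat.zero_le _
    have heq : cs x = Nat.card M := Nat.dvd_antisymm (cs_dvd x) hdvd
    have hcard : Nat.card (Subgroup.centralizer ({x} : Set M)) = 1 := by
      have := Subgroup.card_mul_index (Subgroup.centralizer ({x} : Set M))
      rw [show (Subgroup.centralizer ({x} : Set M)).index = Nat.card M from heq] at this
      exact Nat.eq_of_mul_eq_mul_right Nat.card_pos (this.trans (one_mul _).symm)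
    have hx1 : x = 1 := by
      have hmem : x ∈ Subgroup.centralizer ({x} : Set M) :=
        Subgroup.mem_centralizer_singleton_iff.mpr rfl
      rw [Subgroup.card_eq_one.mp hcard] at hmem
      exact Subgroup.mem_bot.mp hmem
    subst hx1
    have htop : Subgroup.centralizer ({(1 : M)} : Set M) = ⊤ :=
      eq_top_iff.mpr fun y _ => Subgroup.mem_centralizer_singleton_iff.mpr (by simp)
    rw [htop, Subgroup.card_top] at hcard
    obtain ⟨b, -, hb, hbN⟩ := hB
    exact hb.not_dvd_one (hcard ▸ hbN)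
  have hGle : ∀ (g : G) (r : ℕ), (cs g).factorization r ≤ N.factorization r := by
    intro g r
    obtain ⟨x, hx⟩ : cs g ∈ Set.range (fun y : M => cs y) := h ▸ ⟨g, rfl⟩
    rw [← (hx : cs x = cs g)]
    exact cs_factorization_le x r
  by_contra hlt
  push Not at hlt
  obtain ⟨q, hqA, hq, hqN⟩ := hB
  have := Fact.mk hq
  have hqp : q ≠ p := fun e => hqA (e ▸ hpA)
  have hposq : 0 < N.factorization q := hq.factorization_pos_of_dvd Nat.card_pos.ne' hqN
  have hposp : 0 < N.factorization p := hp.factorization_pos_of_dvd Nat.card_pos.ne' hpM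
  have hqG : q ∣ Nat.card G := by
    obtain ⟨x, hx⟩ := exists_prime_orderOf_dvd_card' (G := M) p hpM
    have h1 := key x p q hp hx.symm.dvd hq hqN fun e => hqA (e.mp hpA)
    obtain ⟨g, hg⟩ : cs x ∈ Set.range (fun y : G => cs y) := h.symm ▸ ⟨x, rfl⟩
    refine (Nat.dvd_of_factorization_pos ?_).trans (cs_dvd g)
    change cs g = cs x at hg
    rw [hg]
    omega
  obtain ⟨Q⟩ : Nonempty (Sylow q G) := inferInstance
  obtain ⟨w, hwQ, hw1, -, hw0⟩ := exists_central hqG Q
  have hwA : Full N A (cs w) := (hGside w hw1).resolve_right fun hf => by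
    have h1 : N.factorization q ≤ (cs w).factorization q := hf q hq hqN hqA
    omega
  have hwp : (cs w).factorization p = N.factorization p :=
    le_antisymm (hGle w p) (hwA p hp hpM hpA)
  set Cw := Subgroup.centralizer ({w} : Set G) with hCw
  have hCwp := cs_factorization_eq w p
  rw [← hCw] at hCwp
  have hpC : p ∣ Nat.card Cw := Nat.dvd_of_factorization_pos (by omega)
  obtain ⟨U₀⟩ : Nonempty (Sylow p Cw) := inferInstance
  obtain ⟨⟨u, huC⟩, huU₀, hu1, hucen, -⟩ := exists_central hpC U₀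
  set U : Subgroup G := (U₀ : Subgroup Cw).map Cw.subtype with hU
  have hUp : IsPGroup p U := U₀.isPGroup'.map _
  have hUcard : Nat.card U = p ^ (Nat.card Cw).factorization p := by
    rw [← U₀.card_eq_multiplicity]
    exact (Nat.card_congr ((U₀ : Subgroup Cw).equivMapOfInjective _ Cw.subtype_injective).toEquiv).symm
  have huU : u ∈ U := ⟨⟨u, huC⟩, huU₀, rfl⟩
  have hu1' : u ≠ 1 := fun e => hu1 (Subtype.ext e)
  -- no non-trivial element of `U` is full outside `A`
  have hno : ∀ v ∈ U, v ≠ 1 → Full N A (cs v) := by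
    intro v hv hv1
    refine (hGside v hv1).resolve_right fun hf => ?_
    obtain ⟨i, hi⟩ := orderOf_eq_pow hUp hv
    obtain ⟨j, hj⟩ := orderOf_eq_pow Q.isPGroup' hwQ
    have hvC : v ∈ Cw := Subgroup.map_subtype_le _ hv
    have hcom : Commute v w := Subgroup.mem_centralizer_singleton_iff.mp hvC
    obtain ⟨d1, d2⟩ := cs_dvd_mul hcom (by
      rw [hi, hj]; exact Nat.Coprime.pow i j ((Nat.coprime_primes hp hq).mpr hqp.symm))
    have hle : ∀ r : ℕ, (cs v).factorization r ≤ (cs (v * w)).factorization r ∧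
        (cs w).factorization r ≤ (cs (v * w)).factorization r := fun r =>
      ⟨(Nat.factorization_le_iff_dvd (cs_ne_zero v) (cs_ne_zero _)).mpr d1 r,
       (Nat.factorization_le_iff_dvd (cs_ne_zero w) (cs_ne_zero _)).mpr d2 r⟩
    exact hboth (v * w) (fun r hr hrN hrA => (hwA r hr hrN hrA).trans (hle r).2)
      (fun r hr hrN hrA => (hf r hr hrN hrA).trans (hle r).1)
  have hup : (cs u).factorization p = N.factorization p :=
    le_antisymm (hGle u p) (hno u huU hu1' p hp hpM hpA)
  set Cu := Subgroup.centralizer ({u} : Set G) with hCu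
  have hCup := cs_factorization_eq u p
  rw [← hCu] at hCup
  have hUCu : U ≤ Cu := by
    rintro _ ⟨y, hy, rfl⟩
    exact Subgroup.mem_centralizer_singleton_iff.mpr (congrArg Subtype.val (hucen y hy))
  have hScard : Nat.card (U.subgroupOf Cu) = p ^ (Nat.card Cu).factorization p := by
    rw [Nat.card_congr (Subgroup.subgroupOfEquivOfLe hUCu).toEquiv, hUcard]
    congr 1
    omega
  let S : Sylow p Cu := Sylow.ofCard (U.subgroupOf Cu) hScard
  obtain ⟨P, hP⟩ := hUp.exists_le_sylow
  have hpG : p ∣ Nat.card G := Nat.dvd_of_factorization_pos (by omega)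
  obtain ⟨z, hzP, hz1, hzc, hz0⟩ := exists_central hpG P
  have hzu : z ∈ Cu := Subgroup.mem_centralizer_singleton_iff.mpr (hzc u (hP huU)).symm
  have hzp : IsPGroup p (Subgroup.zpowers (⟨z, hzu⟩ : Cu)) := by
    obtain ⟨i, hi⟩ := orderOf_eq_pow P.isPGroup' hzP
    exact IsPGroup.of_card (n := i) (by rw [Nat.card_zpowers, Subgroup.orderOf_mk, hi])
  obtain ⟨T, hT⟩ := hzp.exists_le_sylow
  obtain ⟨c, hc⟩ := MulAction.exists_smul_eq Cu T S
  have hz' : (c : G) * z * (c : G)⁻¹ ∈ U := by
    have h1 : MulAut.conj c • (⟨z, hzu⟩ : Cu) ∈ (c • T : Sylow p Cu) :=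
      Subgroup.smul_mem_pointwise_smul _ _ _ (hT (Subgroup.mem_zpowers _))
    rw [hc] at h1
    exact h1
  have hne : (c : G) * z * (c : G)⁻¹ ≠ 1 := fun e =>
    hz1 (by simpa [mul_assoc] using congrArg (fun t => (c : G)⁻¹ * t * (c : G)) e)
  have h2 := hno _ hz' hne p hp hpM hpA
  rw [cs_conj] at h2
  omega

theorem dvd_of_dvd {G M : Type*} [Group G] [Finite G] [Group M] [Finite M]
    (hZG : Subgroup.center G = ⊥)
    (h : Set.range (fun g : G => cs g) = Set.range (fun g : M => cs g))
    {r : ℕ} (hr : r.Prime) (hrG : r ∣ Nat.card G) : r ∣ Nat.card M := by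
  classical
  have := Fact.mk hr
  by_contra hn
  -- all classes have size prime to `r`
  have hall : ∀ g : G, ¬ r ∣ cs g := by
    intro g hd
    obtain ⟨x, hx⟩ : cs g ∈ Set.range (fun y : M => cs y) := h ▸ ⟨g, rfl⟩
    exact hn (hd.trans (hx ▸ cs_dvd x))
  obtain ⟨P⟩ : Nonempty (Sylow r G) := inferInstance
  obtain ⟨z, hzP, hz1, -, -⟩ := exists_central hrG P
  -- every element centralizes a conjugate of `P`, hence `z` is central
  have htop : Subgroup.centralizer ((P : Subgroup G) : Set G) = ⊤ :=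
    FG78.eq_top_of_conjugates_cover _ fun g => FG78.exists_conj_mem_centralizer_sylow P (hall g)
  have : z ∈ Subgroup.center G := Subgroup.mem_center_iff.mpr fun g => by
    have := htop ▸ Subgroup.mem_top g
    exact (Subgroup.mem_centralizer_iff.mp this z hzP).symm
  rw [hZG, Subgroup.mem_bot] at this
  exact hz1 this

theorem le_factorization {G M : Type*} [Group G] [Finite G] [Group M] [Finite M]
    (hZM : Subgroup.center M = ⊥)
    (h : Set.range (fun g : G => cs g) = Set.range (fun g : M => cs g)) (A : Set ℕ) {a b : ℕ}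
    (ha : a.Prime) (hb : b.Prime) (haA : a ∈ A) (hbA : b ∉ A) (haM : a ∣ Nat.card M)
    (hbM : b ∣ Nat.card M)
    (hd : ∀ a ∈ A, ∀ b ∉ A, a.Prime → b.Prime → a ∣ Nat.card M → b ∣ Nat.card M →
      ¬ ∃ x : M, orderOf x = a * b) (r : ℕ) (hr : r.Prime) :
    (Nat.card M).factorization r ≤ (Nat.card G).factorization r := by
  classical
  by_cases hrM : r ∣ Nat.card M
  swap
  · rw [Nat.factorization_eq_zero_of_not_dvd hrM]; exact Nat.zero_le _
  have := Fact.mk hr
  obtain ⟨t, ht, htM, hne⟩ : ∃ t : ℕ, t.Prime ∧ t ∣ Nat.card M ∧ ¬ (t ∈ A ↔ r ∈ A) := by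
    by_cases hrA : r ∈ A
    · exact ⟨b, hb, hbM, fun e => hbA (e.mpr hrA)⟩
    · exact ⟨a, ha, haM, fun e => hrA (e.mp haA)⟩
  have := Fact.mk ht
  obtain ⟨x, hx⟩ := exists_prime_orderOf_dvd_card' (G := M) t htM
  have hfree : ¬ r ∣ Nat.card (Subgroup.centralizer ({x} : Set M)) := by
    intro hdv
    obtain ⟨⟨y, hy⟩, hy'⟩ := exists_prime_orderOf_dvd_card' r hdv
    rw [Subgroup.orderOf_mk] at hy'
    have hcom : Commute x y := (show Commute y x from Subgroup.mem_centralizer_singleton_iff.mp hy).symm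
    have htr : t ≠ r := fun e => hne (by rw [e])
    have hord : orderOf (x * y) = t * r := by
      rw [hcom.orderOf_mul_eq_mul_orderOf_of_coprime (by
        rw [hx, hy']; exact (Nat.coprime_primes ht hr).mpr htr), hx, hy']
    by_cases htA : t ∈ A
    · exact hd t htA r (fun hrA => hne ⟨fun _ => hrA, fun _ => htA⟩) ht hr htM hrM ⟨_, hord⟩
    · refine hd r ?_ t htA hr ht hrM htM ⟨_, by rw [hord, mul_comm]⟩
      by_contra hrA
      exact hne ⟨fun h => absurd h htA, fun h => absurd h hrA⟩
  have h1 := cs_factorization_eq x r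
  rw [Nat.factorization_eq_zero_of_not_dvd hfree, zero_add] at h1
  obtain ⟨g, hg⟩ : cs x ∈ Set.range (fun y : G => cs y) := h.symm ▸ ⟨x, rfl⟩
  rw [← h1, ← (hg : cs g = cs x)]
  exact cs_factorization_le g r

/-- Let G and M be finite groups with trivial centres and the same set of conjugacy class sizes, and suppose the prime graph of M is disconnected: the prime divisors of #M split into two non-empty parts such that M has no element of order pq with p in one part and q in the other. Then #G = #M. -/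
theorem result {G M : Type*}
    [Group G] [Finite G] [Group M] [Finite M] (hZG : Subgroup.center G = ⊥) (hZM : Subgroup.center M = ⊥)
    (h : Set.range (fun g : G => (Subgroup.centralizer ({g} : Set G)).index) = Set.range (fun g : M => (Subgroup.centralizer ({g} : Set M)).index))
    (hdisc : ∃ A : Set ℕ, (∃ a ∈ A, a.Prime ∧ a ∣ Nat.card M) ∧ (∃ b ∉ A, b.Prime ∧ b ∣ Nat.card M) ∧
      ∀ a ∈ A, ∀ b ∉ A, a.Prime → b.Prime → a ∣ Nat.card M → b ∣ Nat.card M → ¬ ∃ x : M, orderOf x = a * b) :
    Nat.card G = Nat.card M := by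
  obtain ⟨A, ⟨a, haA, ha, haM⟩, ⟨b, hbA, hb, hbM⟩, hd⟩ := hdisc
  refine Nat.eq_of_factorization_eq Nat.card_pos.ne' Nat.card_pos.ne' fun r => ?_
  by_cases hr : r.Prime
  swap
  · simp [Nat.factorization_eq_zero_of_not_prime _ hr]
  refine le_antisymm ?_ ?_
  · by_cases hrM : r ∣ Nat.card M
    · by_cases hrA : r ∈ A
      · exact aux A hZG hZM h hd ⟨b, hbA, hb, hbM⟩ hr hrA hrM
      · exact aux Aᶜ hZG hZM h (fun x hx y hy hxp hyp hxM hyM ⟨g, hg⟩ =>
          hd y (by simpa using hy) x hx hyp hxp hyM hxM ⟨g, by rw [hg, mul_comm]⟩)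
          ⟨a, fun h => h haA, ha, haM⟩ hr hrA hrM
    · rw [Nat.factorization_eq_zero_of_not_dvd fun hd' => hrM (dvd_of_dvd hZG h hr hd')]
      exact Nat.zero_le _
  · exact le_factorization hZM h A ha hb haA hbA haM hbM hd r hr

end Cfsg.Agent.S4184
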