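import Cfsg.Statements.S4186
import Mathlib

set_option autoImplicit false
open Cfsg

namespace Cfsg.Agent.S4186

/-- Let T and X be subgroups of a group with T a finite 2-group normalizing X but not centralizing it. Then some element of T inverts some non-identity element of X under conjugation. -/
theorem result {G : Type*} [Group G] (T X : Subgroup G) [Finite ↥T] (hT : IsPGroup 2 ↥T) (hTN : T ≤ Subgroup.normalizer (X : Set G)) (hTC : ¬ T ≤ Subgroup.centralizer (X : Set G)) : ∃ t ∈ T, ∃ x ∈ X, x ≠ 1 ∧ t * x * t⁻¹ = x⁻¹ := by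
  classical
  obtain ⟨t, htT, htC⟩ := SetLike.not_le_iff_exists.mp hTC
  obtain ⟨k, hk⟩ := hT ⟨t, htT⟩
  have hk' : t ^ (2 ^ k) ∈ Subgroup.centralizer (X : Set G) := by
    have : t ^ (2 ^ k) = 1 := by simpa using congrArg Subtype.val hk
    rw [this]; exact one_mem _
  have hex : ∃ i, t ^ (2 ^ i) ∈ Subgroup.centralizer (X : Set G) := ⟨k, hk'⟩
  obtain ⟨i, hi⟩ : ∃ i, Nat.find hex = i + 1 := by
    rcases hh : Nat.find hex with _ | i
    · have := Nat.find_spec hex; rw [hh] at this; simp at this; exact absurd this htC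
    · exact ⟨i, rfl⟩
  have hs : t ^ (2 ^ i) ∉ Subgroup.centralizer (X : Set G) := Nat.find_min hex (by omega)
  have hs2 : t ^ (2 ^ (i+1)) ∈ Subgroup.centralizer (X : Set G) := hi ▸ Nat.find_spec hex
  set s := t ^ (2 ^ i) with hsdef
  have hs2' : s * s ∈ Subgroup.centralizer (X : Set G) := by
    rwa [hsdef, ← pow_add, ← two_mul, ← pow_succ']
  have hsT : s ∈ T := pow_mem htT _
  rw [Subgroup.mem_centralizer_iff] at hs hs2'
  push Not at hs
  obtain ⟨x, hx, hxs⟩ := hs
  have hconj : s * x * s⁻¹ ∈ X := (Subgroup.mem_normalizer_iff.mp (hTN hsT) x).mp hx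
  refine ⟨s, hsT, s * x * s⁻¹ * x⁻¹, mul_mem hconj (inv_mem hx), ?_, ?_⟩
  · intro h; apply hxs
    rw [mul_inv_eq_one] at h
    rw [mul_inv_eq_iff_eq_mul] at h
    exact h.symm
  · have := hs2' x hx
    calc s * (s * x * s⁻¹ * x⁻¹) * s⁻¹ = (s * s) * x * (s * s)⁻¹ * (s * x⁻¹ * s⁻¹) := by group
      _ = x * (s * x⁻¹ * s⁻¹) := by rw [← this]; group
      _ = _ := by group

end Cfsg.Agent.S4186
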