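import Cfsg.Statements.S4188
import Mathlib
import Cfsg.Agent.Lib.PGroup.NormalAbelian
import Cfsg.Agent.Lib.PGroup.Basic

set_option autoImplicit false
open Cfsg

namespace Cfsg.Agent.S4188

open Subgroup
open scoped commutatorElement

universe u

/-- The sharp bound used in the induction. -/
def bnd (n : ℕ) : ℕ := if n = 3 then 2 else (n - 1) / 2

theorem two_le_bnd {n : ℕ} (hn : Odd n) (h : 1 < n) : 2 ≤ bnd n := by
  unfold bnd; obtain ⟨k, rfl⟩ := hn; split_ifs <;> omega

theorem four_le_bnd {n : ℕ} (h : 9 ≤ n) : 4 ≤ bnd n := by unfold bnd; split_ifs <;> omega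

theorem eight_le_bnd {n : ℕ} (h : 17 ≤ n) : 8 ≤ bnd n := by unfold bnd; split_ifs <;> omega

theorem bnd_le {n : ℕ} (h : 1 < n) : bnd n ≤ n - 1 := by unfold bnd; split_ifs <;> omega

theorem bnd_mul {a b : ℕ} (ha : Odd a) (hb : Odd b) (ha1 : 1 < a) (hb1 : 1 < b) :
    bnd a * bnd b ≤ bnd (a * b) := by
  obtain ⟨x, rfl⟩ := ha
  obtain ⟨y, rfl⟩ := hb
  have hab : (2 * x + 1) * (2 * y + 1) ≠ 3 := by nlinarith
  have h2 : ((2 * x + 1) * (2 * y + 1) - 1) / 2 = 2 * x * y + x + y := by
    rw [show (2 * x + 1) * (2 * y + 1) = 2 * (2 * x * y + x + y) + 1 by ring]; omega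
  have hx : bnd (2 * x + 1) ≤ x + 1 ∧ (2 ≤ x → bnd (2 * x + 1) ≤ x) := by
    unfold bnd; constructor <;> intros <;> split_ifs <;> omega
  have hy : bnd (2 * y + 1) ≤ y + 1 := by unfold bnd; split_ifs <;> omega
  calc bnd (2 * x + 1) * bnd (2 * y + 1) ≤ (x + 1) * (y + 1) := Nat.mul_le_mul hx.1 hy
    _ ≤ 2 * x * y + x + y := by nlinarith [show 1 ≤ x * y from Nat.mul_pos (by omega) (by omega)]
    _ = _ := by rw [bnd, if_neg hab, h2]

theorem two_mul_bnd_sq {a : ℕ} (ha : Odd a) (ha1 : 1 < a) (ha3 : a ≠ 3) :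
    2 * (bnd a * bnd a) ≤ bnd (a * a) := by
  obtain ⟨x, rfl⟩ := ha
  have hx : bnd (2 * x + 1) = x := by unfold bnd; rw [if_neg ha3]; omega
  have h9 : (2 * x + 1) * (2 * x + 1) ≠ 3 := by nlinarith
  rw [hx, bnd, if_neg h9, show (2 * x + 1) * (2 * x + 1) = 2 * (2 * x * x + 2 * x) + 1 by ring]
  rw [show 2 * (x * x) = 2 * x * x by ring]
  omega

section Frattini
variable {P : Type u} [Group P] [Finite P]

theorem sq_mem_frattini (hP : IsPGroup 2 P) (x : P) : x ^ 2 ∈ frattini P :=
  haveI := Fact.mk Nat.prime_two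
  Cfsg.Agent.PGroup.pow_mem_frattini hP x

theorem index_le_mul (hP : IsPGroup 2 P) (K : Subgroup P) [K.Normal] :
    (frattini P).index ≤ (frattini (P ⧸ K)).index * (frattini K).index := by
  haveI := Fact.mk Nat.prime_two
  set F := frattini P
  have hKF : (frattini K).map K.subtype ≤ F := by
    rw [Cfsg.Agent.PGroup.frattini_eq_closure_sq (hP.to_subgroup K), MonoidHom.map_closure,
      closure_le]
    rintro _ ⟨_, ⟨x, rfl⟩, rfl⟩
    simpa using sq_mem_frattini hP (x : P)
  have hFK : (F ⊔ K).index ≤ (frattini (P ⧸ K)).index := by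
    have hle : (frattini (P ⧸ K)).comap (QuotientGroup.mk' K) ≤ F ⊔ K := by
      rw [Cfsg.Agent.PGroup.frattini_eq_closure_sq (hP.to_quotient K)]
      have : closure (Set.range fun x : P ⧸ K => x ^ 2) ≤ F.map (QuotientGroup.mk' K) := by
        rw [closure_le]
        rintro _ ⟨x, rfl⟩
        obtain ⟨g, rfl⟩ := QuotientGroup.mk'_surjective K x
        exact ⟨g ^ 2, sq_mem_frattini hP g, map_pow _ _ _⟩
      refine (comap_mono this).trans ?_
      rw [comap_map_eq, QuotientGroup.ker_mk']
    calc (F ⊔ K).index ≤ ((frattini (P ⧸ K)).comap (QuotientGroup.mk' K)).index :=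
          Nat.le_of_dvd (Nat.pos_of_ne_zero FiniteIndex.index_ne_zero) (index_dvd_of_le hle)
      _ = _ := index_comap_of_surjective _ (QuotientGroup.mk'_surjective K)
  have h2 : F.relIndex (F ⊔ K) ≤ (frattini K).index := by
    rw [sup_comm, relIndex_sup_right]
    calc F.relIndex K ≤ ((frattini K).map K.subtype).relIndex K :=
          Nat.le_of_dvd (Nat.pos_of_ne_zero (FiniteIndex.index_ne_zero (H := _)))
            (relIndex_dvd_of_le_left K hKF)
      _ = (frattini K).index := by
          rw [relIndex, subgroupOf, comap_map_eq_self_of_injective K.subtype_injective]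
  rw [← relIndex_mul_index (le_sup_left : F ≤ F ⊔ K), mul_comm]
  exact Nat.mul_le_mul hFK h2

theorem index_le_card (H : Subgroup P) : H.index ≤ Nat.card P :=
  Nat.le_of_dvd Nat.card_pos H.index_dvd_card

theorem index_cyclic (hP : IsPGroup 2 P) [IsCyclic P] : (frattini P).index ≤ 2 := by
  have : IsCyclic (P ⧸ frattini P) :=
    isCyclic_of_surjective _ (QuotientGroup.mk'_surjective _)
  rw [index_eq_card, ← IsCyclic.exponent_eq_card]
  refine Nat.le_of_dvd two_pos (Monoid.exponent_dvd_of_forall_pow_eq_one fun x => ?_)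
  induction x using QuotientGroup.induction_on with | _ g => ?_
  exact (QuotientGroup.eq_one_iff _).mpr (sq_mem_frattini hP g)

theorem index_abelian (hP : IsPGroup 2 P) (hab : ∀ a b : P, a * b = b * a) :
    (frattini P).index ≤ Nat.card {x : P // x ^ 2 = 1} := by
  let f : P →* P :=
    { toFun := fun x => x ^ 2, map_one' := one_pow _
      map_mul' := fun a b => Commute.mul_pow (hab a b) 2 }
  have hle : f.range ≤ frattini P := by
    rintro _ ⟨x, rfl⟩; exact sq_mem_frattini hP x
  refine (Nat.le_of_dvd (Nat.pos_of_ne_zero (FiniteIndex.index_ne_zero (H := f.range)))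
    (index_dvd_of_le hle)).trans (le_of_eq ?_)
  refine Nat.eq_of_mul_eq_mul_left (Nat.card_pos (α := f.range)) ?_
  rw [card_mul_index, ← card_mul_index f.ker, index_ker, mul_comm]
  rfl

end Frattini

/-- In a finite group of odd order an element equal to its inverse is trivial. -/
theorem eq_one_of_sq_odd {V : Type*} [Group V] [Finite V] (ho : Odd (Nat.card V)) {v : V}
    (h : v * v = 1) : v = 1 := by
  have h2 : orderOf v ∣ 2 := orderOf_dvd_of_pow_eq_one (by rw [pow_two, h])
  exact orderOf_eq_one_iff.mp (Nat.eq_one_of_dvd_coprimes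
    (Nat.Coprime.symm (Nat.coprime_two_left.mpr ho)) (orderOf_dvd_natCard v) h2 )

/-- A `2`-group stabilizing a series of an odd order abelian group acts trivially. -/
theorem stab_trivial {V : Type u} [CommGroup V] [Finite V] (ho : Odd (Nat.card V)) {P : Type u}
    [Group P] (hP : IsPGroup 2 P) (φ : P →* MulAut V) (k : P) (W : Subgroup V)
    (hW : ∀ w ∈ W, φ k w = w) (hq : ∀ v, v⁻¹ * φ k v ∈ W) : φ k = 1 := by
  ext v
  obtain ⟨w, hw, e⟩ : ∃ w ∈ W, φ k v = v * w := ⟨_, hq v, by group⟩
  have hit : ∀ m : ℕ, φ (k ^ m) v = v * w ^ m := by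
    intro m
    induction m with
    | zero => simp
    | succ m ih =>
      rw [pow_succ', map_mul, MulAut.mul_apply, ih, map_mul, e, hW _ (pow_mem hw m), pow_succ']
      group
  obtain ⟨a, ha⟩ := hP k
  have h1 := hit (2 ^ a)
  rw [ha, map_one, MulAut.one_apply, left_eq_mul] at h1
  have : orderOf w = 1 := Nat.eq_one_of_dvd_coprimes
    ((Nat.Coprime.symm (Nat.coprime_two_left.mpr ho)).pow_right a) (orderOf_dvd_natCard w)
    (orderOf_dvd_of_pow_eq_one h1)
  rw [e, orderOf_eq_one_iff.mp this, mul_one, MulAut.one_apply]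

/-- Restriction of an action to an invariant subgroup. -/
def restr {V : Type u} [CommGroup V] {P : Type u} [Group P] (φ : P →* MulAut V) (W : Subgroup V)
    (h : ∀ g, ∀ w ∈ W, φ g w ∈ W) : P →* MulAut W where
  toFun g :=
    { toFun := fun w => ⟨φ g w, h g w w.2⟩
      invFun := fun w => ⟨φ g⁻¹ w, h g⁻¹ w w.2⟩
      left_inv := fun w => Subtype.ext (by simp)
      right_inv := fun w => Subtype.ext (by simp)
      map_mul' := fun a b => Subtype.ext (map_mul (φ g) (a : V) b) }
  map_one' := by ext w; simp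
  map_mul' a b := by ext w; simp

theorem restr_apply {V : Type u} [CommGroup V] {P : Type u} [Group P] (φ : P →* MulAut V)
    (W : Subgroup V) (h : ∀ g, ∀ w ∈ W, φ g w ∈ W) (g : P) (w : W) :
    ((restr φ W h g w : W) : V) = φ g w := rfl

/-- The action on the quotient by an invariant subgroup. -/
noncomputable def quotAct {V : Type u} [CommGroup V] {P : Type u} [Group P] (φ : P →* MulAut V)
    (W : Subgroup V) (h : ∀ g, ∀ w ∈ W, φ g w ∈ W) : P →* MulAut (V ⧸ W) where
  toFun g := QuotientGroup.congr W W (φ g) (le_antisymm (by rintro _ ⟨w, hw, rfl⟩; exact h g w hw)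
    fun w hw => ⟨φ g⁻¹ w, h g⁻¹ w hw, by simp⟩)
  map_one' := by
    ext x; induction x using QuotientGroup.induction_on with | _ v => ?_
    simp [QuotientGroup.congr]
  map_mul' a b := by
    ext x; induction x using QuotientGroup.induction_on with | _ v => ?_
    simp [QuotientGroup.congr]

/-- The inductive hypothesis: the bound for all smaller modules. -/
def Bound (n : ℕ) : Prop :=
  ∀ (W : Type u) [CommGroup W] [Finite W], Nat.card W < n → Odd (Nat.card W) → 1 < Nat.card W →
    ∀ (P : Type u) [Group P] [Finite P], IsPGroup 2 P → ∀ φ : P →* MulAut W,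
      Function.Injective φ → (frattini P).index ≤ bnd (Nat.card W)

theorem index_le_of_ker {n : ℕ} (ih : Bound.{u} n) {W : Type u} [CommGroup W] [Finite W]
    (hlt : Nat.card W < n) (ho : Odd (Nat.card W)) (h1 : 1 < Nat.card W)
    {P : Type u} [Group P] [Finite P] (hP : IsPGroup 2 P) (ψ : P →* MulAut W) :
    (frattini P).index ≤ bnd (Nat.card W) * (frattini ψ.ker).index := by
  refine (index_le_mul hP ψ.ker).trans (Nat.mul_le_mul_right _ ?_)
  exact ih W hlt ho h1 _ (hP.to_quotient _) (QuotientGroup.kerLift ψ) (QuotientGroup.kerLift_injective ψ)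

theorem case_reducible {V : Type u} [CommGroup V] [Finite V] (ho : Odd (Nat.card V))
    (ih : Bound.{u} (Nat.card V)) {P : Type u} [Group P] [Finite P] (hP : IsPGroup 2 P)
    (φ : P →* MulAut V) (hφ : Function.Injective φ) (W : Subgroup V)
    (h : ∀ g, ∀ w ∈ W, φ g w ∈ W) (hb : W ≠ ⊥) (ht : W ≠ ⊤) :
    (frattini P).index ≤ bnd (Nat.card V) := by
  have hW1 : 1 < Nat.card W := W.one_lt_card_iff_ne_bot.mpr hb
  have hQ1 : 1 < Nat.card (V ⧸ W) := by
    rw [← index_eq_card]
    have h0 : W.index ≠ 0 := FiniteIndex.index_ne_zero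
    have := mt index_eq_one.mp ht
    omega
  have hc := card_eq_card_quotient_mul_card_subgroup W
  have hoW : Odd (Nat.card W) := Odd.of_dvd_nat ho W.card_subgroup_dvd_card
  have hoQ : Odd (Nat.card (V ⧸ W)) := Odd.of_dvd_nat ho W.card_quotient_dvd_card
  refine (index_le_of_ker ih (W := W) (by rw [hc]; exact lt_mul_of_one_lt_left (by omega) hQ1) hoW hW1 hP
    (restr φ W h)).trans ?_
  rw [hc, mul_comm (Nat.card (V ⧸ W))]
  refine le_trans (Nat.mul_le_mul_left _ ?_) (bnd_mul hoW hoQ hW1 hQ1)
  refine ih (V ⧸ W) (by rw [hc]; exact lt_mul_of_one_lt_right (by omega) hW1) hoQ hQ1 _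
    (hP.to_subgroup _) ((quotAct φ W h).comp (restr φ W h).ker.subtype) ?_
  rw [injective_iff_map_eq_one]
  intro k hk
  have hk2 : (k : P) ∈ (restr φ W h).ker := k.2
  refine Subtype.ext (hφ ?_)
  rw [Subgroup.coe_one, map_one]
  refine stab_trivial ho hP φ (k : P) W (fun w hw => ?_) fun v => ?_
  · have := congrArg (fun f : MulAut W => ((f ⟨w, hw⟩ : W) : V)) hk2
    simpa [restr] using this
  · have := DFunLike.congr_fun hk (v : V ⧸ W)
    exact QuotientGroup.eq.mp this.symm

theorem case_prime {V : Type u} [CommGroup V] [Finite V] (ho : Odd (Nat.card V))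
    (hp : (Nat.card V).Prime) {P : Type u} [Group P] [Finite P] (hP : IsPGroup 2 P)
    (φ : P →* MulAut V) (hφ : Function.Injective φ) : (frattini P).index ≤ bnd (Nat.card V) := by
  haveI := Fact.mk hp
  haveI : IsCyclic V := isCyclic_of_prime_card rfl
  haveI : IsCyclic P := isCyclic_of_injective
    ((IsCyclic.mulAutMulEquiv V).toMonoidHom.comp φ)
    ((IsCyclic.mulAutMulEquiv V).injective.comp hφ)
  exact (index_cyclic hP).trans (two_le_bnd ho hp.one_lt)

theorem case_four {V : Type u} [CommGroup V] [Finite V] (ho : Odd (Nat.card V))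
    (ih : Bound.{u} (Nat.card V)) {P : Type u} [Group P] [Finite P] (hP : IsPGroup 2 P)
    (φ : P →* MulAut V) (hφ : Function.Injective φ)
    (hirr : ∀ W : Subgroup V, (∀ g, ∀ w ∈ W, φ g w ∈ W) → W = ⊥ ∨ W = ⊤)
    (B : Subgroup P) [B.Normal] (hexp : ∀ b ∈ B, b ^ 2 = 1) (hB : Nat.card B = 4) :
    (frattini P).index ≤ bnd (Nat.card V) := by
  haveI := Fact.mk Nat.prime_two
  obtain ⟨z, hzm, hz1⟩ := (Subgroup.ne_bot_iff_exists_ne_one.mp
    (Cfsg.Agent.PGroup.inf_center_ne_bot hP (N := B) (fun h => by simp [h] at hB))) |> fun ⟨x, hx⟩ =>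
      (⟨x.1, x.2, fun e => hx (Subtype.ext e)⟩ : ∃ z, z ∈ B ⊓ center P ∧ z ≠ 1)
  have hzB : z ∈ B := hzm.1
  have hzc : ∀ g, g * z = z * g := fun g => mem_center_iff.mp hzm.2 g
  have invol : ∀ b ∈ B, ∀ v, φ b (φ b v) = v := fun b hb v => by
    rw [← MulAut.mul_apply, ← map_mul, ← pow_two, hexp b hb, map_one, MulAut.one_apply]
  have central_inv : ∀ b ∈ B, b ≠ 1 → (∀ g, g * b = b * g) → ∀ v, φ b v = v⁻¹ := by
    intro b hb hb1 hc
    let W : Subgroup V := (φ b).toMonoidHom.eqLocus (MonoidHom.id V)
    rcases hirr W (fun g w (hw : φ b w = w) => show φ b (φ g w) = φ g w by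
      rw [← MulAut.mul_apply, ← map_mul, ← hc, map_mul, MulAut.mul_apply, hw]) with h | h
    · intro v
      have : v * φ b v ∈ W := show φ b (v * φ b v) = v * φ b v by
        rw [map_mul, invol b hb, mul_comm]
      rw [h, mem_bot] at this
      exact eq_inv_of_mul_eq_one_right this
    · refine absurd (hφ ?_) hb1
      rw [map_one]; ext v
      exact (h ▸ mem_top v : v ∈ W)
  have hz := central_inv z hzB hz1 hzc
  obtain ⟨e, heB, he1, hez⟩ : ∃ e ∈ B, e ≠ 1 ∧ e ≠ z := by
    by_contra hc
    push Not at hc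
    have : (B : Set P) ⊆ {1, z} := fun b hb => by
      rcases eq_or_ne b 1 with h | h
      · exact Or.inl h
      · exact Or.inr (hc b hb h)
    have h2 := Set.ncard_le_ncard this
    have h3 : ({1, z} : Set P).ncard ≤ 2 := (Set.ncard_insert_le _ _).trans (by simp)
    rw [← Nat.card_coe_set_eq] at h2
    change Nat.card B ≤ _ at h2
    omega
  classical
  have hBset : ∀ b ∈ B, b = 1 ∨ b = z ∨ b = e ∨ b = z * e := by
    intro b hb
    by_contra hcon
    push Not at hcon
    obtain ⟨n1, n2, n3, n4⟩ := hcon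
    have hze1 : z * e ≠ 1 := fun h => hez (by
      have h2 := hexp z hzB; rw [pow_two] at h2
      exact mul_left_cancel (h.trans h2.symm))
    have sub : (↑({1, z, e, z * e, b} : Finset P) : Set P) ⊆ B := by
      intro x hx
      simp only [Finset.coe_insert, Finset.coe_singleton, Set.mem_insert_iff,
        Set.mem_singleton_iff] at hx
      rcases hx with rfl | rfl | rfl | rfl | rfl
      · exact one_mem B
      · exact hzB
      · exact heB
      · exact mul_mem hzB heB
      · exact hb
    have h2 := Set.ncard_le_ncard sub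
    rw [Set.ncard_coe_finset, ← Nat.card_coe_set_eq] at h2
    change _ ≤ Nat.card B at h2
    have : ({1, z, e, z * e, b} : Finset P).card = 5 := by
      have q1 : z * e ≠ z := by simp [he1]
      have q2 : z * e ≠ e := by simp [hz1]
      simp [Finset.card_insert_of_notMem, q1.symm, q2.symm, hz1.symm, he1.symm, hze1.symm, n1.symm, hez.symm,
        n2.symm, n3.symm, n4.symm]
    omega
  obtain ⟨t, ht⟩ : ∃ t, t * e * t⁻¹ ≠ e := by
    by_contra hc
    push Not at hc
    have hec : ∀ g, g * e = e * g := fun g => mul_inv_eq_iff_eq_mul.mp (hc g)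
    exact hez (hφ (MulEquiv.ext fun v => by rw [central_inv e heB he1 hec, hz]))
  have conj_e : ∀ g, g * e * g⁻¹ = e ∨ g * e * g⁻¹ = z * e := by
    intro g
    rcases hBset _ ((inferInstance : B.Normal).conj_mem e heB g) with h | h | h | h
    · exact absurd (conj_eq_one_iff.mp h) he1
    · refine absurd ?_ hez
      calc e = g⁻¹ * (g * e * g⁻¹) * g := by group
        _ = g⁻¹ * (z * g) := by rw [h, mul_assoc]
        _ = z := by rw [← hzc, inv_mul_cancel_left]
    · exact Or.inl h
    · exact Or.inr h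
  have hte : t * e * t⁻¹ = z * e := (conj_e t).resolve_left ht
  set M := centralizer ({e} : Set P) with hMdef
  have memM : ∀ g, g ∈ M ↔ g * e * g⁻¹ = e := fun g => by
    rw [hMdef, mem_centralizer_singleton_iff, mul_inv_eq_iff_eq_mul]
  have hMi : M.index ≤ 2 := by
    rw [index_eq_card]
    refine (Nat.card_le_card_of_surjective (fun b : Bool => ((if b then t else 1 : P) : P ⧸ M)) ?_).trans
      (le_of_eq (by simp))
    intro q
    induction q using QuotientGroup.induction_on with | _ g => ?_
    rcases conj_e g with h | h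
    · exact ⟨false, QuotientGroup.eq.mpr (by simpa using (memM g).mpr h)⟩
    · refine ⟨true, QuotientGroup.eq.mpr ((memM _).mpr ?_)⟩
      show t⁻¹ * g * e * (t⁻¹ * g)⁻¹ = e
      calc t⁻¹ * g * e * (t⁻¹ * g)⁻¹ = t⁻¹ * (g * e * g⁻¹) * t := by group
        _ = t⁻¹ * (t * e * t⁻¹) * t := by rw [h, hte]
        _ = e := by group
  have hMne : M ≠ ⊤ := fun h => ht ((memM t).mp (h ▸ mem_top t))
  have hMi2 : M.index = 2 := by
    have h0 : M.index ≠ 0 := FiniteIndex.index_ne_zero
    have := mt index_eq_one.mp hMne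
    omega
  haveI hMn : M.Normal := normal_of_index_eq_two hMi2
  let W : Subgroup V := (φ e).toMonoidHom.eqLocus (MonoidHom.id V)
  let W' : Subgroup V := W.map (φ t).toMonoidHom
  have memW : ∀ v, v ∈ W ↔ φ e v = v := fun v => Iff.rfl
  have memW' : ∀ v, v ∈ W' ↔ φ e v = v⁻¹ := by
    intro v
    have key : ∀ w, φ (z * e) (φ t w) = φ t (φ e w) := fun w => by
      rw [← hte, ← MulAut.mul_apply, ← map_mul, ← MulAut.mul_apply, ← map_mul]; group
    constructor
    · rintro ⟨w, hw, rfl⟩
      have := key w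
      rw [(memW w).mp hw, map_mul, MulAut.mul_apply, hz, inv_eq_iff_eq_inv] at this
      exact this
    · intro hv
      refine ⟨φ t⁻¹ v, (memW _).mpr ?_, by simp⟩
      apply (φ t).injective
      have := key (φ t⁻¹ v)
      have h1 : φ t (φ t⁻¹ v) = v := by simp
      rw [← this, h1, map_mul, MulAut.mul_apply, hv, hz, inv_inv]
  have hWM : ∀ g ∈ M, ∀ v, φ e (φ g v) = φ g (φ e v) := fun g hg v => by
    rw [← MulAut.mul_apply, ← map_mul, ← mul_inv_eq_iff_eq_mul.mp ((memM g).mp hg), map_mul,
      MulAut.mul_apply]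
  have hcardW' : Nat.card W' = Nat.card W := card_map_of_injective (φ t).injective
  have hbij : Function.Bijective (fun p : W × W' => (p.1 : V) * p.2) := by
    constructor
    · rintro ⟨a, b⟩ ⟨c, d⟩ (h : (a : V) * b = c * d)
      have h' : (a : V) * (c : V)⁻¹ = (d : V) * (b : V)⁻¹ := by
        calc (a : V) * (c : V)⁻¹ = (a * b) * ((b : V)⁻¹ * (c : V)⁻¹) := by group
          _ = (c * d) * ((c : V)⁻¹ * (b : V)⁻¹) := by rw [h, mul_comm (b : V)⁻¹]
          _ = _ := by rw [mul_comm (c : V) d, mul_assoc, mul_inv_cancel_left]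
      have h1 := (memW _).mp (mul_mem a.2 (inv_mem c.2))
      have h2 := (memW' _).mp (mul_mem d.2 (inv_mem b.2))
      rw [← h'] at h2
      have : (a : V) * (c : V)⁻¹ = 1 := eq_one_of_sq_odd ho
        (by nth_rewrite 1 [← h1]; rw [h2, inv_mul_cancel])
      have hac := mul_inv_eq_one.mp this
      have hdb := mul_inv_eq_one.mp (h' ▸ this)
      exact Prod.ext (Subtype.ext hac) (Subtype.ext hdb.symm)
    · intro v
      obtain ⟨m, hm⟩ := ho
      set u := v ^ (m + 1) with hu
      have hu2 : u * u = v := by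
        rw [hu, ← pow_add, show m + 1 + (m + 1) = Nat.card V + 1 by omega, pow_succ,
          pow_card_eq_one', one_mul]
      refine ⟨(⟨u * φ e u, (memW _).mpr ?_⟩, ⟨u * (φ e u)⁻¹, (memW' _).mpr ?_⟩), ?_⟩
      · rw [map_mul, invol e heB, mul_comm]
      · rw [map_mul, map_inv, invol e heB, mul_inv_rev, inv_inv]
      · show u * φ e u * (u * (φ e u)⁻¹) = v
        rw [mul_mul_mul_comm, mul_inv_cancel, mul_one, hu2]
  have hn : Nat.card W * Nat.card W = Nat.card V := by
    rw [← Nat.card_congr (Equiv.ofBijective _ hbij), Nat.card_prod, hcardW']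
  have hW1 : 1 < Nat.card W := by
    rw [one_lt_card_iff_ne_bot]
    intro h
    refine hez (hφ (MulEquiv.ext fun v => ?_))
    have : v * φ e v ∈ W := (memW _).mpr (by rw [map_mul, invol e heB, mul_comm])
    rw [h, mem_bot] at this
    rw [hz]
    exact eq_inv_of_mul_eq_one_right this
  have hlt : Nat.card W < Nat.card V := hn ▸ lt_mul_of_one_lt_right (by omega) hW1
  have hoW : Odd (Nat.card W) := Odd.of_dvd_nat ho W.card_subgroup_dvd_card
  let φM := φ.comp M.subtype
  let ψ := restr φM W fun g w (hw : φ e w = w) =>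
    show φ e (φ g w) = φ g w by rw [hWM g g.2, hw]
  let ψ' := restr φM W' fun g w hw => (memW' _).mpr
    (show φ e (φ g w) = (φ g w)⁻¹ by rw [hWM g g.2, (memW' w).mp hw, map_inv])
  have hker : Function.Injective (ψ'.comp ψ.ker.subtype) := by
    rw [injective_iff_map_eq_one]
    intro k hk
    have hk1 : (k : M) ∈ ψ.ker := k.2
    refine Subtype.ext (Subtype.ext (hφ (MulEquiv.ext fun v => ?_)))
    obtain ⟨⟨a, b⟩, rfl⟩ := hbij.2 v
    rw [Subgroup.coe_one, Subgroup.coe_one, map_one, MulAut.one_apply, map_mul]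
    have ea : φ (k : M) a = a := congrArg (fun f : MulAut W => ((f a : W) : V)) hk1
    have eb : φ (k : M) b = b := congrArg (fun f : MulAut W' => ((f b : W') : V)) hk
    rw [ea, eb]
  by_cases h3 : Nat.card W = 3
  · refine le_trans ?_ (four_le_bnd (by rw [← hn, h3]))
    have hM4 : Nat.card M ≤ 4 := by
      have hinj : Function.Injective (ψ.prod ψ') := by
        rw [injective_iff_map_eq_one]
        intro k hk
        have h1 : (⟨k, congrArg Prod.fst hk⟩ : ψ.ker) = 1 := hker (by
          rw [map_one]; exact congrArg Prod.snd hk)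
        exact congrArg Subtype.val h1
      refine (Nat.card_le_card_of_injective _ hinj).trans ?_
      rw [Nat.card_prod]
      haveI := Fact.mk Nat.prime_three
      haveI : IsCyclic W := isCyclic_of_prime_card h3
      haveI : IsCyclic W' := isCyclic_of_prime_card (hcardW'.trans h3)
      rw [IsCyclic.card_mulAut, IsCyclic.card_mulAut, hcardW', h3]
      decide
    have hP8 : Nat.card P ≤ 8 := by
      rw [← card_mul_index M, hMi2]; omega
    have hF : frattini P ≠ ⊥ := fun h => by
      have := Cfsg.Agent.PGroup.comm_mem_frattini hP t e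
      rw [h, mem_bot, commutatorElement_eq_one_iff_mul_comm] at this
      exact ht (by rw [this, mul_inv_cancel_right])
    have h2 := (frattini P).one_lt_card_iff_ne_bot.mpr hF
    have := card_mul_index (frattini P)
    nlinarith
  · rw [← hn]
    refine le_trans ?_ (two_mul_bnd_sq hoW hW1 h3)
    have hq : (frattini (P ⧸ M)).index ≤ 2 := (index_le_card _).trans
      (by rw [← index_eq_card, hMi2])
    refine (index_le_mul hP M).trans (Nat.mul_le_mul hq ?_)
    refine (index_le_of_ker ih hlt hoW hW1 (hP.to_subgroup M) ψ).trans (Nat.mul_le_mul_left _ ?_)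
    have := ih W' (hcardW' ▸ hlt) (hcardW' ▸ hoW) (hcardW' ▸ hW1) _ ((hP.to_subgroup M).to_subgroup _) _ hker
    rwa [hcardW'] at this

/-- An involutory automorphism of a cyclic `2`-group is one of at most four maps. -/
theorem card_invol_le {A : Type u} [CommGroup A] [Finite A] [IsCyclic A] (hA : IsPGroup 2 A) :
    Nat.card {σ : MulAut A // σ ^ 2 = 1} ≤ 4 := by
  classical
  haveI := Fintype.ofFinite A
  obtain ⟨a, ha⟩ := IsCyclic.exists_generator (α := A)
  have hom : ∀ σ : MulAut A, σ ^ 2 = 1 → (a * a = σ a * σ a) ∨ (a * a = (σ a * σ a)⁻¹) := by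
    intro σ hσ
    have hσσ : σ (σ a) = a := by rw [← MulAut.mul_apply, ← pow_two, hσ, MulAut.one_apply]
    obtain ⟨i, hi⟩ := mem_zpowers_iff.mp (ha (a * σ a))
    obtain ⟨j, hj⟩ := mem_zpowers_iff.mp (ha (a * (σ a)⁻¹))
    have hu : σ (a * σ a) = a * σ a := by rw [map_mul, hσσ, mul_comm]
    have hw : σ (a * (σ a)⁻¹) = (a * (σ a)⁻¹)⁻¹ := by
      rw [map_mul, map_inv, hσσ, mul_inv_rev, inv_inv]
    have h2 : a ^ (i + j) = a ^ (2 : ℤ) := by
      rw [zpow_add, hi, hj, zpow_two, mul_mul_mul_comm, mul_inv_cancel, mul_one]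
    obtain ⟨k, hk⟩ := IsPGroup.iff_orderOf.mp hA a
    rcases k with _ | _ | k
    · have : a = 1 := orderOf_eq_one_iff.mp (by simpa using hk)
      exact Or.inl (by simp [this])
    · have h1 : a * a = 1 := by rw [← pow_two, ← orderOf_dvd_iff_pow_eq_one, hk]; rfl
      exact Or.inl (by rw [← map_mul, h1, map_one])
    · have hdvd : (4 : ℤ) ∣ i + j - 2 := by
        have h4 : (4 : ℤ) ∣ orderOf a := ⟨2 ^ k, by rw [hk]; push_cast; ring⟩
        refine h4.trans (orderOf_dvd_iff_zpow_eq_one.mpr ?_)
        rw [zpow_sub, h2, mul_inv_cancel]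
      have gen : ∀ l : ℤ, (2 : ℤ) ∣ l → ¬ (4 : ℤ) ∣ l → ∃ s : ℤ, (a ^ l) ^ s = a * a := by
        intro l hl hl4
        obtain ⟨l', rfl⟩ := hl
        have hodd : ¬ (2 : ℤ) ∣ l' := fun ⟨c, hc⟩ => hl4 ⟨c, by rw [hc]; ring⟩
        obtain ⟨s, r, hsr⟩ : IsCoprime l' ((2 : ℤ) ^ (k + 2)) :=
          ((Int.prime_two.coprime_iff_not_dvd).mpr hodd).pow_left.symm
        refine ⟨s, ?_⟩
        rw [← zpow_mul, show 2 * l' * s = 2 + (orderOf a : ℤ) * (-2 * r) by
          rw [hk]; push_cast; linear_combination (2 : ℤ) * hsr, zpow_add, zpow_mul,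
          zpow_natCast, pow_orderOf_eq_one, one_zpow, mul_one, zpow_two]
      by_cases hi4 : (4 : ℤ) ∣ i
      · right
        obtain ⟨s, hs⟩ := gen j (by omega) (by omega)
        rw [hj] at hs
        have := congrArg σ hs
        rw [map_zpow, hw, inv_zpow, hs, map_mul] at this
        rw [← this, inv_inv]
      · by_cases hi2 : (2 : ℤ) ∣ i
        · left
          obtain ⟨s, hs⟩ := gen i hi2 hi4
          rw [hi] at hs
          have := congrArg σ hs
          rw [map_zpow, hu, hs, map_mul] at this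
          exact this
        · exfalso
          obtain ⟨c, hc⟩ : ∃ c, a ^ c = σ a := mem_zpowers_iff.mp (ha (σ a))
          have e : a ^ (1 + c) = a ^ i := by rw [zpow_add, zpow_one, hc, hi]
          have h2d : (2 : ℤ) ∣ 1 + c - i := by
            refine dvd_trans ?_ (orderOf_dvd_iff_zpow_eq_one.mpr
              (show a ^ (1 + c - i) = 1 by rw [zpow_sub, e, mul_inv_cancel]))
            exact ⟨2 ^ (k + 1), by rw [hk]; push_cast; ring⟩
          have hc2 : (2 : ℤ) ∣ c := by omega
          obtain ⟨c', rfl⟩ := hc2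
          have e2 : σ a = (a * a) ^ c' := by rw [← hc, zpow_mul, zpow_two]
          have e3 : a = ((σ a) * (σ a)) ^ c' := by
            conv_lhs => rw [← hσσ, e2, map_zpow, map_mul]
          rw [← hc, ← zpow_two, ← zpow_mul, ← zpow_mul] at e3
          have : (2 : ℤ) ∣ 2 * c' * (2 * c') - 1 := by
            refine dvd_trans ⟨2 ^ (k + 1), by push_cast; ring⟩
              (show ((2 ^ (k + 2) : ℕ) : ℤ) ∣ _ from hk ▸ orderOf_dvd_iff_zpow_eq_one.mpr ?_)
            rw [zpow_sub, zpow_one]
            rw [← e3, mul_inv_cancel]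
          obtain ⟨d, hd⟩ := this
          have : 2 * (2 * c' * c' - d) = 1 := by linear_combination hd
          omega
  let T : Finset A := (Finset.univ.filter fun x : A => x ^ 2 = 1).image (fun x => a * x) ∪
    (Finset.univ.filter fun x : A => x ^ 2 = 1).image (fun x => a⁻¹ * x)
  have hT : T.card ≤ 4 := by
    refine (Finset.card_union_le _ _).trans ?_
    have := IsCyclic.card_pow_eq_one_le (α := A) (n := 2) two_pos
    exact le_trans (Nat.add_le_add (Finset.card_image_le.trans this) (Finset.card_image_le.trans this)) le_rfl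
  refine le_trans ?_ hT
  rw [← Nat.card_eq_finsetCard]
  refine Nat.card_le_card_of_injective (fun σ => ⟨σ.1 a, ?_⟩) ?_
  · refine Finset.mem_union.mpr ?_
    rcases hom σ.1 σ.2 with h | h
    · exact Or.inl (Finset.mem_image.mpr ⟨a⁻¹ * σ.1 a, Finset.mem_filter.mpr ⟨Finset.mem_univ _,
        by rw [mul_pow, pow_two (σ.1 a), ← h, inv_pow, pow_two, inv_mul_cancel]⟩, by simp⟩)
    · exact Or.inr (Finset.mem_image.mpr ⟨a * σ.1 a, Finset.mem_filter.mpr ⟨Finset.mem_univ _,
        by rw [mul_pow, pow_two a, h, pow_two, inv_mul_cancel]⟩, by simp⟩)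
  · intro σ τ h
    have h' : σ.1 a = τ.1 a := congrArg Subtype.val h
    refine Subtype.ext (MulEquiv.ext fun x => ?_)
    obtain ⟨m, rfl⟩ := mem_zpowers_iff.mp (ha x)
    rw [map_zpow, map_zpow, h']

theorem case_cyclic {V : Type u} [CommGroup V] [Finite V] (ho : Odd (Nat.card V))
    {p m : ℕ} (hp : p.Prime) (hm : 2 ≤ m) (hn : Nat.card V = p ^ m) (hexp : ∀ v : V, v ^ p = 1)
    {P : Type u} [Group P] [Finite P] (hP : IsPGroup 2 P)
    (φ : P →* MulAut V) (hφ : Function.Injective φ)
    (A : Subgroup P) [A.Normal] [IsCyclic A] (hC : centralizer (A : Set P) = A) :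
    (frattini P).index ≤ bnd (Nat.card V) := by
  let ψ : P →* MulAut A := MulAut.conjNormal
  have hker : ψ.ker = A := by
    refine le_antisymm (fun g hg => hC.le (mem_centralizer_iff.mpr fun a ha => ?_)) fun g hg => ?_
    · have := congrArg Subtype.val (DFunLike.congr_fun (MonoidHom.mem_ker.mp hg) ⟨a, ha⟩)
      simp only [ψ, MulAut.conjNormal_apply, MulAut.one_apply] at this
      exact (mul_inv_eq_iff_eq_mul.mp this).symm
    · refine MonoidHom.mem_ker.mpr (MulEquiv.ext fun a => Subtype.ext ?_)
      simp only [ψ, MulAut.conjNormal_apply, MulAut.one_apply]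
      rw [← mem_centralizer_iff.mp (hC.ge hg) a a.2, mul_inv_cancel_right]
  letI : CommGroup A := IsCyclic.commGroup
  have hiA := index_cyclic (hP.to_subgroup A)
  have hstep := index_le_mul hP A
  have e := QuotientGroup.quotientMulEquivOfEq hker
  let f : P ⧸ A →* MulAut A := (QuotientGroup.kerLift ψ).comp e.symm.toMonoidHom
  have hf : Function.Injective f := (QuotientGroup.kerLift_injective ψ).comp e.symm.injective
  by_cases h17 : 17 ≤ Nat.card V
  · refine le_trans ?_ (eight_le_bnd h17)
    have hab : ∀ x y : P ⧸ A, x * y = y * x := fun x y => hf (by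
      rw [map_mul, map_mul]
      apply (IsCyclic.mulAutMulEquiv A).injective
      rw [map_mul, map_mul, mul_comm])
    have h4 : (frattini (P ⧸ A)).index ≤ 4 := by
      refine (index_abelian (hP.to_quotient A) hab).trans ?_
      refine le_trans ?_ (card_invol_le (hP.to_subgroup A))
      refine Nat.card_le_card_of_injective (fun x => ⟨f x.1, by rw [← map_pow, x.2, map_one]⟩) ?_
      exact fun x y h => Subtype.ext (hf (congrArg Subtype.val h))
    calc _ ≤ _ := hstep
      _ ≤ 4 * 2 := Nat.mul_le_mul h4 hiA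
  · have hp3 : p = 3 ∧ m = 2 := by
      have h2 : p ≠ 2 := fun h => by
        rw [hn, h, Nat.odd_pow_iff (by omega)] at ho
        exact Nat.not_odd_iff_even.mpr even_two ho
      have := hp.two_le
      by_contra hcon
      rcases (show p = 3 ∨ 5 ≤ p by
        rcases Nat.lt_or_ge p 5 with h | h
        · left; interval_cases p <;> first | rfl | exact absurd rfl h2 | exact absurd hp (by decide)
        · exact Or.inr h) with h | h
      · have : p ^ 3 ≤ p ^ m := Nat.pow_le_pow_right hp.pos (by omega)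
        rw [h] at this hn; omega
      · have : p ^ 2 ≤ p ^ m := Nat.pow_le_pow_right hp.pos hm
        have : 5 ^ 2 ≤ p ^ 2 := Nat.pow_le_pow_left h 2
        omega
    obtain ⟨rfl, rfl⟩ := hp3
    refine le_trans ?_ (four_le_bnd (by rw [hn]; norm_num))
    have h16 : Nat.card P ≤ 16 := by
      haveI : Nontrivial V := Finite.one_lt_card_iff_nontrivial.mp (by rw [hn]; norm_num)
      obtain ⟨v, hv⟩ := exists_ne (1 : V)
      letI : MulAction P V := MulAction.compHom V φ
      have horb : (MulAction.orbit P v).ncard ≤ 8 := by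
        have : MulAction.orbit P v ⊆ {(1 : V)}ᶜ := by
          rintro _ ⟨g, rfl⟩
          show φ g v ≠ 1
          exact fun h => hv (by simpa using congrArg (φ g).symm h)
        have h' := Set.ncard_le_ncard this
        rw [Set.ncard_compl, Set.ncard_singleton, hn] at h'
        omega
      have hos := MulAction.index_stabilizer P v
      set S := MulAction.stabilizer P v
      have hS : Nat.card S ≤ 2 := by
        let W := zpowers v
        have hfix : ∀ g : S, ∀ w ∈ W, φ g w = w := by
          intro g w hw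
          obtain ⟨i, rfl⟩ := mem_zpowers_iff.mp hw
          rw [map_zpow, show φ g v = v from g.2]
        have hW : Nat.card W = 3 := by
          have hd : Nat.card W ∣ 3 ^ 2 := hn ▸ W.card_subgroup_dvd_card
          obtain ⟨i, hi, hi'⟩ := (Nat.dvd_prime_pow hp).mp hd
          have h1 : 1 < Nat.card W := W.one_lt_card_iff_ne_bot.mpr (by simpa [W] using hv)
          interval_cases i
          · omega
          · simpa using hi'
          · exfalso
            have hg : ∀ x, x ∈ W := fun x => by
              rw [card_eq_iff_eq_top W |>.mp (hi'.trans hn.symm)]; trivial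
            have : (S : Subgroup P) = ⊥ := (Subgroup.eq_bot_iff_forall _).mpr fun g hg' =>
              hφ (MulEquiv.ext fun x => by rw [map_one]; exact hfix ⟨g, hg'⟩ x (hg x))
            have h8 : Nat.card P ≤ 8 := by rw [← index_bot (G := P), ← this, hos]; exact horb
            have hexp' : v ^ 3 ≠ 1 := fun h3 => by
              have := Nat.le_of_dvd (by norm_num) (orderOf_dvd_of_pow_eq_one h3)
              rw [← Nat.card_zpowers] at this
              change Nat.card W ≤ 3 at this
              omega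
            exact hexp' (hexp v)
        have hV3 : Nat.card (V ⧸ W) = 3 := by
          have := card_eq_card_quotient_mul_card_subgroup W
          rw [hn, hW] at this; omega
        haveI := Fact.mk hp
        haveI : IsCyclic (V ⧸ W) := isCyclic_of_prime_card hV3
        let χ := quotAct (φ.comp S.subtype) W fun g w hw => by
          rw [show (φ.comp S.subtype) g w = w from hfix g w hw]; exact hw
        have hχ : Function.Injective χ := by
          rw [injective_iff_map_eq_one]
          intro g hg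
          refine Subtype.ext (hφ ?_)
          rw [Subgroup.coe_one, map_one]
          exact stab_trivial ho hP φ g W (hfix g) fun x =>
            QuotientGroup.eq.mp (DFunLike.congr_fun hg (x : V ⧸ W)).symm
        refine (Nat.card_le_card_of_injective _ hχ).trans ?_
        rw [IsCyclic.card_mulAut, hV3]; decide
      rw [← card_mul_index S, hos]
      exact Nat.mul_le_mul hS horb
    have hq : Nat.card (P ⧸ A) ≤ 2 := by
      have h1 : Nat.card (P ⧸ A) ≤ Nat.totient (Nat.card A) :=
        (Nat.card_le_card_of_injective _ hf).trans (le_of_eq (IsCyclic.card_mulAut A))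
      have h2 := card_eq_card_quotient_mul_card_subgroup A
      have h3 := Nat.totient_le (Nat.card A)
      haveI := Fact.mk Nat.prime_two
      obtain ⟨k, hk⟩ := (hP.to_subgroup A).exists_card_eq
      rw [hk] at h1 h2 h3
      rcases k with _ | _ | _ | k
      · simp at h1; omega
      · simp at h1; omega
      · rw [Nat.totient_prime_pow Nat.prime_two (by norm_num)] at h1
        norm_num at h1; omega
      · have : 8 ≤ 2 ^ (k + 1 + 1 + 1) := Nat.pow_le_pow_right two_pos (show 3 ≤ k + 1 + 1 + 1 by omega)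
        nlinarith
    calc _ ≤ _ := hstep
      _ ≤ 2 * 2 := Nat.mul_le_mul ((index_le_card _).trans hq) hiA

theorem main : ∀ n : ℕ, Bound.{u} n := by
  intro n
  induction n using Nat.strong_induction_on with
  | _ n ih =>
    intro V _ _ hlt ho h1 P _ _ hP φ hφ
    have ih' := ih _ hlt
    haveI := Fact.mk Nat.prime_two
    by_cases hred : ∃ W : Subgroup V, (∀ g, ∀ w ∈ W, φ g w ∈ W) ∧ W ≠ ⊥ ∧ W ≠ ⊤
    · obtain ⟨W, h, hb, ht⟩ := hred
      exact case_reducible ho ih' hP φ hφ W h hb ht
    push Not at hred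
    have hirr : ∀ W : Subgroup V, (∀ g, ∀ w ∈ W, φ g w ∈ W) → W = ⊥ ∨ W = ⊤ := fun W h =>
      or_iff_not_imp_left.mpr (hred W h)
    obtain ⟨A, -, hAn, hAa, hmax⟩ :=
      Cfsg.Agent.PGroup.exists_maximal_normal_abelian (A₀ := (⊥ : Subgroup P)) inferInstance
    haveI := hAn
    by_cases hcyc : IsCyclic A
    · by_cases hpr : (Nat.card V).Prime
      · exact case_prime ho hpr hP φ hφ
      obtain ⟨p, hp, hpd⟩ := Nat.exists_prime_and_dvd (show Nat.card V ≠ 1 by omega)
      haveI := Fact.mk hp
      let T : Subgroup V := (powMonoidHom p).ker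
      have hT : T = ⊤ := (hirr T fun g w (hw : w ^ p = 1) =>
        show (φ g w) ^ p = 1 by rw [← map_pow, hw, map_one]).resolve_left fun h => by
          obtain ⟨x, hx⟩ := exists_prime_orderOf_dvd_card' p hpd
          have : x ∈ T := show x ^ p = 1 from hx ▸ pow_orderOf_eq_one x
          rw [h, mem_bot] at this
          rw [this, orderOf_one] at hx
          exact hp.one_lt.ne hx
      have hVp : IsPGroup p V := fun v => ⟨1, by
        rw [pow_one]; exact (hT ▸ mem_top v : v ∈ T)⟩
      obtain ⟨m, hm⟩ := hVp.exists_card_eq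
      have hm2 : 2 ≤ m := by
        rcases m with _ | _ | m
        · simp at hm; omega
        · exact absurd (by rw [hm, pow_one]; exact hp) hpr
        · omega
      exact case_cyclic ho hp hm2 hm (hexp := fun v => (hT ▸ mem_top v : v ∈ T)) hP φ hφ A
        (Cfsg.Agent.PGroup.centralizer_eq_of_maximal hP hAa hmax)
    · obtain ⟨B, -, hBn, -, hBe, hBc⟩ :=
        Cfsg.Agent.PGroup.exists_normal_elementary_sq_of_abelian hP hAa hcyc
      exact case_four ho ih' hP φ hφ hirr B hBe (by rw [hBc]; norm_num)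

/-- Let G be a finite group that is the semidirect product of a normal abelian subgroup N of odd order by a 2-subgroup P, and suppose N is the unique minimal normal subgroup of G. Then the index of the Frattini subgroup of P in P is at most #N − 1. -/
theorem result {G : Type*} [Group G] [Finite G] (N P : Subgroup G) (hN : N.Normal) (hNab : IsMulCommutative ↥N) (hNodd : Odd (Nat.card ↥N)) (hP : IsPGroup 2 ↥P) (hdisj : N ⊓ P = ⊥) (hprod : N ⊔ P = ⊤) (hmin : N ≠ ⊥ ∧ ∀ M : Subgroup G, M.Normal → M ≠ ⊥ → N ≤ M) : (frattini ↥P).index ≤ Nat.card ↥N - 1 := by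
  haveI := hN
  letI : CommGroup ↥N := { (inferInstance : Group ↥N) with mul_comm := hNab.is_comm.comm }
  let φ : ↥P →* MulAut ↥N := (MulAut.conjNormal : G →* MulAut ↥N).comp P.subtype
  have h1 : 1 < Nat.card ↥N := N.one_lt_card_iff_ne_bot.mpr hmin.1
  have hφ : Function.Injective φ := by
    set K := Subgroup.centralizer (N : Set G) ⊓ P with hK
    have hKn : K.Normal := by
      rw [← Subgroup.normalizer_eq_top_iff, eq_top_iff, ← hprod]
      refine sup_le (fun x hx => ?_) (fun x hx => ?_)
      · rw [Subgroup.mem_normalizer_iff]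
        intro k
        constructor
        · intro hk
          rw [Subgroup.mem_centralizer_iff.mp hk.1 x hx, mul_inv_cancel_right]
          exact hk
        · intro hk
          have e : k = x⁻¹ * (x * k * x⁻¹) * x := by group
          rw [Subgroup.mem_centralizer_iff.mp hk.1 x⁻¹ (inv_mem hx), inv_mul_cancel_right] at e
          exact e ▸ hk
      · rw [Subgroup.mem_normalizer_iff]
        haveI : (Subgroup.centralizer (N : Set G)).Normal := inferInstance
        intro k
        constructor
        · intro hk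
          exact ⟨Subgroup.Normal.conj_mem inferInstance k hk.1 x, P.mul_mem (P.mul_mem hx hk.2) (P.inv_mem hx)⟩
        · intro hk
          have e : k = x⁻¹ * (x * k * x⁻¹) * x⁻¹⁻¹ := by group
          rw [e]
          exact ⟨Subgroup.Normal.conj_mem inferInstance _ hk.1 _,
            P.mul_mem (P.mul_mem (P.inv_mem hx) hk.2) (P.inv_mem (P.inv_mem hx))⟩
    have hKb : K = ⊥ := by
      by_contra h
      exact hmin.1 (le_bot_iff.mp (hdisj ▸ le_inf le_rfl ((hmin.2 K hKn h).trans inf_le_right)))
    rw [injective_iff_map_eq_one]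
    intro k hk
    have : (k : G) ∈ K := ⟨Subgroup.mem_centralizer_iff.mpr fun n hn => by
      have := congrArg Subtype.val (DFunLike.congr_fun hk ⟨n, hn⟩)
      simp only [φ, MonoidHom.comp_apply, Subgroup.coe_subtype, MulAut.conjNormal_apply,
        MulAut.one_apply] at this
      exact (mul_inv_eq_iff_eq_mul.mp this).symm, k.2⟩
    rw [hKb, Subgroup.mem_bot] at this
    exact Subtype.ext this
  exact (main _ ↥N (Nat.lt_succ_self _) hNodd h1 ↥P hP φ hφ).trans (bnd_le h1)

end Cfsg.Agent.S4188
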