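import Cfsg.Statements.S4189
import Mathlib
import Cfsg.Agent.S4207
import Cfsg.Agent.Lib.PGroup.Basic
import Cfsg.Agent.Lib.Transfer.Focal

set_option autoImplicit false
open Cfsg

namespace Cfsg.Agent.S4189

open scoped commutatorElement

theorem equiv_quaternion {P : Type*} [Group P] [Finite P] (x y : P) (hx : x ^ 4 = 1) (hx2 : x ^ 2 ≠ 1)
    (hy : y ^ 2 = x ^ 2) (hyx : y * x * y⁻¹ = x⁻¹) (hne : y ∉ Subgroup.zpowers x) (h8 : Nat.card P = 8) :
    Nonempty (P ≃* QuaternionGroup 2) := by
  have e : ∀ i : ZMod (2 * 2), ∀ j : ℕ, (j : ZMod (2 * 2)) = i → x ^ j = x ^ i.val := by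
    intro i j h
    rw [← h, ZMod.val_natCast, pow_eq_pow_mod j hx]
  have hinv : x⁻¹ = x ^ 3 := inv_eq_of_mul_eq_one_right (by rw [← pow_succ', hx])
  have hc : ∀ k : ℕ, x ^ k * y = y * x ^ (3 * k) := by
    intro k
    induction k with
    | zero => simp
    | succ k ih =>
      have h1 : x * y = y * x ^ 3 := by
        have h2 : x⁻¹ * y = y * x := by rw [← hyx]; group
        calc x * y = x * (x⁻¹ * y) * x⁻¹ := by rw [h2]; group
          _ = _ := by rw [← hinv]; group
      rw [pow_succ, mul_assoc, h1, ← mul_assoc, ih, mul_assoc, ← pow_add]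
      ring_nf
  let f : QuaternionGroup 2 → P := fun
    | .a i => x ^ i.val
    | .xa i => y * x ^ i.val
  have hf : ∀ u v, f (u * v) = f u * f v := by
    rintro (i | i) (j | j)
    · show x ^ (i + j).val = x ^ i.val * x ^ j.val
      rw [← pow_add]; exact (e _ _ (by simp)).symm
    · show y * x ^ (j - i).val = x ^ i.val * (y * x ^ j.val)
      rw [← mul_assoc, hc, mul_assoc, ← pow_add]
      congr 1
      refine (e _ _ ?_).symm
      simp only [Nat.cast_add, Nat.cast_mul, ZMod.natCast_val, ZMod.cast_id', id]
      rw [sub_eq_add_neg, add_comm]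
      congr 1
      have : (4 : ZMod (2 * 2)) = 0 := by decide
      linear_combination i * this
    · show y * x ^ (i + j).val = y * x ^ i.val * x ^ j.val
      rw [mul_assoc, ← pow_add]; congr 1; exact (e _ _ (by simp)).symm
    · show x ^ ((2 : ℕ) + j - i : ZMod (2 * 2)).val = y * x ^ i.val * (y * x ^ j.val)
      rw [mul_assoc, ← mul_assoc (x ^ i.val) y, hc, mul_assoc, ← pow_add, ← mul_assoc, ← pow_two y, hy, ← pow_add]
      refine (e _ _ ?_).symm
      simp only [Nat.cast_add, Nat.cast_mul, ZMod.natCast_val, ZMod.cast_id', id]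
      have : (4 : ZMod (2 * 2)) = 0 := by decide
      push_cast
      linear_combination i * this
  let φ : QuaternionGroup 2 →* P := MonoidHom.mk' f hf
  have hinj : Function.Injective φ := by
    rw [injective_iff_map_eq_one]
    rintro (i | i) hi
    · have hi' : x ^ i.val = 1 := hi
      have h4 : orderOf x = 4 := by
        haveI : Fact (Nat.Prime 2) := ⟨Nat.prime_two⟩
        have := orderOf_eq_prime_pow (x := x) (p := 2) (n := 1) (by simpa using hx2) (by simpa using hx)
        simpa using this
      have hd := orderOf_dvd_of_pow_eq_one hi'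
      rw [h4] at hd
      have := Nat.eq_zero_of_dvd_of_lt hd i.val_lt
      rw [ZMod.val_eq_zero] at this
      rw [this, QuaternionGroup.a_zero]
    · exfalso
      apply hne
      have hi' : y * x ^ i.val = 1 := hi
      rw [eq_inv_of_mul_eq_one_left hi']
      exact inv_mem (pow_mem (Subgroup.mem_zpowers x) _)
  refine ⟨(MulEquiv.ofBijective φ (hinj.bijective_of_nat_card_le ?_)).symm⟩
  rw [h8, Nat.card_eq_fintype_card, QuaternionGroup.card]

theorem exists_move {P : Type*} [Group P] [Finite P] (hP : IsPGroup 2 P) (h4 : (frattini P).index = 4)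
    (haut : ¬ IsPGroup 2 (MulAut P)) :
    ∃ α : MulAut P, ∀ a : P, a ∉ frattini P → α a ∉ frattini P ∧ a⁻¹ * α a ∉ frattini P ∧ a⁻¹ * α (α a) ∉ frattini P := by
  classical
  haveI : Fact (Nat.Prime 2) := ⟨Nat.prime_two⟩
  obtain ⟨n, hn⟩ := IsPGroup.iff_card.mp hP
  obtain ⟨q, hq, hq2, hdvd⟩ : ∃ q, q.Prime ∧ q ≠ 2 ∧ q ∣ Nat.card (MulAut P) := by
    by_contra hcon
    push Not at hcon
    exact haut (IsPGroup.iff_card.mpr ⟨_, Nat.eq_prime_pow_of_unique_prime_dvd Nat.card_pos.ne' (fun {d} hd hd' => by
      by_contra hne; exact hcon d hd hne hd')⟩)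
  haveI := Fact.mk hq
  obtain ⟨α, hα⟩ := exists_prime_orderOf_dvd_card' q hdvd
  let A : Subgroup (MulAut P) :=
    { carrier := {e | ∀ x, e x * x⁻¹ ∈ frattini P}
      mul_mem' := fun {e e'} he he' x => by
        have := mul_mem (he (e' x)) (he' x)
        simpa [mul_assoc] using this
      one_mem' := fun x => by simp
      inv_mem' := fun {e} he x => by
        have h := inv_mem (he (e⁻¹ x))
        simpa using h }
  have hA := Cfsg.Agent.S4207.result (r := 2) hn (by rw [h4]; rfl) A (fun e he => he)
  have hαA : α ∉ A := by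
    intro h
    have hd := ((hα ▸ Subgroup.orderOf_dvd_natCard A h).trans hA)
    exact hq2 ((Nat.prime_dvd_prime_iff_eq hq Nat.prime_two).mp (hq.dvd_of_dvd_pow hd))
  -- the induced permutation
  have hchar : ∀ (e : MulAut P) (x : P), x ∈ frattini P → e x ∈ frattini P := fun e x hx => by
    rw [← Subgroup.characteristic_iff_map_eq.mp (inferInstance : (frattini P).Characteristic) e]; exact ⟨x, hx, rfl⟩
  have main : ∀ a : P, a ∉ frattini P → a⁻¹ * α a ∉ frattini P := by
    intro a ha h
    apply hαA
    intro x
    set π := QuotientGroup.mk' (frattini P)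
    have hfix : π (α a) = π a := (QuotientGroup.eq.mpr h).symm
    -- `α²` is trivial on the quotient
    have hsq : ∀ y, π (α (α y)) = π y := by
      intro y
      by_cases h1 : y ∈ frattini P
      · rw [show π y = 1 from (QuotientGroup.eq_one_iff _).mpr h1]
        exact (QuotientGroup.eq_one_iff _).mpr (hchar α _ (hchar α _ h1))
      have hiter : ∀ u v, π u = π v → π (α u) = π (α v) := fun u v e => by
        refine QuotientGroup.eq.mpr ?_
        have := hchar α _ (QuotientGroup.eq.mp e)
        simpa using this
      by_cases h2 : π y = π a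
      · rw [hiter _ _ (hiter _ _ h2), hiter _ _ hfix, hfix, h2]
      have hne : ∀ u, u ∉ frattini P → π u ≠ π a → π (α u) ≠ 1 ∧ π (α u) ≠ π a := by
        intro u hu hua
        refine ⟨fun e => hu (by simpa using hchar α⁻¹ _ ((QuotientGroup.eq_one_iff _).mp e)), fun e => hua ?_⟩
        rw [← hfix] at e
        refine QuotientGroup.eq.mpr ?_
        have := hchar α⁻¹ _ (QuotientGroup.eq.mp e)
        simpa using this
      by_contra hne'
      have h3 := hne y h1 h2
      have h1' : α y ∉ frattini P := fun e => h3.1 ((QuotientGroup.eq_one_iff _).mpr e)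
      have h4' := hne _ h1' h3.2
      by_cases h5 : π (α y) = π y
      · exact hne' (by rw [hiter _ _ h5, h5])
      by_cases h6 : π (α (α y)) = π (α y)
      · apply hne'
        have h7 : π (α y) = π y := by
          refine QuotientGroup.eq.mpr ?_
          have := hchar α⁻¹ _ (QuotientGroup.eq.mp h6)
          simpa using this
        exact absurd h7 h5
      haveI : Fintype (P ⧸ frattini P) := Fintype.ofFinite _
      have hcard : ({1, π a, π y, π (α y), π (α (α y))} : Finset (P ⧸ frattini P)).card ≤ 4 := by
        rw [← h4, Subgroup.index, Nat.card_eq_fintype_card]; exact Finset.card_le_univ _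
      have hy1 : π y ≠ 1 := fun e => h1 ((QuotientGroup.eq_one_iff _).mp e)
      have ha1 : π a ≠ 1 := fun e => ha ((QuotientGroup.eq_one_iff _).mp e)
      rw [Finset.card_insert_of_notMem (by simp [ha1.symm, hy1.symm, h3.1.symm, h4'.1.symm]),
        Finset.card_insert_of_notMem (by simp [Ne.symm h2, h3.2.symm, h4'.2.symm]),
        Finset.card_insert_of_notMem (by simp [Ne.symm h5, Ne.symm hne']),
        Finset.card_insert_of_notMem (by simp [Ne.symm h6]), Finset.card_singleton] at hcard
      omega
    -- odd order
    obtain ⟨t, ht⟩ : ∃ t, q = 2 * t + 1 := (hq.eq_two_or_odd'.resolve_left hq2)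
    have hall : ∀ (t : ℕ) y, π ((α ^ (2 * t)) y) = π y := by
      intro t y
      induction t with
      | zero => simp
      | succ t ih =>
        rw [show 2 * (t + 1) = (2 * t + 1) + 1 by omega, pow_succ', pow_succ']
        exact (hsq _).trans ih
    have hαq : α ^ (2 * t + 1) = 1 := ht ▸ hα ▸ pow_orderOf_eq_one α
    have : π (α x) = π x := by
      rw [← hall t (α x), ← MulAut.mul_apply, ← pow_succ, hαq]; rfl
    have h' := QuotientGroup.eq.mp this.symm
    have := (inferInstance : (frattini P).Normal).conj_mem _ h' x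
    simpa [mul_assoc] using this
  refine ⟨α, fun a ha => ⟨fun h => ha (by simpa using hchar α⁻¹ _ h), main a ha, fun h => main a ha ?_⟩⟩
  set π := QuotientGroup.mk' (frattini P)
  have hiter : ∀ u v, π u = π v → π (α u) = π (α v) := fun u v e => by
    refine QuotientGroup.eq.mpr ?_
    have := hchar α _ (QuotientGroup.eq.mp e)
    simpa using this
  have h2 : π (α (α a)) = π a := (QuotientGroup.eq.mpr h).symm
  have hall : ∀ t : ℕ, π ((α ^ (2 * t)) a) = π a := by
    intro t
    induction t with
    | zero => simp
    | succ t ih =>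
      rw [show 2 * (t + 1) = (2 * t + 1) + 1 by omega, pow_succ', pow_succ']
      exact (hiter _ _ (hiter _ _ ih)).trans h2
  obtain ⟨t, ht⟩ : ∃ t, q = 2 * t + 1 := (hq.eq_two_or_odd'.resolve_left hq2)
  have hαq : α ^ (2 * t + 1) = 1 := ht ▸ hα ▸ pow_orderOf_eq_one α
  have h3 : π (α a) = π a := by
    have h4 := hiter _ _ (hall t)
    rw [← MulAut.mul_apply, ← pow_succ', hαq] at h4
    exact h4.symm
  exact QuotientGroup.eq.mp h3.symm

/-- Let P be a finite non-abelian 2-group whose commutator subgroup has index 4 and whose automorphism group is not a 2-group (some automorphism has order that is not a power of 2). Then P is isomorphic to the quaternion group of order 8. -/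
theorem result {P : Type*} [Group P] [Finite P] (hP : IsPGroup 2 P) (hna : ¬ IsMulCommutative P) (h4 : (commutator P).index = 4) (haut : ¬ IsPGroup 2 (MulAut P)) : Nonempty (P ≃* QuaternionGroup 2) := by
  classical
  haveI : Fact (Nat.Prime 2) := ⟨Nat.prime_two⟩
  haveI : Group.IsNilpotent P := hP.isNilpotent
  -- `Φ = P'`
  have hΦ : frattini P = commutator P := by
    have hle := Cfsg.Agent.PGroup.commutator_le_frattini hP
    refine le_antisymm ?_ hle
    have hd : (frattini P).index ∣ 2 ^ 2 := by rw [show 2 ^ 2 = (commutator P).index by rw [h4]; rfl]; exact Subgroup.index_dvd_of_le hle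
    obtain ⟨k, hk, hk'⟩ := (Nat.dvd_prime_pow Nat.prime_two).mp hd
    have hk2 : k = 2 := by
      by_contra hne
      apply hna
      have hex : ∃ g : P, Subgroup.zpowers g = ⊤ := by
        obtain ⟨f, hf⟩ := Cfsg.Agent.S4207.exists_gen (Q := P ⧸ frattini P) (p := 2) (r := k) hk'
        have hk01 : k = 0 ∨ k = 1 := by omega
        have : ∃ u : P ⧸ frattini P, Subgroup.zpowers u = ⊤ := by
          rcases hk01 with rfl | rfl
          · exact ⟨1, by rw [← hf]; simp⟩
          · exact ⟨f 0, by rw [← hf, Subgroup.zpowers_eq_closure]; congr 1; ext; simp [eq_comm]⟩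
        obtain ⟨u, hu⟩ := this
        obtain ⟨g, rfl⟩ := QuotientGroup.mk'_surjective _ u
        refine ⟨g, frattini_nongenerating ?_⟩
        rw [← MonoidHom.map_zpowers] at hu
        have := congrArg (Subgroup.comap (QuotientGroup.mk' (frattini P))) hu
        rwa [Subgroup.comap_map_eq, QuotientGroup.ker_mk', Subgroup.comap_top] at this
      obtain ⟨g, hg⟩ := hex
      refine ⟨⟨fun a b => ?_⟩⟩
      have ha : a ∈ Subgroup.zpowers g := hg ▸ Subgroup.mem_top a
      have hb : b ∈ Subgroup.zpowers g := hg ▸ Subgroup.mem_top b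
      obtain ⟨i, rfl⟩ := ha
      obtain ⟨j, rfl⟩ := hb
      exact ((Commute.refl g).zpow_zpow i j).eq
    refine le_of_eq (Subgroup.eq_of_le_of_card_ge hle ?_).symm
    have e1 := (frattini P).card_mul_index
    have e2 := (commutator P).card_mul_index
    rw [hk', hk2] at e1; rw [h4] at e2
    omega
  have h4' : (frattini P).index = 4 := hΦ ▸ h4
  obtain ⟨α, hα⟩ := exists_move hP h4' haut
  obtain ⟨a, ha⟩ : ∃ a, a ∉ frattini P := by
    by_contra hc
    push Not at hc
    rw [(eq_top_iff (a := frattini P)).mpr (fun x _ => hc x), Subgroup.index_top] at h4'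
    omega
  set b := α a
  obtain ⟨hb, hab, haab⟩ : b ∉ frattini P ∧ a⁻¹ * b ∉ frattini P ∧ a⁻¹ * α b ∉ frattini P := hα a ha
  have hgenK : ∀ K : Subgroup P, frattini P ≤ K → a ∈ K → b ∈ K → K = ⊤ := by
    intro K hK haK hbK
    have hd : K.index ∣ 2 ^ 2 := by
      refine dvd_trans (Subgroup.index_dvd_of_le hK) ?_; rw [h4']; rfl
    rw [← Subgroup.index_eq_one]
    by_contra hne
    have hq := (Subgroup.relIndex_mul_index hK).trans h4'
    have hrel : 3 ≤ (frattini P).relIndex K := by
      haveI : Fintype (K ⧸ (frattini P).subgroupOf K) := Fintype.ofFinite _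
      rw [Subgroup.relIndex, Subgroup.index, Nat.card_eq_fintype_card]
      refine le_trans ?_ (Finset.card_le_univ ({((1 : K) : K ⧸ _), ((⟨a, haK⟩ : K) : K ⧸ _), ((⟨b, hbK⟩ : K) : K ⧸ _)} : Finset (K ⧸ (frattini P).subgroupOf K)))
      rw [Finset.card_insert_of_notMem, Finset.card_insert_of_notMem, Finset.card_singleton]
      · simp only [Finset.mem_singleton, QuotientGroup.eq, Subgroup.mem_subgroupOf]; exact hab
      · simp only [Finset.mem_insert, Finset.mem_singleton, QuotientGroup.eq, Subgroup.mem_subgroupOf]
        simp [ha, hb]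
    have h2 : 2 ≤ K.index := by
      have := Subgroup.index_ne_zero_of_finite (H := K); omega
    nlinarith
  have hsq : ∀ x : P, x ^ 2 ∈ frattini P := Cfsg.Agent.PGroup.pow_mem_frattini hP
  set γ : ℕ → Subgroup P := fun i => (⊤ : Subgroup P).lowerCentralSeries i
  have hγn : ∀ i, (γ i).Normal := by
    intro i
    induction i with
    | zero => simp only [γ, Subgroup.lowerCentralSeries_zero]; infer_instance
    | succ i ih => simp only [γ, Subgroup.lowerCentralSeries_succ] at ih ⊢; infer_instance
  have hγs : ∀ i, γ (i + 1) = ⁅γ i, ⊤⁆ := fun i => Subgroup.lowerCentralSeries_succ _ _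
  have hγ1 : γ 1 = frattini P := by rw [hΦ]; exact Subgroup.top_lowerCentralSeries_one
  have hγchar : ∀ i (e : MulAut P) x, x ∈ γ i → e x ∈ γ i := by
    intro i e x hx
    have : ∀ j, (γ j).map e.toMonoidHom ≤ γ j := by
      intro j
      induction j with
      | zero => simp [γ, Subgroup.lowerCentralSeries_zero]
      | succ j ihj => rw [hγs, Subgroup.map_commutator]; exact Subgroup.commutator_mono ihj le_top
    exact this i ⟨x, hx, rfl⟩
  have hdesc : ∀ i, γ (i + 1) ≤ γ i := fun i => by
    rw [hγs]; haveI := hγn i; exact Subgroup.commutator_le_left _ _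
  set c := ⁅a, b⁆
  haveI := hγn 2
  haveI := hγn 3
  -- `P' = ⟨c⟩ γ₂`
  have hcγ : γ 1 ≤ Subgroup.zpowers c ⊔ γ 2 := by
    set L := Subgroup.zpowers c ⊔ γ 2
    haveI : L.Normal := by
      refine ⟨fun u hu g => ?_⟩
      have hu1 : u ∈ γ 1 := by
        refine (sup_le ?_ (hdesc 1) : L ≤ γ 1) hu
        rw [Subgroup.zpowers_le, hγs]
        exact Subgroup.commutator_mem_commutator (by simp [γ, Subgroup.lowerCentralSeries_zero]) trivial
      have e : g * u * g⁻¹ = ⁅u, g⁆⁻¹ * u := by simp [commutatorElement_def, mul_assoc]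
      rw [e]
      refine mul_mem (inv_mem (Subgroup.mem_sup_right ?_)) hu
      rw [hγs]; exact Subgroup.commutator_mem_commutator hu1 trivial
    set π := QuotientGroup.mk' L
    have hab' : π a * π b = π b * π a := by
      rw [← commutatorElement_eq_one_iff_mul_comm, ← map_commutatorElement]
      exact (QuotientGroup.eq_one_iff _).mpr (Subgroup.mem_sup_left (Subgroup.mem_zpowers c))
    have hgen : Subgroup.closure ({a, b} : Set P) = ⊤ := by
      apply frattini_nongenerating
      exact hgenK _ le_sup_right (Subgroup.mem_sup_left (Subgroup.subset_closure (by simp)))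
        (Subgroup.mem_sup_left (Subgroup.subset_closure (by simp)))
    have hZ : ∀ u ∈ ({π a, π b} : Set (P ⧸ L)), ∀ v ∈ ({π a, π b} : Set (P ⧸ L)), u * v = v * u := by
      intro u hu v hv
      rcases hu with rfl | rfl <;> rcases hv with rfl | rfl <;> first | rfl | exact hab' | exact hab'.symm
    have hcl := Subgroup.isMulCommutative_closure (k := ({π a, π b} : Set (P ⧸ L))) hZ
    have htop : Subgroup.closure ({π a, π b} : Set (P ⧸ L)) = ⊤ := by
      rw [← Set.image_pair, ← MonoidHom.map_closure, hgen]
      exact Subgroup.map_top_of_surjective π (QuotientGroup.mk'_surjective _)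
    rw [htop] at hcl
    refine le_trans (le_of_eq Subgroup.top_lowerCentralSeries_one) ?_
    refine Subgroup.Normal.quotient_commutative_iff_commutator_le.mp ⟨⟨fun u v => ?_⟩⟩
    exact congrArg Subtype.val (hcl.is_comm.comm ⟨u, trivial⟩ ⟨v, trivial⟩)
  set π := QuotientGroup.mk' (γ 3)
  have hcent2 : ∀ u ∈ γ 2, ∀ v : P, π u * π v = π v * π u := by
    intro u hu v
    rw [← commutatorElement_eq_one_iff_mul_comm, ← map_commutatorElement]
    refine (QuotientGroup.eq_one_iff _).mpr ?_
    rw [hγs]; exact Subgroup.commutator_mem_commutator hu trivial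
  -- decomposition of elements of `P'`
  have hdec : ∀ u ∈ γ 1, ∃ (i : ℤ), ∃ w ∈ γ 2, u = c ^ i * w := by
    intro u hu
    obtain ⟨k, hk, w, hw, rfl⟩ := Subgroup.mem_sup_of_normal_right.mp (hcγ hu)
    obtain ⟨i, rfl⟩ := hk
    exact ⟨i, w, hw, rfl⟩
  have hc1 : c ∈ γ 1 := by
    rw [hγs]; exact Subgroup.commutator_mem_commutator (by simp [γ, Subgroup.lowerCentralSeries_zero]) trivial
  by_cases hA : ∀ x : P, π c * π x = π x * π c
  · -- class two, order eight
    have hγ2 : γ 2 = ⊥ := by
      refine Cfsg.Agent.Transfer.eq_bot_of_le_commutator_top ?_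
      rw [← hγs]
      conv_lhs => rw [hγs 1]
      refine Subgroup.commutator_le.mpr fun u hu v _ => ?_
      refine (QuotientGroup.eq_one_iff _).mp ?_
      show π ⁅u, v⁆ = 1
      obtain ⟨i, w, hw, rfl⟩ := hdec u hu
      rw [map_commutatorElement, commutatorElement_eq_one_iff_mul_comm, map_mul, map_zpow]
      exact ((Commute.zpow_left (hA v) i).mul_left (hcent2 w hw v)).eq
    have hcentral : ∀ u ∈ γ 1, ∀ v : P, u * v = v * u := by
      intro u hu v
      rw [← commutatorElement_eq_one_iff_mul_comm, ← Subgroup.mem_bot, ← hγ2, hγs 1]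
      exact Subgroup.commutator_mem_commutator hu trivial
    have hc2 : c ^ 2 = 1 := by
      have h := hcentral _ (hγ1 ▸ hsq a) b
      have hcc := hcentral c hc1
      have e : a ^ 2 * b = c ^ 2 * (b * a ^ 2) := by
        have h1 : a * b = c * (b * a) := by simp [c, commutatorElement_def, mul_assoc]
        calc a ^ 2 * b = a * (a * b) := by rw [pow_two, mul_assoc]
          _ = a * c * (b * a) := by rw [h1]; group
          _ = c * (a * b) * a := by rw [← hcc a]; group
          _ = c * (c * (b * a)) * a := by rw [h1]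
          _ = _ := by rw [pow_two, pow_two]; group
      rw [h] at e
      exact (mul_eq_right.mp e.symm)
    have hΦcard : Nat.card (frattini P) ≤ 2 := by
      have hle : frattini P ≤ Subgroup.zpowers c := by
        rw [← hγ1]; exact hcγ.trans (by rw [hγ2, sup_bot_eq])
      refine le_trans (Nat.le_of_dvd Nat.card_pos (Subgroup.card_dvd_of_le hle)) ?_
      rw [Nat.card_zpowers]
      exact Nat.le_of_dvd (by norm_num) (orderOf_dvd_of_pow_eq_one hc2)
    have hcne : c ≠ 1 := by
      intro h
      apply hna
      have hbot : γ 1 = ⊥ := le_bot_iff.mp (hcγ.trans (by rw [hγ2, sup_bot_eq, h, Subgroup.zpowers_one_eq_bot]))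
      exact ⟨⟨fun u v => by
        rw [← commutatorElement_eq_one_iff_mul_comm, ← Subgroup.mem_bot, ← hbot, hγs]
        exact Subgroup.commutator_mem_commutator (by simp [γ, Subgroup.lowerCentralSeries_zero]) trivial⟩⟩
    have hz : ∀ u ∈ frattini P, u = 1 ∨ u = c := by
      intro u hu
      obtain ⟨i, w, hw, rfl⟩ := hdec u (hγ1 ▸ hu)
      rw [hγ2, Subgroup.mem_bot] at hw
      subst hw
      rw [mul_one]
      have hc2' : c ^ (2 : ℤ) = 1 := by exact_mod_cast hc2
      rcases Int.emod_two_eq_zero_or_one i with h | h
      · left; rw [← Int.mul_ediv_add_emod i 2, h, add_zero, zpow_mul, hc2', one_zpow]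
      · right; rw [← Int.mul_ediv_add_emod i 2, h, zpow_add, zpow_mul, hc2', one_zpow, one_mul, zpow_one]
    have h8 : Nat.card P = 8 := by
      have e1 := (frattini P).card_mul_index
      rw [h4'] at e1
      have : Nat.card (frattini P) = 2 := by
        refine le_antisymm hΦcard ?_
        refine Nat.succ_le_of_lt ((Subgroup.one_lt_card_iff_ne_bot _).mpr fun h => hcne ?_)
        rw [← Subgroup.mem_bot, ← h, ← hγ1]; exact hc1
      omega
    have hcα : α c = c := by
      rcases hz (α c) (hγ1 ▸ hγchar 1 α c hc1) with h | h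
      · exact absurd ((map_eq_one_iff α α.injective).mp h) hcne
      · exact h
    -- squares of `a`, `b`, `a⁻¹ b` are nontrivial
    have hasq : a ^ 2 = c := by
      rcases hz _ (hsq a) with h | h
      swap
      · exact h
      exfalso
      have hb2 : b ^ 2 = 1 := by rw [← map_pow, h, map_one]
      -- the third coset
      obtain ⟨hαb, hbαb, -⟩ := hα b hb
      have hαb2 : α b ^ 2 = 1 := by rw [← map_pow, hb2, map_one]
      have hcase : α b * a⁻¹ ∈ frattini P ∨ α b * (a * b)⁻¹ ∈ frattini P := by
        by_contra hcon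
        push Not at hcon
        haveI : Fintype (P ⧸ frattini P) := Fintype.ofFinite _
        let m := QuotientGroup.mk' (frattini P)
        have hne : ∀ u v : P, u * v⁻¹ ∉ frattini P → m u ≠ m v := fun u v h e => h (by
          have : m (u * v⁻¹) = 1 := by rw [map_mul, map_inv, e, mul_inv_cancel]
          exact (QuotientGroup.eq_one_iff _).mp this)
        have hne' : ∀ u v : P, u⁻¹ * v ∉ frattini P → m u ≠ m v := fun u v h e => h (QuotientGroup.eq.mp e)
        have hab1 : m (a * b) ≠ 1 := fun e => hab (by
          have e2 := (QuotientGroup.eq_one_iff _).mp e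
          have := mul_mem (inv_mem (hsq a)) e2
          have ee : a⁻¹ * b = (a ^ 2)⁻¹ * (a * b) := by rw [pow_two]; group
          rw [ee]; exact this)
        have hba : m (a * b) ≠ m b := by
          rw [map_mul]; intro e
          exact ha ((QuotientGroup.eq_one_iff _).mp (mul_eq_right.mp e))
        have haa : m (a * b) ≠ m a := by
          rw [map_mul]; intro e
          exact hb ((QuotientGroup.eq_one_iff _).mp (mul_eq_left.mp e))
        have hcard : ({1, m a, m b, m (a * b), m (α b)} : Finset (P ⧸ frattini P)).card ≤ 4 := by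
          rw [← h4', Subgroup.index, Nat.card_eq_fintype_card]; exact Finset.card_le_univ _
        rw [Finset.card_insert_of_notMem, Finset.card_insert_of_notMem, Finset.card_insert_of_notMem,
          Finset.card_insert_of_notMem, Finset.card_singleton] at hcard
        · omega
        · simp only [Finset.mem_singleton]; exact (hne _ _ hcon.2).symm
        · simp only [Finset.mem_insert, Finset.mem_singleton, not_or]
          exact ⟨hba.symm, hne' _ _ hbαb⟩
        · simp only [Finset.mem_insert, Finset.mem_singleton, not_or]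
          exact ⟨hne' _ _ hab, haa.symm, (hne _ _ hcon.1).symm⟩
        · simp only [Finset.mem_insert, Finset.mem_singleton, not_or]
          exact ⟨fun e => ha ((QuotientGroup.eq_one_iff _).mp e.symm), fun e => hb ((QuotientGroup.eq_one_iff _).mp e.symm),
            hab1.symm, fun e => hαb ((QuotientGroup.eq_one_iff _).mp e.symm)⟩
      have key : (a * b) ^ 2 = 1 → False := by
        intro h2
        apply hcne
        have ha' : a⁻¹ = a := inv_eq_of_mul_eq_one_right (by rw [← pow_two, h])
        have hb' : b⁻¹ = b := inv_eq_of_mul_eq_one_right (by rw [← pow_two, hb2])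
        show ⁅a, b⁆ = 1
        rw [commutatorElement_def, ha', hb', ← h2]; rw [pow_two]; group
      rcases hcase with h' | h'
      · apply haab
        have := (inferInstance : (frattini P).Normal).conj_mem _ h' a⁻¹
        simpa [mul_assoc] using this
      · rcases hz _ h' with e | e
        · exact key (by rw [← mul_inv_eq_one.mp e]; exact hαb2)
        · have e' : α b = c * (a * b) := by rw [← e, inv_mul_cancel_right]
          apply key
          have := hαb2
          rw [e', (show Commute c (a * b) from hcentral c hc1 _).mul_pow, hc2, one_mul] at this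
          exact this
    have hbsq : b ^ 2 = c := by rw [← map_pow, hasq, hcα]
    refine equiv_quaternion a b ?_ ?_ ?_ ?_ ?_ h8
    · rw [show 4 = 2 * 2 from rfl, pow_mul, hasq, hc2]
    · rw [hasq]; exact hcne
    · rw [hbsq, hasq]
    · have h1 : c * (b * a * b⁻¹) = a := by simp [c, commutatorElement_def, mul_assoc]
      have h2 : b * a * b⁻¹ = c * a := by
        calc b * a * b⁻¹ = c ^ 2 * (b * a * b⁻¹) := by rw [hc2, one_mul]
          _ = c * (c * (b * a * b⁻¹)) := by rw [pow_two, mul_assoc]
          _ = _ := by rw [h1]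
      rw [h2, hcentral c hc1, ← hasq]
      exact eq_inv_of_mul_eq_one_left (by rw [← pow_succ', ← pow_succ, show 2 + 1 + 1 = 2 * 2 from rfl, pow_mul, hasq, hc2])
    · rintro ⟨i, hi⟩
      apply hcne
      show ⁅a, b⁆ = 1
      rw [commutatorElement_eq_one_iff_mul_comm, ← hi]
      exact (Commute.self_zpow a i).eq
  · -- otherwise: contradiction
    exfalso
    set K : Subgroup P := (Subgroup.centralizer ({π c} : Set (P ⧸ γ 3))).comap π
    have hK : ∀ x, x ∈ K ↔ π x * π c = π c * π x := fun x => Subgroup.mem_centralizer_singleton_iff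
    have hαc : ∀ x, x ∈ K → α x ∈ K := by
      intro x hx
      obtain ⟨i, w, hw, hcw⟩ := hdec (α.symm c) (hγchar 1 α.symm c hc1)
      have hc' : c = α c ^ i * α w := by
        have := congrArg α hcw
        simpa using this
      rw [hK] at hx ⊢
      have h1 : π (α x) * π (α c) = π (α c) * π (α x) := by
        have h2 : ⁅x, c⁆ ∈ γ 3 := by
          refine (QuotientGroup.eq_one_iff _).mp ?_
          show π ⁅x, c⁆ = 1
          rw [map_commutatorElement, commutatorElement_eq_one_iff_mul_comm]; exact hx
        have h3 := hγchar 3 α _ h2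
        rw [map_commutatorElement] at h3
        rw [← commutatorElement_eq_one_iff_mul_comm, ← map_commutatorElement]
        exact (QuotientGroup.eq_one_iff _).mpr h3
      rw [hc', map_mul, map_zpow]
      exact ((Commute.zpow_right h1 i).mul_right (hcent2 _ (hγchar 2 α w hw) _).symm).eq
    have hΦK : ∀ x, x ∈ γ 1 → x ∈ K := by
      intro x hx
      rw [hK]
      obtain ⟨i, w, hw, rfl⟩ := hdec x hx
      rw [map_mul, map_zpow]
      exact ((Commute.zpow_self _ i).mul_left (hcent2 w hw c)).eq
    have hKtop : ∀ x, x ∈ K → x ∈ frattini P := by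
      intro x hx
      by_contra hxΦ
      apply hA
      intro y
      obtain ⟨h1, h2, -⟩ := hα x hxΦ
      have hKT : K = ⊤ := by
        by_contra hne
        have hfle : frattini P ≤ K := fun u hu => hΦK u (hγ1 ▸ hu)
        have hq := (Subgroup.relIndex_mul_index hfle).trans h4'
        have hrel : 3 ≤ (frattini P).relIndex K := by
          haveI : Fintype (K ⧸ (frattini P).subgroupOf K) := Fintype.ofFinite _
          rw [Subgroup.relIndex, Subgroup.index, Nat.card_eq_fintype_card]
          refine le_trans ?_ (Finset.card_le_univ ({((1 : K) : K ⧸ _), ((⟨x, hx⟩ : K) : K ⧸ _), ((⟨α x, hαc x hx⟩ : K) : K ⧸ _)} : Finset (K ⧸ (frattini P).subgroupOf K)))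
          rw [Finset.card_insert_of_notMem, Finset.card_insert_of_notMem, Finset.card_singleton]
          · simp only [Finset.mem_singleton, QuotientGroup.eq, Subgroup.mem_subgroupOf]; exact h2
          · simp only [Finset.mem_insert, Finset.mem_singleton, QuotientGroup.eq, Subgroup.mem_subgroupOf]
            simp [hxΦ, h1]
        have : 2 ≤ K.index := by
          have := Subgroup.index_ne_zero_of_finite (H := K)
          have h1' : K.index ≠ 1 := fun e => hne (Subgroup.index_eq_one.mp e)
          omega
        nlinarith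
      exact ((hK y).mp (hKT ▸ Subgroup.mem_top y)).symm
    -- squares are central modulo `γ₃`
    have hsqc : ∀ u, u ∉ frattini P → ∀ v, π (u ^ 2) * π v = π v * π (u ^ 2) := by
      intro u hu v
      obtain ⟨i, w, hw, he⟩ := hdec (u ^ 2) (hγ1 ▸ hsq u)
      have hcomm : π (u ^ 2) * π u = π u * π (u ^ 2) := by rw [map_pow]; exact (Commute.pow_self _ 2).eq
      rw [he, map_mul, map_zpow] at hcomm ⊢
      have hci : Commute (π c ^ i) (π u) := by
        have h := hcent2 w hw u
        have h1 : (π c ^ i * π u) * π w = (π u * π c ^ i) * π w := by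
          rw [mul_assoc, ← h, ← mul_assoc, hcomm, mul_assoc]
        exact mul_right_cancel h1
      have hc2 : π (c ^ 2) * π v = π v * π (c ^ 2) := by
        refine hcent2 _ ?_ v
        haveI := hγn 2
        let m := QuotientGroup.mk' (γ 2)
        have hcc : ∀ z : P, ∀ y ∈ γ 1, m y * m z = m z * m y := by
          intro z y hy
          rw [← commutatorElement_eq_one_iff_mul_comm, ← map_commutatorElement]
          refine (QuotientGroup.eq_one_iff _).mpr ?_
          rw [hγs 1]; exact Subgroup.commutator_mem_commutator hy trivial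
        have h := hcc b _ (hγ1 ▸ hsq a)
        have h1 : a * b = c * (b * a) := by simp [c, commutatorElement_def, mul_assoc]
        have e : m (a ^ 2) * m b = m (c ^ 2) * (m b * m (a ^ 2)) := by
          have hac := hcc a c hc1
          calc m (a ^ 2) * m b = m a * m (a * b) := by rw [← map_mul, ← map_mul, pow_two, mul_assoc]
            _ = m a * m c * (m b * m a) := by rw [h1, map_mul, map_mul, mul_assoc]
            _ = m c * m (a * b) * m a := by rw [← hac, map_mul]; group
            _ = m c * (m c * (m b * m a)) * m a := by rw [h1, map_mul, map_mul]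
            _ = _ := by rw [map_pow, map_pow, pow_two, pow_two]; group
        rw [h] at e
        exact (QuotientGroup.eq_one_iff _).mp (mul_eq_right.mp e.symm)
      rcases Int.even_or_odd i with ⟨k, hk⟩ | ⟨k, hk⟩
      · subst hk
        rw [show π c ^ (k + k) = π (c ^ 2) ^ k by rw [map_pow, ← zpow_natCast, ← zpow_mul]; congr 1; push_cast; ring]
        exact ((Commute.zpow_left hc2 k).mul_left (hcent2 w hw v)).eq
      · exfalso
        apply hu
        apply hKtop
        rw [hK]
        have hc2u : Commute (π c ^ (2 * k)) (π u) := by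
          rw [zpow_mul, show (π c) ^ (2 : ℤ) = π (c ^ 2) by rw [map_pow]; norm_cast]
          refine Commute.zpow_left ?_ k
          have hh := hcent2
          have hc2γ : c ^ 2 ∈ γ 2 := by
            let m := QuotientGroup.mk' (γ 2)
            have hcc : ∀ z : P, ∀ y ∈ γ 1, m y * m z = m z * m y := by
              intro z y hy
              rw [← commutatorElement_eq_one_iff_mul_comm, ← map_commutatorElement]
              refine (QuotientGroup.eq_one_iff _).mpr ?_
              rw [hγs 1]; exact Subgroup.commutator_mem_commutator hy trivial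
            have h := hcc b _ (hγ1 ▸ hsq a)
            have h1 : a * b = c * (b * a) := by simp [c, commutatorElement_def, mul_assoc]
            have e : m (a ^ 2) * m b = m (c ^ 2) * (m b * m (a ^ 2)) := by
              have hac := hcc a c hc1
              calc m (a ^ 2) * m b = m a * m (a * b) := by rw [← map_mul, ← map_mul, pow_two, mul_assoc]
                _ = m a * m c * (m b * m a) := by rw [h1, map_mul, map_mul, mul_assoc]
                _ = m c * m (a * b) * m a := by rw [← hac, map_mul]; group
                _ = m c * (m c * (m b * m a)) * m a := by rw [h1, map_mul, map_mul]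
                _ = _ := by rw [map_pow, map_pow, pow_two, pow_two]; group
            rw [h] at e
            exact (QuotientGroup.eq_one_iff _).mp (mul_eq_right.mp e.symm)
          exact hcent2 _ hc2γ u
        have := hc2u.inv_left.mul_left hci
        rw [hk, zpow_add, inv_mul_cancel_left, zpow_one] at this
        exact this.symm.eq
    -- two commutator identities
    set A := π a
    set B := π b
    set C := π c
    have hC : C = A * B * A⁻¹ * B⁻¹ := by simp [C, A, B, c, commutatorElement_def]
    have hA2 : Commute (A ^ 2) B := by rw [← map_pow]; exact hsqc a ha b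
    have hB2 : Commute (B ^ 2) A := by rw [← map_pow]; exact hsqc b hb a
    have eA : A * C * A⁻¹ * C = 1 := by
      have h := hA2.eq
      rw [hC]
      calc A * (A * B * A⁻¹ * B⁻¹) * A⁻¹ * (A * B * A⁻¹ * B⁻¹) = (A ^ 2 * B) * (A ^ 2)⁻¹ * B⁻¹ := by rw [pow_two]; group
        _ = 1 := by rw [h]; group
    have eB : C * B * C * B⁻¹ = 1 := by
      have h := hB2.eq
      rw [hC]
      calc A * B * A⁻¹ * B⁻¹ * B * (A * B * A⁻¹ * B⁻¹) * B⁻¹ = (A * B ^ 2) * A⁻¹ * (B ^ 2)⁻¹ := by rw [pow_two]; group
        _ = 1 := by rw [← h]; group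
    have hab' : a⁻¹ * b ∈ K := by
      rw [hK, map_mul, map_inv]
      show A⁻¹ * B * C = C * (A⁻¹ * B)
      have e1 : A * C * A⁻¹ = C⁻¹ := eq_inv_of_mul_eq_one_left eA
      have e2 : B * C * B⁻¹ = C⁻¹ := eq_inv_of_mul_eq_one_right (by rw [← eB]; group)
      calc A⁻¹ * B * C = A⁻¹ * (B * C * B⁻¹) * B := by group
        _ = A⁻¹ * (A * C * A⁻¹) * B := by rw [e1, e2]
        _ = _ := by group
    exact hab (hKtop _ hab')

end Cfsg.Agent.S4189
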