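import Cfsg.Statements.S4190
import Cfsg.Agent.BC87.SolvableK.Main

set_option autoImplicit false
open Cfsg

namespace Cfsg.Agent.S4190

/-- Let G be a finite solvable group and p a prime dividing the index of the Fitting subgroup of G. Then the number of conjugacy classes of G is at least p/(3·log₂ p). -/
theorem result {G : Type*} [Group G] [Finite G] (hG : Group.IsSolvable G) (p : ℕ) [Fact p.Prime] (hp : p ∣ (Cfsg.fittingSubgroup G).index) : (p : ℝ) / (3 * Real.logb 2 p) ≤ Nat.card (ConjClasses G) := by
  have hp2 : 2 ≤ p := (Fact.out : p.Prime).two_le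
  let e : Shrink.{0} G ≃* G := Shrink.mulEquiv
  haveI : Finite (Shrink.{0} G) := Finite.of_equiv G e.symm.toEquiv
  haveI := hG
  have hsol : Group.IsSolvable (Shrink.{0} G) :=
    Group.isSolvable_of_surjective (f := e.symm.toMonoidHom) e.symm.surjective
  have hdvd : p ∣ (Cfsg.fittingSubgroup (Shrink.{0} G)).index := by
    refine hp.trans ((Subgroup.index_dvd_of_le
      (Cfsg.Agent.Fitting.map_fitting_le e.toMonoidHom e.surjective)).trans ?_)
    rw [Subgroup.index_map_of_bijective (f := e.toMonoidHom) e.bijective]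
  have hk := Cfsg.Agent.BC87.SolvableK.good_all p (Nat.card (Shrink.{0} G)) (Shrink.{0} G) le_rfl
    hsol hdvd
  have hle : Nat.card (ConjClasses (Shrink.{0} G)) ≤ Nat.card (ConjClasses G) :=
    Nat.card_le_card_of_surjective _
      (ConjClasses.map_surjective (f := e.symm.toMonoidHom) e.symm.surjective)
  have h := Cfsg.Agent.BC87.SolvableK.good_mono hp2 hle hk
  have hL := Cfsg.Agent.BC87.SolvableK.one_le_logb hp2
  rw [div_le_iff₀' (by linarith)]
  exact h

end Cfsg.Agent.S4190
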