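import Cfsg.Statements.S4192
import Cfsg.Agent.RealGraph72.Main
-- import your own Cfsg.Agent.* helpers here

set_option autoImplicit false
open Cfsg

namespace Cfsg.Agent.S4192

theorem core {G : Type*} [Group G] [Finite G] {π₁ π₂ : Set ℕ} (S : RealGraph72.Split G π₁ π₂)
    (h2 : 2 ∈ π₁) :
    (∀ P : Sylow 2 G, (P : Subgroup G).Normal) ∨
    ((∃ x : (Subgroup.closure {g : G | ∃ k : ℕ, orderOf g = 2 ^ k} : Subgroup G),
        IsConj x x⁻¹ ∧ 2 ∣ RealGraph72.cs x) ∧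
    (∃ x : (Subgroup.closure {g : G | ∃ k : ℕ, orderOf g = 2 ^ k} : Subgroup G),
        IsConj x x⁻¹ ∧ RealGraph72.cs x ≠ 1 ∧ Odd (RealGraph72.cs x)) ∧
    ∀ x : (Subgroup.closure {g : G | ∃ k : ℕ, orderOf g = 2 ^ k} : Subgroup G), IsConj x x⁻¹ →
      Odd (RealGraph72.cs x) ∨ ∃ j : ℕ, RealGraph72.cs x = 2 ^ j) := by
  by_cases hex : ∃ u : G, RealGraph72.OddReal u
  · right
    obtain ⟨b, hb, hbp, y, hy, hyb⟩ := S.right
    exact RealGraph72.Data.conclusion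
      (⟨S, h2, hy, S.symm.eq_pi_of_dvd hy hb hbp hyb,
        fun e => hbp.ne_one (Nat.dvd_one.mp (e ▸ hyb))⟩ : RealGraph72.Data G π₁ π₂ y) hex
  · left
    exact RealGraph72.sylow_two_normal_of_no_real fun r x hr hr2 hx hreal => hex
      ⟨x, hreal, hx ▸ hr.odd_of_ne_two hr2, fun e => hr.ne_one (by rw [← hx, e, orderOf_one])⟩

/-- Let G be a finite group; call an element real when it is conjugate to its inverse, and say that the real-class-size graph of a group is disconnected when the primes dividing its real class sizes split into two non-empty disjoint parts with no real class size divisible by a prime from each part. If the real-class-size graph of G is disconnected, then some real class size of G is even, and either the Sylow 2-subgroups of G are normal, or the subgroup K generated by the 2-elements of G (the smallest normal subgroup of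 odd index) again has a disconnected real-class-size graph and every real class size of K is odd or a power of 2. -/
theorem result {G : Type*} [Group G] [Finite G] (h : (∃ π₁ π₂ : Set ℕ, π₁.Nonempty ∧ π₂.Nonempty ∧ Disjoint π₁ π₂ ∧ (∀ q ∈ π₁ ∪ π₂, q.Prime ∧ ∃ n ∈ {n : ℕ | ∃ x : G, IsConj x x⁻¹ ∧ (Subgroup.centralizer ({x} : Set G)).index = n}, q ∣ n) ∧ (∀ q : ℕ, q.Prime → (∃ n ∈ {n : ℕ | ∃ x : G, IsConj x x⁻¹ ∧ (Subgroup.centralizer ({x} : Set G)).index = n}, q ∣ n) → q ∈ π₁ ∨ q ∈ π₂) ∧ ∀ a ∈ π₁, ∀ b ∈ π₂, ∀ n ∈ {n : ℕ | ∃ x : G, IsConj x x⁻¹ ∧ (Subgroup.centralizer ({x} : Set G)).index = n}, ¬ (a ∣ n ∧ b ∣ n))) : (∃ n ∈ {n : ℕ | ∃ x : G, IsConj x x⁻¹ ∧ (Subgroup.centralizer ({x} : Set G)).index = n}, 2 ∣ n) ∧ ((∀ P : Sylow 2 G, (P : Subgroup G).Normal) ∨ ((∃ π₁ π₂ : Set ℕ, π₁.Nonempty ∧ π₂.Nonempty ∧ Disjoint π₁ π₂ ∧ (∀ q ∈ π₁ ∪ π₂, q.Prime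 ∧ ∃ n ∈ {n : ℕ | ∃ x : ↥(Subgroup.closure {g : G | ∃ k : ℕ, orderOf g = 2 ^ k}), IsConj x x⁻¹ ∧ (Subgroup.centralizer ({x} : Set ↥(Subgroup.closure {g : G | ∃ k : ℕ, orderOf g = 2 ^ k}))).index = n}, q ∣ n) ∧ (∀ q : ℕ, q.Prime → (∃ n ∈ {n : ℕ | ∃ x : ↥(Subgroup.closure {g : G | ∃ k : ℕ, orderOf g = 2 ^ k}), IsConj x x⁻¹ ∧ (Subgroup.centralizer ({x} : Set ↥(Subgroup.closure {g : G | ∃ k : ℕ, orderOf g = 2 ^ k}))).index = n}, q ∣ n) → q ∈ π₁ ∨ q ∈ π₂) ∧ ∀ a ∈ π₁, ∀ b ∈ π₂, ∀ n ∈ {n : ℕ | ∃ x : ↥(Subgroup.closure {g : G | ∃ k : ℕ, orderOf g = 2 ^ k}), IsConj x x⁻¹ ∧ (Subgroup.centralizer ({x} : Set ↥(Subgroup.closure {g : G | ∃ k : ℕ, orderOf g = 2 ^ k}))).index = n}, ¬ (a ∣ n ∧ b ∣ n)) ∧ ∀ n ∈ {n : ℕ | ∃ x : ↥(Subgroup.closure {g : G | ∃ k : ℕ, orderOf g = 2 ^ k}), IsConj x x⁻¹ ∧ (Subgroup.centralizer ({x} : Set ↥(Subgroup.closure {g : G | ∃ k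 : ℕ, orderOf g = 2 ^ k}))).index = n}, Odd n ∨ ∃ j : ℕ, n = 2 ^ j)) := by
  obtain ⟨π₁, π₂, ⟨a, ha⟩, ⟨b, hb⟩, hdisj, hin, hcov, hsep⟩ := h
  have hw : ∀ q ∈ π₁ ∪ π₂, q.Prime ∧ ∃ x : G, IsConj x x⁻¹ ∧ q ∣ RealGraph72.cs x := fun q hq => by
    obtain ⟨hqp, n, ⟨x, hx, rfl⟩, hd⟩ := hin q hq
    exact ⟨hqp, x, hx, hd⟩
  have S : RealGraph72.Split G π₁ π₂ :=
    ⟨hdisj, fun q hq hx => hcov q hq (by
        obtain ⟨x, hx, hd⟩ := hx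
        exact ⟨_, ⟨x, hx, rfl⟩, hd⟩),
      fun a ha b hb x hx hd => hsep a ha b hb _ ⟨x, hx, rfl⟩ hd,
      ⟨a, ha, hw a (Or.inl ha)⟩, ⟨b, hb, hw b (Or.inr hb)⟩⟩
  obtain ⟨x, hx, hx2⟩ := S.exists_even
  refine ⟨⟨_, ⟨x, hx, rfl⟩, hx2⟩, ?_⟩
  have hmain := (S.cover 2 Nat.prime_two ⟨x, hx, hx2⟩).elim (core S) (core S.symm)
  rcases hmain with hP | ⟨⟨u, hu, hu2⟩, ⟨v, hv, hv1, hvo⟩, hall⟩
  · exact Or.inl hP
  refine Or.inr ⟨⟨{2}, {q : ℕ | q.Prime ∧ ∃ x : (Subgroup.closure {g : G | ∃ k : ℕ, orderOf g = 2 ^ k}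
      : Subgroup G), IsConj x x⁻¹ ∧ Odd (RealGraph72.cs x) ∧ q ∣ RealGraph72.cs x}, ⟨2, rfl⟩, ?_, ?_,
      ?_, ?_, ?_⟩, ?_⟩
  · obtain ⟨q, hq, hqd⟩ := Nat.exists_prime_and_dvd hv1
    exact ⟨q, hq, v, hv, hvo, hqd⟩
  · refine Set.disjoint_left.mpr ?_
    rintro q rfl ⟨-, x, -, ho, hd⟩
    exact (Nat.not_even_iff_odd.mpr ho) (even_iff_two_dvd.mpr hd)
  · rintro q (rfl | ⟨hq, x, hx, -, hd⟩)
    · exact ⟨Nat.prime_two, _, ⟨u, hu, rfl⟩, hu2⟩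
    · exact ⟨hq, _, ⟨x, hx, rfl⟩, hd⟩
  · rintro q hq ⟨n, ⟨x, hx, rfl⟩, hd⟩
    rcases hall x hx with ho | ⟨j, hj⟩
    · exact Or.inr ⟨hq, x, hx, ho, hd⟩
    · left
      change q ∣ RealGraph72.cs x at hd
      rw [hj] at hd
      exact (Nat.prime_dvd_prime_iff_eq hq Nat.prime_two).mp (hq.dvd_of_dvd_pow hd)
  · rintro a rfl b hb n ⟨x, hx, rfl⟩ ⟨h1, h2⟩
    obtain ⟨hbp, x', -, ho', hd'⟩ := hb
    rcases hall x hx with ho | ⟨j, hj⟩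
    · exact (Nat.not_even_iff_odd.mpr ho) (even_iff_two_dvd.mpr h1)
    · change b ∣ RealGraph72.cs x at h2
      rw [hj] at h2
      have hb2 := (Nat.prime_dvd_prime_iff_eq hbp Nat.prime_two).mp (hbp.dvd_of_dvd_pow h2)
      subst hb2
      exact (Nat.not_even_iff_odd.mpr ho') (even_iff_two_dvd.mpr hd')
  · rintro n ⟨x, hx, rfl⟩
    exact hall x hx

end Cfsg.Agent.S4192
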