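import Cfsg.Statements.S4193
import Cfsg.Agent.Real72.RealCentral
import Cfsg.Agent.S0071
import Cfsg.Agent.S0205
import Cfsg.Agent.Lib.Transfer.Residual

set_option maxHeartbeats 400000

set_option autoImplicit false
open Cfsg

namespace Cfsg.Agent.S4193

open Subgroup

theorem two_dvd_index {G : Type*} [Group G] [Finite G] {x t : G} (ht : t * x * t⁻¹ = x⁻¹)
    (hx : x * x ≠ 1) : 2 ∣ (centralizer ({x} : Set G)).index := by
  set C := centralizer ({x} : Set G) with hC
  set N := normalizer (zpowers x : Set G) with hN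
  have hxN : ∀ n ∈ N, n * x * n⁻¹ ∈ zpowers x := fun n hn =>
    (mem_normalizer_iff.1 hn x).1 (mem_zpowers x)
  have hCN : C ≤ N := fun g hg => mem_normalizer_iff.2 fun y => by
    have h1 : ∀ y ∈ zpowers x, g * y * g⁻¹ = y := by
      rintro _ ⟨i, rfl⟩
      show g * x ^ i * g⁻¹ = x ^ i
      rw [(Commute.zpow_right (mem_centralizer_singleton_iff.1 hg) i).eq, mul_inv_cancel_right]
    refine ⟨fun hy => by rw [h1 y hy]; exact hy, fun hy => ?_⟩
    have h3 : g * y * g⁻¹ = y := mul_left_cancel (mul_right_cancel (h1 _ hy))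
    rwa [h3] at hy
  haveI : (C.subgroupOf N).Normal := by
    rw [normal_subgroupOf_iff hCN]
    intro h k hh hk
    rw [hC, mem_centralizer_singleton_iff] at hh ⊢
    obtain ⟨i, hi⟩ := hxN k⁻¹ (N.inv_mem hk)
    have h1 : Commute h (k⁻¹ * x * k) := by
      rw [show k⁻¹ * x * k = x ^ i by simpa using hi.symm]
      exact (show Commute h x from hh).zpow_right i
    calc k * h * k⁻¹ * x = k * (h * (k⁻¹ * x * k)) * k⁻¹ := by group
      _ = k * (k⁻¹ * x * k * h) * k⁻¹ := by rw [h1.eq]
      _ = x * (k * h * k⁻¹) := by group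
  have htN : t ∈ N := by
    refine mem_normalizer_iff.2 fun y => ?_
    have h1 : ∀ i : ℤ, t * x ^ i * t⁻¹ = x ^ (-i) := fun i => by
      rw [← MulAut.conj_apply, map_zpow, MulAut.conj_apply, ht, inv_zpow, zpow_neg]
    constructor
    · rintro ⟨i, rfl⟩
      exact ⟨-i, (h1 i).symm⟩
    · rintro ⟨i, hi⟩
      refine ⟨-i, ?_⟩
      have h2 : t * x ^ (-i) * t⁻¹ = t * y * t⁻¹ := by rw [h1, neg_neg]; exact hi
      exact mul_left_cancel (mul_right_cancel h2)
  have htC : t ∉ C := fun h => by
    rw [hC, mem_centralizer_singleton_iff] at h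
    rw [h, mul_inv_cancel_right] at ht
    exact hx (by nth_rw 2 [ht]; rw [mul_inv_cancel])
  have ht2 : t * t ∈ C := by
    rw [hC, mem_centralizer_singleton_iff]
    have h2 : t * x⁻¹ * t⁻¹ = x := by
      simpa [mul_assoc] using congrArg Inv.inv ht
    have h3 : t * (t * x * t⁻¹) * t⁻¹ = x := by rw [ht, h2]
    rw [show t * (t * x * t⁻¹) * t⁻¹ = t * t * x * (t * t)⁻¹ by group] at h3
    exact mul_inv_eq_iff_eq_mul.1 h3
  have hord : orderOf (QuotientGroup.mk' (C.subgroupOf N) ⟨t, htN⟩) = 2 := by
    refine orderOf_eq_prime ?_ fun h => htC (mem_subgroupOf.1 ((QuotientGroup.eq_one_iff _).1 h))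
    rw [sq, ← map_mul]
    exact (QuotientGroup.eq_one_iff _).2 (mem_subgroupOf.2 ht2)
  exact (hord ▸ orderOf_dvd_natCard _ : 2 ∣ C.relIndex N).trans (relIndex_dvd_index_of_le hCN)

theorem exists_conj_mem {G : Type*} [Group G] [Finite G] (S : Sylow 2 G) {U : Subgroup G}
    (hU : IsPGroup 2 U) : ∃ a : G, ∀ u ∈ U, a * u * a⁻¹ ∈ (S : Subgroup G) := by
  haveI : Fact (Nat.Prime 2) := ⟨Nat.prime_two⟩
  obtain ⟨T, hT⟩ := hU.exists_le_sylow
  obtain ⟨a, ha⟩ := MulAction.exists_smul_eq G T S
  refine ⟨a, fun u hu => ?_⟩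
  rw [← ha, Sylow.coe_subgroup_smul]
  exact smul_mem_pointwise_smul _ (MulAut.conj a) _ (hT hu)

/-- Let G be a finite group in which the conjugacy classes of all non-central real elements (elements conjugate to their inverses) have sizes with the same 2-part, and suppose G has a Sylow 2-subgroup S such that every element of S that is conjugate in S to its inverse lies in the centre of S. Then G is solvable and the subgroup generated by the 2-elements of G (the smallest normal subgroup of odd index) has a normal 2-complement. -/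
theorem result {G : Type*} [Group G] [Finite G] (a : ℕ) (h : ∀ x : G, IsConj x x⁻¹ → x ∉ Subgroup.center G → ((Subgroup.centralizer ({x} : Set G)).index).factorization 2 = a) (S : Sylow 2 G) (hS : ∀ s : ↥(S : Subgroup G), IsConj s s⁻¹ → s ∈ Subgroup.center ↥(S : Subgroup G)) : Group.IsSolvable G ∧ Cfsg.HasNormalPComplement 2 ↥(Subgroup.closure {g : G | ∃ k : ℕ, orderOf g = 2 ^ k}) := by
  classical
  haveI : Fact (Nat.Prime 2) := ⟨Nat.prime_two⟩
  -- real elements of `S` are central in `S`
  have hSreal : ∀ u ∈ (S : Subgroup G), ∀ v ∈ (S : Subgroup G), v * u * v⁻¹ = u⁻¹ →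
      ∀ w ∈ (S : Subgroup G), Commute u w := fun u hu v hv huv w hw =>
    (congrArg Subtype.val (mem_center_iff.1 (hS ⟨u, hu⟩
      (isConj_iff.2 ⟨⟨v, hv⟩, Subtype.ext huv⟩)) ⟨w, hw⟩)).symm
  have hinvS : ∀ i ∈ (S : Subgroup G), i * i = 1 → ∀ w ∈ (S : Subgroup G), Commute i w :=
    fun i hi hii => hSreal i hi 1 (one_mem _)
      (by rw [one_mul, inv_one, mul_one, inv_eq_of_mul_eq_one_right hii])
  have hp2 : ∀ i : G, i * i = 1 → IsPGroup 2 (zpowers i) := fun i hi => by
    obtain ⟨k, -, hk⟩ := (Nat.dvd_prime_pow Nat.prime_two).1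
      (show orderOf i ∣ 2 ^ 1 from orderOf_dvd_of_pow_eq_one (by rw [pow_one, sq, hi]))
    exact IsPGroup.of_card (n := k) (by rw [Nat.card_zpowers, hk])
  -- a noncentral involution makes all real class sizes odd
  have ha0 : ∀ i : G, i * i = 1 → i ∉ center G → a = 0 := by
    intro i hii hic
    obtain ⟨b, hb⟩ := exists_conj_mem S (hp2 i hii)
    have hj := hb i (mem_zpowers i)
    set j := b * i * b⁻¹ with hjdef
    have hjj : j * j = 1 := by
      rw [hjdef, show b * i * b⁻¹ * (b * i * b⁻¹) = b * (i * i) * b⁻¹ by group, hii, mul_one,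
        mul_inv_cancel]
    have hjc : j ∉ center G := fun hc => hic (by
      have h1 := (center G).mul_mem hc (center G).one_mem
      have h2 : i = b⁻¹ * j * b := by rw [hjdef]; group
      rw [h2, mul_assoc, ← mem_center_iff.1 hc b, inv_mul_cancel_left]
      exact hc)
    have hle : (S : Subgroup G) ≤ centralizer ({j} : Set G) := fun w hw =>
      mem_centralizer_singleton_iff.2 (hinvS j hj hjj w hw).eq.symm
    rw [← h j (isConj_iff.2 ⟨1, by rw [one_mul, inv_one, mul_one, inv_eq_of_mul_eq_one_right hjj]⟩)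
      hjc]
    exact Nat.factorization_eq_zero_of_not_dvd fun hd =>
      S.not_dvd_index (hd.trans (index_dvd_of_le hle))
  -- involutions commute
  have hcomm : ∀ s t : G, s * s = 1 → t * t = 1 → Commute s t := by
    intro s t hs ht
    by_cases hsc : s ∈ center G
    · exact (mem_center_iff.1 hsc t).symm
    have ha := ha0 s hs hsc
    have hsi := inv_eq_of_mul_eq_one_right hs
    have hti := inv_eq_of_mul_eq_one_right ht
    have hinv : s * (s * t) * s⁻¹ = (s * t)⁻¹ := by
      rw [← mul_assoc, hs, one_mul, mul_inv_rev, hti]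
    by_contra hst
    have hz2 : s * t * (s * t) ≠ 1 := fun hz => hst (by
      show s * t = t * s
      rw [← inv_eq_of_mul_eq_one_right hz, mul_inv_rev, hsi, hti])
    have hzc : s * t ∉ center G := fun hc => hz2 (by
      rw [mem_center_iff.1 hc s, mul_inv_cancel_right] at hinv
      nth_rw 2 [hinv]
      rw [mul_inv_cancel])
    have h1 := h _ (isConj_iff.2 ⟨s, hinv⟩) hzc
    rw [ha] at h1
    have h2 := (Nat.prime_two.factorization_pos_of_dvd index_ne_zero_of_finite
      (two_dvd_index hinv hz2))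
    omega
  -- the centraliser of all involutions
  set I : Set G := {i | i * i = 1} with hI
  set C := centralizer I with hC
  have hCmem : ∀ x : G, x ∈ C ↔ ∀ i : G, i * i = 1 → i * x = x * i := fun x => mem_centralizer_iff
  haveI : C.Normal := ⟨fun x hx g => by
    rw [hCmem] at hx ⊢
    intro i hi
    have h1 := hx (g⁻¹ * i * g) (by
      rw [show g⁻¹ * i * g * (g⁻¹ * i * g) = g⁻¹ * (i * i) * g by group, hi, mul_one,
        inv_mul_cancel])
    calc i * (g * x * g⁻¹) = g * (g⁻¹ * i * g * x) * g⁻¹ := by group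
      _ = g * (x * (g⁻¹ * i * g)) * g⁻¹ := by rw [h1]
      _ = g * x * g⁻¹ * i := by group⟩
  have hIS : ∀ i : G, i * i = 1 → i ∈ (S : Subgroup G) := by
    intro i hi
    haveI hn : (closure I).Normal := ⟨fun x hx g => by
      have h1 := mem_map_of_mem (MulAut.conj g).toMonoidHom hx
      rw [MonoidHom.map_closure] at h1
      refine closure_mono ?_ h1
      rintro _ ⟨j, hj, rfl⟩
      show g * j * g⁻¹ * (g * j * g⁻¹) = 1
      rw [show g * j * g⁻¹ * (g * j * g⁻¹) = g * (j * j) * g⁻¹ by group, hj, mul_one,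
        mul_inv_cancel]⟩
    have hall : ∀ x ∈ closure I, x * x = 1 := by
      intro x hx
      induction hx using closure_induction with
      | mem x hx => exact hx
      | one => exact one_mul 1
      | mul x y _ _ hx hy =>
        rw [show x * y * (x * y) = x * (y * x) * y by group, ← (hcomm x y hx hy).eq,
          ← mul_assoc, hx, one_mul, hy]
      | inv x _ hx => rw [← mul_inv_rev, hx, inv_one]
    have hp : IsPGroup 2 (closure I) := fun x =>
      ⟨1, Subtype.ext (by rw [pow_one, sq]; exact hall _ x.2)⟩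
    obtain ⟨b, hb⟩ := exists_conj_mem S hp
    have h1 := hb (b⁻¹ * i * b) (subset_closure (show b⁻¹ * i * b * (b⁻¹ * i * b) = 1 by
      rw [show b⁻¹ * i * b * (b⁻¹ * i * b) = b⁻¹ * (i * i) * b by group, hi, mul_one,
        inv_mul_cancel]))
    rwa [show b * (b⁻¹ * i * b) * b⁻¹ = i by group] at h1
  have hSC : (S : Subgroup G) ≤ C := fun w hw => (hCmem w).2 fun i hi =>
    (hinvS i (hIS i hi) hi w hw).eq
  -- `C` has a normal 2-complement
  have hC2 : Cfsg.HasNormalPComplement 2 C := by
    obtain ⟨P⟩ : Nonempty (Sylow 2 C) := Sylow.nonempty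
    obtain ⟨N, hN⟩ := (S0071.result P).2 fun Q hQ g hg hgp => by
      rw [mem_centralizer_iff]
      intro q hq
      obtain ⟨b, hb⟩ := exists_conj_mem S ((P.2.to_le hQ).map C.subtype)
      refine Subtype.ext ?_
      show (q : G) * g = g * q
      refine (Real72.commute_of_real_central (g := (g : G))
        (by rw [Subgroup.orderOf_coe]; exact Nat.coprime_two_right.1 hgp) _ (Q.map C.subtype) rfl
        ((P.2.to_le hQ).map _) (le_normalizer_map C.subtype ⟨g, hg, rfl⟩)
        (fun i _ hi => ((hCmem g).1 g.2 i hi).symm) ?_ _ ⟨q, hq, rfl⟩).eq.symm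
      intro u hu v hv huv w hw
      have h1 := hSreal _ (hb u hu) _ (hb v hv) (by
        rw [show b * v * b⁻¹ * (b * u * b⁻¹) * (b * v * b⁻¹)⁻¹ = b * (v * u * v⁻¹) * b⁻¹ by group,
          huv]
        group) _ (hb w hw)
      have h2 := h1.eq
      rw [show b * u * b⁻¹ * (b * w * b⁻¹) = b * (u * w) * b⁻¹ by group,
        show b * w * b⁻¹ * (b * u * b⁻¹) = b * (w * u) * b⁻¹ by group] at h2
      exact mul_left_cancel (mul_right_cancel h2)
    exact ⟨P, N, hN⟩
  refine ⟨?_, Transfer.hasNormalPComplement_mono ((closure_le C).2 ?_) hC2⟩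
  · -- solvability
    obtain ⟨P, N, hN, hNP⟩ := hC2
    haveI := hN
    have hNodd : Odd (Nat.card N) := by
      rw [← hNP.index_eq_card, ← Nat.not_even_iff_odd, even_iff_two_dvd]
      exact P.not_dvd_index
    haveI : Group.IsSolvable N := S0205.result hNodd
    haveI : Group.IsSolvable (C ⧸ N) := by
      obtain ⟨k, hk⟩ := IsPGroup.iff_card.1 P.2
      have hq : IsPGroup 2 (C ⧸ N) := IsPGroup.of_card (n := k) (by
        rw [← Subgroup.index_eq_card, hNP.symm.index_eq_card, hk])
      haveI := hq.isNilpotent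
      infer_instance
    haveI : Group.IsSolvable C := Group.isSolvable_of_ker_le_range N.subtype (QuotientGroup.mk' N)
      (by rw [QuotientGroup.ker_mk', range_subtype])
    haveI : Group.IsSolvable (G ⧸ C) := by
      refine S0205.result ?_
      rw [← Subgroup.index_eq_card, ← Nat.not_even_iff_odd, even_iff_two_dvd]
      exact fun hd => S.not_dvd_index (hd.trans (index_dvd_of_le hSC))
    exact Group.isSolvable_of_ker_le_range C.subtype (QuotientGroup.mk' C)
      (by rw [QuotientGroup.ker_mk', range_subtype])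
  · rintro x ⟨k, hk⟩
    obtain ⟨b, hb⟩ := exists_conj_mem S
      (IsPGroup.of_card (n := k) (by rw [Nat.card_zpowers, hk]) : IsPGroup 2 (zpowers x))
    have h1 := Normal.conj_mem (inferInstance : C.Normal) _ (hSC (hb x (mem_zpowers x))) b⁻¹
    simpa [mul_assoc] using h1

end Cfsg.Agent.S4193
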