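import Cfsg.Statements.S4355
import Cfsg.Agent.SylowNum.Control

set_option autoImplicit false
open Cfsg

namespace Cfsg.Agent.S4355

open scoped Pointwise
open Cfsg.Agent.SylowNum

variable {G : Type*} [Group G] [Finite G]

theorem mem_sylow_of_centralizes [Fact (Nat.Prime 2)] (S : Sylow 2 G) {x : G}
    (hx : ∃ k : ℕ, x ^ 2 ^ k = 1) (hc : x ∈ Subgroup.normalizer (S : Set G)) : x ∈ (S : Subgroup G) := by
  obtain ⟨k, hk⟩ := hx
  have hZ : IsPGroup 2 (Subgroup.zpowers x) := by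
    obtain ⟨j, -, hj⟩ := (Nat.dvd_prime_pow Nat.prime_two).mp (orderOf_dvd_of_pow_eq_one hk)
    exact IsPGroup.of_card (n := j) (by rw [Nat.card_zpowers, hj])
  have h2 := hZ.to_sup_of_normal_right' S.isPGroup' (by rw [Subgroup.zpowers_le]; exact hc)
  exact S.is_maximal' h2 le_sup_right ▸ (le_sup_left : Subgroup.zpowers x ≤ _) (Subgroup.mem_zpowers x)

theorem exists_conj_central [Fact (Nat.Prime 2)]
    (h : ∀ x : G, (∃ k : ℕ, orderOf x = 2 ^ k) → ¬ 2 ∣ (Subgroup.centralizer ({x} : Set G)).index)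
    (S : Sylow 2 G) {x : G} (hx : x ∈ (S : Subgroup G)) :
    ∃ g : G, g * x * g⁻¹ ∈ (S : Subgroup G) ∧
      g * x * g⁻¹ ∈ Subgroup.centralizer ((S : Subgroup G) : Set G) := by
  set C := Subgroup.centralizer ({x} : Set G) with hC
  have hodd : ¬ 2 ∣ C.index := h x (by
    rw [← Subgroup.orderOf_mk x hx] ; exact IsPGroup.iff_orderOf.mp S.isPGroup' ⟨x, hx⟩)
  obtain ⟨R⟩ : Nonempty (Sylow 2 C) := inferInstance
  obtain ⟨R', hR'⟩ := (R.isPGroup'.map C.subtype).exists_le_sylow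
  have hR'C : (R' : Subgroup G) ≤ C := by
    have hidx : ¬ 2 ∣ ((R : Subgroup C).map C.subtype).index := by
      rw [Subgroup.index_map_subtype]
      exact Nat.prime_two.not_dvd_mul R.not_dvd_index hodd
    let R'' : Sylow 2 G := (R.isPGroup'.map C.subtype).toSylow hidx
    have : (R' : Subgroup G) = (R : Subgroup C).map C.subtype :=
      (R''.is_maximal' R'.isPGroup' hR')
    rw [this]
    exact Subgroup.map_subtype_le _
  obtain ⟨g, hg⟩ := MulAction.exists_smul_eq G R' S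
  have hS : ∀ s ∈ (S : Subgroup G), g⁻¹ * s * g ∈ (R' : Subgroup G) := fun s hs => by
    rw [← hg, Sylow.coe_subgroup_smul, mem_conj_iff] at hs
    exact hs
  have hcent : g * x * g⁻¹ ∈ Subgroup.centralizer ((S : Subgroup G) : Set G) := by
    rw [Subgroup.mem_centralizer_iff]
    intro s hs
    have h1 : g⁻¹ * s * g * x = x * (g⁻¹ * s * g) :=
      Subgroup.mem_centralizer_singleton_iff.mp (hR'C (hS s hs))
    calc s * (g * x * g⁻¹) = g * (g⁻¹ * s * g * x) * g⁻¹ := by group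
      _ = g * (x * (g⁻¹ * s * g)) * g⁻¹ := by rw [h1]
      _ = g * x * g⁻¹ * s := by group
  refine ⟨g, mem_sylow_of_centralizes S ?_ (Subgroup.centralizer_le_normalizer _ hcent), hcent⟩
  obtain ⟨k, hk⟩ := S.isPGroup' ⟨x, hx⟩
  refine ⟨k, ?_⟩
  rw [show (g * x * g⁻¹) ^ 2 ^ k = MulAut.conj g (x ^ 2 ^ k) by rw [map_pow]; rfl,
    show x ^ 2 ^ k = 1 from congrArg Subtype.val hk, map_one]

/-- Inductively, the elements of exponent `2 ^ k` of the Sylow subgroup are central in it. -/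
theorem central [Fact (Nat.Prime 2)] {S : Sylow 2 G}
    (h : ∀ x ∈ (S : Subgroup G), ∃ g : G, g * x * g⁻¹ ∈ (S : Subgroup G) ∧
      g * x * g⁻¹ ∈ Subgroup.centralizer ((S : Subgroup G) : Set G)) (k : ℕ) :
    ∀ x ∈ (S : Subgroup G), x ^ 2 ^ k = 1 → x ∈ Subgroup.centralizer ((S : Subgroup G) : Set G) := by
  induction k with
  | zero =>
    intro x _ hx
    rw [pow_zero, pow_one] at hx
    rw [hx]
    exact one_mem _
  | succ k ih =>
  have comm : ∀ a ∈ (S : Subgroup G), a ^ 2 ^ k = 1 → ∀ s ∈ (S : Subgroup G), a * s = s * a :=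
    fun a ha ha' s hs => (Subgroup.mem_centralizer_iff.mp (ih a ha ha') s hs).symm
  -- the elements of exponent `2 ^ k` form a subgroup `A`
  let A : Subgroup G :=
    { carrier := {x | x ∈ (S : Subgroup G) ∧ x ^ 2 ^ k = 1}
      one_mem' := ⟨one_mem _, one_pow _⟩
      mul_mem' := fun {a b} ha hb => ⟨mul_mem ha.1 hb.1, by
        rw [Commute.mul_pow (comm a ha.1 ha.2 b hb.1), ha.2, hb.2, one_mul]⟩
      inv_mem' := fun {a} ha => ⟨inv_mem ha.1, by rw [inv_pow, ha.2, inv_one]⟩ }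
  have hA : ∀ a ∈ A, ∀ s ∈ (S : Subgroup G), a * s = s * a := fun a ha => comm a ha.1 ha.2
  have hconjA : ∀ g : G, ∀ a ∈ A, g * a * g⁻¹ ∈ (S : Subgroup G) → g * a * g⁻¹ ∈ A := fun g a ha hS =>
    ⟨hS, by
      rw [show (g * a * g⁻¹) ^ 2 ^ k = MulAut.conj g (a ^ 2 ^ k) by rw [map_pow]; rfl, ha.2, map_one]⟩
  have hsq : ∀ x ∈ (S : Subgroup G), x ^ 2 ^ (k + 1) = 1 → x * x ∈ A := fun x hx hx' =>
    ⟨mul_mem hx hx, by rw [← pow_two, ← pow_mul, ← pow_succ']; exact hx'⟩
  have hsq' : ∀ x ∈ (S : Subgroup G), x * x ∈ A → x ^ 2 ^ (k + 1) = 1 := fun x hx hx' => by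
    rw [pow_succ', pow_mul, pow_two]; exact hx'.2
  -- the key fact: products of two such elements are of the same kind
  have key : ∀ x ∈ (S : Subgroup G), ∀ y ∈ (S : Subgroup G), x * x ∈ A → y * y ∈ A →
      (x * y) * (x * y) ∈ A := by
    intro x hx y hy hxx hyy
    set r := x * y with hr
    have hrS : r ∈ (S : Subgroup G) := mul_mem hx hy
    obtain ⟨g₀, hg₀S, hg₀C⟩ := h r hrS
    set z := g₀ * r * g₀⁻¹ with hz
    -- improve `g₀` so that it moves `C_S(r)` into `S`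
    obtain ⟨g, hgr, hgS⟩ : ∃ g : G, g * r * g⁻¹ = z ∧
        ∀ s ∈ (S : Subgroup G), s * r = r * s → g * s * g⁻¹ ∈ (S : Subgroup G) := by
      set Cz := Subgroup.centralizer ({z} : Set G) with hCz
      set D := (S : Subgroup G) ⊓ Subgroup.centralizer ({r} : Set G) with hD
      have hSC : (S : Subgroup G) ≤ Cz := fun s hs =>
        Subgroup.mem_centralizer_singleton_iff.mpr (Subgroup.mem_centralizer_iff.mp hg₀C s hs)
      have hDC : MulAut.conj g₀ • D ≤ Cz := conj_le_iff.mpr fun d hd => by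
        have h1 : d * r = r * d := Subgroup.mem_centralizer_singleton_iff.mp hd.2
        rw [hCz, Subgroup.mem_centralizer_singleton_iff, hz]
        calc g₀ * d * g₀⁻¹ * (g₀ * r * g₀⁻¹) = g₀ * (d * r) * g₀⁻¹ := by group
          _ = g₀ * (r * d) * g₀⁻¹ := by rw [h1]
          _ = g₀ * r * g₀⁻¹ * (g₀ * d * g₀⁻¹) := by group
      have hp : IsPGroup 2 (MulAut.conj g₀ • D : Subgroup G) := (S.isPGroup'.to_le inf_le_left).map _
      obtain ⟨R, hR⟩ := (hp.comap_of_injective Cz.subtype Cz.subtype_injective).exists_le_sylow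
      obtain ⟨c, hc⟩ := MulAction.exists_smul_eq Cz R (S.subtype hSC)
      refine ⟨c * g₀, ?_, fun s hs hsr => ?_⟩
      · have := Subgroup.mem_centralizer_singleton_iff.mp c.2
        calc (c : G) * g₀ * r * ((c : G) * g₀)⁻¹ = (c : G) * z * (c : G)⁻¹ := by rw [hz]; group
          _ = z := by rw [this, mul_inv_cancel_right]
      · have hs' : g₀ * s * g₀⁻¹ ∈ MulAut.conj g₀ • D :=
          conj_mem_conj ⟨hs, Subgroup.mem_centralizer_singleton_iff.mpr hsr⟩
        have hsR : (⟨g₀ * s * g₀⁻¹, hDC hs'⟩ : Cz) ∈ (R : Subgroup Cz) :=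
          hR (show (⟨g₀ * s * g₀⁻¹, hDC hs'⟩ : Cz) ∈ Subgroup.comap Cz.subtype (MulAut.conj g₀ • D)
            from hs')
        have hmem := conj_mem_conj (g := c) hsR
        rw [← Sylow.coe_subgroup_smul, hc] at hmem
        have hmem' : ((c * ⟨g₀ * s * g₀⁻¹, hDC hs'⟩ * c⁻¹ : Cz) : G) ∈ (S : Subgroup G) := hmem
        simpa [mul_assoc] using hmem'
    -- `x r x⁻¹ = r⁻¹ a`
    set a := (x * x) * (y * y) with ha
    have haA : a ∈ A := mul_mem hxx hyy
    have hrel : x * r * x⁻¹ = r⁻¹ * a := by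
      have h1 := hA _ hxx _ (mul_mem hy (inv_mem hx))
      rw [eq_inv_mul_iff_mul_eq, hr, ha]
      calc x * y * (x * (x * y) * x⁻¹) = x * (y * (x * x)) * (y * x⁻¹) := by group
        _ = x * ((x * x) * y) * (y * x⁻¹) := by rw [hA _ hxx y hy]
        _ = (x * x) * (x * (y * y)) * x⁻¹ := by group
        _ = (x * x) * ((y * y) * x) * x⁻¹ := by rw [hA _ hyy x hx]
        _ = (x * x) * (y * y) := by group
    set b := g * a * g⁻¹ with hb
    have hbA : b ∈ A := hconjA g a haA (hgS a haA.1 (hA a haA r hrS))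
    set w := z⁻¹ * b with hw
    have hwS : w ∈ (S : Subgroup G) := mul_mem (inv_mem hg₀S) hbA.1
    have hwC : w ∈ Subgroup.centralizer ((S : Subgroup G) : Set G) :=
      mul_mem (inv_mem hg₀C) (ih b hbA.1 hbA.2)
    have hwz : w = (g * x * g⁻¹) * z * (g * x * g⁻¹)⁻¹ := by
      calc w = g * (r⁻¹ * a) * g⁻¹ := by rw [hw, hb, ← hgr]; group
        _ = g * (x * r * x⁻¹) * g⁻¹ := by rw [hrel]
        _ = (g * x * g⁻¹) * z * (g * x * g⁻¹)⁻¹ := by rw [← hgr]; group
    -- Burnside: `z` and `w` are conjugate in the normalizer of `S`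
    obtain ⟨n, hnN, hn⟩ : ∃ n ∈ Subgroup.normalizer (S : Set G), n * z * n⁻¹ = w := by
      set u := g * x * g⁻¹
      set Cw := Subgroup.centralizer ({w} : Set G) with hCw
      have hSC : (S : Subgroup G) ≤ Cw := fun s hs =>
        Subgroup.mem_centralizer_singleton_iff.mpr (Subgroup.mem_centralizer_iff.mp hwC s hs)
      have hSC' : ((u • S : Sylow 2 G) : Subgroup G) ≤ Cw := by
        rw [Sylow.coe_subgroup_smul, conj_le_iff]
        intro s hs
        have h1 : s * z = z * s := Subgroup.mem_centralizer_iff.mp hg₀C s hs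
        rw [hCw, Subgroup.mem_centralizer_singleton_iff, hwz]
        calc u * s * u⁻¹ * (u * z * u⁻¹) = u * (s * z) * u⁻¹ := by group
          _ = u * (z * s) * u⁻¹ := by rw [h1]
          _ = u * z * u⁻¹ * (u * s * u⁻¹) := by group
      obtain ⟨c, hc⟩ := MulAction.exists_smul_eq Cw ((u • S).subtype hSC') (S.subtype hSC)
      rw [Sylow.smul_subtype] at hc
      have hc' := Sylow.subtype_injective hc
      refine ⟨c * u, ?_, ?_⟩
      · rw [← Sylow.smul_eq_iff_mem_normalizer, mul_smul]; exact hc'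
      · have := Subgroup.mem_centralizer_singleton_iff.mp c.2
        calc (c : G) * u * z * ((c : G) * u)⁻¹ = (c : G) * (u * z * u⁻¹) * (c : G)⁻¹ := by group
          _ = (c : G) * w * (c : G)⁻¹ := by rw [← hwz]
          _ = w := by rw [this, mul_inv_cancel_right]
    -- kill the `2`-part of `n`
    obtain ⟨m, hmN, hm, hmodd⟩ : ∃ m ∈ Subgroup.normalizer (S : Set G), m * z * m⁻¹ = w ∧
        Odd (orderOf m) := by
      set e := (orderOf n).factorization 2
      set o := orderOf n / 2 ^ e with ho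
      have hoe : 2 ^ e * o = orderOf n := Nat.ordProj_mul_ordCompl_eq_self _ 2
      have hodd : ¬ 2 ∣ o := Nat.not_dvd_ordCompl Nat.prime_two (orderOf_pos n).ne'
      obtain ⟨j, hj1, hj2⟩ : ∃ j : ℕ, j ≡ 0 [MOD 2 ^ e] ∧ j ≡ 1 [MOD o] := by
        have hco : Nat.Coprime (2 ^ e) o :=
          Nat.Coprime.pow_left _ (Nat.prime_two.coprime_iff_not_dvd.mpr hodd)
        obtain ⟨j, hj⟩ := Nat.chineseRemainder hco 0 1
        exact ⟨j, hj⟩
      refine ⟨n ^ j, pow_mem hnN j, ?_, ?_⟩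
      · set t := (n ^ j)⁻¹ * n with ht
        have htS : t ∈ (S : Subgroup G) := by
          refine mem_sylow_of_centralizes S ⟨e, ?_⟩ (mul_mem (inv_mem (pow_mem hnN j)) hnN)
          have hcm : Commute (n ^ j)⁻¹ n := ((Commute.refl n).pow_left j).inv_left
          rw [ht, hcm.mul_pow, inv_pow, ← pow_mul, inv_mul_eq_one, pow_eq_pow_iff_modEq, ← hoe,
            mul_comm (2 ^ e) o]
          simpa using Nat.ModEq.mul_right' (2 ^ e) hj2
        have h1 : t * z = z * t := Subgroup.mem_centralizer_iff.mp hg₀C t htS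
        rw [← hn]
        calc n ^ j * z * (n ^ j)⁻¹ = n ^ j * (z * t) * t⁻¹ * (n ^ j)⁻¹ := by group
          _ = n ^ j * (t * z) * t⁻¹ * (n ^ j)⁻¹ := by rw [h1]
          _ = n * z * n⁻¹ := by rw [ht]; group
      · have hd : orderOf (n ^ j) ∣ o := by
          obtain ⟨q, hq⟩ := Nat.modEq_zero_iff_dvd.mp hj1
          rw [orderOf_dvd_iff_pow_eq_one, ← pow_mul, hq, mul_right_comm, hoe, pow_mul,
            pow_orderOf_eq_one, one_pow]
        exact Nat.odd_iff.mpr (by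
          have : ¬ 2 ∣ orderOf (n ^ j) := fun h2 => hodd (h2.trans hd)
          omega)
    -- an element of odd order inverting `z` modulo `A`
    have hmA : ∀ b ∈ A, m * b * m⁻¹ ∈ A := fun b hb =>
      hconjA m b hb ((Subgroup.mem_normalizer_iff.mp hmN b).mp hb.1)
    have hiter : ∀ i : ℕ, ∃ b ∈ A,
        m ^ (2 * i + 1) * z * (m ^ (2 * i + 1))⁻¹ = z⁻¹ * b := by
      have h2 : ∃ b ∈ A, m * (m * z * m⁻¹) * m⁻¹ = z * b := by
        refine ⟨b⁻¹ * (m * b * m⁻¹), mul_mem (inv_mem hbA) (hmA b hbA), ?_⟩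
        have hbz : b * z = z * b := hA b hbA z hg₀S
        have hzz : b⁻¹ * z = z * b⁻¹ := by
          rw [inv_mul_eq_iff_eq_mul, ← mul_assoc, hbz, mul_inv_cancel_right]
        calc m * (m * z * m⁻¹) * m⁻¹ = m * (z⁻¹ * b) * m⁻¹ := by rw [hm, hw]
          _ = (m * z * m⁻¹)⁻¹ * (m * b * m⁻¹) := by group
          _ = b⁻¹ * z * (m * b * m⁻¹) := by rw [hm, hw]; group
          _ = z * b⁻¹ * (m * b * m⁻¹) := by rw [hzz]
          _ = z * (b⁻¹ * (m * b * m⁻¹)) := by group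
      obtain ⟨b2, hb2, hb2e⟩ := h2
      intro i
      induction i with
      | zero => exact ⟨b, hbA, by simpa [hw] using hm⟩
      | succ i ihi =>
        obtain ⟨b', hb', hb'e⟩ := ihi
        refine ⟨b2⁻¹ * (m * (m * b' * m⁻¹) * m⁻¹),
          mul_mem (inv_mem hb2) (hmA _ (hmA _ hb')), ?_⟩
        have hb2z : b2⁻¹ * z⁻¹ = z⁻¹ * b2⁻¹ := hA _ (inv_mem hb2) _ (inv_mem hg₀S)
        calc m ^ (2 * (i + 1) + 1) * z * (m ^ (2 * (i + 1) + 1))⁻¹
            = m * (m * (m ^ (2 * i + 1) * z * (m ^ (2 * i + 1))⁻¹) * m⁻¹) * m⁻¹ := by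
              rw [show 2 * (i + 1) + 1 = (2 * i + 1) + 1 + 1 by ring, pow_succ', pow_succ']; group
          _ = m * (m * (z⁻¹ * b') * m⁻¹) * m⁻¹ := by rw [hb'e]
          _ = (m * (m * z * m⁻¹) * m⁻¹)⁻¹ * (m * (m * b' * m⁻¹) * m⁻¹) := by simp [mul_assoc]
          _ = b2⁻¹ * z⁻¹ * (m * (m * b' * m⁻¹) * m⁻¹) := by rw [hb2e]; group
          _ = z⁻¹ * (b2⁻¹ * (m * (m * b' * m⁻¹) * m⁻¹)) := by rw [hb2z]; group
    obtain ⟨i, hi⟩ := hmodd
    obtain ⟨b', hb', hb'e⟩ := hiter i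
    rw [← hi, pow_orderOf_eq_one, one_mul, inv_one, mul_one] at hb'e
    have hzA : z * z ∈ A := by
      have : z * z = b' := eq_inv_mul_iff_mul_eq.mp hb'e
      rw [this]; exact hb'
    refine ⟨mul_mem hrS hrS, ?_⟩
    apply (MulAut.conj g₀).injective
    rw [map_pow, map_one, map_mul]
    exact hzA.2
  -- the subgroup `B` of elements of exponent `2 ^ (k + 1)`
  let B : Subgroup G :=
    { carrier := {x | x ∈ (S : Subgroup G) ∧ x * x ∈ A}
      one_mem' := ⟨one_mem _, by rw [one_mul]; exact one_mem A⟩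
      mul_mem' := fun {a b} ha hb => ⟨mul_mem ha.1 hb.1, key a ha.1 b hb.1 ha.2 hb.2⟩
      inv_mem' := fun {a} ha => ⟨inv_mem ha.1, by rw [← mul_inv_rev]; exact inv_mem ha.2⟩ }
  have hBsc : ∀ g : G, ∀ b ∈ B, g * b * g⁻¹ ∈ (S : Subgroup G) → g * b * g⁻¹ ∈ B := by
    intro g b hb hS
    refine ⟨hS, mul_mem hS hS, ?_⟩
    rw [show g * b * g⁻¹ * (g * b * g⁻¹) = MulAut.conj g (b * b) by rw [map_mul]; rfl, ← map_pow,
      hb.2.2, map_one]
  have hpair : ClosedPair S B A :=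
    { le := fun x hx => hx.1
      normal := by
        intro s hs
        rw [Subgroup.mem_normalizer_iff_map_conj_eq]
        refine Subgroup.eq_of_le_of_card_ge ?_
          (le_of_eq (Subgroup.card_map_of_injective (MulAut.conj s).injective).symm)
        rintro _ ⟨b, hb, rfl⟩
        exact hBsc s b hb (mul_mem (mul_mem hs hb.1) (inv_mem hs))
      sc_B := hBsc
      sc_C := hconjA
      comm_B := fun u hu v hv => by
        have h1 := key _ (inv_mem hu.1) _ hv.1 (by rw [← mul_inv_rev]; exact inv_mem hu.2) hv.2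
        have h2 : u * u ∈ A := hu.2
        have h3 : v⁻¹ * v⁻¹ ∈ A := by rw [← mul_inv_rev]; exact inv_mem hv.2
        have e : u⁻¹ * (v * u * v⁻¹) = (u⁻¹ * v) * (u⁻¹ * v) * ((v⁻¹ * (u * u) * v) * (v⁻¹ * v⁻¹)) := by
          group
        rw [e, show v⁻¹ * (u * u) * v = u * u by rw [mul_assoc, hA _ h2 v hv.1, inv_mul_cancel_left]]
        exact mul_mem h1 (mul_mem h2 h3)
      comm_C := fun c hc b hb => by
        rw [← hA c hc b hb.1, mul_inv_cancel_right] }
  intro x hx hx'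
  have hxB : x ∈ B := ⟨hx, hsq x hx hx'⟩
  rw [Subgroup.mem_centralizer_iff]
  intro s hs
  obtain ⟨g, hgS, hgC⟩ := h s hs
  obtain ⟨m, hmB, hm⟩ := hpair.control (Subgroup.zpowers s) (by rwa [Subgroup.zpowers_le]) g (by
    intro d hd
    obtain ⟨i, rfl⟩ := Subgroup.mem_zpowers_iff.mp hd
    rw [show g * s ^ i * g⁻¹ = MulAut.conj g (s ^ i) from rfl, map_zpow]
    exact zpow_mem hgS i)
  have h1 : m * x * m⁻¹ ∈ B := (Subgroup.mem_normalizer_iff.mp hmB x).mp hxB
  have h2 := Subgroup.mem_centralizer_iff.mp hgC _ h1.1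
  rw [← hm s (Subgroup.mem_zpowers s)] at h2
  have h3 : m * (x * s) * m⁻¹ = m * (s * x) * m⁻¹ := by
    calc m * (x * s) * m⁻¹ = m * x * m⁻¹ * (m * s * m⁻¹) := by group
      _ = m * s * m⁻¹ * (m * x * m⁻¹) := h2
      _ = m * (s * x) * m⁻¹ := by group
  exact (mul_left_cancel (mul_right_cancel h3)).symm

/-- If every element of 2-power order of a finite group has a conjugacy class of odd size, then the Sylow 2-subgroups of the group are abelian. -/
theorem result {G : Type*} [Group G] [Finite G]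
    (h : ∀ x : G, (∃ k : ℕ, orderOf x = 2 ^ k) → ¬ 2 ∣ (Subgroup.centralizer ({x} : Set G)).index) (P : Sylow 2 G) :
    IsMulCommutative P := by
  have : Fact (Nat.Prime 2) := ⟨Nat.prime_two⟩
  refine ⟨⟨fun a b => Subtype.ext ?_⟩⟩
  obtain ⟨j, hj⟩ := P.isPGroup' b
  have hc := central (fun x hx => exists_conj_central h P hx) j b b.2
    (by simpa using congrArg Subtype.val hj)
  exact Subgroup.mem_centralizer_iff.mp hc a a.2

end Cfsg.Agent.S4355
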