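import Cfsg.Statements.S4195
import Mathlib

set_option autoImplicit false
open Cfsg

namespace Cfsg.Agent.S4195

theorem orderOf_of_real_central {G : Type*} [Group G] [Finite G] (x : G) (hx : x ≠ 1) (P : Sylow 2 G)
    (hP : (P : Subgroup G) ≤ Subgroup.centralizer ({x} : Set G)) (hreal : IsConj x x⁻¹) :
    orderOf x = 2 := by
  classical
  haveI : Fintype G := Fintype.ofFinite G
  apply orderOf_eq_prime _ hx
  by_contra hne
  have hinv : x⁻¹ ≠ x := by
    intro h; apply hne; rw [pow_two]; calc x * x = x * x⁻¹ := by rw [h]
      _ = 1 := mul_inv_cancel x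
  set S : Finset G := Finset.univ.filter (fun y => IsConj x y) with hS
  have heven : (S.card : ZMod 2) = 0 := by
    have key := Finset.sum_involution (s := S) (f := fun _ => (1 : ZMod 2)) (fun y _ => y⁻¹) ?_ ?_ ?_ ?_
    · simpa using key
    · intros; decide
    · intro y hy _ heq
      simp only [hS, Finset.mem_filter, Finset.mem_univ, true_and] at hy
      obtain ⟨c, hc⟩ := isConj_iff.mp hy
      rw [← hc] at heq
      apply hinv
      have : c * x⁻¹ * c⁻¹ = c * x * c⁻¹ := by rw [← heq]; group
      exact mul_left_cancel (mul_right_cancel this)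
    · intro y hy
      simp only [hS, Finset.mem_filter, Finset.mem_univ, true_and] at hy ⊢
      obtain ⟨c, hc⟩ := isConj_iff.mp hy
      exact hreal.trans (isConj_iff.mpr ⟨c, by rw [← hc]; group⟩)
    · intros; simp
  have hodd : ¬ 2 ∣ (Subgroup.centralizer ({x} : Set G)).index := fun h =>
    P.not_dvd_index (h.trans (Subgroup.index_dvd_of_le hP))
  apply hodd
  have hidx : (Subgroup.centralizer ({x} : Set G)).index = S.card := by
    have hstab : (MulAction.stabilizer (ConjAct G) x).index = (MulAction.orbit (ConjAct G) x).ncard :=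
      MulAction.index_stabilizer _ _
    have h2 : (Subgroup.centralizer ({x} : Set G)).index = (MulAction.stabilizer (ConjAct G) x).index := by
      rw [ConjAct.stabilizer_eq_centralizer]
      rfl
    rw [h2, hstab, ConjAct.orbit_eq_carrier_conjClasses, Set.ncard_eq_toFinset_card']
    congr 1
    ext y
    simp only [hS, Set.mem_toFinset, ConjClasses.mem_carrier_iff_mk_eq, ConjClasses.mk_eq_mk_iff_isConj, Finset.mem_filter, Finset.mem_univ, true_and]
    exact ⟨fun h => h.symm, fun h => h.symm⟩
  rw [hidx]
  exact (ZMod.natCast_eq_zero_iff_even.mp heven).two_dvd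

/-- Let x be a non-identity element of a finite group G whose centralizer contains a Sylow 2-subgroup of G. If x is conjugate to its inverse, then x has order 2. -/
theorem result {G : Type*} [Group G] [Finite G] (x : G) (hx : x ≠ 1) (P : Sylow 2 G) (hP : (P : Subgroup G) ≤ Subgroup.centralizer ({x} : Set G)) (hreal : IsConj x x⁻¹) : orderOf x = 2 := by
  exact orderOf_of_real_central x hx P hP hreal

end Cfsg.Agent.S4195
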