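import Cfsg.Statements.S4196
import Mathlib
import Cfsg.Agent.S4195

set_option autoImplicit false
open Cfsg

namespace Cfsg.Agent.S4196

/-- A finite group G has elementary abelian Sylow 2-subgroups (commutative with every element squaring to the identity) if and only if every 2-element of G has a Sylow 2-subgroup in its centralizer and is conjugate to its inverse. -/
theorem result {G : Type*} [Group G] [Finite G] (P : Sylow 2 G) :
    (IsMulCommutative (P : Subgroup G) ∧ ∀ x ∈ (P : Subgroup G), x ^ 2 = 1) ↔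
      ∀ x : G, (∃ k : ℕ, orderOf x = 2 ^ k) → (∃ Q : Sylow 2 G, (Q : Subgroup G) ≤ Subgroup.centralizer ({x} : Set G)) ∧ IsConj x x⁻¹ := by
  constructor
  · rintro ⟨hab, hsq⟩ x ⟨k, hk⟩
    have hx : IsPGroup 2 (Subgroup.zpowers x) := IsPGroup.of_card (n := k) (by rw [Nat.card_zpowers, hk])
    obtain ⟨Q, hQ⟩ := hx.exists_le_sylow
    obtain ⟨g, rfl⟩ := MulAction.exists_smul_eq G P Q
    have hxQ : x ∈ ((g • P : Sylow 2 G) : Subgroup G) := hQ (Subgroup.mem_zpowers x)
    have hxQ' := hxQ
    rw [Sylow.coe_subgroup_smul, Subgroup.mem_pointwise_smul_iff_inv_smul_mem] at hxQ'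
    refine ⟨⟨g • P, ?_⟩, ?_⟩
    · intro y hy
      rw [Sylow.coe_subgroup_smul, Subgroup.mem_pointwise_smul_iff_inv_smul_mem] at hy
      rw [Subgroup.mem_centralizer_singleton_iff]
      have := congrArg Subtype.val (hab.is_comm.comm ⟨_, hy⟩ ⟨_, hxQ'⟩)
      simp only [Subgroup.coe_mul] at this
      rw [← smul_mul', ← smul_mul'] at this
      exact (MulAction.injective (MulAut.conj g)⁻¹ this)
    · have := hsq _ hxQ'
      rw [← smul_pow', ] at this
      have h1 : x ^ 2 = 1 := by
        apply MulAction.injective (MulAut.conj g)⁻¹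
        show (MulAut.conj g)⁻¹ • x ^ 2 = (MulAut.conj g)⁻¹ • (1 : G)
        rw [this, smul_one]
      have : x⁻¹ = x := inv_eq_of_mul_eq_one_right (by rw [← pow_two, h1])
      rw [this]
  · intro h
    have hsq : ∀ x ∈ (P : Subgroup G), x ^ 2 = 1 := by
      intro x hx
      obtain ⟨k, hk⟩ := P.isPGroup' ⟨x, hx⟩
      have hk' : x ^ 2 ^ k = 1 := by simpa using congrArg Subtype.val hk
      obtain ⟨j, -, hj⟩ := (Nat.dvd_prime_pow Nat.prime_two).mp (orderOf_dvd_of_pow_eq_one hk')
      obtain ⟨⟨Q, hQ⟩, hr⟩ := h x ⟨j, hj⟩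
      by_cases hx1 : x = 1
      · simp [hx1]
      · rw [← Cfsg.Agent.S4195.orderOf_of_real_central x hx1 Q hQ hr]; exact pow_orderOf_eq_one x
    refine ⟨⟨⟨fun a b => ?_⟩⟩, hsq⟩
    have ha := hsq _ a.2
    have hb := hsq _ b.2
    have hab := hsq _ (a * b).2
    apply Subtype.ext
    simp only [Subgroup.coe_mul] at *
    rw [pow_two] at ha hb hab
    have ha' := inv_eq_of_mul_eq_one_right ha
    have hb' := inv_eq_of_mul_eq_one_right hb
    have hab' := inv_eq_of_mul_eq_one_right hab
    rw [mul_inv_rev, ha', hb'] at hab'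
    exact hab'.symm

end Cfsg.Agent.S4196
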