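import Cfsg.Statements.S4203
import Mathlib
import Cfsg.Agent.SylowNum.Swaps

set_option autoImplicit false
open Cfsg

namespace Cfsg.Agent.S4203

theorem sylow_index_modEq {N : Type*} [Group N] [Finite N] {p : ℕ} [hp : Fact p.Prime] (P : Sylow p N)
    (L : Subgroup N) (hL : Subgroup.normalizer ((P : Subgroup N) : Set N) ≤ L) : L.index ≡ 1 [MOD p] := by
  set A := Subgroup.normalizer ((P : Subgroup N) : Set N)
  have hPL : (P : Subgroup N) ≤ L := Subgroup.le_normalizer.trans hL
  have h1 : A.relIndex L ≡ 1 [MOD p] := by
    have e : A.subgroupOf L = Subgroup.normalizer (((P.subtype hPL : Sylow p L) : Subgroup L) : Set L) :=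
      Subgroup.subgroupOf_normalizer_eq hPL
    have h := card_sylow_modEq_one p L
    rw [(P.subtype hPL).card_eq_index_normalizer] at h
    rw [Subgroup.relIndex, e]
    exact h
  have h2 : A.index ≡ 1 [MOD p] := P.card_eq_index_normalizer ▸ card_sylow_modEq_one p N
  rw [← Subgroup.relIndex_mul_index hL] at h2
  calc L.index = 1 * L.index := (one_mul _).symm
    _ ≡ A.relIndex L * L.index [MOD p] := Nat.ModEq.mul_right _ h1.symm
    _ ≡ 1 [MOD p] := h2

theorem solvable_of_indices (n : ℕ) : ∀ (G : Type*) [Group G] [Finite G], Nat.card G ≤ n →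
    (∀ M : Subgroup G, IsCoatom M → ∃ p : ℕ, p.Prime ∧ (M.index = p ∨ M.index = p ^ 2)) → Group.IsSolvable G := by
  induction n with
  | zero => intro G _ _ hn; have : 0 < Nat.card G := Nat.card_pos; omega
  | succ n ih =>
    intro G _ _ hn h
    classical
    rcases subsingleton_or_nontrivial G with hG | hG
    · exact Group.isSolvable_of_comm (fun a b => Subsingleton.elim _ _)
    obtain ⟨N, ⟨hNn, hN0⟩, hmin⟩ := (Set.toFinite {N : Subgroup G | N.Normal ∧ N ≠ ⊥}).exists_minimal
      ⟨⊤, inferInstance, top_ne_bot⟩
    have hmin' : ∀ K : Subgroup G, K.Normal → K ≤ N → K ≠ N → K = ⊥ := by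
      intro K hK hle hne
      by_contra h0
      exact hne (le_antisymm hle (hmin ⟨hK, h0⟩ hle))
    haveI := hNn
    have hQ : Group.IsSolvable (G ⧸ N) := by
      apply ih
      · have h1 := N.card_eq_card_quotient_mul_card_subgroup
        have h2 : 1 < Nat.card N := Subgroup.one_lt_card_iff_ne_bot N |>.mpr hN0
        have h3 : 0 < Nat.card (G ⧸ N) := Nat.card_pos
        nlinarith
      · intro M hM
        obtain ⟨p, hp⟩ := h (M.comap (QuotientGroup.mk' N))
          (Subgroup.isCoatom_comap_of_surjective (QuotientGroup.mk'_surjective N) hM)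
        rw [Subgroup.index_comap_of_surjective _ (QuotientGroup.mk'_surjective N)] at hp
        exact ⟨p, hp⟩
    suffices hNs : Group.IsSolvable N by
      exact Group.isSolvable_of_ker_le_range N.subtype (QuotientGroup.mk' N)
        (by rw [QuotientGroup.ker_mk', Subgroup.range_subtype])
    have hne : (Nat.card N).primeFactors.Nonempty :=
      Nat.nonempty_primeFactors.mpr (Subgroup.one_lt_card_iff_ne_bot N |>.mpr hN0)
    set p := (Nat.card N).primeFactors.max' hne with hp
    obtain ⟨hpp, hpdvd, -⟩ := Nat.mem_primeFactors.mp (Finset.max'_mem _ hne)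
    rw [← hp] at hpp hpdvd
    haveI : Fact p.Prime := ⟨hpp⟩
    let P : Sylow p N := default
    set P' := (P : Subgroup N).map N.subtype
    by_cases htop : Subgroup.normalizer (P' : Set G) = ⊤
    · have hPn : P'.Normal := Subgroup.normalizer_eq_top_iff.mp htop
      have hP0 : P' ≠ ⊥ := by
        intro h0
        apply P.ne_bot_of_dvd_card hpdvd
        rwa [Subgroup.map_eq_bot_iff_of_injective _ N.subtype_injective] at h0
      have heq : P' = N := by
        by_contra hne'
        exact hP0 (hmin' P' hPn (Subgroup.map_subtype_le _) hne')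
      have hpg : IsPGroup p N := by
        have h1 := P.isPGroup'.map N.subtype
        change IsPGroup p P' at h1
        exact h1.of_equiv (MulEquiv.subgroupCongr heq)
      haveI := hpg.isNilpotent
      infer_instance
    obtain ⟨M, hM, hle⟩ := (IsCoatomic.eq_top_or_exists_le_coatom (Subgroup.normalizer (P' : Set G))).resolve_left htop
    have hNM : ¬ N ≤ M := by
      intro hc
      exact hM.1 (top_le_iff.mp (Sylow.normalizer_sup_eq_top P ▸ sup_le hle hc))
    set L := M.subgroupOf N
    have hidx : L.index = M.index := by
      refine Nat.card_eq_of_bijective (Quotient.map' (fun x : N => (x : G)) (fun a b hab => by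
        rw [QuotientGroup.leftRel_apply] at hab ⊢
        simpa [L, Subgroup.mem_subgroupOf] using hab)) ⟨?_, ?_⟩
      · intro a b
        induction a using QuotientGroup.induction_on with | _ a => ?_
        induction b using QuotientGroup.induction_on with | _ b => ?_
        intro e
        exact QuotientGroup.eq.mpr (by simpa [L, Subgroup.mem_subgroupOf] using QuotientGroup.eq.mp e)
      · intro q
        induction q using QuotientGroup.induction_on with | _ g => ?_
        have hg : g ∈ Subgroup.normalizer (P' : Set G) ⊔ N := by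
          rw [show Subgroup.normalizer (P' : Set G) ⊔ N = ⊤ from Sylow.normalizer_sup_eq_top P]
          trivial
        obtain ⟨x, hx, m, hm, hgm⟩ := Subgroup.mem_sup_of_normal_right.mp hg
        refine ⟨((⟨x * m * x⁻¹, hNn.conj_mem m hm x⟩ : N) : N ⧸ L), QuotientGroup.eq.mpr ?_⟩
        show (x * m * x⁻¹)⁻¹ * g ∈ M
        have e : (x * m * x⁻¹)⁻¹ * g = x := by rw [← hgm]; group
        rw [e]; exact hle hx
    have hNL : Subgroup.normalizer ((P : Subgroup N) : Set N) ≤ L := by
      intro x hx
      refine hle ?_
      rw [Subgroup.mem_normalizer_iff]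
      intro y
      constructor
      · rintro ⟨z, hz, rfl⟩
        exact ⟨x * z * x⁻¹, (Subgroup.mem_normalizer_iff.mp hx z).mp hz, rfl⟩
      · rintro ⟨z, hz, hzy⟩
        refine ⟨x⁻¹ * z * x, ?_, ?_⟩
        · apply (Subgroup.mem_normalizer_iff.mp hx _).mpr
          have e : x * (x⁻¹ * z * x) * x⁻¹ = z := by group
          rw [e]; exact hz
        · show (x : G)⁻¹ * z * x = y
          rw [show ((z : N) : G) = (x : G) * y * (x : G)⁻¹ from hzy]; group
    have hmod := sylow_index_modEq P L hNL
    rw [hidx] at hmod
    obtain ⟨q, hq, hqM⟩ := h M hM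
    have hqdvd : q ∣ Nat.card N := by
      refine dvd_trans ?_ L.index_dvd_card
      rw [hidx]
      rcases hqM with e | e <;> rw [e]
      exact dvd_pow_self q two_ne_zero
    have hqp : q ≤ p := Finset.le_max' _ q (Nat.mem_primeFactors.mpr ⟨hq, hqdvd, Nat.card_pos.ne'⟩)
    have h4 : M.index = 4 := by
      have h2p := hpp.two_le
      have h2q := hq.two_le
      rcases lt_or_eq_of_le hqp with hlt | heq
      · rcases hqM with e | e <;> rw [e] at hmod
        · have := Nat.le_of_dvd (by omega) ((Nat.modEq_iff_dvd' (by omega)).mp hmod.symm)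
          omega
        · have hd : p ∣ q ^ 2 - 1 := (Nat.modEq_iff_dvd' (Nat.one_le_pow _ _ (by omega))).mp hmod.symm
          rw [← one_pow 2, Nat.sq_sub_sq] at hd
          rcases (Nat.Prime.dvd_mul hpp).mp hd with hd | hd
          · have hp1 : p = q + 1 := by
              have := Nat.le_of_dvd (by omega) hd
              omega
            rcases hq.eq_two_or_odd' with rfl | hodd
            · rw [e]; norm_num
            · exfalso
              obtain ⟨t, ht⟩ := hodd
              rcases hpp.eq_two_or_odd' with h2 | ⟨s, hs⟩ <;> omega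
          · have := Nat.le_of_dvd (by omega) hd
            omega
      · exfalso
        have hd : p ∣ M.index := by
          rcases hqM with e | e <;> rw [e, heq]
          exact dvd_pow_self _ two_ne_zero
        have := (hmod.dvd_iff dvd_rfl).mp hd
        exact hpp.one_lt.ne' (Nat.dvd_one.mp this)
    have hinf : M.normalCore ⊓ N = ⊥ :=
      hmin' _ inferInstance inf_le_right (fun e => hNM ((e ▸ inf_le_left : N ≤ M.normalCore).trans M.normalCore_le))
    let f : N →* Equiv.Perm (G ⧸ M) := (MulAction.toPermHom G (G ⧸ M)).comp N.subtype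
    have hf : Function.Injective f := by
      rw [injective_iff_map_eq_one]
      intro x hx
      have : (x : G) ∈ M.normalCore ⊓ N := by
        refine ⟨?_, x.2⟩
        show (x : G) ∈ M.normalCore
        rw [Subgroup.normalCore_eq_ker]; exact hx
      rw [hinf, Subgroup.mem_bot] at this
      exact Subtype.ext this
    have e4 : G ⧸ M ≃ Fin 4 := (Finite.equivFin _).trans (finCongr h4)
    haveI := Cfsg.Agent.SylowNum.isSolvable_perm_four
    exact Group.isSolvable_of_isSolvable_injective (f := (e4.permCongrHom.toMonoidHom).comp f) (e4.permCongrHom.injective.comp hf)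

/-- A finite group in which every maximal subgroup has index a prime or the square of a prime is solvable. -/
theorem result {G : Type*} [Group G] [Finite G] (h : ∀ M : Subgroup G, IsCoatom M → ∃ p : ℕ, p.Prime ∧ (M.index = p ∨ M.index = p ^ 2)) : Group.IsSolvable G := by
  exact solvable_of_indices _ G le_rfl h

end Cfsg.Agent.S4203
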