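import Cfsg.Statements.S4204
import Mathlib

set_option autoImplicit false
open Cfsg

namespace Cfsg.Agent.S4204

/-- `⊤, H, [H,H], ...` -/
def chain {G : Type*} [Group G] (H : Subgroup G) : ℕ → Subgroup G
  | 0 => ⊤
  | i+1 => H.lowerCentralSeries i

instance chain_normal {G : Type*} [Group G] (H : Subgroup G) [H.Normal] : ∀ i, (chain H i).Normal
  | 0 => by unfold chain; infer_instance
  | i+1 => by
      show (H.lowerCentralSeries i).Normal
      induction i with
      | zero => rwa [Subgroup.lowerCentralSeries_zero]
      | succ i ih => rw [Subgroup.lowerCentralSeries_succ]; infer_instance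

theorem comm_chain_le {G : Type*} [Group G] (H : Subgroup G) [H.Normal] (i : ℕ) :
    ⁅chain H i, H⁆ ≤ chain H (i+1) := by
  cases i with
  | zero => exact Subgroup.commutator_le_right _ _
  | succ i => exact le_of_eq (Subgroup.lowerCentralSeries_succ H i).symm

theorem comm_le_iff {G : Type*} [Group G] (T X Y : Subgroup G) [T.Normal] :
    ⁅X, Y⁆ ≤ T ↔ X ≤ (Subgroup.centralizer ((Y.map (QuotientGroup.mk' T) : Subgroup (G ⧸ T)) : Set (G ⧸ T))).comap (QuotientGroup.mk' T) := by
  rw [← Subgroup.map_le_iff_le_comap, ← Subgroup.commutator_eq_bot_iff_le_centralizer, ← Subgroup.map_commutator,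
    Subgroup.map_eq_bot_iff, QuotientGroup.ker_mk']

/-- If `H` and `K` are normal subgroups of a finite group with `H` nilpotent of class at most `c` and `K` nilpotent of class at most `d` (the terms with index `c`, respectively `d`, of their lower central series are trivial, indices starting at `0`), then `HK` is nilpotent of class at most `c + d`. -/
theorem result {G : Type*} [Group G] [Finite G] (H K : Subgroup G) [H.Normal] [K.Normal] (c d : ℕ) (hH : H.lowerCentralSeries c = ⊥) (hK : K.lowerCentralSeries d = ⊥) : (H ⊔ K).lowerCentralSeries (c + d) = ⊥ := by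
  suffices hmain : ∀ n, (H ⊔ K).lowerCentralSeries n ≤ ⨆ i : Fin (n + 2), chain H i ⊓ chain K (n + 1 - i) by
    have hmono : ∀ (S : Subgroup G) [S.Normal] (e m : ℕ), e ≤ m → S.lowerCentralSeries e = ⊥ → S.lowerCentralSeries m = ⊥ := by
      intro S _ e m hle he
      induction hle with
      | refl => exact he
      | step _ ih => rw [Subgroup.lowerCentralSeries_succ, ih, Subgroup.commutator_bot_left]
    refine eq_bot_iff.mpr ((hmain (c + d)).trans (iSup_le fun i => ?_))
    by_cases hi : c + 1 ≤ (i : ℕ)
    · obtain ⟨j, hj⟩ : ∃ j, (i : ℕ) = j + 1 := ⟨i - 1, by omega⟩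
      refine inf_le_left.trans (le_of_eq ?_)
      rw [hj]; exact hmono H c j (by omega) hH
    · obtain ⟨j, hj⟩ : ∃ j, c + d + 1 - (i : ℕ) = j + 1 := ⟨c + d - i, by omega⟩
      refine inf_le_right.trans (le_of_eq ?_)
      rw [hj]; exact hmono K d j (by omega) hK
  intro n
  induction n with
  | zero =>
    rw [Subgroup.lowerCentralSeries_zero]
    refine sup_le (le_trans ?_ (le_iSup _ (1 : Fin 2))) (le_trans ?_ (le_iSup _ (0 : Fin 2)))
    · exact le_inf le_rfl le_top
    · exact le_inf le_top le_rfl
  | succ n ih =>
    rw [Subgroup.lowerCentralSeries_succ]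
    set T := ⨆ i : Fin (n + 1 + 2), chain H i ⊓ chain K (n + 1 + 1 - i)
    haveI : T.Normal := Subgroup.iSup_normal _
    refine (Subgroup.commutator_mono ih le_rfl).trans ?_
    rw [comm_le_iff]
    refine iSup_le fun i => ?_
    rw [← comm_le_iff, Subgroup.commutator_comm, comm_le_iff]
    refine sup_le ?_ ?_
    · rw [← comm_le_iff, Subgroup.commutator_comm]
      refine le_trans ?_ (le_iSup _ (⟨i + 1, by omega⟩ : Fin (n + 1 + 2)))
      have e : n + 1 + 1 - ((i : ℕ) + 1) = n + 1 - i := by omega
      simp only [e]
      exact le_inf ((Subgroup.commutator_mono inf_le_left le_rfl).trans (comm_chain_le H i))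
        ((Subgroup.commutator_mono inf_le_right le_rfl).trans (Subgroup.commutator_le_left _ _))
    · rw [← comm_le_iff, Subgroup.commutator_comm]
      refine le_trans ?_ (le_iSup _ (⟨i, by omega⟩ : Fin (n + 1 + 2)))
      have e : n + 1 + 1 - (i : ℕ) = (n + 1 - i) + 1 := by omega
      simp only [e]
      exact le_inf ((Subgroup.commutator_mono inf_le_left le_rfl).trans (Subgroup.commutator_le_left _ _))
        ((Subgroup.commutator_mono inf_le_right le_rfl).trans (comm_chain_le K _))

end Cfsg.Agent.S4204
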