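import Cfsg.Statements.S4206
import Mathlib

set_option autoImplicit false
open Cfsg

namespace Cfsg.Agent.S4206

/-- Let `H 0 ≥ H 1 ≥ H 2 ≥ ⋯` be normal subgroups of a finite group and `L` a subgroup with `⁅H i, L⁆ ≤ H (i+1)` for all `i`. Then `⁅H i, γ⁆ ≤ H (i + j + 1)` where `γ` is the `j`-th term of the lower central series of `L` (indexed from `0`, so the term with index `j` is the `(j+1)`-fold commutator). -/
theorem result {G : Type*} [Group G] [Finite G] (H : ℕ → Subgroup G) (hN : ∀ i, (H i).Normal) (hdesc : ∀ i, H (i + 1) ≤ H i) (L : Subgroup G) (hL : ∀ i, ⁅H i, L⁆ ≤ H (i + 1)) (i j : ℕ) : ⁅H i, L.lowerCentralSeries j⁆ ≤ H (i + j + 1) := by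
  induction j generalizing i with
  | zero => simpa [Subgroup.lowerCentralSeries_zero] using hL i
  | succ j ih =>
    rw [Subgroup.lowerCentralSeries_succ, Subgroup.commutator_comm]
    haveI := hN (i + (j + 1) + 1)
    refine Subgroup.commutator_le.mpr ?_
    set M := H (i + (j+1) + 1)
    have e1 : ⁅⁅L, H i⁆, L.lowerCentralSeries j⁆ ≤ M := by
      refine (Subgroup.commutator_mono ?_ le_rfl).trans ((ih (i+1)).trans (le_of_eq ?_))
      · rw [Subgroup.commutator_comm]; exact hL i
      · simp only [M]; congr 1; omega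
    have e2 : ⁅⁅H i, L.lowerCentralSeries j⁆, L⁆ ≤ M := by
      refine (Subgroup.commutator_mono (ih i) le_rfl).trans ((hL _).trans (le_of_eq ?_))
      simp only [M]; congr 1
    have hq : ⁅⁅L.lowerCentralSeries j, L⁆, H i⁆ ≤ M := by
      have := QuotientGroup.mk'_surjective M
      rw [← QuotientGroup.ker_mk' M, ← Subgroup.map_eq_bot_iff] at e1 e2 ⊢
      rw [Subgroup.map_commutator, Subgroup.map_commutator] at e1 e2 ⊢
      exact Subgroup.commutator_commutator_eq_bot_of_rotate e1 e2
    exact Subgroup.commutator_le.mp hq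

end Cfsg.Agent.S4206
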