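import Cfsg.Statements.S4209
import Mathlib
import Cfsg.Agent.FGS79.PolySeq
import Cfsg.Agent.S4206

set_option autoImplicit false
open Cfsg

namespace Cfsg.Agent.S4209

open scoped commutatorElement
open Cfsg.Agent.FGS79 in
theorem regular_aux {G : Type*} [Group G] [Finite G] {p : ℕ} [hp : Fact p.Prime]
    (hcl : (⊤ : Subgroup G).lowerCentralSeries (p - 1) = ⊥) (a b : G) (n : ℕ) :
    ∃ c ∈ Cfsg.powerClosure p n ⁅Subgroup.closure ({a, b} : Set G), Subgroup.closure ({a, b} : Set G)⁆,
      (a * b) ^ (p ^ n) = a ^ (p ^ n) * b ^ (p ^ n) * c := by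
  set H := Subgroup.closure ({a, b} : Set G)
  -- work inside `H`
  have hnorm : ∀ i, ((⊤ : Subgroup H).lowerCentralSeries i).Normal := by
    intro i
    induction i with
    | zero => rw [Subgroup.lowerCentralSeries_zero]; infer_instance
    | succ i ih => rw [Subgroup.lowerCentralSeries_succ]; infer_instance
  have hdesc : ∀ i, (⊤ : Subgroup H).lowerCentralSeries (i + 1) ≤ (⊤ : Subgroup H).lowerCentralSeries i := by
    intro i
    rw [Subgroup.lowerCentralSeries_succ]
    haveI := hnorm i
    exact Subgroup.commutator_le_left _ _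
  have hanti : Antitone (fun i => (⊤ : Subgroup H).lowerCentralSeries i) := antitone_nat_of_succ_le hdesc
  have hcomm : ∀ i j, ⁅(⊤ : Subgroup H).lowerCentralSeries i, (⊤ : Subgroup H).lowerCentralSeries j⁆ ≤
      (⊤ : Subgroup H).lowerCentralSeries (i + j + 1) :=
    Cfsg.Agent.S4206.result _ hnorm hdesc ⊤ (fun i => (Subgroup.lowerCentralSeries_succ _ i).ge)
  let Φ : Filt H :=
    { F := fun i => (⊤ : Subgroup H).lowerCentralSeries (i - 1)
      anti := fun i j hij => hanti (by omega)
      comm := fun i j x hx y hy =>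
        hanti (by omega) (hcomm (i - 1) (j - 1) (Subgroup.commutator_mem_commutator hx hy)) }
  have hF : Φ.F 0 = ⊤ := Subgroup.lowerCentralSeries_zero _
  have hbot : Φ.F p = ⊥ := by
    show (⊤ : Subgroup H).lowerCentralSeries (p - 1) = ⊥
    have : ∀ i, ((⊤ : Subgroup H).lowerCentralSeries i).map H.subtype ≤ (⊤ : Subgroup G).lowerCentralSeries i := by
      intro i
      induction i with
      | zero => rw [Subgroup.lowerCentralSeries_zero, Subgroup.lowerCentralSeries_zero]; exact le_top
      | succ i ih =>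
        rw [Subgroup.lowerCentralSeries_succ, Subgroup.lowerCentralSeries_succ, Subgroup.map_commutator]
        exact Subgroup.commutator_mono ih le_top
    have h := this (p - 1)
    rw [hcl, le_bot_iff, Subgroup.map_eq_bot_iff_of_injective _ H.subtype_injective] at h
    exact h
  set a' : H := ⟨a, Subgroup.subset_closure (by simp)⟩
  set b' : H := ⟨b, Subgroup.subset_closure (by simp)⟩
  have hlin : ∀ (c : H) (i : ℕ), Poly Φ i 0 (fun m => c ^ m) := by
    intro c i
    have h := poly_binomial (Φ := Φ) hF i 1 0 (c := c) (by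
      show c ∈ (⊤ : Subgroup H).lowerCentralSeries 0
      rw [Subgroup.lowerCentralSeries_zero]; trivial)
    simpa using h
  have hf : Poly Φ p 0 (fun m => ((b' ^ m)⁻¹ * (a' ^ m)⁻¹) * (a' * b') ^ m) :=
    ((hlin b' p).inv.mul (hlin a' p).inv).mul (hlin (a' * b') p)
  set S : Subgroup H := (Cfsg.powerClosure p n ⁅H, H⁆).comap H.subtype
  have hmem := Poly.mem_of_binomials hF hbot hf (by simp) (by simp [mul_assoc]) (p ^ n) S (by
    intro l hl hlp c hc
    show ((c ^ (p ^ n).choose l : H) : G) ∈ Cfsg.powerClosure p n ⁅H, H⁆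
    have hdvd : p ^ n ∣ (p ^ n).choose l := by
      obtain ⟨l', rfl⟩ : ∃ l', l = l' + 1 := ⟨l - 1, by omega⟩
      obtain ⟨N, hN⟩ : ∃ N, p ^ n = N + 1 := ⟨p ^ n - 1, by
        have := pow_pos hp.out.pos n
        omega⟩
      have h := Nat.add_one_mul_choose_eq N l'
      rw [← hN] at h
      refine (Nat.Coprime.pow_left n ?_).dvd_of_dvd_mul_right (Dvd.intro _ h)
      exact (hp.out.coprime_iff_not_dvd).mpr (fun hd => by have := Nat.le_of_dvd (by omega) hd; omega)
    obtain ⟨e, he⟩ := hdvd
    rw [he, mul_comm, pow_mul, SubmonoidClass.coe_pow]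
    refine Subgroup.subset_closure ⟨(c ^ e : H), ?_, rfl⟩
    have h2 : (c : H) ^ e ∈ commutator H := by
      apply pow_mem
      have : c ∈ (⊤ : Subgroup H).lowerCentralSeries 1 := hc
      rwa [Subgroup.top_lowerCentralSeries_one] at this
    rw [← Subgroup.map_subtype_commutator]
    exact ⟨_, h2, rfl⟩)
  refine ⟨_, hmem, ?_⟩
  simp [a', b', mul_assoc]

/-- A finite `p`-group of nilpotency class less than `p` (the term of index `p - 1` of the lower central series of the whole group, indexed from `0`, is trivial) is a regular `p`-group. -/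
theorem result {G : Type*} [Group G] [Finite G] {p : ℕ} [Fact p.Prime] (hG : IsPGroup p G) (hcl : (⊤ : Subgroup G).lowerCentralSeries (p - 1) = ⊥) : Cfsg.IsRegularPGroup p G := by
  exact ⟨hG, regular_aux hcl⟩

end Cfsg.Agent.S4209
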