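import Cfsg.Statements.S4213
import Cfsg.Agent.Lib.Solvable.FrobeniusCount
import Cfsg.Agent.Lib.Solvable.Hall

set_option autoImplicit false
open Cfsg

namespace Cfsg.Agent.S4213

open Subgroup
open Cfsg.Agent.Solvable

theorem exact_count (G : Type*) [Group G] [Finite G] [Group.IsSolvable G] (n : ℕ)
    (hn : n ∣ Nat.card G) (hcount : Nat.card {x : G // x ^ n = 1} = n) :
    ∃ H : Subgroup G, (H : Set G) = {x : G | x ^ n = 1} := by
  classical
  induction hk : Nat.card G using Nat.strong_induction_on generalizing G n with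
  | _ k ih =>
  rcases subsingleton_or_nontrivial G with hs | hs
  · refine ⟨⊤, ?_⟩
    ext x
    simp only [coe_top, Set.mem_univ, Set.mem_setOf_eq, true_iff]
    rw [Subsingleton.elim x 1, one_pow]
  obtain ⟨N, p, hNn, hN, -, hp, -, -, hNpow, a, ha, hNcard⟩ := exists_minimal_normal_elementary G
  set π := QuotientGroup.mk' N with hπ
  have hπs : Function.Surjective π := QuotientGroup.mk'_surjective N
  have hG : Nat.card G = Nat.card (G ⧸ N) * Nat.card N := card_eq_card_quotient_mul_card_subgroup N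
  have hlt : Nat.card (G ⧸ N) < k := by
    rw [← hk, hG]
    exact lt_mul_of_one_lt_right Nat.card_pos ((one_lt_card_iff_ne_bot N).2 hN)
  have hnpos : 0 < n := Nat.pos_of_ne_zero (fun h => by
    rw [h] at hn; exact Nat.card_pos.ne' (zero_dvd_iff.1 hn))
  by_cases hpn : p ∣ n
  · obtain ⟨r, rfl⟩ := hpn
    set M := Nat.card (G ⧸ N) with hM
    set g := Nat.gcd r M with hgdef
    have hg : g ∣ M := Nat.gcd_dvd_right r M
    have hgpos : 0 < g := Nat.pos_of_ne_zero fun h => by
      exact (Nat.card_pos (α := G ⧸ N)).ne' (Nat.gcd_eq_zero_iff.1 h).2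
    have hsub : ∀ x : G, π x ^ g = 1 → x ^ (p * r) = 1 := fun x hx => by
      have hxr : x ^ r ∈ N := by
        rw [← QuotientGroup.eq_one_iff]
        have : (π x) ^ r = 1 := (pow_eq_one_iff_pow_gcd r (π x)).2 hx
        exact this
      rw [mul_comm, pow_mul]
      exact hNpow _ hxr
    have hfib : Nat.card {x : G // π x ^ g = 1} = Nat.card {y : G ⧸ N // y ^ g = 1} * p ^ a := by
      rw [← hNcard, mul_comm, ← Nat.card_prod]
      exact Nat.card_congr (QuotientGroup.preimageMkEquivSubgroupProdSet N {y : G ⧸ N | y ^ g = 1})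
    have h1 : g ∣ Nat.card {y : G ⧸ N // y ^ g = 1} := frobenius_dvd_card hg
    have hle1 : g ≤ Nat.card {y : G ⧸ N // y ^ g = 1} := by
      haveI : Nonempty {y : G ⧸ N // y ^ g = 1} := ⟨⟨1, one_pow g⟩⟩
      exact Nat.le_of_dvd Nat.card_pos h1
    have hle2 : Nat.card {x : G // π x ^ g = 1} ≤ p * r := by
      rw [← hcount]
      exact Nat.card_le_card_of_injective (fun x => ⟨x.1, hsub x.1 x.2⟩)
        fun x y h => Subtype.ext (congrArg (fun z : {x : G // x ^ (p * r) = 1} => z.1) h)
    have hdvd : p * r ∣ p ^ a * g := by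
      rw [hgdef, ← Nat.gcd_mul_left]
      exact Nat.dvd_gcd (mul_dvd_mul_right (dvd_pow_self p ha.ne') r)
        (by rw [← hNcard, mul_comm (Nat.card N), ← hG]; exact hn)
    have hle3 := Nat.le_of_dvd (Nat.mul_pos (pow_pos hp.pos a) hgpos) hdvd
    have hpa : 0 < p ^ a := pow_pos hp.pos a
    have heq : Nat.card {y : G ⧸ N // y ^ g = 1} = g := by
      refine le_antisymm (Nat.le_of_mul_le_mul_right ?_ hpa) hle1
      calc Nat.card {y : G ⧸ N // y ^ g = 1} * p ^ a ≤ p * r := hfib ▸ hle2
        _ ≤ p ^ a * g := hle3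
        _ = g * p ^ a := mul_comm _ _
    obtain ⟨H, hH⟩ := ih M hlt (G ⧸ N) g hg heq rfl
    refine ⟨H.comap π, Set.eq_of_subset_of_ncard_le ?_ ?_ (Set.toFinite _)⟩
    · intro x hx
      exact hsub x ((Set.ext_iff.1 hH (π x)).1 hx)
    · rw [← Nat.card_coe_set_eq, ← Nat.card_coe_set_eq]
      refine le_of_eq_of_le hcount ?_
      change p * r ≤ Nat.card ↥(H.comap π)
      rw [hπ, card_comap_mk', hNcard]
      have : Nat.card H = g := by
        rw [← heq]; exact Nat.card_congr (Equiv.subtypeEquivRight fun y => Set.ext_iff.1 hH y)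
      rw [this, mul_comm g]
      exact hle3
  · have hnN : n.Coprime (p ^ a) :=
      Nat.Coprime.pow_right a ((Nat.Prime.coprime_iff_not_dvd hp).2 hpn).symm
    have hnM : n ∣ Nat.card (G ⧸ N) := by
      rw [hG, hNcard] at hn
      exact hnN.dvd_of_dvd_mul_right hn
    have hnp : n.Coprime p := ((Nat.Prime.coprime_iff_not_dvd hp).2 hpn).symm
    obtain ⟨b, hb1, hb0⟩ := exists_crt hnp
    have hsurj : Function.Surjective (fun x : {x : G // x ^ n = 1} =>
        (⟨π x.1, by rw [← map_pow, x.2, map_one]⟩ : {y : G ⧸ N // y ^ n = 1})) := by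
      rintro ⟨y, hy⟩
      obtain ⟨x, rfl⟩ := hπs y
      have hxn : x ^ n ∈ N := (QuotientGroup.eq_one_iff _).1 (by
        rw [QuotientGroup.mk_pow]; exact hy)
      refine ⟨⟨x ^ b, ?_⟩, Subtype.ext ?_⟩
      · rw [← pow_mul, mul_comm, pow_mul]
        exact pow_of_crt_zero (hNpow _ hxn) hb0
      · change π (x ^ b) = π x
        rw [map_pow]
        exact pow_of_crt_one hy hb1
    have heq : Nat.card {y : G ⧸ N // y ^ n = 1} = n := by
      refine le_antisymm ((Nat.card_le_card_of_surjective _ hsurj).trans_eq hcount) ?_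
      haveI : Nonempty {y : G ⧸ N // y ^ n = 1} := ⟨⟨1, one_pow n⟩⟩
      exact Nat.le_of_dvd Nat.card_pos (frobenius_dvd_card hnM)
    obtain ⟨H, hH⟩ := ih _ hlt (G ⧸ N) n hnM heq rfl
    have hHc : Nat.card H = n := by
      rw [← heq]
      exact Nat.card_congr (Equiv.subtypeEquivRight fun y => Set.ext_iff.1 hH y)
    set L := H.comap π with hL
    have hLc : Nat.card L = n * p ^ a := by rw [hL, hπ, card_comap_mk', hHc, hNcard]
    obtain ⟨K, hK⟩ := exists_hall hLc hnN
    refine ⟨K.map L.subtype, Set.eq_of_subset_of_ncard_le ?_ ?_ (Set.toFinite _)⟩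
    · rintro _ ⟨x, hx, rfl⟩
      have h : orderOf x ∣ n := hK ▸ Subgroup.orderOf_dvd_natCard K hx
      have h' : x ^ n = 1 := orderOf_dvd_iff_pow_eq_one.1 h
      exact congrArg Subtype.val h'
    · rw [← Nat.card_coe_set_eq, ← Nat.card_coe_set_eq]
      refine le_of_eq_of_le hcount ?_
      change n ≤ Nat.card ↥(K.map L.subtype)
      rw [card_map_of_injective L.subtype_injective, hK]

/-- If `G` is a finite solvable group and `n` divides the order of `G` and exactly `n` elements `x` of `G` satisfy `x^n = 1`, then these elements form a normal subgroup. -/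
theorem result {G : Type*} [Group G] [Finite G] [Group.IsSolvable G] (n : ℕ) (hn : n ∣ Nat.card G) (hcount : Nat.card {x : G // x ^ n = 1} = n) : ∃ H : Subgroup G, H.Normal ∧ (H : Set G) = {x : G | x ^ n = 1} := by
  obtain ⟨H, hH⟩ := exact_count G n hn hcount
  refine ⟨H, ⟨fun x hx g => ?_⟩, hH⟩
  have hx' : x ^ n = 1 := (Set.ext_iff.1 hH x).1 hx
  exact (Set.ext_iff.1 hH _).2 (show (g * x * g⁻¹) ^ n = 1 by
    rw [conj_pow, hx', mul_one, mul_inv_cancel])

end Cfsg.Agent.S4213
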