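import Cfsg.Statements.S4214
import Cfsg.Agent.Lib.Solvable.Hall
import Mathlib.Algebra.BigOperators.Fin
import Mathlib.GroupTheory.PGroup

set_option autoImplicit false
open Cfsg

namespace Cfsg.Agent.S4214

open Subgroup
open scoped Pointwise
open Cfsg.Agent.Solvable

/-- The three conditions on each factor. -/
def GoodFactor (G : Type*) [Group G] (m x : ℕ) : Prop :=
  (∃ q e : ℕ, q.Prime ∧ x = q ^ e) ∧
  (∃ K L : Subgroup G, K.Normal ∧ L.Normal ∧ K < L ∧
    (∀ M : Subgroup G, M.Normal → K ≤ M → M ≤ L → M = K ∨ M = L) ∧ x ∣ K.relIndex L) ∧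
  (∃ q : ℕ, q.Prime ∧ q ∣ m ∧ x ≡ 1 [MOD q])

theorem mem_normalizer_iff_smul {G : Type*} [Group G] {H : Subgroup G} {g : G} :
    g ∈ normalizer (H : Set G) ↔ MulAut.conj g • H = H := by
  constructor
  · intro hg
    ext y
    rw [mem_conj_smul]
    exact (mem_normalizer_iff''.1 hg y).symm
  · intro hg
    rw [mem_normalizer_iff'']
    intro y
    rw [← mem_conj_smul, hg]

theorem card_hall_eq_index {G : Type*} [Group G] [Finite G] [Group.IsSolvable G] {m n : ℕ}
    (hG : Nat.card G = m * n) (hmn : m.Coprime n) (H : Subgroup G) (hH : Nat.card H = m) :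
    Nat.card {K : Subgroup G // Nat.card K = m} = (normalizer (H : Set G)).index := by
  refine (Nat.card_eq_of_bijective
    (Quotient.lift (fun g : G => (⟨MulAut.conj g • H, by rw [card_conj_smul]; exact hH⟩ :
      {K : Subgroup G // Nat.card K = m})) ?_) ⟨?_, ?_⟩).symm
  · intro a b hab
    have hab' := mem_normalizer_iff_smul.1 (QuotientGroup.leftRel_apply.1 hab)
    apply Subtype.ext
    calc MulAut.conj a • H = MulAut.conj a • MulAut.conj (a⁻¹ * b) • H := by rw [hab']
      _ = MulAut.conj b • H := by rw [← conj_smul_mul, mul_inv_cancel_left]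
  · rintro ⟨a⟩ ⟨b⟩ hab
    refine Quotient.sound (QuotientGroup.leftRel_apply.2 (mem_normalizer_iff_smul.2 ?_))
    have h : MulAut.conj a • H = MulAut.conj b • H := congrArg Subtype.val hab
    rw [conj_smul_mul, ← h, ← conj_smul_mul, inv_mul_cancel, map_one, one_smul]
  · rintro ⟨K, hK⟩
    obtain ⟨g, hg⟩ := hall_conj hG hmn H K hH hK
    exact ⟨Quotient.mk'' g, Subtype.ext hg⟩

/-- The coprime action step. -/
theorem exists_invariant_lt {G : Type*} [Group G] [Finite G] [Group.IsSolvable G] {p a : ℕ}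
    (hp : p.Prime) (H : Subgroup G) (hpH : ¬ p ∣ Nat.card H) (U : Subgroup G)
    (hU : Nat.card U ∣ p ^ a) (hUc : ∀ x ∈ U, ∀ y ∈ U, x * y = y * x)
    (hinv : ∀ h ∈ H, ∀ u ∈ U, h * u * h⁻¹ ∈ U) (hne : ¬ U ≤ centralizer (H : Set G)) :
    ∃ V : Subgroup G, V < U ∧ (∀ h ∈ H, ∀ v ∈ V, h * v * h⁻¹ ∈ V) ∧
      U ⊓ centralizer (H : Set G) ≤ V ∧
      ∃ q : ℕ, q.Prime ∧ q ∣ Nat.card H ∧ V.relIndex U ≡ 1 [MOD q] := by
  classical
  set C₀ : Subgroup H := (centralizer (U : Set G)).subgroupOf H with hC₀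
  haveI hC₀n : C₀.Normal := ⟨fun c hc k => by
    change (k : G) * c * (k : G)⁻¹ ∈ centralizer (U : Set G)
    rw [mem_centralizer_iff]
    intro u hu
    have h1 := mem_centralizer_iff.1 (show (c : G) ∈ centralizer (U : Set G) from hc) _
      (hinv _ (H.inv_mem k.2) u hu)
    rw [inv_inv] at h1
    calc u * ((k : G) * c * (k : G)⁻¹) = k * (((k : G)⁻¹ * u * k) * c) * (k : G)⁻¹ := by group
      _ = k * (c * ((k : G)⁻¹ * u * k)) * (k : G)⁻¹ := by rw [h1]
      _ = (k : G) * c * (k : G)⁻¹ * u := by group⟩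
  haveI : Nontrivial (H ⧸ C₀) := QuotientGroup.nontrivial_iff.2 fun ht => hne fun u hu => by
    rw [mem_centralizer_iff]
    intro h hh
    have : (⟨h, hh⟩ : H) ∈ C₀ := ht ▸ mem_top _
    exact (mem_centralizer_iff.1 (show h ∈ centralizer (U : Set G) from this) u hu).symm
  obtain ⟨R, q, hRn, hR, -, hq, hRq, -, hRpow, e, he, hRcard⟩ :=
    exists_minimal_normal_elementary (H ⧸ C₀)
  haveI := Fact.mk hq
  have hqH : q ∣ Nat.card H := (dvd_pow_self q he.ne').trans
    ((hRcard ▸ card_subgroup_dvd_card R).trans (card_quotient_dvd_card C₀))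
  have hqp : Nat.Coprime q p := (Nat.coprime_primes hq hp).2 fun h => hpH (h ▸ hqH)
  set Q : Subgroup H := R.comap (QuotientGroup.mk' C₀) with hQ
  have hQpow : ∀ x ∈ Q, x ^ q ∈ C₀ := fun x hx => by
    rw [← QuotientGroup.eq_one_iff]
    exact hRpow _ hx
  set Q' : Subgroup G := Q.map H.subtype with hQ'
  set V : Subgroup G := U ⊓ centralizer (Q' : Set G) with hV
  have hVinv : ∀ h ∈ H, ∀ v ∈ V, h * v * h⁻¹ ∈ V := fun h hh v hv => by
    refine ⟨hinv h hh v hv.1, mem_centralizer_iff.2 ?_⟩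
    rintro _ ⟨x, hx, rfl⟩
    have hx' : (⟨h, hh⟩ : H)⁻¹ * x * ⟨h, hh⟩ ∈ Q := by
      have h2 := Normal.conj_mem (hRn.comap (QuotientGroup.mk' C₀)) x hx (⟨h, hh⟩ : H)⁻¹
      rwa [inv_inv] at h2
    have h1 := mem_centralizer_iff.1 hv.2 _ (mem_map_of_mem H.subtype hx')
    simp only [coe_subtype, Subgroup.coe_mul, InvMemClass.coe_inv] at h1 ⊢
    calc (x : G) * (h * v * h⁻¹) = h * ((h⁻¹ * x * h) * v) * h⁻¹ := by group
      _ = h * (v * (h⁻¹ * x * h)) * h⁻¹ := by rw [h1]
      _ = h * v * h⁻¹ * x := by group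
  have hVU : V < U := by
    refine lt_of_le_of_ne inf_le_left fun h => hR (eq_bot_iff.2 fun r hr => ?_)
    obtain ⟨x, rfl⟩ := QuotientGroup.mk'_surjective C₀ r
    refine mem_bot.2 ((QuotientGroup.eq_one_iff x).2 ?_)
    change (x : G) ∈ centralizer (U : Set G)
    rw [mem_centralizer_iff]
    intro u hu
    have hu' : u ∈ V := h.symm ▸ hu
    exact (mem_centralizer_iff.1 hu'.2 _ (mem_map_of_mem H.subtype (show x ∈ Q from hr))).symm
  refine ⟨V, hVU, hVinv, fun u hu => ⟨hu.1, ?_⟩, q, hq, hqH, ?_⟩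
  · exact centralizer_le (fun x hx => by obtain ⟨y, -, rfl⟩ := hx; exact y.2) hu.2
  -- the action of `Q` on the cosets of `V` in `U`
  haveI : (V.subgroupOf U).Normal := ⟨fun v hv k => by
    change (k : G) * v * (k : G)⁻¹ ∈ V
    rw [hUc _ k.2 _ v.2, mul_inv_cancel_right]
    exact hv⟩
  let f : Q → (↥U →* ↥U) := fun x =>
    { toFun := fun u => ⟨(x : H) * u * ((x : H) : G)⁻¹, hinv _ x.1.2 _ u.2⟩
      map_one' := by ext; simp
      map_mul' := fun u v => by ext; simp [mul_assoc] }
  let g : Q → (↥U ⧸ V.subgroupOf U) → (↥U ⧸ V.subgroupOf U) := fun x =>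
    QuotientGroup.map (V.subgroupOf U) (V.subgroupOf U) (f x) fun u hu => hVinv _ x.1.2 _ hu
  have g1 : ∀ c, g 1 c = c := fun c => by
    induction c using QuotientGroup.induction_on with
    | _ u => exact congrArg QuotientGroup.mk (Subtype.ext (by simp [f]))
  have gmul : ∀ x y c, g (x * y) c = g x (g y c) := fun x y c => by
    induction c using QuotientGroup.induction_on with
    | _ u => exact congrArg QuotientGroup.mk (Subtype.ext (by simp [f, mul_assoc]))
  letI act : MulAction Q (↥U ⧸ V.subgroupOf U) :=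
    { smul := g, one_smul := g1, mul_smul := gmul }
  set φ := MulAction.toPermHom Q (↥U ⧸ V.subgroupOf U) with hφ
  have hpowC : ∀ (x : Q) (u : G), u ∈ U →
      ((x : H) : G) ^ q * u = u * ((x : H) : G) ^ q := fun x u hu => by
    have h := hQpow x x.2
    have h' : ((x : H) : G) ^ q ∈ centralizer (U : Set G) := by
      rw [← SubgroupClass.coe_pow]; exact h
    exact (mem_centralizer_iff.1 h' u hu).symm
  have hφq : IsPGroup q φ.range := by
    rintro ⟨_, x, rfl⟩
    refine ⟨1, Subtype.ext ?_⟩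
    rw [pow_one, SubgroupClass.coe_pow, OneMemClass.coe_one]
    change φ x ^ q = 1
    rw [← map_pow]
    refine Equiv.ext fun c => ?_
    change g (x ^ q) c = c
    induction c using QuotientGroup.induction_on with
    | _ u => exact congrArg QuotientGroup.mk (Subtype.ext (by
        change ((x ^ q : Q) : H).1 * u * (((x ^ q : Q) : H).1)⁻¹ = u
        rw [SubgroupClass.coe_pow, SubgroupClass.coe_pow, hpowC x u u.2, mul_inv_cancel_right]))
  have hfix : ∀ c ∈ MulAction.fixedPoints φ.range (↥U ⧸ V.subgroupOf U), c = 1 := by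
    intro c hc
    induction c using QuotientGroup.induction_on with
    | _ u =>
      refine (QuotientGroup.eq_one_iff u).2 ⟨u.2, mem_centralizer_iff.2 ?_⟩
      rintro _ ⟨y, hy, rfl⟩
      set x : G := (y : G) with hx
      have hcom := hc ⟨φ ⟨y, hy⟩, ⟨_, rfl⟩⟩
      change g ⟨y, hy⟩ (QuotientGroup.mk u) = QuotientGroup.mk u at hcom
      have hd := QuotientGroup.eq.1 hcom.symm
      change (u : G)⁻¹ * (x * u * x⁻¹) ∈ V at hd
      set w := (u : G)⁻¹ * (x * u * x⁻¹) with hw
      have hwx : x * w = w * x :=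
        mem_centralizer_iff.1 hd.2 _ (mem_map_of_mem H.subtype hy)
      have hxu : x * u = u * w * x := by rw [hw]; group
      have hiter : ∀ i : ℕ, x ^ i * u = u * w ^ i * x ^ i := by
        intro i
        induction i with
        | zero => simp
        | succ i ih =>
          calc x ^ (i + 1) * (u : G) = x * (x ^ i * u) := by rw [pow_succ']; group
            _ = x * (u * w ^ i * x ^ i) := by rw [ih]
            _ = (x * u) * w ^ i * x ^ i := by group
            _ = u * w * (x * w ^ i) * x ^ i := by rw [hxu]; group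
            _ = u * w * (w ^ i * x) * x ^ i := by rw [(Commute.pow_right hwx i).eq]
            _ = u * w ^ (i + 1) * x ^ (i + 1) := by rw [pow_succ' w, pow_succ' x]; group
      have hq1 := hiter q
      rw [hpowC ⟨y, hy⟩ u u.2, mul_assoc, mul_right_inj] at hq1
      have h1 : orderOf w ∣ q := orderOf_dvd_of_pow_eq_one (mul_eq_right.1 hq1.symm)
      have h2 : orderOf w ∣ p ^ a :=
        (Subgroup.orderOf_dvd_natCard U hd.1).trans hU
      have h3 : w = 1 := orderOf_eq_one_iff.1
        (Nat.eq_one_of_dvd_coprimes (hqp.pow_right a) h1 h2)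
      change x * u = u * x
      rw [hxu, h3, mul_one]
  have hone : Nat.card (MulAction.fixedPoints φ.range (↥U ⧸ V.subgroupOf U)) = 1 := by
    rw [Nat.card_eq_one_iff_exists]
    refine ⟨⟨1, ?_⟩, fun c => Subtype.ext (hfix c c.2)⟩
    rintro ⟨_, x, rfl⟩
    change g x 1 = 1
    exact map_one _
  have := hφq.card_modEq_card_fixedPoints (↥U ⧸ V.subgroupOf U)
  rw [hone] at this
  exact this

theorem factor_list {G : Type*} [Group G] [Finite G] [Group.IsSolvable G] {p a : ℕ} (hp : p.Prime)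
    (H : Subgroup G) (hpH : ¬ p ∣ Nat.card H) (N : Subgroup G) (hN : Nat.card N = p ^ a)
    (hNc : ∀ x ∈ N, ∀ y ∈ N, x * y = y * x) (U : Subgroup G) (hUN : U ≤ N)
    (hinv : ∀ h ∈ H, ∀ u ∈ U, h * u * h⁻¹ ∈ U) :
    ∃ l : List ℕ, (centralizer (H : Set G)).relIndex U = l.prod ∧
      ∀ x ∈ l, x ∣ p ^ a ∧ ∃ q : ℕ, q.Prime ∧ q ∣ Nat.card H ∧ x ≡ 1 [MOD q] := by
  induction U using WellFoundedLT.induction with
  | _ U ih =>
  by_cases hc : U ≤ centralizer (H : Set G)
  · exact ⟨[], by simpa using relIndex_eq_one.2 hc, by simp⟩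
  obtain ⟨V, hVU, hVinv, hCV, q, hq, hqH, hmod⟩ := exists_invariant_lt hp H hpH U
    (hN ▸ card_dvd_of_le hUN) (fun x hx y hy => hNc x (hUN hx) y (hUN hy)) hinv hc
  obtain ⟨l, hl, hgood⟩ := ih V hVU (hVU.le.trans hUN) hVinv
  refine ⟨V.relIndex U :: l, ?_, ?_⟩
  · rw [List.prod_cons, ← hl, ← inf_relIndex_right (H := centralizer (H : Set G)) (K := U)]
    have : centralizer (H : Set G) ⊓ U = centralizer (H : Set G) ⊓ V :=
      le_antisymm (le_inf inf_le_left (by rw [inf_comm]; exact hCV))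
        (inf_le_inf_left _ hVU.le)
    rw [this, mul_comm, ← inf_relIndex_right (H := centralizer (H : Set G)) (K := V),
      relIndex_mul_relIndex _ _ _ inf_le_right hVU.le]
  · simp only [List.mem_cons, forall_eq_or_imp]
    exact ⟨⟨((Dvd.intro_left _ (card_mul_relIndex hVU.le)).trans (card_dvd_of_le hUN)).trans hN.dvd,
      q, hq, hqH, hmod⟩, hgood⟩

theorem good_list {G : Type*} [Group G] [Finite G] [Group.IsSolvable G] (m n : ℕ)
    (hG : Nat.card G = m * n) (hmn : m.Coprime n) :
    ∃ l : List ℕ, Nat.card {H : Subgroup G // Nat.card H = m} = l.prod ∧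
      ∀ x ∈ l, GoodFactor G m x := by
  induction hk : Nat.card G using Nat.strong_induction_on generalizing G m n with
  | _ k ih =>
  obtain ⟨H, hH⟩ := exists_hall hG hmn
  rcases subsingleton_or_nontrivial G with hs | hs
  · refine ⟨[], ?_, by simp⟩
    rw [card_hall_eq_index hG hmn H hH, List.prod_nil, index_eq_one]
    exact Subsingleton.elim _ _
  obtain ⟨N, p, hNn, hN, hmin, hp, -, hNab, -, a, ha, hNcard⟩ := exists_minimal_normal_elementary G
  have hNc : ∀ x ∈ N, ∀ y ∈ N, x * y = y * x := fun x hx y hy =>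
    congrArg Subtype.val (hNab.1.1 ⟨x, hx⟩ ⟨y, hy⟩)
  set π := QuotientGroup.mk' N with hπ
  have hπs : Function.Surjective π := QuotientGroup.mk'_surjective N
  have hlt : Nat.card (G ⧸ N) < k := by
    rw [← hk, card_eq_card_quotient_mul_card_subgroup N]
    exact lt_mul_of_one_lt_right Nat.card_pos ((one_lt_card_iff_ne_bot N).2 hN)
  set Hb := H.map π with hHb
  have hmb : Nat.card Hb ∣ m := hH ▸ card_map_dvd (H := H) π
  have hnb : Hb.index ∣ n := by
    have : H.index = n := Nat.eq_of_mul_eq_mul_left (hH ▸ Nat.card_pos : 0 < m)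
      (by rw [← hG, ← hH, card_mul_index])
    exact this ▸ index_map_dvd H hπs
  have hGb : Nat.card (G ⧸ N) = Nat.card Hb * Hb.index := (card_mul_index Hb).symm
  have hcob : (Nat.card Hb).Coprime Hb.index :=
    (hmn.coprime_dvd_left hmb).coprime_dvd_right hnb
  obtain ⟨l, hl, hgood⟩ := ih _ hlt (Nat.card Hb) Hb.index hGb hcob rfl
  rw [card_hall_eq_index hG hmn H hH]
  rw [card_hall_eq_index hGb hcob Hb rfl] at hl
  set NH := normalizer (H : Set G) with hNH
  have hsup : (NH ⊔ N).index = l.prod := by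
    rw [← hl, ← index_comap_of_surjective (normalizer (Hb : Set (G ⧸ N))) hπs]
    congr 1
    refine le_antisymm (sup_le (fun g hg => ?_) (fun g hg => ?_)) fun g hg => ?_
    · rw [mem_comap, mem_normalizer_iff_smul, hHb, ← map_conj_smul,
        mem_normalizer_iff_smul.1 hg]
    · rw [mem_comap, (show π g = 1 from (QuotientGroup.eq_one_iff g).2 hg)]
      exact one_mem _
    · rw [mem_comap, mem_normalizer_iff_smul, hHb, ← map_conj_smul] at hg
      have hle : MulAut.conj g • H ≤ H ⊔ N := by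
        rw [← comap_map_mk', ← hπ, ← hg]; exact le_comap_map _ _
      set L := H ⊔ N with hL
      have hHL : H ≤ L := le_sup_left
      have hLc : Nat.card L = m * H.relIndex L := by rw [← hH, card_mul_relIndex hHL]
      have hco : m.Coprime (H.relIndex L) := hmn.coprime_dvd_right (by
        have h1 := relIndex_dvd_index_of_le hHL
        rwa [Nat.eq_of_mul_eq_mul_left (hH ▸ Nat.card_pos : 0 < m)
          (by rw [← hG, ← hH, card_mul_index] : m * H.index = m * n)] at h1)
      obtain ⟨x, hxL, hx⟩ := exists_conj_of_subgroupOf hle hHL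
        (hall_conj hLc hco _ _ (by rw [card_subgroupOf hle, card_conj_smul, hH])
          (by rw [card_subgroupOf hHL, hH]))
      have hxg : x * g ∈ NH := mem_normalizer_iff_smul.2 (by rw [conj_smul_mul, hx])
      have hLle : L ≤ NH ⊔ N := sup_le_sup_right le_normalizer _
      have := mul_mem (inv_mem (hLle hxL)) (le_sup_left (b := N) hxg)
      rwa [inv_mul_cancel_left] at this
  have hidx : NH.index = l.prod * NH.relIndex N := by
    rw [← hsup, ← relIndex_mul_index (le_sup_left : NH ≤ NH ⊔ N), mul_comm]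
    congr 1
    have e1 := card_sup_mul_card_inf NH N
    rw [← card_mul_relIndex (le_sup_left : NH ≤ NH ⊔ N),
      ← card_mul_relIndex (inf_le_right : NH ⊓ N ≤ N), inf_relIndex_right] at e1
    refine Nat.eq_of_mul_eq_mul_left (Nat.mul_pos (Nat.card_pos (α := NH))
      (Nat.card_pos (α := ↥(NH ⊓ N)))) ?_
    linarith [e1]
  have hlift : ∀ x ∈ l, GoodFactor G m x := by
    intro x hx
    obtain ⟨hpow, ⟨K, L, hK, hL, hKL, hmax, hdvd⟩, q, hq, hqd, hmod⟩ := hgood x hx
    refine ⟨hpow, ⟨K.comap π, L.comap π, hK.comap π, hL.comap π,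
      (comap_lt_comap_of_surjective hπs).2 hKL, fun M hM h1 h2 => ?_, ?_⟩,
      q, hq, hqd.trans hmb, hmod⟩
    · have hNM : π.ker ≤ M := (ker_le_comap π K).trans h1
      have hMeq : (M.map π).comap π = M := comap_map_eq_self hNM
      rcases hmax (M.map π) (hM.map π hπs)
        (by rw [← map_comap_eq_self_of_surjective hπs K]; exact map_mono h1)
        (by rw [← map_comap_eq_self_of_surjective hπs L]; exact map_mono h2) with h | h
      · left; rw [← hMeq, h]
      · right; rw [← hMeq, h]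
    · rwa [relIndex_comap, map_comap_eq_self_of_surjective hπs]
  by_cases hpm : p ∣ m
  · refine ⟨l, ?_, hlift⟩
    have hNH' : N ≤ NH := (normal_le_of_card_coprime hG H N hH (by
      rw [hNcard]
      exact Nat.Coprime.pow_left a ((Nat.Prime.coprime_iff_not_dvd hp).2 fun h =>
        hp.ne_one (Nat.eq_one_of_dvd_coprimes hmn hpm h))) hmn).trans le_normalizer
    rw [hidx, relIndex_eq_one.2 hNH', mul_one]
  · have hinfbot : H ⊓ N = ⊥ := (disjoint_of_coprime_natCard (by
      rw [hH, hNcard]; exact (((Nat.Prime.coprime_iff_not_dvd hp).2 hpm).pow_left a).symm)).eq_bot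
    have hrel : NH.relIndex N = (centralizer (H : Set G)).relIndex N := by
      rw [← inf_relIndex_right (H := NH), ← inf_relIndex_right (H := centralizer (H : Set G))]
      congr 1
      refine le_antisymm (fun x hx => ⟨mem_centralizer_iff.2 fun h hh => ?_, hx.2⟩)
        (inf_le_inf_right _ (centralizer_le_normalizer _))
      have h1 : h * x * h⁻¹ * x⁻¹ ∈ H ⊓ N := ⟨by
        have := H.mul_mem hh ((mem_normalizer_iff.1 hx.1 h⁻¹).1 (H.inv_mem hh))
        simpa [mul_assoc] using this,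
        N.mul_mem (hNn.conj_mem x hx.2 h) (N.inv_mem hx.2)⟩
      rw [hinfbot, mem_bot, mul_inv_eq_one, mul_inv_eq_iff_eq_mul] at h1
      exact h1
    obtain ⟨l', hl', hg'⟩ := factor_list hp H (hH ▸ hpm) N hNcard hNc N le_rfl
      (fun h _ u hu => hNn.conj_mem u hu h)
    refine ⟨l ++ l', by rw [List.prod_append, hidx, hrel, hl'], ?_⟩
    intro x hx
    rcases List.mem_append.1 hx with h | h
    · exact hlift x h
    · obtain ⟨hdvd, q, hq, hqd, hmod⟩ := hg' x h
      obtain ⟨e, -, he⟩ := (Nat.dvd_prime_pow hp).1 hdvd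
      refine ⟨⟨p, e, hp, he⟩, ⟨⊥, N, inferInstance, hNn, bot_lt_iff_ne_bot.2 hN,
        fun M hM _ h2 => hmin M hM h2, ?_⟩, q, hq, hH ▸ hqd, hmod⟩
      rw [relIndex_bot_left, hNcard]; exact hdvd

theorem main_aux (G : Type*) [Group G] [Finite G] [Group.IsSolvable G] (m n : ℕ)
    (hG : Nat.card G = m * n) (hmn : m.Coprime n) :
    ∃ (k : ℕ) (f : Fin k → ℕ), Nat.card {H : Subgroup G // Nat.card H = m} = ∏ i, f i ∧
      ∀ i, GoodFactor G m (f i) := by
  obtain ⟨l, hl, hgood⟩ := good_list m n hG hmn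
  exact ⟨l.length, fun i => l[i.1], by rw [hl, Fin.prod_univ_getElem],
    fun i => hgood _ (List.getElem_mem _)⟩

/-- Let `G` be a finite solvable group of order `mn` with `gcd(m, n) = 1`. Then the number of subgroups of order `m` is a product of natural numbers each of which is a power of a prime, divides the order of some chief factor of `G` (a quotient `L/K` of normal subgroups `K < L` of `G` with no normal subgroup of `G` strictly between them), and is congruent to `1` modulo some prime divisor of `m`. -/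
theorem result {G : Type*} [Group G] [Finite G] [Group.IsSolvable G] (m n : ℕ) (hG : Nat.card G = m * n) (hmn : Nat.Coprime m n) : ∃ (k : ℕ) (f : Fin k → ℕ), Nat.card {H : Subgroup G // Nat.card H = m} = ∏ i, f i ∧ ∀ i, (∃ q e : ℕ, q.Prime ∧ f i = q ^ e) ∧ (∃ K L : Subgroup G, K.Normal ∧ L.Normal ∧ K < L ∧ (∀ M : Subgroup G, M.Normal → K ≤ M → M ≤ L → M = K ∨ M = L) ∧ f i ∣ K.relIndex L) ∧ (∃ q : ℕ, q.Prime ∧ q ∣ m ∧ f i ≡ 1 [MOD q]) := by
  exact main_aux G m n hG hmn

end Cfsg.Agent.S4214
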