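import Cfsg.Statements.S4216
import Mathlib
import Cfsg.Agent.FGS79.HallWielandt

set_option autoImplicit false
open Cfsg

namespace Cfsg.Agent.S4216

open scoped commutatorElement
open Cfsg.Agent.FGS79

theorem mem_of_hom {G : Type*} [Group G] [Finite G] {p : ℕ} [hp : Fact p.Prime] (P : Sylow p G)
    {A : Type*} [CommGroup A] (φ : (P : Subgroup G) →* A) (hA : ∀ a : A, ∃ k, a ^ p ^ k = 1)
    (hN : ∀ x ∈ Subgroup.normalizer ((P : Subgroup G) : Set G), ∀ (u : G) (hu : u ∈ (P : Subgroup G))
      (hu' : x⁻¹ * u * x ∈ (P : Subgroup G)), φ ⟨x⁻¹ * u * x, hu'⟩ = φ ⟨u, hu⟩)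
    (hz : ∀ (x : G) (v : G), v ∈ ⁅(P : Subgroup G), (P : Subgroup G)⁆ → ∀ (hv : x⁻¹ * v * x ∈ (P : Subgroup G)),
      φ ⟨x⁻¹ * v * x, hv⟩ = 1) :
    ∀ (n : ℕ) (u : G) (hu : u ∈ (P : Subgroup G)), u ∈ commutator G → orderOf u = n → φ ⟨u, hu⟩ = 1 := by
  classical
  haveI : Fintype (G ⧸ (P : Subgroup G)) := Fintype.ofFinite _
  haveI : Fintype (P : Subgroup G) := Fintype.ofFinite _
  intro n
  induction n using Nat.strong_induction_on with
  | _ n ih =>
  intro u hu huG hn
  set Y : Finset (G ⧸ (P : Subgroup G)) := Finset.univ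
  let V : G →* A := (setTransfer φ ⊤ Y (fun _ _ _ _ => Finset.mem_univ _)).comp Subgroup.topEquiv.symm.toMonoidHom
  have hV : ∏ q ∈ Y, cocycle φ u q = 1 := Abelianization.commutator_subset_ker V huG
  set F := Finset.univ.filter (fun q : G ⧸ (P : Subgroup G) => ∀ h : (P : Subgroup G), (h : G) • q = q)
  -- cosets in the normalizer
  have hF : ∀ q ∈ F, cocycle φ u q = φ ⟨u, hu⟩ := by
    intro q hq
    simp only [F, Finset.mem_filter, Finset.mem_univ, true_and] at hq
    have hmem : q.out⁻¹ * u * q.out ∈ (P : Subgroup G) := by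
      have := out_smul_inv_mul_mem (N := (P : Subgroup G)) u q
      rwa [hq ⟨u, hu⟩] at this
    rw [cocycle_of_fixed φ (hq ⟨u, hu⟩) hmem]
    refine hN _ ?_ u hu hmem
    have hle : (P : Subgroup G).map (MulAut.conj q.out⁻¹).toMonoidHom ≤ (P : Subgroup G) := by
      rintro _ ⟨v, hv, rfl⟩
      have := out_smul_inv_mul_mem (N := (P : Subgroup G)) v q
      rw [hq ⟨v, hv⟩] at this
      simpa using this
    have := (Subgroup.mem_normalizer_iff_map_conj_eq (g := q.out⁻¹)).mpr
      (Subgroup.eq_of_le_of_card_ge hle (Subgroup.card_map_of_injective (MulEquiv.injective _)).ge)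
    simpa using inv_mem this
  have hrest : ∏ q ∈ Fᶜ, cocycle φ u q ∈ (⊥ : Subgroup A).toSubmonoid := by
    refine prod_orbit_mem _ (P : Subgroup G) (fun q => cocycle φ u q) _ _ rfl ?_ ?_
    · intro h hh q hq
      simp only [F, Finset.mem_compl, Finset.mem_filter, Finset.mem_univ, true_and] at hq ⊢
      intro hfix
      apply hq
      intro k
      have e : q = h • q := by simpa using hfix ⟨h⁻¹, inv_mem hh⟩
      rw [e]; exact hfix k
    intro q₀ hq₀
    simp only [F, Finset.mem_compl, Finset.mem_filter, Finset.mem_univ, true_and] at hq₀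
    set O : Finset (G ⧸ (P : Subgroup G)) := Finset.univ.image (fun h : (P : Subgroup G) => (h : G) • q₀)
    have hO : ∀ r, r ∈ O ↔ ∃ h ∈ (P : Subgroup G), h • q₀ = r := fun r => by simp [O]
    have hstable : ∀ r ∈ O, u • r ∈ O := by
      intro r hr
      obtain ⟨h, hh, rfl⟩ := (hO r).mp hr
      exact (hO _).mpr ⟨u * h, mul_mem hu hh, mul_smul _ _ _⟩
    show ∏ r ∈ O, cocycle φ u r ∈ (⊥ : Subgroup A)
    rw [← Finset.prod_filter_mul_prod_filter_not O (fun r => u • r = r)]
    refine mul_mem ?_ ?_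
    · -- all fixed factors are equal
      set E := O.filter (fun r => u • r = r)
      rcases E.eq_empty_or_nonempty with hE | ⟨r₁, hr₁⟩
      · rw [hE, Finset.prod_empty]; exact one_mem _
      obtain ⟨hr₁O, hr₁f⟩ := Finset.mem_filter.mp hr₁
      have hmem₁ : r₁.out⁻¹ * u * r₁.out ∈ (P : Subgroup G) := by
        have := out_smul_inv_mul_mem (N := (P : Subgroup G)) u r₁
        rwa [hr₁f] at this
      have hall : ∀ r ∈ E, cocycle φ u r = cocycle φ u r₁ := by
        intro r hr
        obtain ⟨hrO, hrf⟩ := Finset.mem_filter.mp hr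
        have hmem : r.out⁻¹ * u * r.out ∈ (P : Subgroup G) := by
          have := out_smul_inv_mul_mem (N := (P : Subgroup G)) u r
          rwa [hrf] at this
        obtain ⟨a, ha, har⟩ := (hO r).mp hrO
        obtain ⟨b, hb, hbr⟩ := (hO r₁).mp hr₁O
        have hab : (b * a⁻¹) • r = r₁ := by rw [← har, ← hbr, mul_smul, inv_smul_smul]
        have hg : r₁.out⁻¹ * (b * a⁻¹) * r.out ∈ (P : Subgroup G) := by
          have := out_smul_inv_mul_mem (N := (P : Subgroup G)) (b * a⁻¹) r
          rwa [hab] at this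
        set c := b * a⁻¹
        have hc : c ∈ (P : Subgroup G) := mul_mem hb (inv_mem ha)
        rw [cocycle_of_fixed φ hrf hmem, cocycle_of_fixed φ hr₁f hmem₁]
        -- conjugate inside `P`
        have hv : c * u * c⁻¹ * u⁻¹ ∈ ⁅(P : Subgroup G), (P : Subgroup G)⁆ := Subgroup.commutator_mem_commutator hc hu
        have hv' : r₁.out⁻¹ * (c * u * c⁻¹ * u⁻¹) * r₁.out ∈ (P : Subgroup G) := by
          have e : r₁.out⁻¹ * (c * u * c⁻¹ * u⁻¹) * r₁.out = (r₁.out⁻¹ * c * r.out) * (r.out⁻¹ * u * r.out) *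
              (r₁.out⁻¹ * c * r.out)⁻¹ * (r₁.out⁻¹ * u * r₁.out)⁻¹ := by group
          rw [e]
          exact mul_mem (mul_mem (mul_mem hg hmem) (inv_mem hg)) (inv_mem hmem₁)
        have h1 := hz r₁.out _ hv hv'
        have e : (⟨_, hv'⟩ : (P : Subgroup G)) = ⟨_, hg⟩ * ⟨_, hmem⟩ * ⟨_, hg⟩⁻¹ * ⟨_, hmem₁⟩⁻¹ := by
          apply Subtype.ext
          simp [mul_assoc]
        rw [e, map_mul, map_mul, map_mul, map_inv, map_inv, mul_inv_eq_one, mul_inv_cancel_comm] at h1
        exact h1
      rw [Finset.prod_congr rfl hall, Finset.prod_const]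
      have hdvd : p ∣ E.card := by
        let H := Subgroup.zpowers (⟨u, hu⟩ : (P : Subgroup G))
        have hH : IsPGroup p H := P.2.to_subgroup H
        have h1 := hH.card_modEq_card_fixedPoints (MulAction.orbit (P : Subgroup G) q₀)
        have e1 : Nat.card (MulAction.fixedPoints H (MulAction.orbit (P : Subgroup G) q₀)) = E.card := by
          rw [← Nat.card_eq_finsetCard]
          refine Nat.card_congr ⟨fun r => ⟨r.1.1, ?_⟩, fun r => ⟨⟨r.1, ?_⟩, ?_⟩, fun r => rfl, fun r => rfl⟩
          · obtain ⟨h, hh⟩ := r.1.2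
            refine Finset.mem_filter.mpr ⟨(hO _).mpr ⟨h, h.2, hh⟩, ?_⟩
            exact congrArg Subtype.val (r.2 ⟨_, Subgroup.mem_zpowers _⟩)
          · obtain ⟨h, hh, e⟩ := (hO _).mp (Finset.mem_filter.mp r.2).1
            exact ⟨⟨h, hh⟩, e⟩
          · intro g
            obtain ⟨i, hi⟩ := Subgroup.mem_zpowers_iff.mp g.2
            apply Subtype.ext
            show ((g : (P : Subgroup G)) : G) • r.1 = r.1
            rw [← hi, SubgroupClass.coe_zpow]
            exact (Subgroup.zpowers_le.mpr (show u ∈ MulAction.stabilizer G r.1 from (Finset.mem_filter.mp r.2).2))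
              (Subgroup.zpow_mem_zpowers u i)
        have e2 : p ∣ Nat.card (MulAction.orbit (P : Subgroup G) q₀) := by
          obtain ⟨k, hk⟩ := P.2.card_orbit q₀
          rw [hk]
          refine dvd_pow_self p ?_
          rintro rfl
          apply hq₀
          intro h
          have hs : (MulAction.orbit (P : Subgroup G) q₀).ncard = 1 := by
            rw [← Nat.card_coe_set_eq]; simpa using hk
          obtain ⟨a, ha⟩ := Set.ncard_eq_one.mp hs
          have h1 : (h : G) • q₀ ∈ MulAction.orbit (P : Subgroup G) q₀ := ⟨h, rfl⟩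
          have h2 : q₀ ∈ MulAction.orbit (P : Subgroup G) q₀ := MulAction.mem_orbit_self q₀
          rw [ha, Set.mem_singleton_iff] at h1 h2
          rw [h1, h2]
        rw [e1] at h1
        exact (h1.dvd_iff dvd_rfl).mp e2
      obtain ⟨j, hj⟩ := hdvd
      rw [Subgroup.mem_bot, hj, pow_mul, cocycle_of_fixed φ hr₁f hmem₁, ← map_pow]
      -- smaller order
      suffices h : φ (⟨_, hmem₁⟩ ^ p) = 1 by rw [h, one_pow]
      by_cases hu1 : u = 1
      · have : (⟨_, hmem₁⟩ : (P : Subgroup G)) = 1 := Subtype.ext (by simp [hu1])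
        rw [this, one_pow, map_one]
      refine ih (orderOf ((r₁.out⁻¹ * u * r₁.out) ^ p)) ?_ _ (pow_mem hmem₁ p) ?_ rfl
      · have hord : orderOf (r₁.out⁻¹ * u * r₁.out) = orderOf u := by
          simpa using orderOf_injective (MulAut.conj r₁.out⁻¹).toMonoidHom (MulEquiv.injective _) u
        rw [orderOf_pow, hord, ← hn]
        obtain ⟨k, hk⟩ := IsPGroup.iff_orderOf.mp P.2 ⟨u, hu⟩
        rw [Subgroup.orderOf_mk] at hk
        have hk0 : k ≠ 0 := by rintro rfl; exact hu1 (orderOf_eq_one_iff.mp (by simpa using hk))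
        refine Nat.div_lt_self (orderOf_pos u) ?_
        rw [hk, Nat.gcd_eq_right (dvd_pow_self p hk0)]
        exact hp.out.one_lt
      · apply pow_mem
        simpa using (inferInstance : (commutator G).Normal).conj_mem u huG r₁.out⁻¹
    · -- moved cosets give smaller order
      refine prod_cocycle_mem φ ⊥ u _ _ rfl ?_ ?_ ?_
      · intro r hr
        obtain ⟨hrO, hrne⟩ := Finset.mem_filter.mp hr
        refine Finset.mem_filter.mpr ⟨hstable r hrO, fun e => hrne (MulAction.injective u e)⟩
      · exact fun r _ => ⟨orderOf u, orderOf_pos u, by rw [pow_orderOf_eq_one, one_smul]⟩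
      · intro r hr f hf hfix hfmin
        have hmem : r.out⁻¹ * u ^ f * r.out ∈ (P : Subgroup G) := by
          have := out_smul_inv_mul_mem (N := (P : Subgroup G)) (u ^ f) r
          rwa [hfix] at this
        rw [Subgroup.mem_bot, cocycle_of_fixed φ hfix hmem]
        have hne : u • r ≠ r := (Finset.mem_filter.mp hr).2
        refine ih (orderOf (r.out⁻¹ * u ^ f * r.out)) ?_ _ hmem ?_ rfl
        · have hord : orderOf (r.out⁻¹ * u ^ f * r.out) = orderOf (u ^ f) := by
            simpa using orderOf_injective (MulAut.conj r.out⁻¹).toMonoidHom (MulEquiv.injective _) (u ^ f)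
          rw [hord, ← hn, orderOf_pow]
          refine Nat.div_lt_self (orderOf_pos u) ?_
          have hgcd : Nat.gcd (orderOf u) f ≠ 1 := by
            intro hg
            apply hne
            have hu' : u ∈ MulAction.stabilizer G r := by
              obtain ⟨y, hy⟩ := exists_pow_eq_self_of_coprime (x := u) (n := f) (Nat.Coprime.symm hg)
              rw [← hy]; exact pow_mem (show u ^ f ∈ MulAction.stabilizer G r from hfix) y
            exact hu'
          have := Nat.gcd_pos_of_pos_left f (orderOf_pos u)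
          omega
        · simpa using (inferInstance : (commutator G).Normal).conj_mem _ (pow_mem huG f) r.out⁻¹
  rw [← Finset.prod_mul_prod_compl F, Subgroup.mem_bot.mp hrest, mul_one, Finset.prod_congr rfl hF,
    Finset.prod_const] at hV
  -- the number of cosets fixed by `P` is prime to `p`
  have hcop : ¬ p ∣ F.card := by
    intro hd
    have h1 := P.2.card_modEq_card_fixedPoints (G ⧸ (P : Subgroup G))
    have e : Nat.card (MulAction.fixedPoints (P : Subgroup G) (G ⧸ (P : Subgroup G))) = F.card := by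
      rw [← Nat.card_eq_finsetCard]
      refine Nat.card_congr (Equiv.subtypeEquivRight fun q => ?_)
      simp only [F, Finset.mem_filter, Finset.mem_univ, true_and, MulAction.mem_fixedPoints]
      rfl
    rw [e] at h1
    exact P.not_dvd_index ((h1.dvd_iff dvd_rfl).mpr hd)
  obtain ⟨k, hk⟩ := hA (φ ⟨u, hu⟩)
  exact orderOf_eq_one_iff.mp (Nat.dvd_one.mp ((Nat.Coprime.pow_left k (hp.out.coprime_iff_not_dvd.mpr hcop)) ▸
    Nat.dvd_gcd (orderOf_dvd_of_pow_eq_one hk) (orderOf_dvd_of_pow_eq_one hV)))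

/-- Grün's first Theorem: if `P` is a Sylow `p`-subgroup of the finite group `G`, then `P ∩ G'` is the subgroup generated by `P ∩ N_G(P)'` together with the subgroups `P ∩ z P' z⁻¹` for all `z ∈ G`, where `'` denotes the derived subgroup and `N_G(P)` the normalizer of `P`. -/
theorem result {G : Type*} [Group G] [Finite G] {p : ℕ} [Fact p.Prime] (P : Sylow p G) : (P : Subgroup G) ⊓ commutator G = ((P : Subgroup G) ⊓ ⁅Subgroup.normalizer ((P : Subgroup G) : Set G), Subgroup.normalizer ((P : Subgroup G) : Set G)⁆) ⊔ ⨆ z : G, (P : Subgroup G) ⊓ (⁅(P : Subgroup G), (P : Subgroup G)⁆).map (MulAut.conj z).toMonoidHom := by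
  set N := Subgroup.normalizer ((P : Subgroup G) : Set G)
  set R := ((P : Subgroup G) ⊓ ⁅N, N⁆) ⊔ ⨆ z : G, (P : Subgroup G) ⊓ (⁅(P : Subgroup G), (P : Subgroup G)⁆).map (MulAut.conj z).toMonoidHom
  have hPN : (P : Subgroup G) ≤ N := Subgroup.le_normalizer
  have hRP : R ≤ (P : Subgroup G) := sup_le inf_le_left (iSup_le fun z => inf_le_left)
  refine le_antisymm ?_ ?_
  · have hRcomm : ⁅(P : Subgroup G), (P : Subgroup G)⁆ ≤ R :=
      le_sup_of_le_left (le_inf (Subgroup.commutator_le_self _) (Subgroup.commutator_mono hPN hPN))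
    set R' := R.subgroupOf (P : Subgroup G)
    have hle : commutator (P : Subgroup G) ≤ R' := by
      intro x hx
      exact hRcomm (by rw [← Subgroup.map_subtype_commutator]; exact ⟨x, hx, rfl⟩)
    haveI : R'.Normal := Subgroup.Normal.of_commutator_le (G := (P : Subgroup G)) hle
    letI : CommGroup ((P : Subgroup G) ⧸ R') :=
      { (inferInstance : Group ((P : Subgroup G) ⧸ R')) with
        mul_comm := (Subgroup.Normal.quotient_commutative_iff_commutator_le.mpr hle).is_comm.comm }
    have key := mem_of_hom P (QuotientGroup.mk' R') (fun a => P.2.to_quotient R' a) ?_ ?_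
    · rintro u ⟨hu, huG⟩
      exact (QuotientGroup.eq_one_iff (⟨u, hu⟩ : (P : Subgroup G))).mp (key _ u hu huG rfl)
    · intro x hx u hu hu'
      refine QuotientGroup.eq.mpr ?_
      show (x⁻¹ * u * x)⁻¹ * u ∈ R
      refine Subgroup.mem_sup_left (Subgroup.mem_inf.mpr ⟨mul_mem (inv_mem hu') hu, ?_⟩)
      have := Subgroup.commutator_mem_commutator (H₁ := N) (H₂ := N) (inv_mem hx) (inv_mem (hPN hu))
      simpa [commutatorElement_def, mul_assoc] using this
    · intro x v hv hv'
      refine (QuotientGroup.eq_one_iff _).mpr ?_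
      exact Subgroup.mem_sup_right (Subgroup.mem_iSup_of_mem x⁻¹ ⟨hv', ⟨v, hv, by simp⟩⟩)
  · refine le_inf hRP (sup_le (inf_le_right.trans (Subgroup.commutator_mono le_top le_top)) (iSup_le fun z => ?_))
    refine inf_le_right.trans ?_
    rw [Subgroup.map_commutator]
    exact Subgroup.commutator_mono le_top le_top

end Cfsg.Agent.S4216
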