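import Cfsg.Statements.S4217
import Mathlib

set_option autoImplicit false
open Cfsg

namespace Cfsg.Agent.S4217

/-- `f` is a crossed homomorphism into `A` extending `a ↦ a ^ m`. -/
def IsCrossed {G : Type*} [Group G] (A : Subgroup G) (m : ℤ) (f : G → G) : Prop :=
  (∀ g, f g ∈ A) ∧ (∀ a ∈ A, f a = a ^ m) ∧ ∀ g h, f (g * h) = h⁻¹ * f g * h * f h

theorem exists_crossed_of_split {G : Type*} [Group G] [Finite G] (A : Subgroup G) [A.Normal]
    (hA : ∀ a ∈ A, ∀ b ∈ A, a * b = b * a) (U K : Subgroup G) (hKA : K ⊓ A = ⊥) (hU : K ⊔ A = U) :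
    ∃ f, IsCrossed A (U.index : ℤ) f := by
  classical
  have hAU : A ≤ U := hU ▸ le_sup_right
  have hdec : ∀ u : U, ∃ a : A, (u : G) * (a : G)⁻¹ ∈ K := by
    intro u
    obtain ⟨k, hk, a, ha, e⟩ := Subgroup.mem_sup_of_normal_right.mp (hU.symm ▸ u.2 : (u : G) ∈ K ⊔ A)
    exact ⟨⟨a, ha⟩, by rw [← e, mul_inv_cancel_right]; exact hk⟩
  choose π hπ using hdec
  have huniq : ∀ (u : U) (a : G), a ∈ A → (u : G) * a⁻¹ ∈ K → (π u : G) = a := by
    intro u a ha hk
    have h1 : (π u : G) * a⁻¹ ∈ K ⊓ A := by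
      refine Subgroup.mem_inf.mpr ⟨?_, mul_mem (π u).2 (inv_mem ha)⟩
      have := mul_mem (inv_mem (hπ u)) hk
      simpa [mul_assoc] using this
    rw [hKA, Subgroup.mem_bot, mul_inv_eq_one] at h1
    exact h1
  let r : G ⧸ U → G := fun q => q.out
  have hmem : ∀ g q, (r (g • q))⁻¹ * g * r q ∈ U := by
    intro g q
    have h : ((g • q).out : G ⧸ U) = ((g * q.out : G) : G ⧸ U) := by
      rw [QuotientGroup.out_eq', ← smul_eq_mul, MulAction.Quotient.coe_smul_out]
    have h' := QuotientGroup.eq.mp h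
    rwa [← mul_assoc] at h'
  let F : G → G ⧸ U → A := fun g q =>
    ⟨r q * (π ⟨_, hmem g q⟩ : G) * (r q)⁻¹, (inferInstance : A.Normal).conj_mem _ (π _).2 _⟩
  haveI : Fintype (G ⧸ U) := Fintype.ofFinite _
  letI : CommGroup A := { (inferInstance : Group A) with mul_comm := fun a b => Subtype.ext (hA a a.2 b b.2) }
  refine ⟨fun g => ((∏ q, F g q : A) : G), fun g => (∏ q, F g q : A).2, fun a ha => ?_, fun g h => ?_⟩
  · have hF : ∀ q, F a q = ⟨a, ha⟩ := by
      intro q
      apply Subtype.ext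
      have hfix : a • q = q := by
        rw [← QuotientGroup.out_eq' q, MulAction.Quotient.smul_coe, smul_eq_mul]
        refine QuotientGroup.eq.mpr (hAU ?_)
        have := (inferInstance : A.Normal).conj_mem _ (inv_mem ha) q.out⁻¹
        simpa [mul_assoc] using this
      have ha' : (r q)⁻¹ * a * r q ∈ A := by
        have := (inferInstance : A.Normal).conj_mem _ ha (r q)⁻¹
        simpa using this
      show r q * (π ⟨_, hmem a q⟩ : G) * (r q)⁻¹ = a
      rw [huniq ⟨_, hmem a q⟩ _ ha' (by show (r (a • q))⁻¹ * a * r q * _ ∈ K; rw [hfix, mul_inv_cancel]; exact one_mem K)]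
      group
    show ((∏ q, F a q : A) : G) = _
    rw [Finset.prod_congr rfl (fun q _ => hF q), Finset.prod_const, Finset.card_univ, Subgroup.index,
      Nat.card_eq_fintype_card, zpow_natCast, SubmonoidClass.coe_pow]
  · have key : ∀ q, F (g * h) q = ⟨h⁻¹ * (F g (h • q) : G) * h, by
        simpa using (inferInstance : A.Normal).conj_mem _ (F g (h • q)).2 h⁻¹⟩ * F h q := by
      intro q
      apply Subtype.ext
      show r q * (π ⟨_, hmem (g * h) q⟩ : G) * (r q)⁻¹ =
        (h⁻¹ * (r (h • q) * (π ⟨_, hmem g (h • q)⟩ : G) * (r (h • q))⁻¹) * h) * (r q * (π ⟨_, hmem h q⟩ : G) * (r q)⁻¹)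
      set u₁ : U := ⟨_, hmem g (h • q)⟩
      set u₂ : U := ⟨_, hmem h q⟩
      have hu : (⟨_, hmem (g * h) q⟩ : U) = u₁ * u₂ := by
        apply Subtype.ext
        show (r ((g * h) • q))⁻¹ * (g * h) * r q = (r (g • h • q))⁻¹ * g * r (h • q) * ((r (h • q))⁻¹ * h * r q)
        rw [mul_smul]; group
      have ha : (u₂ : G)⁻¹ * π u₁ * u₂ * π u₂ ∈ A := by
        refine mul_mem ?_ (π u₂).2
        simpa using (inferInstance : A.Normal).conj_mem _ (π u₁).2 (u₂ : G)⁻¹
      rw [hu, huniq (u₁ * u₂) _ ha ?_]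
      · show r q * (((r (h • q))⁻¹ * h * r q)⁻¹ * π u₁ * ((r (h • q))⁻¹ * h * r q) * π u₂) * (r q)⁻¹ = _
        group
      · have h2 := mul_mem (hπ u₁) (hπ u₂)
        have hc : (π u₂ : G) * (((u₂ : G)⁻¹ * π u₁ * u₂)) = ((u₂ : G)⁻¹ * π u₁ * u₂) * π u₂ :=
          hA _ (π u₂).2 _ (by simpa using (inferInstance : A.Normal).conj_mem _ (π u₁).2 (u₂ : G)⁻¹)
        have e : ((u₁ * u₂ : U) : G) * ((u₂ : G)⁻¹ * π u₁ * u₂ * π u₂)⁻¹ =
            ((u₁ : G) * (π u₁ : G)⁻¹) * ((u₂ : G) * (π u₂ : G)⁻¹) := by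
          rw [← hc]; simp [mul_assoc]
        rw [e]; exact h2
    show ((∏ q, F (g * h) q : A) : G) = h⁻¹ * ((∏ q, F g q : A) : G) * h * ((∏ q, F h q : A) : G)
    let c : A →* A := MonoidHom.mk' (fun a => ⟨h⁻¹ * (a : G) * h, by
        simpa using (inferInstance : A.Normal).conj_mem _ a.2 h⁻¹⟩) (fun a b => Subtype.ext (by simp [mul_assoc]))
    have e : ∏ q, F (g * h) q = c (∏ q, F g q) * ∏ q, F h q := by
      rw [Finset.prod_congr rfl (fun q _ => key q), Finset.prod_mul_distrib]
      congr 1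
      rw [map_prod, ← Fintype.prod_equiv (MulAction.toPerm h) (fun q => c (F g (h • q))) (fun q => c (F g q)) (fun q => rfl)]
      rfl
    rw [e]; rfl

/-- Let `A` be an abelian normal subgroup of the finite group `G`. Then `A` has a complement in `G` if and only if, for every prime `p` dividing the index of `A`, there are a Sylow `p`-subgroup `S` of `G/A` and a subgroup `K` of `G` with `K ∩ A = 1` and `KA` equal to the preimage of `S` (that is, `A` has a complement in the preimage of a Sylow `p`-subgroup of `G/A`). -/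
theorem result {G : Type*} [Group G] [Finite G] (A : Subgroup G) [A.Normal] (hA : IsMulCommutative A) : (∃ K : Subgroup G, K.IsComplement' A) ↔ ∀ p : ℕ, p.Prime → p ∣ A.index → ∃ (S : Sylow p (G ⧸ A)) (K : Subgroup G), K ⊓ A = ⊥ ∧ K ⊔ A = (S : Subgroup (G ⧸ A)).comap (QuotientGroup.mk' A) := by
  classical
  have hA' : ∀ a ∈ A, ∀ b ∈ A, a * b = b * a := fun a ha b hb =>
    congrArg Subtype.val (hA.is_comm.comm ⟨a, ha⟩ ⟨b, hb⟩)
  constructor
  · rintro ⟨K, hK⟩ p hp -
    haveI : Fact p.Prime := ⟨hp⟩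
    obtain ⟨S⟩ : Nonempty (Sylow p (G ⧸ A)) := inferInstance
    set U := (S : Subgroup (G ⧸ A)).comap (QuotientGroup.mk' A)
    have hAU : A ≤ U := fun a ha => by
      show QuotientGroup.mk' A a ∈ (S : Subgroup (G ⧸ A))
      rw [QuotientGroup.mk'_apply, (QuotientGroup.eq_one_iff a).mpr ha]; exact one_mem _
    refine ⟨S, K ⊓ U, ?_, ?_⟩
    · rw [eq_bot_iff]; exact fun x hx => hK.disjoint.le_bot ⟨hx.1.1, hx.2⟩
    · refine le_antisymm (sup_le inf_le_right hAU) fun x hx => ?_
      have hx' : x ∈ K ⊔ A := by rw [hK.sup_eq_top]; trivial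
      obtain ⟨k, hk, a, ha, rfl⟩ := Subgroup.mem_sup_of_normal_right.mp hx'
      refine mul_mem (Subgroup.mem_sup_left ⟨hk, ?_⟩) (Subgroup.mem_sup_right ha)
      have := mul_mem (show k * a ∈ U from hx) (inv_mem (hAU ha))
      rwa [mul_inv_cancel_right] at this
  · intro h
    let S : AddSubgroup ℤ :=
      { carrier := {m | ∃ f, IsCrossed A m f}
        zero_mem' := ⟨fun _ => 1, fun _ => one_mem A, fun a _ => by simp, fun g h => by simp⟩
        add_mem' := by
          rintro m n ⟨f, hf1, hf2, hf3⟩ ⟨f', hf1', hf2', hf3'⟩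
          refine ⟨fun g => f g * f' g, fun g => mul_mem (hf1 g) (hf1' g), fun a ha => by
            simp only [hf2 a ha, hf2' a ha, zpow_add], fun g h => ?_⟩
          simp only
          rw [hf3, hf3']
          have hc : f h * (h⁻¹ * f' g * h) = (h⁻¹ * f' g * h) * f h :=
            hA' _ (hf1 h) _ (by simpa using (inferInstance : A.Normal).conj_mem _ (hf1' g) h⁻¹)
          calc h⁻¹ * f g * h * f h * (h⁻¹ * f' g * h * f' h)
              = h⁻¹ * f g * h * (f h * (h⁻¹ * f' g * h)) * f' h := by group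
            _ = _ := by rw [hc]; group
        neg_mem' := by
          rintro m ⟨f, hf1, hf2, hf3⟩
          refine ⟨fun g => (f g)⁻¹, fun g => inv_mem (hf1 g), fun a ha => by simp only [hf2 a ha, zpow_neg], fun g h => ?_⟩
          simp only
          rw [hf3, hA' _ (by simpa using (inferInstance : A.Normal).conj_mem _ (hf1 g) h⁻¹) _ (hf1 h)]
          group }
    obtain ⟨d, hd⟩ := Int.subgroup_cyclic S
    rw [← AddSubgroup.zmultiples_eq_closure] at hd
    have hdvd : ∀ m : ℤ, m ∈ S → d ∣ m := fun m hm => by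
      rw [hd, Int.mem_zmultiples_iff] at hm; exact hm
    have hidx : (A.index : ℤ) ∈ S := exists_crossed_of_split A hA' A ⊥ (bot_inf_eq _) (bot_sup_eq _)
    have hd1 : d.natAbs = 1 := by
      by_contra hne
      obtain ⟨p, hp, hpd⟩ := Nat.exists_prime_and_dvd hne
      have hpd' : (p : ℤ) ∣ d := Int.natCast_dvd.mpr hpd
      have hpA : p ∣ A.index := by exact_mod_cast hpd'.trans (hdvd _ hidx)
      haveI : Fact p.Prime := ⟨hp⟩
      obtain ⟨P, K, h1, h2⟩ := h p hp hpA
      have := hpd'.trans (hdvd _ (exists_crossed_of_split A hA' _ K h1 h2))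
      rw [Int.natCast_dvd_natCast, Subgroup.index_comap_of_surjective _ (QuotientGroup.mk'_surjective A)] at this
      exact P.not_dvd_index this
    have h1 : (1 : ℤ) ∈ S := by
      rw [hd, Int.mem_zmultiples_iff, ← Int.natAbs_dvd, hd1]; simp
    obtain ⟨f, hf1, hf2, hf3⟩ := h1
    have hone : f 1 = 1 := by simpa using hf2 1 (one_mem A)
    let K : Subgroup G :=
      { carrier := {g | f g = 1}
        mul_mem' := fun {a b} (ha : f a = 1) (hb : f b = 1) => by
          show f (a * b) = 1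
          rw [hf3, ha, hb]; group
        one_mem' := hone
        inv_mem' := fun {a} (ha : f a = 1) => by
          show f a⁻¹ = 1
          have := hf3 a a⁻¹
          rw [mul_inv_cancel, hone, ha] at this
          simpa using this.symm }
    refine ⟨K, Subgroup.isComplement'_of_disjoint_and_mul_eq_univ ?_ ?_⟩
    · rw [Subgroup.disjoint_def]
      intro x hx hxA
      have := hf2 x hxA
      rw [show f x = 1 from hx, zpow_one] at this
      exact this.symm
    · rw [Set.eq_univ_iff_forall]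
      intro g
      refine ⟨g * (f g)⁻¹, ?_, f g, hf1 g, inv_mul_cancel_right _ _⟩
      show f (g * (f g)⁻¹) = 1
      rw [hf3, hf2 _ (inv_mem (hf1 g)), zpow_one]
      group

end Cfsg.Agent.S4217
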