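import Cfsg.Statements.S4218
import Mathlib
import Cfsg.Agent.S4207
import Cfsg.Agent.Lib.PGroup.Basic
import Cfsg.Agent.Lib.Thompson.PSolvable

set_option autoImplicit false
open Cfsg

namespace Cfsg.Agent.S4218

open scoped commutatorElement in
theorem faithful_aux {Q : Type*} [Group Q] [Finite Q] {p : ℕ} [hp : Fact p.Prime]
    (hQ : Cfsg.IsPSolvable p Q) (hO : Cfsg.pPrimeCore p Q = ⊥) (g : Q) :
    (∀ x ∈ Cfsg.pCore p Q, g * x * g⁻¹ * x⁻¹ ∈ (frattini ↥(Cfsg.pCore p Q)).map (Cfsg.pCore p Q).subtype) ↔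
      g ∈ Cfsg.pCore p Q := by
  set O := Cfsg.pCore p Q
  have hOp : IsPGroup p O := Cfsg.Agent.Thompson.isPGroup_pCore
  haveI hOn : O.Normal := Cfsg.Agent.Thompson.instPCoreNormal
  constructor
  · intro hg
    set F := (frattini ↥O).map O.subtype
    let ψ : Q →* MulAut O := MulAut.conjNormal
    let A : Subgroup (MulAut O) :=
      { carrier := {e | ∀ x, e x * x⁻¹ ∈ frattini O}
        mul_mem' := fun {e e'} he he' x => by
          have := mul_mem (he (e' x)) (he' x)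
          simpa [mul_assoc] using this
        one_mem' := fun x => by simp
        inv_mem' := fun {e} he x => by
          have h := inv_mem (he (e⁻¹ x))
          simpa using h }
    set D := A.comap ψ
    have hgD : g ∈ D := by
      intro x
      obtain ⟨y, hy, hyx⟩ := hg x x.2
      have e : y = ψ g x * x⁻¹ := Subtype.ext (by simpa [ψ, MulAut.conjNormal_apply] using hyx)
      rwa [← e]
    have hDn : D.Normal := by
      refine ⟨fun d hd c => fun x => ?_⟩
      have h := hd ((ψ c)⁻¹ x)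
      have h2 : ψ c (ψ d ((ψ c)⁻¹ x) * ((ψ c)⁻¹ x)⁻¹) ∈ frattini O := by
        rw [← Subgroup.characteristic_iff_map_eq.mp (inferInstance : (frattini O).Characteristic) (ψ c)]
        exact ⟨_, h, rfl⟩
      simpa [map_mul, map_inv] using h2
    refine Cfsg.Agent.Thompson.le_pCore hDn ?_ hgD
    obtain ⟨n, hn⟩ := IsPGroup.iff_card.mp hOp
    obtain ⟨r, hr, hr'⟩ := (Nat.dvd_prime_pow hp.out).mp (hn ▸ (frattini O).index_dvd_card)
    have hA : IsPGroup p A := by
      rw [IsPGroup.iff_card]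
      obtain ⟨j, -, hj⟩ := (Nat.dvd_prime_pow hp.out).mp (Cfsg.Agent.S4207.result hn hr' A (fun e he => he))
      exact ⟨j, hj⟩
    intro d
    obtain ⟨k, hk⟩ := hA ⟨ψ d, d.2⟩
    have hk' : ψ ((d : Q) ^ p ^ k) = 1 := by
      rw [map_pow]; simpa using congrArg Subtype.val hk
    have hcen : (d : Q) ^ p ^ k ∈ O := by
      refine Cfsg.Agent.Thompson.centralizer_pCore_le hQ hO ?_
      rw [Subgroup.mem_centralizer_iff]
      intro y hy
      have := congrArg Subtype.val (DFunLike.congr_fun hk' ⟨y, hy⟩)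
      simp only [ψ, MulAut.conjNormal_apply, MulAut.one_apply] at this
      exact (mul_inv_eq_iff_eq_mul.mp this).symm
    obtain ⟨l, hl⟩ := hOp ⟨_, hcen⟩
    refine ⟨k + l, Subtype.ext ?_⟩
    rw [SubmonoidClass.coe_pow, pow_add, pow_mul]
    simpa using congrArg Subtype.val hl
  · intro hg x hx
    refine ⟨⁅(⟨g, hg⟩ : O), (⟨x, hx⟩ : O)⁆, Cfsg.Agent.PGroup.comm_mem_frattini hOp _ _, ?_⟩
    simp [commutatorElement_def]

/-- Let `G` be a finite `p`-solvable group, `N₀ = O_{p'}(G)`, `P₁ = O_{p',p}(G)`, and let `F ≤ P₁` be the preimage of the Frattini subgroup of `P₁/N₀`. Then an element `g` of `G` induces the identity on `P₁/F` by conjugation (that is, `g x g⁻¹ x⁻¹ ∈ F` for all `x ∈ P₁`) if and only if `g ∈ P₁`: the group `G/P₁` acts faithfully on `P₁/F`. -/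
theorem result {G : Type*} [Group G] [Finite G] {p : ℕ} [Fact p.Prime] (hG : Cfsg.IsPSolvable p G) (g : G) : (∀ x ∈ Cfsg.pPrimePCore p G, g * x * g⁻¹ * x⁻¹ ∈ ((frattini (↥(Cfsg.pPrimePCore p G) ⧸ (Cfsg.pPrimeCore p G).subgroupOf (Cfsg.pPrimePCore p G))).comap (QuotientGroup.mk' ((Cfsg.pPrimeCore p G).subgroupOf (Cfsg.pPrimePCore p G)))).map (Cfsg.pPrimePCore p G).subtype) ↔ g ∈ Cfsg.pPrimePCore p G := by
  set N := Cfsg.pPrimeCore p G
  set P₁ := Cfsg.pPrimePCore p G
  haveI : N.Normal := Cfsg.Agent.Thompson.sSup_normal fun _ h => h.1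
  set π := QuotientGroup.mk' N
  have hmem : ∀ x, x ∈ P₁ ↔ π x ∈ Cfsg.pCore p (G ⧸ N) := fun x => Iff.rfl
  let φ : P₁ →* Cfsg.pCore p (G ⧸ N) := (π.comp P₁.subtype).codRestrict _ (fun x => (hmem x).mp x.2)
  have hφ : Function.Surjective φ := by
    rintro ⟨y, hy⟩
    obtain ⟨x, rfl⟩ := QuotientGroup.mk'_surjective N y
    exact ⟨⟨x, (hmem x).mpr hy⟩, rfl⟩
  let K := N.subgroupOf P₁
  have hker : φ.ker = K := by
    ext x
    rw [MonoidHom.mem_ker, Subgroup.mem_subgroupOf, Subtype.ext_iff]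
    exact QuotientGroup.eq_one_iff (x : G)
  let f : ↥P₁ ⧸ K →* Cfsg.pCore p (G ⧸ N) := QuotientGroup.lift K φ hker.ge
  have hfinj : Function.Injective f := by
    rw [injective_iff_map_eq_one]
    intro q hq
    induction q using QuotientGroup.induction_on with | _ x => ?_
    exact (QuotientGroup.eq_one_iff x).mpr (hker ▸ (hq : φ x = 1))
  have hfsurj : Function.Surjective f := fun y => by
    obtain ⟨x, rfl⟩ := hφ y; exact ⟨x, rfl⟩
  let e := MulEquiv.ofBijective f ⟨hfinj, hfsurj⟩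
  have hfr : ∀ q, q ∈ frattini (↥P₁ ⧸ K) ↔ e q ∈ frattini ↥(Cfsg.pCore p (G ⧸ N)) := by
    intro q
    constructor
    · intro h
      exact frattini_le_comap_frattini_of_surjective (φ := e.toMonoidHom) e.surjective h
    · intro h
      have := frattini_le_comap_frattini_of_surjective (φ := e.symm.toMonoidHom) e.symm.surjective h
      simpa using this
  have hQ : Cfsg.IsPSolvable p (G ⧸ N) := Cfsg.Agent.Thompson.isPSolvable_quotient N hG
  have hP₁ : P₁.Normal := Cfsg.Agent.Thompson.instPPrimePCoreNormal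
  rw [hmem g, ← faithful_aux hQ Cfsg.Agent.Thompson.pPrimeCore_quotient_pPrimeCore (π g)]
  constructor
  · intro h y hy
    obtain ⟨x, rfl⟩ := QuotientGroup.mk'_surjective N y
    obtain ⟨w, hw, hwe⟩ := h x ((hmem x).mpr hy)
    refine ⟨e (w : ↥P₁ ⧸ K), (hfr _).mp hw, ?_⟩
    show π (P₁.subtype w) = _
    rw [hwe]; simp [π]
  · intro h x hx
    obtain ⟨w, hw, hwe⟩ := h (π x) ((hmem x).mp hx)
    have hmem' : g * x * g⁻¹ * x⁻¹ ∈ P₁ := mul_mem (hP₁.conj_mem x hx g) (inv_mem hx)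
    refine ⟨⟨_, hmem'⟩, ?_, rfl⟩
    show ((⟨_, hmem'⟩ : P₁) : ↥P₁ ⧸ K) ∈ frattini _
    rw [hfr]
    have : e ((⟨_, hmem'⟩ : P₁) : ↥P₁ ⧸ K) = w := by
      apply Subtype.ext
      show π (g * x * g⁻¹ * x⁻¹) = (w : G ⧸ N)
      rw [show (w : G ⧸ N) = _ from hwe, map_mul, map_mul, map_mul, map_inv, map_inv]
    rw [this]; exact hw

end Cfsg.Agent.S4218
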