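import Cfsg.Statements.S4219
import Mathlib

set_option autoImplicit false
open Cfsg

namespace Cfsg.Agent.S4219

/-- Let a finite group `G` act `t`-fold transitively on a finite set, let `H` be the stabilizer of `t` distinct points and `P` a Sylow `p`-subgroup of `H`. Then the normalizer of `P` in `G` is `t`-fold transitive on the fixed points of `P`: any `t` distinct fixed points of `P` can be carried to any other `t` distinct fixed points of `P` by an element normalizing `P`. -/
theorem result {G : Type*} [Group G] [Finite G] {α : Type*} [Fintype α] [MulAction G α] {t : ℕ} (hG : MulAction.IsMultiplyPretransitive G α t) (x : Fin t ↪ α) {p : ℕ} [Fact p.Prime] (P : Sylow p (MulAction.stabilizer G x)) (a b : Fin t ↪ α) (ha : ∀ i, a i ∈ MulAction.fixedPoints ((P : Subgroup (MulAction.stabilizer G x)).map (MulAction.stabilizer G x).subtype) α) (hb : ∀ i, b i ∈ MulAction.fixedPoints ((P : Subgroup (MulAction.stabilizer G x)).map (MulAction.stabilizer G x).subtype) α)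 : ∃ g ∈ Subgroup.normalizer ((((P : Subgroup (MulAction.stabilizer G x)).map (MulAction.stabilizer G x).subtype) : Subgroup G) : Set G), g • a = b := by
  classical
  set P' := (P : Subgroup (MulAction.stabilizer G x)).map (MulAction.stabilizer G x).subtype
  obtain ⟨g₁, hg₁⟩ := hG.exists_smul_eq x a
  obtain ⟨g₂, hg₂⟩ := hG.exists_smul_eq x b
  have hstab : ∀ (g : G) (c : Fin t ↪ α), g • x = c → (∀ i, c i ∈ MulAction.fixedPoints P' α) →
      P'.map (MulAut.conj g⁻¹).toMonoidHom ≤ (MulAction.stabilizer G x) := by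
    rintro g c hg hc y ⟨z, hz, rfl⟩
    rw [MulAction.mem_stabilizer_iff]
    have hzc : z • c = c := by
      ext i; exact (hc i) ⟨z, hz⟩
    simp [MulAut.conj_apply, mul_smul, hg, hzc]
    rw [← hg, inv_smul_smul]
  have mk : ∀ (g : G) (hle : P'.map (MulAut.conj g⁻¹).toMonoidHom ≤ (MulAction.stabilizer G x)), ∃ h ∈ (MulAction.stabilizer G x),
      P'.map (MulAut.conj g⁻¹).toMonoidHom = P'.map (MulAut.conj h).toMonoidHom := by
    intro g hle
    set R := (P'.map (MulAut.conj g⁻¹).toMonoidHom).subgroupOf (MulAction.stabilizer G x)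
    have hcard : Nat.card R = Nat.card (P : Subgroup (MulAction.stabilizer G x)) := by
      rw [Nat.card_congr (Subgroup.subgroupOfEquivOfLe hle).toEquiv,
        Subgroup.card_map_of_injective (MulEquiv.injective _),
        Subgroup.card_map_of_injective (MulAction.stabilizer G x).subtype_injective]
    obtain ⟨m, hm⟩ := IsPGroup.iff_card.mp P.isPGroup'
    obtain ⟨Q, hQ⟩ := (IsPGroup.of_card (hcard.trans hm) : IsPGroup p R).exists_le_sylow
    have hQR : R = (Q : Subgroup (MulAction.stabilizer G x)) := Subgroup.eq_of_le_of_card_ge hQ (by rw [hcard, Q.card_eq_multiplicity, P.card_eq_multiplicity])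
    obtain ⟨h, rfl⟩ := MulAction.exists_smul_eq (MulAction.stabilizer G x) P Q
    refine ⟨h, h.2, ?_⟩
    rw [← Subgroup.map_subgroupOf_eq_of_le hle]
    change R.map (MulAction.stabilizer G x).subtype = _
    rw [hQR, Sylow.coe_subgroup_smul]
    ext y
    constructor
    · rintro ⟨_, ⟨z, hz, rfl⟩, rfl⟩
      exact ⟨_, ⟨z, hz, rfl⟩, rfl⟩
    · rintro ⟨_, ⟨z, hz, rfl⟩, rfl⟩
      exact ⟨_, ⟨z, hz, rfl⟩, rfl⟩
  obtain ⟨h₁, hh₁, e₁⟩ := mk g₁ (hstab g₁ a hg₁ ha)
  obtain ⟨h₂, hh₂, e₂⟩ := mk g₂ (hstab g₂ b hg₂ hb)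
  -- g₁ h₁ and g₂ h₂ both normalize
  have hn : ∀ g h : G, P'.map (MulAut.conj g⁻¹).toMonoidHom = P'.map (MulAut.conj h).toMonoidHom →
      g * h ∈ Subgroup.normalizer (P' : Set G) := by
    intro g h e
    rw [Subgroup.mem_normalizer_iff]
    intro y
    have h1 : ∀ z, z ∈ P'.map (MulAut.conj g⁻¹).toMonoidHom ↔ g * z * g⁻¹ ∈ P' := by
      intro z; rw [Subgroup.mem_map_equiv]; simp [MulAut.conj_symm_apply, mul_assoc]
    have h2 : ∀ z, z ∈ P'.map (MulAut.conj h).toMonoidHom ↔ h⁻¹ * z * h ∈ P' := by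
      intro z; rw [Subgroup.mem_map_equiv]; simp [MulAut.conj_symm_apply, mul_assoc]
    have := (h1 (h * y * h⁻¹)).symm.trans ((e ▸ Iff.rfl : _ ↔ (h * y * h⁻¹) ∈ P'.map (MulAut.conj h).toMonoidHom).trans (h2 _))
    simp [mul_assoc] at this
    simp [mul_assoc, this]
  refine ⟨(g₂ * h₂) * (g₁ * h₁)⁻¹, mul_mem (hn _ _ e₂) (inv_mem (hn _ _ e₁)), ?_⟩
  rw [MulAction.mem_stabilizer_iff] at hh₁ hh₂
  have e : (g₁ * h₁) • x = a := by rw [mul_smul, hh₁, hg₁]
  rw [mul_smul, ← e, inv_smul_smul, mul_smul, hh₂, hg₂]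

end Cfsg.Agent.S4219
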